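import Groth.Statements.S17679
import Mathlib

set_option autoImplicit false
open DiagMon

namespace Groth.Agent.S17679

/-- For n ≥ 1 the minimal number of generators of ℤ^n as an additive monoid is n + 1: some n + 1
elements generate ℤ^n as a monoid, and every finite set generating ℤ^n as a monoid has at least n +
1 elements. (For n = 0 the empty set generates the zero monoid, so the count n + 1 is stated for n ≥
1 only.) -/
theorem result (n : ℕ) (hn : 1 ≤ n) :
    (∃ s : Finset (Fin n → ℤ), s.card = n + 1 ∧ AddSubmonoid.closure (s : Set (Fin n → ℤ)) = ⊤) ∧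
    ∀ s : Finset (Fin n → ℤ), AddSubmonoid.closure (s : Set (Fin n → ℤ)) = ⊤ → n + 1 ≤ s.card := by
  classical
  constructor
  · -- existence
    let E : Fin n → (Fin n → ℤ) := fun i => Pi.single i 1
    let w : Fin n → ℤ := fun _ => -1
    have hEinj : Function.Injective E := by
      intro i j hij
      by_contra hne
      have := congrFun hij i
      simp [E, Pi.single_apply, hne] at this
    have hw : w ∉ Finset.univ.image E := by
      intro h
      obtain ⟨i, _, hi⟩ := Finset.mem_image.mp h
      have := congrFun hi i
      simp [E, w] at this
    refine ⟨insert w (Finset.univ.image E), ?_, ?_⟩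
    · rw [Finset.card_insert_of_notMem hw, Finset.card_image_of_injective _ hEinj,
        Finset.card_univ, Fintype.card_fin]
    · rw [eq_top_iff]
      intro v _
      let m : ℕ := ∑ i, (v i).natAbs
      have hm : ∀ i, 0 ≤ v i + m := by
        intro i
        have h1 : ((v i).natAbs : ℤ) ≤ m := by
          have : (v i).natAbs ≤ m :=
            Finset.single_le_sum (f := fun i => (v i).natAbs) (fun _ _ => Nat.zero_le _)
              (Finset.mem_univ i)
          exact_mod_cast this
        have h2 : -((v i).natAbs : ℤ) ≤ v i := by
          rw [Int.natCast_natAbs]; exact neg_abs_le _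
        linarith
      have hv : v = ∑ i, (v i + m).toNat • E i + m • w := by
        funext j
        have h1 : (∑ i, (v i + m).toNat • E i) j = ((v j + m).toNat : ℤ) := by
          rw [Finset.sum_apply, Finset.sum_eq_single j]
          · simp [E]
          · intro i _ hij
            simp [E, Pi.single_apply, hij.symm]
          · intro h; exact absurd (Finset.mem_univ j) h
        have h2 : (m • w) j = -(m : ℤ) := by
          simp [w]
        rw [Pi.add_apply, h1, h2, Int.toNat_of_nonneg (hm j)]
        ring
      rw [hv]
      refine add_mem (sum_mem fun i _ => nsmul_mem (AddSubmonoid.subset_closure ?_) _)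
        (nsmul_mem (AddSubmonoid.subset_closure ?_) _)
      · simp only [Finset.coe_insert, Finset.coe_image, Finset.coe_univ, Set.image_univ]
        exact Set.mem_insert_of_mem _ ⟨i, rfl⟩
      · simp
  · -- lower bound
    intro s hs
    by_contra hlt
    push Not at hlt
    have hcard : s.card ≤ n := by omega
    let b : s → (Fin n → ℤ) := Subtype.val
    have hspan : ⊤ ≤ Submodule.span ℤ (Set.range b) := by
      intro v _
      have hv : v ∈ AddSubmonoid.closure (s : Set (Fin n → ℤ)) := by rw [hs]; trivial
      have hle : AddSubmonoid.closure (s : Set (Fin n → ℤ)) ≤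
          (Submodule.span ℤ (Set.range b)).toAddSubmonoid := by
        rw [AddSubmonoid.closure_le]
        intro x hx
        exact Submodule.subset_span ⟨⟨x, hx⟩, rfl⟩
      exact hle hv
    have hli : LinearIndependent ℤ b := by
      apply linearIndependent_of_top_le_span_of_card_le_finrank hspan
      simp only [Fintype.card_coe, Module.finrank_fintype_fun_eq_card, Fintype.card_fin]
      exact hcard
    -- `s` is nonempty
    have hne : s.Nonempty := by
      by_contra hemp
      rw [Finset.not_nonempty_iff_eq_empty] at hemp
      rw [hemp] at hs
      simp only [Finset.coe_empty, AddSubmonoid.closure_empty] at hs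
      have h1 : (fun _ : Fin n => (1 : ℤ)) ∈ (⊥ : AddSubmonoid (Fin n → ℤ)) := by rw [hs]; trivial
      rw [AddSubmonoid.mem_bot] at h1
      have := congrFun h1 ⟨0, hn⟩
      simp at this
    obtain ⟨x0, hx0⟩ := hne
    have hneg : -x0 ∈ AddSubmonoid.closure (s : Set (Fin n → ℤ)) := by rw [hs]; trivial
    obtain ⟨a, ha⟩ := AddSubmonoid.mem_closure_finset'.mp hneg
    have hzero : ∑ i : s, ((a i : ℤ) + if i = ⟨x0, hx0⟩ then 1 else 0) • b i = 0 := by
      simp only [add_smul, Finset.sum_add_distrib, ite_smul, one_smul, zero_smul,
        Finset.sum_ite_eq', Finset.mem_univ, if_true]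
      have : ∑ i : s, (a i : ℤ) • b i = -x0 := by
        rw [ha]
        refine Finset.sum_congr rfl fun i _ => ?_
        rw [natCast_zsmul]
      rw [this]
      simp [b]
    have h0 := (Fintype.linearIndependent_iff.mp hli) _ hzero ⟨x0, hx0⟩
    simp only [if_true] at h0
    omega

end Groth.Agent.S17679
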