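import Groth.Statements.S17682
import Mathlib

set_option autoImplicit false
universe u v w u'
open DiagMon

namespace Groth.Agent.S17682

section

open DirectSum

theorem counit_single' {R' : Type*} [CommRing R'] {M : Type*} [AddCommMonoid M] (m : M) (r : R') :
    Bialgebra.counitAlgHom R' (AddMonoidAlgebra R' M) (AddMonoidAlgebra.single m r) = r := by
  simp

theorem main (R : Type u) [CommRing R]
    (A : Type v) [CommRing A] [Algebra R A] (M : Type w) [AddCommMonoid M] [DecidableEq M]
    (𝒜 : M → Submodule R A) [GradedAlgebra 𝒜] (N : AddSubmonoid M) (R' : Type u') [CommRing R']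
    [Algebra R R'] (F : A →ₐ[R] R') (hF : ∀ m, m ∉ N → ∀ a ∈ 𝒜 m, F a = 0) :
    ∃! f : A →ₐ[R] AddMonoidAlgebra R' M,
      (∀ m, ∀ a ∈ 𝒜 m, f a =
          AddMonoidAlgebra.single m (Bialgebra.counitAlgHom R' (AddMonoidAlgebra R' M) (f a))) ∧
      (∀ m, m ∉ N → ∀ a ∈ 𝒜 m, f a = 0) ∧
      ∀ a, Bialgebra.counitAlgHom R' (AddMonoidAlgebra R' M) (f a) = F a := by
  -- the components
  let comp : ∀ i, 𝒜 i →ₗ[R] AddMonoidAlgebra R' M := fun i =>
    ((AddMonoidAlgebra.lsingle i : R' →ₗ[R'] AddMonoidAlgebra R' M).restrictScalars R).comp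
      (F.toLinearMap.comp (𝒜 i).subtype)
  have hcomp : ∀ i (a : 𝒜 i), comp i a = AddMonoidAlgebra.single i (F a) := fun i a => rfl
  let g : (⨁ i, 𝒜 i) →ₐ[R] AddMonoidAlgebra R' M :=
    DirectSum.toAlgebra R _ comp
      (by
        rw [hcomp]
        change AddMonoidAlgebra.single 0 (F (1 : A)) = 1
        rw [map_one]; rfl)
      (by
        intro i j ai aj
        rw [hcomp, hcomp, hcomp, AddMonoidAlgebra.single_mul_single]
        change AddMonoidAlgebra.single (i + j) (F ((ai : A) * (aj : A))) = _
        rw [map_mul])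
  let f : A →ₐ[R] AddMonoidAlgebra R' M := g.comp (DirectSum.decomposeAlgEquiv 𝒜).toAlgHom
  have hf_hom : ∀ m, ∀ a ∈ 𝒜 m, f a = AddMonoidAlgebra.single m (F a) := by
    intro m a ha
    change g (DirectSum.decompose 𝒜 a) = _
    rw [DirectSum.decompose_of_mem 𝒜 ha]
    change DirectSum.toAlgebra R _ comp _ _ (DirectSum.of (fun i => 𝒜 i) m ⟨a, ha⟩) = _
    rw [DirectSum.toAlgebra_apply]
    exact (DirectSum.toSemiring_of (fun i => (comp i).toAddMonoidHom) _ _ m (⟨a, ha⟩ : 𝒜 m)).trans rfl
  refine ⟨f, ⟨?_, ?_, ?_⟩, ?_⟩
  · intro m a ha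
    rw [hf_hom m a ha, counit_single']
  · intro m hm a ha
    rw [hf_hom m a ha, hF m hm a ha, AddMonoidAlgebra.single_zero]
  · intro a
    -- decompose a
    induction a using DirectSum.Decomposition.inductionOn 𝒜 with
    | zero => simp
    | homogeneous a => 
      rename_i i
      rw [hf_hom i a a.2, counit_single']
    | add a b ha hb => rw [map_add, map_add, map_add, ha, hb]
  · rintro f' ⟨h1, h2, h3⟩
    apply AlgHom.ext
    intro a
    induction a using DirectSum.Decomposition.inductionOn 𝒜 with
    | zero => simp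
    | homogeneous a => 
      rename_i i
      rw [hf_hom i a a.2, h1 i a a.2, h3]
    | add a b ha hb => rw [map_add, map_add, ha, hb]


end


/-- Let R be a commutative ring, A a commutative R-algebra graded by a commutative monoid M, N a
submonoid of M and R' a commutative R-algebra. For every R-algebra homomorphism F : A → R' vanishing
on the homogeneous elements of degree outside N there is a unique R-algebra homomorphism f : A →
R'[M] which is graded (a homogeneous element of degree m goes to a multiple of X^m), vanishes on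
homogeneous elements of degree outside N, and composes with the augmentation X^m ↦ 1 to F. In the
dictionary where an M-grading of A is an action of the diagonalizable monoid scheme Spec R[M] on
Spec A and graded maps A → R'[M] supported on N are equivariant maps from the monoid scheme of N
over R', this says that the attractor of Spec A for the magnet N is represented by the closed
subscheme of Spec A defined by the homogeneous elements of degree outside N. -/
theorem result (R : Type u) [CommRing R]
    (A : Type v) [CommRing A] [Algebra R A] (M : Type w) [AddCommMonoid M] [DecidableEq M]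
    (𝒜 : M → Submodule R A) [GradedAlgebra 𝒜] (N : AddSubmonoid M) (R' : Type u') [CommRing R']
    [Algebra R R'] (F : A →ₐ[R] R') (hF : ∀ m, m ∉ N → ∀ a ∈ 𝒜 m, F a = 0) :
    ∃! f : A →ₐ[R] AddMonoidAlgebra R' M,
      (∀ m, ∀ a ∈ 𝒜 m, f a =
          AddMonoidAlgebra.single m (Bialgebra.counitAlgHom R' (AddMonoidAlgebra R' M) (f a))) ∧
      (∀ m, m ∉ N → ∀ a ∈ 𝒜 m, f a = 0) ∧
      ∀ a, Bialgebra.counitAlgHom R' (AddMonoidAlgebra R' M) (f a) = F a := by
  classical
  exact main R A M 𝒜 N R' F hF

end Groth.Agent.S17682
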