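import Groth.Statements.S17683
import Mathlib

set_option autoImplicit false
universe u
open DiagMon

namespace Groth.Agent.S17683

section


theorem cd_single_mem {N : Type u} [AddCommMonoid N] (F : AddSubmonoid N) (x : N) (hx : x ∈ F)
    (r : ℤ) :
    AddMonoidAlgebra.comapDomain ((↑) : F → N) Subtype.val_injective
      (AddMonoidAlgebra.single x r) = AddMonoidAlgebra.single (⟨x, hx⟩ : F) r := by
  have h := AddMonoidAlgebra.comapDomain_single_map (R := ℤ) ((↑) : F → N) Subtype.val_injective
    (⟨x, hx⟩ : F) r
  exact h

theorem cd_single_not_mem {N : Type u} [AddCommMonoid N] (F : AddSubmonoid N) (x : N)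
    (hx : x ∉ F) (r : ℤ) :
    AddMonoidAlgebra.comapDomain ((↑) : F → N) Subtype.val_injective
      (AddMonoidAlgebra.single x r) = 0 := by
  ext z
  rw [AddMonoidAlgebra.coeff_comapDomain, Finsupp.comapDomain_apply, AddMonoidAlgebra.coeff_single,
    AddMonoidAlgebra.coeff_zero, Finsupp.coe_zero, Pi.zero_apply]
  apply Finsupp.single_eq_of_ne
  intro h
  apply hx
  rw [← h]
  exact z.2

theorem main {N : Type u} [AddCommMonoid N] (F : AddSubmonoid N) :
    (∀ a b : AddMonoidAlgebra ℤ N,
        AddMonoidAlgebra.comapDomain ((↑) : F → N) Subtype.val_injective (a * b) =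
          AddMonoidAlgebra.comapDomain ((↑) : F → N) Subtype.val_injective a *
            AddMonoidAlgebra.comapDomain ((↑) : F → N) Subtype.val_injective b) ↔
      ∀ x y : N, x + y ∈ F ↔ (x ∈ F ∧ y ∈ F) := by
  constructor
  · intro h x y
    constructor
    · intro hxy
      have h1 := h (AddMonoidAlgebra.single x 1) (AddMonoidAlgebra.single y 1)
      rw [AddMonoidAlgebra.single_mul_single, cd_single_mem F (x + y) hxy] at h1
      have hne : AddMonoidAlgebra.single (⟨x + y, hxy⟩ : F) ((1 : ℤ) * 1) ≠ 0 := by
        intro h0
        have h2 := congrArg (fun t : AddMonoidAlgebra ℤ F => t.coeff (⟨x + y, hxy⟩ : F)) h0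
        simp at h2
      constructor
      · by_contra hx
        rw [cd_single_not_mem F x hx, zero_mul] at h1
        exact hne h1
      · by_contra hy
        rw [cd_single_not_mem F y hy, mul_zero] at h1
        exact hne h1
    · rintro ⟨hx, hy⟩
      exact F.add_mem hx hy
  · intro h a b
    induction a using AddMonoidAlgebra.induction_linear with
    | zero => rw [zero_mul, AddMonoidAlgebra.comapDomain_zero, zero_mul]
    | add f g hf hg => rw [add_mul, AddMonoidAlgebra.comapDomain_add, hf, hg,
        AddMonoidAlgebra.comapDomain_add, add_mul]
    | single x r =>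
      induction b using AddMonoidAlgebra.induction_linear with
      | zero => rw [mul_zero, AddMonoidAlgebra.comapDomain_zero, mul_zero]
      | add f g hf hg => rw [mul_add, AddMonoidAlgebra.comapDomain_add, hf, hg,
          AddMonoidAlgebra.comapDomain_add, mul_add]
      | single y s =>
        rw [AddMonoidAlgebra.single_mul_single]
        by_cases hx : x ∈ F
        · by_cases hy : y ∈ F
          · rw [cd_single_mem F x hx, cd_single_mem F y hy,
              cd_single_mem F (x + y) (F.add_mem hx hy), AddMonoidAlgebra.single_mul_single]
            rfl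
          · have hxy : x + y ∉ F := fun hxy => hy ((h x y).mp hxy).2
            rw [cd_single_not_mem F y hy, cd_single_not_mem F _ hxy, mul_zero]
        · have hxy : x + y ∉ F := fun hxy => hx ((h x y).mp hxy).1
          rw [cd_single_not_mem F x hx, cd_single_not_mem F _ hxy, zero_mul]


end


/-- Let N be a commutative monoid and F a submonoid of N. The additive projection ℤ[N] → ℤ[F] of monoid
algebras keeping the monomials with exponent in F and killing the others is multiplicative, i.e. F
is a face of N, if and only if for all x, y in N the sum x + y lies in F exactly when both x and y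
do. -/
theorem result {N : Type u} [AddCommMonoid N] (F : AddSubmonoid N) :
    (∀ a b : AddMonoidAlgebra ℤ N,
        AddMonoidAlgebra.comapDomain ((↑) : F → N) Subtype.val_injective (a * b) =
          AddMonoidAlgebra.comapDomain ((↑) : F → N) Subtype.val_injective a *
            AddMonoidAlgebra.comapDomain ((↑) : F → N) Subtype.val_injective b) ↔
      ∀ x y : N, x + y ∈ F ↔ (x ∈ F ∧ y ∈ F) := by
  classical
  exact main F

end Groth.Agent.S17683
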