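import Groth.Statements.S17687
import Mathlib

set_option autoImplicit false
universe u v w
open DiagMon

namespace Groth.Agent.S17687

section

open DirectSum

variable {R : Type u} [CommRing R] {A : Type v} [CommRing A] [Algebra R A]
  {M : Type w} [AddCommMonoid M] [DecidableEq M] (𝒜 : M → Submodule R A) [GradedAlgebra 𝒜]

/-- finite homogeneous generating set -/
theorem exists_homog_gens [Algebra.FiniteType R A] :
    ∃ t : Finset A, (∀ a ∈ t, ∃ m, a ∈ 𝒜 m) ∧ Algebra.adjoin R (t : Set A) = ⊤ := by
  classical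
  obtain ⟨s, hs⟩ := (Algebra.FiniteType.out : (⊤ : Subalgebra R A).FG)
  refine ⟨s.biUnion (fun a => (decompose 𝒜 a).support.image (fun m => (decompose 𝒜 a m : A))), ?_, ?_⟩
  · intro a ha
    simp only [Finset.mem_biUnion, Finset.mem_image] at ha
    obtain ⟨b, _, m, _, rfl⟩ := ha
    exact ⟨m, (decompose 𝒜 b m).2⟩
  · rw [eq_top_iff, ← hs]
    apply Algebra.adjoin_le
    intro a ha
    rw [← sum_support_decompose 𝒜 a]
    refine Subalgebra.sum_mem _ fun m hm => Algebra.subset_adjoin ?_
    simp only [Finset.coe_biUnion, Set.mem_iUnion, Finset.coe_image, Set.mem_image, Finset.mem_coe]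
    exact ⟨a, ha, m, hm, rfl⟩

/-- the ideal attached to a subset -/
def K (T : Set A) : Ideal A := Ideal.span T

theorem closure_claim (t : Finset A) (ht : ∀ a ∈ t, ∃ m, a ∈ 𝒜 m) (N : AddSubmonoid M) :
    ∀ w ∈ Submonoid.closure (t : Set A), ∃ d, w ∈ 𝒜 d ∧
      (d ∈ N ∨ w ∈ Ideal.span {a : A | a ∈ t ∧ ∃ m : M, m ∉ N ∧ a ∈ 𝒜 m}) := by
  intro w hw
  induction hw using Submonoid.closure_induction with
  | mem w hw =>
    obtain ⟨d, hd⟩ := ht w hw
    refine ⟨d, hd, ?_⟩
    by_cases hdN : d ∈ N
    · exact Or.inl hdN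
    · exact Or.inr (Ideal.subset_span ⟨hw, d, hdN, hd⟩)
  | one => exact ⟨0, SetLike.one_mem_graded 𝒜, Or.inl N.zero_mem⟩
  | mul x y _ _ hx hy =>
    obtain ⟨d, hd, hx'⟩ := hx
    obtain ⟨e, he, hy'⟩ := hy
    refine ⟨d + e, SetLike.mul_mem_graded hd he, ?_⟩
    rcases hx' with hx' | hx'
    · rcases hy' with hy' | hy'
      · exact Or.inl (N.add_mem hx' hy')
      · exact Or.inr (Ideal.mul_mem_left _ _ hy')
    · exact Or.inr (Ideal.mul_mem_right _ _ hx')

theorem J_eq (t : Finset A) (ht : ∀ a ∈ t, ∃ m, a ∈ 𝒜 m) (hgen : Algebra.adjoin R (t : Set A) = ⊤)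
    (N : AddSubmonoid M) :
    Ideal.span {a : A | ∃ m : M, m ∉ N ∧ a ∈ 𝒜 m}
      = Ideal.span {a : A | a ∈ t ∧ ∃ m : M, m ∉ N ∧ a ∈ 𝒜 m} := by
  apply le_antisymm
  · rw [Ideal.span_le]
    rintro a ⟨m, hm, ha⟩
    set KN := Ideal.span {a : A | a ∈ t ∧ ∃ m : M, m ∉ N ∧ a ∈ 𝒜 m} with hKN
    -- Q x := proj_m x ∈ KN
    have hQ : ∀ x ∈ Submodule.span R (Submonoid.closure (t : Set A) : Set A),
        (GradedAlgebra.proj 𝒜 m x) ∈ KN := by
      intro x hx
      induction hx using Submodule.span_induction with
      | mem w hw =>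
        obtain ⟨d, hd, h⟩ := closure_claim 𝒜 t ht N w hw
        rw [GradedAlgebra.proj_apply]
        by_cases hdm : d = m
        · subst hdm
          rw [decompose_of_mem_same 𝒜 hd]
          rcases h with h | h
          · exact absurd h hm
          · exact h
        · rw [decompose_of_mem_ne 𝒜 hd hdm]
          exact Ideal.zero_mem _
      | zero => rw [map_zero]; exact Ideal.zero_mem _
      | add x y _ _ hx hy => rw [map_add]; exact Ideal.add_mem _ hx hy
      | smul r x _ hx =>
        rw [map_smul, Algebra.smul_def]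
        exact Ideal.mul_mem_left _ _ hx
    have htop : a ∈ Submodule.span R (Submonoid.closure (t : Set A) : Set A) := by
      rw [← Algebra.adjoin_eq_span, hgen]
      trivial
    have := hQ a htop
    rwa [GradedAlgebra.proj_apply, decompose_of_mem_same 𝒜 ha] at this
  · apply Ideal.span_mono
    rintro a ⟨_, h⟩
    exact h

theorem main (R : Type u) [CommRing R] (A : Type v) [CommRing A]
    [Algebra R A] [Algebra.FiniteType R A] (M : Type w) [AddCommMonoid M] [DecidableEq M]
    (𝒜 : M → Submodule R A) [GradedAlgebra 𝒜] :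
    (Set.range fun N : AddSubmonoid M => Ideal.span {a : A | ∃ m : M, m ∉ N ∧ a ∈ 𝒜 m}).Finite := by
  classical
  obtain ⟨t, ht, hgen⟩ := exists_homog_gens (R := R) 𝒜
  apply Set.Finite.subset ((t.powerset : Set (Finset A)).toFinite.image
    (fun T : Finset A => Ideal.span (T : Set A)))
  rintro _ ⟨N, rfl⟩
  refine ⟨t.filter (fun a => ∃ m : M, m ∉ N ∧ a ∈ 𝒜 m), ?_, ?_⟩
  · simp only [Finset.coe_powerset, Set.mem_preimage, Set.mem_powerset_iff, Finset.coe_filter]
    exact fun x hx => hx.1
  · simp only
    rw [J_eq 𝒜 t ht hgen N]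
    congr 1
    ext a
    simp


end


/-- Let R be a commutative ring and A a commutative R-algebra of finite type graded by a commutative
monoid M. Then the set of ideals J_N, N running over all submonoids of M, where J_N is generated by
the homogeneous elements of degree not in N (the ideal of the attractor of Spec A for the magnet N),
is finite: Spec A has finitely many attractors and hence finitely many pure magnets. (The source
assumes Spec A of finite presentation over the base; its proof uses only a finite set of homogeneous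
algebra generators, so finite type is assumed here.) -/
theorem result (R : Type u) [CommRing R] (A : Type v) [CommRing A]
    [Algebra R A] [Algebra.FiniteType R A] (M : Type w) [AddCommMonoid M] [DecidableEq M]
    (𝒜 : M → Submodule R A) [GradedAlgebra 𝒜] :
    (Set.range fun N : AddSubmonoid M => Ideal.span {a : A | ∃ m : M, m ∉ N ∧ a ∈ 𝒜 m}).Finite := by
  classical
  exact main R A M 𝒜

end Groth.Agent.S17687
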