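import Groth.Statements.S17690
import Groth.Agent.Lib.Helper8.Nag4
import Groth.Agent.Lib.Helper8.Tate2
import Groth.Agent.Lib.Helper8.Wedge2
import Groth.Agent.Lib.Helper6.Japanese

set_option autoImplicit false
universe u
open Neron

namespace Groth.Agent.S17690

/-- Let R be an excellent discrete valuation ring (Noetherian, universally catenary, G-ring, J-2) with
fraction field K, and let L be a finite purely inseparable field extension of K. Then the integral
closure S of R in L is a discrete valuation ring, and S is a finite R-module. -/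
theorem result
    (R K L : Type u) [CommRing R] [IsDomain R] [IsDiscreteValuationRing R] (hR : EGA4.IsExcellent R)
    [Field K] [Algebra R K] [IsFractionRing R K] [Field L] [Algebra K L] [FiniteDimensional K L]
    [IsPurelyInseparable K L] [Algebra R L] [IsScalarTower R K L] :
    IsDiscreteValuationRing ↥(integralClosure R L) ∧ Module.Finite R ↥(integralClosure R L) := by
  classical
  have hNag : CAlg.IsNagata R :=
    Groth.Agent.Helper8.Nag.isNagata_of_isQuasiExcellent R ⟨hR.1, hR.2.2.1, hR.2.2.2⟩
  haveI : IsNoetherianRing R := hR.1
  have hN2 : CAlg.IsN2 R := by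
    haveI : (⊥ : Ideal R).IsPrime := Ideal.isPrime_bot
    exact Groth.Agent.Helper8.Tate.isN2_of_ringEquiv (RingEquiv.quotientBot R) (hNag.2 ⊥)
  have hfin : Module.Finite R ↥(integralClosure R L) :=
    Groth.Agent.Lib.Helper6.Japanese.n2_apply hN2 K L
  refine ⟨?_, hfin⟩
  set S := integralClosure R L with hS
  haveI : IsNoetherianRing S := IsNoetherianRing.of_finite R S
  have hinjKL : Function.Injective (algebraMap K L) := (algebraMap K L).injective
  have hinjRL : Function.Injective (algebraMap R L) := by
    rw [IsScalarTower.algebraMap_eq R K L]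
    exact hinjKL.comp (IsFractionRing.injective R K)
  have hinjRS : Function.Injective (algebraMap R S) := by
    intro a b hab
    apply hinjRL
    have := congrArg (algebraMap S L) hab
    simpa [← IsScalarTower.algebraMap_apply] using this
  -- every element of S has a power in R
  have hpow : ∀ x : S, ∃ n > 0, x ^ n ∈ (algebraMap R S).range := by
    intro x
    obtain ⟨n, y, hy⟩ := IsPurelyInseparable.pow_mem K (ringExpChar K) (x : L)
    have hq : 0 < ringExpChar K := by
      haveI := ringExpChar.expChar K
      exact expChar_pos K (ringExpChar K)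
    refine ⟨ringExpChar K ^ n, pow_pos hq n, ?_⟩
    have hyint : IsIntegral R y := by
      have h1 : IsIntegral R ((x : L) ^ ringExpChar K ^ n) := (x.2 : IsIntegral R (x : L)).pow _
      rw [← hy] at h1
      exact (isIntegral_algHom_iff (IsScalarTower.toAlgHom R K L) hinjKL).mp h1
    obtain ⟨r, hr⟩ := IsIntegrallyClosed.isIntegral_iff.mp hyint
    refine ⟨r, ?_⟩
    apply Subtype.ext
    change algebraMap R L r = _
    rw [IsScalarTower.algebraMap_apply R K L, hr, hy]
    rfl
  have hker : RingHom.ker (algebraMap R S) ≤ nilradical R := by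
    rw [(RingHom.injective_iff_ker_eq_bot _).mp hinjRS]
    exact bot_le
  have hhomeo := PrimeSpectrum.isHomeomorph_comap (algebraMap R S) hpow hker
  haveI : Algebra.IsIntegral R S := inferInstance
  haveI : IsLocalRing S := by
    obtain ⟨M, hM⟩ := Ideal.exists_maximal S
    refine IsLocalRing.of_unique_max_ideal ⟨M, hM, ?_⟩
    intro M' hM'
    have h1 : (M'.comap (algebraMap R S)).IsMaximal :=
      Ideal.isMaximal_comap_of_isIntegral_of_isMaximal M'
    have h2 : (M.comap (algebraMap R S)).IsMaximal :=
      Ideal.isMaximal_comap_of_isIntegral_of_isMaximal M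
    have h3 : M'.comap (algebraMap R S) = M.comap (algebraMap R S) := by
      rw [IsLocalRing.eq_maximalIdeal h1, IsLocalRing.eq_maximalIdeal h2]
    have h4 := hhomeo.injective (a₁ := ⟨M', hM'.isPrime⟩) (a₂ := ⟨M, hM.isPrime⟩)
      (PrimeSpectrum.ext h3)
    exact congrArg PrimeSpectrum.asIdeal h4
  haveI : IsIntegrallyClosed S := integralClosure.isIntegrallyClosedOfFiniteExtension K
  have hdim : ringKrullDim S ≤ 1 := by
    haveI : Ring.DimensionLEOne S := inferInstance
    have : Ring.KrullDimLE 1 S :=
      Ring.krullDimLE_one_iff_of_noZeroDivisors.mpr (fun I hI hIp => Ring.DimensionLEOne.maximalOfPrime hI hIp)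
    exact Ring.krullDimLE_iff.mp this
  have hnf : ¬ IsField S := by
    intro hf
    exact IsDiscreteValuationRing.not_isField R
      (isField_of_isIntegral_of_isField hinjRS hf)
  exact Groth.Agent.Helper8.Wedge.isDiscreteValuationRing_of_normal S hdim hnf

end Groth.Agent.S17690
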