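import Groth.Statements.S17703
import Groth.Agent.Lib.Helper8.Exc3
import Groth.Agent.Lib.Helper8.CplMap3
import Groth.Agent.S0603
import Groth.Agent.S2620

set_option autoImplicit false
universe u
open Neron

namespace Groth.Agent.S17703

/-- Let R be a discrete valuation ring with fraction field K, R̂ its completion and K̂ = Frac R̂. Then R
is excellent (Noetherian, universally catenary, G-ring and J-2) if and only if K̂ is geometrically
reduced over K, i.e. K ⊆ K̂ is separable; here K̂ is written as the generic formal fibre κ(0) ⊗_R R̂
of R, which is R̂ with the uniformizer inverted. -/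
theorem result
    (R : Type u) [CommRing R] [IsDomain R] [IsDiscreteValuationRing R] :
    EGA4.IsExcellent R ↔
      Algebra.IsGeometricallyReduced (⊥ : Ideal R).ResidueField (EGA4.formalFibre R (⊥ : Ideal R)) := by
  haveI : Ring.KrullDimLE 1 R := inferInstance
  constructor
  · intro h
    exact (Groth.Agent.Helper8.Exc.isGRing_local_iff R).mp h.2.2.1
  · intro h
    refine ⟨inferInstance, ?_, (Groth.Agent.Helper8.Exc.isGRing_local_iff R).mpr h, ?_⟩
    · haveI := Groth.Agent.Helper8.CplMap.isCohenMacaulayRing_of_isRegularRing R
      exact Groth.Agent.S0603.result R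
    · refine Groth.Agent.S2620.result R ?_ ?_
      · have : {I : Ideal R | I.IsMaximal} = {IsLocalRing.maximalIdeal R} := by
          ext I
          simp only [Set.mem_ofPred_eq, Set.mem_singleton_iff]
          exact ⟨fun hI => IsLocalRing.eq_maximalIdeal hI, fun hI => hI ▸ inferInstance⟩
        rw [this]
        exact Set.finite_singleton _
      · exact Ring.krullDimLE_iff.mp inferInstance

end Groth.Agent.S17703
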