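import Groth.Statements.S17716
import Groth.Agent.Lib.Helper8.Jets

set_option autoImplicit false
open MoretBailly

namespace Groth.Agent.S17716

/-- Write B(x) = x/(1 - e^(-x)) for the exponential generating series of the Bernoulli numbers (B'_1 =
1/2). For natural numbers d ≥ 1 and p ≥ 4 the coefficient of x^3 in B(-dx)^(-1) B(-dpx) B(x)^4
e^((dp-d-3)x) (the case n = 3, s = 1 of the Todd-class integrand) is strictly negative. The
published argument needs only primes p ≥ 7; this row covers every natural p ≥ 4. -/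
theorem result (d p : ℕ) (hd : 1 ≤ d) (hp : 4 ≤ p) :
    PowerSeries.coeff 3 ((PowerSeries.rescale (-(d : ℚ)) (bernoulli'PowerSeries ℚ))⁻¹ * PowerSeries.rescale (-((d : ℚ) * p)) (bernoulli'PowerSeries ℚ) * bernoulli'PowerSeries ℚ ^ (4) * PowerSeries.rescale ((d : ℚ) * p - d - 3) (PowerSeries.exp ℚ)) < 0 := by
  obtain ⟨b0, b1, b2, b3⟩ := Groth.Agent.Helper8.jetB
  have hF1 : PowerSeries.coeff 0 (PowerSeries.rescale (-(d : ℚ)) (bernoulli'PowerSeries ℚ)) = 1 := by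
    rw [PowerSeries.coeff_rescale, b0]; simp
  obtain ⟨i0, i1, i2, i3⟩ := Groth.Agent.Helper8.jet_inv _ hF1
  have hB4 : bernoulli'PowerSeries ℚ ^ 4 =
      (bernoulli'PowerSeries ℚ * bernoulli'PowerSeries ℚ) *
        (bernoulli'PowerSeries ℚ * bernoulli'PowerSeries ℚ) := by ring
  have e0 : PowerSeries.coeff 0 (PowerSeries.exp ℚ) = 1 := by rw [PowerSeries.coeff_exp]; simp
  have e1 : PowerSeries.coeff 1 (PowerSeries.exp ℚ) = 1 := by rw [PowerSeries.coeff_exp]; simp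
  have e2 : PowerSeries.coeff 2 (PowerSeries.exp ℚ) = 1 / 2 := by
    rw [PowerSeries.coeff_exp]; simp [Nat.factorial]
  have e3 : PowerSeries.coeff 3 (PowerSeries.exp ℚ) = 1 / 6 := by
    rw [PowerSeries.coeff_exp]; simp [Nat.factorial]
  rw [hB4]
  simp only [Groth.Agent.Helper8.jet3_mul, Groth.Agent.Helper8.jet2_mul, Groth.Agent.Helper8.jet1_mul, Groth.Agent.Helper8.jet0_mul, i0, i1, i2, i3, PowerSeries.coeff_rescale,
    b0, b1, b2, b3, e0, e1, e2, e3]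
  obtain ⟨a, rfl⟩ : ∃ a, d = 1 + a := ⟨d - 1, by omega⟩
  obtain ⟨b, rfl⟩ : ∃ b, p = 4 + b := ⟨p - 4, by omega⟩
  push_cast
  have key : ∀ (a b : ℚ), 0 ≤ a → 0 ≤ b → 
    (-(1 + a) / 6 + (1+a)*(4+b)/6 - (1+a)^2/6 + (1+a)^2*(4+b)/4 - (1+a)^2*(4+b)^2/12 - (1+a)^3/24 + (1+a)^3*(4+b)/12 - (1+a)^3*(4+b)^2/24) < 0 := by
    intro a b ha hb
    have : (-(1 + a) / 6 + (1+a)*(4+b)/6 - (1+a)^2/6 + (1+a)^2*(4+b)/4 - (1+a)^2*(4+b)^2/12 - (1+a)^3/24 + (1+a)^3*(4+b)/12 - (1+a)^3*(4+b)^2/24) = -(3/8 + b/2 + b^2/8 + 13/8*a + 17/12*a*b + 7/24*a*b^2 + 13/8*a^2 + 7/6*a^2*b + 5/24*a^2*b^2 + 3/8*a^3 + 1/4*a^3*b + 1/24*a^3*b^2) := by ring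
    rw [this, neg_lt_zero]
    positivity
  have := key a b (by positivity) (by positivity)
  convert this using 1
  ring

end Groth.Agent.S17716
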