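import Groth.Statements.S17718
import Groth.Agent.Lib.Helper8.BernSign

set_option autoImplicit false
open MoretBailly

namespace Groth.Agent.S17718

/-- Let n ≥ 2 and d ≥ 1 be natural numbers with n not congruent to 2 modulo 4, and write B(x) = x/(1 -
e^(-x)) for the exponential generating series of the Bernoulli numbers (B'_1 = 1/2). Then there is
an integer s ≥ 1 such that for all sufficiently large natural numbers p the coefficient of x^n in
B(-dx)^(-1) B(-dpx) B(x)^(n+1) e^((dp-d-n-1+s)x) is strictly negative. (The published argument fixes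
any s with 2s > n + d + 1, which gives the sign only for n congruent to 0 or 1 modulo 4; for n
congruent to 3 modulo 4 the choice s = 1 makes the leading coefficient (2s-d-n-1) B'_(n-1)
d^(n-1)/(2 (n-1)!) negative instead.) -/
theorem result (n d : ℕ) (hn : 2 ≤ n)
    (hmod : n % 4 ≠ 2) (hd : 1 ≤ d) :
    ∃ s : ℤ, 1 ≤ s ∧ ∃ P : ℕ, ∀ p : ℕ, P ≤ p →
      PowerSeries.coeff n ((PowerSeries.rescale (-(d : ℚ)) (bernoulli'PowerSeries ℚ))⁻¹ * PowerSeries.rescale (-((d : ℚ) * p)) (bernoulli'PowerSeries ℚ) * bernoulli'PowerSeries ℚ ^ (n + 1) * PowerSeries.rescale ((d : ℚ) * p - d - n - 1 + s) (PowerSeries.exp ℚ)) < 0 := by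
  have h4 : n % 4 = 0 ∨ n % 4 = 1 ∨ n % 4 = 3 := by omega
  rcases h4 with h | h | h
  · refine ⟨(n : ℤ) + d + 1, by omega, ?_⟩
    apply Groth.Agent.Helper8.todd_eventually_neg n d _ hn hd
    left
    exact Groth.Agent.Helper8.bernoulli'_neg_of_mod_four_eq_zero n (by omega) h
  · refine ⟨(n : ℤ) + d + 1, by omega, ?_⟩
    apply Groth.Agent.Helper8.todd_eventually_neg n d _ hn hd
    right
    have hodd : Odd n := by
      rw [Nat.odd_iff]; omega
    refine ⟨bernoulli'_eq_zero_of_odd hodd (by omega), ?_⟩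
    have hneg := Groth.Agent.Helper8.bernoulli'_neg_of_mod_four_eq_zero (n - 1) (by omega) (by omega)
    have hpos : (0 : ℚ) < 2 * (((n : ℤ) + d + 1 : ℤ) : ℚ) - d - n - 1 := by
      push_cast
      have h1 : (0 : ℚ) ≤ n := by positivity
      have h2 : (0 : ℚ) ≤ d := by positivity
      linarith
    exact mul_neg_of_pos_of_neg hpos hneg
  · refine ⟨1, le_rfl, ?_⟩
    apply Groth.Agent.Helper8.todd_eventually_neg n d _ hn hd
    right
    have hodd : Odd n := by
      rw [Nat.odd_iff]; omega
    refine ⟨bernoulli'_eq_zero_of_odd hodd (by omega), ?_⟩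
    have hpos := Groth.Agent.Helper8.bernoulli'_pos_of_mod_four_eq_two (n - 1) (by omega)
    have hneg : 2 * (((1 : ℤ)) : ℚ) - d - n - 1 < 0 := by
      push_cast
      have h1 : (2 : ℚ) ≤ n := by exact_mod_cast hn
      have h2 : (1 : ℚ) ≤ d := by exact_mod_cast hd
      linarith
    exact mul_neg_of_neg_of_pos hneg hpos

end Groth.Agent.S17718
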