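import Groth.Statements.S17720
import Mathlib
-- import your own Groth.Agent.* helpers here

set_option autoImplicit false
universe u
open CAlg

namespace Groth.Agent.S17720

namespace Aux
open MvPowerSeries IsLocalRing

variable {A : Type u} [CommRing A]

/-- decomposition of a power series in two variables -/
lemma exists_decomp (F : MvPowerSeries (Fin 2) A) :
    ∃ E G : MvPowerSeries (Fin 2) A, F = C (constantCoeff F) + X 0 * E + X 1 * G := by
  classical
  set G' : MvPowerSeries (Fin 2) A := fun n => if n 0 = 0 then coeff n F else 0 with hG'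
  have hG'c : ∀ n, coeff n G' = if n 0 = 0 then coeff n F else 0 := fun n => rfl
  have h1 : (X 0 : MvPowerSeries (Fin 2) A) ∣ F - G' := by
    rw [X_dvd_iff]
    intro m hm
    rw [map_sub, hG'c, if_pos hm, sub_self]
  have h2 : (X 1 : MvPowerSeries (Fin 2) A) ∣ G' - C (constantCoeff F) := by
    rw [X_dvd_iff]
    intro m hm
    rw [map_sub, coeff_C, hG'c]
    by_cases h0 : m 0 = 0
    · have : m = 0 := by
        ext i; fin_cases i
        · simpa using h0
        · simpa using hm
      subst this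
      simp [coeff_zero_eq_constantCoeff_apply]
    · have : m ≠ 0 := fun h => h0 (by simp [h])
      simp [h0, this]
  obtain ⟨E, hE⟩ := h1
  obtain ⟨G, hG⟩ := h2
  refine ⟨E, G, ?_⟩
  rw [← hE, ← hG]; ring

/-- Leibniz rule for linear coefficients -/
lemma coeff_single_one_mul (j : Fin 2) (F G : MvPowerSeries (Fin 2) A) :
    coeff (Finsupp.single j 1) (F * G) =
      constantCoeff F * coeff (Finsupp.single j 1) G + coeff (Finsupp.single j 1) F * constantCoeff G := by
  classical
  rw [coeff_mul, Finsupp.antidiagonal_single, Finset.sum_map]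
  simp [Finset.Nat.antidiagonal_succ, coeff_zero_eq_constantCoeff_apply]

variable [IsLocalRing A]

/-- linear coefficient modulo the maximal ideal -/
noncomputable def L (j : Fin 2) : MvPowerSeries (Fin 2) A →+ ResidueField A :=
  (residue A : A →+ ResidueField A).comp (coeff (Finsupp.single j 1) : MvPowerSeries (Fin 2) A →ₗ[A] A).toAddMonoidHom

/-- constant coefficient modulo the maximal ideal -/
noncomputable def ε : MvPowerSeries (Fin 2) A →+* ResidueField A :=
  (residue A).comp constantCoeff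

lemma L_apply (j : Fin 2) (F : MvPowerSeries (Fin 2) A) :
    L j F = residue A (coeff (Finsupp.single j 1) F) := rfl

lemma ε_apply (F : MvPowerSeries (Fin 2) A) : ε F = residue A (constantCoeff F) := rfl

lemma L_mul (j : Fin 2) (F G : MvPowerSeries (Fin 2) A) :
    L j (F * G) = ε F * L j G + L j F * ε G := by
  simp only [L_apply, ε_apply, coeff_single_one_mul, map_add, map_mul]

lemma L_C (j : Fin 2) (c : A) : L j (C c : MvPowerSeries (Fin 2) A) = 0 := by
  classical
  rw [L_apply, coeff_C, if_neg (by simp), map_zero]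

lemma L_X (j i : Fin 2) : L j (X i : MvPowerSeries (Fin 2) A) = if j = i then 1 else 0 := by
  classical
  rw [L_apply, coeff_index_single_X]
  split_ifs <;> simp

lemma ε_X (i : Fin 2) : ε (X i : MvPowerSeries (Fin 2) A) = 0 := by
  rw [ε_apply, constantCoeff_X, map_zero]

lemma ε_C (c : A) : ε (C c : MvPowerSeries (Fin 2) A) = residue A c := by
  rw [ε_apply, constantCoeff_C]

lemma ε_eq_zero {F : MvPowerSeries (Fin 2) A} (h : constantCoeff F ∈ maximalIdeal A) : ε F = 0 := by
  rw [ε_apply]; exact (residue_eq_zero_iff _).mpr h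

section main

noncomputable abbrev Iq (β : A) : Ideal (MvPowerSeries (Fin 2) A) :=
  Ideal.span {(X 0 * X 1 - C β : MvPowerSeries (Fin 2) A)}

lemma mk_C (β c : A) : Ideal.Quotient.mk (Iq β) (C c) = algebraMap A _ c := rfl

/-- membership in the ideal gives vanishing of `L` -/
lemma L_of_mem {β : A} (hβ : β ∈ maximalIdeal A) (j : Fin 2) {F : MvPowerSeries (Fin 2) A}
    (hF : F ∈ Iq β) : L j F = 0 := by
  obtain ⟨H, rfl⟩ := Ideal.mem_span_singleton'.mp hF
  rw [L_mul, map_sub, map_sub, L_mul, map_mul, ε_X, ε_X, L_C, ε_C,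
    (residue_eq_zero_iff _).mpr hβ]
  ring

lemma not_isUnit_mk_X {α : A} (hα : α ∈ maximalIdeal A) (i : Fin 2) :
    ¬ IsUnit (Ideal.Quotient.mk (Iq α) (X i)) := by
  intro hu
  obtain ⟨V, hV⟩ := hu.exists_right_inv
  obtain ⟨v, rfl⟩ := Ideal.Quotient.mk_surjective V
  rw [← map_mul, ← map_one (Ideal.Quotient.mk (Iq α)), Ideal.Quotient.eq] at hV
  obtain ⟨H, hH⟩ := Ideal.mem_span_singleton'.mp hV
  have := congrArg constantCoeff hH
  simp only [map_mul, map_sub, constantCoeff_X, constantCoeff_C, map_one, zero_mul, zero_sub,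
    mul_zero] at this
  have h1 : (1 : A) ∈ maximalIdeal A := by
    have : (1 : A) = constantCoeff H * α := by linear_combination this
    rw [this]; exact Ideal.mul_mem_left _ _ hα
  exact (Ideal.ne_top_iff_one _).mp (maximalIdeal.isMaximal A).ne_top h1

variable {α β : A} (hα : α ∈ maximalIdeal A) (hβ : β ∈ maximalIdeal A)
  (φ : (MvPowerSeries (Fin 2) A ⧸ Iq α) ≃ₐ[A] (MvPowerSeries (Fin 2) A ⧸ Iq β))

include hα in
lemma constantCoeff_mem (i : Fin 2) (Z : MvPowerSeries (Fin 2) A)
    (hZ : Ideal.Quotient.mk (Iq β) Z = φ (Ideal.Quotient.mk (Iq α) (X i))) :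
    constantCoeff Z ∈ maximalIdeal A := by
  by_contra hc
  have hu : IsUnit (constantCoeff Z) := by
    by_contra h'; exact hc ((mem_maximalIdeal _).mpr h')
  have hZu : IsUnit Z := isUnit_iff_constantCoeff.mpr hu
  have h2 : IsUnit (φ (Ideal.Quotient.mk (Iq α) (X i))) := hZ ▸ hZu.map _
  have h3 : IsUnit (Ideal.Quotient.mk (Iq α) (X i)) := by
    have := h2.map φ.symm
    simpa using this
  exact not_isUnit_mk_X hα i h3

include hα hβ in
/-- the surjectivity consequence -/
lemma exists_coeffs (Xt Yt : MvPowerSeries (Fin 2) A)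
    (hXt : Ideal.Quotient.mk (Iq β) Xt = φ (Ideal.Quotient.mk (Iq α) (X 0)))
    (hYt : Ideal.Quotient.mk (Iq β) Yt = φ (Ideal.Quotient.mk (Iq α) (X 1))) (i : Fin 2) :
    ∃ e g : ResidueField A, ∀ j : Fin 2,
      L j Xt * e + L j Yt * g = if j = i then 1 else 0 := by
  have hX0 : ε Xt = 0 := ε_eq_zero (constantCoeff_mem hα φ 0 Xt hXt)
  have hY0 : ε Yt = 0 := ε_eq_zero (constantCoeff_mem hα φ 1 Yt hYt)
  obtain ⟨u, hu⟩ := φ.surjective (Ideal.Quotient.mk (Iq β) (X i))
  obtain ⟨U, rfl⟩ := Ideal.Quotient.mk_surjective u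
  obtain ⟨E, G, hU⟩ := exists_decomp U
  obtain ⟨E1, E2, hE⟩ := exists_decomp E
  obtain ⟨G1, G2, hG⟩ := exists_decomp G
  obtain ⟨e1, he1⟩ := Ideal.Quotient.mk_surjective (φ (Ideal.Quotient.mk (Iq α) E1))
  obtain ⟨e2, he2⟩ := Ideal.Quotient.mk_surjective (φ (Ideal.Quotient.mk (Iq α) E2))
  obtain ⟨g1, hg1⟩ := Ideal.Quotient.mk_surjective (φ (Ideal.Quotient.mk (Iq α) G1))
  obtain ⟨g2, hg2⟩ := Ideal.Quotient.mk_surjective (φ (Ideal.Quotient.mk (Iq α) G2))
  have hC : ∀ c : A, φ (Ideal.Quotient.mk (Iq α) (C c)) = Ideal.Quotient.mk (Iq β) (C c) := by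
    intro c
    rw [mk_C, mk_C, φ.commutes]
  have key : Ideal.Quotient.mk (Iq β) (X i) =
      Ideal.Quotient.mk (Iq β) (C (constantCoeff U) +
        Xt * (C (constantCoeff E) + Xt * e1 + Yt * e2) +
        Yt * (C (constantCoeff G) + Xt * g1 + Yt * g2)) := by
    rw [← hu]
    conv_lhs => rw [hU, hE, hG]
    simp only [map_add, map_mul, hC, ← hXt, ← hYt, he1, he2, hg1, hg2]
  rw [Ideal.Quotient.eq] at key
  refine ⟨residue A (constantCoeff E), residue A (constantCoeff G), fun j => ?_⟩
  have := L_of_mem hβ j key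
  rw [map_sub, L_X] at this
  simp only [map_add, L_mul, L_C, hX0, hY0, map_mul, ε_C, zero_mul, add_zero, zero_add] at this
  by_cases hji : j = i
  · rw [if_pos hji] at this ⊢
    linear_combination -this
  · rw [if_neg hji] at this ⊢
    linear_combination -this


include hα hβ φ in
lemma dvd_of_equiv : β ∣ α := by
  obtain ⟨Xt, hXt⟩ := Ideal.Quotient.mk_surjective (φ (Ideal.Quotient.mk (Iq α) (X 0)))
  obtain ⟨Yt, hYt⟩ := Ideal.Quotient.mk_surjective (φ (Ideal.Quotient.mk (Iq α) (X 1)))
  -- the key relation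
  have hrel : Ideal.Quotient.mk (Iq β) (Xt * Yt) = Ideal.Quotient.mk (Iq β) (C α) := by
    rw [map_mul, hXt, hYt, ← map_mul, ← map_mul, mk_C, ← φ.commutes, ← mk_C]
    congr 1
    rw [Ideal.Quotient.eq]
    exact Ideal.mem_span_singleton_self _
  rw [Ideal.Quotient.eq] at hrel
  obtain ⟨h, hh⟩ := Ideal.mem_span_singleton'.mp hrel
  -- invertibility of the linear part
  obtain ⟨e, g, h0⟩ := exists_coeffs hα hβ φ Xt Yt hXt hYt 0
  obtain ⟨e', g', h1⟩ := exists_coeffs hα hβ φ Xt Yt hXt hYt 1
  have h00 := h0 0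
  have h01 := h0 1
  have h10 := h1 0
  have h11 := h1 1
  simp only [if_true, Fin.isValue, one_ne_zero, zero_ne_one, if_false] at h00 h01 h10 h11
  have hdet : (L 0 Xt * L 1 Yt - L 1 Xt * L 0 Yt) * (e * g' - g * e') = 1 := by
    linear_combination (L 1 Xt * e' + L 1 Yt * g') * h00 + h11 - (L 0 Xt * e' + L 0 Yt * g') * h01
  have hunit : IsUnit (coeff (Finsupp.single 0 1) Xt * coeff (Finsupp.single 1 1) Yt -
      coeff (Finsupp.single 1 1) Xt * coeff (Finsupp.single 0 1) Yt) := by
    by_contra hnu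
    have hm := (mem_maximalIdeal _).mpr hnu
    have hz := (residue_eq_zero_iff _).mpr hm
    simp only [map_sub, map_mul, ← L_apply] at hz
    rw [hz, zero_mul] at hdet
    exact zero_ne_one hdet
  -- coefficient equations
  have c0 := congrArg constantCoeff hh
  have c1 := congrArg (coeff (Finsupp.single (0 : Fin 2) 1)) hh
  have c2 := congrArg (coeff (Finsupp.single (1 : Fin 2) 1)) hh
  classical
  simp only [coeff_single_one_mul, map_sub, map_mul, constantCoeff_X, constantCoeff_C,
    coeff_index_single_X, coeff_C, zero_mul, mul_zero] at c0 c1 c2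
  simp at c1 c2
  have hc0 : β ∣ constantCoeff Yt := by
    rw [← hunit.dvd_mul_right]
    refine ⟨coeff (Finsupp.single 0 1) Yt * coeff (Finsupp.single 1 1) h -
      coeff (Finsupp.single 1 1) Yt * coeff (Finsupp.single 0 1) h, ?_⟩
    linear_combination (-coeff (Finsupp.single 1 1) Yt) * c1 + coeff (Finsupp.single 0 1) Yt * c2
  obtain ⟨w, hw⟩ := hc0
  refine ⟨constantCoeff Xt * w + constantCoeff h, ?_⟩
  rw [hw] at c0
  linear_combination c0

end main

theorem main (α β : A) (hα : α ∈ maximalIdeal A) (hβ : β ∈ maximalIdeal A)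
    (φ : (MvPowerSeries (Fin 2) A ⧸ Ideal.span {(X 0 * X 1 - C α : MvPowerSeries (Fin 2) A)}) ≃ₐ[A]
      (MvPowerSeries (Fin 2) A ⧸ Ideal.span {(X 0 * X 1 - C β : MvPowerSeries (Fin 2) A)})) :
    Ideal.span {α} = Ideal.span {β} := by
  apply le_antisymm
  · rw [Ideal.span_singleton_le_span_singleton]
    exact dvd_of_equiv hα hβ φ
  · rw [Ideal.span_singleton_le_span_singleton]
    exact dvd_of_equiv hβ hα φ.symm

end Aux

open MvPowerSeries IsLocalRing in
/-- Let A be a Noetherian local ring and α, β two elements of its maximal ideal. If the quotient of the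
power series ring in two variables over A by xy − α is isomorphic, as an A-algebra, to the quotient
by xy − β, then αA = βA. (The published statement allows any local ring A; it is taken Noetherian
here, the case in which an algebra isomorphism between these complete local rings is continuous for
their adic topologies.) -/
theorem result
    (A : Type u) [CommRing A] [IsLocalRing A] [IsNoetherianRing A]
    (α β : A) (hα : α ∈ maximalIdeal A) (hβ : β ∈ maximalIdeal A)
    (φ : (MvPowerSeries (Fin 2) A ⧸ Ideal.span {(X 0 * X 1 - C α : MvPowerSeries (Fin 2) A)}) ≃ₐ[A] (MvPowerSeries (Fin 2) A ⧸ Ideal.span {(X 0 * X 1 - C β : MvPowerSeries (Fin 2) A)})) :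
    Ideal.span {α} = Ideal.span {β} := by
  exact Aux.main α β hα hβ φ

end Groth.Agent.S17720
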