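import Groth.Statements.S17721
import Mathlib

set_option autoImplicit false
universe u
open CAlg

namespace Groth.Agent.S17721

open Polynomial IsLocalRing in
/-- Let R be a complete discrete valuation ring with fraction field K, and f a polynomial over R with
non-zero constant term a₀ such that a₀ does not divide some coefficient of f of positive degree
(equivalently, the Newton polygon of f has a side of negative slope). Let b be the power series over
K with b · f = a₀, the expansion of the geometric series in 1 − f/a₀. Then the valuations of the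
coefficients b_j are not bounded below: for every non-zero c in R there is an index j with c · b_j
outside R. -/
theorem result
    (R : Type u) [CommRing R] [IsDomain R] [IsDiscreteValuationRing R]
    [IsAdicComplete (maximalIdeal R) R]
    (K : Type u) [Field K] [Algebra R K] [IsFractionRing R K]
    (f : R[X]) (h0 : f.coeff 0 ≠ 0) (hslope : ∃ i : ℕ, 0 < i ∧ ¬ (f.coeff 0 ∣ f.coeff i))
    (b : PowerSeries K)
    (hb : b * ((f.map (algebraMap R K) : K[X]) : PowerSeries K) = PowerSeries.C (algebraMap R K (f.coeff 0))) :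
    ∀ c : R, c ≠ 0 → ∃ j : ℕ, algebraMap R K c * PowerSeries.coeff j b ∉ (algebraMap R K).range := by
  classical
  intro c hc
  by_contra hcon
  push_neg at hcon
  choose g hg using hcon
  have hinj : Function.Injective (algebraMap R K) := IsFractionRing.injective R K
  -- coefficient identity
  have hcoef : ∀ n, ∑ p ∈ Finset.HasAntidiagonal.antidiagonal n, g p.1 * f.coeff p.2 =
      if n = 0 then c * f.coeff 0 else 0 := by
    intro n
    apply hinj
    have h1 := congrArg (PowerSeries.coeff n) hb
    rw [PowerSeries.coeff_mul, PowerSeries.coeff_C] at h1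
    rw [map_sum]
    have h2 : ∀ p ∈ Finset.HasAntidiagonal.antidiagonal n, algebraMap R K (g p.1 * f.coeff p.2) =
        algebraMap R K c * (PowerSeries.coeff p.1 b *
          PowerSeries.coeff p.2 ((f.map (algebraMap R K) : K[X]) : PowerSeries K)) := by
      intro p _
      rw [map_mul, hg, Polynomial.coeff_coe, Polynomial.coeff_map, mul_assoc]
    rw [Finset.sum_congr rfl h2, ← Finset.mul_sum, h1]
    split_ifs with hn
    · rw [map_mul]
    · rw [mul_zero, map_zero]
  obtain ⟨v, hv⟩ : ∃ v : R → ℕ∞, ∀ x, v x = IsDiscreteValuationRing.addVal R x :=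
    ⟨_, fun _ => rfl⟩
  have vmul : ∀ x y, v (x * y) = v x + v y := by
    intro x y; rw [hv, hv, hv]; exact IsDiscreteValuationRing.addVal_mul
  have vtop : ∀ x, v x = ⊤ ↔ x = 0 := by
    intro x; rw [hv]; exact IsDiscreteValuationRing.addVal_eq_top_iff
  -- g 0 = c
  have hg0 : g 0 = c := by
    have := hcoef 0
    simp only [Finset.Nat.antidiagonal_zero, Finset.sum_singleton, if_true] at this
    exact mul_right_cancel₀ h0 this
  -- minimal valuation among g
  obtain ⟨j1, hj1⟩ : ∃ j1, ∀ j, v (g j1) ≤ v (g j) :=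
    ⟨Function.argmin (fun j => v (g j)),
      fun j => not_lt.mp (Function.not_lt_argmin (fun j => v (g j)) j)⟩
  have hex : ∃ j, v (g j) = v (g j1) := ⟨j1, rfl⟩
  obtain ⟨j0, hj0, hj0min⟩ : ∃ j0, v (g j0) = v (g j1) ∧ ∀ j < j0, v (g j1) < v (g j) := by
    refine ⟨Nat.find hex, Nat.find_spec hex, fun j hj => ?_⟩
    exact lt_of_le_of_ne (hj1 j) (fun h => Nat.find_min hex hj h.symm)
  have hm : v (g j1) ≠ ⊤ := by
    intro h
    have h1 := hj1 0
    rw [h, top_le_iff, vtop, hg0] at h1
    exact hc h1
  -- minimal valuation among coefficients of f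
  obtain ⟨i1, hi1⟩ : ∃ i1, ∀ i, v (f.coeff i1) ≤ v (f.coeff i) :=
    ⟨Function.argmin (fun i => v (f.coeff i)),
      fun i => not_lt.mp (Function.not_lt_argmin (fun i => v (f.coeff i)) i)⟩
  have hex' : ∃ i, v (f.coeff i) = v (f.coeff i1) := ⟨i1, rfl⟩
  obtain ⟨i0, hi0, hi0min⟩ : ∃ i0, v (f.coeff i0) = v (f.coeff i1) ∧
      ∀ i < i0, v (f.coeff i1) < v (f.coeff i) := by
    refine ⟨Nat.find hex', Nat.find_spec hex', fun i hi => ?_⟩
    exact lt_of_le_of_ne (hi1 i) (fun h => Nat.find_min hex' hi h.symm)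
  have hμlt : v (f.coeff i1) < v (f.coeff 0) := by
    obtain ⟨i, _, hi⟩ := hslope
    have : ¬ v (f.coeff 0) ≤ v (f.coeff i) := by
      rw [hv, hv]; exact fun h => hi (IsDiscreteValuationRing.addVal_le_iff_dvd.mp h)
    exact lt_of_le_of_lt (hi1 i) (not_le.mp this)
  have hμ : v (f.coeff i1) ≠ ⊤ := ne_top_of_lt hμlt
  have hi0pos : i0 ≠ 0 := by
    intro h
    rw [h] at hi0
    exact absurd hi0 (ne_of_gt hμlt)
  -- the coefficient of degree j0 + i0
  have hsum := hcoef (j0 + i0)
  rw [if_neg (by omega)] at hsum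
  have hmem : (j0, i0) ∈ Finset.HasAntidiagonal.antidiagonal (j0 + i0) := by simp
  rw [← Finset.add_sum_erase _ _ hmem] at hsum
  have hlt : v (g j1) + v (f.coeff i1) <
      v (∑ p ∈ (Finset.HasAntidiagonal.antidiagonal (j0 + i0)).erase (j0, i0), g p.1 * f.coeff p.2) := by
    rw [hv (∑ p ∈ (Finset.HasAntidiagonal.antidiagonal (j0 + i0)).erase (j0, i0),
      g p.1 * f.coeff p.2)]
    apply AddValuation.map_lt_sum (IsDiscreteValuationRing.addVal R)
      (WithTop.add_ne_top.mpr ⟨hm, hμ⟩)
    intro p hp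
    rw [Finset.mem_erase, Finset.HasAntidiagonal.mem_antidiagonal] at hp
    obtain ⟨hne, hp⟩ := hp
    rw [← hv, vmul]
    by_cases h1 : p.1 < j0
    · exact ENat.add_lt_add_of_lt_of_le hμ (hj0min _ h1) (hi1 _)
    · have h2 : p.2 < i0 := by
        by_contra h3
        apply hne
        ext <;> simp only <;> omega
      exact ENat.add_lt_add_of_le_of_lt hm (hj1 _) (hi0min _ h2)
  have heq : g j0 * f.coeff i0 =
      - ∑ p ∈ (Finset.HasAntidiagonal.antidiagonal (j0 + i0)).erase (j0, i0), g p.1 * f.coeff p.2 :=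
    eq_neg_of_add_eq_zero_left hsum
  have h3 : v (g j0 * f.coeff i0) = v (g j1) + v (f.coeff i1) := by
    rw [vmul, hj0, hi0]
  have h4 : v (- ∑ p ∈ (Finset.HasAntidiagonal.antidiagonal (j0 + i0)).erase (j0, i0), g p.1 * f.coeff p.2) =
      v (∑ p ∈ (Finset.HasAntidiagonal.antidiagonal (j0 + i0)).erase (j0, i0), g p.1 * f.coeff p.2) := by
    rw [hv, hv]; exact AddValuation.map_neg _ _
  rw [heq, h4] at h3
  exact absurd h3 (ne_of_gt hlt)

end Groth.Agent.S17721
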