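import Groth.Statements.S17722
import Mathlib

set_option autoImplicit false
universe u
open CAlg

namespace Groth.Agent.S17722

/-- Let R → R' be a faithfully flat ring map between Noetherian integrally closed local domains, and p
an ideal of R. If the ideal pR' generated by the image of p is principal, then p is principal. (The
second assertion of the published lemma, descent of unique factorization, is not part of this row.) -/
theorem result
    (R R' : Type u) [CommRing R] [CommRing R'] [IsDomain R] [IsDomain R']
    [IsNoetherianRing R] [IsNoetherianRing R'] [IsLocalRing R] [IsLocalRing R']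
    [IsIntegrallyClosed R] [IsIntegrallyClosed R']
    [Algebra R R'] [Module.FaithfullyFlat R R']
    (p : Ideal R) (hp : (p.map (algebraMap R R')).IsPrincipal) :
    p.IsPrincipal := by
  classical
  set f := algebraMap R R' with hf
  obtain ⟨b, hb⟩ := hp.principal
  have hb' : p.map f = Ideal.span {b} := hb
  by_cases hb0 : b = 0
  · -- `p = ⊥`
    have h1 : p.map f = ⊥ := by rw [hb', hb0]; simp
    have h2 : p = ⊥ := by
      rw [← Ideal.comap_map_eq_self_of_faithfullyFlat (B := R') p, h1]
      rw [← RingHom.ker_eq_comap_bot]
      exact (RingHom.injective_iff_ker_eq_bot _).mp (FaithfulSMul.algebraMap_injective R R')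
    rw [h2]
    infer_instance
  · -- coefficients
    let C : Set R' := {c | ∃ y ∈ p, f y = c * b}
    have hC : Ideal.span C = ⊤ := by
      have h1 : p.map f ≤ Ideal.span C * Ideal.span {b} := by
        rw [Ideal.map, Ideal.span_le]
        rintro _ ⟨y, hy, rfl⟩
        have hy' : f y ∈ Ideal.span {b} := by
          rw [← hb']; exact Ideal.mem_map_of_mem f hy
        obtain ⟨c, hc⟩ := Ideal.mem_span_singleton'.mp hy'
        rw [← hc]
        exact Ideal.mul_mem_mul (Ideal.subset_span ⟨y, hy, hc.symm⟩)
          (Ideal.mem_span_singleton_self b)
      have h2 : b ∈ Ideal.span C * Ideal.span {b} := by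
        apply h1
        rw [hb']
        exact Ideal.mem_span_singleton_self b
      obtain ⟨z, hz, hzb⟩ := Ideal.mem_mul_span_singleton.mp h2
      have hz1 : z = 1 := by
        have : (z - 1) * b = 0 := by rw [sub_mul, hzb, one_mul, sub_self]
        rcases mul_eq_zero.mp this with h | h
        · exact sub_eq_zero.mp h
        · exact absurd h hb0
      rw [Ideal.eq_top_iff_one, ← hz1]
      exact hz
    -- some coefficient is a unit
    have hunit : ∃ c ∈ C, IsUnit c := by
      by_contra hno
      push Not at hno
      have hle : Ideal.span C ≤ IsLocalRing.maximalIdeal R' := by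
        rw [Ideal.span_le]
        intro c hc
        exact (IsLocalRing.mem_maximalIdeal c).mpr (hno c hc)
      rw [hC] at hle
      exact (IsLocalRing.maximalIdeal.isMaximal R').ne_top (top_le_iff.mp hle)
    obtain ⟨c, ⟨y, hy, hyc⟩, hcu⟩ := hunit
    refine ⟨⟨y, ?_⟩⟩
    have h3 : (Ideal.span {y}).map f = p.map f := by
      rw [Ideal.map_span, Set.image_singleton, hb', hyc]
      exact Ideal.span_singleton_mul_left_unit hcu b
    have h4 := congrArg (Ideal.comap f) h3
    rw [Ideal.comap_map_eq_self_of_faithfullyFlat, Ideal.comap_map_eq_self_of_faithfullyFlat] at h4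
    rw [← h4]

end Groth.Agent.S17722
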