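import Groth.Statements.S17723
import Mathlib

set_option autoImplicit false
universe u
open LabGraph

namespace Groth.Agent.S17723

namespace H17723
open LabGraph

variable {V E : Type u} [Fintype V] [Fintype E] [DecidableEq V] [DecidableEq E]

theorem cartier_smul (ends : E → V × V) (l : E → ℕ) (c : ℤ) (h : V → ℤ) (hc : IsCartier ends l h) :
    IsCartier ends l (c • h) := by
  intro e
  have := hc e
  simp only [Pi.smul_apply, smul_eq_mul, ← mul_sub]
  exact Dvd.dvd.mul_left this c

/-- the `p`-adic step -/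
theorem padic_step (ends : E → V × V) (l : E → ℕ) (N : ℕ) (hN : 0 < N) (hlN : ∀ e, l e ∣ N)
    (p k d : ℕ) (hp : p.Prime) (hk : 1 ≤ k) (hdN : d * p ^ k = N) (h : V → ℤ)
    (hd : ∀ v, (d : ℤ) ∣ h v) (hc : IsCartier ends l h) :
    ∃ g : V → ℤ, (∀ v, (d : ℤ) ∣ g v) ∧ (∀ e, ¬ (l e ∣ d) → g (ends e).1 = g (ends e).2) ∧
      (∀ v, ((p * d : ℕ) : ℤ) ∣ (h - g) v) ∧ IsCartier ends l (h - g) := by
  have hd0 : 0 < d := by
    rcases Nat.eq_zero_or_pos d with h0 | h0
    · rw [h0] at hdN; simp at hdN; omega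
    · exact h0
  -- edge claim
  have hedge : ∀ e, ¬ l e ∣ d → ((p * d : ℕ) : ℤ) ∣ h (ends e).1 - h (ends e).2 := by
    intro e he
    have h1 : (l e : ℤ) ∣ h (ends e).1 - h (ends e).2 := hc e
    have h2 : (d : ℤ) ∣ h (ends e).1 - h (ends e).2 := dvd_sub (hd _) (hd _)
    rw [Int.natCast_dvd] at h1 h2 ⊢
    have h3 : Nat.lcm (l e) d ∣ (h (ends e).1 - h (ends e).2).natAbs := Nat.lcm_dvd h1 h2
    refine dvd_trans ?_ h3
    obtain ⟨t, ht⟩ := Nat.dvd_lcm_right (l e) d
    have h4 : Nat.lcm (l e) d ∣ d * p ^ k := Nat.lcm_dvd (hdN ▸ hlN e) (Dvd.intro _ rfl)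
    rw [ht] at h4
    have h5 : t ∣ p ^ k := Nat.dvd_of_mul_dvd_mul_left hd0 h4
    obtain ⟨i, -, hti⟩ := (Nat.dvd_prime_pow hp).1 h5
    have hi : i ≠ 0 := by
      rintro rfl
      rw [pow_zero] at hti
      rw [hti, mul_one] at ht
      exact he (ht ▸ Nat.dvd_lcm_left (l e) d)
    rw [ht, hti, mul_comm p d]
    exact Nat.mul_dvd_mul_left d (dvd_pow_self p hi)
  -- the equivalence relation
  let Rel : V → V → Prop := fun a b => ∃ e, ¬ l e ∣ d ∧ (ends e).1 = a ∧ (ends e).2 = b
  have hpath : ∀ u v, Relation.EqvGen Rel u v → ((p * d : ℕ) : ℤ) ∣ h u - h v := by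
    intro u v huv
    induction huv with
    | rel a b hab =>
      obtain ⟨e, he, rfl, rfl⟩ := hab
      exact hedge e he
    | refl a => simp
    | symm a b _ ih =>
      have : h b - h a = -(h a - h b) := by ring
      rw [this]; exact (dvd_neg).2 ih
    | trans a b c _ _ ih1 ih2 =>
      have : h a - h c = (h a - h b) + (h b - h c) := by ring
      rw [this]; exact dvd_add ih1 ih2
  let S : Setoid V := Relation.EqvGen.setoid Rel
  let rep : V → V := fun v => (Quotient.mk S v).out
  have hrep : ∀ v, Relation.EqvGen Rel (rep v) v := fun v => Quotient.mk_out (s := S) v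
  have hrep_eq : ∀ a b, Rel a b → rep a = rep b := by
    intro a b hab
    have : Quotient.mk S a = Quotient.mk S b := Quotient.sound (Relation.EqvGen.rel _ _ hab)
    simp only [rep, this]
  have hg_edge : ∀ e, ¬ (l e ∣ d) → h (rep (ends e).1) = h (rep (ends e).2) := by
    intro e he
    rw [hrep_eq _ _ ⟨e, he, rfl, rfl⟩]
  refine ⟨fun v => h (rep v), fun v => hd _, hg_edge, ?_, ?_⟩
  · intro v
    have := hpath _ _ (hrep v)
    have h2 : (h - fun v => h (rep v)) v = -(h (rep v) - h v) := by simp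
    rw [h2]
    exact (dvd_neg).2 this
  · intro e
    have h1 : (l e : ℤ) ∣ h (ends e).1 - h (ends e).2 := hc e
    simp only [Pi.sub_apply]
    by_cases he : l e ∣ d
    · have h2 : (l e : ℤ) ∣ h (rep (ends e).1) := dvd_trans (Int.natCast_dvd_natCast.2 he) (hd _)
      have h3 : (l e : ℤ) ∣ h (rep (ends e).2) := dvd_trans (Int.natCast_dvd_natCast.2 he) (hd _)
      have : h (ends e).1 - h (rep (ends e).1) - (h (ends e).2 - h (rep (ends e).2))
          = (h (ends e).1 - h (ends e).2) - (h (rep (ends e).1) - h (rep (ends e).2)) := by ring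
      rw [this]
      exact dvd_sub h1 (dvd_sub h2 h3)
    · rw [hg_edge e he]
      have : h (ends e).1 - h (rep (ends e).2) - (h (ends e).2 - h (rep (ends e).2))
          = h (ends e).1 - h (ends e).2 := by ring
      rw [this]; exact h1

theorem key (ends : E → V × V) (l : E → ℕ) (N : ℕ) (hN : 0 < N) (hlN : ∀ e, l e ∣ N) :
    ∀ m d : ℕ, d * m = N → ∀ h : V → ℤ, (∀ v, (d : ℤ) ∣ h v) → IsCartier ends l h →
      h ∈ Submodule.span ℤ {g : V → ℤ | ∃ n : ℕ, 0 < n ∧ (∀ v, (n : ℤ) ∣ g v) ∧
        ∀ e, ¬ (l e ∣ n) → g (ends e).1 = g (ends e).2} := by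
  intro m
  induction m using Nat.strong_induction_on with
  | _ m ih =>
  intro d hdm h hd hc
  have hm0 : m ≠ 0 := by rintro rfl; simp at hdm; omega
  have hd0 : 0 < d := by
    rcases Nat.eq_zero_or_pos d with h0 | h0
    · rw [h0] at hdm; simp at hdm; omega
    · exact h0
  by_cases hm1 : m = 1
  · have hdN : d = N := by rw [← hdm, hm1, mul_one]
    apply Submodule.subset_span
    refine ⟨N, hN, fun v => hdN ▸ hd v, fun e he => absurd (hlN e) he⟩
  have hp : (m.minFac).Prime := Nat.minFac_prime hm1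
  have hpm : m.minFac ∣ m := Nat.minFac_dvd m
  obtain ⟨k, w, hpw, hmkw⟩ := Nat.exists_eq_pow_mul_and_not_dvd hm0 m.minFac hp.ne_one
  generalize m.minFac = p at hp hpw hmkw hpm
  have hk : 1 ≤ k := by
    by_contra hk0
    have hk0' : k = 0 := by omega
    rw [hk0', pow_zero, one_mul] at hmkw
    exact hpw (hmkw ▸ hpm)
  have hw0 : w ≠ 0 := by rintro rfl; simp at hmkw; exact hm0 hmkw
  have hpk2 : 2 ≤ p ^ k := by
    calc 2 ≤ p := hp.two_le
      _ = p ^ 1 := (pow_one p).symm
      _ ≤ p ^ k := Nat.pow_le_pow_right hp.pos hk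
  by_cases hw1 : w = 1
  · -- prime power case
    rw [hw1, mul_one] at hmkw
    obtain ⟨g, hg1, hg2, hg3, hg4⟩ := padic_step ends l N hN hlN p k d hp hk (hmkw ▸ hdm) h hd hc
    have hgmem : g ∈ Submodule.span ℤ {g : V → ℤ | ∃ n : ℕ, 0 < n ∧ (∀ v, (n : ℤ) ∣ g v) ∧
        ∀ e, ¬ (l e ∣ n) → g (ends e).1 = g (ends e).2} :=
      Submodule.subset_span ⟨d, hd0, hg1, hg2⟩
    have hlt : p ^ (k - 1) < m := by
      rw [hmkw]; exact Nat.pow_lt_pow_right hp.one_lt (by omega)
    have hprod : (p * d) * p ^ (k - 1) = N := by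
      rw [← hdm, hmkw]
      have : p ^ k = p * p ^ (k - 1) := by rw [← pow_succ']; congr 1; omega
      rw [this]; ring
    have hsub := ih (p ^ (k - 1)) hlt (p * d) hprod (h - g) hg3 hg4
    have : h = (h - g) + g := by abel
    rw [this]
    exact Submodule.add_mem _ hsub hgmem
  · -- coprime splitting
    have hw2 : 2 ≤ w := by omega
    have hcop : Nat.Coprime (p ^ k) w := Nat.Coprime.pow_left k ((Nat.Prime.coprime_iff_not_dvd hp).2 hpw)
    obtain ⟨α, β, hαβ⟩ := (Nat.isCoprime_iff_coprime.2 hcop)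
    -- h = α • (p^k • h) + β • (w • h)
    have h1 : (((p ^ k : ℕ) : ℤ) • h) ∈ Submodule.span ℤ {g : V → ℤ | ∃ n : ℕ, 0 < n ∧ (∀ v, (n : ℤ) ∣ g v) ∧
        ∀ e, ¬ (l e ∣ n) → g (ends e).1 = g (ends e).2} := by
      apply ih w (by rw [hmkw]; nlinarith) (p ^ k * d) (by rw [← hdm, hmkw]; ring)
      · intro v
        simp only [Pi.smul_apply, smul_eq_mul]
        push_cast
        exact mul_dvd_mul_left _ (hd v)
      · exact cartier_smul ends l _ h hc
    have h2 : (((w : ℕ) : ℤ) • h) ∈ Submodule.span ℤ {g : V → ℤ | ∃ n : ℕ, 0 < n ∧ (∀ v, (n : ℤ) ∣ g v) ∧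
        ∀ e, ¬ (l e ∣ n) → g (ends e).1 = g (ends e).2} := by
      apply ih (p ^ k) (by rw [hmkw]; nlinarith) (w * d) (by rw [← hdm, hmkw]; ring)
      · intro v
        simp only [Pi.smul_apply, smul_eq_mul]
        push_cast
        exact mul_dvd_mul_left _ (hd v)
      · exact cartier_smul ends l _ h hc
    have : h = α • (((p ^ k : ℕ) : ℤ) • h) + β • (((w : ℕ) : ℤ) • h) := by
      rw [smul_smul, smul_smul, ← add_smul, hαβ, one_smul]
    rw [this]
    exact Submodule.add_mem _ (Submodule.smul_mem _ _ h1) (Submodule.smul_mem _ _ h2)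

theorem main (ends : E → V × V) (l : E → ℕ) (hl : ∀ e, 0 < l e)
    (f : V → ℤ) (hf : IsCartier ends l f) :
    f ∈ Submodule.span ℤ {g : V → ℤ | ∃ n : ℕ, 0 < n ∧ (∀ v, (n : ℤ) ∣ g v) ∧
      ∀ e, ¬ (l e ∣ n) → g (ends e).1 = g (ends e).2} := by
  apply key ends l (∏ e, l e) (Finset.prod_pos (fun e _ => hl e))
    (fun e => Finset.dvd_prod_of_mem l (Finset.mem_univ e)) (∏ e, l e) 1 (one_mul _) f
    (fun v => by simp) hf
end H17723

/-- Let G be a finite connected multigraph with endpoint map ends and edge labels l taking positive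
integer values. We say g : V → ℤ is elementary-Cartier if, for some integer n ≥ 1, all values of g
are multiples of n and, for each edge whose label fails to divide n, g agrees at its two endpoints
(equivalently, once the edges with label dividing n are removed, g takes a single value on each
connected piece of what remains). Then every Cartier function f (for each edge, the label divides
the difference of the values of f at its endpoints) lies in the ℤ-span of the elementary-Cartier
functions. -/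
theorem result
    {V E : Type u} [Fintype V] [Fintype E] [DecidableEq V] [DecidableEq E]
    (ends : E → V × V) (l : E → ℕ) (hl : ∀ e, 0 < l e) (hconn : LabGraph.Connected ends)
    (f : V → ℤ) (hf : LabGraph.IsCartier ends l f) :
    f ∈ Submodule.span ℤ {g : V → ℤ | ∃ n : ℕ, 0 < n ∧ (∀ v, (n : ℤ) ∣ g v) ∧
      ∀ e, ¬ (l e ∣ n) → g (ends e).1 = g (ends e).2} := by
  exact H17723.main ends l hl f hf

end Groth.Agent.S17723
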