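import Groth.Statements.S17724
import Mathlib
import Groth.Agent.Lib.Helper6.MGraphCol

set_option autoImplicit false
universe u v
open LabGraph

namespace Groth.Agent.S17724

/-- Let G be a finite connected multigraph with endpoint map ends, whose edges carry labels lab in a set
L and positive integer labels n, and suppose the L-labels are constant along every circuit. Say g :
V → ℤ is pre-achievable when for some finite set B of edges all carrying the same L-label, g takes
equal values at the two endpoints of every edge outside B (so g is constant on the connected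
components of the graph with B deleted); say g is Cartier when for every edge e the integer n(e)
divides the difference of the values of g at its endpoints. Then every Cartier function f is a
finite sum of functions each of which is Cartier and pre-achievable, and when f vanishes at a vertex
v₀ the summands can all be taken to vanish at v₀. -/
theorem result
    {V E : Type u} [Fintype V] [Fintype E] [DecidableEq V] [DecidableEq E] {L : Type v}
    (ends : E → V × V) (lab : E → L) (n : E → ℕ) (hn : ∀ e, 0 < n e)
    (hconn : LabGraph.Connected ends)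
    (hcirc : ∀ C : Finset E, LabGraph.IsCircuit ends C → ∀ e ∈ C, ∀ e' ∈ C, lab e = lab e')
    (f : V → ℤ) (hf : LabGraph.IsCartier ends n f) :
    f ∈ AddSubmonoid.closure {g : V → ℤ | LabGraph.IsCartier ends n g ∧ (∃ B : Finset E, (∀ e ∈ B, ∀ e' ∈ B, lab e = lab e') ∧ ∀ e, e ∉ B → g (ends e).1 = g (ends e).2)} ∧
    ∀ v₀ : V, f v₀ = 0 →
      f ∈ AddSubmonoid.closure {g : V → ℤ | LabGraph.IsCartier ends n g ∧ (∃ B : Finset E, (∀ e ∈ B, ∀ e' ∈ B, lab e = lab e') ∧ ∀ e, e ∉ B → g (ends e).1 = g (ends e).2) ∧ g v₀ = 0} := by
  classical
  have hconn' := (Groth.Agent.Lib.Helper6.MGraph.connected_iff (ends := ends)).1 hconn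
  obtain ⟨⟨v₁⟩, hreach⟩ := hconn'
  -- the decomposition for an arbitrary base point
  have key : ∀ v₀ : V, ∃ G : L → V → ℤ, (∀ lam, G lam v₀ = 0) ∧
      (∀ lam, LabGraph.IsCartier ends n (G lam)) ∧
      (∀ lam, ∃ B : Finset E, (∀ e ∈ B, ∀ e' ∈ B, lab e = lab e') ∧
        ∀ e, e ∉ B → G lam (ends e).1 = G lam (ends e).2) ∧
      f = (fun _ => f v₀) + ∑ lam ∈ Finset.univ.image lab, G lam := by
    intro v₀
    choose G hG0 hG using fun lam =>
      Groth.Agent.Lib.Helper6.MGraph.exists_color_potential ends lab hcirc hreach v₀ f lam
    refine ⟨G, hG0, ?_, ?_, ?_⟩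
    · intro lam e
      have h1 := hG lam e
      have h2 := hf e
      simp only [Groth.Agent.Lib.Helper6.MGraph.cob] at h1
      by_cases hl : lab e = lam
      · rw [if_pos hl] at h1
        have : G lam (ends e).1 - G lam (ends e).2 = f (ends e).1 - f (ends e).2 := by linarith
        rw [this]; exact h2
      · rw [if_neg hl] at h1
        have : G lam (ends e).1 - G lam (ends e).2 = 0 := by linarith
        rw [this]; exact dvd_zero _
    · intro lam
      refine ⟨Finset.univ.filter (fun e => lab e = lam), ?_, ?_⟩
      · intro e he e' he'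
        simp only [Finset.mem_filter, Finset.mem_univ, true_and] at he he'
        rw [he, he']
      · intro e he
        simp only [Finset.mem_filter, Finset.mem_univ, true_and] at he
        have h1 := hG lam e
        simp only [Groth.Agent.Lib.Helper6.MGraph.cob] at h1
        rw [if_neg he] at h1
        linarith
    · funext v
      refine Groth.Agent.Lib.Helper6.MGraph.eq_of_cob_eq (R := ℤ) ends (S := Finset.univ) f
        ((fun _ => f v₀) + ∑ lam ∈ Finset.univ.image lab, G lam) ?_ (hreach v₀ v) ?_
      · intro e _
        simp only [Groth.Agent.Lib.Helper6.MGraph.cob, Pi.add_apply, Finset.sum_apply]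
        have : ∀ lam ∈ Finset.univ.image lab, G lam (ends e).2 - G lam (ends e).1 =
            if lab e = lam then f (ends e).2 - f (ends e).1 else 0 := by
          intro lam _
          exact hG lam e
        have h2 : (f v₀ + ∑ lam ∈ Finset.univ.image lab, G lam (ends e).2) -
            (f v₀ + ∑ lam ∈ Finset.univ.image lab, G lam (ends e).1) =
            ∑ lam ∈ Finset.univ.image lab, (G lam (ends e).2 - G lam (ends e).1) := by
          rw [Finset.sum_sub_distrib]; ring
        rw [h2, Finset.sum_congr rfl this, Finset.sum_ite_eq,
          if_pos (Finset.mem_image_of_mem lab (Finset.mem_univ e))]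
      · simp only [Pi.add_apply, Finset.sum_apply]
        rw [Finset.sum_eq_zero (fun lam _ => hG0 lam)]
        ring
  constructor
  · obtain ⟨G, hG0, hGc, hGB, hsum⟩ := key v₁
    rw [hsum]
    refine AddSubmonoid.add_mem _ (AddSubmonoid.subset_closure ?_)
      (AddSubmonoid.sum_mem _ fun lam _ => AddSubmonoid.subset_closure ⟨hGc lam, hGB lam⟩)
    refine ⟨fun e => by simp, ∅, by simp, fun e _ => rfl⟩
  · intro v₀ hv₀
    obtain ⟨G, hG0, hGc, hGB, hsum⟩ := key v₀
    rw [hsum]
    refine AddSubmonoid.add_mem _ (AddSubmonoid.subset_closure ?_)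
      (AddSubmonoid.sum_mem _ fun lam _ => AddSubmonoid.subset_closure ⟨hGc lam, hGB lam, hG0 lam⟩)
    refine ⟨fun e => by simp, ⟨∅, by simp, fun e _ => rfl⟩, hv₀⟩

end Groth.Agent.S17724
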