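import Groth.Statements.S17725
import Mathlib

set_option autoImplicit false
universe u
open SpecSp

namespace Groth.Agent.S17725

namespace H17725
open AlgebraicGeometry TopologicalSpace

theorem top_main (X : Type u) [TopologicalSpace X] [NoetherianSpace X] [QuasiSober X]
    [ConnectedSpace X] (p q : X) :
    Relation.EqvGen (fun x y : X => x ⤳ y) p q := by
  set r := Relation.EqvGen (fun x y : X => x ⤳ y) with hr
  have hfin : (irreducibleComponents X).Finite := NoetherianSpace.finite_irreducibleComponents
  -- an irreducible component meeting the class lies in the class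
  have hZ : ∀ Z ∈ irreducibleComponents X, ∀ y ∈ Z, ∀ z ∈ Z, r y z := by
    intro Z hZ y hy z hz
    obtain ⟨η, hη⟩ := QuasiSober.sober hZ.1
      (isClosed_of_mem_irreducibleComponents Z hZ)
    have h1 : η ⤳ y := hη.specializes hy
    have h2 : η ⤳ z := hη.specializes hz
    exact Relation.EqvGen.trans _ _ _ (Relation.EqvGen.symm _ _ (Relation.EqvGen.rel _ _ h1))
      (Relation.EqvGen.rel _ _ h2)
  let C : Set X := {y | r p y}
  have hC1 : C = ⋃₀ {Z ∈ irreducibleComponents X | (Z ∩ C).Nonempty} := by
    ext y
    constructor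
    · intro hy
      exact ⟨irreducibleComponent y, ⟨irreducibleComponent_mem_irreducibleComponents y,
        ⟨y, mem_irreducibleComponent, hy⟩⟩, mem_irreducibleComponent⟩
    · rintro ⟨Z, ⟨hZc, ⟨w, hwZ, hwC⟩⟩, hyZ⟩
      exact Relation.EqvGen.trans _ _ _ hwC (hZ Z hZc w hwZ y hyZ)
  have hC2 : Cᶜ = ⋃₀ {Z ∈ irreducibleComponents X | ¬ (Z ∩ C).Nonempty} := by
    ext y
    constructor
    · intro hy
      refine ⟨irreducibleComponent y, ⟨irreducibleComponent_mem_irreducibleComponents y, ?_⟩,
        mem_irreducibleComponent⟩
      rintro ⟨w, hwZ, hwC⟩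
      exact hy (Relation.EqvGen.trans _ _ _ hwC
        (hZ _ (irreducibleComponent_mem_irreducibleComponents y) w hwZ y mem_irreducibleComponent))
    · rintro ⟨Z, ⟨hZc, hne⟩, hyZ⟩ hyC
      exact hne ⟨y, hyZ, hyC⟩
  have hclosed : IsClosed C := by
    rw [hC1]
    rw [Set.sUnion_eq_biUnion]
    exact Set.Finite.isClosed_biUnion (hfin.subset fun Z hZ => hZ.1)
      (fun Z hZ => isClosed_of_mem_irreducibleComponents Z hZ.1)
  have hopen : IsOpen C := by
    rw [← isClosed_compl_iff, hC2]
    rw [Set.sUnion_eq_biUnion]
    exact Set.Finite.isClosed_biUnion (hfin.subset fun Z hZ => hZ.1)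
      (fun Z hZ => isClosed_of_mem_irreducibleComponents Z hZ.1)
  have huniv : C = Set.univ := IsClopen.eq_univ ⟨hclosed, hopen⟩ ⟨p, Relation.EqvGen.refl p⟩
  have : q ∈ C := huniv ▸ Set.mem_univ q
  exact this

theorem main (X : Scheme.{u}) [IsNoetherian X] [ConnectedSpace X] (p q : X) :
    Relation.EqvGen (fun x y : X => x ⤳ y) p q := top_main X p q

end H17725

open AlgebraicGeometry in
/-- In a connected Noetherian scheme any two points p, q are linked by a finite chain of points p = x₁,
…, xₙ = q such that for each i one of x_i, x_{i+1} is a specialization of the other; equivalently, p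
and q are related by the equivalence relation generated by the specialization relation. -/
theorem result
    (X : Scheme.{u}) [IsNoetherian X] [ConnectedSpace X] (p q : X) :
    Relation.EqvGen (fun x y : X => x ⤳ y) p q := by
  exact H17725.main X p q

end Groth.Agent.S17725
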