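import Groth.Statements.S17726
import Mathlib.Tactic

set_option autoImplicit false
universe u
open CAlg

namespace Groth.Agent.S17726

/-- Let f and g be non-zero-divisors of a commutative ring A, not both units; think of them as local
equations, at a point of the union of the supports, of two effective Cartier divisors E and D. If
the ideals generated by g^{m₁} and f^{n₁} coincide, and likewise for g^{m₂} and f^{n₂}, then m₁ n₂ =
m₂ n₁. So all pairs (m, n) with m D = n E locally at the point are proportional, and the saturation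
of the monoid they form is generated by a single element. -/
theorem result
    (A : Type u) [CommRing A] (f g : A)
    (hf : f ∈ nonZeroDivisors A) (hg : g ∈ nonZeroDivisors A) (hfg : ¬ (IsUnit f ∧ IsUnit g))
    (m₁ n₁ m₂ n₂ : ℕ)
    (h₁ : Ideal.span {g ^ m₁} = Ideal.span {f ^ n₁})
    (h₂ : Ideal.span {g ^ m₂} = Ideal.span {f ^ n₂}) :
    m₁ * n₂ = m₂ * n₁ := by
  -- a nonunit nonzerodivisor has distinct principal ideals for distinct powers
  have keyA : ∀ h : A, h ∈ nonZeroDivisors A → ¬ IsUnit h → ∀ a b : ℕ, a < b →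
      Ideal.span {h ^ a} ≠ Ideal.span {h ^ b} := by
    intro h hh hnu a b hab heq
    have hmem : h ^ a ∈ Ideal.span {h ^ b} := by
      rw [← heq]
      exact Ideal.subset_span rfl
    obtain ⟨c, hc⟩ := Ideal.mem_span_singleton'.mp hmem
    obtain ⟨d, rfl⟩ := Nat.exists_eq_add_of_lt hab
    have hpa : h ^ a ∈ nonZeroDivisors A := pow_mem hh a
    have h1 : (c * h ^ (d + 1) - 1) * h ^ a = 0 := by
      rw [sub_mul, one_mul, mul_assoc, ← pow_add, add_comm (d + 1) a, ← add_assoc, hc, sub_self]
    have h2 := (mem_nonZeroDivisors_iff_right.mp hpa) _ h1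
    apply hnu
    have h3 : c * h ^ d * h = 1 := by
      rw [mul_assoc, ← pow_succ]
      exact sub_eq_zero.mp h2
    exact IsUnit.of_mul_eq_one (c * h ^ d) (by rw [mul_comm]; exact h3)
  have keyA' : ∀ h : A, h ∈ nonZeroDivisors A → ¬ IsUnit h → ∀ a b : ℕ,
      Ideal.span {h ^ a} = Ideal.span {h ^ b} → a = b := by
    intro h hh hnu a b heq
    rcases lt_trichotomy a b with hab | hab | hab
    · exact absurd heq (keyA h hh hnu a b hab)
    · exact hab
    · exact absurd heq.symm (keyA h hh hnu b a hab)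
  have e1 : Ideal.span {g ^ (m₁ * n₂)} = Ideal.span {f ^ (n₁ * n₂)} := by
    rw [pow_mul, pow_mul, ← Ideal.span_singleton_pow (g ^ m₁), ← Ideal.span_singleton_pow (f ^ n₁), h₁]
  have e2 : Ideal.span {g ^ (m₂ * n₁)} = Ideal.span {f ^ (n₂ * n₁)} := by
    rw [pow_mul, pow_mul, ← Ideal.span_singleton_pow (g ^ m₂), ← Ideal.span_singleton_pow (f ^ n₂), h₂]
  by_cases hgu : IsUnit g
  · have hfu : ¬ IsUnit f := fun hfu => hfg ⟨hfu, hgu⟩
    have htop : ∀ m : ℕ, Ideal.span {g ^ m} = Ideal.span {f ^ 0} := by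
      intro m
      rw [pow_zero, Ideal.span_singleton_one, Ideal.span_singleton_eq_top]
      exact hgu.pow m
    have hn1 : n₁ = 0 := keyA' f hf hfu _ _ (h₁.symm.trans (htop m₁))
    have hn2 : n₂ = 0 := keyA' f hf hfu _ _ (h₂.symm.trans (htop m₂))
    rw [hn1, hn2, mul_zero, mul_zero]
  · apply keyA' g hg hgu
    rw [e1, e2, mul_comm n₁ n₂]

end Groth.Agent.S17726
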