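import Groth.Statements.S17727
import Mathlib
import Groth.Agent.S13106

set_option autoImplicit false
universe u
open Neron

namespace Groth.Agent.S17727

section

open CategoryTheory AlgebraicGeometry Limits

/-- Two morphisms into a separated scheme agreeing on a schematically dense open are equal. -/
theorem eq_of_schematicallyDense {Y Z : Scheme.{u}} [Z.IsSeparated] (U : Y.Opens)
    (hU : CInt.IsSchematicallyDense U) (a b : Y ⟶ Z) (h : U.ι ≫ a = U.ι ≫ b) : a = b := by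
  have : IsIso (equalizer.ι a b) :=
    Groth.Agent.S13106.isIso_of_schematicallyDense (equalizer.ι a b) U hU (equalizer.lift U.ι h)
      (equalizer.lift_ι _ _)
  rw [← cancel_epi (equalizer.ι a b)]
  exact equalizer.condition a b

/-- Schematic density restricts to opens. -/
theorem schematicallyDense_restrict {E : Scheme.{u}} (U W : E.Opens)
    (hU : CInt.IsSchematicallyDense U) :
    CInt.IsSchematicallyDense (X := (W : Scheme.{u})) (W.ι ⁻¹ᵁ U) := by
  intro V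
  have heq : W.ι ''ᵁ (V ⊓ W.ι ⁻¹ᵁ U) = (W.ι ''ᵁ V) ⊓ U := by
    ext x
    simp only [TopologicalSpace.Opens.coe_inf, Set.mem_inter_iff, SetLike.mem_coe]
    constructor
    · rintro ⟨y, ⟨hy1, hy2⟩, rfl⟩
      exact ⟨⟨y, hy1, rfl⟩, hy2⟩
    · rintro ⟨⟨y, hy1, rfl⟩, hx2⟩
      exact ⟨y, ⟨hy1, hx2⟩, rfl⟩
  have hfac : (W : Scheme.{u}).presheaf.map (homOfLE (inf_le_left : V ⊓ W.ι ⁻¹ᵁ U ≤ V)).op =
      E.presheaf.map (homOfLE (inf_le_left : (W.ι ''ᵁ V) ⊓ U ≤ W.ι ''ᵁ V)).op ≫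
        E.presheaf.map (eqToHom heq).op := by
    rw [← Functor.map_comp]
    rfl
  rw [hfac]
  have hinj2 : Function.Injective (E.presheaf.map (eqToHom heq).op) := by
    rw [← ConcreteCategory.mono_iff_injective_of_preservesPullback]
    infer_instance
  intro x y hxy
  exact hU _ (hinj2 hxy)

theorem main
    {E S : Scheme.{u}} (f : E ⟶ S) (U : S.Opens) (hU : CInt.IsSchematicallyDense U)
    (hiso : IsIso (morphismRestrict f U)) (hdense : CInt.IsSchematicallyDense (f ⁻¹ᵁ U))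
    (σ : S ⟶ E) (hσ : σ ≫ f = 𝟙 S) (s : S) :
    ∃ W : E.Opens, σ.base s ∈ W ∧ IsOpenImmersion (W.ι ≫ f) := by
  -- affine open around σ(s)
  obtain ⟨W₁, hW₁, hsW₁, -⟩ :=
    exists_isAffineOpen_mem_and_subset (X := E) (x := σ.base s) (U := ⊤) trivial
  let V₁ : S.Opens := σ ⁻¹ᵁ W₁
  let W₂ : E.Opens := W₁ ⊓ f ⁻¹ᵁ V₁
  have hfσ : ∀ t : S, f.base (σ.base t) = t := by
    intro t
    rw [← Scheme.Hom.comp_apply, hσ]; rfl
  have hsW₂ : σ.base s ∈ W₂ := by
    refine ⟨hsW₁, ?_⟩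
    change σ.base (f.base (σ.base s)) ∈ W₁
    rw [hfσ]; exact hsW₁
  refine ⟨W₂, hsW₂, ?_⟩
  -- σ over U is inverse to f over U
  have hUσ : (f ∣_ U) ≫ U.ι ≫ σ = (f ⁻¹ᵁ U).ι := by
    have hrange : Set.range (U.ι ≫ σ).base ⊆ Set.range (f ⁻¹ᵁ U).ι.base := by
      rintro _ ⟨y, rfl⟩
      rw [Scheme.Opens.range_ι]
      change f.base ((U.ι ≫ σ).base y) ∈ U
      rw [Scheme.Hom.comp_apply, hfσ]
      exact y.2
    let σU := IsOpenImmersion.lift (f ⁻¹ᵁ U).ι (U.ι ≫ σ) hrange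
    have hσU : σU ≫ (f ⁻¹ᵁ U).ι = U.ι ≫ σ := IsOpenImmersion.lift_fac _ _ _
    have h1 : σU ≫ (f ∣_ U) = 𝟙 _ := by
      rw [← cancel_mono U.ι, Category.assoc, morphismRestrict_ι, ← Category.assoc, hσU,
        Category.assoc, hσ, Category.comp_id, Category.id_comp]
    have h2 : (f ∣_ U) ≫ σU = 𝟙 _ := by
      rw [← cancel_epi (inv (f ∣_ U)), ← Category.assoc, IsIso.inv_hom_id, Category.id_comp,
        Category.comp_id]
      rw [← cancel_mono (f ∣_ U), h1, IsIso.inv_hom_id]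
    rw [← hσU, ← Category.assoc, h2, Category.id_comp]
  -- the two morphisms W₂ ⟶ W₁
  have hra : Set.range (W₂.ι ≫ f ≫ σ).base ⊆ Set.range W₁.ι.base := by
    rintro _ ⟨y, rfl⟩
    rw [Scheme.Opens.range_ι]
    exact y.2.2
  have hrb : Set.range W₂.ι.base ⊆ Set.range W₁.ι.base := by
    rintro _ ⟨y, rfl⟩
    rw [Scheme.Opens.range_ι]
    exact y.2.1
  let a : (W₂ : Scheme.{u}) ⟶ W₁ := IsOpenImmersion.lift W₁.ι (W₂.ι ≫ f ≫ σ) hra
  let b : (W₂ : Scheme.{u}) ⟶ W₁ := IsOpenImmersion.lift W₁.ι W₂.ι hrb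
  have ha : a ≫ W₁.ι = W₂.ι ≫ f ≫ σ := IsOpenImmersion.lift_fac _ _ _
  have hb : b ≫ W₁.ι = W₂.ι := IsOpenImmersion.lift_fac _ _ _
  haveI : IsAffine (W₁ : Scheme.{u}) := hW₁
  have hab : a = b := by
    apply eq_of_schematicallyDense (W₂.ι ⁻¹ᵁ (f ⁻¹ᵁ U)) (schematicallyDense_restrict _ _ hdense)
    rw [← cancel_mono W₁.ι, Category.assoc, Category.assoc, ha, hb]
    -- factor through f⁻¹U
    have hrk : Set.range ((W₂.ι ⁻¹ᵁ (f ⁻¹ᵁ U)).ι ≫ W₂.ι).base ⊆
        Set.range (f ⁻¹ᵁ U).ι.base := by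
      rintro _ ⟨y, rfl⟩
      rw [Scheme.Opens.range_ι]
      exact y.2
    let k := IsOpenImmersion.lift (f ⁻¹ᵁ U).ι ((W₂.ι ⁻¹ᵁ (f ⁻¹ᵁ U)).ι ≫ W₂.ι) hrk
    have hk : k ≫ (f ⁻¹ᵁ U).ι = (W₂.ι ⁻¹ᵁ (f ⁻¹ᵁ U)).ι ≫ W₂.ι := IsOpenImmersion.lift_fac _ _ _
    rw [← Category.assoc, ← hk, Category.assoc, ← Category.assoc (f ⁻¹ᵁ U).ι f σ,
      ← morphismRestrict_ι, Category.assoc, hUσ]
  have hcomp : W₂.ι ≫ f ≫ σ = W₂.ι := by rw [← ha, hab, hb]
  -- build the isomorphism W₂ ≅ V₁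
  have hrg : Set.range (W₂.ι ≫ f).base ⊆ Set.range V₁.ι.base := by
    rintro _ ⟨y, rfl⟩
    rw [Scheme.Opens.range_ι]
    exact y.2.2
  have hrg' : Set.range (V₁.ι ≫ σ).base ⊆ Set.range W₂.ι.base := by
    rintro _ ⟨y, rfl⟩
    rw [Scheme.Opens.range_ι]
    refine ⟨y.2, ?_⟩
    change σ.base (f.base ((V₁.ι ≫ σ).base y)) ∈ W₁
    rw [Scheme.Hom.comp_apply, hfσ]
    exact y.2
  let g := IsOpenImmersion.lift V₁.ι (W₂.ι ≫ f) hrg
  let g' := IsOpenImmersion.lift W₂.ι (V₁.ι ≫ σ) hrg'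
  have hg : g ≫ V₁.ι = W₂.ι ≫ f := IsOpenImmersion.lift_fac _ _ _
  have hg' : g' ≫ W₂.ι = V₁.ι ≫ σ := IsOpenImmersion.lift_fac _ _ _
  have h1 : g ≫ g' = 𝟙 _ := by
    rw [← cancel_mono W₂.ι, Category.assoc, hg', ← Category.assoc, hg, Category.assoc, hcomp,
      Category.id_comp]
  have h2 : g' ≫ g = 𝟙 _ := by
    rw [← cancel_mono V₁.ι, Category.assoc, hg, ← Category.assoc, hg', Category.assoc, hσ,
      Category.comp_id, Category.id_comp]
  haveI : IsIso g := ⟨g', h1, h2⟩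
  rw [← hg]
  infer_instance


end


open CategoryTheory AlgebraicGeometry in
/-- Let f : E → S be a morphism of schemes and U ⊆ S a schematically dense open subscheme such that f
restricts to an isomorphism over U and the preimage of U is schematically dense in E. Then for every
section σ of f and every point s of S there is an open neighbourhood W of σ(s) in E on which f
restricts to an open immersion. (The published statements conclude that the section lands in the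
étale locus of f, in one published form for an algebraic space E, in another for f locally of finite
type over a Noetherian base; the affine-local argument gives the sharper conclusion recorded here,
for schemes.) -/
theorem result
    {E S : Scheme.{u}} (f : E ⟶ S) (U : S.Opens) (hU : CInt.IsSchematicallyDense U)
    (hiso : IsIso (morphismRestrict f U)) (hdense : CInt.IsSchematicallyDense (f ⁻¹ᵁ U))
    (σ : S ⟶ E) (hσ : σ ≫ f = 𝟙 S) (s : S) :
    ∃ W : E.Opens, σ.base s ∈ W ∧ IsOpenImmersion (W.ι ≫ f) := by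
  classical
  exact main f U hU hiso hdense σ hσ s

end Groth.Agent.S17727
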