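import Groth.Statements.S17753
import Groth.Agent.Lib.Helper8.ARank

set_option autoImplicit false
universe u
open LocCoh

namespace Groth.Agent.S17753

/-- Let R be a Noetherian local ring of Krull dimension d and I a proper ideal of R. Then there are d
elements f_1, …, f_d of I such that I and the ideal they generate have the same radical, so the
arithmetic rank of I is at most d. (The published statement has no properness hypothesis; for the
unit ideal of a field, d = 0 and no empty family generates the unit ideal up to radical, and the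
published proof uses that the maximal ideal contains I.) -/
theorem result (R : Type u) [CommRing R] [IsNoetherianRing R] [IsLocalRing R] (d : ℕ) (hd : ringKrullDim R = d) (I : Ideal R) (hI : I ≠ ⊤) : ∃ f : Fin d → R, (∀ i, f i ∈ I) ∧ I.radical = (Ideal.span (Set.range f)).radical := by
  obtain ⟨f, hfI, hf⟩ := Groth.Agent.Helper8.exists_fin_height_ge I d
  have hle : Ideal.span (Set.range f) ≤ I := by
    refine Ideal.span_le.2 ?_
    rintro _ ⟨i, rfl⟩
    exact hfI i
  refine ⟨f, hfI, le_antisymm ?_ (Ideal.radical_mono hle)⟩
  rw [Ideal.radical_le_radical_iff, Ideal.radical_eq_sInf]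
  refine le_sInf ?_
  rintro p ⟨hfp, hp⟩
  by_contra hIp
  have h1 := hf p hfp hIp
  have h2 : (p.height : WithBot ℕ∞) ≤ ringKrullDim R := Ideal.height_le_ringKrullDim_of_isPrime
  have : FiniteRingKrullDim R := by
    rw [finiteRingKrullDim_iff_ne_bot_and_top, hd]
    refine ⟨by simp, ?_⟩
    have : ((d : ℕ∞) : WithBot ℕ∞) ≠ ((⊤ : ℕ∞) : WithBot ℕ∞) := by
      rw [Ne, WithBot.coe_inj]; exact ENat.natCast_ne_top d
    exact this
  have h3 : (p.height : WithBot ℕ∞) = ringKrullDim R := by
    refine le_antisymm h2 ?_
    rw [hd]
    exact_mod_cast h1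
  have hpm : p = IsLocalRing.maximalIdeal R := Ideal.height_eq_ringKrullDim_iff.1 h3
  apply hIp
  rw [hpm]
  exact IsLocalRing.le_maximalIdeal hI

end Groth.Agent.S17753
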