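import Groth.Statements.S17768
import Mathlib
import Groth.Prelude.Def_GrLC
import Groth.Agent.S13224
import Groth.Agent.Lib.Helper9.GrLC.ArtinH
import Groth.Agent.Lib.Helper9.GrLC.Pos
import Groth.Agent.Lib.Helper9.GrLC.HGr
-- import your own Groth.Agent.* helpers here

set_option autoImplicit false
universe u
open GrLC

namespace Groth.Agent.S17768

namespace Aux
open Groth.Agent.Helper9.GrLCLib

variable {R : Type u} [CommRing R] [IsNoetherianRing R] (𝒜 : ℤ → AddSubgroup R) [GradedRing 𝒜]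
variable {M : Type u} [AddCommGroup M] [Module R M] [Module.Finite R M] (ℳ : ℤ → AddSubgroup M)
  [DirectSum.Decomposition ℳ] [SetLike.GradedSMul 𝒜 ℳ]

lemma isArtinian_H (hpos : ∀ n : ℤ, n < 0 → 𝒜 n = ⊥) (m : HomogeneousIdeal 𝒜)
    (hm : GrLC.IsStarLocal 𝒜 m) (E : GrLC.StarInjRes 𝒜 ℳ) (i : ℕ) :
    IsArtinian R (E.H m i) := by
  haveI := Pos.isMaximal_of_isCoatom 𝒜 hpos m hm.1
  haveI := isArtinian_H_of_isMaximal m.toIdeal i M
  obtain ⟨e⟩ := Groth.Agent.S13224.Aux.main 𝒜 m ℳ E i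
  exact isArtinian_of_linearEquiv e.symm

theorem main (hpos : ∀ n : ℤ, n < 0 → 𝒜 n = ⊥) (m : HomogeneousIdeal 𝒜)
    (hm : GrLC.IsStarLocal 𝒜 m) (E : GrLC.StarInjRes 𝒜 ℳ) (i : ℕ) :
    ∃ N : ℤ, ∀ n : ℤ, N ≤ n → E.Hcomp m i n = ⊥ := by
  haveI : IsArtinian R (HGMod 𝒜 ℳ E m i).carrier := isArtinian_H 𝒜 ℳ hpos m hm E i
  obtain ⟨N, hN⟩ := Pos.exists_gr_eq_bot_of_isArtinian 𝒜 (HGMod 𝒜 ℳ E m i).gr hpos
  refine ⟨N, fun n hn => ?_⟩
  rw [eq_bot_iff]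
  intro x hx
  have h1 : (x : (HGMod 𝒜 ℳ E m i).carrier) ∈ (HGMod 𝒜 ℳ E m i).gr n :=
    (mem_HGMod_gr_iff 𝒜 ℳ E m i n x).mpr hx
  rw [hN n hn] at h1
  rw [Submodule.mem_bot]
  exact AddSubgroup.mem_bot.mp h1

theorem main2 (hpos : ∀ n : ℤ, n < 0 → 𝒜 n = ⊥) (m : HomogeneousIdeal 𝒜)
    (hm : GrLC.IsStarLocal 𝒜 m) (E : GrLC.StarInjRes 𝒜 ℳ) (i : ℕ) (n : ℤ) :
    IsArtinian (GrLC.deg0 𝒜) (E.Hcomp m i n) := by
  haveI : IsArtinian R (HGMod 𝒜 ℳ E m i).carrier := isArtinian_H 𝒜 ℳ hpos m hm E i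
  have h := Pos.isArtinian_comp_of_isArtinian 𝒜 (HGMod 𝒜 ℳ E m i).gr n
  have heq : E.Hcomp m i n = GrLC.comp 𝒜 (HGMod 𝒜 ℳ E m i).gr n := by
    ext x
    exact (mem_HGMod_gr_iff 𝒜 ℳ E m i n x).symm
  rw [heq]
  exact h

end Aux

/-- Let R = ⊕_{n ≥ 0} R_n be a Noetherian positively ℤ-graded ring which is *local with unique
homogeneous maximal ideal m (equivalently R_0 is local), and let M be a finitely generated graded
R-module. Then for every i and every n the homogeneous piece H^i_m(M)_n of the graded local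
cohomology with support in m, computed from any *injective resolution of M in the graded category,
is an Artinian R_0-module. -/
theorem result (R : Type u) [CommRing R] [IsNoetherianRing R] (𝒜 : ℤ → AddSubgroup R) [GradedRing 𝒜] (hpos : ∀ n : ℤ, n < 0 → 𝒜 n = ⊥) (m : HomogeneousIdeal 𝒜) (hm : GrLC.IsStarLocal 𝒜 m) (M : Type u) [AddCommGroup M] [Module R M] [Module.Finite R M] (ℳ : ℤ → AddSubgroup M) [DirectSum.Decomposition ℳ] [SetLike.GradedSMul 𝒜 ℳ] (E : GrLC.StarInjRes 𝒜 ℳ) (i : ℕ) (n : ℤ) : IsArtinian (GrLC.deg0 𝒜) (E.Hcomp m i n) := by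
  exact Aux.main2 𝒜 ℳ hpos m hm E i n

end Groth.Agent.S17768
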