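import Groth.Statements.S17769
import Mathlib
import Groth.Prelude.Def_GrLC
import Groth.Prelude.Def_CAlg
import Groth.Agent.Lib.Helper9.GrLC.AInv
import Groth.Agent.Lib.Helper9.GrHt.Main
import Groth.Agent.Lib.Helper8.Depth19
import Groth.Agent.Lib.Helper8.LC11
-- import your own Groth.Agent.* helpers here

set_option autoImplicit false
universe u
open GrLC

namespace Groth.Agent.S17769

open GrLC
namespace Aux
open Groth.Agent.Helper9.GrLCLib Groth.Agent.Helper8.LC Groth.Agent.Helper9 Groth.Agent.Helper8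

theorem main (R : Type u) [CommRing R] [LocCoh.IsCohenMacaulayRing R] (𝒜 : ℤ → AddSubgroup R) [GradedRing 𝒜] (hpos : ∀ n : ℤ, n < 0 → 𝒜 n = ⊥) (m : HomogeneousIdeal 𝒜) (hm : GrLC.IsStarLocal 𝒜 m) (d : ℕ) (hd : ringKrullDim R = (d + 1 : ℕ)) (I : GrLC.StarInjRes 𝒜 𝒜) (x : R) (k : ℤ) (hxk : x ∈ 𝒜 k) (hxm : x ∈ m.toIdeal) (hx : IsSMulRegular R x) (N : Type u) [AddCommGroup N] [Module R N] (𝒩 : ℤ → AddSubgroup N) [DirectSum.Decomposition 𝒩] [SetLike.GradedSMul 𝒜 𝒩] (π : R →ₗ[R] N) (hπ : GrLC.IsGrHom 𝒜 𝒩 π) (hπs : Function.Surjective π) (hπk : LinearMap.ker π = Ideal.span {x}) (F : GrLC.StarInjRes 𝒜 𝒩) : GrLC.endDeg (F.Hgr m d) = GrLC.endDeg (I.Hgr m (d + 1)) + ((k : WithTop ℤ) : WithBot (WithTop ℤ)) := by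
  have hmax : m.toIdeal.IsMaximal := Pos.isMaximal_of_isCoatom 𝒜 hpos m hm.1
  have hht : ringKrullDim R = m.toIdeal.height :=
    GrHt.ringKrullDim_eq_height_of_isStarLocal 𝒜 m hm
  have hht' : m.toIdeal.height = ((d + 1 : ℕ) : ℕ∞) := by
    rw [hd] at hht
    exact_mod_cast hht.symm
  have hdepth : LocCoh.idealDepth m.toIdeal R = m.toIdeal.height :=
    (Depth.isCohenMacaulayRing_iff_idealDepth_eq_height.mp inferInstance) m.toIdeal hmax.ne_top
  have hJM : m.toIdeal • (⊤ : Submodule R R) ≠ ⊤ := by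
    intro h
    have h1 : (1 : R) ∈ m.toIdeal • (⊤ : Submodule R R) := by rw [h]; trivial
    have h2 : m.toIdeal • (⊤ : Submodule R R) ≤ m.toIdeal := by
      rw [Submodule.smul_le]
      intro r hr n _
      exact Ideal.mul_mem_right _ _ hr
    exact hmax.ne_top ((Ideal.eq_top_iff_one _).mpr (h2 h1))
  have hvan : Subsingleton (LocCoh.H m.toIdeal d R) := by
    apply subsingleton_of_lt_idealDepth m.toIdeal hJM d
    rw [hdepth, hht']
    exact_mod_cast Nat.lt_succ_self d
  have hnt : Nontrivial R := by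
    by_contra hc
    rw [not_nontrivial_iff_subsingleton] at hc
    rw [ringKrullDim_eq_bot_of_subsingleton] at hd
    exact absurd hd (WithBot.bot_ne_coe)
  have hx0 : x ≠ 0 := by
    intro h0
    have := hx (show x • (1 : R) = x • (0 : R) by rw [h0, zero_smul, zero_smul])
    exact one_ne_zero this
  have hk : 0 ≤ k := by
    by_contra hc
    have := hpos k (not_le.mp hc)
    rw [this, AddSubgroup.mem_bot] at hxk
    exact hx0 hxk
  let X := GrLC.GMod.of 𝒜 R 𝒜
  have hreg : Function.Injective (Van.mulMap 𝒜 X k x) := hx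
  have hker : LinearMap.ker π = LinearMap.range (Van.mulMap 𝒜 X k x) := by
    rw [hπk]
    ext r
    rw [Ideal.mem_span_singleton']
    constructor
    · rintro ⟨c, rfl⟩
      exact ⟨c, (mul_comm x c : x * c = c * x)⟩
    · rintro ⟨c, hc⟩
      obtain ⟨c', hc'⟩ : ∃ c' : R, c' = c := ⟨c, rfl⟩
      refine ⟨c', ?_⟩
      rw [← hc, ← hc']
      exact mul_comm c' x
  rw [AInv.endDeg_Hgr_eq, AInv.endDeg_Hgr_eq]
  exact AInv.endDeg_quot 𝒜 X k x hxk 𝒩 π hπ hπs hker hreg hk m hxm d hvan

end Aux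

/-- Let R = ⊕_{n ≥ 0} R_n be a Noetherian positively ℤ-graded ring which is standard graded (its
irrelevant ideal is generated by R_1), *local with unique homogeneous maximal ideal m,
Cohen–Macaulay, and of Krull dimension d + 1. Let x be a homogeneous element of degree k lying in m
which is a non-zerodivisor on R, and let N be R ⧸ xR as a graded R-module, presented by a surjective
degree-preserving R-linear map π : R → N with kernel xR. Writing a(·) for the largest degree in
which the top graded local cohomology with support in m is nonzero (computed from *injective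
resolutions I of R and F of N), one has a(R ⧸ xR) = a(R) + k, that is, the end of H^d_m(N) equals
the end of H^{d+1}_m(R) plus k. (The published statement does not require x to lie in m; for a
homogeneous unit x of degree 0 one has R ⧸ xR = 0, whose local cohomology vanishes, and the formula
fails. The proof uses that H^d_m(R ⧸ xR) is the top local cohomology, i.e. that x is not a unit, so
x is taken in m here; for a standard graded ring this excludes only the units of degree 0.) -/
theorem result (R : Type u) [CommRing R] [LocCoh.IsCohenMacaulayRing R] (𝒜 : ℤ → AddSubgroup R) [GradedRing 𝒜] (hpos : ∀ n : ℤ, n < 0 → 𝒜 n = ⊥) (hstd : Ideal.span (⋃ n ∈ Set.Ioi (0 : ℤ), (𝒜 n : Set R)) = Ideal.span ((𝒜 1 : AddSubgroup R) : Set R)) (m : HomogeneousIdeal 𝒜) (hm : GrLC.IsStarLocal 𝒜 m) (d : ℕ) (hd : ringKrullDim R = (d + 1 : ℕ)) (I : GrLC.StarInjRes 𝒜 𝒜) (x : R) (k : ℤ) (hxk : x ∈ 𝒜 k) (hxm : x ∈ m.toIdeal) (hx : IsSMulRegular R x) (N : Type u) [AddCommGroup N] [Module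 R N] (𝒩 : ℤ → AddSubgroup N) [DirectSum.Decomposition 𝒩] [SetLike.GradedSMul 𝒜 𝒩] (π : R →ₗ[R] N) (hπ : GrLC.IsGrHom 𝒜 𝒩 π) (hπs : Function.Surjective π) (hπk : LinearMap.ker π = Ideal.span {x}) (F : GrLC.StarInjRes 𝒜 𝒩) : GrLC.endDeg (F.Hgr m d) = GrLC.endDeg (I.Hgr m (d + 1)) + ((k : WithTop ℤ) : WithBot (WithTop ℤ)) := by
  exact Aux.main R 𝒜 hpos m hm d hd I x k hxk hxm hx N 𝒩 π hπ hπs hπk F

end Groth.Agent.S17769
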