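import Groth.Statements.S17773
import Mathlib
import Groth.Prelude.Def_Wider
import Groth.Agent.Lib.Helper9.Bal.FlatRes
-- import your own Groth.Agent.* helpers here

set_option autoImplicit false
universe u
open CategoryTheory CategoryTheory.Limits
open CAlg

namespace Groth.Agent.S17773

open CategoryTheory CategoryTheory.Limits
namespace Aux
open Groth.Agent.Helper9.Bal Groth.Agent.Helper1.TorBalNat MonoidalCategory

theorem flatRes {R : Type u} [CommRing R] (M N : ModuleCat.{u} R)
    (F : ChainComplex (ModuleCat.{u} R) ℕ) (hF : ∀ i : ℕ, Module.Flat R (F.X i))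
    (φ : F ⟶ (ChainComplex.single₀ (ModuleCat.{u} R)).obj M) [QuasiIso φ] (i : ℕ) :
    Nonempty ((TT (tensCxFunctorR F) i).obj N ≅ ((Tor' (ModuleCat.{u} R) i).obj M).obj N) := by
  let e1 : (TT (tensCxFunctorR F) i).obj N ≅ ((tensorLeft M).leftDerived i).obj N :=
    (effIso (isEff_tensCxFunctorR F hF M φ) i).app N ≪≫ (leftDerivedMapIso (h0Iso F M φ) i).app N
  let e2 : ((tensorLeft M).leftDerived i).obj N ≅ ((tensorLeft N).leftDerived i).obj M :=
    (torSymmIso N i).app M
  let e3 : ((tensorLeft N).leftDerived i).obj M ≅ ((tensorRight N).leftDerived i).obj M :=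
    (leftDerivedMapIso (BraidedCategory.tensorLeftIsoTensorRight N) i).app M
  exact ⟨e1 ≪≫ e2 ≪≫ e3⟩

theorem main (R : Type u) [CommRing R] (M N : Type u) [AddCommGroup M] [Module R M] [AddCommGroup N] [Module R N] (F : ChainComplex (ModuleCat.{u} R) ℕ) (hF : ∀ i : ℕ, Module.Flat R (F.X i)) (φ : F ⟶ (ChainComplex.single₀ (ModuleCat.{u} R)).obj (ModuleCat.of R M)) [QuasiIso φ] (i : ℕ) : Nonempty ((((MonoidalCategory.tensorRight (ModuleCat.of R N)).mapHomologicalComplex (ComplexShape.down ℕ)).obj F).homology i ≅ ((Tor' (ModuleCat.{u} R) i).obj (ModuleCat.of R M)).obj (ModuleCat.of R N)) :=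
  flatRes (ModuleCat.of R M) (ModuleCat.of R N) F hF φ i
end Aux

/-- Let R be a commutative ring, M and N two R-modules, and F a flat resolution of M: a chain complex F
of flat R-modules concentrated in non-negative degrees together with a quasi-isomorphism from F to M
placed in degree 0. Then for every i ≥ 0 the i-th homology module of the complex F ⊗_R N is
isomorphic to Tor_i^R(M, N), the i-th left derived functor of − ⊗_R N evaluated at M (existence of
an isomorphism of R-modules). -/
theorem result (R : Type u) [CommRing R] (M N : Type u) [AddCommGroup M] [Module R M] [AddCommGroup N] [Module R N] (F : ChainComplex (ModuleCat.{u} R) ℕ) (hF : ∀ i : ℕ, Module.Flat R (F.X i)) (φ : F ⟶ (ChainComplex.single₀ (ModuleCat.{u} R)).obj (ModuleCat.of R M)) [QuasiIso φ] (i : ℕ) : Nonempty ((((MonoidalCategory.tensorRight (ModuleCat.of R N)).mapHomologicalComplex (ComplexShape.down ℕ)).obj F).homology i ≅ ((Tor' (ModuleCat.{u} R) i).obj (ModuleCat.of R M)).obj (ModuleCat.of R N)) := by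
  exact Aux.main R M N F hF φ i

end Groth.Agent.S17773
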