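import Groth.Statements.S17780
import Groth.Agent.Lib.Helper8.FwdDiff

set_option autoImplicit false
universe u
open DRR

namespace Groth.Agent.S17780

/-- For x, y in a commutative ring and a natural number n, (n+1)! · x · y^n equals the sum over j = 0,
…, n of (−1)^(n−j) C(n, j) (x + j y)^(n+1), minus (n · (n+1)!/2) · y^(n+1). (The published identity
is stated in ℚ[x, y] with an overall factor 1/(n+1) and the coefficients C(n, j)(−1)^(n−j)/n!; it is
given here multiplied through by (n+1)!, which makes it an identity with integer coefficients valid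
in every commutative ring; n · (n+1)!/2 is an integer.) -/
theorem result (A : Type u) [CommRing A] (x y : A) (n : ℕ) :
    ((n + 1).factorial : A) * x * y ^ n =
      (∑ j ∈ Finset.range (n + 1), (-1 : A) ^ (n - j) * (n.choose j : A) * (x + (j : A) * y) ^ (n + 1))
        - ((n * (n + 1).factorial / 2 : ℕ) : A) * y ^ (n + 1) := by
  -- the alternating sums of powers, transported to `A`
  have hS : ∀ k : ℕ, k ≤ n + 1 →
      (∑ j ∈ Finset.range (n + 1), (-1 : A) ^ (n - j) * (n.choose j : A) * (j : A) ^ k) =
        (if k = n + 1 then (((n + 1).choose 2 * n.factorial : ℕ) : A)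
          else if k = n then (n.factorial : A) else 0) := by
    intro k hk
    have := congrArg (Int.cast : ℤ → A) (Groth.Agent.Helper8.altSum_pow n k hk)
    push_cast at this
    rw [this]
    split_ifs <;> simp
  have hhalf : n * (n + 1).factorial / 2 = (n + 1).choose 2 * n.factorial := by
    apply Nat.div_eq_of_eq_mul_right (by norm_num)
    have := Groth.Agent.Helper8.two_mul_choose_succ_two n
    rw [Nat.factorial_succ]
    calc n * ((n + 1) * n.factorial) = ((n + 1) * n) * n.factorial := by ring
      _ = (2 * (n + 1).choose 2) * n.factorial := by rw [this]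
      _ = 2 * ((n + 1).choose 2 * n.factorial) := by ring
  have hexp : ∀ j : ℕ, (x + (j : A) * y) ^ (n + 1) =
      ∑ i ∈ Finset.range (n + 1 + 1), x ^ i * y ^ (n + 1 - i) * ((n + 1).choose i : A)
        * (j : A) ^ (n + 1 - i) := by
    intro j
    rw [add_pow]
    refine Finset.sum_congr rfl fun i _ => ?_
    rw [mul_pow]
    ring
  have hsum : (∑ j ∈ Finset.range (n + 1),
      (-1 : A) ^ (n - j) * (n.choose j : A) * (x + (j : A) * y) ^ (n + 1)) =
      ∑ i ∈ Finset.range (n + 1 + 1), x ^ i * y ^ (n + 1 - i) * ((n + 1).choose i : A) *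
        ∑ j ∈ Finset.range (n + 1), (-1 : A) ^ (n - j) * (n.choose j : A) * (j : A) ^ (n + 1 - i) := by
    simp_rw [hexp, Finset.mul_sum]
    rw [Finset.sum_comm]
    refine Finset.sum_congr rfl fun i _ => Finset.sum_congr rfl fun j _ => ?_
    ring
  rw [hsum, Finset.sum_range_succ', Finset.sum_range_succ', Finset.sum_eq_zero, hhalf]
  · rw [hS (n + 1 - (0 + 1)) (by omega), hS (n + 1 - 0) (by omega)]
    have h1 : n + 1 - (0 + 1) = n := by omega
    have h2 : n + 1 - 0 = n + 1 := by omega
    rw [h1, h2]
    simp only [if_true, if_neg (Nat.ne_of_lt (Nat.lt_succ_self n)), zero_add, pow_zero, pow_one,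
      Nat.choose_zero_right, Nat.choose_one_right, one_mul]
    push_cast [Nat.factorial_succ]
    ring
  · intro i hi
    rw [hS (n + 1 - (i + 1 + 1)) (by omega)]
    rw [Finset.mem_range] at hi
    rw [if_neg (by omega), if_neg (by omega), mul_zero]

end Groth.Agent.S17780
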