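import Groth.Statements.S17781
import Mathlib
-- import your own Groth.Agent.* helpers here

set_option autoImplicit false
open Variety

namespace Groth.Agent.S17781

namespace Aux

/-- p does not divide C(d-1, j) for j < p^a when p^a ∣ d. -/
lemma not_dvd_choose_pred {p a d : ℕ} (hp : p.Prime) (hd : 0 < d) (hq : p ^ a ∣ d) :
    ∀ j, j < p ^ a → ¬ p ∣ (d - 1).choose j := by
  intro j
  induction j with
  | zero =>
    intro _ h
    rw [Nat.choose_zero_right] at h
    exact hp.one_lt.ne' (Nat.dvd_one.mp h)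
  | succ j ih =>
    intro hj hdiv
    have ih' := ih (by omega)
    -- i = j+1 = p^v * i'
    obtain ⟨v, i', hi', hi⟩ := Nat.exists_eq_pow_mul_and_not_dvd (n := j + 1) (by omega) p hp.ne_one
    have hva : v < a := by
      by_contra hcon
      rw [not_lt] at hcon
      have h1 : p ^ a ∣ j + 1 := by
        rw [hi]
        exact Dvd.dvd.mul_right (pow_dvd_pow p hcon) _
      have := Nat.le_of_dvd (by omega) h1
      omega
    have hle : p ^ a ≤ d := Nat.le_of_dvd hd hq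
    have key := Nat.choose_succ_right_eq (d - 1) j
    have e1 : d - 1 - j = d - (j + 1) := by omega
    rw [e1] at key
    -- p^(v+1) ∣ LHS
    have h1 : p ^ (v + 1) ∣ (d - 1).choose (j + 1) * (j + 1) := by
      rw [pow_succ, mul_comm (p ^ v) p]
      exact mul_dvd_mul hdiv ⟨i', hi⟩
    rw [key] at h1
    have hcop : Nat.Coprime (p ^ (v + 1)) ((d - 1).choose j) :=
      Nat.Coprime.pow_left _ ((Nat.Prime.coprime_iff_not_dvd hp).mpr ih')
    have h2 : p ^ (v + 1) ∣ d - (j + 1) := hcop.dvd_of_dvd_mul_left h1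
    have h3 : p ^ (v + 1) ∣ d := dvd_trans (pow_dvd_pow p (by omega)) hq
    have h4 : p ^ (v + 1) ∣ j + 1 := by
      have := (Nat.dvd_sub_iff_right (by omega : j + 1 ≤ d) h3).mp h2
      exact this
    rw [hi, pow_succ] at h4
    have h5 : p ∣ i' := Nat.dvd_of_mul_dvd_mul_left (pow_pos hp.pos v) h4
    exact hi' h5

/-- key divisibility: prime power dividing all C(d,j), j ≤ N, divides d/δ -/
lemma prime_pow_dvd_div {p t d N δ : ℕ} (hp : p.Prime) (hd : 0 < d)
    (hδ : δ ∣ d) (hδ1 : 1 ≤ δ) (hδN : δ ≤ N)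
    (h : ∀ j, 1 ≤ j → j ≤ N → p ^ t ∣ d.choose j) : p ^ t ∣ d / δ := by
  obtain ⟨a, δ', hδ', hδeq⟩ := Nat.exists_eq_pow_mul_and_not_dvd (n := δ) (by omega) p hp.ne_one
  have hqδ : p ^ a ∣ δ := ⟨δ', hδeq⟩
  have hqd : p ^ a ∣ d := dvd_trans hqδ hδ
  have hqpos : 0 < p ^ a := pow_pos hp.pos a
  have hqN : p ^ a ≤ N := le_trans (Nat.le_of_dvd (by omega) hqδ) hδN
  have h1 := h (p ^ a) hqpos hqN
  -- q * C(d,q) = d * C(d-1,q-1)
  have key := Nat.add_one_mul_choose_eq (d - 1) (p ^ a - 1)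
  rw [Nat.sub_add_cancel hd, Nat.sub_add_cancel hqpos] at key
  have hnd := not_dvd_choose_pred hp hd hqd (p ^ a - 1) (by omega)
  have h2 : p ^ (t + a) ∣ d * (d - 1).choose (p ^ a - 1) := by
    rw [key, pow_add]
    exact mul_dvd_mul h1 dvd_rfl
  have hcop : Nat.Coprime (p ^ (t + a)) ((d - 1).choose (p ^ a - 1)) :=
    Nat.Coprime.pow_left _ ((Nat.Prime.coprime_iff_not_dvd hp).mpr hnd)
  have h3 : p ^ (t + a) ∣ d := hcop.dvd_of_dvd_mul_right h2
  -- d = δ * e
  obtain ⟨e, he⟩ := hδ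
  have hδpos : 0 < δ := by omega
  have hde : d / δ = e := by rw [he]; exact Nat.mul_div_cancel_left e hδpos
  rw [hde]
  rw [he, hδeq, pow_add, mul_comm (p ^ t) (p ^ a), mul_assoc] at h3
  have h4 : p ^ t ∣ δ' * e := Nat.dvd_of_mul_dvd_mul_left hqpos h3
  have hcop2 : Nat.Coprime (p ^ t) δ' :=
    Nat.Coprime.pow_left _ ((Nat.Prime.coprime_iff_not_dvd hp).mpr hδ')
  exact hcop2.dvd_of_dvd_mul_left h4

/-- (d / gcd d j) ∣ C(d, j) -/
lemma div_gcd_dvd_choose {d j : ℕ} (hd : 0 < d) (hj : 1 ≤ j) : d / Nat.gcd d j ∣ d.choose j := by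
  have key := Nat.add_one_mul_choose_eq (d - 1) (j - 1)
  rw [Nat.sub_add_cancel hd, Nat.sub_add_cancel hj] at key
  set g := Nat.gcd d j with hg
  have hgpos : 0 < g := Nat.gcd_pos_of_pos_left _ hd
  obtain ⟨d', hd'⟩ := Nat.gcd_dvd_left d j
  obtain ⟨j', hj'⟩ := Nat.gcd_dvd_right d j
  have hdd : d / g = d' := by rw [hd']; exact Nat.mul_div_cancel_left d' hgpos
  have hjj : j / g = j' := by rw [hj']; exact Nat.mul_div_cancel_left j' hgpos
  have hcop : Nat.Coprime d' j' := by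
    have := Nat.coprime_div_gcd_div_gcd hgpos
    rwa [hdd, hjj] at this
  rw [hdd]
  have h1 : g * (d' * (d - 1).choose (j - 1)) = g * (d.choose j * j') := by
    calc g * (d' * (d - 1).choose (j - 1)) = (g * d') * (d - 1).choose (j - 1) := by ring
      _ = d * (d - 1).choose (j - 1) := by rw [← hd']
      _ = d.choose j * j := key
      _ = d.choose j * (g * j') := by rw [← hj']
      _ = g * (d.choose j * j') := by ring
  have h2 := Nat.eq_of_mul_eq_mul_left hgpos h1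
  have h3 : d' ∣ d.choose j * j' := ⟨_, h2.symm⟩
  exact hcop.dvd_of_dvd_mul_right h3

theorem nat_gcd_eq (d N : ℕ) (hd : 1 ≤ d) :
    (Finset.Icc 1 N).gcd (fun j => d.choose j) =
      ((Finset.Icc 1 N).filter (fun δ => δ ∣ d)).gcd (fun δ => d / δ) := by
  apply Nat.dvd_antisymm
  · rw [Finset.dvd_gcd_iff]
    intro δ hδ
    rw [Finset.mem_filter, Finset.mem_Icc] at hδ
    rw [Nat.dvd_iff_prime_pow_dvd_dvd]
    intro p t hp hpt
    apply prime_pow_dvd_div hp hd hδ.2 hδ.1.1 hδ.1.2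
    intro j hj1 hjN
    exact dvd_trans hpt (Finset.gcd_dvd (Finset.mem_Icc.mpr ⟨hj1, hjN⟩))
  · rw [Finset.dvd_gcd_iff]
    intro j hj
    rw [Finset.mem_Icc] at hj
    have hg : Nat.gcd d j ∈ (Finset.Icc 1 N).filter (fun δ => δ ∣ d) := by
      rw [Finset.mem_filter, Finset.mem_Icc]
      refine ⟨⟨Nat.gcd_pos_of_pos_left _ hd, le_trans (Nat.gcd_le_right _ (by omega)) hj.2⟩,
        Nat.gcd_dvd_left _ _⟩
    exact dvd_trans (Finset.gcd_dvd hg) (div_gcd_dvd_choose hd hj.1)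


def chi (d n : ℕ) : ℤ := 1 - (-1 : ℤ) ^ n * ((d - 1).choose n : ℤ)

lemma chi_zero (d : ℕ) : chi d 0 = 0 := by simp [chi]

lemma chi_succ (d n : ℕ) (hd : 1 ≤ d) :
    chi d (n + 1) - chi d n = (-1 : ℤ) ^ n * (d.choose (n + 1) : ℤ) := by
  have hP : d.choose (n + 1) = (d - 1).choose n + (d - 1).choose (n + 1) := by
    obtain ⟨d', rfl⟩ : ∃ d', d = d' + 1 := ⟨d - 1, by omega⟩
    rw [Nat.add_sub_cancel, Nat.choose_succ_succ]
  rw [chi, chi, hP]
  push_cast
  ring

lemma int_gcd_cast {ι : Type*} (s : Finset ι) (f : ι → ℕ) :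
    s.gcd (fun i => (f i : ℤ)) = ((s.gcd f : ℕ) : ℤ) := by
  apply dvd_antisymm_of_normalize_eq Finset.normalize_gcd (Int.normalize_coe_nat _)
  · have h : ((s.gcd fun i => (f i : ℤ)).natAbs : ℕ) ∣ s.gcd f := by
      rw [Finset.dvd_gcd_iff]
      intro i hi
      have := Finset.gcd_dvd (f := fun i => (f i : ℤ)) hi
      exact Int.natAbs_dvd_natAbs.mpr this
    exact Int.natAbs_dvd.mp (Int.natCast_dvd_natCast.mpr h)
  · rw [Finset.dvd_gcd_iff]
    intro i hi
    exact Int.natCast_dvd_natCast.mpr (Finset.gcd_dvd hi)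

theorem main (d N : ℕ) (hd : 1 ≤ d) (hN : 1 ≤ N) :
    (Finset.Icc 1 N).gcd (fun n => 1 - (-1 : ℤ) ^ n * ((d - 1).choose n : ℤ)) =
      ((Finset.Icc 1 N).filter (fun δ => δ ∣ d)).gcd (fun δ => ((d / δ : ℕ) : ℤ)) := by
  rw [int_gcd_cast, ← nat_gcd_eq d N hd, ← int_gcd_cast]
  change (Finset.Icc 1 N).gcd (fun n => chi d n) = _
  apply dvd_antisymm_of_normalize_eq Finset.normalize_gcd Finset.normalize_gcd
  · rw [Finset.dvd_gcd_iff]
    intro j hj
    rw [Finset.mem_Icc] at hj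
    obtain ⟨n, rfl⟩ : ∃ n, j = n + 1 := ⟨j - 1, by omega⟩
    have h1 : (Finset.Icc 1 N).gcd (fun n => chi d n) ∣ chi d (n + 1) :=
      Finset.gcd_dvd (f := fun n => chi d n) (Finset.mem_Icc.mpr hj)
    have h2 : (Finset.Icc 1 N).gcd (fun n => chi d n) ∣ chi d n := by
      rcases Nat.eq_zero_or_pos n with rfl | hn
      · rw [chi_zero]; exact dvd_zero _
      · exact Finset.gcd_dvd (f := fun n => chi d n) (Finset.mem_Icc.mpr ⟨hn, by omega⟩)
    have h3 := dvd_sub h1 h2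
    rw [chi_succ d n hd] at h3
    have hu : IsUnit ((-1 : ℤ) ^ n) := (isUnit_neg_one (α := ℤ)).pow n
    exact (hu.dvd_mul_left).mp h3
  · rw [Finset.dvd_gcd_iff]
    -- by induction: gcd ∣ chi d n for n ≤ N
    have key : ∀ n, n ≤ N → (Finset.Icc 1 N).gcd (fun j => (d.choose j : ℤ)) ∣ chi d n := by
      intro n
      induction n with
      | zero => intro _; rw [chi_zero]; exact dvd_zero _
      | succ n ih =>
        intro hn
        have h1 := ih (by omega)
        have h2 : (Finset.Icc 1 N).gcd (fun j => (d.choose j : ℤ)) ∣ (d.choose (n + 1) : ℤ) :=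
          Finset.gcd_dvd (f := fun j => (d.choose j : ℤ)) (Finset.mem_Icc.mpr ⟨by omega, hn⟩)
        have h3 : chi d (n + 1) = chi d n + (-1 : ℤ) ^ n * (d.choose (n + 1) : ℤ) := by
          rw [← chi_succ d n hd]; ring
        rw [h3]
        exact dvd_add h1 (Dvd.dvd.mul_left h2 _)
    intro n hn
    rw [Finset.mem_Icc] at hn
    exact key n hn.2

end Aux

/-- Let d ≥ 1 and N ≥ 1 be integers and let I(d, N) be the greatest common divisor of the quotients d/δ
over the divisors δ of d with 1 ≤ δ ≤ N. Then I(d, N) equals the greatest common divisor of the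
integers χ(d, n) = 1 − (−1)^n C(d − 1, n) for 1 ≤ n ≤ N (χ(d, n) is the Euler characteristic of O_H
for a degree-d hypersurface H in projective n-space). Both greatest common divisors are taken in ℤ,
normalised to be non-negative. -/
theorem result (d N : ℕ) (hd : 1 ≤ d) (hN : 1 ≤ N) :
    (Finset.Icc 1 N).gcd (fun n => 1 - (-1 : ℤ) ^ n * ((d - 1).choose n : ℤ)) =
      ((Finset.Icc 1 N).filter (fun δ => δ ∣ d)).gcd (fun δ => ((d / δ : ℕ) : ℤ)) := by
  exact Aux.main d N hd hN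

end Groth.Agent.S17781
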