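import Groth.Statements.S17803
import Groth.Agent.Lib.Helper8.CplAway1

set_option autoImplicit false
universe u
open EGA4

namespace Groth.Agent.S17803

/-- Let A be an excellent normal domain which is a quotient of a regular ring, I an ideal of A and f ∈
A. Then the I-adic completion of the localization A_f is a normal ring (its localization at every
prime ideal is an integrally closed domain), and it is a quotient of a regular ring. -/
theorem result (A : Type u) [CommRing A] [IsDomain A] [IsIntegrallyClosed A] (hexc : EGA4.IsExcellent A) (hreg : ∃ (R : Type u) (_ : CommRing R) (_ : IsRegularRing R) (φ : R →+* A), Function.Surjective φ) (I : Ideal A) (f : A) : EGA4.IsNormalRing (AdicCompletion (I.map (algebraMap A (Localization.Away f))) (Localization.Away f)) ∧ ∃ (R' : Type u) (_ : CommRing R') (_ : IsRegularRing R') (ψ : R' →+* AdicCompletion (I.map (algebraMap A (Localization.Away f))) (Localization.Away f)), Function.Surjective ψ := by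
  obtain ⟨hN, -, hG, -⟩ := hexc
  haveI := hN
  set S := Localization.Away f with hS
  set J : Ideal S := I.map (algebraMap A S) with hJ
  have hGS : CAlg.IsGRing S :=
    Groth.Agent.Helper8.GRing.isGRing_of_isLocalization (Submonoid.powers f) hG
  have hNS : EGA4.IsNormalRing S :=
    Groth.Agent.Helper8.CplAway.isNormalRing_of_isLocalization A (Submonoid.powers f) S
  refine ⟨Groth.Agent.Helper8.CplAway.isNormalRing_adicCompletion S hGS hNS J, ?_⟩
  obtain ⟨R, _, _, φ, hφ⟩ := hreg
  letI : Algebra A A := Algebra.id A
  haveI : Algebra.FiniteType A A := inferInstance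
  obtain ⟨R₁, _, _, ψ₀, hψ₀⟩ :=
    Groth.Agent.Helper9.Reg5807.main R A A φ hφ (Submonoid.powers f)
  let ψ₁ : R₁ →+* S := ψ₀
  have hψ₁ : Function.Surjective ψ₁ := hψ₀
  set J₁ : Ideal R₁ := J.comap ψ₁ with hJ₁
  have hmap : J₁.map ψ₁ = J := Ideal.map_comap_of_surjective ψ₁ hψ₁ J
  refine ⟨AdicCompletion J₁ R₁, inferInstance,
    Groth.Agent.Helper8.RegPS.isRegularRing_adicCompletion R₁ J₁,
    FSch.complMap J₁ J ψ₁ hmap.le, ?_⟩
  exact Groth.Agent.Helper8.CplAway.complMap_surjective J₁ J ψ₁ hmap.le hψ₁ hmap.ge

end Groth.Agent.S17803
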