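import Groth.Statements.S17825
import Mathlib
-- import your own Groth.Agent.* helpers here

set_option autoImplicit false
universe u
open CategoryTheory CategoryTheory.Limits AlgebraicGeometry
open JacVar

namespace Groth.Agent.S17825

open CategoryTheory CategoryTheory.Limits AlgebraicGeometry
namespace Aux

theorem main {S : Scheme.{u}} (Y : Over S) [IsSeparated Y.hom]
    (F : (Over S)ᵒᵖ ⥤ Type u) (f : yoneda.obj Y ⟶ F) (s : F ⟶ yoneda.obj Y) (hsf : s ≫ f = 𝟙 F) :
    ∃ (Z : Over S) (i : Z ⟶ Y), IsClosedImmersion i.left ∧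
      ∃ e : F ≅ yoneda.obj Z, e.hom ≫ yoneda.map i = s := by
  -- the idempotent endomorphism of Y
  let ε : Y ⟶ Y := Yoneda.fullyFaithful.preimage (f ≫ s)
  have hε : yoneda.map ε = f ≫ s := Yoneda.fullyFaithful.map_preimage (f ≫ s)
  have hsf' : ∀ (T : (Over S)ᵒᵖ) (a : F.obj T), f.app T (s.app T a) = a := by
    intro T a
    have := congrArg (fun η : F ⟶ F => (η.app T) a) hsf
    exact this
  have hεs : ∀ (T : (Over S)ᵒᵖ) (a : F.obj T), s.app T a ≫ ε = s.app T a := by
    intro T a
    have h1 := congrArg (fun η : yoneda.obj Y ⟶ yoneda.obj Y => (η.app T) (s.app T a)) hε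
    have h2 : s.app T a ≫ ε = s.app T (f.app T (s.app T a)) := h1
    rw [h2, hsf']
  have hεf : ∀ (T : (Over S)ᵒᵖ) (x : T.unop ⟶ Y), s.app T (f.app T x) = x ≫ ε := by
    intro T x
    have h1 := congrArg (fun η : yoneda.obj Y ⟶ yoneda.obj Y => (η.app T) x) hε
    have h2 : x ≫ ε = s.app T (f.app T x) := h1
    exact h2.symm
  let Z : Over S := equalizer (𝟙 Y) ε
  let i : Z ⟶ Y := equalizer.ι (𝟙 Y) ε
  have hi : i ≫ ε = i := by
    have := equalizer.condition (𝟙 Y) ε
    rw [Category.comp_id] at this
    exact this.symm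
  refine ⟨Z, i, isClosedImmersion_equalizer_ι_left (𝟙 Y) ε, ?_⟩
  let homT : ∀ T : (Over S)ᵒᵖ, F.obj T → (T.unop ⟶ Z) := fun T a =>
    equalizer.lift (s.app T a) (by rw [Category.comp_id, hεs])
  have homT_ι : ∀ (T : (Over S)ᵒᵖ) (a : F.obj T), homT T a ≫ i = s.app T a := by
    intro T a
    exact equalizer.lift_ι _ _
  let hom : F ⟶ yoneda.obj Z :=
    { app := fun T => ↾(fun a => homT T a)
      naturality := by
        intro T T' h
        ext a
        apply equalizer.hom_ext
        change homT T' (F.map h a) ≫ i = (h.unop ≫ homT T a) ≫ i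
        rw [homT_ι, Category.assoc, homT_ι]
        have := congrArg (fun η : F.obj T ⟶ (yoneda.obj Y).obj T' => η a) (s.naturality h)
        exact this }
  let inv : yoneda.obj Z ⟶ F := yoneda.map i ≫ f
  refine ⟨⟨hom, inv, ?_, ?_⟩, ?_⟩
  · ext T a
    change f.app T (homT T a ≫ i) = a
    rw [homT_ι, hsf']
  · ext T b
    apply equalizer.hom_ext
    change homT T (f.app T (b ≫ i)) ≫ i = b ≫ i
    rw [homT_ι, hεf, Category.assoc, hi]
  · ext T a
    change homT T a ≫ i = s.app T a
    exact homT_ι T a

end Aux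

/-- Let S be a scheme, Y an S-scheme separated over S, F a presheaf of sets on the category of
S-schemes, f : h_Y ⟶ F a morphism from the functor of points of Y, and s : F ⟶ h_Y a section of f (s
followed by f is the identity). Then F is represented by a closed subscheme of Y: there are an
S-scheme Z, a morphism i : Z ⟶ Y over S which is a closed immersion, and an isomorphism F ≅ h_Z
whose composite with h_i : h_Z ⟶ h_Y is s. (The published lemma treats the case where Y is the r-th
symmetric power of a curve, F the functor of degree-r invertible families modulo twisting and f the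
divisor-class map.) -/
theorem result {S : Scheme.{u}} (Y : Over S) [IsSeparated Y.hom]
    (F : (Over S)ᵒᵖ ⥤ Type u) (f : yoneda.obj Y ⟶ F) (s : F ⟶ yoneda.obj Y) (hsf : s ≫ f = 𝟙 F) :
    ∃ (Z : Over S) (i : Z ⟶ Y), IsClosedImmersion i.left ∧
      ∃ e : F ≅ yoneda.obj Z, e.hom ≫ yoneda.map i = s := by
  exact Aux.main Y F f s hsf

end Groth.Agent.S17825
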