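import Groth.Statements.S17843
import Mathlib
-- import your own Groth.Agent.* helpers here

set_option autoImplicit false
universe u v
open CAlg

namespace Groth.Agent.S17843

open Polynomial
namespace Aux

lemma lift_poly {R : Type u} [CommRing R] (r : R) (P : (Localization.Away r)[X]) (a : R)
    (ha : algebraMap R (Localization.Away r) a = P.eval 0) :
    ∃ e : ℕ, ∀ n, e ≤ n → ∃ Q : R[X], Q.eval 0 = a ∧
      Q.map (algebraMap R (Localization.Away r)) =
        P.comp (C (algebraMap R (Localization.Away r) (r ^ n)) * X) := by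
  classical
  set S := Localization.Away r
  set ρ := algebraMap R S r with hρ
  have hsurj : ∀ k : ℕ, ∃ (e : ℕ) (c : R), P.coeff k * ρ ^ e = algebraMap R S c :=
    fun k => IsLocalization.Away.surj r (P.coeff k)
  choose ek ck hck using hsurj
  set d := P.natDegree
  refine ⟨(Finset.range (d + 1)).sup ek, ?_⟩
  intro n hn
  let q : ℕ → R := fun k => if k = 0 then a else ck k * r ^ (n * k - ek k)
  refine ⟨∑ k ∈ Finset.range (d + 1), monomial k (q k), ?_, ?_⟩
  · rw [← coeff_zero_eq_eval_zero, finsetSum_coeff]
    simp only [coeff_monomial]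
    rw [Finset.sum_eq_single 0]
    · simp [q]
    · intro k _ hk; rw [if_neg hk]
    · intro h; exact absurd (Finset.mem_range.mpr (Nat.succ_pos d)) h
  · ext j
    rw [coeff_map, finsetSum_coeff, comp_C_mul_X_coeff]
    simp only [coeff_monomial]
    by_cases hj : j ∈ Finset.range (d + 1)
    · rw [Finset.sum_eq_single j]
      · rw [if_pos rfl]
        by_cases hj0 : j = 0
        · subst hj0
          simp only [q, if_true, pow_zero, mul_one]
          rw [ha, coeff_zero_eq_eval_zero]
        · simp only [q, if_neg hj0]
          have h1 : ek j ≤ n * j := by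
            have h2 : ek j ≤ n := le_trans (Finset.le_sup hj) hn
            have h3 : n ≤ n * j := Nat.le_mul_of_pos_right n (Nat.pos_of_ne_zero hj0)
            omega
          rw [map_mul, ← hck j, map_pow, map_pow, ← pow_mul, mul_assoc, ← pow_add]
          congr 2; omega
      · intro k _ hk; rw [if_neg hk]
      · intro h; exact absurd hj h
    · rw [Finset.sum_eq_zero, map_zero]
      · have : d < j := by
          rw [Finset.mem_range] at hj; omega
        rw [coeff_eq_zero_of_natDegree_lt this, zero_mul]
      · intro k hk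
        rw [if_neg]
        intro hkj; subst hkj; exact hj hk

theorem main
    (R : Type u) (B : Type v) [CommRing R] [CommRing B] [Algebra R B]
    [Algebra.FinitePresentation R B] (r : R)
    (x : B →ₐ[R] Polynomial (Localization.Away r))
    (x₀ : B →ₐ[R] R)
    (hx₀ : (algebraMap R (Localization.Away r)).comp x₀.toRingHom =
      (Polynomial.evalRingHom 0).comp x.toRingHom) :
    ∃ N : ℕ, ∀ n : ℕ, N ≤ n →
      ∃ y : B →ₐ[R] Polynomial R,
        (Polynomial.evalRingHom 0).comp y.toRingHom = x₀.toRingHom ∧
        (Polynomial.mapRingHom (algebraMap R (Localization.Away r))).comp y.toRingHom =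
          (Polynomial.aeval (Polynomial.C (algebraMap R (Localization.Away r) (r ^ n)) * Polynomial.X) :
              Polynomial (Localization.Away r) →ₐ[Localization.Away r] Polynomial (Localization.Away r)).toRingHom.comp
            x.toRingHom := by
  classical
  obtain ⟨m, f, hf, hker⟩ := Algebra.FinitePresentation.out (R := R) (A := B)
  set S := Localization.Away r
  set ρ := algebraMap R S r with hρ
  let a : Fin m → R := fun i => x₀ (f (MvPolynomial.X i))
  let P : Fin m → S[X] := fun i => x (f (MvPolynomial.X i))
  have ha : ∀ i, algebraMap R S (a i) = (P i).eval 0 := by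
    intro i
    have := congrArg (fun φ : B →+* S => φ (f (MvPolynomial.X i))) hx₀
    exact this
  choose e hQ using fun i => lift_poly r (P i) (a i) (ha i)
  set n₀ := Finset.univ.sup e with hn₀
  choose Q hQ0 hQmap using fun i => hQ i n₀ (Finset.le_sup (Finset.mem_univ i))
  -- the maps ỹ s
  let yt : ℕ → (MvPolynomial (Fin m) R →ₐ[R] R[X]) := fun s =>
    MvPolynomial.aeval (fun i => (Q i).comp (C (r ^ s) * X))
  have hyt_X : ∀ s i, yt s (MvPolynomial.X i) = (Q i).comp (C (r ^ s) * X) := by
    intro s i; simp [yt]
  -- (2) compatibility with x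
  have hcompat : ∀ s g, (yt s g).map (algebraMap R S) =
      (x (f g)).comp (C (algebraMap R S (r ^ (n₀ + s))) * X) := by
    intro s g
    induction g using MvPolynomial.induction_on with
    | C c =>
      rw [MvPolynomial.algHom_C, MvPolynomial.algHom_C, Polynomial.algebraMap_apply,
        Algebra.algebraMap_self, RingHom.id_apply, map_C]
      have : x (algebraMap R B c) = C (algebraMap R S c) := by
        rw [x.commutes, Polynomial.algebraMap_apply, IsScalarTower.algebraMap_apply R S S,
          Algebra.algebraMap_self, RingHom.id_apply]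
      rw [this, C_comp]
    | add p q hp hq => rw [map_add, Polynomial.map_add, hp, hq, map_add, map_add, add_comp]
    | mul_X p i hp =>
      rw [map_mul, Polynomial.map_mul, hp, map_mul, map_mul, mul_comp, hyt_X]
      congr 1
      rw [Polynomial.map_comp, hQmap, Polynomial.map_mul, map_C, map_X, comp_assoc, mul_comp, C_comp,
        X_comp, ← mul_assoc, ← C_mul, ← map_mul, ← pow_add]
  -- (3') constant terms
  have hconst : ∀ s g, (yt s g).eval 0 = x₀ (f g) := by
    intro s g
    have : ((Polynomial.aeval (0 : R)).comp (yt s) : MvPolynomial (Fin m) R →ₐ[R] R) = x₀.comp f := by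
      apply MvPolynomial.algHom_ext
      intro i
      simp only [AlgHom.comp_apply, hyt_X, coe_aeval_eq_eval, eval_comp, eval_mul, eval_C, eval_X,
        mul_zero]
      exact hQ0 i
    have h2 := congrArg (fun φ : MvPolynomial (Fin m) R →ₐ[R] R => φ g) this
    simpa using h2
  -- (4) yt s = comp ∘ yt 0
  have hyt_s : ∀ s g, yt s g = (yt 0 g).comp (C (r ^ s) * X) := by
    intro s g
    have : yt s = ((Polynomial.aeval (C (r ^ s) * X : R[X]) : R[X] →ₐ[R] R[X])).comp (yt 0) := by
      apply MvPolynomial.algHom_ext
      intro i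
      simp only [AlgHom.comp_apply, hyt_X, pow_zero, map_one, one_mul, comp_X]
      rfl
    rw [this]; rfl
  -- generators of the kernel
  obtain ⟨G, hG⟩ := hker
  have hGker : ∀ g ∈ G, f g = 0 := by
    intro g hg
    have : g ∈ RingHom.ker f.toRingHom := by rw [← hG]; exact Ideal.subset_span hg
    exact this
  have htors : ∀ g ∈ G, ∀ k : ℕ, ∃ t : ℕ, r ^ t * (yt 0 g).coeff k = 0 := by
    intro g hg k
    have h1 := hcompat 0 g
    rw [hGker g hg, map_zero, zero_comp] at h1
    have h2 := congrArg (fun p : S[X] => p.coeff k) h1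
    simp only [coeff_map, coeff_zero] at h2
    obtain ⟨⟨_, t, rfl⟩, ht⟩ := (IsLocalization.map_eq_zero_iff (Submonoid.powers r) S _).mp h2
    exact ⟨t, ht⟩
  have htors' : ∃ M : ℕ, ∀ g ∈ G, ∀ k : ℕ, r ^ M * (yt 0 g).coeff k = 0 := by
    choose! t ht using htors
    refine ⟨G.sup (fun g => (Finset.range ((yt 0 g).natDegree + 1)).sup (t g)), ?_⟩
    intro g hg k
    by_cases hk : k ∈ Finset.range ((yt 0 g).natDegree + 1)
    · have h1 : t g k ≤ G.sup (fun g => (Finset.range ((yt 0 g).natDegree + 1)).sup (t g)) :=
        le_trans (Finset.le_sup hk) (Finset.le_sup (f := fun g => (Finset.range ((yt 0 g).natDegree + 1)).sup (t g)) hg)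
      obtain ⟨dd, hdd⟩ := Nat.exists_eq_add_of_le h1
      rw [hdd, pow_add, mul_comm (r ^ t g k), mul_assoc, ht g hg k, mul_zero]
    · have : (yt 0 g).natDegree < k := by
        rw [Finset.mem_range] at hk; omega
      rw [coeff_eq_zero_of_natDegree_lt this, mul_zero]
  obtain ⟨M, hM⟩ := htors'
  refine ⟨n₀ + M, ?_⟩
  intro n hn
  obtain ⟨s, rfl⟩ : ∃ s, n = n₀ + s := ⟨n - n₀, by omega⟩
  have hs : M ≤ s := by omega
  -- yt s kills the kernel
  have hkill : ∀ g ∈ G, yt s g = 0 := by
    intro g hg
    ext k
    rw [hyt_s, comp_C_mul_X_coeff, coeff_zero]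
    by_cases hk : k = 0
    · subst hk
      rw [coeff_zero_eq_eval_zero, hconst, hGker g hg, map_zero, zero_mul]
    · have h1 : M ≤ s * k := le_trans hs (Nat.le_mul_of_pos_right s (Nat.pos_of_ne_zero hk))
      obtain ⟨dd, hdd⟩ := Nat.exists_eq_add_of_le h1
      rw [← pow_mul, hdd, pow_add, mul_comm, mul_assoc, mul_left_comm, hM g hg k, mul_zero]
  have hle : RingHom.ker f.toRingHom ≤ RingHom.ker (yt s).toRingHom := by
    rw [← hG, Ideal.span_le]
    intro g hg
    exact hkill g hg
  have hle' : ∀ g : MvPolynomial (Fin m) R, g ∈ RingHom.ker f → yt s g = 0 := fun g hg => hle hg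
  let y : B →ₐ[R] R[X] :=
    (Ideal.Quotient.liftₐ (RingHom.ker f) (yt s) hle').comp
      (Ideal.quotientKerAlgEquivOfSurjective hf).symm.toAlgHom
  have hy : ∀ g, y (f g) = yt s g := by
    intro g
    have : (Ideal.quotientKerAlgEquivOfSurjective hf).symm (f g) = Ideal.Quotient.mk _ g := by
      rw [AlgEquiv.symm_apply_eq]
      rfl
    change (Ideal.Quotient.liftₐ (RingHom.ker f) (yt s) hle')
      ((Ideal.quotientKerAlgEquivOfSurjective hf).symm (f g)) = _
    rw [this]
    rfl
  refine ⟨y, ?_, ?_⟩
  · ext b
    obtain ⟨g, rfl⟩ := hf b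
    simp only [RingHom.comp_apply, AlgHom.toRingHom_eq_coe, RingHom.coe_coe, coe_evalRingHom, hy]
    exact hconst s g
  · ext b : 1
    obtain ⟨g, rfl⟩ := hf b
    simp only [RingHom.comp_apply, AlgHom.toRingHom_eq_coe, RingHom.coe_coe, coe_mapRingHom, hy]
    rw [hcompat s g]
    rfl

end Aux

/-- In the case of an affine scheme of finite presentation, let B be a finitely presented R-algebra, r ∈
R, and x : B → R[1/r][T] an R-algebra homomorphism whose value at T = 0, a homomorphism B → R[1/r],
is induced by a homomorphism x̃₀ : B → R. Then for every large enough n, the homomorphism x(rⁿT) : B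
→ R[1/r][T] is induced by a homomorphism x̃ : B → R[T] whose value at T = 0 is x̃₀. The published
statement is for algebraic spaces locally of finite presentation over R; this row takes an affine
scheme of finite presentation. -/
theorem result
    (R : Type u) (B : Type v) [CommRing R] [CommRing B] [Algebra R B]
    [Algebra.FinitePresentation R B] (r : R)
    (x : B →ₐ[R] Polynomial (Localization.Away r))
    (x₀ : B →ₐ[R] R)
    (hx₀ : (algebraMap R (Localization.Away r)).comp x₀.toRingHom =
      (Polynomial.evalRingHom 0).comp x.toRingHom) :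
    ∃ N : ℕ, ∀ n : ℕ, N ≤ n →
      ∃ y : B →ₐ[R] Polynomial R,
        (Polynomial.evalRingHom 0).comp y.toRingHom = x₀.toRingHom ∧
        (Polynomial.mapRingHom (algebraMap R (Localization.Away r))).comp y.toRingHom =
          (Polynomial.aeval (Polynomial.C (algebraMap R (Localization.Away r) (r ^ n)) * Polynomial.X) :
              Polynomial (Localization.Away r) →ₐ[Localization.Away r] Polynomial (Localization.Away r)).toRingHom.comp
            x.toRingHom := by
  exact Aux.main R B r x x₀ hx₀

end Groth.Agent.S17843
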