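import Groth.Statements.S17859
import Mathlib
-- import your own Groth.Agent.* helpers here

set_option autoImplicit false
open CategoryTheory MonoidalCategory
universe u
open Algz

namespace Groth.Agent.S17859

open CategoryTheory MonoidalCategory TensorProduct
namespace Aux

/-- finite dual basis of a finitely generated projective module -/
lemma exists_dualBasis (R : Type u) [CommRing R] (M : Type u) [AddCommGroup M] [Module R M]
    [Module.Finite R M] [Module.Projective R M] :
    ∃ (n : ℕ) (m : Fin n → M) (f : Fin n → Module.Dual R M), ∀ x, ∑ i, f i x • m i = x := by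
  obtain ⟨n, p, hp⟩ := Module.Finite.exists_fin' R M
  obtain ⟨s, hs⟩ := Module.projective_lifting_property p LinearMap.id hp
  refine ⟨n, fun i => p (Pi.single i 1), fun i => (LinearMap.proj i) ∘ₗ s, fun x => ?_⟩
  have h1 : p (s x) = x := congrArg (fun g => g x) hs
  conv_rhs => rw [← h1]
  have h2 : s x = ∑ i, (s x i) • (Pi.single i 1 : Fin n → R) := by
    ext j
    simp [Finset.sum_apply, Pi.single_apply]
  conv_rhs => rw [h2, map_sum]
  simp

section
variable {R : Type u} [CommRing R] {M : Type u} [AddCommGroup M] [Module R M]
  {n : ℕ} (m : Fin n → M) (f : Fin n → Module.Dual R M) (hmf : ∀ x, ∑ i, f i x • m i = x)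

include hmf in
lemma zig1 (g : Module.Dual R M) (r : R) :
    (LinearMap.rTensor (Module.Dual R M) (TensorProduct.lift (LinearMap.id : Module.Dual R M →ₗ[R] _)))
      ((TensorProduct.assoc R (Module.Dual R M) M (Module.Dual R M)).symm
        ((LinearMap.lTensor (Module.Dual R M)
          (LinearMap.toSpanSingleton R (M ⊗[R] Module.Dual R M) (∑ i, m i ⊗ₜ f i))) (g ⊗ₜ[R] r))) =
    (1 : R) ⊗ₜ[R] (TensorProduct.rid R (Module.Dual R M)) (g ⊗ₜ[R] r) := by
  have hsum : ∑ i, g (m i) • f i = g := by
    ext x
    simp only [LinearMap.sum_apply, LinearMap.smul_apply, smul_eq_mul]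
    conv_rhs => rw [← hmf x, map_sum]
    refine Finset.sum_congr rfl fun i _ => ?_
    rw [map_smul, smul_eq_mul, mul_comm]
  simp only [LinearMap.lTensor_tmul, LinearMap.toSpanSingleton_apply, tmul_smul, tmul_sum, map_sum,
    map_smul, TensorProduct.assoc_symm_tmul, LinearMap.rTensor_tmul, TensorProduct.lift.tmul,
    LinearMap.id_apply, TensorProduct.rid_tmul]
  conv_rhs => rw [← hsum]
  rw [Finset.smul_sum, tmul_sum, Finset.smul_sum]
  refine Finset.sum_congr rfl fun i _ => ?_
  rw [← smul_tmul (g (m i)) (1 : R) (f i), smul_eq_mul, mul_one]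

include hmf in
lemma zig2 (r : R) (x : M) :
    (LinearMap.lTensor M (TensorProduct.lift (LinearMap.id : Module.Dual R M →ₗ[R] _)))
      ((TensorProduct.assoc R M (Module.Dual R M) M)
        ((LinearMap.rTensor M
          (LinearMap.toSpanSingleton R (M ⊗[R] Module.Dual R M) (∑ i, m i ⊗ₜ f i))) (r ⊗ₜ[R] x))) =
    (TensorProduct.lid R M) (r ⊗ₜ[R] x) ⊗ₜ[R] (1 : R) := by
  simp only [LinearMap.rTensor_tmul, LinearMap.toSpanSingleton_apply, smul_tmul', sum_tmul, map_sum,
    map_smul, TensorProduct.assoc_tmul, LinearMap.lTensor_tmul, TensorProduct.lift.tmul,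
    LinearMap.id_apply, TensorProduct.lid_tmul, Finset.smul_sum]
  conv_rhs => rw [← hmf x]
  rw [Finset.smul_sum, sum_tmul]
  refine Finset.sum_congr rfl fun i _ => ?_
  rw [← smul_tmul', ← smul_tmul', smul_tmul, smul_eq_mul, mul_one]

end

theorem main (R : Type u) [CommRing R] (M : ModuleCat.{u} R)
    [Module.Finite R M] [Module.Projective R M] : Nonempty (HasRightDual M) := by
  obtain ⟨n, m, f, hmf⟩ := exists_dualBasis R M
  let Y : ModuleCat.{u} R := ModuleCat.of R (Module.Dual R M)
  let η : 𝟙_ (ModuleCat.{u} R) ⟶ M ⊗ Y :=
    ModuleCat.ofHom (LinearMap.toSpanSingleton R (M ⊗[R] Module.Dual R M) (∑ i, m i ⊗ₜ f i))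
  let ε : Y ⊗ M ⟶ 𝟙_ (ModuleCat.{u} R) :=
    ModuleCat.ofHom (TensorProduct.lift (LinearMap.id : Module.Dual R M →ₗ[R] Module.Dual R M))
  refine ⟨{ rightDual := Y, exact := { coevaluation' := η, evaluation' := ε, coevaluation_evaluation' := ?_, evaluation_coevaluation' := ?_ } }⟩
  · apply ModuleCat.MonoidalCategory.tensor_ext
    intro g r
    exact zig1 m f hmf g r
  · apply ModuleCat.MonoidalCategory.tensor_ext
    intro r x
    exact zig2 m f hmf r x

end Aux

/-- Over an affine scheme, that is for modules over a commutative ring `R`, a finitely generated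
projective `R`-module `M`, viewed as an object of the monoidal category of `R`-modules (tensor
product over `R`), has a right dual. (The published statement is the equivalence, for quasi-coherent
sheaves on a quasi-compact quasi-separated scheme, between being dualizable and being a vector
bundle; stated here is the affine case of the implication from vector bundle to dualizable. The
converse implication, that a module admitting a dual is finitely generated projective, is stated
separately and is not repeated here.) -/
theorem result (R : Type u) [CommRing R] (M : ModuleCat.{u} R)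
    [Module.Finite R M] [Module.Projective R M] : Nonempty (HasRightDual M) := by
  exact Aux.main R M

end Groth.Agent.S17859
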