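import Groth.Statements.S17860
import Mathlib
import Groth.Agent.Lib.Lead.FLF2
import Groth.Agent.Lib.Lead.PB2
import Groth.Agent.Lib.Helper8.ExtScal

set_option autoImplicit false
open CategoryTheory AlgebraicGeometry
universe u
open Algz

namespace Groth.Agent.S17860

section
open CategoryTheory AlgebraicGeometry

open Scheme.Modules TensorProduct Groth.Agent.Lead

/-- restrict an epimorphism from a free module to a basic open and read it as a surjection of
modules over the localisation -/
theorem exists_surj_of_epi (R : CommRingCat.{u}) (M : ModuleCat.{u} R) (n : ℕ)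
    (U : (Spec R).Opens) (φ : FlatMod.freeMod (↑U) n ⟶ (tilde M).restrict U.ι) [Epi φ]
    (a : R) (ha : PrimeSpectrum.basicOpen a ≤ U) :
    ∃ g : ModuleCat.of (Localization.Away a) (ULift.{u} (Fin n) →₀ Localization.Away a) ⟶
        (ModuleCat.extendScalars (algebraMap R (Localization.Away a))).obj M,
      Function.Surjective g.hom := by
  let S : CommRingCat.{u} := CommRingCat.of (Localization.Away a)
  let ψ : R ⟶ S := CommRingCat.ofHom (algebraMap R (Localization.Away a))
  have hr : Set.range (Spec.map ψ) ⊆ Set.range U.ι := by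
    rw [Scheme.Opens.range_ι]
    intro x hx
    have h1 : x ∈ (Spec.map ψ).opensRange := hx
    rw [Scheme.Hom.opensRange_localizationAway] at h1
    exact ha h1
  let k : Spec S ⟶ (U : Scheme.{u}) := IsOpenImmersion.lift U.ι (Spec.map ψ) hr
  have hk : k ≫ U.ι = Spec.map ψ := IsOpenImmersion.lift_fac _ _ _
  haveI : IsOpenImmersion (k ≫ U.ι) := by rw [hk]; infer_instance
  haveI : IsOpenImmersion k := IsOpenImmersion.of_comp k U.ι
  let φ' := (restrictFunctor k).map φ
  haveI : Epi φ' := inferInstance
  let e1 : (FlatMod.freeMod (↑U) n).restrict k ≅ FlatMod.freeMod (Spec S) n :=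
    FLF.freeRestrictIso k n
  let e2 : ((tilde M).restrict U.ι).restrict k ≅ (tilde M).restrict (Spec.map ψ) :=
    ((restrictFunctorComp k U.ι).app (tilde M)).symm ≪≫ (restrictFunctorCongr hk).app (tilde M)
  let e3 : (tilde M).restrict (Spec.map ψ) ≅ tilde ((ModuleCat.extendScalars ψ.hom).obj M) :=
    FLF.tildeRestrictIso ψ M
  let χ : (tilde.functor S).obj (ModuleCat.of S (ULift.{u} (Fin n) →₀ S)) ⟶
      (tilde.functor S).obj ((ModuleCat.extendScalars ψ.hom).obj M) :=
    (FLF.tildeFreeIso S n).hom ≫ e1.inv ≫ φ' ≫ e2.hom ≫ e3.hom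
  haveI : Epi χ := by
    show Epi ((FLF.tildeFreeIso S n).hom ≫ e1.inv ≫ φ' ≫ e2.hom ≫ e3.hom)
    infer_instance
  let g := (tilde.fullyFaithfulFunctor (R := S)).preimage χ
  have hg : (tilde.functor S).map g = χ := (tilde.fullyFaithfulFunctor (R := S)).map_preimage χ
  haveI : Epi ((tilde.functor S).map g) := by rw [hg]; infer_instance
  haveI : (tilde.functor S).Faithful := (tilde.fullyFaithfulFunctor (R := S)).faithful
  haveI : (tilde.functor S).ReflectsEpimorphisms := Functor.reflectsEpimorphisms_of_faithful _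
  haveI : Epi g := (tilde.functor S).epi_of_epi_map inferInstance
  exact ⟨g, (ModuleCat.epi_iff_surjective g).1 inferInstance⟩

theorem cover_partition (R : CommRingCat.{u}) (m : ℕ) (U : Fin m → (Spec R).Opens)
    (hU : ⨆ i, U i = ⊤) :
    ∃ a : Fin m → R, (∀ i, PrimeSpectrum.basicOpen (a i) ≤ U i) ∧ ∑ i, a i = 1 := by
  let I : Fin m → Ideal R := fun i => PrimeSpectrum.vanishingIdeal (((U i).1 : Set (PrimeSpectrum R))ᶜ)
  have hI : ∀ i, ∀ a ∈ I i, PrimeSpectrum.basicOpen a ≤ U i := by
    intro i a ha p hp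
    by_contra hpU
    have : a ∈ p.asIdeal := (PrimeSpectrum.mem_vanishingIdeal _ _).1 ha p hpU
    exact hp this
  have htop : iSup I = ⊤ := by
    by_contra hne
    obtain ⟨P, hP, hle⟩ := Ideal.exists_le_maximal _ hne
    let p : PrimeSpectrum R := ⟨P, hP.isPrime⟩
    have hp : p ∈ (⨆ i, U i : (Spec R).Opens) := by rw [hU]; trivial
    obtain ⟨i, hi⟩ := TopologicalSpace.Opens.mem_iSup.1 hp
    obtain ⟨_, ⟨_, ⟨f, rfl⟩, rfl⟩, hpf, hfU⟩ :=
      PrimeSpectrum.isBasis_basic_opens.exists_subset_of_mem_open hi (U i).2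
    have hfI : f ∈ I i := by
      rw [PrimeSpectrum.mem_vanishingIdeal]
      intro q hq
      by_contra hfq
      exact hq (hfU hfq)
    exact hpf (hle (le_iSup I i hfI))
  have h1 : (1 : R) ∈ iSup I := by rw [htop]; trivial
  obtain ⟨f, hf, hsum⟩ := (Submodule.mem_iSup_iff_exists_finsupp I 1).1 h1
  refine ⟨fun i => f i, fun i => hI i _ (hf i), ?_⟩
  rw [← hsum, Finsupp.sum_fintype]
  intro i; rfl

theorem exists_gens {R : Type u} [CommRing R] (a : R) (M : Type u) [AddCommGroup M] [Module R M]
    (n : ℕ)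
    (g : (ULift.{u} (Fin n) →₀ Localization.Away a) →ₗ[Localization.Away a]
      (Localization.Away a ⊗[R] M)) (hg : Function.Surjective g) :
    ∃ m : Fin n → M, Submodule.span (Localization.Away a)
      (Set.range fun j => (1 : Localization.Away a) ⊗ₜ[R] m j) = ⊤ := by
  have hloc : IsLocalizedModule (Submonoid.powers a)
      (TensorProduct.mk R (Localization.Away a) M 1) :=
    IsLocalization.tensorProduct_isLocalizedModule _ _
  choose x hx using fun j : Fin n =>
    IsLocalizedModule.surj (Submonoid.powers a) (TensorProduct.mk R (Localization.Away a) M 1)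
      (g (Finsupp.single ⟨j⟩ 1))
  refine ⟨fun j => (x j).1, ?_⟩
  rw [eq_top_iff]
  intro z hz
  clear hz
  obtain ⟨w, rfl⟩ := hg z
  clear hg
  induction w using Finsupp.induction_linear with
  | zero => simp
  | add u v hu hv => rw [map_add]; exact Submodule.add_mem _ hu hv
  | single j c =>
    obtain ⟨j⟩ := j
    have h1 : Finsupp.single (ULift.up j) c = c • Finsupp.single (ULift.up j)
        (1 : Localization.Away a) := by
      rw [Finsupp.smul_single, smul_eq_mul, mul_one]
    rw [h1, _root_.map_smul]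
    refine Submodule.smul_mem _ _ ?_
    have h2 := hx j
    have hu : IsUnit (algebraMap R (Localization.Away a) ((x j).2 : R)) :=
      IsLocalization.map_units _ (x j).2
    obtain ⟨u, hu'⟩ := hu
    have h3 : g (Finsupp.single ⟨j⟩ 1) = (↑u⁻¹ : Localization.Away a) •
        ((1 : Localization.Away a) ⊗ₜ[R] (x j).1) := by
      have h4 : ((x j).2 : R) • g (Finsupp.single ⟨j⟩ 1) =
          (1 : Localization.Away a) ⊗ₜ[R] (x j).1 := h2
      rw [← h4, ← algebraMap_smul (Localization.Away a) ((x j).2 : R), ← hu', smul_smul,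
        Units.inv_mul, one_smul]
    rw [h3]
    exact Submodule.smul_mem _ _ (Submodule.subset_span ⟨j, rfl⟩)

theorem isFFFamily_away {R : Type u} [CommRing R] {m : ℕ} (a : Fin m → R) (ha : ∑ i, a i = 1) :
    PB.IsFFFamily R (fun i => Localization.Away (a i)) := by
  refine ⟨fun i => IsLocalization.flat _ (Submonoid.powers (a i)), fun p => ?_⟩
  have : ∃ i, a i ∉ p.asIdeal := by
    by_contra hcon
    simp only [not_exists, not_not] at hcon
    have : (1 : R) ∈ p.asIdeal := by rw [← ha]; exact Ideal.sum_mem _ fun i _ => hcon i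
    exact p.isPrime.ne_top ((Ideal.eq_top_iff_one _).2 this)
  obtain ⟨i, hi⟩ := this
  have hr : p ∈ Set.range (PrimeSpectrum.comap (algebraMap R (Localization.Away (a i)))) := by
    rw [PrimeSpectrum.localization_away_comap_range (Localization.Away (a i)) (a i)]
    exact hi
  obtain ⟨q, hq⟩ := hr
  exact ⟨i, q, hq⟩

theorem main (R : CommRingCat.{u}) (M : ModuleCat.{u} R)
    [Module.Finite R M] (n m : ℕ) (U : Fin m → (Spec R).Opens) (hU : ⨆ i, U i = ⊤)
    (hgen : ∀ i, ∃ φ : FlatMod.freeMod (↑(U i)) n ⟶ (AlgebraicGeometry.tilde M).restrict (U i).ι, Epi φ) :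
    ∃ s : Fin (n * m) → M, Submodule.span R (Set.range s) = ⊤ := by
  obtain ⟨a, haU, hsum⟩ := cover_partition R m U hU
  have hFF := isFFFamily_away a hsum
  have h1 : ∀ i, ∃ mm : Fin n → M, Submodule.span (Localization.Away (a i))
      (Set.range fun j => (1 : Localization.Away (a i)) ⊗ₜ[R] mm j) = ⊤ := by
    intro i
    obtain ⟨φ, hφ⟩ := hgen i
    obtain ⟨g, hg⟩ := exists_surj_of_epi R M n (U i) φ (a i) (haU i)
    let e := Groth.Agent.Helper8.extScalEquiv (R := R) (S := Localization.Away (a i)) M
    exact exists_gens (a i) M n (e.toLinearMap ∘ₗ g.hom) (e.surjective.comp hg)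
  choose mm hmm using h1
  let s : Fin (n * m) → M := fun p => mm (finProdFinEquiv.symm p).2 (finProdFinEquiv.symm p).1
  refine ⟨s, ?_⟩
  let N : Submodule R M := Submodule.span R (Set.range s)
  have hs : Function.Surjective N.subtype := by
    refine hFF.surjective N.subtype fun i => ?_
    have hr : LinearMap.range (N.subtype.baseChange (Localization.Away (a i))) = ⊤ := by
      rw [← top_le_iff, ← hmm i, Submodule.span_le]
      rintro _ ⟨j, rfl⟩
      have hmem : mm i j ∈ N := Submodule.subset_span ⟨finProdFinEquiv (j, i), by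
        show mm (finProdFinEquiv.symm (finProdFinEquiv (j, i))).2
          (finProdFinEquiv.symm (finProdFinEquiv (j, i))).1 = mm i j
        rw [Equiv.symm_apply_apply]⟩
      exact ⟨1 ⊗ₜ ⟨mm i j, hmem⟩, by simp⟩
    intro z
    have hz : z ∈ LinearMap.range (N.subtype.baseChange (Localization.Away (a i))) := by
      rw [hr]; trivial
    obtain ⟨w, hw⟩ := hz
    exact ⟨w, hw⟩
  rw [eq_top_iff]
  intro x _
  obtain ⟨⟨y, hy⟩, rfl⟩ := hs x
  exact hy


end


/-- Let `R` be a commutative ring and `M` a finite `R`-module. Suppose `Spec R` is covered by opens `U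
0, …, U (m-1)` (not necessarily affine) such that over each `U i` the restriction of the associated
sheaf of modules `M~` is a quotient of the free module of rank `n` (it is generated by `n` sections
over `U i`). Then `M` is generated by `n * m` elements. -/
theorem result (R : CommRingCat.{u}) (M : ModuleCat.{u} R)
    [Module.Finite R M] (n m : ℕ) (U : Fin m → (Spec R).Opens) (hU : ⨆ i, U i = ⊤)
    (hgen : ∀ i, ∃ φ : FlatMod.freeMod (↑(U i)) n ⟶ (AlgebraicGeometry.tilde M).restrict (U i).ι, Epi φ) :
    ∃ s : Fin (n * m) → M, Submodule.span R (Set.range s) = ⊤ := by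
  classical
  exact main R M n m U hU hgen

end Groth.Agent.S17860
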