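import Groth.Statements.S17863
import Mathlib
-- import your own Groth.Agent.* helpers here

set_option autoImplicit false
open CategoryTheory AlgebraicGeometry
universe u
open Algz

namespace Groth.Agent.S17863

open AlgebraicGeometry CategoryTheory
namespace Aux

theorem main (A : Type u) [CommRing A] (I : Ideal A) [IsAdicComplete I A]
    (X : Scheme.{u}) [X.IsQuasiAffine] :
    (∀ f g : Spec (CommRingCat.of A) ⟶ X,
      (∀ n : ℕ, Spec.map (CommRingCat.ofHom (Ideal.Quotient.mk (I ^ n))) ≫ f =
        Spec.map (CommRingCat.ofHom (Ideal.Quotient.mk (I ^ n))) ≫ g) → f = g) ∧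
    (∀ e : ∀ n : ℕ, Spec (CommRingCat.of (A ⧸ I ^ n)) ⟶ X,
      (∀ n : ℕ, Spec.map (CommRingCat.ofHom (Ideal.Quotient.factorPowSucc I n)) ≫ e (n + 1) = e n) →
      ∃ f : Spec (CommRingCat.of A) ⟶ X,
        ∀ n : ℕ, Spec.map (CommRingCat.ofHom (Ideal.Quotient.mk (I ^ n))) ≫ f = e n) := by
  constructor
  · intro f g h
    rw [← cancel_mono X.toSpecΓ]
    have hf := Spec.map_preimage (f ≫ X.toSpecΓ)
    have hg := Spec.map_preimage (g ≫ X.toSpecΓ)
    set φf := Spec.preimage (f ≫ X.toSpecΓ) with hφf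
    set φg := Spec.preimage (g ≫ X.toSpecΓ) with hφg
    rw [← hf, ← hg]
    congr 1
    have key : ∀ n, φf ≫ CommRingCat.ofHom (Ideal.Quotient.mk (I ^ n)) =
        φg ≫ CommRingCat.ofHom (Ideal.Quotient.mk (I ^ n)) := by
      intro n
      apply Spec.map_injective
      rw [Spec.map_comp, Spec.map_comp, hf, hg, ← Category.assoc, ← Category.assoc, h n]
    ext x
    have hfun : (fun x => φf.hom x) = (fun x => φg.hom x) := by
      apply IsHausdorff.funext' I
      intro n r
      have := congrArg (fun ψ => ψ.hom r) (key n)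
      simpa using this
    exact congrFun hfun x
  · intro e he
    -- ring maps
    let Ψ : ∀ n, Γ(X, ⊤) ⟶ CommRingCat.of (A ⧸ I ^ n) := fun n => Spec.preimage (e n ≫ X.toSpecΓ)
    have hΨ : ∀ n, Spec.map (Ψ n) = e n ≫ X.toSpecΓ := fun n => Spec.map_preimage _
    let ψ : ∀ n, Γ(X, ⊤) →+* A ⧸ I ^ n := fun n => (Ψ n).hom
    have hsucc : ∀ n, (Ideal.Quotient.factorPowSucc I n).comp (ψ (n + 1)) = ψ n := by
      intro n
      have h1 : Ψ (n + 1) ≫ CommRingCat.ofHom (Ideal.Quotient.factorPowSucc I n) = Ψ n := by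
        apply Spec.map_injective
        rw [Spec.map_comp, hΨ, hΨ, ← Category.assoc, he n]
      have := congrArg (fun ψ => ψ.hom) h1
      simpa using this
    have hcompat : ∀ {m n : ℕ} (hle : m ≤ n), (Ideal.Quotient.factorPow I hle).comp (ψ n) = ψ m := by
      intro m n hle
      induction n, hle using Nat.le_induction with
      | base =>
        ext x
        simp
      | succ n hmn ih =>
        rw [← ih, ← hsucc n, ← RingHom.comp_assoc]
        congr 1
        ext x
        simp
    let ψinf : Γ(X, ⊤) →+* A := IsAdicComplete.liftRingHom I ψ hcompat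
    have hψinf : ∀ n, (Ideal.Quotient.mk (I ^ n)).comp ψinf = ψ n :=
      fun n => IsAdicComplete.mk_comp_liftRingHom I ψ hcompat n
    let F : Spec (CommRingCat.of A) ⟶ Spec Γ(X, ⊤) := Spec.map (CommRingCat.ofHom ψinf)
    have hFn : ∀ n, Spec.map (CommRingCat.ofHom (Ideal.Quotient.mk (I ^ n))) ≫ F = e n ≫ X.toSpecΓ := by
      intro n
      rw [← hΨ n, ← Spec.map_comp]
      congr 1
      ext x
      have := congrArg (fun f => f x) (hψinf n)
      simpa using this
    have hrange : Set.range F.base ⊆ Set.range X.toSpecΓ.base := by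
      rintro _ ⟨p, rfl⟩
      by_contra hp
      let U : Set (Spec Γ(X, ⊤)) := Set.range X.toSpecΓ.base
      have hU : IsOpen U := X.toSpecΓ.isOpenEmbedding.isOpen_range
      let Z : Set (PrimeSpectrum A) := (F.base ⁻¹' U)ᶜ
      have hZ : IsClosed Z := (hU.preimage F.continuous).isClosed_compl
      obtain ⟨J, hJ⟩ := (PrimeSpectrum.isClosed_iff_zeroLocus_ideal Z).mp hZ
      let p' : PrimeSpectrum A := p
      have hpZ : p' ∈ Z := hp
      obtain ⟨M, hM, hpM⟩ := Ideal.exists_le_maximal p'.asIdeal p'.2.ne_top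
      let q : PrimeSpectrum A := ⟨M, hM.isPrime⟩
      have hqZ : q ∈ Z := by
        rw [hJ] at hpZ ⊢
        rw [PrimeSpectrum.mem_zeroLocus] at hpZ ⊢
        exact hpZ.trans hpM
      have hIq : I ≤ M := by
        refine (IsAdicComplete.le_jacobson_bot I).trans ?_
        rw [Ideal.jacobson]
        exact sInf_le ⟨bot_le, hM⟩
      have hqr : q ∈ Set.range (PrimeSpectrum.comap (Ideal.Quotient.mk (I ^ 1))) := by
        rw [_root_.range_comap_of_surjective _ _ Ideal.Quotient.mk_surjective,
          Ideal.mk_ker, PrimeSpectrum.mem_zeroLocus]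
        simpa using hIq
      obtain ⟨q', hq'⟩ := hqr
      apply hqZ
      show F.base q ∈ U
      have h1 : (Spec.map (CommRingCat.ofHom (Ideal.Quotient.mk (I ^ 1)))).base q' = q := hq'
      rw [← h1]
      have h2 := hFn 1
      have h3 : F.base ((Spec.map (CommRingCat.ofHom (Ideal.Quotient.mk (I ^ 1)))).base q') =
          (Spec.map (CommRingCat.ofHom (Ideal.Quotient.mk (I ^ 1))) ≫ F).base q' := rfl
      rw [h3, h2]
      exact ⟨(e 1).base q', rfl⟩
    refine ⟨IsOpenImmersion.lift X.toSpecΓ F hrange, fun n => ?_⟩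
    rw [← cancel_mono X.toSpecΓ, Category.assoc, IsOpenImmersion.lift_fac, hFn]

end Aux

/-- Let `A` be a commutative ring which is `I`-adically complete for an ideal `I` and let `X` be a
quasi-affine scheme. Then the natural map from `X(A)` to compatible systems in the `X(A/I^n)` is
bijective: two morphisms `Spec A ⟶ X` with the same restriction to every `Spec (A/I^n)` are equal,
and every family of morphisms `Spec (A/I^n) ⟶ X` compatible with the transition maps `Spec (A/I^n) ⟶
Spec (A/I^(n+1))` is the family of restrictions of a morphism `Spec A ⟶ X`. -/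
theorem result (A : Type u) [CommRing A] (I : Ideal A) [IsAdicComplete I A]
    (X : Scheme.{u}) [X.IsQuasiAffine] :
    (∀ f g : Spec (CommRingCat.of A) ⟶ X,
      (∀ n : ℕ, Spec.map (CommRingCat.ofHom (Ideal.Quotient.mk (I ^ n))) ≫ f =
        Spec.map (CommRingCat.ofHom (Ideal.Quotient.mk (I ^ n))) ≫ g) → f = g) ∧
    (∀ e : ∀ n : ℕ, Spec (CommRingCat.of (A ⧸ I ^ n)) ⟶ X,
      (∀ n : ℕ, Spec.map (CommRingCat.ofHom (Ideal.Quotient.factorPowSucc I n)) ≫ e (n + 1) = e n) →
      ∃ f : Spec (CommRingCat.of A) ⟶ X,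
        ∀ n : ℕ, Spec.map (CommRingCat.ofHom (Ideal.Quotient.mk (I ^ n))) ≫ f = e n) := by
  exact Aux.main A I X

end Groth.Agent.S17863
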