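import Groth.Statements.S17864
import Mathlib
-- import your own Groth.Agent.* helpers here

set_option autoImplicit false
universe u
open Algz

namespace Groth.Agent.S17864

namespace Aux

section
variable {A : Type u} [CommRing A] (I : Ideal A)

/-- a retract of a complete module is complete -/
lemma complete_of_retract {Q F : Type*} [AddCommGroup Q] [Module A Q] [AddCommGroup F] [Module A F]
    [IsAdicComplete I F] (s : Q →ₗ[A] F) (r : F →ₗ[A] Q) (h : r ∘ₗ s = LinearMap.id) :
    IsAdicComplete I Q := by
  rw [← AdicCompletion.of_bijective_iff]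
  constructor
  · rw [injective_iff_map_eq_zero]
    intro x hx
    have h1 : AdicCompletion.of I F (s x) = 0 := by rw [← AdicCompletion.map_of, hx, _root_.map_zero]
    have h2 : s x = 0 := (AdicCompletion.of_injective (I := I) (M := F)) (by rw [h1, _root_.map_zero])
    have := congrArg (fun f => f x) h
    simp only [LinearMap.coe_comp, Function.comp_apply, LinearMap.id_coe, id_eq] at this
    rw [← this, h2, _root_.map_zero]
  · intro y
    obtain ⟨z, hz⟩ := AdicCompletion.of_surjective (I := I) (M := F) (AdicCompletion.map I s y)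
    refine ⟨r z, ?_⟩
    rw [← AdicCompletion.map_of, hz, AdicCompletion.map_comp_apply, h, AdicCompletion.map_id]
    rfl

lemma complete_pi [IsAdicComplete I A] (n : ℕ) : IsAdicComplete I (Fin n → A) := by
  rw [← AdicCompletion.of_bijective_iff]
  have hpi : ∀ (x : Fin n → A) (j : Fin n),
      AdicCompletion.pi I (fun _ : Fin n => A) (AdicCompletion.of I (Fin n → A) x) j = AdicCompletion.of I A (x j) := by
    intro x j
    simp [AdicCompletion.pi, AdicCompletion.map_of]
  have hpiinj : Function.Injective (AdicCompletion.pi I (fun _ : Fin n => A)) := by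
    intro a b hab
    apply (AdicCompletion.piEquivFin I n).injective
    rw [AdicCompletion.piEquivFin_apply, AdicCompletion.piEquivFin_apply, hab]
  constructor
  · rw [injective_iff_map_eq_zero]
    intro x hx
    ext j
    have := hpi x j
    rw [hx, _root_.map_zero] at this
    exact (AdicCompletion.of_injective (I := I) (M := A)) (by rw [← this]; simp)
  · intro y
    have : ∀ j, ∃ a : A, AdicCompletion.of I A a = AdicCompletion.pi I (fun _ : Fin n => A) y j := fun j =>
      AdicCompletion.of_surjective (I := I) (M := A) _
    choose x hx using this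
    refine ⟨x, ?_⟩
    apply hpiinj
    ext1 j
    rw [hpi, hx]

lemma complete_of_finite_projective [IsAdicComplete I A] (Q : Type u) [AddCommGroup Q] [Module A Q]
    [Module.Finite A Q] [Module.Projective A Q] : IsAdicComplete I Q := by
  obtain ⟨n, f, hf⟩ := Module.Finite.exists_fin' A Q
  obtain ⟨s, hs⟩ := Module.projective_lifting_property f LinearMap.id hf
  have := complete_pi I (A := A) n
  exact complete_of_retract I s f hs

end

theorem main (A : Type u) [CommRing A] (I : Ideal A)
    [IsAdicComplete I A] (P Q : Type u) [AddCommGroup P] [Module A P] [Module.Finite A P]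
    [Module.Projective A P] [AddCommGroup Q] [Module A Q] [Module.Finite A Q] [Module.Projective A Q] :
    (∀ f f' : P →ₗ[A] Q, (∀ n : ℕ, f.reduceModIdeal (I ^ n) = f'.reduceModIdeal (I ^ n)) → f = f') ∧
    (∀ g : ∀ n : ℕ, P ⧸ (I ^ n • ⊤ : Submodule A P) →ₗ[A] Q ⧸ (I ^ n • ⊤ : Submodule A Q),
      (∀ n : ℕ, AdicCompletion.transitionMap I Q (Nat.le_succ n) ∘ₗ g (n + 1) =
        g n ∘ₗ AdicCompletion.transitionMap I P (Nat.le_succ n)) →
      ∃ f : P →ₗ[A] Q, ∀ n : ℕ, f.reduceModIdeal (I ^ n) = g n) := by
  have hQ : IsAdicComplete I Q := complete_of_finite_projective I Q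
  constructor
  · intro f f' h
    ext x
    rw [IsHausdorff.eq_iff_smodEq (I := I)]
    intro n
    have := congrArg (fun φ => φ (Submodule.Quotient.mk x)) (h n)
    simp only [LinearMap.reduceModIdeal_apply] at this
    exact (Submodule.Quotient.eq _).mp this |> fun h' => by
      rw [SModEq.sub_mem]; exact h'
  · intro g hg
    -- compatible for all m ≤ n
    have hcompat : ∀ {m n : ℕ} (hle : m ≤ n),
        AdicCompletion.transitionMap I Q hle ∘ₗ (g n ∘ₗ (I ^ n • ⊤ : Submodule A P).mkQ) =
          g m ∘ₗ (I ^ m • ⊤ : Submodule A P).mkQ := by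
      intro m n hle
      induction n, hle using Nat.le_induction with
      | base =>
        ext x
        simp
      | succ n hmn ih =>
        have h1 : AdicCompletion.transitionMap I Q (hmn.trans (Nat.le_succ n)) =
            AdicCompletion.transitionMap I Q hmn ∘ₗ AdicCompletion.transitionMap I Q (Nat.le_succ n) := by
          ext x
          simp
        rw [h1, LinearMap.comp_assoc, ← LinearMap.comp_assoc _ (g (n + 1)), hg n, ← ih]
        ext x
        simp
    let φ : P →ₗ[A] AdicCompletion I Q :=
      AdicCompletion.lift I (fun n => g n ∘ₗ (I ^ n • ⊤ : Submodule A P).mkQ) hcompat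
    refine ⟨(AdicCompletion.ofLinearEquiv I Q).symm.toLinearMap ∘ₗ φ, ?_⟩
    intro n
    ext x
    have h1 : AdicCompletion.of I Q ((AdicCompletion.ofLinearEquiv I Q).symm (φ x)) = φ x :=
      (AdicCompletion.ofLinearEquiv I Q).apply_symm_apply (φ x)
    have h2 := congrArg (AdicCompletion.eval I Q n) h1
    rw [AdicCompletion.eval_of] at h2
    have h3 : (AdicCompletion.eval I Q n) (φ x) = (g n ∘ₗ (I ^ n • ⊤ : Submodule A P).mkQ) x :=
      AdicCompletion.eval_lift_apply I _ hcompat n x
    rw [h3] at h2
    exact h2

end Aux

/-- The full-faithfulness assertion. Let `A` be a commutative ring which is `I`-adically complete for an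
ideal `I`, and `P`, `Q` finitely generated projective `A`-modules. An `A`-linear map `P → Q` is
determined by its reductions modulo the powers `I^n`, and every family of `A`-linear maps `P/I^n P →
Q/I^n Q` compatible with the transition maps is the family of reductions of an `A`-linear map `P →
Q`. (The companion assertion, that compatible systems of finite projective modules over the rings
`A/I^n` lift to `A`, is not restated here.) -/
theorem result (A : Type u) [CommRing A] (I : Ideal A)
    [IsAdicComplete I A] (P Q : Type u) [AddCommGroup P] [Module A P] [Module.Finite A P]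
    [Module.Projective A P] [AddCommGroup Q] [Module A Q] [Module.Finite A Q] [Module.Projective A Q] :
    (∀ f f' : P →ₗ[A] Q, (∀ n : ℕ, f.reduceModIdeal (I ^ n) = f'.reduceModIdeal (I ^ n)) → f = f') ∧
    (∀ g : ∀ n : ℕ, P ⧸ (I ^ n • ⊤ : Submodule A P) →ₗ[A] Q ⧸ (I ^ n • ⊤ : Submodule A Q),
      (∀ n : ℕ, AdicCompletion.transitionMap I Q (Nat.le_succ n) ∘ₗ g (n + 1) =
        g n ∘ₗ AdicCompletion.transitionMap I P (Nat.le_succ n)) →
      ∃ f : P →ₗ[A] Q, ∀ n : ℕ, f.reduceModIdeal (I ^ n) = g n) := by
  exact Aux.main A I P Q

end Groth.Agent.S17864
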