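import Groth.Statements.S17872
import Mathlib.Tactic
import Mathlib.LinearAlgebra.Dual.Lemmas
import Mathlib.Algebra.Polynomial.Roots

set_option autoImplicit false
universe u v
open GRRSing

namespace Groth.Agent.S17872

/-- Let H be a vector space over a field K and let b_0, …, b_l be elements of H. If the sum of the t ^ i
• b_i vanishes for infinitely many scalars t of K, then all the b_i are zero. -/
theorem result {K : Type u} {H : Type v} [Field K] [AddCommGroup H] [Module K H]
    (l : ℕ) (b : Fin (l + 1) → H)
    (h : Set.Infinite {t : K | ∑ i : Fin (l + 1), t ^ (i : ℕ) • b i = 0}) :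
    b = 0 := by
  classical
  funext j
  rw [Pi.zero_apply, ← Module.forall_dual_apply_eq_zero_iff K]
  intro φ
  set P : Polynomial K := ∑ i : Fin (l + 1), Polynomial.C (φ (b i)) * Polynomial.X ^ (i : ℕ) with hP
  have hroot : {t : K | ∑ i : Fin (l + 1), t ^ (i : ℕ) • b i = 0} ⊆ {x | Polynomial.IsRoot P x} := by
    intro t ht
    simp only [Set.mem_ofPred_eq] at ht ⊢
    have := congrArg φ ht
    simp only [map_sum, map_smul, smul_eq_mul, map_zero] at this
    rw [Polynomial.IsRoot, hP, Polynomial.eval_finsetSum]
    simp only [Polynomial.eval_mul, Polynomial.eval_C, Polynomial.eval_pow, Polynomial.eval_X]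
    rw [← this]
    exact Finset.sum_congr rfl (fun i _ => mul_comm _ _)
  have hP0 : P = 0 := Polynomial.eq_zero_of_infinite_isRoot P (h.mono hroot)
  have hc : P.coeff (j : ℕ) = φ (b j) := by
    rw [hP, Polynomial.finsetSum_coeff]
    simp only [Polynomial.coeff_C_mul, Polynomial.coeff_X_pow]
    rw [Finset.sum_eq_single j]
    · simp
    · intro i _ hij
      have : (j : ℕ) ≠ (i : ℕ) := fun h => hij (Fin.ext h.symm)
      simp [this]
    · intro h; exact absurd (Finset.mem_univ j) h
  rw [← hc, hP0, Polynomial.coeff_zero]

end Groth.Agent.S17872
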