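import Groth.Statements.S17873
import Groth.Agent.Lib.Helper8.RegPrefix1

set_option autoImplicit false
universe u
open GRRSing

namespace Groth.Agent.S17873

/-- Let T be a Cohen–Macaulay Noetherian local ring, J a proper ideal of T, j the grade of J (the
J-depth of T, i.e. the supremum of the lengths of T-regular sequences inside J; a natural number
here) and c the minimal number of generators of J (equal to the dimension of J/𝔪J over the residue
field). Then j ≤ c and there is a generating sequence t_1, …, t_c of J such that t_1, …, t_j is a
T-regular sequence. (The published statement does not exclude J = T; there c = 1 while the grade,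
read as the depth of T, can exceed 1, so this row assumes J proper.) -/
theorem result {T : Type u} [CommRing T] [LocCoh.IsCohenMacaulayLocalRing T]
    (J : Ideal T) (hJ : J ≠ ⊤) (j : ℕ) (hj : LocCoh.idealDepth J T = j) :
    j ≤ Submodule.spanFinrank J ∧
      ∃ ts : List T, ts.length = Submodule.spanFinrank J ∧ Ideal.ofList ts = J ∧
        RingTheory.Sequence.IsRegular T (ts.take j) := by
  classical
  haveI : IsNoetherianRing T := inferInstance
  haveI : IsLocalRing T := inferInstance
  obtain ⟨s, hscard, hsspan⟩ :=
    Submodule.FG.exists_span_finset_card_eq_spanFinrank (IsNoetherian.noetherian J)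
  have hgen : (⊥ : Ideal T) ⊔ Ideal.ofList s.toList = J := by
    rw [bot_sup_eq, ← hsspan]
    unfold Ideal.ofList
    congr 1
    ext x
    simp
  have hJT : J • (⊤ : Submodule T T) ≠ ⊤ :=
    Groth.Agent.Helper8.RegPrefix.smul_top_ne_top_of_ne_top J hJ T
  obtain ⟨ts, hlen, hgen', hreg, hle⟩ :=
    Groth.Agent.Helper8.RegPrefix.exists_regular_prefix J hJ j T ⊥ s.toList
      (fun k hk m => by rw [(Submodule.mem_bot T).mp hk, zero_smul]) hgen (by rw [hj])
  rw [bot_sup_eq] at hgen'
  have hlen' : ts.length = Submodule.spanFinrank J := by
    rw [hlen, Finset.length_toList, hscard]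
  refine ⟨?_, ts, hlen', hgen', ?_⟩
  · have := hle inferInstance
    rwa [Finset.length_toList, hscard] at this
  · refine Groth.Agent.Helper8.Depth.isRegular_of_isWeaklyRegular_of_mem hJT hreg ?_
    intro r hr
    rw [← hgen']
    exact Ideal.subset_span (List.mem_of_mem_take hr)

end Groth.Agent.S17873
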