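import Groth.Statements.S17875
import Mathlib
-- import your own Groth.Agent.* helpers here

set_option autoImplicit false
universe u
open Polynomial
open GRRSing

namespace Groth.Agent.S17875

open Polynomial
namespace Aux

variable {R : Type u} [CommRing R] [Algebra ℚ R]

lemma part1 (r : R) (δ : ℕ) (hr : (r - 1) ^ (δ + 1) = 0) (n : ℕ) :
    r ^ n = ∑ k ∈ Finset.range (δ + 1),
      ((descPochhammer ℚ k).eval (n : ℚ) / (k.factorial : ℚ)) • (r - 1) ^ k := by
  have h1 : ∀ k, ((descPochhammer ℚ k).eval (n : ℚ) / (k.factorial : ℚ)) • (r - 1) ^ k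
      = (n.choose k : R) * (r - 1) ^ k := by
    intro k
    rw [descPochhammer_eval_eq_descFactorial, Nat.descFactorial_eq_factorial_mul_choose,
      Nat.cast_mul, mul_div_cancel_left₀ _ (Nat.cast_ne_zero.mpr k.factorial_ne_zero),
      Nat.cast_smul_eq_nsmul, nsmul_eq_mul]
  simp_rw [h1]
  have h2 : r ^ n = ∑ k ∈ Finset.range (n + 1), (n.choose k : R) * (r - 1) ^ k := by
    conv_lhs => rw [show r = (r - 1) + 1 by ring, add_pow]
    apply Finset.sum_congr rfl
    intro k _
    rw [one_pow, mul_one, mul_comm]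
  rw [h2]
  have h3 : ∑ k ∈ Finset.range (n + 1), (n.choose k : R) * (r - 1) ^ k
      = ∑ k ∈ Finset.range ((n + 1) + (δ + 1)), (n.choose k : R) * (r - 1) ^ k := by
    apply Finset.sum_subset
    · intro k hk
      rw [Finset.mem_range] at hk ⊢
      omega
    · intro k _ hk
      rw [Finset.mem_range, not_lt] at hk
      rw [Nat.choose_eq_zero_of_lt (by omega), Nat.cast_zero, zero_mul]
  have h4 : ∑ k ∈ Finset.range (δ + 1), (n.choose k : R) * (r - 1) ^ k
      = ∑ k ∈ Finset.range ((n + 1) + (δ + 1)), (n.choose k : R) * (r - 1) ^ k := by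
    apply Finset.sum_subset
    · intro k hk
      rw [Finset.mem_range] at hk ⊢
      omega
    · intro k _ hk
      rw [Finset.mem_range, not_lt] at hk
      rw [pow_eq_zero_of_le hk hr, mul_zero]
  rw [h3, h4]

lemma sub_one_pow (r : R) (k : ℕ) :
    (r - 1) ^ k = ∑ u ∈ Finset.range (k + 1), r ^ u * (-1) ^ (k - u) * (k.choose u : R) := by
  rw [sub_eq_add_neg, add_pow]

lemma term (r : R) (k j : ℕ) :
    ((k.factorial : ℚ)⁻¹) • ((((descPochhammer ℤ k).coeff j : ℤ) : R) * (r - 1) ^ k) =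
      ∑ u ∈ Finset.range (k + 1),
        (((-1 : ℚ) ^ (k - u) * (((descPochhammer ℤ k).coeff j : ℤ) : ℚ)) /
          ((u.factorial * (k - u).factorial : ℕ) : ℚ)) • r ^ u := by
  rw [sub_one_pow, Finset.mul_sum, Finset.smul_sum]
  apply Finset.sum_congr rfl
  intro u hu
  have hu' : u ≤ k := Nat.lt_succ_iff.mp (Finset.mem_range.mp hu)
  set s : ℤ := (descPochhammer ℤ k).coeff j with hs
  have hq : ((-1 : ℚ) ^ (k - u) * (s : ℚ)) / ((u.factorial * (k - u).factorial : ℕ) : ℚ)
      = (k.factorial : ℚ)⁻¹ * ((s : ℚ) * ((-1 : ℚ) ^ (k - u) * (k.choose u : ℚ))) := by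
    have h1 : (k.factorial : ℚ) = (k.choose u : ℚ) * (u.factorial : ℚ) * ((k - u).factorial : ℚ) := by
      rw [← Nat.choose_mul_factorial_mul_factorial hu']
      push_cast; ring
    have h2 : (u.factorial : ℚ) ≠ 0 := Nat.cast_ne_zero.mpr u.factorial_ne_zero
    have h3 : ((k - u).factorial : ℚ) ≠ 0 := Nat.cast_ne_zero.mpr (k - u).factorial_ne_zero
    have h4 : (k.choose u : ℚ) ≠ 0 := Nat.cast_ne_zero.mpr (Nat.choose_pos hu').ne'
    rw [h1]
    push_cast
    field_simp
  rw [hq, mul_smul, mul_smul, mul_smul]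
  congr 1
  rw [Algebra.smul_def, Algebra.smul_def, Algebra.smul_def]
  simp only [map_intCast, map_pow, map_neg, map_one, map_natCast]
  ring

lemma part2 (r : R) (δ : ℕ) :
    (∑ k ∈ Finset.range (δ + 1),
      ((k.factorial : ℚ)⁻¹ • (descPochhammer R k * Polynomial.C ((r - 1) ^ k))) =
      ∑ j ∈ Finset.range (δ + 1), Polynomial.C (∑ k ∈ Finset.range (δ + 1),
        ∑ u ∈ Finset.range (k + 1),
        (((-1 : ℚ) ^ (k - u) * (((descPochhammer ℤ k).coeff j : ℤ) : ℚ)) /
          ((u.factorial * (k - u).factorial : ℕ) : ℚ)) • r ^ u) * Polynomial.X ^ j) := by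
  have hd : ∀ k ∈ Finset.range (δ + 1), descPochhammer R k =
      ∑ j ∈ Finset.range (δ + 1), C ((((descPochhammer ℤ k).coeff j : ℤ) : R)) * X ^ j := by
    intro k hk
    rw [← descPochhammer_map (Int.castRingHom R) k]
    conv_lhs => rw [(descPochhammer ℤ k).as_sum_range_C_mul_X_pow' (n := δ + 1)
      (by rw [descPochhammer_natDegree]; exact Finset.mem_range.mp hk)]
    rw [Polynomial.map_sum]
    apply Finset.sum_congr rfl
    intro j _
    simp
  calc (∑ k ∈ Finset.range (δ + 1),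
      ((k.factorial : ℚ)⁻¹ • (descPochhammer R k * Polynomial.C ((r - 1) ^ k))))
      = ∑ k ∈ Finset.range (δ + 1), ∑ j ∈ Finset.range (δ + 1),
          C ((k.factorial : ℚ)⁻¹ • ((((descPochhammer ℤ k).coeff j : ℤ) : R) * (r - 1) ^ k))
            * X ^ j := by
        apply Finset.sum_congr rfl
        intro k hk
        rw [hd k hk, Finset.sum_mul, Finset.smul_sum]
        apply Finset.sum_congr rfl
        intro j _
        rw [show C ((((descPochhammer ℤ k).coeff j : ℤ) : R)) * X ^ j * C ((r - 1) ^ k)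
          = C ((((descPochhammer ℤ k).coeff j : ℤ) : R) * (r - 1) ^ k) * X ^ j by
            rw [C_mul]; ring]
        rw [← smul_mul_assoc, Polynomial.smul_C]
    _ = ∑ j ∈ Finset.range (δ + 1), C (∑ k ∈ Finset.range (δ + 1),
          (k.factorial : ℚ)⁻¹ • ((((descPochhammer ℤ k).coeff j : ℤ) : R) * (r - 1) ^ k))
            * X ^ j := by
        rw [Finset.sum_comm]
        apply Finset.sum_congr rfl
        intro j _
        rw [map_sum, Finset.sum_mul]
    _ = _ := by
        apply Finset.sum_congr rfl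
        intro j _
        congr 2
        apply Finset.sum_congr rfl
        intro k _
        exact term r k j

theorem main (r : R) (δ : ℕ) (hr : (r - 1) ^ (δ + 1) = 0) :
    (∀ n : ℕ, r ^ n = ∑ k ∈ Finset.range (δ + 1), ((descPochhammer ℚ k).eval (n : ℚ) / (k.factorial : ℚ)) • (r - 1) ^ k) ∧
    (∑ k ∈ Finset.range (δ + 1), ((k.factorial : ℚ)⁻¹ • (descPochhammer R k * Polynomial.C ((r - 1) ^ k))) =
      ∑ j ∈ Finset.range (δ + 1), Polynomial.C (∑ k ∈ Finset.range (δ + 1), ∑ u ∈ Finset.range (k + 1),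
        (((-1 : ℚ) ^ (k - u) * (((descPochhammer ℤ k).coeff j : ℤ) : ℚ)) / ((u.factorial * (k - u).factorial : ℕ) : ℚ)) • r ^ u) * Polynomial.X ^ j) :=
  ⟨part1 r δ hr, part2 r δ⟩

end Aux

/-- Let R be a commutative ℚ-algebra, r an element of R and δ a natural number with (r - 1) ^ (δ + 1) =
0. Write s(k, j) for the signed Stirling numbers of the first kind, the coefficients of x (x - 1) ⋯
(x - k + 1) = Σ_j s(k, j) x ^ j. Then (i) for every natural number n, r ^ n = Σ_{k ≤ δ} [n (n - 1) ⋯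
(n - k + 1) / k!] (r - 1) ^ k; and (ii) in the polynomial ring R[x], Σ_{k ≤ δ} [x (x - 1) ⋯ (x - k +
1) / k!] (r - 1) ^ k = Σ_{j ≤ δ} [Σ_{k ≤ δ} Σ_{u ≤ k} (-1) ^ (k - u) s(k, j) / (u! (k - u)!) · r ^
u] x ^ j. -/
theorem result {R : Type u} [CommRing R] [Algebra ℚ R]
    (r : R) (δ : ℕ) (hr : (r - 1) ^ (δ + 1) = 0) :
    (∀ n : ℕ, r ^ n = ∑ k ∈ Finset.range (δ + 1), ((descPochhammer ℚ k).eval (n : ℚ) / (k.factorial : ℚ)) • (r - 1) ^ k) ∧
    (∑ k ∈ Finset.range (δ + 1), ((k.factorial : ℚ)⁻¹ • (descPochhammer R k * Polynomial.C ((r - 1) ^ k))) =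
      ∑ j ∈ Finset.range (δ + 1), Polynomial.C (∑ k ∈ Finset.range (δ + 1), ∑ u ∈ Finset.range (k + 1),
        (((-1 : ℚ) ^ (k - u) * (((descPochhammer ℤ k).coeff j : ℤ) : ℚ)) / ((u.factorial * (k - u).factorial : ℕ) : ℚ)) • r ^ u) * Polynomial.X ^ j) := by
  exact Aux.main r δ hr

end Groth.Agent.S17875
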