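import Groth.Statements.S17878
import Mathlib
-- import your own Groth.Agent.* helpers here

set_option autoImplicit false
universe u
open Filter Topology
open GRRSing

namespace Groth.Agent.S17878

open Filter Topology
namespace Aux

/-- `S n y = Σ_k k^n y^k` -/
noncomputable def S (n : ℕ) (y : ℂ) : ℂ := ∑' k : ℕ, (k : ℂ) ^ n * y ^ k

lemma summ (n : ℕ) {y : ℂ} (hy : ‖y‖ < 1) : Summable (fun k : ℕ => (k : ℂ) ^ n * y ^ k) :=
  summable_pow_mul_geometric_of_norm_lt_one n hy

lemma S_rec (n : ℕ) {y : ℂ} (hy : ‖y‖ < 1) :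
    S n y = (if n = 0 then 1 else 0) + y * ∑ j ∈ Finset.range (n + 1), (n.choose j : ℂ) * S j y := by
  unfold S
  rw [(summ n hy).tsum_eq_zero_add]
  congr 1
  · by_cases h : n = 0
    · simp [h]
    · simp [h]
  · have h1 : ∀ k : ℕ, ((k + 1 : ℕ) : ℂ) ^ n * y ^ (k + 1) =
        ∑ j ∈ Finset.range (n + 1), (y * (n.choose j : ℂ)) * ((k : ℂ) ^ j * y ^ k) := by
      intro k
      push_cast
      rw [add_pow, Finset.sum_mul]
      apply Finset.sum_congr rfl
      intro j _
      rw [one_pow, pow_succ]; ring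
    simp_rw [h1]
    have h2 : HasSum (fun k : ℕ => ∑ j ∈ Finset.range (n + 1), (y * (n.choose j : ℂ)) * ((k : ℂ) ^ j * y ^ k))
        (∑ j ∈ Finset.range (n + 1), (y * (n.choose j : ℂ)) * ∑' k : ℕ, (k : ℂ) ^ j * y ^ k) :=
      hasSum_sum (fun j _ => ((summ j hy).hasSum).mul_left _)
    rw [h2.tsum_eq, Finset.mul_sum]
    apply Finset.sum_congr rfl
    intro j _
    ring

lemma E_rec (E : ℕ → ℚ) (hE : PowerSeries.mk (fun j => E j / (j.factorial : ℚ)) * (PowerSeries.exp ℚ + 1) = 2)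
    (n : ℕ) : 2 * E n + ∑ j ∈ Finset.range n, (n.choose j : ℚ) * E j = if n = 0 then 2 else 0 := by
  have h1 := congrArg (PowerSeries.coeff n) hE
  rw [PowerSeries.coeff_mul, Finset.Nat.sum_antidiagonal_eq_sum_range_succ_mk] at h1
  have h2 : PowerSeries.coeff n (2 : PowerSeries ℚ) = if n = 0 then 2 else 0 := by
    have : (2 : PowerSeries ℚ) = PowerSeries.C (2 : ℚ) := by rw [map_ofNat]
    rw [this, PowerSeries.coeff_C]
  rw [h2] at h1
  have hn : (n.factorial : ℚ) ≠ 0 := by exact_mod_cast n.factorial_ne_zero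
  have h3 : ∀ j ∈ Finset.range (n + 1),
      PowerSeries.coeff j (PowerSeries.mk fun j => E j / (j.factorial : ℚ)) *
        PowerSeries.coeff (n - j) (PowerSeries.exp ℚ + 1) =
      ((n.choose j : ℚ) * E j + if j = n then E n else 0) / n.factorial := by
    intro j hj
    have hjn : j ≤ n := Nat.lt_succ_iff.mp (Finset.mem_range.mp hj)
    rw [PowerSeries.coeff_mk, map_add, PowerSeries.coeff_exp, PowerSeries.coeff_one, Nat.cast_choose ℚ hjn]
    have hj0 : (j.factorial : ℚ) ≠ 0 := by exact_mod_cast j.factorial_ne_zero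
    have hnj0 : ((n - j).factorial : ℚ) ≠ 0 := by exact_mod_cast (n - j).factorial_ne_zero
    by_cases h : j = n
    · subst h
      simp
      field_simp
    · have : n - j ≠ 0 := by omega
      rw [if_neg this, if_neg h]
      simp
      field_simp
  rw [Finset.sum_congr rfl h3, ← Finset.sum_div, div_eq_iff hn] at h1
  rw [Finset.sum_add_distrib, Finset.sum_ite_eq' (Finset.range (n + 1)) n (fun _ => E n),
    if_pos (Finset.self_mem_range_succ n), Finset.sum_range_succ, Nat.choose_self] at h1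
  have h4 : (if n = 0 then (2 : ℚ) else 0) * (n.factorial : ℚ) = if n = 0 then 2 else 0 := by
    by_cases h : n = 0
    · subst h; simp
    · simp [h]
  rw [h4] at h1
  rw [← h1]; push_cast; ring

lemma tendsto_S (E : ℕ → ℚ)
    (hE : PowerSeries.mk (fun j => E j / (j.factorial : ℚ)) * (PowerSeries.exp ℚ + 1) = 2) (n : ℕ) :
    Tendsto (fun y : ℝ => S n (y : ℂ)) (𝓝[Set.Ioo (-1 : ℝ) 1] (-1 : ℝ)) (𝓝 ((E n : ℂ) / 2)) := by
  induction n using Nat.strong_induction_on with
  | _ n ih =>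
    have hy : Tendsto (fun y : ℝ => (y : ℂ)) (𝓝[Set.Ioo (-1 : ℝ) 1] (-1 : ℝ)) (𝓝 (-1 : ℂ)) := by
      have : Tendsto (fun y : ℝ => (y : ℂ)) (𝓝 (-1 : ℝ)) (𝓝 (((-1 : ℝ)) : ℂ)) :=
        Complex.continuous_ofReal.tendsto _
      have h2 := tendsto_nhdsWithin_of_tendsto_nhds (s := Set.Ioo (-1 : ℝ) 1) this
      simpa using h2
    -- the rational expression
    have hlim : Tendsto (fun y : ℝ => ((if n = 0 then (1 : ℂ) else 0) +
        (y : ℂ) * ∑ j ∈ Finset.range n, (n.choose j : ℂ) * S j (y : ℂ)) / (1 - (y : ℂ)))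
        (𝓝[Set.Ioo (-1 : ℝ) 1] (-1 : ℝ))
        (𝓝 (((if n = 0 then (1 : ℂ) else 0) +
          (-1 : ℂ) * ∑ j ∈ Finset.range n, (n.choose j : ℂ) * ((E j : ℂ) / 2)) / (1 - (-1 : ℂ)))) := by
      apply Tendsto.div
      · apply Tendsto.add tendsto_const_nhds
        apply Tendsto.mul hy
        apply tendsto_finsetSum
        intro j hj
        exact Tendsto.mul tendsto_const_nhds (ih j (Finset.mem_range.mp hj))
      · exact Tendsto.sub tendsto_const_nhds hy
      · norm_num
    have hval : ((if n = 0 then (1 : ℂ) else 0) +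
          (-1 : ℂ) * ∑ j ∈ Finset.range n, (n.choose j : ℂ) * ((E j : ℂ) / 2)) / (1 - (-1 : ℂ)) =
        (E n : ℂ) / 2 := by
      have h1 := E_rec E hE n
      have h2 : (2 : ℂ) * (E n : ℂ) + ∑ j ∈ Finset.range n, (n.choose j : ℂ) * (E j : ℂ) =
          if n = 0 then 2 else 0 := by
        have := congrArg (fun q : ℚ => (q : ℂ)) h1
        push_cast at this
        rw [this]
        split_ifs <;> simp
      have h3 : ∑ j ∈ Finset.range n, (n.choose j : ℂ) * ((E j : ℂ) / 2) =
          (∑ j ∈ Finset.range n, (n.choose j : ℂ) * (E j : ℂ)) / 2 := by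
        rw [Finset.sum_div]
        apply Finset.sum_congr rfl
        intro j _; ring
      rw [h3]
      have h4 : ∑ j ∈ Finset.range n, (n.choose j : ℂ) * (E j : ℂ) =
          (if n = 0 then (2 : ℂ) else 0) - 2 * (E n : ℂ) := by rw [← h2]; ring
      rw [h4]
      by_cases h : n = 0
      · simp [h]; ring
      · simp [h]; ring
    rw [hval] at hlim
    refine hlim.congr' ?_
    filter_upwards [self_mem_nhdsWithin] with y hy'
    have hnorm : ‖(y : ℂ)‖ < 1 := by
      rw [Complex.norm_real, Real.norm_eq_abs, abs_lt]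
      exact ⟨hy'.1, hy'.2⟩
    have h1 := S_rec n hnorm
    rw [Finset.sum_range_succ, Nat.choose_self] at h1
    have hne : (1 - (y : ℂ)) ≠ 0 := by
      intro h0
      have : (y : ℂ) = 1 := by linear_combination -h0
      have : y = 1 := by exact_mod_cast this
      linarith [hy'.2]
    rw [div_eq_iff hne]
    push_cast at h1
    linear_combination -h1

theorem main {T : Type u} [NormedCommRing T] [NormedAlgebra ℂ T] [Nontrivial T]
    (hT : Function.Surjective (algebraMap ℂ (T ⧸ nilradical T)))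
    (E : ℕ → ℚ) (hE : PowerSeries.mk (fun j => E j / (j.factorial : ℚ)) * (PowerSeries.exp ℚ + 1) = 2)
    (P : Polynomial T) :
    (∀ y : ℂ, ‖y‖ < 1 → Summable (fun k : ℕ => y ^ k • P.eval (k : T))) ∧
    Tendsto (fun y : ℝ => ∑' k : ℕ, ((y : ℂ) ^ k) • P.eval (k : T)) (𝓝[Set.Ioo (-1 : ℝ) 1] (-1 : ℝ))
      (𝓝 ((2 : ℂ)⁻¹ • ∑ j ∈ Finset.range (P.natDegree + 1), ((E j : ℚ) : ℂ) • P.coeff j)) := by
  have hterm : ∀ (y : ℂ) (k : ℕ), y ^ k • P.eval (k : T) =
      ∑ j ∈ Finset.range (P.natDegree + 1), ((k : ℂ) ^ j * y ^ k) • P.coeff j := by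
    intro y k
    rw [Polynomial.eval_eq_sum_range, Finset.smul_sum]
    apply Finset.sum_congr rfl
    intro j _
    have : ((k : T)) ^ j = ((k : ℂ) ^ j) • (1 : T) := by
      rw [← Algebra.algebraMap_eq_smul_one, map_pow, map_natCast]
    rw [this, mul_smul_comm, mul_one, smul_smul, mul_comm]
  have hsum : ∀ y : ℂ, ‖y‖ < 1 → HasSum (fun k : ℕ => y ^ k • P.eval (k : T))
      (∑ j ∈ Finset.range (P.natDegree + 1), S j y • P.coeff j) := by
    intro y hy
    simp_rw [hterm]
    exact hasSum_sum (fun j _ => ((summ j hy).hasSum).smul_const (P.coeff j))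
  refine ⟨fun y hy => (hsum y hy).summable, ?_⟩
  have hlim : Tendsto (fun y : ℝ => ∑ j ∈ Finset.range (P.natDegree + 1), S j (y : ℂ) • P.coeff j)
      (𝓝[Set.Ioo (-1 : ℝ) 1] (-1 : ℝ))
      (𝓝 (∑ j ∈ Finset.range (P.natDegree + 1), ((E j : ℂ) / 2) • P.coeff j)) := by
    apply tendsto_finsetSum
    intro j _
    exact (tendsto_S E hE j).smul_const _
  have hval : (∑ j ∈ Finset.range (P.natDegree + 1), ((E j : ℂ) / 2) • P.coeff j) =
      (2 : ℂ)⁻¹ • ∑ j ∈ Finset.range (P.natDegree + 1), ((E j : ℚ) : ℂ) • P.coeff j := by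
    rw [Finset.smul_sum]
    apply Finset.sum_congr rfl
    intro j _
    rw [smul_smul]; congr 1; ring
  rw [← hval]
  refine hlim.congr' ?_
  filter_upwards [self_mem_nhdsWithin] with y hy'
  have hnorm : ‖(y : ℂ)‖ < 1 := by
    rw [Complex.norm_real, Real.norm_eq_abs, abs_lt]
    exact ⟨hy'.1, hy'.2⟩
  exact (hsum (y : ℂ) hnorm).tsum_eq.symm

end Aux

/-- Let T be a nonzero commutative normed ℂ-algebra such that the map ℂ → T/nilradical(T) is surjective,
let P = Σ_j d_j x ^ j be a polynomial over T and put h_k = P(k). Let E_0, E_1, … be the rational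
numbers with 2/(e^t + 1) = Σ_j E_j t ^ j / j! (so E_0 = 1, E_1 = -1/2). Then for every complex y
with |y| < 1 the series Σ_k h_k y ^ k converges in T, and as y → -1 along real y in (-1, 1) its sum
tends to (1/2) Σ_j E_j d_j. (The published statement allows any norm topology on T as a complex
vector space; this row takes T a normed ℂ-algebra.) -/
theorem result {T : Type u} [NormedCommRing T] [NormedAlgebra ℂ T] [Nontrivial T]
    (hT : Function.Surjective (algebraMap ℂ (T ⧸ nilradical T)))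
    (E : ℕ → ℚ) (hE : PowerSeries.mk (fun j => E j / (j.factorial : ℚ)) * (PowerSeries.exp ℚ + 1) = 2)
    (P : Polynomial T) :
    (∀ y : ℂ, ‖y‖ < 1 → Summable (fun k : ℕ => y ^ k • P.eval (k : T))) ∧
    Tendsto (fun y : ℝ => ∑' k : ℕ, ((y : ℂ) ^ k) • P.eval (k : T)) (𝓝[Set.Ioo (-1 : ℝ) 1] (-1 : ℝ))
      (𝓝 ((2 : ℂ)⁻¹ • ∑ j ∈ Finset.range (P.natDegree + 1), ((E j : ℚ) : ℂ) • P.coeff j)) := by
  exact Aux.main hT E hE P

end Groth.Agent.S17878
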