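import Groth.Statements.S17881
import Mathlib

set_option autoImplicit false
universe u
open CAlg

namespace Groth.Agent.S17881

/-- Let O be a subring of a nontrivial commutative ring A. The following are equivalent: (i) A is a
local ring, every non-unit of A belongs to O, and for every unit u of A one of u, u⁻¹ belongs to O —
equivalently O is the preimage in the local ring A of a valuation ring of the residue field of A,
which makes O a semi-valuation ring with semi-fraction ring A; (ii) for all f, g in A generating the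
unit ideal, either f ∈ gO or g ∈ fO. (A is taken nontrivial: over the zero ring (ii) holds and (i)
fails.) -/
theorem result (A : Type u) [CommRing A] [Nontrivial A]
    (O : Subring A) :
    (IsLocalRing A ∧ (∀ a : A, ¬ IsUnit a → a ∈ O) ∧ (∀ u : Aˣ, (u : A) ∈ O ∨ ((u⁻¹ : Aˣ) : A) ∈ O)) ↔
      ∀ f g : A, IsCoprime f g → (∃ o ∈ O, f = g * o) ∨ (∃ o ∈ O, g = f * o) := by
  constructor
  · rintro ⟨hloc, hnon, hunit⟩ f g hfg
    have key : ∀ f g : A, IsUnit f → (∃ o ∈ O, f = g * o) ∨ (∃ o ∈ O, g = f * o) := by
      intro f g hf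
      obtain ⟨uf, rfl⟩ := hf
      by_cases hx : IsUnit (g * ((uf⁻¹ : Aˣ) : A))
      · obtain ⟨ux, hux⟩ := hx
        rcases hunit ux with h | h
        · right
          refine ⟨ux, h, ?_⟩
          rw [hux, mul_comm g, ← mul_assoc, Units.mul_inv, one_mul]
        · left
          refine ⟨((ux⁻¹ : Aˣ) : A), h, ?_⟩
          have h1 : g = (uf : A) * (ux : A) := by
            rw [hux, mul_comm g, ← mul_assoc, Units.mul_inv, one_mul]
          rw [h1, mul_assoc, Units.mul_inv, mul_one]
      · right
        refine ⟨g * ((uf⁻¹ : Aˣ) : A), hnon _ hx, ?_⟩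
        rw [mul_comm g, ← mul_assoc, Units.mul_inv, one_mul]
    have hor : IsUnit f ∨ IsUnit g := by
      by_contra hcon
      push Not at hcon
      obtain ⟨a, b, hab⟩ := hfg
      have h1 : a * f + b * g ∈ IsLocalRing.maximalIdeal A :=
        Ideal.add_mem _ (Ideal.mul_mem_left _ _ hcon.1) (Ideal.mul_mem_left _ _ hcon.2)
      rw [hab] at h1
      exact (IsLocalRing.maximalIdeal.isMaximal A).ne_top ((Ideal.eq_top_iff_one _).mpr h1)
    rcases hor with hf | hg
    · exact key f g hf
    · exact (key g f hg).symm
  · intro h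
    have hcop : ∀ f g : A, IsCoprime f g → IsUnit f ∨ IsUnit g := by
      intro f g hfg
      rcases h f g hfg with ⟨o, -, ho⟩ | ⟨o, -, ho⟩
      · right
        obtain ⟨a, b, hab⟩ := hfg
        rw [ho] at hab
        exact .of_mul_eq_one_right (a * o + b) (by rw [← hab]; ring)
      · left
        obtain ⟨a, b, hab⟩ := hfg
        rw [ho] at hab
        exact .of_mul_eq_one_right (a + b * o) (by rw [← hab]; ring)
    refine ⟨?_, ?_, ?_⟩
    · apply IsLocalRing.of_isUnit_or_isUnit_one_sub_self
      intro a
      exact hcop a (1 - a) ⟨1, 1, by ring⟩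
    · intro a ha
      rcases h a 1 ⟨0, 1, by ring⟩ with ⟨o, ho, hao⟩ | ⟨o, ho, hao⟩
      · rw [hao, one_mul]; exact ho
      · exfalso
        exact ha (.of_mul_eq_one o hao.symm)
    · intro u
      rcases h (u : A) 1 ⟨0, 1, by ring⟩ with ⟨o, ho, hao⟩ | ⟨o, ho, hao⟩
      · left
        rw [hao, one_mul]; exact ho
      · right
        have : ((u⁻¹ : Aˣ) : A) = o := by
          rw [Units.inv_eq_of_mul_eq_one_right hao.symm]
        rw [this]; exact ho

end Groth.Agent.S17881
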