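import Groth.Statements.S17882
import Mathlib

set_option autoImplicit false
universe u
open CAlg

namespace Groth.Agent.S17882

/-- Let B be a commutative ring, r ≥ 1, N a finitely generated submodule of B^r, and n_1, …, n_r ∈ N.
Suppose the determinant of the matrix with rows n_1, …, n_r is a nonzerodivisor of B and that the
determinant of every matrix whose rows lie in N is a multiple of it (the image of the top exterior
power of N in that of B^r ≅ B is the principal ideal generated by n_1 ∧ ⋯ ∧ n_r, a nonzerodivisor).
Then n_1, …, n_r are linearly independent over B and span N: N is free of rank r with this basis. -/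
theorem result (B : Type u) [CommRing B] (r : ℕ) (hr : 0 < r)
    (N : Submodule B (Fin r → B)) (hN : N.FG) (n : Fin r → (Fin r → B)) (hn : ∀ i, n i ∈ N)
    (hgen : ∀ m : Fin r → (Fin r → B), (∀ i, m i ∈ N) →
      Matrix.det (Matrix.of m) ∈ Ideal.span {Matrix.det (Matrix.of n)})
    (hnzd : Matrix.det (Matrix.of n) ∈ nonZeroDivisors B) :
    LinearIndependent B n ∧ Submodule.span B (Set.range n) = N := by
  classical
  set M : Matrix (Fin r) (Fin r) B := Matrix.of n with hM
  set d := M.det with hd
  have hsum : ∀ c : Fin r → B, ∑ i, c i • n i = Matrix.vecMul c M := by
    intro c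
    ext j
    simp [Matrix.vecMul, dotProduct, hM]
  have hcancel : ∀ x y : Fin r → B, d • x = d • y → x = y := by
    intro x y hxy
    ext j
    have := congrFun hxy j
    simp only [Pi.smul_apply, smul_eq_mul] at this
    exact (mul_cancel_left_mem_nonZeroDivisors hnzd).mp this
  constructor
  · rw [Fintype.linearIndependent_iff]
    intro c hc
    rw [hsum] at hc
    have h1 : Matrix.vecMul (Matrix.vecMul c M) M.adjugate = 0 := by rw [hc]; simp
    rw [Matrix.vecMul_vecMul, Matrix.mul_adjugate, Matrix.vecMul_smul, Matrix.vecMul_one] at h1
    have h2 := hcancel c 0 (by rw [smul_zero]; exact h1)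
    intro i
    exact congrFun h2 i
  · apply le_antisymm
    · rw [Submodule.span_le]
      rintro _ ⟨i, rfl⟩
      exact hn i
    · intro x hx
      -- Cramer
      have hdiv : ∀ i, ∃ e : B, (M.updateRow i x).det = d * e := by
        intro i
        have hmem := hgen (fun j => if j = i then x else n j) (by
          intro j
          by_cases hj : j = i
          · simp [hj, hx]
          · simp [hj, hn j])
        have hmat : Matrix.of (fun j => if j = i then x else n j) = M.updateRow i x := by
          ext j k
          by_cases hj : j = i
          · subst hj; simp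
          · simp [Matrix.updateRow_ne hj, hj, hM]
        rw [hmat, Ideal.mem_span_singleton'] at hmem
        obtain ⟨e, he⟩ := hmem
        exact ⟨e, by rw [← he, mul_comm]⟩
      choose e he using hdiv
      have hcr : Matrix.cramer M.transpose x = d • e := by
        ext i
        rw [Matrix.cramer_transpose_apply, he i]
        simp
      have h1 := Matrix.mulVec_cramer M.transpose x
      rw [hcr, Matrix.det_transpose, Matrix.mulVec_smul] at h1
      have h2 := hcancel _ _ h1
      rw [Matrix.mulVec_transpose, ← hsum] at h2
      rw [← h2]
      exact Submodule.sum_mem _ (fun i _ => Submodule.smul_mem _ _ (Submodule.subset_span ⟨i, rfl⟩))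

end Groth.Agent.S17882
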