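import Groth.Statements.S17887
import Mathlib
import Groth.Agent.Lib.Helper4.EffCartier
import Groth.Agent.S1682

set_option autoImplicit false
universe u
open CategoryTheory AlgebraicGeometry
open BlowUp

namespace Groth.Agent.S17887

open CategoryTheory AlgebraicGeometry TopologicalSpace
namespace H17887
open Groth.Agent.Helper4

theorem main {X X' : Scheme.{u}} [IsNoetherian X]
    (U : X.Opens) [IsSchemeTheoreticallyDominant U.ι] (𝓘 : X.IdealSheafData)
    (hU : Disjoint (𝓘.support : Set X) (U : Set X)) (π : X' ⟶ X) (hπ : BlowUp.IsBlowUp π 𝓘) :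
    IsSchemeTheoreticallyDominant (π ⁻¹ᵁ U).ι := by
  let W : X.Opens := 𝓘.support.compl
  have hUW : U ≤ W := fun x hx hxs => Set.disjoint_left.mp hU hxs hx
  let W' : X'.Opens := π ⁻¹ᵁ W
  let U' : X'.Opens := π ⁻¹ᵁ U
  have hU'W' : U' ≤ W' := fun x hx => hUW hx
  have hiso : IsIso (π ∣_ W) := Groth.Agent.S1682.result 𝓘 π hπ
  have hflat : Flat (W'.ι ≫ π) := by
    rw [← morphismRestrict_ι]
    infer_instance
  have hW' : IsSchemeTheoreticallyDominant W'.ι := by
    apply EffCartier.dominant_of_compl_le hπ.1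
    intro x hx
    rw [Scheme.IdealSheafData.support_comap] at hx
    exact hx
  let j' : (U' : Scheme.{u}) ⟶ (W' : Scheme.{u}) := X'.homOfLE hU'W'
  have hj' : j' ≫ W'.ι = U'.ι := X'.homOfLE_ι hU'W'
  have top : IsPullback j' (𝟙 (U' : Scheme.{u})) W'.ι U'.ι :=
    (IsPullback.of_horiz_isIso_mono ⟨by rw [Category.id_comp, hj']⟩).flip
  have bot : IsPullback U'.ι (π ∣_ U) π U.ι := (isPullback_morphismRestrict π U).flip
  have sq := (top.paste_vert bot).flip
  have hj'dom : IsSchemeTheoreticallyDominant j' :=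
    IsSchemeTheoreticallyDominant.of_isPullback sq
  show IsSchemeTheoreticallyDominant U'.ι
  rw [← hj']
  infer_instance

end H17887

/-- Let X be a Noetherian scheme, U ⊆ X an open subscheme that is schematically dense in X, I a
quasi-coherent ideal sheaf on X whose support does not meet U, and π : X' → X a blowing-up of X
along I. Then π⁻¹(U) is schematically dense in X'. -/
theorem result {X X' : Scheme.{u}} [IsNoetherian X]
    (U : X.Opens) [IsSchemeTheoreticallyDominant U.ι] (𝓘 : X.IdealSheafData)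
    (hU : Disjoint (𝓘.support : Set X) (U : Set X)) (π : X' ⟶ X) (hπ : BlowUp.IsBlowUp π 𝓘) :
    IsSchemeTheoreticallyDominant (π ⁻¹ᵁ U).ι := by
  exact H17887.main U 𝓘 hU π hπ

end Groth.Agent.S17887
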