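import Groth.Statements.S17890
import Groth.Agent.Lib.Helper3.GlueTwo

set_option autoImplicit false
universe u
open CategoryTheory AlgebraicGeometry
open FlatMor

namespace Groth.Agent.S17890

/-- Let S be a Noetherian scheme, X₁ and X₂ separated S-schemes of finite type, and j₁ : U → X₁, j₂ : U
→ X₂ open immersions over S with schematically dense images. Suppose X₁ quasi-dominates X₂ and X₂
quasi-dominates X₁ compatibly with U: there are schematically dense opens W₁ ⊆ X₁ and W₂ ⊆ X₂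
through which j₁, j₂ factor, and S-morphisms φ : W₁ → X₂, ψ : W₂ → X₁ restricting to j₂ and j₁ on U,
whose graphs are closed subsets of X₁ ×_S X₂ and X₂ ×_S X₁. Then there exist a separated S-scheme Y
of finite type and open immersions i₁ : X₁ → Y, i₂ : X₂ → Y over S with j₁ ≫ i₁ = j₂ ≫ i₂, such that
U → Y has schematically dense image. -/
theorem result {S X₁ X₂ U : Scheme.{u}} [IsNoetherian S]
    (p₁ : X₁ ⟶ S) (p₂ : X₂ ⟶ S) [IsSeparated p₁] [QuasiCompact p₁] [LocallyOfFiniteType p₁]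
    [IsSeparated p₂] [QuasiCompact p₂] [LocallyOfFiniteType p₂]
    (j₁ : U ⟶ X₁) (j₂ : U ⟶ X₂) [IsOpenImmersion j₁] [IsOpenImmersion j₂]
    [IsSchemeTheoreticallyDominant j₁] [IsSchemeTheoreticallyDominant j₂] (hj : j₁ ≫ p₁ = j₂ ≫ p₂)
    (W₁ : X₁.Opens) [IsSchemeTheoreticallyDominant W₁.ι] (φ : (↑W₁ : Scheme.{u}) ⟶ X₂)
    (hφ : W₁.ι ≫ p₁ = φ ≫ p₂)
    (hφc : IsClosed (Set.range (fun w => (Limits.pullback.lift W₁.ι φ hφ) w)))
    (k₁ : U ⟶ ↑W₁) (hk₁ : k₁ ≫ W₁.ι = j₁) (hk₁' : k₁ ≫ φ = j₂)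
    (W₂ : X₂.Opens) [IsSchemeTheoreticallyDominant W₂.ι] (ψ : (↑W₂ : Scheme.{u}) ⟶ X₁)
    (hψ : W₂.ι ≫ p₂ = ψ ≫ p₁)
    (hψc : IsClosed (Set.range (fun w => (Limits.pullback.lift W₂.ι ψ hψ) w)))
    (k₂ : U ⟶ ↑W₂) (hk₂ : k₂ ≫ W₂.ι = j₂) (hk₂' : k₂ ≫ ψ = j₁) :
    ∃ (Y : Scheme.{u}) (q : Y ⟶ S) (i₁ : X₁ ⟶ Y) (i₂ : X₂ ⟶ Y), IsSeparated q ∧ QuasiCompact q ∧
      LocallyOfFiniteType q ∧ IsOpenImmersion i₁ ∧ IsOpenImmersion i₂ ∧ i₁ ≫ q = p₁ ∧ i₂ ≫ q = p₂ ∧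
      j₁ ≫ i₁ = j₂ ≫ i₂ ∧ QuasiCompact (j₁ ≫ i₁) ∧ IsSchemeTheoreticallyDominant (j₁ ≫ i₁) := by
  haveI : IsLocallyNoetherian X₁ := LocallyOfFiniteType.isLocallyNoetherian p₁
  haveI : IsLocallyNoetherian X₂ := LocallyOfFiniteType.isLocallyNoetherian p₂
  haveI : CompactSpace X₁ := QuasiCompact.compactSpace_of_compactSpace p₁
  haveI : CompactSpace X₂ := QuasiCompact.compactSpace_of_compactSpace p₂
  haveI : IsDominant (k₁ ≫ W₁.ι) := by rw [hk₁]; infer_instance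
  haveI : IsDominant k₁ := IsDominant.of_comp_of_isOpenImmersion k₁ W₁.ι
  haveI : IsDominant (k₂ ≫ W₂.ι) := by rw [hk₂]; infer_instance
  haveI : IsDominant k₂ := IsDominant.of_comp_of_isOpenImmersion k₂ W₂.ι
  haveI sk₁ : IsSchemeTheoreticallyDominant k₁ :=
    Lib.Helper3.GlueTwo.isSchemeTheoreticallyDominant_of_comp_isOpenImmersion k₁ W₁.ι j₁ hk₁
  haveI sk₂ : IsSchemeTheoreticallyDominant k₂ :=
    Lib.Helper3.GlueTwo.isSchemeTheoreticallyDominant_of_comp_isOpenImmersion k₂ W₂.ι j₂ hk₂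
  have h1 : k₁ ≫ φ = k₂ ≫ W₂.ι := hk₁'.trans hk₂.symm
  have h2 : k₂ ≫ ψ = k₁ ≫ W₁.ι := hk₂'.trans hk₁.symm
  have hφW : Set.range φ ⊆ Set.range W₂.ι := by
    rintro _ ⟨w₁, rfl⟩
    obtain ⟨w₂, h, -⟩ :=
      Lib.Helper3.GlueTwo.quasiDomination_key p₁ p₂ W₁ φ hφ k₁ W₂ ψ hψ hψc k₂ h1 h2 w₁
    exact ⟨w₂, h⟩
  have hψW : Set.range ψ ⊆ Set.range W₁.ι := by
    rintro _ ⟨w₂, rfl⟩
    obtain ⟨w₁, h, -⟩ :=
      Lib.Helper3.GlueTwo.quasiDomination_key p₂ p₁ W₂ ψ hψ k₂ W₁ φ hφ hφc k₁ h2 h1 w₂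
    exact ⟨w₁, h⟩
  obtain ⟨φ', hφ'⟩ : ∃ φ' : (↑W₁ : Scheme.{u}) ⟶ ↑W₂, φ' ≫ W₂.ι = φ :=
    ⟨IsOpenImmersion.lift W₂.ι φ hφW, IsOpenImmersion.lift_fac _ _ _⟩
  obtain ⟨ψ', hψ'⟩ : ∃ ψ' : (↑W₂ : Scheme.{u}) ⟶ ↑W₁, ψ' ≫ W₁.ι = ψ :=
    ⟨IsOpenImmersion.lift W₁.ι ψ hψW, IsOpenImmersion.lift_fac _ _ _⟩
  have e₁ : k₁ ≫ φ' = k₂ := by rw [← cancel_mono W₂.ι, Category.assoc, hφ', h1]
  have e₂ : k₂ ≫ ψ' = k₁ := by rw [← cancel_mono W₁.ι, Category.assoc, hψ', h2]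
  have c₁ : φ' ≫ ψ' = 𝟙 _ := by
    refine Lib.Helper3.GlueTwo.ext_of_isSchemeTheoreticallyDominant (W₁.ι ≫ p₁) ?_ k₁ ?_
    · rw [Category.assoc, reassoc_of% hψ', ← hψ, reassoc_of% hφ', ← hφ, Category.id_comp]
    · rw [reassoc_of% e₁, e₂, Category.comp_id]
  have c₂ : ψ' ≫ φ' = 𝟙 _ := by
    refine Lib.Helper3.GlueTwo.ext_of_isSchemeTheoreticallyDominant (W₂.ι ≫ p₂) ?_ k₂ ?_
    · rw [Category.assoc, reassoc_of% hφ', ← hφ, reassoc_of% hψ', ← hψ, Category.id_comp]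
    · rw [reassoc_of% e₂, e₁, Category.comp_id]
  haveI : IsIso φ' := ⟨ψ', c₁, c₂⟩
  haveI : IsOpenImmersion φ := by rw [← hφ']; infer_instance
  obtain ⟨Y, i₁, i₂, q, hi₁, hi₂, hglue, hq₁, hq₂, hcov, hint⟩ :=
    Lib.Helper3.GlueTwo.exists_glue W₁.ι φ p₁ p₂ hφ
  haveI := hi₁
  haveI := hi₂
  have hjj : j₁ ≫ i₁ = j₂ ≫ i₂ := by
    rw [← hk₁, Category.assoc, hglue, ← Category.assoc, hk₁']
  haveI : IsSeparated q :=
    Lib.Helper3.GlueTwo.isSeparated_of_glue' W₁.ι φ i₁ i₂ hglue hcov hint q p₁ p₂ hq₁ hq₂ hφ hφc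
  haveI : CompactSpace Y := by
    constructor
    have : (Set.univ : Set Y) = Set.range i₁ ∪ Set.range i₂ := by
      ext y; simpa using hcov y
    rw [this]
    exact (isCompact_range i₁.continuous).union (isCompact_range i₂.continuous)
  haveI : QuasiCompact q := inferInstance
  haveI : LocallyOfFiniteType q := by
    refine IsZariskiLocalAtSource.of_iSup_eq_top (P := @LocallyOfFiniteType)
      (fun b : Bool => cond b i₁.opensRange i₂.opensRange) ?_ ?_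
    · rw [eq_top_iff]
      rintro y -
      rw [TopologicalSpace.Opens.mem_iSup]
      rcases hcov y with h | h
      · exact ⟨true, h⟩
      · exact ⟨false, h⟩
    · rintro (_ | _)
      · show LocallyOfFiniteType (i₂.opensRange.ι ≫ q)
        rw [← i₂.isoOpensRange_inv_comp, Category.assoc, hq₂]
        infer_instance
      · show LocallyOfFiniteType (i₁.opensRange.ι ≫ q)
        rw [← i₁.isoOpensRange_inv_comp, Category.assoc, hq₁]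
        infer_instance
  haveI : IsLocallyNoetherian Y := LocallyOfFiniteType.isLocallyNoetherian q
  haveI : QuasiCompact (j₁ ≫ i₁) := inferInstance
  haveI : IsSchemeTheoreticallyDominant (j₁ ≫ i₁) :=
    Lib.Helper3.GlueTwo.isSchemeTheoreticallyDominant_of_glue (j₁ ≫ i₁) i₁ i₂ hcov j₁ j₂ rfl
      hjj.symm
  exact ⟨Y, q, i₁, i₂, inferInstance, inferInstance, inferInstance, inferInstance, inferInstance,
    hq₁, hq₂, hjj, inferInstance, inferInstance⟩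

end Groth.Agent.S17890
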