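import Groth.Statements.S17898
import Mathlib
import Groth.Agent.Lib.Helper9.ValCritAff
-- import your own Groth.Agent.* helpers here

set_option autoImplicit false
universe u
open CategoryTheory AlgebraicGeometry
open ValCrit

namespace Groth.Agent.S17898

open CategoryTheory AlgebraicGeometry Groth.Agent.Lib.Helper9.ValCritAff
namespace Aux

/-- two morphisms from the spectrum of a local ring agreeing at the closed point and after
restriction along an injective ring map are equal -/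
theorem eq_of_comp_eq {X : Scheme.{u}} {S S' : CommRingCat.{u}} [IsLocalRing S]
    (e : S ⟶ S') (he : Function.Injective e.hom) (p₁ p₂ : Spec S ⟶ X)
    (hcl : p₁ (IsLocalRing.closedPoint S) = p₂ (IsLocalRing.closedPoint S))
    (h : Spec.map e ≫ p₁ = Spec.map e ≫ p₂) : p₁ = p₂ := by
  obtain ⟨_, ⟨U, hU, rfl⟩, hxU, -⟩ := X.isBasis_affineOpens.exists_subset_of_mem_open
    (Set.mem_univ (p₁ (IsLocalRing.closedPoint S))) isOpen_univ
  obtain ⟨d₁, hd₁⟩ := factor_affine _ p₁ hU hxU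
  obtain ⟨d₂, hd₂⟩ := factor_affine _ p₂ hU (hcl ▸ hxU)
  have : d₁ ≫ e = d₂ ≫ e := by
    apply factor_unique hU
    rw [Spec.map_comp, Spec.map_comp, Category.assoc, Category.assoc, ← hd₁, ← hd₂, h]
  have hd : d₁ = d₂ := by
    ext t
    apply he
    exact congrArg (fun m => m.hom t) this
  rw [hd₁, hd₂, hd]

theorem main {X Y : Scheme.{u}} (f : Y ⟶ X)
    (K : Type u) [Field K] (R R' : ValuationSubring K) (hRR' : R ≤ R')
    (ι : ↥R →+* ↥R') (hι : ∀ x : ↥R, ((ι x : ↥R') : K) = (x : K))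
    (i : Spec (CommRingCat.of K) ⟶ Y) (φ : Spec (CommRingCat.of ↥R) ⟶ X)
    (w : Spec.map (CommRingCat.ofHom R.subtype) ≫ φ = i ≫ f)
    (g : Spec (CommRingCat.of ↥R') ⟶ Y) (hg₁ : Spec.map (CommRingCat.ofHom R'.subtype) ≫ g = i)
    (hg₂ : g ≫ f = Spec.map (CommRingCat.ofHom ι) ≫ φ)
    (Rt : ValuationSubring (IsLocalRing.ResidueField ↥R')) (σ : ↥R →+* ↥Rt)
    (hσs : Function.Surjective σ)
    (hσ : ∀ x : ↥R, ((σ x : ↥Rt) : IsLocalRing.ResidueField ↥R') = IsLocalRing.residue ↥R' (ι x))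
    (ht : Spec (CommRingCat.of ↥Rt) ⟶ Y)
    (hht₁ : Spec.map (CommRingCat.ofHom Rt.subtype) ≫ ht =
      Spec.map (CommRingCat.ofHom (IsLocalRing.residue ↥R')) ≫ g)
    (hht₂ : ht ≫ f = Spec.map (CommRingCat.ofHom σ) ≫ φ) :
    ∃! h : Spec (CommRingCat.of ↥R) ⟶ Y,
      Spec.map (CommRingCat.ofHom R.subtype) ≫ h = i ∧ h ≫ f = φ ∧
      Spec.map (CommRingCat.ofHom ι) ≫ h = g ∧ Spec.map (CommRingCat.ofHom σ) ≫ h = ht := by
  haveI : IsLocalRing (CommRingCat.of ↥R) := inferInstanceAs (IsLocalRing ↥R)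
  haveI : IsLocalRing (CommRingCat.of ↥R') := inferInstanceAs (IsLocalRing ↥R')
  haveI : IsLocalRing (CommRingCat.of ↥Rt) := inferInstanceAs (IsLocalRing ↥Rt)
  -- ι is injective, σ is local
  have hιinj : Function.Injective ι := by
    intro a b hab
    apply Subtype.ext
    rw [← hι, ← hι, hab]
  have hσloc : IsLocalHom σ := hσs.isLocalHom
  have : IsLocalHom (CommRingCat.ofHom σ).hom := hσloc
  have hσcl : (Spec.map (CommRingCat.ofHom σ)) (IsLocalRing.closedPoint (CommRingCat.of ↥Rt)) =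
      IsLocalRing.closedPoint (CommRingCat.of ↥R) := Spec_closedPoint
  -- the maximal ideal of R' lies in R
  have hmax : ∀ x : ↥R', x ∈ IsLocalRing.maximalIdeal ↥R' → (x : K) ∈ R := by
    intro x hx
    by_contra hxR
    have hx0 : (x : K) ≠ 0 := fun h0 => hxR (h0 ▸ R.zero_mem)
    have hinv : (x : K)⁻¹ ∈ R := (R.mem_or_inv_mem (x : K)).resolve_left hxR
    have hu : IsUnit x := by
      refine ⟨⟨x, ⟨_, hRR' hinv⟩, ?_, ?_⟩, rfl⟩
      · apply Subtype.ext; exact mul_inv_cancel₀ hx0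
      · apply Subtype.ext; exact inv_mul_cancel₀ hx0
    exact (IsLocalRing.mem_maximalIdeal x).1 hx hu
  -- key: residue in Rt implies in R
  have hkey : ∀ r' : ↥R', IsLocalRing.residue ↥R' r' ∈ Rt → (r' : K) ∈ R := by
    intro r' hr'
    obtain ⟨r, hr⟩ := hσs ⟨_, hr'⟩
    have h1 : IsLocalRing.residue ↥R' (ι r) = IsLocalRing.residue ↥R' r' := by
      rw [← hσ, hr]
    have h2 : r' - ι r ∈ IsLocalRing.maximalIdeal ↥R' := by
      rw [← IsLocalRing.residue_eq_zero_iff, map_sub, h1, sub_self]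
    have h3 := hmax _ h2
    have h4 : ((r' - ι r : ↥R') : K) = (r' : K) - (r : K) := by
      rw [← hι]; rfl
    rw [h4] at h3
    have := add_mem h3 r.2
    simpa using this
  -- affine open around the image of the closed point of Rt
  obtain ⟨_, ⟨V, hV, rfl⟩, hyV, -⟩ := Y.isBasis_affineOpens.exists_subset_of_mem_open
    (Set.mem_univ (ht (IsLocalRing.closedPoint (CommRingCat.of ↥Rt)))) isOpen_univ
  obtain ⟨ct, hct⟩ := factor_affine _ ht hV hyV
  have httop : ht ⁻¹ᵁ V = ⊤ := Scheme.preimage_eq_top_of_closedPoint_mem ht hyV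
  have hgV : g (IsLocalRing.closedPoint (CommRingCat.of ↥R')) ∈ V := by
    have pt : Spec (CommRingCat.of (IsLocalRing.ResidueField ↥R')) :=
      IsLocalRing.closedPoint (IsLocalRing.ResidueField ↥R')
    have h1 : (Spec.map (CommRingCat.ofHom (IsLocalRing.residue ↥R'))) pt =
        IsLocalRing.closedPoint (CommRingCat.of ↥R') :=
      IsLocalRing.PrimeSpectrum.comap_residue _ pt
    rw [← h1]
    have h2 : (Spec.map (CommRingCat.ofHom (IsLocalRing.residue ↥R')) ≫ g) pt =
        (Spec.map (CommRingCat.ofHom Rt.subtype) ≫ ht) pt := by rw [hht₁]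
    change g ((Spec.map (CommRingCat.ofHom (IsLocalRing.residue ↥R'))) pt) =
      ht ((Spec.map (CommRingCat.ofHom Rt.subtype)) pt) at h2
    rw [h2]
    have : (Spec.map (CommRingCat.ofHom Rt.subtype)) pt ∈ ht ⁻¹ᵁ V := by rw [httop]; trivial
    exact this
  obtain ⟨c', hc'⟩ := factor_affine _ g hV hgV
  have hcc : ct ≫ CommRingCat.ofHom Rt.subtype =
      c' ≫ CommRingCat.ofHom (IsLocalRing.residue ↥R') := by
    apply factor_unique hV
    rw [Spec.map_comp, Spec.map_comp, Category.assoc, Category.assoc, ← hct, ← hc', hht₁]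
  have hcct : ∀ t : Γ(Y, V), IsLocalRing.residue ↥R' (c'.hom t) =
      ((ct.hom t : ↥Rt) : IsLocalRing.ResidueField ↥R') := by
    intro t
    exact (congrArg (fun m => m.hom t) hcc).symm
  have hmem : ∀ t : Γ(Y, V), ((c'.hom t : ↥R') : K) ∈ R := by
    intro t
    apply hkey
    rw [hcct]
    exact (ct.hom t).2
  let c : Γ(Y, V) →+* ↥R :=
    ((R'.subtype.comp c'.hom).codRestrict R hmem)
  have hιc : CommRingCat.ofHom c ≫ CommRingCat.ofHom ι = c' := by
    ext t
    change ((ι (c t) : ↥R') : K) = _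
    rw [hι]
    rfl
  have hσc : CommRingCat.ofHom c ≫ CommRingCat.ofHom σ = ct := by
    ext t
    change ((σ (c t) : ↥Rt) : IsLocalRing.ResidueField ↥R') = _
    rw [hσ, ← hcct]
    congr 1
    apply Subtype.ext
    rw [hι]
    rfl
  have hsub : CommRingCat.ofHom ι ≫ CommRingCat.ofHom R'.subtype =
      CommRingCat.ofHom R.subtype := by
    ext t
    exact hι t
  set h := Spec.map (CommRingCat.ofHom c) ≫ hV.fromSpec with hh
  have h3 : Spec.map (CommRingCat.ofHom ι) ≫ h = g := by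
    rw [hh, ← Category.assoc, ← Spec.map_comp, hιc, ← hc']
  have h4 : Spec.map (CommRingCat.ofHom σ) ≫ h = ht := by
    rw [hh, ← Category.assoc, ← Spec.map_comp, hσc, ← hct]
  have h1 : Spec.map (CommRingCat.ofHom R.subtype) ≫ h = i := by
    calc Spec.map (CommRingCat.ofHom R.subtype) ≫ h
        = Spec.map (CommRingCat.ofHom ι ≫ CommRingCat.ofHom R'.subtype) ≫ h := by rw [hsub]
      _ = Spec.map (CommRingCat.ofHom R'.subtype) ≫ (Spec.map (CommRingCat.ofHom ι) ≫ h) := by
          rw [Spec.map_comp, Category.assoc]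
      _ = i := by rw [h3, hg₁]
  have h2 : h ≫ f = φ := by
    apply eq_of_comp_eq (CommRingCat.ofHom ι) hιinj
    · have e1 : (Spec.map (CommRingCat.ofHom σ) ≫ (h ≫ f))
          (IsLocalRing.closedPoint (CommRingCat.of ↥Rt)) =
          (Spec.map (CommRingCat.ofHom σ) ≫ φ) (IsLocalRing.closedPoint (CommRingCat.of ↥Rt)) := by
        rw [← Category.assoc, h4, hht₂]
      change (h ≫ f) ((Spec.map (CommRingCat.ofHom σ))
        (IsLocalRing.closedPoint (CommRingCat.of ↥Rt))) =
        φ ((Spec.map (CommRingCat.ofHom σ)) (IsLocalRing.closedPoint (CommRingCat.of ↥Rt))) at e1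
      rw [hσcl] at e1
      exact e1
    · rw [← Category.assoc, h3, hg₂]
  refine ⟨h, ⟨h1, h2, h3, h4⟩, ?_⟩
  rintro h' ⟨-, -, h3', h4'⟩
  apply eq_of_comp_eq (CommRingCat.ofHom ι) hιinj
  · have e1 : (Spec.map (CommRingCat.ofHom σ) ≫ h')
        (IsLocalRing.closedPoint (CommRingCat.of ↥Rt)) =
        (Spec.map (CommRingCat.ofHom σ) ≫ h) (IsLocalRing.closedPoint (CommRingCat.of ↥Rt)) := by
      rw [h4, h4']
    change h' ((Spec.map (CommRingCat.ofHom σ))
      (IsLocalRing.closedPoint (CommRingCat.of ↥Rt))) =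
      h ((Spec.map (CommRingCat.ofHom σ)) (IsLocalRing.closedPoint (CommRingCat.of ↥Rt))) at e1
    rw [hσcl] at e1
    exact e1
  · rw [h3, h3']

end Aux

/-- Let f : Y → X be a morphism of schemes (not assumed separated), K a field with valuation rings R ⊆
R' (inclusion ι), i : Spec K → Y and φ : Spec R → X a commutative square over f, and g : Spec R' → Y
a lift of Spec R' → Spec R → X restricting to i on Spec K. Let K̃ be the residue field of R', R̃ ⊆
K̃ the image of R (a valuation ring of K̃) with the surjection σ : R → R̃. Then every h̃ : Spec R̃ →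
Y whose restriction to Spec K̃ is Spec K̃ → Spec R' → Y (via g) and which lies over Spec R̃ → Spec R
→ X is induced by a unique h : Spec R → Y compatible with the whole diagram: h restricts to i on
Spec K, lies over φ, restricts to g along Spec R' → Spec R and to h̃ along Spec R̃ → Spec R. (ι, R̃,
σ are given as data pinned by their defining equations.) -/
theorem result {X Y : Scheme.{u}} (f : Y ⟶ X)
    (K : Type u) [Field K] (R R' : ValuationSubring K) (hRR' : R ≤ R')
    (ι : ↥R →+* ↥R') (hι : ∀ x : ↥R, ((ι x : ↥R') : K) = (x : K))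
    (i : Spec (CommRingCat.of K) ⟶ Y) (φ : Spec (CommRingCat.of ↥R) ⟶ X)
    (w : Spec.map (CommRingCat.ofHom R.subtype) ≫ φ = i ≫ f)
    (g : Spec (CommRingCat.of ↥R') ⟶ Y) (hg₁ : Spec.map (CommRingCat.ofHom R'.subtype) ≫ g = i)
    (hg₂ : g ≫ f = Spec.map (CommRingCat.ofHom ι) ≫ φ)
    (Rt : ValuationSubring (IsLocalRing.ResidueField ↥R')) (σ : ↥R →+* ↥Rt) (hσs : Function.Surjective σ)
    (hσ : ∀ x : ↥R, ((σ x : ↥Rt) : IsLocalRing.ResidueField ↥R') = IsLocalRing.residue ↥R' (ι x))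
    (ht : Spec (CommRingCat.of ↥Rt) ⟶ Y)
    (hht₁ : Spec.map (CommRingCat.ofHom Rt.subtype) ≫ ht =
      Spec.map (CommRingCat.ofHom (IsLocalRing.residue ↥R')) ≫ g)
    (hht₂ : ht ≫ f = Spec.map (CommRingCat.ofHom σ) ≫ φ) :
    ∃! h : Spec (CommRingCat.of ↥R) ⟶ Y, Spec.map (CommRingCat.ofHom R.subtype) ≫ h = i ∧ h ≫ f = φ ∧
      Spec.map (CommRingCat.ofHom ι) ≫ h = g ∧ Spec.map (CommRingCat.ofHom σ) ≫ h = ht := by
  exact Aux.main f K R R' hRR' ι hι i φ w g hg₁ hg₂ Rt σ hσs hσ ht hht₁ hht₂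

end Groth.Agent.S17898
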