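import Groth.Statements.S17901
import Mathlib
import Groth.Agent.Lib.Helper9.FibreSquare

set_option autoImplicit false
universe u
open TensorProduct
open Pinch

namespace Groth.Agent.S17901

/-- Let R be a commutative ring and let B' → B → A, B' → A' → A be a fibre square of R-algebras (B' = B
×_A A') with A' → A surjective, where B, A' and A are flat over R. Then for every commutative
R-algebra R' the square obtained by applying R' ⊗_R − is again a fibre square: R' ⊗_R A' → R' ⊗_R A
is surjective and every pair of elements of R' ⊗_R B and R' ⊗_R A' with the same image in R' ⊗_R A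
is the image of a unique element of R' ⊗_R B'. (The published lemma concludes that the base-changed
square of spectra is co-cartesian in ringed spaces; this row states the ring form, surjective edge
and fibre product, which its proof establishes before translating it to ringed spaces.) -/
theorem result (R B' B A' A : Type u) [CommRing R] [CommRing B'] [CommRing B] [CommRing A'] [CommRing A]
    [Algebra B' B] [Algebra B' A'] [Algebra B A] [Algebra A' A] [Algebra B' A]
    [IsScalarTower B' B A] [IsScalarTower B' A' A]
    [Algebra R B'] [Algebra R B] [Algebra R A'] [Algebra R A]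
    [IsScalarTower R B' B] [IsScalarTower R B' A'] [IsScalarTower R B' A] [IsScalarTower R B A] [IsScalarTower R A' A]
    (hsq : EtMil.IsFibreSquare B' B A' A)
    [Module.Flat R B] [Module.Flat R A'] [Module.Flat R A]
    (R' : Type u) [CommRing R'] [Algebra R R'] :
    Function.Surjective (Algebra.TensorProduct.map (AlgHom.id R R') (IsScalarTower.toAlgHom R A' A)) ∧
    ∀ (x : R' ⊗[R] B) (y : R' ⊗[R] A'),
      Algebra.TensorProduct.map (AlgHom.id R R') (IsScalarTower.toAlgHom R B A) x =
        Algebra.TensorProduct.map (AlgHom.id R R') (IsScalarTower.toAlgHom R A' A) y →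
      ∃! z : R' ⊗[R] B',
        Algebra.TensorProduct.map (AlgHom.id R R') (IsScalarTower.toAlgHom R B' B) z = x ∧
        Algebra.TensorProduct.map (AlgHom.id R R') (IsScalarTower.toAlgHom R B' A') z = y := by
  open Groth.Agent.Helper9 in
  classical
  have conv : ∀ (X Y : Type u) [CommRing X] [CommRing Y] [Algebra R X] [Algebra R Y] (φ : X →ₐ[R] Y)
      (x : R' ⊗[R] X),
      Algebra.TensorProduct.map (AlgHom.id R R') φ x = φ.toLinearMap.lTensor R' x := by
    intro X Y _ _ _ _ φ x
    rfl
  refine ⟨?_, ?_⟩
  · intro a
    obtain ⟨a', ha'⟩ := LinearMap.lTensor_surjective R'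
      (g := (IsScalarTower.toAlgHom R A' A).toLinearMap) hsq.1 a
    exact ⟨a', by rw [conv]; exact ha'⟩
  · intro x y hxy
    rw [conv, conv] at hxy
    let α := (IsScalarTower.toAlgHom R B' B).toLinearMap
    let β := (IsScalarTower.toAlgHom R B' A').toLinearMap
    let φ := (IsScalarTower.toAlgHom R B A).toLinearMap
    let ψ := (IsScalarTower.toAlgHom R A' A).toLinearMap
    let f := FibreSq.f R B' B A'
    let g := FibreSq.g R B A' A
    have hf : Function.Injective (f.lTensor R') :=
      lTensor_injective_of_exact_of_flat f g (FibreSq.f_injective R hsq) (FibreSq.exact_f_g R hsq)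
        (FibreSq.g_surjective R hsq) R'
    have hex : Function.Exact (f.lTensor R') (g.lTensor R') :=
      lTensor_exact R' (FibreSq.exact_f_g R hsq) (FibreSq.g_surjective R hsq)
    have h1 : g ∘ₗ LinearMap.inl R B A' = φ := by
      apply LinearMap.ext; intro b; simp [g, φ]
    have h2 : g ∘ₗ LinearMap.inr R B A' = -ψ := by
      apply LinearMap.ext; intro b; simp [g, ψ]
    have h3 : LinearMap.fst R B A' ∘ₗ f = α := by
      apply LinearMap.ext; intro b; simp [f, α]
    have h4 : LinearMap.snd R B A' ∘ₗ f = β := by
      apply LinearMap.ext; intro b; simp [f, β]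
    have hdecomp : ∀ t : R' ⊗[R] (B × A'),
        t = (LinearMap.inl R B A').lTensor R' ((LinearMap.fst R B A').lTensor R' t) +
          (LinearMap.inr R B A').lTensor R' ((LinearMap.snd R B A').lTensor R' t) := by
      intro t
      rw [← LinearMap.comp_apply, ← LinearMap.comp_apply, ← LinearMap.lTensor_comp,
        ← LinearMap.lTensor_comp, ← LinearMap.add_apply, ← LinearMap.lTensor_add]
      have : LinearMap.inl R B A' ∘ₗ LinearMap.fst R B A' +
          LinearMap.inr R B A' ∘ₗ LinearMap.snd R B A' = LinearMap.id := by
        apply LinearMap.ext; intro p; simp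
      rw [this, LinearMap.lTensor_id, LinearMap.id_apply]
    have hfz : ∀ z : R' ⊗[R] B', (f.lTensor R') z =
        (LinearMap.inl R B A').lTensor R' (α.lTensor R' z) +
          (LinearMap.inr R B A').lTensor R' (β.lTensor R' z) := by
      intro z
      rw [hdecomp ((f.lTensor R') z), ← LinearMap.comp_apply (LinearMap.lTensor R' (LinearMap.fst R B A')),
        ← LinearMap.comp_apply (LinearMap.lTensor R' (LinearMap.snd R B A')),
        ← LinearMap.lTensor_comp, ← LinearMap.lTensor_comp, h3, h4]
    let t : R' ⊗[R] (B × A') := (LinearMap.inl R B A').lTensor R' x + (LinearMap.inr R B A').lTensor R' y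
    have ht : (g.lTensor R') t = 0 := by
      simp only [t, map_add]
      rw [← LinearMap.comp_apply, ← LinearMap.comp_apply, ← LinearMap.lTensor_comp,
        ← LinearMap.lTensor_comp, h1, h2, LinearMap.lTensor_neg, LinearMap.neg_apply]
      change φ.lTensor R' x + -(ψ.lTensor R' y) = 0
      rw [hxy, add_neg_cancel]
    obtain ⟨z, hz⟩ := (hex t).mp ht
    have hzx : α.lTensor R' z = x := by
      have := congrArg ((LinearMap.fst R B A').lTensor R') hz
      rw [← LinearMap.comp_apply, ← LinearMap.lTensor_comp, h3] at this
      rw [this]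
      simp only [t, map_add]
      rw [← LinearMap.comp_apply, ← LinearMap.comp_apply, ← LinearMap.lTensor_comp,
        ← LinearMap.lTensor_comp, LinearMap.fst_comp_inl, LinearMap.fst_comp_inr]
      simp
    have hzy : β.lTensor R' z = y := by
      have := congrArg ((LinearMap.snd R B A').lTensor R') hz
      rw [← LinearMap.comp_apply, ← LinearMap.lTensor_comp, h4] at this
      rw [this]
      simp only [t, map_add]
      rw [← LinearMap.comp_apply, ← LinearMap.comp_apply, ← LinearMap.lTensor_comp,
        ← LinearMap.lTensor_comp, LinearMap.snd_comp_inl, LinearMap.snd_comp_inr]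
      simp
    refine ⟨z, ⟨by rw [conv]; exact hzx, by rw [conv]; exact hzy⟩, ?_⟩
    rintro z' ⟨hz'x, hz'y⟩
    rw [conv] at hz'x hz'y
    apply hf
    rw [hfz z', hfz z]
    change (LinearMap.inl R B A').lTensor R' (α.lTensor R' z') +
      (LinearMap.inr R B A').lTensor R' (β.lTensor R' z') = _
    rw [hz'x, hz'y, hzx, hzy]

end Groth.Agent.S17901
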