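import Groth.Statements.S17902
import Mathlib
-- import your own Groth.Agent.* helpers here

set_option autoImplicit false
universe u
open CAlg

namespace Groth.Agent.S17902

namespace Aux

section general
variable {A : Type*} [CommRing A] {M N : Type*} [AddCommGroup M] [Module A M]
  [AddCommGroup N] [Module A N]

theorem bij_of_le {S T : Submonoid A} (hST : S ≤ T) (l : M →ₗ[A] N)
    {M₁ N₁ M₂ N₂ : Type*} [AddCommGroup M₁] [Module A M₁] [AddCommGroup N₁] [Module A N₁]
    [AddCommGroup M₂] [Module A M₂] [AddCommGroup N₂] [Module A N₂]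
    (f₁ : M →ₗ[A] M₁) (g₁ : N →ₗ[A] N₁) [IsLocalizedModule S f₁] [IsLocalizedModule S g₁]
    (f₂ : M →ₗ[A] M₂) (g₂ : N →ₗ[A] N₂) [IsLocalizedModule T f₂] [IsLocalizedModule T g₂]
    (h : Function.Bijective (IsLocalizedModule.map S f₁ g₁ l)) :
    Function.Bijective (IsLocalizedModule.map T f₂ g₂ l) := by
  constructor
  · rw [injective_iff_map_eq_zero]
    intro x hx
    obtain ⟨⟨m, t⟩, hmt⟩ := IsLocalizedModule.surj T f₂ x
    simp only [Submonoid.smul_def] at hmt
    have h1 : g₂ (l m) = 0 := by
      rw [← IsLocalizedModule.map_apply T f₂ g₂ l m, ← hmt, map_smul, hx, smul_zero]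
    obtain ⟨u, hu⟩ := (IsLocalizedModule.eq_zero_iff T g₂).mp h1
    simp only [Submonoid.smul_def] at hu
    have h2 : IsLocalizedModule.map S f₁ g₁ l (f₁ ((u : A) • m)) = 0 := by
      rw [IsLocalizedModule.map_apply, map_smul, hu, map_zero]
    have h3 : f₁ ((u : A) • m) = 0 := h.1 (by rw [h2, map_zero])
    obtain ⟨v, hv⟩ := (IsLocalizedModule.eq_zero_iff S f₁).mp h3
    simp only [Submonoid.smul_def] at hv
    have h4 : f₂ m = 0 :=
      (IsLocalizedModule.eq_zero_iff T f₂).mpr ⟨⟨v, hST v.2⟩ * u, by
        simp only [Submonoid.smul_def, Submonoid.coe_mul, mul_smul]; exact hv⟩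
    rw [h4] at hmt
    exact (IsLocalizedModule.smul_injective f₂ t) (by simpa [Submonoid.smul_def] using hmt)
  · intro y
    obtain ⟨⟨n, t⟩, hnt⟩ := IsLocalizedModule.surj T g₂ y
    obtain ⟨x, hx⟩ := h.2 (g₁ n)
    obtain ⟨⟨m, v⟩, hmv⟩ := IsLocalizedModule.surj S f₁ x
    simp only [Submonoid.smul_def] at hnt hmv
    have h1 : g₁ ((v : A) • n - l m) = 0 := by
      rw [map_sub, map_smul, ← hx, ← map_smul, hmv, IsLocalizedModule.map_apply, sub_self]
    obtain ⟨w, hw⟩ := (IsLocalizedModule.eq_zero_iff S g₁).mp h1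
    simp only [Submonoid.smul_def] at hw
    rw [smul_sub, sub_eq_zero] at hw
    let s : T := ⟨w, hST w.2⟩ * ⟨v, hST v.2⟩ * t
    refine ⟨IsLocalizedModule.mk' f₂ ((w : A) • m) s, ?_⟩
    rw [IsLocalizedModule.map_mk', IsLocalizedModule.mk'_eq_iff, map_smul, ← hw]
    simp only [s, Submonoid.smul_def, Submonoid.coe_mul, mul_smul, hnt, map_smul]

/-- the localisation map on coordinate space -/
noncomputable abbrev fM (T : Submonoid A) (n : ℕ) :
    (Fin n →₀ A) →ₗ[A] (Fin n →₀ Localization T) :=
  Finsupp.mapRange.linearMap (Algebra.linearMap A (Localization T))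

theorem map_eq (T : Submonoid A) {n : ℕ} (s : Fin n → M) :
    IsLocalizedModule.map T (fM T n) (LocalizedModule.mkLinearMap T M)
        (Finsupp.linearCombination A s) =
      (Finsupp.linearCombination (Localization T)
        (fun j => LocalizedModule.mkLinearMap T M (s j))).restrictScalars A := by
  apply IsLocalizedModule.linearMap_ext T (fM T n) (LocalizedModule.mkLinearMap T M)
  rw [IsLocalizedModule.map_comp]
  apply Finsupp.lhom_ext'
  intro j
  apply LinearMap.ext_ring
  simp [fM]

def IsBasisAt (T : Submonoid A) {n : ℕ} (s : Fin n → M) : Prop :=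
  LinearIndependent (Localization T) (fun j => LocalizedModule.mkLinearMap T M (s j)) ∧
  Submodule.span (Localization T)
    (Set.range fun j => LocalizedModule.mkLinearMap T M (s j)) = ⊤

theorem basis_iff (T : Submonoid A) {n : ℕ} (s : Fin n → M) :
    IsBasisAt T s ↔
      Function.Bijective (IsLocalizedModule.map T (fM T n) (LocalizedModule.mkLinearMap T M)
        (Finsupp.linearCombination A s)) := by
  rw [map_eq, IsBasisAt, ← Finsupp.range_linearCombination, LinearMap.range_eq_top]
  rfl

theorem isBasisAt_of_le {S T : Submonoid A} (hST : S ≤ T) {n : ℕ} (s : Fin n → M)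
    (h : IsBasisAt S s) : IsBasisAt T s := by
  rw [basis_iff] at h ⊢
  exact bij_of_le hST _ _ _ _ _ h

end general

theorem unit_det {R : Type*} [CommRing R] [IsLocalRing R] {V : Type*} [AddCommGroup V] [Module R V]
    {n : ℕ} (B : Module.Basis (Fin n) R V) (v : Fin n → V) (a : R) (ha : IsUnit a)
    (h : ∀ i j, B.repr (v j) i - (if i = j then a else 0) ∈ IsLocalRing.maximalIdeal R) :
    IsUnit (B.det v) := by
  rw [Module.Basis.det_apply]
  have h1 : (IsLocalRing.residue R) (B.toMatrix v).det ≠ 0 := by
    rw [RingHom.map_det]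
    have : (IsLocalRing.residue R).mapMatrix (B.toMatrix v) =
        (IsLocalRing.residue R a) • (1 : Matrix (Fin n) (Fin n) (IsLocalRing.ResidueField R)) := by
      ext i j
      have := h i j
      rw [← IsLocalRing.residue_eq_zero_iff, map_sub, sub_eq_zero] at this
      simp only [RingHom.mapMatrix_apply, Matrix.map_apply, Module.Basis.toMatrix_apply, this,
        Matrix.smul_apply, Matrix.one_apply, smul_eq_mul]
      split_ifs <;> simp
    rw [this, Matrix.det_smul, Matrix.det_one, mul_one]
    exact pow_ne_zero _ (ha.map (IsLocalRing.residue R)).ne_zero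
  by_contra hu
  exact h1 ((IsLocalRing.residue_eq_zero_iff _).mpr ((IsLocalRing.mem_maximalIdeal _).mpr hu))

section main
variable {A : Type u} [CommRing A] {M : Type u} [AddCommGroup M] [Module A M]

/-- clearing denominators in a basis of `M_g` -/
theorem exists_isBasisAt_powers (g : A) {n : ℕ}
    (b : Module.Basis (Fin n) (Localization.Away g) (LocalizedModule (Submonoid.powers g) M)) :
    ∃ t : Fin n → M, IsBasisAt (Submonoid.powers g) t := by
  have h1 : ∀ j, ∃ mc : M × Submonoid.powers g,
      mc.2 • b j = LocalizedModule.mkLinearMap (Submonoid.powers g) M mc.1 := fun j =>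
    IsLocalizedModule.surj (Submonoid.powers g) (LocalizedModule.mkLinearMap _ M) (b j)
  choose mc hmc using h1
  have hw : ∀ j, IsUnit (algebraMap A (Localization.Away g) ((mc j).2 : A)) := fun j =>
    IsLocalization.map_units _ (mc j).2
  have hfun : (fun j => LocalizedModule.mkLinearMap (Submonoid.powers g) M (mc j).1) =
      ⇑(b.isUnitSMul hw) := by
    funext j
    rw [Module.Basis.isUnitSMul_apply, ← hmc j, Submonoid.smul_def, algebraMap_smul]
  refine ⟨fun j => (mc j).1, ?_, ?_⟩
  · rw [hfun]; exact (b.isUnitSMul hw).linearIndependent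
  · rw [hfun]; exact (b.isUnitSMul hw).span_eq

open Classical in
/-- the key gluing step -/
theorem isBasisAt_sum {n : ℕ} (P : Finset (PrimeSpectrum A)) (p : PrimeSpectrum A) (hp : p ∈ P)
    (a : PrimeSpectrum A → A) (t : PrimeSpectrum A → Fin n → M)
    (hap : a p ∉ p.asIdeal) (ha : ∀ p' ∈ P.erase p, a p' ∈ p.asIdeal)
    (ht : IsBasisAt p.asIdeal.primeCompl (t p)) :
    IsBasisAt p.asIdeal.primeCompl (fun j => ∑ p' ∈ P, a p' • t p' j) := by
  classical
  let R := Localization.AtPrime p.asIdeal
  let mk := LocalizedModule.mkLinearMap p.asIdeal.primeCompl M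
  let B : Module.Basis (Fin n) R (LocalizedModule p.asIdeal.primeCompl M) :=
    Module.Basis.mk ht.1 (le_of_eq ht.2.symm)
  have hB : ∀ j, B j = mk (t p j) := fun j => by simp [B, mk]
  unfold IsBasisAt
  rw [B.is_basis_iff_det]
  apply unit_det B _ (algebraMap A R (a p))
    (IsLocalization.map_units R (⟨a p, hap⟩ : p.asIdeal.primeCompl))
  intro i j
  have h1 : mk (∑ p' ∈ P, a p' • t p' j) =
      algebraMap A R (a p) • B j + ∑ p' ∈ P.erase p, algebraMap A R (a p') • mk (t p' j) := by
    rw [map_sum, ← Finset.add_sum_erase P _ hp, hB]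
    simp only [map_smul, algebraMap_smul]
  show B.repr (mk (∑ p' ∈ P, a p' • t p' j)) i - _ ∈ _
  rw [h1, map_add, map_smul, Module.Basis.repr_self, map_sum]
  simp only [Finsupp.coe_add, Pi.add_apply, Finsupp.coe_smul, Pi.smul_apply,
    Finsupp.single_apply, smul_eq_mul, Finsupp.coe_finsetSum, Finset.sum_apply, map_smul]
  have h2 : (algebraMap A R (a p) * if j = i then (1 : R) else 0) =
      if i = j then algebraMap A R (a p) else 0 := by
    by_cases h : i = j
    · subst h; simp
    · simp [h, Ne.symm h]
  rw [h2, add_sub_cancel_left]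
  apply Ideal.sum_mem
  intro p' hp'
  apply Ideal.mul_mem_right
  exact (IsLocalization.AtPrime.to_map_mem_maximal_iff R p.asIdeal (a p')).mpr (ha p' hp')


open Classical in
theorem main (A : Type u) [CommRing A] (M : Type u) [AddCommGroup M] [Module A M]
    [Module.Finite A M] [Module.Projective A M] (n : ℕ) (P : Finset (PrimeSpectrum A))
    (hP : ∀ p ∈ P, ∃ g : A, g ∉ p.asIdeal ∧
      Nonempty (Module.Basis (Fin n) (Localization.Away g)
        (LocalizedModule (Submonoid.powers g) M))) :
    ∃ (s : Fin n → M) (U : Set (PrimeSpectrum A)), IsOpen U ∧ (∀ p ∈ P, p ∈ U) ∧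
      ∀ q ∈ U, IsBasisAt q.asIdeal.primeCompl s := by
  have h1 : ∀ p ∈ P, ∃ t : Fin n → M, IsBasisAt p.asIdeal.primeCompl t := by
    intro p hp
    obtain ⟨g, hg, ⟨b⟩⟩ := hP p hp
    obtain ⟨t, ht⟩ := exists_isBasisAt_powers g b
    exact ⟨t, isBasisAt_of_le (by rw [Submonoid.powers_le]; exact hg) t ht⟩
  choose! t ht using h1
  let P' : Finset (PrimeSpectrum A) := P.filter (fun p => Maximal (· ∈ P) p)
  have hP'P : ∀ p ∈ P', p ∈ P := fun p hp => (Finset.mem_filter.mp hp).1
  have h2 : ∀ p ∈ P', ∃ a : A, a ∉ p.asIdeal ∧ ∀ p' ∈ P'.erase p, a ∈ p'.asIdeal := by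
    intro p hp
    by_contra hcon
    push Not at hcon
    have hle : (P'.erase p).inf (fun p' => p'.asIdeal) ≤ p.asIdeal := by
      intro a ha
      by_contra hap
      obtain ⟨p', hp', hap'⟩ := hcon a hap
      exact hap' ((Finset.inf_le hp' : (P'.erase p).inf (fun p' => p'.asIdeal) ≤ p'.asIdeal) ha)
    obtain ⟨p', hp', hle'⟩ := (Ideal.IsPrime.inf_le' p.2).mp hle
    have hp'2 := Finset.mem_erase.mp hp'
    have hmax : Maximal (· ∈ P) p' := (Finset.mem_filter.mp hp'2.2).2
    have hle2 : p ≤ p' := hmax.2 (hP'P p hp) hle'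
    exact hp'2.1 (le_antisymm hle' hle2)
  choose! a ha using h2
  let s : Fin n → M := fun j => ∑ p' ∈ P', a p' • t p' j
  have hs : ∀ p ∈ P', IsBasisAt p.asIdeal.primeCompl s := by
    intro p hp
    refine isBasisAt_sum P' p hp a t (ha p hp).1 (fun p' hp' => ?_) (ht p (hP'P p hp))
    have hp'2 := Finset.mem_erase.mp hp'
    exact (ha p' hp'2.2).2 p (Finset.mem_erase.mpr ⟨Ne.symm hp'2.1, hp⟩)
  let U : Set (PrimeSpectrum A) := {q | IsBasisAt q.asIdeal.primeCompl s}
  have hU : IsOpen U := by
    rw [isOpen_iff_forall_mem_open]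
    intro q hq
    have hq' := (basis_iff _ s).mp hq
    have : Module.FinitePresentation A M := Module.finitePresentation_of_projective A M
    obtain ⟨g, hg, hbij⟩ := Module.FinitePresentation.exists_notMem_bijective
      (Finsupp.linearCombination A s) q.asIdeal (fM q.asIdeal.primeCompl n)
      (LocalizedModule.mkLinearMap q.asIdeal.primeCompl M) hq'
    refine ⟨PrimeSpectrum.basicOpen g, ?_, (PrimeSpectrum.basicOpen g).2, hg⟩
    intro q' hq'
    have hle : Submonoid.powers g ≤ q'.asIdeal.primeCompl := by
      rw [Submonoid.powers_le]; exact hq'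
    show IsBasisAt _ s
    rw [basis_iff]
    exact bij_of_le hle _ (LocalizedModule.mkLinearMap _ _) (LocalizedModule.mkLinearMap _ _)
      _ _ hbij
  refine ⟨s, U, hU, ?_, fun q hq => hq⟩
  intro p hp
  obtain ⟨p', hpp', hmax⟩ := P.exists_le_maximal hp
  have hp'U : p' ∈ U := hs p' (Finset.mem_filter.mpr ⟨hmax.1, hmax⟩)
  exact ((PrimeSpectrum.le_iff_specializes p p').mp hpp').mem_open hU hp'U

end main

end Aux

/-- Let A be a commutative ring, M a finitely generated projective A-module, n a natural number and P a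
finite set of prime ideals of A such that for every p in P there is g outside p with M_g free of
rank n over A_g. Then there exist n elements of M and an open subset U of Spec A containing P such
that for every prime q in U the images of these elements in M_q form a basis of M_q over A_q. (The
published conclusion is that the associated sheaf is free of rank n on some open neighbourhood of P;
the form given here, with n global elements of M, is what its proof produces.) -/
theorem result (A : Type u) [CommRing A] (M : Type u) [AddCommGroup M] [Module A M]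
    [Module.Finite A M] [Module.Projective A M] (n : ℕ) (P : Finset (PrimeSpectrum A))
    (hP : ∀ p ∈ P, ∃ g : A, g ∉ p.asIdeal ∧
      Nonempty (Module.Basis (Fin n) (Localization.Away g) (LocalizedModule (Submonoid.powers g) M))) :
    ∃ (s : Fin n → M) (U : Set (PrimeSpectrum A)), IsOpen U ∧ (∀ p ∈ P, p ∈ U) ∧
      ∀ q ∈ U,
        LinearIndependent (Localization.AtPrime q.asIdeal)
            (fun j => LocalizedModule.mkLinearMap q.asIdeal.primeCompl M (s j)) ∧
          Submodule.span (Localization.AtPrime q.asIdeal)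
            (Set.range fun j => LocalizedModule.mkLinearMap q.asIdeal.primeCompl M (s j)) = ⊤ := by
  exact Aux.main A M n P hP

end Groth.Agent.S17902
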