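import Groth.Statements.S17933
import Mathlib
import Groth.Agent.Lib.Helper9.MultCrvBasic

set_option autoImplicit false
universe u
open MultCrv

namespace Groth.Agent.S17933

/-- Let R be a discrete valuation ring, n ≥ 1, A = R[X]/(X^n) with z the class of X, and M a finitely
generated A-module. Then M is torsion-free as an R-module if and only if the submodule M^(1) of
elements killed by z is a free R-module. (This is the statement at a closed point of the sheaf
statement: for a primitive multiple curve of multiplicity n the local ring at a closed point is of
the form R[X]/(X^n) with R the local ring of the reduced smooth curve, torsion-freeness is the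
absence of sections with finite support, and local freeness on the reduced curve is freeness of the
stalk; the row is stated for every discrete valuation ring R.) -/
theorem result (R : Type u) [CommRing R] [IsDomain R] [IsDiscreteValuationRing R] (n : ℕ) (hn : 1 ≤ n) (M : Type u) [AddCommGroup M] [Module (MultCrv.Rn R n) M] [Module R M] [IsScalarTower R (MultCrv.Rn R n) M] [Module.Finite (MultCrv.Rn R n) M] : Module.IsTorsionFree R M ↔ Module.Free R ↥(MultCrv.filt2 R n M 1) := by
  open Groth.Agent.Helper9 Polynomial in
  haveI : Module.Finite R (MultCrv.Rn R n) := (monic_X_pow n).finite_quotient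
  haveI : Module.Finite R M := Module.Finite.trans (MultCrv.Rn R n) M
  let ι : ↥(MultCrv.filt2 R n M 1) →ₗ[R] M := (MultCrv.filt2 R n M 1).subtype.restrictScalars R
  have hι : Function.Injective ι := Subtype.val_injective
  constructor
  · intro htf
    haveI : Module.IsTorsionFree R ↥(MultCrv.filt2 R n M 1) :=
      Function.Injective.moduleIsTorsionFree ι hι (fun r m => map_smul ι r m)
    haveI : Module.Finite R ↥(MultCrv.filt2 R n M 1) := Module.Finite.of_injective ι hι
    infer_instance
  · intro hfree
    haveI : Module.IsTorsionFree R ↥(MultCrv.filt2 R n M 1) := inferInstance
    rw [Module.isTorsionFree_iff_smul_eq_zero]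
    intro r m hrm
    by_cases hr : r = 0
    · exact Or.inl hr
    · right
      refine MC.eq_zero_of_socle (R := R) (n := n) (fun u => r • u = 0) ?_ ?_ m hrm
      · intro u hu
        rw [smul_comm, hu, smul_zero]
      · intro u hu hz
        have hmem : u ∈ MultCrv.filt2 R n M 1 := by
          rw [MC.mem_filt2_iff, pow_one]; exact hz
        have h0 : r • (⟨u, hmem⟩ : ↥(MultCrv.filt2 R n M 1)) = 0 := by
          apply hι
          rw [map_smul, map_zero]
          exact hu
        rcases (Module.isTorsionFree_iff_smul_eq_zero.mp inferInstance) r _ h0 with h | h
        · exact absurd h hr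
        · exact congrArg Subtype.val h

end Groth.Agent.S17933
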