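import Groth.Statements.S17935
import Mathlib
import Groth.Agent.Lib.Helper9.MultCrvFrob2

set_option autoImplicit false
universe u
open MultCrv

namespace Groth.Agent.S17935

/-- Let R be a discrete valuation ring, n ≥ 1, A = R[X]/(X^n), and M a finitely generated A-module. Then
M is reflexive over A (the evaluation map into the double A-dual is bijective) if and only if M is
torsion-free as an R-module. (Statement at a closed point of the sheaf statement on a primitive
multiple curve of multiplicity n, whose local rings are of the form R[X]/(X^n) with R the local ring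
of the reduced smooth curve, torsion-freeness of a coherent sheaf there meaning no nonzero subsheaf
with finite support; stated for every discrete valuation ring R.) -/
theorem result (R : Type u) [CommRing R] [IsDomain R] [IsDiscreteValuationRing R] (n : ℕ) (hn : 1 ≤ n) (M : Type u) [AddCommGroup M] [Module (MultCrv.Rn R n) M] [Module R M] [IsScalarTower R (MultCrv.Rn R n) M] [Module.Finite (MultCrv.Rn R n) M] : Module.IsReflexive (MultCrv.Rn R n) M ↔ Module.IsTorsionFree R M := by
  open Groth.Agent.Helper9 MultCrv Polynomial in
  obtain ⟨k, rfl⟩ : ∃ k, n = k + 1 := ⟨n - 1, by omega⟩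
  haveI : Module.Finite R (Rn R (k + 1)) := (monic_X_pow (k + 1)).finite_quotient
  haveI : Module.Free R (Rn R (k + 1)) := (monic_X_pow (k + 1)).free_quotient
  haveI : Module.Finite R M := Module.Finite.trans (Rn R (k + 1)) M
  constructor
  · intro hrefl
    rw [Module.isTorsionFree_iff_smul_eq_zero]
    intro r m hrm
    by_cases hr : r = 0
    · exact Or.inl hr
    right
    apply (Module.bijective_dual_eval (Rn R (k + 1)) M).1
    rw [map_zero]
    apply LinearMap.ext
    intro φ
    rw [Module.Dual.eval_apply, LinearMap.zero_apply]
    have h1 : r • φ m = 0 := by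
      have h2 : φ (algebraMap R (Rn R (k + 1)) r • m) = 0 := by
        rw [algebraMap_smul, hrm, map_zero]
      rw [map_smul, smul_eq_mul] at h2
      rw [← h2]
      exact Algebra.smul_def (A := Rn R (k + 1)) r (φ m)
    rcases smul_eq_zero.mp h1 with h | h
    · exact absurd h hr
    · exact h
  · intro htf
    haveI : Module.Free R M := inferInstance
    refine ⟨⟨?_, ?_⟩⟩
    · rw [injective_iff_map_eq_zero]
      intro m hm
      rw [← Module.forall_dual_apply_eq_zero_iff R m]
      intro l
      have h1 := congrArg (fun Ξ : Module.Dual (Rn R (k + 1)) (Module.Dual (Rn R (k + 1)) M) =>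
        Ξ (MC.liftForm (R := R) (k := k) l)) hm
      simp only [Module.Dual.eval_apply, LinearMap.zero_apply] at h1
      rw [← MC.tau_liftForm (R := R) (k := k) l m, h1, map_zero]
    · intro Ξ
      let Λ : Module.Dual R (Module.Dual R M) :=
        { toFun := fun l => MC.tau R k (Ξ (MC.liftForm (R := R) (k := k) l))
          map_add' := by
            intro l l'
            rw [MC.liftForm_add, map_add, map_add]
          map_smul' := by
            intro r l
            rw [MC.liftForm_smul', map_smul Ξ, smul_eq_mul, RingHom.id_apply]
            have : algebraMap R (Rn R (k + 1)) r * Ξ (MC.liftForm (R := R) (k := k) l) =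
                r • Ξ (MC.liftForm (R := R) (k := k) l) :=
              (Algebra.smul_def (A := Rn R (k + 1)) r _).symm
            rw [this, map_smul] }
      obtain ⟨m, hm⟩ := (Module.bijective_dual_eval R M).2 Λ
      refine ⟨m, ?_⟩
      apply LinearMap.ext
      intro φ
      rw [Module.Dual.eval_apply]
      apply MC.eq_of_tau_z_pow_smul_eq
      intro j
      have hψ := MC.liftForm_tau_comp (R := R) (k := k) ((z R (k + 1)) ^ j • φ)
      have h1 := congrArg (fun F : Module.Dual R (Module.Dual R M) =>
        F (MC.tau R k ∘ₗ (((z R (k + 1)) ^ j • φ).restrictScalars R))) hm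
      simp only [Module.Dual.eval_apply] at h1
      change MC.tau R k (((z R (k + 1)) ^ j • φ) m) =
        MC.tau R k (Ξ (MC.liftForm (R := R) (k := k)
          (MC.tau R k ∘ₗ (((z R (k + 1)) ^ j • φ).restrictScalars R)))) at h1
      rw [hψ, map_smul Ξ, LinearMap.smul_apply] at h1
      exact h1

end Groth.Agent.S17935
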