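import Groth.Statements.S17937
import Mathlib
import Groth.Agent.Lib.Helper9.MultCrvFrob2

set_option autoImplicit false
universe u
open MultCrv

namespace Groth.Agent.S17937

open CategoryTheory in
/-- Let R be a discrete valuation ring, n ≥ 1, A = R[X]/(X^n), and M a finitely generated A-module with
Ext^1_A(M, A) = 0. Then M is torsion-free as an R-module. (Statement at a closed point of the sheaf
statement on a primitive multiple curve of multiplicity n, whose local rings are of the form
R[X]/(X^n) with R the local ring of the reduced smooth curve; stated for every discrete valuation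
ring R.) -/
theorem result (R : Type u) [CommRing R] [IsDomain R] [IsDiscreteValuationRing R] (n : ℕ) (hn : 1 ≤ n) (M : Type u) [AddCommGroup M] [Module (MultCrv.Rn R n) M] [Module R M] [IsScalarTower R (MultCrv.Rn R n) M] [Module.Finite (MultCrv.Rn R n) M] (h : Subsingleton (Abelian.Ext (ModuleCat.of (MultCrv.Rn R n) M) (ModuleCat.of (MultCrv.Rn R n) (MultCrv.Rn R n)) 1)) : Module.IsTorsionFree R M := by
  open CategoryTheory Groth.Agent.Helper9 MultCrv Polynomial in
  classical
  obtain ⟨k, rfl⟩ : ∃ k, n = k + 1 := ⟨n - 1, by omega⟩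
  haveI : Module.Finite R (Rn R (k + 1)) := (monic_X_pow (k + 1)).finite_quotient
  haveI : Module.Free R (Rn R (k + 1)) := (monic_X_pow (k + 1)).free_quotient
  obtain ⟨s, φ, hφ⟩ := Module.Finite.exists_fin' (Rn R (k + 1)) M
  have hS := LinearMap.shortExact_shortComplexKer hφ
  -- extension of A-linear forms from the kernel
  have extA : ∀ ψ : ↥(LinearMap.ker φ) →ₗ[Rn R (k + 1)] Rn R (k + 1),
      ∃ ψ' : (Fin s → Rn R (k + 1)) →ₗ[Rn R (k + 1)] Rn R (k + 1),
        ψ' ∘ₗ (LinearMap.ker φ).subtype = ψ := by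
    intro ψ
    have hx₁ : hS.extClass.comp (Abelian.Ext.mk₀ (ModuleCat.ofHom ψ)) (by omega : 1 + 0 = 1) = 0 :=
      Subsingleton.elim _ _
    obtain ⟨x₂, hx₂⟩ := Abelian.Ext.contravariant_sequence_exact₁ hS _
      (Abelian.Ext.mk₀ (ModuleCat.ofHom ψ)) (by omega : 1 + 0 = 1) hx₁
    obtain ⟨ψ', rfl⟩ := (Abelian.Ext.mk₀_bijective _ _).2 x₂
    rw [Abelian.Ext.mk₀_comp_mk₀] at hx₂
    have h3 := (Abelian.Ext.mk₀_bijective _ _).1 hx₂
    refine ⟨ψ'.hom, ?_⟩
    have h4 := congrArg ModuleCat.Hom.hom h3
    exact h4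
  -- module structures on the kernel
  haveI : Module.IsTorsionFree R (LinearMap.ker φ) :=
    Function.Injective.moduleIsTorsionFree
      ((LinearMap.ker φ).subtype.restrictScalars R) (LinearMap.ker φ).injective_subtype
      (fun r m => rfl)
  haveI : Module.Finite R (Fin s → Rn R (k + 1)) := inferInstance
  haveI : Module.Finite R (LinearMap.ker φ) :=
    Module.Finite.of_injective ((LinearMap.ker φ).subtype.restrictScalars R)
      (LinearMap.ker φ).injective_subtype
  haveI : Module.Free R (LinearMap.ker φ) := inferInstance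
  -- extension of R-linear forms
  have extR : ∀ l : ↥(LinearMap.ker φ) →ₗ[R] R, ∃ l' : (Fin s → Rn R (k + 1)) →ₗ[R] R,
      ∀ x : ↥(LinearMap.ker φ), l' (x : Fin s → Rn R (k + 1)) = l x := by
    intro l
    obtain ⟨ψ', hψ'⟩ := extA (MC.liftForm (R := R) (k := k) l)
    refine ⟨MC.tau R k ∘ₗ ψ'.restrictScalars R, fun x => ?_⟩
    have := LinearMap.congr_fun hψ' x
    simp only [LinearMap.comp_apply, Submodule.subtype_apply] at this
    simp only [LinearMap.comp_apply, LinearMap.restrictScalars_apply]
    rw [this, MC.tau_liftForm]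
  -- torsion-freeness
  rw [Module.isTorsionFree_iff_smul_eq_zero]
  intro r m hrm
  by_cases hr : r = 0
  · exact Or.inl hr
  right
  obtain ⟨u, rfl⟩ := hφ m
  have hru : r • u ∈ LinearMap.ker φ := by
    rw [LinearMap.mem_ker]
    have : φ (r • u) = r • φ u := by
      rw [← algebraMap_smul (Rn R (k + 1)) r u, map_smul, algebraMap_smul]
    rw [this, hrm]
  let w : ↥(LinearMap.ker φ) := ⟨r • u, hru⟩
  let b := Module.Free.chooseBasis R ↥(LinearMap.ker φ)
  have hdiv : ∀ i, ∃ c : R, b.repr w i = r * c := by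
    intro i
    obtain ⟨l', hl'⟩ := extR (b.coord i)
    refine ⟨l' u, ?_⟩
    have := hl' w
    rw [Module.Basis.coord_apply] at this
    rw [← this]
    change l' (r • u) = r * l' u
    rw [map_smul, smul_eq_mul]
  choose c hc using hdiv
  haveI : Fintype (Module.Free.ChooseBasisIndex R ↥(LinearMap.ker φ)) :=
    Module.Free.ChooseBasisIndex.fintype R _
  let w' : ↥(LinearMap.ker φ) := ∑ i, c i • b i
  have hw : w = r • w' := by
    rw [← b.sum_repr w, Finset.smul_sum]
    apply Finset.sum_congr rfl
    intro i _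
    rw [hc i, mul_smul]
  have hu : u = (w' : Fin s → Rn R (k + 1)) := by
    have h1 : r • u = r • (w' : Fin s → Rn R (k + 1)) := by
      have := congrArg (fun x : ↥(LinearMap.ker φ) => (x : Fin s → Rn R (k + 1))) hw
      exact this
    have h2 : r • (u - (w' : Fin s → Rn R (k + 1))) = 0 := by
      rw [smul_sub, h1, sub_self]
    rcases smul_eq_zero.mp h2 with h | h
    · exact absurd h hr
    · exact sub_eq_zero.mp h
  rw [hu]
  exact w'.2

end Groth.Agent.S17937
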