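import Groth.Statements.S17938
import Mathlib
import Groth.Prelude.Def_W4c5qllcourbesmultMultCrv
-- import your own Groth.Agent.* helpers here

set_option autoImplicit false
universe u
open MultCrv

namespace Groth.Agent.S17938

open CategoryTheory TensorProduct
namespace Aux

section Core
variable {R : Type*} [CommRing R] {A : Type*} [CommRing A] [Algebra R A]
  {M : Type*} [AddCommGroup M] [Module A M] [Module R M] [IsScalarTower R A M]
  {N : Type*} [AddCommGroup N] [Module A N] [Module R N] [IsScalarTower R A N]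

/-- the canonical surjection `A ⊗ M → M` -/
noncomputable def piM : A ⊗[R] M →ₗ[A] M := LinearMap.liftBaseChange A LinearMap.id

@[simp] lemma piM_tmul (a : A) (m : M) : piM (R := R) (a ⊗ₜ[R] m) = a • m := by
  simp [piM]

lemma piM_surjective : Function.Surjective (piM (R := R) (A := A) (M := M)) := by
  intro m
  exact ⟨1 ⊗ₜ m, by simp⟩

/-- multiplication by `z` as an `R`-linear map -/
noncomputable def mulz (z : A) : M →ₗ[R] M := DistribSMul.toLinearMap R M z

@[simp] lemma mulz_apply (z : A) (m : M) : mulz (R := R) z m = z • m := rfl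

/-- `δ m = z ⊗ m - 1 ⊗ z m` -/
noncomputable def delta (z : A) : M →ₗ[R] A ⊗[R] M :=
  TensorProduct.mk R A M z - (TensorProduct.mk R A M 1) ∘ₗ mulz z

lemma delta_apply (z : A) (m : M) :
    delta (R := R) z m = z ⊗ₜ[R] m - (1 : A) ⊗ₜ[R] (z • m) := by
  simp [delta]

lemma delta_mem_ker (z : A) (m : M) :
    delta (R := R) z m ∈ LinearMap.ker (piM (R := R) (A := A) (M := M)) := by
  rw [LinearMap.mem_ker, delta_apply, map_sub, piM_tmul, piM_tmul, one_smul, sub_self]

/-- telescoping -/
lemma sum_smul_delta (z : A) (k : ℕ) (m : M) :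
    ∑ i ∈ Finset.range (k + 1), z ^ (k - i) • delta (R := R) z (z ^ i • m) =
      (z ^ (k + 1)) ⊗ₜ[R] m - (1 : A) ⊗ₜ[R] (z ^ (k + 1) • m) := by
  induction k with
  | zero => simp [delta_apply]
  | succ k ih =>
    rw [Finset.sum_range_succ]
    have h1 : ∑ i ∈ Finset.range (k + 1), z ^ (k + 1 - i) • delta (R := R) z (z ^ i • m)
        = z • ∑ i ∈ Finset.range (k + 1), z ^ (k - i) • delta (R := R) z (z ^ i • m) := by
      rw [Finset.smul_sum]
      refine Finset.sum_congr rfl fun i hi => ?_
      have : i ≤ k := Nat.lt_succ_iff.mp (Finset.mem_range.mp hi)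
      rw [smul_smul, ← pow_succ', show k + 1 - i = k - i + 1 by omega]
    rw [h1, ih, Nat.sub_self, pow_zero, one_smul, delta_apply, smul_sub, smul_tmul', smul_tmul',
      smul_eq_mul, smul_eq_mul, mul_one, ← pow_succ', smul_smul, ← pow_succ']
    abel


/-- every element of the kernel lies in the span of the `δ m` -/
lemma sub_mem_span (z : A) (hgen : Algebra.adjoin R {z} = ⊤) (p : A ⊗[R] M) :
    p - (1 : A) ⊗ₜ[R] (piM (R := R) p) ∈
      Submodule.span A (Set.range (delta (R := R) (M := M) z)) := by
  set S := Submodule.span A (Set.range (delta (R := R) (M := M) z)) with hS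
  -- the set of `a` with `a ⊗ m - 1 ⊗ a m ∈ S` for all `m`
  have key : ∀ a : A, ∀ m : M, a ⊗ₜ[R] m - (1 : A) ⊗ₜ[R] (a • m) ∈ S := by
    intro a
    have ha : a ∈ Algebra.adjoin R {z} := by rw [hgen]; trivial
    induction ha using Algebra.adjoin_induction with
    | mem x hx =>
      intro m
      rw [Set.mem_singleton_iff] at hx
      subst hx
      rw [← delta_apply]
      exact Submodule.subset_span ⟨m, rfl⟩
    | algebraMap r =>
      intro m
      rw [Algebra.algebraMap_eq_smul_one, smul_tmul, smul_assoc, one_smul, sub_self]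
      exact S.zero_mem
    | add x y _ _ hx hy =>
      intro m
      rw [add_tmul, add_smul, tmul_add]
      have := S.add_mem (hx m) (hy m)
      convert this using 1
      abel
    | mul x y _ _ hx hy =>
      intro m
      have h1 := S.smul_mem x (hy m)
      have h2 := hx (y • m)
      have := S.add_mem h1 h2
      convert this using 1
      rw [smul_sub, smul_tmul', smul_tmul', smul_eq_mul, smul_eq_mul, mul_one, mul_smul]
      abel
  induction p using TensorProduct.induction_on with
  | zero => simp
  | tmul a m => rw [piM_tmul]; exact key a m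
  | add x y hx hy =>
    rw [map_add, tmul_add]
    have := S.add_mem hx hy
    convert this using 1
    abel

lemma mem_span_of_mem_ker (z : A) (hgen : Algebra.adjoin R {z} = ⊤) (p : A ⊗[R] M)
    (hp : p ∈ LinearMap.ker (piM (R := R) (A := A) (M := M))) :
    p ∈ Submodule.span A (Set.range (delta (R := R) (M := M) z)) := by
  have := sub_mem_span (R := R) z hgen p
  rw [LinearMap.mem_ker] at hp
  rwa [hp, tmul_zero, sub_zero] at this


theorem core (z : A) (k : ℕ) (hz : z ^ (k + 1) = 0) (hgen : Algebra.adjoin R {z} = ⊤)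
    [Module.Projective R (LinearMap.range (mulz (R := R) (M := M) (z ^ k)))]
    (f : LinearMap.ker (piM (R := R) (A := A) (M := M)) →ₗ[A] N) :
    ∃ F : A ⊗[R] M →ₗ[A] N, ∀ κ : LinearMap.ker (piM (R := R) (A := A) (M := M)),
      F κ = z ^ k • f κ := by
  classical
  -- the `R`-linear map `d₀ m = f (δ m)`
  let d₀ : M →ₗ[R] N :=
    { toFun := fun m => f ⟨delta z m, delta_mem_ker z m⟩
      map_add' := fun m m' => by
        rw [← map_add]; congr 1; apply Subtype.ext; simp
      map_smul' := fun r m => by
        have : (⟨delta z (r • m), delta_mem_ker z _⟩ :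
            LinearMap.ker (piM (R := R) (A := A) (M := M))) =
            (algebraMap R A r) • ⟨delta z m, delta_mem_ker z m⟩ := by
          apply Subtype.ext
          rw [Submodule.coe_smul, Subtype.coe_mk, Subtype.coe_mk, map_smul, algebraMap_smul]
        rw [RingHom.id_apply, this, f.map_smul, algebraMap_smul] }
  have d₀_apply : ∀ m, d₀ m = f ⟨delta z m, delta_mem_ker z m⟩ := fun m => rfl
  -- Φ* d₀ = 0
  have hΦ : ∀ m : M, ∑ i ∈ Finset.range (k + 1), z ^ (k - i) • d₀ (z ^ i • m) = 0 := by
    intro m
    have h1 : ∑ i ∈ Finset.range (k + 1), z ^ (k - i) • d₀ (z ^ i • m) =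
        f (∑ i ∈ Finset.range (k + 1), z ^ (k - i) • ⟨delta z (z ^ i • m), delta_mem_ker z _⟩) := by
      rw [map_sum]
      refine Finset.sum_congr rfl fun i _ => ?_
      exact (f.map_smul (z ^ (k - i)) ⟨_, _⟩).symm
    rw [h1]
    have h2 : (∑ i ∈ Finset.range (k + 1), z ^ (k - i) •
        (⟨delta z (z ^ i • m), delta_mem_ker z _⟩ :
          LinearMap.ker (piM (R := R) (A := A) (M := M)))) = 0 := by
      apply Subtype.ext
      rw [Submodule.coe_sum]
      simp only [SetLike.val_smul, ZeroMemClass.coe_zero]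
      rw [sum_smul_delta, hz, zero_tmul, zero_smul, tmul_zero, sub_zero]
    rw [h2, map_zero]
  -- h̃
  let h : M →ₗ[R] N :=
    ∑ i ∈ Finset.range k, (mulz (R := R) (M := N) (z ^ (k - 1 - i))) ∘ₗ d₀ ∘ₗ (mulz (z ^ i))
  have h_apply : ∀ m, h m = ∑ i ∈ Finset.range k, z ^ (k - 1 - i) • d₀ (z ^ i • m) := by
    intro m
    simp [h, LinearMap.sum_apply]
  have E1 : ∀ m, d₀ (z ^ k • m) = - (z • h m) := by
    intro m
    have := hΦ m
    rw [Finset.sum_range_succ, Nat.sub_self, pow_zero, one_smul] at this
    rw [eq_neg_iff_add_eq_zero, add_comm, ← this, h_apply, Finset.smul_sum]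
    congr 1
    refine Finset.sum_congr rfl fun i hi => ?_
    have : i < k := Finset.mem_range.mp hi
    rw [smul_smul, ← pow_succ', show k - 1 - i + 1 = k - i by omega]
  have E2 : ∀ m, z ^ k • d₀ m = - h (z • m) := by
    intro m
    have := hΦ m
    rw [Finset.sum_range_succ', Nat.sub_zero, pow_zero, one_smul] at this
    rw [eq_neg_iff_add_eq_zero, add_comm, ← this, h_apply]
    congr 1
    refine Finset.sum_congr rfl fun i hi => ?_
    rw [smul_smul, ← pow_succ, show k - (i + 1) = k - 1 - i by omega]
  -- the correction term `s`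
  let W := LinearMap.range (mulz (R := R) (M := M) (z ^ k))
  let ζ : M →ₗ[R] W := (mulz (R := R) (M := M) (z ^ k)).rangeRestrict
  let ZN := LinearMap.range (mulz (R := R) (M := N) z)
  let fz : N →ₗ[R] ZN := (mulz (R := R) (M := N) z).rangeRestrict
  have hfz : Function.Surjective fz := LinearMap.surjective_rangeRestrict _
  let g : W →ₗ[R] ZN := (d₀ ∘ₗ W.subtype).codRestrict ZN (by
    rintro ⟨w, m, rfl⟩
    refine ⟨- h m, ?_⟩
    simp only [mulz_apply, LinearMap.comp_apply, Submodule.subtype_apply, smul_neg]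
    rw [E1])
  obtain ⟨e, he⟩ := Module.projective_lifting_property fz g hfz
  have he' : ∀ w : W, z • e w = d₀ w := by
    intro w
    have := congrArg (fun φ => ((φ w : ZN) : N)) he
    simpa [fz, g] using this
  let s : M →ₗ[R] N := e ∘ₗ ζ
  have hs1 : ∀ m, s (z • m) = 0 := by
    intro m
    have : ζ (z • m) = 0 := by
      apply Subtype.ext
      show z ^ k • (z • m) = 0
      rw [smul_smul, ← pow_succ, hz, zero_smul]
    simp only [s, LinearMap.comp_apply, this, map_zero]
  have hs2 : ∀ m, z • s m = d₀ (z ^ k • m) := by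
    intro m
    simp only [s, LinearMap.comp_apply]
    rw [he']
    rfl
  -- the extension
  set F : A ⊗[R] M →ₗ[A] N := (h + s).liftBaseChange A with hF
  refine ⟨F, ?_⟩
  have hδ : ∀ m, F (delta z m) =
      z ^ k • f ⟨delta z m, delta_mem_ker z m⟩ := by
    intro m
    have h1 : F (delta z m) = z • (h + s) m - (h + s) (z • m) := by
      rw [delta_apply, map_sub, hF, LinearMap.liftBaseChange_tmul, LinearMap.liftBaseChange_tmul,
        one_smul]
    rw [h1, LinearMap.add_apply, LinearMap.add_apply, smul_add, hs1, hs2, add_zero,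
      ← d₀_apply, E2, E1]
    abel
  intro κ
  obtain ⟨p, hp⟩ := κ
  have hmem := mem_span_of_mem_ker (R := R) z hgen p hp
  induction hmem using Submodule.span_induction with
  | mem x hx =>
    obtain ⟨m, rfl⟩ := hx
    exact hδ m
  | zero =>
    have : (⟨0, hp⟩ : LinearMap.ker (piM (R := R) (A := A) (M := M))) = 0 := rfl
    rw [this, map_zero, smul_zero]
    exact map_zero F
  | add x y hx hy ihx ihy =>
    have hxK : x ∈ LinearMap.ker (piM (R := R) (A := A) (M := M)) :=
      Submodule.span_le.mpr (by rintro _ ⟨m, rfl⟩; exact delta_mem_ker z m) hx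
    have hyK : y ∈ LinearMap.ker (piM (R := R) (A := A) (M := M)) :=
      Submodule.span_le.mpr (by rintro _ ⟨m, rfl⟩; exact delta_mem_ker z m) hy
    have : (⟨x + y, hp⟩ : LinearMap.ker (piM (R := R) (A := A) (M := M))) =
        ⟨x, hxK⟩ + ⟨y, hyK⟩ := rfl
    rw [this, map_add, smul_add, ← ihx hxK, ← ihy hyK]
    exact map_add F x y
  | smul a x hx ihx =>
    have hxK : x ∈ LinearMap.ker (piM (R := R) (A := A) (M := M)) :=
      Submodule.span_le.mpr (by rintro _ ⟨m, rfl⟩; exact delta_mem_ker z m) hx
    have : (⟨a • x, hp⟩ : LinearMap.ker (piM (R := R) (A := A) (M := M))) =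
        a • ⟨x, hxK⟩ := rfl
    rw [this, f.map_smul, smul_comm, ← ihx hxK]
    exact F.map_smul a x

end Core

section Cat
open Abelian

variable {R : Type u} [CommRing R] [IsDomain R] [IsPrincipalIdealRing R]
  {A : Type u} [CommRing A] [Algebra R A] [Module.Finite R A] [Module.Free R A]

omit [IsDomain R] [IsPrincipalIdealRing R] [Module.Finite R A] [Module.Free R A] in
/-- one dimension shift -/
theorem shift_step
    (M : Type u) [AddCommGroup M] [Module A M] [Module R M] [IsScalarTower R A M]
    [Module.Free R M] (N : Type u) [AddCommGroup N] [Module A N] (i : ℕ)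
    (x : Ext (ModuleCat.of A M) (ModuleCat.of A N) (i + 1)) :
    ∃ x₁ : Ext (ModuleCat.of A (LinearMap.ker (piM (R := R) (A := A) (M := M))))
        (ModuleCat.of A N) i,
      (LinearMap.shortExact_shortComplexKer
        (piM_surjective (R := R) (A := A) (M := M))).extClass.comp x₁ (add_comm 1 i) = x := by
  have hproj : Projective (ModuleCat.of A (A ⊗[R] M)) :=
    (IsProjective.iff_projective _).mp inferInstance
  refine Ext.contravariant_sequence_exact₃ (LinearMap.shortExact_shortComplexKer
    (piM_surjective (R := R) (A := A) (M := M))) _ x ?_ (add_comm 1 i)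
  exact @Ext.eq_zero_of_projective _ _ _ _ _ _ _ hproj _


theorem main (z : A) (k : ℕ) (hz : z ^ (k + 1) = 0) (hgen : Algebra.adjoin R {z} = ⊤) :
    ∀ (i : ℕ) (M : Type u) [AddCommGroup M] [Module A M] [Module R M] [IsScalarTower R A M]
      [Module.Finite A M] [Module.IsTorsionFree R M] (N : Type u) [AddCommGroup N] [Module A N]
      (x : Ext (ModuleCat.of A M) (ModuleCat.of A N) (i + 1)), z ^ k • x = 0 := by
  intro i
  induction i with
  | zero =>
    intro M _ _ _ _ _ _ N _ _ x
    have : Module.Finite R M := Module.Finite.trans A M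
    obtain ⟨x₁, rfl⟩ := shift_step (R := R) M N 0 x
    obtain ⟨f', rfl⟩ := (Ext.mk₀_bijective _ _).2 x₁
    let _ : Module R N := Module.compHom N (algebraMap R A)
    have : IsScalarTower R A N := IsScalarTower.of_algebraMap_smul (fun r n => rfl)
    have : Module.IsTorsionFree R (LinearMap.range (mulz (R := R) (M := M) (z ^ k))) :=
      Function.Injective.moduleIsTorsionFree
        (LinearMap.range (mulz (R := R) (M := M) (z ^ k))).subtype
        (Submodule.injective_subtype _) (fun r m => rfl)
    obtain ⟨F, hF⟩ := core (R := R) z k hz hgen f'.hom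
    have hfac : z ^ k • f' =
        (piM (R := R) (A := A) (M := M)).shortComplexKer.f ≫ ModuleCat.ofHom F := by
      ext κ
      exact (hF κ).symm
    rw [← Ext.comp_smul, ← Ext.mk₀_smul, hfac, ← Ext.mk₀_comp_mk₀]
    exact ShortComplex.ShortExact.extClass_comp_assoc _ _
  | succ i ih =>
    intro M _ _ _ _ _ _ N _ _ x
    have : Module.Finite R M := Module.Finite.trans A M
    obtain ⟨x₁, rfl⟩ := shift_step (R := R) M N (i + 1) x
    have : IsNoetherianRing A := Algebra.FiniteType.isNoetherianRing R A
    have : Module.IsTorsionFree R (LinearMap.ker (piM (R := R) (A := A) (M := M))) :=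
      Function.Injective.moduleIsTorsionFree
        (LinearMap.ker (piM (R := R) (A := A) (M := M))).subtype
        (Submodule.injective_subtype _) (fun r m => rfl)
    rw [← Ext.comp_smul, ih (LinearMap.ker (piM (R := R) (A := A) (M := M))) N x₁, Ext.comp_zero]


theorem main2 (z : A) (k : ℕ) (hz : z ^ (k + 1) = 0) (hgen : Algebra.adjoin R {z} = ⊤)
    (i : ℕ) (M : Type u) [AddCommGroup M] [Module A M] [Module.Finite A M]
    (N : Type u) [AddCommGroup N] [Module A N]
    (x : Ext (ModuleCat.of A M) (ModuleCat.of A N) (i + 2)) : z ^ k • x = 0 := by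
  obtain ⟨r, φ, hφ⟩ := Module.Finite.exists_fin' A M
  have hproj : Projective (ModuleCat.of A (Fin r → A)) :=
    (IsProjective.iff_projective _).mp inferInstance
  have hS := LinearMap.shortExact_shortComplexKer hφ
  obtain ⟨x₁, rfl⟩ := Ext.contravariant_sequence_exact₃ hS (ModuleCat.of A N) x
    (@Ext.eq_zero_of_projective _ _ _ _ _ _ _ hproj _) (add_comm 1 (i + 1))
  have : IsNoetherianRing A := Algebra.FiniteType.isNoetherianRing R A
  have : Module.IsTorsionFree R (LinearMap.ker φ) :=
    Function.Injective.moduleIsTorsionFree (LinearMap.ker φ).subtype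
      (Submodule.injective_subtype _) (fun r m => rfl)
  rw [← Ext.comp_smul, main (R := R) z k hz hgen i (LinearMap.ker φ) N x₁, Ext.comp_zero]

end Cat

section Inst
open Polynomial Abelian
variable (R : Type u) [CommRing R] [IsDomain R] [IsDiscreteValuationRing R] (n : ℕ)

omit [IsDomain R] [IsDiscreteValuationRing R] in
lemma z_pow (hn : 1 ≤ n) : MultCrv.z R n ^ (n - 1 + 1) = 0 := by
  rw [Nat.sub_add_cancel hn, MultCrv.z, ← map_pow, Ideal.Quotient.eq_zero_iff_mem]
  exact Ideal.mem_span_singleton_self _

omit [IsDomain R] [IsDiscreteValuationRing R] in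
lemma adjoin_z : Algebra.adjoin R {MultCrv.z R n} = ⊤ :=
  AdjoinRoot.adjoinRoot_eq_top (f := (X : R[X]) ^ n)

instance : Module.Finite R (MultCrv.Rn R n) := (monic_X_pow n).finite_adjoinRoot
instance : Module.Free R (MultCrv.Rn R n) := (monic_X_pow n).free_adjoinRoot

theorem r17938 (hn : 1 ≤ n) (M N : Type u) [AddCommGroup M] [Module (MultCrv.Rn R n) M]
    [Module R M] [IsScalarTower R (MultCrv.Rn R n) M] [Module.Finite (MultCrv.Rn R n) M]
    [Module.IsTorsionFree R M] [AddCommGroup N] [Module (MultCrv.Rn R n) N]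
    (x : Abelian.Ext (ModuleCat.of (MultCrv.Rn R n) M) (ModuleCat.of (MultCrv.Rn R n) N) 1) :
    (MultCrv.z R n ^ (n - 1)) • x = 0 :=
  main (R := R) (MultCrv.z R n) (n - 1) (z_pow R n hn) (adjoin_z R n) 0 M N x

theorem r17939 (hn : 1 ≤ n) (M N : Type u) [AddCommGroup M] [Module (MultCrv.Rn R n) M]
    [Module.Finite (MultCrv.Rn R n) M] [AddCommGroup N] [Module (MultCrv.Rn R n) N]
    (i : ℕ) (hi : 2 ≤ i)
    (x : Abelian.Ext (ModuleCat.of (MultCrv.Rn R n) M) (ModuleCat.of (MultCrv.Rn R n) N) i) :
    (MultCrv.z R n ^ (n - 1)) • x = 0 := by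
  obtain ⟨j, rfl⟩ := Nat.exists_eq_add_of_le' hi
  exact main2 (R := R) (MultCrv.z R n) (n - 1) (z_pow R n hn) (adjoin_z R n) j M N x

end Inst
end Aux

open CategoryTheory in
/-- Let R be a discrete valuation ring, n ≥ 1, A = R[X]/(X^n) with z the class of X, and M, N finitely
generated A-modules with M torsion-free as an R-module. Then z^(n-1) kills Ext^1_A(M, N). (This is
the assertion at a closed point to which the sheaf statement reduces: on a primitive multiple curve
of multiplicity n, with local rings R[X]/(X^n), the first local Ext sheaf out of a torsion-free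
coherent sheaf is killed by the (n-1)-st power of the ideal of the reduced curve; stated for every
discrete valuation ring R.) -/
theorem result (R : Type u) [CommRing R] [IsDomain R] [IsDiscreteValuationRing R] (n : ℕ) (hn : 1 ≤ n) (M N : Type u) [AddCommGroup M] [Module (MultCrv.Rn R n) M] [Module R M] [IsScalarTower R (MultCrv.Rn R n) M] [Module.Finite (MultCrv.Rn R n) M] [Module.IsTorsionFree R M] [AddCommGroup N] [Module (MultCrv.Rn R n) N] [Module.Finite (MultCrv.Rn R n) N] (x : Abelian.Ext (ModuleCat.of (MultCrv.Rn R n) M) (ModuleCat.of (MultCrv.Rn R n) N) 1) : (MultCrv.z R n ^ (n - 1)) • x = 0 := by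
  exact Aux.r17938 R n hn M N x

end Groth.Agent.S17938
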