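import Groth.Statements.S17940
import Mathlib
import Groth.Prelude.Def_W4c5qllcourbesmultMultCrv
-- import your own Groth.Agent.* helpers here

set_option autoImplicit false
universe u
open MultCrv

namespace Groth.Agent.S17940

open MultCrv Polynomial
namespace Aux

section generic
variable {A : Type u} [CommRing A] (z : A) (n : ℕ) (hz : z ^ n = 0)

include hz in
theorem top_of_add_smul {M : Type u} [AddCommGroup M] [Module A M] (N : Submodule A M)
    (h : ∀ x : M, ∃ y ∈ N, ∃ w : M, x = y + z • w) : N = ⊤ := by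
  have key : ∀ k : ℕ, ∀ x : M, ∃ y ∈ N, ∃ w : M, x = y + z ^ k • w := by
    intro k
    induction k with
    | zero => intro x; exact ⟨0, N.zero_mem, x, by simp⟩
    | succ k ih =>
      intro x
      obtain ⟨y, hy, w, rfl⟩ := ih x
      obtain ⟨y', hy', w', rfl⟩ := h w
      refine ⟨y + z ^ k • y', N.add_mem hy (N.smul_mem _ hy'), w', ?_⟩
      rw [smul_add, smul_smul, ← pow_succ, add_assoc]
  rw [eq_top_iff]
  rintro x -
  obtain ⟨y, hy, w, rfl⟩ := key n x
  rw [hz, zero_smul, add_zero]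
  exact hy

include hz in
theorem bot_of_le_smul {M : Type u} [AddCommGroup M] [Module A M] (K : Submodule A M)
    (h : ∀ x ∈ K, ∃ y ∈ K, x = z • y) : K = ⊥ := by
  have key : ∀ k : ℕ, ∀ x ∈ K, ∃ y ∈ K, x = z ^ k • y := by
    intro k
    induction k with
    | zero => intro x hx; exact ⟨x, hx, by simp⟩
    | succ k ih =>
      intro x hx
      obtain ⟨y, hy, rfl⟩ := ih x hx
      obtain ⟨y', hy', rfl⟩ := h y hy
      exact ⟨y', hy', by rw [smul_smul, ← pow_succ]⟩
  rw [eq_bot_iff]
  intro x hx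
  obtain ⟨y, _, rfl⟩ := key n x hx
  rw [hz, zero_smul]
  exact Submodule.zero_mem _

include hz in
/-- comparison of two minimal covers -/
theorem exists_equiv_of_covers {F G Q : Type u} [AddCommGroup F] [Module A F] [Module.Projective A F]
    [AddCommGroup G] [Module A G] [Module.Projective A G] [AddCommGroup Q] [Module A Q]
    (φ : F →ₗ[A] Q) (hφ : Function.Surjective φ) (π : G →ₗ[A] Q) (hπ : Function.Surjective π)
    (hkπ : ∀ g ∈ LinearMap.ker π, ∃ w : G, g = z • w)
    (hφz : ∀ f : F, (∃ q : Q, φ f = z • q) → ∃ f' : F, f = z • f') :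
    ∃ ψ : F ≃ₗ[A] G, ∀ f, π (ψ f) = φ f := by
  obtain ⟨ψ0, hψ0⟩ := Module.projective_lifting_property π φ hπ
  have hψ0' : ∀ f, π (ψ0 f) = φ f := fun f => by rw [← hψ0]; rfl
  have hsurj : Function.Surjective ψ0 := by
    rw [← LinearMap.range_eq_top]
    apply top_of_add_smul z n hz
    intro g
    obtain ⟨f, hf⟩ := hφ (π g)
    have : g - ψ0 f ∈ LinearMap.ker π := by
      rw [LinearMap.mem_ker, map_sub, hψ0', hf, sub_self]
    obtain ⟨w, hw⟩ := hkπ _ this
    exact ⟨ψ0 f, ⟨f, rfl⟩, w, by rw [← hw]; abel⟩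
  obtain ⟨σ, hσ⟩ := Module.projective_lifting_property ψ0 LinearMap.id hsurj
  have hσ' : ∀ g, ψ0 (σ g) = g := fun g => by
    have := congrArg (fun l => l g) hσ
    exact this
  have hinj : Function.Injective ψ0 := by
    rw [← LinearMap.ker_eq_bot]
    apply bot_of_le_smul z n hz
    intro x hx
    rw [LinearMap.mem_ker] at hx
    obtain ⟨g, hg⟩ := hφz x ⟨0, by rw [← hψ0', hx, map_zero, smul_zero]⟩
    refine ⟨g - σ (ψ0 g), ?_, ?_⟩
    · rw [LinearMap.mem_ker, map_sub, hσ', sub_self]
    · rw [smul_sub, ← map_smul, ← map_smul, ← hg, hx, map_zero, sub_zero]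
  exact ⟨LinearEquiv.ofBijective ψ0 ⟨hinj, hsurj⟩, fun f => hψ0' f⟩

theorem ker_equiv_of_equiv {F G Q : Type u} [AddCommGroup F] [Module A F]
    [AddCommGroup G] [Module A G] [AddCommGroup Q] [Module A Q]
    (φ : F →ₗ[A] Q) (π : G →ₗ[A] Q) (ψ : F ≃ₗ[A] G) (h : ∀ f, π (ψ f) = φ f) :
    Nonempty (LinearMap.ker φ ≃ₗ[A] LinearMap.ker π) := by
  have hmap : Submodule.map (ψ : F →ₗ[A] G) (LinearMap.ker φ) = LinearMap.ker π := by
    ext g
    constructor
    · rintro ⟨f, hf, rfl⟩
      have hf' : φ f = 0 := hf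
      rw [LinearMap.mem_ker, LinearEquiv.coe_coe, h, hf']
    · intro hg
      rw [LinearMap.mem_ker] at hg
      refine ⟨ψ.symm g, ?_, by simp⟩
      change φ (ψ.symm g) = 0
      rw [← h, LinearEquiv.apply_symm_apply, hg]
  exact ⟨(ψ.submoduleMap (LinearMap.ker φ)).trans (LinearEquiv.ofEq _ _ hmap)⟩

end generic

section spec
variable (R : Type u) [CommRing R] (n : ℕ)

theorem z_pow_n : (z R n) ^ n = 0 := by
  rw [← map_pow]; exact Ideal.Quotient.eq_zero_iff_mem.2 (Ideal.mem_span_singleton_self _)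

theorem mem_span_z_pow_of_mul (j : ℕ) (hj : j ≤ n) (a : Rn R n) (h : a * z R n ^ j = 0) :
    a ∈ Ideal.span {z R n ^ (n - j)} := by
  obtain ⟨p, rfl⟩ := Ideal.Quotient.mk_surjective a
  rw [← map_pow, ← map_mul, Ideal.Quotient.eq_zero_iff_mem, Ideal.mem_span_singleton] at h
  obtain ⟨s, hs⟩ := h
  have hn : n = (n - j) + j := by omega
  have h2 : p * X ^ j = (X ^ (n - j) * s) * X ^ j := by
    rw [hs]; conv_lhs => rw [hn, pow_add]
    ring
  have h3 : p = X ^ (n - j) * s := (monic_X_pow j).isRegular.right h2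
  rw [h3, map_mul, map_pow]
  exact Ideal.mul_mem_right _ _ (Ideal.mem_span_singleton_self _)

theorem mul_z_pow_eq_zero_of_mem (j : ℕ) (hj : j ≤ n) (a : Rn R n)
    (h : a ∈ Ideal.span {z R n ^ (n - j)}) : a * z R n ^ j = 0 := by
  rw [Ideal.mem_span_singleton] at h
  obtain ⟨b, rfl⟩ := h
  have hn : (n - j) + j = n := by omega
  rw [mul_comm _ b, mul_assoc, ← pow_add, hn, z_pow_n, mul_zero]

/-- `z^j A ≅ A/(z^(n-j))` -/
noncomputable def spanEquiv (j : ℕ) (hj : j ≤ n) :
    ↥(Ideal.span {z R n ^ j}) ≃ₗ[Rn R n] Oi R n (n - j) := by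
  let f : Rn R n →ₗ[Rn R n] ↥(Ideal.span {z R n ^ j}) :=
    (LinearMap.toSpanSingleton (Rn R n) (Rn R n) (z R n ^ j)).codRestrict (Ideal.span {z R n ^ j})
      (fun a => by
        rw [LinearMap.toSpanSingleton_apply, smul_eq_mul]
        exact Ideal.mul_mem_left _ _ (Ideal.mem_span_singleton_self _))
  have hf : Function.Surjective f := by
    rintro ⟨x, hx⟩
    rw [Ideal.mem_span_singleton] at hx
    obtain ⟨b, rfl⟩ := hx
    exact ⟨b, Subtype.ext (by simp [f, mul_comm])⟩
  have hker : LinearMap.ker f = Ideal.span {z R n ^ (n - j)} := by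
    ext a
    rw [LinearMap.mem_ker]
    constructor
    · intro h
      apply mem_span_z_pow_of_mul R n j hj
      have := congrArg Subtype.val h
      simpa [f] using this
    · intro h
      apply Subtype.ext
      have := mul_z_pow_eq_zero_of_mem R n j hj a h
      simpa [f] using this
  exact ((Submodule.quotEquivOfEq _ _ hker).symm.trans (f.quotKerEquivOfSurjective hf)).symm

variable (m : Fin n → ℕ)

/-- the free module covering the model -/
abbrev GM : Type u := (i : Fin n) → (Fin (m i) → Rn R n)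

/-- the standard cover -/
noncomputable def piMap : GM R n m →ₗ[Rn R n] QFModel R n m :=
  (QFModel.equivPi R n m).symm.toLinearMap ∘ₗ
    LinearMap.pi (fun i => LinearMap.pi (fun k =>
      (Submodule.mkQ (Ideal.span {z R n ^ (i.1 + 1)})) ∘ₗ (LinearMap.proj k) ∘ₗ (LinearMap.proj i)))

theorem piMap_apply (g : GM R n m) (i : Fin n) (k : Fin (m i)) :
    (QFModel.equivPi R n m (piMap R n m g)) i k = Ideal.Quotient.mk (Ideal.span {z R n ^ (i.1 + 1)}) (g i k) := rfl

theorem piMap_surjective : Function.Surjective (piMap R n m) := by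
  intro y
  have : ∀ i k, ∃ a : Rn R n, Ideal.Quotient.mk (Ideal.span {z R n ^ (i.1 + 1)}) a = (QFModel.equivPi R n m y) i k :=
    fun i k => Ideal.Quotient.mk_surjective _
  choose g hg using this
  refine ⟨g, ?_⟩
  apply (QFModel.equivPi R n m).injective
  funext i k
  rw [piMap_apply, hg]

theorem mem_ker_piMap (g : GM R n m) :
    g ∈ LinearMap.ker (piMap R n m) ↔ ∀ i k, g i k ∈ Ideal.span {z R n ^ (i.1 + 1)} := by
  rw [LinearMap.mem_ker]
  constructor
  · intro h i k
    have := congrArg (fun y => (QFModel.equivPi R n m y) i k) h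
    simp only [piMap_apply, map_zero] at this
    exact Ideal.Quotient.eq_zero_iff_mem.1 this
  · intro h
    apply (QFModel.equivPi R n m).injective
    funext i k
    rw [piMap_apply, map_zero]
    exact Ideal.Quotient.eq_zero_iff_mem.2 (h i k)

/-- the kernel of the standard cover as a product of ideals -/
noncomputable def kerEquiv : LinearMap.ker (piMap R n m) ≃ₗ[Rn R n]
    ((i : Fin n) → (Fin (m i) → ↥(Ideal.span {z R n ^ (i.1 + 1)}))) where
  toFun x := fun i k => ⟨x.1 i k, (mem_ker_piMap R n m x.1).1 x.2 i k⟩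
  invFun y := ⟨fun i k => (y i k).1, (mem_ker_piMap R n m _).2 (fun i k => (y i k).2)⟩
  map_add' x y := rfl
  map_smul' a x := rfl
  left_inv x := rfl
  right_inv y := rfl

theorem ker_piMap_le (g : GM R n m) (hg : g ∈ LinearMap.ker (piMap R n m)) :
    ∃ w : GM R n m, g = z R n • w := by
  have : ∀ i k, ∃ b : Rn R n, g i k = z R n * b := by
    intro i k
    have := (mem_ker_piMap R n m g).1 hg i k
    rw [Ideal.mem_span_singleton] at this
    obtain ⟨b, hb⟩ := this
    exact ⟨z R n ^ i.1 * b, by rw [hb, pow_succ']; ring⟩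
  choose w hw using this
  exact ⟨w, by funext i k; rw [hw]; rfl⟩

/-- the index reversal fixing the last index -/
def rhoFun (i : Fin n) : Fin n := if h : i.1 + 1 < n then ⟨n - 2 - i.1, by omega⟩ else i

theorem rhoFun_invol : Function.Involutive (rhoFun n) := by
  intro i
  by_cases h : i.1 + 1 < n
  · have h1 : rhoFun n i = ⟨n - 2 - i.1, by omega⟩ := by simp only [rhoFun, dif_pos h]
    have h2 : (⟨n - 2 - i.1, by omega⟩ : Fin n).1 + 1 < n := by simp only; omega
    rw [h1]
    have h3 : rhoFun n ⟨n - 2 - i.1, by omega⟩ = ⟨n - 2 - (n - 2 - i.1), by omega⟩ := by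
      simp only [rhoFun, dif_pos h2]
    rw [h3]
    apply Fin.ext
    simp only
    omega
  · have h1 : rhoFun n i = i := by simp only [rhoFun, dif_neg h]
    rw [h1, h1]

theorem cast_iso {a b j j' : ℕ} (h1 : a = b) (h2 : j = j') :
    Nonempty ((Fin a → Oi R n j) ≃ₗ[Rn R n] (Fin b → Oi R n j')) := by
  subst h1 h2
  exact ⟨LinearEquiv.refl _ _⟩

theorem comp_iso (i' : Fin n) :
    Nonempty ((Fin (m (rhoFun n i')) → Oi R n (n - ((rhoFun n i').1 + 1))) ≃ₗ[Rn R n]
      (Fin (revType n m i') → Oi R n (i'.1 + 1))) := by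
  by_cases h : i'.1 + 1 < n
  · have h1 : rhoFun n i' = ⟨n - 2 - i'.1, by omega⟩ := by simp only [rhoFun, dif_pos h]
    apply cast_iso
    · rw [h1]; simp only [revType, dif_pos h]
    · rw [h1]; simp only; omega
  · have h1 : rhoFun n i' = i' := by simp only [rhoFun, dif_neg h]
    have h0 : n - ((rhoFun n i').1 + 1) = 0 := by rw [h1]; omega
    have hr : revType n m i' = 0 := by simp only [revType, dif_neg h]
    haveI : Subsingleton (Oi R n (n - ((rhoFun n i').1 + 1))) := by
      rw [h0]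
      apply Ideal.Quotient.subsingleton_iff.2
      rw [pow_zero, Ideal.span_singleton_one]
    haveI : IsEmpty (Fin (revType n m i')) := by rw [hr]; infer_instance
    exact ⟨LinearEquiv.ofSubsingleton _ _⟩

theorem model_iso : Nonempty (LinearMap.ker (piMap R n m) ≃ₗ[Rn R n] QFModel R n (revType n m)) := by
  let e1 := kerEquiv R n m
  let e2 : ((i : Fin n) → (Fin (m i) → ↥(Ideal.span {z R n ^ (i.1 + 1)}))) ≃ₗ[Rn R n]
      ((i : Fin n) → (Fin (m i) → Oi R n (n - (i.1 + 1)))) :=
    LinearEquiv.piCongrRight (fun i => LinearEquiv.piCongrRight (fun _ =>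
      spanEquiv R n (i.1 + 1) (by have := i.2; omega)))
  let ρ : Equiv.Perm (Fin n) := (rhoFun_invol n).toPerm
  let e3 : ((i : Fin n) → (Fin (m i) → Oi R n (n - (i.1 + 1)))) ≃ₗ[Rn R n]
      ((i' : Fin n) → (Fin (m (rhoFun n i')) → Oi R n (n - ((rhoFun n i').1 + 1)))) :=
    LinearEquiv.piCongrLeft' (Rn R n) (fun i : Fin n => Fin (m i) → Oi R n (n - (i.1 + 1))) ρ
  let e4 : ((i' : Fin n) → (Fin (m (rhoFun n i')) → Oi R n (n - ((rhoFun n i').1 + 1)))) ≃ₗ[Rn R n]
      ((i' : Fin n) → (Fin (revType n m i') → Oi R n (i'.1 + 1))) :=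
    LinearEquiv.piCongrRight (fun i' => Classical.choice (comp_iso R n m i'))
  exact ⟨((e1.trans e2).trans e3).trans (e4.trans (QFModel.equivPi R n (revType n m)).symm)⟩

theorem main (M : Type u) [AddCommGroup M] [Module (Rn R n) M]
    (hM : IsQuasiFreeOfType R n M m) (r : ℕ) (φ : (Fin r → Rn R n) →ₗ[Rn R n] M)
    (hφ : Function.Surjective φ)
    (hφz : ∀ f : Fin r → Rn R n, φ f ∈ filt R n M 1 → f ∈ filt R n (Fin r → Rn R n) 1) :
    IsQuasiFreeOfType R n ↥(LinearMap.ker φ) (revType n m) := by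
  obtain ⟨e⟩ := hM
  let φ' : (Fin r → Rn R n) →ₗ[Rn R n] QFModel R n m := e.toLinearMap ∘ₗ φ
  have hφ' : Function.Surjective φ' := e.surjective.comp hφ
  have hφz' : ∀ f : Fin r → Rn R n, (∃ q : QFModel R n m, φ' f = z R n • q) →
      ∃ f' : Fin r → Rn R n, f = z R n • f' := by
    rintro f ⟨q, hq⟩
    have h1 : φ f ∈ filt R n M 1 := by
      refine ⟨e.symm q, ?_⟩
      change z R n ^ 1 • e.symm q = φ f
      rw [pow_one, ← map_smul, ← hq]
      exact e.symm_apply_apply _
    obtain ⟨f', hf'⟩ := hφz f h1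
    refine ⟨f', ?_⟩
    rw [← hf']
    change z R n ^ 1 • f' = _
    rw [pow_one]
  obtain ⟨ψ, hψ⟩ := exists_equiv_of_covers (z R n) n (z_pow_n R n) φ' hφ' (piMap R n m)
    (piMap_surjective R n m) (ker_piMap_le R n m) hφz'
  obtain ⟨e5⟩ := ker_equiv_of_equiv φ' (piMap R n m) ψ hψ
  obtain ⟨e6⟩ := model_iso R n m
  have hk : LinearMap.ker φ' = LinearMap.ker φ := LinearEquiv.ker_comp e φ
  exact ⟨((LinearEquiv.ofEq _ _ hk.symm).trans e5).trans e6⟩

end spec

end Aux

/-- Let R be a discrete valuation ring, n ≥ 1, A = R[X]/(X^n) with z the class of X, and M an A-module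
that is quasi-free of type (m_1, …, m_n), i.e. isomorphic to the direct sum of m_i copies of
A/(z^i). Let φ be a surjective A-linear map from a finitely generated free module A^r onto M that is
bijective modulo z (the preimage of zM is zA^r). Then the kernel of φ is quasi-free of type
(m_{n-1}, m_{n-2}, …, m_1, 0). (Statement at a closed point of the sheaf statement on a primitive
multiple curve of multiplicity n with local rings R[X]/(X^n), for the kernel of a surjection from a
vector bundle onto a quasi locally free sheaf that is an isomorphism on the reduced curve; stated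
for every discrete valuation ring R.) -/
theorem result (R : Type u) [CommRing R] [IsDomain R] [IsDiscreteValuationRing R] (n : ℕ) (hn : 1 ≤ n) (m : Fin n → ℕ) (M : Type u) [AddCommGroup M] [Module (MultCrv.Rn R n) M] (hM : MultCrv.IsQuasiFreeOfType R n M m) (r : ℕ) (φ : (Fin r → MultCrv.Rn R n) →ₗ[MultCrv.Rn R n] M) (hφ : Function.Surjective φ) (hφz : ∀ f : Fin r → MultCrv.Rn R n, φ f ∈ MultCrv.filt R n M 1 → f ∈ MultCrv.filt R n (Fin r → MultCrv.Rn R n) 1) : MultCrv.IsQuasiFreeOfType R n ↥(LinearMap.ker φ) (MultCrv.revType n m) := by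
  exact Aux.main R n m M hM r φ hφ hφz

end Groth.Agent.S17940
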