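import Groth.Statements.S17942
import Mathlib
import Groth.Agent.Lib.Helper9.MultCrvExt

set_option autoImplicit false
universe u
open MultCrv

namespace Groth.Agent.S17942

open CategoryTheory in
/-- Let R be a discrete valuation ring, n ≥ 1, A = R[X]/(X^n), and M a finitely generated A-module. Then
Ext^i_A(M, A) = 0 for every i ≥ 2. (Statement at a closed point of the sheaf statement on a
primitive multiple curve of multiplicity n, whose local rings are of the form R[X]/(X^n) with R the
local ring of the reduced smooth curve; stated for every discrete valuation ring R.) -/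
theorem result (R : Type u) [CommRing R] [IsDomain R] [IsDiscreteValuationRing R] (n : ℕ) (hn : 1 ≤ n) (M : Type u) [AddCommGroup M] [Module (MultCrv.Rn R n) M] [Module.Finite (MultCrv.Rn R n) M] (i : ℕ) (hi : 2 ≤ i) : Subsingleton (Abelian.Ext (ModuleCat.of (MultCrv.Rn R n) M) (ModuleCat.of (MultCrv.Rn R n) (MultCrv.Rn R n)) i) := by
  open CategoryTheory Groth.Agent.Helper9 MultCrv in
  obtain ⟨j, rfl⟩ : ∃ j, i = j + 1 + 1 := ⟨i - 2, by omega⟩
  refine subsingleton_of_forall_eq 0 (fun x => ?_)
  obtain ⟨r, φ, hφ⟩ := Module.Finite.exists_fin' (Rn R n) M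
  have hS := LinearMap.shortExact_shortComplexKer hφ
  haveI : Projective (ModuleCat.of (Rn R n) (Fin r → Rn R n)) :=
    (IsProjective.iff_projective _).mp inferInstance
  have h0 : (Abelian.Ext.mk₀ φ.shortComplexKer.g).comp x (zero_add (j + 1 + 1)) = 0 :=
    Abelian.Ext.eq_zero_of_projective _
  obtain ⟨x₁, hx₁⟩ := Abelian.Ext.contravariant_sequence_exact₃ hS _ x h0
    (n₀ := j + 1) (by omega : 1 + (j + 1) = j + 1 + 1)
  have hK : x₁ = 0 := by
    haveI : Module.IsTorsionFree R (LinearMap.ker φ) :=
      Function.Injective.moduleIsTorsionFree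
        ((LinearMap.ker φ).subtype.restrictScalars R) (LinearMap.ker φ).injective_subtype
        (fun r m => rfl)
    exact MC.ext_succ_eq_zero R n hn j (LinearMap.ker φ) x₁
  rw [← hx₁, hK, Abelian.Ext.comp_zero]

end Groth.Agent.S17942
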