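import Groth.Statements.S17943
import Mathlib
import Groth.Agent.Lib.Helper9.MultCrvBasic

set_option autoImplicit false
universe u
open MultCrv

namespace Groth.Agent.S17943

/-- Let R be a discrete valuation ring, n ≥ 1, A = R[X]/(X^n) with z the class of X, and M a finitely
generated A-module. For 0 ≤ i < n the R-modules G^(i+1)(M) = M^(i+1)/M^(i) (M^(j) the elements
killed by z^j) and G_i(M) = z^i M/z^(i+1) M have the same rank over R. (Statement at a closed point
of the sheaf statement on a primitive multiple curve of multiplicity n with local rings R[X]/(X^n),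
where the rank of a coherent sheaf on the reduced smooth curve is its generic rank, here the rank
over R of the stalk; the equality of degrees that the published statement gives together with this
rank equality is a statement on the global curve and is not part of this row; stated for every
discrete valuation ring R.) -/
theorem result (R : Type u) [CommRing R] [IsDomain R] [IsDiscreteValuationRing R] (n : ℕ) (hn : 1 ≤ n) (M : Type u) [AddCommGroup M] [Module (MultCrv.Rn R n) M] [Module R M] [IsScalarTower R (MultCrv.Rn R n) M] [Module.Finite (MultCrv.Rn R n) M] (i : ℕ) (hi : i < n) : Module.finrank R (MultCrv.G2 R n M (i + 1)) = Module.finrank R (MultCrv.G1 R n M i) := by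
  open Groth.Agent.Helper9 MultCrv Polynomial in
  classical
  haveI : Module.Finite R (Rn R n) := (monic_X_pow n).finite_quotient
  haveI : Module.Finite R M := Module.Finite.trans (Rn R n) M
  have hfin : ∀ (P : Submodule (Rn R n) M), Module.Finite R P := fun P =>
    Module.Finite.of_injective (P.subtype.restrictScalars R) P.injective_subtype
  haveI := hfin (filt R n M i)
  haveI := hfin (filt R n M (i + 1))
  haveI := hfin (filt2 R n M (i + 1))
  -- rank-nullity in tower form
  have rn : ∀ (P : Type u) [AddCommGroup P] [Module (Rn R n) P] [Module R P]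
      [IsScalarTower R (Rn R n) P] [Module.Finite R P] (N : Submodule (Rn R n) P),
      Module.finrank R (P ⧸ N) + Module.finrank R N = Module.finrank R P := by
    intro P _ _ _ _ _ N
    exact (N.restrictScalars R).finrank_quotient_add_finrank
  -- the maps
  let β : ↥(filt R n M i) →ₗ[Rn R n] M :=
    (z R n • (LinearMap.id : M →ₗ[Rn R n] M)) ∘ₗ (filt R n M i).subtype
  let α : ↥(filt2 R n M (i + 1)) →ₗ[Rn R n] M :=
    (z R n ^ i • (LinearMap.id : M →ₗ[Rn R n] M)) ∘ₗ (filt2 R n M (i + 1)).subtype
  have hβ : ∀ v : ↥(filt R n M i), β v = z R n • (v : M) := fun v => rfl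
  have hα : ∀ u : ↥(filt2 R n M (i + 1)), α u = z R n ^ i • (u : M) := fun u => rfl
  -- (1) G1
  have hle : filt R n M (i + 1) ≤ filt R n M i := by
    rintro _ ⟨w, rfl⟩
    refine ⟨z R n • w, ?_⟩
    change z R n ^ i • (z R n • w) = z R n ^ (i + 1) • w
    rw [smul_smul, ← pow_succ]
  have h1 := rn ↥(filt R n M i) (Submodule.comap (filt R n M i).subtype (filt R n M (i + 1)))
  have h1' : Module.finrank R ↥(Submodule.comap (filt R n M i).subtype (filt R n M (i + 1))) =
      Module.finrank R ↥(filt R n M (i + 1)) :=
    ((Submodule.comapSubtypeEquivOfLe hle).restrictScalars R).finrank_eq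
  -- (2) β
  have hrβ : LinearMap.range β = filt R n M (i + 1) := by
    ext v
    constructor
    · rintro ⟨⟨_, w, rfl⟩, rfl⟩
      refine ⟨w, ?_⟩
      change z R n ^ (i + 1) • w = z R n • (z R n ^ i • w)
      rw [smul_smul, ← pow_succ']
    · rintro ⟨w, rfl⟩
      refine ⟨⟨z R n ^ i • w, w, rfl⟩, ?_⟩
      change z R n • (z R n ^ i • w) = z R n ^ (i + 1) • w
      rw [smul_smul, ← pow_succ']
  have h2 := rn ↥(filt R n M i) (LinearMap.ker β)
  have h2' : Module.finrank R (↥(filt R n M i) ⧸ LinearMap.ker β) =
      Module.finrank R ↥(filt R n M (i + 1)) := by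
    rw [((β.quotKerEquivRange).restrictScalars R).finrank_eq, hrβ]
  -- (3) α
  have hkα : LinearMap.ker α =
      Submodule.comap (filt2 R n M (i + 1)).subtype (filt2 R n M (i + 1 - 1)) := by
    ext u
    rw [LinearMap.mem_ker, hα, Submodule.mem_comap, Nat.add_sub_cancel, MC.mem_filt2_iff]
    rfl
  have h3 : Module.finrank R (G2 R n M (i + 1)) = Module.finrank R ↥(LinearMap.range α) := by
    have e1 : G2 R n M (i + 1) ≃ₗ[Rn R n] (↥(filt2 R n M (i + 1)) ⧸ LinearMap.ker α) :=
      Submodule.quotEquivOfEq _ _ hkα.symm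
    exact ((e1.trans α.quotKerEquivRange).restrictScalars R).finrank_eq
  -- (4) ker β ≃ range α
  let γ : ↥(LinearMap.ker β) →ₗ[Rn R n] M := (filt R n M i).subtype ∘ₗ (LinearMap.ker β).subtype
  have hγinj : Function.Injective γ := by
    intro a b hab
    exact Subtype.ext (Subtype.ext hab)
  have hrγ : LinearMap.range γ = LinearMap.range α := by
    ext v
    constructor
    · rintro ⟨⟨⟨_, w, rfl⟩, hk⟩, rfl⟩
      have hk' : z R n • (z R n ^ i • w) = 0 := hk
      refine ⟨⟨w, ?_⟩, rfl⟩
      rw [MC.mem_filt2_iff, pow_succ', mul_smul]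
      exact hk'
    · rintro ⟨⟨w, hw⟩, rfl⟩
      have hw' : z R n ^ (i + 1) • w = 0 := hw
      refine ⟨⟨⟨z R n ^ i • w, w, rfl⟩, ?_⟩, rfl⟩
      rw [LinearMap.mem_ker, hβ]
      change z R n • (z R n ^ i • w) = 0
      rw [smul_smul, ← pow_succ']
      exact hw'
  have h4 : Module.finrank R ↥(LinearMap.ker β) = Module.finrank R ↥(LinearMap.range α) := by
    have e2 : ↥(LinearMap.ker β) ≃ₗ[Rn R n] ↥(LinearMap.range γ) := LinearEquiv.ofInjective γ hγinj
    have e3 : ↥(LinearMap.range γ) ≃ₗ[Rn R n] ↥(LinearMap.range α) := LinearEquiv.ofEq _ _ hrγ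
    exact ((e2.trans e3).restrictScalars R).finrank_eq
  rw [h3, ← h4]
  change _ = Module.finrank R (↥(filt R n M i) ⧸
    Submodule.comap (filt R n M i).subtype (filt R n M (i + 1)))
  omega

end Groth.Agent.S17943
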