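import Groth.Statements.S17944
import Groth.Agent.Lib.Helper6.MultCrvSES

set_option autoImplicit false
universe u
open MultCrv

namespace Groth.Agent.S17944

/-- Let R be a discrete valuation ring, n ≥ 1, A = R[X]/(X^n) with z the class of X, and M a finitely
generated A-module. Then the graded pieces G_i(M) = z^i M/z^(i+1) M are free R-modules for all 0 ≤ i
< n if and only if the modules Γ^(i)(M) are free R-modules for all 0 ≤ i < n, where Γ^(i)(M) is the
cokernel of the map M^(i+2)/M^(i+1) → M^(i+1)/M^(i) induced by multiplication by z (M^(j) the
elements killed by z^j). (Statement at a closed point P of the sheaf statement on a primitive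
multiple curve of multiplicity n, whose local rings are R[X]/(X^n) with R the local ring of the
reduced smooth curve: the published conditions are local freeness on the reduced curve of the
corresponding sheaves, read here at P; the published statement also asserts that these conditions
are equivalent to the stalk being quasi-free, i.e. isomorphic to a direct sum of modules A/(z^j),
which is not part of this row; stated for every discrete valuation ring R.) -/
theorem result (R : Type u) [CommRing R] [IsDomain R] [IsDiscreteValuationRing R] (n : ℕ) (hn : 1 ≤ n) (M : Type u) [AddCommGroup M] [Module (MultCrv.Rn R n) M] [Module R M] [IsScalarTower R (MultCrv.Rn R n) M] [Module.Finite (MultCrv.Rn R n) M] : (∀ i : ℕ, i < n → Module.Free R (MultCrv.G1 R n M i)) ↔ (∀ i : ℕ, i < n → Module.Free R (MultCrv.Gam2 R n M i)) := by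
  open Groth.Agent.Lib.Helper6.MultCrvSES MultCrv Polynomial in
  classical
  haveI : Module.Finite R (Rn R n) := (monic_X_pow n).finite_quotient
  haveI : Module.Finite R M := Module.Finite.trans (Rn R n) M
  have hfinS : ∀ (P : Type u) [AddCommGroup P] [Module (Rn R n) P] [Module R P]
      [IsScalarTower R (Rn R n) P] [Module.Finite R P] (N : Submodule (Rn R n) P),
      Module.Finite R N := fun P _ _ _ _ _ N =>
    Module.Finite.of_injective (N.subtype.restrictScalars R) N.injective_subtype
  have hfinQ : ∀ (P : Type u) [AddCommGroup P] [Module (Rn R n) P] [Module R P]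
      [IsScalarTower R (Rn R n) P] [Module.Finite R P] (N : Submodule (Rn R n) P),
      Module.Finite R (P ⧸ N) := fun P _ _ _ _ _ N =>
    Module.Finite.of_surjective (N.mkQ.restrictScalars R) N.mkQ_surjective
  have hG1fin : ∀ i, Module.Finite R (G1 R n M i) := by
    intro i
    haveI := hfinS M (filt R n M i)
    exact hfinQ _ _
  have hGamfin : ∀ i, Module.Finite R (Gam2 R n M i) := by
    intro i
    haveI := hfinS M (filt2 R n M (i + 1))
    haveI : Module.Finite R (G2 R n M (i + 1)) := hfinQ _ _
    exact hfinQ _ _
  have key1 : ∀ i, Module.IsTorsionFree R (G1 R n M i) → Module.IsTorsionFree R (Gam2 R n M i) := by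
    intro i h
    rw [Module.isTorsionFree_iff_smul_eq_zero] at h ⊢
    intro r y hy
    have h1 : r • iotaG R n M i y = 0 := by
      rw [← LinearMap.map_smul_of_tower, hy, map_zero]
    rcases h r _ h1 with h2 | h2
    · exact Or.inl h2
    · right
      exact iotaG_injective R n M i (by rw [h2, map_zero])
  have key2 : ∀ i, Module.IsTorsionFree R (Gam2 R n M i) → Module.IsTorsionFree R (G1 R n M (i + 1)) →
      Module.IsTorsionFree R (G1 R n M i) := by
    intro i hΓ hG
    rw [Module.isTorsionFree_iff_smul_eq_zero] at hΓ hG ⊢
    intro r x hx
    by_cases hr : r = 0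
    · exact Or.inl hr
    right
    have h1 : r • piG R n M i x = 0 := by
      rw [← LinearMap.map_smul_of_tower, hx, map_zero]
    have h2 : piG R n M i x = 0 := (hG r _ h1).resolve_left hr
    obtain ⟨y, rfl⟩ := exists_of_piG_eq_zero R n M i x h2
    have h3 : iotaG R n M i (r • y) = 0 := by
      rw [LinearMap.map_smul_of_tower, hx]
    have h4 : r • y = 0 := iotaG_injective R n M i (by rw [h3, map_zero])
    rw [(hΓ r y h4).resolve_left hr, map_zero]
  constructor
  · intro h i hi
    haveI := hGamfin i
    haveI := hG1fin i
    rw [Module.free_iff_isTorsionFree]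
    exact key1 i ((Module.free_iff_isTorsionFree).1 (h i hi))
  · intro h
    have hall : ∀ k i, i + k = n → Module.IsTorsionFree R (G1 R n M i) := by
      intro k
      induction k with
      | zero =>
        intro i hi
        haveI := subsingleton_G1 R n M i (by omega)
        infer_instance
      | succ k ih =>
        intro i hi
        haveI := hGamfin i
        exact key2 i ((Module.free_iff_isTorsionFree).1 (h i (by omega))) (ih (i + 1) (by omega))
    intro i hi
    haveI := hG1fin i
    rw [Module.free_iff_isTorsionFree]
    exact hall (n - i) i (by omega)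

end Groth.Agent.S17944
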