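import Groth.Statements.S17959
import Mathlib
import Groth.Agent.Lib.Helper9.FE.HensCoupleIdem
import Groth.Agent.Lib.Helper7.Hensel.IdemConverse2
import Groth.Agent.Lib.Helper7.Hensel.Iff
-- import your own Groth.Agent.* helpers here

set_option autoImplicit false
open CategoryTheory CategoryTheory.Limits AlgebraicGeometry
universe u
open Hensel

namespace Groth.Agent.S17959

open CategoryTheory CategoryTheory.Limits AlgebraicGeometry
open H9FE
namespace Aux
set_option linter.style.haveILetI false
set_option linter.unusedSectionVars false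
set_option backward.isDefEq.respectTransparency false
open Polynomial Groth.Agent.Helper7.Hensel

theorem gabber_approx_idem {B : Type u} [CommRing B] (J : Ideal B) (n : ℕ) (p : B[X])
    (hpJ : ∀ k, p.coeff k ∈ J) :
    let F : B[X] := X ^ n * (X - 1) + p
    (AdjoinRoot.root F) ^ n * (AdjoinRoot.root F) ^ n - (AdjoinRoot.root F) ^ n ∈
      J.map (algebraMap B (AdjoinRoot F)) := by
  intro F
  set x := AdjoinRoot.root F with hx
  have hFx : aeval x F = 0 := by
    rw [hx, AdjoinRoot.aeval_eq, AdjoinRoot.mk_self]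
  have hp : aeval x p ∈ J.map (algebraMap B (AdjoinRoot F)) := by
    rw [aeval_eq_sum_range]
    refine Ideal.sum_mem _ fun k _ => ?_
    rw [Algebra.smul_def]
    exact Ideal.mul_mem_right _ _ (Ideal.mem_map_of_mem _ (hpJ k))
  have h1 : x ^ n * (x - 1) = - aeval x p := by
    have : aeval x F = x ^ n * (x - 1) + aeval x p := by
      simp [F]
    rw [this] at hFx
    exact eq_neg_of_add_eq_zero_left hFx
  have h2 : x ^ n * x ^ n - x ^ n = (x ^ n * (x - 1)) * ∑ k ∈ Finset.range n, x ^ k := by
    rw [mul_assoc, mul_geom_sum]; ring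
  rw [h2, h1]
  exact Ideal.mul_mem_right _ _ ((Ideal.neg_mem_iff _).mpr hp)

theorem main {Xs X₀ : Scheme.{u}}
    (i : X₀ ⟶ Xs) [IsClosedImmersion i] [CompactSpace ↥Xs] [QuasiSeparatedSpace ↥Xs]
    (hX : ∀ (Y : Scheme.{u}) (g : Y ⟶ Xs), IsFinite g →
      ∀ V : Set ↥(pullback g (i)), IsClopen V →
        ∃! U : Set ↥Y, IsClopen U ∧ (pullback.fst g (i)).base ⁻¹' U = V) :
    HenselianRing (Γ(Xs, ⊤) : Type u) (RingHom.ker i.appTop.hom) := by
  have hX' : IsHensCouple i := hX
  apply Gabber.henselianRing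
  apply gabber_of_idempotent_adjoinRoot
  · intro a ha
    rw [Ideal.mem_jacobson_bot]
    intro y
    apply isUnit_of_appTop_eq_one i hX'
    have : i.appTop a = 0 := ha
    rw [map_add, map_mul, this, zero_mul, zero_add, map_one]
  · intro n hn p hp hpJ
    rcases subsingleton_or_nontrivial (Γ(Xs, ⊤) : Type u) with hs | hnt
    · haveI : Subsingleton (AdjoinRoot (X ^ n * (X - 1) + p : (Γ(Xs, ⊤) : Type u)[X])) := by
        refine ⟨fun a b => ?_⟩
        have h01 : (1 : AdjoinRoot (X ^ n * (X - 1) + p : (Γ(Xs, ⊤) : Type u)[X])) = 0 := by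
          have h := congrArg (algebraMap (Γ(Xs, ⊤) : Type u)
            (AdjoinRoot (X ^ n * (X - 1) + p : (Γ(Xs, ⊤) : Type u)[X])))
            (Subsingleton.elim (1 : (Γ(Xs, ⊤) : Type u)) 0)
          rwa [map_one, map_zero] at h
        rw [← mul_one a, ← mul_one b, h01, mul_zero, mul_zero]
      exact ⟨0, IsIdempotentElem.zero, by rw [Subsingleton.elim (0 - _) 0]; exact zero_mem _⟩
    · have hFm : (X ^ n * (X - 1) + p : (Γ(Xs, ⊤) : Type u)[X]).Monic := monic_gabber_poly n p hp
      let pb := AdjoinRoot.powerBasis' hFm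
      haveI : Module.Finite (Γ(Xs, ⊤) : Type u) (AdjoinRoot (X ^ n * (X - 1) + p : (Γ(Xs, ⊤) : Type u)[X])) :=
        hFm.finite_adjoinRoot
      exact exists_idem_of_free i hX' _ pb.basis _ (gabber_approx_idem _ n p hpJ)

end Aux

/-- Let X be a quasi-compact quasi-separated scheme and i : X₀ ⟶ X a closed immersion such that (X, X₀)
is a henselian couple, i.e. for every finite morphism g : Y ⟶ X every open-closed subset of Y ×_X X₀
is the inverse image under the first projection of exactly one open-closed subset of Y. Let B = Γ(X,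
O_X) and let J be the kernel of the restriction map B → Γ(X₀, O_{X₀}). Then (B, J) is a henselian
pair. -/
theorem result {X X₀ : Scheme.{u}}
    (i : X₀ ⟶ X) [IsClosedImmersion i] [CompactSpace ↥X] [QuasiSeparatedSpace ↥X]
    (hX : ∀ (Y : Scheme.{u}) (g : Y ⟶ X), IsFinite g →
      ∀ V : Set ↥(pullback g (i)), IsClopen V →
        ∃! U : Set ↥Y, IsClopen U ∧ (pullback.fst g (i)).base ⁻¹' U = V) :
    HenselianRing (Γ(X, ⊤) : Type u) (RingHom.ker i.appTop.hom) := by
  exact Aux.main i hX

end Groth.Agent.S17959
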