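import Groth.Statements.S17970
import Mathlib
import Groth.Agent.Lib.Helper2.Fix.FiniteLocalOrig
-- import your own Groth.Agent.* helpers here

set_option autoImplicit false
universe u
open Hensel

namespace Groth.Agent.S17970

namespace Aux
open Groth.Agent.Helper2.Fix.FiniteLocalOrig

theorem exists_of_bijective (B : Type u) [CommRing B] [Finite (MaximalSpectrum B)]
    (h : Function.Bijective
      (RingHom.pi (fun n : MaximalSpectrum B => algebraMap B (Localization.AtPrime n.asIdeal)))) :
    ∃ (ι : Type u) (_ : Fintype ι) (C : ι → Type u) (_ : ∀ j, CommRing (C j)),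
        (∀ j, IsLocalRing (C j)) ∧ Nonempty (B ≃+* (∀ j, C j)) := by
  cases nonempty_fintype (MaximalSpectrum B)
  exact ⟨MaximalSpectrum B, inferInstance, fun n => Localization.AtPrime n.asIdeal, inferInstance,
    fun n => inferInstance, ⟨RingEquiv.ofBijective _ h⟩⟩

theorem main
    (A : Type u) [CommRing A] [IsLocalRing A] (B : Type u) [CommRing B] [Algebra A B] [Module.Finite A B] :
    (∃ (ι : Type u) (_ : Fintype ι) (C : ι → Type u) (_ : ∀ j, CommRing (C j)),
        (∀ j, IsLocalRing (C j)) ∧ Nonempty (B ≃+* (∀ j, C j))) ↔
    Function.Bijective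
      (RingHom.pi (fun n : MaximalSpectrum B => algebraMap B (Localization.AtPrime n.asIdeal))) := by
  have hfin := finite_maxSpec A B
  constructor
  · rintro ⟨ι, _, C, _, hloc, ⟨φ⟩⟩
    exact bijective_of_star (star_of_equiv_pi φ)
  · intro h
    exact exists_of_bijective B h

theorem main2
    (A : Type u) [CommRing A] [IsLocalRing A] (B : Type u) [CommRing B] [Algebra A B] [Module.Finite A B] :
    (∃ (ι : Type u) (_ : Fintype ι) (C : ι → Type u) (_ : ∀ j, CommRing (C j)),
        (∀ j, IsLocalRing (C j)) ∧ Nonempty (B ≃+* (∀ j, C j))) ↔
      Set.SurjOn (Ideal.Quotient.mk (Ideal.map (algebraMap A B) (IsLocalRing.maximalIdeal A)))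
        {e : B | IsIdempotentElem e} {e | IsIdempotentElem e} := by
  have hfin := finite_maxSpec A B
  constructor
  · rintro ⟨ι, _, C, _, hloc, ⟨φ⟩⟩
    exact lift_of_star A B (star_of_equiv_pi φ)
  · intro h
    exact exists_of_bijective B (bijective_of_star (star_of_lift A B h))

end Aux

/-- Let A be a local ring with maximal ideal m and B a commutative A-algebra which is finitely generated
as an A-module. Then B is ring-isomorphic to a finite product of local rings if and only if every
idempotent of B/mB is the image of an idempotent of B. (Reduction modulo mB is always injective on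
the idempotents of B, because mB lies in the Jacobson radical of B; so this surjectivity amounts to
the bijectivity on idempotents in the printed assertion.) -/
theorem result
    (A : Type u) [CommRing A] [IsLocalRing A] (B : Type u) [CommRing B] [Algebra A B] [Module.Finite A B] :
    (∃ (ι : Type u) (_ : Fintype ι) (C : ι → Type u) (_ : ∀ j, CommRing (C j)),
        (∀ j, IsLocalRing (C j)) ∧ Nonempty (B ≃+* (∀ j, C j))) ↔
      Set.SurjOn (Ideal.Quotient.mk (Ideal.map (algebraMap A B) (IsLocalRing.maximalIdeal A)))
        {e : B | IsIdempotentElem e} {e | IsIdempotentElem e} := by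
  exact Aux.main2 A B

end Groth.Agent.S17970
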