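import Groth.Statements.S17973
import Mathlib
import Groth.Prelude.Def_EssEt
-- import your own Groth.Agent.* helpers here

set_option autoImplicit false
universe u
open EGA4loc

namespace Groth.Agent.S17973

open TensorProduct
namespace Aux

lemma span_range_unit_smul {R : Type*} [CommRing R] {σ : Type*} (r : σ → R) (c : σ → R)
    (hc : ∀ j, IsUnit (c j)) :
    Ideal.span (Set.range fun j => c j * r j) = Ideal.span (Set.range r) := by
  apply le_antisymm
  · rw [Ideal.span_le]
    rintro _ ⟨j, rfl⟩
    exact Ideal.mul_mem_left _ _ (Ideal.subset_span ⟨j, rfl⟩)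
  · rw [Ideal.span_le]
    rintro _ ⟨j, rfl⟩
    obtain ⟨u, hu⟩ := hc j
    have : r j = (↑u⁻¹ : R) * (c j * r j) := by
      rw [← mul_assoc, ← hu, Units.inv_mul, one_mul]
    rw [this]
    exact Ideal.mul_mem_left _ _ (Ideal.subset_span ⟨j, rfl⟩)

/-- descent of a finitely presented algebra along a localization -/
lemma descend {R : Type u} [CommRing R] (M : Submonoid R) (Rₘ : Type u) [CommRing Rₘ]
    [Algebra R Rₘ] [IsLocalization M Rₘ] (S : Type u) [CommRing S] [Algebra Rₘ S] [Algebra R S]
    [IsScalarTower R Rₘ S] [Algebra.FinitePresentation Rₘ S] :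
    ∃ (D₀ : Type u) (_ : CommRing D₀) (_ : Algebra R D₀), Algebra.FinitePresentation R D₀ ∧
      Nonempty (Rₘ ⊗[R] D₀ ≃ₐ[Rₘ] S) := by
  obtain ⟨n, m, ⟨P⟩⟩ := Algebra.Presentation.exists_presentation_fin Rₘ S
  have hb : ∀ j : Fin m, ∃ b : M, ∀ a ∈ (P.relation j).coeffs,
      IsLocalization.IsInteger R ((b : R) • a) := fun j =>
    IsLocalization.exist_integer_multiples_of_finset M (P.relation j).coeffs
  choose b hb using hb
  let P' : Algebra.Presentation Rₘ S (Fin n) (Fin m) :=
    { toGenerators := P.toGenerators
      relation := fun j => MvPolynomial.C (algebraMap R Rₘ (b j)) * P.relation j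
      span_range_relation_eq_ker := by
        rw [← P.span_range_relation_eq_ker]
        refine span_range_unit_smul _ _ fun j => ?_
        exact (IsLocalization.map_units Rₘ (b j)).map MvPolynomial.C }
  haveI : P'.HasCoeffs R := by
    constructor
    intro x hx
    simp only [Algebra.Presentation.coeffs, Set.mem_iUnion] at hx
    obtain ⟨j, hj⟩ := hx
    have hj' : x ∈ (MvPolynomial.C (algebraMap R Rₘ (b j)) * P.relation j).coeffs := hj
    rw [MvPolynomial.mem_coeffs_iff] at hj'
    obtain ⟨d, hd, rfl⟩ := hj'
    rw [MvPolynomial.coeff_C_mul]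
    rw [MvPolynomial.mem_support_iff, MvPolynomial.coeff_C_mul] at hd
    have hd' : MvPolynomial.coeff d (P.relation j) ∈ (P.relation j).coeffs := by
      rw [MvPolynomial.mem_coeffs_iff]
      refine ⟨d, ?_, rfl⟩
      rw [MvPolynomial.mem_support_iff]
      intro h0
      rw [h0, mul_zero] at hd
      exact hd rfl
    have := hb j _ hd'
    rw [Algebra.smul_def] at this
    exact this
  exact ⟨P'.ModelOfHasCoeffs R, inferInstance, inferInstance, inferInstance,
    ⟨P'.tensorModelOfHasCoeffsEquiv R⟩⟩

/-- a formally etale localization of a finitely presented algebra at a prime is a localization of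
an etale algebra -/
lemma of_fp {A : Type u} [CommRing A] (D₀ : Type u) [CommRing D₀] [Algebra A D₀]
    [Algebra.FinitePresentation A D₀] (q₀ : Ideal D₀) [q₀.IsPrime]
    (C : Type u) [CommRing C] [Algebra A C] [Algebra D₀ C] [IsScalarTower A D₀ C]
    [IsLocalization.AtPrime C q₀] [Algebra.FormallyEtale A C] :
    ∃ (D : Type u) (_ : CommRing D) (_ : Algebra A D) (q : Ideal D) (_ : q.IsPrime),
      Algebra.Etale A D ∧ q.comap (algebraMap A D) = q₀.comap (algebraMap A D₀) ∧
      Nonempty (C ≃ₐ[A] Localization.AtPrime q) := by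
  have e0 : C ≃ₐ[A] Localization.AtPrime q₀ :=
    (IsLocalization.algEquiv q₀.primeCompl C (Localization.AtPrime q₀)).restrictScalars A
  haveI : Algebra.IsEtaleAt A q₀ := Algebra.FormallyEtale.of_equiv e0
  obtain ⟨f, hf, hEt⟩ := Algebra.exists_etale_of_isEtaleAt (R := A) q₀
  have hdisj : Disjoint (Submonoid.powers f : Set D₀) (q₀ : Set D₀) := by
    rw [Set.disjoint_left]
    rintro _ ⟨n, rfl⟩ hn
    exact hf (Ideal.IsPrime.mem_of_pow_mem inferInstance n hn)
  let q : Ideal (Localization.Away f) := q₀.map (algebraMap D₀ (Localization.Away f))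
  haveI hqp : q.IsPrime :=
    IsLocalization.isPrime_of_isPrime_disjoint (Submonoid.powers f) _ q₀ inferInstance hdisj
  have hq : q.comap (algebraMap D₀ (Localization.Away f)) = q₀ :=
    IsLocalization.under_map_of_isPrime_disjoint (Submonoid.powers f) _ inferInstance hdisj
  refine ⟨Localization.Away f, inferInstance, inferInstance, q, hqp, hEt, ?_, ?_⟩
  · rw [IsScalarTower.algebraMap_eq A D₀ (Localization.Away f), ← Ideal.comap_comap, hq]
  · have h1 : IsLocalization.AtPrime (Localization.AtPrime q)
        (q.comap (algebraMap D₀ (Localization.Away f))) := inferInstance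
    have h2 : (q.comap (algebraMap D₀ (Localization.Away f))).primeCompl = q₀.primeCompl := by
      ext x
      simp only [Ideal.mem_primeCompl_iff]
      rw [hq]
    have h3 : IsLocalization q₀.primeCompl (Localization.AtPrime q) := by
      rw [← h2]
      exact h1
    exact ⟨(IsLocalization.algEquiv q₀.primeCompl C (Localization.AtPrime q)).restrictScalars A⟩


lemma main_clean (A : Type u) [CommRing A] [IsLocalRing A]
    (R : Type u) [CommRing R] [Algebra A R] [Algebra.Etale A R] (p : Ideal R) [p.IsPrime]
    (hp : p.comap (algebraMap A R) = IsLocalRing.maximalIdeal A)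
    (B : Type u) [CommRing B] [IsLocalRing B] [Algebra A B] [Algebra R B] [IsScalarTower A R B]
    [IsLocalization.AtPrime B p]
    (S : Type u) [CommRing S] [Algebra B S] [Algebra.Etale B S] (q : Ideal S) [q.IsPrime]
    (hq : q.comap (algebraMap B S) = IsLocalRing.maximalIdeal B)
    (C : Type u) [CommRing C] [Algebra A C] [Algebra B C] [IsScalarTower A B C]
    [Algebra S C] [IsScalarTower B S C] [IsLocalization.AtPrime C q] :
    EGA4loc.IsEssentiallyEtale A C := by
  -- R-algebra structure on S
  letI : Algebra R S := ((algebraMap B S).comp (algebraMap R B)).toAlgebra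
  haveI : IsScalarTower R B S := IsScalarTower.of_algebraMap_eq' rfl
  obtain ⟨D₀, _, _, hfp, ⟨ψ⟩⟩ := descend p.primeCompl B S
  -- D₀ ⊗ B ≃ S
  let φ : D₀ ⊗[R] B ≃+* S := (Algebra.TensorProduct.comm R D₀ B).toRingEquiv.trans ψ.toRingEquiv
  letI : Algebra D₀ S := (φ.toRingHom.comp (algebraMap D₀ (D₀ ⊗[R] B))).toAlgebra
  let φ' : D₀ ⊗[R] B ≃ₐ[D₀] S := AlgEquiv.ofRingEquiv (f := φ) (fun d => rfl)
  haveI : IsLocalization (Algebra.algebraMapSubmonoid D₀ p.primeCompl) S :=
    IsLocalization.isLocalization_of_algEquiv _ φ'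
  have hφ : ∀ d : D₀, algebraMap D₀ S d = ψ (1 ⊗ₜ d) := fun d => rfl
  haveI : IsScalarTower R D₀ S := by
    refine IsScalarTower.of_algebraMap_eq fun r => ?_
    rw [hφ]
    have h1 : (1 : B) ⊗ₜ[R] (algebraMap R D₀ r) =
        algebraMap B (B ⊗[R] D₀) (algebraMap R B r) := by
      rw [Algebra.TensorProduct.algebraMap_apply, Algebra.algebraMap_eq_smul_one (A := D₀) r,
        ← TensorProduct.smul_tmul, ← Algebra.algebraMap_eq_smul_one]
      rfl
    rw [h1, ψ.commutes]
    rfl
  letI : Algebra D₀ C := ((algebraMap S C).comp (algebraMap D₀ S)).toAlgebra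
  haveI : IsScalarTower D₀ S C := IsScalarTower.of_algebraMap_eq' rfl
  letI : Algebra A D₀ := ((algebraMap R D₀).comp (algebraMap A R)).toAlgebra
  haveI : IsScalarTower A R D₀ := IsScalarTower.of_algebraMap_eq' rfl
  haveI : Algebra.FinitePresentation A D₀ := Algebra.FinitePresentation.trans A R D₀
  have hAS : (algebraMap D₀ S).comp (algebraMap A D₀) = (algebraMap B S).comp (algebraMap A B) := by
    ext a
    show algebraMap D₀ S (algebraMap R D₀ (algebraMap A R a)) = algebraMap B S (algebraMap A B a)
    rw [← IsScalarTower.algebraMap_apply R D₀ S, IsScalarTower.algebraMap_apply R B S,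
      ← IsScalarTower.algebraMap_apply A R B]
  haveI : IsScalarTower A D₀ C := by
    refine IsScalarTower.of_algebraMap_eq fun a => ?_
    rw [IsScalarTower.algebraMap_apply A B C, IsScalarTower.algebraMap_apply B S C]
    show _ = algebraMap S C (algebraMap D₀ S (algebraMap A D₀ a))
    have := congrArg (fun f => f a) hAS
    simp only [RingHom.comp_apply] at this
    rw [this]
  haveI : IsLocalization.AtPrime C (q.comap (algebraMap D₀ S)) :=
    IsLocalization.isLocalization_isLocalization_atPrime_isLocalization
      (Algebra.algebraMapSubmonoid D₀ p.primeCompl) C q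
  haveI : Algebra.FormallyEtale A C := by
    haveI : Algebra.FormallyEtale R B := .of_isLocalization p.primeCompl
    haveI : Algebra.FormallyEtale A B := .comp A R B
    haveI : Algebra.FormallyEtale S C := .of_isLocalization q.primeCompl
    haveI : Algebra.FormallyEtale B C := .comp B S C
    exact .comp A B C
  obtain ⟨D, _, _, q', _, hEt, hq', he⟩ := of_fp (A := A) D₀ (q.comap (algebraMap D₀ S)) C
  refine ⟨D, _, _, q', _, hEt, ?_, he⟩
  rw [hq', Ideal.comap_comap, hAS, ← Ideal.comap_comap, hq]
  have h1 : (IsLocalRing.maximalIdeal B).comap (algebraMap R B) = p :=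
    IsLocalization.AtPrime.under_maximalIdeal B p
  rw [IsScalarTower.algebraMap_eq A R B, ← Ideal.comap_comap, h1, hp]

theorem main (A : Type u) [CommRing A] [IsLocalRing A]
    (B : Type u) [CommRing B] [IsLocalRing B] [Algebra A B]
    (C : Type u) [CommRing C] [Algebra B C] [Algebra A C] [IsScalarTower A B C]
    (hB : EGA4loc.IsEssentiallyEtale A B) (hC : EGA4loc.IsEssentiallyEtale B C) :
    EGA4loc.IsEssentiallyEtale A C := by
  obtain ⟨R, _, _, p, _, hEtR, hp, ⟨e₁⟩⟩ := hB
  obtain ⟨S, _, _, q, _, hEtS, hq, ⟨e₂⟩⟩ := hC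
  letI : Algebra R B :=
    (e₁.symm.toRingEquiv.toRingHom.comp (algebraMap R (Localization.AtPrime p))).toAlgebra
  haveI : IsScalarTower A R B := by
    refine IsScalarTower.of_algebraMap_eq fun a => ?_
    show algebraMap A B a = e₁.symm (algebraMap R (Localization.AtPrime p) (algebraMap A R a))
    rw [← IsScalarTower.algebraMap_apply A R (Localization.AtPrime p), e₁.symm.commutes]
  haveI : IsLocalization.AtPrime B p := by
    let e' : Localization.AtPrime p ≃ₐ[R] B :=
      AlgEquiv.ofRingEquiv (f := e₁.symm.toRingEquiv) (fun r => rfl)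
    exact IsLocalization.isLocalization_of_algEquiv p.primeCompl e'
  letI : Algebra S C :=
    (e₂.symm.toRingEquiv.toRingHom.comp (algebraMap S (Localization.AtPrime q))).toAlgebra
  haveI : IsScalarTower B S C := by
    refine IsScalarTower.of_algebraMap_eq fun a => ?_
    show algebraMap B C a = e₂.symm (algebraMap S (Localization.AtPrime q) (algebraMap B S a))
    rw [← IsScalarTower.algebraMap_apply B S (Localization.AtPrime q), e₂.symm.commutes]
  haveI : IsLocalization.AtPrime C q := by
    let e' : Localization.AtPrime q ≃ₐ[S] C :=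
      AlgEquiv.ofRingEquiv (f := e₂.symm.toRingEquiv) (fun r => rfl)
    exact IsLocalization.isLocalization_of_algEquiv q.primeCompl e'
  exact main_clean A R p hp B S q hq C

end Aux

/-- Let A be a local ring, B a local ring which is a local-etale A-algebra (isomorphic over A to the
localization of an etale A-algebra at a prime ideal lying over the maximal ideal of A), and C a
local-etale B-algebra, regarded as an A-algebra through B. Then C is a local-etale A-algebra. -/
theorem result (A : Type u) [CommRing A] [IsLocalRing A]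
    (B : Type u) [CommRing B] [IsLocalRing B] [Algebra A B]
    (C : Type u) [CommRing C] [Algebra B C] [Algebra A C] [IsScalarTower A B C]
    (hB : EGA4loc.IsEssentiallyEtale A B) (hC : EGA4loc.IsEssentiallyEtale B C) :
    EGA4loc.IsEssentiallyEtale A C := by
  exact Aux.main A B C hB hC

end Groth.Agent.S17973
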