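import Groth.Statements.S17974
import Mathlib

set_option autoImplicit false
universe u
open Unram

namespace Groth.Agent.S17974

/-- Let A be a commutative ring, B an unramified A-algebra (formally unramified and of finite type), C
an A-algebra, p a prime ideal of C, and u, v : B → C two A-algebra homomorphisms which agree after
composition with C → C/p. Then there is an element f of C not in p such that u and v agree after
composition with the localization map C → C[1/f]. -/
theorem result
    (A : Type u) [CommRing A] (B : Type u) [CommRing B] [Algebra A B]
    [Algebra.FormallyUnramified A B] [Algebra.FiniteType A B]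
    (C : Type u) [CommRing C] [Algebra A C] (p : Ideal C) [p.IsPrime]
    (u v : B →ₐ[A] C)
    (huv : (Ideal.Quotient.mk p).comp u.toRingHom = (Ideal.Quotient.mk p).comp v.toRingHom) :
    ∃ f : C, f ∉ p ∧
      (algebraMap C (Localization.Away f)).comp u.toRingHom =
        (algebraMap C (Localization.Away f)).comp v.toRingHom := by
  classical
  haveI : Algebra.EssFiniteType A B := inferInstance
  set t := Algebra.FormallyUnramified.elem A B with ht
  set w : TensorProduct A B B →ₐ[A] C := Algebra.TensorProduct.productMap u v with hw
  have huv' : ∀ b : B, Ideal.Quotient.mk p (u b) = Ideal.Quotient.mk p (v b) := fun b =>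
    RingHom.congr_fun huv b
  have hmod : ∀ x : TensorProduct A B B,
      Ideal.Quotient.mk p (w x) = Ideal.Quotient.mk p (u (Algebra.TensorProduct.lmul' A x)) := by
    intro x
    induction x using TensorProduct.induction_on with
    | zero => simp
    | tmul a b =>
      simp only [hw, Algebra.TensorProduct.productMap_apply_tmul,
        Algebra.TensorProduct.lmul'_apply_tmul, map_mul]
      rw [huv' b]
    | add x y hx hy => simp only [map_add, hx, hy]
  refine ⟨w t, ?_, ?_⟩
  · intro hmem
    have h1 : Ideal.Quotient.mk p (w t) = 1 := by
      rw [hmod, ht, Algebra.FormallyUnramified.lmul_elem, map_one, map_one]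
    rw [Ideal.Quotient.eq_zero_iff_mem.mpr hmem] at h1
    have : Nontrivial (C ⧸ p) := Ideal.Quotient.nontrivial_iff.mpr (Ideal.IsPrime.ne_top inferInstance)
    exact zero_ne_one h1
  · ext b
    simp only [RingHom.comp_apply, AlgHom.toRingHom_eq_coe, RingHom.coe_coe]
    have h0 := Algebra.FormallyUnramified.one_tmul_sub_tmul_one_mul_elem (R := A) (S := B) b
    have h1 := congrArg w h0
    rw [map_mul, map_sub, map_zero] at h1
    simp only [hw, Algebra.TensorProduct.productMap_apply_tmul, map_one, one_mul, mul_one] at h1
    have hunit : IsUnit (algebraMap C (Localization.Away (w t)) (w t)) :=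
      IsLocalization.Away.algebraMap_isUnit (w t)
    have h2 := congrArg (algebraMap C (Localization.Away (w t))) h1
    rw [map_mul, map_zero, map_sub] at h2
    have h3 := hunit.mul_left_eq_zero.mp h2
    exact (sub_eq_zero.mp h3).symm

end Groth.Agent.S17974
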