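import Groth.Statements.S17975
import Mathlib
-- import your own Groth.Agent.* helpers here

set_option autoImplicit false
universe u
open Hensel

namespace Groth.Agent.S17975

open Polynomial
namespace Aux

theorem main
    (A : Type u) [CommRing A] [IsLocalRing A] (C : Type u) [CommRing C] [Algebra A C] [Module.Finite A C]
    (Q₀ : Polynomial (IsLocalRing.ResidueField A)) (hQ₀ : Q₀.Monic)
    (e : (C ⧸ Ideal.map (algebraMap A C) (IsLocalRing.maximalIdeal A)) ≃ₐ[A] AdjoinRoot Q₀)
    (x : C) (hx : e (Ideal.Quotient.mk (Ideal.map (algebraMap A C) (IsLocalRing.maximalIdeal A)) x) = AdjoinRoot.root Q₀) :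
    Algebra.adjoin A {x} = ⊤ ∧
      ∃ Q : Polynomial A, Q.Monic ∧ Q.natDegree = Q₀.natDegree ∧
        Polynomial.map (IsLocalRing.residue A) Q = Q₀ ∧ Polynomial.aeval x Q = 0 := by
  let m := IsLocalRing.maximalIdeal A
  let mC := Ideal.map (algebraMap A C) m
  let n := Q₀.natDegree
  let θ : C →ₐ[A] AdjoinRoot Q₀ := e.toAlgHom.comp (Ideal.Quotient.mkₐ A mC)
  have hθx : θ x = AdjoinRoot.root Q₀ := hx
  have hker : ∀ c, θ c = 0 → c ∈ mC := by
    intro c hc
    have : e (Ideal.Quotient.mk mC c) = 0 := hc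
    rw [map_eq_zero_iff e e.injective] at this
    exact Ideal.Quotient.eq_zero_iff_mem.mp this
  -- evaluation of θ on aeval x P
  have hθP : ∀ P : A[X], θ (aeval x P) = AdjoinRoot.mk Q₀ (P.map (IsLocalRing.residue A)) := by
    intro P
    rw [← Polynomial.aeval_algHom_apply, hθx]
    induction P using Polynomial.induction_on' with
    | add p q hp hq => rw [map_add, hp, hq, Polynomial.map_add, map_add]
    | monomial k a =>
      rw [Polynomial.aeval_monomial, Polynomial.map_monomial, ← Polynomial.C_mul_X_pow_eq_monomial,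
        map_mul, map_pow, AdjoinRoot.mk_X, AdjoinRoot.mk_C]
      rfl
  have hA : ∀ c : C, ∃ P : A[X], P.degree < n ∧ c - aeval x P ∈ mC := by
    intro c
    obtain ⟨f, hf⟩ := AdjoinRoot.mk_surjective (g := Q₀) (θ c)
    have hdeg : (f %ₘ Q₀).degree < Q₀.degree := Polynomial.degree_modByMonic_lt f hQ₀
    have hmk : AdjoinRoot.mk Q₀ (f %ₘ Q₀) = AdjoinRoot.mk Q₀ f := by
      rw [AdjoinRoot.mk_eq_mk]
      refine ⟨-(f /ₘ Q₀), ?_⟩
      have := Polynomial.modByMonic_add_div f Q₀
      linear_combination this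
    have hlift : (f %ₘ Q₀) ∈ Polynomial.lifts (IsLocalRing.residue A) := by
      rw [Polynomial.mem_lifts]
      exact Polynomial.map_surjective _ IsLocalRing.residue_surjective _
    obtain ⟨P, hP1, hP2⟩ := Polynomial.exists_degree_eq_of_mem_lifts hlift
    refine ⟨P, ?_, ?_⟩
    · rw [hP2]
      calc (f %ₘ Q₀).degree < Q₀.degree := hdeg
        _ = (n : WithBot ℕ) := Polynomial.degree_eq_natDegree hQ₀.ne_zero
    · apply hker
      rw [map_sub, hθP, hP1, hmk, hf, sub_self]
  -- Nakayama
  let N : Submodule A C := (Polynomial.degreeLT A n).map (aeval x).toLinearMap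
  have hNtop : N = ⊤ := by
    rw [eq_top_iff]
    refine Submodule.le_of_le_smul_of_le_jacobson_bot (I := m) (Module.Finite.fg_top)
      (IsLocalRing.maximalIdeal_le_jacobson _) ?_
    intro c _
    obtain ⟨P, hP1, hP2⟩ := hA c
    have : c = aeval x P + (c - aeval x P) := by ring
    rw [this]
    refine Submodule.add_mem_sup ?_ ?_
    · exact ⟨P, Polynomial.mem_degreeLT.mpr hP1, rfl⟩
    · rw [Ideal.smul_top_eq_map]
      exact hP2
  have hN : ∀ c : C, ∃ P : A[X], P.degree < n ∧ aeval x P = c := by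
    intro c
    have : c ∈ N := hNtop ▸ Submodule.mem_top
    obtain ⟨P, hP, rfl⟩ := this
    exact ⟨P, Polynomial.mem_degreeLT.mp hP, rfl⟩
  refine ⟨?_, ?_⟩
  · rw [eq_top_iff]
    intro c _
    obtain ⟨P, -, rfl⟩ := hN c
    rw [Algebra.adjoin_singleton_eq_range_aeval]
    exact ⟨P, rfl⟩
  · obtain ⟨P, hP1, hP2⟩ := hN (x ^ n)
    have hmonic : (X ^ n - P).Monic := Polynomial.monic_X_pow_sub hP1
    have hnat : (X ^ n - P).natDegree = n := by
      apply Polynomial.natDegree_eq_of_degree_eq_some
      rw [Polynomial.degree_sub_eq_left_of_degree_lt, Polynomial.degree_X_pow]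
      rw [Polynomial.degree_X_pow]; exact hP1
    have hroot : aeval x (X ^ n - P) = 0 := by
      rw [map_sub, hP2, map_pow, aeval_X, sub_self]
    refine ⟨X ^ n - P, hmonic, hnat, ?_, hroot⟩
    have hmonic' : ((X ^ n - P).map (IsLocalRing.residue A)).Monic := hmonic.map _
    have hdvd : Q₀ ∣ (X ^ n - P).map (IsLocalRing.residue A) := by
      rw [← AdjoinRoot.mk_eq_zero, ← hθP, hroot, map_zero]
    refine Polynomial.eq_of_monic_of_dvd_of_natDegree_le hQ₀ hmonic' hdvd ?_
    rw [hmonic.natDegree_map, hnat]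

end Aux

/-- Let A be a local ring with maximal ideal m and residue field k, C a commutative A-algebra which is
finitely generated as an A-module, Q₀ a monic polynomial of degree n over k, e an A-algebra
isomorphism from C/mC to k[T]/(Q₀), and x an element of C whose class is sent by e to the class of
T. Then x generates C as an A-algebra, and x is a root of a monic polynomial Q over A of degree n
whose reduction modulo m equals Q₀. -/
theorem result
    (A : Type u) [CommRing A] [IsLocalRing A] (C : Type u) [CommRing C] [Algebra A C] [Module.Finite A C]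
    (Q₀ : Polynomial (IsLocalRing.ResidueField A)) (hQ₀ : Q₀.Monic)
    (e : (C ⧸ Ideal.map (algebraMap A C) (IsLocalRing.maximalIdeal A)) ≃ₐ[A] AdjoinRoot Q₀)
    (x : C) (hx : e (Ideal.Quotient.mk (Ideal.map (algebraMap A C) (IsLocalRing.maximalIdeal A)) x) = AdjoinRoot.root Q₀) :
    Algebra.adjoin A {x} = ⊤ ∧
      ∃ Q : Polynomial A, Q.Monic ∧ Q.natDegree = Q₀.natDegree ∧
        Polynomial.map (IsLocalRing.residue A) Q = Q₀ ∧ Polynomial.aeval x Q = 0 := by
  exact Aux.main A C Q₀ hQ₀ e x hx

end Groth.Agent.S17975
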