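import Groth.Statements.S17977
import Mathlib

set_option autoImplicit false
universe u
open EGA4loc

namespace Groth.Agent.S17977

/-- Let A be a local ring, B a local ring which is a local-etale A-algebra, and C a local ring with a
local structure map A → C. Then every A-algebra homomorphism B → C is local. (The source states this
for local ind-etale B, i.e. filtered colimits of local-etale algebras along local maps, and reduces
at once to the local-etale case stated here.) -/
theorem result (A : Type u) [CommRing A] [IsLocalRing A]
    (B : Type u) [CommRing B] [IsLocalRing B] [Algebra A B] (hB : EGA4loc.IsEssentiallyEtale A B)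
    (C : Type u) [CommRing C] [IsLocalRing C] [Algebra A C] [IsLocalHom (algebraMap A C)]
    (φ : B →ₐ[A] C) : IsLocalHom φ.toRingHom := by
  obtain ⟨E, _, _, q, hq, hE, hqA, ⟨e⟩⟩ := hB
  have : Algebra.QuasiFinite A E := inferInstance
  have : Algebra.QuasiFinite A (Localization.AtPrime q) := inferInstance
  have : Algebra.QuasiFinite A B := (Algebra.QuasiFinite.iff_of_algEquiv e).mpr inferInstance
  set P : Ideal B := (IsLocalRing.maximalIdeal C).comap φ.toRingHom with hP
  have : P.IsPrime := Ideal.comap_isPrime _ _
  have hPA : P.under A = IsLocalRing.maximalIdeal A := by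
    rw [hP, Ideal.under, Ideal.comap_comap]
    have : φ.toRingHom.comp (algebraMap A B) = algebraMap A C := by
      ext a; simp
    rw [this]
    exact IsLocalRing.maximalIdeal_comap (algebraMap A C)
  have hle : P ≤ IsLocalRing.maximalIdeal B := IsLocalRing.le_maximalIdeal (Ideal.IsPrime.ne_top inferInstance)
  have hQA : (IsLocalRing.maximalIdeal B).under A = IsLocalRing.maximalIdeal A := by
    have h1 : IsLocalRing.maximalIdeal A ≤ (IsLocalRing.maximalIdeal B).under A := by
      rw [← hPA]; exact Ideal.comap_mono hle
    have h2 : (IsLocalRing.maximalIdeal B).under A ≠ ⊤ := Ideal.IsPrime.ne_top inferInstance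
    exact ((IsLocalRing.maximalIdeal.isMaximal A).eq_of_le h2 h1).symm
  have hPQ := Algebra.QuasiFinite.eq_of_le_of_under_eq (R := A) P (IsLocalRing.maximalIdeal B) hle (hPA.trans hQA.symm)
  exact ((IsLocalRing.local_hom_TFAE φ.toRingHom).out 0 4).mpr hPQ

end Groth.Agent.S17977
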