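import Groth.Statements.S17978
import Mathlib
import Groth.Agent.S17974

set_option autoImplicit false
universe u
open EGA4loc

namespace Groth.Agent.S17978

/-- Let A be a local ring, B a local ring which is a local-etale A-algebra, and C a local ring with a
local structure map A → C. Then two A-algebra homomorphisms B → C which agree after composition with
the residue map of C are equal; in other words an A-algebra map B → C is determined by the map it
induces on residue fields. (The source states this for local ind-etale B and reduces to the
local-etale case stated here; C is an arbitrary local A-algebra with local structure map.) -/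
theorem result (A : Type u) [CommRing A] [IsLocalRing A]
    (B : Type u) [CommRing B] [IsLocalRing B] [Algebra A B] (hB : EGA4loc.IsEssentiallyEtale A B)
    (C : Type u) [CommRing C] [IsLocalRing C] [Algebra A C] [IsLocalHom (algebraMap A C)]
    (u v : B →ₐ[A] C)
    (h : (IsLocalRing.residue C).comp u.toRingHom = (IsLocalRing.residue C).comp v.toRingHom) :
    u = v := by
  obtain ⟨E, _, _, q, hq, hE, hqA, ⟨e⟩⟩ := hB
  have : Algebra.FormallyUnramified A E := inferInstance
  have : Algebra.FiniteType A E := inferInstance
  let ι : E →ₐ[A] B := (e.symm : Localization.AtPrime q →ₐ[A] B).comp (IsScalarTower.toAlgHom A E (Localization.AtPrime q))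
  set u' : E →ₐ[A] C := u.comp ι with hu'
  set v' : E →ₐ[A] C := v.comp ι with hv'
  have huv' : (Ideal.Quotient.mk (IsLocalRing.maximalIdeal C)).comp u'.toRingHom =
      (Ideal.Quotient.mk (IsLocalRing.maximalIdeal C)).comp v'.toRingHom := by
    ext x
    exact RingHom.congr_fun h (ι x)
  obtain ⟨f, hf, hfe⟩ := Groth.Agent.S17974.result A E C (IsLocalRing.maximalIdeal C) u' v' huv'
  have hfu : IsUnit f := by
    by_contra hn
    exact hf ((IsLocalRing.mem_maximalIdeal f).mpr hn)
  have hinj : Function.Injective (algebraMap C (Localization.Away f)) := by
    apply IsLocalization.injective (Localization.Away f) (M := Submonoid.powers f)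
    intro x hx
    obtain ⟨n, rfl⟩ := hx
    exact (hfu.pow n).mem_nonZeroDivisors
  have huv'' : u' = v' := by
    ext x
    exact hinj (RingHom.congr_fun hfe x)
  have key : ∀ y : Localization.AtPrime q, u (e.symm y) = v (e.symm y) := by
    have : (u.comp (e.symm : Localization.AtPrime q →ₐ[A] B)).toRingHom = (v.comp (e.symm : Localization.AtPrime q →ₐ[A] B)).toRingHom := by
      apply IsLocalization.ringHom_ext q.primeCompl
      ext x
      exact AlgHom.congr_fun huv'' x
    intro y
    exact RingHom.congr_fun this y
  ext b
  have := key (e b)
  simpa using this

end Groth.Agent.S17978
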