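import Groth.Statements.S17979
import Mathlib

set_option autoImplicit false
universe u
open Hensel

namespace Groth.Agent.S17979

/-- Let A be a local ring with residue field k and Q, R polynomials over A with Q monic. If the images
of Q and R in k[T] generate the unit ideal, then Q and R already generate the unit ideal of A[T]. -/
theorem result (A : Type u) [CommRing A] [IsLocalRing A]
    (Q R : Polynomial A) (hQ : Q.Monic)
    (h : IsCoprime (Polynomial.map (IsLocalRing.residue A) Q) (Polynomial.map (IsLocalRing.residue A) R)) :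
    IsCoprime Q R := by
  classical
  set I : Ideal (Polynomial A) := Ideal.span {Q, R} with hI
  have hfin : Module.Finite A (Polynomial A ⧸ I) := by
    haveI : Module.Finite A (Polynomial A ⧸ Ideal.span {Q}) := hQ.finite_adjoinRoot
    have hle : Ideal.span {Q} ≤ I := Ideal.span_mono (by simp)
    exact Module.Finite.of_surjective (Ideal.Quotient.factorₐ A hle).toLinearMap
      (Ideal.Quotient.factor_surjective hle)
  obtain ⟨u, v, huv⟩ := h
  obtain ⟨U, rfl⟩ := Polynomial.map_surjective _ IsLocalRing.residue_surjective u
  obtain ⟨V, rfl⟩ := Polynomial.map_surjective _ IsLocalRing.residue_surjective v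
  have hmem : U * Q + V * R - 1 ∈ Ideal.map Polynomial.C (IsLocalRing.maximalIdeal A) := by
    rw [Ideal.mem_map_C_iff]
    intro n
    rw [← IsLocalRing.residue_eq_zero_iff, ← Polynomial.coeff_map]
    simp [huv]
  have htop : (⊤ : Submodule A (Polynomial A ⧸ I)) ≤ IsLocalRing.maximalIdeal A • ⊤ := by
    rw [Ideal.smul_top_eq_map]
    have h1 : (1 : Polynomial A ⧸ I) ∈
        Ideal.map (algebraMap A (Polynomial A ⧸ I)) (IsLocalRing.maximalIdeal A) := by
      have e : algebraMap A (Polynomial A ⧸ I) = (Ideal.Quotient.mk I).comp Polynomial.C := rfl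
      rw [e, ← Ideal.map_map]
      have h2 := Ideal.mem_map_of_mem (Ideal.Quotient.mk I) hmem
      have h3 : Ideal.Quotient.mk I (U * Q + V * R - 1) = -1 := by
        rw [map_sub, map_one]
        have : Ideal.Quotient.mk I (U * Q + V * R) = 0 := by
          rw [Ideal.Quotient.eq_zero_iff_mem]
          exact Ideal.add_mem _ (Ideal.mul_mem_left _ _ (Ideal.subset_span (by simp)))
            (Ideal.mul_mem_left _ _ (Ideal.subset_span (by simp)))
        rw [this, zero_sub]
      rw [h3] at h2
      simpa using h2
    rw [(Ideal.eq_top_iff_one _).mpr h1]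
    intro x _; trivial
  have hbot := Submodule.eq_bot_of_le_smul_of_le_jacobson_bot (IsLocalRing.maximalIdeal A) ⊤
    (Module.finite_def.mp hfin) htop (IsLocalRing.maximalIdeal_le_jacobson _)
  have h1 : (1 : Polynomial A ⧸ I) = 0 := by
    have hm : (1 : Polynomial A ⧸ I) ∈ (⊤ : Submodule A _) := trivial
    rw [hbot] at hm; simpa using hm
  rw [← map_one (Ideal.Quotient.mk I), Ideal.Quotient.eq_zero_iff_mem, Ideal.mem_span_pair] at h1
  obtain ⟨a, b, hab⟩ := h1
  exact ⟨a, b, hab⟩

end Groth.Agent.S17979
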