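import Groth.Statements.S17981
import Mathlib.Tactic
import Mathlib.RingTheory.Ideal.GoingUp
import Mathlib.RingTheory.Jacobson.Ideal

set_option autoImplicit false
universe u
open Hensel

namespace Groth.Agent.S17981

/-- Let A be a commutative ring, I an ideal contained in the Jacobson radical of A, and B a commutative
A-algebra which is finitely generated as an A-module. Then two idempotents of B with the same image
in B/IB are equal. -/
theorem result (A : Type u) [CommRing A] (I : Ideal A)
    (hI : I ≤ Ideal.jacobson ⊥) (B : Type u) [CommRing B] [Algebra A B] [Module.Finite A B] :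
    Set.InjOn (Ideal.Quotient.mk (Ideal.map (algebraMap A B) I)) {e : B | IsIdempotentElem e} := by
  intro e he e' he' h
  simp only [Set.mem_ofPred_eq] at he he'
  have hJ : Ideal.map (algebraMap A B) I ≤ Ideal.jacobson (⊥ : Ideal B) := by
    rw [Ideal.jacobson, le_sInf_iff]
    rintro m ⟨-, hm⟩
    rw [Ideal.map_le_iff_le_comap]
    haveI : Algebra.IsIntegral A B := Algebra.IsIntegral.of_finite A B
    haveI : (Ideal.comap (algebraMap A B) m).IsMaximal :=
      Ideal.isMaximal_comap_of_isIntegral_of_isMaximal m
    refine hI.trans ?_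
    rw [Ideal.jacobson]
    exact sInf_le ⟨bot_le, this⟩
  have hx : e - e' ∈ Ideal.jacobson (⊥ : Ideal B) := by
    apply hJ
    rw [← Ideal.Quotient.eq]
    exact h
  have hu := (Ideal.mem_jacobson_bot.mp hx) (-(e - e'))
  have h3 : (e - e') * ((e - e') * -(e - e') + 1) = 0 := by
    have h1 : e * e = e := he
    have h2 : e' * e' = e' := he'
    have : (e - e') * ((e - e') * -(e - e') + 1) = -(e*e*e) + 3 * (e * e) * e' - 3 * e * (e' * e') + e' * e' * e' + e - e' := by ring
    rw [this, h1, h1, h2, h2]
    have : -e + 3 * e * e' - 3 * e * e' + e' + e - e' = 0 := by ring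
    exact this
  have := hu.mul_left_eq_zero.mp h3
  exact sub_eq_zero.mp this

end Groth.Agent.S17981
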