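import Groth.Statements.S17983
import Mathlib
-- import your own Groth.Agent.* helpers here

set_option autoImplicit false
universe u
open WeilNum

namespace Groth.Agent.S17983

open Polynomial
namespace Aux

theorem main (p e : ℕ) [Fact p.Prime] (he : 0 < e)
    (K : Type u) [Field K] [CharZero K] (π : K) (hπ : IsIntegral ℤ π)
    (hweil : ∀ z ∈ (minpoly ℤ π).aroots ℂ, ‖z‖ = Real.sqrt ((p : ℝ) ^ e))
    (hnr : ∀ z ∈ (minpoly ℤ π).aroots ℂ, z.im ≠ 0) :
    Even (minpoly ℤ π).natDegree ∧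
      ∀ r ≤ (minpoly ℤ π).natDegree / 2,
        (minpoly ℤ π).coeff ((minpoly ℤ π).natDegree / 2 - r) =
          (p : ℤ) ^ (e * r) * (minpoly ℤ π).coeff ((minpoly ℤ π).natDegree / 2 + r) := by
  set P := minpoly ℤ π with hP
  set n := P.natDegree with hn
  have hmonic : P.Monic := minpoly.monic hπ
  have hP0 : P ≠ 0 := hmonic.ne_zero
  let q : ℤ := (p : ℤ) ^ e
  have hq0 : q ≠ 0 := pow_ne_zero _ (by exact_mod_cast (Fact.out : p.Prime).ne_zero)
  have hroot : ∀ z : ℂ, z ∈ P.aroots ℂ ↔ eval₂ (algebraMap ℤ ℂ) z P = 0 := fun z => by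
    rw [mem_aroots, aeval_def]; exact and_iff_right hP0
  -- P₁ and Q
  let P₁ : ℤ[X] := P.comp (C q * X)
  have hP₁deg : P₁.natDegree ≤ n := by
    refine natDegree_comp_le.trans ?_
    calc P.natDegree * (C q * X).natDegree ≤ P.natDegree * 1 :=
          Nat.mul_le_mul_left _ ((natDegree_C_mul_le _ _).trans natDegree_X_le)
      _ = n := mul_one _
  let Q : ℤ[X] := reflect n P₁
  have hQcoeff : ∀ k ≤ n, Q.coeff k = P.coeff (n - k) * q ^ (n - k) := by
    intro k hk
    rw [coeff_reflect, revAt_le hk, comp_C_mul_X_coeff]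
  have hQdeg : Q.natDegree ≤ n := natDegree_reflect_le.trans (max_le le_rfl hP₁deg)
  -- evaluation identity
  have hev : ∀ w : ℂ, w ≠ 0 → eval₂ (algebraMap ℤ ℂ) w Q * (w⁻¹) ^ n =
      eval₂ (algebraMap ℤ ℂ) ((q : ℂ) / w) P := by
    intro w hw
    have : Invertible (w⁻¹) := invertibleOfNonzero (inv_ne_zero hw)
    have h1 := eval₂_reflect_mul_pow (algebraMap ℤ ℂ) (w⁻¹) n P₁ hP₁deg
    rw [invOf_eq_inv, inv_inv] at h1
    rw [h1, eval₂_comp]
    congr 1
    rw [eval₂_mul, eval₂_C, eval₂_X, div_eq_mul_inv]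
    rfl
  have hqC : ((q : ℤ) : ℂ) = (((p : ℝ) ^ e : ℝ) : ℂ) := by simp [q]
  have hnorm : ∀ z ∈ P.aroots ℂ, z * (starRingEnd ℂ) z = (q : ℂ) := by
    intro z hz
    rw [Complex.mul_conj, Complex.normSq_eq_norm_sq, hweil z hz, Real.sq_sqrt (by positivity), hqC]
  have hconj : ∀ z : ℂ, eval₂ (algebraMap ℤ ℂ) ((starRingEnd ℂ) z) P =
      (starRingEnd ℂ) (eval₂ (algebraMap ℤ ℂ) z P) := by
    intro z
    rw [hom_eval₂]
    congr 1
    exact (RingHom.ext_int _ _)
  have hQroot : ∀ z ∈ P.aroots ℂ, eval₂ (algebraMap ℤ ℂ) z Q = 0 := by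
    intro z hz
    have hz0 : z ≠ 0 := by
      intro h0
      have := hnorm z hz
      rw [h0, zero_mul] at this
      exact hq0 (by exact_mod_cast this.symm)
    have h1 := hev z hz0
    have h2 : (q : ℂ) / z = (starRingEnd ℂ) z := by rw [← hnorm z hz]; field_simp
    rw [h2, hconj, (hroot z).mp hz, map_zero] at h1
    exact (mul_eq_zero.mp h1).resolve_right (pow_ne_zero _ (inv_ne_zero hz0))
  -- P over ℂ
  have hPQ : minpoly ℚ π = P.map (algebraMap ℤ ℚ) :=
    minpoly.isIntegrallyClosed_eq_field_fractions' ℚ hπ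
  have hsepQ : (P.map (algebraMap ℤ ℚ)).Separable := by
    rw [← hPQ]; exact (minpoly.irreducible hπ.tower_top).separable
  have hmapeq : P.map (algebraMap ℤ ℂ) = (P.map (algebraMap ℤ ℚ)).map (algebraMap ℚ ℂ) := by
    rw [Polynomial.map_map]; congr 1
  set PC := P.map (algebraMap ℤ ℂ) with hPC
  have hsep : PC.Separable := by rw [hmapeq]; exact hsepQ.map
  have hPCmonic : PC.Monic := hmonic.map _
  have hPCdeg : PC.natDegree = n := hmonic.natDegree_map _
  have hsplit : PC.Splits := IsAlgClosed.splits PC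
  set QC := Q.map (algebraMap ℤ ℂ) with hQC
  have hdvd : PC ∣ QC := by
    by_cases hQ0 : QC = 0
    · rw [hQ0]; exact dvd_zero _
    apply hsplit.dvd_of_roots_le_roots hPCmonic.ne_zero
    rw [Multiset.le_iff_subset (nodup_roots hsep)]
    intro z hz
    rw [mem_roots hQ0, IsRoot.def, eval_map]
    exact hQroot z hz
  obtain ⟨R, hR⟩ := hdvd
  have hQCdeg : QC.natDegree ≤ n := (natDegree_map_le).trans hQdeg
  have hRC : ∃ c : ℂ, QC = PC * C c := by
    by_cases hR0 : R = 0
    · exact ⟨0, by rw [hR, hR0]; simp⟩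
    · have h1 : QC.natDegree = n + R.natDegree := by
        rw [hR, natDegree_mul hPCmonic.ne_zero hR0, hPCdeg]
      have hR0' : R.natDegree = 0 := by omega
      exact ⟨R.coeff 0, by rw [hR]; congr 1; exact eq_C_of_natDegree_eq_zero hR0'⟩
  obtain ⟨c, hc⟩ := hRC
  have hcoef : ∀ k, QC.coeff k = PC.coeff k * c := fun k => by rw [hc, coeff_mul_C]
  have hPCn : PC.coeff n = 1 := by rw [← hPCdeg]; exact hPCmonic.coeff_natDegree
  have hc_eq : c = (P.coeff 0 : ℂ) := by
    have := hcoef n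
    rw [hQC, coeff_map, hQcoeff n le_rfl, hPCn, one_mul, Nat.sub_self, pow_zero, mul_one] at this
    rw [← this]; simp
  have hrel : ∀ k ≤ n, P.coeff (n - k) * q ^ (n - k) = P.coeff k * P.coeff 0 := by
    intro k hk
    have := hcoef k
    rw [hQC, hPC, coeff_map, coeff_map, hQcoeff k hk, hc_eq] at this
    simp only [algebraMap_int_eq, eq_intCast] at this
    exact_mod_cast this
  let x : ℂ := ((Real.sqrt ((p:ℝ)^e) : ℝ) : ℂ)
  have hx2 : x ^ 2 = (q : ℂ) := by
    rw [hqC, ← Complex.ofReal_pow, Real.sq_sqrt (by positivity)]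
  have hqC0 : (q : ℂ) ≠ 0 := by exact_mod_cast hq0
  have key : ∀ y : ℂ, y.im = 0 → y ^ 2 = (q : ℂ) → (P.coeff 0 : ℂ) = y ^ n := by
    intro y hyim hy2
    have hy0 : y ≠ 0 := by
      intro h; rw [h] at hy2; simp at hy2; exact hqC0 hy2.symm
    have hPy : eval₂ (algebraMap ℤ ℂ) y P ≠ 0 := fun h => hnr y ((hroot y).mpr h) hyim
    have h1 := hev y hy0
    have h2 : (q : ℂ) / y = y := by rw [← hy2]; field_simp
    rw [h2] at h1
    have h3 : eval₂ (algebraMap ℤ ℂ) y Q = eval₂ (algebraMap ℤ ℂ) y P * c := by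
      rw [← eval_map, ← eval_map, ← hQC, ← hPC, hc, eval_mul, eval_C]
    rw [h3, hc_eq] at h1
    have h4 : (P.coeff 0 : ℂ) * (y⁻¹)^n = 1 := by
      apply mul_left_cancel₀ hPy; rw [← mul_assoc, h1, mul_one]
    calc (P.coeff 0 : ℂ) = (P.coeff 0 : ℂ) * (y⁻¹)^n * y^n := by
          rw [mul_assoc, ← mul_pow, inv_mul_cancel₀ hy0, one_pow, mul_one]
      _ = y^n := by rw [h4, one_mul]
  have hx0 : x ≠ 0 := by
    intro h; rw [h] at hx2; simp at hx2; exact hqC0 hx2.symm
  have k1 := key x (Complex.ofReal_im _) hx2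
  have k2 := key (-x) (by simp [x]) (by rw [neg_sq]; exact hx2)
  have heven : Even n := by
    have h1 : (-1 : ℂ)^n = 1 := by
      have h2 : (-x)^n = x^n := k2.symm.trans k1
      rw [neg_pow] at h2
      exact mul_right_cancel₀ (pow_ne_zero n hx0) (by rw [h2, one_mul])
    by_contra hodd
    rw [Nat.not_even_iff_odd] at hodd
    rw [hodd.neg_one_pow] at h1
    norm_num at h1
  refine ⟨heven, ?_⟩
  obtain ⟨d, hd⟩ := heven
  have hnd : n / 2 = d := by omega
  have ha0 : P.coeff 0 = q ^ d := by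
    have h1 : ((P.coeff 0 : ℤ) : ℂ) = ((q^d : ℤ) : ℂ) := by
      rw [k1, hd, ← two_mul, pow_mul, hx2]; push_cast; rfl
    exact_mod_cast h1
  intro r hr
  rw [hnd] at hr ⊢
  have h1 := hrel (d + r) (by omega)
  have e1 : n - (d + r) = d - r := by omega
  rw [e1, ha0] at h1
  have e2 : q ^ d = q ^ (d - r) * q ^ r := by rw [← pow_add]; congr 1; omega
  rw [e2] at h1
  have hqpow : q ^ (d - r) ≠ 0 := pow_ne_zero _ hq0
  have h2 : P.coeff (d - r) = P.coeff (d + r) * q ^ r := by
    apply mul_right_cancel₀ hqpow; rw [h1]; ring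
  rw [h2, pow_mul]; ring

end Aux

/-- Let p be a prime number, e ≥ 1 and q = p^e. Let π be an element of a field of characteristic zero
which is integral over ℤ, with minimal polynomial P over ℤ, and assume that every complex root of P
has absolute value √q and that no complex root of P is real (π is a nonreal Weil q-number). Then the
degree of P is even, say 2d, and writing a_j for the coefficient of x^j in P one has a_{d−r} = q^r ·
a_{d+r} for every 0 ≤ r ≤ d. -/
theorem result (p e : ℕ) [Fact p.Prime] (he : 0 < e)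
    (K : Type u) [Field K] [CharZero K] (π : K) (hπ : IsIntegral ℤ π)
    (hweil : ∀ z ∈ (minpoly ℤ π).aroots ℂ, ‖z‖ = Real.sqrt ((p : ℝ) ^ e))
    (hnr : ∀ z ∈ (minpoly ℤ π).aroots ℂ, z.im ≠ 0) :
    Even (minpoly ℤ π).natDegree ∧
      ∀ r ≤ (minpoly ℤ π).natDegree / 2,
        (minpoly ℤ π).coeff ((minpoly ℤ π).natDegree / 2 - r) =
          (p : ℤ) ^ (e * r) * (minpoly ℤ π).coeff ((minpoly ℤ π).natDegree / 2 + r) := by
  exact Aux.main p e he K π hπ hweil hnr

end Groth.Agent.S17983
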