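import Groth.Statements.S17985
import Groth.Agent.Lib.Helper6.WeilNumL.WNk

set_option autoImplicit false
universe u
open MvPolynomial
open WeilNum

namespace Groth.Agent.S17985

/-- Let p be a prime, e ≥ 1 and q = p^e. Let (π_i) be a nonempty finite family of pairwise nonconjugate
Weil q-numbers: π_i is an element of a field K_i of characteristic zero, integral over ℤ with
minimal polynomial P_i, every complex root of P_i has absolute value √q, and P_i ≠ P_j for i ≠ j.
Suppose the total degree Σ_i deg P_i is even, equal to 2D. Let R_w be the minimal central order, the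
image of ℤ[F, V] → ∏_i K_i, F ↦ (π_i), V ↦ (q/π_i). Then R_w is free of rank 2D as a ℤ-module, has
Krull dimension 1, and is a Gorenstein ring (Noetherian, with all localizations at primes of finite
injective dimension over themselves). -/
theorem result (p e : ℕ) [Fact p.Prime] (he : 0 < e)
    (ι : Type) [Fintype ι] (K : ι → Type u) [∀ i, Field (K i)] [∀ i, CharZero (K i)] (π : ∀ i, K i)
    (hint : ∀ i, IsIntegral ℤ (π i))
    (hweil : ∀ i, ∀ z ∈ (minpoly ℤ (π i)).aroots ℂ, ‖z‖ = Real.sqrt ((p : ℝ) ^ e))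
    (hinj : ∀ i j, minpoly ℤ (π i) = minpoly ℤ (π j) → i = j)
    [Nonempty ι] (D : ℕ) (hD : ∑ i, (minpoly ℤ (π i)).natDegree = 2 * D) :
    Module.Free ℤ (MvPolynomial.aeval ![fun i => π i, fun i => ((p : K i) ^ e) / π i] :
        MvPolynomial (Fin 2) ℤ →ₐ[ℤ] ((i : ι) → K i)).range ∧
      Module.finrank ℤ (MvPolynomial.aeval ![fun i => π i, fun i => ((p : K i) ^ e) / π i] :
        MvPolynomial (Fin 2) ℤ →ₐ[ℤ] ((i : ι) → K i)).range = 2 * D ∧
      ringKrullDim (MvPolynomial.aeval ![fun i => π i, fun i => ((p : K i) ^ e) / π i] :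
        MvPolynomial (Fin 2) ℤ →ₐ[ℤ] ((i : ι) → K i)).range = 1 ∧
      LocCoh.IsGorensteinRing (MvPolynomial.aeval ![fun i => π i, fun i => ((p : K i) ^ e) / π i] :
        MvPolynomial (Fin 2) ℤ →ₐ[ℤ] ((i : ι) → K i)).range := by
  open Groth.Agent.Lib.Helper6.WeilNumL in
  have hp : (0 : ℝ) < Real.sqrt ((p : ℝ) ^ e) := by
    apply Real.sqrt_pos.mpr
    have : (0 : ℝ) < (p : ℝ) := by exact_mod_cast (Fact.out : p.Prime).pos
    positivity
  have hπ : ∀ i, π i ≠ 0 := fun i => pi_ne_zero (π i) _ hp (hweil i)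
  have hq : ((p : ℤ) ^ e) ≠ 0 := by
    have : (p : ℤ) ≠ 0 := by exact_mod_cast (Fact.out : p.Prime).ne_zero
    exact pow_ne_zero _ this
  have hX0 : (MvPolynomial.aeval ![fun i => π i, fun i => ((p : K i) ^ e) / π i] :
        MvPolynomial (Fin 2) ℤ →ₐ[ℤ] ((i : ι) → K i)) (X 0) = fun i => π i := by
    rw [MvPolynomial.aeval_X]
    rfl
  have hX1 : (MvPolynomial.aeval ![fun i => π i, fun i => ((p : K i) ^ e) / π i] :
        MvPolynomial (Fin 2) ℤ →ₐ[ℤ] ((i : ι) → K i)) (X 1) =
        fun i => ((((p : ℤ) ^ e : ℤ)) : K i) / π i := by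
    rw [MvPolynomial.aeval_X]
    funext i
    show ((p : K i) ^ e) / π i = _
    push_cast
    rfl
  have hP0 := prod_coeff_zero p e ι K π hint hweil D hD
  have hfe := fe_prod_minpoly p e ι K π hint hweil
  have hdeg : (∏ i, minpoly ℤ (π i)).natDegree = 2 * D := by
    rw [natDegree_prod_minpoly ι K π hint, hD]
  obtain ⟨h, hh⟩ := exists_h p e ι K π hint hweil D hD
  exact ⟨free_range _ hq ι K π hπ hint hfe _ hX0 hX1,
    finrank_range _ hq ι K π hπ hint hinj hfe _ hX0 hX1 D hdeg,
    krullDim_range _ hq ι K π hπ hint hfe _ hX0 hX1,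
    gorenstein_range _ hq ι K π hπ hint hinj _ hX0 hX1 D hP0 h hh⟩

end Groth.Agent.S17985
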