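import Groth.Statements.S17987
import Groth.Agent.Lib.Helper6.WeilNumL.WNc

set_option autoImplicit false
universe u
open scoped Classical
open WeilNum

namespace Groth.Agent.S17987

/-- Let p be a prime, e ≥ 1 and q = p^e, and let (π_i) be a finite family of nonreal Weil q-numbers: π_i
lies in a field K_i of characteristic zero, is integral over ℤ with minimal polynomial P_i, every
complex root of P_i has absolute value √q, and no complex root of P_i is real; in particular deg P_i
= 2d_i is even. Call π_i ordinary when exactly half of the roots of P_i in an algebraic closure of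
ℚ_p, counted with multiplicity, are p-adic units (have absolute value 1). Then all π_i are ordinary
if and only if p does not divide ∏_i a_{d_i}, the product of the middle coefficients of the P_i
(this product is the value at F = V = 0 of the symmetric polynomial h_w of the family). -/
theorem result (p e : ℕ) [Fact p.Prime] (he : 0 < e)
    (ι : Type) [Fintype ι] (K : ι → Type u) [∀ i, Field (K i)] [∀ i, CharZero (K i)] (π : ∀ i, K i)
    (hint : ∀ i, IsIntegral ℤ (π i))
    (hweil : ∀ i, ∀ z ∈ (minpoly ℤ (π i)).aroots ℂ, ‖z‖ = Real.sqrt ((p : ℝ) ^ e))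
    (hnr : ∀ i, ∀ z ∈ (minpoly ℤ (π i)).aroots ℂ, z.im ≠ 0) :
    (∀ i, 2 * Multiset.card (((minpoly ℤ (π i)).aroots (PadicAlgCl p)).filter (fun z => ‖z‖ = 1)) = (minpoly ℤ (π i)).natDegree) ↔
      ¬ ((p : ℤ) ∣ ∏ i, (minpoly ℤ (π i)).coeff ((minpoly ℤ (π i)).natDegree / 2)) := by
  have hprime : Prime (p : ℤ) := Nat.prime_iff_prime_int.1 Fact.out
  have hirr : ∀ i, Irreducible ((minpoly ℤ (π i)).map (Int.castRingHom ℚ)) := fun i => by
    have h := ((minpoly.monic (hint i)).irreducible_iff_irreducible_map_fraction_map
      (K := ℚ)).1 (minpoly.irreducible (hint i))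
    rwa [algebraMap_int_eq] at h
  rw [hprime.dvd_finsetProd_iff]
  constructor
  · intro h hex
    obtain ⟨i, _, hi⟩ := hex
    exact (Groth.Agent.Lib.Helper6.WeilNumL.ordinary_iff p (minpoly ℤ (π i))
      (minpoly.monic (hint i)) (hirr i) e he (hweil i) (hnr i)).1 (h i) hi
  · intro h i
    refine (Groth.Agent.Lib.Helper6.WeilNumL.ordinary_iff p (minpoly ℤ (π i))
      (minpoly.monic (hint i)) (hirr i) e he (hweil i) (hnr i)).2 ?_
    intro hi
    exact h ⟨i, Finset.mem_univ i, hi⟩

end Groth.Agent.S17987
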