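import Groth.Statements.S17988
import Groth.Agent.Lib.Helper8.Refl6
import Groth.Agent.Lib.Helper8.Depth36

set_option autoImplicit false
universe u
open CAlg

namespace Groth.Agent.S17988

/-- Let Λ be a principal ideal domain and S a commutative Λ-algebra which is finitely generated and free
as a Λ-module and reduced as a ring; let M be a finitely generated S-module. Then M is torsionless
(the canonical map M → M** to the double S-dual is injective) if and only if M is free as a
Λ-module. If in addition S is a Gorenstein ring (it has Krull dimension at most 1, being finite over
Λ), then M is reflexive (M → M** bijective) if and only if M is free as a Λ-module, so that for such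
S torsionless and reflexive finitely generated modules coincide. The published statement is the case
Λ = ℤ, resp. Λ = ℤ_ℓ for a prime ℓ, with S the minimal central order R_w of a finite set of Weil
q-numbers, resp. its ℓ-adic completion R_w ⊗ ℤ_ℓ, under the assumption that R_w is Gorenstein; the
argument given there uses only that S is finite free over Λ, reduced, and (for reflexivity)
Gorenstein of dimension one. -/
theorem result (Λ : Type u) [CommRing Λ] [IsDomain Λ] [IsPrincipalIdealRing Λ]
    (S : Type u) [CommRing S] [Algebra Λ S] [Module.Finite Λ S] [Module.Free Λ S] [IsReduced S]
    (M : Type u) [AddCommGroup M] [Module S M] [Module Λ M] [IsScalarTower Λ S M] [Module.Finite S M] :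
    (Function.Injective (Module.Dual.eval S M) ↔ Module.Free Λ M) ∧
      (LocCoh.IsGorensteinRing S → (Module.IsReflexive S M ↔ Module.Free Λ M)) := by
  classical
  haveI : IsNoetherianRing S := IsNoetherianRing.of_finite Λ S
  haveI : Module.Finite Λ M := Module.Finite.trans S M
  -- part 1
  have part1 : Function.Injective (Module.Dual.eval S M) ↔ Module.Free Λ M := by
    constructor
    · intro hinj
      obtain ⟨k, f, hf⟩ := Groth.Agent.Helper8.Refl.exists_injective_to_free S M hinj
      haveI : Module.IsTorsionFree Λ S := inferInstance
      haveI : Module.IsTorsionFree Λ (Fin k → S) := inferInstance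
      haveI : Module.IsTorsionFree Λ M :=
        Function.Injective.moduleIsTorsionFree f hf (fun r m => by
          rw [← algebraMap_smul S r m, map_smul, algebraMap_smul])
      exact (Module.free_iff_isTorsionFree).mpr inferInstance
    · intro hfree
      haveI : Module.IsTorsionFree Λ M := inferInstance
      let W : Submonoid S := Algebra.algebraMapSubmonoid S (nonZeroDivisors Λ)
      haveI : IsArtinianRing (Localization W) :=
        IsArtinianRing.of_finite (FractionRing Λ) (Localization W)
      haveI : IsSemisimpleRing (Localization W) :=
        IsArtinianRing.isSemisimpleRing_of_isReduced (Localization W)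
      haveI : Module.Projective (Localization W) (LocalizedModule W M) :=
        Module.projective_of_isSemisimpleRing _ _
      haveI : Module.Finite (Localization W) (LocalizedModule W M) :=
        Module.Finite.of_isLocalizedModule W (LocalizedModule.mkLinearMap W M)
      have hT : Function.Injective
          (Module.Dual.eval (Localization W) (LocalizedModule W M)) :=
        (Module.bijective_dual_eval (Localization W) (LocalizedModule W M)).1
      rw [injective_iff_map_eq_zero]
      intro x hx
      obtain ⟨⟨w, hw⟩, hs⟩ :=
        Groth.Agent.Helper8.Refl.exists_smul_eq_zero_of_eval_eq_zero hT x hx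
      obtain ⟨c, hc, rfl⟩ := hw
      have h1 : c • x = 0 := by
        rw [← algebraMap_smul S c x]
        exact hs
      rcases (Module.isTorsionFree_iff_smul_eq_zero.mp inferInstance) c x h1 with h | h
      · exact absurd h (nonZeroDivisors.ne_zero hc)
      · exact h
  refine ⟨part1, fun hG => ?_⟩
  have hdim : ringKrullDim S ≤ ((1 : ℕ) : WithBot ℕ∞) := by
    haveI : Algebra.IsIntegral Λ S := inferInstance
    refine (Groth.Agent.Helper8.Depth.ringKrullDim_le_of_isIntegral Λ S).trans ?_
    haveI : Ring.KrullDimLE 1 Λ := inferInstance
    exact Ring.krullDimLE_iff.mp inferInstance
  have h2 := Groth.Agent.Helper8.ExtLoc.hasInjectiveDimensionLT_of_isGorensteinRing S hG 1 hdim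
  constructor
  · intro hrefl
    exact part1.mp (Module.bijective_dual_eval S M).1
  · intro hfree
    exact Groth.Agent.Helper8.Refl.isReflexive_of_torsionless S h2 M (part1.mpr hfree)

end Groth.Agent.S17988
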