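import Groth.Statements.S18010
import Mathlib

set_option autoImplicit false
universe u
open ThetaS

namespace Groth.Agent.S18010

section
open CategoryTheory
universe v₆ u₆ v₅ u₅ v₄ u₄ v₃ u₃ v₂ u₂ v

variable {C : Type u} [Category.{v} C]
  {𝒜 : BasedCategory.{v₂, u₂} C} {ℬ : BasedCategory.{v₃, u₃} C}
  {𝒳 : BasedCategory.{v₄, u₄} C} {𝒴 : BasedCategory.{v₅, u₅} C} {𝒵 : BasedCategory.{v₆, u₆} C}

theorem hom_ext' {F G : 𝒳 ⥤ᵇ 𝒴} (α β : F ⟶ G)
    (h : ∀ x, α.toNatTrans.app x = β.toNatTrans.app x) : α = β := by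
  apply BasedNatTrans.homCategory.ext
  ext x
  exact h x

/-- right whiskering of an iso -/
def wrIso {F G : 𝒜 ⥤ᵇ ℬ} (e : F ≅ G) (H : ℬ ⥤ᵇ 𝒳) :
    BasedFunctor.comp F H ≅ BasedFunctor.comp G H where
  hom := BasedCategory.whiskerRight e.hom H
  inv := BasedCategory.whiskerRight e.inv H
  hom_inv_id := by
    rw [← LiftSq.whiskerRight_comp', e.hom_inv_id, LiftSq.whiskerRight_id']
  inv_hom_id := by
    rw [← LiftSq.whiskerRight_comp', e.inv_hom_id, LiftSq.whiskerRight_id']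

theorem comp_lifts (j : 𝒜 ⥤ᵇ ℬ) (f : 𝒳 ⥤ᵇ 𝒴) (g : 𝒴 ⥤ᵇ 𝒵)
    (hf : LiftSq.LiftsUniquely j f) (hg : LiftSq.LiftsUniquely j g) :
    LiftSq.LiftsUniquely j (BasedFunctor.comp f g) := by
  intro sq
  constructor
  · -- existence
    obtain ⟨d₁⟩ := (hg ⟨BasedFunctor.comp sq.top f, sq.bot, sq.iso⟩).1
    obtain ⟨d₂⟩ := (hf ⟨sq.top, d₁.fn, d₁.isoTop⟩).1
    refine ⟨⟨d₂.fn, d₂.isoTop, d₁.isoBot ≪≫ wrIso d₂.isoBot g, ?_⟩⟩
    apply hom_ext'
    intro x
    have h1x : d₁.isoBot.hom.toNatTrans.app (j.obj x) ≫ g.map (d₁.isoTop.hom.toNatTrans.app x) =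
        sq.iso.hom.toNatTrans.app x := congrArg (fun t => t.toNatTrans.app x) d₁.w
    have h2x : d₂.isoBot.hom.toNatTrans.app (j.obj x) ≫ f.map (d₂.isoTop.hom.toNatTrans.app x) =
        d₁.isoTop.hom.toNatTrans.app x := congrArg (fun t => t.toNatTrans.app x) d₂.w
    change (d₁.isoBot.hom.toNatTrans.app (j.obj x) ≫
        g.map (d₂.isoBot.hom.toNatTrans.app (j.obj x))) ≫
        g.map (f.map (d₂.isoTop.hom.toNatTrans.app x)) = sq.iso.hom.toNatTrans.app x
    rw [← h1x, ← h2x]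
    exact (Category.assoc _ _ _).trans (congrArg (_ ≫ ·) (g.toFunctor.map_comp _ _).symm)
  · -- uniqueness
    intro d d'
    -- lifts of the g-square
    have hDw : ∀ e : sq.Lift, BasedCategory.whiskerLeft j e.isoBot.hom ≫
        BasedCategory.whiskerRight (wrIso e.isoTop f).hom g =
        (⟨BasedFunctor.comp sq.top f, sq.bot, sq.iso⟩ : LiftSq.Sq j g).iso.hom := by
      intro e
      apply hom_ext'
      intro x
      exact congrArg (fun t => t.toNatTrans.app x) e.w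
    let D : sq.Lift → (⟨BasedFunctor.comp sq.top f, sq.bot, sq.iso⟩ : LiftSq.Sq j g).Lift :=
      fun e => ⟨BasedFunctor.comp e.fn f, wrIso e.isoTop f, e.isoBot, hDw e⟩
    obtain ⟨uDD'⟩ := (hg ⟨BasedFunctor.comp sq.top f, sq.bot, sq.iso⟩).2 (D d) (D d')
    obtain ⟨uD'D⟩ := (hg ⟨BasedFunctor.comp sq.top f, sq.bot, sq.iso⟩).2 (D d') (D d)
    obtain ⟨uDD⟩ := (hg ⟨BasedFunctor.comp sq.top f, sq.bot, sq.iso⟩).2 (D d) (D d)
    obtain ⟨uD'D'⟩ := (hg ⟨BasedFunctor.comp sq.top f, sq.bot, sq.iso⟩).2 (D d') (D d')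
    let Θ : D d ⟶ D d' := uDD'.default
    let Θ' : D d' ⟶ D d := uD'D.default
    have hΘ1 : Θ ≫ Θ' = 𝟙 (D d) := (uDD.uniq _).trans (uDD.uniq _).symm
    have hΘ2 : Θ' ≫ Θ = 𝟙 (D d') := (uD'D'.uniq _).trans (uD'D'.uniq _).symm
    let θiso : BasedFunctor.comp d.fn f ≅ BasedFunctor.comp d'.fn f :=
      ⟨Θ.hom, Θ'.hom, congrArg LiftSq.Sq.Lift.Hom.hom hΘ1, congrArg LiftSq.Sq.Lift.Hom.hom hΘ2⟩
    -- lifts of the f-square
    have hEw : BasedCategory.whiskerLeft j (Iso.refl (BasedFunctor.comp d.fn f)).hom ≫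
        BasedCategory.whiskerRight d.isoTop.hom f =
        (⟨sq.top, BasedFunctor.comp d.fn f, wrIso d.isoTop f⟩ : LiftSq.Sq j f).iso.hom := by
      rw [Iso.refl_hom, LiftSq.whiskerLeft_id']
      exact Category.id_comp _
    have hE'w : BasedCategory.whiskerLeft j θiso.hom ≫
        BasedCategory.whiskerRight d'.isoTop.hom f =
        (⟨sq.top, BasedFunctor.comp d.fn f, wrIso d.isoTop f⟩ : LiftSq.Sq j f).iso.hom :=
      Θ.w_top
    let E : (⟨sq.top, BasedFunctor.comp d.fn f, wrIso d.isoTop f⟩ : LiftSq.Sq j f).Lift :=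
      ⟨d.fn, d.isoTop, Iso.refl _, hEw⟩
    let E' : (⟨sq.top, BasedFunctor.comp d.fn f, wrIso d.isoTop f⟩ : LiftSq.Sq j f).Lift :=
      ⟨d'.fn, d'.isoTop, θiso, hE'w⟩
    obtain ⟨uEE'⟩ := (hf ⟨sq.top, BasedFunctor.comp d.fn f, wrIso d.isoTop f⟩).2 E E'
    let Φ : E ⟶ E' := uEE'.default
    have hΦbot : BasedCategory.whiskerRight Φ.hom f = Θ.hom := by
      have h := Φ.w_bot
      change 𝟙 _ ≫ BasedCategory.whiskerRight Φ.hom f = Θ.hom at h
      rwa [Category.id_comp] at h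
    have hφbot : d.isoBot.hom ≫ BasedCategory.whiskerRight Φ.hom (BasedFunctor.comp f g) =
        d'.isoBot.hom := by
      have h := Θ.w_bot
      change d.isoBot.hom ≫ BasedCategory.whiskerRight Θ.hom g = d'.isoBot.hom at h
      rw [← hΦbot] at h
      apply hom_ext'
      intro x
      exact congrArg (fun t => t.toNatTrans.app x) h
    refine ⟨⟨⟨⟨Φ.hom, Φ.w_top, hφbot⟩⟩, ?_⟩⟩
    intro ψ
    -- the induced morphism D d ⟶ D d'
    have hΨtop : BasedCategory.whiskerLeft j (BasedCategory.whiskerRight ψ.hom f) ≫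
        (D d').isoTop.hom = (D d).isoTop.hom := by
      have h := congrArg (fun t => BasedCategory.whiskerRight t f) ψ.w_top
      simp only [LiftSq.whiskerRight_comp'] at h
      apply hom_ext'
      intro x
      exact congrArg (fun t => t.toNatTrans.app x) h
    have hΨbot : (D d).isoBot.hom ≫
        BasedCategory.whiskerRight (BasedCategory.whiskerRight ψ.hom f) g = (D d').isoBot.hom := by
      apply hom_ext'
      intro x
      exact congrArg (fun t => t.toNatTrans.app x) ψ.w_bot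
    let Ψ : D d ⟶ D d' := ⟨BasedCategory.whiskerRight ψ.hom f, hΨtop, hΨbot⟩
    have hΨ : Ψ = Θ := uDD'.uniq Ψ
    have hΨ' : BasedCategory.whiskerRight ψ.hom f = Θ.hom := congrArg LiftSq.Sq.Lift.Hom.hom hΨ
    have hΨ₂bot : E.isoBot.hom ≫ BasedCategory.whiskerRight ψ.hom f = E'.isoBot.hom := by
      change 𝟙 _ ≫ BasedCategory.whiskerRight ψ.hom f = Θ.hom
      rw [Category.id_comp, hΨ']
    let Ψ₂ : E ⟶ E' := ⟨ψ.hom, ψ.w_top, hΨ₂bot⟩
    have hΨ₂ : Ψ₂ = Φ := uEE'.uniq Ψ₂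
    apply LiftSq.Sq.Lift.hom_ext
    have hfin : ψ.hom = Φ.hom := congrArg LiftSq.Sq.Lift.Hom.hom hΨ₂
    exact hfin

open AlgebraicGeometry in
theorem main {S : Scheme.{u}} {𝒳 𝒴 𝒵 : AlgSt.Cat S} (f : 𝒳 ⥤ᵇ 𝒴) (g : 𝒴 ⥤ᵇ 𝒵)
    (hf : ThetaS.IsThetaReductive Scheme.fppfPrecoverage f) (hg : ThetaS.IsThetaReductive Scheme.fppfPrecoverage g) :
    ThetaS.IsThetaReductive Scheme.fppfPrecoverage (BasedFunctor.comp f g) := by
  intro R _ _ _ ϖ hϖ h
  exact comp_lifts _ f g (hf R ϖ hϖ h) (hg R ϖ hϖ h)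


end


open CategoryTheory AlgebraicGeometry in
/-- Θ-reductive morphisms are stable under composition. Here this is stated for functors over (Sch/S)
between arbitrary categories over (Sch/S): if f : X → Y and g : Y → Z are Θ-reductive, i.e. every
2-commutative square against the open immersion of the punctured stack Θ_R minus its closed point
into Θ_R = [A¹_R/G_m] (for every discrete valuation ring R with a uniformizer and every Spec R → S)
has a dotted arrow unique up to a unique morphism of dotted arrows, then so is f ⋙ g. (The published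
statement is for morphisms of locally Noetherian algebraic stacks; here the categories over (Sch/S)
are arbitrary.) -/
theorem result {S : Scheme.{u}} {𝒳 𝒴 𝒵 : AlgSt.Cat S} (f : 𝒳 ⥤ᵇ 𝒴) (g : 𝒴 ⥤ᵇ 𝒵)
    (hf : ThetaS.IsThetaReductive Scheme.fppfPrecoverage f) (hg : ThetaS.IsThetaReductive Scheme.fppfPrecoverage g) :
    ThetaS.IsThetaReductive Scheme.fppfPrecoverage (BasedFunctor.comp f g) := by
  classical
  exact main f g hf hg

end Groth.Agent.S18010
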