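import Groth.Statements.S18011
import Mathlib
import Groth.Agent.S18010

set_option autoImplicit false
universe u
open ThetaS

namespace Groth.Agent.S18011

section
open CategoryTheory
universe v₆ u₆ v₅ u₅ v₄ u₄ v₃ u₃ v₂ u₂ v

variable {C : Type u} [Category.{v} C]
  {𝒜 : BasedCategory.{v₂, u₂} C} {ℬ : BasedCategory.{v₃, u₃} C}
  {𝒳 : BasedCategory.{v₄, u₄} C} {𝒴 : BasedCategory.{v₅, u₅} C} {𝒴' : BasedCategory.{v₆, u₆} C}
  (y : 𝒴' ⥤ᵇ 𝒴) (f : 𝒳 ⥤ᵇ 𝒴)

theorem fp_hom_ext {p q : (FibCat.fp y f).obj} (u v : p ⟶ q) (h1 : u.hom.fst = v.hom.fst)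
    (h2 : u.hom.snd = v.hom.snd) : u = v := by
  apply ObjectProperty.hom_ext
  exact Limits.CategoricalPullback.hom_ext h1 h2

theorem fp_nat_ext {F₁ F₂ : ℬ ⥤ᵇ FibCat.fp y f} (φ ψ : F₁ ⟶ F₂)
    (h1 : ∀ b, (φ.toNatTrans.app b).hom.fst = (ψ.toNatTrans.app b).hom.fst)
    (h2 : ∀ b, (φ.toNatTrans.app b).hom.snd = (ψ.toNatTrans.app b).hom.snd) : φ = ψ := by
  apply Groth.Agent.S18010.hom_ext'
  intro b
  exact fp_hom_ext y f _ _ (h1 b) (h2 b)

/-- natural transformation into the fibre product from components -/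
def fpNat {F₁ F₂ : ℬ ⥤ᵇ FibCat.fp y f}
    (α : BasedFunctor.comp F₁ (FibCat.fpFst y f) ⟶ BasedFunctor.comp F₂ (FibCat.fpFst y f))
    (β : BasedFunctor.comp F₁ (FibCat.fpSnd y f) ⟶ BasedFunctor.comp F₂ (FibCat.fpSnd y f))
    (h : ∀ b, y.map (α.toNatTrans.app b) ≫ (F₂.obj b).obj.iso.hom =
      (F₁.obj b).obj.iso.hom ≫ f.map (β.toNatTrans.app b)) : F₁ ⟶ F₂ where
  toNatTrans :=
    { app := fun b => ObjectProperty.homMk ⟨α.toNatTrans.app b, β.toNatTrans.app b, h b⟩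
      naturality := by
        intro b b' g
        apply fp_hom_ext
        · exact α.toNatTrans.naturality g
        · exact β.toNatTrans.naturality g }
  isHomLift' := fun b => by
    have hα : 𝒴'.p.IsHomLift (𝟙 (ℬ.p.obj b)) (α.toNatTrans.app b) := α.isHomLift' b
    have h1 := @IsHomLift.domain_eq _ _ _ _ 𝒴'.p _ _ _ _ (𝟙 (ℬ.p.obj b)) (α.toNatTrans.app b) hα
    have h2 := @IsHomLift.codomain_eq _ _ _ _ 𝒴'.p _ _ _ _ (𝟙 (ℬ.p.obj b)) (α.toNatTrans.app b) hα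
    have h3 := @IsHomLift.fac' _ _ _ _ 𝒴'.p _ _ _ _ (𝟙 (ℬ.p.obj b)) (α.toNatTrans.app b) hα
    exact IsHomLift.of_fac' (p := (FibCat.fp y f).p) _ _ h1 h2 h3

/-- left whiskering of an iso -/
def wlIso (F : 𝒜 ⥤ᵇ ℬ) {G H : ℬ ⥤ᵇ 𝒳} (e : G ≅ H) :
    BasedFunctor.comp F G ≅ BasedFunctor.comp F H where
  hom := BasedCategory.whiskerLeft F e.hom
  inv := BasedCategory.whiskerLeft F e.inv
  hom_inv_id := by
    rw [← LiftSq.whiskerLeft_comp', e.hom_inv_id, LiftSq.whiskerLeft_id']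
  inv_hom_id := by
    rw [← LiftSq.whiskerLeft_comp', e.inv_hom_id, LiftSq.whiskerLeft_id']

theorem iso_hom_inv_app {F G : ℬ ⥤ᵇ 𝒳} (e : F ≅ G) (b : ℬ.obj) :
    e.hom.toNatTrans.app b ≫ e.inv.toNatTrans.app b = 𝟙 _ :=
  congrArg (fun t => t.toNatTrans.app b) e.hom_inv_id

theorem iso_inv_hom_app {F G : ℬ ⥤ᵇ 𝒳} (e : F ≅ G) (b : ℬ.obj) :
    e.inv.toNatTrans.app b ≫ e.hom.toNatTrans.app b = 𝟙 _ :=
  congrArg (fun t => t.toNatTrans.app b) e.inv_hom_id

theorem inv_compat {D : Type*} [Category D] {A A' B B' : D} (ya : A ⟶ A') (ya' : A' ⟶ A)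
    (fb : B ⟶ B') (fb' : B' ⟶ B) (i₁ : A ⟶ B) (i₂ : A' ⟶ B') (h3 : ya' ≫ ya = 𝟙 _)
    (h4 : fb ≫ fb' = 𝟙 _) (h : ya ≫ i₂ = i₁ ≫ fb) : ya' ≫ i₁ = i₂ ≫ fb' := by
  calc ya' ≫ i₁ = ya' ≫ (i₁ ≫ fb) ≫ fb' := by rw [Category.assoc, h4, Category.comp_id]
    _ = ya' ≫ (ya ≫ i₂) ≫ fb' := by rw [h]
    _ = i₂ ≫ fb' := by rw [Category.assoc, ← Category.assoc, h3, Category.id_comp]

/-- iso into the fibre product from components -/
def fpNatIso {F₁ F₂ : ℬ ⥤ᵇ FibCat.fp y f}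
    (α : BasedFunctor.comp F₁ (FibCat.fpFst y f) ≅ BasedFunctor.comp F₂ (FibCat.fpFst y f))
    (β : BasedFunctor.comp F₁ (FibCat.fpSnd y f) ≅ BasedFunctor.comp F₂ (FibCat.fpSnd y f))
    (h : ∀ b, y.map (α.hom.toNatTrans.app b) ≫ (F₂.obj b).obj.iso.hom =
      (F₁.obj b).obj.iso.hom ≫ f.map (β.hom.toNatTrans.app b)) : F₁ ≅ F₂ where
  hom := fpNat y f α.hom β.hom h
  inv := fpNat y f α.inv β.inv (by
    intro b
    have h1 := iso_inv_hom_app α b
    have h2 := iso_hom_inv_app β b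
    have h3 : y.map (α.inv.toNatTrans.app b) ≫ y.map (α.hom.toNatTrans.app b) = 𝟙 _ := by
      rw [← y.toFunctor.map_comp]
      exact (congrArg y.map h1).trans (y.toFunctor.map_id _)
    have h4 : f.map (β.hom.toNatTrans.app b) ≫ f.map (β.inv.toNatTrans.app b) = 𝟙 _ := by
      rw [← f.toFunctor.map_comp]
      exact (congrArg f.map h2).trans (f.toFunctor.map_id _)
    exact inv_compat _ _ _ _ _ _ h3 h4 (h b))
  hom_inv_id := by
    apply fp_nat_ext
    · intro b; exact iso_hom_inv_app α b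
    · intro b; exact iso_hom_inv_app β b
  inv_hom_id := by
    apply fp_nat_ext
    · intro b; exact iso_inv_hom_app α b
    · intro b; exact iso_inv_hom_app β b

theorem G1 {D : Type*} [Category D] {A B B' C' E : D} (Y1 : A ⟶ B) (Ifn : B ⟶ C') (F2 : C' ⟶ E)
    (Yt : B ⟶ B') (Itop : B' ⟶ E) (Y12 : A ⟶ B') (h1 : Yt ≫ Itop = Ifn ≫ F2)
    (h2 : Y12 = Y1 ≫ Yt) : (Y1 ≫ Ifn) ≫ F2 = Y12 ≫ Itop := by
  rw [h2, Category.assoc, Category.assoc, h1]

theorem G2 {D : Type*} [Category D] {A B B' C' E : D} (Y1 : A ⟶ B) (Y1inv : B ⟶ A) (I1 : B ⟶ C')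
    (Fθ : C' ⟶ E) (Y2 : A ⟶ B') (I2 : B' ⟶ E) (Yα : B ⟶ B')
    (h1 : (Y1 ≫ I1) ≫ Fθ = Y2 ≫ I2) (h3 : Y1inv ≫ Y1 = 𝟙 _) (h4 : Yα = Y1inv ≫ Y2) :
    Yα ≫ I2 = I1 ≫ Fθ := by
  rw [h4, Category.assoc, ← h1, ← Category.assoc, ← Category.assoc, h3, Category.id_comp]

theorem G3 {D : Type*} [Category D] {A X1 X2 T : D} (B1 : A ⟶ X1) (B1inv : X1 ⟶ A) (B2 : A ⟶ X2)
    (fst₁ : X1 ⟶ T) (fst₂ : X2 ⟶ T) (S : A ⟶ T) (α : X1 ⟶ X2) (h1 : B1 ≫ fst₁ = S)
    (h2 : B2 ≫ fst₂ = S) (h3 : B1inv ≫ B1 = 𝟙 _) (h4 : α = B1inv ≫ B2) : α ≫ fst₂ = fst₁ := by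
  rw [h4, Category.assoc, h2, ← h1, ← Category.assoc, h3, Category.id_comp]

theorem G5 {D : Type*} [Category D] {A X1 X2 : D} (B1 : A ⟶ X1) (B1inv : X1 ⟶ A) (B2 : A ⟶ X2)
    (x α : X1 ⟶ X2) (h1 : B1 ≫ x = B2) (h3 : B1inv ≫ B1 = 𝟙 _) (h4 : α = B1inv ≫ B2) :
    x = α := by
  rw [h4, ← h1, ← Category.assoc, h3, Category.id_comp]

theorem bc_lifts (j : 𝒜 ⥤ᵇ ℬ) (hf : LiftSq.LiftsUniquely j f) :
    LiftSq.LiftsUniquely j (FibCat.fpFst y f) := by
  intro sq
  obtain ⟨iso', hiso'⟩ : ∃ t : BasedFunctor.comp j (BasedFunctor.comp sq.bot y) ≅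
      BasedFunctor.comp (BasedFunctor.comp sq.top (FibCat.fpSnd y f)) f,
      ∀ a, t.hom.toNatTrans.app a =
        y.map (sq.iso.hom.toNatTrans.app a) ≫ (sq.top.obj a).obj.iso.hom :=
    ⟨Groth.Agent.S18010.wrIso sq.iso y ≪≫ wlIso sq.top (FibCat.fpIso y f), fun a => rfl⟩
  constructor
  · -- existence
    obtain ⟨d'⟩ := (hf ⟨BasedFunctor.comp sq.top (FibCat.fpSnd y f),
      BasedFunctor.comp sq.bot y, iso'⟩).1
    have hd'w : ∀ a, d'.isoBot.hom.toNatTrans.app (j.obj a) ≫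
        f.map (d'.isoTop.hom.toNatTrans.app a) =
        y.map (sq.iso.hom.toNatTrans.app a) ≫ (sq.top.obj a).obj.iso.hom := by
      intro a
      rw [← hiso' a]
      exact congrArg (fun t => t.toNatTrans.app a) d'.w
    let fn : ℬ ⥤ᵇ FibCat.fp y f := FibCat.fpLift sq.bot d'.fn d'.isoBot
    let isoTop : BasedFunctor.comp j fn ≅ sq.top :=
      fpNatIso y f (F₁ := BasedFunctor.comp j fn) (F₂ := sq.top) sq.iso d'.isoTop
        (fun a => (hd'w a).symm)
    refine ⟨⟨fn, isoTop, Iso.refl _, ?_⟩⟩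
    apply Groth.Agent.S18010.hom_ext'
    intro a
    exact Category.id_comp _
  · -- uniqueness
    intro d₁ d₂
    have hw : ∀ (e : sq.Lift) (a), e.isoBot.hom.toNatTrans.app (j.obj a) ≫
        (e.isoTop.hom.toNatTrans.app a).hom.fst = sq.iso.hom.toNatTrans.app a := by
      intro e a
      exact congrArg (fun t => t.toNatTrans.app a) e.w
    have hDw : ∀ e : sq.Lift, BasedCategory.whiskerLeft j
        (Groth.Agent.S18010.wrIso e.isoBot y ≪≫ wlIso e.fn (FibCat.fpIso y f)).hom ≫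
        BasedCategory.whiskerRight
          (Groth.Agent.S18010.wrIso e.isoTop (FibCat.fpSnd y f)).hom f =
        (⟨BasedFunctor.comp sq.top (FibCat.fpSnd y f), BasedFunctor.comp sq.bot y, iso'⟩ :
          LiftSq.Sq j f).iso.hom := by
      intro e
      apply Groth.Agent.S18010.hom_ext'
      intro a
      rw [hiso' a, ← hw e a]
      have h1 := (e.isoTop.hom.toNatTrans.app a).hom.w
      change (y.map (e.isoBot.hom.toNatTrans.app (j.obj a)) ≫
        (e.fn.obj (j.obj a)).obj.iso.hom) ≫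
        f.map ((e.isoTop.hom.toNatTrans.app a).hom.snd) = _
      exact G1 _ _ _ _ _ _ h1 (y.toFunctor.map_comp _ _)
    let D : sq.Lift → (⟨BasedFunctor.comp sq.top (FibCat.fpSnd y f),
        BasedFunctor.comp sq.bot y, iso'⟩ : LiftSq.Sq j f).Lift :=
      fun e => ⟨BasedFunctor.comp e.fn (FibCat.fpSnd y f),
        Groth.Agent.S18010.wrIso e.isoTop (FibCat.fpSnd y f),
        Groth.Agent.S18010.wrIso e.isoBot y ≪≫ wlIso e.fn (FibCat.fpIso y f), hDw e⟩
    obtain ⟨uDD'⟩ := (hf ⟨BasedFunctor.comp sq.top (FibCat.fpSnd y f),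
      BasedFunctor.comp sq.bot y, iso'⟩).2 (D d₁) (D d₂)
    let Θ : D d₁ ⟶ D d₂ := uDD'.default
    have hΘbot : ∀ b, (y.map (d₁.isoBot.hom.toNatTrans.app b) ≫ (d₁.fn.obj b).obj.iso.hom) ≫
        f.map (Θ.hom.toNatTrans.app b) =
        y.map (d₂.isoBot.hom.toNatTrans.app b) ≫ (d₂.fn.obj b).obj.iso.hom := by
      intro b
      exact congrArg (fun t => t.toNatTrans.app b) Θ.w_bot
    have hΘtop : ∀ a, Θ.hom.toNatTrans.app (j.obj a) ≫ (d₂.isoTop.hom.toNatTrans.app a).hom.snd =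
        (d₁.isoTop.hom.toNatTrans.app a).hom.snd := by
      intro a
      exact congrArg (fun t => t.toNatTrans.app a) Θ.w_top
    obtain ⟨α, hα⟩ : ∃ α : BasedFunctor.comp d₁.fn (FibCat.fpFst y f) ⟶
        BasedFunctor.comp d₂.fn (FibCat.fpFst y f),
        α = d₁.isoBot.inv ≫ d₂.isoBot.hom := ⟨_, rfl⟩
    have hαb : ∀ b, α.toNatTrans.app b =
        d₁.isoBot.inv.toNatTrans.app b ≫ d₂.isoBot.hom.toNatTrans.app b := by
      intro b; rw [hα]; rfl
    have hαb' : ∀ b, d₁.isoBot.hom.toNatTrans.app b ≫ α.toNatTrans.app b =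
        d₂.isoBot.hom.toNatTrans.app b := by
      intro b
      rw [hαb b, ← Category.assoc, iso_hom_inv_app, Category.id_comp]
    have hcompat : ∀ b, y.map (α.toNatTrans.app b) ≫ (d₂.fn.obj b).obj.iso.hom =
        (d₁.fn.obj b).obj.iso.hom ≫ f.map (Θ.hom.toNatTrans.app b) := by
      intro b
      have h3 : y.map (d₁.isoBot.inv.toNatTrans.app b) ≫
          y.map (d₁.isoBot.hom.toNatTrans.app b) = 𝟙 _ := by
        rw [← y.toFunctor.map_comp]
        exact (congrArg y.map (iso_inv_hom_app d₁.isoBot b)).trans (y.toFunctor.map_id _)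
      exact G2 _ _ _ _ _ _ _ (hΘbot b) h3
        ((congrArg y.map (hαb b)).trans (y.toFunctor.map_comp _ _))
    let φ : d₁.fn ⟶ d₂.fn := fpNat y f α Θ.hom hcompat
    have hφtop : BasedCategory.whiskerLeft j φ ≫ d₂.isoTop.hom = d₁.isoTop.hom := by
      apply fp_nat_ext
      · intro a
        change α.toNatTrans.app (j.obj a) ≫ (d₂.isoTop.hom.toNatTrans.app a).hom.fst =
          (d₁.isoTop.hom.toNatTrans.app a).hom.fst
        exact G3 _ _ _ _ _ _ _ (hw d₁ a) (hw d₂ a) (iso_inv_hom_app d₁.isoBot (j.obj a)) (hαb (j.obj a))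
      · intro a
        exact hΘtop a
    have hφbot : d₁.isoBot.hom ≫ BasedCategory.whiskerRight φ (FibCat.fpFst y f) =
        d₂.isoBot.hom := by
      apply Groth.Agent.S18010.hom_ext'
      intro b
      exact hαb' b
    refine ⟨⟨⟨⟨φ, hφtop, hφbot⟩⟩, ?_⟩⟩
    intro ψ
    have hψbot : ∀ b, d₁.isoBot.hom.toNatTrans.app b ≫ (ψ.hom.toNatTrans.app b).hom.fst =
        d₂.isoBot.hom.toNatTrans.app b := by
      intro b
      exact congrArg (fun t => t.toNatTrans.app b) ψ.w_bot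
    have hψtop : ∀ a, (ψ.hom.toNatTrans.app (j.obj a)).hom.snd ≫
        (d₂.isoTop.hom.toNatTrans.app a).hom.snd = (d₁.isoTop.hom.toNatTrans.app a).hom.snd := by
      intro a
      have h := congrArg (fun t => (t.toNatTrans.app a).hom.snd) ψ.w_top
      exact h
    have hΨtop : BasedCategory.whiskerLeft j
        (BasedCategory.whiskerRight ψ.hom (FibCat.fpSnd y f)) ≫
        (D d₂).isoTop.hom = (D d₁).isoTop.hom := by
      apply Groth.Agent.S18010.hom_ext'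
      intro a
      exact hψtop a
    have hΨbot : (D d₁).isoBot.hom ≫ BasedCategory.whiskerRight
        (BasedCategory.whiskerRight ψ.hom (FibCat.fpSnd y f)) f = (D d₂).isoBot.hom := by
      apply Groth.Agent.S18010.hom_ext'
      intro b
      change (y.map (d₁.isoBot.hom.toNatTrans.app b) ≫ (d₁.fn.obj b).obj.iso.hom) ≫
        f.map ((ψ.hom.toNatTrans.app b).hom.snd) =
        y.map (d₂.isoBot.hom.toNatTrans.app b) ≫ (d₂.fn.obj b).obj.iso.hom
      have h1 := (ψ.hom.toNatTrans.app b).hom.w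
      exact G1 _ _ _ _ _ _ h1 ((congrArg y.map (hψbot b).symm).trans (y.toFunctor.map_comp _ _))
    let Ψ : D d₁ ⟶ D d₂ := ⟨BasedCategory.whiskerRight ψ.hom (FibCat.fpSnd y f), hΨtop, hΨbot⟩
    have hΨ : Ψ = Θ := uDD'.uniq Ψ
    have hΨ' : BasedCategory.whiskerRight ψ.hom (FibCat.fpSnd y f) = Θ.hom :=
      congrArg LiftSq.Sq.Lift.Hom.hom hΨ
    apply LiftSq.Sq.Lift.hom_ext
    change ψ.hom = φ
    apply fp_nat_ext
    · intro b
      change (ψ.hom.toNatTrans.app b).hom.fst = α.toNatTrans.app b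
      exact G5 _ _ _ _ _ (hψbot b) (iso_inv_hom_app d₁.isoBot b) (hαb b)
    · intro b
      exact congrArg (fun t => t.toNatTrans.app b) hΨ'

open AlgebraicGeometry in
theorem main {S : Scheme.{u}} {𝒳 𝒴 𝒴' : AlgSt.Cat S} (f : 𝒳 ⥤ᵇ 𝒴) (y : 𝒴' ⥤ᵇ 𝒴)
    (hf : ThetaS.IsThetaReductive Scheme.fppfPrecoverage f) :
    ThetaS.IsThetaReductive Scheme.fppfPrecoverage (FibCat.fpFst y f) := by
  intro R _ _ _ ϖ hϖ h
  exact bc_lifts y f _ (hf R ϖ hϖ h)


end


open CategoryTheory AlgebraicGeometry in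
/-- Θ-reductive morphisms are stable under base change. Here this is stated for functors over (Sch/S)
between arbitrary categories over (Sch/S), with the base change of f : X → Y along y : Y' → Y taken
to be the first projection of the 2-fibre product Y' ×_Y X (objects: an object of Y', an object of X
and an isomorphism of their images in Y over an identity). Θ-reductive means: every 2-commutative
square against the open immersion of the punctured stack Θ_R minus its closed point into Θ_R =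
[A¹_R/G_m] (for every discrete valuation ring R with a uniformizer and every Spec R → S) has a
dotted arrow unique up to a unique morphism of dotted arrows. (The published statement is for
morphisms of locally Noetherian algebraic stacks; here the categories over (Sch/S) are arbitrary.) -/
theorem result {S : Scheme.{u}} {𝒳 𝒴 𝒴' : AlgSt.Cat S} (f : 𝒳 ⥤ᵇ 𝒴) (y : 𝒴' ⥤ᵇ 𝒴)
    (hf : ThetaS.IsThetaReductive Scheme.fppfPrecoverage f) :
    ThetaS.IsThetaReductive Scheme.fppfPrecoverage (FibCat.fpFst y f) := by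
  classical
  exact main f y hf

end Groth.Agent.S18011
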