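import Groth.Statements.S18017
import Mathlib
import Groth.Agent.Lib.Helper9.ArtSubSch
-- import your own Groth.Agent.* helpers here

set_option autoImplicit false
universe u
open CategoryTheory AlgebraicGeometry
open Unram

namespace Groth.Agent.S18017

open CategoryTheory AlgebraicGeometry IsLocalRing
namespace Aux

theorem finite_residueFieldMap {U T : Scheme.{u}} (e : U ⟶ T) [FormallyUnramified e]
    [LocallyOfFiniteType e] (x : U) : (e.residueFieldMap x).hom.Finite := by
  algebraize [(e.stalkMap x).hom]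
  have : IsLocalHom (algebraMap (T.presheaf.stalk (e x)) (U.presheaf.stalk x)) :=
    inferInstanceAs <| IsLocalHom (e.stalkMap x).hom
  have : Algebra.EssFiniteType (T.presheaf.stalk (e x)) (U.presheaf.stalk x) := by
    rw [← RingHom.essFiniteType_algebraMap, RingHom.algebraMap_toAlgebra]
    exact LocallyOfFiniteType.stalkMap e x
  have : Algebra.FormallyUnramified (T.presheaf.stalk (e x)) (U.presheaf.stalk x) := by
    rw [← RingHom.formallyUnramified_algebraMap, RingHom.algebraMap_toAlgebra]
    exact FormallyUnramified.stalkMap e x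
  have h : Module.Finite (IsLocalRing.ResidueField <| T.presheaf.stalk (e x))
      (IsLocalRing.ResidueField <| U.presheaf.stalk x) := inferInstance
  unfold RingHom.Finite
  convert! h
  refine Module.ext' _ _ fun r m => ?_
  obtain ⟨r, rfl⟩ := IsLocalRing.residue_surjective r
  obtain ⟨m, rfl⟩ := IsLocalRing.residue_surjective m
  rfl

theorem ring_lift {A₀ B₀ C C' : Type u} [CommRing A₀] [CommRing B₀] [CommRing C] [CommRing C']
    (φ : A₀ →+* B₀) (hφ : φ.Etale) (π : C' →+* C) (hπ : Function.Surjective π)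
    (hnil : IsNilpotent (RingHom.ker π)) (α : A₀ →+* C') (β : B₀ →+* C)
    (h : π.comp α = β.comp φ) :
    ∃ β' : B₀ →+* C', π.comp β' = β ∧ β'.comp φ = α := by
  letI := φ.toAlgebra
  letI := α.toAlgebra
  letI : Algebra A₀ C := (π.comp α).toAlgebra
  haveI : Algebra.Etale A₀ B₀ := hφ
  let f : B₀ →ₐ[A₀] C := ⟨β, fun r => (congrArg (fun ψ => ψ r) h).symm⟩
  let g : C' →ₐ[A₀] C := ⟨π, fun r => rfl⟩
  let β' : B₀ →ₐ[A₀] C' := Algebra.FormallySmooth.liftOfSurjective f g hπ hnil
  refine ⟨β'.toRingHom, ?_, ?_⟩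
  · ext x
    exact Algebra.FormallySmooth.liftOfSurjective_apply f g hπ hnil x
  · ext r
    exact β'.commutes r

open Groth.Agent.Lib.Helper9.ArtSubSch in
theorem spec_eq_affine {X : Scheme.{u}} (R : Type u) [CommRing R] [IsLocalRing R]
    (β : Spec (CommRingCat.of R) ⟶ X) {W : X.Opens} (hW : IsAffineOpen W)
    (hx : β (cpt R) ∈ W) :
    Spec.map (X.presheaf.germ W (β (cpt R)) hx ≫ Scheme.stalkClosedPointTo β) ≫ hW.fromSpec =
      β := by
  rw [Spec.map_comp, Category.assoc]
  have : Spec.map (X.presheaf.germ W (β (cpt R)) hx) ≫ hW.fromSpec =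
      X.fromSpecStalk (β (cpt R)) := hW.fromSpecStalk_eq_fromSpecStalk hx
  rw [this]
  exact spec_eq R β

open Groth.Agent.Lib.Helper9.ArtSubSch in
theorem etale_lift {U T : Scheme.{u}} (e : U ⟶ T) [Etale e]
    (C C' : Type u) [CommRing C] [CommRing C'] [IsLocalRing C] [IsLocalRing C']
    (π : C' →+* C) (hπ : Function.Surjective π) (hnil : IsNilpotent (RingHom.ker π))
    (a : Spec (CommRingCat.of C) ⟶ U) (cT : Spec (CommRingCat.of C') ⟶ T)
    (h : Spec.map (CommRingCat.ofHom π) ≫ cT = a ≫ e) :
    ∃ c : Spec (CommRingCat.of C') ⟶ U,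
      Spec.map (CommRingCat.ofHom π) ≫ c = a ∧ c ≫ e = cT := by
  haveI : IsLocalHom π := IsLocalHom.of_surjective π hπ
  haveI : IsLocalHom (CommRingCat.ofHom π).hom := ‹IsLocalHom π›
  have hut : e (a (cpt C)) = cT (cpt C') := by
    have h1 : (Spec.map (CommRingCat.ofHom π) ≫ cT) (cpt C) = (a ≫ e) (cpt C) := by rw [h]
    have h2 : (Spec.map (CommRingCat.ofHom π) ≫ cT) (cpt C) = cT (cpt C') := by
      show cT (Spec.map (CommRingCat.ofHom π) (closedPoint C)) = _
      rw [Spec_closedPoint]
    rw [← h2, h1]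
    rfl
  obtain ⟨_, ⟨V, hV, rfl⟩, htV, -⟩ :=
    T.isBasis_affineOpens.exists_subset_of_mem_open (Set.mem_univ (cT (cpt C'))) isOpen_univ
  have huV : a (cpt C) ∈ e ⁻¹ᵁ V := by
    show e (a (cpt C)) ∈ V
    rw [hut]; exact htV
  obtain ⟨_, ⟨W, hW, rfl⟩, huW, hWV : W ≤ e ⁻¹ᵁ V⟩ :=
    U.isBasis_affineOpens.exists_subset_of_mem_open huV (e ⁻¹ᵁ V).isOpen
  let α : Γ(T, V) ⟶ CommRingCat.of C' :=
    T.presheaf.germ V (cT (cpt C')) htV ≫ Scheme.stalkClosedPointTo cT
  let β : Γ(U, W) ⟶ CommRingCat.of C :=
    U.presheaf.germ W (a (cpt C)) huW ≫ Scheme.stalkClosedPointTo a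
  have hα : Spec.map α ≫ hV.fromSpec = cT := spec_eq_affine C' cT hV htV
  have hβ : Spec.map β ≫ hW.fromSpec = a := spec_eq_affine C a hW huW
  have hcomp : α ≫ CommRingCat.ofHom π = e.appLE V W hWV ≫ β := by
    apply Spec.map_injective
    haveI : IsOpenImmersion hV.fromSpec := hV.isOpenImmersion_fromSpec
    rw [← cancel_mono hV.fromSpec, Spec.map_comp, Category.assoc, hα, h, Spec.map_comp,
      Category.assoc, hV.SpecMap_appLE_fromSpec e hW hWV, ← Category.assoc, hβ]
  obtain ⟨β', hβ'1, hβ'2⟩ := ring_lift (e.appLE V W hWV).hom (e.etale_appLE hV hW hWV) π hπ hnil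
    α.hom β.hom (congrArg CommRingCat.Hom.hom hcomp)
  refine ⟨Spec.map (CommRingCat.ofHom β') ≫ hW.fromSpec, ?_, ?_⟩
  · rw [← Category.assoc, ← Spec.map_comp]
    have : CommRingCat.ofHom β' ≫ CommRingCat.ofHom π = β := by
      ext x
      exact congrArg (fun ψ => ψ x) hβ'1
    rw [this, hβ]
  · rw [Category.assoc, ← hV.SpecMap_appLE_fromSpec e hW hWV, ← Category.assoc, ← Spec.map_comp]
    have : e.appLE V W hWV ≫ CommRingCat.ofHom β' = α := by
      ext x
      exact congrArg (fun ψ => ψ x) hβ'2
    rw [this, hα]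

open Groth.Agent.Lib.Helper9.ArtSubSch in
theorem main {S T U : Scheme.{u}} (g : T ⟶ S) (e : U ⟶ T) [Etale e] (u : U)
    (hT : ∀ (C C' : Type u) [CommRing C] [CommRing C'] [IsLocalRing C] [IsLocalRing C'] [IsArtinianRing C]
        [IsArtinianRing C'] (π : C' →+* C), Function.Surjective π →
        ∀ (a : Spec (CommRingCat.of C) ⟶ T) (b : Spec (CommRingCat.of C') ⟶ S),
          a (IsLocalRing.closedPoint C) = e u →
          Function.Surjective (a.residueFieldMap (IsLocalRing.closedPoint C)).hom →
          Spec.map (CommRingCat.ofHom π) ≫ b = a ≫ g →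
          ∃ c : Spec (CommRingCat.of C') ⟶ T, Spec.map (CommRingCat.ofHom π) ≫ c = a ∧ c ≫ g = b)
    (C C' : Type u) [CommRing C] [CommRing C'] [IsLocalRing C] [IsLocalRing C'] [IsArtinianRing C]
    [IsArtinianRing C'] (π : C' →+* C) (hπ : Function.Surjective π)
    (a : Spec (CommRingCat.of C) ⟶ U) (b : Spec (CommRingCat.of C') ⟶ S)
    (hau : a (IsLocalRing.closedPoint C) = u)
    (hsurj : Function.Surjective (a.residueFieldMap (IsLocalRing.closedPoint C)).hom)
    (hcomm : Spec.map (CommRingCat.ofHom π) ≫ b = a ≫ (e ≫ g)) :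
    ∃ c : Spec (CommRingCat.of C') ⟶ U,
      Spec.map (CommRingCat.ofHom π) ≫ c = a ∧ c ≫ (e ≫ g) = b := by
  haveI : IsLocalHom π := IsLocalHom.of_surjective π hπ
  have hfin : ((a ≫ e).residueFieldMap (cpt C)).hom.Finite := by
    rw [Scheme.residueFieldMap_comp]
    exact RingHom.Finite.comp (RingHom.Finite.of_surjective _ hsurj)
      (finite_residueFieldMap e (a (cpt C)))
  have hate : (a ≫ e) (IsLocalRing.closedPoint C) = e u := by
    show e (a (cpt C)) = e u
    exact congrArg e hau
  obtain ⟨cT, hcT1, hcT2⟩ := core g (e u) hT C C' π hπ (a ≫ e) b hate hfin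
    (by rw [hcomm, Category.assoc])
  have hnil : IsNilpotent (RingHom.ker π) := by
    obtain ⟨k, hk⟩ : ∃ k : ℕ, maximalIdeal C' ^ k = 0 :=
      (isArtinianRing_iff_isNilpotent_maximalIdeal C').mp inferInstance
    refine ⟨k, ?_⟩
    have hle : RingHom.ker π ≤ maximalIdeal C' := by
      intro x hx
      rw [mem_maximalIdeal, mem_nonunits_iff]
      intro hu
      have := hu.map π
      rw [RingHom.mem_ker.mp hx] at this
      exact not_isUnit_zero this
    have := Ideal.pow_right_mono hle k
    rw [hk] at this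
    exact le_bot_iff.mp this
  obtain ⟨c, hc1, hc2⟩ := etale_lift e C C' π hπ hnil a cT hcT1
  exact ⟨c, hc1, by rw [← Category.assoc, hc2, hcT2]⟩

end Aux

/-- In the case where the S-groupoid is the base scheme S itself, let g : T → S be a morphism of
schemes, e : U → T an étale morphism and u a point of U with t = e(u). Say that T is formally versal
over S at t when, for every surjection π : C' → C of local Artinian rings, every morphism a : Spec C
→ T sending the closed point to t and inducing a surjection (hence an isomorphism) of residue fields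
κ(t) → κ, and every b : Spec C' → S compatible with a over S, there is c : Spec C' → T restricting
to a and lying over b. If T is formally versal over S at t, then U (over S via e) is formally versal
over S at u. (No Noetherian or finiteness hypotheses; a scheme has all the pushouts of local
Artinian schemes that the general statement asks of the target.) -/
theorem result {S T U : Scheme.{u}} (g : T ⟶ S) (e : U ⟶ T) [Etale e] (u : U)
    (hT : ∀ (C C' : Type u) [CommRing C] [CommRing C'] [IsLocalRing C] [IsLocalRing C'] [IsArtinianRing C]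
        [IsArtinianRing C'] (π : C' →+* C), Function.Surjective π →
        ∀ (a : Spec (CommRingCat.of C) ⟶ T) (b : Spec (CommRingCat.of C') ⟶ S),
          a (IsLocalRing.closedPoint C) = e u →
          Function.Surjective (a.residueFieldMap (IsLocalRing.closedPoint C)).hom →
          Spec.map (CommRingCat.ofHom π) ≫ b = a ≫ g →
          ∃ c : Spec (CommRingCat.of C') ⟶ T, Spec.map (CommRingCat.ofHom π) ≫ c = a ∧ c ≫ g = b) :
    ∀ (C C' : Type u) [CommRing C] [CommRing C'] [IsLocalRing C] [IsLocalRing C'] [IsArtinianRing C]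
        [IsArtinianRing C'] (π : C' →+* C), Function.Surjective π →
        ∀ (a : Spec (CommRingCat.of C) ⟶ U) (b : Spec (CommRingCat.of C') ⟶ S),
          a (IsLocalRing.closedPoint C) = u →
          Function.Surjective (a.residueFieldMap (IsLocalRing.closedPoint C)).hom →
          Spec.map (CommRingCat.ofHom π) ≫ b = a ≫ (e ≫ g) →
          ∃ c : Spec (CommRingCat.of C') ⟶ U, Spec.map (CommRingCat.ofHom π) ≫ c = a ∧ c ≫ (e ≫ g) = b := by
  exact Aux.main g e u hT

end Groth.Agent.S18017
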