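import Groth.Statements.S18019
import Mathlib

set_option autoImplicit false
universe u
open ClassStk

namespace Groth.Agent.S18019

open Polynomial

theorem u_comp {R : Type*} [CommRing R] [CharP R 2] (a : R) :
    (X * (X + C a) : R[X]).comp (X + C a) = X * (X + C a) := by
  have h2 : (C a + C a : R[X]) = 0 := by rw [← C_add, CharTwo.add_self_eq_zero, C_0]
  simp only [mul_comp, add_comp, X_comp, C_comp]
  rw [add_assoc, h2, add_zero, mul_comm]

theorem inv_mem {R : Type*} [CommRing R] [IsDomain R] [CharP R 2] (a : R) (ha : a ≠ 0) :
    ∀ (n : ℕ) (f : R[X]), f.natDegree ≤ n → f.comp (X + C a) = f →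
      f ∈ Algebra.adjoin R ({X * (X + C a)} : Set R[X]) := by
  intro n
  induction n with
  | zero =>
    intro f hf _
    rw [eq_C_of_natDegree_le_zero hf]
    exact Subalgebra.algebraMap_mem _ _
  | succ n ih =>
    intro f hfn hf
    set u : R[X] := X * (X + C a) with hu_def
    have hu : u.Monic := monic_X.mul (monic_X_add_C a)
    have hund : u.natDegree = 2 := by
      rw [hu_def, natDegree_mul X_ne_zero (X_add_C_ne_zero a), natDegree_X, natDegree_X_add_C]
    have hu1 : u ≠ 1 := by
      intro h
      rw [h, natDegree_one] at hund
      omega
    have hdecomp := modByMonic_add_div f u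
    set q := f /ₘ u with hq
    set r := f %ₘ u with hr
    have hrdeg : r.natDegree < 2 := by
      rw [← hund]; exact natDegree_modByMonic_lt f hu hu1
    have hrdeg' : r.degree ≤ 1 := by
      have : r.natDegree ≤ 1 := by omega
      exact_mod_cast degree_le_of_natDegree_le this
    have hreq := eq_X_add_C_of_degree_le_one hrdeg'
    set d := r.coeff 1
    set c := r.coeff 0
    have hσu : u.comp (X + C a) = u := u_comp a
    have hkey : u * (q.comp (X + C a) - q) = C (-(d * a)) := by
      have h1 : (r + u * q).comp (X + C a) = r + u * q := by rw [hdecomp]; exact hf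
      rw [add_comp, mul_comp, hσu] at h1
      have h2 : r.comp (X + C a) = r + C (d * a) := by
        rw [hreq]
        simp only [add_comp, mul_comp, C_comp, X_comp, C_mul]
        ring
      rw [h2] at h1
      have : u * (q.comp (X + C a) - q) = -C (d * a) := by linear_combination h1
      rw [this, C_neg]
    have hw : q.comp (X + C a) - q = 0 := by
      by_contra hne
      have h1 : (u * (q.comp (X + C a) - q)).natDegree = 2 + (q.comp (X + C a) - q).natDegree := by
        rw [natDegree_mul hu.ne_zero hne, hund]
      rw [hkey, natDegree_C] at h1
      omega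
    rw [hw, mul_zero] at hkey
    have hda : d * a = 0 := by
      have := C_eq_zero.1 hkey.symm
      simpa using this
    have hd : d = 0 := (mul_eq_zero.1 hda).resolve_right ha
    have hqinv : q.comp (X + C a) = q := sub_eq_zero.1 hw
    have hqdeg : q.natDegree ≤ n := by
      rw [hq, natDegree_divByMonic f hu, hund]
      omega
    have hqmem := ih q hqdeg hqinv
    rw [← hdecomp, hreq, hd, C_0, zero_mul, zero_add]
    apply Subalgebra.add_mem
    · exact Subalgebra.algebraMap_mem _ _
    · exact Subalgebra.mul_mem _ (Algebra.subset_adjoin (Set.mem_singleton _)) hqmem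

open Polynomial in
/-- Let R be an integral domain of characteristic 2 and let a be a nonzero element of R, so that x ↦ x +
a defines an R-algebra involution of the polynomial ring R[x] (an action of the group of order two).
A polynomial f is invariant, f(x + a) = f(x), if and only if f belongs to the R-subalgebra generated
by u = x (x + a); in other words the ring of invariants is the polynomial ring R[u]. -/
theorem result (R : Type u) [CommRing R] [IsDomain R]
    [CharP R 2] (a : R) (ha : a ≠ 0) (f : Polynomial R) :
    f.comp (X + C a) = f ↔ f ∈ Algebra.adjoin R ({X * (X + C a)} : Set (Polynomial R)) := by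
  classical
  constructor
  · intro hf
    exact inv_mem a ha f.natDegree f le_rfl hf
  · intro hf
    have hle : Algebra.adjoin R ({X * (X + C a)} : Set (Polynomial R)) ≤
        AlgHom.equalizer (Polynomial.aeval (X + C a) : Polynomial R →ₐ[R] Polynomial R) (AlgHom.id R _) := by
      apply Algebra.adjoin_le
      intro x hx
      rw [Set.mem_singleton_iff] at hx
      subst hx
      show Polynomial.aeval (X + C a) (X * (X + C a)) = AlgHom.id R _ (X * (X + C a))
      rw [← Polynomial.comp_eq_aeval]
      exact u_comp a
    have := hle hf
    have h2 : Polynomial.aeval (X + C a) f = AlgHom.id R _ f := this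
    rw [← Polynomial.comp_eq_aeval] at h2
    exact h2

end Groth.Agent.S18019
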