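import Groth.Statements.S18021
import Groth.Agent.Lib.Lead.Inertia10

set_option autoImplicit false
open W4c5stacksedinertia

namespace Groth.Agent.S18021

open W4c5stacksedinertia in
/-- In the rational vector space K with basis the isomorphism classes of finite groups (the class of a
group standing for its classifying groupoid), the inertia operator is diagonalizable with spectrum
the positive integers: the eigenspaces attached to natural numbers span everything, and a rational
number is an eigenvalue if and only if it is a positive integer. -/
theorem result :
    (⨆ n : ℕ, Module.End.eigenspace inertia (n : ℚ)) = ⊤ ∧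
    ∀ μ : ℚ, Module.End.HasEigenvalue inertia μ ↔ ∃ n : ℕ, 0 < n ∧ μ = (n : ℚ) := by
  classical
refine ⟨Groth.Agent.Lead.Inertia.iSup_eigenspace_eq_top, fun μ => ⟨?_, ?_⟩⟩
· exact Groth.Agent.Lead.Inertia.eigenvalue_pos_nat μ
· rintro ⟨n, hn, rfl⟩
  exact Groth.Agent.Lead.Inertia.hasEigenvalue_of_pos n hn

end Groth.Agent.S18021
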