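import Groth.Statements.S18040
import Mathlib
-- import your own Groth.Agent.* helpers here

set_option autoImplicit false
universe u
open AdjLin

namespace Groth.Agent.S18040

namespace Aux

open MvPolynomial

variable {k : Type u} [Field k]

instance homFin (d : ℕ) : Module.Finite k (homogeneousSubmodule (Fin 4) k d) :=
  Module.Finite.iff_fg.mpr (homogeneousSubmodule_fg (σ := Fin 4) (R := k) d)

/-- Generic linear algebra: a finite-dim subspace W of functions on a fintype; there is a subset T
with W → k^T injective, `finrank W ≤ |T|`, and for every z ∈ T an element of W vanishing on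
`T \ {z}` and nonzero at `z`. -/
theorem exists_minimal_subset {ι : Type*} [Fintype ι] [DecidableEq ι] (W : Submodule k (ι → k)) :
    ∃ T : Finset ι, Module.finrank k W ≤ T.card ∧
      ∀ z ∈ T, ∃ w ∈ W, (∀ z' ∈ T, z' ≠ z → w z' = 0) ∧ w z ≠ 0 := by
  classical
  let S : Set (Finset ι) := {T | ∀ w ∈ W, (∀ z ∈ T, w z = 0) → w = 0}
  have hne : S.Nonempty := ⟨Finset.univ, fun w _ hw => funext fun z => hw z (Finset.mem_univ z)⟩
  obtain ⟨T, hT, hmin⟩ := WellFounded.has_min (wellFounded_lt (α := Finset ι)) S hne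
  refine ⟨T, ?_, ?_⟩
  · -- injective map W → (T → k)
    let f : W →ₗ[k] (T → k) :=
      (LinearMap.funLeft k k (Subtype.val : T → ι)) ∘ₗ W.subtype
    have hf : Function.Injective f := by
      rw [← LinearMap.ker_eq_bot, LinearMap.ker_eq_bot']
      intro w hw
      apply Subtype.ext
      apply hT w.1 w.2
      intro z hz
      have := congrFun hw ⟨z, hz⟩
      simpa [f, LinearMap.funLeft_apply] using this
    have := LinearMap.finrank_le_finrank_of_injective hf
    simpa using this
  · intro z hz
    have hnot : T.erase z ∉ S := fun h => hmin _ h (Finset.erase_ssubset hz)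
    simp only [S, Set.mem_ofPred_eq, not_forall] at hnot
    obtain ⟨w, hwW, hw0, hwne⟩ := hnot
    refine ⟨w, hwW, fun z' hz' hne => hw0 z' (Finset.mem_erase.mpr ⟨hne, hz'⟩), ?_⟩
    intro hwz
    apply hwne
    apply hT w hwW
    intro z' hz'
    by_cases h : z' = z
    · rw [h]; exact hwz
    · exact hw0 z' (Finset.mem_erase.mpr ⟨h, hz'⟩)

theorem main (k : Type u) [Field k]
    (Z : Finset (Projectivization k (Fin 4 → k))) (n : ℕ)
    (hCB : (∀ z ∈ Z, ∀ p : MvPolynomial (Fin 4) k, p.IsHomogeneous n →
      (∀ z' ∈ Z, z' ≠ z → MvPolynomial.eval z'.rep p = 0) → MvPolynomial.eval z.rep p = 0))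
    (m : ℕ) (hm : m ≤ n) :
    (∃ s : MvPolynomial (Fin 4) k, s.IsHomogeneous (n - m) ∧ s ≠ 0 ∧ ∀ z ∈ Z, MvPolynomial.eval z.rep s = 0) ∨
      Module.finrank k (LinearMap.range
          ((LinearMap.pi fun z : ↥Z => (MvPolynomial.aeval (R := k) z.1.rep).toLinearMap) ∘ₗ
            (MvPolynomial.homogeneousSubmodule (Fin 4) k m).subtype)) +
        Module.finrank k ↥(MvPolynomial.homogeneousSubmodule (Fin 4) k (n - m)) ≤ Z.card := by
  classical
  by_contra hcon
  rw [not_or] at hcon
  obtain ⟨hno, hlt⟩ := hcon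
  rw [not_le] at hlt
  set W := LinearMap.range
          ((LinearMap.pi fun z : ↥Z => (MvPolynomial.aeval (R := k) z.1.rep).toLinearMap) ∘ₗ
            (MvPolynomial.homogeneousSubmodule (Fin 4) k m).subtype) with hW
  obtain ⟨T, hTcard, hT⟩ := exists_minimal_subset W
  -- the restriction map S_{n-m} → k^{Z \ T}
  let g : homogeneousSubmodule (Fin 4) k (n - m) →ₗ[k] ((Tᶜ : Finset ↥Z) → k) :=
    (LinearMap.pi fun z : (Tᶜ : Finset ↥Z) => (MvPolynomial.aeval (R := k) z.1.1.rep).toLinearMap) ∘ₗ
      (MvPolynomial.homogeneousSubmodule (Fin 4) k (n - m)).subtype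
  have hcardZ : Fintype.card ↥Z = Z.card := Fintype.card_coe Z
  have hTc : (Tᶜ : Finset ↥Z).card = Z.card - T.card := by
    rw [Finset.card_compl, hcardZ]
  have hTle : T.card ≤ Z.card := by
    rw [← hcardZ]; exact Finset.card_le_univ T
  have hg : Module.finrank k ((Tᶜ : Finset ↥Z) → k) <
      Module.finrank k (homogeneousSubmodule (Fin 4) k (n - m)) := by
    rw [Module.finrank_fintype_fun_eq_card, Fintype.card_coe, hTc]
    omega
  have hker := LinearMap.ker_ne_bot_of_finrank_lt (f := g) hg
  obtain ⟨s, hs, hs0⟩ := Submodule.exists_mem_ne_zero_of_ne_bot hker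
  have hsT : ∀ z : ↥Z, z ∉ T → MvPolynomial.eval z.1.rep s.1 = 0 := by
    intro z hz
    have := congrFun (LinearMap.mem_ker.mp hs) ⟨z, Finset.mem_compl.mpr hz⟩
    simpa [g, MvPolynomial.aeval_eq_eval] using this
  have hs_hom : s.1.IsHomogeneous (n - m) := (mem_homogeneousSubmodule _ _).mp s.2
  have hs_ne : s.1 ≠ 0 := fun h => hs0 (Subtype.ext h)
  -- some z with s(z) ≠ 0
  have hex : ∃ z ∈ Z, MvPolynomial.eval z.rep s.1 ≠ 0 := by
    by_contra hall
    push Not at hall
    exact hno ⟨s.1, hs_hom, hs_ne, hall⟩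
  obtain ⟨z, hzZ, hsz⟩ := hex
  have hzT : (⟨z, hzZ⟩ : ↥Z) ∈ T := by
    by_contra h
    exact hsz (hsT ⟨z, hzZ⟩ h)
  obtain ⟨w, hwW, hw0, hwz⟩ := hT _ hzT
  obtain ⟨p, hp⟩ := hwW
  have hp_hom : p.1.IsHomogeneous m := (mem_homogeneousSubmodule _ _).mp p.2
  have hpw : ∀ z' : ↥Z, MvPolynomial.eval z'.1.rep p.1 = w z' := by
    intro z'
    have := congrFun hp z'
    simpa [MvPolynomial.aeval_eq_eval] using this
  have hprod : (p.1 * s.1).IsHomogeneous n := by
    have := hp_hom.mul hs_hom
    rwa [Nat.add_sub_cancel' hm] at this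
  have := hCB z hzZ (p.1 * s.1) hprod ?_
  · rw [map_mul] at this
    rcases mul_eq_zero.mp this with h | h
    · exact hwz (by rw [← hpw ⟨z, hzZ⟩]; exact h)
    · exact hsz h
  · intro z' hz'Z hne
    rw [map_mul]
    by_cases hz'T : (⟨z', hz'Z⟩ : ↥Z) ∈ T
    · have : w ⟨z', hz'Z⟩ = 0 := hw0 _ hz'T (fun h => hne (congrArg Subtype.val h))
      rw [← hpw ⟨z', hz'Z⟩] at this
      rw [this, zero_mul]
    · rw [hsT ⟨z', hz'Z⟩ hz'T, mul_zero]

end Aux

/-- Let k be an algebraically closed field of characteristic zero and Z a finite set of points of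
projective 3-space over k, realised as points of the projectivization of k⁴, a homogeneous form in
four variables being evaluated at the chosen representative of a point (its vanishing does not
depend on the choice). Suppose Z has the Cayley–Bacharach property in degree n: every form of degree
n vanishing at all points of Z but one vanishes at that point as well. Then for every m ≤ n, either
there is a nonzero form of degree n − m vanishing at every point of Z, or the rank of the evaluation
map from forms of degree m to functions on Z is at most the number of points of Z minus the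
dimension of the space of forms of degree n − m. -/
theorem result (k : Type u) [Field k] [IsAlgClosed k] [CharZero k]
    (Z : Finset (Projectivization k (Fin 4 → k))) (n : ℕ)
    (hCB : (∀ z ∈ Z, ∀ p : MvPolynomial (Fin 4) k, p.IsHomogeneous n →
      (∀ z' ∈ Z, z' ≠ z → MvPolynomial.eval z'.rep p = 0) → MvPolynomial.eval z.rep p = 0))
    (m : ℕ) (hm : m ≤ n) :
    (∃ s : MvPolynomial (Fin 4) k, s.IsHomogeneous (n - m) ∧ s ≠ 0 ∧ ∀ z ∈ Z, MvPolynomial.eval z.rep s = 0) ∨
      Module.finrank k (LinearMap.range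
          ((LinearMap.pi fun z : ↥Z => (MvPolynomial.aeval (R := k) z.1.rep).toLinearMap) ∘ₗ
            (MvPolynomial.homogeneousSubmodule (Fin 4) k m).subtype)) +
        Module.finrank k ↥(MvPolynomial.homogeneousSubmodule (Fin 4) k (n - m)) ≤ Z.card := by
  exact Aux.main k Z n hCB m hm

end Groth.Agent.S18040
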