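import Groth.Statements.S18041
import Mathlib
-- import your own Groth.Agent.* helpers here

set_option autoImplicit false
universe u
open AdjLin

namespace Groth.Agent.S18041

namespace Aux

open MvPolynomial Module

variable {k : Type u} [Field k]

/-- polynomial of a linear functional -/
noncomputable def formOf (φ : Module.Dual k (Fin 4 → k)) : MvPolynomial (Fin 4) k :=
  ∑ i, C (φ (fun j => if i = j then 1 else 0)) * X i

lemma formOf_hom (φ : Module.Dual k (Fin 4 → k)) : (formOf φ).IsHomogeneous 1 :=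
  IsHomogeneous.sum _ _ _ fun i _ => (isHomogeneous_C_mul_X _ _)

lemma eval_formOf (φ : Module.Dual k (Fin 4 → k)) (v : Fin 4 → k) : eval v (formOf φ) = φ v := by
  rw [LinearMap.pi_apply_eq_sum_univ φ v, formOf, map_sum]
  refine Finset.sum_congr rfl fun i _ => ?_
  rw [map_mul, eval_C, eval_X, smul_eq_mul, mul_comm]

def CB (Z : Finset (Projectivization k (Fin 4 → k))) (n : ℕ) : Prop :=
  ∀ z ∈ Z, ∀ p : MvPolynomial (Fin 4) k, p.IsHomogeneous n →
    (∀ z' ∈ Z, z' ≠ z → MvPolynomial.eval z'.rep p = 0) → MvPolynomial.eval z.rep p = 0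

lemma rep_notMem_of_ne {z z' : Projectivization k (Fin 4 → k)} (h : z ≠ z') :
    z.rep ∉ z'.submodule := by
  intro hmem
  rw [Projectivization.submodule_eq, Submodule.mem_span_singleton] at hmem
  obtain ⟨a, ha⟩ := hmem
  apply h
  rw [← Projectivization.mk_rep z, ← Projectivization.mk_rep z', Projectivization.mk_eq_mk_iff]
  have ha0 : a ≠ 0 := by
    rintro rfl
    rw [zero_smul] at ha
    exact z.rep_nonzero ha.symm
  exact ⟨(Ne.isUnit ha0).unit, ha⟩

lemma exists_sep {z z' : Projectivization k (Fin 4 → k)} (h : z ≠ z') :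
    ∃ φ : Module.Dual k (Fin 4 → k), φ z'.rep = 0 ∧ φ z.rep ≠ 0 := by
  have := (Subspace.forall_mem_dualAnnihilator_apply_eq_zero_iff z'.submodule z.rep).not.mpr
    (rep_notMem_of_ne h)
  push Not at this
  obtain ⟨φ, hφ, hφz⟩ := this
  refine ⟨φ, ?_, hφz⟩
  rw [Submodule.mem_dualAnnihilator] at hφ
  apply hφ
  rw [Projectivization.submodule_eq]
  exact Submodule.mem_span_singleton_self _

lemma exists_nonvanishing (z : Projectivization k (Fin 4 → k)) :
    ∃ φ : Module.Dual k (Fin 4 → k), φ z.rep ≠ 0 := by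
  by_contra h
  push Not at h
  exact z.rep_nonzero ((Module.forall_dual_apply_eq_zero_iff k z.rep).mp h)

theorem card_ge (Z : Finset (Projectivization k (Fin 4 → k))) (n : ℕ) (hCB : CB Z n)
    (hZ : Z.Nonempty) : n + 2 ≤ Z.card := by
  classical
  by_contra hlt
  rw [not_le] at hlt
  obtain ⟨z, hz⟩ := hZ
  have hsep : ∀ z' : Projectivization k (Fin 4 → k), ∃ φ : Module.Dual k (Fin 4 → k),
      z' ≠ z → (φ z'.rep = 0 ∧ φ z.rep ≠ 0) := by
    intro z'
    by_cases h : z' = z
    · exact ⟨0, fun h' => absurd h h'⟩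
    · obtain ⟨φ, h1, h2⟩ := exists_sep (Ne.symm h)
      exact ⟨φ, fun _ => ⟨h1, h2⟩⟩
  choose φ hφ using hsep
  obtain ⟨φ0, hφ0⟩ := exists_nonvanishing z
  have hcard : (Z.erase z).card = Z.card - 1 := Finset.card_erase_of_mem hz
  have hpos : 0 < Z.card := Finset.card_pos.mpr ⟨z, hz⟩
  let p : MvPolynomial (Fin 4) k :=
    (∏ z' ∈ Z.erase z, formOf (φ z')) * formOf φ0 ^ (n - (Z.card - 1))
  have hp : p.IsHomogeneous n := by
    have h1 : (∏ z' ∈ Z.erase z, formOf (φ z')).IsHomogeneous (∑ z' ∈ Z.erase z, 1) :=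
      IsHomogeneous.prod _ _ _ fun i _ => formOf_hom _
    have h2 : (formOf φ0 ^ (n - (Z.card - 1))).IsHomogeneous (1 * (n - (Z.card - 1))) :=
      (formOf_hom φ0).pow _
    have := h1.mul h2
    have e : ∑ z' ∈ Z.erase z, 1 + 1 * (n - (Z.card - 1)) = n := by
      rw [Finset.sum_const, hcard, smul_eq_mul, mul_one, one_mul]
      omega
    rwa [e] at this
  have hzero := hCB z hz p hp ?_
  · simp only [p, map_mul, map_prod, map_pow, eval_formOf] at hzero
    rcases mul_eq_zero.mp hzero with h | h
    · rw [Finset.prod_eq_zero_iff] at h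
      obtain ⟨z', hz', h0⟩ := h
      exact (hφ z' (Finset.ne_of_mem_erase hz')).2 h0
    · exact hφ0 (pow_eq_zero_iff'.mp h).1
  · intro z' hz' hne
    simp only [p, map_mul, map_prod, eval_formOf]
    rw [Finset.prod_eq_zero (Finset.mem_erase.mpr ⟨hne, hz'⟩) (hφ z' hne).1, zero_mul]

lemma exists_two_dim : ∃ W : Submodule k (Fin 4 → k), Module.finrank k W = 2 := by
  have hli : LinearIndependent k ![(Pi.single 0 1 : Fin 4 → k), Pi.single 1 1] := by
    rw [LinearIndependent.pair_iff]
    intro s t h
    have h0 := congrFun h 0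
    have h1 := congrFun h 1
    simp at h0 h1
    exact ⟨h0, h1⟩
  refine ⟨Submodule.span k (Set.range ![(Pi.single 0 1 : Fin 4 → k), Pi.single 1 1]), ?_⟩
  rw [finrank_span_eq_card hli]
  simp

lemma line_through (z1 z2 : Projectivization k (Fin 4 → k)) (h : z1 ≠ z2) :
    ∃ W : Submodule k (Fin 4 → k), Module.finrank k W = 2 ∧ z1.rep ∈ W ∧ z2.rep ∈ W := by
  have hli := Projectivization.linearIndependent_pair_iff_ne.mpr h
  refine ⟨Submodule.span k (Set.range ![z1.rep, z2.rep]), ?_, ?_, ?_⟩
  · rw [finrank_span_eq_card hli]; simp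
  · exact Submodule.subset_span ⟨0, rfl⟩
  · exact Submodule.subset_span ⟨1, rfl⟩

theorem collinear [Infinite k] : ∀ (n : ℕ) (Z : Finset (Projectivization k (Fin 4 → k))),
    CB Z n → Z.card ≤ 2 * n + 1 →
    ∃ W : Submodule k (Fin 4 → k), Module.finrank k W = 2 ∧ ∀ z ∈ Z, z.rep ∈ W := by
  classical
  intro n
  induction n with
  | zero =>
    intro Z hCB hcard
    rcases Z.eq_empty_or_nonempty with rfl | hne
    · obtain ⟨W, hW⟩ := exists_two_dim (k := k)
      exact ⟨W, hW, fun z hz => absurd hz (Finset.notMem_empty z)⟩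
    · have := card_ge Z 0 hCB hne
      omega
  | succ n ih =>
    intro Z hCB hcard
    rcases Z.eq_empty_or_nonempty with rfl | hne
    · obtain ⟨W, hW⟩ := exists_two_dim (k := k)
      exact ⟨W, hW, fun z hz => absurd hz (Finset.notMem_empty z)⟩
    have hge := card_ge Z (n + 1) hCB hne
    -- counting function
    let cnt : Submodule k (Fin 4 → k) → ℕ := fun W => (Z.filter (fun z => z.rep ∈ W)).card
    have hbound : ∀ W, cnt W ≤ Z.card := fun W => Finset.card_filter_le _ _
    -- maximal W
    have hmax : ∃ W : Submodule k (Fin 4 → k), Module.finrank k W = 2 ∧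
        ∀ W' : Submodule k (Fin 4 → k), Module.finrank k W' = 2 → cnt W' ≤ cnt W := by
      let P : ℕ → Prop := fun c => ∃ W : Submodule k (Fin 4 → k), Module.finrank k W = 2 ∧ cnt W = c
      obtain ⟨W0, hW0⟩ := exists_two_dim (k := k)
      have hP0 : P (cnt W0) := ⟨W0, hW0, rfl⟩
      have hspec := Nat.findGreatest_spec (P := P) (hbound W0) hP0
      obtain ⟨W, hW, hWc⟩ := hspec
      refine ⟨W, hW, fun W' hW' => ?_⟩
      rw [hWc]
      exact Nat.le_findGreatest (hbound W') ⟨W', hW', rfl⟩
    obtain ⟨W, hW, hWmax⟩ := hmax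
    -- a ≥ 2
    have h2 : 2 ≤ cnt W := by
      have : 1 < Z.card := by omega
      obtain ⟨z1, hz1, z2, hz2, h12⟩ := Finset.one_lt_card.mp this
      obtain ⟨W12, hW12, h1, h2⟩ := line_through z1 z2 h12
      refine le_trans ?_ (hWmax W12 hW12)
      have hsub : ({z1, z2} : Finset _) ⊆ Z.filter (fun z => z.rep ∈ W12) := by
        intro x hx
        rw [Finset.mem_insert, Finset.mem_singleton] at hx
        rcases hx with rfl | rfl
        · exact Finset.mem_filter.mpr ⟨hz1, h1⟩
        · exact Finset.mem_filter.mpr ⟨hz2, h2⟩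
      have := Finset.card_le_card hsub
      rwa [Finset.card_pair h12] at this
    set Y := Z.filter (fun z => ¬ z.rep ∈ W) with hY
    have hsum : cnt W + Y.card = Z.card := Finset.card_filter_add_card_filter_not _
    rcases Y.eq_empty_or_nonempty with hYe | hYne
    · refine ⟨W, hW, fun z hz => ?_⟩
      by_contra hzW
      have : z ∈ Y := Finset.mem_filter.mpr ⟨hz, hzW⟩
      rw [hYe] at this
      exact absurd this (Finset.notMem_empty z)
    exfalso
    -- generic form
    have hgen : ∃ φ ∈ W.dualAnnihilator, ∀ y : ↥Y, (Module.Dual.eval k (Fin 4 → k) y.1.rep) φ ≠ 0 := by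
      apply Module.Dual.exists_forall_mem_ne_zero_of_forall_exists
      intro y
      have hy : ¬ y.1.rep ∈ W := (Finset.mem_filter.mp y.2).2
      have := (Subspace.forall_mem_dualAnnihilator_apply_eq_zero_iff W y.1.rep).not.mpr hy
      push Not at this
      obtain ⟨φ, hφ, hφy⟩ := this
      exact ⟨φ, hφ, hφy⟩
    obtain ⟨φ, hφW, hφY⟩ := hgen
    have hφW' : ∀ v ∈ W, φ v = 0 := (Submodule.mem_dualAnnihilator φ).mp hφW
    have hCBY : CB Y n := by
      intro y hy p hp hvan
      have hyZ : y ∈ Z := (Finset.mem_filter.mp hy).1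
      have hprod : (p * formOf φ).IsHomogeneous (n + 1) := hp.mul (formOf_hom φ)
      have := hCB y hyZ (p * formOf φ) hprod ?_
      · rw [map_mul, eval_formOf] at this
        rcases mul_eq_zero.mp this with h | h
        · exact h
        · exact absurd h (hφY ⟨y, hy⟩)
      · intro z' hz' hne
        rw [map_mul, eval_formOf]
        by_cases hz'W : z'.rep ∈ W
        · rw [hφW' _ hz'W, mul_zero]
        · rw [hvan z' (Finset.mem_filter.mpr ⟨hz', hz'W⟩) hne, zero_mul]
    have hYge := card_ge Y n hCBY hYne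
    have hYle : Y.card ≤ 2 * n + 1 := by omega
    obtain ⟨W', hW', hYW'⟩ := ih Y hCBY hYle
    have hYcnt : Y.card ≤ cnt W' := by
      apply Finset.card_le_card
      intro y hy
      exact Finset.mem_filter.mpr ⟨(Finset.mem_filter.mp hy).1, hYW' y hy⟩
    have := hWmax W' hW'
    omega

theorem main (k : Type u) [Field k] [IsAlgClosed k] [CharZero k]
    (Z : Finset (Projectivization k (Fin 4 → k))) (hZ : Z.Nonempty) (n : ℕ) (hn : 1 ≤ n)
    (hCB : (∀ z ∈ Z, ∀ p : MvPolynomial (Fin 4) k, p.IsHomogeneous n →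
      (∀ z' ∈ Z, z' ≠ z → MvPolynomial.eval z'.rep p = 0) → MvPolynomial.eval z.rep p = 0)) :
    n + 2 ≤ Z.card ∧
      (Z.card ≤ 2 * n + 1 → ∃ W : Submodule k (Fin 4 → k), Module.finrank k ↥W = 2 ∧ ∀ z ∈ Z, z.submodule ≤ W) := by
  refine ⟨card_ge Z n hCB hZ, fun hcard => ?_⟩
  obtain ⟨W, hW, hZW⟩ := collinear n Z hCB hcard
  refine ⟨W, hW, fun z hz => ?_⟩
  rw [Projectivization.submodule_eq, Submodule.span_singleton_le_iff_mem]
  exact hZW z hz

end Aux

/-- Let k be an algebraically closed field of characteristic zero, n ≥ 1, and Z a nonempty finite set of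
points of projective 3-space over k (points of the projectivization of k⁴, forms in four variables
being evaluated at the chosen representative). Suppose Z has the Cayley–Bacharach property in degree
n: every form of degree n vanishing at all points of Z but one vanishes at that point as well. Then
Z has at least n + 2 points; and if Z has at most 2n + 1 points, all points of Z lie on one line
(their lines in k⁴ lie in a common 2-dimensional subspace). (The source states this for an arbitrary
zero-dimensional subscheme with length in place of cardinality; only the reduced case is stated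
here. The lower bound needs Z nonempty: the empty set has the Cayley–Bacharach property vacuously.) -/
theorem result (k : Type u) [Field k] [IsAlgClosed k] [CharZero k]
    (Z : Finset (Projectivization k (Fin 4 → k))) (hZ : Z.Nonempty) (n : ℕ) (hn : 1 ≤ n)
    (hCB : (∀ z ∈ Z, ∀ p : MvPolynomial (Fin 4) k, p.IsHomogeneous n →
      (∀ z' ∈ Z, z' ≠ z → MvPolynomial.eval z'.rep p = 0) → MvPolynomial.eval z.rep p = 0)) :
    n + 2 ≤ Z.card ∧
      (Z.card ≤ 2 * n + 1 → ∃ W : Submodule k (Fin 4 → k), Module.finrank k ↥W = 2 ∧ ∀ z ∈ Z, z.submodule ≤ W) := by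
  exact Aux.main k Z hZ n hn hCB

end Groth.Agent.S18041
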