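import Groth.Statements.S18049
import Mathlib

set_option autoImplicit false
open STCI

namespace Groth.Agent.S18049

/-- For natural numbers 0 < k < N such that k does not divide N, ⌊N/k⌋ ≤ (N - k)/gcd(k, N); stated here
in the equivalent cleared form ⌊N/k⌋ · gcd(k, N) ≤ N - k. -/
theorem result (k N : ℕ) (hk : 0 < k) (hkN : k < N) (hndvd : ¬ k ∣ N) :
    N / k * Nat.gcd k N ≤ N - k := by
  classical
have hg1 : Nat.gcd k N ∣ k := Nat.gcd_dvd_left k N
have hg2 : Nat.gcd k N ∣ N := Nat.gcd_dvd_right k N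
have hr0 : N % k ≠ 0 := fun h => hndvd (Nat.dvd_of_mod_eq_zero h)
have hgr : Nat.gcd k N ∣ N % k := (Nat.dvd_mod_iff hg1).mpr hg2
have hgler : Nat.gcd k N ≤ N % k := Nat.le_of_dvd (Nat.pos_of_ne_zero hr0) hgr
have hq : 1 ≤ N / k := Nat.div_pos hkN.le hk
have hdm : k * (N / k) + N % k = N := Nat.div_add_mod N k
obtain ⟨c, hc⟩ := hg1
have hgpos : 0 < Nat.gcd k N := Nat.gcd_pos_of_pos_left N hk
have hc2 : 2 ≤ c := by
  rcases c with _ | _ | c
  · simp at hc; omega
  · exfalso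
    apply hndvd
    have : k = Nat.gcd k N := by simpa using hc
    rw [this]; exact hg2
  · omega
have h2g : 2 * Nat.gcd k N ≤ k := by
  calc 2 * Nat.gcd k N ≤ c * Nat.gcd k N := Nat.mul_le_mul_right _ hc2
    _ = k := by rw [mul_comm]; exact hc.symm
obtain ⟨q', hq'⟩ : ∃ q', N / k = q' + 1 := ⟨N / k - 1, by omega⟩
rw [hq'] at hdm ⊢
have h3 : N - k = k * q' + N % k := by
  have : k * (q' + 1) = k * q' + k := by ring
  omega
rw [h3]
have h4 : 2 * Nat.gcd k N * q' ≤ k * q' := Nat.mul_le_mul_right _ h2g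
nlinarith

end Groth.Agent.S18049
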