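import Groth.Statements.S18050
import Mathlib
import Groth.Agent.S18049

set_option autoImplicit false
open STCI

namespace Groth.Agent.S18050

open W4c5stcicurvesp3

theorem irem_shift (N k : ℕ) (hr : N % k ≠ 0) :
    ∀ n, irem N k (n + 1) = irem k (N % k) n ∧ irem N k (n + 2) = irem k (N % k) (n + 1) := by
  intro n
  induction n with
  | zero =>
    refine ⟨rfl, ?_⟩
    show (if irem N k 1 = 0 then 0 else irem N k 0 % irem N k 1) = k % (N % k)
    have h1 : irem N k 1 = N % k := rfl
    have h0 : irem N k 0 = k := rfl
    rw [h1, h0, if_neg hr]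
  | succ n ih =>
    refine ⟨ih.2, ?_⟩
    show (if irem N k (n + 2) = 0 then 0 else irem N k (n + 1) % irem N k (n + 2)) =
      (if irem k (N % k) (n + 1) = 0 then 0 else irem k (N % k) n % irem k (N % k) (n + 1))
    rw [ih.1, ih.2]

theorem idiv_shift (N k : ℕ) (hr : N % k ≠ 0) :
    ∀ n, 1 ≤ n → idiv N k (n + 1) = idiv k (N % k) n := by
  intro n hn
  obtain ⟨m, rfl⟩ : ∃ m, n = m + 1 := ⟨n - 1, by omega⟩
  rcases m with _ | m
  · show (if irem N k 1 = 0 then 0 else irem N k 0 / irem N k 1) = k / (N % k)
    have h1 : irem N k 1 = N % k := rfl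
    have h0 : irem N k 0 = k := rfl
    rw [h1, h0, if_neg hr]
  · show (if irem N k (m + 2) = 0 then 0 else irem N k (m + 1) / irem N k (m + 2)) =
      (if irem k (N % k) (m + 1) = 0 then 0 else irem k (N % k) m / irem k (N % k) (m + 1))
    rw [(irem_shift N k hr m).1, (irem_shift N k hr m).2]

theorem euclid_sum : ∀ (k : ℕ) (N t : ℕ), 0 < k → k ≤ N → 0 < t →
    irem N k t = 0 → (∀ i, 0 < i → i < t → irem N k i ≠ 0) →
    (∑ i ∈ Finset.Icc 1 t, idiv N k i) * Nat.gcd k N ≤ N := by
  intro k
  induction k using Nat.strong_induction_on with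
  | _ k ih =>
    intro N t hk hkN ht hzero hmin
    by_cases hr : N % k = 0
    · -- t = 1
      have ht1 : t = 1 := by
        by_contra hne
        have : 1 < t := by omega
        exact hmin 1 Nat.one_pos this hr
      subst ht1
      have hdvd : k ∣ N := Nat.dvd_of_mod_eq_zero hr
      have hg : Nat.gcd k N = k := Nat.gcd_eq_left hdvd
      rw [hg]
      simp only [Finset.Icc_self, Finset.sum_singleton]
      show N / k * k ≤ N
      rw [Nat.div_mul_cancel hdvd]
    · have ht2 : 2 ≤ t := by
        by_contra hne
        have : t = 1 := by omega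
        subst this
        exact hr hzero
      have hkN' : k < N := by
        rcases Nat.lt_or_ge k N with h | h
        · exact h
        · exfalso
          have : N = k := le_antisymm h hkN
          subst this
          exact hr (Nat.mod_self _)
      have hndvd : ¬ k ∣ N := fun h => hr (Nat.mod_eq_zero_of_dvd h)
      have hrpos : 0 < N % k := Nat.pos_of_ne_zero hr
      have hrlt : N % k < k := Nat.mod_lt _ hk
      obtain ⟨t', rfl⟩ : ∃ t', t = t' + 1 := ⟨t - 1, by omega⟩
      have ht' : 0 < t' := by omega
      have hz' : irem k (N % k) t' = 0 := by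
        rw [← (irem_shift N k hr t').1]; exact hzero
      have hmin' : ∀ i, 0 < i → i < t' → irem k (N % k) i ≠ 0 := by
        intro i hi hit
        rw [← (irem_shift N k hr i).1]
        exact hmin (i + 1) (by omega) (by omega)
      have hrec := ih (N % k) hrlt k t' hrpos hrlt.le ht' hz' hmin'
      have hgcd : Nat.gcd (N % k) k = Nat.gcd k N := (Nat.gcd_rec k N).symm
      rw [hgcd] at hrec
      have hsum : ∑ i ∈ Finset.Icc 1 (t' + 1), idiv N k i =
          N / k + ∑ i ∈ Finset.Icc 1 t', idiv k (N % k) i := by
        rw [← Finset.sum_Ioc_add_eq_sum_Icc (by omega : 1 ≤ t' + 1)]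
        have h1 : idiv N k 1 = N / k := rfl
        rw [h1, add_comm]
        congr 1
        have : Finset.Ioc 1 (t' + 1) = (Finset.Icc 1 t').map (addRightEmbedding 1) := by
          ext x
          simp only [Finset.mem_Ioc, Finset.mem_map, Finset.mem_Icc, addRightEmbedding_apply]
          constructor
          · intro hx; exact ⟨x - 1, by omega, by omega⟩
          · rintro ⟨y, hy, rfl⟩; omega
        rw [this, Finset.sum_map]
        apply Finset.sum_congr rfl
        intro i hi
        rw [Finset.mem_Icc] at hi
        exact idiv_shift N k hr i hi.1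
      rw [hsum, add_mul]
      have h49 := Groth.Agent.S18049.result k N hk hkN' hndvd
      omega


open W4c5stcicurvesp3 in
/-- Let k ≤ N be positive integers, let t be the least positive integer with rem_t(N, k) = 0, where
rem_0 = k, rem_1 = N mod k and rem_i is the remainder of rem_{i-2} by rem_{i-1} (iterated Euclidean
remainders), and let d_i be the corresponding iterated quotients (d_1 = ⌊N/k⌋, d_i =
⌊rem_{i-2}/rem_{i-1}⌋). Then d_1 + ⋯ + d_t ≤ N/gcd(k, N); stated in the cleared form (d_1 + ⋯ + d_t)
· gcd(k, N) ≤ N. -/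
theorem result (k N t : ℕ) (hk : 0 < k) (hkN : k ≤ N) (ht : 0 < t)
    (hzero : irem N k t = 0) (hmin : ∀ i, 0 < i → i < t → irem N k i ≠ 0) :
    (∑ i ∈ Finset.Icc 1 t, idiv N k i) * Nat.gcd k N ≤ N := by
  classical
  exact euclid_sum k N t hk hkN ht hzero hmin

end Groth.Agent.S18050
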