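import Groth.Statements.S18051
import Mathlib

set_option autoImplicit false
open STCI

namespace Groth.Agent.S18051

open W4c5stcicurvesp3

theorem key51 (a b r s : ℚ) (ha : 2 ≤ a) (hb : 1 ≤ b) (hs : 0 < s) (hsr : s < r) :
    ((b * r + s) - r) / a + (r - s) / (a + b) + s / (a + b + 1) ≤
      (b * r + s) ^ 2 / (a * (b * r + s) + r) := by
  have hr : 0 < r := by linarith
  have ha0 : 0 < a := by linarith
  have hb0 : 0 < b := by linarith
  set k := b * r + s with hk
  set e := a + b with he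
  have hk0 : 0 < k := by positivity
  have he0 : 0 < e := by positivity
  have hkr : r ≤ k := by
    have : 0 ≤ (b - 1) * r := mul_nonneg (by linarith) hr.le
    rw [hk]; nlinarith
  have h1 : (k - r) / a = k ^ 2 / (a * k + r) - r ^ 2 / (k + a * r)
      - k * (a - 1) * r * (k - r) / (a * (k + a * r) * (a * k + r)) := by
    field_simp
    ring
  have h2 : (r - s) / e + s / (e + 1) = r ^ 2 / (e * r + s) + s * (r - s) / (e * (e + 1) * (e * r + s)) := by
    field_simp
    ring
  have h3 : k + a * r = e * r + s := by rw [hk, he]; ring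
  have hD : s ≤ k - r := by
    have : 0 ≤ (b - 1) * r := mul_nonneg (by linarith) hr.le
    rw [hk]; nlinarith
  have hC : a * k + r ≤ e * k := by
    have : 0 ≤ (b - 1) * k := mul_nonneg (by linarith) hk0.le
    rw [he]; nlinarith
  have hA : s * (r - s) ≤ s * r := by nlinarith
  have hB : a ≤ 2 * (a - 1) := by linarith
  have hers : 0 < e * r + s := by positivity
  have hakr : 0 < a * k + r := by positivity
  have hmain : s * (r - s) / (e * (e + 1) * (e * r + s)) ≤
      k * (a - 1) * r * (k - r) / (a * (e * r + s) * (a * k + r)) := by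
    rw [div_le_div_iff₀ (by positivity) (by positivity)]
    have hstep1 : s * (r - s) * (a * (a * k + r)) ≤ (s * r) * ((2 * (a - 1)) * (e * k)) := by
      apply mul_le_mul hA _ (by positivity) (by positivity)
      apply mul_le_mul hB hC (by positivity) (by linarith)
    have hstep2 : (s * r) * ((2 * (a - 1)) * (e * k)) ≤ k * (a - 1) * r * (k - r) * (e * (e + 1)) := by
      have h5 : 2 * s ≤ (k - r) * (e + 1) := by
        have h6 : (2 : ℚ) ≤ e + 1 := by rw [he]; linarith
        have := mul_le_mul hD h6 (by norm_num) (by linarith)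
        linarith
      have h7 : 0 ≤ k * (a - 1) * r * e := by
        have : 0 ≤ a - 1 := by linarith
        positivity
      have := mul_le_mul_of_nonneg_left h5 h7
      nlinarith [this]
    have h8 := mul_le_mul_of_nonneg_right (hstep1.trans hstep2) hers.le
    nlinarith [h8]
  rw [add_assoc, h2, h1, h3]
  linarith [hmain]

open W4c5stcicurvesp3 in
/-- Let k ≤ N/2 be positive integers and let r_i = rem_i(N, k), d_i = div_i(N, k) be the iterated
Euclidean remainders and quotients of (N, k) (r_0 = k, r_1 = N mod k, r_2 = r_0 mod r_1, d_1 =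
⌊N/k⌋, d_2 = ⌊r_0/r_1⌋). If the least positive t with r_t = 0 satisfies t ≥ 3, i.e. r_1 ≠ 0 and r_2
≠ 0, then (r_0 - r_1)/d_1 + (r_1 - r_2)/(d_1 + d_2) + r_2/(d_1 + d_2 + 1) ≤ k²/N (in ℚ). -/
theorem result (k N : ℕ) (hk : 0 < k) (hkN : 2 * k ≤ N)
    (h1 : irem N k 1 ≠ 0) (h2 : irem N k 2 ≠ 0) :
    ((irem N k 0 : ℚ) - irem N k 1) / (idiv N k 1)
      + ((irem N k 1 : ℚ) - irem N k 2) / ((idiv N k 1 : ℚ) + idiv N k 2)
      + (irem N k 2 : ℚ) / ((idiv N k 1 : ℚ) + idiv N k 2 + 1)
      ≤ (k : ℚ) ^ 2 / N := by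
  classical
  have hr0 : irem N k 0 = k := rfl
  have hr1 : irem N k 1 = N % k := rfl
  have hd1 : idiv N k 1 = N / k := rfl
  have hr2 : irem N k 2 = k % (N % k) := by
    show (if irem N k 1 = 0 then 0 else irem N k 0 % irem N k 1) = k % (N % k)
    rw [if_neg h1, hr0, hr1]
  have hd2 : idiv N k 2 = k / (N % k) := by
    show (if irem N k 1 = 0 then 0 else irem N k 0 / irem N k 1) = k / (N % k)
    rw [if_neg h1, hr0, hr1]
  rw [hr1] at h1
  rw [hr2] at h2
  rw [hr0, hr1, hr2, hd1, hd2]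
  have hrlt : N % k < k := Nat.mod_lt _ hk
  have hslt : k % (N % k) < N % k := Nat.mod_lt _ (Nat.pos_of_ne_zero h1)
  have ha : 2 ≤ N / k := by
    rw [Nat.le_div_iff_mul_le hk]; omega
  have hb : 1 ≤ k / (N % k) := (Nat.one_le_div_iff (Nat.pos_of_ne_zero h1)).2 hrlt.le
  have hkeq : (k : ℚ) = ((k / (N % k) : ℕ) : ℚ) * ((N % k : ℕ) : ℚ) + ((k % (N % k) : ℕ) : ℚ) := by
    have := Nat.div_add_mod k (N % k)
    have h2 : (k : ℚ) = (((N % k) * (k / (N % k)) + k % (N % k) : ℕ) : ℚ) := by rw [this]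
    rw [h2]; push_cast; ring
  have hNeq : (N : ℚ) = ((N / k : ℕ) : ℚ) * (k : ℚ) + ((N % k : ℕ) : ℚ) := by
    have := Nat.div_add_mod N k
    have h2 : (N : ℚ) = ((k * (N / k) + N % k : ℕ) : ℚ) := by rw [this]
    rw [h2]; push_cast; ring
  have hkey := key51 ((N / k : ℕ) : ℚ) ((k / (N % k) : ℕ) : ℚ) ((N % k : ℕ) : ℚ) ((k % (N % k) : ℕ) : ℚ)
    (by exact_mod_cast ha) (by exact_mod_cast hb)
    (by exact_mod_cast Nat.pos_of_ne_zero h2) (by exact_mod_cast hslt)
  rw [← hkeq, ← hNeq] at hkey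
  exact hkey

end Groth.Agent.S18051
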