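import Groth.Statements.S18052
import Mathlib

set_option autoImplicit false
open STCI

namespace Groth.Agent.S18052

open W4c5stcicurvesp3

theorem irem_shift (N k : ℕ) (hr : N % k ≠ 0) :
    ∀ n, irem N k (n + 1) = irem k (N % k) n ∧ irem N k (n + 2) = irem k (N % k) (n + 1) := by
  intro n
  induction n with
  | zero =>
    refine ⟨rfl, ?_⟩
    show (if irem N k 1 = 0 then 0 else irem N k 0 % irem N k 1) = k % (N % k)
    have h1 : irem N k 1 = N % k := rfl
    have h0 : irem N k 0 = k := rfl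
    rw [h1, h0, if_neg hr]
  | succ n ih =>
    refine ⟨ih.2, ?_⟩
    show (if irem N k (n + 2) = 0 then 0 else irem N k (n + 1) % irem N k (n + 2)) =
      (if irem k (N % k) (n + 1) = 0 then 0 else irem k (N % k) n % irem k (N % k) (n + 1))
    rw [ih.1, ih.2]

theorem idiv_shift (N k : ℕ) (hr : N % k ≠ 0) :
    ∀ n, 1 ≤ n → idiv N k (n + 1) = idiv k (N % k) n := by
  intro n hn
  obtain ⟨m, rfl⟩ : ∃ m, n = m + 1 := ⟨n - 1, by omega⟩
  rcases m with _ | m
  · show (if irem N k 1 = 0 then 0 else irem N k 0 / irem N k 1) = k / (N % k)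
    have h1 : irem N k 1 = N % k := rfl
    have h0 : irem N k 0 = k := rfl
    rw [h1, h0, if_neg hr]
  · show (if irem N k (m + 2) = 0 then 0 else irem N k (m + 1) / irem N k (m + 2)) =
      (if irem k (N % k) (m + 1) = 0 then 0 else irem k (N % k) m / irem k (N % k) (m + 1))
    rw [(irem_shift N k hr m).1, (irem_shift N k hr m).2]

theorem sum_idiv_shift (N k : ℕ) (hr : N % k ≠ 0) (t' : ℕ) :
    ∑ i ∈ Finset.Icc 1 (t' + 1), (idiv N k i : ℚ) =
      ((N / k : ℕ) : ℚ) + ∑ i ∈ Finset.Icc 1 t', (idiv k (N % k) i : ℚ) := by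
  rw [← Finset.sum_Ioc_add_eq_sum_Icc (by omega : 1 ≤ t' + 1)]
  have h1 : idiv N k 1 = N / k := rfl
  rw [h1, add_comm]
  congr 1
  have : Finset.Ioc 1 (t' + 1) = (Finset.Icc 1 t').map (addRightEmbedding 1) := by
    ext x
    simp only [Finset.mem_Ioc, Finset.mem_map, Finset.mem_Icc, addRightEmbedding_apply]
    constructor
    · intro hx; exact ⟨x - 1, by omega, by omega⟩
    · rintro ⟨y, hy, rfl⟩; omega
  rw [this, Finset.sum_map]
  apply Finset.sum_congr rfl
  intro i hi
  rw [Finset.mem_Icc] at hi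
  simp only [addRightEmbedding_apply]
  rw [idiv_shift N k hr i hi.1]

theorem key_ineq (k r e : ℚ) (hk : 0 < k) (hr : 0 < r) (hrk : r < k) (he : 1 ≤ e) :
    (k - r) / e + r ^ 2 / (k + e * r) ≤ k ^ 2 / (e * k + r) := by
  have he0 : 0 < e := by linarith
  have h1 : 0 < k + e * r := by positivity
  have h2 : 0 < e * k + r := by positivity
  rw [div_add_div _ _ he0.ne' h1.ne', div_le_div_iff₀ (by positivity) h2]
  have : (e - 1) * (k * r * (k - r)) ≥ 0 := by
    apply mul_nonneg (by linarith)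
    apply mul_nonneg (by positivity) (by linarith)
  nlinarith [this, mul_pos he0 hk]

theorem gen : ∀ (k : ℕ) (N t : ℕ) (c : ℚ), 0 ≤ c → 0 < k → k ≤ N → 0 < t →
    irem N k t = 0 → (∀ i, 0 < i → i < t → irem N k i ≠ 0) →
    ∑ i ∈ Finset.range t, ((irem N k i : ℚ) - irem N k (i + 1)) /
        (c + ∑ j ∈ Finset.Icc 1 (i + 1), (idiv N k j : ℚ)) ≤ (k : ℚ) ^ 2 / (N + c * k) := by
  intro k
  induction k using Nat.strong_induction_on with
  | _ k ih =>
    intro N t c hc hk hkN ht hzero hmin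
    have hkQ : (0 : ℚ) < k := by exact_mod_cast hk
    by_cases hr : N % k = 0
    · have ht1 : t = 1 := by
        by_contra hne
        have : 1 < t := by omega
        exact hmin 1 Nat.one_pos this hr
      subst ht1
      have hdvd : k ∣ N := Nat.dvd_of_mod_eq_zero hr
      simp only [Finset.range_one, Finset.sum_singleton, zero_add, Finset.Icc_self]
      have h0 : irem N k 0 = k := rfl
      have h1 : irem N k 1 = N % k := rfl
      have hd : idiv N k 1 = N / k := rfl
      rw [h0, h1, hd, hr]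
      obtain ⟨m, rfl⟩ := hdvd
      rw [Nat.mul_div_cancel_left m hk]
      push_cast
      have hm : (0 : ℚ) < m := by
        have : 0 < m := by
          rcases Nat.eq_zero_or_pos m with h | h
          · subst h; simp at hkN; omega
          · exact h
        exact_mod_cast this
      rw [sub_zero, div_le_div_iff₀ (by positivity) (by positivity)]
      nlinarith
    · have hrpos : 0 < N % k := Nat.pos_of_ne_zero hr
      have hrlt : N % k < k := Nat.mod_lt _ hk
      have ht2 : 2 ≤ t := by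
        by_contra hne
        have : t = 1 := by omega
        subst this
        exact hr hzero
      obtain ⟨t', rfl⟩ : ∃ t', t = t' + 1 := ⟨t - 1, by omega⟩
      have ht' : 0 < t' := by omega
      have hz' : irem k (N % k) t' = 0 := by
        rw [← (irem_shift N k hr t').1]; exact hzero
      have hmin' : ∀ i, 0 < i → i < t' → irem k (N % k) i ≠ 0 := by
        intro i hi hit
        rw [← (irem_shift N k hr i).1]
        exact hmin (i + 1) (by omega) (by omega)
      have hd1 : 1 ≤ N / k := (Nat.one_le_div_iff hk).2 hkN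
      have hd1Q : (1 : ℚ) ≤ ((N / k : ℕ) : ℚ) := by exact_mod_cast hd1
      have hrec := ih (N % k) hrlt k t' (c + ((N / k : ℕ) : ℚ)) (by positivity) hrpos hrlt.le ht' hz' hmin'
      rw [Finset.sum_range_succ']
      have hterm : ∀ i ∈ Finset.range t', ((irem N k (i + 1) : ℚ) - irem N k (i + 1 + 1)) /
          (c + ∑ j ∈ Finset.Icc 1 (i + 1 + 1), (idiv N k j : ℚ)) =
          ((irem k (N % k) i : ℚ) - irem k (N % k) (i + 1)) /
          (c + ((N / k : ℕ) : ℚ) + ∑ j ∈ Finset.Icc 1 (i + 1), (idiv k (N % k) j : ℚ)) := by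
        intro i _
        rw [sum_idiv_shift N k hr (i + 1), (irem_shift N k hr i).1, (irem_shift N k hr i).2, add_assoc]
      rw [Finset.sum_congr rfl hterm]
      have h0 : irem N k 0 = k := rfl
      have h1 : irem N k 1 = N % k := rfl
      have hd : idiv N k 1 = N / k := rfl
      simp only [zero_add, Finset.Icc_self, Finset.sum_singleton]
      rw [h0, h1, hd]
      have hN : (N : ℚ) = ((N / k : ℕ) : ℚ) * k + ((N % k : ℕ) : ℚ) := by
        have := Nat.div_add_mod N k
        have h2 : (N : ℚ) = ((k * (N / k) + N % k : ℕ) : ℚ) := by rw [this]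
        rw [h2]; push_cast; ring
      have hrQ : (0 : ℚ) < ((N % k : ℕ) : ℚ) := by exact_mod_cast hrpos
      have hrkQ : ((N % k : ℕ) : ℚ) < k := by exact_mod_cast hrlt
      have hkey := key_ineq (k : ℚ) ((N % k : ℕ) : ℚ) (c + ((N / k : ℕ) : ℚ)) hkQ hrQ hrkQ (by linarith)
      have e1 : (N : ℚ) + c * k = (c + ((N / k : ℕ) : ℚ)) * k + ((N % k : ℕ) : ℚ) := by
        rw [hN]; ring
      rw [e1]
      have e2 : (k : ℚ) + (c + ((N / k : ℕ) : ℚ)) * ((N % k : ℕ) : ℚ) =
          ((k : ℕ) : ℚ) + (c + ((N / k : ℕ) : ℚ)) * ((N % k : ℕ) : ℚ) := rfl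
      calc _ ≤ ((N % k : ℕ) : ℚ) ^ 2 / ((k : ℚ) + (c + ((N / k : ℕ) : ℚ)) * ((N % k : ℕ) : ℚ)) +
            ((k : ℚ) - ((N % k : ℕ) : ℚ)) / (c + ((N / k : ℕ) : ℚ)) := by
              exact add_le_add_left hrec _
        _ ≤ _ := by rw [add_comm]; exact hkey

open W4c5stcicurvesp3 in
/-- Let k ≤ N/2 be positive integers, let r_i = rem_i(N, k) and d_i = div_i(N, k) be the iterated
Euclidean remainders and quotients of (N, k) (r_0 = k, r_1 = N mod k, …; d_1 = ⌊N/k⌋, d_i =
⌊r_{i-2}/r_{i-1}⌋), and let t be the least positive integer with r_t = 0. Then the sum over i = 0,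
…, t - 1 of (r_i - r_{i+1})/(d_1 + ⋯ + d_{i+1}) is at most k²/N (in ℚ). -/
theorem result (k N t : ℕ) (hk : 0 < k) (hkN : 2 * k ≤ N) (ht : 0 < t)
    (hzero : irem N k t = 0) (hmin : ∀ i, 0 < i → i < t → irem N k i ≠ 0) :
    ∑ i ∈ Finset.range t, ((irem N k i : ℚ) - irem N k (i + 1)) / (∑ j ∈ Finset.Icc 1 (i + 1), (idiv N k j : ℚ))
      ≤ (k : ℚ) ^ 2 / N := by
  classical
  have h := gen k N t 0 le_rfl hk (by omega) ht hzero hmin
  simpa using h

end Groth.Agent.S18052
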