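import Groth.Statements.S18053
import Mathlib

set_option autoImplicit false
open STCI

namespace Groth.Agent.S18053

theorem tail_zero (p : ℕ → ℕ) (n : ℕ) (h2 : Antitone p)
    (h3 : ∀ m : ℕ, ((∑ k ∈ Finset.range m, p k : ℕ) : ℝ) ≤ 19 - (n : ℝ)) :
    ∀ m, 19 ≤ m → p m = 0 := by
  intro m hm
  by_contra hne
  have hpos : 1 ≤ p m := Nat.one_le_iff_ne_zero.2 hne
  have hsum : m + 1 ≤ ∑ k ∈ Finset.range (m + 1), p k := by
    have : ∑ k ∈ Finset.range (m + 1), 1 ≤ ∑ k ∈ Finset.range (m + 1), p k := by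
      apply Finset.sum_le_sum
      intro k hk
      rw [Finset.mem_range] at hk
      exact hpos.trans (h2 (by omega))
    simpa using this
  have h := h3 (m + 1)
  have hn : (0 : ℝ) ≤ n := Nat.cast_nonneg n
  have h' : ((m + 1 : ℕ) : ℝ) ≤ ((∑ k ∈ Finset.range (m + 1), p k : ℕ) : ℝ) := by exact_mod_cast hsum
  have h'' : (19 : ℝ) ≤ (m : ℝ) := by exact_mod_cast hm
  push_cast at h'
  push_cast at h
  linarith

/-- Let (p_k)_{k ≥ 1} be a sequence of nonnegative integers and n a nonnegative integer such that (i)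
p_1 ≤ 9 - (2/5)n, (ii) p_1 ≥ p_2 ≥ p_3 ≥ ⋯, (iii) Σ_k p_k ≤ 19 - n, and (iv) n/4 + Σ_{k ≥ 1}
p_k/(k(k+1)) ≥ 6. Then n = 0 and (p_k) is one of (9, 8, 2), (9, 9), (9, 9, 1) (followed by zeros).
Here the sequence is indexed from 0 (so p 0 is p_1 and the weight of p k is 1/((k+1)(k+2))), (iii)
is stated for every partial sum, and the series in (iv) is the real sum Σ' over all k. -/
theorem result (p : ℕ → ℕ) (n : ℕ)
    (h1 : (p 0 : ℝ) ≤ 9 - (2 / 5 : ℝ) * n) (h2 : Antitone p)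
    (h3 : ∀ m : ℕ, ((∑ k ∈ Finset.range m, p k : ℕ) : ℝ) ≤ 19 - (n : ℝ))
    (h4 : (6 : ℝ) ≤ (n : ℝ) / 4 + ∑' k : ℕ, (p k : ℝ) / (((k : ℝ) + 1) * ((k : ℝ) + 2))) :
    n = 0 ∧ (p = (fun k => if k = 0 then 9 else if k = 1 then 8 else if k = 2 then 2 else 0)
      ∨ p = (fun k => if k = 0 then 9 else if k = 1 then 9 else 0)
      ∨ p = (fun k => if k = 0 then 9 else if k = 1 then 9 else if k = 2 then 1 else 0)) := by
  classical
  have hn0 : (0 : ℝ) ≤ n := Nat.cast_nonneg n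
  have htail := tail_zero p n h2 h3
  set f : ℕ → ℝ := fun k => (p k : ℝ) / (((k : ℝ) + 1) * ((k : ℝ) + 2)) with hf
  have hts : ∑' k : ℕ, f k = ∑ k ∈ Finset.range 19, f k := by
    apply tsum_eq_sum
    intro k hk
    rw [Finset.mem_range, not_lt] at hk
    simp only [hf, htail k hk, Nat.cast_zero, zero_div]
  have hdec : ∑ k ∈ Finset.range 19, f k = ∑ k ∈ Finset.range 16, f (k + 3) + f 2 + f 1 + f 0 := by
    rw [Finset.sum_range_succ', Finset.sum_range_succ', Finset.sum_range_succ']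
  have hdecN : ∑ k ∈ Finset.range 19, p k = ∑ k ∈ Finset.range 16, p (k + 3) + p 2 + p 1 + p 0 := by
    rw [Finset.sum_range_succ', Finset.sum_range_succ', Finset.sum_range_succ']
  set R : ℕ := ∑ k ∈ Finset.range 16, p (k + 3) with hR
  have hbound : ∑ k ∈ Finset.range 16, f (k + 3) ≤ (R : ℝ) / 20 := by
    rw [hR, Nat.cast_sum, Finset.sum_div]
    apply Finset.sum_le_sum
    intro k _
    simp only [hf]
    have hk0 : (0 : ℝ) ≤ k := Nat.cast_nonneg k
    have hp0 : (0 : ℝ) ≤ p (k + 3) := Nat.cast_nonneg _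
    push_cast
    apply div_le_div_of_nonneg_left hp0 (by norm_num)
    nlinarith
  have hf0 : f 0 = (p 0 : ℝ) / 2 := by simp only [hf]; norm_num
  have hf1 : f 1 = (p 1 : ℝ) / 6 := by simp only [hf]; norm_num
  have hf2 : f 2 = (p 2 : ℝ) / 12 := by simp only [hf]; norm_num
  have h4' : (6 : ℝ) ≤ (n : ℝ) / 4 + ∑' k : ℕ, f k := h4
  rw [hts, hdec, hf0, hf1, hf2] at h4'
  have h319 := h3 19
  rw [hdecN] at h319
  push_cast at h319
  have e1 : 5 * p 0 + 2 * n ≤ 45 := by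
    have : ((5 * p 0 + 2 * n : ℕ) : ℝ) ≤ ((45 : ℕ) : ℝ) := by push_cast; linarith
    exact_mod_cast this
  have e2 : R + p 2 + p 1 + p 0 + n ≤ 19 := by
    have : ((R + p 2 + p 1 + p 0 + n : ℕ) : ℝ) ≤ ((19 : ℕ) : ℝ) := by
      push_cast
      have : ((∑ k ∈ Finset.range 16, p (k + 3) : ℕ) : ℝ) = (R : ℝ) := by rw [hR]
      push_cast at this
      linarith
    exact_mod_cast this
  have e3 : 360 ≤ 15 * n + 30 * p 0 + 10 * p 1 + 5 * p 2 + 3 * R := by
    have : ((360 : ℕ) : ℝ) ≤ ((15 * n + 30 * p 0 + 10 * p 1 + 5 * p 2 + 3 * R : ℕ) : ℝ) := by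
      push_cast; linarith
    exact_mod_cast this
  have e4 : p 1 ≤ p 0 := h2 (by norm_num)
  have e5 : p 2 ≤ p 1 := h2 (by norm_num)
  have e6 : p 3 ≤ R := by
    rw [hR]
    exact Finset.single_le_sum (f := fun k => p (k + 3)) (fun _ _ => Nat.zero_le _)
      (Finset.mem_range.2 (by norm_num : 0 < 16))
  have key : n = 0 ∧ ((p 0 = 9 ∧ p 1 = 8 ∧ p 2 = 2 ∧ p 3 = 0) ∨ (p 0 = 9 ∧ p 1 = 9 ∧ p 2 = 0)
      ∨ (p 0 = 9 ∧ p 1 = 9 ∧ p 2 = 1 ∧ p 3 = 0)) := by omega
  refine ⟨key.1, ?_⟩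
  rcases key.2 with ⟨a0, a1, a2, a3⟩ | ⟨a0, a1, a2⟩ | ⟨a0, a1, a2, a3⟩
  · left
    funext k
    rcases k with _ | _ | _ | k
    · simpa using a0
    · simpa using a1
    · simpa using a2
    · have hle : p (k + 1 + 1 + 1) ≤ p 3 := h2 (by omega)
      have hz : p (k + 1 + 1 + 1) = 0 := by omega
      rw [hz]; simp
  · right; left
    funext k
    rcases k with _ | _ | k
    · simpa using a0
    · simpa using a1
    · have hle : p (k + 1 + 1) ≤ p 2 := h2 (by omega)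
      have hz : p (k + 1 + 1) = 0 := by omega
      rw [hz]; simp
  · right; right
    funext k
    rcases k with _ | _ | _ | k
    · simpa using a0
    · simpa using a1
    · simpa using a2
    · have hle : p (k + 1 + 1 + 1) ≤ p 3 := h2 (by omega)
      have hz : p (k + 1 + 1 + 1) = 0 := by omega
      rw [hz]; simp

end Groth.Agent.S18053
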