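import Groth.Statements.S18054
import Mathlib

set_option autoImplicit false
open STCI

namespace Groth.Agent.S18054

/-- Let s, t, d, g be integers with t ≥ s ≥ 4, d ≥ 1, g ≥ 0 and d dividing st; put n = st/d and assume n
≥ 2; put r = d[n(s - 4) + t] + (2 - 2g)n and assume r ≤ (s/3)(2s² - 6s + 7) - 1. Then d ≤ g + 3.
(The bound is written cleared of the denominator 3; s(2s² - 6s + 7) is always divisible by 3, so
this is the same condition.) -/
theorem result (s t d g n : ℤ) (hs : 4 ≤ s) (hst : s ≤ t) (hd : 1 ≤ d) (hg : 0 ≤ g)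
    (hn : s * t = d * n) (hn2 : 2 ≤ n)
    (hr : 3 * (d * (n * (s - 4) + t) + (2 - 2 * g) * n) ≤ s * (2 * s ^ 2 - 6 * s + 7) - 3) :
    d ≤ g + 3 := by
  classical
  by_contra hcon
  have hd4 : g + 4 ≤ d := by omega
  have hn0 : 0 ≤ n := by linarith
  have ht0 : 0 < t := by linarith
  have hr' : 3 * (s * t * (s - 6) + d * t + 10 * n) ≤ s * (2 * s ^ 2 - 6 * s + 7) - 3 := by
    have h1 : (10 - 2 * d) * n ≤ (2 - 2 * g) * n :=
      mul_le_mul_of_nonneg_right (by linarith) hn0
    have h2 : d * (n * (s - 4) + t) = s * t * (s - 4) + d * t := by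
      linear_combination (-(s - 4)) * hn
    have h3 : (10 - 2 * d) * n = 10 * n - 2 * (s * t) := by
      linear_combination 2 * hn
    nlinarith [h1, h2, h3, hr]
  have hX : (d * t + 10 * n) ^ 2 = (d * t - 10 * n) ^ 2 + 40 * s * t ^ 2 := by
    linear_combination (-40 * t) * hn
  have hXpos : 0 < d * t + 10 * n := by positivity
  have hXsq : 40 * s * t ^ 2 ≤ (d * t + 10 * n) ^ 2 := by
    nlinarith [sq_nonneg (d * t - 10 * n)]
  rcases le_or_gt 6 s with h6 | h6
  · -- uniform
    have hX15 : 15 * t ≤ d * t + 10 * n := by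
      by_contra hlt
      have hlt' : d * t + 10 * n < 15 * t := not_le.1 hlt
      have : (d * t + 10 * n) ^ 2 < (15 * t) ^ 2 := by
        apply pow_lt_pow_left₀ hlt' hXpos.le (by norm_num)
      nlinarith [mul_pos ht0 ht0]
    have hc : 0 ≤ s * (s - 6) := mul_nonneg (by linarith) (by linarith)
    have h7 : s * (s - 6) * s ≤ s * (s - 6) * t := mul_le_mul_of_nonneg_left hst hc
    nlinarith [sq_nonneg (s - 6), h7]
  · have hXsq' : (d * t + 10 * n) ^ 2 ≤ (d * t + 10 * n) ^ 2 := le_rfl
    interval_cases s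
    · -- s = 4
      have hXle : d * t + 10 * n ≤ 19 + 8 * t := by linarith
      have hsq2 : (d * t + 10 * n) ^ 2 ≤ (19 + 8 * t) ^ 2 :=
        pow_le_pow_left₀ hXpos.le hXle 2
      have ht4 : t = 4 := by
        by_contra hne
        have ht5 : 5 ≤ t := by omega
        nlinarith [mul_nonneg (by linarith : (0:ℤ) ≤ t - 5) (by linarith : (0:ℤ) ≤ t - 5)]
      subst ht4
      have hd8 : d ≤ 8 := by nlinarith
      have hd4' : 4 ≤ d := by linarith
      interval_cases d <;> omega
    · -- s = 5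
      have hXle : d * t + 10 * n ≤ 44 + 5 * t := by linarith
      have hsq2 : (d * t + 10 * n) ^ 2 ≤ (44 + 5 * t) ^ 2 :=
        pow_le_pow_left₀ hXpos.le hXle 2
      nlinarith [mul_nonneg (by linarith : (0:ℤ) ≤ t - 5) (by linarith : (0:ℤ) ≤ t - 5)]

end Groth.Agent.S18054
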