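import Groth.Statements.S18055
import Mathlib

set_option autoImplicit false
open STCI

namespace Groth.Agent.S18055

/-- Let d ≥ 1, g ≥ 0 and 1 ≤ s ≤ t be integers with d dividing st, put n = st/d and r = d[n(s - 4) + t]
+ (2 - 2g)n, and assume n ≥ 2, r > 0 and (n - 1) divides r. Then s < 2d² and t < 2d⁴. This is the
statement about the degree data (d, g the degree and genus of the curve, s ≤ t the degrees of the
two surfaces) to which the published proof reduces the degree bound: there the divisibility and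
positivity express that r/(n - 1), the common value of the type numbers of the pair, is a positive
integer; the geometric hypotheses themselves are not part of this row. -/
theorem result (d g s t n : ℤ) (hd : 1 ≤ d) (hg : 0 ≤ g) (hs : 1 ≤ s) (hst : s ≤ t)
    (hn : s * t = d * n) (hn2 : 2 ≤ n)
    (hpos : 0 < d * (n * (s - 4) + t) + (2 - 2 * g) * n)
    (hdvd : (n - 1) ∣ d * (n * (s - 4) + t) + (2 - 2 * g) * n) :
    s < 2 * d ^ 2 ∧ t < 2 * d ^ 4 := by
  classical
  -- m := d (s + t - 4) + 2 - 2 g ; r = n m - (n-1) d t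
  obtain ⟨m, hm⟩ : ∃ m : ℤ, m = d * (s + t - 4) + 2 - 2 * g := ⟨_, rfl⟩
  have hr : d * (n * (s - 4) + t) + (2 - 2 * g) * n = n * m - (n - 1) * (d * t) := by
    rw [hm]; ring
  rw [hr] at hpos hdvd
  have hdvd_m : (n - 1) ∣ m := by
    have h1 : (n - 1) ∣ (n - 1) * (d * t) := Dvd.intro _ rfl
    have h2 : (n - 1) ∣ n * m := by
      have := dvd_add hdvd h1
      rwa [sub_add_cancel] at this
    have h3 : n * m = (n - 1) * m + m := by ring
    rw [h3] at h2
    exact (dvd_add_right (Dvd.intro _ rfl)).mp h2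
  obtain ⟨c, hc⟩ := hdvd_m
  have hn1 : 0 < n - 1 := by omega
  have ht : 1 ≤ t := le_trans hs hst
  -- n c > d t
  have h3 : d * t < n * c := by
    have : (n - 1) * (d * t) < (n - 1) * (n * c) := by
      have : n * m = (n - 1) * (n * c) := by rw [hc]; ring
      linarith
    exact lt_of_mul_lt_mul_left this hn1.le
  -- c s > d^2
  have h4 : d ^ 2 < c * s := by
    have h5 : d * t * s < n * c * s := mul_lt_mul_of_pos_right h3 (by omega)
    have h6 : d * t * s = d ^ 2 * n := by
      have : d * t * s = d * (s * t) := by ring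
      rw [this, hn]; ring
    have h7 : n * c * s = (c * s) * n := by ring
    rw [h6, h7] at h5
    exact lt_of_mul_lt_mul_right h5 (by omega)
  have hcpos : 1 ≤ c := by
    by_contra hcn
    have hc0 : c ≤ 0 := by omega
    have : c * s ≤ 0 := mul_nonpos_of_nonpos_of_nonneg hc0 (by omega)
    have : 0 ≤ d ^ 2 := sq_nonneg d
    omega
  -- c (n-1) ≤ d (s+t) - 4 d + 2
  have h8 : c * (n - 1) ≤ d * (s + t) - 4 * d + 2 := by
    have : m = c * (n - 1) := by rw [hc]; ring
    rw [← this, hm]; linarith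
  -- (★★): s t ≤ d² s + d² t - 4 d² + 3 d
  have hSS : s * t ≤ d ^ 2 * s + d ^ 2 * t - 4 * d ^ 2 + 3 * d := by
    have h9 : (n - 1) ≤ c * (n - 1) := by nlinarith
    have h10 : d * (n - 1) ≤ d * (d * (s + t) - 4 * d + 2) :=
      mul_le_mul_of_nonneg_left (le_trans h9 h8) (by omega)
    have : d * (n - 1) = s * t - d := by rw [hn]; ring
    rw [this] at h10
    nlinarith
  -- (★): s t ≤ d² s² - 4 d² s + 2 d s + d³ + d
  have hS : s * t ≤ d ^ 2 * s ^ 2 - 4 * d ^ 2 * s + 2 * d * s + d ^ 3 + d := by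
    have h11 : (d * s) * (c * (n - 1)) ≤ (d * s) * (d * (s + t) - 4 * d + 2) :=
      mul_le_mul_of_nonneg_left h8 (by nlinarith)
    have h12 : (d * s) * (c * (n - 1)) = (c * s) * (s * t - d) := by
      have : d * (n - 1) = s * t - d := by rw [hn]; ring
      calc (d * s) * (c * (n - 1)) = (c * s) * (d * (n - 1)) := by ring
        _ = (c * s) * (s * t - d) := by rw [this]
    have h13 : 0 < s * t - d := by
      have : d * (n - 1) = s * t - d := by rw [hn]; ring
      rw [← this]; exact mul_pos (by omega) hn1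
    have h14 : (d ^ 2 + 1) * (s * t - d) ≤ (c * s) * (s * t - d) :=
      mul_le_mul_of_nonneg_right (by omega) h13.le
    nlinarith
  have hs2 : s < 2 * d ^ 2 := by
    by_contra hcon
    have hs' : 2 * d ^ 2 ≤ s := by omega
    have ht' : 2 * d ^ 2 ≤ t := le_trans hs' hst
    have hd2 : 1 ≤ d ^ 2 := by nlinarith
    have : d ^ 2 * d ^ 2 ≤ (s - d ^ 2) * (t - d ^ 2) := by
      apply mul_le_mul <;> nlinarith
    nlinarith
  refine ⟨hs2, ?_⟩
  by_contra hcon
  have ht' : 2 * d ^ 4 ≤ t := by omega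
  have h15 : 0 ≤ (s - 1) * (2 * d ^ 2 - 1 - s) := mul_nonneg (by omega) (by omega)
  have h16 : 2 * d ^ 4 * s ≤ s * t := by nlinarith
  have hd3 : d ^ 3 ≤ d ^ 4 := by
    have : d ^ 4 = d ^ 3 * d := by ring
    rw [this]; nlinarith [pow_pos (show (0:ℤ) < d by omega) 3]
  have hd2' : d ≤ d ^ 2 := by nlinarith
  nlinarith [mul_pos (show (0:ℤ) < d by omega) (show (0:ℤ) < s by omega), sq_nonneg d, pow_pos (show (0:ℤ) < d by omega) 3, pow_pos (show (0:ℤ) < d by omega) 4]

end Groth.Agent.S18055
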