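import Groth.Statements.S18121
import Mathlib

set_option autoImplicit false
universe u
open Pinch

namespace Groth.Agent.S18121

section

variable (B : Type*) [CommRing B] (b : B)

local notation "g" => (Polynomial.X ^ 2 - Polynomial.C b : Polynomial B)
local notation "B'" => AdjoinRoot (Polynomial.X ^ 2 - Polynomial.C b : Polynomial B)

noncomputable def Ψ : MvPolynomial (Fin 2) B →ₐ[B] Polynomial (AdjoinRoot (Polynomial.X ^ 2 - Polynomial.C b : Polynomial B)) :=
  MvPolynomial.aeval
    ![Polynomial.C (AdjoinRoot.root (Polynomial.X ^ 2 - Polynomial.C b)) * Polynomial.X, Polynomial.X]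

theorem g_monic : (Polynomial.X ^ 2 - Polynomial.C b : Polynomial B).Monic :=
  Polynomial.monic_X_pow_sub_C b (by norm_num)

theorem root_sq : (AdjoinRoot.root (Polynomial.X ^ 2 - Polynomial.C b : Polynomial B)) ^ 2 =
    AdjoinRoot.of (Polynomial.X ^ 2 - Polynomial.C b : Polynomial B) b := by
  have h := AdjoinRoot.eval₂_root (Polynomial.X ^ 2 - Polynomial.C b : Polynomial B)
  simp only [Polynomial.eval₂_sub, Polynomial.eval₂_pow, Polynomial.eval₂_X, Polynomial.eval₂_C] at h
  exact sub_eq_zero.mp h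

/-- independence of 1, z -/
theorem indep [Nontrivial B] (α β : B)
    (h : AdjoinRoot.of (Polynomial.X ^ 2 - Polynomial.C b : Polynomial B) α +
      AdjoinRoot.of (Polynomial.X ^ 2 - Polynomial.C b : Polynomial B) β *
        AdjoinRoot.root (Polynomial.X ^ 2 - Polynomial.C b : Polynomial B) = 0) : α = 0 ∧ β = 0 := by
  have h1 : AdjoinRoot.mk (Polynomial.X ^ 2 - Polynomial.C b : Polynomial B)
      (Polynomial.C α + Polynomial.C β * Polynomial.X) = 0 := by
    rw [map_add, map_mul, AdjoinRoot.mk_C, AdjoinRoot.mk_C, AdjoinRoot.mk_X]; exact h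
  rw [AdjoinRoot.mk_eq_zero] at h1
  have hdeg : (Polynomial.C α + Polynomial.C β * Polynomial.X : Polynomial B).degree <
      (Polynomial.X ^ 2 - Polynomial.C b : Polynomial B).degree := by
    rw [Polynomial.degree_X_pow_sub_C (by norm_num) b]
    calc (Polynomial.C α + Polynomial.C β * Polynomial.X : Polynomial B).degree
        ≤ max (Polynomial.C α : Polynomial B).degree (Polynomial.C β * Polynomial.X : Polynomial B).degree :=
          Polynomial.degree_add_le _ _
      _ ≤ 1 := by
        apply max_le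
        · exact (Polynomial.degree_C_le).trans (by norm_num)
        · exact (Polynomial.degree_C_mul_X_le β)
      _ < 2 := by norm_num
  have h0 : (Polynomial.C α + Polynomial.C β * Polynomial.X : Polynomial B) = 0 := by
    by_contra hne
    exact (g_monic B b).not_dvd_of_degree_lt hne hdeg h1
  have c0 := congrArg (fun p => Polynomial.coeff p 0) h0
  have c1 := congrArg (fun p => Polynomial.coeff p 1) h0
  simp at c0 c1
  exact ⟨c0, c1⟩

theorem exists_repr (x : AdjoinRoot (Polynomial.X ^ 2 - Polynomial.C b : Polynomial B)) :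
    ∃ α β : B, x = AdjoinRoot.of _ α + AdjoinRoot.of _ β * AdjoinRoot.root _ := by
  induction x using AdjoinRoot.induction_on with
  | ih p =>
    induction p using Polynomial.induction_on with
    | C a => exact ⟨a, 0, by simp⟩
    | add p q hp hq =>
      obtain ⟨α, β, h1⟩ := hp
      obtain ⟨α', β', h2⟩ := hq
      exact ⟨α + α', β + β', by rw [map_add, h1, h2, map_add, map_add]; ring⟩
    | monomial n a ih =>
      obtain ⟨α, β, h1⟩ := ih
      refine ⟨β * b, α, ?_⟩
      have : (Polynomial.C a * Polynomial.X ^ (n + 1) : Polynomial B) = (Polynomial.C a * Polynomial.X ^ n) * Polynomial.X := by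
        rw [pow_succ, mul_assoc]
      rw [this, map_mul, h1, AdjoinRoot.mk_X, add_mul, mul_assoc, ← pow_two, root_sq, map_mul]
      ring

/-- embedding of polynomials in `v` -/
noncomputable def j : Polynomial B →ₐ[B] MvPolynomial (Fin 2) B :=
  Polynomial.aeval (MvPolynomial.X 1 : MvPolynomial (Fin 2) B)

theorem Ψ_j (p : Polynomial B) : Ψ B b (j B p) = p.map (algebraMap B (AdjoinRoot (Polynomial.X ^ 2 - Polynomial.C b : Polynomial B))) := by
  have : (Ψ B b).comp (j B) = Polynomial.mapAlg B (AdjoinRoot (Polynomial.X ^ 2 - Polynomial.C b : Polynomial B)) := by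
    apply Polynomial.algHom_ext
    simp [Ψ, j, Polynomial.mapAlg_eq_map]
  have h := congrArg (fun F : Polynomial B →ₐ[B] Polynomial (AdjoinRoot (Polynomial.X ^ 2 - Polynomial.C b : Polynomial B)) => F p) this
  simpa [Polynomial.mapAlg_eq_map] using h

theorem Ψ_u : Ψ B b (MvPolynomial.X 0) = Polynomial.C (AdjoinRoot.root (Polynomial.X ^ 2 - Polynomial.C b)) * Polynomial.X := by
  simp [Ψ]
theorem Ψ_v : Ψ B b (MvPolynomial.X 1) = Polynomial.X := by
  simp [Ψ]

theorem Ψ_rel : Ψ B b (MvPolynomial.X 0 ^ 2 - MvPolynomial.C b * MvPolynomial.X 1 ^ 2) = 0 := by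
  rw [map_sub, map_pow, map_mul, map_pow, Ψ_u, Ψ_v, mul_pow, ← Polynomial.C_pow, root_sq]
  simp [Ψ, AdjoinRoot.algebraMap_eq]

/-- normal form -/
theorem normal_form (f : MvPolynomial (Fin 2) B) :
    ∃ f₀ f₁ : Polynomial B, f - (j B f₀ + MvPolynomial.X 0 * j B f₁) ∈
      Ideal.span {(MvPolynomial.X 0 ^ 2 - MvPolynomial.C b * MvPolynomial.X 1 ^ 2 : MvPolynomial (Fin 2) B)} := by
  induction f using MvPolynomial.induction_on with
  | C a => exact ⟨Polynomial.C a, 0, by simp [j]⟩
  | add p q hp hq =>
    obtain ⟨a₀, a₁, ha⟩ := hp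
    obtain ⟨b₀, b₁, hb⟩ := hq
    refine ⟨a₀ + b₀, a₁ + b₁, ?_⟩
    have : p + q - (j B (a₀ + b₀) + MvPolynomial.X 0 * j B (a₁ + b₁)) =
        (p - (j B a₀ + MvPolynomial.X 0 * j B a₁)) + (q - (j B b₀ + MvPolynomial.X 0 * j B b₁)) := by
      rw [map_add, map_add]; ring
    rw [this]; exact Ideal.add_mem _ ha hb
  | mul_X p i hp =>
    obtain ⟨a₀, a₁, ha⟩ := hp
    fin_cases i
    · refine ⟨Polynomial.C b * Polynomial.X ^ 2 * a₁, a₀, ?_⟩
      have hjX : j B Polynomial.X = MvPolynomial.X 1 := by simp [j]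
      have hjC : j B (Polynomial.C b) = MvPolynomial.C b := by simp [j]
      have : p * MvPolynomial.X 0 - (j B (Polynomial.C b * Polynomial.X ^ 2 * a₁) + MvPolynomial.X 0 * j B a₀) =
          (p - (j B a₀ + MvPolynomial.X 0 * j B a₁)) * MvPolynomial.X 0 +
            j B a₁ * (MvPolynomial.X 0 ^ 2 - MvPolynomial.C b * MvPolynomial.X 1 ^ 2) := by
        rw [map_mul, map_mul, map_pow, hjX, hjC]; ring
      show p * MvPolynomial.X 0 - _ ∈ _
      rw [this]
      exact Ideal.add_mem _ (Ideal.mul_mem_right _ _ ha) (Ideal.mul_mem_left _ _ (Ideal.subset_span rfl))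
    · refine ⟨a₀ * Polynomial.X, a₁ * Polynomial.X, ?_⟩
      have hjX : j B Polynomial.X = MvPolynomial.X 1 := by simp [j]
      have : p * MvPolynomial.X 1 - (j B (a₀ * Polynomial.X) + MvPolynomial.X 0 * j B (a₁ * Polynomial.X)) =
          (p - (j B a₀ + MvPolynomial.X 0 * j B a₁)) * MvPolynomial.X 1 := by
        rw [map_mul, map_mul, hjX]; ring
      show p * MvPolynomial.X 1 - _ ∈ _
      rw [this]
      exact Ideal.mul_mem_right _ _ ha

theorem ker_eq : RingHom.ker (Ψ B b).toRingHom =
    Ideal.span {(MvPolynomial.X 0 ^ 2 - MvPolynomial.C b * MvPolynomial.X 1 ^ 2 : MvPolynomial (Fin 2) B)} := by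
  rcases subsingleton_or_nontrivial B with hB | hB
  · have : Subsingleton (MvPolynomial (Fin 2) B) := inferInstance
    exact Subsingleton.elim _ _
  apply le_antisymm
  · intro f hf
    have hf0 : Ψ B b f = 0 := hf
    obtain ⟨f₀, f₁, hnf⟩ := normal_form B b f
    have hker : Ψ B b (f - (j B f₀ + MvPolynomial.X 0 * j B f₁)) = 0 := by
      have hle : Ideal.span {(MvPolynomial.X 0 ^ 2 - MvPolynomial.C b * MvPolynomial.X 1 ^ 2 : MvPolynomial (Fin 2) B)} ≤
          RingHom.ker (Ψ B b).toRingHom := by
        rw [Ideal.span_le]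
        intro x hx
        rw [Set.mem_singleton_iff] at hx
        rw [hx]
        exact Ψ_rel B b
      exact hle hnf
    rw [map_sub, hf0, zero_sub, neg_eq_zero, map_add, map_mul, Ψ_j, Ψ_j, Ψ_u] at hker
    have hcoef : ∀ n, f₀.coeff n = 0 ∧ (n ≠ 0 → f₁.coeff (n - 1) = 0) := by
      intro n
      have h1 := congrArg (fun P => Polynomial.coeff P n) hker
      simp only [Polynomial.coeff_add, Polynomial.coeff_map, Polynomial.coeff_zero] at h1
      rcases Nat.eq_zero_or_pos n with hn | hn
      · subst hn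
        simp only [mul_assoc, Polynomial.coeff_C_mul, Polynomial.mul_coeff_zero, Polynomial.coeff_X_zero,
          zero_mul, mul_zero, add_zero] at h1
        have := indep B b (f₀.coeff 0) 0 (by simpa [AdjoinRoot.algebraMap_eq] using h1)
        exact ⟨this.1, fun h => absurd rfl h⟩
      · obtain ⟨m, rfl⟩ : ∃ m, n = m + 1 := ⟨n - 1, by omega⟩
        simp only [mul_assoc, Polynomial.coeff_C_mul, Polynomial.coeff_X_mul, Polynomial.coeff_map] at h1
        have := indep B b (f₀.coeff (m + 1)) (f₁.coeff m) (by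
          rw [← h1, AdjoinRoot.algebraMap_eq]; ring)
        exact ⟨this.1, fun _ => by simpa using this.2⟩
    have hf₀ : f₀ = 0 := by ext n; simpa using (hcoef n).1
    have hf₁ : f₁ = 0 := by
      ext n
      have := (hcoef (n + 1)).2 (by omega)
      simpa using this
    rw [hf₀, hf₁] at hnf
    simpa using hnf
  · rw [Ideal.span_le]
    intro x hx
    rw [Set.mem_singleton_iff] at hx
    rw [hx]
    exact Ψ_rel B b

theorem X_mul_mem_range (G : Polynomial (AdjoinRoot (Polynomial.X ^ 2 - Polynomial.C b : Polynomial B))) :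
    Polynomial.X * G ∈ (Ψ B b).range := by
  have hv : Polynomial.X ∈ (Ψ B b).range := ⟨MvPolynomial.X 1, Ψ_v B b⟩
  have hu : Polynomial.C (AdjoinRoot.root (Polynomial.X ^ 2 - Polynomial.C b)) * Polynomial.X ∈ (Ψ B b).range :=
    ⟨MvPolynomial.X 0, Ψ_u B b⟩
  induction G using Polynomial.induction_on with
  | C x =>
    obtain ⟨α, β, rfl⟩ := exists_repr B b x
    have : (Polynomial.X : Polynomial (AdjoinRoot (Polynomial.X ^ 2 - Polynomial.C b : Polynomial B))) *
        Polynomial.C (AdjoinRoot.of _ α + AdjoinRoot.of _ β * AdjoinRoot.root _) =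
        algebraMap B _ α * Polynomial.X + algebraMap B _ β *
          (Polynomial.C (AdjoinRoot.root (Polynomial.X ^ 2 - Polynomial.C b)) * Polynomial.X) := by
      simp only [Polynomial.algebraMap_apply, AdjoinRoot.algebraMap_eq, map_add, map_mul]
      ring
    rw [this]
    exact add_mem (mul_mem (Subalgebra.algebraMap_mem _ α) hv) (mul_mem (Subalgebra.algebraMap_mem _ β) hu)
  | add p q hp hq => rw [mul_add]; exact add_mem hp hq
  | monomial n a ih =>
    have : (Polynomial.X : Polynomial (AdjoinRoot (Polynomial.X ^ 2 - Polynomial.C b : Polynomial B))) *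
        (Polynomial.C a * Polynomial.X ^ (n + 1)) = (Polynomial.X * (Polynomial.C a * Polynomial.X ^ n)) * Polynomial.X := by
      ring
    rw [this]
    exact mul_mem ih hv

theorem main :
    RingHom.ker (Ψ B b).toRingHom =
        Ideal.span {MvPolynomial.X 0 ^ 2 - MvPolynomial.C b * MvPolynomial.X 1 ^ 2} ∧
      ∀ G : Polynomial (AdjoinRoot (Polynomial.X ^ 2 - Polynomial.C b)),
        (∃ c : B, G.coeff 0 = algebraMap B (AdjoinRoot (Polynomial.X ^ 2 - Polynomial.C b)) c) →
          G ∈ (Ψ B b).range := by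
  refine ⟨ker_eq B b, ?_⟩
  rintro G ⟨c, hc⟩
  have hG : G = Polynomial.C (G.coeff 0) + Polynomial.X * G.divX := by
    rw [add_comm, mul_comm]; exact (Polynomial.divX_mul_X_add G).symm
  rw [hG, hc]
  refine add_mem ?_ (X_mul_mem_range B b _)
  have : Polynomial.C (algebraMap B (AdjoinRoot (Polynomial.X ^ 2 - Polynomial.C b)) c) =
      algebraMap B (Polynomial (AdjoinRoot (Polynomial.X ^ 2 - Polynomial.C b))) c := by
    rw [Polynomial.algebraMap_apply]
  rw [this]
  exact Subalgebra.algebraMap_mem _ c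

end


/-- Let B be a commutative ring, b an element of B, B' := B[z]/(z^2 - b) the rank-two B-algebra with z^2
= b, and Ψ : B[u, v] → B'[t] the B-algebra homomorphism with u ↦ z t and v ↦ t. Then the kernel of Ψ
is the principal ideal generated by u^2 - b v^2, and a polynomial of B'[t] lies in the image of Ψ as
soon as its constant coefficient lies in B. Equivalently, B[u, v]/(u^2 - b v^2) is the fibre product
of B'[t] and B over B' (for t ↦ 0 and the inclusion of B): the pinching of Spec B' × 𝔸¹ along Spec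
B' × {0} by the double cover Spec B' → Spec B is the hypersurface u^2 = b v^2 over B; for B = K[w]
and b = w this is the pinch point u^2 = v^2 w. -/
theorem result (B : Type u) [CommRing B] (b : B) :
    letI Ψ : MvPolynomial (Fin 2) B →ₐ[B] Polynomial (AdjoinRoot (Polynomial.X ^ 2 - Polynomial.C b)) :=
      MvPolynomial.aeval
        ![Polynomial.C (AdjoinRoot.root (Polynomial.X ^ 2 - Polynomial.C b)) * Polynomial.X, Polynomial.X]
    RingHom.ker Ψ.toRingHom =
        Ideal.span {MvPolynomial.X 0 ^ 2 - MvPolynomial.C b * MvPolynomial.X 1 ^ 2} ∧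
      ∀ G : Polynomial (AdjoinRoot (Polynomial.X ^ 2 - Polynomial.C b)),
        (∃ c : B, G.coeff 0 = algebraMap B (AdjoinRoot (Polynomial.X ^ 2 - Polynomial.C b)) c) →
          G ∈ Ψ.range := by
  classical
  exact main B b

end Groth.Agent.S18121
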