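import Groth.Statements.S18122
import Mathlib

set_option autoImplicit false
universe u
open Pinch

namespace Groth.Agent.S18122

section
open MvPolynomial
variable (K : Type*) [Field K]

local notation "S" => MvPolynomial (Fin 2) K

/-- evaluation at x = 0 -/
noncomputable def ev : MvPolynomial (Fin 2) K →ₐ[K] MvPolynomial (Fin 2) K :=
  MvPolynomial.aeval (fun i : Fin 2 => if i = 0 then (0 : MvPolynomial (Fin 2) K) else X i)

theorem ev_X0 : ev K (X 0) = 0 := by simp [ev]
theorem ev_X1 : ev K (X 1) = X 1 := by simp [ev]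

theorem sub_ev_mem (p : MvPolynomial (Fin 2) K) :
    ∃ q, p - ev K p = X 0 * q := by
  induction p using MvPolynomial.induction_on with
  | C a => exact ⟨0, by simp [ev]⟩
  | add p q hp hq =>
    obtain ⟨a, ha⟩ := hp
    obtain ⟨b, hb⟩ := hq
    refine ⟨a + b, ?_⟩
    rw [map_add, mul_add, ← ha, ← hb]; ring
  | mul_X p i hp =>
    obtain ⟨a, ha⟩ := hp
    have hX : ∃ c, (X i : MvPolynomial (Fin 2) K) - ev K (X i) = X 0 * c := by
      fin_cases i
      · exact ⟨1, by simp [ev]⟩
      · exact ⟨0, by simp [ev]⟩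
    obtain ⟨c, hc⟩ := hX
    refine ⟨a * X i + ev K p * c, ?_⟩
    have : p * X i - ev K (p * X i) = (p - ev K p) * X i + ev K p * (X i - ev K (X i)) := by
      rw [map_mul]; ring
    rw [this, ha, hc]; ring

theorem main' [NeZero (2 : K)] (x y : MvPolynomial (Fin 2) K) (hx : x = X 0) (hy : y = X 1)
    (δ : Derivation K (Algebra.adjoin K {x ^ 2, x * y, y})
      (MvPolynomial (Fin 2) K)) :
      ∃! D : Derivation K (MvPolynomial (Fin 2) K) (MvPolynomial (Fin 2) K),
        ∀ r : Algebra.adjoin K {x ^ 2, x * y, y},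
          D (r : MvPolynomial (Fin 2) K) = δ r := by
  have h2 : (2 : K) ≠ 0 := NeZero.ne 2
  have h2S : (2 : MvPolynomial (Fin 2) K) = C (2 : K) := (map_ofNat C 2).symm
  have hC2 : (C (2⁻¹ : K) : MvPolynomial (Fin 2) K) * 2 = 1 := by
    rw [h2S, ← C_mul, inv_mul_cancel₀ h2, C_1]
  have h2ne : (2 : MvPolynomial (Fin 2) K) ≠ 0 := by
    rw [h2S]; exact (C_ne_zero).mpr h2
  have hx0 : x ≠ 0 := by rw [hx]; exact X_ne_zero 0
  have hy0 : y ≠ 0 := by rw [hy]; exact X_ne_zero 1
  have mx2 : x ^ 2 ∈ Algebra.adjoin K {x ^ 2, x * y, y} := Algebra.subset_adjoin (by simp)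
  have mxy : x * y ∈ Algebra.adjoin K {x ^ 2, x * y, y} := Algebra.subset_adjoin (by simp)
  have my : y ∈ Algebra.adjoin K {x ^ 2, x * y, y} := Algebra.subset_adjoin (by simp)
  obtain ⟨a, ha⟩ : ∃ a, a = δ ⟨x ^ 2, mx2⟩ := ⟨_, rfl⟩
  obtain ⟨b, hb⟩ : ∃ b, b = δ ⟨x * y, mxy⟩ := ⟨_, rfl⟩
  obtain ⟨c, hc⟩ : ∃ c, c = δ ⟨y, my⟩ := ⟨_, rfl⟩
  -- the relation
  have hrel : 2 * (x * y) * b = y ^ 2 * a + x ^ 2 * (2 * y * c) := by
    have e : (⟨x * y, mxy⟩ : Algebra.adjoin K {x ^ 2, x * y, y}) * ⟨x * y, mxy⟩ =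
        ⟨x ^ 2, mx2⟩ * (⟨y, my⟩ * ⟨y, my⟩) := by
      apply Subtype.ext
      show (x * y) * (x * y) = x ^ 2 * (y * y)
      ring
    have := congrArg δ e
    rw [Derivation.leibniz, Derivation.leibniz, Derivation.leibniz, ← ha, ← hb, ← hc] at this
    simp only [Subalgebra.smul_def, smul_eq_mul, Subalgebra.coe_mul] at this
    linear_combination this
  -- cancel y
  have hrel2 : 2 * x * b = y * a + 2 * x ^ 2 * c := by
    have : y * (2 * x * b) = y * (y * a + 2 * x ^ 2 * c) := by linear_combination hrel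
    exact mul_left_cancel₀ hy0 this
  -- x divides a
  have hev : ev K a = 0 := by
    have h1 := congrArg (ev K) hrel2
    have e0 : ev K x = 0 := by rw [hx]; exact ev_X0 K
    have e1 : ev K y = y := by rw [hy]; exact ev_X1 K
    simp only [map_mul, map_add, map_pow, e0, e1] at h1
    have h3 : y * ev K a = 0 := by
      have : (ev K) 2 * 0 * (ev K) b = y * (ev K) a + (ev K) 2 * 0 ^ 2 * (ev K) c := h1
      simpa using this.symm
    exact (mul_eq_zero.mp h3).resolve_left hy0
  obtain ⟨q, hq⟩ := sub_ev_mem K a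
  rw [hev, sub_zero, ← hx] at hq
  -- b in terms of q, c
  have hb' : b = C (2⁻¹ : K) * q * y + x * c := by
    have h1 : x * (2 * b) = x * (y * q + 2 * x * c) := by
      rw [hq] at hrel2; linear_combination hrel2
    have h2' : 2 * b = y * q + 2 * x * c := mul_left_cancel₀ hx0 h1
    have : b = C (2⁻¹ : K) * (2 * b) := by rw [← mul_assoc, hC2, one_mul]
    rw [this, h2']
    have : C (2⁻¹ : K) * (y * q + 2 * x * c) = C (2⁻¹ : K) * q * y + (C (2⁻¹ : K) * 2) * (x * c) := by ring
    rw [this, hC2]; ring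
  let D : Derivation K (MvPolynomial (Fin 2) K) (MvPolynomial (Fin 2) K) :=
    mkDerivation K ![C (2⁻¹ : K) * q, c]
  have hDx : D x = C (2⁻¹ : K) * q := by rw [hx]; simp [D, mkDerivation_X]
  have hDy : D y = c := by rw [hy]; simp [D, mkDerivation_X]
  refine ⟨D, ?_, ?_⟩
  · rintro ⟨r, hr⟩
    show D r = δ ⟨r, hr⟩
    induction hr using Algebra.adjoin_induction with
    | mem z hz =>
      simp only [Set.mem_insert_iff, Set.mem_singleton_iff] at hz
      rcases hz with rfl | rfl | rfl
      · rw [← ha, hq, Derivation.leibniz_pow, hDx]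
        simp only [smul_eq_mul]
        have : (2 : ℕ) • (x ^ (2 - 1) * (C (2⁻¹ : K) * q)) = (C (2⁻¹ : K) * 2) * (x * q) := by
          simp only [nsmul_eq_mul]; push_cast; ring
        rw [this, hC2, one_mul]
      · rw [← hb, hb', Derivation.leibniz, hDx, hDy]
        simp only [smul_eq_mul]; ring
      · rw [← hc, hDy]
    | algebraMap k =>
      rw [Derivation.map_algebraMap]
      have : (⟨algebraMap K (MvPolynomial (Fin 2) K) k, Subalgebra.algebraMap_mem _ k⟩ :
          Algebra.adjoin K {x ^ 2, x * y, y}) = algebraMap K _ k := rfl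
      rw [this, Derivation.map_algebraMap]
    | add p q hp hq ihp ihq =>
      have : (⟨p + q, add_mem hp hq⟩ : Algebra.adjoin K {x ^ 2, x * y, y}) = ⟨p, hp⟩ + ⟨q, hq⟩ := rfl
      rw [this, map_add, map_add, ihp, ihq]
    | mul p q hp hq ihp ihq =>
      have : (⟨p * q, mul_mem hp hq⟩ : Algebra.adjoin K {x ^ 2, x * y, y}) = ⟨p, hp⟩ * ⟨q, hq⟩ := rfl
      rw [this, Derivation.leibniz, Derivation.leibniz, ihp, ihq]
      simp only [Subalgebra.smul_def, smul_eq_mul]
  · intro D' hD'
    apply derivation_ext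
    intro i
    have h1 : D' y = c := by rw [hc]; exact hD' ⟨y, my⟩
    have h2' : D' (x ^ 2) = a := by rw [ha]; exact hD' ⟨x ^ 2, mx2⟩
    fin_cases i
    · show D' (X 0) = D (X 0)
      rw [← hx, hDx]
      rw [Derivation.leibniz_pow, hq] at h2'
      simp only [smul_eq_mul, nsmul_eq_mul] at h2'
      have h3 : x * (2 * D' x) = x * q := by
        have : ((2 : ℕ) : MvPolynomial (Fin 2) K) = 2 := by norm_num
        rw [this] at h2'
        have : x ^ (2 - 1) = x := by norm_num
        rw [this] at h2'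
        linear_combination h2'
      have h4 : 2 * D' x = q := mul_left_cancel₀ hx0 h3
      rw [← h4, ← mul_assoc, hC2, one_mul]
    · show D' (X 1) = D (X 1)
      rw [← hy, hDy, h1]

theorem main [NeZero (2 : K)]
    (δ : Derivation K (Algebra.adjoin K {(X 0 : MvPolynomial (Fin 2) K) ^ 2, X 0 * X 1, X 1})
      (MvPolynomial (Fin 2) K)) :
      ∃! D : Derivation K (MvPolynomial (Fin 2) K) (MvPolynomial (Fin 2) K),
        ∀ r : Algebra.adjoin K {(X 0 : MvPolynomial (Fin 2) K) ^ 2, X 0 * X 1, X 1},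
          D (r : MvPolynomial (Fin 2) K) = δ r := main' K (X 0) (X 1) rfl rfl δ

end


/-- Let K be a field in which 2 ≠ 0, S = K[x, y], and R ⊆ S the K-subalgebra generated by x^2, x y and
y; R is the coordinate ring of the pinch point u^2 = v^2 w (u = x y, v = y, w = x^2) and S is its
normalization. Then restriction along R ⊆ S is a bijection from the K-derivations S → S onto the
K-derivations R → S: every K-derivation R → S extends uniquely to S. In sheaf terms, the natural
injective map from the tangent sheaf of the normalization to the dual of the pulled-back sheaf of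
differentials of the pinch point is an isomorphism. (The text works over an algebraically closed
field of characteristic different from 2 and for every semi-smooth variety; only this model case is
stated, and the computation uses only 2 ≠ 0.) -/
theorem result
    (K : Type u) [Field K] [NeZero (2 : K)] :
    letI R : Subalgebra K (MvPolynomial (Fin 2) K) :=
      Algebra.adjoin K {MvPolynomial.X 0 ^ 2, MvPolynomial.X 0 * MvPolynomial.X 1, MvPolynomial.X 1}
    ∀ δ : Derivation K R (MvPolynomial (Fin 2) K),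
      ∃! D : Derivation K (MvPolynomial (Fin 2) K) (MvPolynomial (Fin 2) K),
        ∀ r : R, D (r : MvPolynomial (Fin 2) K) = δ r := by
  classical
  intro δ
  exact main K δ

end Groth.Agent.S18122
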