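import Groth.Statements.S18123
import Mathlib

set_option autoImplicit false
universe u
open Pinch

namespace Groth.Agent.S18123

section
open MvPolynomial
variable (K : Type*) [Field K]

/-- restriction to the line `y = 0`, as a polynomial in one variable -/
noncomputable def φ : MvPolynomial (Fin 2) K →ₐ[K] Polynomial K :=
  MvPolynomial.aeval ![Polynomial.X, 0]

/-- the inclusion of polynomials in `x` -/
noncomputable def ι : Polynomial K →ₐ[K] MvPolynomial (Fin 2) K :=
  Polynomial.aeval (X 0 : MvPolynomial (Fin 2) K)

theorem φ_X0 : φ K (X 0) = Polynomial.X := by simp [φ]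
theorem φ_X1 : φ K (X 1) = 0 := by simp [φ]
theorem ι_X : ι K Polynomial.X = X 0 := by simp [ι]

theorem sub_mem (p : MvPolynomial (Fin 2) K) :
    ∃ g, p - ι K (φ K p) = X 1 * g := by
  induction p using MvPolynomial.induction_on with
  | C a => exact ⟨0, by simp [φ, ι]⟩
  | add p q hp hq =>
    obtain ⟨a, ha⟩ := hp
    obtain ⟨b, hb⟩ := hq
    refine ⟨a + b, ?_⟩
    rw [map_add, map_add, mul_add, ← ha, ← hb]; ring
  | mul_X p i hp =>
    obtain ⟨a, ha⟩ := hp
    have hX : ∃ c, (X i : MvPolynomial (Fin 2) K) - ι K (φ K (X i)) = X 1 * c := by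
      fin_cases i
      · exact ⟨0, by simp [φ, ι]⟩
      · exact ⟨1, by simp [φ, ι]⟩
    obtain ⟨c, hc⟩ := hX
    refine ⟨a * X i + ι K (φ K p) * c, ?_⟩
    have : p * X i - ι K (φ K (p * X i)) = (p - ι K (φ K p)) * X i + ι K (φ K p) * (X i - ι K (φ K (X i))) := by
      rw [map_mul, map_mul]; ring
    rw [this, ha, hc]; ring

noncomputable abbrev Rr : Subalgebra K (MvPolynomial (Fin 2) K) :=
  Algebra.adjoin K {(X 0 : MvPolynomial (Fin 2) K) ^ 2, X 0 * X 1, X 1}

theorem mx2 : (X 0 : MvPolynomial (Fin 2) K) ^ 2 ∈ Rr K := Algebra.subset_adjoin (by simp)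
theorem mxy : (X 0 : MvPolynomial (Fin 2) K) * X 1 ∈ Rr K := Algebra.subset_adjoin (by simp)
theorem my : (X 1 : MvPolynomial (Fin 2) K) ∈ Rr K := Algebra.subset_adjoin (by simp)

theorem y_mul_mem (g : MvPolynomial (Fin 2) K) : X 1 * g ∈ Rr K ∧ X 0 * X 1 * g ∈ Rr K := by
  induction g using MvPolynomial.induction_on with
  | C a =>
    constructor
    · rw [mul_comm, ← MvPolynomial.smul_eq_C_mul]
      exact Subalgebra.smul_mem _ (my K) a
    · rw [mul_comm, ← MvPolynomial.smul_eq_C_mul]
      exact Subalgebra.smul_mem _ (mxy K) a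
  | add p q hp hq =>
    constructor
    · rw [mul_add]; exact add_mem hp.1 hq.1
    · rw [mul_add]; exact add_mem hp.2 hq.2
  | mul_X p i hp =>
    fin_cases i
    · constructor
      · have : (X 1 : MvPolynomial (Fin 2) K) * (p * X 0) = X 0 * X 1 * p := by ring
        show (X 1 : MvPolynomial (Fin 2) K) * (p * X 0) ∈ Rr K
        rw [this]; exact hp.2
      · have : (X 0 : MvPolynomial (Fin 2) K) * X 1 * (p * X 0) = X 0 ^ 2 * (X 1 * p) := by ring
        show (X 0 : MvPolynomial (Fin 2) K) * X 1 * (p * X 0) ∈ Rr K
        rw [this]; exact mul_mem (mx2 K) hp.1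
    · constructor
      · have : (X 1 : MvPolynomial (Fin 2) K) * (p * X 1) = (X 1 * p) * X 1 := by ring
        show (X 1 : MvPolynomial (Fin 2) K) * (p * X 1) ∈ Rr K
        rw [this]; exact mul_mem hp.1 (my K)
      · have : (X 0 : MvPolynomial (Fin 2) K) * X 1 * (p * X 1) = (X 0 * X 1 * p) * X 1 := by ring
        show (X 0 : MvPolynomial (Fin 2) K) * X 1 * (p * X 1) ∈ Rr K
        rw [this]; exact mul_mem hp.2 (my K)

theorem aeval_sq_mem (q : Polynomial K) : Polynomial.aeval ((X 0 : MvPolynomial (Fin 2) K) ^ 2) q ∈ Rr K := by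
  induction q using Polynomial.induction_on with
  | C a => rw [Polynomial.aeval_C]; exact Subalgebra.algebraMap_mem _ a
  | add p q hp hq => rw [map_add]; exact add_mem hp hq
  | monomial n a ih =>
    have : (Polynomial.C a * Polynomial.X ^ (n + 1) : Polynomial K) = (Polynomial.C a * Polynomial.X ^ n) * Polynomial.X := by
      rw [pow_succ, mul_assoc]
    rw [this, map_mul, Polynomial.aeval_X]
    exact mul_mem ih (mx2 K)

theorem mem_iff (f : MvPolynomial (Fin 2) K) :
    f ∈ Rr K ↔ ∃ q : Polynomial K, φ K f = Polynomial.expand K 2 q := by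
  constructor
  · intro hf
    induction hf using Algebra.adjoin_induction with
    | mem z hz =>
      simp only [Set.mem_insert_iff, Set.mem_singleton_iff] at hz
      rcases hz with rfl | rfl | rfl
      · exact ⟨Polynomial.X, by rw [map_pow, φ_X0, Polynomial.expand_X]⟩
      · exact ⟨0, by rw [map_mul, φ_X1, mul_zero, map_zero]⟩
      · exact ⟨0, by rw [φ_X1, map_zero]⟩
    | algebraMap k => exact ⟨Polynomial.C k, by simp [φ]⟩
    | add p q _ _ ihp ihq =>
      obtain ⟨a, ha⟩ := ihp
      obtain ⟨b, hb⟩ := ihq
      exact ⟨a + b, by rw [map_add, map_add, ha, hb]⟩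
    | mul p q _ _ ihp ihq =>
      obtain ⟨a, ha⟩ := ihp
      obtain ⟨b, hb⟩ := ihq
      exact ⟨a * b, by rw [map_mul, map_mul, ha, hb]⟩
  · rintro ⟨q, hq⟩
    obtain ⟨g, hg⟩ := sub_mem K f
    have : f = X 1 * g + ι K (φ K f) := by rw [← hg]; ring
    rw [this, hq]
    refine add_mem (y_mul_mem K g).1 ?_
    rw [ι, Polynomial.expand_aeval]
    exact aeval_sq_mem K q

theorem main [NeZero (2 : K)]
    (D : Derivation K (MvPolynomial (Fin 2) K) (MvPolynomial (Fin 2) K)) :
    (∀ r ∈ Rr K, D r ∈ Rr K) ↔
      (D (X 1) ∈ Ideal.span {(X 1 : MvPolynomial (Fin 2) K)} ∧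
        ∃ (s : MvPolynomial (Fin 2) K) (p : Polynomial K),
          D (X 0) = X 1 * s + X 0 * Polynomial.aeval ((X 0 : MvPolynomial (Fin 2) K) ^ 2) p) := by
  have h2 : (2 : K) ≠ 0 := NeZero.ne 2
  constructor
  · intro hD
    constructor
    · -- D y ∈ (y)
      obtain ⟨qB, hqB⟩ := (mem_iff K _).mp (hD _ (my K))
      obtain ⟨q', hq'⟩ := (mem_iff K _).mp (hD _ (mxy K))
      rw [Derivation.leibniz, map_add, smul_eq_mul, smul_eq_mul, map_mul, map_mul, φ_X0, φ_X1, zero_mul,
        add_zero, hqB] at hq'
      have hzero : qB = 0 := by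
        ext m
        have := congrArg (fun P => Polynomial.coeff P (2 * m + 1)) hq'
        simp only [Polynomial.coeff_X_mul] at this
        rw [Polynomial.coeff_expand (by norm_num), Polynomial.coeff_expand (by norm_num)] at this
        rw [if_pos (dvd_mul_right 2 m), if_neg (by omega)] at this
        simpa using this
      rw [hzero, map_zero] at hqB
      obtain ⟨g, hg⟩ := sub_mem K (D (X 1))
      rw [hqB, map_zero, sub_zero] at hg
      rw [Ideal.mem_span_singleton]
      exact ⟨g, hg⟩
    · obtain ⟨q'', hq''⟩ := (mem_iff K _).mp (hD _ (mx2 K))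
      rw [Derivation.leibniz_pow, map_nsmul, smul_eq_mul, map_mul, map_pow, φ_X0] at hq''
      have hc0 : q''.coeff 0 = 0 := by
        have := congrArg (fun P => Polynomial.coeff P 0) hq''
        simp only [nsmul_eq_mul] at this
        rw [Polynomial.coeff_expand (by norm_num)] at this
        simp at this
        exact this.symm
      obtain ⟨q₃, hq₃⟩ := Polynomial.X_dvd_iff.mpr hc0
      rw [hq₃, map_mul, Polynomial.expand_X] at hq''
      have hcancel : (2 : Polynomial K) * φ K (D (X 0)) = Polynomial.X * Polynomial.expand K 2 q₃ := by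
        have : Polynomial.X * ((2 : Polynomial K) * φ K (D (X 0))) =
            Polynomial.X * (Polynomial.X * Polynomial.expand K 2 q₃) := by
          simp only [nsmul_eq_mul] at hq''
          have e : ((2 : ℕ) : Polynomial K) = 2 := by norm_num
          rw [e] at hq''
          have e2 : (Polynomial.X : Polynomial K) ^ (2 - 1) = Polynomial.X := by norm_num
          rw [e2] at hq''
          linear_combination hq''
        exact mul_left_cancel₀ Polynomial.X_ne_zero this
      have h2P : (Polynomial.C (2⁻¹ : K)) * 2 = 1 := by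
        have : (2 : Polynomial K) = Polynomial.C 2 := (map_ofNat Polynomial.C 2).symm
        rw [this, ← Polynomial.C_mul, inv_mul_cancel₀ h2, Polynomial.C_1]
      have hφA : φ K (D (X 0)) = Polynomial.X * Polynomial.expand K 2 (Polynomial.C (2⁻¹ : K) * q₃) := by
        have : φ K (D (X 0)) = Polynomial.C (2⁻¹ : K) * ((2 : Polynomial K) * φ K (D (X 0))) := by
          rw [← mul_assoc, h2P, one_mul]
        rw [this, hcancel, map_mul, Polynomial.expand_C]; ring
      obtain ⟨s, hs⟩ := sub_mem K (D (X 0))
      refine ⟨s, Polynomial.C (2⁻¹ : K) * q₃, ?_⟩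
      have : D (X 0) = X 1 * s + ι K (φ K (D (X 0))) := by rw [← hs]; ring
      rw [this, hφA, map_mul, ι_X, ι, Polynomial.expand_aeval]
  · rintro ⟨hB, s, p, hA⟩
    obtain ⟨B', hB'⟩ := Ideal.mem_span_singleton.mp hB
    intro r hr
    induction hr using Algebra.adjoin_induction with
    | mem z hz =>
      simp only [Set.mem_insert_iff, Set.mem_singleton_iff] at hz
      rcases hz with rfl | rfl | rfl
      · rw [mem_iff]
        refine ⟨2 * Polynomial.X * p, ?_⟩
        rw [Derivation.leibniz_pow, map_nsmul, smul_eq_mul, map_mul, map_pow, φ_X0, hA, map_add, map_mul,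
          map_mul, φ_X1, φ_X0, zero_mul, zero_add]
        have : φ K (Polynomial.aeval ((X 0 : MvPolynomial (Fin 2) K) ^ 2) p) = Polynomial.expand K 2 p := by
          rw [← Polynomial.expand_aeval]
          have : (φ K).comp (Polynomial.aeval (X 0 : MvPolynomial (Fin 2) K)) = AlgHom.id K _ := by
            apply Polynomial.algHom_ext
            simp [φ_X0]
          exact congrArg (fun F : Polynomial K →ₐ[K] Polynomial K => F (Polynomial.expand K 2 p)) this
        rw [this, map_mul, map_mul, Polynomial.expand_X]
        simp only [nsmul_eq_mul]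
        have e : ((2 : ℕ) : Polynomial K) = 2 := by norm_num
        have e2 : (Polynomial.X : Polynomial K) ^ (2 - 1) = Polynomial.X := by norm_num
        have e3 : Polynomial.expand K 2 (2 : Polynomial K) = 2 := by
          have : (2 : Polynomial K) = Polynomial.C 2 := (map_ofNat Polynomial.C 2).symm
          rw [this, Polynomial.expand_C]
        rw [e, e2, e3]; ring
      · rw [mem_iff]
        refine ⟨0, ?_⟩
        rw [Derivation.leibniz, hB', hA]
        simp [φ_X0, φ_X1]
      · rw [mem_iff]
        refine ⟨0, ?_⟩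
        rw [hB']
        simp [φ_X1]
    | algebraMap k =>
      rw [Derivation.map_algebraMap]; exact zero_mem _
    | add p q _ _ ihp ihq => rw [map_add]; exact add_mem ihp ihq
    | mul p q hp hq ihp ihq =>
      rw [Derivation.leibniz]
      exact add_mem (mul_mem hp ihq) (mul_mem hq ihp)

end


/-- Let K be a field in which 2 ≠ 0, S = K[x, y], and R ⊆ S the K-subalgebra generated by x^2, x y, y,
the coordinate ring of the pinch point with normalization S, obtained by gluing the plane along the
line y = 0 via x ↦ -x. A K-derivation D of S maps R into R if and only if D(y) is a multiple of y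
and D(x) = y s + x p(x^2) for some s in S and some polynomial p in one variable. Every K-derivation
R → S extends uniquely to S, and under this identification the derivations mapping R into R form the
image of the tangent sheaf of the pinch point in that of its normalization; so this image contains y
times all derivations of S, and modulo those it is spanned by the odd multiples x^(2k+1) ∂/∂x, the
part of the tangent sheaf of the line y = 0 invariant under x ↦ -x. (The text works over an
algebraically closed field of characteristic different from 2; the computation uses only 2 ≠ 0.) -/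
theorem result
    (K : Type u) [Field K] [NeZero (2 : K)]
    (D : Derivation K (MvPolynomial (Fin 2) K) (MvPolynomial (Fin 2) K)) :
    letI x : MvPolynomial (Fin 2) K := MvPolynomial.X 0
    letI y : MvPolynomial (Fin 2) K := MvPolynomial.X 1
    letI R : Subalgebra K (MvPolynomial (Fin 2) K) := Algebra.adjoin K {x ^ 2, x * y, y}
    (∀ r ∈ R, D r ∈ R) ↔
      (D y ∈ Ideal.span {y} ∧
        ∃ (s : MvPolynomial (Fin 2) K) (p : Polynomial K), D x = y * s + x * Polynomial.aeval (x ^ 2) p) := by
  classical
  exact main K D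

end Groth.Agent.S18123
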