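import Groth.Statements.S18126
import Groth.Agent.Lib.Helper8.GSF1
import Groth.Agent.Lib.Helper2.Synt.BridgeMpr
import Groth.Agent.Lib.Helper2.Synt.LCICM
import Groth.Agent.Lib.Helper3.NLLci

set_option autoImplicit false
universe u
open Deform

namespace Groth.Agent.S18126

/-- Let A be a Noetherian ring in which 2 is invertible and P a flat A-algebra which is a local complete
intersection over A (of finite type, with Koszul-regular kernel for some polynomial presentation)
and whose fibres are generically smooth: every prime of P minimal among the primes of its fibre over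
A lies in the smooth locus of A → P. Then the first homology of the naive cotangent complex of P
over A vanishes, H_1(NL_{P/A}) = 0: for every presentation P = S/I by a polynomial A-algebra S the
conormal sequence 0 → I/I^2 → Ω_{S/A} ⊗_S P → Ω_{P/A} → 0 is exact on the left. Since the cotangent
complex of a local complete intersection is this two-term complex, it is quasi-isomorphic to Ω_{P/A}
in degree 0, which is the identification that makes T^1 = Ext^1(Ω_{P/A}, P) the degree-one
cohomology of RHom of the cotangent complex into P. (The text states the latter identification for a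
flat local complete intersection morphism of Noetherian schemes with generically smooth fibres; the
row is its affine content.) -/
theorem result
    (A : Type u) [CommRing A] [IsNoetherianRing A] (h2 : IsUnit (2 : A))
    (P : Type u) [CommRing P] [Algebra A P] [Module.Flat A P] (hlci : LCI.IsLCI A P)
    (hgs : ∀ 𝔓 : PrimeSpectrum P,
      (∀ 𝔔 : PrimeSpectrum P, 𝔔 ≤ 𝔓 →
          𝔔.asIdeal.comap (algebraMap A P) = 𝔓.asIdeal.comap (algebraMap A P) → 𝔔 = 𝔓) →
        𝔓 ∈ Algebra.smoothLocus A P) :
    Subsingleton (Algebra.H1Cotangent A P) := by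
  classical
  have hlci' := hlci
  obtain ⟨hft, n, f, hf, hKR⟩ := hlci
  haveI : Algebra.FiniteType A P := hft
  haveI : IsNoetherianRing P := Algebra.FiniteType.isNoetherianRing A P
  haveI : Algebra.FinitePresentation A P := Algebra.FinitePresentation.of_finiteType.mp hft
  by_contra hne
  rw [not_subsingleton_iff_nontrivial] at hne
  obtain ⟨𝔓, h𝔓⟩ := associatedPrimes.nonempty P (Algebra.H1Cotangent A P)
  haveI h𝔓p : 𝔓.IsPrime := h𝔓.isPrime
  have hae : (MvPolynomial.aeval (fun i => f (MvPolynomial.X i)) :
      MvPolynomial (Fin n) A →ₐ[A] P) = f := by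
    apply MvPolynomial.algHom_ext
    intro i
    simp
  let G : Algebra.Generators A P (Fin n) :=
    Algebra.Generators.ofSurjective (fun i => f (MvPolynomial.X i)) (by rw [hae]; exact hf)
  have hker : G.toExtension.ker = RingHom.ker f.toRingHom := by
    ext p
    simp only [RingHom.mem_ker]
    have h1 : algebraMap G.toExtension.Ring P p = f p := by
      have h2 := Algebra.Generators.algebraMap_apply G p
      rw [show G.val = fun i => f (MvPolynomial.X i) from rfl, hae] at h2
      exact h2
    rw [h1]
    rfl
  have hI : LCI.IsKoszulRegularIdeal G.toExtension.ker := by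
    rw [hker]
    exact hKR
  have hqr := Groth.Agent.Helper3.NLLci.isLocallyQuasiRegular_of_kr _ hI
  have hproj := Groth.Agent.Helper8.QRLoc.projective_of_isLocallyQuasiRegular hqr
  haveI hP : Module.Projective P G.toExtension.Cotangent :=
    Groth.Agent.Helper3.NLLci.projective_cotangent _ hproj
  have h1 : 𝔓 ∈ associatedPrimes P G.toExtension.H1Cotangent :=
    associatedPrimes.subset_of_injective (f := G.equivH1Cotangent.symm.toLinearMap)
      G.equivH1Cotangent.symm.injective h𝔓
  have h2 : 𝔓 ∈ associatedPrimes P G.toExtension.Cotangent :=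
    associatedPrimes.subset_of_injective (f := G.toExtension.h1Cotangentι)
      G.toExtension.h1Cotangentι_injective h1
  have h3 : 𝔓 ∈ associatedPrimes P P :=
    Groth.Agent.Helper8.GSF.mem_associatedPrimes_self_of_projective _ 𝔓 h2
  have hCM : ∀ (p : Ideal A) [p.IsPrime], LocCoh.IsCohenMacaulayRing (p.Fiber P) := by
    intro p _
    have hl := Groth.Agent.Helper3.KosBC.isLCI_baseChange A P p.ResidueField hlci'
    exact Groth.Agent.Helper2.Synt.isCohenMacaulayRing_of_isLCIOver _ _
      (Groth.Agent.Helper2.Synt.isLCIOver_of_isLCI _ _ hl)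
  have hs : (⟨𝔓, h𝔓p⟩ : PrimeSpectrum P) ∈ Algebra.smoothLocus A P := by
    apply hgs
    intro 𝔔 hle hc
    have h4 := Groth.Agent.Helper8.GSF.eq_of_le_of_mem_associatedPrimes 𝔓 h3 hCM 𝔔.asIdeal
      hle hc
    exact PrimeSpectrum.ext h4
  rw [Algebra.smoothLocus_eq_compl_support_inter] at hs
  exact hs.1 (Groth.Agent.Helper8.GSF.mem_support_of_mem_associatedPrimes ⟨𝔓, h𝔓p⟩ h𝔓)

end Groth.Agent.S18126
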