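import Groth.Statements.S18124
import Groth.Agent.S18126
import Groth.Agent.Lib.Helper8.GSF2
import Groth.Agent.Lib.Helper8.GSF3
import Groth.Agent.Lib.Helper2.Synt.BridgeMpr
import Groth.Agent.Lib.Helper2.Synt.LCICM
import Groth.Agent.Lib.Helper3.NLLci

set_option autoImplicit false
universe u
open CategoryTheory TensorProduct
open Deform

namespace Groth.Agent.S18124

/-- Let K be an algebraically closed field in which 2 ≠ 0, A a finitely generated K-algebra, and P a
flat A-algebra which is a local complete intersection over A (of finite type, with Koszul-regular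
kernel for some polynomial presentation) and whose fibres are generically smooth: every prime of P
that is minimal among the primes of its fibre over A lies in the smooth locus of A → P. Let J be an
ideal of A and P' := P/JP, so that Spec P' = Spec P ×_{Spec A} Spec (A/J) and Ω_{P'/A} =
Ω_{P'/(A/J)}. Then the P'-modules P' ⊗_P Ext^1_P(Ω_{P/A}, P) and Ext^1_{P'}(Ω_{P'/A}, P') are
isomorphic: the first cotangent sheaf T^1 of a flat local complete intersection morphism with
generically smooth fibres commutes with base change along a closed embedding. (The text constructs a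
natural base-change map and proves it is an isomorphism; only the existence of an isomorphism on
affine pieces is stated here, the natural map not being available as a named map.) -/
theorem result
    (K : Type u) [Field K] [IsAlgClosed K] [NeZero (2 : K)]
    (A : Type u) [CommRing A] [Algebra K A] [Algebra.FiniteType K A]
    (P : Type u) [CommRing P] [Algebra A P] [Module.Flat A P] (hlci : LCI.IsLCI A P)
    (hgs : ∀ 𝔓 : PrimeSpectrum P,
      (∀ 𝔔 : PrimeSpectrum P, 𝔔 ≤ 𝔓 →
          𝔔.asIdeal.comap (algebraMap A P) = 𝔓.asIdeal.comap (algebraMap A P) → 𝔔 = 𝔓) →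
        𝔓 ∈ Algebra.smoothLocus A P)
    (J : Ideal A) :
    Nonempty
      ((P ⧸ J.map (algebraMap A P)) ⊗[P]
          Abelian.Ext.{u} (ModuleCat.of P (KaehlerDifferential A P)) (ModuleCat.of P P) 1 ≃ₗ[P ⧸ J.map (algebraMap A P)]
        Abelian.Ext.{u}
          (ModuleCat.of (P ⧸ J.map (algebraMap A P)) (KaehlerDifferential A (P ⧸ J.map (algebraMap A P))))
          (ModuleCat.of (P ⧸ J.map (algebraMap A P)) (P ⧸ J.map (algebraMap A P))) 1) := by
  classical
  haveI : IsNoetherianRing A := Algebra.FiniteType.isNoetherianRing K A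
  have h2A : IsUnit (2 : A) := by
    have h := (isUnit_iff_ne_zero.mpr (NeZero.ne (2 : K))).map (algebraMap K A)
    rwa [map_ofNat] at h
  have hH1 : Subsingleton (Algebra.H1Cotangent A P) :=
    Groth.Agent.S18126.result A h2A P hlci hgs
  have hlci' := hlci
  obtain ⟨hft, n, f, hf, hKR⟩ := hlci
  haveI : Algebra.FiniteType A P := hft
  haveI : IsNoetherianRing P := Algebra.FiniteType.isNoetherianRing A P
  haveI : Algebra.FinitePresentation A P := Algebra.FinitePresentation.of_finiteType.mp hft
  have hae : (MvPolynomial.aeval (fun i => f (MvPolynomial.X i)) :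
      MvPolynomial (Fin n) A →ₐ[A] P) = f := by
    apply MvPolynomial.algHom_ext
    intro i
    simp
  let G : Algebra.Generators A P (Fin n) :=
    Algebra.Generators.ofSurjective (fun i => f (MvPolynomial.X i)) (by rw [hae]; exact hf)
  have hker : G.toExtension.ker = RingHom.ker f.toRingHom := by
    ext p
    simp only [RingHom.mem_ker]
    have h1 : algebraMap G.toExtension.Ring P p = f p := by
      have h2 := Algebra.Generators.algebraMap_apply G p
      rw [show G.val = fun i => f (MvPolynomial.X i) from rfl, hae] at h2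
      exact h2
    rw [h1]
    rfl
  have hI : LCI.IsKoszulRegularIdeal G.toExtension.ker := by
    rw [hker]
    exact hKR
  have hqr := Groth.Agent.Helper3.NLLci.isLocallyQuasiRegular_of_kr _ hI
  have hfg : G.toExtension.ker.FG := Groth.Agent.Helper8.QRLoc.fg_of_isLocallyQuasiRegular hqr
  have hproj := Groth.Agent.Helper8.QRLoc.projective_of_isLocallyQuasiRegular hqr
  haveI hF1f : Module.Finite P G.toExtension.Cotangent :=
    Groth.Agent.Helper3.NLLci.finite_cotangent _ hfg
  haveI hF1p : Module.Projective P G.toExtension.Cotangent :=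
    Groth.Agent.Helper3.NLLci.projective_cotangent _ hproj
  haveI hF0f : Module.Finite P G.toExtension.CotangentSpace :=
    Module.Finite.of_basis G.cotangentSpaceBasis
  haveI hF0p : Module.Projective P G.toExtension.CotangentSpace :=
    Module.Projective.of_basis G.cotangentSpaceBasis
  -- the conormal sequence
  have hi : Function.Injective G.toExtension.cotangentComplex := by
    rw [← LinearMap.ker_eq_bot]
    haveI h1 : Subsingleton G.toExtension.H1Cotangent := G.equivH1Cotangent.toEquiv.subsingleton
    haveI h2 : Subsingleton ↥(LinearMap.ker G.toExtension.cotangentComplex) := h1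
    exact Submodule.eq_bot_of_subsingleton
  have hπ : Function.Surjective G.toExtension.toKaehler := G.toExtension.toKaehler_surjective
  have hex : Function.Exact G.toExtension.cotangentComplex G.toExtension.toKaehler :=
    G.toExtension.exact_cotangentComplex_toKaehler
  -- the fibres are Cohen–Macaulay
  have hCM : ∀ (p : Ideal A) [p.IsPrime], LocCoh.IsCohenMacaulayRing (p.Fiber P) := by
    intro p _
    have hl := Groth.Agent.Helper3.KosBC.isLCI_baseChange A P p.ResidueField hlci'
    exact Groth.Agent.Helper2.Synt.isCohenMacaulayRing_of_isLCIOver _ _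
      (Groth.Agent.Helper2.Synt.isLCIOver_of_isLCI _ _ hl)
  -- splitting at the associated primes of `P / JP`
  let eJ := (Algebra.TensorProduct.quotIdealMapEquivTensorQuot P J).toLinearEquiv
  have hsplit : ∀ q ∈ associatedPrimes P (P ⧸ J.map (algebraMap A P)), ∃ s : P, s ∉ q ∧
      ∃ r : G.toExtension.CotangentSpace →ₗ[P] G.toExtension.Cotangent,
        r ∘ₗ G.toExtension.cotangentComplex = s • LinearMap.id := by
    intro q hq
    have hq' : q ∈ associatedPrimes P (P ⊗[A] (A ⧸ J)) :=
      associatedPrimes.subset_of_injective (f := eJ.toLinearMap) eJ.injective hq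
    refine Groth.Agent.Helper8.GSF.ass_tensor_pred (R := A) (S := P) P
      (fun q => ∃ s : P, s ∉ q ∧
        ∃ r : G.toExtension.CotangentSpace →ₗ[P] G.toExtension.Cotangent,
          r ∘ₗ G.toExtension.cotangentComplex = s • LinearMap.id) ?_ (A ⧸ J) inferInstance q hq'
    intro p 𝔓 _ h𝔓 _ h4
    have hs : (⟨𝔓, h𝔓⟩ : PrimeSpectrum P) ∈ Algebra.smoothLocus A P := by
      apply hgs
      intro 𝔔 hle hc
      exact PrimeSpectrum.ext
        (Groth.Agent.Helper8.GSF.eq_of_le_of_fiberIdeal_mem p (hCM p) 𝔓 h4 𝔔.asIdeal hle hc)
    rw [Algebra.smoothLocus_eq_compl_support_inter] at hs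
    have hfree := Module.mem_freeLocus.mp hs.2
    exact Groth.Agent.Helper8.GSF.exists_smul_retraction G.toExtension.cotangentComplex
      G.toExtension.toKaehler hi hπ hex 𝔓 inferInstance
  have hinj : Function.Injective
      (G.toExtension.cotangentComplex.lTensor (P ⧸ J.map (algebraMap A P))) :=
    Groth.Agent.Helper8.GSF.injective_lTensor_of_forall_ass _ _ hsplit
  have hi' : Function.Injective
      (G.toExtension.cotangentComplex.baseChange (P ⧸ J.map (algebraMap A P))) := by
    rw [LinearMap.baseChange_eq_ltensor]
    exact hinj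
  -- the two Ext computations
  obtain ⟨eP⟩ := Groth.Agent.Helper8.GSF.nonempty_ext_one_equiv (N := P)
    G.toExtension.cotangentComplex G.toExtension.toKaehler hi hπ hex
  let κ : (P ⧸ J.map (algebraMap A P)) ⊗[P] Ω[P⁄A] ≃ₗ[P ⧸ J.map (algebraMap A P)]
      Ω[(P ⧸ J.map (algebraMap A P))⁄A] :=
    LinearEquiv.ofBijective _ (Groth.Agent.Helper8.GSF.kaehler_mapBaseChange_bijective A P J)
  let π' : (P ⧸ J.map (algebraMap A P)) ⊗[P] G.toExtension.CotangentSpace
      →ₗ[P ⧸ J.map (algebraMap A P)] Ω[(P ⧸ J.map (algebraMap A P))⁄A] :=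
    κ.toLinearMap ∘ₗ G.toExtension.toKaehler.baseChange (P ⧸ J.map (algebraMap A P))
  have hπ0 : Function.Surjective
      (G.toExtension.toKaehler.baseChange (P ⧸ J.map (algebraMap A P))) := by
    rw [LinearMap.baseChange_eq_ltensor]
    exact LinearMap.lTensor_surjective _ hπ
  have hπ' : Function.Surjective π' := κ.surjective.comp hπ0
  have hex0 : Function.Exact
      (G.toExtension.cotangentComplex.baseChange (P ⧸ J.map (algebraMap A P)))
      (G.toExtension.toKaehler.baseChange (P ⧸ J.map (algebraMap A P))) := by
    rw [LinearMap.baseChange_eq_ltensor, LinearMap.baseChange_eq_ltensor]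
    exact lTensor_exact _ hex hπ
  have hex' : Function.Exact
      (G.toExtension.cotangentComplex.baseChange (P ⧸ J.map (algebraMap A P))) π' := by
    intro y
    change κ ((G.toExtension.toKaehler.baseChange (P ⧸ J.map (algebraMap A P))) y) = 0 ↔ _
    rw [LinearEquiv.map_eq_zero_iff]
    exact hex0 y
  obtain ⟨eP'⟩ := Groth.Agent.Helper8.GSF.nonempty_ext_one_equiv
    (N := P ⧸ J.map (algebraMap A P))
    (G.toExtension.cotangentComplex.baseChange (P ⧸ J.map (algebraMap A P))) π' hi' hπ' hex'
  obtain ⟨eD⟩ := Groth.Agent.Helper8.GSF.nonempty_baseChange_coker_dual_equiv P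
    (P ⧸ J.map (algebraMap A P)) G.toExtension.cotangentComplex
  exact ⟨((TensorProduct.AlgebraTensorModule.congr
    (LinearEquiv.refl (P ⧸ J.map (algebraMap A P)) (P ⧸ J.map (algebraMap A P))) eP.symm).trans
    eD).trans eP'⟩

end Groth.Agent.S18124
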