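import Groth.Statements.S18125
import Mathlib

set_option autoImplicit false
universe u
open Pinch

namespace Groth.Agent.S18125

section
open MvPolynomial
variable (K : Type*) [Field K] [NeZero (2 : K)] (n : ℕ)

local notation "P" => MvPolynomial (Fin (n + 3)) K

noncomputable def ψ : MvPolynomial (Fin (n + 3)) K →ₐ[K] MvPolynomial (Fin (n + 3)) K :=
  MvPolynomial.aeval (fun i : Fin (n + 3) => if i = 0 ∨ i = 2 then (0 : MvPolynomial (Fin (n + 3)) K) else X i)

theorem ψ_X0 : ψ K n (X 0) = 0 := by simp [ψ]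
theorem ψ_X2 : ψ K n (X 2) = 0 := by simp [ψ]
theorem ψ_X1 : ψ K n (X 1) = X 1 := by
  have h12 : (1 : Fin (n + 3)) ≠ 2 := by
    intro h
    have := congrArg Fin.val h
    rw [Fin.val_one, Fin.val_two] at this
    omega
  have h10 : (1 : Fin (n + 3)) ≠ 0 := by
    intro h
    have := congrArg Fin.val h
    rw [Fin.val_one, Fin.val_zero] at this
    omega
  have h1 : ¬ ((1 : Fin (n + 3)) = 0 ∨ (1 : Fin (n + 3)) = 2) := by
    rintro (h | h)
    · exact h10 h
    · exact h12 h
  rw [ψ, aeval_X, if_neg h1]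

theorem sub_ψ_mem (p : MvPolynomial (Fin (n + 3)) K) :
    p - ψ K n p ∈ Ideal.span {(X 0 : MvPolynomial (Fin (n + 3)) K), X 2} := by
  induction p using MvPolynomial.induction_on with
  | C a => simp [ψ]
  | add p q hp hq =>
    have : p + q - ψ K n (p + q) = (p - ψ K n p) + (q - ψ K n q) := by rw [map_add]; ring
    rw [this]; exact Ideal.add_mem _ hp hq
  | mul_X p i hp =>
    have hX : (X i : MvPolynomial (Fin (n + 3)) K) - ψ K n (X i) ∈ Ideal.span {(X 0 : MvPolynomial (Fin (n + 3)) K), X 2} := by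
      by_cases hi : i = 0 ∨ i = 2
      · have : ψ K n (X i) = 0 := by simp [ψ, hi]
        rw [this, sub_zero]
        rcases hi with rfl | rfl
        · exact Ideal.subset_span (by simp)
        · exact Ideal.subset_span (by simp)
      · have : ψ K n (X i) = X i := by simp [ψ, hi]
        rw [this, sub_self]; exact zero_mem _
    have : p * X i - ψ K n (p * X i) = (p - ψ K n p) * X i + ψ K n p * (X i - ψ K n (X i)) := by
      rw [map_mul]; ring
    rw [this]
    exact Ideal.add_mem _ (Ideal.mul_mem_right _ _ hp) (Ideal.mul_mem_left _ _ hX)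

theorem main :
    Ideal.span {(X 0 : MvPolynomial (Fin (n + 3)) K), X 1} =
      Ideal.span {(X 0 : MvPolynomial (Fin (n + 3)) K) ^ 2 - X 1 ^ 2 * X 2, 2 * X 0, -(2 * X 1 * X 2), -(X 1 ^ 2)} ⊔ Ideal.span {X 1} ∧
    (Ideal.span {(X 0 : MvPolynomial (Fin (n + 3)) K) ^ 2 - X 1 ^ 2 * X 2, 2 * X 0, -(2 * X 1 * X 2), -(X 1 ^ 2)}).colon ((Ideal.span {(X 1 : MvPolynomial (Fin (n + 3)) K)} : Ideal _) : Set (MvPolynomial (Fin (n + 3)) K)) =
      Ideal.span {X 0, X 1, X 2} := by
  obtain ⟨u, hu⟩ : ∃ u : MvPolynomial (Fin (n + 3)) K, u = X 0 := ⟨_, rfl⟩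
  obtain ⟨v, hv⟩ : ∃ v : MvPolynomial (Fin (n + 3)) K, v = X 1 := ⟨_, rfl⟩
  obtain ⟨w, hw⟩ : ∃ w : MvPolynomial (Fin (n + 3)) K, w = X 2 := ⟨_, rfl⟩
  rw [← hu, ← hv, ← hw]
  obtain ⟨Jac, hJac⟩ : ∃ J : Ideal (MvPolynomial (Fin (n + 3)) K), J = Ideal.span {u ^ 2 - v ^ 2 * w, 2 * u, -(2 * v * w), -(v ^ 2)} := ⟨_, rfl⟩
  rw [← hJac]
  have h2 : (2 : K) ≠ 0 := NeZero.ne 2
  have hC2 : (C (2⁻¹ : K) : MvPolynomial (Fin (n + 3)) K) * 2 = 1 := by
    have : (2 : MvPolynomial (Fin (n + 3)) K) = C (2 : K) := (map_ofNat C 2).symm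
    rw [this, ← C_mul, inv_mul_cancel₀ h2, C_1]
  have g1 : u ^ 2 - v ^ 2 * w ∈ Jac := by rw [hJac]; exact Ideal.subset_span (by simp)
  have g2 : 2 * u ∈ Jac := by rw [hJac]; exact Ideal.subset_span (by simp)
  have g3 : -(2 * v * w) ∈ Jac := by rw [hJac]; exact Ideal.subset_span (by simp)
  have g4 : -(v ^ 2) ∈ Jac := by rw [hJac]; exact Ideal.subset_span (by simp)
  have huJ : u ∈ Jac := by
    have : u = C (2⁻¹ : K) * (2 * u) := by rw [← mul_assoc, hC2, one_mul]
    rw [this]; exact Ideal.mul_mem_left _ _ g2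
  have hvwJ : v * w ∈ Jac := by
    have : v * w = - (C (2⁻¹ : K) * (-(2 * v * w))) := by
      have : C (2⁻¹ : K) * (-(2 * v * w)) = - ((C (2⁻¹ : K) * 2) * (v * w)) := by ring
      rw [this, hC2]; ring
    rw [this]; exact neg_mem (Ideal.mul_mem_left _ _ g3)
  have hv2J : v ^ 2 ∈ Jac := by
    have : v ^ 2 = - (-(v ^ 2)) := by ring
    rw [this]; exact neg_mem g4
  constructor
  · apply le_antisymm
    · rw [Ideal.span_le]
      intro x hx
      simp only [Set.mem_insert_iff, Set.mem_singleton_iff] at hx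
      rcases hx with rfl | rfl
      · exact Ideal.mem_sup_left huJ
      · exact Ideal.mem_sup_right (Ideal.subset_span rfl)
    · apply sup_le
      · rw [hJac, Ideal.span_le]
        intro x hx
        simp only [Set.mem_insert_iff, Set.mem_singleton_iff] at hx
        rcases hx with rfl | rfl | rfl | rfl
        · exact Ideal.mem_span_pair.mpr ⟨u, -(v * w), by ring⟩
        · exact Ideal.mem_span_pair.mpr ⟨2, 0, by ring⟩
        · exact Ideal.mem_span_pair.mpr ⟨0, -(2 * w), by ring⟩
        · exact Ideal.mem_span_pair.mpr ⟨0, -v, by ring⟩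
      · rw [Ideal.span_le]
        intro x hx
        rw [Set.mem_singleton_iff] at hx
        rw [hx]; exact Ideal.subset_span (by simp)
  · ext p
    rw [Ideal.mem_colon_span_singleton]
    constructor
    · intro hp
      -- apply ψ
      have hψJ : Jac.map (ψ K n).toRingHom ≤ Ideal.span {v ^ 2} := by
        rw [hJac, Ideal.map_span, Ideal.span_le]
        rintro _ ⟨x, hx, rfl⟩
        simp only [Set.mem_insert_iff, Set.mem_singleton_iff] at hx
        have e0 : ψ K n u = 0 := by rw [hu]; exact ψ_X0 K n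
        have e1 : ψ K n v = v := by rw [hv]; exact ψ_X1 K n
        have e2 : ψ K n w = 0 := by rw [hw]; exact ψ_X2 K n
        rcases hx with rfl | rfl | rfl | rfl
        · simp [e0, e1, e2]
        · simp [e0]
        · simp [e2]
        · simp only [AlgHom.toRingHom_eq_coe, RingHom.coe_coe, map_neg, map_pow, e1]
          exact neg_mem (Ideal.subset_span rfl)
      have h1 : ψ K n (p * v) ∈ Ideal.span {v ^ 2} := hψJ (Ideal.mem_map_of_mem _ hp)
      have e1 : ψ K n v = v := by rw [hv]; exact ψ_X1 K n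
      rw [map_mul, e1, Ideal.mem_span_singleton] at h1
      obtain ⟨q, hq⟩ := h1
      have hv0 : v ≠ 0 := by rw [hv]; exact X_ne_zero 1
      have h2 : ψ K n p = v * q := by
        have : ψ K n p * v = (v * q) * v := by rw [hq]; ring
        exact mul_right_cancel₀ hv0 this
      have h3 := sub_ψ_mem K n p
      rw [← hu, ← hw] at h3
      obtain ⟨a, b, hab⟩ := Ideal.mem_span_pair.mp h3
      have : p = a * u + q * v + b * w := by
        have : p = (p - ψ K n p) + ψ K n p := by ring
        rw [this, ← hab, h2]; ring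
      rw [this]
      refine Ideal.add_mem _ (Ideal.add_mem _ ?_ ?_) ?_
      · exact Ideal.mul_mem_left _ _ (Ideal.subset_span (by simp))
      · exact Ideal.mul_mem_left _ _ (Ideal.subset_span (by simp))
      · exact Ideal.mul_mem_left _ _ (Ideal.subset_span (by simp))
    · intro hp
      rw [Ideal.mem_span_insert] at hp
      obtain ⟨a, z, hz, rfl⟩ := hp
      obtain ⟨b, c, rfl⟩ := Ideal.mem_span_pair.mp hz
      have : (a * u + (b * v + c * w)) * v = (a * v) * u + b * v ^ 2 + c * (v * w) := by ring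
      rw [this]
      exact Ideal.add_mem _ (Ideal.add_mem _ (Ideal.mul_mem_left _ _ huJ) (Ideal.mul_mem_left _ _ hv2J))
        (Ideal.mul_mem_left _ _ hvwJ)

end


/-- Let K be a field in which 2 ≠ 0, n ≥ 0, S = K[u, v, w, t_1, …, t_n] (u, v, w the first three
variables), h = u^2 - v^2 w the equation of the pinch-point model, and Jac the ideal generated by h
and its three partial derivatives 2u, -2vw, -v^2, which cuts out the scheme-theoretic singular locus
of {h = 0}. Then the ideal (u, v) of the double locus is Jac + (v), and the colon ideal of Jac by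
(v) is (u, v, w). Consequently (u, v)/Jac, the ideal of the double locus restricted to the singular
locus, is an invertible sheaf on the pinch locus u = v = w = 0: it is free of rank one over K[t_1,
…, t_n] on the class of v. (The text states this for every semi-smooth variety and reduces to this
model; K algebraically closed is not needed for the model computation.) -/
theorem result
    (K : Type u) [Field K] [NeZero (2 : K)] (n : ℕ) :
    letI u : MvPolynomial (Fin (n + 3)) K := MvPolynomial.X 0
    letI v : MvPolynomial (Fin (n + 3)) K := MvPolynomial.X 1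
    letI w : MvPolynomial (Fin (n + 3)) K := MvPolynomial.X 2
    letI Jac : Ideal (MvPolynomial (Fin (n + 3)) K) :=
      Ideal.span {u ^ 2 - v ^ 2 * w, 2 * u, -(2 * v * w), -(v ^ 2)}
    Ideal.span {u, v} = Jac ⊔ Ideal.span {v} ∧ Jac.colon (Ideal.span {v}) = Ideal.span {u, v, w} := by
  classical
  exact main K n

end Groth.Agent.S18125
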