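import Groth.Statements.S18127
import Mathlib

set_option autoImplicit false
universe u
open LocAlg

namespace Groth.Agent.S18127

open Matrix

section
variable {R : Type u} [CommRing R] [IsLocalRing R]

/-- a product over all indices with the factors in a subset lying in `I` is in the power of `I` -/
theorem prod_mem_pow {ι : Type*} [Fintype ι] [DecidableEq ι] (I : Ideal R) (x : ι → R) (Z : Finset ι)
    (hZ : ∀ i ∈ Z, x i ∈ I) : ∏ i, x i ∈ I ^ Z.card := by
  rw [← Finset.prod_mul_prod_compl Z x]
  apply Ideal.mul_mem_right
  have := Ideal.prod_mem_prod (s := Z) (I := fun _ => I) (x := x) hZ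
  rwa [Finset.prod_const] at this

end

/-- Let R be a local ring with maximal ideal m and algebraically closed residue field, and M an n × n
matrix over R whose reduction modulo m has rank at most r. Then the determinant of M lies in m^(n −
r). (The published setting is the local ring of germs of holomorphic functions at a point of a
complex manifold, where this says that the determinant vanishes to order at least n − r at a point
where the matrix has rank at most r.) -/
theorem result
    {R : Type u} [CommRing R] [IsLocalRing R] [IsAlgClosed (IsLocalRing.ResidueField R)]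
    {n : ℕ} (M : Matrix (Fin n) (Fin n) R) (r : ℕ)
    (hr : (M.map (IsLocalRing.residue R)).rank ≤ r) :
    M.det ∈ IsLocalRing.maximalIdeal R ^ (n - r) := by
  classical
  -- the rank normal form of the reduction
  obtain ⟨V', U', e, hV', hU', hVU⟩ := Matrix.exists_rank_normal_form (M.map (IsLocalRing.residue R))
  -- lift V' and U'
  have hsurj := IsLocalRing.residue_surjective (R := R)
  choose lift hlift using hsurj
  let V : Matrix (Fin n) (Fin n) R := fun i j => lift (V' i j)
  let U : Matrix (Fin n) (Fin n) R := fun i j => lift (U' i j)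
  have hVmap : V.map (IsLocalRing.residue R) = V' := by
    ext i j; exact hlift _
  have hUmap : U.map (IsLocalRing.residue R) = U' := by
    ext i j; exact hlift _
  have hVdet : IsUnit V.det := by
    rw [← IsLocalRing.residue_ne_zero_iff_isUnit]
    have h1 : IsLocalRing.residue R V.det = V'.det := by
      rw [RingHom.map_det, RingHom.mapMatrix_apply, hVmap]
    rw [h1]
    exact ((Matrix.isUnit_iff_isUnit_det _).1 hV').ne_zero
  have hUdet : IsUnit U.det := by
    rw [← IsLocalRing.residue_ne_zero_iff_isUnit]
    have h1 : IsLocalRing.residue R U.det = U'.det := by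
      rw [RingHom.map_det, RingHom.mapMatrix_apply, hUmap]
    rw [h1]
    exact ((Matrix.isUnit_iff_isUnit_det _).1 hU').ne_zero
  -- the matrix N
  have hNmap : (V * M * U).map (IsLocalRing.residue R) =
      (fromBlocks (1 : Matrix (Fin (M.map (IsLocalRing.residue R)).rank) (Fin (M.map (IsLocalRing.residue R)).rank) _) 0 0 0).submatrix e e := by
    rw [Matrix.map_mul, Matrix.map_mul, hVmap, hUmap, hVU]
  have hNdet : (V * M * U).det ∈ IsLocalRing.maximalIdeal R ^ (n - r) := by
    rw [Matrix.det_apply]
    apply Ideal.sum_mem
    intro σ _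
    have hterm : ∏ i, (V * M * U) (σ i) i ∈ IsLocalRing.maximalIdeal R ^ (n - r) := by
      let emb : Fin (Fintype.card (Fin n) - (M.map (IsLocalRing.residue R)).rank) ↪ Fin n :=
        ⟨fun b => e.symm (Sum.inr b), fun b b' h => Sum.inr_injective (e.symm.injective h)⟩
      have hZ : ∀ i ∈ (Finset.univ.map emb), (V * M * U) (σ i) i ∈ IsLocalRing.maximalIdeal R := by
        intro i hi
        rw [Finset.mem_map] at hi
        obtain ⟨b, _, hb⟩ := hi
        have hb' : e i = Sum.inr b := by
          rw [← hb]
          exact e.apply_symm_apply _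
        rw [← IsLocalRing.residue_eq_zero_iff]
        have h1 := congrFun (congrFun hNmap (σ i)) i
        rw [Matrix.map_apply] at h1
        rw [h1, Matrix.submatrix_apply, hb']
        cases e (σ i) <;> simp
      have h2 := prod_mem_pow (IsLocalRing.maximalIdeal R) (fun i => (V * M * U) (σ i) i) _ hZ
      refine Ideal.pow_le_pow_right ?_ h2
      rw [Finset.card_map, Finset.card_univ, Fintype.card_fin, Fintype.card_fin]
      omega
    rcases Int.units_eq_one_or (Equiv.Perm.sign σ) with h | h
    · rw [h, one_smul]; exact hterm
    · rw [h, Units.neg_smul, one_smul]; exact neg_mem hterm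
  rw [Matrix.det_mul, Matrix.det_mul] at hNdet
  have h4 : M.det = ((hVdet.unit⁻¹ : Rˣ) : R) * ((hUdet.unit⁻¹ : Rˣ) : R) * (V.det * M.det * U.det) := by
    have e1 : ((hVdet.unit⁻¹ : Rˣ) : R) * V.det = 1 := IsUnit.val_inv_mul hVdet
    have e2 : ((hUdet.unit⁻¹ : Rˣ) : R) * U.det = 1 := IsUnit.val_inv_mul hUdet
    calc M.det = (((hVdet.unit⁻¹ : Rˣ) : R) * V.det) * (((hUdet.unit⁻¹ : Rˣ) : R) * U.det) * M.det := by
          rw [e1, e2, one_mul, one_mul]
      _ = _ := by ring
  rw [h4]
  exact Ideal.mul_mem_left _ _ hNdet

end Groth.Agent.S18127
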