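import Groth.Statements.S18136
import Mathlib

set_option autoImplicit false
universe u v
open IsLocalRing
open CAlg

namespace Groth.Agent.S18136

private lemma li_of {R S : Type u} [CommRing R] [CommRing S] [IsLocalRing R] [IsLocalRing S]
    (ψ : R →+* S) [IsLocalHom ψ] {κ : Type*} [Fintype κ]
    (v : κ → maximalIdeal R) (w : κ → maximalIdeal S) (hvw : ∀ i, ψ (v i : R) = (w i : S))
    (hw : LinearIndependent (ResidueField S) (⇑(maximalIdeal S).toCotangent ∘ w)) :
    LinearIndependent (ResidueField R) (⇑(maximalIdeal R).toCotangent ∘ v) := by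
  rw [Fintype.linearIndependent_iff] at hw ⊢
  intro g hg i
  choose l hl using fun i => residue_surjective (g i)
  have hsm : ∀ (T : Type u) [CommRing T] [IsLocalRing T] (r : T) (x : CotangentSpace T),
      residue T r • x = r • x := by
    intro T _ _ r x
    rw [← ResidueField.algebraMap_eq, algebraMap_smul]
  have h1 : (maximalIdeal R).toCotangent (∑ i, l i • v i) = 0 := by
    rw [map_sum, ← hg]
    refine Finset.sum_congr rfl fun i _ => ?_
    rw [map_smul, ← hl i, Function.comp_apply, hsm]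
  rw [Ideal.toCotangent_eq_zero] at h1
  have h2 : ψ ((∑ i, l i • v i : maximalIdeal R) : R) ∈ maximalIdeal S ^ 2 := by
    have := Ideal.mem_map_of_mem ψ h1
    rw [Ideal.map_pow] at this
    exact Ideal.pow_right_mono (map_maximalIdeal_le ψ) 2 this
  have h3 : (maximalIdeal S).toCotangent (∑ i, ψ (l i) • w i) = 0 := by
    rw [Ideal.toCotangent_eq_zero]
    convert h2 using 1
    simp only [Submodule.coe_sum, Submodule.coe_smul, smul_eq_mul, map_sum, map_mul, hvw]
  rw [map_sum] at h3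
  have h4 : ∑ i, residue S (ψ (l i)) • (⇑(maximalIdeal S).toCotangent ∘ w) i = 0 := by
    rw [← h3]
    refine Finset.sum_congr rfl fun i _ => ?_
    rw [map_smul, Function.comp_apply, hsm]
  have h5 := hw _ h4 i
  rw [residue_eq_zero_iff] at h5
  rw [← hl i, residue_eq_zero_iff]
  by_contra hn
  have hu : IsUnit (l i) := by
    rwa [mem_maximalIdeal, mem_nonunits_iff, not_not] at hn
  exact ((mem_maximalIdeal _).1 h5) (hu.map ψ)

theorem result
    {A : Type u} [CommRing A] [IsRegularLocalRing A]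
    {ι : Type v} [Preorder ι] [Nonempty ι] [IsDirected ι (· ≤ ·)]
    (B : ι → Type u) [∀ j, CommRing (B j)] [∀ j, IsRegularLocalRing (B j)]
    (φ : ∀ i j, i ≤ j → (B i →+* B j)) (hφloc : ∀ i j (h : i ≤ j), IsLocalHom (φ i j h))
    (hφ : ∀ i j l (hij : i ≤ j) (hjl : j ≤ l), (φ j l hjl).comp (φ i j hij) = φ i l (hij.trans hjl))
    (ψ : ∀ j, B j →+* A) (hψ : ∀ i j (h : i ≤ j), (ψ j).comp (φ i j h) = ψ i)
    (hsurj : ∀ a : A, ∃ j, ∃ x : B j, ψ j x = a)
    (hker : ∀ j (x : B j), ψ j x = 0 → ∃ l, ∃ h : j ≤ l, φ j l h x = 0)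
    (c d : ℕ) (f : Fin c → maximalIdeal A) (g : Fin d → maximalIdeal A)
    (hind : LinearIndependent (ResidueField A) (⇑(maximalIdeal A).toCotangent ∘ Sum.elim f g)) :
    ∃ j₀ : ι, ∃ (P : ∀ j, j₀ ≤ j → Ideal (B j)) (Q : ∀ j, j₀ ≤ j → Ideal (B j)),
      (∀ j (hj : j₀ ≤ j), ∃ (F : Fin c → maximalIdeal (B j)) (E : Fin d → maximalIdeal (B j)),
        LinearIndependent (ResidueField (B j)) (⇑(maximalIdeal (B j)).toCotangent ∘ Sum.elim F E) ∧
        P j hj = Ideal.span (Set.range (fun s => (F s : B j))) ∧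
        Q j hj = P j hj ⊔ Ideal.span (Set.range (fun t => (E t : B j)))) ∧
      (∀ i j (hi : j₀ ≤ i) (hij : i ≤ j),
        (P i hi).map (φ i j hij) = P j (le_trans hi hij) ∧ (Q i hi).map (φ i j hij) = Q j (le_trans hi hij)) ∧
      (∀ j (hj : j₀ ≤ j),
        (P j hj).map (ψ j) = Ideal.span (Set.range (fun s => (f s : A))) ∧
        (Q j hj).map (ψ j) = Ideal.span (Set.range (fun s => (f s : A))) ⊔ Ideal.span (Set.range (fun t => (g t : A)))) := by
  classical
  have hφa : ∀ i j l (hij : i ≤ j) (hjl : j ≤ l) (x : B i),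
      φ j l hjl (φ i j hij x) = φ i l (hij.trans hjl) x := by
    intro i j l hij hjl x
    rw [← hφ i j l hij hjl]; rfl
  have hψa : ∀ i j (h : i ≤ j) (x : B i), ψ j (φ i j h x) = ψ i x := by
    intro i j h x
    rw [← hψ i j h]; rfl
  have hψloc : ∀ j, IsLocalHom (ψ j) := by
    intro j
    refine ⟨fun x hx => ?_⟩
    obtain ⟨a, ha⟩ := isUnit_iff_exists_inv.1 hx
    obtain ⟨l, y, hy⟩ := hsurj a
    obtain ⟨l', hjl', hll'⟩ := exists_ge_ge j l
    have h0 : ψ l' (φ j l' hjl' x * φ l l' hll' y - 1) = 0 := by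
      rw [map_sub, map_mul, map_one, hψa, hψa, hy, ha, sub_self]
    obtain ⟨l'', hl'', h1⟩ := hker l' _ h0
    rw [map_sub, map_mul, map_one, sub_eq_zero, hφa] at h1
    have hu : IsUnit (φ j l'' (hjl'.trans hl'') x) := isUnit_iff_exists_inv.2 ⟨_, h1⟩
    haveI := hφloc j l'' (hjl'.trans hl'')
    exact isUnit_of_map_unit _ _ hu
  have hmem : ∀ j (y : B j), ψ j y ∈ maximalIdeal A → y ∈ maximalIdeal (B j) := by
    intro j y hy
    rw [mem_maximalIdeal, mem_nonunits_iff] at hy ⊢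
    exact fun hu => hy (hu.map (ψ j))
  -- lifts
  let v' : Fin c ⊕ Fin d → maximalIdeal A := Sum.elim f g
  choose jj x hx using fun i : Fin c ⊕ Fin d => hsurj (v' i : A)
  obtain ⟨j₀, hj₀⟩ := Finite.exists_le jj
  let x₀ : Fin c ⊕ Fin d → B j₀ := fun i => φ (jj i) j₀ (hj₀ i) (x i)
  have hx₀ : ∀ i, ψ j₀ (x₀ i) = (v' i : A) := fun i => by
    simp only [x₀]; rw [hψa, hx]
  have hxj : ∀ j (hj : j₀ ≤ j) i, ψ j (φ j₀ j hj (x₀ i)) = (v' i : A) := fun j hj i => by
    rw [hψa, hx₀]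
  have hmj : ∀ j (hj : j₀ ≤ j) i, φ j₀ j hj (x₀ i) ∈ maximalIdeal (B j) := fun j hj i =>
    hmem j _ (by rw [hxj]; exact (v' i).2)
  refine ⟨j₀, fun j hj => Ideal.span (Set.range fun s : Fin c => φ j₀ j hj (x₀ (Sum.inl s))),
    fun j hj => Ideal.span (Set.range fun s : Fin c => φ j₀ j hj (x₀ (Sum.inl s))) ⊔
      Ideal.span (Set.range fun t : Fin d => φ j₀ j hj (x₀ (Sum.inr t))), ?_, ?_, ?_⟩
  · intro j hj
    refine ⟨fun s => ⟨_, hmj j hj (Sum.inl s)⟩, fun t => ⟨_, hmj j hj (Sum.inr t)⟩, ?_, rfl, rfl⟩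
    haveI := hψloc j
    refine li_of (ψ j) _ (Sum.elim f g) ?_ hind
    rintro (s | t)
    · exact hxj j hj (Sum.inl s)
    · exact hxj j hj (Sum.inr t)
  · intro i j hi hij
    have e1 : (Ideal.span (Set.range fun s : Fin c => φ j₀ i hi (x₀ (Sum.inl s)))).map (φ i j hij) =
        Ideal.span (Set.range fun s : Fin c => φ j₀ j (le_trans hi hij) (x₀ (Sum.inl s))) := by
      rw [Ideal.map_span, ← Set.range_comp]
      congr 2
      funext s
      exact hφa _ _ _ _ _ _
    have e2 : (Ideal.span (Set.range fun s : Fin d => φ j₀ i hi (x₀ (Sum.inr s)))).map (φ i j hij) =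
        Ideal.span (Set.range fun s : Fin d => φ j₀ j (le_trans hi hij) (x₀ (Sum.inr s))) := by
      rw [Ideal.map_span, ← Set.range_comp]
      congr 2
      funext s
      exact hφa _ _ _ _ _ _
    refine ⟨e1, ?_⟩
    rw [Ideal.map_sup, e1, e2]
  · intro j hj
    have e1 : (Ideal.span (Set.range fun s : Fin c => φ j₀ j hj (x₀ (Sum.inl s)))).map (ψ j) =
        Ideal.span (Set.range (fun s => (f s : A))) := by
      rw [Ideal.map_span, ← Set.range_comp]
      congr 2
      funext s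
      exact hxj j hj (Sum.inl s)
    have e2 : (Ideal.span (Set.range fun s : Fin d => φ j₀ j hj (x₀ (Sum.inr s)))).map (ψ j) =
        Ideal.span (Set.range (fun s => (g s : A))) := by
      rw [Ideal.map_span, ← Set.range_comp]
      congr 2
      funext s
      exact hxj j hj (Sum.inr s)
    refine ⟨e1, ?_⟩
    rw [Ideal.map_sup, e1, e2]

end Groth.Agent.S18136
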