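import Groth.Statements.S18153
import Mathlib

set_option autoImplicit false
universe u w
open FrobAlg

namespace Groth.Agent.S18153

open MvPolynomial

section
variable (R : Type u) [CommRing R] (m : ℕ) (σ : Type w)

/-- the row of partial derivatives in the `t`-variables -/
noncomputable def jacRow : MvPolynomial (Fin m ⊕ σ) R →ₗ[R] (Fin m → MvPolynomial (Fin m ⊕ σ) R) :=
  LinearMap.pi (fun j => (MvPolynomial.pderiv (R := R) (Sum.inl j : Fin m ⊕ σ)).toLinearMap)

noncomputable def Phi (μ : (Fin m ⊕ σ) →₀ ℕ) :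
    MultilinearMap R (fun _ : Fin m => MvPolynomial (Fin m ⊕ σ) R) R :=
  (MvPolynomial.lcoeff R μ).compMultilinearMap
    (((Matrix.detRowAlternating (R := MvPolynomial (Fin m ⊕ σ) R) (n := Fin m)).toMultilinearMap.restrictScalars
      R).compLinearMap (fun _ => jacRow R m σ))

theorem Phi_apply (μ : (Fin m ⊕ σ) →₀ ℕ) (f : Fin m → MvPolynomial (Fin m ⊕ σ) R) :
    Phi R m σ μ f = MvPolynomial.coeff μ
      (Matrix.of fun i j : Fin m => MvPolynomial.pderiv (Sum.inl j) (f i)).det := rfl

end

theorem det_eq_zero_of_col_sum {n : ℕ} (hn : 0 < n) {S : Type*} [CommRing S]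
    (N : Matrix (Fin n) (Fin n) S) (h : ∀ j, ∑ i, N i j = 0) : N.det = 0 := by
  have h1 : Matrix.vecMul (fun _ => (1 : S)) N = 0 := by
    funext j
    simp [Matrix.vecMul, dotProduct, h j]
  have h2 : Matrix.vecMul (fun _ => (1 : S)) (N * N.adjugate) = 0 := by
    rw [← Matrix.vecMul_vecMul, h1, Matrix.zero_vecMul]
  rw [Matrix.mul_adjugate] at h2
  have h3 := congrFun h2 ⟨0, hn⟩
  simpa [Matrix.vecMul_smul] using h3

section
variable {R : Type u} [CommRing R] {m : ℕ} {σ : Type w}

theorem coeff_mul_prod_X (S : Finset (Fin m)) (P : MvPolynomial (Fin m ⊕ σ) R)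
    (μ : (Fin m ⊕ σ) →₀ ℕ) :
    coeff (μ + ∑ j ∈ S, Finsupp.single (Sum.inl j) 1) (P * ∏ j ∈ S, X (Sum.inl j)) = coeff μ P := by
  induction S using Finset.induction_on with
  | empty => simp
  | insert a S ha ih =>
    rw [Finset.sum_insert ha, Finset.prod_insert ha, add_comm (Finsupp.single (Sum.inl a) 1),
      ← add_assoc, mul_comm (X (Sum.inl a)), ← mul_assoc, coeff_mul_X, ih]

theorem entry_identity (e : (Fin m ⊕ σ) →₀ ℕ) (j : Fin m) :
    pderiv (Sum.inl j) (monomial e (1 : R)) * X (Sum.inl j) =
      monomial e (1 : R) * C ((e (Sum.inl j) : ℕ) : R) := by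
  rw [pderiv_monomial, one_mul, mul_comm (monomial e (1 : R)), C_mul_monomial, mul_one]
  by_cases h : e (Sum.inl j) = 0
  · rw [h]; simp
  · rw [X, monomial_mul, mul_one]
    congr 2
    apply tsub_add_cancel_of_le
    rw [Finsupp.single_le_iff]
    omega

end

section
variable {R : Type u} [CommRing R] {m : ℕ} {σ : Type w}

theorem mono_case (p : ℕ) [Fact p.Prime] [CharP R p] (hm : 0 < m)
    (e : Fin m → ((Fin m ⊕ σ) →₀ ℕ)) :
    coeff (Finsupp.sumElim (Finsupp.equivFunOnFinite.symm fun _ : Fin m => p - 1) (0 : σ →₀ ℕ))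
      (Matrix.of fun i j : Fin m => pderiv (Sum.inl j) (monomial (e i) (1 : R))).det = 0 := by
  classical
  set μ := Finsupp.sumElim (Finsupp.equivFunOnFinite.symm fun _ : Fin m => p - 1) (0 : σ →₀ ℕ)
    with hμ
  set J : Matrix (Fin m) (Fin m) (MvPolynomial (Fin m ⊕ σ) R) :=
    Matrix.of fun i j => pderiv (Sum.inl j) (monomial (e i) (1 : R)) with hJ
  let N : Matrix (Fin m) (Fin m) R := Matrix.of fun i j => ((e i (Sum.inl j) : ℕ) : R)
  have hid : J * Matrix.diagonal (fun j => (X (Sum.inl j) : MvPolynomial (Fin m ⊕ σ) R)) =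
      Matrix.diagonal (fun i => monomial (e i) (1 : R)) * ((C : R →+* _).mapMatrix N) := by
    refine Matrix.ext (fun i j => ?_)
    rw [Matrix.mul_diagonal, Matrix.diagonal_mul]
    exact entry_identity (R := R) (e i) j
  have hdet := congrArg Matrix.det hid
  rw [Matrix.det_mul, Matrix.det_mul, Matrix.det_diagonal, Matrix.det_diagonal,
    ← RingHom.map_det] at hdet
  have h1 : coeff (μ + ∑ j ∈ Finset.univ, Finsupp.single (Sum.inl j) 1)
      (J.det * ∏ j, X (Sum.inl j)) = coeff μ J.det := coeff_mul_prod_X Finset.univ J.det μ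
  rw [← h1, hdet]
  have h2 : (∏ i, monomial (e i) (1 : R)) * C N.det = monomial (∑ i, e i) N.det := by
    rw [mul_comm, ← monomial_sum_index]
  rw [h2, coeff_monomial]
  split_ifs with hE
  · apply det_eq_zero_of_col_sum hm
    intro j
    have h3 : ∑ i, e i (Sum.inl j) = p := by
      have h4 := congrArg (fun g => g (Sum.inl j)) hE
      simp only [Finsupp.coe_finsetSum, Finset.sum_apply, Finsupp.coe_add, Pi.add_apply] at h4
      rw [h4, hμ, Finsupp.sumElim_inl]
      have h5 : ∑ c : Fin m, (Finsupp.single (Sum.inl c : Fin m ⊕ σ) 1) (Sum.inl j) = 1 := by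
        rw [Finset.sum_eq_single j]
        · simp
        · intro b _ hb
          rw [Finsupp.single_eq_of_ne]
          intro h
          exact hb (Sum.inl_injective h).symm
        · intro h; exact absurd (Finset.mem_univ j) h
      rw [h5]
      have hp : 1 ≤ p := (Fact.out : p.Prime).one_lt.le
      simp
      omega
    have h6 : ∑ i, N i j = ((∑ i, e i (Sum.inl j) : ℕ) : R) := by
      simp [N]
    rw [h6, h3, CharP.cast_eq_zero]
  · rfl

theorem main (p : ℕ) [Fact p.Prime] [CharP R p] (hm : 0 < m)
    (f : Fin m → MvPolynomial (Fin m ⊕ σ) R) :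
    coeff (Finsupp.sumElim (Finsupp.equivFunOnFinite.symm fun _ : Fin m => p - 1) (0 : σ →₀ ℕ))
      (Matrix.of fun i j : Fin m => pderiv (Sum.inl j) (f i)).det = 0 := by
  have key : Phi R m σ (Finsupp.sumElim (Finsupp.equivFunOnFinite.symm fun _ : Fin m => p - 1)
      (0 : σ →₀ ℕ)) = 0 := by
    apply Module.Basis.ext_multilinear (fun _ => MvPolynomial.basisMonomials (Fin m ⊕ σ) R)
    intro v
    rw [Phi_apply, zero_apply]
    simp only [MvPolynomial.coe_basisMonomials]
    exact mono_case p hm v
  have := congrArg (fun Ψ => Ψ f) key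
  simpa [Phi_apply] using this

end



/-- Let R be a commutative ring of prime characteristic p and f_1, …, f_m (m ≥ 1) polynomials over R in
the variables t_1, …, t_m and a further, possibly empty, family of variables s_a. Then in the m × m
Jacobian determinant det(∂f_i/∂t_j) with respect to the t-variables, the coefficient of the monomial
t_1^{p-1} ⋯ t_m^{p-1} (all s-exponents zero) vanishes. (In the source this is the claim, for formal
power series in n ≥ m variables over the base field, to which the proof of the proposition reduces;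
the coefficient in question only involves truncations of the f_i, so the polynomial form over any
ring of characteristic p is the same assertion.) -/
theorem result
    (p : ℕ) [Fact p.Prime] (R : Type u) [CommRing R] [CharP R p]
    {m : ℕ} (hm : 0 < m) (σ : Type w) (f : Fin m → MvPolynomial (Fin m ⊕ σ) R) :
    MvPolynomial.coeff
        (Finsupp.sumElim (Finsupp.equivFunOnFinite.symm fun _ : Fin m => p - 1) (0 : σ →₀ ℕ))
        (Matrix.of fun i j : Fin m => MvPolynomial.pderiv (Sum.inl j) (f i)).det = 0 := by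
  classical
  exact main p hm f

end Groth.Agent.S18153
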