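import Groth.Statements.S18187
import Mathlib
import Groth.Prelude.Def_ArtFun3
import Groth.Prelude.Def_W4c5t1liftcy3defoArt
import Groth.Agent.Lib.Helper3.ArtFunA
-- import your own Groth.Agent.* helpers here

set_option autoImplicit false
universe u v
open CategoryTheory
open T1Lift

namespace Groth.Agent.S18187

open CategoryTheory Polynomial T1Lift IsLocalRing
namespace Aux

variable (k : Type u) [Field k]

/-- the class of a polynomial in `A_n` -/
noncomputable abbrev mkA (n : ℕ) (p : k[X]) : (A k n) := (AdjoinRoot.mk ((X : k[X]) ^ (n + 1)) p : Tr k n)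

lemma mkA_surjective (n : ℕ) (a : A k n) : ∃ p, mkA k n p = a := by
  obtain ⟨p, hp⟩ := AdjoinRoot.mk_surjective (g := (X : k[X]) ^ (n + 1)) a
  exact ⟨p, hp⟩

lemma mkA_eq_zero_iff (n : ℕ) (p : k[X]) :
    mkA k n p = 0 ↔ (X : k[X]) ^ (n + 1) ∣ p := AdjoinRoot.mk_eq_zero

lemma mkA_mul (n : ℕ) (p q : k[X]) : mkA k n p * mkA k n q = mkA k n (p * q) :=
  (map_mul (AdjoinRoot.mk ((X : k[X]) ^ (n + 1))) p q).symm

lemma mkA_add (n : ℕ) (p q : k[X]) : mkA k n p + mkA k n q = mkA k n (p + q) :=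
  (map_add (AdjoinRoot.mk ((X : k[X]) ^ (n + 1))) p q).symm

lemma α_mkA (n : ℕ) (p : k[X]) : α k n (mkA k (n + 1) p) = mkA k n p := by
  change (αAlg k n) (AdjoinRoot.mk _ p) = _
  rw [αAlg, AdjoinRoot.liftAlgHom_mk]
  change aeval (t k n) p = _
  exact AdjoinRoot.aeval_eq p

lemma res_mkA (n : ℕ) (p : k[X]) : (A k n).res (mkA k n p) = p.coeff 0 := by
  change (resA k n) (AdjoinRoot.mk _ p) = _
  rw [resA, AdjoinRoot.liftAlgHom_mk, eval₂_at_zero]
  rfl

lemma mem_max_A (n : ℕ) (p : k[X]) :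
    mkA k n p ∈ maximalIdeal (A k n) ↔ (X : k[X]) ∣ p := by
  rw [ArtFun.Art.mem_maximalIdeal_iff, res_mkA, X_dvd_iff]

lemma α_surjective (n : ℕ) : Function.Surjective (α k n) := by
  intro a
  obtain ⟨p, rfl⟩ := mkA_surjective k n a
  exact ⟨mkA k (n + 1) p, α_mkA k n p⟩

lemma α_mul_eq_zero (n : ℕ) (c b : A k (n + 1)) (hc : c ∈ maximalIdeal (A k (n + 1)))
    (hb : α k n b = 0) : c * b = 0 := by
  obtain ⟨q, rfl⟩ := mkA_surjective k (n + 1) c
  obtain ⟨p, rfl⟩ := mkA_surjective k (n + 1) b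
  rw [α_mkA, mkA_eq_zero_iff] at hb
  have hq := (mem_max_A k (n + 1) q).1 hc
  rw [mkA_mul, mkA_eq_zero_iff, pow_succ, mul_comm q p]
  exact mul_dvd_mul hb hq

lemma α_semismall (n : ℕ) : ArtFun.Art.IsSemismallExt (α k n) := by
  refine ⟨α_surjective k n, ?_⟩
  rw [eq_bot_iff, Ideal.mul_le]
  intro c hc b hb
  rw [Ideal.mem_bot]
  exact α_mul_eq_zero k n c b hc hb

section Dual

variable {k : Type u} [Field k] {R : Type u} [CommRing R] [Algebra k R]

lemma aeval_dual_fst (x : R) (p : k[X]) :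
    (aeval (TrivSqZeroExt.inl x + DualNumber.eps : DualNumber R) p).fst = aeval x p := by
  have h := Polynomial.aeval_algHom_apply (TrivSqZeroExt.fstHom k R R)
    (TrivSqZeroExt.inl x + DualNumber.eps : DualNumber R) p
  change aeval ((TrivSqZeroExt.inl x + DualNumber.eps : DualNumber R).fst) p = _ at h
  rw [TrivSqZeroExt.fst_add, TrivSqZeroExt.fst_inl, DualNumber.fst_eps, add_zero] at h
  exact h.symm

lemma aeval_dual_snd (x : R) (p : k[X]) :
    (aeval (TrivSqZeroExt.inl x + DualNumber.eps : DualNumber R) p).snd =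
      aeval x (derivative p) := by
  induction p using Polynomial.induction_on' with
  | add p q hp hq => rw [map_add, TrivSqZeroExt.snd_add, hp, hq, derivative_add, map_add]
  | monomial i a =>
    rw [aeval_monomial, derivative_monomial, aeval_monomial, TrivSqZeroExt.snd_mul,
      TrivSqZeroExt.snd_pow, TrivSqZeroExt.fst_pow]
    simp only [TrivSqZeroExt.fst_add, TrivSqZeroExt.fst_inl, DualNumber.fst_eps, add_zero,
      TrivSqZeroExt.snd_add, TrivSqZeroExt.snd_inl, DualNumber.snd_eps, zero_add,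
      TrivSqZeroExt.algebraMap_eq_inl, TrivSqZeroExt.snd_inl, TrivSqZeroExt.fst_inl,
      smul_eq_mul, mul_one, MulOpposite.smul_eq_mul_unop, MulOpposite.unop_op, mul_zero, add_zero,
      Nat.pred_eq_sub_one, map_mul, map_natCast, nsmul_eq_mul]
    rw [TrivSqZeroExt.algebraMap_eq_inl', TrivSqZeroExt.fst_inl, TrivSqZeroExt.snd_inl]
    ring

end Dual

/-- the class of a pair of polynomials in `B_n` -/
noncomputable abbrev mkB (n : ℕ) (p q : k[X]) : (B k n) :=
  ((AdjoinRoot.mk ((X : k[X]) ^ (n + 1)) p, AdjoinRoot.mk ((X : k[X]) ^ (n + 1)) q) :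
    DualNumber (Tr k n))

lemma mkB_surjective (n : ℕ) (b : B k n) : ∃ p q, mkB k n p q = b := by
  obtain ⟨p, hp⟩ := AdjoinRoot.mk_surjective (g := (X : k[X]) ^ (n + 1))
    (TrivSqZeroExt.fst (b : DualNumber (Tr k n)))
  obtain ⟨q, hq⟩ := AdjoinRoot.mk_surjective (g := (X : k[X]) ^ (n + 1))
    (TrivSqZeroExt.snd (b : DualNumber (Tr k n)))
  exact ⟨p, q, TrivSqZeroExt.ext hp hq⟩

lemma mkB_eq_zero_iff (n : ℕ) (p q : k[X]) :
    mkB k n p q = 0 ↔ (X : k[X]) ^ (n + 1) ∣ p ∧ (X : k[X]) ^ (n + 1) ∣ q := by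
  rw [← mkA_eq_zero_iff, ← mkA_eq_zero_iff]
  constructor
  · intro h
    exact ⟨congrArg TrivSqZeroExt.fst h, congrArg TrivSqZeroExt.snd h⟩
  · rintro ⟨h1, h2⟩
    exact TrivSqZeroExt.ext h1 h2

lemma res_mkB (n : ℕ) (p q : k[X]) : (B k n).res (mkB k n p q) = p.coeff 0 :=
  res_mkA k n p

lemma β_mkB (n : ℕ) (p q : k[X]) : β k n (mkB k n p q) = mkA k n p := rfl

lemma ξ_mkB (n : ℕ) (p q : k[X]) : ξ k n (mkB k (n + 1) p q) = mkB k n p q := by
  apply TrivSqZeroExt.ext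
  · exact α_mkA k n p
  · exact α_mkA k n q

lemma ε_mkA (n : ℕ) (p : k[X]) : ε k n (mkA k (n + 1) p) = mkB k n p (derivative p) := by
  change (εAlg k n) (AdjoinRoot.mk _ p) = _
  rw [εAlg, AdjoinRoot.liftAlgHom_mk]
  change aeval (TrivSqZeroExt.inl (t k n) + DualNumber.eps : DualNumber (Tr k n)) p = _
  apply TrivSqZeroExt.ext
  · rw [aeval_dual_fst]
    exact AdjoinRoot.aeval_eq p
  · rw [aeval_dual_snd]
    exact AdjoinRoot.aeval_eq (derivative p)

lemma mkB_mul (n : ℕ) (p q p' q' : k[X]) :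
    mkB k n p q * mkB k n p' q' = mkB k n (p * p') (p * q' + p' * q) := by
  apply TrivSqZeroExt.ext
  · exact (map_mul (AdjoinRoot.mk ((X : k[X]) ^ (n + 1))) p p').symm
  · change (AdjoinRoot.mk ((X : k[X]) ^ (n + 1)) p) • (AdjoinRoot.mk ((X : k[X]) ^ (n + 1)) q') +
      MulOpposite.op (AdjoinRoot.mk ((X : k[X]) ^ (n + 1)) p') •
        (AdjoinRoot.mk ((X : k[X]) ^ (n + 1)) q) =
      AdjoinRoot.mk ((X : k[X]) ^ (n + 1)) (p * q' + p' * q)
    rw [smul_eq_mul, MulOpposite.smul_eq_mul_unop, MulOpposite.unop_op, map_add, map_mul, map_mul]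
    ring

lemma ε_β (n : ℕ) : ε k n ≫ β k n = α k n := by
  apply ArtFun.Art.hom_ext
  apply AlgHom.ext
  intro a
  obtain ⟨p, rfl⟩ := mkA_surjective k (n + 1) a
  change β k n (ε k n (mkA k (n + 1) p)) = α k n (mkA k (n + 1) p)
  rw [ε_mkA, β_mkB, α_mkA]

lemma ε_ξ (n : ℕ) : ε k (n + 1) ≫ ξ k n = α k (n + 1) ≫ ε k n := by
  apply ArtFun.Art.hom_ext
  apply AlgHom.ext
  intro a
  obtain ⟨p, rfl⟩ := mkA_surjective k (n + 2) a
  change ξ k n (ε k (n + 1) (mkA k (n + 2) p)) = ε k n (α k (n + 1) (mkA k (n + 2) p))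
  rw [ε_mkA, ξ_mkB, α_mkA, ε_mkA]

lemma ξ_β (n : ℕ) : ξ k n ≫ β k n = β k (n + 1) ≫ α k n := by
  apply ArtFun.Art.hom_ext
  apply AlgHom.ext
  intro b
  obtain ⟨p, q, rfl⟩ := mkB_surjective k (n + 1) b
  change β k n (ξ k n (mkB k (n + 1) p q)) = α k n (β k (n + 1) (mkB k (n + 1) p q))
  rw [ξ_mkB, β_mkB, β_mkB, α_mkA]

section MainThm

open Groth.Agent.Helper3.ArtFunLib

theorem map_comp_app' (F : ArtFun.Art k k ⥤ Type v) {X Y Z : ArtFun.Art k k} (f : X ⟶ Y) (g : Y ⟶ Z)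
    (a : F.obj X) : F.map (f ≫ g) a = F.map g (F.map f a) := by
  rw [F.map_comp]; rfl

theorem map_id_app' (F : ArtFun.Art k k ⥤ Type v) {X : ArtFun.Art k k} (a : F.obj X) :
    F.map (𝟙 X) a = a := by
  rw [F.map_id]; rfl

/-- the fibre product `B_n ×_{A_n} A_(n+1)` -/
noncomputable def CC (n : ℕ) : ArtFun.Art k k := fibreProd (β k n) (α k n) (α_surjective k n)

noncomputable def c1 (n : ℕ) : CC k n ⟶ B k n := fibreProdFst (β k n) (α k n) (α_surjective k n)
noncomputable def c2 (n : ℕ) : CC k n ⟶ A k (n + 1) :=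
  fibreProdSnd (β k n) (α k n) (α_surjective k n)

lemma hCC (n : ℕ) : ArtFun.Art.IsFibreProd (c1 k n) (c2 k n) (β k n) (α k n) :=
  isFibreProd_fibreProd (β k n) (α k n) (α_surjective k n)

lemma exists_ψ (n : ℕ) : ∃ ψ : B k (n + 1) ⟶ CC k n, ψ ≫ c1 k n = ξ k n ∧ ψ ≫ c2 k n = β k (n + 1) :=
  IsFibreProd.exists_lift (hCC k n) (ξ k n) (β k (n + 1)) (ξ_β k n)

lemma exists_g (n : ℕ) : ∃ g : A k (n + 1) ⟶ CC k n, g ≫ c1 k n = ε k n ∧ g ≫ c2 k n = 𝟙 _ :=
  IsFibreProd.exists_lift (hCC k n) (ε k n) (𝟙 _) (by rw [ε_β, Category.id_comp])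

lemma ψ_apply_eq_zero_iff (n : ℕ) (ψ : B k (n + 1) ⟶ CC k n) (h1 : ψ ≫ c1 k n = ξ k n)
    (h2 : ψ ≫ c2 k n = β k (n + 1)) (b : B k (n + 1)) :
    ψ b = 0 ↔ ξ k n b = 0 ∧ β k (n + 1) b = 0 := by
  have e1 : c1 k n (ψ b) = ξ k n b := by rw [← h1]; rfl
  have e2 : c2 k n (ψ b) = β k (n + 1) b := by rw [← h2]; rfl
  constructor
  · intro h
    rw [← e1, ← e2, h]
    exact ⟨map_zero (c1 k n).toAlgHom, map_zero (c2 k n).toAlgHom⟩
  · rintro ⟨h3, h4⟩
    apply (hCC k n).inj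
    · rw [e1, h3]; exact (map_zero (c1 k n).toAlgHom).symm
    · rw [e2, h4]; exact (map_zero (c2 k n).toAlgHom).symm

lemma ψ_semismall (n : ℕ) (ψ : B k (n + 1) ⟶ CC k n) (h1 : ψ ≫ c1 k n = ξ k n)
    (h2 : ψ ≫ c2 k n = β k (n + 1)) : ArtFun.Art.IsSemismallExt ψ := by
  have e1 : ∀ b, c1 k n (ψ b) = ξ k n b := fun b => by rw [← h1]; rfl
  have e2 : ∀ b, c2 k n (ψ b) = β k (n + 1) b := fun b => by rw [← h2]; rfl
  constructor
  · intro c
    obtain ⟨p₀, p₁, hp⟩ := mkB_surjective k n (c1 k n c)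
    obtain ⟨q, hq⟩ := mkA_surjective k (n + 1) (c2 k n c)
    have hcomp : β k n (c1 k n c) = α k n (c2 k n c) := (hCC k n).w_apply c
    rw [← hp, ← hq, β_mkB, α_mkA] at hcomp
    refine ⟨mkB k (n + 1) q p₁, ?_⟩
    apply (hCC k n).inj
    · rw [e1, ξ_mkB, ← hp]
      apply TrivSqZeroExt.ext
      · exact hcomp.symm
      · rfl
    · rw [e2, β_mkB, hq]
  · rw [eq_bot_iff, Ideal.mul_le]
    intro c hc b hb
    rw [Ideal.mem_bot]
    have hb' : ψ b = 0 := hb
    rw [ψ_apply_eq_zero_iff k n ψ h1 h2] at hb'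
    obtain ⟨c₀, c₁, rfl⟩ := mkB_surjective k (n + 1) c
    obtain ⟨b₀, b₁, rfl⟩ := mkB_surjective k (n + 1) b
    rw [ξ_mkB, β_mkB, mkB_eq_zero_iff, mkA_eq_zero_iff] at hb'
    rw [ArtFun.Art.mem_maximalIdeal_iff, res_mkB, ← X_dvd_iff] at hc
    rw [mkB_mul, mkB_eq_zero_iff]
    obtain ⟨⟨-, hb1⟩, hb0⟩ := hb'
    refine ⟨Dvd.dvd.mul_left hb0 _, dvd_add ?_ (Dvd.dvd.mul_right hb0 _)⟩
    rw [pow_succ, mul_comm c₀ b₁]
    exact mul_dvd_mul hb1 hc

lemma ker_inj [CharZero k] (n : ℕ) (j : A k (n + 2)) (h1 : α k (n + 1) j = 0)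
    (h2 : ε k (n + 1) j = 0) : j = 0 := by
  obtain ⟨p, rfl⟩ := mkA_surjective k (n + 2) j
  rw [α_mkA, mkA_eq_zero_iff] at h1
  rw [ε_mkA, mkB_eq_zero_iff] at h2
  rw [mkA_eq_zero_iff, X_pow_dvd_iff]
  rw [X_pow_dvd_iff] at h1
  have h3 := X_pow_dvd_iff.1 h2.2
  intro d hd
  rcases Nat.lt_succ_iff_lt_or_eq.1 hd with h | h
  · exact h1 d h
  · subst h
    have h4 := h3 (n + 1) (by omega)
    rw [coeff_derivative] at h4
    rcases mul_eq_zero.1 h4 with h5 | h5
    · exact h5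
    · exfalso
      have : ((n + 1 : ℕ) : k) + 1 = ((n + 2 : ℕ) : k) := by push_cast; ring
      rw [this] at h5
      exact (Nat.cast_ne_zero (R := k)).2 (by omega) h5

theorem main [CharZero k]
    (F : ArtFun.Art k k ⥤ Type v)
    (hRS : ∀ ⦃P A A' A'' : ArtFun.Art k k⦄ (p' : P ⟶ A') (p'' : P ⟶ A'') (f' : A' ⟶ A) (f'' : A'' ⟶ A)
      (h : ArtFun.Art.IsFibreProd p' p'' f' f''), Function.Surjective f'' → Function.Bijective (ArtFun.cmp F h))
    (V : Type u) [AddCommGroup V] [Module k V] (O : ArtFun.ObsTheory F V)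
    (hnat : ∀ ⦃A' A C' C : ArtFun.Art k k⦄ (φ : A' ⟶ A) (hφ : ArtFun.Art.IsSemismallExt φ)
      (ψ : C' ⟶ C) (hψ : ArtFun.Art.IsSemismallExt ψ) (g' : A' ⟶ C') (g : A ⟶ C), φ ≫ g = g' ≫ ψ →
      ∀ (ℓ : ↥(RingHom.ker φ.toAlgHom) →ₗ[k] ↥(RingHom.ker ψ.toAlgHom)),
        (∀ j : ↥(RingHom.ker φ.toAlgHom), ((ℓ j : ↥(RingHom.ker ψ.toAlgHom)) : C') = g' (j : A')) →
        ∀ u : F.obj A, O.obs ψ hψ (F.map g u) = LinearMap.lTensor V ℓ (O.obs φ hφ u))
    (n : ℕ) (X : F.obj (T1Lift.A k (n + 1))) :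
    (∃ X' : F.obj (T1Lift.A k (n + 2)), F.map (T1Lift.α k (n + 1)) X' = X) ↔
      ∃ Y : F.obj (T1Lift.B k (n + 1)), F.map (T1Lift.β k (n + 1)) Y = X ∧
        F.map (T1Lift.ξ k n) Y = F.map (T1Lift.ε k n) X := by
  constructor
  · rintro ⟨X', rfl⟩
    refine ⟨F.map (ε k (n + 1)) X', ?_, ?_⟩
    · rw [← map_comp_app', ε_β]
    · rw [← map_comp_app', ← map_comp_app', ε_ξ]
  · rintro ⟨Y, hY1, hY2⟩
    obtain ⟨ψ, hψ1, hψ2⟩ := exists_ψ k n
    obtain ⟨g, hg1, hg2⟩ := exists_g k n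
    have hψ := ψ_semismall k n ψ hψ1 hψ2
    have hφ := α_semismall k (n + 1)
    -- the square
    have hsq : α k (n + 1) ≫ g = ε k (n + 1) ≫ ψ := by
      apply IsFibreProd.hom_ext (hCC k n)
      · rw [Category.assoc, Category.assoc, hg1, hψ1, ε_ξ]
      · rw [Category.assoc, Category.assoc, hg2, hψ2, ε_β, Category.comp_id]
    -- `Y` lifts `F(g) X`
    have hYX : F.map ψ Y = F.map g X := by
      apply (hRS (c1 k n) (c2 k n) (β k n) (α k n) (hCC k n) (α_surjective k n)).1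
      apply ArtFun.FibProd.ext
      · change F.map (c1 k n) (F.map ψ Y) = F.map (c1 k n) (F.map g X)
        rw [← map_comp_app', ← map_comp_app', hψ1, hg1, hY2]
      · change F.map (c2 k n) (F.map ψ Y) = F.map (c2 k n) (F.map g X)
        rw [← map_comp_app', ← map_comp_app', hψ2, hg2, hY1, map_id_app']
    have hobs : O.obs ψ hψ (F.map g X) = 0 := (O.obs_eq_zero_iff ψ hψ _).2 ⟨Y, hYX⟩
    -- the map on kernels
    have hmem : ∀ j : ↥(RingHom.ker (α k (n + 1)).toAlgHom),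
        ε k (n + 1) (j : A k (n + 2)) ∈ RingHom.ker ψ.toAlgHom := by
      intro j
      rw [RingHom.mem_ker]
      change (ε k (n + 1) ≫ ψ) (j : A k (n + 2)) = 0
      rw [← hsq]
      change g (α k (n + 1) (j : A k (n + 2))) = 0
      have : α k (n + 1) (j : A k (n + 2)) = 0 := j.2
      rw [this]
      exact map_zero g.toAlgHom
    let ℓ : ↥(RingHom.ker (α k (n + 1)).toAlgHom) →ₗ[k] ↥(RingHom.ker ψ.toAlgHom) :=
      { toFun := fun j => ⟨ε k (n + 1) (j : A k (n + 2)), hmem j⟩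
        map_add' := fun x y => Subtype.ext (map_add (ε k (n + 1)).toAlgHom _ _)
        map_smul' := fun c x => Subtype.ext (map_smul (ε k (n + 1)).toAlgHom c _) }
    have hℓ : Function.Injective ℓ := by
      intro x y hxy
      have h0 : ε k (n + 1) ((x : A k (n + 2)) - y) = 0 := by
        have := congrArg Subtype.val hxy
        change ε k (n + 1) (x : A k (n + 2)) = ε k (n + 1) (y : A k (n + 2)) at this
        change (ε k (n + 1)).toAlgHom _ = 0
        rw [map_sub, sub_eq_zero]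
        exact this
      have h1 : α k (n + 1) ((x : A k (n + 2)) - y) = 0 := (x - y).2
      have := ker_inj k n _ h1 h0
      exact Subtype.ext (sub_eq_zero.1 this)
    have hn := hnat (α k (n + 1)) hφ ψ hψ (ε k (n + 1)) g hsq ℓ (fun j => rfl) X
    rw [hobs] at hn
    have hinj : Function.Injective (LinearMap.lTensor V ℓ) :=
      Module.Flat.lTensor_preserves_injective_linearMap ℓ hℓ
    have hzero : O.obs (α k (n + 1)) hφ X = 0 := hinj (by rw [← hn, map_zero])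
    exact (O.obs_eq_zero_iff _ hφ X).1 hzero

end MainThm

end Aux

/-- In the set-valued case, let k be a field of characteristic zero and F a functor on local Artinian
k-algebras with residue field k such that F(k) is one point, F satisfies the Rim–Schlessinger
condition (for every fibre-product square A' ×_A A'' with A'' → A surjective the comparison map F(A'
×_A A'') → F(A') ×_{F(A)} F(A'') is bijective), and F has an obstruction theory with values in a
k-vector space V which is moreover functorial for every commutative square of surjections whose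
kernels are killed by the maximal ideal. Write A_m = k[t]/(t^(m+1)), B_m = A_m[y]/(y²), α : A_(m+1)
→ A_m and ξ : B_(m+1) → B_m for t ↦ t, β : B_m → A_m for y ↦ 0 and ε : A_(m+1) → B_m for t ↦ t + y.
Then an element X ∈ F(A_(n+1)) lifts to F(A_(n+2)) along α if and only if there is Y ∈ F(B_(n+1))
with F(β) Y = X and F(ξ) Y = F(ε) X, i.e. if and only if the element of the first-order tangent set
T¹(F(α)X / A_n) defined by F(ε) X lies in the image of T¹(X / A_(n+1)). (Stated here for functors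
with values in sets; the version for predeformation categories in groupoids satisfying the
Rim–Schlessinger condition specialises to it. The functoriality of the obstruction theory for
arbitrary commutative squares is an explicit hypothesis, pinned through linear maps between the
kernels that agree with the given ring map.) -/
theorem result (k : Type u) [Field k] [CharZero k]
    (F : ArtFun.Art k k ⥤ Type v) (h0 : ArtFun.H0 F)
    (hRS : ∀ ⦃P A A' A'' : ArtFun.Art k k⦄ (p' : P ⟶ A') (p'' : P ⟶ A'') (f' : A' ⟶ A) (f'' : A'' ⟶ A)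
      (h : ArtFun.Art.IsFibreProd p' p'' f' f''), Function.Surjective f'' → Function.Bijective (ArtFun.cmp F h))
    (V : Type u) [AddCommGroup V] [Module k V] (O : ArtFun.ObsTheory F V)
    (hnat : ∀ ⦃A' A C' C : ArtFun.Art k k⦄ (φ : A' ⟶ A) (hφ : ArtFun.Art.IsSemismallExt φ)
      (ψ : C' ⟶ C) (hψ : ArtFun.Art.IsSemismallExt ψ) (g' : A' ⟶ C') (g : A ⟶ C), φ ≫ g = g' ≫ ψ →
      ∀ (ℓ : ↥(RingHom.ker φ.toAlgHom) →ₗ[k] ↥(RingHom.ker ψ.toAlgHom)),
        (∀ j : ↥(RingHom.ker φ.toAlgHom), ((ℓ j : ↥(RingHom.ker ψ.toAlgHom)) : C') = g' (j : A')) →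
        ∀ u : F.obj A, O.obs ψ hψ (F.map g u) = LinearMap.lTensor V ℓ (O.obs φ hφ u))
    (n : ℕ) (X : F.obj (T1Lift.A k (n + 1))) :
    (∃ X' : F.obj (T1Lift.A k (n + 2)), F.map (T1Lift.α k (n + 1)) X' = X) ↔
      ∃ Y : F.obj (T1Lift.B k (n + 1)), F.map (T1Lift.β k (n + 1)) Y = X ∧
        F.map (T1Lift.ξ k n) Y = F.map (T1Lift.ε k n) X := by
  exact Aux.main k F hRS V O hnat n X

end Groth.Agent.S18187
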