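import Groth.Statements.S18188
import Mathlib

set_option autoImplicit false
universe u
open OrbRR

namespace Groth.Agent.S18188

theorem sumF {K : Type*} [Field K] (h2 : (2 : K) ≠ 0) (h12 : (12 : K) ≠ 0) (M : K) : ∀ n : ℕ,
    12 * ∑ j ∈ Finset.range n, ((j : K) * ((j : K) - M) / 2 + (M ^ 2 - 1) / 12) =
      ((n : K) - 1) * n * (2 * n - 1) - 3 * M * n * ((n : K) - 1) + n * (M ^ 2 - 1) := by
  intro n
  induction n with
  | zero => simp
  | succ n ih =>
    rw [Finset.sum_range_succ, mul_add, ih]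
    push_cast
    field_simp
    ring

theorem geom_zero {K : Type*} [Field K] (x : K) (N : ℕ) (hxN : x ^ N = 1) (hx1 : x ≠ 1) :
    ∑ j ∈ Finset.range N, x ^ j = 0 := by
  have h := geom_sum_mul x N
  rw [hxN, sub_self] at h
  rcases mul_eq_zero.1 h with h | h
  · exact h
  · exact absurd (sub_eq_zero.1 h) hx1

theorem affine_of_sec {K : Type*} [Field K] (d : ℕ → K) (N : ℕ)
    (hd : ∀ j, j + 2 ≤ N → d (j + 2) = 2 * d (j + 1) - d j) :
    ∀ j, j ≤ N → d j = d 0 + (j : K) * (d 1 - d 0) := by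
  intro j
  induction j using Nat.strong_induction_on with
  | _ j ih =>
    intro hj
    rcases j with _ | _ | j
    · simp
    · simp
    · rw [hd j hj, ih (j + 1) (by omega) (by omega), ih j (by omega) (by omega)]
      push_cast
      ring

/-- Let K be a field in which 6 ≠ 0, let j < N be natural numbers (so N ≥ 1), and let ζ ∈ K be a
primitive N-th root of unity. Then the sum over i = 1, …, N − 1 of ζ^{ij} / (2 − ζ^i − ζ^{−i})
equals j(j − N)/2 + (N² − 1)/12. (The published setting is characteristic zero; the identity is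
stated here over any field of characteristic different from 2 and 3, where the published proof
applies unchanged: a field containing a primitive N-th root of unity has characteristic prime to N,
and each denominator 2 − ζ^i − ζ^{−i} = −(1 − ζ^i)²/ζ^i with 0 < i < N is nonzero. In
characteristics 2 and 3 the right-hand side has no meaning.) -/
theorem result (K : Type u) [Field K] (h6 : (6 : K) ≠ 0)
    (N j : ℕ) (hj : j < N) (ζ : K) (hζ : IsPrimitiveRoot ζ N) :
    ∑ i ∈ Finset.Ioo 0 N, ζ ^ (i * j) / (2 - ζ ^ i - (ζ ^ i)⁻¹) =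
      (j : K) * ((j : K) - (N : K)) / 2 + ((N : K) ^ 2 - 1) / 12 := by
  classical
  have hN : 0 < N := by omega
  haveI : NeZero N := ⟨hN.ne'⟩
  have hNK : (N : K) ≠ 0 := (hζ.neZero' (R := K)).ne
  have h2 : (2 : K) ≠ 0 := by
    intro h
    apply h6
    have : (6 : K) = 2 * 3 := by norm_num
    rw [this, h, zero_mul]
  have h12 : (12 : K) ≠ 0 := by
    have : (12 : K) = 2 * 6 := by norm_num
    rw [this]
    exact mul_ne_zero h2 h6
  have hζ0 : ζ ≠ 0 := hζ.ne_zero hN.ne'
  have hx1 : ∀ i ∈ Finset.Ioo 0 N, ζ ^ i ≠ 1 := by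
    intro i hi
    rw [Finset.mem_Ioo] at hi
    exact hζ.pow_ne_one_of_pos_of_lt hi.1.ne' hi.2
  have hD : ∀ i ∈ Finset.Ioo 0 N, 2 - ζ ^ i - (ζ ^ i)⁻¹ ≠ 0 := by
    intro i hi hzero
    have hx0 : ζ ^ i ≠ 0 := pow_ne_zero _ hζ0
    have h1 : (2 - ζ ^ i - (ζ ^ i)⁻¹) * ζ ^ i = -((ζ ^ i - 1) ^ 2) := by
      field_simp
      ring
    rw [hzero, zero_mul] at h1
    have h3 : (ζ ^ i - 1) ^ 2 = 0 := by
      have := neg_eq_zero.1 h1.symm
      exact this
    have h4 : ζ ^ i - 1 = 0 := pow_eq_zero_iff (by norm_num) |>.1 h3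
    exact hx1 i hi (sub_eq_zero.1 h4)
  set g : ℕ → K := fun j => ∑ i ∈ Finset.Ioo 0 N, ζ ^ (i * j) / (2 - ζ ^ i - (ζ ^ i)⁻¹) with hg
  set F : ℕ → K := fun j => (j : K) * ((j : K) - (N : K)) / 2 + ((N : K) ^ 2 - 1) / 12 with hF
  have hgN : g N = g 0 := by
    simp only [hg]
    apply Finset.sum_congr rfl
    intro i _
    rw [mul_zero, pow_zero, mul_comm, pow_mul, hζ.pow_eq_one, one_pow]
  have hFN : F N = F 0 := by
    simp only [hF]
    push_cast
    ring
  have hsumIoo : ∀ f : ℕ → K, ∑ i ∈ Finset.range N, f i = f 0 + ∑ i ∈ Finset.Ioo 0 N, f i := by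
    intro f
    rw [Finset.range_eq_Ico, ← Finset.Ioo_insert_left hN, Finset.sum_insert (by simp)]
  have hsec : ∀ j, j + 2 ≤ N → g (j + 2) - 2 * g (j + 1) + g j = 1 := by
    intro j hj
    simp only [hg]
    rw [Finset.mul_sum, ← Finset.sum_sub_distrib, ← Finset.sum_add_distrib]
    have hterm : ∀ i ∈ Finset.Ioo 0 N,
        ζ ^ (i * (j + 2)) / (2 - ζ ^ i - (ζ ^ i)⁻¹) - 2 * (ζ ^ (i * (j + 1)) / (2 - ζ ^ i - (ζ ^ i)⁻¹))
          + ζ ^ (i * j) / (2 - ζ ^ i - (ζ ^ i)⁻¹) = -((ζ ^ (j + 1)) ^ i) := by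
      intro i hi
      have hx0 : ζ ^ i ≠ 0 := pow_ne_zero _ hζ0
      have hDi := hD i hi
      have e1 : ζ ^ (i * (j + 2)) = (ζ ^ i) ^ (j + 2) := by rw [pow_mul]
      have e2 : ζ ^ (i * (j + 1)) = (ζ ^ i) ^ (j + 1) := by rw [pow_mul]
      have e3 : ζ ^ (i * j) = (ζ ^ i) ^ j := by rw [pow_mul]
      have e4 : (ζ ^ (j + 1)) ^ i = (ζ ^ i) ^ (j + 1) := by rw [← pow_mul, ← pow_mul, mul_comm]
      rw [e1, e2, e3, e4]
      generalize ζ ^ i = x at hx0 hDi ⊢
      rw [← mul_div_assoc, ← sub_div, ← add_div, div_eq_iff hDi]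
      have : (2 - x - x⁻¹) = (2 * x - x ^ 2 - 1) / x := by field_simp
      rw [this]
      field_simp
      ring
    rw [Finset.sum_congr rfl hterm, Finset.sum_neg_distrib]
    have hxx : (ζ ^ (j + 1)) ≠ 1 := hζ.pow_ne_one_of_pos_of_lt (by omega) (by omega)
    have hxN : (ζ ^ (j + 1)) ^ N = 1 := by rw [← pow_mul, mul_comm, pow_mul, hζ.pow_eq_one, one_pow]
    have hgz := geom_zero (ζ ^ (j + 1)) N hxN hxx
    rw [hsumIoo, pow_zero] at hgz
    linear_combination (-1 : K) * hgz
  have hFsec : ∀ j : ℕ, F (j + 2) - 2 * F (j + 1) + F j = 1 := by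
    intro j
    simp only [hF]
    push_cast
    field_simp
    ring
  set d : ℕ → K := fun j => g j - F j with hd
  have hdsec : ∀ j, j + 2 ≤ N → d (j + 2) = 2 * d (j + 1) - d j := by
    intro j hj
    simp only [hd]
    linear_combination hsec j hj - hFsec j
  have haff := affine_of_sec d N hdsec
  have hdN : d N = d 0 := by simp only [hd]; rw [hgN, hFN]
  have hslope : d 1 - d 0 = 0 := by
    have h1 := haff N le_rfl
    rw [hdN] at h1
    have h3 : (N : K) * (d 1 - d 0) = 0 := by linear_combination -h1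
    exact (mul_eq_zero.1 h3).resolve_left hNK
  have hconst : ∀ j, j ≤ N → d j = d 0 := by
    intro j hj
    rw [haff j hj, hslope, mul_zero, add_zero]
  have hsumg : ∑ j ∈ Finset.range N, g j = 0 := by
    simp only [hg]
    rw [Finset.sum_comm]
    apply Finset.sum_eq_zero
    intro i hi
    rw [← Finset.sum_div]
    have : ∑ j ∈ Finset.range N, ζ ^ (i * j) = 0 := by
      have h1 : ∀ j ∈ Finset.range N, ζ ^ (i * j) = (ζ ^ i) ^ j := fun j _ => by rw [pow_mul]
      rw [Finset.sum_congr rfl h1]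
      apply geom_zero _ _ _ (hx1 i hi)
      rw [← pow_mul, mul_comm, pow_mul, hζ.pow_eq_one, one_pow]
    rw [this, zero_div]
  have hsumF : ∑ j ∈ Finset.range N, F j = 0 := by
    have h := sumF h2 h12 (N : K) N
    have h3 : 12 * ∑ j ∈ Finset.range N, F j = 0 := by
      simp only [hF]
      rw [h]; ring
    exact (mul_eq_zero.1 h3).resolve_left h12
  have hd0 : d 0 = 0 := by
    have h1 : ∑ j ∈ Finset.range N, d j = 0 := by
      simp only [hd]
      rw [Finset.sum_sub_distrib, hsumg, hsumF, sub_zero]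
    have h2' : ∑ j ∈ Finset.range N, d j = ∑ j ∈ Finset.range N, d 0 := by
      apply Finset.sum_congr rfl
      intro j hj
      rw [Finset.mem_range] at hj
      exact hconst j hj.le
    rw [h2', Finset.sum_const, Finset.card_range, nsmul_eq_mul] at h1
    exact (mul_eq_zero.1 h1).resolve_left hNK
  have hfin := hconst j hj.le
  rw [hd0] at hfin
  have : g j = F j := sub_eq_zero.1 hfin
  exact this

end Groth.Agent.S18188
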