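import Groth.Statements.S18189
import Mathlib
import Groth.Agent.S18188

set_option autoImplicit false
open OrbRR

namespace Groth.Agent.S18189

theorem geom_zero' (x : ℂ) (N : ℕ) (hxN : x ^ N = 1) (hx1 : x ≠ 1) :
    ∑ j ∈ Finset.range N, x ^ j = 0 := by
  have h := geom_sum_mul x N
  rw [hxN, sub_self] at h
  rcases mul_eq_zero.1 h with h | h
  · exact h
  · exact absurd (sub_eq_zero.1 h) hx1

theorem inv_D_real (x : ℂ) (hx : ‖x‖ = 1) :
    (1 / (2 - x - x⁻¹)).im = 0 ∧ 0 ≤ (1 / (2 - x - x⁻¹)).re := by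
  have h1 : x⁻¹ = (starRingEnd ℂ) x := Complex.inv_eq_conj hx
  have h2 : 2 - x - x⁻¹ = ((2 - 2 * x.re : ℝ) : ℂ) := by
    rw [h1]
    apply Complex.ext
    · simp; ring
    · simp
  have h3 : x.re ≤ 1 := by
    have := Complex.re_le_norm x
    rwa [hx] at this
  rw [h2, one_div, ← Complex.ofReal_inv]
  refine ⟨Complex.ofReal_im _, ?_⟩
  rw [Complex.ofReal_re]
  apply inv_nonneg.2
  linarith

/-- Let N ≥ 1 be a natural number, let ζ ∈ ℂ be a primitive N-th root of unity, and put f(i) = i(i −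
N)/2 + (N² − 1)/12 for 0 ≤ i < N. For every natural number m the complex number ε_m = (1/N)
∑_{i=0}^{N−1} f(i) ζ^{mi}, an eigenvalue of the symmetric circulant N × N matrix with (i, j) entry
f(j − i)/N, is real and nonnegative. -/
theorem result (N : ℕ) (hN : 0 < N) (ζ : ℂ)
    (hζ : IsPrimitiveRoot ζ N) (m : ℕ) :
    (∑ i ∈ Finset.range N,
        ((i : ℂ) * ((i : ℂ) - (N : ℂ)) / 2 + ((N : ℂ) ^ 2 - 1) / 12) / (N : ℂ) * ζ ^ (m * i)).im = 0 ∧
    0 ≤ (∑ i ∈ Finset.range N,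
        ((i : ℂ) * ((i : ℂ) - (N : ℂ)) / 2 + ((N : ℂ) ^ 2 - 1) / 12) / (N : ℂ) * ζ ^ (m * i)).re := by
  classical
  have h6 : (6 : ℂ) ≠ 0 := by norm_num
  have hNC : (N : ℂ) ≠ 0 := Nat.cast_ne_zero.2 hN.ne'
  have hnorm : ∀ l : ℕ, ‖ζ ^ l‖ = 1 := by
    intro l
    rw [norm_pow, hζ.norm'_eq_one hN.ne', one_pow]
  -- rewrite the sum
  have hS : (∑ i ∈ Finset.range N,
        ((i : ℂ) * ((i : ℂ) - (N : ℂ)) / 2 + ((N : ℂ) ^ 2 - 1) / 12) / (N : ℂ) * ζ ^ (m * i)) =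
      ∑ l ∈ Finset.Ioo 0 N, (if N ∣ l + m then 1 / (2 - ζ ^ l - (ζ ^ l)⁻¹) else 0) := by
    have h1 : ∀ i ∈ Finset.range N,
        ((i : ℂ) * ((i : ℂ) - (N : ℂ)) / 2 + ((N : ℂ) ^ 2 - 1) / 12) / (N : ℂ) * ζ ^ (m * i) =
        ∑ l ∈ Finset.Ioo 0 N, (1 / (2 - ζ ^ l - (ζ ^ l)⁻¹)) / (N : ℂ) * (ζ ^ (l + m)) ^ i := by
      intro i hi
      rw [Finset.mem_range] at hi
      rw [← Groth.Agent.S18188.result ℂ h6 N i hi ζ hζ, Finset.sum_div, Finset.sum_mul]
      apply Finset.sum_congr rfl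
      intro l _
      rw [← pow_mul, add_mul, pow_add]
      ring
    rw [Finset.sum_congr rfl h1, Finset.sum_comm]
    apply Finset.sum_congr rfl
    intro l _
    rw [← Finset.mul_sum]
    by_cases hdvd : N ∣ l + m
    · rw [if_pos hdvd]
      have hx : ζ ^ (l + m) = 1 := (hζ.pow_eq_one_iff_dvd _).2 hdvd
      rw [hx]
      simp only [one_pow, Finset.sum_const, Finset.card_range, nsmul_eq_mul, mul_one]
      field_simp
    · rw [if_neg hdvd]
      have hx : ζ ^ (l + m) ≠ 1 := fun h => hdvd ((hζ.pow_eq_one_iff_dvd _).1 h)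
      have hxN : (ζ ^ (l + m)) ^ N = 1 := by rw [← pow_mul, mul_comm, pow_mul, hζ.pow_eq_one, one_pow]
      rw [geom_zero' _ N hxN hx, mul_zero]
  rw [hS]
  constructor
  · rw [Complex.im_sum]
    apply Finset.sum_eq_zero
    intro l _
    split_ifs
    · exact (inv_D_real _ (hnorm l)).1
    · simp
  · rw [Complex.re_sum]
    apply Finset.sum_nonneg
    intro l _
    split_ifs
    · exact (inv_D_real _ (hnorm l)).2
    · simp

end Groth.Agent.S18189
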