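import Groth.Statements.S18190
import Mathlib
import Groth.Agent.S18188

set_option autoImplicit false
open OrbRR

namespace Groth.Agent.S18190

open Complex in
theorem inv_D_real' (x : ℂ) (hx : ‖x‖ = 1) :
    (1 / (2 - x - x⁻¹)).im = 0 ∧ 0 ≤ (1 / (2 - x - x⁻¹)).re := by
  have h1 : x⁻¹ = (starRingEnd ℂ) x := Complex.inv_eq_conj hx
  have h2 : 2 - x - x⁻¹ = ((2 - 2 * x.re : ℝ) : ℂ) := by
    rw [h1]
    apply Complex.ext
    · simp; ring
    · simp
  have h3 : x.re ≤ 1 := by
    have := Complex.re_le_norm x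
    rwa [hx] at this
  rw [h2, one_div, ← Complex.ofReal_inv]
  refine ⟨Complex.ofReal_im _, ?_⟩
  rw [Complex.ofReal_re]
  apply inv_nonneg.2
  linarith

theorem chi_add (N : ℕ) [NeZero N] (ζ : ℂ) (hζ : ζ ^ N = 1) (s t : ZMod N) :
    ζ ^ (s + t).val = ζ ^ s.val * ζ ^ t.val := by
  rw [ZMod.val_add, ← pow_add]
  conv_rhs => rw [← Nat.div_add_mod (s.val + t.val) N, pow_add, pow_mul, hζ, one_pow, one_mul]

theorem chi_sub (N : ℕ) [NeZero N] (ζ : ℂ) (hζ : ζ ^ N = 1) (hn : ‖ζ‖ = 1) (j i : ZMod N) :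
    ζ ^ (j - i).val = ζ ^ j.val * (starRingEnd ℂ) (ζ ^ i.val) := by
  have h1 := chi_add N ζ hζ (j - i) i
  rw [sub_add_cancel] at h1
  have hni : ‖ζ ^ i.val‖ = 1 := by rw [norm_pow, hn, one_pow]
  rw [← Complex.inv_eq_conj hni, h1, mul_assoc, mul_inv_cancel₀, mul_one]
  intro h0
  rw [h0, norm_zero] at hni
  exact zero_ne_one hni

/-- Let N ≥ 1 and let f : ℤ/Nℤ → ℚ be f(x) = x(x − N)/2 + (N² − 1)/12, where x is read as its
representative with 0 ≤ x < N. The real N × N matrix indexed by ℤ/Nℤ whose (i, j) entry is f(j −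
i)/N, a symmetric circulant matrix, is positive semidefinite. -/
theorem result (N : ℕ) [NeZero N] :
    (Matrix.of fun i j : ZMod N =>
        ((((j - i).val : ℝ) * (((j - i).val : ℝ) - (N : ℝ))) / 2 + ((N : ℝ) ^ 2 - 1) / 12) / (N : ℝ)).PosSemidef := by
  classical
  have hN : 0 < N := Nat.pos_of_ne_zero (NeZero.ne N)
  have hNR : (N : ℝ) ≠ 0 := Nat.cast_ne_zero.2 hN.ne'
  have hNC : (N : ℂ) ≠ 0 := Nat.cast_ne_zero.2 hN.ne'
  set c : ZMod N → ℝ := fun t =>
    (((t.val : ℝ) * ((t.val : ℝ) - (N : ℝ))) / 2 + ((N : ℝ) ^ 2 - 1) / 12) / (N : ℝ) with hc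
  apply Matrix.PosSemidef.of_dotProduct_mulVec_nonneg
  · -- symmetric
    rw [Matrix.IsHermitian]
    ext i j
    simp only [Matrix.conjTranspose_apply, Matrix.of_apply, star_trivial]
    have hneg : ∀ t : ZMod N, c (-t) = c t := by
      intro t
      simp only [hc]
      by_cases ht : t = 0
      · rw [ht, neg_zero]
      · rw [ZMod.neg_val, if_neg ht, Nat.cast_sub (ZMod.val_lt t).le]
        ring
    have := hneg (j - i)
    rw [neg_sub] at this
    exact this
  · intro x
    set ζ : ℂ := Complex.exp (2 * Real.pi * Complex.I / N) with hζdef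
    have hζ : IsPrimitiveRoot ζ N := Complex.isPrimitiveRoot_exp N hN.ne'
    have hζN : ζ ^ N = 1 := hζ.pow_eq_one
    have hζn : ‖ζ‖ = 1 := hζ.norm'_eq_one hN.ne'
    have h6 : (6 : ℂ) ≠ 0 := by norm_num
    set w : ℕ → ℂ := fun l => 1 / (2 - ζ ^ l - (ζ ^ l)⁻¹) with hw
    have hwreal : ∀ l, w l = ((w l).re : ℂ) := by
      intro l
      have := (inv_D_real' (ζ ^ l) (by rw [norm_pow, hζn, one_pow])).1
      apply Complex.ext
      · rw [Complex.ofReal_re]
      · rw [Complex.ofReal_im]; exact this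
    have hwnn : ∀ l, 0 ≤ (w l).re := fun l =>
      (inv_D_real' (ζ ^ l) (by rw [norm_pow, hζn, one_pow])).2
    -- Fourier expansion of c
    have hcF : ∀ t : ZMod N, ((c t : ℝ) : ℂ) =
        ∑ l ∈ Finset.Ioo 0 N, w l / (N : ℂ) * (ζ ^ t.val) ^ l := by
      intro t
      have h := Groth.Agent.S18188.result ℂ h6 N t.val (ZMod.val_lt t) ζ hζ
      simp only [hc]
      push_cast
      rw [← h, Finset.sum_div]
      apply Finset.sum_congr rfl
      intro l _
      simp only [hw]
      rw [← pow_mul, mul_comm t.val l]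
      field_simp
    set S : ℕ → ℂ := fun l => ∑ j : ZMod N, (x j : ℂ) * (ζ ^ j.val) ^ l with hS
    have hmain : (((star x ⬝ᵥ (Matrix.of fun i j : ZMod N => c (j - i)).mulVec x : ℝ)) : ℂ) =
        ∑ l ∈ Finset.Ioo 0 N, (((w l).re / (N : ℝ) * Complex.normSq (S l) : ℝ) : ℂ) := by
      simp only [dotProduct, Matrix.mulVec, Matrix.of_apply, star_trivial, Pi.star_apply]
      push_cast
      have h1 : ∀ i j : ZMod N, ((c (j - i) : ℝ) : ℂ) =
          ∑ l ∈ Finset.Ioo 0 N, w l / (N : ℂ) * ((ζ ^ j.val) ^ l * (starRingEnd ℂ) ((ζ ^ i.val) ^ l)) := by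
        intro i j
        rw [hcF]
        apply Finset.sum_congr rfl
        intro l _
        rw [chi_sub N ζ hζN hζn, mul_pow, ← map_pow]
      calc ∑ i : ZMod N, (x i : ℂ) * ∑ j : ZMod N, ((c (j - i) : ℝ) : ℂ) * (x j : ℂ)
          = ∑ i : ZMod N, ∑ j : ZMod N, ∑ l ∈ Finset.Ioo 0 N,
              w l / (N : ℂ) * (((x j : ℂ) * (ζ ^ j.val) ^ l) * ((x i : ℂ) * (starRingEnd ℂ) ((ζ ^ i.val) ^ l))) := by
            apply Finset.sum_congr rfl
            intro i _
            rw [Finset.mul_sum]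
            apply Finset.sum_congr rfl
            intro j _
            rw [h1, Finset.sum_mul, Finset.mul_sum]
            apply Finset.sum_congr rfl
            intro l _
            ring
        _ = ∑ i : ZMod N, ∑ l ∈ Finset.Ioo 0 N, ∑ j : ZMod N,
              w l / (N : ℂ) * (((x j : ℂ) * (ζ ^ j.val) ^ l) * ((x i : ℂ) * (starRingEnd ℂ) ((ζ ^ i.val) ^ l))) := by
            apply Finset.sum_congr rfl
            intro i _
            exact Finset.sum_comm
        _ = ∑ l ∈ Finset.Ioo 0 N, ∑ i : ZMod N, ∑ j : ZMod N,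
              w l / (N : ℂ) * (((x j : ℂ) * (ζ ^ j.val) ^ l) * ((x i : ℂ) * (starRingEnd ℂ) ((ζ ^ i.val) ^ l))) :=
            Finset.sum_comm
        _ = ∑ l ∈ Finset.Ioo 0 N, w l / (N : ℂ) * (S l * (starRingEnd ℂ) (S l)) := by
            apply Finset.sum_congr rfl
            intro l _
            simp only [hS]
            rw [map_sum, Finset.sum_mul_sum, Finset.mul_sum, Finset.sum_comm]
            apply Finset.sum_congr rfl
            intro i _
            rw [Finset.mul_sum]
            apply Finset.sum_congr rfl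
            intro j _
            rw [map_mul, Complex.conj_ofReal]
        _ = _ := by
            apply Finset.sum_congr rfl
            intro l _
            rw [Complex.mul_conj, hwreal l]
            push_cast
            simp
    have hreal : (star x ⬝ᵥ (Matrix.of fun i j : ZMod N => c (j - i)).mulVec x : ℝ) =
        ∑ l ∈ Finset.Ioo 0 N, ((w l).re / (N : ℝ) * Complex.normSq (S l)) := by
      apply Complex.ofReal_injective
      rw [hmain]
      push_cast
      rfl
    show 0 ≤ star x ⬝ᵥ (Matrix.of fun i j : ZMod N => c (j - i)).mulVec x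
    rw [hreal]
    apply Finset.sum_nonneg
    intro l _
    apply mul_nonneg
    · exact div_nonneg (hwnn l) (Nat.cast_nonneg N)
    · exact Complex.normSq_nonneg _

end Groth.Agent.S18190
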