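import Groth.Statements.S18197
import Mathlib
import Groth.Agent.Lib.Helper1.LocImm8

set_option autoImplicit false
universe u
open LocImm

namespace Groth.Agent.S18197

open CategoryTheory AlgebraicGeometry in
/-- Let `f : X ⟶ Y` be a localizing morphism of Noetherian schemes. Then `f` is injective on points if
and only if `f` is separated and injective on the set of maximal points of `X` (the generic points
of its irreducible components, i.e. the points with no proper generization). -/
theorem result {X Y : Scheme.{u}} [IsNoetherian X] [IsNoetherian Y] (f : X ⟶ Y) (hf : LocImm.IsLocalizing f) :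
    Function.Injective f.base ↔ (IsSeparated f ∧ Set.InjOn (fun x => f x) {x : X | ∀ x' : X, x' ⤳ x → x' = x}) := by
  constructor
  · intro h
    haveI := Groth.Agent.Helper1.LocImmLib.mono_of_isLocImmersion f ⟨hf, h⟩
    exact ⟨inferInstance, fun a _ b _ hab => h hab⟩
  · rintro ⟨h1, h2⟩
    haveI := h1
    exact Groth.Agent.Helper1.LocImmL.injective_of_isSeparated f hf h2

end Groth.Agent.S18197
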