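import Groth.Statements.S18232
import Groth.Agent.Lib.Helper2.Sch.TensorCont
import Groth.Agent.Lib.Helper2.Sch.PowZeroBC
import Groth.Agent.Lib.Helper2.Formal.EtaleHom


set_option autoImplicit false
universe u
open CategoryTheory MonoidalCategory CartesianMonoidalCategory AlgebraicGeometry Opposite
open Magnet

namespace Groth.Agent.S18232

/-- Let S be a scheme, M a finitely generated abelian group, N a submonoid of M, and let X, Y be
S-schemes with actions of the diagonalizable group scheme D(M)_S and f : X → Y an equivariant,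
formally unramified S-morphism. Then the induced map f^N : X^N → Y^N, viewed as a transformation of
functors on S-schemes, is again formally unramified: for every ring A, ideal I of A with I² = 0 and
structure morphism Spec A → S, writing T = Spec (A/I) ⊂ T' = Spec A, two elements of X^N(T') with
the same restriction to T and the same image in Y^N(T') are equal. (Stated for schemes; the
published statement is for algebraic spaces over S.) -/
theorem result (S : Scheme.{u}) (M : Type) [AddCommGroup M]
    [AddGroup.FG M] (N : AddSubmonoid M) {X Y : Over S} (aX : Magnet.MonAct (Magnet.AMonS S M) X)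
    (aY : Magnet.MonAct (Magnet.AMonS S M) Y) (f : X ⟶ Y) (hf : Magnet.MonAct.IsEquivariant aX aY f)
    [FormallyUnramified f.left] (A : Type u) [CommRing A] (I : Ideal A) (hI : I ^ 2 = ⊥)
    (str : Spec (CommRingCat.of A) ⟶ S) (l₁ l₂ : (Magnet.attr aX N).obj (op (Over.mk str)))
    (htop : (Magnet.attr aX N).map (Over.homMk (Spec.map (CommRingCat.ofHom (Ideal.Quotient.mk I))) rfl :
        Over.mk (Spec.map (CommRingCat.ofHom (Ideal.Quotient.mk I)) ≫ str) ⟶ Over.mk str).op l₁ =
      (Magnet.attr aX N).map (Over.homMk (Spec.map (CommRingCat.ofHom (Ideal.Quotient.mk I))) rfl :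
        Over.mk (Spec.map (CommRingCat.ofHom (Ideal.Quotient.mk I)) ≫ str) ⟶ Over.mk str).op l₂)
    (hbot : (Magnet.MonAct.eqvHom.postcomp (Magnet.subAct S M N) f hf).app _ l₁ =
      (Magnet.MonAct.eqvHom.postcomp (Magnet.subAct S M N) f hf).app _ l₂) :
    l₁ = l₂ := by
  classical
  obtain ⟨B, hB⟩ : ∃ B : Over S, B = Magnet.AMonS S ↥N := ⟨_, rfl⟩
  have hBaff : IsAffineHom B.hom := by
    rw [hB]
    haveI : IsAffineHom (Magnet.AMon (ULift.{u} ℤ) ↥N).hom := by
      haveI : IsAffine (Magnet.AMon (ULift.{u} ℤ) ↥N).left := by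
        show IsAffine (Spec _)
        infer_instance
      haveI : IsAffine (Spec (CommRingCat.of (ULift.{u} ℤ))) := inferInstance
      exact isAffineHom_of_isAffine _
    show IsAffineHom (Limits.pullback.snd _ _)
    exact MorphismProperty.pullback_snd (P := @IsAffineHom) _ _ inferInstance
  -- the thickening `j : T ⟶ T'`
  obtain ⟨j, hj⟩ : ∃ j : Over.mk (Spec.map (CommRingCat.ofHom (Ideal.Quotient.mk I)) ≫ str) ⟶
      Over.mk str, j = Over.homMk (Spec.map (CommRingCat.ofHom (Ideal.Quotient.mk I))) rfl :=
    ⟨_, rfl⟩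
  have hjl : j.left = Spec.map (CommRingCat.ofHom (Ideal.Quotient.mk I)) := by rw [hj]; rfl
  have e1 : (Magnet.AMonS S ↥N ◁ j) ≫ l₁.1 = (Magnet.AMonS S ↥N ◁ j) ≫ l₂.1 := by
    have := congrArg Subtype.val htop
    rw [hj]
    exact this
  have e2 : l₁.1 ≫ f = l₂.1 ≫ f := congrArg Subtype.val hbot
  -- the base-changed thickening
  have sq := (Groth.Agent.Helper2.TensorCont.isPullback_whiskerLeft_snd j
    (Magnet.AMonS S ↥N)).map (Over.forget S)
  have sq' : IsPullback (snd (Magnet.AMonS S ↥N) _).left (Magnet.AMonS S ↥N ◁ j).left j.left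
      (snd (Magnet.AMonS S ↥N) (Over.mk str)).left := sq
  haveI hci : IsClosedImmersion j.left := by
    rw [hjl]
    exact IsClosedImmersion.spec_of_surjective _ Ideal.Quotient.mk_surjective
  haveI hsj : Surjective j.left := by
    rw [hjl]
    exact Groth.Agent.Helper2.FormalLib.surjective_spec_quot I hI
  have hkj : j.left.ker ^ (1 + 1) = ⊥ := by
    rw [hjl, pow_succ, pow_one]
    exact Groth.Agent.Helper2.FormalLib.ker_spec_quot_sq I hI
  haveI : IsClosedImmersion (Magnet.AMonS S ↥N ◁ j).left :=
    MorphismProperty.of_isPullback sq' hci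
  haveI : Surjective (Magnet.AMonS S ↥N ◁ j).left :=
    MorphismProperty.of_isPullback sq' hsj
  haveI : IsAffine (Over.mk str).left := by
    show IsAffine (Spec (CommRingCat.of A))
    infer_instance
  haveI : IsAffine (Magnet.AMonS S ↥N ⊗ Over.mk str).left := by
    haveI : IsAffineHom (snd (Magnet.AMonS S ↥N) (Over.mk str)).left := by
      rw [hB] at hBaff
      show IsAffineHom (Limits.pullback.snd (Magnet.AMonS S ↥N).hom (Over.mk str).hom)
      exact MorphismProperty.pullback_snd (P := @IsAffineHom) _ _ hBaff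
    exact isAffine_of_isAffineHom (snd (Magnet.AMonS S ↥N) (Over.mk str)).left
  have hk : (Magnet.AMonS S ↥N ◁ j).left.ker * (Magnet.AMonS S ↥N ◁ j).left.ker = ⊥ := by
    have := Groth.Agent.Helper2.PowZeroBC.powZero_of_isPullback_affine j.left
      (snd (Magnet.AMonS S ↥N) (Over.mk str)).left (Magnet.AMonS S ↥N ◁ j).left _ sq' 1 hkj
    rwa [pow_succ, pow_one] at this
  have huu := Groth.Agent.Helper2.FormalLib.uu_of_locFUnr
    (Groth.Agent.Helper2.FormalLib.locFUnr_of_formallyUnramified f.left)
    (Magnet.AMonS S ↥N ◁ j).left hk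
  have hl : l₁.1.left = l₂.1.left := by
    apply huu
    · have := congrArg (fun m => m.left) e1
      simpa using this
    · have := congrArg (fun m => m.left) e2
      simpa using this
  exact Subtype.ext (Over.OverMorphism.ext hl)

end Groth.Agent.S18232
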