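import Groth.Statements.S18234
import Groth.Agent.S18232


set_option autoImplicit false
universe u
open CategoryTheory MonoidalCategory CartesianMonoidalCategory AlgebraicGeometry Opposite
open Magnet

namespace Groth.Agent.S18234

/-- Let S be a scheme, M a finitely generated abelian group, N a submonoid of M, X and Y schemes over S
with actions of the diagonalizable group scheme D(M)_S, and f : X → Y a formally unramified
equivariant S-morphism. If the attractors X^N and Y^N are represented by S-schemes Z_X and Z_Y, and
j : Z_X → Z_Y is the S-morphism that corresponds to f^N under the two representing bijections, then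
j is formally unramified. (Stated for schemes; the published statement is for algebraic spaces over
S.) -/
theorem result (S : Scheme.{u}) (M : Type) [AddCommGroup M]
    [AddGroup.FG M] (N : AddSubmonoid M) {X Y : Over S} (aX : Magnet.MonAct (Magnet.AMonS S M) X)
    (aY : Magnet.MonAct (Magnet.AMonS S M) Y) (f : X ⟶ Y) (hf : Magnet.MonAct.IsEquivariant aX aY f)
    [FormallyUnramified f.left] {ZX ZY : Over S} (eX : (Magnet.attr aX N).RepresentableBy ZX) (eY : (Magnet.attr aY N).RepresentableBy ZY)
    (j : ZX ⟶ ZY) (hj : ∀ (T : Over S) (z : T ⟶ ZX),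
      eY.homEquiv (z ≫ j) = (Magnet.MonAct.eqvHom.postcomp (Magnet.subAct S M N) f hf).app (op T) (eX.homEquiv z)) :
    FormallyUnramified j.left := by
  classical
  apply Groth.Agent.Helper2.FormalLib.formallyUnramified_of_uu
  intro A _ I hI l l' h1 h2
  obtain ⟨str, hstr⟩ : ∃ str : Spec (CommRingCat.of A) ⟶ S, str = l ≫ ZX.hom := ⟨_, rfl⟩
  have hstr' : l' ≫ ZX.hom = str := by
    rw [hstr, ← Over.w j, ← Category.assoc, ← Category.assoc, h2]
  let z : Over.mk str ⟶ ZX := Over.homMk l hstr.symm
  let z' : Over.mk str ⟶ ZX := Over.homMk l' hstr'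
  let jj : Over.mk (Spec.map (CommRingCat.ofHom (Ideal.Quotient.mk I)) ≫ str) ⟶ Over.mk str :=
    Over.homMk (Spec.map (CommRingCat.ofHom (Ideal.Quotient.mk I))) rfl
  have hz1 : jj ≫ z = jj ≫ z' := by
    ext
    exact h1
  have hz2 : z ≫ j = z' ≫ j := by
    ext
    exact h2
  have htop : (Magnet.attr aX N).map jj.op (eX.homEquiv z) =
      (Magnet.attr aX N).map jj.op (eX.homEquiv z') := by
    rw [← eX.homEquiv_comp, ← eX.homEquiv_comp, hz1]
  have hbot : (Magnet.MonAct.eqvHom.postcomp (Magnet.subAct S M N) f hf).app _ (eX.homEquiv z) =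
      (Magnet.MonAct.eqvHom.postcomp (Magnet.subAct S M N) f hf).app _ (eX.homEquiv z') := by
    have e1 := hj (Over.mk str) z
    have e2 := hj (Over.mk str) z'
    rw [← e1, ← e2, hz2]
  have key := Groth.Agent.S18232.result S M N aX aY f hf A I hI str (eX.homEquiv z)
    (eX.homEquiv z') htop hbot
  have hzz : z = z' := eX.homEquiv.injective key
  exact congrArg (fun m => m.left) hzz

end Groth.Agent.S18234
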