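import Groth.Statements.S18251
import Mathlib
import Groth.Prelude.Def_W4c5m1nsnscurvesC
-- import your own Groth.Agent.* helpers here

set_option autoImplicit false
universe u
open W4c5m1nsnscurves
open Curves

namespace Groth.Agent.S18251

namespace Aux

open MvPolynomial

section generic

variable {σ : Type*} {R : Type u} [CommRing R] (m : MonomialOrder σ)

theorem mk_smul' (I : Ideal (MvPolynomial σ R)) (c : R) (p : MvPolynomial σ R) :
    Ideal.Quotient.mk I (c • p) = c • Ideal.Quotient.mk I p :=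
  map_smul (Ideal.Quotient.mkₐ R I) c p

/-- a polynomial supported on standard monomials and divisible by a monic `f` vanishes -/
theorem eq_zero_of_std_of_mem [Nontrivial R] (f : MvPolynomial σ R) (hf : m.Monic f)
    (r : MvPolynomial σ R) (hr : ∀ c ∈ r.support, ¬ m.degree f ≤ c)
    (hmem : r ∈ Ideal.span {f}) : r = 0 := by
  obtain ⟨g, rfl⟩ := Ideal.mem_span_singleton'.mp hmem
  by_contra hne
  have hreg : IsRegular (m.leadingCoeff f) := by
    rw [hf.leadingCoeff_eq_one]; exact isRegular_one
  have hg : g ≠ 0 := by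
    rintro rfl
    exact hne (zero_mul _)
  have hdeg := m.degree_mul_of_isRegular_right hg hreg
  have hsupp := m.degree_mem_support hne
  apply hr _ hsupp
  rw [hdeg]
  exact le_add_self

theorem std_linearIndependent [Nontrivial R] (f : MvPolynomial σ R) (hf : m.Monic f) :
    LinearIndependent R (fun e : {e : σ →₀ ℕ // ¬ m.degree f ≤ e} =>
      (Ideal.Quotient.mk (Ideal.span {f}) (monomial e.1 1))) := by
  classical
  rw [linearIndependent_iff']
  intro s g hsum i hi
  set r : MvPolynomial σ R := ∑ e ∈ s, monomial e.1 (g e) with hrdef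
  have hcoeff : ∀ c : {e : σ →₀ ℕ // ¬ m.degree f ≤ e}, coeff c.1 r = if c ∈ s then g c else 0 := by
    intro c
    rw [hrdef, coeff_sum]
    have : ∀ e ∈ s, coeff c.1 (monomial e.1 (g e)) = if e = c then g e else 0 := by
      intro e _
      rw [coeff_monomial]
      simp only [Subtype.ext_iff]
    rw [Finset.sum_congr rfl this, Finset.sum_ite_eq' s c]
  have hsupp : ∀ c ∈ r.support, ¬ m.degree f ≤ c := by
    intro c hc
    rw [hrdef] at hc
    have h1 := MvPolynomial.support_sum hc
    rw [Finset.mem_biUnion] at h1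
    obtain ⟨e, _, he⟩ := h1
    have h2 := MvPolynomial.support_monomial_subset he
    rw [Finset.mem_singleton] at h2
    rw [h2]
    exact e.2
  have hmem : r ∈ Ideal.span {f} := by
    rw [← Ideal.Quotient.eq_zero_iff_mem, hrdef, map_sum, ← hsum]
    apply Finset.sum_congr rfl
    intro e _
    rw [← mk_smul', smul_monomial, smul_eq_mul, mul_one]
  have hr0 := eq_zero_of_std_of_mem m f hf r hsupp hmem
  have := hcoeff i
  rw [hr0, coeff_zero, if_pos hi] at this
  exact this.symm

theorem std_span (f : MvPolynomial σ R) (hf : IsUnit (m.leadingCoeff f)) :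
    Submodule.span R (Set.range (fun e : {e : σ →₀ ℕ // ¬ m.degree f ≤ e} =>
      (Ideal.Quotient.mk (Ideal.span {f}) (monomial e.1 1)))) = ⊤ := by
  rw [eq_top_iff]
  rintro x -
  obtain ⟨p, rfl⟩ := Ideal.Quotient.mk_surjective x
  obtain ⟨g, r, hp, -, hr⟩ := m.div_single hf p
  have h1 : Ideal.Quotient.mk (Ideal.span {f}) p = Ideal.Quotient.mk (Ideal.span {f}) r := by
    rw [Ideal.Quotient.eq, hp, add_sub_cancel_right]
    exact Ideal.mul_mem_left _ _ (Ideal.mem_span_singleton_self f)
  rw [h1, r.as_sum, map_sum]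
  apply Submodule.sum_mem
  intro c hc
  have : monomial c (coeff c r) = coeff c r • monomial c (1 : R) := by
    rw [smul_monomial, smul_eq_mul, mul_one]
  rw [this, mk_smul']
  apply Submodule.smul_mem
  exact Submodule.subset_span ⟨⟨c, hr c hc⟩, rfl⟩

end generic


section order

theorem fin2_finsupp_eq (e : Fin 2 →₀ ℕ) : Finsupp.single 1 (e 1) + Finsupp.single 0 (e 0) = e := by
  ext i
  revert i
  rw [Fin.forall_fin_two]
  constructor <;> simp

theorem fin2_finsupp_apply (p q : ℕ) :
    ((Finsupp.single (1 : Fin 2) p + Finsupp.single 0 q : Fin 2 →₀ ℕ) 1 = p) ∧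
    ((Finsupp.single (1 : Fin 2) p + Finsupp.single 0 q : Fin 2 →₀ ℕ) 0 = q) := by
  constructor <;> simp

/-- the lexicographic order with `X 1 > X 0` -/
noncomputable def mo : MonomialOrder (Fin 2) where
  syn := ℕ ×ₗ ℕ
  toSyn :=
    { toFun := fun e => toLex (e 1, e 0)
      invFun := fun p => Finsupp.single 1 (ofLex p).1 + Finsupp.single 0 (ofLex p).2
      left_inv := fun e => fin2_finsupp_eq e
      right_inv := by
        intro p
        show toLex (_, _) = p
        rw [(fin2_finsupp_apply _ _).1, (fin2_finsupp_apply _ _).2]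
        rfl
      map_add' := by
        intro a b
        rfl }
  toSyn_monotone := by
    intro a b h
    show toLex (a 1, a 0) ≤ toLex (b 1, b 0)
    rw [Prod.Lex.le_iff]
    by_cases h1 : a 1 < b 1
    · left; exact h1
    · right
      exact ⟨le_antisymm (h 1) (not_lt.mp h1), h 0⟩

theorem mo_lt_iff (a b : Fin 2 →₀ ℕ) :
    mo.toSyn a < mo.toSyn b ↔ a 1 < b 1 ∨ (a 1 = b 1 ∧ a 0 < b 0) := by
  show toLex (a 1, a 0) < toLex (b 1, b 0) ↔ _
  rw [Prod.Lex.lt_iff]
  exact Iff.rfl

end order

section specific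

variable (R : Type u) [CommRing R] (a b c d : R)

/-- the leading exponent -/
noncomputable def d0 : Fin 2 →₀ ℕ := Finsupp.single 0 1 + Finsupp.single 1 2

/-- the relation -/
noncomputable def frel : MvPolynomial (Fin 2) R :=
  X 0 * X 1 ^ 2 - X 0 ^ 2 * X 1 - (C a * X 0 * X 1 + C b * X 0 + C c * X 1 + C d)

/-- the lower part -/
noncomputable def glow : MvPolynomial (Fin 2) R :=
  - monomial (Finsupp.single 0 2 + Finsupp.single 1 1) 1
  - (monomial (Finsupp.single 0 1 + Finsupp.single 1 1) a + monomial (Finsupp.single 0 1) b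
    + monomial (Finsupp.single 1 1) c + monomial 0 d)

theorem frel_eq : frel R a b c d = monomial d0 1 + glow R a b c d := by
  unfold frel glow d0
  simp only [monomial_add_single, monomial_single_add, C_apply, X, monomial_pow, monomial_mul]
  simp
  ring

theorem coeff_glow (e : Fin 2 →₀ ℕ) (he : 2 ≤ e 1) : coeff e (glow R a b c d) = 0 := by
  classical
  unfold glow
  simp only [coeff_sub, coeff_neg, coeff_add, coeff_monomial]
  have h1 : ¬ (Finsupp.single 0 2 + Finsupp.single 1 1 : Fin 2 →₀ ℕ) = e := by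
    intro h; rw [← h] at he; simp at he
  have h2 : ¬ (Finsupp.single 0 1 + Finsupp.single 1 1 : Fin 2 →₀ ℕ) = e := by
    intro h; rw [← h] at he; simp at he
  have h3 : ¬ (Finsupp.single 0 1 : Fin 2 →₀ ℕ) = e := by
    intro h; rw [← h] at he; simp at he
  have h4 : ¬ (Finsupp.single 1 1 : Fin 2 →₀ ℕ) = e := by
    intro h; rw [← h] at he; simp at he
  have h5 : ¬ (0 : Fin 2 →₀ ℕ) = e := by
    intro h; rw [← h] at he; simp at he
  rw [if_neg h1, if_neg h2, if_neg h3, if_neg h4, if_neg h5]
  simp

theorem d0_apply : (d0 1 = 2) ∧ (d0 0 = 1) := by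
  unfold d0
  constructor <;> simp

theorem frel_monic [Nontrivial R] : mo.Monic (frel R a b c d) ∧ mo.degree (frel R a b c d) = d0 := by
  classical
  have hdm : mo.degree (monomial d0 (1 : R)) = d0 := by
    rw [MonomialOrder.degree_monomial, if_neg one_ne_zero]
  have hlt : mo.toSyn (mo.degree (glow R a b c d)) < mo.toSyn (mo.degree (monomial d0 (1 : R))) := by
    rw [hdm]
    have h0 : mo.toSyn 0 < mo.toSyn d0 := by
      rw [mo_lt_iff]; left; rw [d0_apply.1]; simp
    rw [MonomialOrder.degree_lt_iff h0]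
    intro e he
    rw [mo_lt_iff]
    left
    rw [d0_apply.1]
    by_contra hcon
    rw [mem_support_iff] at he
    exact he (coeff_glow R a b c d e (by omega))
  rw [frel_eq]
  refine ⟨MonomialOrder.Monic.add_of_lt MonomialOrder.monic_monomial_one hlt, ?_⟩
  rw [MonomialOrder.degree_add_of_lt hlt, hdm]

/-- the exponents of the basis monomials -/
noncomputable def ex : Option (ℕ ⊕ (Fin 2 × ℕ)) → (Fin 2 →₀ ℕ)
  | none => 0
  | some (Sum.inl k) => Finsupp.single 0 (k + 1) + Finsupp.single 1 1
  | some (Sum.inr (y, k)) => Finsupp.single y (k + 1)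

theorem d0_le_iff (e : Fin 2 →₀ ℕ) : d0 ≤ e ↔ 1 ≤ e 0 ∧ 2 ≤ e 1 := by
  rw [Finsupp.le_def, Fin.forall_fin_two, d0_apply.1, d0_apply.2]

theorem ex_std (i : Option (ℕ ⊕ (Fin 2 × ℕ))) : ¬ d0 ≤ ex i := by
  rw [d0_le_iff]
  rcases i with _ | k | ⟨y, k⟩
  · simp [ex]
  · simp [ex]
  · revert y
    rw [Fin.forall_fin_two]
    constructor <;> simp [ex]

theorem ex_apply_inl (k : ℕ) : ex (some (Sum.inl k)) 0 = k + 1 ∧ ex (some (Sum.inl k)) 1 = 1 := by
  constructor <;> simp [ex]

theorem ex_apply_inr0 (k : ℕ) : ex (some (Sum.inr (0, k))) 0 = k + 1 ∧ ex (some (Sum.inr (0, k))) 1 = 0 := by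
  constructor <;> simp [ex]

theorem ex_apply_inr1 (k : ℕ) : ex (some (Sum.inr (1, k))) 0 = 0 ∧ ex (some (Sum.inr (1, k))) 1 = k + 1 := by
  constructor <;> simp [ex]

theorem ex_apply_none : ex none 0 = 0 ∧ ex none 1 = 0 := by
  constructor <;> simp [ex]

theorem ex_surj (e : Fin 2 →₀ ℕ) (he : ¬ d0 ≤ e) : ∃ i, ex i = e := by
  rw [d0_le_iff] at he
  have hext : ∀ i, ex i 0 = e 0 → ex i 1 = e 1 → ex i = e := by
    intro i h0 h1
    ext t
    revert t
    rw [Fin.forall_fin_two]
    exact ⟨h0, h1⟩
  rcases Nat.eq_zero_or_pos (e 0) with h0 | h0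
  · rcases Nat.eq_zero_or_pos (e 1) with h1 | h1
    · exact ⟨none, hext _ (by rw [ex_apply_none.1, h0]) (by rw [ex_apply_none.2, h1])⟩
    · exact ⟨some (Sum.inr (1, e 1 - 1)), hext _ (by rw [(ex_apply_inr1 _).1, h0])
        (by rw [(ex_apply_inr1 _).2]; omega)⟩
  · rcases Nat.eq_zero_or_pos (e 1) with h1 | h1
    · exact ⟨some (Sum.inr (0, e 0 - 1)), hext _ (by rw [(ex_apply_inr0 _).1]; omega)
        (by rw [(ex_apply_inr0 _).2, h1])⟩
    · have h11 : e 1 = 1 := by omega
      exact ⟨some (Sum.inl (e 0 - 1)), hext _ (by rw [(ex_apply_inl _).1]; omega)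
        (by rw [(ex_apply_inl _).2, h11])⟩

theorem ex_inj : Function.Injective ex := by
  intro i j h
  have h0 : ex i 0 = ex j 0 := by rw [h]
  have h1 : ex i 1 = ex j 1 := by rw [h]
  rcases i with _ | k | ⟨y, k⟩ <;> rcases j with _ | l | ⟨z, l⟩
  · rfl
  · rw [ex_apply_none.1, (ex_apply_inl _).1] at h0; omega
  · revert z
    rw [Fin.forall_fin_two]
    constructor
    · intro h h0 h1
      rw [ex_apply_none.1, (ex_apply_inr0 _).1] at h0; omega
    · intro h h0 h1
      rw [ex_apply_none.2, (ex_apply_inr1 _).2] at h1; omega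
  · rw [ex_apply_none.1, (ex_apply_inl _).1] at h0; omega
  · rw [(ex_apply_inl _).1, (ex_apply_inl _).1] at h0
    have : k = l := by omega
    rw [this]
  · revert z
    rw [Fin.forall_fin_two]
    constructor
    · intro h h0 h1
      rw [(ex_apply_inl _).2, (ex_apply_inr0 _).2] at h1; omega
    · intro h h0 h1
      rw [(ex_apply_inl _).1, (ex_apply_inr1 _).1] at h0; omega
  · revert y
    rw [Fin.forall_fin_two]
    constructor
    · intro h h0 h1
      rw [ex_apply_none.1, (ex_apply_inr0 _).1] at h0; omega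
    · intro h h0 h1
      rw [ex_apply_none.2, (ex_apply_inr1 _).2] at h1; omega
  · revert y
    rw [Fin.forall_fin_two]
    constructor
    · intro h h0 h1
      rw [(ex_apply_inl _).2, (ex_apply_inr0 _).2] at h1; omega
    · intro h h0 h1
      rw [(ex_apply_inl _).1, (ex_apply_inr1 _).1] at h0; omega
  · revert y z
    rw [Fin.forall_fin_two]
    constructor
    · rw [Fin.forall_fin_two]
      constructor
      · intro h h0 h1
        rw [(ex_apply_inr0 _).1, (ex_apply_inr0 _).1] at h0
        have : k = l := by omega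
        rw [this]
      · intro h h0 h1
        rw [(ex_apply_inr0 _).1, (ex_apply_inr1 _).1] at h0; omega
    · rw [Fin.forall_fin_two]
      constructor
      · intro h h0 h1
        rw [(ex_apply_inr1 _).1, (ex_apply_inr0 _).1] at h0; omega
      · intro h h0 h1
        rw [(ex_apply_inr1 _).2, (ex_apply_inr1 _).2] at h1
        have : k = l := by omega
        rw [this]

open W4c5m1nsnscurves in
theorem cmon3_eq (i : Option (ℕ ⊕ (Fin 2 × ℕ))) :
    cmon3 R a b c d i = Ideal.Quotient.mk (Ideal.span {frel R a b c d}) (monomial (ex i) 1) := by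
  rcases i with _ | k | ⟨y, k⟩
  · show (1 : CurveAlg3 R a b c d) = _
    rw [ex]
    rfl
  · show Ideal.Quotient.mk (Ideal.span {frel R a b c d}) (X 0 ^ (k + 1) * X 1) = _
    congr 1
    rw [ex, X_pow_eq_monomial, X, monomial_mul, one_mul]
  · show Ideal.Quotient.mk (Ideal.span {frel R a b c d}) (X y ^ (k + 1)) = _
    congr 1
    rw [ex, X_pow_eq_monomial]

end specific

section main

open W4c5m1nsnscurves

theorem main (R : Type u) [CommRing R] (a b c d : R) :
    LinearIndependent R (cmon3 R a b c d) ∧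
      Submodule.span R (Set.range (cmon3 R a b c d)) = ⊤ := by
  rcases subsingleton_or_nontrivial R with hs | hnt
  · have : Subsingleton (CurveAlg3 R a b c d) := Module.subsingleton R _
    exact ⟨linearIndependent_of_subsingleton, Subsingleton.elim _ _⟩
  obtain ⟨hmonic, hdeg⟩ := frel_monic R a b c d
  have hfam : cmon3 R a b c d = (fun e : {e : Fin 2 →₀ ℕ // ¬ mo.degree (frel R a b c d) ≤ e} =>
      (Ideal.Quotient.mk (Ideal.span {frel R a b c d}) (monomial e.1 1))) ∘
      (fun i => ⟨ex i, by rw [hdeg]; exact ex_std i⟩) := by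
    funext i
    exact cmon3_eq R a b c d i
  have hj_inj : Function.Injective (fun i : Option (ℕ ⊕ (Fin 2 × ℕ)) =>
      (⟨ex i, by rw [hdeg]; exact ex_std i⟩ : {e : Fin 2 →₀ ℕ // ¬ mo.degree (frel R a b c d) ≤ e})) := by
    intro i j h
    exact ex_inj (Subtype.ext_iff.mp h)
  have hj_surj : Function.Surjective (fun i : Option (ℕ ⊕ (Fin 2 × ℕ)) =>
      (⟨ex i, by rw [hdeg]; exact ex_std i⟩ : {e : Fin 2 →₀ ℕ // ¬ mo.degree (frel R a b c d) ≤ e})) := by
    rintro ⟨e, he⟩
    obtain ⟨i, hi⟩ := ex_surj e (by rw [hdeg] at he; exact he)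
    exact ⟨i, Subtype.ext hi⟩
  constructor
  · rw [hfam]
    exact (std_linearIndependent mo (frel R a b c d) hmonic).comp _ hj_inj
  · have hspan : Submodule.span R (Set.range
        ((fun e : {e : Fin 2 →₀ ℕ // ¬ mo.degree (frel R a b c d) ≤ e} =>
          (Ideal.Quotient.mk (Ideal.span {frel R a b c d}) (monomial e.1 1))) ∘
        (fun i : Option (ℕ ⊕ (Fin 2 × ℕ)) =>
          (⟨ex i, by rw [hdeg]; exact ex_std i⟩ :
            {e : Fin 2 →₀ ℕ // ¬ mo.degree (frel R a b c d) ≤ e})))) = ⊤ := by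
      rw [Set.range_comp, hj_surj.range_eq, Set.image_univ]
      exact std_span mo (frel R a b c d) (by rw [hmonic.leadingCoeff_eq_one]; exact isUnit_one)
    rw [hfam]
    exact hspan

end main

end Aux

/-- Case n = 3: let R be a commutative ring and a, b, c, d elements of R (a point of U_3, which is
affine 4-space, so no condition is imposed). Then in the R-algebra R[x_2, x_3]/(x_2 x_3² − x_2² x_3
− a x_2 x_3 − b x_2 − c x_3 − d) the classes of the monomials 1, x_2^k x_3, x_2^k and x_3^k (k ≥ 1)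
are linearly independent over R and span, i.e. form an R-basis. -/
theorem result (R : Type u) [CommRing R] (a b c d : R) :
    LinearIndependent R (cmon3 R a b c d) ∧
      Submodule.span R (Set.range (cmon3 R a b c d)) = ⊤ := by
  exact Aux.main R a b c d

end Groth.Agent.S18251
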