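import Groth.Statements.S18283
import Mathlib

set_option autoImplicit false
universe u v
open CAlgX

namespace Groth.Agent.S18283

section


variable {A : Type u} [CommRing A] {ι : Type v} [Fintype ι] [DecidableEq ι]

/-- the marked vector -/
noncomputable def fv (H : Finset ι) (c : ι → ι → A) (j : ι) : ι → A :=
  Pi.single j (1 : A) - ∑ i ∈ Hᶜ, c j i • Pi.single i (1 : A)

theorem fv_apply_mem (H : Finset ι) (c : ι → ι → A) (j : ι) {l : ι} (hl : l ∈ H) :
    fv H c j l = if l = j then 1 else 0 := by
  unfold fv
  simp only [Pi.sub_apply, Finset.sum_apply, Pi.smul_apply, smul_eq_mul]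
  have : ∑ i ∈ Hᶜ, c j i * (Pi.single i (1 : A) : ι → A) l = 0 := by
    apply Finset.sum_eq_zero
    intro i hi
    have : l ≠ i := by
      rintro rfl
      exact (Finset.mem_compl.mp hi) hl
    simp [Pi.single_apply, this]
  rw [this, sub_zero, Pi.single_apply]

/-- forward direction: wedge of more vectors than generators vanishes -/
theorem wedge_zero_of_span (n : ℕ) (g : (Fin n → A) →ₗ[A] (ι → A))
    (v : Fin (n + 1) → ι → A) (hv : ∀ k, v k ∈ LinearMap.range g) :
    exteriorPower.ιMulti A (n + 1) v = 0 := by
  choose w hw using hv
  have hz : (exteriorPower.ιMulti A (n + 1) (M := ι → A)).compLinearMap g = 0 := by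
    apply (Pi.basisFun A (Fin n)).ext_alternating
    intro f hf
    exfalso
    have := Fintype.card_le_of_injective f hf
    simp at this
  have : v = fun k => g (w k) := by
    funext k
    exact (hw k).symm
  rw [this]
  have := DFunLike.congr_fun hz w
  simpa using this

/-- the coordinate functional -/
noncomputable def coordDet (n : ℕ) (col : Fin (n + 1) → ι) :
    ⋀[A]^(n + 1) (ι → A) →ₗ[A] A :=
  exteriorPower.alternatingMapLinearEquiv
    ((Matrix.detRowAlternating (R := A) (n := Fin (n + 1))).compLinearMap
      (LinearMap.funLeft A A col))

theorem coordDet_ιMulti (n : ℕ) (col : Fin (n + 1) → ι) (v : Fin (n + 1) → ι → A) :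
    coordDet n col (exteriorPower.ιMulti A (n + 1) v)
      = Matrix.det (Matrix.of fun k l => v k (col l)) := by
  unfold coordDet
  rw [exteriorPower.alternatingMapLinearEquiv_apply_ιMulti]
  rfl

theorem main
    {A : Type u} [CommRing A] {ι : Type v} [Fintype ι] [DecidableEq ι]
    (H : Finset ι) (c : ι → ι → A) (M : Submodule A (ι → A))
    (hf : ∀ j ∈ H, (Pi.single j (1 : A) - ∑ i ∈ Hᶜ, c j i • Pi.single i (1 : A)) ∈ M) :
    M = Submodule.span A ((fun j => Pi.single j (1 : A) - ∑ i ∈ Hᶜ, c j i • Pi.single i (1 : A)) '' ↑H)
      ↔ ∀ v : Fin (H.card + 1) → ι → A, (∀ k, v k ∈ M) →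
          exteriorPower.ιMulti A (H.card + 1) v = 0 := by
  change M = Submodule.span A ((fun j => fv H c j) '' ↑H) ↔ _
  have hf' : ∀ j ∈ H, fv H c j ∈ M := hf
  set n := H.card with hn
  let e : Fin n ≃ H := H.equivFin.symm
  -- the linear map from A^n with image the span
  let g : (Fin n → A) →ₗ[A] (ι → A) :=
    (Fintype.linearCombination A (fun k : Fin n => fv H c (e k)))
  have hrange : LinearMap.range g = Submodule.span A ((fun j => fv H c j) '' ↑H) := by
    rw [Fintype.range_linearCombination]
    congr 1
    ext x
    constructor
    · rintro ⟨k, rfl⟩
      exact ⟨(e k).1, (e k).2, rfl⟩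
    · rintro ⟨j, hj, rfl⟩
      exact ⟨e.symm ⟨j, hj⟩, by simp⟩
  constructor
  · intro hM v hv
    apply wedge_zero_of_span n g v
    intro k
    rw [hrange, ← hM]
    exact hv k
  · intro hw
    apply le_antisymm
    · intro m hm
      -- m' = m - Σ_j m_j f_j
      set m' : ι → A := m - ∑ j ∈ H, m j • fv H c j with hm'
      have hm'M : m' ∈ M := by
        refine M.sub_mem hm (M.sum_mem fun j hj => M.smul_mem _ (hf' j hj))
      have hm'H : ∀ l ∈ H, m' l = 0 := by
        intro l hl
        rw [hm']
        simp only [Pi.sub_apply, Finset.sum_apply, Pi.smul_apply, smul_eq_mul]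
        have : ∑ j ∈ H, m j * fv H c j l = m l := by
          rw [Finset.sum_eq_single l]
          · rw [fv_apply_mem H c l hl]; simp
          · intro j _ hjl
            rw [fv_apply_mem H c j hl]
            simp [hjl.symm]
          · intro h; exact absurd hl h
        rw [this, sub_self]
      have hm'0 : m' = 0 := by
        funext i
        by_cases hi : i ∈ H
        · exact hm'H i hi
        · -- use determinant functional
          let col : Fin (n + 1) → ι := Fin.cons i (fun k => (e k).1)
          let v : Fin (n + 1) → ι → A := Fin.cons m' (fun k => fv H c (e k))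
          have hvM : ∀ k, v k ∈ M := by
            intro k
            refine Fin.cases ?_ (fun k => ?_) k
            · simpa [v] using hm'M
            · simpa [v] using hf' _ (e k).2
          have h0 := hw v hvM
          have h1 := coordDet_ιMulti (A := A) n col v
          rw [h0, map_zero] at h1
          have hentry : ∀ k l : Fin (n + 1), k < l → v k (col l) = 0 := by
            intro k l
            refine Fin.cases ?_ (fun l' => ?_) l
            · intro hkl; exact absurd hkl (Fin.not_lt_zero _)
            · refine Fin.cases ?_ (fun k' => ?_) k
              · intro _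
                simp only [v, col, Fin.cons_zero, Fin.cons_succ]
                exact hm'H _ (e l').2
              · intro hkl
                simp only [v, col, Fin.cons_succ]
                rw [fv_apply_mem H c _ (e l').2]
                have hne : k' ≠ l' := by
                  intro h; rw [h] at hkl; exact lt_irrefl _ hkl
                have : (e l').1 ≠ (e k').1 := by
                  intro h
                  exact hne (e.injective (Subtype.ext h)).symm
                simp [this]
          have htri : (Matrix.of fun k l => v k (col l)).BlockTriangular (⇑OrderDual.toDual) := by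
            intro k l hkl
            simp only [OrderDual.toDual_lt_toDual] at hkl
            simp only [Matrix.of_apply]
            exact hentry _ _ hkl
          rw [Matrix.det_of_lowerTriangular _ htri, Fin.prod_univ_succ] at h1
          have hone : ∀ k : Fin n, (Matrix.of fun k l => v k (col l)) k.succ k.succ = 1 := by
            intro k
            simp only [Matrix.of_apply, v, col, Fin.cons_succ]
            rw [fv_apply_mem H c _ (e k).2]
            simp
          rw [Finset.prod_congr rfl (fun k _ => hone k)] at h1
          simp only [Matrix.of_apply, v, col, Fin.cons_zero, Finset.prod_const_one, mul_one] at h1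
          exact h1.symm
      have : m = ∑ j ∈ H, m j • fv H c j := by
        have := hm'0
        rw [hm', sub_eq_zero] at this
        exact this
      rw [this]
      refine Submodule.sum_mem _ fun j hj => Submodule.smul_mem _ _ (Submodule.subset_span ⟨j, hj, rfl⟩)
    · rw [Submodule.span_le]
      rintro _ ⟨j, hj, rfl⟩
      exact hf' j hj


end


/-- Let A be a commutative ring, ι a finite index type, H a finite set of indices (the head indices) and
c : ι → ι → A a table of coefficients; for j ∈ H put f_j = e_j − Σ_{i ∉ H} c_{ji} e_i in the free
module A^ι, so that each f_j has head e_j with coefficient 1 and tail supported outside H. If a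
submodule M of A^ι contains every f_j with j ∈ H, then M is the A-span of these f_j if and only if
every wedge product of |H|+1 elements of M vanishes in the (|H|+1)-st exterior power of A^ι
(equivalently, every (|H|+1)-minor of every matrix whose rows lie in M vanishes). The published
statement is the case where A is a Noetherian algebra over a field of characteristic zero, A^ι is
the degree-(m+1) part of the polynomial ring over A with its basis of terms, H is the set of
degree-(m+1) terms of a strongly stable monomial ideal generated in degree m, and M is the
degree-(m+1) part of an ideal generated by a marked set on that monomial ideal; this row allows any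
commutative ring and any submodule containing the marked polynomials. -/
theorem result
    {A : Type u} [CommRing A] {ι : Type v} [Fintype ι] [DecidableEq ι]
    (H : Finset ι) (c : ι → ι → A) (M : Submodule A (ι → A))
    (hf : ∀ j ∈ H, (Pi.single j (1 : A) - ∑ i ∈ Hᶜ, c j i • Pi.single i (1 : A)) ∈ M) :
    M = Submodule.span A ((fun j => Pi.single j (1 : A) - ∑ i ∈ Hᶜ, c j i • Pi.single i (1 : A)) '' ↑H)
      ↔ ∀ v : Fin (H.card + 1) → ι → A, (∀ k, v k ∈ M) →
          exteriorPower.ιMulti A (H.card + 1) v = 0 := by
  classical
  exact main H c M hf

end Groth.Agent.S18283
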