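import Groth.Statements.S18294
import Groth.Agent.Lib.Helper2.Sch.TensorCont


set_option autoImplicit false
universe u
open CategoryTheory MonoidalCategory CartesianMonoidalCategory MonObj AlgebraicGeometry Opposite
open Magnet

namespace Groth.Agent.S18294

/-- Let A be a monoid object in schemes over S acting on S-schemes B and X (in the source A is the
diagonalizable monoid scheme A(M)_S and B = A(N)_S for a magnet N, so that the functor below is the
attractor X^N). Then the functor on S-schemes T ↦ (morphisms B ×_S T → X over S equivariant for A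
acting on the first factor) is a sheaf for the fppf topology. -/
theorem result (S : Scheme.{u}) (A B X : Over S) [MonObj A] (ρ : Magnet.MonAct A B)
    (a : Magnet.MonAct A X) :
    Presheaf.IsSheaf (QuotSh.J Scheme.fppfPrecoverage S) (Magnet.MonAct.eqvHom ρ a) := by
  rw [isSheaf_iff_isSheaf_of_type]
  haveI : (AlgSp.J S).Subcanonical := inferInstance
  let hXs : Sheaf (AlgSp.J S) (Type u) := (AlgSp.J S).yoneda.obj X
  have hG₁ : Presieve.IsSheaf (AlgSp.J S) ((tensorLeft B).op ⋙ hXs.obj) :=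
    Groth.Agent.Helper2.TensorCont.isSheaf_tensorLeft_comp B hXs
  let ℱ₂ : Sheaf (AlgSp.J S) (Type u) :=
    ⟨(tensorLeft A).op ⋙ hXs.obj, (isSheaf_iff_isSheaf_of_type _ _).2
      (Groth.Agent.Helper2.TensorCont.isSheaf_tensorLeft_comp A hXs)⟩
  have hG₂ : Presieve.IsSheaf (AlgSp.J S) ((tensorLeft B).op ⋙ ℱ₂.obj) :=
    Groth.Agent.Helper2.TensorCont.isSheaf_tensorLeft_comp B ℱ₂
  intro T R hR x hx
  -- the underlying family of morphisms `B ⊗ Y ⟶ X`
  let x' : Presieve.FamilyOfElements ((tensorLeft B).op ⋙ hXs.obj) R.arrows :=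
    fun Y f hf => (x f hf).1
  have hx' : x'.Compatible := by
    intro Y₁ Y₂ W g₁ g₂ f₁ f₂ h₁ h₂ e
    exact congrArg Subtype.val (hx g₁ g₂ h₁ h₂ e)
  obtain ⟨φ, hφ, hφu⟩ := hG₁ R hR x' hx'
  have hφ' : ∀ {Y : Over S} (f : Y ⟶ T) (hf : R.arrows f), (B ◁ f) ≫ φ = (x f hf).1 :=
    fun f hf => hφ f hf
  -- equivariance of `φ`
  have heq : MonAct.IsEquivariant (ρ.prod (MonAct.trivial A T)) a φ := by
    unfold MonAct.IsEquivariant
    refine (hG₂ R hR).isSeparatedFor.ext ?_
    intro Y f hf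
    change (A ◁ (B ◁ f)) ≫ (ρ.prod (MonAct.trivial A T)).act ≫ φ =
      (A ◁ (B ◁ f)) ≫ (A ◁ φ) ≫ a.act
    rw [← MonAct.prod_trivial_act_whiskerLeft_assoc, hφ' f hf]
    have h := (x f hf).2
    unfold MonAct.IsEquivariant at h
    rw [h, ← MonoidalCategory.whiskerLeft_comp_assoc, hφ' f hf]
  refine ⟨⟨φ, heq⟩, ?_, ?_⟩
  · intro Y f hf
    exact Subtype.ext (hφ' f hf)
  · intro ψ hψ
    apply Subtype.ext
    apply hφu
    intro Y f hf
    exact congrArg Subtype.val (hψ f hf)

end Groth.Agent.S18294
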