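import Groth.Statements.S1831
import Mathlib
import Groth.Prelude.Def_CycAlg
import Groth.Agent.Lib.Helper9.SubQuotLen2
-- import your own Groth.Agent.* helpers here

set_option autoImplicit false
universe u v
open CycAlg

namespace Groth.Agent.S1831

namespace Aux

open Groth.Agent.Helper9.SubQuotLen

variable {R : Type u} [CommRing R] {M : Type v} [AddCommGroup M] [Module R M] (φ : M →ₗ[R] M)

/-- kernels of powers -/
def K (j : ℕ) : Submodule R M := LinearMap.ker (φ ^ j)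
/-- images of powers -/
def I (j : ℕ) : Submodule R M := LinearMap.range (φ ^ j)

theorem mem_K (j : ℕ) (x : M) : x ∈ K φ j ↔ (φ ^ j) x = 0 := LinearMap.mem_ker

theorem mem_I (j : ℕ) (x : M) : x ∈ I φ j ↔ ∃ z, (φ ^ j) z = x := LinearMap.mem_range

theorem K_mono {a b : ℕ} (h : a ≤ b) : K φ a ≤ K φ b := by
  intro x hx
  rw [mem_K] at hx ⊢
  obtain ⟨c, rfl⟩ := Nat.exists_eq_add_of_le h
  rw [add_comm, pow_add, Module.End.mul_apply, hx, map_zero]

theorem I_anti {a b : ℕ} (h : a ≤ b) : I φ b ≤ I φ a := by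
  intro x hx
  rw [mem_I] at hx ⊢
  obtain ⟨z, rfl⟩ := hx
  obtain ⟨c, rfl⟩ := Nat.exists_eq_add_of_le h
  exact ⟨(φ ^ c) z, by rw [pow_add, Module.End.mul_apply]⟩

/-- the basic graded pieces -/
noncomputable def q (j : ℕ) : ℕ∞ := sqLen (K φ 1 ⊓ I φ (j + 1)) (K φ 1 ⊓ I φ j)

theorem L1 (c m : ℕ) :
    sqLen (K φ 1 ⊓ I φ (c + m)) (K φ 1 ⊓ I φ c) = ∑ b ∈ Finset.range m, q φ (c + b) := by
  induction m with
  | zero => rw [add_zero, sqLen_self, Finset.range_zero, Finset.sum_empty]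
  | succ m ih =>
    have h := sqLen_add (A := K φ 1 ⊓ I φ (c + (m + 1))) (B := K φ 1 ⊓ I φ (c + m))
      (C := K φ 1 ⊓ I φ c) (inf_le_inf_left _ (I_anti φ (Nat.le_succ (c + m))))
        (inf_le_inf_left _ (I_anti φ (Nat.le_add_right c m)))
    rw [Finset.sum_range_succ, ← ih, h, add_comm]
    rfl

theorem map_K_succ (a : ℕ) : (K φ (a + 1)).map (φ ^ a) = K φ 1 ⊓ I φ a := by
  ext y
  constructor
  · rintro ⟨x, hx0, rfl⟩
    have hx : x ∈ K φ (a + 1) := hx0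
    refine ⟨?_, ⟨x, rfl⟩⟩
    show (φ ^ a) x ∈ K φ 1
    rw [mem_K] at hx ⊢
    rw [← Module.End.mul_apply, ← pow_add, add_comm]
    exact hx
  · rintro ⟨hy, ⟨x, rfl⟩⟩
    refine ⟨x, ?_, rfl⟩
    have hy' : (φ ^ a) x ∈ K φ 1 := hy
    rw [mem_K] at hy'
    show x ∈ K φ (a + 1)
    rw [mem_K, add_comm, pow_add, Module.End.mul_apply]
    exact hy'

theorem map_I_inf_K (a d : ℕ) : (I φ d ⊓ K φ (a + 1)).map (φ ^ a) = K φ 1 ⊓ I φ (d + a) := by
  ext y
  constructor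
  · rintro ⟨x, ⟨⟨z, rfl⟩, hx⟩, rfl⟩
    have hx' : (φ ^ d) z ∈ K φ (a + 1) := hx
    refine ⟨?_, ⟨z, ?_⟩⟩
    · show (φ ^ a) ((φ ^ d) z) ∈ K φ 1
      rw [mem_K] at hx' ⊢
      rw [← Module.End.mul_apply, ← pow_add, add_comm]
      exact hx'
    · rw [add_comm, pow_add, Module.End.mul_apply]
  · rintro ⟨hy, ⟨z, rfl⟩⟩
    have hy' : (φ ^ (d + a)) z ∈ K φ 1 := hy
    refine ⟨(φ ^ d) z, ⟨⟨z, rfl⟩, ?_⟩, ?_⟩
    · show (φ ^ d) z ∈ K φ (a + 1)
      rw [mem_K] at hy' ⊢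
      rw [add_comm a 1, pow_add, Module.End.mul_apply, ← Module.End.mul_apply (φ ^ a), ← pow_add,
        add_comm a d]
      exact hy'
    · rw [← Module.End.mul_apply, ← pow_add, add_comm]

theorem L2 (a d : ℕ) :
    sqLen (K φ a ⊔ I φ d) (K φ (a + 1) ⊔ I φ d) = sqLen (K φ 1 ⊓ I φ (d + a)) (K φ 1 ⊓ I φ a) := by
  have hKa : K φ a ≤ K φ (a + 1) := K_mono φ (Nat.le_succ a)
  have e1 : K φ (a + 1) ⊔ I φ d = K φ (a + 1) ⊔ (K φ a ⊔ I φ d) := by
    rw [← sup_assoc, sup_eq_left.mpr hKa]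
  rw [e1, sqLen_sup, inf_comm, sup_inf_assoc_of_le (I φ d) hKa]
  have hle : K φ a ⊔ I φ d ⊓ K φ (a + 1) ≤ K φ (a + 1) := sup_le hKa inf_le_right
  have hk : LinearMap.ker (φ ^ a) ⊓ K φ (a + 1) ≤ K φ a ⊔ I φ d ⊓ K φ (a + 1) :=
    inf_le_left.trans le_sup_left
  rw [← sqLen_map (φ ^ a) hle hk, Submodule.map_sup, map_K_succ, map_I_inf_K]
  have : (K φ a).map (φ ^ a) = ⊥ := by
    rw [eq_bot_iff]
    rintro _ ⟨x, hx, rfl⟩
    exact (mem_K φ a x).mp hx
  rw [this, bot_sup_eq]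

theorem L3 (i d : ℕ) :
    sqLen (K φ 0 ⊔ I φ d) (K φ i ⊔ I φ d)
      = ∑ a ∈ Finset.range i, sqLen (K φ a ⊔ I φ d) (K φ (a + 1) ⊔ I φ d) := by
  induction i with
  | zero => rw [sqLen_self, Finset.range_zero, Finset.sum_empty]
  | succ i ih =>
    rw [Finset.sum_range_succ, ← ih,
      sqLen_add (sup_le_sup_right (K_mono φ (Nat.zero_le i)) _)
        (sup_le_sup_right (K_mono φ (Nat.le_succ i)) _)]

theorem len_H (i d : ℕ) (h : φ ^ (i + d) = 0) :
    sqLen (I φ d) (K φ i) = ∑ a ∈ Finset.range i, ∑ b ∈ Finset.range d, q φ (a + b) := by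
  have h0 : K φ 0 = ⊥ := by
    unfold K
    rw [pow_zero]
    exact LinearMap.ker_id
  have hle : I φ d ≤ K φ i := by
    rintro _ ⟨z, rfl⟩
    rw [mem_K, ← Module.End.mul_apply, ← pow_add, h, LinearMap.zero_apply]
  have := L3 φ i d
  rw [h0, bot_sup_eq, sup_eq_left.mpr hle] at this
  rw [this]
  apply Finset.sum_congr rfl
  intro a _
  rw [L2, add_comm d a, L1]

theorem main (n : ℕ) (hn : 0 < n) (hφ : φ ^ n = 0)
    (hfin : Module.length R (CycAlg.perH φ (φ ^ (n - 1))) < ⊤) (i : ℕ) (hi : i ≤ n) :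
    CycAlg.FinCoh R (φ ^ i) (φ ^ (n - i)) ∧ CycAlg.herbrand R (φ ^ i) (φ ^ (n - i)) = 0 := by
  have hfin' : sqLen (I φ (n - 1)) (K φ 1) < ⊤ := by
    have : sqLen (I φ (n - 1)) (K φ 1) = Module.length R (CycAlg.perH φ (φ ^ (n - 1))) := by
      unfold I K
      rw [pow_one]
      rfl
    rw [this]; exact hfin
  have hIK : I φ (n - 1) ≤ K φ 1 := by
    rintro _ ⟨z, rfl⟩
    rw [mem_K, ← Module.End.mul_apply, ← pow_add, show 1 + (n - 1) = n by omega, hφ,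
      LinearMap.zero_apply]
  have qfin : ∀ j, j + 2 ≤ n → q φ j < ⊤ := by
    intro j hj
    refine lt_of_le_of_lt ?_ hfin'
    unfold q
    exact sqLen_le_of_le (le_inf hIK (I_anti φ (by omega)))
      (inf_le_inf_left _ (I_anti φ (Nat.le_succ j))) inf_le_left
  have l0 : Module.length R (CycAlg.perH (φ ^ i) (φ ^ (n - i)))
      = ∑ a ∈ Finset.range i, ∑ b ∈ Finset.range (n - i), q φ (a + b) := by
    rw [← len_H φ i (n - i) (by rw [show i + (n - i) = n by omega, hφ])]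
    rfl
  have l1 : Module.length R (CycAlg.perH (φ ^ (n - i)) (φ ^ i))
      = ∑ a ∈ Finset.range i, ∑ b ∈ Finset.range (n - i), q φ (a + b) := by
    rw [Finset.sum_comm]
    simp_rw [add_comm]
    rw [← len_H φ (n - i) i (by rw [show (n - i) + i = n by omega, hφ])]
    rfl
  have hS : ∑ a ∈ Finset.range i, ∑ b ∈ Finset.range (n - i), q φ (a + b) < ⊤ := by
    rw [ENat.sum_lt_top]
    intro a ha
    rw [ENat.sum_lt_top]
    intro b hb
    rw [Finset.mem_range] at ha hb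
    exact qfin _ (by omega)
  unfold CycAlg.FinCoh CycAlg.herbrand
  rw [l0, l1]
  exact ⟨⟨hS, hS⟩, sub_self _⟩

end Aux

/-- If φ is an endomorphism of M with φ^n = 0 (n > 0) and ker φ / im φ^(n-1) has finite length, then for
each 0 ≤ i ≤ n the (2,1)-periodic complex (M, φ^i, φ^(n-i)) has finite-length cohomology modules and
its Herbrand quotient vanishes. -/
theorem result {R : Type u} [CommRing R] {M : Type v} [AddCommGroup M] [Module R M] (φ : M →ₗ[R] M) (n : ℕ) (hn : 0 < n) (hφ : φ ^ n = 0) (hfin : Module.length R (CycAlg.perH φ (φ ^ (n - 1))) < ⊤) (i : ℕ) (hi : i ≤ n) : CycAlg.FinCoh R (φ ^ i) (φ ^ (n - i)) ∧ CycAlg.herbrand R (φ ^ i) (φ ^ (n - i)) = 0 := by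
  exact Aux.main φ n hn hφ hfin i hi

end Groth.Agent.S1831
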