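import Groth.Statements.S18329
import Groth.Agent.Lib.Helper2.Sep.Main
import Groth.Agent.Lib.Helper2.Sep.Inf


set_option autoImplicit false
universe u
open TensorProduct
open SGA3

namespace Groth.Agent.S18329

/-- Let k be an algebraically closed field of prime characteristic p and A a commutative Hopf algebra
over k, the coordinate ring of an affine k-group G, quotient groups of G being read as
sub-Hopf-algebras of A (subalgebras stable under comultiplication and antipode). Let B₀ be the
subalgebra of elements of A that are separable over k (its spectrum is the group of connected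
components π₀(G)) and let C be the largest cocommutative sub-Hopf-algebra of A (its spectrum is the
largest commutative quotient group G_ab). Then B₀ ⊓ C, whose spectrum is π₀(G_ab), is the largest
cocommutative sub-Hopf-algebra of A contained in B₀, whose spectrum is the largest commutative
quotient of π₀(G): the canonical homomorphism from π₀(G_ab) to (π₀(G))_ab is an isomorphism. (The
abelianization is rendered through its universal property among affine quotient groups, as the
largest cocommutative sub-Hopf-algebra, rather than as the quotient by the derived subgroup.) -/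
theorem result (k A : Type u) [Field k] [IsAlgClosed k]
    (p : ℕ) [Fact p.Prime] [CharP k p] [CommRing A] [HopfAlgebra k A]
    (B₀ : Subalgebra k A) (hB₀ : ∀ a : A, a ∈ B₀ ↔ IsSeparable k a)
    (C : Subalgebra k A) (hC : SGA3.IsHopfSubalgebra k A C)
    (hCc : ∀ c ∈ C, TensorProduct.comm k A A (Coalgebra.comul c) = Coalgebra.comul c)
    (hCmax : ∀ D : Subalgebra k A, SGA3.IsHopfSubalgebra k A D →
      (∀ d ∈ D, TensorProduct.comm k A A (Coalgebra.comul d) = Coalgebra.comul d) → D ≤ C) :
    IsGreatest {D : Subalgebra k A | SGA3.IsHopfSubalgebra k A D ∧
      (∀ d ∈ D, TensorProduct.comm k A A (Coalgebra.comul d) = Coalgebra.comul d) ∧ D ≤ B₀}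
      (B₀ ⊓ C) := by
  open Groth.Agent.Helper2.Sep in
  classical
  constructor
  · refine ⟨⟨?_, ?_⟩, ?_, inf_le_left⟩
    · intro b hb
      have hbB : b ∈ B₀ := hb.1
      have hbC : b ∈ C := hb.2
      have h1 : CoalgebraStruct.comul (R := k) (A := A) b ∈
          LinearMap.range (TensorProduct.map B₀.val.toLinearMap B₀.val.toLinearMap) := by
        apply mem_range_map_of_isSeparable B₀
        · intro a ha
          exact (hB₀ a).mpr (isSeparable_of_isIdempotentElem ha)
        · exact isSeparable_map (Bialgebra.comulAlgHom k A) ((hB₀ b).mp hbB)
      have h2 := hC.1 b hbC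
      exact mem_range_map_inf (Subalgebra.toSubmodule B₀) (Subalgebra.toSubmodule C) _ h1 h2
    · intro b hb
      refine ⟨?_, hC.2 b hb.2⟩
      exact (hB₀ _).mpr (isSeparable_map (HopfAlgebra.antipodeAlgHom k A) ((hB₀ b).mp hb.1))
    · intro d hd
      exact hCc d hd.2
  · intro D hD
    exact le_inf hD.2.2 (hCmax D hD.1 hD.2.1)

end Groth.Agent.S18329
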