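import Groth.Statements.S18340
import Groth.Agent.Lib.Helper8.FunFP1
import Groth.Agent.Lib.Helper8.AppB4
import Groth.Agent.Lib.Helper8.AppB2
import Groth.Agent.Lib.Helper8.PolyG4
import Groth.Agent.Lib.Helper8.GRing9
import Groth.Agent.S0600

set_option autoImplicit false
universe u
open ArtinApx

namespace Groth.Agent.S18340

open CategoryTheory in
/-- Let k be an algebraically closed field, A a finitely generated k-algebra with a maximal ideal m (a
k-point of Spec A), F a functor from commutative A-algebras to sets which preserves filtered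
colimits, and ξ an element of F(Â), Â the m-adic completion of A. Then for every natural number N
there are an étale A-algebra A′, a surjective A-algebra homomorphism ψ : A′ → A/m^(N+1) and an
element ξ′ of F(A′) whose image under F(ψ) is the image of ξ under F of the canonical map Â →
A/m^(N+1). (Affine form of the statement for limit-preserving functors on schemes over a finite-type
k-scheme S with a k-point s: Spec A′ is the étale neighbourhood of s, the kernel of ψ is the
(N+1)-st power of the maximal ideal of the point above s, and the equation says that ξ′ and ξ agree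
to order N.) -/
theorem result (k : Type u) [Field k] [IsAlgClosed k]
    (A : Type u) [CommRing A] [Algebra k A] [Algebra.FiniteType k A] (m : Ideal A) [m.IsMaximal]
    (F : CommAlgCat.{u} A ⥤ Type u) [Limits.PreservesFilteredColimits F]
    (ξ : F.obj (CommAlgCat.of A (AdicCompletion m A))) (N : ℕ) :
    ∃ (A' : Type u) (_ : CommRing A') (_ : Algebra A A') (_ : Algebra.Etale A A')
      (ψ : A' →ₐ[A] (A ⧸ m ^ (N + 1))) (_ : Function.Surjective ψ) (ξ' : F.obj (CommAlgCat.of A A')),
      F.map (CommAlgCat.ofHom ψ) ξ' =
        F.map (CommAlgCat.ofHom (AdicCompletion.evalₐ m (N + 1))) ξ := by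
  classical
  -- `A` is a Noetherian G-ring
  haveI : IsNoetherianRing A := Algebra.FiniteType.isNoetherianRing k A
  have hk : CAlg.IsGRing k := by
    haveI : IsAdicComplete (IsLocalRing.maximalIdeal k) k := by
      rw [IsLocalRing.maximalIdeal_eq_bot]
      infer_instance
    exact Groth.Agent.Helper8.GRing.isGRing_of_isAdicComplete k
  have hA : CAlg.IsGRing A := Groth.Agent.Helper8.PolyG.isGRing_of_finiteType k hk A
  have hreg : CAlg.IsRegularHom A (AdicCompletion m A) := Groth.Agent.S0600.result A hA m
  have fg : m.FG := (isNoetherianRing_iff_ideal_fg A).mp inferInstance m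
  haveI : IsNoetherianRing (AdicCompletion m A) :=
    Groth.Agent.Helper8.AdicReg.isNoetherianRing A m
  set J : Ideal (AdicCompletion m A) := (m ^ (N + 1)).map (algebraMap A (AdicCompletion m A))
    with hJ
  haveI : HenselianRing (AdicCompletion m A) J :=
    Groth.Agent.Helper8.AppB.henselianRing_map_pow m fg N
  -- the element comes from a finitely presented algebra
  obtain ⟨C, _, _, _, σ, yC, hyC⟩ := Groth.Agent.Helper8.FunFP.exists_fp F (AdicCompletion m A) ξ
  -- approximation oracle: elements of the completion are approximated by elements of `A`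
  have H : ∀ (n : ℕ) (c' : Fin n → AdicCompletion m A), ∃ (R₁ : Type u) (_ : CommRing R₁)
      (_ : Algebra A R₁) (_ : Algebra R₁ (AdicCompletion m A))
      (_ : IsScalarTower A R₁ (AdicCompletion m A)), Algebra.Etale A R₁ ∧
      ∃ c : Fin n → R₁, ∀ i, c' i - algebraMap R₁ (AdicCompletion m A) (c i) ∈ J := by
    intro n c'
    refine ⟨A, inferInstance, inferInstance, inferInstance, inferInstance, inferInstance, ?_⟩
    choose c hc using fun i => Groth.Agent.Helper8.AppB.exists_sub_mem_map_pow m fg (c' i) (N + 1)
    exact ⟨c, hc⟩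
  obtain ⟨A', _, _, het, ψ, g, hg⟩ :=
    Groth.Agent.Helper8.AppB.exists_etale_factor hreg J H C σ
  have hJker : ∀ z ∈ J, AdicCompletion.evalₐ m (N + 1) z = 0 := by
    intro z hz
    exact Groth.Agent.Helper8.AdicFS.map_pow_le_ker_evalₐ m (N + 1) hz
  let ψ' : A' →ₐ[A] (A ⧸ m ^ (N + 1)) := (AdicCompletion.evalₐ m (N + 1)).comp ψ
  have hsurj : Function.Surjective ψ' := by
    intro z
    obtain ⟨a, rfl⟩ := Ideal.Quotient.mk_surjective z
    refine ⟨algebraMap A A' a, ?_⟩
    rw [AlgHom.commutes]
    rfl
  refine ⟨A', inferInstance, inferInstance, het, ψ', hsurj, F.map (CommAlgCat.ofHom g) yC, ?_⟩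
  rw [← hyC, ← Functor.map_comp_apply, ← Functor.map_comp_apply]
  congr 2
  rw [← CommAlgCat.ofHom_comp, ← CommAlgCat.ofHom_comp]
  congr 1
  refine congrArg CommAlgCat.ofHom (AlgHom.ext fun c => ?_)
  change AdicCompletion.evalₐ m (N + 1) (ψ (g c)) = AdicCompletion.evalₐ m (N + 1) (σ c)
  have := hJker _ (hg c)
  rw [map_sub, sub_eq_zero] at this
  exact this.symm

end Groth.Agent.S18340
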