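import Groth.Statements.S1835
import Mathlib

set_option autoImplicit false
universe u
open CycAlg

namespace Groth.Agent.S1835

section


theorem stab (R : Type u) [CommRing R] [IsNoetherianRing R] [IsLocalRing R]
    (hR : ringKrullDim R = 1) (a b : R) (hb : b ∈ nonZeroDivisors R) :
    ∃ n : ℕ, ∃ r s : R, a ^ n = a ^ (n + 1) * r + b * s := by
  have h1 := ringKrullDim_quotient_succ_le_of_nonZeroDivisor hb
  rw [hR] at h1
  have h0 : ringKrullDim (R ⧸ Ideal.span {b}) ≤ 0 := by
    generalize ringKrullDim (R ⧸ Ideal.span {b}) = d at h1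
    cases d with
    | bot => exact bot_le
    | coe d =>
      have : ((d + 1 : ℕ∞) : WithBot ℕ∞) ≤ ((1 : ℕ∞) : WithBot ℕ∞) := by exact_mod_cast h1
      have h2 : d + 1 ≤ 1 := by exact_mod_cast this
      have h3 : d ≤ 0 := by
        cases d with
        | top => simp at h2
        | coe d =>
          have : d + 1 ≤ 1 := by exact_mod_cast h2
          have : d = 0 := by omega
          simp [this]
      exact_mod_cast h3
  have hK : Ring.KrullDimLE 0 (R ⧸ Ideal.span {b}) := Ring.krullDimLE_iff.mpr (by simpa using h0)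
  have hA : IsArtinianRing (R ⧸ Ideal.span {b}) := isArtinianRing_iff_krullDimLE_zero.mpr hK
  let S := R ⧸ Ideal.span {b}
  let a' : S := Ideal.Quotient.mk _ a
  let f : ℕ →o (Ideal S)ᵒᵈ :=
    { toFun := fun i => OrderDual.toDual (Ideal.span {a' ^ i})
      monotone' := by
        intro i j hij
        change Ideal.span {a' ^ j} ≤ Ideal.span {a' ^ i}
        rw [Ideal.span_singleton_le_span_singleton]
        exact pow_dvd_pow _ hij }
  obtain ⟨n, hn⟩ := IsArtinian.monotone_stabilizes f
  have h2 := hn (n + 1) (Nat.le_succ n)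
  have h3 : Ideal.span {a' ^ n} = Ideal.span {a' ^ (n + 1)} := congrArg OrderDual.ofDual h2
  have h4 : a' ^ n ∈ Ideal.span {a' ^ (n + 1)} := by
    rw [← h3]; exact Ideal.mem_span_singleton_self _
  rw [Ideal.mem_span_singleton'] at h4
  obtain ⟨r', hr'⟩ := h4
  obtain ⟨r, rfl⟩ := Ideal.Quotient.mk_surjective r'
  have h5 : Ideal.Quotient.mk (Ideal.span {b}) (a ^ n - a ^ (n + 1) * r) = 0 := by
    simp only [map_sub, map_mul, map_pow]
    change a' ^ n - a' ^ (n + 1) * _ = 0
    rw [← hr']; ring
  rw [Ideal.Quotient.eq_zero_iff_mem, Ideal.mem_span_singleton'] at h5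
  obtain ⟨s, hs⟩ := h5
  refine ⟨n, r, s, ?_⟩
  linear_combination -hs

theorem main (R : Type u) [CommRing R] [IsNoetherianRing R] [IsLocalRing R] (hR : ringKrullDim R = 1) (a b : R) (ha : a ∈ nonZeroDivisors R) (ham : a ∈ IsLocalRing.maximalIdeal R) (hb : b ∈ nonZeroDivisors R) : ∃ n : ℕ, ∀ (R' : Type u) [CommRing R'] [Algebra R R'], Function.Injective (algebraMap R R') → Module.Finite R R' → ∀ (m : ℕ) (c : R'), algebraMap R R' b = algebraMap R R' a ^ m * c → m ≤ n := by
  obtain ⟨n, r, s, hn⟩ := stab R hR a b hb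
  refine ⟨n, ?_⟩
  intro R' _ _ hinj hfin m c hmc
  by_contra hlt
  have hlt : n + 1 ≤ m := by omega
  obtain ⟨e, rfl⟩ := Nat.exists_eq_add_of_le hlt
  set φ := algebraMap R R' with hφ
  have hjac : φ a ∈ Ideal.jacobson (⊥ : Ideal R') := by
    rw [Ideal.jacobson, Ideal.mem_sInf]
    rintro M ⟨-, hM⟩
    have hint : (algebraMap R R').IsIntegral := Algebra.IsIntegral.isIntegral (R := R) (A := R')
    have hM' : (M.comap φ).IsMaximal := Ideal.isMaximal_comap_of_isIntegral_of_isMaximal (R := R) M
    have := IsLocalRing.eq_maximalIdeal hM'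
    have h2 : a ∈ M.comap φ := by rw [this]; exact ham
    exact h2
  have h1 : φ a ^ n = φ a ^ (n + 1) * φ r + φ b * φ s := by
    rw [← map_pow, ← map_pow, ← map_mul, ← map_mul, ← map_add, hn]
  rw [hmc] at h1
  set t : R' := φ r + φ a ^ e * c * φ s with ht
  have h2 : φ a ^ n * (φ a * (-t) + 1) = 0 := by
    rw [ht]; linear_combination h1
  have hu : IsUnit (φ a * (-t) + 1) := Ideal.mem_jacobson_bot.mp hjac (-t)
  have h3 : φ a ^ n = 0 := by
    exact (hu.mul_left_eq_zero).mp h2
  rw [← map_pow] at h3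
  have h4 : a ^ n = 0 := hinj (by rw [h3, map_zero])
  exact nonZeroDivisors.ne_zero (pow_mem ha n) h4


end


/-- Let R be a Noetherian local ring of dimension 1, a a nonzerodivisor in the maximal ideal and b a
nonzerodivisor. There is an integer n such that whenever b = a^m c in some finite extension ring R ⊆
R', one has m ≤ n. -/
theorem result (R : Type u) [CommRing R] [IsNoetherianRing R] [IsLocalRing R] (hR : ringKrullDim R = 1) (a b : R) (ha : a ∈ nonZeroDivisors R) (ham : a ∈ IsLocalRing.maximalIdeal R) (hb : b ∈ nonZeroDivisors R) : ∃ n : ℕ, ∀ (R' : Type u) [CommRing R'] [Algebra R R'], Function.Injective (algebraMap R R') → Module.Finite R R' → ∀ (m : ℕ) (c : R'), algebraMap R R' b = algebraMap R R' a ^ m * c → m ≤ n := by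
  classical
  exact main R hR a b ha ham hb

end Groth.Agent.S1835
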