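import Groth.Statements.S18363
import Mathlib
-- import your own Groth.Agent.* helpers here

set_option autoImplicit false
universe u
open CategoryTheory
open CAlg

namespace Groth.Agent.S18363

open CategoryTheory
namespace Aux
open Abelian IsLocalRing

theorem nzd_of_notMem_minimalPrimes {R : Type*} [CommRing R] [IsReduced R] (t : R)
    (ht : ∀ P ∈ minimalPrimes R, t ∉ P) : t ∈ nonZeroDivisors R := by
  rw [mem_nonZeroDivisors_iff_right]
  intro b hb
  have : b ∈ nilradical R := by
    rw [nilradical, ← Ideal.sInf_minimalPrimes]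
    rw [Ideal.mem_sInf]
    intro P hP
    have hPp : P.IsPrime := hP.1.1
    rcases hPp.mem_or_mem (show b * t ∈ P by rw [hb]; exact P.zero_mem) with h | h
    · exact h
    · exact absurd h (ht P hP)
  rwa [nilradical_eq_zero, Ideal.zero_eq_bot, Ideal.mem_bot] at this

section Alg
variable {R : Type u} [CommRing R] [IsNoetherianRing R] [IsLocalRing R]
  (P Q : Ideal R) (hPQ : ∃ n : ℕ, maximalIdeal R ^ n ≤ P ⊔ Q)
  [IsReduced (R ⧸ Q)] (hQdim : ringKrullDim (R ⧸ Q) = 1)

omit [IsNoetherianRing R] [IsReduced (R ⧸ Q)] in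
include hPQ hQdim in
/-- no minimal prime of `Q` contains `P` -/
lemma not_le_minimalPrime (q : Ideal R) (hq : q ∈ Q.minimalPrimes) : ¬ P ≤ q := by
  intro hPq
  have hqp : q.IsPrime := hq.1.1
  obtain ⟨n, hn⟩ := hPQ
  have h1 : maximalIdeal R ^ n ≤ q := hn.trans (sup_le hPq hq.1.2)
  have h2 : maximalIdeal R ≤ q := hqp.le_of_pow_le h1
  have h3 : q = maximalIdeal R := le_antisymm (le_maximalIdeal hqp.ne_top) h2
  -- krullDim (zeroLocus Q) = 1 gives two comparable points
  rw [ringKrullDim_quotient] at hQdim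
  have hpos : (0 : WithBot ℕ∞) < Order.krullDim (PrimeSpectrum.zeroLocus (R := R) Q) := by
    rw [hQdim]; exact zero_lt_one
  rw [Order.krullDim_pos_iff] at hpos
  obtain ⟨a, b, hab⟩ := hpos
  have hb : b.1.asIdeal ≤ maximalIdeal R := le_maximalIdeal b.1.2.ne_top
  have hab' : a.1.asIdeal < b.1.asIdeal := hab
  have ha : a.1.asIdeal ≤ q := by
    rw [h3]
    exact (le_of_lt hab').trans hb
  have ha' : q ≤ a.1.asIdeal := hq.2 ⟨a.1.2, a.2⟩ ha
  have : b.1.asIdeal ≤ a.1.asIdeal := by
    rw [h3] at ha'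
    exact hb.trans ha'
  exact absurd hab' (not_lt_of_ge this)


include hPQ hQdim in
lemma exists_x : ∃ x ∈ P, Ideal.Quotient.mk Q x ∈ nonZeroDivisors (R ⧸ Q) ∧
    (∀ q ∈ Q.minimalPrimes, x ∉ q) := by
  classical
  have hfin := Ideal.finite_minimalPrimes_of_isNoetherianRing R Q
  have hnot : ¬ ((P : Set R) ⊆ ⋃ q ∈ hfin.toFinset, (q : Set R)) := by
    intro hsub
    obtain ⟨q, hq, hle⟩ := (Ideal.subset_union_prime (R := R) (s := hfin.toFinset)
      (f := fun q => q) ⊤ ⊤ (fun q hq _ _ => ((hfin.mem_toFinset).1 hq).1.1)).1 hsub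
    exact not_le_minimalPrime P Q hPQ hQdim q ((hfin.mem_toFinset).1 hq) hle
  obtain ⟨x, hxP, hx⟩ := Set.not_subset.mp hnot
  have hx' : ∀ q ∈ Q.minimalPrimes, x ∉ q := by
    intro q hq hxq
    apply hx
    simp only [Set.mem_iUnion, SetLike.mem_coe, exists_prop]
    exact ⟨q, (hfin.mem_toFinset).2 hq, hxq⟩
  refine ⟨x, hxP, ?_, hx'⟩
  apply nzd_of_notMem_minimalPrimes
  intro p hp hmem
  have : Ideal.comap (Ideal.Quotient.mk Q) p ∈ Q.minimalPrimes := by
    rw [Ideal.minimalPrimes_eq_comap]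
    exact ⟨p, hp, rfl⟩
  exact hx' _ this hmem

omit [IsReduced (R ⧸ Q)] in
include hQdim in
lemma exists_pow_le (x : R) (hx : ∀ q ∈ Q.minimalPrimes, x ∉ q) :
    ∃ N : ℕ, maximalIdeal R ^ N ≤ Q ⊔ Ideal.span {x} := by
  set a := Q ⊔ Ideal.span {x} with ha
  have hrad : maximalIdeal R ≤ a.radical := by
    rw [Ideal.radical_eq_sInf]
    apply le_sInf
    rintro p ⟨hap, hp⟩
    obtain ⟨q, hq, hqp⟩ := Ideal.exists_minimalPrimes_le (le_sup_left.trans hap)
    have hxp : x ∈ p := hap (Ideal.mem_sup_right (Ideal.mem_span_singleton_self x))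
    have hqltp : q < p := lt_of_le_of_ne hqp (fun h => hx q hq (h ▸ hxp))
    rw [ringKrullDim_quotient] at hQdim
    let y : PrimeSpectrum.zeroLocus (R := R) Q := ⟨⟨p, hp⟩, le_sup_left.trans hap⟩
    let yq : PrimeSpectrum.zeroLocus (R := R) Q := ⟨⟨q, hq.1.1⟩, hq.1.2⟩
    let ym : PrimeSpectrum.zeroLocus (R := R) Q :=
      ⟨⟨maximalIdeal R, inferInstance⟩, (le_sup_left.trans hap).trans (le_maximalIdeal hp.ne_top)⟩
    rcases (Order.krullDim_le_one_iff).mp hQdim.le y with hmin | hmax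
    · exfalso
      have h1 : yq ≤ y := hqp
      have h2 : y ≤ yq := hmin h1
      exact absurd hqltp (not_lt_of_ge h2)
    · have h1 : y ≤ ym := le_maximalIdeal hp.ne_top
      exact hmax h1
  obtain ⟨N, hN⟩ := Ideal.exists_radical_pow_le_of_fg a (IsNoetherian.noetherian a.radical)
  exact ⟨N, (Ideal.pow_right_mono hrad N).trans hN⟩

end Alg

section Mod
variable {R : Type u} [CommRing R] [IsLocalRing R]

/-- a nonzero module killed by a power of the maximal ideal has a nonzero socle element -/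
lemma exists_socle {T : Type*} [AddCommGroup T] [Module R T] [Nontrivial T] (N : ℕ)
    (hN : ∀ r ∈ maximalIdeal R ^ N, ∀ t : T, r • t = 0) :
    ∃ t : T, t ≠ 0 ∧ ∀ r ∈ maximalIdeal R, r • t = 0 := by
  classical
  have hex : ∃ j : ℕ, (maximalIdeal R ^ j) • (⊤ : Submodule R T) = ⊥ := by
    refine ⟨N, ?_⟩
    rw [eq_bot_iff, Submodule.smul_le]
    intro r hr t _
    rw [hN r hr t]; exact Submodule.zero_mem _
  have hj := Nat.find_spec hex
  have hj0 : Nat.find hex ≠ 0 := by
    intro h0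
    rw [h0, pow_zero, Ideal.one_eq_top, Submodule.top_smul] at hj
    exact top_ne_bot hj
  obtain ⟨j', hj'⟩ := Nat.exists_eq_succ_of_ne_zero hj0
  have hmin : (maximalIdeal R ^ j') • (⊤ : Submodule R T) ≠ ⊥ :=
    Nat.find_min hex (by rw [hj']; exact Nat.lt_succ_self j')
  obtain ⟨t, htmem, ht0⟩ := Submodule.exists_mem_ne_zero_of_ne_bot hmin
  refine ⟨t, ht0, fun r hr => ?_⟩
  have : r • t ∈ (maximalIdeal R ^ (Nat.find hex)) • (⊤ : Submodule R T) := by
    rw [hj', pow_succ', mul_smul]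
    exact Submodule.smul_mem_smul hr htmem
  rw [hj] at this
  exact (Submodule.mem_bot R).mp this

/-- a nonzero finitely generated module maps nontrivially to any module with a socle element -/
lemma exists_hom_ne_zero {I : Type*} [AddCommGroup I] [Module R I] [Module.Finite R I]
    [Nontrivial I] {T : Type*} [AddCommGroup T] [Module R T] (t : T) (ht0 : t ≠ 0)
    (ht : ∀ r ∈ maximalIdeal R, r • t = 0) : ∃ Φ : I →ₗ[R] T, Φ ≠ 0 := by
  classical
  let mI : Submodule R I := maximalIdeal R • (⊤ : Submodule R I)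
  have hne : mI ≠ ⊤ := by
    intro h
    have := Submodule.eq_bot_of_le_smul_of_le_jacobson_bot (maximalIdeal R) (⊤ : Submodule R I)
      Module.Finite.fg_top (le_of_eq h.symm) (IsLocalRing.maximalIdeal_le_jacobson ⊥)
    exact top_ne_bot this
  obtain ⟨i₀, hi₀⟩ : ∃ i₀ : I, i₀ ∉ mI := by
    by_contra hcon
    exact hne (eq_top_iff.mpr fun i _ => by_contra fun hi => hcon ⟨i, hi⟩)
  have hv : (Submodule.Quotient.mk i₀ : I ⧸ mI) ≠ 0 := by
    rwa [Ne, Submodule.Quotient.mk_eq_zero]
  let _ : Field (R ⧸ maximalIdeal R) := Ideal.Quotient.field _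
  obtain ⟨f, hf⟩ := Module.Projective.exists_dual_ne_zero (R ⧸ maximalIdeal R) hv
  -- the map `R/m → T`
  let ℓ : (R ⧸ maximalIdeal R) →ₗ[R] T :=
    Submodule.liftQ (maximalIdeal R) (LinearMap.toSpanSingleton R T t) (by
      intro r hr
      rw [LinearMap.mem_ker, LinearMap.toSpanSingleton_apply]
      exact ht r hr)
  let f' : (I ⧸ mI) →ₗ[R] (R ⧸ maximalIdeal R) :=
    { toFun := fun v => f v
      map_add' := fun v w => f.map_add v w
      map_smul' := fun r v => by
        have h1 : r • v = (Ideal.Quotient.mk (maximalIdeal R) r) • v := by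
          induction v using Submodule.Quotient.induction_on
          rfl
        rw [h1, f.map_smul]
        rfl }
  refine ⟨ℓ ∘ₗ f' ∘ₗ mI.mkQ, ?_⟩
  intro h0
  have h1 : ℓ (f (Submodule.Quotient.mk i₀)) = 0 := by
    have := congrArg (fun φ => φ i₀) h0
    exact this
  obtain ⟨r, hr⟩ := Ideal.Quotient.mk_surjective (f (Submodule.Quotient.mk i₀))
  rw [← hr] at h1 hf
  have h2 : r • t = 0 := h1
  have hrm : r ∉ maximalIdeal R := by
    intro hrm
    apply hf
    exact Ideal.Quotient.eq_zero_iff_mem.mpr hrm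
  have hunit : IsUnit r := by
    by_contra hnu
    exact hrm ((IsLocalRing.mem_maximalIdeal r).mpr hnu)
  obtain ⟨u, rfl⟩ := hunit
  apply ht0
  have := congrArg (fun z => (↑u⁻¹ : R) • z) h2
  simpa [smul_smul] using this

end Mod

section Main
variable (R : Type u) [CommRing R] [IsNoetherianRing R] [IsLocalRing R]
    (P Q : Ideal R) (hPQ : ∃ n : ℕ, maximalIdeal R ^ n ≤ P ⊔ Q)
    [IsReduced (R ⧸ Q)] (hQdim : ringKrullDim (R ⧸ Q) = 1)
    (I J : Type u) [AddCommGroup I] [Module R I] [Module.Finite R I] [Nontrivial I]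
    [AddCommGroup J] [Module R J] [Module.Finite R J] [Nontrivial J]
    (hPI : ∀ p ∈ P, ∀ x : I, p • x = 0) (hQJ : ∀ q ∈ Q, ∀ y : J, q • y = 0)
    (hJtf : ∀ r : R, Ideal.Quotient.mk Q r ∈ nonZeroDivisors (R ⧸ Q) → ∀ y : J, r • y = 0 → y = 0)

include hPQ hQdim hPI hQJ hJtf in
theorem main : Nontrivial (Ext (ModuleCat.of R I) (ModuleCat.of R J) 1) := by
  obtain ⟨x, hxP, hxnzd, hxmin⟩ := exists_x P Q hPQ hQdim
  obtain ⟨N, hN⟩ := exists_pow_le Q hQdim x hxmin
  have hPtop : P ≠ ⊤ := by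
    intro h
    obtain ⟨i, hi⟩ := exists_ne (0 : I)
    apply hi
    have := hPI 1 (h ▸ Submodule.mem_top) i
    rwa [one_smul] at this
  have hxm : x ∈ maximalIdeal R := le_maximalIdeal hPtop hxP
  let μ : J →ₗ[R] J := x • LinearMap.id
  have hμ : ∀ y, μ y = x • y := fun y => rfl
  have hμinj : Function.Injective μ := by
    rw [← LinearMap.ker_eq_bot, eq_bot_iff]
    intro y hy
    exact (Submodule.mem_bot R).mpr (hJtf x hxnzd y hy)
  let xJ := LinearMap.range μ
  have hT : Nontrivial (J ⧸ xJ) := by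
    rw [Submodule.Quotient.nontrivial_iff]
    intro h
    have h1 : (⊤ : Submodule R J) ≤ maximalIdeal R • ⊤ := by
      intro z _
      have hz : z ∈ xJ := by rw [h]; exact Submodule.mem_top
      obtain ⟨y, rfl⟩ := hz
      rw [hμ]
      exact Submodule.smul_mem_smul hxm Submodule.mem_top
    exact top_ne_bot (Submodule.eq_bot_of_le_smul_of_le_jacobson_bot _ _ Module.Finite.fg_top h1
      (maximalIdeal_le_jacobson ⊥))
  have hkill : ∀ r ∈ maximalIdeal R ^ N, ∀ t : J ⧸ xJ, r • t = 0 := by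
    intro r hr t
    induction t using Submodule.Quotient.induction_on with
    | _ y =>
      obtain ⟨q, hq, z, hz, rfl⟩ := Submodule.mem_sup.mp (hN hr)
      obtain ⟨c, rfl⟩ := Ideal.mem_span_singleton'.mp hz
      rw [← Submodule.Quotient.mk_smul, Submodule.Quotient.mk_eq_zero, add_smul, hQJ q hq y,
        zero_add]
      refine ⟨c • y, ?_⟩
      rw [hμ, smul_smul, mul_comm]
  obtain ⟨t, ht0, ht⟩ := exists_socle N hkill
  obtain ⟨Φ, hΦ⟩ := exists_hom_ne_zero (I := I) t ht0 ht
  let S : ShortComplex (ModuleCat.{u} R) :=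
    ShortComplex.mk (ModuleCat.ofHom μ) (ModuleCat.ofHom xJ.mkQ) (by
      ext y
      simp only [ModuleCat.hom_comp, ModuleCat.hom_ofHom, LinearMap.comp_apply,
        Submodule.mkQ_apply, ModuleCat.hom_zero, LinearMap.zero_apply]
      rw [Submodule.Quotient.mk_eq_zero]
      exact ⟨y, rfl⟩)
  have hS : S.ShortExact := ModuleCat.shortComplex_shortExact S
    (LinearMap.exact_map_mkQ_range μ) hμinj (Submodule.mkQ_surjective _)
  refine ⟨⟨(Ext.mk₀ (ModuleCat.ofHom Φ)).comp hS.extClass (zero_add 1), 0, ?_⟩⟩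
  intro h0
  obtain ⟨x₂, hx₂⟩ := Ext.covariant_sequence_exact₃ (ModuleCat.of R I) hS
    (Ext.mk₀ (ModuleCat.ofHom Φ)) (zero_add 1) h0
  obtain ⟨ψ, rfl⟩ := (Ext.mk₀_bijective _ _).2 x₂
  rw [Ext.mk₀_comp_mk₀] at hx₂
  have h3 := (Ext.mk₀_bijective _ _).1 hx₂
  have hψ : ∀ i, ψ.hom i = 0 := by
    intro i
    apply hJtf x hxnzd
    rw [← map_smul, hPI x hxP i, map_zero]
  apply hΦ
  have h4 := congrArg ModuleCat.Hom.hom h3
  ext i
  have h5 := congrArg (fun φ => φ i) h4
  simp only [ModuleCat.hom_comp, ModuleCat.hom_ofHom, LinearMap.comp_apply] at h5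
  rw [LinearMap.zero_apply, ← h5]
  show xJ.mkQ (ψ.hom i) = 0
  rw [hψ i, map_zero]

end Main
end Aux

/-- Let R be a Noetherian local ring with maximal ideal m, and P, Q ideals of R such that P + Q contains
a power of m while R/P and R/Q are both reduced of Krull dimension one. Let I and J be nonzero
finitely generated R-modules with P·I = 0 and Q·J = 0, such that every element of R whose class in
R/P is a non-zero-divisor acts injectively on I, and every element whose class in R/Q is a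
non-zero-divisor acts injectively on J. Then the group Ext¹_R(I, J) is nonzero. (This is the stalk
statement behind the existence of a non-split extension of a torsion-free rank-one sheaf on a
subcurve Y by one on a subcurve Z of a reduced projective curve, at a point where Y and Z meet
without sharing a component; in that situation the modules moreover have rank one at the generic
points of their supports and P ∩ Q = 0, two assumptions the argument does not use.) -/
theorem result
    (R : Type u) [CommRing R] [IsNoetherianRing R] [IsLocalRing R]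
    (P Q : Ideal R) (hPQ : ∃ n : ℕ, IsLocalRing.maximalIdeal R ^ n ≤ P ⊔ Q)
    [IsReduced (R ⧸ P)] [IsReduced (R ⧸ Q)]
    (hPdim : ringKrullDim (R ⧸ P) = 1) (hQdim : ringKrullDim (R ⧸ Q) = 1)
    (I J : Type u) [AddCommGroup I] [Module R I] [Module.Finite R I] [Nontrivial I]
    [AddCommGroup J] [Module R J] [Module.Finite R J] [Nontrivial J]
    (hPI : ∀ p ∈ P, ∀ x : I, p • x = 0) (hQJ : ∀ q ∈ Q, ∀ y : J, q • y = 0)
    (hItf : ∀ r : R, Ideal.Quotient.mk P r ∈ nonZeroDivisors (R ⧸ P) → ∀ x : I, r • x = 0 → x = 0)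
    (hJtf : ∀ r : R, Ideal.Quotient.mk Q r ∈ nonZeroDivisors (R ⧸ Q) → ∀ y : J, r • y = 0 → y = 0) :
    Nontrivial (Abelian.Ext (ModuleCat.of R I) (ModuleCat.of R J) 1) := by
  exact Aux.main R P Q hPQ hQdim I J hPI hQJ hJtf

end Groth.Agent.S18363
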