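import Groth.Statements.S18376
import Mathlib
import Groth.Agent.Lib.Helper6.MGraphTree3

set_option autoImplicit false
universe u
open PhiStab

namespace Groth.Agent.S18376

open PhiStab in
/-- Let (V, E, ends) be a connected finite multigraph, b an integer, and φ₁, φ₂ real weightings of the
vertices with Σ_v φ₁ v = Σ_v φ₂ v = b, φ₁ nondegenerate. Then every φ₁-stable sheaf datum (m, N) of
total degree b is φ₂-semistable if and only if φ₂ lies in the closed stability polytope of φ₁, that
is, for every elementary vertex set S and every integer d with d - Σ_{v ∈ S} φ₁ v + cut S / 2 > 0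
one has d - Σ_{v ∈ S} φ₂ v + cut S / 2 ≥ 0. Membership in the closure of the polytope is expressed
by this half-space condition, the form in which the source's proof uses it; the sheaves of degree g
- 1 = b on stable pointed curves with this dual graph enter through their combinatorial data. -/
theorem result {V E : Type u} [Fintype V] [Fintype E] [DecidableEq V] [DecidableEq E]
    (ends : E → V × V)
    (hconn : LabGraph.Connected ends) (b : ℤ) (φ₁ φ₂ : V → ℝ) (h₁ : (∑ v : V, φ₁ v) = (b : ℝ))
    (h₂ : (∑ v : V, φ₂ v) = (b : ℝ)) (hnd : Nondegenerate ends φ₁) :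
    (∀ (m : V → ℤ) (N : Finset E), totDeg m N = b → IsStable ends φ₁ m N → IsSemistable ends φ₂ m N) ↔
      InClosedPolytope ends φ₁ φ₂ := by
  have hconn' := ((Groth.Agent.Lib.Helper6.MGraph.connected_iff (ends := ends)).1 hconn)
  constructor
  · -- every stable datum semistable ⇒ closed polytope
    intro H S hS d hd
    have hS' := (Groth.Agent.Lib.Helper6.MGraph.isElementary_iff ends S).1 hS
    obtain ⟨T, e₀, he₀T, hTconn, hTfor, hcross, hothers⟩ :=
      Groth.Agent.Lib.Helper6.MGraph.exists_tree_one_cross ends hconn'.2 hS'.1 hS'.2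
    obtain ⟨m, hm1, hm2⟩ := Groth.Agent.Lib.Helper6.MGraph.exists_stable_tree ends hTconn hconn'.1 hTfor b φ₁ h₁ hnd
    have htot : (∑ v, φ₁ v) = (totDeg m Tᶜ : ℝ) := by rw [hm1, h₁]
    have hmu := Groth.Agent.Lib.Helper6.MGraph.tree_of_stable ends hTconn hTfor φ₁ m htot hm2 e₀ he₀T
    have hsum := Groth.Agent.Lib.Helper6.MGraph.hfun_eq_sum_tterm ends hTconn hTfor φ₁ m htot S
    rw [Groth.Agent.Lib.Helper6.MGraph.hfun_eq_degOn] at hsum
    have hsingle : ∑ e ∈ T, Groth.Agent.Lib.Helper6.MGraph.tterm ends T
        (Groth.Agent.Lib.Helper6.MGraph.muT ends T φ₁ m) S e =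
        Groth.Agent.Lib.Helper6.MGraph.tterm ends T (Groth.Agent.Lib.Helper6.MGraph.muT ends T φ₁ m) S e₀ := by
      apply Finset.sum_eq_single_of_mem e₀ he₀T
      intro e' he' hne
      have := hothers e' he' hne
      unfold Groth.Agent.Lib.Helper6.MGraph.tterm Groth.Agent.Lib.Helper6.MGraph.Cross
      by_cases a1 : (ends e').1 ∈ S
      · simp [a1, this.1 a1]
      · have a2 : (ends e').2 ∉ S := fun h => a1 (this.2 h)
        simp [a1, a2]
    rw [hsingle] at hsum
    have hlt : (degOn ends m Tᶜ S : ℝ) - ((∑ v ∈ S, φ₁ v) - (LabGraph.cut ends S : ℝ) / 2) < 1 := by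
      rw [hsum]
      have := abs_lt.1 hmu
      unfold Groth.Agent.Lib.Helper6.MGraph.tterm
      rw [if_pos hcross]
      unfold Groth.Agent.Lib.Helper6.MGraph.Cross at hcross
      rcases hcross with ⟨a1, a2⟩ | ⟨a1, a2⟩ <;> simp [a1, a2] <;> linarith
    have hsemi := H m Tᶜ hm1 hm2 S hS'.1.1 (by
      intro h
      rw [h, Finset.compl_univ] at hS'
      exact Finset.not_nonempty_empty hS'.2.1)
    unfold ell at hd ⊢
    have hdge : (degOn ends m Tᶜ S : ℝ) ≤ (d : ℝ) := by
      have : (degOn ends m Tᶜ S : ℝ) - 1 < (d : ℝ) := by linarith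
      have h2 : degOn ends m Tᶜ S - 1 < d := by exact_mod_cast this
      have h3 : degOn ends m Tᶜ S ≤ d := by omega
      exact_mod_cast h3
    linarith
  · intro Hpoly m N hmN hst
    have htot : Groth.Agent.Lib.Helper6.MGraph.hfun ends (fun v => (m v : ℝ) - φ₂ v) N Finset.univ = 0 := by
      rw [Groth.Agent.Lib.Helper6.MGraph.hfun_univ, Finset.sum_sub_distrib, h₂, ← hmN]
      unfold totDeg
      push_cast
      ring
    intro S hne huniv
    have := Groth.Agent.Lib.Helper6.MGraph.stab_main ends hconn'.2 (fun v => (m v : ℝ) - φ₂ v) N htot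
      (fun x => 0 ≤ x) (fun x y hx hy => add_nonneg hx hy) (fun x hx => hx) (by
        intro S' hS'
        have hel := (Groth.Agent.Lib.Helper6.MGraph.isElementary_iff ends S').2 hS'
        rw [Groth.Agent.Lib.Helper6.MGraph.hfun_eq_degOn]
        have h1 := hst S' hS'.1.1 (by
          intro h
          rw [h, Finset.compl_univ] at hS'
          exact Finset.not_nonempty_empty hS'.2.1)
        have h2 := Hpoly S' hel (degOn ends m N S') (by unfold ell; linarith)
        unfold ell at h2
        linarith) S hne huniv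
    rw [Groth.Agent.Lib.Helper6.MGraph.hfun_eq_degOn] at this
    linarith

end Groth.Agent.S18376
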