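import Groth.Statements.S18377
import Mathlib
import Mathlib
import Groth.Agent.Lib.Helper5.Misc.SchurRoots

set_option autoImplicit false
open Complex
open VerlindeComb

open Groth.Agent.Helper5

namespace Groth.Agent.S18377

/-- Let r, k ≥ 1 be integers and v_1 > v_2 > ⋯ > v_r ≥ 0 integers below r + k; put z_j = exp(2πi v_j /
(r + k)) and, for μ = (μ_1, …, μ_r), let S_μ(z) = det(z_j^{μ_i + r - i}) / det(z_j^{r - i}) be the
value of the Schur polynomial (the z_j are distinct, so the Vandermonde denominator is nonzero).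
Then, summing over all μ with k > μ_1 ≥ ⋯ ≥ μ_r ≥ 0 and writing μ* = (k - μ_r, …, k - μ_1), one has
Σ_μ S_μ(z) S_{μ*}(z) = exp(2πi k (v_1 + ⋯ + v_r) / (r + k)) · k (r + k)^{r-1} / ∏_{i<j} (2 sin(π
(v_i - v_j) / (r + k)))². Indices are 0-based below: μ i stands for μ_{i+1}. -/
theorem result (r k : ℕ) (hr : 1 ≤ r) (hk : 1 ≤ k)
    (v : Fin r → ℕ) (hv : StrictAnti v) (hvlt : ∀ i, v i < r + k)
    (z : Fin r → ℂ) (hz : ∀ j, z j = Complex.exp (2 * Real.pi * Complex.I * (v j : ℂ) / ((r : ℂ) + k)))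
    (S : (Fin r → ℕ) → ℂ)
    (hS : ∀ μ : Fin r → ℕ, S μ =
      (Matrix.of fun i j : Fin r => z j ^ (μ i + (r - 1 - (i : ℕ)))).det /
        (Matrix.of fun i j : Fin r => z j ^ (r - 1 - (i : ℕ))).det) :
    (∑ μ ∈ (Finset.univ : Finset (Fin r → Fin k)).filter (fun μ : Fin r → Fin k => Antitone μ),
        S (fun i => (μ i : ℕ)) * S (fun i => k - (μ (Fin.rev i) : ℕ))) =
      Complex.exp (2 * Real.pi * Complex.I * (k : ℂ) * ((∑ j, v j : ℕ) : ℂ) / ((r : ℂ) + k)) *
        ((k : ℂ) * ((r : ℂ) + k) ^ (r - 1)) /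
        (∏ p ∈ (Finset.univ : Finset (Fin r × Fin r)).filter (fun p => p.1 < p.2),
          (((2 : ℝ) * Real.sin (Real.pi * ((v p.1 : ℝ) - (v p.2 : ℝ)) / ((r : ℝ) + k))) ^ 2 : ℝ) : ℂ) := by
  classical
  have hn : r + k ≠ 0 := by omega
  set ζ := Complex.exp (2 * Real.pi * Complex.I / ((r + k : ℕ) : ℂ)) with hζdef
  have hζ : IsPrimitiveRoot ζ (r + k) := Complex.isPrimitiveRoot_exp _ hn
  have hζ1 : ‖ζ‖ = 1 := hζ.norm'_eq_one hn
  have hzζ : ∀ j, z j = ζ ^ v j := by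
    intro j
    rw [hz, hζdef, ← Complex.exp_nat_mul]
    congr 1
    push_cast
    ring
  have hzn : ∀ j, z j ^ (r + k) = 1 := by
    intro j
    rw [hzζ, ← pow_mul, mul_comm, pow_mul, hζ.pow_eq_one, one_pow]
  have hz1 : ∀ j, ‖z j‖ = 1 := by
    intro j
    rw [hzζ, norm_pow, hζ1, one_pow]
  have hinj : Function.Injective z := by
    intro a b hab
    rw [hzζ, hzζ] at hab
    exact hv.injective (hζ.pow_inj (hvlt a) (hvlt b) hab)
  have key := SchurRoots.schur_sum r k hr hk z hzn hz1 hinj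
  have hL : ∀ μ : Fin r → Fin k,
      S (fun i => (μ i : ℕ)) * S (fun i => k - (μ (Fin.rev i) : ℕ)) =
      (SchurRoots.D z (fun i => (μ i : ℕ) + (r - 1 - (i : ℕ))) /
        SchurRoots.D z (fun i => r - 1 - (i : ℕ))) *
      (SchurRoots.D z (fun i => k - (μ (Fin.rev i) : ℕ) + (r - 1 - (i : ℕ))) /
        SchurRoots.D z (fun i => r - 1 - (i : ℕ))) := by
    intro μ
    rw [hS, hS]
    rfl
  simp_rw [hL]
  rw [key]
  congr 1
  · congr 1
    simp_rw [hz, ← Complex.exp_nat_mul]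
    rw [← Complex.exp_sum]
    congr 1
    rw [Nat.cast_sum, Finset.mul_sum, Finset.sum_div]
    refine Finset.sum_congr rfl fun j _ => ?_
    ring
  · rw [← Complex.ofReal_prod]
    congr 1
    rw [SchurRoots.normSq_D_rho]
    have h1 := Verlinde.F_eq_sin (n := r + k) (fun i => (⟨v i, hvlt i⟩ : Fin (r + k)))
    have h2 : Matrix.vandermonde z =
        Matrix.vandermonde fun i => ζ ^ (((⟨v i, hvlt i⟩ : Fin (r + k)) : ℕ)) := by
      congr 1
      funext i
      exact hzζ i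
    rw [h2]
    rw [Verlinde.F, Verlinde.Vd] at h1
    rw [h1]
    refine Finset.prod_congr rfl fun p _ => ?_
    push_cast
    rfl

end Groth.Agent.S18377
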