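import Groth.Statements.S18378
import Mathlib
import Mathlib
import Groth.Agent.Lib.Helper5.Misc.TwistOrth

set_option autoImplicit false
open Complex
open VerlindeComb

open Groth.Agent.Helper5

namespace Groth.Agent.S18378

/-- Let r, k ≥ 1 be integers and v, v' two integer vectors with r + k > v_1 > ⋯ > v_r ≥ 0 and r + k >
v'_1 > ⋯ > v'_r ≥ 0 whose difference v - v' is not a constant vector (a, …, a). Put z_j = exp(2πi
v_j / (r + k)), z'_j = exp(2πi v'_j / (r + k)), let S_μ(w) = det(w_j^{μ_i + r - i}) / det(w_j^{r -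
i}) be the Schur value at w = z or z', and write |x| for the sum of the coordinates of a vector and
μ* = (k - μ_r, …, k - μ_1). Then the sum over all μ with k ≥ μ_1 ≥ ⋯ ≥ μ_{r-1} ≥ μ_r = 0 of exp(-2πi
|μ| |v| / (r (r + k))) · exp(-2πi |μ*| |v'| / (r (r + k))) · S_μ(z) · S_{μ*}(z') is zero. The
vanishing is the orthogonality of distinct characters and holds exactly for non-equivalent v, v';
for v - v' constant the sum is nonzero. Indices are 0-based below: μ i stands for μ_{i+1}. -/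
theorem result (r k : ℕ) (hr : 1 ≤ r)
    (hk : 1 ≤ k) (v v' : Fin r → ℕ) (hv : StrictAnti v) (hvlt : ∀ i, v i < r + k) (hv' : StrictAnti v')
    (hv'lt : ∀ i, v' i < r + k) (hne : ¬ ∃ a : ℤ, ∀ i, (v i : ℤ) - (v' i : ℤ) = a)
    (z z' : Fin r → ℂ) (hz : ∀ j, z j = Complex.exp (2 * Real.pi * Complex.I * (v j : ℂ) / ((r : ℂ) + k)))
    (hz' : ∀ j, z' j = Complex.exp (2 * Real.pi * Complex.I * (v' j : ℂ) / ((r : ℂ) + k)))
    (S S' : (Fin r → ℕ) → ℂ)
    (hS : ∀ μ : Fin r → ℕ, S μ =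
      (Matrix.of fun i j : Fin r => z j ^ (μ i + (r - 1 - (i : ℕ)))).det /
        (Matrix.of fun i j : Fin r => z j ^ (r - 1 - (i : ℕ))).det)
    (hS' : ∀ μ : Fin r → ℕ, S' μ =
      (Matrix.of fun i j : Fin r => z' j ^ (μ i + (r - 1 - (i : ℕ)))).det /
        (Matrix.of fun i j : Fin r => z' j ^ (r - 1 - (i : ℕ))).det) :
    (∑ μ ∈ (Finset.univ : Finset (Fin r → Fin (k + 1))).filter
        (fun μ : Fin r → Fin (k + 1) => Antitone μ ∧ ∀ i : Fin r, (i : ℕ) = r - 1 → (μ i : ℕ) = 0),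
      Complex.exp (-(2 * Real.pi * Complex.I * ((∑ i, (μ i : ℕ) : ℕ) : ℂ) * ((∑ j, v j : ℕ) : ℂ) /
          ((r : ℂ) * ((r : ℂ) + k)))) *
      Complex.exp (-(2 * Real.pi * Complex.I * ((∑ i, (k - (μ (Fin.rev i) : ℕ)) : ℕ) : ℂ) *
          ((∑ j, v' j : ℕ) : ℂ) / ((r : ℂ) * ((r : ℂ) + k)))) *
      S (fun i => (μ i : ℕ)) * S' (fun i => k - (μ (Fin.rev i) : ℕ))) = 0 := by
  classical
  have hn : r + k ≠ 0 := by omega
  have hzζ : z = fun j => Complex.exp (2 * Real.pi * Complex.I / ((r + k : ℕ) : ℂ)) ^ v j := by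
    funext j
    rw [hz, ← Complex.exp_nat_mul]
    congr 1
    push_cast
    ring
  have hz'ζ : z' = fun j => Complex.exp (2 * Real.pi * Complex.I / ((r + k : ℕ) : ℂ)) ^ v' j := by
    funext j
    rw [hz', ← Complex.exp_nat_mul]
    congr 1
    push_cast
    ring
  obtain ⟨C, hC⟩ := TwistOrth.schur_dual_term k hr v v' hv'lt
  have hc : ((r + k : ℕ) : ℂ) = (r : ℂ) + k := by push_cast; rfl
  have hterm : ∀ μ : Fin r → Fin (k + 1),
      Complex.exp (-(2 * Real.pi * Complex.I * ((∑ i, (μ i : ℕ) : ℕ) : ℂ) * ((∑ j, v j : ℕ) : ℂ) /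
          ((r : ℂ) * ((r : ℂ) + k)))) *
      Complex.exp (-(2 * Real.pi * Complex.I * ((∑ i, (k - (μ (Fin.rev i) : ℕ)) : ℕ) : ℂ) *
          ((∑ j, v' j : ℕ) : ℂ) / ((r : ℂ) * ((r : ℂ) + k)))) *
      S (fun i => (μ i : ℕ)) * S' (fun i => k - (μ (Fin.rev i) : ℕ)) =
      C * TwistOrth.X (Complex.exp (-(2 * Real.pi * Complex.I *
          ((∑ j, v j + ∑ j, (r + k - 1 - v' (Fin.rev j)) : ℕ) : ℂ) /
          ((r : ℂ) * ((r + k : ℕ) : ℂ)))))
        (fun j => Complex.exp (2 * Real.pi * Complex.I / ((r + k : ℕ) : ℂ)) ^ v j)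
        (fun j => Complex.exp (2 * Real.pi * Complex.I / ((r + k : ℕ) : ℂ)) ^
          (r + k - 1 - v' (Fin.rev j)))
        (TwistOrth.shiftμ μ) := by
    intro μ
    rw [← hC μ, hS, hS', hzζ, hz'ζ, hc]
    rfl
  simp_rw [hterm]
  rw [← Finset.mul_sum]
  rw [TwistOrth.sum_filter_eq_sum_I k hr (fun u => TwistOrth.X (Complex.exp (-(2 * Real.pi * Complex.I *
          ((∑ j, v j + ∑ j, (r + k - 1 - v' (Fin.rev j)) : ℕ) : ℂ) /
          ((r : ℂ) * ((r + k : ℕ) : ℂ)))))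
        (fun j => Complex.exp (2 * Real.pi * Complex.I / ((r + k : ℕ) : ℂ)) ^ v j)
        (fun j => Complex.exp (2 * Real.pi * Complex.I / ((r + k : ℕ) : ℂ)) ^
          (r + k - 1 - v' (Fin.rev j))) u)]
  have hmain := TwistOrth.twisted_orth (n := r + k) hn hr v (fun j => r + k - 1 - v' (Fin.rev j))
    hv
    (by
      intro a b hab
      have h1 : Fin.rev b < Fin.rev a := Fin.rev_lt_rev.2 hab
      have h2 := hv' h1
      have h3 := hv'lt (Fin.rev b)
      have h4 := hv'lt (Fin.rev a)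
      simp only
      omega)
    hvlt
    (fun j => by omega)
    (by
      rintro ⟨s, hs⟩
      apply hne
      refine ⟨(s : ℤ) - ((r : ℤ) + k - 1), fun i => ?_⟩
      have h1 := hs i
      simp only [Fin.rev_rev] at h1
      have h2 := hv'lt i
      omega)
  rw [hmain, mul_zero]

end Groth.Agent.S18378
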