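import Groth.Statements.S18382
import Mathlib
import Groth.Agent.Lib.Helper6.MGraphTree

set_option autoImplicit false
universe u
open PhiStab

namespace Groth.Agent.S18382

open PhiStab in
/-- Let (V, E, ends) be a finite tree, that is a connected multigraph without circuits. For every family
of real numbers c_e indexed by the edges and every real c₀ there is exactly one real weighting φ of
the vertices such that, for each edge e, the sum of φ over the side of e containing its first
endpoint (the vertices joined to that endpoint by a chain of edges other than e) equals c_e, and the
sum of φ over all vertices equals c₀. The lemma itself — a system of stability parameters on all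
treelike marked graphs compatible with contractions is determined by its components on the
two-vertex graphs — reduces to this square linear system being nondegenerate. -/
theorem result {V E : Type u} [Fintype V] [Fintype E] [DecidableEq V] [DecidableEq E]
    (ends : E → V × V) (hT : DualGr.IsTree ends)
    (c : E → ℝ) (c₀ : ℝ) :
    ∃! φ : V → ℝ, (∀ e : E, (∑ v ∈ side ends e, φ v) = c e) ∧ (∑ v : V, φ v) = c₀ := by
  have hconn := ((Groth.Agent.Lib.Helper6.MGraph.connected_iff (ends := ends)).1 hT.1)
  have hfor : Groth.Agent.Lib.Helper6.MGraph.IsForestSet ends Finset.univ := fun C _ hC => hT.2 C hC
  have hside : ∀ e, PhiStab.side ends e =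
      Groth.Agent.Lib.Helper6.MGraph.comp ends (Finset.univ.erase e) (ends e).1 := by
    intro e
    ext v
    unfold PhiStab.side PhiStab.spanEnds
    simp only [Finset.mem_filter, Finset.mem_univ, true_and]
    rw [Groth.Agent.Lib.Helper6.MGraph.mem_comp,
      Groth.Agent.Lib.Helper6.MGraph.reflTransGen_adj_sub_iff]
  simp only [hside]
  exact Groth.Agent.Lib.Helper6.MGraph.tree_side_system ends hconn.2 hconn.1 hfor c c₀

end Groth.Agent.S18382
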