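import Groth.Statements.S1839
import Mathlib
import Groth.Prelude.Def_CycDet
import Groth.Agent.Lib.Helper9.CycDetC
-- import your own Groth.Agent.* helpers here

set_option autoImplicit false
universe u v
open CycDet

namespace Groth.Agent.S1839

open Groth.Agent.Lib.Helper9.CycDetL
namespace Aux

theorem main (R : Type u) [CommRing R] [IsLocalRing R] (M : Type v) [AddCommGroup M] [Module R M] (hM : IsFiniteLength R M) (e : CycDet.Adm R M (Module.length R M).toNat) (he : Submodule.span R (Set.range e.1) = ⊤) : CycDet.symbol R M e ≠ 0 :=
  cls_ne_zero_of_nondeg _ M e (nondeg_of_gen e.1 e.2 he (length_eq_toNat hM))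

end Aux

/-- For a finite length module M over a local ring with residue field κ, the symbol in det_κ(M) of any
admissible tuple of length length(M) whose entries generate M is nonzero. (Together with the rank
bound dim_κ det_κ(M) ≤ 1 this gives dim_κ det_κ(M) = 1.) -/
theorem result (R : Type u) [CommRing R] [IsLocalRing R] (M : Type v) [AddCommGroup M] [Module R M] (hM : IsFiniteLength R M) (e : CycDet.Adm R M (Module.length R M).toNat) (he : Submodule.span R (Set.range e.1) = ⊤) : CycDet.symbol R M e ≠ 0 := by
  exact Aux.main R M hM e he

end Groth.Agent.S1839
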