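import Groth.Statements.S1840
import Mathlib
import Groth.Prelude.Def_CycDet
import Groth.Agent.Lib.Helper9.CycDetB
-- import your own Groth.Agent.* helpers here

set_option autoImplicit false
universe u v
open CycDet

namespace Groth.Agent.S1840

open Groth.Agent.Lib.Helper9.CycDetL
open CycDet IsLocalRing
namespace Aux

variable {R : Type u} [CommRing R] [IsLocalRing R] {M : Type v} [AddCommGroup M] [Module R M]
  [Module (ResidueField R) M] [IsScalarTower R (ResidueField R) M]

lemma smul_eq_res (r : R) (x : M) : r • x = IsLocalRing.residue R r • x := by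
  rw [← IsLocalRing.ResidueField.algebraMap_eq, algebraMap_smul]

lemma adm_all {l : ℕ} (e : Fin l → M) : IsAdmissible R M e := by
  intro i r hr
  rw [smul_eq_res, (IsLocalRing.residue_eq_zero_iff r).mpr hr, zero_smul]
  exact Submodule.zero_mem _

lemma spanBefore_le {l : ℕ} (e : Fin l → M) (i : ℕ) :
    spanBefore R M e i ≤
      (Submodule.span (ResidueField R) (e '' {j : Fin l | (j : ℕ) < i})).restrictScalars R :=
  Submodule.span_le_restrictScalars R (ResidueField R) _

lemma not_li_of_mem {l : ℕ} (e : Fin l → M) (a : Fin l) (h : e a ∈ spanBefore R M e a) :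
    ¬ LinearIndependent (ResidueField R) e := by
  intro hli
  have h1 := spanBefore_le e a h
  exact hli.notMem_span_image (s := {j : Fin l | (j : ℕ) < a}) (x := a) (by simp) h1

lemma not_li_update {l : ℕ} (e : Fin l → M) (a : Fin l) (s : M) (h : s ∈ spanBefore R M e a) :
    ¬ LinearIndependent (ResidueField R) (Function.update e a s) := by
  apply not_li_of_mem (R := R) _ a
  rw [Function.update_self]
  have : spanBefore R M (Function.update e a s) a = spanBefore R M e a := by
    apply spanBefore_congr
    intro j hj
    rw [Function.update_of_ne]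
    intro hja; rw [hja] at hj; omega
  rw [this]; exact h

lemma length_eq_finrank [Module.Finite (ResidueField R) M] :
    Module.length R M = (Module.finrank (ResidueField R) M : ℕ∞) := by
  set d := Module.finrank (ResidueField R) M with hd
  let b := Module.finBasis (ResidueField R) M
  have hgen : Submodule.span R (Set.range b) = ⊤ := by
    rw [← Submodule.restrictScalars_span R (ResidueField R) IsLocalRing.residue_surjective,
      b.span_eq]
    rfl
  have hnd : Nondeg (R := R) (b : Fin d → M) := by
    intro a ha
    exact not_li_of_mem (R := R) _ a ha b.linearIndependent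
  apply le_antisymm
  · exact length_le_of_adm_gen _ (adm_all _) hgen
  · exact le_length_of_nondeg _ hnd

/-- the map on admissible tuples -/
noncomputable def phi (l : ℕ) (e : Adm R M l) : ⋀[ResidueField R]^l M :=
  exteriorPower.ιMulti (ResidueField R) l e.1

noncomputable def Phi0 (l : ℕ) : DetOfLen R M l →ₗ[ResidueField R] ⋀[ResidueField R]^l M :=
  liftDet (phi l)
    (by
      intro e a h
      exact AlternatingMap.map_linearDependent _ _ (not_li_of_mem e.1 a h))
    (by
      classical
      intro e e' a c h1 h2
      unfold phi
      have hspan : spanBefore R M e.1 a = spanBefore R M e'.1 a := by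
        apply spanBefore_congr
        intro j hj
        apply h1
        intro hja; rw [hja] at hj; omega
      obtain ⟨t, ht, hte⟩ : ∃ t, t ∈ spanBefore R M e'.1 a ∧
          e.1 = Function.update e'.1 a (IsLocalRing.residue R (c : R) • e'.1 a + t) := by
        refine ⟨e.1 a - (c : R) • e'.1 a, hspan ▸ h2, ?_⟩
        funext j
        by_cases hj : j = a
        · subst hj; rw [Function.update_self, ← smul_eq_res]; abel
        · rw [Function.update_of_ne hj]; exact h1 j hj
      rw [hte, AlternatingMap.map_update_add, AlternatingMap.map_update_smul,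
        Function.update_eq_self]
      rw [AlternatingMap.map_linearDependent _ _ (not_li_update (R := R) e'.1 a _ ht),
        add_zero])
    (by
      classical
      intro e e' a b hab _ h2
      unfold phi
      rw [h2, AlternatingMap.map_swap, add_neg_cancel]
      intro h; rw [h] at hab; omega)

lemma Phi0_cls (l : ℕ) (e : Adm R M l) :
    Phi0 l (cls e) = exteriorPower.ιMulti (ResidueField R) l e.1 := by
  exact liftDet_cls (phi l) _ _ _ e

lemma Phi0_surj (l : ℕ) : Function.Surjective (Phi0 (R := R) (M := M) l) := by
  rw [← LinearMap.range_eq_top, eq_top_iff, ← exteriorPower.ιMulti_span, Submodule.span_le]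
  rintro _ ⟨e, rfl⟩
  exact ⟨cls ⟨e, adm_all e⟩, Phi0_cls l _⟩

theorem main (R : Type u) [CommRing R] [IsLocalRing R] (M : Type v) [AddCommGroup M] [Module R M] [Module (IsLocalRing.ResidueField R) M] [IsScalarTower R (IsLocalRing.ResidueField R) M] [Module.Finite (IsLocalRing.ResidueField R) M] : ∃ Φ : CycDet.Det R M ≃ₗ[IsLocalRing.ResidueField R] (⋀[IsLocalRing.ResidueField R]^((Module.length R M).toNat) M), ∀ e : CycDet.Adm R M (Module.length R M).toNat, Φ (CycDet.symbol R M e) = exteriorPower.ιMulti (IsLocalRing.ResidueField R) ((Module.length R M).toNat) e.1 := by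
  have hlen := length_eq_finrank (R := R) (M := M)
  set l := (Module.length R M).toNat with hl
  have hl' : l = Module.finrank (ResidueField R) M := by
    rw [hl, hlen]; rfl
  have hlen' : Module.length R M = l := by rw [hlen, hl']
  have hrank := rank_detOfLen_le_one (R := R) (M := M) hlen'
  have hfr : Module.finrank (ResidueField R) (⋀[ResidueField R]^l M) = 1 := by
    rw [exteriorPower.finrank_eq, hl', Nat.choose_self]
  have hinj : Function.Injective (Phi0 (R := R) (M := M) l) := by
    rw [← LinearMap.ker_eq_bot]
    have h1 := LinearMap.rank_range_add_rank_ker (Phi0 (R := R) (M := M) l)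
    rw [LinearMap.range_eq_top.mpr (Phi0_surj l), rank_top] at h1
    have h2 : Module.rank (ResidueField R) (⋀[ResidueField R]^l M) = 1 := by
      rw [← Module.finrank_eq_rank, hfr]; rfl
    rw [h2] at h1
    have h3 : Module.rank (ResidueField R) (LinearMap.ker (Phi0 (R := R) (M := M) l)) = 0 := by
      have h4 : Module.rank (ResidueField R) (LinearMap.ker (Phi0 (R := R) (M := M) l)) + 1 ≤ 0 + 1 := by
        rw [add_comm, h1, zero_add]; exact hrank
      have := (Cardinal.add_le_add_iff_of_lt_aleph0 (Cardinal.one_lt_aleph0)).mp h4
      exact le_antisymm this zero_le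
    exact Submodule.rank_eq_zero.mp h3
  refine ⟨LinearEquiv.ofBijective (Phi0 l) ⟨hinj, Phi0_surj l⟩, ?_⟩
  intro e
  exact Phi0_cls l e

end Aux

/-- Let M be a finite-dimensional vector space over the residue field κ of a local ring R, viewed as an
R-module. There is a κ-linear isomorphism from det_κ(M) to the top exterior power of M sending the
symbol of an admissible tuple (e₁, …, e_l) to e₁ ∧ … ∧ e_l. -/
theorem result (R : Type u) [CommRing R] [IsLocalRing R] (M : Type v) [AddCommGroup M] [Module R M] [Module (IsLocalRing.ResidueField R) M] [IsScalarTower R (IsLocalRing.ResidueField R) M] [Module.Finite (IsLocalRing.ResidueField R) M] : ∃ Φ : CycDet.Det R M ≃ₗ[IsLocalRing.ResidueField R] (⋀[IsLocalRing.ResidueField R]^((Module.length R M).toNat) M), ∀ e : CycDet.Adm R M (Module.length R M).toNat, Φ (CycDet.symbol R M e) = exteriorPower.ιMulti (IsLocalRing.ResidueField R) ((Module.length R M).toNat) e.1 := by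
  exact Aux.main R M

end Groth.Agent.S1840
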