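import Groth.Statements.S18402
import Mathlib
import Groth.Prelude.Def_FEt
-- import your own Groth.Agent.* helpers here

set_option autoImplicit false
universe u
open Pi1

namespace Groth.Agent.S18402

open CategoryTheory CategoryTheory.Limits AlgebraicGeometry
namespace Aux
set_option backward.isDefEq.respectTransparency false
set_option linter.style.haveILetI false
set_option linter.unusedSectionVars false

/-- topological core -/
theorem top_core {T Z : Type*} [TopologicalSpace T] [TopologicalSpace Z] (f : T → Z)
    (hsurj : Function.Surjective f) (hgen : GeneralizingMap f)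
    (hfib : ∀ z, IsPreconnected (f ⁻¹' {z}))
    (G : Set Z) (hG : G.Finite) (hGen : ∀ z, ∃ g ∈ G, g ⤳ z)
    [PreconnectedSpace Z] : PreconnectedSpace T := by
  rw [preconnectedSpace_iff_clopen]
  intro U hU
  -- key: image of a clopen set is closed
  have disj : ∀ V : Set T, IsClopen V → Disjoint (f '' V) (f '' Vᶜ) := by
    intro V hV
    rw [Set.disjoint_left]
    rintro z ⟨t, ht, rfl⟩ ⟨t', ht', h⟩
    have hsub : f ⁻¹' {f t} ⊆ V :=
      (hfib (f t)).subset_isClopen hV ⟨t, rfl, ht⟩
    exact ht' (hsub h)
  have closed : ∀ V : Set T, IsClopen V → IsClosed (f '' V) := by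
    intro V hV
    have hAgen : StableUnderGeneralization (f '' V) :=
      hgen.stableUnderGeneralization_image hV.isOpen.stableUnderGeneralization
    have hBgen : StableUnderGeneralization (f '' Vᶜ) :=
      hgen.stableUnderGeneralization_image hV.compl.isOpen.stableUnderGeneralization
    have heq : f '' V = ⋃ g ∈ G ∩ (f '' V), closure {g} := by
      ext z
      simp only [Set.mem_iUnion, exists_prop]
      constructor
      · intro hz
        obtain ⟨g, hgG, hgz⟩ := hGen z
        exact ⟨g, ⟨hgG, hAgen hgz hz⟩, specializes_iff_mem_closure.mp hgz⟩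
      · rintro ⟨g, ⟨_, hgA⟩, hz⟩
        have hgz : g ⤳ z := specializes_iff_mem_closure.mpr hz
        obtain ⟨t, rfl⟩ := hsurj z
        by_cases ht : t ∈ V
        · exact ⟨t, ht, rfl⟩
        · exfalso
          have : g ∈ f '' Vᶜ := hBgen hgz ⟨t, ht, rfl⟩
          exact Set.disjoint_left.mp (disj V hV) hgA this
    rw [heq]
    exact (hG.subset Set.inter_subset_left).isClosed_biUnion (fun _ _ => isClosed_closure)
  have hA : IsClosed (f '' U) := closed U hU
  have hB : IsClosed (f '' Uᶜ) := closed Uᶜ hU.compl
  have hcompl : (f '' U)ᶜ = f '' Uᶜ := by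
    ext z
    constructor
    · intro hz
      obtain ⟨t, rfl⟩ := hsurj z
      exact ⟨t, fun ht => hz ⟨t, ht, rfl⟩, rfl⟩
    · intro hz hz'
      exact Set.disjoint_left.mp (disj U hU) hz' hz
  have hclopen : IsClopen (f '' U) := ⟨hA, by rw [← isClosed_compl_iff, hcompl]; exact hB⟩
  rcases isClopen_iff.mp hclopen with h | h
  · left
    rw [Set.image_eq_empty] at h
    exact h
  · right
    have : f '' Uᶜ = ∅ := by rw [← hcompl, h, Set.compl_univ]
    rw [Set.image_eq_empty, Set.compl_empty_iff] at this
    exact this

theorem main' {X W Zl : Scheme.{u}}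
    [IrreducibleSpace X] (π : W ⟶ X) [Flat π] [GeometricallyIrreducible π]
    (f : Zl ⟶ X) [IsFinite f] [Etale f] [ConnectedSpace Zl] :
    ConnectedSpace ↥(pullback f π) := by
  let p := pullback.fst f π
  haveI : Surjective p := inferInstance
  have hsurj : Function.Surjective p := p.surjective
  have hgen : GeneralizingMap p := Flat.generalizingMap p
  have hfib : ∀ z, _root_.IsPreconnected (p ⁻¹' {z}) := by
    intro z
    rw [← p.range_fiberι z, ← Set.image_univ]
    exact ((IrreducibleSpace.isIrreducible_univ _).image _
      (p.fiberι z).continuous.continuousOn).isPreirreducible.isPreconnected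
  have hG : (f ⁻¹' {genericPoint X}).Finite := f.finite_preimage_singleton _
  have hGen : ∀ z : Zl, ∃ g ∈ (f ⁻¹' {genericPoint X}), g ⤳ z := by
    intro z
    obtain ⟨g, hgz, hg⟩ := Flat.generalizingMap f (genericPoint_specializes (f z))
    exact ⟨g, hg, hgz⟩
  haveI : PreconnectedSpace ↥(pullback f π) :=
    top_core p hsurj hgen hfib _ hG hGen
  haveI : Nonempty ↥(pullback f π) := by
    obtain ⟨z⟩ := (inferInstance : Nonempty Zl)
    obtain ⟨t, _⟩ := hsurj z
    exact ⟨t⟩
  exact { toNonempty := inferInstance }

theorem main {X W : Scheme.{u}}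
    [IrreducibleSpace X] (π : W ⟶ X) [Flat π] [GeometricallyIrreducible π]
    (Z : FEt.Cat X) [ConnectedSpace Z.left] :
    ConnectedSpace ↥(pullback Z.hom π) := by
  haveI : IsFinite (Z.hom : Z.left ⟶ X) := Z.prop.1
  haveI : Etale (Z.hom : Z.left ⟶ X) := Z.prop.2
  haveI : ConnectedSpace ((𝟭 Scheme).obj Z.left) := ‹ConnectedSpace Z.left›
  exact main' π (Z.hom : Z.left ⟶ X)

end Aux

open AlgebraicGeometry CategoryTheory CategoryTheory.Limits in
/-- Let X be an irreducible scheme and π : W ⟶ X a flat morphism whose fibre over every field-valued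
point of X is irreducible (so every fibre is geometrically irreducible and π is surjective). Then
for every finite étale cover Z of X with Z connected, the base change of Z along π is connected.
Ranging over all finite étale covers of X, this says that the monodromy group of each cover (the
image of the fundamental group in the permutations of a geometric fibre) is unchanged by pullback
along π. The published statement asserts that equality of monodromy groups, for generically finite,
generically étale covers between irreducible algebraic stacks. -/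
theorem result {X W : Scheme.{u}}
    [IrreducibleSpace X] (π : W ⟶ X) [Flat π] [GeometricallyIrreducible π]
    (Z : FEt.Cat X) [ConnectedSpace Z.left] :
    ConnectedSpace ↥(pullback Z.hom π) := by
  exact Aux.main π Z

end Groth.Agent.S18402
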