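import Groth.Statements.S18410
import Mathlib
import Groth.Agent.Lib.Helper2.CubicForm
import Groth.Agent.Lib.Helper2.CubicEckardt
import Groth.Agent.Lib.Helper2.CubicEckardt2
import Groth.Agent.Lib.Helper2.CubicEckardt3
import Groth.Agent.Lib.Helper2.CubicEckardt4
import Groth.Agent.Lib.Helper2.CubicEckardt5
import Groth.Agent.Lib.Helper2.CubicPoly

set_option autoImplicit false
universe u
open Cubic

namespace Groth.Agent.S18410

open MvPolynomial in
/-- Let f be a nonzero homogeneous cubic in four variables over ℂ whose surface S = V_+(f) ⊂ P³ is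
smooth (at every nonzero zero of f some partial derivative is nonzero); a line on S is a
2-dimensional subspace of ℂ⁴ on which f vanishes, and an Eckardt point of S is a nonzero vector
lying on three distinct lines on S. Let e, e′ be non-proportional Eckardt points of S such that f
vanishes on their span (the line joining them lies on S), and let A, A′ be their Eckardt
involutions: an involutory matrix A (A² = 1) whose +1-eigenspace is a hyperplane and with A·e = −e,
such that the substitution X_i ↦ Σ_j A_ij X_j multiplies f by a constant — that is, a projective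
involution preserving S whose fixed locus is the disjoint union of a plane and the point of e, and
likewise A′ for e′. Then the two involutions commute as projective transformations (A·A′ is a scalar
multiple of A′·A) and each fixes the other point (A·e′ is proportional to e′ and A′·e to e). -/
theorem result (f : MvPolynomial (Fin 4) ℂ) (hf : f.IsHomogeneous 3)
    (hf0 : f ≠ 0) (hsm : ∀ v : Fin 4 → ℂ, v ≠ 0 → eval v f = 0 → ∃ i : Fin 4, eval v (pderiv i f) ≠ 0)
    (e e' : Fin 4 → ℂ) (he : e ≠ 0) (he' : e' ∉ Submodule.span ℂ {e})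
    (hE : (∃ U : Fin 3 → Submodule ℂ (Fin 4 → ℂ), Function.Injective U ∧
        ∀ i : Fin 3, Module.finrank ℂ ↥(U i) = 2 ∧ e ∈ U i ∧ ∀ u ∈ U i, eval u f = 0))
    (hE' : (∃ U : Fin 3 → Submodule ℂ (Fin 4 → ℂ), Function.Injective U ∧
        ∀ i : Fin 3, Module.finrank ℂ ↥(U i) = 2 ∧ e' ∈ U i ∧ ∀ u ∈ U i, eval u f = 0))
    (hL : ∀ u ∈ Submodule.span ℂ {e, e'}, eval u f = 0)
    (A A' : Matrix (Fin 4) (Fin 4) ℂ)
    (hA : A * A = 1 ∧ Module.finrank ℂ ↥(LinearMap.ker (Matrix.toLin' A - LinearMap.id)) = 3 ∧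
        A.mulVec e = -e ∧ ∃ c : ℂ, aeval (fun i : Fin 4 => ∑ j : Fin 4, C (A i j) * X j) f = C c * f)
    (hA' : A' * A' = 1 ∧ Module.finrank ℂ ↥(LinearMap.ker (Matrix.toLin' A' - LinearMap.id)) = 3 ∧
        A'.mulVec e' = -e' ∧ ∃ c : ℂ, aeval (fun i : Fin 4 => ∑ j : Fin 4, C (A' i j) * X j) f = C c * f) :
    (∃ c : ℂ, A * A' = c • (A' * A)) ∧ (∃ d : ℂ, A.mulVec e' = d • e') ∧ (∃ d : ℂ, A'.mulVec e = d • e) := by
  open Groth.Agent.Helper2.Cubic in
  have hV : Module.finrank ℂ (Fin 4 → ℂ) = 4 := by simp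
  have hs := Groth.Agent.Helper2.Cubic.symTriOf_smooth hf hsm
  have hE1 := (Groth.Agent.Helper2.Cubic.symTriOf_eckardt hf e).mpr hE
  have hE2 := (Groth.Agent.Helper2.Cubic.symTriOf_eckardt hf e').mpr hE'
  have hA1 := (Groth.Agent.Helper2.Cubic.symTriOf_isInv hf A e).mpr hA
  have hA2 := (Groth.Agent.Helper2.Cubic.symTriOf_isInv hf A' e').mpr hA'
  have hL' : ∀ u ∈ Submodule.span ℂ {e, e'}, (Groth.Agent.Helper2.Cubic.symTriOf f).q u = 0 := by
    intro u hu
    rw [Groth.Agent.Helper2.Cubic.symTriOf_q hf]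
    exact hL u hu
  obtain ⟨k1, k2, k3⟩ := Groth.Agent.Helper2.Cubic.SymTri.commuting_invs hV hs he he' hE1 hE2 hL' hA1 hA2
  refine ⟨⟨1, ?_⟩, ⟨1, ?_⟩, ⟨1, ?_⟩⟩
  · rw [one_smul]
    apply (Matrix.toLin' (R := ℂ)).injective
    rw [Matrix.toLin'_mul, Matrix.toLin'_mul]
    exact k1
  · rw [one_smul, ← Matrix.toLin'_apply]
    exact k2
  · rw [one_smul, ← Matrix.toLin'_apply]
    exact k3

end Groth.Agent.S18410
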