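import Groth.Statements.S18415
import Mathlib
import Groth.Agent.Lib.Helper5.Misc.EtSiteBasic
import Groth.Agent.Lib.Helper5.Misc.EtRootCover

set_option autoImplicit false
universe u
open CategoryTheory AlgebraicGeometry
open EtCoh

open Groth.Agent.Lib.Helper5 Opposite

namespace Groth.Agent.S18415

open Polynomial in
lemma poly_facts {R : Type*} [CommRing R] [Nontrivial R] (p : ℕ) (hp : p.Prime) (h0 : (p : R) = 0)
    (a : R) :
    ((X : R[X]) ^ p - (X + C a)).Monic ∧ ((X : R[X]) ^ p - (X + C a)).natDegree ≠ 0 ∧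
      derivative ((X : R[X]) ^ p - (X + C a)) * (-1) + ((X : R[X]) ^ p - (X + C a)) * 0 = 1 := by
  have hdeg : (X + C a : R[X]).degree < (p : WithBot ℕ) := by
    have h1 : (X + C a : R[X]).degree = 1 := degree_X_add_C a
    rw [h1]
    exact_mod_cast hp.one_lt
  refine ⟨monic_X_pow_sub hdeg, ?_, ?_⟩
  · have h2 : (X + C a : R[X]).natDegree < ((X : R[X]) ^ p).natDegree := by
      rw [natDegree_X_pow, natDegree_X_add_C]
      exact hp.one_lt
    rw [natDegree_sub_eq_left_of_natDegree_lt h2, natDegree_X_pow]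
    exact hp.ne_zero
  · simp only [derivative_sub, derivative_X_pow, derivative_add, derivative_X, derivative_C,
      add_zero, mul_zero]
    have : (C ((p : ℕ) : R) : R[X]) = 0 := by rw [h0, C_0]
    rw [this, zero_mul]
    ring

theorem main (p : ℕ) (hp : p.Prime) {X : Scheme.{u}} (h0 : (p : Γ(X, ⊤)) = 0) :
    Epi (W4c5etcohweilstudent.artinSchreierEndo X p hp h0) := by
  rw [← Sheaf.isLocallySurjective_iff_epi']
  refine ⟨fun {U} t => ?_⟩
  rw [EtSiteBasic.mem_smallEtale_iff]
  intro x
  haveI : Nontrivial Γ(U.left, ⊤) := by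
    refine ⟨⟨0, 1, fun h01 => ?_⟩⟩
    have h2 := congrArg (U.left.presheaf.germ ⊤ x trivial).hom h01
    rw [map_zero, map_one] at h2
    exact zero_ne_one h2
  let a : Γ(U.left, ⊤) := ULift.down t
  have h0U := W4c5etcohweilstudent.natCast_eq_zero_etale p h0 U
  obtain ⟨hm, hd, hc⟩ := poly_facts p hp h0U a
  obtain ⟨V', g, hg, v', τ, hv', hτ⟩ := EtRootCover.exists_etale_root U.left x _ hm hd _ _ hc
  haveI := hg
  haveI : Etale U.hom := U.prop
  let W : X.Etale := EtSiteBasic.ofEtale (g ≫ U.hom)
  let gW : W ⟶ U := MorphismProperty.Over.homMk g rfl trivial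
  have hτn : τ ^ p - τ = g.appTop.hom a := by
    simp only [Polynomial.map_sub, Polynomial.map_pow, Polynomial.map_X, Polynomial.map_C,
      Polynomial.map_add, Polynomial.eval_add,
      Polynomial.eval_sub, Polynomial.eval_pow, Polynomial.eval_X, Polynomial.eval_C] at hτ
    rw [sub_eq_iff_eq_add]
    rw [sub_eq_zero] at hτ
    rw [hτ]
    ring
  refine ⟨W, gW, v', ⟨ULift.up τ, ?_⟩, hv'⟩
  apply ULift.ext
  exact hτn

end Groth.Agent.S18415

namespace Groth.Agent.S18415

/-- Let p be a prime and X a scheme with p = 0 in Γ(X, O_X). Then the Artin–Schreier endomorphism x ↦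
x^p − x of the additive group sheaf G_a on the small étale site of X is an epimorphism of abelian
étale sheaves (the right-hand exactness of 0 → Z/p → G_a → G_a → 0 on X_et). (The published example
takes X a variety over a field of characteristic p; this row assumes only that p = 0 in Γ(X, O_X).) -/
theorem result
    (p : ℕ) (hp : p.Prime) {X : Scheme.{u}} (h0 : (p : Γ(X, ⊤)) = 0) :
    Epi (W4c5etcohweilstudent.artinSchreierEndo X p hp h0) := by
  exact main p hp h0

end Groth.Agent.S18415
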