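import Groth.Statements.S2099
import Mathlib
-- import your own Groth.Agent.* helpers here

set_option autoImplicit false
universe u
open CAlg

namespace Groth.Agent.S2099

open TensorProduct
namespace Aux

section NilNak

variable {R Q : Type*} [CommRing R] [CommRing Q] [Algebra R Q]

/-- nilpotent Nakayama for subalgebras: if `Q = Q' + m²` with `m` nilpotent then `Q' = Q`. -/
theorem subalgebra_eq_top_of_add_sq (Q' : Subalgebra R Q) (m : Ideal Q) (n : ℕ) (hm : m ^ n = ⊥)
    (h : ∀ q : Q, ∃ q' ∈ Q', q - q' ∈ m ^ 2) : Q' = ⊤ := by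
  have A : ∀ j : ℕ, 1 ≤ j → ∀ y ∈ m ^ j, ∃ q' ∈ Q', y - q' ∈ m ^ (j + 1) := by
    intro j hj
    induction j, hj using Nat.le_induction with
    | base =>
      intro y _
      exact h y
    | succ j hj ih =>
      intro y hy
      rw [pow_succ] at hy
      induction hy using Submodule.mul_induction_on' with
      | mem_mul_mem a ha b hb =>
        obtain ⟨a', ha', haa⟩ := ih a ha
        obtain ⟨b', hb', hbb⟩ := h b
        refine ⟨a' * b', Q'.mul_mem ha' hb', ?_⟩
        have ha'm : a' ∈ m ^ j := by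
          have : a' = a - (a - a') := by ring
          rw [this]
          exact Ideal.sub_mem _ ha (Ideal.pow_le_pow_right (Nat.le_succ j) haa)
        have e : a * b - a' * b' = (a - a') * b + a' * (b - b') := by ring
        rw [e]
        refine Ideal.add_mem _ ?_ ?_
        · have : (a - a') * b ∈ m ^ (j + 1) * m := Ideal.mul_mem_mul haa hb
          rwa [← pow_succ] at this
        · have : a' * (b - b') ∈ m ^ j * m ^ 2 := Ideal.mul_mem_mul ha'm hbb
          rwa [← pow_add] at this
      | add x _ y _ hx hy =>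
        obtain ⟨x', hx', hxx⟩ := hx
        obtain ⟨y', hy', hyy⟩ := hy
        refine ⟨x' + y', Q'.add_mem hx' hy', ?_⟩
        have e : x + y - (x' + y') = (x - x') + (y - y') := by ring
        rw [e]
        exact Ideal.add_mem _ hxx hyy
  have B : ∀ j : ℕ, 1 ≤ j → ∀ q : Q, ∃ q' ∈ Q', q - q' ∈ m ^ j := by
    intro j hj
    induction j, hj using Nat.le_induction with
    | base =>
      intro q
      obtain ⟨q', hq', hqq⟩ := h q
      exact ⟨q', hq', Ideal.pow_le_pow_right (by norm_num) hqq⟩
    | succ j hj ih =>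
      intro q
      obtain ⟨q', hq', hqq⟩ := ih q
      obtain ⟨q'', hq'', hqq'⟩ := A j hj _ hqq
      exact ⟨q' + q'', Q'.add_mem hq' hq'', by
        have e : q - (q' + q'') = q - q' - q'' := by ring
        rw [e]; exact hqq'⟩
  rw [_root_.eq_top_iff]
  intro q _
  rcases Nat.eq_zero_or_pos n with hn | hn
  · subst hn
    rw [pow_zero, Ideal.one_eq_top] at hm
    have : q = 0 := by
      have : q ∈ (⊤ : Ideal Q) := trivial
      rw [hm] at this
      exact this
    rw [this]; exact Q'.zero_mem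
  · obtain ⟨q', hq', hqq⟩ := B n hn q
    rw [hm, Ideal.mem_bot, sub_eq_zero] at hqq
    rw [hqq]; exact hq'

end NilNak

section Poly

variable {R : Type*} [CommRing R] {d : ℕ}

open MvPolynomial

theorem sub_C_mem (q : MvPolynomial (Fin d) R) :
    q - C (constantCoeff q) ∈ idealOfVars (Fin d) R := by
  induction q using MvPolynomial.induction_on with
  | C a => simp
  | add p q hp hq =>
    have e : p + q - C (constantCoeff (p + q)) =
        (p - C (constantCoeff p)) + (q - C (constantCoeff q)) := by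
      rw [map_add, map_add]; ring
    rw [e]
    exact Ideal.add_mem _ hp hq
  | mul_X p i _ =>
    have : constantCoeff (p * X i) = 0 := by simp
    rw [this, map_zero, sub_zero]
    exact Ideal.mul_mem_left _ _ (Ideal.subset_span ⟨i, rfl⟩)

theorem mem_idealOfVars_of_constantCoeff {q : MvPolynomial (Fin d) R}
    (h : constantCoeff q = 0) : q ∈ idealOfVars (Fin d) R := by
  have := sub_C_mem q
  rwa [h, map_zero, sub_zero] at this

theorem constantCoeff_of_mem {q : MvPolynomial (Fin d) R}
    (h : q ∈ idealOfVars (Fin d) R) : constantCoeff q = 0 := by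
  have : idealOfVars (Fin d) R ≤ RingHom.ker (constantCoeff : MvPolynomial (Fin d) R →+* R) := by
    rw [idealOfVars, Ideal.span_le]
    rintro _ ⟨i, rfl⟩
    simp
  exact this h

theorem exists_decomp (p : MvPolynomial (Fin d) R) :
    ∃ q : Fin d → MvPolynomial (Fin d) R, p = C (constantCoeff p) + ∑ i, q i * X i := by
  have := sub_C_mem p
  rw [idealOfVars, Ideal.mem_span_range_iff_exists_fun] at this
  obtain ⟨q, hq⟩ := this
  exact ⟨q, by rw [hq]; ring⟩

end Poly

section core

open MvPolynomial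

variable {R S : Type u} [CommRing R] [CommRing S] [Algebra R S] (σ : S →ₐ[R] R) (d : ℕ)
  (e : (RingHom.ker σ.toRingHom).Cotangent ≃ₗ[R] (Fin d → R))
  (x : Fin d → RingHom.ker σ.toRingHom)
  (hx : ∀ i, (RingHom.ker σ.toRingHom).toCotangent (x i) = e.symm (Pi.single i 1))

/-- the comparison map from the polynomial ring -/
noncomputable def av : MvPolynomial (Fin d) R →ₐ[R] S := aeval (fun i => ((x i : S)))

theorem sigma_av (p : MvPolynomial (Fin d) R) : σ (av σ d x p) = constantCoeff p := by
  induction p using MvPolynomial.induction_on with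
  | C a => simp [av]
  | add p q hp hq => rw [map_add, map_add, map_add, hp, hq]
  | mul_X p i _ =>
    have h0 : σ (x i : S) = 0 := (x i).2
    rw [map_mul, map_mul]
    simp [av, h0]

theorem av_mem_of_mem {p : MvPolynomial (Fin d) R} (hp : p ∈ idealOfVars (Fin d) R) :
    av σ d x p ∈ RingHom.ker σ.toRingHom := by
  change σ (av σ d x p) = 0
  rw [sigma_av, constantCoeff_of_mem hp]

theorem pow_le_comap (n : ℕ) :
    idealOfVars (Fin d) R ^ n ≤ (RingHom.ker σ.toRingHom ^ n).comap (av σ d x) := by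
  have h1 : idealOfVars (Fin d) R ≤ (RingHom.ker σ.toRingHom).comap (av σ d x) :=
    fun p hp => av_mem_of_mem σ d x hp
  exact (Ideal.pow_right_mono h1 n).trans (Ideal.le_comap_pow _ n)

theorem av_sub_mem (p : MvPolynomial (Fin d) R) :
    av σ d x p - algebraMap R S (constantCoeff p) ∈ RingHom.ker σ.toRingHom := by
  change σ (av σ d x p - algebraMap R S (constantCoeff p)) = 0
  rw [map_sub, sigma_av, AlgHom.commutes, Algebra.algebraMap_self_apply, sub_self]

include hx in
/-- key injectivity input: the linear parts are independent modulo `I²`. -/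
theorem mem_sq_of_av_mem_sq (p : MvPolynomial (Fin d) R)
    (hp : av σ d x p ∈ RingHom.ker σ.toRingHom ^ 2) : p ∈ idealOfVars (Fin d) R ^ 2 := by
  obtain ⟨q, hq⟩ := exists_decomp p
  have h0 : constantCoeff p = 0 := by
    rw [← sigma_av σ d x]
    exact Ideal.pow_le_self (by norm_num) hp
  rw [h0, map_zero, zero_add] at hq
  -- the linear coefficients
  set c : Fin d → R := fun i => constantCoeff (q i) with hc
  have h1 : av σ d x p = ∑ i, av σ d x (q i) * (x i : S) := by
    conv_lhs => rw [hq]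
    rw [map_sum]
    refine Finset.sum_congr rfl fun i _ => ?_
    rw [map_mul]
    simp [av]
  have h2 : (∑ i, c i • (x i : S)) ∈ RingHom.ker σ.toRingHom ^ 2 := by
    have h3 : (∑ i, c i • (x i : S)) =
        av σ d x p - ∑ i, (av σ d x (q i) - algebraMap R S (c i)) * (x i : S) := by
      rw [h1, ← Finset.sum_sub_distrib]
      refine Finset.sum_congr rfl fun i _ => ?_
      rw [Algebra.smul_def]; ring
    rw [h3]
    refine Ideal.sub_mem _ hp (Ideal.sum_mem _ fun i _ => ?_)
    rw [pow_two]
    exact Ideal.mul_mem_mul (av_sub_mem σ d x (q i)) (x i).2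
  have h4 : (RingHom.ker σ.toRingHom).toCotangent (∑ i, c i • x i) = 0 := by
    rw [Ideal.toCotangent_eq_zero]
    have h5 : ((∑ i, c i • x i : RingHom.ker σ.toRingHom) : S) = ∑ i, c i • (x i : S) := by
      rw [Submodule.coe_sum]
      rfl
    rw [h5]
    exact h2
  rw [map_sum] at h4
  simp only [LinearMap.map_smul_of_tower, hx] at h4
  simp only [← map_smul, ← map_sum] at h4
  rw [EmbeddingLike.map_eq_zero_iff] at h4
  have h6 : ∀ j, c j = 0 := by
    intro j
    have := congrFun h4 j
    simpa [Finset.sum_apply, Pi.single_apply] using this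
  rw [hq]
  refine Ideal.sum_mem _ fun i _ => ?_
  rw [pow_two]
  exact Ideal.mul_mem_mul (mem_idealOfVars_of_constantCoeff (h6 i)) (Ideal.subset_span ⟨i, rfl⟩)

include hx in
/-- key surjectivity input: every element is a polynomial in the `x i` modulo `I²`. -/
theorem exists_av_sub_mem_sq (s : S) :
    ∃ p : MvPolynomial (Fin d) R, s - av σ d x p ∈ RingHom.ker σ.toRingHom ^ 2 := by
  have hy : s - algebraMap R S (σ s) ∈ RingHom.ker σ.toRingHom := by
    change σ (s - algebraMap R S (σ s)) = 0
    rw [map_sub, AlgHom.commutes, Algebra.algebraMap_self_apply, sub_self]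
  set y : RingHom.ker σ.toRingHom := ⟨_, hy⟩ with hyd
  set c : Fin d → R := e ((RingHom.ker σ.toRingHom).toCotangent y) with hc
  have h1 : (RingHom.ker σ.toRingHom).toCotangent y =
      (RingHom.ker σ.toRingHom).toCotangent (∑ i, c i • x i) := by
    rw [map_sum]
    simp only [LinearMap.map_smul_of_tower, hx]
    simp only [← map_smul, ← map_sum]
    have h2 : (∑ i, c i • (Pi.single i (1 : R) : Fin d → R)) = c := by
      ext j
      simp [Finset.sum_apply, Pi.single_apply]
    rw [h2, hc, LinearEquiv.symm_apply_apply]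
  rw [Ideal.toCotangent_eq] at h1
  refine ⟨C (σ s) + ∑ i, C (c i) * X i, ?_⟩
  have h3 : av σ d x (C (σ s) + ∑ i, C (c i) * X i) =
      algebraMap R S (σ s) + ∑ i, c i • (x i : S) := by
    rw [map_add, map_sum]
    congr 1
    · simp [av]
    · refine Finset.sum_congr rfl fun i _ => ?_
      rw [map_mul, Algebra.smul_def]
      simp [av]
  have h5 : ((∑ i, c i • x i : RingHom.ker σ.toRingHom) : S) = ∑ i, c i • (x i : S) := by
    rw [Submodule.coe_sum]
    rfl
  rw [h3]
  have e1 : s - (algebraMap R S (σ s) + ∑ i, c i • (x i : S)) =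
      (y : S) - ((∑ i, c i • x i : RingHom.ker σ.toRingHom) : S) := by
    rw [h5, hyd]; ring
  rw [e1]
  exact h1

/-- comparison maps on truncations -/
noncomputable def psi (n : ℕ) :
    (MvPolynomial (Fin d) R ⧸ idealOfVars (Fin d) R ^ n) →ₐ[R]
      (S ⧸ RingHom.ker σ.toRingHom ^ n) :=
  Ideal.quotientMapₐ _ (av σ d x) (pow_le_comap σ d x n)

theorem psi_mk (n : ℕ) (p : MvPolynomial (Fin d) R) :
    psi σ d x n (Ideal.Quotient.mk _ p) = Ideal.Quotient.mk _ (av σ d x p) := rfl

theorem map_pow_eq_bot {A : Type*} [CommRing A] (K : Ideal A) (n : ℕ) :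
    (K.map (Ideal.Quotient.mk (K ^ n))) ^ n = ⊥ := by
  rw [← Ideal.map_pow, Ideal.map_quotient_self]

include hx in
theorem psi_surjective (n : ℕ) : Function.Surjective (psi σ d x n) := by
  have : (psi σ d x n).range = ⊤ := by
    apply subalgebra_eq_top_of_add_sq _
      ((RingHom.ker σ.toRingHom).map (Ideal.Quotient.mk (RingHom.ker σ.toRingHom ^ n))) n
      (map_pow_eq_bot _ n)
    intro q
    obtain ⟨s, rfl⟩ := Ideal.Quotient.mk_surjective q
    obtain ⟨p, hp⟩ := exists_av_sub_mem_sq σ d e x hx s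
    refine ⟨psi σ d x n (Ideal.Quotient.mk _ p), ⟨_, rfl⟩, ?_⟩
    rw [psi_mk, ← map_sub, ← Ideal.map_pow]
    exact Ideal.mem_map_of_mem _ hp
  intro q
  have hq : q ∈ (psi σ d x n).range := by rw [this]; trivial
  exact hq

include hx in
theorem ker_psi_le (n : ℕ) (hn : 1 ≤ n)
    (q : MvPolynomial (Fin d) R ⧸ idealOfVars (Fin d) R ^ n) (hq : psi σ d x n q = 0) :
    q ∈ ((idealOfVars (Fin d) R).map (Ideal.Quotient.mk (idealOfVars (Fin d) R ^ n))) ^ 2 := by
  obtain ⟨p, rfl⟩ := Ideal.Quotient.mk_surjective q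
  rw [psi_mk, Ideal.Quotient.eq_zero_iff_mem] at hq
  rcases Nat.lt_or_ge n 2 with h2 | h2
  · have h1 : n = 1 := by omega
    subst h1
    rw [pow_one] at hq
    have hp : p ∈ idealOfVars (Fin d) R ^ 1 := by
      rw [pow_one]
      apply mem_idealOfVars_of_constantCoeff
      rw [← sigma_av σ d x]
      exact hq
    rw [Ideal.Quotient.eq_zero_iff_mem.2 hp]
    exact Ideal.zero_mem _
  · have hp := mem_sq_of_av_mem_sq σ d e x hx p (Ideal.pow_le_pow_right h2 hq)
    rw [← Ideal.map_pow]
    exact Ideal.mem_map_of_mem _ hp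

include hx in
theorem psi_injective [Algebra.FormallySmooth R S] (n : ℕ) :
    Function.Injective (psi σ d x n) := by
  rcases Nat.eq_zero_or_pos n with hn | hn
  · subst hn
    have : Subsingleton (MvPolynomial (Fin d) R ⧸ idealOfVars (Fin d) R ^ 0) := by
      rw [pow_zero, Ideal.one_eq_top]
      exact Ideal.Quotient.subsingleton_iff.2 rfl
    exact Function.injective_of_subsingleton _
  have hsurj := psi_surjective σ d e x hx n
  have hker := ker_psi_le σ d e x hx n hn
  have hnil : IsNilpotent (RingHom.ker ((psi σ d x n :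
      (MvPolynomial (Fin d) R ⧸ idealOfVars (Fin d) R ^ n) →ₐ[R] _) :
      (MvPolynomial (Fin d) R ⧸ idealOfVars (Fin d) R ^ n) →+*
        (S ⧸ RingHom.ker σ.toRingHom ^ n))) := by
    refine ⟨n, ?_⟩
    rw [Ideal.zero_eq_bot, ← le_bot_iff, ← map_pow_eq_bot (idealOfVars (Fin d) R) n]
    apply Ideal.pow_right_mono
    intro q hq
    exact Ideal.pow_le_self two_ne_zero (hker q hq)
  let θ : S →ₐ[R] (MvPolynomial (Fin d) R ⧸ idealOfVars (Fin d) R ^ n) :=
    Algebra.FormallySmooth.liftOfSurjective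
      (Ideal.Quotient.mkₐ R (RingHom.ker σ.toRingHom ^ n)) (psi σ d x n) hsurj hnil
  have hθ : ∀ s, psi σ d x n (θ s) = Ideal.Quotient.mk _ s := fun s =>
    congr($(Algebra.FormallySmooth.comp_liftOfSurjective
      (Ideal.Quotient.mkₐ R (RingHom.ker σ.toRingHom ^ n)) (psi σ d x n) hsurj hnil) s)
  have hθI : ∀ s ∈ RingHom.ker σ.toRingHom,
      θ s ∈ (idealOfVars (Fin d) R).map (Ideal.Quotient.mk (idealOfVars (Fin d) R ^ n)) := by
    intro s hs
    obtain ⟨p, hp⟩ := Ideal.Quotient.mk_surjective (θ s)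
    have h1 : Ideal.Quotient.mk (RingHom.ker σ.toRingHom ^ n) (av σ d x p) =
        Ideal.Quotient.mk _ s := by rw [← psi_mk, hp, hθ]
    have h2 : av σ d x p - s ∈ RingHom.ker σ.toRingHom ^ n := Ideal.Quotient.eq.1 h1
    have h3 : av σ d x p ∈ RingHom.ker σ.toRingHom := by
      have := Ideal.add_mem _ (Ideal.pow_le_self hn.ne' h2) hs
      simpa using this
    have h4 : constantCoeff p = 0 := by rw [← sigma_av σ d x]; exact h3
    rw [← hp]
    exact Ideal.mem_map_of_mem _ (mem_idealOfVars_of_constantCoeff h4)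
  have hθIn : ∀ s ∈ RingHom.ker σ.toRingHom ^ n, θ s = 0 := by
    intro s hs
    have h1 : θ s ∈ (Ideal.map θ (RingHom.ker σ.toRingHom)) ^ n := by
      rw [← Ideal.map_pow]; exact Ideal.mem_map_of_mem _ hs
    have h2 : Ideal.map θ (RingHom.ker σ.toRingHom) ≤
        (idealOfVars (Fin d) R).map (Ideal.Quotient.mk (idealOfVars (Fin d) R ^ n)) :=
      Ideal.map_le_iff_le_comap.2 hθI
    have h3 := Ideal.pow_right_mono h2 n h1
    rwa [map_pow_eq_bot] at h3
  have hτ : (θ.comp (av σ d x)).range = ⊤ := by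
    apply subalgebra_eq_top_of_add_sq _
      ((idealOfVars (Fin d) R).map (Ideal.Quotient.mk (idealOfVars (Fin d) R ^ n))) n
      (map_pow_eq_bot _ n)
    intro q
    obtain ⟨p, rfl⟩ := Ideal.Quotient.mk_surjective q
    refine ⟨θ (av σ d x p), ⟨p, rfl⟩, ?_⟩
    apply hker
    rw [map_sub, psi_mk, hθ, sub_self]
  rw [injective_iff_map_eq_zero]
  intro q hq
  have hq' : q ∈ (θ.comp (av σ d x)).range := by rw [hτ]; trivial
  obtain ⟨p, rfl⟩ := hq'
  have h1 : Ideal.Quotient.mk (RingHom.ker σ.toRingHom ^ n) (av σ d x p) = 0 := by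
    rw [← hθ]; exact hq
  exact hθIn _ (Ideal.Quotient.eq_zero_iff_mem.1 h1)

end core

section Compl

variable {R A B : Type*} [CommRing R] [CommRing A] [CommRing B] [Algebra R A] [Algebra R B]

theorem factor_evalₐ (I : Ideal A) {m n : ℕ} (h : m ≤ n) (x : AdicCompletion I A) :
    Ideal.Quotient.factorₐ R (Ideal.pow_le_pow_right h) (AdicCompletion.evalₐ I n x) =
      AdicCompletion.evalₐ I m x := by
  obtain ⟨s, rfl⟩ := AdicCompletion.mk_surjective I A x
  rw [AdicCompletion.evalₐ_mk, AdicCompletion.evalₐ_mk]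
  exact AdicCompletion.Ideal.mk_eq_mk I h s

/-- compatible isomorphisms of truncations induce an isomorphism of completions -/
theorem nonempty_adicCompletion_equiv (I : Ideal A) (J : Ideal B)
    (ψ : (n : ℕ) → (A ⧸ I ^ n) ≃ₐ[R] (B ⧸ J ^ n))
    (hψ : ∀ {m n : ℕ} (h : m ≤ n) (q : A ⧸ I ^ n),
      ψ m (Ideal.Quotient.factorₐ R (Ideal.pow_le_pow_right h) q) =
        Ideal.Quotient.factorₐ R (Ideal.pow_le_pow_right h) (ψ n q)) :
    Nonempty (AdicCompletion I A ≃ₐ[R] AdicCompletion J B) := by
  have hψ' : ∀ {m n : ℕ} (h : m ≤ n) (q : B ⧸ J ^ n),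
      (ψ m).symm (Ideal.Quotient.factorₐ R (Ideal.pow_le_pow_right h) q) =
        Ideal.Quotient.factorₐ R (Ideal.pow_le_pow_right h) ((ψ n).symm q) := by
    intro m n h q
    rw [AlgEquiv.symm_apply_eq, hψ h, AlgEquiv.apply_symm_apply]
  let F : AdicCompletion I A →ₐ[R] AdicCompletion J B :=
    AdicCompletion.liftAlgHom J
      (fun n => (ψ n : (A ⧸ I ^ n) →ₐ[R] (B ⧸ J ^ n)).comp
        ((AdicCompletion.evalₐ I n).restrictScalars R))
      (fun {m n} h => by
        refine AlgHom.ext fun x => ?_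
        change Ideal.Quotient.factorₐ R (Ideal.pow_le_pow_right h)
          (ψ n (AdicCompletion.evalₐ I n x)) = ψ m (AdicCompletion.evalₐ I m x)
        rw [← hψ h, factor_evalₐ I h])
  let G : AdicCompletion J B →ₐ[R] AdicCompletion I A :=
    AdicCompletion.liftAlgHom I
      (fun n => ((ψ n).symm : (B ⧸ J ^ n) →ₐ[R] (A ⧸ I ^ n)).comp
        ((AdicCompletion.evalₐ J n).restrictScalars R))
      (fun {m n} h => by
        refine AlgHom.ext fun x => ?_
        change Ideal.Quotient.factorₐ R (Ideal.pow_le_pow_right h)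
          ((ψ n).symm (AdicCompletion.evalₐ J n x)) = (ψ m).symm (AdicCompletion.evalₐ J m x)
        rw [← hψ' h, factor_evalₐ J h])
  refine ⟨AlgEquiv.ofAlgHom F G ?_ ?_⟩
  · refine AlgHom.ext fun y => ?_
    apply AdicCompletion.ext_evalₐ
    intro n
    simp [F, G]
  · refine AlgHom.ext fun y => ?_
    apply AdicCompletion.ext_evalₐ
    intro n
    simp [F, G]

end Compl

theorem main {R S : Type u} [CommRing R] [CommRing S] [Algebra R S]
    [Algebra.Smooth R S] (σ : S →ₐ[R] R) (d : ℕ)
    (e : (RingHom.ker σ.toRingHom).Cotangent ≃ₗ[R] (Fin d → R)) :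
    Nonempty (AdicCompletion (RingHom.ker σ.toRingHom) S ≃ₐ[R] MvPowerSeries (Fin d) R) := by
  have : Algebra.FormallySmooth R S := Algebra.Smooth.formallySmooth
  choose x hx using fun i => Ideal.toCotangent_surjective _ (e.symm (Pi.single i 1))
  let ψ : (n : ℕ) → (MvPolynomial (Fin d) R ⧸ MvPolynomial.idealOfVars (Fin d) R ^ n) ≃ₐ[R]
      (S ⧸ RingHom.ker σ.toRingHom ^ n) := fun n =>
    AlgEquiv.ofBijective (psi σ d x n)
      ⟨psi_injective σ d e x hx n, psi_surjective σ d e x hx n⟩
  obtain ⟨E⟩ := nonempty_adicCompletion_equiv (R := R) (MvPolynomial.idealOfVars (Fin d) R)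
    (RingHom.ker σ.toRingHom) ψ (by
      intro m n h q
      obtain ⟨p, rfl⟩ := Ideal.Quotient.mk_surjective q
      rfl)
  exact ⟨E.symm.trans
    ((MvPowerSeries.toAdicCompletionAlgEquiv (Fin d) R).symm.restrictScalars R)⟩

end Aux

/-- Let `R → S` be smooth with an `R`-algebra retraction `σ : S → R` and `I = ker σ`. If `I/I²` is free
of rank `d` over `R`, then the `I`-adic completion of `S` is isomorphic as an `R`-algebra to the
power series ring in `d` variables over `R`. -/
theorem result {R S : Type u} [CommRing R] [CommRing S] [Algebra R S]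
    [Algebra.Smooth R S] (σ : S →ₐ[R] R) (d : ℕ)
    (e : (RingHom.ker σ.toRingHom).Cotangent ≃ₗ[R] (Fin d → R)) :
    Nonempty (AdicCompletion (RingHom.ker σ.toRingHom) S ≃ₐ[R] MvPowerSeries (Fin d) R) := by
  exact Aux.main σ d e

end Groth.Agent.S2099
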