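import Groth.Statements.S18417
import Mathlib
import Groth.Agent.S2099
import Groth.Agent.Lib.Helper1.QuasiReg
-- import your own Groth.Agent.* helpers here

set_option autoImplicit false
universe u v
open CAlg

namespace Groth.Agent.S18417

namespace Aux
open MvPolynomial Groth.Agent.Helper1.QuasiReg

section core
variable {R : Type u} {A : Type v} [CommRing R] [CommRing A] [Algebra R A] {d : ℕ} (x : Fin d → A)
  (N : ℕ) (hN : 1 ≤ N)

local notation "J" => Ideal.span (Set.range x)
local notation "B" => A ⧸ Ideal.span (Set.range x)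
local notation "Q" => A ⧸ Ideal.span (Set.range x) ^ N

/-- the projection `A/J^N → A/J` -/
noncomputable def fac : (A ⧸ Ideal.span (Set.range x) ^ N) →ₐ[R] (A ⧸ Ideal.span (Set.range x)) :=
  Ideal.Quotient.factorₐ R (Ideal.pow_le_self (Nat.one_le_iff_ne_zero.mp hN))

lemma fac_mk (a : A) : fac (R := R) x N hN (Ideal.Quotient.mk _ a) = Ideal.Quotient.mk _ a := rfl

lemma fac_surjective : Function.Surjective (fac (R := R) x N hN) := by
  intro b
  obtain ⟨a, rfl⟩ := Ideal.Quotient.mk_surjective b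
  exact ⟨Ideal.Quotient.mk _ a, rfl⟩

/-- kernel of `fac` -/
lemma ker_fac : RingHom.ker (fac (R := R) x N hN : Q →+* B) =
    (Ideal.span (Set.range x)).map (Ideal.Quotient.mk (Ideal.span (Set.range x) ^ N)) := by
  ext q
  obtain ⟨a, rfl⟩ := Ideal.Quotient.mk_surjective q
  rw [RingHom.mem_ker]
  change fac (R := R) x N hN (Ideal.Quotient.mk _ a) = 0 ↔ _
  rw [fac_mk, Ideal.Quotient.eq_zero_iff_mem]
  constructor
  · intro h; exact Ideal.mem_map_of_mem _ h
  · intro h
    rw [Ideal.mem_map_iff_of_surjective _ Ideal.Quotient.mk_surjective] at h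
    obtain ⟨a', ha', haa⟩ := h
    rw [Ideal.Quotient.eq] at haa
    have : a = a' - (a' - a) := by ring
    rw [this]
    exact Ideal.sub_mem _ ha' (Ideal.pow_le_self (Nat.one_le_iff_ne_zero.mp hN) haa)

lemma ker_fac_pow : (RingHom.ker (fac (R := R) x N hN : Q →+* B)) ^ N = ⊥ := by
  rw [ker_fac, ← Ideal.map_pow, Ideal.map_quotient_self]

variable (σ : (A ⧸ Ideal.span (Set.range x)) →ₐ[R] (A ⧸ Ideal.span (Set.range x) ^ N))
  (hσ : (fac (R := R) x N hN).comp σ = AlgHom.id R _)

/-- the comparison map -/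
noncomputable def psi0 : MvPolynomial (Fin d) (A ⧸ Ideal.span (Set.range x)) →ₐ[R]
    (A ⧸ Ideal.span (Set.range x) ^ N) :=
  aevalTower σ (fun i => Ideal.Quotient.mk _ (x i))

include hσ in
lemma fac_psi0 (p : MvPolynomial (Fin d) (A ⧸ Ideal.span (Set.range x))) :
    fac (R := R) x N hN (psi0 x N σ p) = constantCoeff p := by
  have h : ((fac (R := R) x N hN).toRingHom.comp (psi0 x N σ).toRingHom) = constantCoeff := by
    apply MvPolynomial.ringHom_ext
    · intro b
      simp only [RingHom.comp_apply, AlgHom.toRingHom_eq_coe, RingHom.coe_coe, psi0, aevalTower_C,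
        constantCoeff_C]
      exact AlgHom.congr_fun hσ b
    · intro i
      simp only [RingHom.comp_apply, AlgHom.toRingHom_eq_coe, RingHom.coe_coe, psi0, aevalTower_X,
        constantCoeff_X]
      rw [fac_mk, Ideal.Quotient.eq_zero_iff_mem]
      exact Ideal.subset_span ⟨i, rfl⟩
  exact RingHom.congr_fun h p

include hσ in
lemma sigma_sub_mem (a : A) :
    σ (Ideal.Quotient.mk _ a) - Ideal.Quotient.mk _ a ∈
      RingHom.ker (fac (R := R) x N hN : Q →+* B) := by
  rw [RingHom.mem_ker, map_sub]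
  have := AlgHom.congr_fun hσ (Ideal.Quotient.mk _ a)
  simp only [AlgHom.comp_apply, AlgHom.id_apply] at this
  change fac (R := R) x N hN _ - fac (R := R) x N hN _ = 0
  rw [this, fac_mk, sub_self]

end core

/-- the kernel of `fac` -/
noncomputable abbrev Kid (R : Type u) {A : Type v} [CommRing R] [CommRing A] [Algebra R A] {d : ℕ}
    (x : Fin d → A) (N : ℕ) (hN : 1 ≤ N) : Ideal (A ⧸ Ideal.span (Set.range x) ^ N) :=
  RingHom.ker (fac (R := R) x N hN :
    (A ⧸ Ideal.span (Set.range x) ^ N) →+* (A ⧸ Ideal.span (Set.range x)))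

section core2
variable {R : Type u} {A : Type v} [CommRing R] [CommRing A] [Algebra R A] {d : ℕ} (x : Fin d → A)
  (N : ℕ) (hN : 1 ≤ N)
  (σ : (A ⧸ Ideal.span (Set.range x)) →ₐ[R] (A ⧸ Ideal.span (Set.range x) ^ N))
  (hσ : (fac (R := R) x N hN).comp σ = AlgHom.id R _)


include hσ in
lemma psi0_mem_pow {n : ℕ} {p : MvPolynomial (Fin d) (A ⧸ Ideal.span (Set.range x))}
    (hp : p ∈ idealOfVars (Fin d) (A ⧸ Ideal.span (Set.range x)) ^ n) :
    psi0 x N σ p ∈ Kid R x N hN ^ n := by
  have h1 : (idealOfVars (Fin d) (A ⧸ Ideal.span (Set.range x))).map (psi0 x N σ).toRingHom ≤ Kid R x N hN := by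
    rw [Ideal.map_le_iff_le_comap]
    intro q hq
    rw [Ideal.mem_comap, RingHom.mem_ker]
    change fac (R := R) x N hN (psi0 x N σ q) = 0
    rw [fac_psi0 x N hN σ hσ]
    exact Groth.Agent.S2099.Aux.constantCoeff_of_mem hq
  have h2 : psi0 x N σ p ∈ (idealOfVars (Fin d) (A ⧸ Ideal.span (Set.range x)) ^ n).map
      (psi0 x N σ).toRingHom := Ideal.mem_map_of_mem _ hp
  rw [Ideal.map_pow] at h2
  exact Ideal.pow_right_mono h1 n h2

include hσ in
lemma sub_sigma_fac_mem (q : A ⧸ Ideal.span (Set.range x) ^ N) :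
    q - σ (fac (R := R) x N hN q) ∈ Kid R x N hN := by
  rw [RingHom.mem_ker, map_sub]
  have := AlgHom.congr_fun hσ (fac (R := R) x N hN q)
  simp only [AlgHom.comp_apply, AlgHom.id_apply] at this
  change fac (R := R) x N hN q - fac (R := R) x N hN (σ _) = 0
  rw [this, sub_self]

include hσ in
lemma psi0_surjective : Function.Surjective (psi0 x N σ) := by
  have key := Groth.Agent.S2099.Aux.subalgebra_eq_top_of_add_sq (R := R) (psi0 x N σ).range (Kid R x N hN) N
    (ker_fac_pow x N hN) ?_
  · intro q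
    have : q ∈ (psi0 x N σ).range := key ▸ Algebra.mem_top
    exact this
  · intro q
    have h1 := sub_sigma_fac_mem x N hN σ hσ q
    rw [show Kid R x N hN = _ from ker_fac x N hN, Ideal.map_span, ← Set.range_comp,
      Ideal.mem_span_range_iff_exists_fun] at h1
    obtain ⟨c, hc⟩ := h1
    refine ⟨psi0 x N σ (C (fac (R := R) x N hN q) + ∑ i, C (fac (R := R) x N hN (c i)) * X i),
      ⟨_, rfl⟩, ?_⟩
    have e : q - psi0 x N σ (C (fac (R := R) x N hN q) + ∑ i, C (fac (R := R) x N hN (c i)) * X i)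
        = ∑ i, (c i - σ (fac (R := R) x N hN (c i))) * Ideal.Quotient.mk _ (x i) := by
      simp only [map_add, map_sum, map_mul, psi0, aevalTower_C, aevalTower_X]
      simp only [sub_mul, Finset.sum_sub_distrib]
      rw [show (∑ i, c i * (Ideal.Quotient.mk (Ideal.span (Set.range x) ^ N)) (x i)) =
        q - σ (fac (R := R) x N hN q) from hc]
      ring
    rw [e, pow_two]
    refine Ideal.sum_mem _ fun i _ => Ideal.mul_mem_mul (sub_sigma_fac_mem x N hN σ hσ (c i)) ?_
    rw [show Kid R x N hN = _ from ker_fac x N hN]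
    exact Ideal.mem_map_of_mem _ (Ideal.subset_span ⟨i, rfl⟩)

end core2

section core3
variable {R : Type u} {A : Type v} [CommRing R] [CommRing A] [Algebra R A] {d : ℕ} (x : Fin d → A)
  (N : ℕ) (hN : 1 ≤ N)
  (σ : (A ⧸ Ideal.span (Set.range x)) →ₐ[R] (A ⧸ Ideal.span (Set.range x) ^ N))
  (hσ : (fac (R := R) x N hN).comp σ = AlgHom.id R _)

lemma Kid_pow (n : ℕ) : Kid R x N hN ^ n =
    (Ideal.span (Set.range x) ^ n).map (Ideal.Quotient.mk (Ideal.span (Set.range x) ^ N)) := by
  rw [show Kid R x N hN = _ from ker_fac x N hN, Ideal.map_pow]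

include hσ in
/-- comparison of the two evaluations on a homogeneous polynomial -/
lemma cmp_mem {n : ℕ} (H : MvPolynomial (Fin d) A) (hH : H.IsHomogeneous n) :
    Ideal.Quotient.mk (Ideal.span (Set.range x) ^ N) (eval x H) -
      psi0 x N σ (map (Ideal.Quotient.mk (Ideal.span (Set.range x))) H) ∈ Kid R x N hN ^ (n + 1) := by
  classical
  rw [H.as_sum]
  simp only [map_sum, ← Finset.sum_sub_distrib]
  refine Ideal.sum_mem _ fun α hα => ?_
  have hdeg : ∑ i, α i = n := by
    have := hH (mem_support_iff.mp hα)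
    rw [← Finsupp.degree_eq_sum, Finsupp.degree_eq_weight_one]
    exact this
  have e : Ideal.Quotient.mk (Ideal.span (Set.range x) ^ N) (eval x (monomial α (coeff α H))) -
      psi0 x N σ (map (Ideal.Quotient.mk (Ideal.span (Set.range x))) (monomial α (coeff α H))) =
      (Ideal.Quotient.mk _ (coeff α H) - σ (Ideal.Quotient.mk _ (coeff α H))) *
        Ideal.Quotient.mk (Ideal.span (Set.range x) ^ N) (∏ i, x i ^ α i) := by
    rw [eval_monomial, map_monomial, monomial_eq, Finsupp.prod_fintype _ _ (fun i => pow_zero _),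
      Finsupp.prod_fintype _ _ (fun i => pow_zero _)]
    simp only [map_mul, map_prod, map_pow, psi0, aevalTower_C, aevalTower_X]
    ring
  rw [e, pow_succ']
  refine Ideal.mul_mem_mul ?_ ?_
  · have := sigma_sub_mem x N hN σ hσ (coeff α H)
    rw [← Ideal.neg_mem_iff] at this
    convert this using 1
    ring
  · rw [Kid_pow, ← hdeg]
    exact Ideal.mem_map_of_mem _ (prod_pow_mem x α)

include hσ in
lemma mem_pow_succ (hreg : RingTheory.Sequence.IsWeaklyRegular A (List.ofFn x)) {n : ℕ} (hn : n < N)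
    {p : MvPolynomial (Fin d) (A ⧸ Ideal.span (Set.range x))}
    (hp : p ∈ idealOfVars (Fin d) (A ⧸ Ideal.span (Set.range x)) ^ n)
    (hpsi : psi0 x N σ p ∈ Kid R x N hN ^ (n + 1)) :
    p ∈ idealOfVars (Fin d) (A ⧸ Ideal.span (Set.range x)) ^ (n + 1) := by
  classical
  set h := homogeneousComponent n p with hh
  have hph : p - h ∈ idealOfVars (Fin d) (A ⧸ Ideal.span (Set.range x)) ^ (n + 1) := by
    rw [mem_pow_idealOfVars_iff']
    intro α hα
    rw [coeff_sub, hh, coeff_homogeneousComponent]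
    rw [mem_pow_idealOfVars_iff'] at hp
    by_cases hαn : α.degree = n
    · rw [if_pos hαn, sub_self]
    · rw [if_neg hαn, sub_zero]; exact hp α (by omega)
  have hpsih : psi0 x N σ h ∈ Kid R x N hN ^ (n + 1) := by
    have : h = p - (p - h) := by ring
    rw [this, map_sub]
    exact Ideal.sub_mem _ hpsi (psi0_mem_pow x N hN σ hσ hph)
  obtain ⟨H, hH, hmap⟩ := exists_homogeneous_lift (Ideal.Quotient.mk (Ideal.span (Set.range x)))
    Ideal.Quotient.mk_surjective h (homogeneousComponent_isHomogeneous n p)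
  have hcmp := cmp_mem x N hN σ hσ H hH
  rw [hmap] at hcmp
  have hev : Ideal.Quotient.mk (Ideal.span (Set.range x) ^ N) (eval x H) ∈ Kid R x N hN ^ (n + 1) := by
    have := Ideal.add_mem _ hcmp hpsih
    rwa [sub_add_cancel] at this
  rw [Kid_pow, Ideal.mem_quotient_iff_mem_sup, sup_eq_left.mpr (Ideal.pow_le_pow_right hn)] at hev
  have hq := isQuasiRegular_of_isWeaklyRegular d x hreg
  have hcoef := hq n H hH hev
  have hzero : h = 0 := by
    ext α
    rw [← hmap, coeff_map, coeff_zero, Ideal.Quotient.eq_zero_iff_mem]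
    exact hcoef α
  rw [hzero, sub_zero] at hph
  exact hph

include hσ in
lemma mem_pow_of_psi0_eq_zero (hreg : RingTheory.Sequence.IsWeaklyRegular A (List.ofFn x))
    {p : MvPolynomial (Fin d) (A ⧸ Ideal.span (Set.range x))} (hp : psi0 x N σ p = 0) :
    p ∈ idealOfVars (Fin d) (A ⧸ Ideal.span (Set.range x)) ^ N := by
  have : ∀ n, n ≤ N → p ∈ idealOfVars (Fin d) (A ⧸ Ideal.span (Set.range x)) ^ n := by
    intro n
    induction n with
    | zero => intro _; simp
    | succ n ih =>
      intro hn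
      exact mem_pow_succ x N hN σ hσ hreg (by omega) (ih (by omega)) (by rw [hp]; exact Ideal.zero_mem _)
  exact this N le_rfl

end core3

theorem main (R : Type u) (A : Type v) [CommRing R] [CommRing A] [Algebra R A] (d : ℕ) (x : Fin d → A)
    (hreg : RingTheory.Sequence.IsWeaklyRegular A (List.ofFn x))
    [Algebra.FormallySmooth R (A ⧸ Ideal.span (Set.range x))] (N : ℕ) (hN : 1 ≤ N) :
    ∃ e : (A ⧸ Ideal.span (Set.range x) ^ N) ≃ₐ[R]
        (MvPolynomial (Fin d) (A ⧸ Ideal.span (Set.range x)) ⧸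
          Ideal.span (Set.range (MvPolynomial.X : Fin d → MvPolynomial (Fin d) (A ⧸ Ideal.span (Set.range x)))) ^ N),
      (∀ i : Fin d, e (Ideal.Quotient.mk _ (x i)) = Ideal.Quotient.mk _ (MvPolynomial.X i)) ∧
      ∀ a : A, e (Ideal.Quotient.mk _ a) - Ideal.Quotient.mk _ (MvPolynomial.C (Ideal.Quotient.mk _ a)) ∈
        (Ideal.span (Set.range (MvPolynomial.X : Fin d → MvPolynomial (Fin d) (A ⧸ Ideal.span (Set.range x))))).map
          (Ideal.Quotient.mk _) := by
  have hnil : IsNilpotent (RingHom.ker (fac (R := R) x N hN :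
      (A ⧸ Ideal.span (Set.range x) ^ N) →+* (A ⧸ Ideal.span (Set.range x)))) :=
    ⟨N, ker_fac_pow x N hN⟩
  let σ := Algebra.FormallySmooth.liftOfSurjective (AlgHom.id R (A ⧸ Ideal.span (Set.range x)))
    (fac (R := R) x N hN) (fac_surjective x N hN) hnil
  have hσ : (fac (R := R) x N hN).comp σ = AlgHom.id R _ :=
    Algebra.FormallySmooth.comp_liftOfSurjective _ _ _ _
  let ψ : (MvPolynomial (Fin d) (A ⧸ Ideal.span (Set.range x)) ⧸
      idealOfVars (Fin d) (A ⧸ Ideal.span (Set.range x)) ^ N) →ₐ[R]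
      (A ⧸ Ideal.span (Set.range x) ^ N) :=
    Ideal.Quotient.liftₐ _ (psi0 x N σ) (fun p hp => by
      have := psi0_mem_pow x N hN σ hσ hp
      rw [show Kid R x N hN ^ N = ⊥ from ker_fac_pow x N hN] at this
      exact this)
  have hψ_mk : ∀ p, ψ (Ideal.Quotient.mk _ p) = psi0 x N σ p := fun p => rfl
  have hinj : Function.Injective ψ := by
    rw [injective_iff_map_eq_zero]
    intro t ht
    obtain ⟨p, rfl⟩ := Ideal.Quotient.mk_surjective t
    rw [hψ_mk] at ht
    exact Ideal.Quotient.eq_zero_iff_mem.mpr (mem_pow_of_psi0_eq_zero x N hN σ hσ hreg ht)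
  have hsurj : Function.Surjective ψ := fun q => by
    obtain ⟨p, hp⟩ := psi0_surjective x N hN σ hσ q
    exact ⟨Ideal.Quotient.mk _ p, hp⟩
  let E := AlgEquiv.ofBijective ψ ⟨hinj, hsurj⟩
  refine ⟨E.symm, ?_, ?_⟩
  · intro i
    rw [AlgEquiv.symm_apply_eq]
    change _ = ψ (Ideal.Quotient.mk _ (X i))
    rw [hψ_mk]
    simp [psi0]
  · intro a
    obtain ⟨p, hp⟩ := psi0_surjective x N hN σ hσ (Ideal.Quotient.mk _ a)
    have h1 : E.symm (Ideal.Quotient.mk _ a) = Ideal.Quotient.mk _ p := by
      rw [AlgEquiv.symm_apply_eq]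
      exact hp.symm
    rw [h1, ← map_sub]
    apply Ideal.mem_map_of_mem
    have hc : constantCoeff p = Ideal.Quotient.mk _ a := by
      rw [← fac_psi0 x N hN σ hσ p, hp, fac_mk]
    rw [← hc]
    exact Groth.Agent.S2099.Aux.sub_C_mem p

end Aux

/-- Let R → A be a ring homomorphism and x_1, …, x_d a weakly regular sequence in A generating an ideal
J such that B = A/J is formally smooth over R. Then for every N ≥ 1 there is an isomorphism of
R-algebras e : A/J^N ≅ B[T_1, …, T_d]/(T_1, …, T_d)^N which sends the class of x_i to the class of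
T_i and which is compatible with the projections to B: for every a ∈ A, e(a mod J^N) is congruent to
the constant a mod J modulo the ideal generated by the variables. (The source also assumes R → A
smooth, which its argument does not use, and a regular sequence; weak regularity is what the
argument uses.) -/
theorem result
    (R : Type u) (A : Type v) [CommRing R] [CommRing A] [Algebra R A] (d : ℕ) (x : Fin d → A)
    (hreg : RingTheory.Sequence.IsWeaklyRegular A (List.ofFn x))
    [Algebra.FormallySmooth R (A ⧸ Ideal.span (Set.range x))] (N : ℕ) (hN : 1 ≤ N) :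
    ∃ e : (A ⧸ Ideal.span (Set.range x) ^ N) ≃ₐ[R]
        (MvPolynomial (Fin d) (A ⧸ Ideal.span (Set.range x)) ⧸
          Ideal.span (Set.range (MvPolynomial.X : Fin d → MvPolynomial (Fin d) (A ⧸ Ideal.span (Set.range x)))) ^ N),
      (∀ i : Fin d, e (Ideal.Quotient.mk _ (x i)) = Ideal.Quotient.mk _ (MvPolynomial.X i)) ∧
      ∀ a : A, e (Ideal.Quotient.mk _ a) - Ideal.Quotient.mk _ (MvPolynomial.C (Ideal.Quotient.mk _ a)) ∈
        (Ideal.span (Set.range (MvPolynomial.X : Fin d → MvPolynomial (Fin d) (A ⧸ Ideal.span (Set.range x))))).map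
          (Ideal.Quotient.mk _) := by
  exact Aux.main R A d x hreg N hN

end Groth.Agent.S18417
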