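import Groth.Statements.S18423
import Mathlib
import Groth.Agent.S2195
-- import your own Groth.Agent.* helpers here

set_option autoImplicit false
universe u v
open Pi1

namespace Groth.Agent.S18423

namespace Aux
open Algebra
set_option linter.style.haveILetI false

/-- étaleness of the localization of `B` over the localization of `A` at `p`. -/
theorem etale_loc (A : Type u) (B : Type v) [CommRing A] [CommRing B] [Algebra A B]
    [Module.Finite A B] {ι : Type} [Fintype ι] (b : Module.Basis ι A B)
    (p : Ideal A) [p.IsPrime]
    (h : ∀ q : PrimeSpectrum B, q.asIdeal.comap (algebraMap A B) ≤ p →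
      Algebra.IsEtaleAt A q.asIdeal) :
    Algebra.Etale (Localization.AtPrime p)
      (Localization (Algebra.algebraMapSubmonoid B p.primeCompl)) := by
  set Ap := Localization.AtPrime p
  set Bp := Localization (Algebra.algebraMapSubmonoid B p.primeCompl)
  have hfe : Algebra.FormallyEtale Ap Bp := by
    rw [← Algebra.etaleLocus_eq_univ_iff]
    rw [Set.eq_univ_iff_forall]
    intro Q
    rw [Algebra.mem_etaleLocus_iff]
    let q : Ideal B := Q.asIdeal.comap (algebraMap B Bp)
    have hqp : q.comap (algebraMap A B) ≤ p := by
      intro a ha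
      by_contra hap
      have h1 : algebraMap B Bp (algebraMap A B a) ∈ Q.asIdeal := ha
      have h2 : IsUnit (algebraMap B Bp (algebraMap A B a)) :=
        IsLocalization.map_units Bp (M := Algebra.algebraMapSubmonoid B p.primeCompl)
          ⟨algebraMap A B a, ⟨a, hap, rfl⟩⟩
      exact Q.2.ne_top (Ideal.eq_top_of_isUnit_mem _ h1 h2)
    have hq : Algebra.IsEtaleAt A q := h ⟨q, inferInstance⟩ hqp
    haveI : IsLocalization.AtPrime (Localization.AtPrime Q.asIdeal) q :=
      IsLocalization.isLocalization_isLocalization_atPrime_isLocalization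
        (Algebra.algebraMapSubmonoid B p.primeCompl) (Localization.AtPrime Q.asIdeal) Q.asIdeal
    let e : Localization.AtPrime q ≃ₐ[B] Localization.AtPrime Q.asIdeal :=
      IsLocalization.algEquiv q.primeCompl _ _
    have h3 : Algebra.FormallyEtale A (Localization.AtPrime Q.asIdeal) :=
      Algebra.FormallyEtale.of_equiv (e.restrictScalars A)
    exact Algebra.FormallyEtale.localization_base (R := A) (Rₘ := Ap)
      (Sₘ := Localization.AtPrime Q.asIdeal) p.primeCompl
  haveI : Module.Free Ap Bp := Module.Free.of_basis (b.localizationLocalization Ap p.primeCompl Bp)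
  haveI : Module.FinitePresentation Ap Bp := Module.finitePresentation_of_projective Ap Bp
  exact ⟨hfe, inferInstance⟩

theorem main (A : Type u) (B : Type v) [CommRing A] [CommRing B]
    [Algebra A B] [IsNoetherianRing A] [IsLocalRing A] (hdim : (2 : WithBot ℕ∞) ≤ ringKrullDim A)
    [Module.Finite A B] [Module.Flat A B]
    (h : ∀ q : PrimeSpectrum B, q.asIdeal.comap (algebraMap A B) ≠ IsLocalRing.maximalIdeal A →
      Algebra.IsEtaleAt A q.asIdeal) :
    Algebra.Etale A B := by
  classical
  haveI : Module.Free A B := Module.free_of_flat_of_isLocalRing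
  let b := Module.finBasis A B
  rw [Groth.Agent.S2195.result b]
  by_contra hd
  have hdm : Algebra.discr A b ∈ IsLocalRing.maximalIdeal A := by
    rwa [IsLocalRing.mem_maximalIdeal, mem_nonunits_iff]
  have hne : Ideal.span {Algebra.discr A b} ≠ ⊤ := by
    intro htop
    rw [Ideal.span_singleton_eq_top] at htop
    exact hd htop
  obtain ⟨p, hp⟩ := Ideal.nonempty_minimalPrimes hne
  haveI : p.IsPrime := hp.1.1
  have hht : p.height ≤ 1 := Ideal.height_le_one_of_isPrincipal_of_mem_minimalPrimes _ p hp
  have hpm : p ≠ IsLocalRing.maximalIdeal A := by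
    intro heq
    have h1 : (IsLocalRing.maximalIdeal A).height ≤ 1 := heq ▸ hht
    have h2 : ((IsLocalRing.maximalIdeal A).height : WithBot ℕ∞) = ringKrullDim A :=
      IsLocalRing.maximalIdeal_height_eq_ringKrullDim
    have h3 : (2 : WithBot ℕ∞) ≤ ((IsLocalRing.maximalIdeal A).height : WithBot ℕ∞) := h2 ▸ hdim
    have h4 : (2 : ℕ∞) ≤ (IsLocalRing.maximalIdeal A).height := by
      have : ((2 : ℕ∞) : WithBot ℕ∞) ≤ ((IsLocalRing.maximalIdeal A).height : WithBot ℕ∞) := h3
      exact WithBot.coe_le_coe.mp this
    have h5 : (2 : ℕ∞) ≤ 1 := h4.trans h1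
    exact absurd h5 (by decide)
  have het := etale_loc A B b p (fun q hq => h q (fun heq => hpm (le_antisymm
    (IsLocalRing.le_maximalIdeal hp.1.1.ne_top) (heq ▸ hq))))
  have hu := (Groth.Agent.S2195.result
    (b.localizationLocalization (Localization.AtPrime p) p.primeCompl
      (Localization (Algebra.algebraMapSubmonoid B p.primeCompl)))).mp het
  rw [Algebra.discr_localizationLocalization] at hu
  have hnot : Algebra.discr A b ∉ p := by
    intro hmem
    exact ((IsLocalization.AtPrime.isUnit_to_map_iff (Localization.AtPrime p) p _).mp hu) hmem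
  exact hnot (hp.1.2 (Ideal.subset_span rfl))

end Aux

/-- Let A be a Noetherian local ring of Krull dimension at least 2 and B a finite flat commutative
A-algebra. If B is etale over A at every prime of B lying over a non-maximal prime of A (that is,
Spec B is etale over the punctured spectrum of A), then B is etale over A. -/
theorem result (A : Type u) (B : Type v) [CommRing A] [CommRing B]
    [Algebra A B] [IsNoetherianRing A] [IsLocalRing A] (hdim : (2 : WithBot ℕ∞) ≤ ringKrullDim A)
    [Module.Finite A B] [Module.Flat A B]
    (h : ∀ q : PrimeSpectrum B, q.asIdeal.comap (algebraMap A B) ≠ IsLocalRing.maximalIdeal A →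
      Algebra.IsEtaleAt A q.asIdeal) :
    Algebra.Etale A B := by
  exact Aux.main A B hdim h

end Groth.Agent.S18423
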