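import Groth.Statements.S18427
-- import your own Groth.Agent.* helpers here
import Groth.Agent.Lib.Helper7.GeomConn.ModelConn
import Groth.Agent.Lib.Helper7.GeomConn.SmoothH0

set_option autoImplicit false
universe u
open Models

namespace Groth.Agent.S18427

open CategoryTheory AlgebraicGeometry in
/-- Let R be a discrete valuation ring with fraction field K, C a smooth proper geometrically connected
curve over K, and X a regular proper model of C over R (flat and proper over R, regular, with
generic fibre C). Then the structure morphism X → Spec R has geometrically connected fibres; in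
particular the special fibre of X is geometrically connected over the residue field of R. -/
theorem result (R : Type u) [CommRing R] [IsDomain R]
    [IsDiscreteValuationRing R] (C X : Scheme.{u})
    (f : C ⟶ Spec (CommRingCat.of (FractionRing R))) (p : X ⟶ Spec (CommRingCat.of R))
    (hC : Curve.IsSmoothProperCurve (FractionRing R) C f) [GeometricallyConnected f]
    (hX : Models.IsRegularProperModel R X p C f) :
    GeometricallyConnected p := by
  obtain ⟨⟨hflat, hlft, hqc, g, H⟩, hproper, hreg⟩ := hX
  have := hflat
  have := hproper
  obtain ⟨hCprop, hCsm, hCint, hCdim⟩ := hC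
  have := hCprop
  have := hCsm
  have := hCint
  let _ : C.Over (Spec (CommRingCat.of (FractionRing R))) := ⟨f⟩
  have : Smooth (C ↘ Spec (CommRingCat.of (FractionRing R))) := hCsm
  have hred : GeometricallyReduced f := (Groth.Agent.S1628.result (FractionRing R) C).1
  have hfin := Groth.Agent.Helper7.GeomConn.finite_globalSections (FractionRing R) C f
  have hsurj := Groth.Agent.Helper7.GeomConn.toΓ_surjective_of_geometrically
    (FractionRing R) C f hfin
  have : Nonempty ↥(⊤ : C.Opens) := by
    obtain ⟨x⟩ : Nonempty ↥C := inferInstance
    exact ⟨⟨x, trivial⟩⟩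
  have : Nontrivial Γ(C, ⊤) := inferInstance
  have hbij : Function.Bijective (Groth.Agent.Helper7.GeomConn.toΓ (FractionRing R) C f) :=
    ⟨(Groth.Agent.Helper7.GeomConn.toΓ (FractionRing R) C f).injective, hsurj⟩
  have hH0 : IsIso f.appTop := by
    rw [ConcreteCategory.isIso_iff_bijective]
    have h1 : (f.appTop).hom = (Groth.Agent.Helper7.GeomConn.toΓ (FractionRing R) C f).comp
        (Scheme.ΓSpecIso (CommRingCat.of (FractionRing R))).hom.hom := by
      ext x
      unfold Groth.Agent.Helper7.GeomConn.toΓ
      simp
    show Function.Bijective (f.appTop).hom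
    rw [h1, RingHom.coe_comp]
    exact hbij.comp (ConcreteCategory.bijective_of_isIso
      (Scheme.ΓSpecIso (CommRingCat.of (FractionRing R))).hom)
  exact Groth.Agent.Helper7.GeomConn.ZC.geometricallyConnected_model R C X f p hH0 g H

end Groth.Agent.S18427
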