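import Groth.Statements.S18429
import Mathlib

set_option autoImplicit false
universe u
open SpinCurv

namespace Groth.Agent.S18429

section


theorem cong_lin (L : ℕ) (r : ℤ) (e : ℕ → ℤ) (he0 : e 0 = 0)
    (hdiv : ∀ j : ℕ, 1 ≤ j → j < L → r ∣ e (j - 1) - 2 * e j + e (j + 1)) :
    ∀ j : ℕ, j ≤ L → r ∣ e j - (j : ℤ) * e 1 := by
  intro j
  induction j using Nat.strong_induction_on with
  | _ j ih =>
    intro hj
    match j, ih, hj with
    | 0, _, _ => simp [he0]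
    | 1, _, _ => simp
    | (m + 2), ih, hj =>
      have h1 := hdiv (m + 1) (by omega) (by omega)
      have h2 := ih m (by omega) (by omega)
      have h3 := ih (m + 1) (by omega) (by omega)
      have e1 : m + 1 - 1 = m := by omega
      have e2 : m + 1 + 1 = m + 2 := by omega
      rw [e1, e2] at h1
      have : e (m + 2) - ((m + 2 : ℕ) : ℤ) * e 1 =
          (e m - 2 * e (m + 1) + e (m + 2)) - (e m - (m : ℤ) * e 1)
            + 2 * (e (m + 1) - ((m + 1 : ℕ) : ℤ) * e 1) := by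
        push_cast
        ring
      rw [this]
      exact dvd_add (dvd_sub h1 h2) (Dvd.dvd.mul_left h3 2)

theorem main (n r : ℕ) (hn : 1 ≤ n) (hr : 2 ≤ r)
    (e : ℕ → ℤ) (he0 : e 0 = 0) (henr : e (n * r) = 0)
    (hdiv : ∀ j : ℕ, 1 ≤ j → j < n * r → (r : ℤ) ∣ e (j - 1) - 2 * e j + e (j + 1)) :
    ∃ e' : ℕ → ℤ, e' 0 = 0 ∧ e' (n * r) = 0 ∧
      (∀ j : ℕ, 1 ≤ j → j < n * r → (r : ℤ) ∣ e' j - e j) ∧
      (∀ j : ℕ, j ≤ n * r → e' j ≤ 0) ∧
      (∀ j : ℕ, 1 ≤ j → j < n * r →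
        (e' (j - 1) - 2 * e' j + e' (j + 1) = 0 ∨ e' (j - 1) - 2 * e' j + e' (j + 1) = r)) ∧
      (∀ j j' : ℕ, 1 ≤ j → j < n * r → 1 ≤ j' → j' < n * r →
        e' (j - 1) - 2 * e' j + e' (j + 1) ≠ 0 → e' (j' - 1) - 2 * e' j' + e' (j' + 1) ≠ 0 → j = j') := by
  have hcong := cong_lin (n * r) (r : ℤ) e he0 hdiv
  have hrpos : (0 : ℤ) < (r : ℤ) := by exact_mod_cast (by omega : 0 < r)
  obtain ⟨a, ha⟩ : ∃ a : ℤ, a = (-(e 1)) % (r : ℤ) := ⟨_, rfl⟩
  have ha0 : 0 ≤ a := by rw [ha]; exact Int.emod_nonneg _ (ne_of_gt hrpos)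
  have har : a < r := by rw [ha]; exact Int.emod_lt_of_pos _ hrpos
  have hae : (r : ℤ) ∣ a + e 1 := by
    have h1 : (r : ℤ) ∣ -(e 1) - a := by
      rw [ha]
      exact Int.dvd_self_sub_emod
    have : a + e 1 = -(-(e 1) - a) := by ring
    rw [this]
    exact (dvd_neg).mpr h1
  obtain ⟨k, hk⟩ : ∃ k : ℤ, k = ((r : ℤ) - a) * n := ⟨_, rfl⟩
  obtain ⟨L, hL⟩ : ∃ L : ℤ, L = (n : ℤ) * r := ⟨_, rfl⟩
  have hnpos : (1 : ℤ) ≤ (n : ℤ) := by exact_mod_cast hn
  let g : ℤ → ℤ := fun j => if j ≤ k then -a * j else ((r : ℤ) - a) * (j - L)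
  have F1 : ∀ j : ℤ, j ≤ k → g j = -a * j := fun j hj => if_pos hj
  have F2 : ∀ j : ℤ, k ≤ j → g j = ((r : ℤ) - a) * (j - L) := by
    intro j hj
    rcases eq_or_lt_of_le hj with h | h
    · rw [F1 j (le_of_eq h.symm), ← h, hk, hL]
      ring
    · exact if_neg (not_le.mpr h)
  have hcastL : ((n * r : ℕ) : ℤ) = L := by rw [hL]; push_cast; ring
  -- second difference
  have hD : ∀ j : ℤ, (j + 1 ≤ k ∨ k ≤ j - 1 → g (j - 1) - 2 * g j + g (j + 1) = 0) ∧
      (j = k → g (j - 1) - 2 * g j + g (j + 1) = r) := by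
    intro j
    constructor
    · rintro (h | h)
      · rw [F1 (j - 1) (by linarith), F1 j (by linarith), F1 (j + 1) h]
        ring
      · rw [F2 (j - 1) h, F2 j (by linarith), F2 (j + 1) (by linarith)]
        ring
    · intro h
      rw [F1 (j - 1) (by linarith), F1 j (by linarith), F2 (j + 1) (by linarith)]
      have h2 : j = ((r : ℤ) - a) * n := by rw [h, hk]
      rw [hL]
      linear_combination (r : ℤ) * h2
  have hD' : ∀ j : ℤ, (g (j - 1) - 2 * g j + g (j + 1) = 0 ∨ g (j - 1) - 2 * g j + g (j + 1) = r) ∧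
      (g (j - 1) - 2 * g j + g (j + 1) ≠ 0 → j = k) := by
    intro j
    by_cases hjk : j = k
    · exact ⟨Or.inr ((hD j).2 hjk), fun _ => hjk⟩
    · have : j + 1 ≤ k ∨ k ≤ j - 1 := by omega
      have h0 := (hD j).1 this
      exact ⟨Or.inl h0, fun h => absurd h0 h⟩
  have hcast : ∀ j : ℕ, 1 ≤ j → ((j - 1 : ℕ) : ℤ) = (j : ℤ) - 1 := by
    intro j hj
    push_cast [Nat.cast_sub hj]
    ring
  refine ⟨fun j => g (j : ℤ), ?_, ?_, ?_, ?_, ?_, ?_⟩
  · show g ((0 : ℕ) : ℤ) = 0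
    have hk0 : 0 ≤ k := by
      rw [hk]
      apply mul_nonneg <;> linarith
    rw [Nat.cast_zero, F1 0 hk0, mul_zero]
  · show g ((n * r : ℕ) : ℤ) = 0
    rw [hcastL]
    by_cases h : L ≤ k
    · rw [F1 L h]
      have : a * n ≤ 0 := by
        rw [hk, hL] at h
        nlinarith
      have ha' : a = 0 := by
        by_contra hne
        have : 0 < a := lt_of_le_of_ne ha0 (Ne.symm hne)
        nlinarith
      rw [ha']
      ring
    · rw [F2 L (by linarith), sub_self, mul_zero]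
  · intro j hj1 hj2
    show (r : ℤ) ∣ g (j : ℤ) - e j
    have h1 := hcong j (by omega)
    by_cases h : (j : ℤ) ≤ k
    · rw [F1 _ h]
      have : -a * (j : ℤ) - e j = -(e j - (j : ℤ) * e 1) - (j : ℤ) * (a + e 1) := by ring
      rw [this]
      exact dvd_sub ((dvd_neg).mpr h1) (Dvd.dvd.mul_left hae _)
    · rw [F2 _ (by linarith), hL]
      have : ((r : ℤ) - a) * ((j : ℤ) - (n : ℤ) * r) - e j =
          (r : ℤ) * ((j : ℤ) - (n : ℤ) * r + a * n) - (e j - (j : ℤ) * e 1)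
            - (j : ℤ) * (a + e 1) := by ring
      rw [this]
      exact dvd_sub (dvd_sub (dvd_mul_right _ _) h1) (Dvd.dvd.mul_left hae _)
  · intro j hj
    show g (j : ℤ) ≤ 0
    have hj0 : (0 : ℤ) ≤ (j : ℤ) := Int.natCast_nonneg j
    have hjL : (j : ℤ) ≤ L := by rw [← hcastL]; exact_mod_cast hj
    by_cases h : (j : ℤ) ≤ k
    · rw [F1 _ h]
      nlinarith
    · rw [F2 _ (by linarith)]
      have : 0 < (r : ℤ) - a := by linarith
      nlinarith
  · intro j hj1 hj2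
    show g ((j - 1 : ℕ) : ℤ) - 2 * g (j : ℤ) + g ((j + 1 : ℕ) : ℤ) = 0 ∨
      g ((j - 1 : ℕ) : ℤ) - 2 * g (j : ℤ) + g ((j + 1 : ℕ) : ℤ) = r
    rw [hcast j hj1, Nat.cast_add, Nat.cast_one]
    exact (hD' (j : ℤ)).1
  · intro j j' hj1 hj2 hj1' hj2' h h'
    have h1 : g ((j - 1 : ℕ) : ℤ) - 2 * g (j : ℤ) + g ((j + 1 : ℕ) : ℤ) ≠ 0 := h
    have h1' : g ((j' - 1 : ℕ) : ℤ) - 2 * g (j' : ℤ) + g ((j' + 1 : ℕ) : ℤ) ≠ 0 := h'
    rw [hcast j hj1, Nat.cast_add, Nat.cast_one] at h1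
    rw [hcast j' hj1', Nat.cast_add, Nat.cast_one] at h1'
    have e1 := (hD' (j : ℤ)).2 h1
    have e2 := (hD' (j' : ℤ)).2 h1'
    have : (j : ℤ) = (j' : ℤ) := by rw [e1, e2]
    exact_mod_cast this


end


/-- Let n ≥ 1 and r ≥ 2 be integers and let e_0, …, e_{nr} be integers with e_0 = e_{nr} = 0 (the
coefficients of a chain of nr - 1 exceptional curves joining two non-exceptional components with
coefficient zero) such that at every interior index 1 ≤ j ≤ nr - 1 the second difference e_{j-1} - 2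
e_j + e_{j+1} (the degree of the divisor Σ e_i E_i on the j-th curve of the chain) is divisible by
r. Then there are integers e'_0, …, e'_{nr}, with e'_j ≡ e_j modulo r for every interior j, with
e'_0 = e'_{nr} = 0 and every e'_j ≤ 0, whose second differences at the interior indices are each 0
or r, and are nonzero at no two distinct interior indices. -/
theorem result (n r : ℕ) (hn : 1 ≤ n) (hr : 2 ≤ r)
    (e : ℕ → ℤ) (he0 : e 0 = 0) (henr : e (n * r) = 0)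
    (hdiv : ∀ j : ℕ, 1 ≤ j → j < n * r → (r : ℤ) ∣ e (j - 1) - 2 * e j + e (j + 1)) :
    ∃ e' : ℕ → ℤ, e' 0 = 0 ∧ e' (n * r) = 0 ∧
      (∀ j : ℕ, 1 ≤ j → j < n * r → (r : ℤ) ∣ e' j - e j) ∧
      (∀ j : ℕ, j ≤ n * r → e' j ≤ 0) ∧
      (∀ j : ℕ, 1 ≤ j → j < n * r →
        (e' (j - 1) - 2 * e' j + e' (j + 1) = 0 ∨ e' (j - 1) - 2 * e' j + e' (j + 1) = r)) ∧
      (∀ j j' : ℕ, 1 ≤ j → j < n * r → 1 ≤ j' → j' < n * r →
        e' (j - 1) - 2 * e' j + e' (j + 1) ≠ 0 → e' (j' - 1) - 2 * e' j' + e' (j' + 1) ≠ 0 → j = j') := by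
  classical
  exact main n r hn hr e he0 henr hdiv

end Groth.Agent.S18429
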