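import Groth.Statements.S18431
import Mathlib.Algebra.Ring.GeomSum
import Mathlib.RingTheory.LocalRing.ResidueField.Basic

set_option autoImplicit false
universe u
open SpinCurv

namespace Groth.Agent.S18431

/-- Let R be a Noetherian local ring in which the natural number r is invertible and let ξ, ζ ∈ R
satisfy ξ^r = 1 and ζ^r = 1. Then either ξ = ζ, or ξ - ζ is a unit of R. (Consequently an element of
R annihilated by ξ - ζ is zero unless ξ = ζ. In the published setting R is moreover complete; the
step does not use completeness.) -/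
theorem result (R : Type u) [CommRing R] [IsNoetherianRing R] [IsLocalRing R]
    (r : ℕ) (hr : IsUnit (r : R)) (ξ ζ : R) (hξ : ξ ^ r = 1) (hζ : ζ ^ r = 1) :
    ξ = ζ ∨ IsUnit (ξ - ζ) := by
  by_cases hu : IsUnit (ξ - ζ)
  · exact Or.inr hu
  left
  have hm : ξ - ζ ∈ IsLocalRing.maximalIdeal R := by
    by_contra h
    exact hu (IsLocalRing.notMem_maximalIdeal.mp h)
  have hres : IsLocalRing.residue R ξ = IsLocalRing.residue R ζ := by
    have := (IsLocalRing.residue_eq_zero_iff (ξ - ζ)).mpr hm
    rwa [map_sub, sub_eq_zero] at this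
  have hgs := (Commute.all ξ ζ).geom_sum₂_mul r
  rw [hξ, hζ, sub_self] at hgs
  have hS : IsUnit (∑ i ∈ Finset.range r, ξ ^ i * ζ ^ (r - 1 - i)) := by
    rw [← IsLocalRing.residue_ne_zero_iff_isUnit]
    rw [RingHom.map_geom_sum₂, hres, geom_sum₂_self]
    have h1 : IsUnit ((r : R) * ζ ^ (r - 1)) := by
      refine hr.mul (IsUnit.pow _ ?_)
      have hr0 : r ≠ 0 := by
        rintro rfl
        simp at hr
      exact IsUnit.of_pow_eq_one hζ hr0
    have := (IsLocalRing.residue_ne_zero_iff_isUnit _).mpr h1
    simpa using this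
  have := hS.mul_right_eq_zero.mp hgs
  exact sub_eq_zero.mp this

end Groth.Agent.S18431
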