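import Groth.Statements.S18435
import Mathlib
import Groth.Prelude.Def_W4c5spincurvestfNode
-- import your own Groth.Agent.* helpers here

set_option autoImplicit false
universe u
open SpinCurv

namespace Groth.Agent.S18435

namespace Aux

open Polynomial

section

variable (k : Type u) [Field k]


/-- coefficient of `P(X,0)` -/
theorem coeff_aeval_x (P : MvPolynomial (Fin 2) k) (i : ℕ) :
    (MvPolynomial.aeval (![X, 0] : Fin 2 → k[X]) P).coeff i = P.coeff (Finsupp.single 0 i) := by
  induction P using MvPolynomial.induction_on' with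
  | monomial m c =>
    rw [MvPolynomial.aeval_monomial, Finsupp.prod_fintype _ _ (fun j => pow_zero _), Fin.prod_univ_two,
      MvPolynomial.coeff_monomial]
    simp only [Matrix.cons_val_zero, Matrix.cons_val_one]
    by_cases h1 : m 1 = 0
    · rw [h1, pow_zero, mul_one, Polynomial.algebraMap_eq, Polynomial.coeff_C_mul, Polynomial.coeff_X_pow]
      by_cases hi : i = m 0
      · have : m = Finsupp.single 0 i := by
          ext j
          fin_cases j
          · simp [hi]
          · simp [h1]
        rw [if_pos hi, if_pos this, mul_one]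
      · have : m ≠ Finsupp.single 0 i := by
          intro h
          apply hi
          rw [h]; simp
        rw [if_neg hi, if_neg this, mul_zero]
    · have : m ≠ Finsupp.single 0 i := by
        intro h
        apply h1
        rw [h]; simp
      rw [zero_pow h1, mul_zero, mul_zero, if_neg this, Polynomial.coeff_zero]
  | add p q hp hq => rw [map_add, Polynomial.coeff_add, hp, hq, MvPolynomial.coeff_add]

/-- coefficient of `P(0,X)` -/
theorem coeff_aeval_y (P : MvPolynomial (Fin 2) k) (i : ℕ) :
    (MvPolynomial.aeval (![0, X] : Fin 2 → k[X]) P).coeff i = P.coeff (Finsupp.single 1 i) := by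
  induction P using MvPolynomial.induction_on' with
  | monomial m c =>
    rw [MvPolynomial.aeval_monomial, Finsupp.prod_fintype _ _ (fun j => pow_zero _), Fin.prod_univ_two,
      MvPolynomial.coeff_monomial]
    simp only [Matrix.cons_val_zero, Matrix.cons_val_one]
    by_cases h1 : m 0 = 0
    · rw [h1, pow_zero, one_mul, Polynomial.algebraMap_eq, Polynomial.coeff_C_mul, Polynomial.coeff_X_pow]
      by_cases hi : i = m 1
      · have : m = Finsupp.single 1 i := by
          ext j
          fin_cases j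
          · simp [h1]
          · simp [hi]
        rw [if_pos hi, if_pos this, mul_one]
      · have : m ≠ Finsupp.single 1 i := by
          intro h
          apply hi
          rw [h]; simp
        rw [if_neg hi, if_neg this, mul_zero]
    · have : m ≠ Finsupp.single 1 i := by
        intro h
        apply h1
        rw [h]; simp
      rw [zero_pow h1, zero_mul, mul_zero, if_neg this, Polynomial.coeff_zero]
  | add p q hp hq => rw [map_add, Polynomial.coeff_add, hp, hq, MvPolynomial.coeff_add]

theorem mem_of_aeval_eq_zero (P : MvPolynomial (Fin 2) k)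
    (hx : MvPolynomial.aeval (![X, 0] : Fin 2 → k[X]) P = 0)
    (hy : MvPolynomial.aeval (![0, X] : Fin 2 → k[X]) P = 0) :
    P ∈ Ideal.span {(MvPolynomial.X 0 * MvPolynomial.X 1 - MvPolynomial.C 0 : MvPolynomial (Fin 2) k)} := by
  have hgen : (MvPolynomial.X 0 * MvPolynomial.X 1 - MvPolynomial.C 0 : MvPolynomial (Fin 2) k) =
      MvPolynomial.monomial (Finsupp.single 0 1 + Finsupp.single 1 1) 1 := by
    rw [map_zero, sub_zero, MvPolynomial.X, MvPolynomial.X, MvPolynomial.monomial_mul, one_mul]
  have himg : ({(MvPolynomial.X 0 * MvPolynomial.X 1 - MvPolynomial.C 0 : MvPolynomial (Fin 2) k)} : Set _) =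
      (fun s => MvPolynomial.monomial s (1 : k)) '' {Finsupp.single 0 1 + Finsupp.single 1 1} := by
    rw [Set.image_singleton, hgen]
  rw [himg, MvPolynomial.mem_ideal_span_monomial_image]
  intro m hm
  refine ⟨_, rfl, ?_⟩
  rw [MvPolynomial.mem_support_iff] at hm
  have h0 : m 0 ≠ 0 := by
    intro h0
    apply hm
    have : m = Finsupp.single 1 (m 1) := by
      ext j
      fin_cases j
      · simp [h0]
      · simp
    rw [this, ← coeff_aeval_y, hy, Polynomial.coeff_zero]
  have h1 : m 1 ≠ 0 := by
    intro h1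
    apply hm
    have : m = Finsupp.single 0 (m 0) := by
      ext j
      fin_cases j
      · simp
      · simp [h1]
    rw [this, ← coeff_aeval_x, hx, Polynomial.coeff_zero]
  intro j
  fin_cases j
  · simp; omega
  · simp; omega



theorem coeff_toLaurent_nat (G : k[X]) (n : ℕ) : (toLaurent G).coeff (n : ℤ) = G.coeff n := by
  rw [LaurentPolynomial.coeff_toLaurent]
  exact Finsupp.mapDomain_apply Nat.castEmbedding.injective _ _

theorem coeff_toLaurent_neg (G : k[X]) (m : ℤ) (hm : m < 0) : (toLaurent G).coeff m = 0 := by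
  rw [LaurentPolynomial.coeff_toLaurent]
  apply Finsupp.mapDomain_notin_range
  rintro ⟨n, hn⟩
  have : (n : ℤ) = m := hn
  omega

theorem laurent_key (G F : k[X]) (hG0 : G.coeff 0 = 0) (hF0 : F.coeff 0 = 0)
    (h : toLaurent G = LaurentPolynomial.T 1 * LaurentPolynomial.invert (toLaurent F)) :
    G = 0 ∧ F = 0 := by
  have hc : ∀ m : ℤ, (toLaurent G).coeff m = (toLaurent F).coeff (1 - m) := by
    intro m
    rw [h, LaurentPolynomial.T, AddMonoidAlgebra.coeff_single_mul_apply, one_mul,
      LaurentPolynomial.invert_apply]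
    congr 1
    ring
  constructor
  · ext n
    rw [Polynomial.coeff_zero]
    rcases Nat.eq_zero_or_pos n with rfl | hn
    · exact hG0
    · rw [← coeff_toLaurent_nat, hc]
      rcases Nat.eq_or_lt_of_le hn with h1 | h2
      · rw [← h1]
        have : (1 : ℤ) - ((1 : ℕ) : ℤ) = ((0 : ℕ) : ℤ) := by norm_num
        rw [this, coeff_toLaurent_nat, hF0]
      · apply coeff_toLaurent_neg
        omega
  · ext n
    rw [Polynomial.coeff_zero]
    rcases Nat.eq_zero_or_pos n with rfl | hn
    · exact hF0
    · have := hc (1 - (n : ℤ))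
      rw [sub_sub_cancel, coeff_toLaurent_nat] at this
      rw [← this]
      rcases Nat.eq_or_lt_of_le hn with h1 | h2
      · rw [← h1]
        have : (1 : ℤ) - ((1 : ℕ) : ℤ) = ((0 : ℕ) : ℤ) := by norm_num
        rw [this, coeff_toLaurent_nat, hG0]
      · apply coeff_toLaurent_neg
        omega


theorem aeval_y_eq_zero_of_mul (P : MvPolynomial (Fin 2) k)
    (h : SpinCurv.PolyNodeRing.y k 0 * Ideal.Quotient.mk _ P = 0) :
    MvPolynomial.aeval (![0, X] : Fin 2 → k[X]) P = 0 := by
  rw [← map_mul, Ideal.Quotient.eq_zero_iff_mem] at h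
  have hker : Ideal.span {(MvPolynomial.X 0 * MvPolynomial.X 1 - MvPolynomial.C 0 : MvPolynomial (Fin 2) k)} ≤
      RingHom.ker (MvPolynomial.aeval (![0, X] : Fin 2 → k[X])) := by
    rw [Ideal.span_le, Set.singleton_subset_iff]
    simp
  have := hker h
  rw [RingHom.mem_ker, map_mul, MvPolynomial.aeval_X] at this
  simpa using this

theorem main
    (rU : SpinCurv.PolyNodeRing k 0 →ₐ[k] SpinCurv.PolyNodeRing k 0)
    (hrUx : rU (SpinCurv.PolyNodeRing.x k 0) = 0)
    (hrUy : rU (SpinCurv.PolyNodeRing.y k 0) = SpinCurv.PolyNodeRing.y k 0)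
    (rV : SpinCurv.PolyNodeRing k 0 →ₐ[k] SpinCurv.PolyNodeRing k 0)
    (hrVx : rV (SpinCurv.PolyNodeRing.x k 0) = SpinCurv.PolyNodeRing.y k 0)
    (hrVy : rV (SpinCurv.PolyNodeRing.y k 0) = 0)
    (gU : SpinCurv.PolyNodeRing k 0 →ₐ[k] LaurentPolynomial k)
    (hgUs : gU (SpinCurv.PolyNodeRing.x k 0) = LaurentPolynomial.T 1)
    (hgUy : gU (SpinCurv.PolyNodeRing.y k 0) = 0)
    (gV : SpinCurv.PolyNodeRing k 0 →ₐ[k] LaurentPolynomial k)
    (hgVt : gV (SpinCurv.PolyNodeRing.x k 0) = LaurentPolynomial.T (-1))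
    (hgVx : gV (SpinCurv.PolyNodeRing.y k 0) = 0)
    (g f : SpinCurv.PolyNodeRing k 0) (hsec : gU g = LaurentPolynomial.T 1 * gV f)
    (hx : rU (SpinCurv.PolyNodeRing.x k 0) * g = 0 ∧ rV (SpinCurv.PolyNodeRing.x k 0) * f = 0)
    (hy : rU (SpinCurv.PolyNodeRing.y k 0) * g = 0 ∧ rV (SpinCurv.PolyNodeRing.y k 0) * f = 0) :
    g = 0 ∧ f = 0 := by
  obtain ⟨Pg, rfl⟩ := Ideal.Quotient.mk_surjective g
  obtain ⟨Pf, rfl⟩ := Ideal.Quotient.mk_surjective f
  have hyg := aeval_y_eq_zero_of_mul k Pg (hrUy ▸ hy.1)
  have hyf := aeval_y_eq_zero_of_mul k Pf (hrVx ▸ hx.2)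
  have hgU : ∀ P : MvPolynomial (Fin 2) k, gU (Ideal.Quotient.mk _ P) =
      toLaurent (MvPolynomial.aeval (![X, 0] : Fin 2 → k[X]) P) := by
    intro P
    have := MvPolynomial.algHom_ext (f := gU.comp (Ideal.Quotient.mkₐ k _))
      (g := (toLaurentAlg (R := k)).comp (MvPolynomial.aeval (![X, 0] : Fin 2 → k[X]))) (by
        intro i
        fin_cases i
        · simpa using hgUs
        · simpa using hgUy)
    exact congrArg (fun φ => φ P) this
  have hgV : ∀ P : MvPolynomial (Fin 2) k, gV (Ideal.Quotient.mk _ P) =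
      LaurentPolynomial.invert (toLaurent (MvPolynomial.aeval (![X, 0] : Fin 2 → k[X]) P)) := by
    intro P
    have := MvPolynomial.algHom_ext (f := gV.comp (Ideal.Quotient.mkₐ k _))
      (g := ((LaurentPolynomial.invert (R := k)).toAlgHom.comp (toLaurentAlg (R := k))).comp
        (MvPolynomial.aeval (![X, 0] : Fin 2 → k[X]))) (by
        intro i
        fin_cases i
        · simpa using hgVt
        · simpa using hgVx)
    exact congrArg (fun φ => φ P) this
  rw [hgU, hgV] at hsec
  have hG0 : (MvPolynomial.aeval (![X, 0] : Fin 2 → k[X]) Pg).coeff 0 = 0 := by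
    rw [coeff_aeval_x, Finsupp.single_zero, ← Finsupp.single_zero (1 : Fin 2), ← coeff_aeval_y, hyg,
      Polynomial.coeff_zero]
  have hF0 : (MvPolynomial.aeval (![X, 0] : Fin 2 → k[X]) Pf).coeff 0 = 0 := by
    rw [coeff_aeval_x, Finsupp.single_zero, ← Finsupp.single_zero (1 : Fin 2), ← coeff_aeval_y, hyf,
      Polynomial.coeff_zero]
  obtain ⟨hG, hF⟩ := laurent_key k _ _ hG0 hF0 hsec
  exact ⟨Ideal.Quotient.eq_zero_iff_mem.mpr (mem_of_aeval_eq_zero k Pg hG hyg),
    Ideal.Quotient.eq_zero_iff_mem.mpr (mem_of_aeval_eq_zero k Pf hF hyf)⟩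

end

end Aux

/-- Let k be a field and A = k[x, y]/(xy) the node, with the two affine charts U = Spec k[s, y]/(sy) and
V = Spec k[t, x]/(tx) of the curve obtained by the (p, q)-construction with p = q = 0, glued along
k[s, s⁻¹] by t = s⁻¹ (y ↦ 0 from U, x ↦ 0 from V), and with A → O(U) given by x ↦ 0, y ↦ y and A →
O(V) by x ↦ x, y ↦ 0. A global section of O(1) is a pair (g, f) with g = s f on U ∩ V. If such a
pair is annihilated by both x and y (acting through the two restriction maps), then g = 0 and f = 0;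
so the module of global sections of O(1) has no nonzero element killed by the maximal ideal (x, y),
i.e. its direct image on the node is torsion-free there. All three coordinate rings are written as
the quotient of the polynomial ring in two variables by the product of the variables, and the four
restriction homomorphisms are k-algebra maps pinned by their values on generators. (The published
proof reduces the torsion-freeness of the direct image of O(1), for general R, p, q, to exactly this
case of a field with p = q = 0.) -/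
theorem result (k : Type u) [Field k]
    (rU : SpinCurv.PolyNodeRing k 0 →ₐ[k] SpinCurv.PolyNodeRing k 0)
    (hrUx : rU (SpinCurv.PolyNodeRing.x k 0) = 0)
    (hrUy : rU (SpinCurv.PolyNodeRing.y k 0) = SpinCurv.PolyNodeRing.y k 0)
    (rV : SpinCurv.PolyNodeRing k 0 →ₐ[k] SpinCurv.PolyNodeRing k 0)
    (hrVx : rV (SpinCurv.PolyNodeRing.x k 0) = SpinCurv.PolyNodeRing.y k 0)
    (hrVy : rV (SpinCurv.PolyNodeRing.y k 0) = 0)
    (gU : SpinCurv.PolyNodeRing k 0 →ₐ[k] LaurentPolynomial k)
    (hgUs : gU (SpinCurv.PolyNodeRing.x k 0) = LaurentPolynomial.T 1)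
    (hgUy : gU (SpinCurv.PolyNodeRing.y k 0) = 0)
    (gV : SpinCurv.PolyNodeRing k 0 →ₐ[k] LaurentPolynomial k)
    (hgVt : gV (SpinCurv.PolyNodeRing.x k 0) = LaurentPolynomial.T (-1))
    (hgVx : gV (SpinCurv.PolyNodeRing.y k 0) = 0)
    (g f : SpinCurv.PolyNodeRing k 0) (hsec : gU g = LaurentPolynomial.T 1 * gV f)
    (hx : rU (SpinCurv.PolyNodeRing.x k 0) * g = 0 ∧ rV (SpinCurv.PolyNodeRing.x k 0) * f = 0)
    (hy : rU (SpinCurv.PolyNodeRing.y k 0) * g = 0 ∧ rV (SpinCurv.PolyNodeRing.y k 0) * f = 0) :
    g = 0 ∧ f = 0 := by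
  exact Aux.main k rU hrUx hrUy rV hrVx hrVy gU hgUs hgUy gV hgVt hgVx g f hsec hx hy

end Groth.Agent.S18435
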