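import Groth.Statements.S18436
import Mathlib
import Groth.Prelude.Def_W4c5spincurvestfNode
import Groth.Agent.Lib.Helper9.PolyNodeBasis
import Groth.Agent.Lib.Helper9.FinsuppScale
-- import your own Groth.Agent.* helpers here

set_option autoImplicit false
universe u
open SpinCurv

namespace Groth.Agent.S18436

open SpinCurv
namespace Aux

open Groth.Agent.Lib.Helper9.PolyNodeBasis Groth.Agent.Lib.Helper9.FinsuppScale
open LaurentPolynomial

section
variable (R : Type u) [CommRing R]

/-- coefficients of a Laurent polynomial, linearly -/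
noncomputable abbrev cL : LaurentPolynomial R ≃ₗ[R] (ℤ →₀ R) := AddMonoidAlgebra.coeffLinearEquiv R

lemma cL_C_mul_T (r : R) (k : ℤ) : cL R (C r * T k) = Finsupp.single k r := by
  rw [← single_eq_C_mul_T]
  rfl

/-- images of the standard monomials under a map `x ↦ T a`-type -/
lemma map_std_U (c : R) (g : PolyNodeRing R c →ₐ[R] LaurentPolynomial R)
    (hx : g (PolyNodeRing.x R c) = T 1) (hy : g (PolyNodeRing.y R c) = C c * T (-1)) (k : ℤ) :
    g (std R c k) = C (c ^ (-k).toNat) * T k := by
  unfold std
  split_ifs with hk
  · rw [map_pow, hx, T_pow, mul_one, Int.toNat_of_nonneg hk]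
    have : (-k).toNat = 0 := by omega
    rw [this, pow_zero, map_one, one_mul]
  · push Not at hk
    rw [map_pow, hy, mul_pow, ← map_pow, T_pow]
    congr 2
    have : ((-k).toNat : ℤ) = -k := Int.toNat_of_nonneg (by omega)
    rw [this]; ring

lemma map_std_V (c : R) (g : PolyNodeRing R c →ₐ[R] LaurentPolynomial R)
    (hx : g (PolyNodeRing.x R c) = T (-1)) (hy : g (PolyNodeRing.y R c) = C c * T 1) (k : ℤ) :
    g (std R c k) = C (c ^ (-k).toNat) * T (-k) := by
  unfold std
  split_ifs with hk
  · rw [map_pow, hx, T_pow, Int.toNat_of_nonneg hk]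
    have : (-k).toNat = 0 := by omega
    rw [this, pow_zero, map_one, one_mul]
    congr 1; ring
  · push Not at hk
    rw [map_pow, hy, mul_pow, ← map_pow, T_pow, mul_one]
    congr 2
    exact Int.toNat_of_nonneg (by omega)

end

theorem main (R : Type u) [CommRing R] (p q : R)
    (gU : SpinCurv.PolyNodeRing R q →ₐ[R] LaurentPolynomial R)
    (hgUs : gU (SpinCurv.PolyNodeRing.x R q) = LaurentPolynomial.T 1)
    (hgUy : gU (SpinCurv.PolyNodeRing.y R q) = LaurentPolynomial.C q * LaurentPolynomial.T (-1))
    (gV : SpinCurv.PolyNodeRing R p →ₐ[R] LaurentPolynomial R)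
    (hgVt : gV (SpinCurv.PolyNodeRing.x R p) = LaurentPolynomial.T (-1))
    (hgVx : gV (SpinCurv.PolyNodeRing.y R p) = LaurentPolynomial.C p * LaurentPolynomial.T 1)
    (n : ℤ) (hn : -1 ≤ n) :
    Module.Free R (LinearMap.ker
      (gU.toLinearMap.comp (LinearMap.fst R (SpinCurv.PolyNodeRing R q) (SpinCurv.PolyNodeRing R p)) -
        (LinearMap.mulLeft R (LaurentPolynomial.T n)).comp
          (gV.toLinearMap.comp (LinearMap.snd R (SpinCurv.PolyNodeRing R q) (SpinCurv.PolyNodeRing R p))))) := by
  classical
  let U : ℤ → R := fun k => q ^ (-k).toNat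
  let V' : ℤ → R := fun k => p ^ (k - n).toNat
  let reindex : (ℤ →₀ R) ≃ₗ[R] (ℤ →₀ R) := Finsupp.domLCongr (Equiv.subLeft n)
  have hC1 : ∀ A : ℤ →₀ R, cL R (gU ((nf R q).symm A)) = scale U A := by
    intro A
    induction A using Finsupp.induction_linear with
    | zero => simp
    | add f g hf hg => simp only [map_add, hf, hg]
    | single k r =>
      rw [nf_symm_single, map_smul, map_std_U R q gU hgUs hgUy, map_smul, cL_C_mul_T,
        scale_single, Finsupp.smul_single, smul_eq_mul, mul_comm]
  have hC2 : ∀ Cc : ℤ →₀ R, cL R (T n * gV ((nf R p).symm Cc)) = scale V' (reindex Cc) := by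
    intro Cc
    induction Cc using Finsupp.induction_linear with
    | zero => simp
    | add f g hf hg => simp only [map_add, mul_add, hf, hg]
    | single k r =>
      rw [nf_symm_single, map_smul, map_std_V R p gV hgVt hgVx, mul_smul_comm, map_smul]
      have e1 : T n * (C (p ^ (-k).toNat) * T (-k)) = C (p ^ (-k).toNat) * T (n - k) := by
        rw [← mul_assoc, T_mul, mul_assoc, ← T_add]
        congr 2
      rw [e1, cL_C_mul_T]
      have e2 : reindex (Finsupp.single k r) = Finsupp.single (n - k) r := by
        show Finsupp.domLCongr (Equiv.subLeft n) (Finsupp.single k r) = _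
        rw [Finsupp.domLCongr_single]
        rfl
      rw [e2, scale_single, Finsupp.smul_single, smul_eq_mul]
      congr 1
      show r * p ^ (-k).toNat = p ^ (n - k - n).toNat * r
      have : n - k - n = -k := by ring
      rw [this, mul_comm]
  let E : (PolyNodeRing R q × PolyNodeRing R p) ≃ₗ[R] (ℤ →₀ R) × (ℤ →₀ R) :=
    (nf R q).prodCongr ((nf R p).trans reindex)
  have hK : LinearMap.ker
      (gU.toLinearMap.comp (LinearMap.fst R (PolyNodeRing R q) (PolyNodeRing R p)) -
        (LinearMap.mulLeft R (T n)).comp
          (gV.toLinearMap.comp (LinearMap.snd R (PolyNodeRing R q) (PolyNodeRing R p)))) =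
      Submodule.comap E.toLinearMap (K' U V') := by
    ext ⟨g, f⟩
    rw [LinearMap.mem_ker, Submodule.mem_comap, mem_K']
    simp only [LinearMap.sub_apply, LinearMap.coe_comp, Function.comp_apply, LinearMap.fst_apply,
      LinearMap.snd_apply, AlgHom.toLinearMap_apply, LinearMap.mulLeft_apply, sub_eq_zero]
    have hg : g = (nf R q).symm (nf R q g) := ((nf R q).symm_apply_apply g).symm
    have hf : f = (nf R p).symm (nf R p f) := ((nf R p).symm_apply_apply f).symm
    constructor
    · intro h k
      have h1 := congrArg (cL R) h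
      rw [hg, hf, hC1, hC2] at h1
      have := DFunLike.congr_fun h1 k
      rw [scale_apply, scale_apply] at this
      exact this
    · intro h
      apply (cL R).injective
      rw [hg, hf, hC1, hC2]
      ext k
      rw [scale_apply, scale_apply]
      exact h k
  rw [hK]
  have hfree : Module.Free R (K' U V') :=
    free_K' U V' (fun k => k ≤ n)
      (fun k hk => by
        show p ^ (k - n).toNat = 1
        have : (k - n).toNat = 0 := by omega
        rw [this, pow_zero])
      (fun k hk => by
        show q ^ (-k).toNat = 1
        have : (-k).toNat = 0 := by omega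
        rw [this, pow_zero])
  exact Module.Free.of_equiv (LinearEquiv.ofSubmodule' E (K' U V')).symm

end Aux

/-- Let R be a commutative ring and p, q ∈ R, and consider the two affine charts U = Spec R[s, y]/(sy -
q) and V = Spec R[t, x]/(xt - p) of the curve obtained from the node xy = pq by the (p,
q)-construction, glued along R[s, s⁻¹] by t = s⁻¹ (so y = q s⁻¹ on U and x = p s on V). For an
integer n ≥ -1 the global sections of the twisting sheaf O(n) (equal to vⁿ O on U and to ξⁿ O on V,
ξ = s v) are the pairs (g, f) of functions on U and V with g = sⁿ f on U ∩ V. This R-module, written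
as the kernel of the R-linear map (g, f) ↦ g|_{U ∩ V} - sⁿ · f|_{U ∩ V} into R[s, s⁻¹], is free over
R (hence the direct image of O(n) on the node is flat over R). Both chart rings are written as the
quotient of the polynomial ring in two variables by (first variable)·(second variable) - constant,
and the two restriction homomorphisms to R[s, s⁻¹] are R-algebra maps pinned by their values on
generators. (The published setting has R complete local and p, q in the maximal ideal; the printed
computation uses neither.) -/
theorem result (R : Type u) [CommRing R] (p q : R)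
    (gU : SpinCurv.PolyNodeRing R q →ₐ[R] LaurentPolynomial R)
    (hgUs : gU (SpinCurv.PolyNodeRing.x R q) = LaurentPolynomial.T 1)
    (hgUy : gU (SpinCurv.PolyNodeRing.y R q) = LaurentPolynomial.C q * LaurentPolynomial.T (-1))
    (gV : SpinCurv.PolyNodeRing R p →ₐ[R] LaurentPolynomial R)
    (hgVt : gV (SpinCurv.PolyNodeRing.x R p) = LaurentPolynomial.T (-1))
    (hgVx : gV (SpinCurv.PolyNodeRing.y R p) = LaurentPolynomial.C p * LaurentPolynomial.T 1)
    (n : ℤ) (hn : -1 ≤ n) :
    Module.Free R (LinearMap.ker
      (gU.toLinearMap.comp (LinearMap.fst R (SpinCurv.PolyNodeRing R q) (SpinCurv.PolyNodeRing R p)) -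
        (LinearMap.mulLeft R (LaurentPolynomial.T n)).comp
          (gV.toLinearMap.comp (LinearMap.snd R (SpinCurv.PolyNodeRing R q) (SpinCurv.PolyNodeRing R p))))) := by
  exact Aux.main R p q gU hgUs hgUy gV hgVt hgVx n hn

end Groth.Agent.S18436
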