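import Groth.Statements.S18437
import Mathlib
import Groth.Prelude.Def_W4c5spincurvestfNode
import Groth.Agent.Lib.Helper9.PolyNodeBasis
import Groth.Agent.Lib.Helper9.FinsuppScale
import Groth.Agent.Lib.Helper9.NodeTwist
-- import your own Groth.Agent.* helpers here

set_option autoImplicit false
universe u
open SpinCurv

namespace Groth.Agent.S18437

open SpinCurv
open Groth.Agent.Lib.Helper9.PolyNodeBasis Groth.Agent.Lib.Helper9.FinsuppScale Groth.Agent.Lib.Helper9.NodeTwist
open LaurentPolynomial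
namespace Aux

section
variable (R : Type u) [CommRing R] (p q : R)
    (rU : PolyNodeRing R (p * q) →ₐ[R] PolyNodeRing R q)
    (hrUx : rU (PolyNodeRing.x R (p * q)) = algebraMap R _ p * PolyNodeRing.x R q)
    (hrUy : rU (PolyNodeRing.y R (p * q)) = PolyNodeRing.y R q)
    (rV : PolyNodeRing R (p * q) →ₐ[R] PolyNodeRing R p)
    (hrVx : rV (PolyNodeRing.x R (p * q)) = PolyNodeRing.y R p)
    (hrVy : rV (PolyNodeRing.y R (p * q)) = algebraMap R _ q * PolyNodeRing.x R p)
    (gU : PolyNodeRing R q →ₐ[R] LaurentPolynomial R)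
    (hgUs : gU (PolyNodeRing.x R q) = T 1)
    (hgUy : gU (PolyNodeRing.y R q) = C q * T (-1))
    (gV : PolyNodeRing R p →ₐ[R] LaurentPolynomial R)
    (hgVt : gV (PolyNodeRing.x R p) = T (-1))
    (hgVx : gV (PolyNodeRing.y R p) = C p * T 1) (n : ℕ)

/-- the map Ψ as an R-linear map -/
noncomputable def PsiL :
    (Fin (n + 1) → PolyNodeRing R (p * q)) →ₗ[R] PolyNodeRing R q × PolyNodeRing R p where
  toFun F := (∑ i : Fin (n + 1), rU (F i) * PolyNodeRing.x R q ^ (n - (i : ℕ)),
         ∑ i : Fin (n + 1), rV (F i) * PolyNodeRing.x R p ^ (i : ℕ))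
  map_add' F G := by
    simp only [Pi.add_apply, map_add, add_mul, Finset.sum_add_distrib, Prod.mk_add_mk]
  map_smul' r F := by
    simp only [Pi.smul_apply, map_smul, smul_mul_assoc, ← Finset.smul_sum, RingHom.id_apply,
      Prod.smul_mk]

lemma PsiL_apply (F : Fin (n + 1) → PolyNodeRing R (p * q)) :
    PsiL R p q rU rV n F = (∑ i : Fin (n + 1), rU (F i) * PolyNodeRing.x R q ^ (n - (i : ℕ)),
         ∑ i : Fin (n + 1), rV (F i) * PolyNodeRing.x R p ^ (i : ℕ)) := rfl

lemma PsiL_single (i : Fin (n + 1)) (a : PolyNodeRing R (p * q)) :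
    PsiL R p q rU rV n (Pi.single i a) =
      (rU a * PolyNodeRing.x R q ^ (n - (i : ℕ)), rV a * PolyNodeRing.x R p ^ (i : ℕ)) := by
  classical
  rw [PsiL_apply]
  congr 1
  · rw [Finset.sum_eq_single i]
    · rw [Pi.single_eq_same]
    · intro j _ hj
      rw [Pi.single_eq_of_ne hj, map_zero, zero_mul]
    · intro h; exact absurd (Finset.mem_univ i) h
  · rw [Finset.sum_eq_single i]
    · rw [Pi.single_eq_same]
    · intro j _ hj
      rw [Pi.single_eq_of_ne hj, map_zero, zero_mul]
    · intro h; exact absurd (Finset.mem_univ i) h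

lemma PsiL_smul (a : PolyNodeRing R (p * q)) (F : Fin (n + 1) → PolyNodeRing R (p * q)) :
    PsiL R p q rU rV n (a • F) =
      (rU a * (PsiL R p q rU rV n F).1, rV a * (PsiL R p q rU rV n F).2) := by
  rw [PsiL_apply, PsiL_apply]
  simp only [Pi.smul_apply, smul_eq_mul, map_mul, mul_assoc, ← Finset.mul_sum]

include hrUx hrUy hrVx hrVy hgUs hgUy hgVt hgVx in
lemma comp_eq : gU.comp rU = gV.comp rV := by
  apply Ideal.Quotient.algHom_ext
  apply MvPolynomial.algHom_ext
  intro i
  fin_cases i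
  · show gU (rU (PolyNodeRing.x R (p * q))) = gV (rV (PolyNodeRing.x R (p * q)))
    rw [hrUx, hrVx, map_mul, hgUs, hgVx, AlgHom.commutes]
    rfl
  · show gU (rU (PolyNodeRing.y R (p * q))) = gV (rV (PolyNodeRing.y R (p * q)))
    rw [hrUy, hrVy, map_mul, hgUy, hgVt, AlgHom.commutes]
    rfl


include hrUx hrUy hrVx hrVy hgUs hgUy hgVt hgVx in
lemma PsiL_mem (F : Fin (n + 1) → PolyNodeRing R (p * q)) :
    gU (PsiL R p q rU rV n F).1 = T (n : ℤ) * gV (PsiL R p q rU rV n F).2 := by
  have hc := comp_eq R p q rU hrUx hrUy rV hrVx hrVy gU hgUs hgUy gV hgVt hgVx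
  rw [PsiL_apply]
  simp only [map_sum, map_mul, map_pow, hgUs, hgVt, Finset.mul_sum]
  apply Finset.sum_congr rfl
  intro i _
  have h1 : gU (rU (F i)) = gV (rV (F i)) := DFunLike.congr_fun hc (F i)
  rw [h1, T_pow, T_pow, mul_left_comm, ← T_add]
  congr 2
  have : (i : ℕ) ≤ n := Nat.lt_succ_iff.mp i.2
  push_cast [Nat.cast_sub this]
  ring

/-- index of the slot of the `k`-th standard section -/
def idx (k : ℤ) : Fin (n + 1) :=
  ⟨min ((n : ℤ) - k).toNat n, Nat.lt_succ_of_le (min_le_right _ _)⟩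

/-- the `k`-th standard section -/
noncomputable def Sk (k : ℤ) : Fin (n + 1) → PolyNodeRing R (p * q) :=
  Pi.single (idx n k)
    (PolyNodeRing.x R (p * q) ^ (k - n).toNat * PolyNodeRing.y R (p * q) ^ (-k).toNat)

/-- the section map -/
noncomputable def S : (ℤ →₀ R) →ₗ[R] (Fin (n + 1) → PolyNodeRing R (p * q)) :=
  Finsupp.linearCombination R (Sk R p q n)

lemma S_single (k : ℤ) (r : R) : S R p q n (Finsupp.single k r) = r • Sk R p q n k := by
  rw [S, Finsupp.linearCombination_single]

include hrUx hrUy in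
lemma U_part (k : ℤ) :
    rU (PolyNodeRing.x R (p * q) ^ (k - n).toNat * PolyNodeRing.y R (p * q) ^ (-k).toNat) *
      PolyNodeRing.x R q ^ (n - ((idx n k : Fin (n + 1)) : ℕ)) =
    (p ^ (k - n).toNat) • std R q k := by
  have hp : (algebraMap R (PolyNodeRing R q) p) ^ (k - n).toNat =
      algebraMap R _ (p ^ (k - n).toNat) := (map_pow _ _ _).symm
  rw [map_mul, map_pow, map_pow, hrUx, hrUy, mul_pow, hp]
  have e1 : algebraMap R (PolyNodeRing R q) (p ^ (k - n).toNat) * PolyNodeRing.x R q ^ (k - n).toNat *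
      PolyNodeRing.y R q ^ (-k).toNat * PolyNodeRing.x R q ^ (n - ((idx n k : Fin (n + 1)) : ℕ)) =
      algebraMap R (PolyNodeRing R q) (p ^ (k - n).toNat) *
        (PolyNodeRing.x R q ^ ((k - n).toNat + (n - ((idx n k : Fin (n + 1)) : ℕ))) *
          PolyNodeRing.y R q ^ (-k).toNat) := by
    rw [pow_add]; ring
  rw [e1, x_pow_mul_y_pow]
  have hidx : ((idx n k : Fin (n + 1)) : ℕ) = min ((n : ℤ) - k).toNat n := rfl
  have e2 : min ((k - n).toNat + (n - ((idx n k : Fin (n + 1)) : ℕ))) (-k).toNat = 0 := by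
    rw [hidx]; omega
  have e3 : (((k - n).toNat + (n - ((idx n k : Fin (n + 1)) : ℕ)) : ℕ) : ℤ) - ((-k).toNat : ℤ) = k := by
    rw [hidx]; omega
  rw [e2, e3, pow_zero, map_one, one_mul]
  exact (Algebra.smul_def _ _).symm

include hrVx hrVy in
lemma V_part (k : ℤ) :
    rV (PolyNodeRing.x R (p * q) ^ (k - n).toNat * PolyNodeRing.y R (p * q) ^ (-k).toNat) *
      PolyNodeRing.x R p ^ ((idx n k : Fin (n + 1)) : ℕ) =
    (q ^ (-k).toNat) • std R p ((n : ℤ) - k) := by
  have hq : (algebraMap R (PolyNodeRing R p) q) ^ (-k).toNat =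
      algebraMap R _ (q ^ (-k).toNat) := (map_pow _ _ _).symm
  rw [map_mul, map_pow, map_pow, hrVx, hrVy, mul_pow, hq]
  have e1 : PolyNodeRing.y R p ^ (k - n).toNat *
      (algebraMap R (PolyNodeRing R p) (q ^ (-k).toNat) * PolyNodeRing.x R p ^ (-k).toNat) *
      PolyNodeRing.x R p ^ ((idx n k : Fin (n + 1)) : ℕ) =
      algebraMap R (PolyNodeRing R p) (q ^ (-k).toNat) *
        (PolyNodeRing.x R p ^ ((-k).toNat + ((idx n k : Fin (n + 1)) : ℕ)) *
          PolyNodeRing.y R p ^ (k - n).toNat) := by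
    rw [pow_add]; ring
  rw [e1, x_pow_mul_y_pow]
  have hidx : ((idx n k : Fin (n + 1)) : ℕ) = min ((n : ℤ) - k).toNat n := rfl
  have e2 : min ((-k).toNat + ((idx n k : Fin (n + 1)) : ℕ)) (k - n).toNat = 0 := by
    rw [hidx]; omega
  have e3 : ((((-k).toNat + ((idx n k : Fin (n + 1)) : ℕ)) : ℕ) : ℤ) - ((k - n).toNat : ℤ) =
      (n : ℤ) - k := by
    rw [hidx]; omega
  rw [e2, e3, pow_zero, map_one, one_mul]
  exact (Algebra.smul_def _ _).symm

include hrUx hrUy hrVx hrVy in
lemma PsiL_Sk (k : ℤ) :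
    PsiL R p q rU rV n (Sk R p q n k) = Phi R p q (n : ℤ) (Finsupp.single k 1) := by
  rw [Sk, PsiL_single, Phi_single, U_part R p q rU hrUx hrUy n k, V_part R p q rV hrVx hrVy n k,
    one_mul, one_mul]
  have h1 : (if k ≤ (n : ℤ) then (1 : R) else p ^ (k - n).toNat) = p ^ (k - n).toNat := by
    split_ifs with h
    · have : (k - n).toNat = 0 := by omega
      rw [this, pow_zero]
    · rfl
  have h2 : (if k ≤ (n : ℤ) then q ^ (-k).toNat else (1 : R)) = q ^ (-k).toNat := by
    split_ifs with h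
    · rfl
    · have : (-k).toNat = 0 := by omega
      rw [this, pow_zero]
  rw [h1, h2]

include hrUx hrUy hrVx hrVy in
lemma PsiL_S (z : ℤ →₀ R) :
    PsiL R p q rU rV n (S R p q n z) = Phi R p q (n : ℤ) z := by
  classical
  induction z using Finsupp.induction_linear with
  | zero => simp
  | add f g hf hg => rw [map_add, map_add, map_add, hf, hg]
  | single k r =>
    rw [S_single, map_smul, PsiL_Sk R p q rU hrUx hrUy rV hrVx hrVy n k, ← map_smul,
      Finsupp.smul_single, smul_eq_mul, mul_one]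


/-- first family of generators -/
noncomputable def gen1 (i : Fin n) : Fin (n + 1) → PolyNodeRing R (p * q) :=
  Pi.single (Fin.castSucc i) (algebraMap R (PolyNodeRing R (p * q)) p) -
    Pi.single (Fin.succ i) (PolyNodeRing.x R (p * q))

/-- second family of generators -/
noncomputable def gen2 (i : Fin n) : Fin (n + 1) → PolyNodeRing R (p * q) :=
  Pi.single (Fin.castSucc i) (PolyNodeRing.y R (p * q)) -
    Pi.single (Fin.succ i) (algebraMap R (PolyNodeRing R (p * q)) q)

/-- the relation module -/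
noncomputable def N : Submodule (PolyNodeRing R (p * q)) (Fin (n + 1) → PolyNodeRing R (p * q)) :=
  Submodule.span _ (Set.range (gen1 R p q n) ∪ Set.range (gen2 R p q n))

/-- the kernel as an `A`-submodule -/
noncomputable def Kr : Submodule (PolyNodeRing R (p * q)) (Fin (n + 1) → PolyNodeRing R (p * q)) where
  carrier := {F | PsiL R p q rU rV n F = 0}
  zero_mem' := map_zero _
  add_mem' := by
    intro a b ha hb
    show PsiL R p q rU rV n (a + b) = 0
    rw [map_add, ha, hb, add_zero]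
  smul_mem' := by
    intro c F hF
    show PsiL R p q rU rV n (c • F) = 0
    rw [PsiL_smul, hF]
    simp

lemma mem_Kr (F : Fin (n + 1) → PolyNodeRing R (p * q)) :
    F ∈ Kr R p q rU rV n ↔ PsiL R p q rU rV n F = 0 := Iff.rfl

include hrUx hrVx in
lemma gen1_mem (i : Fin n) : gen1 R p q n i ∈ Kr R p q rU rV n := by
  rw [mem_Kr, gen1, map_sub, PsiL_single, PsiL_single, hrUx, hrVx, AlgHom.commutes,
    AlgHom.commutes, Prod.mk_sub_mk]
  have hi : (i : ℕ) < n := i.2
  have e1 : n - ((Fin.castSucc i : Fin (n + 1)) : ℕ) = (n - ((Fin.succ i : Fin (n + 1)) : ℕ)) + 1 := by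
    rw [Fin.val_castSucc, Fin.val_succ]; omega
  have e2 : ((Fin.succ i : Fin (n + 1)) : ℕ) = ((Fin.castSucc i : Fin (n + 1)) : ℕ) + 1 := by
    rw [Fin.val_castSucc, Fin.val_succ]
  rw [e1, e2, pow_succ, pow_succ]
  have h3 := xy_eq R p
  ext
  · show _ = (0 : PolyNodeRing R q)
    ring
  · show _ = (0 : PolyNodeRing R p)
    rw [← h3]
    ring

include hrUy hrVy in
lemma gen2_mem (i : Fin n) : gen2 R p q n i ∈ Kr R p q rU rV n := by
  rw [mem_Kr, gen2, map_sub, PsiL_single, PsiL_single, hrUy, hrVy, AlgHom.commutes,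
    AlgHom.commutes, Prod.mk_sub_mk]
  have hi : (i : ℕ) < n := i.2
  have e1 : n - ((Fin.castSucc i : Fin (n + 1)) : ℕ) = (n - ((Fin.succ i : Fin (n + 1)) : ℕ)) + 1 := by
    rw [Fin.val_castSucc, Fin.val_succ]; omega
  have e2 : ((Fin.succ i : Fin (n + 1)) : ℕ) = ((Fin.castSucc i : Fin (n + 1)) : ℕ) + 1 := by
    rw [Fin.val_castSucc, Fin.val_succ]
  rw [e1, e2, pow_succ, pow_succ]
  have h3 := xy_eq R q
  ext
  · show _ = (0 : PolyNodeRing R q)
    rw [← h3]
    ring
  · show _ = (0 : PolyNodeRing R p)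
    ring

include hrUx hrUy hrVx hrVy in
lemma N_le_Kr : N R p q n ≤ Kr R p q rU rV n := by
  rw [N, Submodule.span_le]
  rintro F (⟨i, rfl⟩ | ⟨i, rfl⟩)
  · exact gen1_mem R p q rU hrUx rV hrVx n i
  · exact gen2_mem R p q rU hrUy rV hrVy n i


/-- the `R`-submodule generated by relations and standard sections -/
noncomputable def M' : Submodule R (Fin (n + 1) → PolyNodeRing R (p * q)) :=
  (N R p q n).restrictScalars R ⊔ LinearMap.range (S R p q n)

lemma Sk_mem (k : ℤ) : Sk R p q n k ∈ M' R p q n := by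
  refine Submodule.mem_sup_right ⟨Finsupp.single k 1, ?_⟩
  rw [S_single, one_smul]

lemma N_mem {F : Fin (n + 1) → PolyNodeRing R (p * q)} (hF : F ∈ N R p q n) : F ∈ M' R p q n :=
  Submodule.mem_sup_left hF

lemma single_zero_mem (a : ℕ) :
    (Pi.single (0 : Fin (n + 1)) (PolyNodeRing.x R (p * q) ^ a) :
      Fin (n + 1) → PolyNodeRing R (p * q)) ∈ M' R p q n := by
  have h := Sk_mem R p q n ((n : ℤ) + a)
  have e1 : idx n ((n : ℤ) + a) = 0 := by
    apply Fin.ext
    show min ((n : ℤ) - ((n : ℤ) + a)).toNat n = 0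
    omega
  have e2 : ((n : ℤ) + a - n).toNat = a := by omega
  have e3 : (-((n : ℤ) + a)).toNat = 0 := by omega
  rw [Sk, e1, e2, e3] at h
  simp only [pow_zero, mul_one] at h
  exact h

lemma single_one_mem (i : Fin (n + 1)) :
    (Pi.single i 1 : Fin (n + 1) → PolyNodeRing R (p * q)) ∈ M' R p q n := by
  have hi : (i : ℕ) ≤ n := Nat.lt_succ_iff.mp i.2
  have h := Sk_mem R p q n ((n : ℤ) - (i : ℕ))
  have e1 : idx n ((n : ℤ) - (i : ℕ)) = i := by
    apply Fin.ext
    show min ((n : ℤ) - ((n : ℤ) - (i : ℕ))).toNat n = i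
    omega
  have e2 : ((n : ℤ) - (i : ℕ) - n).toNat = 0 := by omega
  have e3 : (-((n : ℤ) - (i : ℕ))).toNat = 0 := by omega
  rw [Sk, e1, e2, e3] at h
  simp only [pow_zero, mul_one] at h
  exact h

lemma single_last_mem (b : ℕ) :
    (Pi.single (Fin.last n) (PolyNodeRing.y R (p * q) ^ b) :
      Fin (n + 1) → PolyNodeRing R (p * q)) ∈ M' R p q n := by
  rcases Nat.eq_zero_or_pos b with rfl | hb
  · rw [pow_zero]; exact single_one_mem R p q n _
  have h := Sk_mem R p q n (-(b : ℤ))
  have e1 : idx n (-(b : ℤ)) = Fin.last n := by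
    apply Fin.ext
    show min ((n : ℤ) - (-(b : ℤ))).toNat n = n
    omega
  have e2 : (-(b : ℤ) - n).toNat = 0 := by omega
  have e3 : (-(-(b : ℤ))).toNat = b := by omega
  rw [Sk, e1, e2, e3] at h
  simp only [pow_zero, one_mul] at h
  exact h

lemma step_x (i : Fin n) (a : ℕ) :
    (Pi.single (Fin.succ i) (PolyNodeRing.x R (p * q) ^ (a + 1)) :
      Fin (n + 1) → PolyNodeRing R (p * q)) =
    p • (Pi.single (Fin.castSucc i) (PolyNodeRing.x R (p * q) ^ a) :
        Fin (n + 1) → PolyNodeRing R (p * q)) -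
      PolyNodeRing.x R (p * q) ^ a • gen1 R p q n i := by
  have hne : Fin.castSucc i ≠ Fin.succ i := (Fin.castSucc_lt_succ).ne
  have key : ∀ (s : R) (z : PolyNodeRing R (p * q)), s • z = algebraMap R _ s * z :=
    fun s z => Algebra.smul_def s z
  funext j
  simp only [gen1, Pi.sub_apply, Pi.smul_apply, Pi.single_apply, smul_eq_mul]
  by_cases h1 : j = Fin.succ i
  · have h2 : j ≠ Fin.castSucc i := by rw [h1]; exact hne.symm
    simp only [if_pos h1, if_neg h2, smul_zero, mul_zero, pow_succ]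
    ring
  · by_cases h2 : j = Fin.castSucc i
    · simp only [if_neg h1, if_pos h2, key, mul_zero]; ring
    · simp only [if_neg h1, if_neg h2, smul_zero, mul_zero]; ring

lemma step_y (i : Fin n) (b : ℕ) :
    (Pi.single (Fin.castSucc i) (PolyNodeRing.y R (p * q) ^ (b + 1)) :
      Fin (n + 1) → PolyNodeRing R (p * q)) =
    q • (Pi.single (Fin.succ i) (PolyNodeRing.y R (p * q) ^ b) :
        Fin (n + 1) → PolyNodeRing R (p * q)) +
      PolyNodeRing.y R (p * q) ^ b • gen2 R p q n i := by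
  have hne : Fin.castSucc i ≠ Fin.succ i := (Fin.castSucc_lt_succ).ne
  have key : ∀ (s : R) (z : PolyNodeRing R (p * q)), s • z = algebraMap R _ s * z :=
    fun s z => Algebra.smul_def s z
  funext j
  simp only [gen2, Pi.sub_apply, Pi.add_apply, Pi.smul_apply, Pi.single_apply, smul_eq_mul]
  by_cases h1 : j = Fin.succ i
  · have h2 : j ≠ Fin.castSucc i := by rw [h1]; exact hne.symm
    simp only [if_pos h1, if_neg h2, key, mul_zero]
    ring
  · by_cases h2 : j = Fin.castSucc i
    · simp only [if_neg h1, if_pos h2, smul_zero, mul_zero, pow_succ]; ring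
    · simp only [if_neg h1, if_neg h2, smul_zero, mul_zero]; ring

lemma gen1_mem_N (i : Fin n) : gen1 R p q n i ∈ N R p q n :=
  Submodule.subset_span (Or.inl ⟨i, rfl⟩)

lemma gen2_mem_N (i : Fin n) : gen2 R p q n i ∈ N R p q n :=
  Submodule.subset_span (Or.inr ⟨i, rfl⟩)

lemma claimA (m : ℕ) : ∀ (hm : m < n + 1) (a : ℕ),
    (Pi.single (⟨m, hm⟩ : Fin (n + 1)) (PolyNodeRing.x R (p * q) ^ a) :
      Fin (n + 1) → PolyNodeRing R (p * q)) ∈ M' R p q n := by
  induction m with
  | zero =>
    intro hm a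
    exact single_zero_mem R p q n a
  | succ m ih =>
    intro hm a
    rcases Nat.eq_zero_or_pos a with rfl | ha
    · rw [pow_zero]; exact single_one_mem R p q n _
    obtain ⟨a, rfl⟩ : ∃ a', a = a' + 1 := ⟨a - 1, by omega⟩
    have hmn : m < n := by omega
    have e := step_x R p q n ⟨m, hmn⟩ a
    have e1 : (Fin.succ ⟨m, hmn⟩ : Fin (n + 1)) = ⟨m + 1, hm⟩ := rfl
    have e2 : (Fin.castSucc ⟨m, hmn⟩ : Fin (n + 1)) = ⟨m, by omega⟩ := rfl
    rw [e1, e2] at e
    rw [e]
    refine Submodule.sub_mem _ (Submodule.smul_mem _ _ (ih (by omega) a)) (N_mem R p q n ?_)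
    exact Submodule.smul_mem _ _ (gen1_mem_N R p q n _)

lemma claimB (d : ℕ) : ∀ (hd : d ≤ n) (b : ℕ),
    (Pi.single (⟨n - d, by omega⟩ : Fin (n + 1)) (PolyNodeRing.y R (p * q) ^ b) :
      Fin (n + 1) → PolyNodeRing R (p * q)) ∈ M' R p q n := by
  induction d with
  | zero =>
    intro hd b
    exact single_last_mem R p q n b
  | succ d ih =>
    intro hd b
    rcases Nat.eq_zero_or_pos b with rfl | hb
    · rw [pow_zero]; exact single_one_mem R p q n _
    obtain ⟨b, rfl⟩ : ∃ b', b = b' + 1 := ⟨b - 1, by omega⟩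
    have hmn : n - (d + 1) < n := by omega
    have e := step_y R p q n ⟨n - (d + 1), hmn⟩ b
    have e1 : (Fin.succ ⟨n - (d + 1), hmn⟩ : Fin (n + 1)) = ⟨n - d, by omega⟩ := by
      apply Fin.ext
      show n - (d + 1) + 1 = n - d
      omega
    have e2 : (Fin.castSucc ⟨n - (d + 1), hmn⟩ : Fin (n + 1)) = ⟨n - (d + 1), by omega⟩ := rfl
    rw [e1, e2] at e
    rw [e]
    refine Submodule.add_mem _ (Submodule.smul_mem _ _ (ih (by omega) b)) (N_mem R p q n ?_)
    exact Submodule.smul_mem _ _ (gen2_mem_N R p q n _)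

lemma single_std_mem (i : Fin (n + 1)) (k : ℤ) :
    (Pi.single i (std R (p * q) k) : Fin (n + 1) → PolyNodeRing R (p * q)) ∈ M' R p q n := by
  have hi : (i : ℕ) ≤ n := Nat.lt_succ_iff.mp i.2
  unfold std
  split_ifs with hk
  · exact claimA R p q n i.1 i.2 _
  · have h := claimB R p q n (n - i.1) (by omega) (-k).toNat
    have e : (⟨n - (n - i.1), by omega⟩ : Fin (n + 1)) = i := by
      apply Fin.ext
      show n - (n - i.1) = i.1
      omega
    rw [e] at h
    exact h

lemma single_mem (i : Fin (n + 1)) (a : PolyNodeRing R (p * q)) :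
    (Pi.single i a : Fin (n + 1) → PolyNodeRing R (p * q)) ∈ M' R p q n := by
  classical
  obtain ⟨z, rfl⟩ := (nf R (p * q)).symm.surjective a
  induction z using Finsupp.induction_linear with
  | zero => rw [map_zero, Pi.single_zero]; exact Submodule.zero_mem _
  | add f g hf hg =>
    rw [map_add, Pi.single_add]
    exact Submodule.add_mem _ hf hg
  | single k r =>
    rw [nf_symm_single, Pi.single_smul]
    exact Submodule.smul_mem _ _ (single_std_mem R p q n i k)

lemma all_mem (F : Fin (n + 1) → PolyNodeRing R (p * q)) : F ∈ M' R p q n := by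
  classical
  rw [← Finset.univ_sum_single F]
  exact Submodule.sum_mem _ fun i _ => single_mem R p q n i (F i)

include hrUx hrUy hrVx hrVy in
lemma Kr_le_N : Kr R p q rU rV n ≤ N R p q n := by
  intro F hF
  rw [mem_Kr] at hF
  obtain ⟨ν, hν, s, ⟨z, rfl⟩, rfl⟩ := Submodule.mem_sup.mp (all_mem R p q n F)
  have hν' : ν ∈ N R p q n := hν
  have h0 : PsiL R p q rU rV n ν = 0 :=
    (mem_Kr R p q rU rV n ν).mp (N_le_Kr R p q rU hrUx hrUy rV hrVx hrVy n hν')
  rw [map_add, h0, zero_add, PsiL_S R p q rU hrUx hrUy rV hrVx hrVy n z] at hF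
  have hz : z = 0 := Phi_injective R p q (n : ℤ) (by rw [hF, map_zero])
  rw [hz, map_zero, add_zero]
  exact hν'

include hrUx hrUy hrVx hrVy hgUs hgUy hgVt hgVx in
theorem main :
    Set.range (fun F : Fin (n + 1) → PolyNodeRing R (p * q) =>
        (∑ i : Fin (n + 1), rU (F i) * PolyNodeRing.x R q ^ (n - (i : ℕ)),
         ∑ i : Fin (n + 1), rV (F i) * PolyNodeRing.x R p ^ (i : ℕ))) =
      {gf : PolyNodeRing R q × PolyNodeRing R p |
        gU gf.1 = T (n : ℤ) * gV gf.2} ∧
    {F : Fin (n + 1) → PolyNodeRing R (p * q) |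
        (∑ i : Fin (n + 1), rU (F i) * PolyNodeRing.x R q ^ (n - (i : ℕ)),
         ∑ i : Fin (n + 1), rV (F i) * PolyNodeRing.x R p ^ (i : ℕ)) = 0} =
      (Submodule.span (PolyNodeRing R (p * q))
        (Set.range (fun i : Fin n =>
            (Pi.single (Fin.castSucc i) (algebraMap R (PolyNodeRing R (p * q)) p) -
              Pi.single (Fin.succ i) (PolyNodeRing.x R (p * q)) : Fin (n + 1) → PolyNodeRing R (p * q))) ∪
         Set.range (fun i : Fin n =>
            (Pi.single (Fin.castSucc i) (PolyNodeRing.y R (p * q)) -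
              Pi.single (Fin.succ i) (algebraMap R (PolyNodeRing R (p * q)) q) : Fin (n + 1) → PolyNodeRing R (p * q)))) :
        Set (Fin (n + 1) → PolyNodeRing R (p * q))) := by
  constructor
  · ext gf
    constructor
    · rintro ⟨F, rfl⟩
      exact PsiL_mem R p q rU hrUx hrUy rV hrVx hrVy gU hgUs hgUy gV hgVt hgVx n F
    · intro h
      have h' : gU gf.1 = T (n : ℤ) * gV gf.2 := h
      rw [range_Phi R p q (n : ℤ) gU hgUs hgUy gV hgVt hgVx (by omega)] at h'
      obtain ⟨z, rfl⟩ := h'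
      exact ⟨S R p q n z, PsiL_S R p q rU hrUx hrUy rV hrVx hrVy n z⟩
  · have h1 : Kr R p q rU rV n = N R p q n :=
      le_antisymm (Kr_le_N R p q rU hrUx hrUy rV hrVx hrVy n)
        (N_le_Kr R p q rU hrUx hrUy rV hrVx hrVy n)
    exact congrArg (fun (T : Submodule (PolyNodeRing R (p * q)) (Fin (n + 1) → PolyNodeRing R (p * q))) =>
      (T : Set (Fin (n + 1) → PolyNodeRing R (p * q)))) h1

end

end Aux

/-- Let R be a commutative ring and p, q ∈ R; put A = R[x, y]/(xy - pq) and consider the two affine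
charts U = Spec R[s, y]/(sy - q) and V = Spec R[t, x]/(xt - p) of the curve obtained from Spec A by
blowing up as in the (p, q)-construction, glued along R[s, s⁻¹] by t = s⁻¹ (so y = q s⁻¹ on U and x
= p s on V), with the projection to Spec A given by x ↦ p s, y ↦ y on U and x ↦ x, y ↦ q t on V. For
n ≥ 0 the twisting sheaf O(n) is vⁿ O on U and ξⁿ O on V with ξ = s v, so its global sections are
the pairs (g, f) of functions on U and V with g = sⁿ f on U ∩ V. Then the map A^{n+1} → O(U) × O(V)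
sending (F_0, …, F_n), i.e. the section Σ F_i ξ^{n-i} v^i, to (Σ F_i|_U s^{n-i}, Σ F_i|_V t^i) has
image exactly the set of such pairs, and F is sent to zero exactly when it lies in the A-submodule
of A^{n+1} generated by the vectors p e_i - x e_{i+1} and y e_i - q e_{i+1} for 0 ≤ i < n (e_0, …,
e_n the standard basis). So the global sections of O(n) form the degree-n piece of A[ξ, v]/(p ξ - x
v, q v - y ξ). For n = 0 this says that a ↦ (a|_U, a|_V) is injective on A with image the pairs of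
functions that agree on U ∩ V, so that the functions on the blown-up curve are exactly the functions
on Spec A (the direct image of its structure sheaf is the structure sheaf of Spec A); for n = 1 it
presents the global sections of O(1) as A ξ ⊕ A v modulo the relations p ξ = x v and y ξ = q v. Here
R[s, y]/(sy - q) and R[t, x]/(xt - p) are both written as the quotient of the polynomial ring in two
variables by (first variable)·(second variable) - constant, the homomorphisms rU, rV are the
restriction maps from A to the two charts and gU, gV the restriction maps from the charts to their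
intersection R[s, s⁻¹] (Laurent polynomials), each pinned by its values on the two generators. (The
published setting has R complete local and p, q in the maximal ideal, and reduces to this polynomial
computation, which uses neither.) -/
theorem result (R : Type u) [CommRing R] (p q : R)
    (rU : SpinCurv.PolyNodeRing R (p * q) →ₐ[R] SpinCurv.PolyNodeRing R q)
    (hrUx : rU (SpinCurv.PolyNodeRing.x R (p * q)) = algebraMap R _ p * SpinCurv.PolyNodeRing.x R q)
    (hrUy : rU (SpinCurv.PolyNodeRing.y R (p * q)) = SpinCurv.PolyNodeRing.y R q)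
    (rV : SpinCurv.PolyNodeRing R (p * q) →ₐ[R] SpinCurv.PolyNodeRing R p)
    (hrVx : rV (SpinCurv.PolyNodeRing.x R (p * q)) = SpinCurv.PolyNodeRing.y R p)
    (hrVy : rV (SpinCurv.PolyNodeRing.y R (p * q)) = algebraMap R _ q * SpinCurv.PolyNodeRing.x R p)
    (gU : SpinCurv.PolyNodeRing R q →ₐ[R] LaurentPolynomial R)
    (hgUs : gU (SpinCurv.PolyNodeRing.x R q) = LaurentPolynomial.T 1)
    (hgUy : gU (SpinCurv.PolyNodeRing.y R q) = LaurentPolynomial.C q * LaurentPolynomial.T (-1))
    (gV : SpinCurv.PolyNodeRing R p →ₐ[R] LaurentPolynomial R)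
    (hgVt : gV (SpinCurv.PolyNodeRing.x R p) = LaurentPolynomial.T (-1))
    (hgVx : gV (SpinCurv.PolyNodeRing.y R p) = LaurentPolynomial.C p * LaurentPolynomial.T 1) (n : ℕ) :
    Set.range (fun F : Fin (n + 1) → SpinCurv.PolyNodeRing R (p * q) =>
        (∑ i : Fin (n + 1), rU (F i) * SpinCurv.PolyNodeRing.x R q ^ (n - (i : ℕ)),
         ∑ i : Fin (n + 1), rV (F i) * SpinCurv.PolyNodeRing.x R p ^ (i : ℕ))) =
      {gf : SpinCurv.PolyNodeRing R q × SpinCurv.PolyNodeRing R p |
        gU gf.1 = LaurentPolynomial.T (n : ℤ) * gV gf.2} ∧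
    {F : Fin (n + 1) → SpinCurv.PolyNodeRing R (p * q) |
        (∑ i : Fin (n + 1), rU (F i) * SpinCurv.PolyNodeRing.x R q ^ (n - (i : ℕ)),
         ∑ i : Fin (n + 1), rV (F i) * SpinCurv.PolyNodeRing.x R p ^ (i : ℕ)) = 0} =
      (Submodule.span (SpinCurv.PolyNodeRing R (p * q))
        (Set.range (fun i : Fin n =>
            (Pi.single (Fin.castSucc i) (algebraMap R (SpinCurv.PolyNodeRing R (p * q)) p) -
              Pi.single (Fin.succ i) (SpinCurv.PolyNodeRing.x R (p * q)) : Fin (n + 1) → SpinCurv.PolyNodeRing R (p * q))) ∪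
         Set.range (fun i : Fin n =>
            (Pi.single (Fin.castSucc i) (SpinCurv.PolyNodeRing.y R (p * q)) -
              Pi.single (Fin.succ i) (algebraMap R (SpinCurv.PolyNodeRing R (p * q)) q) : Fin (n + 1) → SpinCurv.PolyNodeRing R (p * q)))) :
        Set (Fin (n + 1) → SpinCurv.PolyNodeRing R (p * q))) := by
  exact Aux.main R p q rU hrUx hrUy rV hrVx hrVy gU hgUs hgUy gV hgVt hgVx n

end Groth.Agent.S18437
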