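import Groth.Statements.S18457
import Mathlib

set_option autoImplicit false
open Finset
open Surf

namespace Groth.Agent.S18457

section
open Finset

theorem sum_sq (n : ℕ) (a : Fin n → ℤ) (α β : ℤ) :
    ∑ i, (α * a i - β) ^ 2 = α ^ 2 * ∑ i, (a i) ^ 2 - 2 * α * β * ∑ i, a i + n * β ^ 2 := by
  have h : ∀ i, (α * a i - β) ^ 2 = α ^ 2 * (a i) ^ 2 - 2 * α * β * a i + β ^ 2 := by
    intro i
    ring
  simp_rw [h]
  rw [Finset.sum_add_distrib, Finset.sum_sub_distrib, ← Finset.mul_sum, ← Finset.mul_sum,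
    Finset.sum_const, Finset.card_univ, Fintype.card_fin, nsmul_eq_mul]

theorem sum_prod (n : ℕ) (a : Fin n → ℤ) :
    ∑ i, a i * (a i - 1) = ∑ i, (a i) ^ 2 - ∑ i, a i := by
  rw [← Finset.sum_sub_distrib]
  apply Finset.sum_congr rfl
  intro i _
  ring

theorem term_nonneg (x : ℤ) (hx : 0 ≤ x) : 0 ≤ x * (x - 1) := by
  rcases eq_or_lt_of_le hx with h | h
  · rw [← h]; norm_num
  · have : 0 ≤ x - 1 := by omega
    exact mul_nonneg hx this

theorem zero_one_of (x : ℤ) (h : x * (x - 1) = 0) : x = 0 ∨ x = 1 := by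
  rcases mul_eq_zero.mp h with h | h
  · exact Or.inl h
  · right; omega

theorem card_ones (n : ℕ) (a : Fin n → ℤ) (h01 : ∀ i, a i = 0 ∨ a i = 1) :
    ((Finset.univ.filter (fun i => a i = 1)).card : ℤ) = ∑ i, a i := by
  rw [Finset.card_filter]
  push_cast
  apply Finset.sum_congr rfl
  intro i _
  rcases h01 i with h | h
  · rw [h]; simp
  · rw [h]; simp

theorem main (n : ℕ) (hn : n ≤ 8)
    (d : ℤ) (a : Fin n → ℤ) (ha : ∀ i, 0 ≤ a i)
    (hsq : d ^ 2 - ∑ i, (a i) ^ 2 = -2) (hK : 3 * d = ∑ i, a i) :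
    (d = 1 ∧ (∀ i, a i = 0 ∨ a i = 1) ∧ (Finset.univ.filter (fun i => a i = 1)).card = 3) ∨
      (d = 2 ∧ (∀ i, a i = 0 ∨ a i = 1) ∧ (Finset.univ.filter (fun i => a i = 1)).card = 6) ∨
      (d = 3 ∧ n = 8 ∧ ∃ j, a j = 2 ∧ ∀ i, i ≠ j → a i = 1) := by
  have hS2 : ∑ i, (a i) ^ 2 = d ^ 2 + 2 := by linarith
  have hS1 : ∑ i, a i = 3 * d := hK.symm
  have hd0 : 0 ≤ d := by
    have : 0 ≤ ∑ i, a i := Finset.sum_nonneg (fun i _ => ha i)
    linarith
  have hd4 : d ≤ 4 := by
    have h1 := sum_sq n a 8 (3 * d)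
    have h2 : 0 ≤ ∑ i, (8 * a i - 3 * d) ^ 2 := Finset.sum_nonneg (fun i _ => sq_nonneg _)
    rw [h1, hS2, hS1] at h2
    have hn' : (n : ℤ) ≤ 8 := by exact_mod_cast hn
    have h3 : (n : ℤ) * (3 * d) ^ 2 ≤ 8 * (3 * d) ^ 2 :=
      mul_le_mul_of_nonneg_right hn' (sq_nonneg _)
    nlinarith
  have hprod : ∑ i, a i * (a i - 1) = d ^ 2 + 2 - 3 * d := by
    rw [sum_prod, hS2, hS1]
  have hnn : ∀ i ∈ (Finset.univ : Finset (Fin n)), 0 ≤ a i * (a i - 1) :=
    fun i _ => term_nonneg _ (ha i)
  interval_cases d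
  · -- d = 0
    exfalso
    have h0 : ∀ i ∈ (Finset.univ : Finset (Fin n)), a i = 0 :=
      (Finset.sum_eq_zero_iff_of_nonneg (fun i _ => ha i)).mp (by rw [hS1]; norm_num)
    have : ∑ i, (a i) ^ 2 = 0 := by
      apply Finset.sum_eq_zero
      intro i hi
      rw [h0 i hi]
      norm_num
    rw [this] at hS2
    norm_num at hS2
  · -- d = 1
    left
    have h0 := (Finset.sum_eq_zero_iff_of_nonneg hnn).mp (by rw [hprod]; norm_num)
    have h01 : ∀ i, a i = 0 ∨ a i = 1 := fun i => zero_one_of _ (h0 i (Finset.mem_univ i))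
    refine ⟨rfl, h01, ?_⟩
    have := card_ones n a h01
    rw [hS1] at this
    exact_mod_cast this
  · -- d = 2
    right; left
    have h0 := (Finset.sum_eq_zero_iff_of_nonneg hnn).mp (by rw [hprod]; norm_num)
    have h01 : ∀ i, a i = 0 ∨ a i = 1 := fun i => zero_one_of _ (h0 i (Finset.mem_univ i))
    refine ⟨rfl, h01, ?_⟩
    have := card_ones n a h01
    rw [hS1] at this
    exact_mod_cast this
  · -- d = 3
    right; right
    have hp2 : ∑ i, a i * (a i - 1) = 2 := by rw [hprod]; norm_num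
    obtain ⟨j, hj⟩ : ∃ j, a j * (a j - 1) ≠ 0 := by
      by_contra hcon
      have hall : ∀ j, a j * (a j - 1) = 0 := by
        intro j
        by_contra hj
        exact hcon ⟨j, hj⟩
      have : ∑ i, a i * (a i - 1) = 0 := Finset.sum_eq_zero (fun i _ => hall i)
      rw [this] at hp2
      norm_num at hp2
    have hjle : a j * (a j - 1) ≤ 2 := by
      rw [← hp2]
      exact Finset.single_le_sum hnn (Finset.mem_univ j)
    have haj : a j = 2 := by
      have h1 := ha j
      have h2 : 2 ≤ a j := by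
        by_contra hlt
        have : a j = 0 ∨ a j = 1 := by omega
        rcases this with h | h <;> rw [h] at hj <;> norm_num at hj
      by_contra hne
      have h3 : 3 ≤ a j := by omega
      nlinarith
    have hrest : ∑ i ∈ Finset.univ.erase j, a i * (a i - 1) = 0 := by
      have := Finset.add_sum_erase Finset.univ (fun i => a i * (a i - 1)) (Finset.mem_univ j)
      rw [hp2, haj] at this
      linarith
    have h0 := (Finset.sum_eq_zero_iff_of_nonneg
      (fun i hi => hnn i (Finset.mem_univ i))).mp hrest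
    have h01 : ∀ i, i ≠ j → (a i = 0 ∨ a i = 1) := fun i hi =>
      zero_one_of _ (h0 i (Finset.mem_erase.mpr ⟨hi, Finset.mem_univ i⟩))
    have hsum7 : ∑ i ∈ Finset.univ.erase j, a i = 7 := by
      have := Finset.add_sum_erase Finset.univ (fun i => a i) (Finset.mem_univ j)
      rw [hS1, haj] at this
      linarith
    have hcard : ((Finset.univ.erase j).card : ℤ) = (n : ℤ) - 1 := by
      rw [Finset.card_erase_of_mem (Finset.mem_univ j), Finset.card_univ, Fintype.card_fin]
      have : 1 ≤ n := by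
        rcases Nat.eq_zero_or_pos n with h | h
        · subst h
          exact j.elim0
        · exact h
      push_cast [Nat.cast_sub this]
      ring
    have hsum1 : ∑ i ∈ Finset.univ.erase j, (1 - a i) = (n : ℤ) - 1 - 7 := by
      rw [Finset.sum_sub_distrib, hsum7, Finset.sum_const, nsmul_eq_mul, mul_one, hcard]
    have hnn1 : ∀ i ∈ Finset.univ.erase j, 0 ≤ 1 - a i := by
      intro i hi
      rcases h01 i (Finset.mem_erase.mp hi).1 with h | h <;> rw [h] <;> norm_num
    have hge : 0 ≤ (n : ℤ) - 1 - 7 := by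
      rw [← hsum1]
      exact Finset.sum_nonneg hnn1
    have hn8 : n = 8 := by
      have hn' : (n : ℤ) ≤ 8 := by exact_mod_cast hn
      have : (n : ℤ) = 8 := by linarith
      exact_mod_cast this
    have hz := (Finset.sum_eq_zero_iff_of_nonneg hnn1).mp (by rw [hsum1, hn8]; norm_num)
    refine ⟨rfl, hn8, j, haj, ?_⟩
    intro i hi
    have := hz i (Finset.mem_erase.mpr ⟨hi, Finset.mem_univ i⟩)
    linarith
  · -- d = 4
    exfalso
    have h1 := sum_sq n a 2 3
    rw [hS2, hS1] at h1
    have hn' : (n : ℤ) ≤ 8 := by exact_mod_cast hn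
    have hle : ∑ i, (2 * a i - 3) ^ 2 ≤ 0 := by
      rw [h1]
      nlinarith
    have hz := (Finset.sum_eq_zero_iff_of_nonneg (fun i _ => sq_nonneg (2 * a i - 3))).mp
      (le_antisymm hle (Finset.sum_nonneg (fun i _ => sq_nonneg _)))
    rcases Nat.eq_zero_or_pos n with h | h
    · subst h
      simp at hS1
    · have h2 := hz ⟨0, h⟩ (Finset.mem_univ _)
      have h3 : 2 * a ⟨0, h⟩ - 3 = 0 := by
        exact pow_eq_zero_iff (two_ne_zero) |>.mp h2
      omega


end


/-- In the Picard lattice of the plane blown up at n ≤ 8 points, with basis h, e_1, …, e_n, form h² = 1,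
e_i² = −1, all other products 0, and anticanonical class D = 3h − Σ e_i, let d·h − Σ a_i e_i be a
class with all a_i ≥ 0 (the class of the strict transform of a degree-d plane curve having
multiplicity a_i at the i-th point) which is a (−2)-class orthogonal to D, that is d² − Σ a_i² = −2
and 3d = Σ a_i. Then one of the following holds: d = 1 and every a_i is 0 or 1 with exactly three
equal to 1; d = 2 and every a_i is 0 or 1 with exactly six equal to 1; d = 3, n = 8, and one a_i
equals 2 while the remaining seven equal 1. The published statement is geometric: under the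
general-position hypotheses on the points, no smooth rational curve on the blown-up plane is
orthogonal to D; this row is the lattice enumeration its proof carries out (a line through three of
the points, a conic through six, a cubic through all eight and singular at one). -/
theorem result (n : ℕ) (hn : n ≤ 8)
    (d : ℤ) (a : Fin n → ℤ) (ha : ∀ i, 0 ≤ a i)
    (hsq : d ^ 2 - ∑ i, (a i) ^ 2 = -2) (hK : 3 * d = ∑ i, a i) :
    (d = 1 ∧ (∀ i, a i = 0 ∨ a i = 1) ∧ (Finset.univ.filter (fun i => a i = 1)).card = 3) ∨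
      (d = 2 ∧ (∀ i, a i = 0 ∨ a i = 1) ∧ (Finset.univ.filter (fun i => a i = 1)).card = 6) ∨
      (d = 3 ∧ n = 8 ∧ ∃ j, a j = 2 ∧ ∀ i, i ≠ j → a i = 1) := by
  classical
  exact main n hn d a ha hsq hK

end Groth.Agent.S18457
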