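import Groth.Statements.S18463
import Mathlib
import Groth.Agent.Lib.Helper1.NegCfg2

set_option autoImplicit false
universe u
open CategoryTheory CategoryTheory.Limits AlgebraicGeometry TopologicalSpace
open Surf

namespace Groth.Agent.S18463

/-- Let k be an algebraically closed field of characteristic zero and X a smooth projective surface over
k (integral, proper and smooth over k, of dimension 2, carrying an ample invertible module). Let
C_1, …, C_r be pairwise distinct integral curves on X with ideal sheaves I_i and negative definite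
intersection matrix (Σ_{i,j} a_i a_j (I_i·I_j) < 0 for every nonzero integer vector a, where (A·B) =
χ(O_X) − χ(A) − χ(B) + χ(A ⊗ B)), let F be an effective Cartier divisor on X, with ideal I_F, none
of whose components is a C_i, and let s_1, …, s_r be integers such that F is numerically equivalent
to Σ_i s_i C_i: (I_F·M) = Σ_i s_i (I_i·M) for every invertible O_X-module M (equivalently (F·D) = Σ
s_i (C_i·D) for every divisor D). Then F = 0, i.e. I_F = O_X, and every s_i is 0. The published
statement writes the hypothesis as [F] + Σ s_i[C_i] = 0 with real s_i; this row writes F ≡ Σ s_i C_i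
with integer s_i, which is the same after changing the signs of the s_i. -/
theorem result (k : Type u) [Field k] [IsAlgClosed k] [CharZero k]
    (X : Scheme.{u}) [X.Over (Spec (CommRingCat.of k))] [IsProper (X ↘ (Spec (CommRingCat.of k)))]
    [Smooth (X ↘ (Spec (CommRingCat.of k)))] [IsIntegral X] (hdim : topologicalKrullDim X = 2)
    (hproj : ∃ H : X.Modules, CohB1.IsAmple H)
    (r : ℕ) (C : Fin r → X.IdealSheafData) (hC : Function.Injective C)
    (hCi : ∀ i, IsIntegral (C i).subscheme) (hCd : ∀ i, topologicalKrullDim ((C i).support : Set X) = 1)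
    (hneg : ∀ a : Fin r → ℤ, a ≠ 0 →
      ∑ i, ∑ j, a i * a j * FGA.intNum k X 2 ![(ClSub.idealMod (C i)), (ClSub.idealMod (C j))] (Coh.structureModule X) < 0)
    (F : X.IdealSheafData) (hF : FGA.IsEffCartier F) (hFC : ∀ i, ¬ ((C i).support : Set X) ⊆ (F.support : Set X))
    (s : Fin r → ℤ)
    (hnum : ∀ M : X.Modules, PicF.IsInvertible M →
      FGA.intNum k X 2 ![(ClSub.idealMod F), M] (Coh.structureModule X) =
        ∑ i, s i * FGA.intNum k X 2 ![(ClSub.idealMod (C i)), M] (Coh.structureModule X)) :
    F = ⊤ ∧ ∀ i, s i = 0 := by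
  obtain ⟨H, hH⟩ := hproj
  haveI : AlgebraicGeometry.IsNoetherian X := Groth.Agent.Helper1.Euler.isNoetherian_of_proper k X
  have hFinv : PicF.IsInvertible (ClSub.idealMod F) := (Groth.Agent.S8914.result F).2 hF
  have hd2 : topologicalKrullDim X ≤ ((2 : ℕ) : WithBot ℕ∞) := by rw [hdim]; exact le_of_eq rfl
  have hIinv : ∀ j, PicF.IsInvertible (ClSub.idealMod (C j)) := fun j =>
    Groth.Agent.Helper1.SurfCurve.isInvertible_idealMod_curve k X hdim (C j) (hCi j) (hCd j)
  obtain ⟨h1, h2⟩ := Groth.Agent.Helper1.NegDef.intNum_effCartier_ample k X hdim F hF H hH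
  have key := Groth.Agent.Helper1.NegDef.alg3
    (fun i j => FGA.intNum k X 2 ![(ClSub.idealMod (C i)), (ClSub.idealMod (C j))]
      (Coh.structureModule X)) ?_ hneg
    (fun i => FGA.intNum k X 2 ![(ClSub.idealMod (C i)), H] (Coh.structureModule X)) ?_
    (fun j => FGA.intNum k X 2 ![(ClSub.idealMod F), (ClSub.idealMod (C j))]
      (Coh.structureModule X)) ?_ s (fun j => hnum _ (hIinv j))
    (FGA.intNum k X 2 ![(ClSub.idealMod F), H] (Coh.structureModule X)) h1 (hnum H hH.1)
  · exact ⟨h2 key.1, key.2⟩
  · intro i j hij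
    exact Groth.Agent.Helper1.NegDef.intNum_distinct_nonneg k X hdim (C i) (C j) (hCi i) (hCi j)
      (hCd i) (hCd j) (fun h => hij (hC h))
  · intro i
    exact Groth.Agent.Helper1.NegDef.intNum_ideal_ample_neg k X hdim (C i) (hCd i) H hH
  · intro j
    change 0 ≤ FGA.intNum k X 2 ![(ClSub.idealMod F), (ClSub.idealMod (C j))]
      (Coh.structureModule X)
    rw [Groth.Agent.Helper1.SurfHodge.intNum_symm k X hdim _ _ hFinv (hIinv j),
      Groth.Agent.Helper1.SurfCurve.intNum_ideal_eq_neg_curveInt k X hd2 (C j) (ClSub.idealMod F)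
        hFinv]
    have := Groth.Agent.Helper1.NegDef.curveInt_ideal_nonpos k X (C j) F (hCi j) (hCd j) hFinv
      (Groth.Agent.Helper1.NegDef.generic_notMem_of_not_subset X (C j) (hCi j) _
        F.support.isClosed (hFC j))
    linarith

end Groth.Agent.S18463
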