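import Groth.Statements.S18465
import Mathlib

set_option autoImplicit false
universe u v w x
open WildLef

namespace Groth.Agent.S18465

namespace H18465

theorem main {G₁ : Type u} {G₂ : Type v} {Γ : Type w} [Group G₁] [Group G₂] [Group Γ]
    (f : G₁ →* G₂) (ρ : G₂ →* Γ) [Finite ρ.range] (A : Type x) [CommRing A] [Nontrivial A]
    (h : {x : MonoidAlgebra A ρ.range | ∀ g : G₁, MonoidAlgebra.of A ρ.range (ρ.rangeRestrict (f g)) * x = x} =
      {x : MonoidAlgebra A ρ.range | ∀ g : G₂, MonoidAlgebra.of A ρ.range (ρ.rangeRestrict g) * x = x}) :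
    (ρ.comp f).range = ρ.range := by
  classical
  apply le_antisymm
  · rintro _ ⟨g, rfl⟩
    exact ⟨f g, rfl⟩
  rintro _ ⟨g, rfl⟩
  -- the subgroup H₁ of ρ.range
  let H₁ : Subgroup ρ.range := (ρ.rangeRestrict.comp f).range
  -- indicator of H₁
  let x : MonoidAlgebra A ρ.range :=
    MonoidAlgebra.ofCoeff (Finsupp.equivFunOnFinite.symm (fun b => if b ∈ H₁ then (1 : A) else 0))
  have hx : ∀ b, x.coeff b = if b ∈ H₁ then (1 : A) else 0 := fun b => rfl
  have hmem : x ∈ {x : MonoidAlgebra A ρ.range | ∀ g : G₁,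
      MonoidAlgebra.of A ρ.range (ρ.rangeRestrict (f g)) * x = x} := by
    intro g₁
    rw [← MonoidAlgebra.coeff_inj]
    ext b
    have : MonoidAlgebra.of A ρ.range (ρ.rangeRestrict (f g₁)) =
        MonoidAlgebra.single (ρ.rangeRestrict (f g₁)) 1 := rfl
    rw [this, MonoidAlgebra.coeff_single_mul_apply, one_mul, hx, hx]
    have hg : ρ.rangeRestrict (f g₁) ∈ H₁ := ⟨g₁, rfl⟩
    have : (ρ.rangeRestrict (f g₁))⁻¹ * b ∈ H₁ ↔ b ∈ H₁ := by
      constructor
      · intro hb
        have := H₁.mul_mem hg hb
        rwa [mul_inv_cancel_left] at this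
      · intro hb
        exact H₁.mul_mem (H₁.inv_mem hg) hb
    simp only [this]
  rw [h] at hmem
  have h2 := hmem g
  have h3 := congrArg (fun y => y.coeff (ρ.rangeRestrict g)) h2
  have : MonoidAlgebra.of A ρ.range (ρ.rangeRestrict g) =
      MonoidAlgebra.single (ρ.rangeRestrict g) 1 := rfl
  rw [this, MonoidAlgebra.coeff_single_mul_apply, one_mul, inv_mul_cancel, hx, hx,
    if_pos H₁.one_mem] at h3
  have hg : ρ.rangeRestrict g ∈ H₁ := by
    by_contra hne
    rw [if_neg hne] at h3
    exact one_ne_zero h3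
  obtain ⟨g₁, hg₁⟩ := hg
  refine ⟨g₁, ?_⟩
  have := congrArg Subtype.val hg₁
  simpa using this

end H18465

/-- Let f : G₁ → G₂ be a homomorphism of groups, ρ : G₂ → Γ a homomorphism with finite image G, and A a
nontrivial commutative ring. Let G₂ act on the group algebra A[G] through ρ followed by the left
regular representation, and G₁ through f. If the elements of A[G] fixed by G₁ coincide with those
fixed by G₂, then ρ ∘ f and ρ have the same image. (The published statement has Γ a general linear
group GL_r(A); over the zero ring that group is trivial, so requiring A nontrivial and allowing any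
target group loses nothing.) -/
theorem result
    {G₁ : Type u} {G₂ : Type v} {Γ : Type w} [Group G₁] [Group G₂] [Group Γ]
    (f : G₁ →* G₂) (ρ : G₂ →* Γ) [Finite ρ.range] (A : Type x) [CommRing A] [Nontrivial A]
    (h : {x : MonoidAlgebra A ρ.range | ∀ g : G₁, MonoidAlgebra.of A ρ.range (ρ.rangeRestrict (f g)) * x = x} =
      {x : MonoidAlgebra A ρ.range | ∀ g : G₂, MonoidAlgebra.of A ρ.range (ρ.rangeRestrict g) * x = x}) :
    (ρ.comp f).range = ρ.range := by
  exact H18465.main f ρ A h

end Groth.Agent.S18465
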