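import Groth.Statements.S18467
import Mathlib

set_option autoImplicit false
universe u
open Hopf

namespace Groth.Agent.S18467

section


open MonoidAlgebra

/-- sum of a character vanishing when some value minus one is a unit -/
theorem sum_char_eq_zero {G : Type*} [Group G] [Fintype G] {R : Type*} [CommRing R]
    (θ : G →* Rˣ) (g : G) (hg : IsUnit ((θ g : R) - 1)) : ∑ m : G, (θ m : R) = 0 := by
  have h1 : (θ g : R) * ∑ m : G, (θ m : R) = ∑ m : G, (θ m : R) := by
    rw [Finset.mul_sum]
    refine Fintype.sum_equiv (Equiv.mulLeft g) _ _ ?_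
    intro m
    simp [map_mul]
  have h2 : ((θ g : R) - 1) * ∑ m : G, (θ m : R) = 0 := by
    rw [sub_mul, one_mul, h1, sub_self]
  exact (hg.mul_right_eq_zero).1 h2

theorem mul_formula {G : Type*} [Group G] [Fintype G] [DecidableEq G] {R : Type*} [CommRing R]
    (a b : G → R) :
    (∑ m : G, MonoidAlgebra.single m (a m)) * (∑ m : G, MonoidAlgebra.single m (b m)) =
      ∑ t : G, MonoidAlgebra.single t (∑ m : G, a m * b (m⁻¹ * t)) := by
  rw [Finset.sum_mul_sum]
  have h1 : ∀ m : G, ∑ m' : G, (MonoidAlgebra.single m (a m) * MonoidAlgebra.single m' (b m') : MonoidAlgebra R G) =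
      ∑ t : G, MonoidAlgebra.single t (a m * b (m⁻¹ * t)) := by
    intro m
    refine Fintype.sum_equiv (Equiv.mulLeft m) _ _ ?_
    intro m'
    rw [MonoidAlgebra.single_mul_single]
    simp
  rw [Finset.sum_congr rfl (fun m _ => h1 m), Finset.sum_comm]
  apply Finset.sum_congr rfl
  intro t _
  exact (map_sum (MonoidAlgebra.singleAddHom t) (fun m => a m * b (m⁻¹ * t)) Finset.univ).symm


theorem main
    (p : ℕ) [Fact p.Prime] (R : Type u) [CommRing R] (u : R) (hu : u * ((p - 1 : ℕ) : R) = 1)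
    (χ : (ZMod p)ˣ →* Rˣ) (hχ : ∀ m : (ZMod p)ˣ, m ≠ 1 → IsUnit ((χ m : R) - 1)) :
    CompleteOrthogonalIdempotents (fun i : Fin (p - 1) =>
      u • ∑ m : (ZMod p)ˣ, ((χ m⁻¹ : Rˣ) : R) ^ (i : ℕ) • MonoidAlgebra.of R (ZMod p)ˣ m) := by
  classical
  set G := (ZMod p)ˣ with hG
  have hcard : Fintype.card G = p - 1 := ZMod.card_units p
  -- rewrite e_i
  set E : ℕ → MonoidAlgebra R G := fun i => ∑ m : G, MonoidAlgebra.single m (((χ m⁻¹ : Rˣ) : R) ^ i)
    with hE
  have he : ∀ i : Fin (p - 1),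
      (u • ∑ m : G, ((χ m⁻¹ : Rˣ) : R) ^ (i : ℕ) • MonoidAlgebra.of R G m) = u • E i := by
    intro i
    congr 1
    apply Finset.sum_congr rfl
    intro m _
    rw [MonoidAlgebra.of_apply, MonoidAlgebra.smul_single', mul_one]
  have he' : (fun i : Fin (p - 1) =>
      u • ∑ m : G, ((χ m⁻¹ : Rˣ) : R) ^ (i : ℕ) • MonoidAlgebra.of R G m) = fun i : Fin (p - 1) => u • E (i : ℕ) :=
    funext he
  change CompleteOrthogonalIdempotents (fun i : Fin (p - 1) =>
      u • ∑ m : G, ((χ m⁻¹ : Rˣ) : R) ^ (i : ℕ) • MonoidAlgebra.of R G m)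
  rw [he', CompleteOrthogonalIdempotents.iff_ortho_complete]
  -- generator
  obtain ⟨g, hg⟩ := IsCyclic.exists_generator (α := G)
  have hord : orderOf g = p - 1 := by
    rw [orderOf_eq_card_of_forall_mem_zpowers hg, Nat.card_eq_fintype_card, hcard]
  constructor
  · intro i j hij
    change (u • E i) * (u • E j) = 0
    rw [smul_mul_smul_comm]
    have hEE : E i * E j = 0 := by
      rw [hE]
      simp only
      rw [mul_formula]
      apply Finset.sum_eq_zero
      intro t _
      -- the character θ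
      let θ : G →* Rˣ := (χ⁻¹) ^ (i : ℕ) * χ ^ (j : ℕ)
      have hθ : ∀ m : G, ((χ m⁻¹ : Rˣ) : R) ^ (i : ℕ) * ((χ (m⁻¹ * t)⁻¹ : Rˣ) : R) ^ (j : ℕ) =
          (θ m : R) * ((χ t⁻¹ : Rˣ) : R) ^ (j : ℕ) := by
        intro m
        have e1 : (m⁻¹ * t)⁻¹ = m * t⁻¹ := by rw [mul_inv_rev, inv_inv, mul_comm]
        rw [e1, map_mul, Units.val_mul, mul_pow]
        have e2 : (θ m : R) = ((χ m⁻¹ : Rˣ) : R) ^ (i : ℕ) * ((χ m : Rˣ) : R) ^ (j : ℕ) := by
          simp [θ, map_inv]
        rw [e2]
        ring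
      rw [Finset.sum_congr rfl (fun m _ => hθ m), ← Finset.sum_mul]
      have hne : (g ^ (i : ℕ))⁻¹ * g ^ (j : ℕ) ≠ 1 := by
        intro h
        have h' : g ^ (j : ℕ) = g ^ (i : ℕ) := by
          have := congrArg (fun x => g ^ (i : ℕ) * x) h
          simpa using this
        have hinj := pow_injOn_Iio_orderOf (x := g)
        have hi : (i : ℕ) ∈ Set.Iio (orderOf g) := by rw [hord]; exact i.2
        have hj : (j : ℕ) ∈ Set.Iio (orderOf g) := by rw [hord]; exact j.2
        have := hinj hj hi h'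
        exact hij (Fin.ext this.symm)
      have hunit : IsUnit ((θ g : R) - 1) := by
        have : θ g = χ ((g ^ (i : ℕ))⁻¹ * g ^ (j : ℕ)) := by
          simp [θ, map_mul, map_inv, map_pow]
        rw [this]
        exact hχ _ hne
      rw [sum_char_eq_zero θ g hunit, zero_mul, MonoidAlgebra.single_zero]
    rw [hEE, smul_zero]
  · rw [← Finset.smul_sum]
    have h1 : ∑ i : Fin (p - 1), E i =
        ∑ m : G, MonoidAlgebra.single m (∑ i ∈ Finset.range (p - 1), ((χ m⁻¹ : Rˣ) : R) ^ i) := by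
      rw [hE]
      simp only
      rw [Finset.sum_comm]
      apply Finset.sum_congr rfl
      intro m _
      rw [← Fin.sum_univ_eq_sum_range (fun i => ((χ m⁻¹ : Rˣ) : R) ^ i) (p - 1)]
      exact (map_sum (MonoidAlgebra.singleAddHom m) (fun i : Fin (p - 1) => ((χ m⁻¹ : Rˣ) : R) ^ (i : ℕ))
        Finset.univ).symm
    rw [h1]
    have h2 : ∀ m : G, m ≠ 1 → ∑ i ∈ Finset.range (p - 1), ((χ m⁻¹ : Rˣ) : R) ^ i = 0 := by
      intro m hm
      have hm' : m⁻¹ ≠ 1 := by simpa using hm
      have hgeo := geom_sum_mul (((χ m⁻¹ : Rˣ) : R)) (p - 1)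
      have hpow : ((χ m⁻¹ : Rˣ) : R) ^ (p - 1) = 1 := by
        rw [← Units.val_pow_eq_pow_val, ← map_pow, ← hcard, pow_card_eq_one, map_one, Units.val_one]
      rw [hpow, sub_self] at hgeo
      exact ((hχ _ hm').mul_left_eq_zero).1 hgeo
    rw [Finset.sum_eq_single (1 : G)]
    · simp only [inv_one, map_one, Units.val_one, one_pow, Finset.sum_const, Finset.card_range,
        nsmul_eq_mul, mul_one]
      rw [MonoidAlgebra.smul_single', hu, MonoidAlgebra.one_def]
    · intro m _ hm
      rw [h2 m hm, MonoidAlgebra.single_zero]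
    · intro h
      exact absurd (Finset.mem_univ _) h


end


/-- Let p be a prime and R a commutative ring containing an element u with u(p − 1) = 1, and let χ be a
homomorphism from the group of units of ℤ/p to the group of units of R such that χ(m) − 1 is a unit
of R for every m ≠ 1. For 0 ≤ i < p − 1 put e_i = u · Σ_m χ(m)^{−i} [m] in the group algebra
R[(ℤ/p)ˣ]. Then the e_i are idempotents, e_i e_j = 0 for i ≠ j, and Σ_i e_i = 1. (The published
statement is for algebras over the subring of the p-adic integers generated over ℤ by the values of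
the Teichmüller character χ and by 1/(p(p − 1)); the hypotheses on R and χ here are the properties
of that situation which the computation uses, so the row is stated for every such pair.) -/
theorem result
    (p : ℕ) [Fact p.Prime] (R : Type u) [CommRing R] (u : R) (hu : u * ((p - 1 : ℕ) : R) = 1)
    (χ : (ZMod p)ˣ →* Rˣ) (hχ : ∀ m : (ZMod p)ˣ, m ≠ 1 → IsUnit ((χ m : R) - 1)) :
    CompleteOrthogonalIdempotents (fun i : Fin (p - 1) =>
      u • ∑ m : (ZMod p)ˣ, ((χ m⁻¹ : Rˣ) : R) ^ (i : ℕ) • MonoidAlgebra.of R (ZMod p)ˣ m) := by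
  classical
  exact main p R u hu χ hχ

end Groth.Agent.S18467
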