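import Groth.Statements.S18470


set_option autoImplicit false
universe u v
open OortTate

namespace Groth.Agent.S18470

/-- Let R be a commutative ring and A a commutative Hopf algebra over R which is finitely generated and
projective as an R-module (a finite locally free group scheme G = Spec A, not assumed commutative),
and let A^D = Hom_R(A, R) be the dual algebra with its Hopf structure (the Cartier dual when A is
cocommutative), whose counit is evaluation at 1. Then restriction of linear forms to the
augmentation ideal I = ker ε_A of A is a bijection from the augmentation ideal of A^D onto the dual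
module Hom_R(I, R): the dual of the augmentation ideal of G is the augmentation ideal of the dual.
The published statement is for a group scheme of order p over a Λ_p-algebra; the argument uses only
the splitting A = R·1 ⊕ ker ε. -/
theorem result
    (R : Type u) [CommRing R] (A : Type v) [CommRing A] [HopfAlgebra R A]
    [Module.Finite R A] [Module.Projective R A] :
    Function.Bijective (fun f : LinearMap.ker (Bialgebra.counitAlgHom R (CartDual.D R A)).toLinearMap =>
      ((CartDual.toDual R A) (f : CartDual.D R A)).comp
        (LinearMap.ker (Bialgebra.counitAlgHom R A).toLinearMap).subtype) := by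
  classical
  set ε := Bialgebra.counitAlgHom R A with hε
  constructor
  · intro f f' hff'
    apply Subtype.ext
    apply WithConv.ext
    apply LinearMap.ext
    intro a
    have hf1 : (f : CartDual.D R A) 1 = 0 := f.2
    have hf'1 : (f' : CartDual.D R A) 1 = 0 := f'.2
    have ha : a - algebraMap R A (ε a) ∈ LinearMap.ker ε.toLinearMap := by
      rw [LinearMap.mem_ker]
      show ε (a - algebraMap R A (ε a)) = 0
      rw [map_sub, AlgHom.commutes, Algebra.algebraMap_self, RingHom.id_apply, sub_self]
    have h1 := LinearMap.congr_fun hff' ⟨_, ha⟩
    simp only [LinearMap.comp_apply, Submodule.subtype_apply, CartDual.toDual_apply] at h1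
    have h2 : ∀ F : CartDual.D R A, F 1 = 0 →
        F.ofConv a = F.ofConv (a - algebraMap R A (ε a)) := by
      intro F hF
      rw [map_sub, Algebra.algebraMap_eq_smul_one, map_smul]
      have : F.ofConv 1 = 0 := hF
      rw [this, smul_zero, sub_zero]
    rw [h2 _ hf1, h2 _ hf'1]
    exact h1
  · intro h
    let F₀ : A →ₗ[R] R :=
      h ∘ₗ (LinearMap.codRestrict (LinearMap.ker ε.toLinearMap)
        (LinearMap.id - (Algebra.linearMap R A) ∘ₗ ε.toLinearMap) (by
          intro a
          rw [LinearMap.mem_ker]
          show ε (a - algebraMap R A (ε a)) = 0
          rw [map_sub, AlgHom.commutes, Algebra.algebraMap_self, RingHom.id_apply, sub_self]))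
    have hF₀1 : F₀ 1 = 0 := by
      have : (LinearMap.codRestrict (LinearMap.ker ε.toLinearMap)
        (LinearMap.id - (Algebra.linearMap R A) ∘ₗ ε.toLinearMap) (by
          intro a
          rw [LinearMap.mem_ker]
          show ε (a - algebraMap R A (ε a)) = 0
          rw [map_sub, AlgHom.commutes, Algebra.algebraMap_self, RingHom.id_apply, sub_self]))
          (1 : A) = 0 := by
        apply Subtype.ext
        show (1 : A) - algebraMap R A (ε 1) = 0
        rw [map_one, map_one, sub_self]
      show h _ = 0
      rw [this, map_zero]
    refine ⟨⟨WithConv.toConv F₀, ?_⟩, ?_⟩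
    · rw [LinearMap.mem_ker]
      exact hF₀1
    · apply LinearMap.ext
      intro x
      show h _ = h x
      congr 1
      apply Subtype.ext
      show (x : A) - algebraMap R A (ε (x : A)) = x
      have hx : ε (x : A) = 0 := x.2
      rw [hx, map_zero, sub_zero]

end Groth.Agent.S18470
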