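import Groth.Statements.S18472
import Mathlib

set_option autoImplicit false
universe u v
open Hopf

namespace Groth.Agent.S18472

section

open TensorProduct WithConv Algebra.TensorProduct

variable (R : Type u) [CommRing R] (A : Type v) [CommRing A] [HopfAlgebra R A]

/-- `a ↦ Σ a₁ ⊗ S a₂` via the convolution group -/
noncomputable def θc : WithConv (A →ₐ[R] A ⊗[R] A) :=
  toConv (includeLeft : A →ₐ[R] A ⊗[R] A) * (toConv (includeRight : A →ₐ[R] A ⊗[R] A))⁻¹

noncomputable def Φ : A ⊗[R] A →ₐ[R] A ⊗[R] A :=
  productMap (θc R A).ofConv (includeRight : A →ₐ[R] A ⊗[R] A)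

theorem Φ_comp_comul : (Φ R A).comp (Bialgebra.comulAlgHom R A) = includeLeft := by
  have h1 : θc R A * toConv (includeRight : A →ₐ[R] A ⊗[R] A) = toConv includeLeft :=
    inv_mul_cancel_right (toConv (includeLeft : A →ₐ[R] A ⊗[R] A)) (toConv includeRight)
  have h2 := congrArg WithConv.ofConv h1
  rw [AlgHom.convMul_def] at h2
  rw [Φ, productMap_eq_comp_map, AlgHom.comp_assoc]
  exact h2

noncomputable def E : A ⊗[R] A →ₐ[R] A :=
  productMap ((Algebra.ofId R A).comp (Bialgebra.counitAlgHom R A)) (AlgHom.id R A)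

theorem lmul_comp_θ : (lmul' R).comp (θc R A).ofConv
    = (Algebra.ofId R A).comp (Bialgebra.counitAlgHom R A) := by
  rw [θc, AlgHom.comp_convMul_distrib]
  have h1 : (lmul' R).comp (toConv (includeLeft : A →ₐ[R] A ⊗[R] A)).ofConv = AlgHom.id R A := by
    ext a; simp
  have h2 : (lmul' R).comp ((toConv (includeRight : A →ₐ[R] A ⊗[R] A))⁻¹).ofConv
      = ((toConv (AlgHom.id R A))⁻¹).ofConv := by
    ext a
    show (lmul' R) ((includeRight : A →ₐ[R] A ⊗[R] A) (HopfAlgebra.antipodeAlgHom R A a))
      = (AlgHom.id R A) (HopfAlgebra.antipodeAlgHom R A a)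
    simp
  rw [h1, h2]
  have h3 : toConv (AlgHom.id R A) * toConv ((toConv (AlgHom.id R A))⁻¹).ofConv
      = (1 : WithConv (A →ₐ[R] A)) := mul_inv_cancel (toConv (AlgHom.id R A))
  rw [h3]
  rfl

theorem lmul_comp_Φ : (lmul' R).comp (Φ R A) = E R A := by
  apply Algebra.TensorProduct.ext
  · rw [AlgHom.comp_assoc, Φ, productMap_left, lmul_comp_θ, E, productMap_left]
  · ext b
    simp [Φ, E]

theorem Φ_surj : Function.Surjective (Φ R A) := by
  intro z
  induction z using TensorProduct.induction_on with
  | zero => exact ⟨0, map_zero _⟩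
  | tmul a b =>
    refine ⟨Bialgebra.comulAlgHom R A a * (1 ⊗ₜ b), ?_⟩
    have h1 := AlgHom.congr_fun (Φ_comp_comul R A) a
    rw [AlgHom.comp_apply] at h1
    rw [map_mul, h1]
    simp [Φ]
  | add x y hx hy =>
    obtain ⟨x', rfl⟩ := hx
    obtain ⟨y', rfl⟩ := hy
    exact ⟨x' + y', map_add _ _ _⟩

theorem ker_E : RingHom.ker (E R A) = (RingHom.ker (Bialgebra.counitAlgHom R A)).map
    (includeLeft : A →ₐ[R] A ⊗[R] A) := by
  apply le_antisymm
  · intro z hz
    have key : ∀ z : A ⊗[R] A, z - 1 ⊗ₜ (E R A z) ∈ (RingHom.ker (Bialgebra.counitAlgHom R A)).map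
        (includeLeft : A →ₐ[R] A ⊗[R] A) := by
      intro z
      induction z using TensorProduct.induction_on with
      | zero => simp
      | tmul a b =>
        have h1 : a ⊗ₜ[R] b - 1 ⊗ₜ (E R A (a ⊗ₜ b))
            = (includeLeft : A →ₐ[R] A ⊗[R] A) (a - algebraMap R A (Bialgebra.counitAlgHom R A a))
              * (1 ⊗ₜ b) := by
          simp only [E, productMap_apply_tmul, AlgHom.comp_apply, includeLeft_apply,
            Algebra.ofId_apply, AlgHom.id_apply, Algebra.TensorProduct.tmul_mul_tmul, mul_one, one_mul,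
            TensorProduct.sub_tmul]
          rw [sub_mul, Algebra.TensorProduct.tmul_mul_tmul, Algebra.TensorProduct.tmul_mul_tmul,
            mul_one, one_mul]
          congr 1
          rw [Algebra.algebraMap_eq_smul_one, smul_mul_assoc, one_mul, smul_mul_assoc, one_mul,
            TensorProduct.tmul_smul, TensorProduct.smul_tmul']
        rw [h1]
        refine Ideal.mul_mem_right _ _ (Ideal.mem_map_of_mem _ ?_)
        rw [RingHom.mem_ker, map_sub, AlgHom.commutes, sub_eq_zero]
        rfl
      | add x y hx hy =>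
        have : x + y - 1 ⊗ₜ[R] (E R A (x + y)) = (x - 1 ⊗ₜ (E R A x)) + (y - 1 ⊗ₜ (E R A y)) := by
          rw [map_add, TensorProduct.tmul_add]; abel
        rw [this]
        exact Ideal.add_mem _ hx hy
    have := key z
    rw [RingHom.mem_ker.1 hz, TensorProduct.tmul_zero, sub_zero] at this
    exact this
  · rw [Ideal.map_le_iff_le_comap]
    intro a ha
    rw [Ideal.mem_comap, RingHom.mem_ker]
    rw [RingHom.mem_ker] at ha
    simp [E, ha]

theorem kaehler_idem (hI : RingHom.ker (Bialgebra.counitAlgHom R A) ^ 2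
      = RingHom.ker (Bialgebra.counitAlgHom R A)) :
    IsIdempotentElem (KaehlerDifferential.ideal R A) := by
  obtain ⟨I, hIdef⟩ : ∃ I, I = RingHom.ker (Bialgebra.counitAlgHom R A) := ⟨_, rfl⟩
  rw [← hIdef] at hI
  have hJ : KaehlerDifferential.ideal R A = RingHom.ker (lmul' R : A ⊗[R] A →ₐ[R] A) := rfl
  have hle : (I.map (includeLeft : A →ₐ[R] A ⊗[R] A)).map (Φ R A) ≤ KaehlerDifferential.ideal R A := by
    rw [Ideal.map_le_iff_le_comap]
    intro u hu
    rw [Ideal.mem_comap, hJ, RingHom.mem_ker]
    have h1 := AlgHom.congr_fun (lmul_comp_Φ R A) u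
    rw [AlgHom.comp_apply] at h1
    rw [h1]
    have : u ∈ RingHom.ker (E R A) := by rw [ker_E, ← hIdef]; exact hu
    exact this
  apply le_antisymm
  · exact Ideal.mul_le_right
  · intro z hz
    obtain ⟨w, rfl⟩ := Φ_surj R A z
    have hw : w ∈ RingHom.ker (E R A) := by
      rw [RingHom.mem_ker, ← AlgHom.congr_fun (lmul_comp_Φ R A) w]
      exact hz
    rw [ker_E, ← hIdef, ← hI, pow_two, Ideal.map_mul] at hw
    have h2 := Ideal.mem_map_of_mem (Φ R A) hw
    rw [Ideal.map_mul] at h2
    exact Ideal.mul_mono hle hle h2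

theorem main
    (R : Type u) [CommRing R] (A : Type v) [CommRing A] [HopfAlgebra R A]
    [Module.Finite R A] [Module.Projective R A] :
    Algebra.Etale R A ↔
      RingHom.ker (Bialgebra.counitAlgHom R A) ^ 2 = RingHom.ker (Bialgebra.counitAlgHom R A) := by
  constructor
  · intro het
    apply le_antisymm (Ideal.pow_le_self (by norm_num))
    intro a ha
    -- two maps A → A / I^2
    let I := RingHom.ker (Bialgebra.counitAlgHom R A)
    let B := A ⧸ I ^ 2
    let f₁ : A →ₐ[R] B := Ideal.Quotient.mkₐ R (I ^ 2)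
    let f₂ : A →ₐ[R] B := (Algebra.ofId R B).comp (Bialgebra.counitAlgHom R A)
    let J : Ideal B := I.map (Ideal.Quotient.mk (I ^ 2))
    have hJ2 : J ^ 2 = ⊥ := by
      rw [← Ideal.map_pow, Ideal.map_quotient_self]
    have hinj := Algebra.FormallyUnramified.comp_injective (R := R) (A := A) J hJ2
    have heq : (Ideal.Quotient.mkₐ R J).comp f₁ = (Ideal.Quotient.mkₐ R J).comp f₂ := by
      ext x
      simp only [AlgHom.comp_apply, Ideal.Quotient.mkₐ_eq_mk]
      rw [Ideal.Quotient.eq]
      have h1 : x - algebraMap R A (Bialgebra.counitAlgHom R A x) ∈ I := by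
        rw [RingHom.mem_ker, map_sub, AlgHom.commutes, sub_eq_zero]; rfl
      have h2 : f₁ x - f₂ x = Ideal.Quotient.mk (I ^ 2)
          (x - algebraMap R A (Bialgebra.counitAlgHom R A x)) := by
        simp only [f₁, f₂, AlgHom.comp_apply, Ideal.Quotient.mkₐ_eq_mk, Algebra.ofId_apply, map_sub]
        rfl
      rw [h2]
      exact Ideal.mem_map_of_mem _ h1
    have h12 := hinj heq
    have h3 := AlgHom.congr_fun h12 a
    have ha0 : Bialgebra.counitAlgHom R A a = 0 := ha
    simp only [f₁, f₂, AlgHom.comp_apply, Ideal.Quotient.mkₐ_eq_mk, ha0, map_zero] at h3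
    exact Ideal.Quotient.eq_zero_iff_mem.1 h3
  · intro hI
    have hfp : Module.FinitePresentation R A := Module.finitePresentation_of_projective R A
    have hunr : Algebra.FormallyUnramified R A :=
      ⟨(Ideal.cotangent_subsingleton_iff _).2 (kaehler_idem R A hI)⟩
    exact Algebra.Etale.of_formallyUnramified_of_flat


end


/-- Let R be a commutative ring and A a commutative Hopf algebra over R which is finitely generated and
projective as an R-module (a finite locally free group scheme G = Spec A over Spec R), and let I =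
ker ε be its augmentation ideal. Then A is étale over R if and only if I² = I. (The published text
calls G finite flat, meaning that A is finitely generated and projective.) -/
theorem result
    (R : Type u) [CommRing R] (A : Type v) [CommRing A] [HopfAlgebra R A]
    [Module.Finite R A] [Module.Projective R A] :
    Algebra.Etale R A ↔
      RingHom.ker (Bialgebra.counitAlgHom R A) ^ 2 = RingHom.ker (Bialgebra.counitAlgHom R A) := by
  classical
  exact main R A

end Groth.Agent.S18472
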