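import Groth.Statements.S18476
import Mathlib
-- import your own Groth.Agent.* helpers here

set_option autoImplicit false
universe u
open FmlGrp

namespace Groth.Agent.S18476

namespace Aux

open PowerSeries

variable {O : Type u} [CommRing O] [IsDomain O] [IsLocalRing O]
  [IsAdicComplete (IsLocalRing.maximalIdeal O) O]

section basics

/-- shift of a power series -/
noncomputable def sh (c : PowerSeries O) : PowerSeries O := PowerSeries.mk fun j => coeff (j + 1) c

theorem coeff_sh (c : PowerSeries O) (j : ℕ) : coeff j (sh c) = coeff (j + 1) c := by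
  rw [sh, coeff_mk]

theorem eq_shift (c : PowerSeries O) : c = C (constantCoeff c) + X * sh c := by
  conv_lhs => rw [eq_X_mul_shift_add_const c, add_comm]
  rfl

variable (φ : PowerSeries O) (hφ : HasSubst φ)

include hφ in
theorem subst_step (c : PowerSeries O) :
    subst φ c = C (constantCoeff c) + φ * subst φ (sh c) := by
  conv_lhs => rw [eq_shift c]
  rw [subst_add hφ, subst_mul hφ, subst_X hφ, subst_C]
  rfl

include hφ in
theorem constantCoeff_zero : constantCoeff φ = 0 := IsNilpotent.eq_zero hφ

include hφ in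
theorem X_dvd : (X : PowerSeries O) ∣ φ := X_dvd_iff.mpr (constantCoeff_zero φ hφ)

variable (n : ℕ)

/-- the sum `∑ subst φ (c i) * X^i` -/
noncomputable def Sm (c : Fin n → PowerSeries O) : PowerSeries O :=
  ∑ i : Fin n, subst φ (c i) * X ^ (i : ℕ)

/-- the polynomial of constant coefficients -/
noncomputable def Rp (c : Fin n → PowerSeries O) : Polynomial O :=
  ∑ i : Fin n, Polynomial.C (constantCoeff (c i)) * Polynomial.X ^ (i : ℕ)

theorem coeff_Rp (c : Fin n → PowerSeries O) (m : ℕ) :
    (Rp n c).coeff m = if h : m < n then constantCoeff (c ⟨m, h⟩) else 0 := by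
  rw [Rp, Polynomial.finsetSum_coeff]
  simp only [Polynomial.coeff_C_mul, Polynomial.coeff_X_pow, mul_ite, mul_one, mul_zero]
  split_ifs with h
  · rw [Finset.sum_eq_single (⟨m, h⟩ : Fin n)]
    · simp
    · intro b _ hb
      have : m ≠ (b : ℕ) := fun h' => hb (Fin.ext h'.symm)
      rw [if_neg this]
    · intro h'; exact absurd (Finset.mem_univ _) h'
  · refine Finset.sum_eq_zero (fun b _ => ?_)
    have : m ≠ (b : ℕ) := by
      have := b.2
      omega
    rw [if_neg this]

theorem degree_Rp (c : Fin n → PowerSeries O) : (Rp n c).degree < (n : WithBot ℕ) := by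
  rw [Polynomial.degree_lt_iff_coeff_zero]
  intro m hm
  rw [coeff_Rp, dif_neg (by omega)]

include hφ in
theorem Sm_step (c : Fin n → PowerSeries O) :
    Sm φ n c = (Rp n c : PowerSeries O) + φ * Sm φ n (fun i => sh (c i)) := by
  rw [Sm, Sm, Rp, Finset.mul_sum]
  have h1 : ((∑ i : Fin n, Polynomial.C (constantCoeff (c i)) * Polynomial.X ^ (i : ℕ) :
      Polynomial O) : PowerSeries O) = ∑ i : Fin n, C (constantCoeff (c i)) * X ^ (i : ℕ) := by
    rw [← Polynomial.coeToPowerSeries.ringHom_apply, map_sum]
    refine Finset.sum_congr rfl (fun i _ => ?_)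
    simp
  rw [h1, ← Finset.sum_add_distrib]
  refine Finset.sum_congr rfl (fun i _ => ?_)
  rw [subst_step φ hφ (c i)]
  ring

include hφ in
theorem Sm_sub (c c' : Fin n → PowerSeries O) :
    Sm φ n (c - c') = Sm φ n c - Sm φ n c' := by
  rw [Sm, Sm, Sm, ← Finset.sum_sub_distrib]
  refine Finset.sum_congr rfl (fun i _ => ?_)
  rw [Pi.sub_apply, subst_sub hφ, sub_mul]

end basics

section weier
variable (φ : PowerSeries O) (hφ : HasSubst φ) (hres : φ.map (IsLocalRing.residue O) ≠ 0)

include hφ hres in
theorem uniq_aux : ∀ (N : ℕ) (d : Fin ((φ.map (IsLocalRing.residue O)).order.toNat) → PowerSeries O),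
    Sm φ _ d = 0 → ∀ i, coeff N (d i) = 0 := by
  intro N
  induction N with
  | zero =>
    intro d hd i
    have h1 := Sm_step φ hφ _ d
    rw [hd] at h1
    have H : IsWeierstrassDivision 0 φ (Sm φ _ (fun i => sh (d i))) (Rp _ d) :=
      ⟨degree_Rp _ d, by rw [h1]; ring⟩
    have h2 := (H.eq_zero hres).2
    have h3 := coeff_Rp _ d (i : ℕ)
    rw [h2, Polynomial.coeff_zero, dif_pos i.2] at h3
    rw [coeff_zero_eq_constantCoeff_apply]
    exact h3.symm
  | succ N ih =>
    intro d hd i
    have h1 := Sm_step φ hφ _ d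
    rw [hd] at h1
    have H : IsWeierstrassDivision 0 φ (Sm φ _ (fun i => sh (d i))) (Rp _ d) :=
      ⟨degree_Rp _ d, by rw [h1]; ring⟩
    have h2 := (H.eq_zero hres).1
    have h3 := ih (fun i => sh (d i)) h2 i
    rwa [coeff_sh] at h3

/-- iterated Weierstrass quotients -/
noncomputable def qs (g : PowerSeries O) : ℕ → PowerSeries O
  | 0 => g
  | (j + 1) => (qs g j) /ʷ φ

/-- iterated Weierstrass remainders -/
noncomputable def rs (g : PowerSeries O) (j : ℕ) : Polynomial O := (qs φ g j) %ʷ φ

include hres in
theorem qs_eq (g : PowerSeries O) (j : ℕ) :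
    qs φ g j = φ * qs φ g (j + 1) + (rs φ g j : PowerSeries O) :=
  eq_mul_weierstrassDiv_add_weierstrassMod _ hres

theorem degree_rs (g : PowerSeries O) (j : ℕ) :
    (rs φ g j).degree < ((φ.map (IsLocalRing.residue O)).order.toNat : WithBot ℕ) :=
  degree_weierstrassMod_lt _ _

/-- the coefficient series -/
noncomputable def csN (g : PowerSeries O) (N : ℕ) (i : ℕ) : PowerSeries O :=
  PowerSeries.mk fun j => (rs φ g (j + N)).coeff i

theorem sh_csN (g : PowerSeries O) (N i : ℕ) : sh (csN φ g N i) = csN φ g (N + 1) i := by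
  ext j
  rw [coeff_sh, csN, csN, coeff_mk, coeff_mk]
  congr 2
  ring

theorem constantCoeff_csN (g : PowerSeries O) (N i : ℕ) :
    constantCoeff (csN φ g N i) = (rs φ g N).coeff i := by
  rw [← coeff_zero_eq_constantCoeff_apply, csN, coeff_mk, zero_add]

theorem Rp_csN (g : PowerSeries O) (N : ℕ) :
    Rp ((φ.map (IsLocalRing.residue O)).order.toNat) (fun i => csN φ g N (i : ℕ)) = rs φ g N := by
  ext m
  rw [coeff_Rp]
  split_ifs with h
  · rw [constantCoeff_csN]
  · symm
    exact (Polynomial.degree_lt_iff_coeff_zero _ _).mp (degree_rs φ g N) m (by omega)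

include hφ hres in
theorem diff_eq (g : PowerSeries O) (N : ℕ) :
    g - Sm φ _ (fun i : Fin ((φ.map (IsLocalRing.residue O)).order.toNat) => csN φ g 0 (i : ℕ)) =
      φ ^ N * (qs φ g N - Sm φ _ (fun i : Fin ((φ.map (IsLocalRing.residue O)).order.toNat) =>
        csN φ g N (i : ℕ))) := by
  induction N with
  | zero =>
    rw [pow_zero, one_mul]
    rfl
  | succ N ih =>
    rw [ih, qs_eq φ hres g N, Sm_step φ hφ, Rp_csN, pow_succ]
    have : (fun i : Fin ((φ.map (IsLocalRing.residue O)).order.toNat) => sh (csN φ g N (i : ℕ))) =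
        (fun i : Fin ((φ.map (IsLocalRing.residue O)).order.toNat) => csN φ g (N + 1) (i : ℕ)) := by
      funext i
      exact sh_csN φ g N i
    rw [this]
    ring

include hφ hres in
theorem exists_repr (g : PowerSeries O) :
    g = Sm φ _ (fun i : Fin ((φ.map (IsLocalRing.residue O)).order.toNat) => csN φ g 0 (i : ℕ)) := by
  rw [← sub_eq_zero]
  ext m
  rw [map_zero]
  have h1 := diff_eq φ hφ hres g (m + 1)
  obtain ⟨ψ, hψ⟩ := X_dvd φ hφ
  rw [h1, hψ, mul_pow, mul_assoc]
  rw [coeff_X_pow_mul', if_neg (by omega)]

include hφ hres in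
theorem forward : ∃ (n : ℕ) (b : Fin n → PowerSeries O), ∀ g : PowerSeries O,
    ∃! c : Fin n → PowerSeries O, g = ∑ i, subst φ (c i) * b i := by
  refine ⟨(φ.map (IsLocalRing.residue O)).order.toNat, fun i => X ^ (i : ℕ), fun g => ?_⟩
  refine ⟨fun i => csN φ g 0 (i : ℕ), exists_repr φ hφ hres g, ?_⟩
  intro c' hc'
  have h1 : Sm φ _ (c' - fun i : Fin ((φ.map (IsLocalRing.residue O)).order.toNat) =>
      csN φ g 0 (i : ℕ)) = 0 := by
    rw [Sm_sub φ hφ, sub_eq_zero]
    exact hc'.symm.trans (exists_repr φ hφ hres g)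
  have h2 := fun N => uniq_aux φ hφ hres N _ h1
  funext i
  ext N
  have := h2 N i
  rw [Pi.sub_apply, map_sub, sub_eq_zero] at this
  exact this

end weier


section back
variable (φ : PowerSeries O) (hφ : HasSubst φ)

include hφ in
theorem map_subst_const (hres : φ.map (IsLocalRing.residue O) = 0) (c : PowerSeries O) :
    PowerSeries.map (IsLocalRing.residue O) (subst φ c : PowerSeries O) =
      C (IsLocalRing.residue O (constantCoeff c)) := by
  have h := subst_step φ hφ c
  rw [h, map_add, map_mul, hres, zero_mul, add_zero, map_C]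

theorem linearIndependent_X_pow (k : Type u) [Field k] (n : ℕ) :
    LinearIndependent k (fun i : Fin n => (X : PowerSeries k) ^ (i : ℕ)) := by
  rw [Fintype.linearIndependent_iff]
  intro a ha j
  have h1 := congrArg (coeff (j : ℕ)) ha
  rw [map_sum, map_zero, Finset.sum_eq_single j] at h1
  · simpa using h1
  · intro b _ hb
    have : (j : ℕ) ≠ (b : ℕ) := fun h' => hb (Fin.ext h'.symm)
    simp [coeff_X_pow, this]
  · intro h'; exact absurd (Finset.mem_univ _) h'

include hφ in
theorem backward (h : ∃ (n : ℕ) (b : Fin n → PowerSeries O), ∀ g : PowerSeries O,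
    ∃! c : Fin n → PowerSeries O, g = ∑ i, subst φ (c i) * b i) :
    φ.map (IsLocalRing.residue O) ≠ 0 := by
  intro hres
  obtain ⟨n, b, hb⟩ := h
  set k := IsLocalRing.ResidueField O
  set ρ : PowerSeries O →+* PowerSeries k := PowerSeries.map (IsLocalRing.residue O) with hρ
  have hsurj : Function.Surjective ρ := by
    intro f
    choose a ha using fun j => IsLocalRing.residue_surjective (R := O) (coeff j f)
    refine ⟨PowerSeries.mk a, ?_⟩
    ext j
    rw [hρ, coeff_map, coeff_mk, ha]
  -- span
  have hspan : Submodule.span k (Set.range fun i => ρ (b i)) = ⊤ := by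
    rw [eq_top_iff]
    intro f _
    obtain ⟨g, rfl⟩ := hsurj f
    obtain ⟨c, hc, _⟩ := hb g
    rw [hc, map_sum]
    refine sum_mem (fun i _ => ?_)
    rw [map_mul, hρ, map_subst_const φ hφ hres (c i)]
    have : C (IsLocalRing.residue O (constantCoeff (c i))) * (PowerSeries.map (IsLocalRing.residue O)) (b i) =
        (IsLocalRing.residue O (constantCoeff (c i))) • (PowerSeries.map (IsLocalRing.residue O)) (b i) := by
      rw [PowerSeries.smul_eq_C_mul]
    rw [this]
    exact Submodule.smul_mem _ _ (Submodule.subset_span ⟨i, rfl⟩)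
  have : Module.Finite k (PowerSeries k) := by
    refine ⟨?_⟩
    rw [← hspan]
    exact Submodule.fg_span (Set.finite_range _)
  have h1 := finrank_range_le_card (R := k) (fun i => ρ (b i))
  rw [Set.finrank, hspan, finrank_top, Fintype.card_fin] at h1
  have h2 := (linearIndependent_X_pow k (n + 1)).fintype_card_le_finrank
  rw [Fintype.card_fin] at h2
  omega

end back

theorem main (φ : PowerSeries O) (hφ : HasSubst φ) :
    (∃ n : ℕ, coeff n φ ∉ IsLocalRing.maximalIdeal O) ↔
      ∃ (n : ℕ) (b : Fin n → PowerSeries O), ∀ g : PowerSeries O,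
        ∃! c : Fin n → PowerSeries O, g = ∑ i, subst φ (c i) * b i := by
  have key : (∃ n : ℕ, coeff n φ ∉ IsLocalRing.maximalIdeal O) ↔
      φ.map (IsLocalRing.residue O) ≠ 0 := by
    rw [Ne, PowerSeries.ext_iff, not_forall]
    refine exists_congr (fun n => ?_)
    rw [coeff_map, map_zero, IsLocalRing.residue_eq_zero_iff]
  rw [key]
  exact ⟨fun h => forward φ hφ h, fun h => backward φ hφ h⟩


end Aux

/-- Let O be a complete discrete valuation ring whose maximal ideal m contains the prime number p, and
let F be a one-dimensional formal group law over O, with multiplication-by-p series f = [p]_F(X) = X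
+_F ⋯ +_F X ∈ O[[X]]. Then f has a coefficient outside m (f is not ≡ 0 mod m) if and only if F is
p-divisible in the sense that O[[X]] is free of finite rank over itself through the substitution
endomorphism X ↦ f: there are finitely many power series b_1, …, b_n such that every power series g
can be written uniquely as Σ_i c_i(f(X))·b_i. (The published statement asserts instead that F is
p-divisible iff F does not reduce to X + Y modulo m; that is false — over the p-adic integers the
law φ⁻¹(φ(X) + φ(Y)) with φ = X + X^{p+1} is not congruent to X + Y modulo p, yet its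
multiplication-by-p series φ⁻¹(pφ(X)) vanishes modulo p — and the printed proof establishes exactly
the criterion on f stated here.) The published setting is the valuation ring of a finite extension
of ℚ_p; the argument uses only that O is a complete discrete valuation ring with p in its maximal
ideal. -/
theorem result
    (O : Type u) [CommRing O] [IsDomain O] [IsDiscreteValuationRing O]
    [IsAdicComplete (IsLocalRing.maximalIdeal O) O]
    (p : ℕ) [Fact p.Prime] (hp : (p : O) ∈ IsLocalRing.maximalIdeal O)
    (F : FormalGroup O) :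
    (∃ n : ℕ, PowerSeries.coeff n
        ((p • (show F.Point Unit from ⟨PowerSeries.X, PowerSeries.HasSubst.X'⟩)).val) ∉
          IsLocalRing.maximalIdeal O) ↔
      ∃ (n : ℕ) (b : Fin n → PowerSeries O), ∀ g : PowerSeries O, ∃! c : Fin n → PowerSeries O,
        g = ∑ i, PowerSeries.subst
          ((p • (show F.Point Unit from ⟨PowerSeries.X, PowerSeries.HasSubst.X'⟩)).val) (c i) * b i := by
  exact Aux.main _ (p • (show F.Point Unit from ⟨PowerSeries.X, PowerSeries.HasSubst.X'⟩)).prop

end Groth.Agent.S18476
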