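import Groth.Statements.S18490
import Mathlib

set_option autoImplicit false
universe u
open CategoryTheory CategoryTheory.Limits AlgebraicGeometry
open FlatMor

namespace Groth.Agent.S18490

section
open CategoryTheory CategoryTheory.Limits AlgebraicGeometry

theorem ring_retract {A B C D : Type u} [CommRing A] [CommRing B] [CommRing C] [CommRing D]
    (φ : A →+* B) (π : B →+* C) (σ : C →+* D) (hflat : (π.comp φ).Flat)
    (hbij : Function.Bijective (σ.comp π)) : φ.Flat := by
  letI := φ.toAlgebra
  letI := (π.comp φ).toAlgebra
  have hflat' : Module.Flat A C := hflat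
  change Module.Flat A B
  let e : B ≃+* D := RingEquiv.ofBijective (σ.comp π) hbij
  let i : B →ₗ[A] C :=
    { toFun := π
      map_add' := map_add π
      map_smul' := fun a b => by
        change π (φ a * b) = (π.comp φ) a * π b
        rw [map_mul]; rfl }
  let r : C →ₗ[A] B :=
    { toFun := fun c => e.symm (σ c)
      map_add' := fun x y => by rw [map_add, map_add]
      map_smul' := fun a c => by
        change e.symm (σ ((π.comp φ) a * c)) = φ a * e.symm (σ c)
        rw [map_mul, map_mul]
        congr 1
        rw [RingEquiv.symm_apply_eq]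
        rfl }
  apply Module.Flat.of_retract i r
  ext b
  change e.symm (σ (π b)) = b
  rw [RingEquiv.symm_apply_eq]
  rfl


theorem flat_congr_point {X S : Scheme.{u}} (f : X ⟶ S) (x' x : X) (h : x' = x)
    (hf : (f.stalkMap x').hom.Flat) : (f.stalkMap x).hom.Flat := by
  subst h
  exact hf

variable {X Y S : Scheme.{u}} (f : X ⟶ S) (g : Y ⟶ S) (y : S ⟶ Y) (hy : y ≫ g = 𝟙 S)

noncomputable def sec : X ⟶ pullback f g :=
  pullback.lift (𝟙 X) (f ≫ y) (by rw [Category.id_comp, Category.assoc, hy, Category.comp_id])

theorem sec_fst : sec f g y hy ≫ pullback.fst f g = 𝟙 X := by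
  unfold sec
  rw [pullback.lift_fst]

theorem factor : f = sec f g y hy ≫ (pullback.fst f g ≫ f) := by
  rw [← Category.assoc, sec_fst, Category.id_comp]

include y hy in
theorem main :
    (QuasiCompact (pullback.fst f g ≫ f) → QuasiCompact f) ∧
    (LocallyOfFiniteType (pullback.fst f g ≫ f) → LocallyOfFiniteType f) ∧
    (IsSeparated (pullback.fst f g ≫ f) → IsSeparated f) ∧
    (Flat (pullback.fst f g ≫ f) → Flat f) := by
  refine ⟨?_, ?_, ?_, ?_⟩
  · intro h
    constructor
    intro U hU hUc
    have h1 := h.isCompact_preimage U hU hUc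
    have h2 : f ⁻¹' U = (pullback.fst f g) '' ((pullback.fst f g ≫ f) ⁻¹' U) := by
      ext x
      constructor
      · intro hx
        refine ⟨sec f g y hy x, ?_, ?_⟩
        · change (pullback.fst f g ≫ f) (sec f g y hy x) ∈ U
          rw [← Scheme.Hom.comp_apply, ← factor]
          exact hx
        · rw [← Scheme.Hom.comp_apply, sec_fst]; rfl
      · rintro ⟨z, hz, rfl⟩
        exact hz
    rw [h2]
    exact h1.image (pullback.fst f g).continuous
  · intro h
    haveI : LocallyOfFiniteType (sec f g y hy ≫ pullback.fst f g) := by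
      rw [sec_fst]; infer_instance
    haveI : LocallyOfFiniteType (sec f g y hy) :=
      locallyOfFiniteType_of_comp (sec f g y hy) (pullback.fst f g)
    rw [factor f g y hy]
    infer_instance
  · intro h
    haveI : IsSeparated (sec f g y hy ≫ pullback.fst f g) := by
      rw [sec_fst]; infer_instance
    haveI : IsSeparated (sec f g y hy) := IsSeparated.of_comp (sec f g y hy) (pullback.fst f g)
    rw [factor f g y hy]
    infer_instance
  · intro h
    apply Flat.of_stalkMap
    intro x
    have hx : (pullback.fst f g) (sec f g y hy x) = x := by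
      rw [← Scheme.Hom.comp_apply, sec_fst]; rfl
    apply flat_congr_point f _ x hx
    have h1 : (((pullback.fst f g).stalkMap (sec f g y hy x)).hom.comp
        (f.stalkMap ((pullback.fst f g) (sec f g y hy x))).hom).Flat := by
      have h0 := Flat.stalkMap (pullback.fst f g ≫ f) (sec f g y hy x)
      rw [Scheme.Hom.stalkMap_comp] at h0
      exact h0
    refine ring_retract _ _ ((sec f g y hy).stalkMap x).hom h1 ?_
    have h2 : ((sec f g y hy).stalkMap x).hom.comp
        ((pullback.fst f g).stalkMap (sec f g y hy x)).hom =
        ((sec f g y hy ≫ pullback.fst f g).stalkMap x).hom := by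
      rw [Scheme.Hom.stalkMap_comp]; rfl
    rw [h2, Scheme.Hom.stalkMap_congr_hom _ _ (sec_fst f g y hy) x, Scheme.Hom.stalkMap_id]
    have h3 : IsIso ((X.presheaf.stalkCongr (.of_eq (sec_fst f g y hy ▸ rfl :
        ((sec f g y hy ≫ pullback.fst f g) x) = (𝟙 X : X ⟶ X) x))).hom ≫
        𝟙 (X.presheaf.stalk ((𝟙 X : X ⟶ X) x))) := inferInstance
    exact (ConcreteCategory.bijective_of_isIso
      ((X.presheaf.stalkCongr (.of_eq (sec_fst f g y hy ▸ rfl :
        ((sec f g y hy ≫ pullback.fst f g) x) = (𝟙 X : X ⟶ X) x))).hom ≫
        𝟙 (X.presheaf.stalk ((𝟙 X : X ⟶ X) x))))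


end


/-- Let f : X → S and g : Y → S be morphisms of schemes and suppose that g has a section y : S → Y. If
the structure morphism X ×_S Y → S (first projection followed by f) is quasi-compact, then so is f;
likewise for locally of finite type, for separated, and for flat. (Finite type, also listed in the
source, is the conjunction of the first two.) -/
theorem result {X Y S : Scheme.{u}} (f : X ⟶ S) (g : Y ⟶ S)
    (y : S ⟶ Y) (hy : y ≫ g = 𝟙 S) :
    (QuasiCompact (pullback.fst f g ≫ f) → QuasiCompact f) ∧
    (LocallyOfFiniteType (pullback.fst f g ≫ f) → LocallyOfFiniteType f) ∧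
    (IsSeparated (pullback.fst f g ≫ f) → IsSeparated f) ∧
    (Flat (pullback.fst f g ≫ f) → Flat f) := by
  classical
  exact main f g y hy

end Groth.Agent.S18490
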