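import Groth.Statements.S18504
-- import your own Groth.Agent.* helpers here
import Mathlib
import Groth.Agent.Lib.Helper7.SubmDesc

set_option autoImplicit false
universe u
open CategoryTheory MonoidalCategory CartesianMonoidalCategory MonObj GrpObj AlgebraicGeometry Topology
open EqInt

namespace Groth.Agent.S18504

/-- Over a field k, let an affine group scheme G of finite type act on X, with X and Y separated of
finite type over k, and let (Y, φ) be a geometric quotient of X by G. Then φ is universally open.
(The source takes X and Y integral; integrality plays no role. A geometric quotient is taken here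
with φ universally submersive, and with this reading the universal openness is what the argument
gives.) -/
theorem result (k : Type u) [Field k]
    (G X Y : Over (Spec (CommRingCat.of k))) [GrpObj G] [IsAffine G.left] [LocallyOfFiniteType G.hom]
    [LocallyOfFiniteType X.hom] [QuasiCompact X.hom] [IsSeparated X.hom]
    [LocallyOfFiniteType Y.hom] [QuasiCompact Y.hom] [IsSeparated Y.hom]
    (a : AlgGrp.Action G X) (φ : X ⟶ Y) (h : GIT.IsGeomQuot a φ) :
    UniversallyOpen φ.left := by
  classical
  -- the second projection `G ⊗ X ⟶ X` is universally open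
  have hsnd : UniversallyOpen (snd G X).left := by
    rw [Over.snd_left]
    infer_instance
  -- `Ψ = (σ, p₂)` is surjective
  haveI hΨ : Surjective (GIT.PsiY a φ h.inv) := ⟨h.orbit⟩
  have hcomp : GIT.PsiY a φ h.inv ≫ Limits.pullback.snd φ.left φ.left = (snd G X).left :=
    Limits.pullback.lift_snd _ _ _
  haveI hcomp' : UniversallyOpen (GIT.PsiY a φ h.inv ≫ Limits.pullback.snd φ.left φ.left) := by
    rw [hcomp]
    exact hsnd
  -- hence the projection `X ×_Y X ⟶ X` is universally open
  have hp : UniversallyOpen (Limits.pullback.snd φ.left φ.left) := by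
    constructor
    intro B' T i₁ i₂ p' hsq
    have h1 : IsPullback (Limits.pullback.snd (GIT.PsiY a φ h.inv) i₁) (Limits.pullback.fst (GIT.PsiY a φ h.inv) i₁)
        i₁ (GIT.PsiY a φ h.inv) := (IsPullback.of_hasPullback _ _).flip
    have h2 := h1.paste_horiz hsq
    have h3 : IsOpenMap (Limits.pullback.snd (GIT.PsiY a φ h.inv) i₁ ≫ p').base :=
      (UniversallyOpen.universally_isOpenMap (f := GIT.PsiY a φ h.inv ≫ Limits.pullback.snd φ.left φ.left)) _ _ _ h2
    have hs : Function.Surjective (Limits.pullback.snd (GIT.PsiY a φ h.inv) i₁).base :=
      (inferInstance : Surjective (Limits.pullback.snd (GIT.PsiY a φ h.inv) i₁)).surj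
    intro W hW
    have : p'.base '' W = (Limits.pullback.snd (GIT.PsiY a φ h.inv) i₁ ≫ p').base ''
        ((Limits.pullback.snd (GIT.PsiY a φ h.inv) i₁).base ⁻¹' W) := by
      rw [Scheme.Hom.comp_base, TopCat.coe_comp, Set.image_comp, Set.image_preimage_eq _ hs]
    rw [this]
    exact h3 _ (hW.preimage (Limits.pullback.snd (GIT.PsiY a φ h.inv) i₁).continuous)
  -- descend along the universally submersive `φ`
  have hsub : SGA1.UnivSubmersive φ.left := h.subm
  exact MorphismProperty.DescendsAlong.of_isPullback (P := @UniversallyOpen)
    (Q := SGA1.UnivSubmersive) (IsPullback.of_hasPullback φ.left φ.left).flip hsub hp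

end Groth.Agent.S18504
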