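import Groth.Statements.S18510
import Groth.Agent.Lib.Helper2.Sch.AssocBundle
import Groth.Agent.Lib.Helper2.Sch.SchImageGrp
import Groth.Agent.Lib.Helper2.EtaleLocal
import Groth.Agent.S0086


set_option autoImplicit false
universe u
open CategoryTheory MonoidalCategory CartesianMonoidalCategory MonObj GrpObj AlgebraicGeometry Topology
open EqInt

namespace Groth.Agent.S18510

/-- Over a field k, let an affine group scheme G of finite type act on X, on Y and on U (quasi-separated
schemes of finite type over k), let f : X → Y be G-equivariant, and let q_X : X × U → X_G and q_Y :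
Y × U → Y_G be principal bundle quotients for the diagonal actions (each is invariant, flat and
surjective, and (σ, p₂) into the fibre square over the quotient is an isomorphism), X_G and Y_G
being quasi-separated of finite type over k. Let f_G : X_G → Y_G satisfy f_G ∘ q_X = q_Y ∘ (f ×
id_U) as maps X × U → Y_G. If f is proper, resp. flat, resp. smooth, then so is f_G. (Stated for
schemes; the source allows algebraic spaces and also treats regular embeddings and local complete
intersection morphisms, which are not stated here.) -/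
theorem result (k : Type u) [Field k]
    (G X Y U XG YG : Over (Spec (CommRingCat.of k))) [GrpObj G] [IsAffine G.left] [LocallyOfFiniteType G.hom]
    [LocallyOfFiniteType X.hom] [QuasiCompact X.hom] [QuasiSeparated X.hom]
    [LocallyOfFiniteType Y.hom] [QuasiCompact Y.hom] [QuasiSeparated Y.hom]
    [LocallyOfFiniteType U.hom] [QuasiCompact U.hom] [QuasiSeparated U.hom]
    [LocallyOfFiniteType XG.hom] [QuasiCompact XG.hom] [QuasiSeparated XG.hom]
    [LocallyOfFiniteType YG.hom] [QuasiCompact YG.hom] [QuasiSeparated YG.hom]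
    (a : AlgGrp.Action G X) (aY : AlgGrp.Action G Y) (b : AlgGrp.Action G U)
    (f : X ⟶ Y) (hf : AlgGrp.Action.IsEquivariant a aY f)
    (qX : X ⊗ U ⟶ XG) (hqX : GIT.IsInvariant (a.prod b) qX) [Flat qX.left] [Surjective qX.left]
    (hcX : IsIso (GIT.PsiY (a.prod b) qX hqX))
    (qY : Y ⊗ U ⟶ YG) (hqY : GIT.IsInvariant (aY.prod b) qY) [Flat qY.left] [Surjective qY.left]
    (hcY : IsIso (GIT.PsiY (aY.prod b) qY hqY))
    (fG : XG ⟶ YG) (hfG : qX ≫ fG = (f ▷ U) ≫ qY) :
    (IsProper f.left → IsProper fG.left) ∧ (Flat f.left → Flat fG.left) ∧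
      (Smooth f.left → Smooth fG.left) := by
  classical
  have pbX := Groth.Agent.Helper2.AssocBundle.isPullback_of_isIso_psiY (a.prod b) qX hqX hcX
  have pbY := Groth.Agent.Helper2.AssocBundle.isPullback_of_isIso_psiY (aY.prod b) qY hqY hcY
  have covX := Groth.Agent.Helper2.AssocBundle.isCov_of_flat_surjective qX
    (Scheme.Hom.surjective qX.left) inferInstance
  have covY := Groth.Agent.Helper2.AssocBundle.isCov_of_flat_surjective qY
    (Scheme.Hom.surjective qY.left) inferInstance
  have hequiv : (a.prod b).act ≫ (f ▷ U) = (G ◁ (f ▷ U)) ≫ (aY.prod b).act := by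
    apply Groth.Agent.Helper2.AssocBundle.hom_ext_lift₃'
    intro T g x u
    have hf' : a.act ≫ f = (G ◁ f) ≫ aY.act := hf
    rw [← Category.assoc, AlgGrp.Action.lift_prod_act, lift_whiskerRight, lift_whiskerLeft_assoc,
      lift_whiskerRight, AlgGrp.Action.lift_prod_act, Category.assoc, hf', lift_whiskerLeft_assoc]
  have sq := Groth.Agent.Helper2.TorsorMap.isPullback_of_equivariant (a.prod b) (aY.prod b) qX covX
    pbX qY pbY (f ▷ U) hequiv fG hfG
  have sqL := Groth.Agent.Lib.Helper4.GrpKer2.isPullback_left sq
  have sqW := Groth.Agent.Helper2.SchImage.isPullback_whiskerRight' (G := U) f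
  obtain ⟨h1, h2, h3⟩ := covY
  refine ⟨?_, ?_, ?_⟩
  · intro hP
    have hP' : IsProper (f ▷ U).left := MorphismProperty.of_isPullback (P := @IsProper) sqW hP
    haveI := Groth.Agent.S0086.result.{u}
    exact MorphismProperty.of_isPullback_of_descendsAlong (P := @IsProper)
      (Q := @Surjective ⊓ @Flat ⊓ @LocallyOfFinitePresentation) sqL ⟨⟨h2, h1⟩, h3⟩ hP'
  · intro hP
    haveI : Flat (f ▷ U).left := MorphismProperty.of_isPullback (P := @Flat) sqW hP
    haveI : Flat (qX.left ≫ fG.left) := by
      rw [← Over.comp_left, hfG, Over.comp_left]; infer_instance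
    exact Groth.Agent.Helper2.EtaleLocal.flat_of_flat_comp_of_surjective qX.left fG.left
  · intro hP
    have hP' : Smooth (f ▷ U).left := MorphismProperty.of_isPullback (P := @Smooth) sqW hP
    exact MorphismProperty.of_isPullback_of_descendsAlong (P := @Smooth)
      (Q := @Surjective ⊓ @Flat ⊓ @LocallyOfFinitePresentation) sqL ⟨⟨h2, h1⟩, h3⟩ hP'

end Groth.Agent.S18510
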