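import Groth.Statements.S18519
import Mathlib
import Groth.Agent.Lib.Lead.CSA26
import Groth.Agent.Lib.Helper8.CSA2

set_option autoImplicit false
universe u
open scoped TensorProduct
open Brauer

namespace Groth.Agent.S18519

section
open scoped TensorProduct
open Module Groth.Agent.Lead.CSA IntermediateField

section bwd
variable {K : Type u} [Field K] (F' : Type u) [Field F'] [Algebra K F'] [Algebra.IsAlgebraic K F']
  (D : Type u) [DivisionRing D] [Algebra F' D] [Algebra.IsCentral F' D] [FiniteDimensional F' D]

theorem descent (hb : ∀ (E : IntermediateField K F') [FiniteDimensional K E]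
     (D₀ : Type u) [DivisionRing D₀] [Algebra E D₀] [Algebra.IsCentral E D₀] [FiniteDimensional E D₀],
     ∃ n : ℕ, Nonempty ((F' ⊗[E] D₀) ≃ₐ[F'] Matrix (Fin n) (Fin n) F')) : finrank F' D = 1 := by
  classical
  obtain ⟨n, hn⟩ : ∃ n, n = finrank F' D := ⟨_, rfl⟩
  let b : Basis (Fin (finrank F' D)) F' D := Module.finBasis F' D
  let S : Finset F' := (Finset.univ.image fun t : Fin (finrank F' D) × Fin (finrank F' D) × Fin (finrank F' D) =>
      b.repr (b t.1 * b t.2.1) t.2.2) ∪ (Finset.univ.image fun l => b.repr 1 l)
  let E : IntermediateField K F' := IntermediateField.adjoin K (S : Set F')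
  have hfin : FiniteDimensional K E :=
    IntermediateField.finiteDimensional_adjoin (fun x _ => Algebra.IsIntegral.isIntegral x)
  have hc : ∀ i j l, b.repr (b i * b j) l ∈ E := by
    intro i j l
    apply IntermediateField.subset_adjoin
    simp only [S, Finset.coe_union, Finset.coe_image, Set.mem_union, Set.mem_image]
    left
    exact ⟨(i, j, l), by simp, rfl⟩
  have hu : ∀ l, b.repr 1 l ∈ E := by
    intro l
    apply IntermediateField.subset_adjoin
    simp only [S, Finset.coe_union, Finset.coe_image, Set.mem_union, Set.mem_image]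
    right
    exact ⟨l, by simp, rfl⟩
  let p : Submodule E D := Submodule.span E (Set.range b)
  have hbp : ∀ i, b i ∈ p := fun i => Submodule.subset_span ⟨i, rfl⟩
  have hone : (1 : D) ∈ p := by
    rw [← b.sum_repr 1]
    refine Submodule.sum_mem _ fun l _ => ?_
    have : b.repr 1 l • b l = (⟨b.repr 1 l, hu l⟩ : E) • b l := rfl
    rw [this]; exact p.smul_mem _ (hbp l)
  have hbb : ∀ i j, b i * b j ∈ p := by
    intro i j
    rw [← b.sum_repr (b i * b j)]
    refine Submodule.sum_mem _ fun l _ => ?_
    have : b.repr (b i * b j) l • b l = (⟨b.repr (b i * b j) l, hc i j l⟩ : E) • b l := rfl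
    rw [this]; exact p.smul_mem _ (hbp l)
  have hmul : ∀ x y, x ∈ p → y ∈ p → x * y ∈ p := by
    intro x y hx hy
    induction hx using Submodule.span_induction with
    | mem x hx =>
      obtain ⟨i, rfl⟩ := hx
      induction hy using Submodule.span_induction with
      | mem y hy => obtain ⟨j, rfl⟩ := hy; exact hbb i j
      | zero => simp
      | add y z _ _ hy hz => rw [mul_add]; exact p.add_mem hy hz
      | smul a y _ hy => rw [mul_smul_comm]; exact p.smul_mem _ hy
    | zero => simp
    | add x z _ _ hx hz => rw [add_mul]; exact p.add_mem hx hz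
    | smul a x _ hx => rw [smul_mul_assoc]; exact p.smul_mem _ hx
  let D₀ : Subalgebra E D := p.toSubalgebra hone hmul
  have hD₀fin : FiniteDimensional E D₀ := by
    have h1 : FiniteDimensional E p := FiniteDimensional.span_of_finite E (Set.finite_range b)
    exact h1
  have hcent : Algebra.IsCentral E D₀ := by
    constructor
    intro z hz
    rw [Subalgebra.mem_center_iff] at hz
    have h1 : ∀ i, b i * (z : D) = (z : D) * b i := fun i => congrArg Subtype.val (hz ⟨b i, hbp i⟩)
    have h2 : (z : D) ∈ Subalgebra.center F' D := by
      rw [Subalgebra.mem_center_iff]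
      intro d
      have hd : d ∈ Submodule.span F' (Set.range b) := by rw [b.span_eq]; trivial
      induction hd using Submodule.span_induction with
      | mem x hx => obtain ⟨i, rfl⟩ := hx; exact h1 i
      | zero => simp
      | add x y _ _ hx hy => rw [add_mul, mul_add, hx, hy]
      | smul a x _ hx => rw [smul_mul_assoc, mul_smul_comm, hx]
    obtain ⟨f, hf'⟩ := Algebra.IsCentral.out h2
    have hf : algebraMap F' D f = (z : D) := hf'
    obtain ⟨e, he⟩ := (Submodule.mem_span_range_iff_exists_fun E).1 z.2
    have h3 : ∀ l, f * b.repr 1 l = (e l : F') := by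
      intro l
      have h4 : b.repr (z : D) l = (e l : F') := by
        rw [← he]
        have : ∀ i, (e i) • b i = (e i : F') • b i := fun i => rfl
        simp only [this, map_sum, map_smul, Basis.repr_self, Finsupp.smul_single, smul_eq_mul, mul_one,
          Finsupp.coe_finsetSum, Finset.sum_apply, Finsupp.single_apply, Finset.sum_ite_eq',
          Finset.mem_univ, if_true]
      rw [← h4, ← hf]
      have : (algebraMap F' D) f = f • (1 : D) := Algebra.algebraMap_eq_smul_one f
      rw [this, map_smul]; simp
    obtain ⟨l, hl⟩ : ∃ l, b.repr 1 l ≠ 0 := by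
      by_contra h; push Not at h
      have : b.repr (1 : D) = 0 := Finsupp.ext h
      exact one_ne_zero (b.repr.map_eq_zero_iff.1 this)
    have hfE : f ∈ E := by
      have : f = (e l : F') / b.repr 1 l := by rw [← h3 l]; field_simp
      rw [this]; exact E.div_mem (e l).2 (hu l)
    rw [Algebra.mem_bot]
    exact ⟨⟨f, hfE⟩, Subtype.ext hf⟩
  let instD : DivisionRing D₀ := divisionRingOfFiniteDimensional E D₀
  obtain ⟨m, ⟨φ⟩⟩ := @hb E hfin D₀ instD _ hcent hD₀fin
  let μ : F' ⊗[E] D₀ →ₐ[F'] D := Algebra.TensorProduct.lift (Algebra.ofId F' D) D₀.val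
    (fun x y => by rw [Algebra.ofId_apply]; exact Algebra.commute_algebraMap_left x _)
  let ψ : Matrix (Fin m) (Fin m) F' →ₐ[F'] D := μ.comp φ.symm.toAlgHom
  have hm : m ≠ 0 := by
    rintro rfl
    have h0 : (1 : Matrix (Fin 0) (Fin 0) F') = 0 := Subsingleton.elim _ _
    have := congrArg ψ h0
    rw [map_one, map_zero] at this
    exact one_ne_zero this
  have : NeZero m := ⟨hm⟩
  have hinj : Function.Injective ψ := RingHom.injective (ψ : Matrix (Fin m) (Fin m) F' →+* D)
  have hsurj : Function.Surjective ψ := by
    have h1 : ∀ i, b i ∈ ψ.range := by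
      intro i
      refine ⟨φ (1 ⊗ₜ ⟨b i, hbp i⟩), ?_⟩
      show μ (φ.symm (φ _)) = b i
      rw [φ.symm_apply_apply]
      show Algebra.TensorProduct.lift _ _ _ (_ ⊗ₜ _) = _
      rw [Algebra.TensorProduct.lift_tmul, map_one, one_mul]
      rfl
    have h2 : Submodule.span F' (Set.range b) ≤ Subalgebra.toSubmodule ψ.range := by
      rw [Submodule.span_le]
      rintro _ ⟨i, rfl⟩
      exact h1 i
    rw [b.span_eq] at h2
    intro d
    exact h2 (Submodule.mem_top (x := d))
  let e1 : Matrix (Fin m) (Fin m) F' ≃ₐ[F'] D := AlgEquiv.ofBijective ψ ⟨hinj, hsurj⟩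
  let e2 : Matrix (Fin 1) (Fin 1) D ≃ₐ[F'] Matrix (Fin m) (Fin m) F' :=
    ((Matrix.reindexAlgEquiv F' D (Equiv.ofUnique Unit (Fin 1))).symm.trans
      (Matrix.uniqueAlgEquiv (m := Unit) (R := F') (A := D))).trans e1.symm
  obtain ⟨e3⟩ := matrix_equiv_imp_equiv F' D F' 1 m one_ne_zero hm e2
  rw [e3.toLinearEquiv.finrank_eq, Module.finrank_self]

end bwd

section fwd

theorem fwd (K F : Type u) [Field K] [Field F] [Algebra K F]
    (ha : ∀ (F' : Type u) [Field F'] [Algebra F F'] [FiniteDimensional F F'] [Algebra.IsSeparable F F']
        (D : Type u) [DivisionRing D] [Algebra F' D] [Algebra.IsCentral F' D] [FiniteDimensional F' D],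
        Module.finrank F' D = 1)
    (E : Type u) [Field E] [Algebra K E] [FiniteDimensional K E] [Algebra.IsSeparable K E]
    (D : Type u) [DivisionRing D] [Algebra E D] [Algebra.IsCentral E D] [FiniteDimensional E D]
    (M : Type u) [Field M] [Algebra K M] [Algebra E M] [Algebra F M] [IsScalarTower K E M]
    [IsScalarTower K F M] : KS E M D := by
  obtain ⟨α, hα⟩ := Field.exists_primitive_element K E
  let F' : IntermediateField F M := F⟮algebraMap E M α⟯
  have hαK : IsIntegral K (algebraMap E M α) := (Algebra.IsIntegral.isIntegral (R := K) α).algebraMap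
  have hint : IsIntegral F (algebraMap E M α) := hαK.tower_top
  have hfin : FiniteDimensional F F' := IntermediateField.adjoin.finiteDimensional hint
  have hsepK : IsSeparable K (algebraMap E M α) := by
    have h1 : IsSeparable K α := Algebra.IsSeparable.isSeparable K α
    unfold IsSeparable at h1 ⊢
    rwa [minpoly.algebraMap_eq (algebraMap E M).injective α]
  have hsep : Algebra.IsSeparable F F' :=
    (IntermediateField.isSeparable_adjoin_simple_iff_isSeparable F M).2 (hsepK.tower_top F)
  have hmem : ∀ e : E, algebraMap E M e ∈ F' := by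
    let S : IntermediateField K E := (F'.restrictScalars K).comap (IsScalarTower.toAlgHom K E M)
    have h1 : α ∈ S := by
      show algebraMap E M α ∈ F'
      exact IntermediateField.mem_adjoin_simple_self F _
    have h2 : K⟮α⟯ ≤ S := by
      rw [IntermediateField.adjoin_simple_le_iff]; exact h1
    rw [hα] at h2
    intro e
    exact h2 (IntermediateField.mem_top (x := e))
  let ι : E →+* F' := (algebraMap E M).codRestrict F' hmem
  let _ : Algebra E F' := ι.toAlgebra
  have : IsScalarTower E F' M := IsScalarTower.of_algebraMap_eq (fun e => rfl)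
  have hs : IsSimpleRing (F' ⊗[E] D) := Groth.Agent.Helper8.isSimpleRing_baseChange E F' D
  have hc : Algebra.IsCentral F' (F' ⊗[E] D) := Groth.Agent.Helper8.isCentral_baseChange E F' D
  have hart : IsArtinianRing (F' ⊗[E] D) := IsArtinianRing.of_finite F' _
  obtain ⟨r, hr, D', _, _, _, ⟨e⟩⟩ :=
    IsSimpleRing.exists_algEquiv_matrix_divisionRing_finite F' (F' ⊗[E] D)
  have hc' : Algebra.IsCentral F' D' := isCentral_of_matrix_equiv' e
  have h1 : finrank F' D' = 1 := ha F' D'
  have h2 : KS E F' D := by
    have : Nontrivial D' := Module.nontrivial_of_finrank_pos (R := F') (by omega)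
    have h1' : (⊥ : Subalgebra F' D') = ⊤ := Subalgebra.bot_eq_top_of_finrank_eq_one h1
    let e' : D' ≃ₐ[F'] F' :=
      ((Subalgebra.topEquiv (R := F') (A := D')).symm.trans
        (Subalgebra.equivOfEq _ _ h1'.symm)).trans (Algebra.botEquiv F' D')
    exact ⟨r, NeZero.ne r, ⟨e.trans e'.mapMatrix⟩⟩
  exact KS.extend h2

end fwd

theorem main
    (K F : Type u) [Field K] [Field F] [Algebra K F] [Algebra.IsSeparable K F] :
    (∀ (F' : Type u) [Field F'] [Algebra F F'] [FiniteDimensional F F'] [Algebra.IsSeparable F F']
        (D : Type u) [DivisionRing D] [Algebra F' D] [Algebra.IsCentral F' D] [FiniteDimensional F' D],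
        Module.finrank F' D = 1) ↔
    (∀ (E : Type u) [Field E] [Algebra K E] [FiniteDimensional K E] [Algebra.IsSeparable K E]
        (D : Type u) [DivisionRing D] [Algebra E D] [Algebra.IsCentral E D] [FiniteDimensional E D]
        (M : Type u) [Field M] [Algebra K M] [Algebra E M] [Algebra F M] [IsScalarTower K E M]
        [IsScalarTower K F M],
        ∃ n : ℕ, Nonempty ((M ⊗[E] D) ≃ₐ[M] Matrix (Fin n) (Fin n) M)) := by
  constructor
  · intro ha E _ _ _ _ D _ _ _ _ M _ _ _ _ _ _
    obtain ⟨n, -, h⟩ := fwd K F ha E D M
    exact ⟨n, h⟩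
  · intro hb F' _ _ _ _ D _ _ _ _
    let _ : Algebra K F' := ((algebraMap F F').comp (algebraMap K F)).toAlgebra
    have : IsScalarTower K F F' := IsScalarTower.of_algebraMap_eq (fun _ => rfl)
    have : Algebra.IsSeparable K F' := Algebra.IsSeparable.trans K F F'
    apply descent (K := K) F' D
    intro E _ D₀ _ _ _ _
    exact hb E D₀ F'


end


/-- For a field K with maximal abelian extension K_ab, cd(K_ab) ≤ 1 if and only if for every etale
K-algebra E the restriction map Br(E) ⟶ Br(E ⊗_K K_ab) is trivial; the same holds with the maximal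
solvable extension. Stated here for an arbitrary separable algebraic extension F of K in place of
K_ab (the published lemma takes for F the maximal abelian or the maximal solvable extension of K;
this row allows any separable algebraic extension), with cd(F) ≤ 1 unfolded by the Brauer-group
criterion (every finite separable extension of F has trivial Brauer group) and with etale algebras
replaced by their field factors: (a) every finite-dimensional central division algebra over a finite
separable extension F′ of F is F′ itself; if and only if (b) for every finite separable extension E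
of K, every finite-dimensional central division algebra D over E and every field M containing E and
F compatibly over K, the base change M ⊗_E D is isomorphic over M to a matrix algebra over M. -/
theorem result
    (K F : Type u) [Field K] [Field F] [Algebra K F] [Algebra.IsSeparable K F] :
    (∀ (F' : Type u) [Field F'] [Algebra F F'] [FiniteDimensional F F'] [Algebra.IsSeparable F F']
        (D : Type u) [DivisionRing D] [Algebra F' D] [Algebra.IsCentral F' D] [FiniteDimensional F' D],
        Module.finrank F' D = 1) ↔
    (∀ (E : Type u) [Field E] [Algebra K E] [FiniteDimensional K E] [Algebra.IsSeparable K E]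
        (D : Type u) [DivisionRing D] [Algebra E D] [Algebra.IsCentral E D] [FiniteDimensional E D]
        (M : Type u) [Field M] [Algebra K M] [Algebra E M] [Algebra F M] [IsScalarTower K E M]
        [IsScalarTower K F M],
        ∃ n : ℕ, Nonempty ((M ⊗[E] D) ≃ₐ[M] Matrix (Fin n) (Fin n) M)) := by
  classical
  exact main K F

end Groth.Agent.S18519
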