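import Groth.Statements.S1852
import Mathlib
import Groth.Prelude.Def_CycDet
-- import your own Groth.Agent.* helpers here

set_option autoImplicit false
universe u
open CycAlg

namespace Groth.Agent.S1852

open CycDet
namespace Aux

section Loc
variable {R : Type u} [CommRing R] (q : Ideal R) [q.IsPrime]

theorem length_add {A B C : Type u} [AddCommGroup A] [Module R A] [AddCommGroup B] [Module R B]
    [AddCommGroup C] [Module R C] (f : A →ₗ[R] B) (g : B →ₗ[R] C)
    (hf : Function.Injective f) (hg : Function.Surjective g) (H : Function.Exact f g) :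
    Module.length (Localization.AtPrime q) (LocalizedModule q.primeCompl B) =
      Module.length (Localization.AtPrime q) (LocalizedModule q.primeCompl A) +
      Module.length (Localization.AtPrime q) (LocalizedModule q.primeCompl C) :=
  Module.length_eq_add_of_exact (LocalizedModule.map q.primeCompl f)
    (LocalizedModule.map q.primeCompl g)
    (LocalizedModule.map_injective _ f hf) (LocalizedModule.map_surjective _ g hg)
    (LocalizedModule.map_exact q.primeCompl f g H)

theorem length_congr {A B : Type u} [AddCommGroup A] [Module R A] [AddCommGroup B] [Module R B]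
    (e : A ≃ₗ[R] B) :
    Module.length (Localization.AtPrime q) (LocalizedModule q.primeCompl A) =
      Module.length (Localization.AtPrime q) (LocalizedModule q.primeCompl B) :=
  (IsLocalizedModule.mapEquiv q.primeCompl (LocalizedModule.mkLinearMap _ A)
    (LocalizedModule.mkLinearMap _ B) (Localization.AtPrime q) e).length_eq

theorem length_of_subsingleton {A : Type u} [AddCommGroup A] [Module R A] [Subsingleton A] :
    Module.length (Localization.AtPrime q) (LocalizedModule q.primeCompl A) = 0 := by
  rw [Module.length_eq_zero_iff, LocalizedModule.subsingleton_iff]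
  intro m
  exact ⟨1, q.primeCompl.one_mem, Subsingleton.elim _ _⟩

theorem length_quot_self :
    Module.length (Localization.AtPrime q) (LocalizedModule q.primeCompl (R ⧸ q)) = 1 := by
  rw [Module.length_eq_one_iff, isSimpleModule_iff_toSpanSingleton_surjective]
  constructor
  · refine ⟨⟨LocalizedModule.mk (1 : R ⧸ q) 1, 0, ?_⟩⟩
    intro h
    rw [← LocalizedModule.zero_mk 1, LocalizedModule.mk_eq] at h
    obtain ⟨u, hu⟩ := h
    simp only [one_smul, smul_zero] at hu
    have : ((u : R) : R ⧸ q) = 0 := by
      have : (u : R) • (1 : R ⧸ q) = 0 := hu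
      simpa [Algebra.smul_def] using this
    exact u.2 (Ideal.Quotient.eq_zero_iff_mem.1 this)
  · intro x hx z
    induction x using LocalizedModule.induction_on with
    | h a s =>
    induction z using LocalizedModule.induction_on with
    | h b t =>
    obtain ⟨a, rfl⟩ := Ideal.Quotient.mk_surjective a
    obtain ⟨b, rfl⟩ := Ideal.Quotient.mk_surjective b
    have ha : a ∉ q := by
      intro ha
      apply hx
      rw [Ideal.Quotient.eq_zero_iff_mem.2 ha, LocalizedModule.zero_mk]
    refine ⟨Localization.mk (b * s) (⟨a, ha⟩ * t), ?_⟩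
    rw [LinearMap.toSpanSingleton_apply, LocalizedModule.mk_smul_mk, LocalizedModule.mk_eq]
    refine ⟨1, ?_⟩
    simp only [one_smul]
    show (t : R) • ((b * s) • (Ideal.Quotient.mk q a)) = ((⟨a, ha⟩ * t * s : q.primeCompl) : R) • _
    simp only [Algebra.smul_def, Ideal.Quotient.algebraMap_eq, ← map_mul]
    congr 1
    push_cast
    ring

end Loc

section Span
variable {R : Type u} [CommRing R] [IsLocalRing R] {M : Type u} [AddCommGroup M] [Module R M]

theorem spanBefore_zero {l : ℕ} (x : Fin l → M) : spanBefore R M x 0 = ⊥ := by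
  unfold spanBefore; simp

theorem spanBefore_all {l : ℕ} (x : Fin l → M) :
    spanBefore R M x l = Submodule.span R (Set.range x) := by
  unfold spanBefore
  congr 1
  ext m; constructor
  · rintro ⟨j, _, rfl⟩; exact ⟨j, rfl⟩
  · rintro ⟨j, rfl⟩; exact ⟨j, j.2, rfl⟩

theorem spanBefore_mono {l : ℕ} (x : Fin l → M) {i j : ℕ} (h : i ≤ j) :
    spanBefore R M x i ≤ spanBefore R M x j := by
  unfold spanBefore
  apply Submodule.span_mono
  rintro m ⟨k, hk, rfl⟩
  exact ⟨k, lt_of_lt_of_le hk h, rfl⟩

theorem spanBefore_snoc_le {k : ℕ} (x : Fin k → M) (m : M) {i : ℕ} (hi : i ≤ k) :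
    spanBefore R M (Fin.snoc x m : Fin (k + 1) → M) i = spanBefore R M x i := by
  unfold spanBefore
  congr 1
  ext y; constructor
  · rintro ⟨j, hj, rfl⟩
    have hjk : (j : ℕ) < k := lt_of_lt_of_le hj hi
    refine ⟨⟨j, hjk⟩, hj, ?_⟩
    have : j = Fin.castSucc ⟨j, hjk⟩ := by ext; rfl
    conv_rhs => rw [this]
    rw [Fin.snoc_castSucc]
  · rintro ⟨j, hj, rfl⟩
    exact ⟨Fin.castSucc j, hj, by simp⟩

theorem spanBefore_snoc_succ {k : ℕ} (x : Fin k → M) (m : M) :
    spanBefore R M (Fin.snoc x m : Fin (k + 1) → M) (k + 1) =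
      Submodule.span R (Set.range x) ⊔ Submodule.span R {m} := by
  rw [spanBefore_all, Fin.range_snoc, Submodule.span_insert, sup_comm]

/-- the condition on successive quotients -/
def Cond (q : Ideal R) {l : ℕ} (x : Fin l → M) (i : Fin l) : Prop :=
  Nonempty ((↥(spanBefore R M x ((i : ℕ) + 1)) ⧸
    (spanBefore R M x i).submoduleOf (spanBefore R M x ((i : ℕ) + 1))) ≃ₗ[R] (R ⧸ q))

theorem cond_of_eq (q : Ideal R) {A A' B B' : Submodule R M} (hA : A = A') (hB : B = B')
    (h : Nonempty ((↥A ⧸ B.submoduleOf A) ≃ₗ[R] (R ⧸ q))) :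
    Nonempty ((↥A' ⧸ B'.submoduleOf A') ≃ₗ[R] (R ⧸ q)) := by
  subst hA; subst hB; exact h

theorem step_iso (q : Ideal R) (N : Submodule R M) (m : M)
    (f : R ⧸ q →ₗ[R] M ⧸ N) (hf : Function.Injective f) (hm : f 1 = Submodule.Quotient.mk m) :
    Nonempty ((↥(N ⊔ Submodule.span R {m}) ⧸ N.submoduleOf (N ⊔ Submodule.span R {m})) ≃ₗ[R]
      (R ⧸ q)) := by
  set A := N ⊔ Submodule.span R {m} with hA
  let φ : A →ₗ[R] M ⧸ N := N.mkQ ∘ₗ A.subtype
  have hker : LinearMap.ker φ = N.submoduleOf A := by
    rw [LinearMap.ker_comp, Submodule.ker_mkQ]; rfl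
  have hrange : LinearMap.range φ = LinearMap.range f := by
    rw [LinearMap.range_comp, Submodule.range_subtype, hA, Submodule.map_sup,
      Submodule.map_span, Set.image_singleton]
    have h1 : Submodule.map N.mkQ N = ⊥ := by
      exact Submodule.mkQ_map_self N
    have h2 : LinearMap.range f = Submodule.span R {f 1} := by
      have htop : (⊤ : Submodule R (R ⧸ q)) = Submodule.span R {(1 : R ⧸ q)} := by
        symm; rw [Submodule.eq_top_iff']
        intro y
        obtain ⟨r, rfl⟩ := Ideal.Quotient.mk_surjective y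
        rw [Submodule.mem_span_singleton]
        exact ⟨r, by simp [Algebra.smul_def]⟩
      rw [← Submodule.map_top, htop, Submodule.map_span, Set.image_singleton]
    rw [h1, h2, hm, bot_sup_eq]
    rfl
  exact ⟨(Submodule.quotEquivOfEq _ _ hker.symm).trans
    ((φ.quotKerEquivRange).trans ((LinearEquiv.ofEq _ _ hrange).trans
      (LinearEquiv.ofInjective f hf).symm))⟩

end Span

section Main
variable {R : Type u} [CommRing R] [IsNoetherianRing R] [IsLocalRing R] {M : Type u}
  [AddCommGroup M] [Module R M] [Module.Finite R M]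

theorem exists_seq (q : PrimeSpectrum R)
    (hH : ∀ p ∈ Module.support R M, p ≤ q → p = q) :
    ∀ N : Submodule R M, ∀ (k : ℕ) (x : Fin k → M), Submodule.span R (Set.range x) = N →
      (∀ i : Fin k, Cond q.asIdeal x i) →
      ∃ (l : ℕ) (x' : Fin l → M),
        q ∉ Module.support R (M ⧸ Submodule.span R (Set.range x')) ∧
        ∀ i : Fin l, Cond q.asIdeal x' i := by
  intro N
  induction N using WellFoundedGT.induction with
  | ind N ih =>
  intro k x hx hc
  by_cases hs : q ∈ Module.support R (M ⧸ N)
  · -- q is minimal in the support of M ⧸ N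
    have hmin : q.asIdeal ∈ (Module.annihilator R (M ⧸ N)).minimalPrimes := by
      rw [Module.support_eq_zeroLocus] at hs
      refine ⟨⟨q.2, hs⟩, ?_⟩
      rintro p ⟨hp, hpa⟩ hpq
      have h1 : (⟨p, hp⟩ : PrimeSpectrum R) ∈ Module.support R (M ⧸ N) := by
        rw [Module.support_eq_zeroLocus]; exact hpa
      have h2 := Module.support_subset_of_surjective N.mkQ (Submodule.mkQ_surjective N) h1
      have h3 := hH _ h2 hpq
      rw [← h3]
    have hass := Module.associatedPrimes.minimalPrimes_annihilator_subset_associatedPrimes R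
      (M ⧸ N) hmin
    obtain ⟨_, f, hf⟩ := (isAssociatedPrime_iff_exists_injective_linearMap _ _).1 hass
    obtain ⟨m, hm⟩ := N.mkQ_surjective (f 1)
    have hmN : m ∉ N := by
      intro hmN
      have : f 1 = f 0 := by
        rw [map_zero, ← hm]; exact (Submodule.Quotient.mk_eq_zero N).2 hmN
      have h10 := hf this
      exact one_ne_zero h10
    have hlt : N < N ⊔ Submodule.span R {m} := by
      refine lt_of_le_of_ne le_sup_left ?_
      intro h
      apply hmN
      rw [h]
      exact Submodule.mem_sup_right (Submodule.mem_span_singleton_self m)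
    refine ih (N ⊔ Submodule.span R {m}) hlt (k + 1) (Fin.snoc x m) ?_ ?_
    · rw [Fin.range_snoc, Submodule.span_insert, sup_comm, hx]
    · intro i
      induction i using Fin.lastCases with
      | last =>
        unfold Cond
        refine cond_of_eq q.asIdeal ?_ ?_ (step_iso q.asIdeal N m f hf hm.symm)
        · rw [Fin.val_last, spanBefore_snoc_succ, hx]
        · rw [Fin.val_last, spanBefore_snoc_le x m le_rfl, spanBefore_all, hx]
      | cast j =>
        unfold Cond
        refine cond_of_eq q.asIdeal ?_ ?_ (hc j)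
        · rw [Fin.val_castSucc, spanBefore_snoc_le x m (by omega)]
        · rw [Fin.val_castSucc, spanBefore_snoc_le x m (by omega)]
  · exact ⟨k, x, by rwa [hx], hc⟩

theorem length_spanBefore (q : PrimeSpectrum R) {l : ℕ} (x : Fin l → M)
    (hc : ∀ i, Cond q.asIdeal x i) :
    ∀ i ≤ l, Module.length (Localization.AtPrime q.asIdeal)
      (LocalizedModule q.asIdeal.primeCompl (spanBefore R M x i)) = i := by
  intro i
  induction i with
  | zero =>
    intro _
    rw [spanBefore_zero]
    simpa using length_of_subsingleton q.asIdeal (A := (⊥ : Submodule R M))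
  | succ i ih =>
    intro hi
    have hBA : spanBefore R M x i ≤ spanBefore R M x (i + 1) := spanBefore_mono x (by omega)
    obtain ⟨e⟩ := hc ⟨i, by omega⟩
    have h1 := length_add q.asIdeal
      ((spanBefore R M x i).submoduleOf (spanBefore R M x (i + 1))).subtype
      ((spanBefore R M x i).submoduleOf (spanBefore R M x (i + 1))).mkQ
      (Submodule.subtype_injective _) (Submodule.mkQ_surjective _)
      (LinearMap.exact_subtype_mkQ _)
    have h2 := length_congr q.asIdeal (Submodule.submoduleOfEquivOfLe hBA)
    have h3 := length_congr q.asIdeal e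
    rw [h1, h2, ih (by omega)]
    change _ + Module.length (Localization.AtPrime q.asIdeal) (LocalizedModule q.asIdeal.primeCompl
      (↥(spanBefore R M x (i + 1)) ⧸
        (spanBefore R M x i).submoduleOf (spanBefore R M x (i + 1)))) = _
    change Module.length (Localization.AtPrime q.asIdeal) (LocalizedModule q.asIdeal.primeCompl
      (↥(spanBefore R M x (i + 1)) ⧸
        (spanBefore R M x i).submoduleOf (spanBefore R M x (i + 1)))) = _ at h3
    rw [h3, length_quot_self]
    push_cast
    rfl

theorem main (q : PrimeSpectrum R)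
    (hq : Minimal (fun p : PrimeSpectrum R => p ∈ Module.support R M) q) :
    (∃ (l : ℕ) (x : Fin l → M),
      q ∉ Module.support R (M ⧸ Submodule.span R (Set.range x)) ∧
      ∀ i : Fin l, Nonempty ((↥(CycDet.spanBefore R M x (i + 1)) ⧸
        (CycDet.spanBefore R M x i).submoduleOf (CycDet.spanBefore R M x (i + 1))) ≃ₗ[R]
          (R ⧸ q.asIdeal))) ∧
    ∀ (l : ℕ) (x : Fin l → M),
      q ∉ Module.support R (M ⧸ Submodule.span R (Set.range x)) →
      (∀ i : Fin l, Nonempty ((↥(CycDet.spanBefore R M x (i + 1)) ⧸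
        (CycDet.spanBefore R M x i).submoduleOf (CycDet.spanBefore R M x (i + 1))) ≃ₗ[R]
          (R ⧸ q.asIdeal))) →
      (l : ℕ∞) = Module.length (Localization.AtPrime q.asIdeal)
        (LocalizedModule q.asIdeal.primeCompl M) := by
  constructor
  · have hH : ∀ p ∈ Module.support R M, p ≤ q → p = q := fun p hp hpq =>
      le_antisymm hpq (hq.2 hp hpq)
    obtain ⟨l, x, h1, h2⟩ := exists_seq q hH ⊥ 0 (Fin.elim0) (by simp) (fun i => i.elim0)
    exact ⟨l, x, h1, h2⟩
  · intro l x hs hc
    have h1 := length_spanBefore q x hc l le_rfl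
    rw [spanBefore_all] at h1
    have h2 := length_add q.asIdeal (Submodule.span R (Set.range x)).subtype
      (Submodule.span R (Set.range x)).mkQ (Submodule.subtype_injective _)
      (Submodule.mkQ_surjective _) (LinearMap.exact_subtype_mkQ _)
    rw [Module.notMem_support_iff] at hs
    rw [h2, h1, Module.length_eq_zero_iff.2 hs, add_zero]

end Main

end Aux

/-- Let R be a Noetherian local ring, M a finite R-module and 𝔮 a minimal prime of the support of M.
There are x₁, …, x_l in M such that 𝔮 is not in the support of M/⟨x₁, …, x_l⟩ and each ⟨x₁, …,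
x_i⟩/⟨x₁, …, x_{i−1}⟩ is isomorphic to R/𝔮; and for any such sequence l equals the length of M_𝔮
over R_𝔮. -/
theorem result (R : Type u) [CommRing R] [IsNoetherianRing R] [IsLocalRing R] (M : Type u) [AddCommGroup M] [Module R M] [Module.Finite R M] (q : PrimeSpectrum R) (hq : Minimal (fun p : PrimeSpectrum R => p ∈ Module.support R M) q) : (∃ (l : ℕ) (x : Fin l → M), q ∉ Module.support R (M ⧸ Submodule.span R (Set.range x)) ∧ ∀ i : Fin l, Nonempty ((↥(CycDet.spanBefore R M x (i + 1)) ⧸ (CycDet.spanBefore R M x i).submoduleOf (CycDet.spanBefore R M x (i + 1))) ≃ₗ[R] (R ⧸ q.asIdeal))) ∧ ∀ (l : ℕ) (x : Fin l → M), q ∉ Module.support R (M ⧸ Submodule.span R (Set.range x)) → (∀ i : Fin l, Nonempty ((↥(CycDet.spanBefore R M x (i + 1)) ⧸ (CycDet.spanBefore R M x i).submoduleOf (CycDet.spanBefore R M x (i + 1))) ≃ₗ[R] (R ⧸ q.asIdeal))) → (l : ℕ∞) = Module.length (Localization.AtPrime q.asIdeal) (LocalizedModule q.asIdeal.primeCompl M) := by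
  exact Aux.main q hq

end Groth.Agent.S1852
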