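import Groth.Statements.S18545
import Mathlib

set_option autoImplicit false
universe u
open AbVar

namespace Groth.Agent.S18545

section
open Module

variable {K : Type u} [Field K] {V : Type u} [AddCommGroup V] [Module K V] [FiniteDimensional K V]

/-- injectivity of a similitude -/
theorem sim_inj (e : LinearMap.BilinForm K V) (hnd : e.Nondegenerate)
    (s : Module.End K V) (c : K) (hc : c ≠ 0) (hs : ∀ x y : V, e (s x) (s y) = c * e x y) :
    Function.Injective s := by
  rw [← LinearMap.ker_eq_bot, LinearMap.ker_eq_bot']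
  intro v hv
  apply hnd.1 v
  intro y
  have := hs v y
  rw [hv, map_zero, LinearMap.zero_apply] at this
  rcases mul_eq_zero.1 this.symm with h | h
  · exact absurd h hc
  · exact h

theorem perp_stable (e : LinearMap.BilinForm K V) (hnd : e.Nondegenerate)
    (F : Subalgebra K (Module.End K V))
    (S : Set (Module.End K V)) (hS : Submodule.span K S = Subalgebra.toSubmodule F)
    (hsim : ∀ s ∈ S, ∃ c : K, c ≠ 0 ∧ ∀ x y : V, e (s x) (s y) = c * e x y)
    (W : Submodule K V) (hWF : ∀ f ∈ F, ∀ w ∈ W, f w ∈ W) :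
    ∀ f ∈ F, ∀ x ∈ e.orthogonal W, f x ∈ e.orthogonal W := by
  intro f hf
  have hf' : f ∈ Submodule.span K S := by rw [hS]; exact hf
  induction hf' using Submodule.span_induction with
  | mem s hs =>
    obtain ⟨c, hc, hsc⟩ := hsim s hs
    have hsF : s ∈ F := by
      have : s ∈ Submodule.span K S := Submodule.subset_span hs
      rw [hS] at this
      exact this
    intro x hx
    rw [LinearMap.BilinForm.mem_orthogonal_iff] at hx ⊢
    intro w hw
    -- w = s w'
    let sW : W →ₗ[K] W := s.restrict (fun w hw => hWF s hsF w hw)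
    have hinj : Function.Injective sW := by
      intro a b hab
      apply Subtype.ext
      apply sim_inj e hnd s c hc hsc
      have := congrArg Subtype.val hab
      simpa [sW] using this
    have hsurj : Function.Surjective sW := LinearMap.surjective_of_injective hinj
    obtain ⟨w', hw'⟩ := hsurj ⟨w, hw⟩
    have hw'' : s (w' : V) = w := by
      have := congrArg Subtype.val hw'
      simpa [sW] using this
    rw [← hw'', hsc, hx _ w'.2, mul_zero]
  | zero =>
    intro x hx
    simp
  | add f g _ _ ihf ihg =>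
    intro x hx
    rw [LinearMap.add_apply]
    have hf1 : f ∈ F := by
      have : f ∈ Submodule.span K S := by assumption
      rw [hS] at this; exact this
    have hg1 : g ∈ F := by
      have : g ∈ Submodule.span K S := by assumption
      rw [hS] at this; exact this
    exact Submodule.add_mem _ (ihf hf1 x hx) (ihg hg1 x hx)
  | smul a f _ ihf =>
    intro x hx
    rw [LinearMap.smul_apply]
    have hf1 : f ∈ F := by
      have : f ∈ Submodule.span K S := by assumption
      rw [hS] at this; exact this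
    exact Submodule.smul_mem _ a (ihf hf1 x hx)

/-- existence of a common eigenvector in `U \ W'` -/
theorem exists_eigen (F : Subalgebra K (Module.End K V)) (r : ℕ) (φ : F ≃ₐ[K] (Fin r → K))
    (U W' : Submodule K V) (hUF : ∀ f ∈ F, ∀ x ∈ U, f x ∈ U) (hne : ¬ U ≤ W') :
    ∃ u ∈ U, u ∉ W' ∧ ∃ χ : F → K, ∀ f : F, (f : Module.End K V) u = χ f • u := by
  classical
  obtain ⟨x, hxU, hxW⟩ := Set.not_subset.1 hne
  -- idempotents
  let ε : Fin r → F := fun i => φ.symm (Pi.single i 1)
  have hsum : ∑ i, ε i = 1 := by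
    apply φ.injective
    rw [map_sum, map_one]
    simp only [ε, AlgEquiv.apply_symm_apply]
    exact Finset.univ_sum_single (1 : Fin r → K)
  have hmul : ∀ (f : F) (i : Fin r), f * ε i = (φ f i) • ε i := by
    intro f i
    apply φ.injective
    rw [map_mul, map_smul]
    simp only [ε, AlgEquiv.apply_symm_apply]
    funext j
    by_cases hj : j = i
    · subst hj; simp
    · simp [Pi.single_eq_of_ne hj]
  have hx : x = ∑ i, ((ε i : F) : Module.End K V) x := by
    have h1 : ((∑ i, ε i : F) : Module.End K V) x = x := by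
      rw [hsum]; rfl
    have h2 : ((∑ i, ε i : F) : Module.End K V) x = ∑ i, ((ε i : F) : Module.End K V) x := by
      simp [LinearMap.sum_apply]
    rw [← h2, h1]
  have hex : ∃ i, ((ε i : F) : Module.End K V) x ∉ W' := by
    by_contra hcon
    apply hxW
    rw [hx]
    apply Submodule.sum_mem
    intro i _
    by_contra h
    exact hcon ⟨i, h⟩
  obtain ⟨i, hi⟩ := hex
  refine ⟨((ε i : F) : Module.End K V) x, hUF _ (ε i).2 x hxU, hi, fun f => φ f i, ?_⟩
  intro f
  have := hmul f i
  have h2 : ((f * ε i : F) : Module.End K V) x = (((φ f i) • ε i : F) : Module.End K V) x := by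
    rw [this]
  simpa using h2

theorem iso_le (g : ℕ) (hV : Module.finrank K V = 2 * g)
    (e : LinearMap.BilinForm K V) (hnd : e.Nondegenerate)
    (W : Submodule K V) (hWiso : ∀ x ∈ W, ∀ y ∈ W, e x y = 0) :
    W ≤ e.orthogonal W ∧ Module.finrank K (e.orthogonal W) = 2 * g - Module.finrank K W ∧
      Module.finrank K W ≤ g := by
  have hle : W ≤ e.orthogonal W := by
    intro x hx
    rw [LinearMap.BilinForm.mem_orthogonal_iff]
    intro n hn
    exact hWiso n hn x hx
  have h1 := LinearMap.BilinForm.finrank_orthogonal hnd W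
  rw [hV] at h1
  have h2 := Submodule.finrank_mono hle
  have h3 : Module.finrank K W ≤ 2 * g := by
    rw [← hV]; exact Submodule.finrank_le W
  refine ⟨hle, h1, ?_⟩
  omega

theorem ext_iso (e : LinearMap.BilinForm K V) (he : e.IsAlt)
    (W : Submodule K V) (hWiso : ∀ x ∈ W, ∀ y ∈ W, e x y = 0) (u : V) (hu : u ∈ e.orthogonal W) :
    ∀ x ∈ W ⊔ Submodule.span K {u}, ∀ y ∈ W ⊔ Submodule.span K {u}, e x y = 0 := by
  intro x hx y hy
  rw [Submodule.mem_sup] at hx hy
  obtain ⟨w, hw, z, hz, rfl⟩ := hx
  obtain ⟨w', hw', z', hz', rfl⟩ := hy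
  rw [Submodule.mem_span_singleton] at hz hz'
  obtain ⟨a, rfl⟩ := hz
  obtain ⟨b, rfl⟩ := hz'
  rw [LinearMap.BilinForm.mem_orthogonal_iff] at hu
  have h1 : e u w' = 0 := by
    rw [← he.neg_eq, hu w' hw', neg_zero]
  simp only [map_add, LinearMap.add_apply, map_smul, LinearMap.smul_apply, smul_eq_mul,
    hWiso w hw w' hw', hu w hw, h1, he.self_eq_zero u, mul_zero, add_zero]

theorem ext_stable (F : Subalgebra K (Module.End K V))
    (W : Submodule K V) (hWF : ∀ f ∈ F, ∀ w ∈ W, f w ∈ W) (u : V) (χ : F → K)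
    (hχ : ∀ f : F, (f : Module.End K V) u = χ f • u) :
    ∀ f ∈ F, ∀ x ∈ W ⊔ Submodule.span K {u}, f x ∈ W ⊔ Submodule.span K {u} := by
  intro f hf x hx
  rw [Submodule.mem_sup] at hx
  obtain ⟨w, hw, z, hz, rfl⟩ := hx
  rw [Submodule.mem_span_singleton] at hz
  obtain ⟨a, rfl⟩ := hz
  rw [map_add, map_smul]
  have := hχ ⟨f, hf⟩
  simp only at this
  rw [this]
  apply Submodule.add_mem
  · exact Submodule.mem_sup_left (hWF f hf w hw)
  · apply Submodule.mem_sup_right
    exact Submodule.smul_mem _ _ (Submodule.smul_mem _ _ (Submodule.mem_span_singleton_self u))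

theorem main (K : Type u) [Field K]
    (V : Type u) [AddCommGroup V] [Module K V] [FiniteDimensional K V] (g : ℕ) (hV : Module.finrank K V = 2 * g)
    (e : LinearMap.BilinForm K V) (he : e.IsAlt) (hnd : e.Nondegenerate)
    (F : Subalgebra K (Module.End K V)) (r : ℕ) (hF : Nonempty (F ≃ₐ[K] (Fin r → K)))
    (S : Set (Module.End K V)) (hS : Submodule.span K S = Subalgebra.toSubmodule F)
    (hsim : ∀ s ∈ S, ∃ c : K, c ≠ 0 ∧ ∀ x y : V, e (s x) (s y) = c * e x y)
    (D : Set (Module.End K V))
    (hmax : ∀ W : Submodule K V, (∀ f ∈ F, ∀ w ∈ W, f w ∈ W) → (∀ x ∈ W, ∀ y ∈ W, e x y = 0) →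
      Module.finrank K W = g → ∀ d ∈ D, ∀ w ∈ W, d w ∈ W)
    (W : Submodule K V) (hWF : ∀ f ∈ F, ∀ w ∈ W, f w ∈ W) (hWiso : ∀ x ∈ W, ∀ y ∈ W, e x y = 0) :
    ∀ d ∈ D, ∀ w ∈ W, d w ∈ W := by
  obtain ⟨φ⟩ := hF
  have key : ∀ n : ℕ, ∀ W : Submodule K V, (∀ f ∈ F, ∀ w ∈ W, f w ∈ W) →
      (∀ x ∈ W, ∀ y ∈ W, e x y = 0) → g - Module.finrank K W ≤ n →
      ∀ d ∈ D, ∀ w ∈ W, d w ∈ W := by
    intro n
    induction n with
    | zero =>
      intro W hWF hWiso hn
      obtain ⟨_, _, hle⟩ := iso_le g hV e hnd W hWiso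
      exact hmax W hWF hWiso (by omega)
    | succ n ih =>
      intro W hWF hWiso hn
      obtain ⟨hWle, hperp, hle⟩ := iso_le g hV e hnd W hWiso
      by_cases hlt : Module.finrank K W = g
      · exact hmax W hWF hWiso hlt
      have hlt' : Module.finrank K W < g := lt_of_le_of_ne hle hlt
      have hPF := perp_stable e hnd F S hS hsim W hWF
      -- first eigenvector
      have hne1 : ¬ e.orthogonal W ≤ W := by
        intro h
        have := Submodule.finrank_mono h
        omega
      obtain ⟨u₁, hu₁, hu₁W, χ₁, hχ₁⟩ := exists_eigen F r φ (e.orthogonal W) W hPF hne1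
      obtain ⟨W₁, hW₁⟩ : ∃ W₁, W₁ = W ⊔ Submodule.span K {u₁} := ⟨_, rfl⟩
      have hW₁iso : ∀ x ∈ W₁, ∀ y ∈ W₁, e x y = 0 := by
        rw [hW₁]; exact ext_iso e he W hWiso u₁ hu₁
      have hW₁F : ∀ f ∈ F, ∀ x ∈ W₁, f x ∈ W₁ := by
        rw [hW₁]; exact ext_stable F W hWF u₁ χ₁ hχ₁
      have hWW₁ : W < W₁ := by
        rw [hW₁]
        apply lt_of_le_of_ne le_sup_left
        intro h
        apply hu₁W
        rw [h]
        exact Submodule.mem_sup_right (Submodule.mem_span_singleton_self u₁)
      have hfr1 : Module.finrank K W < Module.finrank K W₁ :=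
        Submodule.finrank_lt_finrank_of_lt hWW₁
      have hfr1' : Module.finrank K W₁ ≤ Module.finrank K W + 1 := by
        rw [hW₁, Submodule.finrank_sup_span_singleton hu₁W]
      -- second eigenvector
      have hne2 : ¬ e.orthogonal W ≤ W₁ := by
        intro h
        have := Submodule.finrank_mono h
        omega
      obtain ⟨u₂, hu₂, hu₂W, χ₂, hχ₂⟩ := exists_eigen F r φ (e.orthogonal W) W₁ hPF hne2
      obtain ⟨W₂, hW₂⟩ : ∃ W₂, W₂ = W ⊔ Submodule.span K {u₂} := ⟨_, rfl⟩
      have hW₂iso : ∀ x ∈ W₂, ∀ y ∈ W₂, e x y = 0 := by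
        rw [hW₂]; exact ext_iso e he W hWiso u₂ hu₂
      have hW₂F : ∀ f ∈ F, ∀ x ∈ W₂, f x ∈ W₂ := by
        rw [hW₂]; exact ext_stable F W hWF u₂ χ₂ hχ₂
      have hu₂W' : u₂ ∉ W := fun h => hu₂W (hWW₁.le h)
      have hWW₂ : W < W₂ := by
        rw [hW₂]
        apply lt_of_le_of_ne le_sup_left
        intro h
        apply hu₂W'
        rw [h]
        exact Submodule.mem_sup_right (Submodule.mem_span_singleton_self u₂)
      have hfr2 : Module.finrank K W < Module.finrank K W₂ :=
        Submodule.finrank_lt_finrank_of_lt hWW₂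
      intro d hd w hw
      have h1 : d w ∈ W₁ := ih W₁ hW₁F hW₁iso (by omega) d hd w (hWW₁.le hw)
      have h2 : d w ∈ W₂ := ih W₂ hW₂F hW₂iso (by omega) d hd w (hWW₂.le hw)
      -- intersection
      rw [hW₂, Submodule.mem_sup] at h2
      obtain ⟨w', hw', z, hz, hsum⟩ := h2
      rw [Submodule.mem_span_singleton] at hz
      obtain ⟨b, rfl⟩ := hz
      by_cases hb : b = 0
      · rw [hb, zero_smul, add_zero] at hsum
        rw [← hsum]; exact hw'
      · exfalso
        apply hu₂W
        have : b • u₂ ∈ W₁ := by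
          have h3 : b • u₂ = d w - w' := by rw [← hsum]; abel
          rw [h3]
          exact Submodule.sub_mem _ h1 (hWW₁.le hw')
        have h4 := Submodule.smul_mem W₁ b⁻¹ this
        rwa [smul_smul, inv_mul_cancel₀ hb, one_smul] at h4
  exact key (g - Module.finrank K W) W hWF hWiso le_rfl


end


/-- A step in the proof of Tate's isogeny result over finite fields, in linear-algebra form. Let K be a
field and V a K-vector space of finite dimension 2g carrying a nondegenerate alternating bilinear
form e. Let F be a K-subalgebra of End(V) which is isomorphic as a K-algebra to a finite product K ×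
⋯ × K and which is spanned over K by a set S of similitudes of e (for each s in S there is a nonzero
scalar c with e(s x, s y) = c·e(x, y) for all x, y). Let D be a set of endomorphisms of V such that
every F-stable isotropic subspace W of dimension g (a maximal isotropic subspace) is D-stable. Then
every F-stable isotropic subspace of V is D-stable. (In the application V is the rational ℓ-adic
Tate module of an abelian variety over a finite field with the Riemann form of a polarisation, F the
algebra generated by the Galois group, split for the chosen ℓ, and D the commutant of the image of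
the endomorphism algebra; the hypothesis on maximal isotropic subspaces is the step obtained from
the finiteness of isomorphism classes.) -/
theorem result (K : Type u) [Field K]
    (V : Type u) [AddCommGroup V] [Module K V] [FiniteDimensional K V] (g : ℕ) (hV : Module.finrank K V = 2 * g)
    (e : LinearMap.BilinForm K V) (he : e.IsAlt) (hnd : e.Nondegenerate)
    (F : Subalgebra K (Module.End K V)) (r : ℕ) (hF : Nonempty (F ≃ₐ[K] (Fin r → K)))
    (S : Set (Module.End K V)) (hS : Submodule.span K S = Subalgebra.toSubmodule F)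
    (hsim : ∀ s ∈ S, ∃ c : K, c ≠ 0 ∧ ∀ x y : V, e (s x) (s y) = c * e x y)
    (D : Set (Module.End K V))
    (hmax : ∀ W : Submodule K V, (∀ f ∈ F, ∀ w ∈ W, f w ∈ W) → (∀ x ∈ W, ∀ y ∈ W, e x y = 0) →
      Module.finrank K W = g → ∀ d ∈ D, ∀ w ∈ W, d w ∈ W)
    (W : Submodule K V) (hWF : ∀ f ∈ F, ∀ w ∈ W, f w ∈ W) (hWiso : ∀ x ∈ W, ∀ y ∈ W, e x y = 0) :
    ∀ d ∈ D, ∀ w ∈ W, d w ∈ W := by
  classical
  exact main K V g hV e he hnd F r hF S hS hsim D hmax W hWF hWiso

end Groth.Agent.S18545
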