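import Groth.Statements.S18546
import Mathlib
import Groth.Agent.Lib.Lead.S2F2b

set_option autoImplicit false
open scoped TensorProduct
universe u v
open GalCoh

namespace Groth.Agent.S18546

section
open scoped TensorProduct
open Groth.Agent.Lead.S2F2

theorem main (G : Type u) [Group G] (V : Type v)
    [AddCommGroup V] [Module (ZMod 2) V] (hV : Module.finrank (ZMod 2) V = 2)
    (ρ : Representation (ZMod 2) G V) :
    ∃ W : Submodule (ZMod 2) (V ⊗[ZMod 2] V),
      (∀ g : G, ∀ w ∈ W, ρ.tprod ρ g w ∈ W) ∧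
      W ⊓ Submodule.span (ZMod 2) (Set.range fun v : V => v ⊗ₜ[ZMod 2] v) =
        Submodule.span (ZMod 2) (Set.range fun p : V × V => p.1 ⊗ₜ[ZMod 2] p.2 + p.2 ⊗ₜ[ZMod 2] p.1) ∧
      W ⊔ Submodule.span (ZMod 2) (Set.range fun v : V => v ⊗ₜ[ZMod 2] v) = ⊤ := by
  have hfin : Module.Finite (ZMod 2) V := Module.finite_of_finrank_pos (by rw [hV]; norm_num)
  let b := Module.finBasisOfFinrankEq (ZMod 2) V hV
  obtain ⟨x, hx⟩ : ∃ x, x = b 0 := ⟨_, rfl⟩
  obtain ⟨y, hy⟩ : ∃ y, y = b 1 := ⟨_, rfl⟩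
  have hxy : x ⊗ₜ[ZMod 2] y ≠ y ⊗ₜ[ZMod 2] x := by
    rw [hx, hy, ← Module.Basis.tensorProduct_apply b b, ← Module.Basis.tensorProduct_apply b b]
    intro h
    have := (b.tensorProduct b).injective h
    simp at this
  -- stability of om
  have hstab : ∀ g : G, ρ.tprod ρ g (om x y) - om x y ∈ Ns V := by
    intro g
    have hdet : IsUnit (LinearMap.det (ρ g)) := by
      have h1 : LinearMap.det (ρ g) * LinearMap.det (ρ g⁻¹) = 1 := by
        rw [← map_mul, ← map_mul, mul_inv_cancel, map_one, map_one]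
      exact IsUnit.of_mul_eq_one _ h1
    let M := LinearMap.toMatrix b b (ρ g)
    have hM : M.det = 1 := by
      have : M.det = LinearMap.det (ρ g) := LinearMap.det_toMatrix b (ρ g)
      rw [this]
      exact f2_unit _ hdet.ne_zero
    rw [Matrix.det_fin_two] at hM
    have hgx : ρ g x = M 0 0 • x + M 1 0 • y := by
      rw [hx, hy, ← b.sum_repr (ρ g (b 0)), Fin.sum_univ_two]
      simp only [M, LinearMap.toMatrix_apply]
    have hgy : ρ g y = M 0 1 • x + M 1 1 • y := by
      rw [hx, hy, ← b.sum_repr (ρ g (b 1)), Fin.sum_univ_two]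
      simp only [M, LinearMap.toMatrix_apply]
    have := quad_inv x y (M 0 0) (M 0 1) (M 1 0) (M 1 1) (f2_det _ _ _ _ hM)
    rw [← hgx, ← hgy] at this
    simpa [om, Representation.tprod_apply] using this
  refine ⟨Ns V ⊔ Submodule.span (ZMod 2) {om x y}, ?_, ?_, ?_⟩
  · intro g w hw
    obtain ⟨n, hn, z, hz, rfl⟩ := Submodule.mem_sup.1 hw
    obtain ⟨c, rfl⟩ := Submodule.mem_span_singleton.1 hz
    rw [map_add, map_smul]
    refine Submodule.add_mem _ (le_sup_left (a := Ns V) (Ns_stable (ρ g) hn)) ?_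
    refine Submodule.smul_mem _ _ ?_
    have : ρ.tprod ρ g (om x y) = (ρ.tprod ρ g (om x y) - om x y) + om x y := by abel
    rw [this]
    exact Submodule.add_mem _ (le_sup_left (a := Ns V) (hstab g))
      (le_sup_right (b := Submodule.span (ZMod 2) {om x y}) (Submodule.mem_span_singleton_self _))
  · refine le_antisymm ?_ (le_inf le_sup_left Ns_le_Na)
    rintro w ⟨hw, hwa⟩
    obtain ⟨n, hn, z, hz, rfl⟩ := Submodule.mem_sup.1 hw
    obtain ⟨c, rfl⟩ := Submodule.mem_span_singleton.1 hz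
    have h1 : c • om x y ∈ Na V := by
      have : c • om x y = (n + c • om x y) - n := by abel
      rw [this]; exact Submodule.sub_mem _ hwa (Ns_le_Na hn)
    rw [smul_om_mem_Na hxy c h1, zero_smul, add_zero]
    exact hn
  · rw [eq_top_iff, ← (b.tensorProduct b).span_eq]
    refine Submodule.span_le.2 ?_
    have hxx : x ⊗ₜ[ZMod 2] x ∈ Na V := Submodule.subset_span ⟨x, rfl⟩
    have hyy : y ⊗ₜ[ZMod 2] y ∈ Na V := Submodule.subset_span ⟨y, rfl⟩
    have hom : om x y ∈ Ns V ⊔ Submodule.span (ZMod 2) {om x y} :=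
      le_sup_right (b := Submodule.span (ZMod 2) {om x y}) (Submodule.mem_span_singleton_self _)
    have hxy' : x ⊗ₜ[ZMod 2] y ∈ (Ns V ⊔ Submodule.span (ZMod 2) {om x y}) ⊔ Na V := by
      have : x ⊗ₜ[ZMod 2] y = om x y - x ⊗ₜ[ZMod 2] x - y ⊗ₜ[ZMod 2] y := by
        simp only [om]; abel
      rw [this]
      exact Submodule.sub_mem _ (Submodule.sub_mem _ (le_sup_left (b := Na V) hom)
        (le_sup_right (a := Ns V ⊔ Submodule.span (ZMod 2) {om x y}) hxx))
        (le_sup_right (a := Ns V ⊔ Submodule.span (ZMod 2) {om x y}) hyy)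
    have hyx' : y ⊗ₜ[ZMod 2] x ∈ (Ns V ⊔ Submodule.span (ZMod 2) {om x y}) ⊔ Na V := by
      have : y ⊗ₜ[ZMod 2] x = (x ⊗ₜ[ZMod 2] y + y ⊗ₜ[ZMod 2] x) - x ⊗ₜ[ZMod 2] y := by abel
      rw [this]
      refine Submodule.sub_mem _ ?_ hxy'
      exact le_sup_right (a := Ns V ⊔ Submodule.span (ZMod 2) {om x y})
        (Ns_le_Na (Submodule.subset_span ⟨(x, y), rfl⟩))
    rintro _ ⟨⟨i, j⟩, rfl⟩
    rw [Module.Basis.tensorProduct_apply]
    fin_cases i <;> fin_cases j
    · exact le_sup_right (a := Ns V ⊔ Submodule.span (ZMod 2) {om x y}) (hx ▸ hxx)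
    · exact hx ▸ hy ▸ hxy'
    · exact hx ▸ hy ▸ hyx'
    · exact le_sup_right (a := Ns V ⊔ Submodule.span (ZMod 2) {om x y}) (hy ▸ hyy)


end


/-- Let G be a group acting linearly on a vector space V of dimension 2 over the field 𝔽₂ with two
elements. Then the short exact sequence of G-modules 0 → V → S²V → Λ²V → 0 (v ↦ v·v, x·y ↦ x ∧ y)
splits G-equivariantly. Here, for a vector space V over the field with two elements carrying a
linear action ρ of a group G, write N_a ⊆ V ⊗ V for the span of the tensors v ⊗ v and N_s ⊆ N_a for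
the span of the tensors x ⊗ y + y ⊗ x, so that S²V = (V ⊗ V)/N_s, Λ²V = (V ⊗ V)/N_a and the
surjection S²V → Λ²V, x·y ↦ x ∧ y, is G-equivariant for the diagonal action; a G-equivariant linear
section of this surjection is the same thing as a G-stable subspace W of V ⊗ V with W ∩ N_a = N_s
and W + N_a = V ⊗ V, which is how the splitting is stated. (The source has the absolute Galois group
of a field acting continuously; any group is allowed here.) -/
theorem result (G : Type u) [Group G] (V : Type v)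
    [AddCommGroup V] [Module (ZMod 2) V] (hV : Module.finrank (ZMod 2) V = 2)
    (ρ : Representation (ZMod 2) G V) :
    ∃ W : Submodule (ZMod 2) (V ⊗[ZMod 2] V),
      (∀ g : G, ∀ w ∈ W, ρ.tprod ρ g w ∈ W) ∧
      W ⊓ Submodule.span (ZMod 2) (Set.range fun v : V => v ⊗ₜ[ZMod 2] v) =
        Submodule.span (ZMod 2) (Set.range fun p : V × V => p.1 ⊗ₜ[ZMod 2] p.2 + p.2 ⊗ₜ[ZMod 2] p.1) ∧
      W ⊔ Submodule.span (ZMod 2) (Set.range fun v : V => v ⊗ₜ[ZMod 2] v) = ⊤ := by
  classical
  exact main G V hV ρ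

end Groth.Agent.S18546
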