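import Groth.Statements.S18547
import Mathlib
import Groth.Agent.Lib.Lead.S2F2b

set_option autoImplicit false
open scoped TensorProduct
universe u v
open GalCoh

namespace Groth.Agent.S18547

section
open scoped TensorProduct
open Groth.Agent.Lead.S2F2

variable {V : Type v} [AddCommGroup V] [Module (ZMod 2) V]

theorem repr_symm_of_mem_Na {ι : Type*} (b : Module.Basis ι (ZMod 2) V) {t : V ⊗[ZMod 2] V}
    (ht : t ∈ Na V) (i j : ι) :
    (b.tensorProduct b).repr t (i, j) = (b.tensorProduct b).repr t (j, i) := by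
  induction ht using Submodule.span_induction with
  | mem x hx =>
    obtain ⟨p, rfl⟩ := hx
    rw [Module.Basis.tensorProduct_repr_tmul_apply, Module.Basis.tensorProduct_repr_tmul_apply,
      smul_eq_mul, smul_eq_mul, mul_comm]
  | zero => simp
  | add x y _ _ hx hy => simp only [map_add, Finsupp.add_apply, hx, hy]
  | smul a x _ hx => simp only [map_smul, Finsupp.smul_apply, hx]

theorem swap_mem_Na (x y : V) : x ⊗ₜ[ZMod 2] y + y ⊗ₜ[ZMod 2] x ∈ Na V :=
  Ns_le_Na (Submodule.subset_span ⟨(x, y), rfl⟩)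

theorem f2_cases : ∀ z : ZMod 2, z = 0 ∨ z = 1 := by decide

theorem two_zero' (t : V ⊗[ZMod 2] V) : t + t = 0 := two_tmul_zero t

/-- decomposability of 2-vectors in dimension 3 -/
theorem exists_decomp (hV : Module.finrank (ZMod 2) V = 3) (t : V ⊗[ZMod 2] V) :
    ∃ x y : V, t - x ⊗ₜ[ZMod 2] y ∈ Na V := by
  have hfin : Module.Finite (ZMod 2) V := Module.finite_of_finrank_pos (by rw [hV]; norm_num)
  let e := Module.finBasisOfFinrankEq (ZMod 2) V hV
  have htop : Na V ⊔ Submodule.span (ZMod 2)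
      {e 0 ⊗ₜ[ZMod 2] e 1, e 0 ⊗ₜ[ZMod 2] e 2, e 1 ⊗ₜ[ZMod 2] e 2} = ⊤ := by
    rw [eq_top_iff, ← (e.tensorProduct e).span_eq]
    refine Submodule.span_le.2 ?_
    have hd : ∀ i, e i ⊗ₜ[ZMod 2] e i ∈ Na V ⊔ Submodule.span (ZMod 2)
        {e 0 ⊗ₜ[ZMod 2] e 1, e 0 ⊗ₜ[ZMod 2] e 2, e 1 ⊗ₜ[ZMod 2] e 2} :=
      fun i => le_sup_left (a := Na V) (Submodule.subset_span ⟨e i, rfl⟩)
    have hg : ∀ s ∈ ({e 0 ⊗ₜ[ZMod 2] e 1, e 0 ⊗ₜ[ZMod 2] e 2, e 1 ⊗ₜ[ZMod 2] e 2} :
        Set (V ⊗[ZMod 2] V)), s ∈ Na V ⊔ Submodule.span (ZMod 2)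
        {e 0 ⊗ₜ[ZMod 2] e 1, e 0 ⊗ₜ[ZMod 2] e 2, e 1 ⊗ₜ[ZMod 2] e 2} :=
      fun s hs => le_sup_right (a := Na V) (Submodule.subset_span hs)
    have hsw : ∀ i j, e i ⊗ₜ[ZMod 2] e j ∈ Na V ⊔ Submodule.span (ZMod 2)
        {e 0 ⊗ₜ[ZMod 2] e 1, e 0 ⊗ₜ[ZMod 2] e 2, e 1 ⊗ₜ[ZMod 2] e 2} →
        e j ⊗ₜ[ZMod 2] e i ∈ Na V ⊔ Submodule.span (ZMod 2)
        {e 0 ⊗ₜ[ZMod 2] e 1, e 0 ⊗ₜ[ZMod 2] e 2, e 1 ⊗ₜ[ZMod 2] e 2} := by
      intro i j h
      have : e j ⊗ₜ[ZMod 2] e i = (e i ⊗ₜ[ZMod 2] e j + e j ⊗ₜ[ZMod 2] e i) - e i ⊗ₜ[ZMod 2] e j := by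
        abel
      rw [this]
      exact Submodule.sub_mem _ (le_sup_left (a := Na V) (swap_mem_Na _ _)) h
    rintro _ ⟨⟨i, j⟩, rfl⟩
    rw [Module.Basis.tensorProduct_apply]
    fin_cases i <;> fin_cases j
    · exact hd 0
    · exact hg _ (by simp)
    · exact hg _ (by simp)
    · exact hsw 0 1 (hg _ (by simp))
    · exact hd 1
    · exact hg _ (by simp)
    · exact hsw 0 2 (hg _ (by simp))
    · exact hsw 1 2 (hg _ (by simp))
    · exact hd 2
  have ht : t ∈ Na V ⊔ Submodule.span (ZMod 2)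
      {e 0 ⊗ₜ[ZMod 2] e 1, e 0 ⊗ₜ[ZMod 2] e 2, e 1 ⊗ₜ[ZMod 2] e 2} := by rw [htop]; trivial
  obtain ⟨n, hn, z, hz, rfl⟩ := Submodule.mem_sup.1 ht
  obtain ⟨α, β, γ, rfl⟩ := Submodule.mem_span_triple.1 hz
  rcases f2_cases α with rfl | rfl
  · refine ⟨β • e 0 + γ • e 1, e 2, ?_⟩
    have : n + ((0 : ZMod 2) • e 0 ⊗ₜ[ZMod 2] e 1 + β • e 0 ⊗ₜ[ZMod 2] e 2 + γ • e 1 ⊗ₜ[ZMod 2] e 2)
        - (β • e 0 + γ • e 1) ⊗ₜ[ZMod 2] e 2 = n := by
      simp only [TensorProduct.add_tmul, ← TensorProduct.smul_tmul', zero_smul]; abel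
    rw [this]; exact hn
  · refine ⟨e 0 + γ • e 2, e 1 + β • e 2, ?_⟩
    have : n + ((1 : ZMod 2) • e 0 ⊗ₜ[ZMod 2] e 1 + β • e 0 ⊗ₜ[ZMod 2] e 2 + γ • e 1 ⊗ₜ[ZMod 2] e 2)
        - (e 0 + γ • e 2) ⊗ₜ[ZMod 2] (e 1 + β • e 2)
        = n + γ • (e 1 ⊗ₜ[ZMod 2] e 2 + e 2 ⊗ₜ[ZMod 2] e 1) + (γ * β) • (e 2 ⊗ₜ[ZMod 2] e 2)
          - (γ + γ) • (e 2 ⊗ₜ[ZMod 2] e 1) - ((γ * β) + (γ * β)) • (e 2 ⊗ₜ[ZMod 2] e 2) := by
      simp only [TensorProduct.add_tmul, TensorProduct.tmul_add, ← TensorProduct.smul_tmul',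
        TensorProduct.tmul_smul, one_smul]
      module
    rw [this]
    have h2 : ∀ c : ZMod 2, c + c = 0 := by decide
    rw [h2, h2, zero_smul, zero_smul, sub_zero, sub_zero]
    exact Submodule.add_mem _ (Submodule.add_mem _ hn (Submodule.smul_mem _ _ (swap_mem_Na _ _)))
      (Submodule.smul_mem _ _ (Submodule.subset_span ⟨e 2, rfl⟩))

theorem f2_plane : ∀ u0 u1 u2 v0 v1 v2 : ZMod 2, u1 * v2 - 1 = u2 * v1 → u0 * v1 = u1 * v0 →
    u0 * v2 = u2 * v0 → u0 = 0 ∧ v0 = 0 ∧ u1 * v2 + v1 * u2 = 1 := by decide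

theorem not_li_mem_Na (x y : V) (h : ¬ LinearIndependent (ZMod 2) ![x, y]) :
    x ⊗ₜ[ZMod 2] y ∈ Na V := by
  rw [LinearIndependent.pair_iff] at h
  push Not at h
  obtain ⟨s, t, hst, hne⟩ := h
  rcases f2_cases s with rfl | rfl
  · rcases f2_cases t with rfl | rfl
    · exact absurd rfl (hne rfl)
    · rw [zero_smul, one_smul, zero_add] at hst
      rw [hst, TensorProduct.tmul_zero]; exact Submodule.zero_mem _
  · rcases f2_cases t with rfl | rfl
    · rw [zero_smul, one_smul, add_zero] at hst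
      rw [hst, TensorProduct.zero_tmul]; exact Submodule.zero_mem _
    · rw [one_smul, one_smul] at hst
      have hxy : x = y := by
        have h2 : y + y = 0 := by
          have : (2 : ZMod 2) = 0 := by decide
          rw [← two_smul (ZMod 2) y, this, zero_smul]
        calc x = x + (y + y) := by rw [h2, add_zero]
          _ = (x + y) + y := by abel
          _ = y := by rw [hst, zero_add]
      rw [hxy]; exact Submodule.subset_span ⟨y, rfl⟩

theorem main (G : Type u) [Group G] (V : Type v)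
    [AddCommGroup V] [Module (ZMod 2) V] (hV : Module.finrank (ZMod 2) V = 3)
    (ρ : Representation (ZMod 2) G V) (t : V ⊗[ZMod 2] V)
    (ht : ∀ g : G, ρ.tprod ρ g t - t ∈ Submodule.span (ZMod 2) (Set.range fun v : V => v ⊗ₜ[ZMod 2] v)) :
    ∃ t' : V ⊗[ZMod 2] V, t' - t ∈ Submodule.span (ZMod 2) (Set.range fun v : V => v ⊗ₜ[ZMod 2] v) ∧
      ∀ g : G, ρ.tprod ρ g t' - t' ∈
        Submodule.span (ZMod 2) (Set.range fun p : V × V => p.1 ⊗ₜ[ZMod 2] p.2 + p.2 ⊗ₜ[ZMod 2] p.1) := by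
  have hfin : Module.Finite (ZMod 2) V := Module.finite_of_finrank_pos (by rw [hV]; norm_num)
  obtain ⟨x, y, hxy⟩ := exists_decomp hV t
  by_cases hli : LinearIndependent (ZMod 2) ![x, y]
  swap
  · refine ⟨0, ?_, fun g => ?_⟩
    · have h1 := not_li_mem_Na x y hli
      have : (0 : V ⊗[ZMod 2] V) - t = - ((t - x ⊗ₜ[ZMod 2] y) + x ⊗ₜ[ZMod 2] y) := by abel
      rw [this]
      exact Submodule.neg_mem _ (Submodule.add_mem _ hxy h1)
    · rw [map_zero, sub_zero]; exact Submodule.zero_mem _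
  · obtain ⟨z, hz⟩ := exists_linearIndependent_cons_of_lt_finrank hli (by rw [hV]; norm_num)
    let b : Module.Basis (Fin 3) (ZMod 2) V :=
      basisOfLinearIndependentOfCardEqFinrank hz (by rw [hV]; rfl)
    have hb0 : b 0 = z := by
      simp only [b, coe_basisOfLinearIndependentOfCardEqFinrank]; rfl
    have hb1 : b 1 = x := by
      simp only [b, coe_basisOfLinearIndependentOfCardEqFinrank]; rfl
    have hb2 : b 2 = y := by
      simp only [b, coe_basisOfLinearIndependentOfCardEqFinrank]; rfl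
    refine ⟨om x y, ?_, fun g => ?_⟩
    · have : om x y - t = x ⊗ₜ[ZMod 2] x + y ⊗ₜ[ZMod 2] y - (t - x ⊗ₜ[ZMod 2] y) := by
        simp only [om]; abel
      rw [this]
      exact Submodule.sub_mem _ (Submodule.add_mem _ (Submodule.subset_span ⟨x, rfl⟩)
        (Submodule.subset_span ⟨y, rfl⟩)) hxy
    · -- g (x ⊗ y) - x ⊗ y ∈ Na
      have h1 : (ρ g x) ⊗ₜ[ZMod 2] (ρ g y) - x ⊗ₜ[ZMod 2] y ∈ Na V := by
        have h2 := Na_stable (ρ g) hxy
        rw [map_sub, TensorProduct.map_tmul] at h2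
        have h3 := ht g
        rw [Representation.tprod_apply] at h3
        have : (ρ g x) ⊗ₜ[ZMod 2] (ρ g y) - x ⊗ₜ[ZMod 2] y
            = (TensorProduct.map (ρ g) (ρ g) t - t)
              - (TensorProduct.map (ρ g) (ρ g) t - (ρ g x) ⊗ₜ[ZMod 2] (ρ g y))
              + (t - x ⊗ₜ[ZMod 2] y) := by abel
        rw [this]
        exact Submodule.add_mem _ (Submodule.sub_mem _ h3 h2) hxy
      have hsym := repr_symm_of_mem_Na b h1
      have hcoord : ∀ i j, b.repr (ρ g y) j * b.repr (ρ g x) i - b.repr y j * b.repr x i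
          = b.repr (ρ g y) i * b.repr (ρ g x) j - b.repr y i * b.repr x j := by
        intro i j
        have := hsym i j
        simpa only [map_sub, Finsupp.sub_apply, Module.Basis.tensorProduct_repr_tmul_apply,
          smul_eq_mul] using this
      have hx_repr : ∀ i, b.repr x i = if i = 1 then 1 else 0 := by
        intro i; rw [← hb1, Module.Basis.repr_self, Finsupp.single_apply]
        simp only [eq_comm]
      have hy_repr : ∀ i, b.repr y i = if i = 2 then 1 else 0 := by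
        intro i; rw [← hb2, Module.Basis.repr_self, Finsupp.single_apply]
        simp only [eq_comm]
      have e12 := hcoord 1 2
      have e01 := hcoord 0 1
      have e02 := hcoord 0 2
      simp only [hx_repr, hy_repr] at e12 e01 e02
      simp at e12 e01 e02
      obtain ⟨hu0, hv0, hdet⟩ := f2_plane (b.repr (ρ g x) 0) (b.repr (ρ g x) 1) (b.repr (ρ g x) 2)
        (b.repr (ρ g y) 0) (b.repr (ρ g y) 1) (b.repr (ρ g y) 2)
        (by linear_combination e12) (by linear_combination e01) (by linear_combination e02)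
      have hgx : ρ g x = b.repr (ρ g x) 1 • x + b.repr (ρ g x) 2 • y := by
        conv_lhs => rw [← b.sum_repr (ρ g x), Fin.sum_univ_three, hu0, zero_smul, zero_add, hb1, hb2]
      have hgy : ρ g y = b.repr (ρ g y) 1 • x + b.repr (ρ g y) 2 • y := by
        conv_lhs => rw [← b.sum_repr (ρ g y), Fin.sum_univ_three, hv0, zero_smul, zero_add, hb1, hb2]
      have := quad_inv x y (b.repr (ρ g x) 1) (b.repr (ρ g y) 1) (b.repr (ρ g x) 2)
        (b.repr (ρ g y) 2) hdet
      rw [← hgx, ← hgy] at this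
      show ρ.tprod ρ g (om x y) - om x y ∈ Ns V
      simpa [om, Representation.tprod_apply] using this


end


/-- Let G be a group acting linearly on a vector space V of dimension 3 over the field 𝔽₂ with two
elements. Then the connecting map (Λ²V)^G → H¹(G, V) of the short exact sequence of G-modules 0 → V
→ S²V → Λ²V → 0 (v ↦ v·v, x·y ↦ x ∧ y) is zero; equivalently, every G-invariant element of Λ²V is
the image of a G-invariant element of S²V. Here N_a ⊆ V ⊗ V is the span of the tensors v ⊗ v and N_s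
⊆ N_a the span of the tensors x ⊗ y + y ⊗ x, so that S²V = (V ⊗ V)/N_s and Λ²V = (V ⊗ V)/N_a with
the diagonal action of G, and the statement reads: a tensor t whose class modulo N_a is G-invariant
is congruent modulo N_a to a tensor whose class modulo N_s is G-invariant. (The source writes the
rank hypothesis on the lattice M with V = M/2M, which has the same rank, and has the absolute Galois
group of a field acting; any group is allowed here.) -/
theorem result (G : Type u) [Group G] (V : Type v)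
    [AddCommGroup V] [Module (ZMod 2) V] (hV : Module.finrank (ZMod 2) V = 3)
    (ρ : Representation (ZMod 2) G V) (t : V ⊗[ZMod 2] V)
    (ht : ∀ g : G, ρ.tprod ρ g t - t ∈ Submodule.span (ZMod 2) (Set.range fun v : V => v ⊗ₜ[ZMod 2] v)) :
    ∃ t' : V ⊗[ZMod 2] V, t' - t ∈ Submodule.span (ZMod 2) (Set.range fun v : V => v ⊗ₜ[ZMod 2] v) ∧
      ∀ g : G, ρ.tprod ρ g t' - t' ∈
        Submodule.span (ZMod 2) (Set.range fun p : V × V => p.1 ⊗ₜ[ZMod 2] p.2 + p.2 ⊗ₜ[ZMod 2] p.1) := by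
  classical
  exact main G V hV ρ t ht

end Groth.Agent.S18547
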