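import Groth.Statements.S18549
import Mathlib
import Groth.Agent.Lib.Lead.S2F2

set_option autoImplicit false
open scoped TensorProduct
universe u v
open GalCoh

namespace Groth.Agent.S18549

section
open scoped TensorProduct

variable {V : Type v} [AddCommGroup V] [Module (ZMod 2) V]

theorem two_zero (x : V) : x + x = 0 := by
  have : (2 : ZMod 2) = 0 := by decide
  rw [← two_smul (ZMod 2) x, this, zero_smul]

theorem exists_perm_basis [Module.Finite (ZMod 2) V] (s : V →ₗ[ZMod 2] V) (hs : ∀ x, s (s x) = x) :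
    ∃ (ι : Type) (b : Module.Basis ι (ZMod 2) V), ∀ i, ∃ j, s (b i) = b j := by
  classical
  obtain ⟨N, hN⟩ : ∃ N : V →ₗ[ZMod 2] V, N = s + LinearMap.id := ⟨_, rfl⟩
  have hNx : ∀ x, N x = s x + x := fun x => by rw [hN]; rfl
  have hsx : ∀ x, s x = N x + x := fun x => by rw [hNx, add_assoc, two_zero, add_zero]
  have hN2 : ∀ x, N (N x) = 0 := by
    intro x
    rw [hNx (N x), hNx x, map_add, hs]
    have : x + s x + (s x + x) = (x + x) + (s x + s x) := by abel
    rw [this, two_zero, two_zero, add_zero]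
  obtain ⟨K, hK⟩ : ∃ K : Submodule (ZMod 2) V, K = LinearMap.ker N := ⟨_, rfl⟩
  have hmemK : ∀ x, x ∈ K ↔ N x = 0 := fun x => by rw [hK]; exact LinearMap.mem_ker
  let N' : V →ₗ[ZMod 2] K := N.codRestrict K (fun x => (hmemK _).2 (hN2 x))
  have hN'ker : K ≤ LinearMap.ker N' := by
    intro x hx
    rw [LinearMap.mem_ker]
    apply Subtype.ext
    exact (hmemK x).1 hx
  let Nbar : (V ⧸ K) →ₗ[ZMod 2] K := K.liftQ N' hN'ker
  have hNbar : ∀ x : V, ((Nbar (Submodule.Quotient.mk x) : K) : V) = N x := fun x => rfl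
  have hNbar_inj : Function.Injective Nbar := by
    rw [injective_iff_map_eq_zero]
    intro q hq
    obtain ⟨x, rfl⟩ := Submodule.Quotient.mk_surjective K q
    have h1 : N x = 0 := by rw [← hNbar, hq]; rfl
    exact (Submodule.Quotient.mk_eq_zero K).2 ((hmemK x).2 h1)
  let bQ := Module.finBasis (ZMod 2) (V ⧸ K)
  have hli : LinearIndependent (ZMod 2) (fun j => Nbar (bQ j)) :=
    bQ.linearIndependent.map' Nbar (LinearMap.ker_eq_bot.2 hNbar_inj)
  let bI := Module.Basis.span hli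
  let bK := Module.Basis.sumQuot bI (Module.finBasis (ZMod 2) (K ⧸ Submodule.span (ZMod 2) (Set.range fun j => Nbar (bQ j))))
  let B := Module.Basis.sumQuot bK bQ
  have hB1 : ∀ j, B (Sum.inl (Sum.inl j)) = ((Nbar (bQ j) : K) : V) := by
    intro j
    simp only [B, bK, Module.Basis.sumQuot_inl]
    rw [Module.Basis.span_apply]
  have hB2 : ∀ e, N (B (Sum.inl (Sum.inr e))) = 0 := by
    intro e
    simp only [B, Module.Basis.sumQuot_inl]
    exact (hmemK _).1 (Subtype.prop _)
  have hB3 : ∀ j, N (B (Sum.inr j)) = B (Sum.inl (Sum.inl j)) := by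
    intro j
    rw [hB1, ← hNbar]
    simp only [B, Module.Basis.sumQuot_inr]
  let f := Sum.elim (Sum.elim (fun j => B (Sum.inl (Sum.inl j)) + B (Sum.inr j))
      (fun e => B (Sum.inl (Sum.inr e)))) (fun j => B (Sum.inr j))
  let φ : V →ₗ[ZMod 2] V := B.constr (ZMod 2) f
  have hφ1 : ∀ j, φ (B (Sum.inl (Sum.inl j))) = B (Sum.inl (Sum.inl j)) + B (Sum.inr j) := by
    intro j; simp only [φ, Module.Basis.constr_basis]; rfl
  have hφ2 : ∀ e, φ (B (Sum.inl (Sum.inr e))) = B (Sum.inl (Sum.inr e)) := by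
    intro j; simp only [φ, Module.Basis.constr_basis]; rfl
  have hφ3 : ∀ j, φ (B (Sum.inr j)) = B (Sum.inr j) := by
    intro j; simp only [φ, Module.Basis.constr_basis]; rfl
  have hφφ : φ ∘ₗ φ = LinearMap.id := by
    refine B.ext ?_
    rintro ((j | e) | j)
    · rw [LinearMap.comp_apply, hφ1, map_add, hφ1, hφ3, add_assoc, two_zero, add_zero]; rfl
    · rw [LinearMap.comp_apply, hφ2, hφ2]; rfl
    · rw [LinearMap.comp_apply, hφ3, hφ3]; rfl
  let B' := B.map (LinearEquiv.ofLinearMap φ φ hφφ hφφ)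
  have hB' : ∀ i, B' i = φ (B i) := fun i => rfl
  refine ⟨_, B', ?_⟩
  rintro ((j | e) | j)
  · refine ⟨Sum.inr j, ?_⟩
    have h0 : N (B (Sum.inl (Sum.inl j))) = 0 := by rw [← hB3, hN2]
    rw [hB', hB', hφ1, hφ3, hsx, map_add, hB3, h0, zero_add, ← add_assoc, two_zero, zero_add]
  · refine ⟨Sum.inl (Sum.inr e), ?_⟩
    rw [hB', hφ2, hsx, hB2, zero_add]
  · refine ⟨Sum.inl (Sum.inl j), ?_⟩
    rw [hB', hB', hφ1, hφ3, hsx, hB3]

theorem main (G : Type u) [Group G] (hG : Nat.card G = 2)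
    (V : Type v) [AddCommGroup V] [Module (ZMod 2) V] [Module.Finite (ZMod 2) V]
    (ρ : Representation (ZMod 2) G V) :
    ∃ W : Submodule (ZMod 2) (V ⊗[ZMod 2] V),
      (∀ g : G, ∀ w ∈ W, ρ.tprod ρ g w ∈ W) ∧
      W ⊓ Submodule.span (ZMod 2) (Set.range fun v : V => v ⊗ₜ[ZMod 2] v) =
        Submodule.span (ZMod 2) (Set.range fun p : V × V => p.1 ⊗ₜ[ZMod 2] p.2 + p.2 ⊗ₜ[ZMod 2] p.1) ∧
      W ⊔ Submodule.span (ZMod 2) (Set.range fun v : V => v ⊗ₜ[ZMod 2] v) = ⊤ := by
  obtain ⟨σ, hσ1, hσ2⟩ := (Nat.card_eq_two_iff' (1 : G)).1 hG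
  have hfin : Finite G := Nat.finite_of_card_ne_zero (by rw [hG]; norm_num)
  have hσσ : σ * σ = 1 := by
    have := pow_card_eq_one' (G := G) (x := σ)
    rwa [hG, pow_two] at this
  have hs : ∀ x, ρ σ (ρ σ x) = x := by
    intro x
    rw [← Module.End.mul_apply, ← map_mul, hσσ, map_one, Module.End.one_apply]
  obtain ⟨ι, b, hb⟩ := exists_perm_basis (ρ σ) hs
  refine Groth.Agent.Lead.S2F2.perm_split G V ρ ι b ?_
  intro g i
  by_cases hg : g = 1
  · subst hg; exact ⟨i, by rw [map_one, Module.End.one_apply]⟩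
  · rw [hσ2 g hg]; exact hb i


end


/-- Over the real numbers, that is for the group G = Gal(ℂ/ℝ) of order 2 acting linearly on a
finite-dimensional vector space V over the field 𝔽₂ with two elements, the short exact sequence of
G-modules 0 → V → S²V → Λ²V → 0 (v ↦ v·v, x·y ↦ x ∧ y) splits G-equivariantly. Here, for a vector
space V over the field with two elements carrying a linear action ρ of a group G, write N_a ⊆ V ⊗ V
for the span of the tensors v ⊗ v and N_s ⊆ N_a for the span of the tensors x ⊗ y + y ⊗ x, so that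
S²V = (V ⊗ V)/N_s, Λ²V = (V ⊗ V)/N_a and the surjection S²V → Λ²V, x·y ↦ x ∧ y, is G-equivariant for
the diagonal action; a G-equivariant linear section of this surjection is the same thing as a
G-stable subspace W of V ⊗ V with W ∩ N_a = N_s and W + N_a = V ⊗ V, which is how the splitting is
stated. (G is any group of order 2 here; V is taken finite-dimensional, the case covered by the
structure theory of finitely generated modules over 𝔽₂[G] that the argument uses.) -/
theorem result (G : Type u) [Group G] (hG : Nat.card G = 2)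
    (V : Type v) [AddCommGroup V] [Module (ZMod 2) V] [Module.Finite (ZMod 2) V]
    (ρ : Representation (ZMod 2) G V) :
    ∃ W : Submodule (ZMod 2) (V ⊗[ZMod 2] V),
      (∀ g : G, ∀ w ∈ W, ρ.tprod ρ g w ∈ W) ∧
      W ⊓ Submodule.span (ZMod 2) (Set.range fun v : V => v ⊗ₜ[ZMod 2] v) =
        Submodule.span (ZMod 2) (Set.range fun p : V × V => p.1 ⊗ₜ[ZMod 2] p.2 + p.2 ⊗ₜ[ZMod 2] p.1) ∧
      W ⊔ Submodule.span (ZMod 2) (Set.range fun v : V => v ⊗ₜ[ZMod 2] v) = ⊤ := by
  classical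
  exact main G hG V ρ

end Groth.Agent.S18549
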