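import Groth.Statements.S18560
import Mathlib.Tactic
import Mathlib.LinearAlgebra.FiniteDimensional.Basic
import Mathlib.LinearAlgebra.Dimension.FreeAndStrongRankCondition
import Mathlib.LinearAlgebra.Dimension.Constructions

set_option autoImplicit false
universe u v
open PtQuiv

namespace Groth.Agent.S18560

/-- Let K be a field and s i ∈ K² (i in a finite index type) nonzero vectors, regarded as a
representation of the quiver with a central vertex carrying the plane and one vertex per i carrying
a line that maps to the plane by 1 ↦ s i. For a weight θ in the hypersimplex (0 ≤ θ i ≤ 1, Σ θ i =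
2, central weight -1) the representation is θ-semistable if and only if, for every vector v, the
indices i with s i on the line K ∙ v have total weight at most 1. (The published statement is over
an algebraically closed field, assumes semistability for some interior weight instead of s i ≠ 0,
and phrases the bound through the classes of pairwise proportional s i; any field is allowed here.
Its further assertion that the bounding walls, where the total weight of one proportionality class
equals 1, do not meet in the interior of the hypersimplex is not part of this row.) -/
theorem result (K : Type u) [Field K] (ι : Type v) [Fintype ι]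
    (s : ι → (Fin 2 → K)) (hs : ∀ i, s i ≠ 0) (θ : ι → ℚ) (h0 : ∀ i, 0 ≤ θ i)
    (h1 : ∀ i, θ i ≤ 1) (h2 : ∑ i, θ i = 2) :
    PtQuiv.QSemistable (-1) θ s ↔
      ∀ (J : Finset ι) (v : Fin 2 → K), (∀ i ∈ J, s i ∈ K ∙ v) → ∑ i ∈ J, θ i ≤ 1 := by
  constructor
  · intro hss J v hJ
    by_cases hv : v = 0
    · -- then `J` is empty
      have : J = ∅ := by
        apply Finset.eq_empty_of_forall_notMem
        intro i hi
        have h := hJ i hi
        rw [hv] at h
        simp at h
        exact hs i h
      rw [this]
      simp
    · have hsub : PtQuiv.QSubrep s (K ∙ v) J := hJ
      have h := hss.2 (K ∙ v) J hsub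
      unfold PtQuiv.QWt at h
      rw [finrank_span_singleton hv] at h
      push_cast at h
      linarith
  · intro hcrit
    refine ⟨by rw [h2]; norm_num, ?_⟩
    intro L I hLI
    unfold PtQuiv.QWt
    have hle : Module.finrank K L ≤ 2 := by
      have := Submodule.finrank_le L
      simpa using this
    have hsum_le : ∑ i ∈ I, θ i ≤ 2 := by
      rw [← h2]
      exact Finset.sum_le_sum_of_subset_of_nonneg (Finset.subset_univ I) (fun i _ _ => h0 i)
    have hcases : Module.finrank K L = 0 ∨ Module.finrank K L = 1 ∨ Module.finrank K L = 2 := by
      omega
    rcases hcases with h | h | h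
    · have hbot : L = ⊥ := Submodule.finrank_eq_zero.1 h
      have hI : I = ∅ := by
        apply Finset.eq_empty_of_forall_notMem
        intro i hi
        have := hLI i hi
        rw [hbot] at this
        exact hs i (by simpa using this)
      rw [h, hI]
      simp
    · obtain ⟨v, hv⟩ := finrank_eq_one_iff'.1 h
      have hspan : L ≤ K ∙ (v : Fin 2 → K) := by
        intro x hx
        obtain ⟨c, hc⟩ := hv.2 ⟨x, hx⟩
        rw [Submodule.mem_span_singleton]
        exact ⟨c, by simpa using congrArg Subtype.val hc⟩
      have := hcrit I (v : Fin 2 → K) (fun i hi => hspan (hLI i hi))
      rw [h]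
      push_cast
      linarith
    · rw [h]
      push_cast
      linarith

end Groth.Agent.S18560
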