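import Groth.Statements.S18561
import Groth.Agent.Lib.Helper6.PtQuivL

set_option autoImplicit false
universe u v
open PtQuiv

namespace Groth.Agent.S18561

/-- Let K be a field and s i ∈ K² (i in a finite index type) nonzero vectors, regarded as a
representation of the quiver with a central vertex carrying the plane and one vertex per i carrying
a line mapping to the plane by 1 ↦ s i. Then the representation is stable for some weight of the
hypersimplex (0 ≤ θ i ≤ 1, Σ θ i = 2, central weight -1) if and only if the s i fall into at least
three proportionality classes, i.e. three of them are pairwise non-proportional. (The published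
statement is over an algebraically closed field and assumes semistability for some interior weight
instead of s i ≠ 0; any field is allowed here. Its further assertions, that the set of semistability
weights is full-dimensional exactly in this case and is a wall otherwise, are not part of this row.) -/
theorem result (K : Type u) [Field K] (ι : Type v)
    [Fintype ι] (s : ι → (Fin 2 → K)) (hs : ∀ i, s i ≠ 0) :
    (∃ θ : ι → ℚ, (∀ i, 0 ≤ θ i) ∧ (∀ i, θ i ≤ 1) ∧ ∑ i, θ i = 2 ∧ PtQuiv.QStable (-1) θ s) ↔
      ∃ i j k : ι, s i ∉ K ∙ s j ∧ s j ∉ K ∙ s k ∧ s i ∉ K ∙ s k := by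
  classical
  have hsame : ∀ (x y v : Fin 2 → K), y ≠ 0 → x ∈ K ∙ v → y ∈ K ∙ v → x ∈ K ∙ y := by
    intro x y v hy hx hyv
    rw [Submodule.mem_span_singleton] at hx hyv ⊢
    obtain ⟨c, rfl⟩ := hx
    obtain ⟨d, rfl⟩ := hyv
    have hd : d ≠ 0 := by
      rintro rfl
      apply hy
      rw [zero_smul]
    exact ⟨c * d⁻¹, by rw [smul_smul, mul_assoc, inv_mul_cancel₀ hd, mul_one]⟩
  constructor
  · rintro ⟨θ, h0, h1, h2, hst⟩
    have hlt := Groth.Agent.Lib.Helper6.PtQuivL.lt_one_of_qstable s hs θ hst
    have hne : Nonempty ι := by
      by_contra hemp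
      rw [not_nonempty_iff] at hemp
      rw [Finset.univ_eq_empty, Finset.sum_empty] at h2
      norm_num at h2
    obtain ⟨i⟩ := hne
    have hC₁ := hlt (Finset.univ.filter (fun l => s l ∈ K ∙ s i)) (s i)
      (fun l hl => (Finset.mem_filter.1 hl).2)
    obtain ⟨j, hj⟩ : ∃ j, s j ∉ K ∙ s i := by
      by_contra hcon
      push Not at hcon
      have : Finset.univ.filter (fun l => s l ∈ K ∙ s i) = Finset.univ := by
        apply Finset.filter_true_of_mem
        intro l _
        exact hcon l
      rw [this, h2] at hC₁
      norm_num at hC₁
    have hC₂ := hlt (Finset.univ.filter (fun l => s l ∈ K ∙ s j)) (s j)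
      (fun l hl => (Finset.mem_filter.1 hl).2)
    obtain ⟨k, hk1, hk2⟩ : ∃ k, s k ∉ K ∙ s i ∧ s k ∉ K ∙ s j := by
      by_contra hcon
      push Not at hcon
      have hun : Finset.univ.filter (fun l => s l ∈ K ∙ s i) ∪
          Finset.univ.filter (fun l => s l ∈ K ∙ s j) = Finset.univ := by
        apply Finset.eq_univ_of_forall
        intro l
        rw [Finset.mem_union, Finset.mem_filter, Finset.mem_filter]
        by_cases hl : s l ∈ K ∙ s i
        · exact Or.inl ⟨Finset.mem_univ _, hl⟩
        · exact Or.inr ⟨Finset.mem_univ _, hcon l hl⟩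
      have h3 := Finset.sum_union_inter (s₁ := Finset.univ.filter (fun l => s l ∈ K ∙ s i))
        (s₂ := Finset.univ.filter (fun l => s l ∈ K ∙ s j)) (f := θ)
      rw [hun, h2] at h3
      have h4 : 0 ≤ ∑ l ∈ Finset.univ.filter (fun l => s l ∈ K ∙ s i) ∩
          Finset.univ.filter (fun l => s l ∈ K ∙ s j), θ l :=
        Finset.sum_nonneg (fun l _ => h0 l)
      linarith
    refine ⟨i, j, k, ?_, ?_, ?_⟩
    · intro h
      exact hj (Groth.Agent.Lib.Helper6.PtQuivL.mem_span_symm (hs i) h)
    · intro h
      exact hk2 (Groth.Agent.Lib.Helper6.PtQuivL.mem_span_symm (hs j) h)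
    · intro h
      exact hk1 (Groth.Agent.Lib.Helper6.PtQuivL.mem_span_symm (hs i) h)
  · rintro ⟨i, j, k, hij, hjk, hik⟩
    have hji : s j ∉ K ∙ s i := fun h => hij (Groth.Agent.Lib.Helper6.PtQuivL.mem_span_symm (hs j) h)
    have hkj : s k ∉ K ∙ s j := fun h => hjk (Groth.Agent.Lib.Helper6.PtQuivL.mem_span_symm (hs k) h)
    have hki : s k ∉ K ∙ s i := fun h => hik (Groth.Agent.Lib.Helper6.PtQuivL.mem_span_symm (hs k) h)
    have nij : i ≠ j := by
      rintro rfl
      exact hij (Submodule.mem_span_singleton_self _)
    have njk : j ≠ k := by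
      rintro rfl
      exact hjk (Submodule.mem_span_singleton_self _)
    have nik : i ≠ k := by
      rintro rfl
      exact hik (Submodule.mem_span_singleton_self _)
    set T : Finset ι := {i, j, k} with hT
    have hTcard : T.card = 3 := by
      rw [hT, Finset.card_insert_of_notMem, Finset.card_insert_of_notMem, Finset.card_singleton]
      · simpa using njk
      · simp only [Finset.mem_insert, Finset.mem_singleton]
        rintro (h | h)
        · exact nij h
        · exact nik h
    have hn3 : 3 ≤ Fintype.card ι := by
      rw [← hTcard]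
      exact Finset.card_le_univ T
    set n : ℚ := (Fintype.card ι : ℚ) with hn
    have hn3' : (3 : ℚ) ≤ n := by rw [hn]; exact_mod_cast hn3
    set δ : ℚ := 1 / (3 * n) with hδ
    have hδpos : 0 < δ := by rw [hδ]; positivity
    have hmδ : (n - 3) * δ < 1 / 3 := by
      rw [hδ]
      rw [mul_one_div, div_lt_div_iff₀ (by positivity) (by norm_num)]
      nlinarith
    have hmδ0 : 0 ≤ (n - 3) * δ := mul_nonneg (by linarith) hδpos.le
    have hδle : δ ≤ 1 / 9 := by
      rw [hδ]
      rw [div_le_div_iff₀ (by positivity) (by norm_num)]
      linarith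
    set α : ℚ := (2 - (n - 3) * δ) / 3 with hα
    have hαpos : 0 < α := by rw [hα]; linarith
    have hαle : α ≤ 2 / 3 := by rw [hα]; linarith
    refine ⟨fun l => if l ∈ T then α else δ, ?_, ?_, ?_, ?_⟩
    · intro l
      by_cases hl : l ∈ T
      · simp only [hl, if_true]; exact hαpos.le
      · simp only [hl, if_false]; exact hδpos.le
    · intro l
      by_cases hl : l ∈ T
      · simp only [hl, if_true]; linarith
      · simp only [hl, if_false]; linarith
    · rw [Finset.sum_ite, Finset.sum_const, Finset.sum_const]
      have h1 : (Finset.univ.filter (fun l => l ∈ T)).card = 3 := by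
        rw [Finset.filter_mem_eq_inter, Finset.univ_inter, hTcard]
      have h2 : (Finset.univ.filter (fun l => ¬ l ∈ T)).card = Fintype.card ι - 3 := by
        have := Finset.card_filter_add_card_filter_not (s := (Finset.univ : Finset ι)) (fun l => l ∈ T)
        rw [h1, Finset.card_univ] at this
        omega
      rw [h1, h2, nsmul_eq_mul, nsmul_eq_mul]
      push_cast [hn3]
      rw [hα]
      ring
    · apply Groth.Agent.Lib.Helper6.PtQuivL.qstable_of s hs
      · rw [Finset.sum_ite, Finset.sum_const, Finset.sum_const]
        have h1 : (Finset.univ.filter (fun l => l ∈ T)).card = 3 := by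
          rw [Finset.filter_mem_eq_inter, Finset.univ_inter, hTcard]
        have h2 : (Finset.univ.filter (fun l => ¬ l ∈ T)).card = Fintype.card ι - 3 := by
          have := Finset.card_filter_add_card_filter_not (s := (Finset.univ : Finset ι)) (fun l => l ∈ T)
          rw [h1, Finset.card_univ] at this
          omega
        rw [h1, h2, nsmul_eq_mul, nsmul_eq_mul]
        push_cast [hn3]
        rw [hα]
        ring
      · intro l
        by_cases hl : l ∈ T
        · simp only [hl, if_true]; exact hαpos
        · simp only [hl, if_false]; exact hδpos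
      · intro J v hJ
        rw [Finset.sum_ite, Finset.sum_const, Finset.sum_const, nsmul_eq_mul, nsmul_eq_mul]
        have hc1 : (J.filter (fun l => l ∈ T)).card ≤ 1 := by
          rw [Finset.card_le_one]
          intro a ha b hb
          rw [Finset.mem_filter] at ha hb
          have hab : s a ∈ K ∙ s b := hsame _ _ v (hs b) (hJ a ha.1) (hJ b hb.1)
          have haT := ha.2
          have hbT := hb.2
          rw [hT] at haT hbT
          simp only [Finset.mem_insert, Finset.mem_singleton] at haT hbT
          rcases haT with rfl | rfl | rfl <;> rcases hbT with rfl | rfl | rfl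
          · rfl
          · exact absurd hab hij
          · exact absurd hab hik
          · exact absurd hab hji
          · rfl
          · exact absurd hab hjk
          · exact absurd hab hki
          · exact absurd hab hkj
          · rfl
        have hc2 : (J.filter (fun l => ¬ l ∈ T)).card ≤ Fintype.card ι - 3 := by
          have h1 : (Finset.univ.filter (fun l => l ∈ T)).card = 3 := by
            rw [Finset.filter_mem_eq_inter, Finset.univ_inter, hTcard]
          have h2 : (Finset.univ.filter (fun l => ¬ l ∈ T)).card = Fintype.card ι - 3 := by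
            have := Finset.card_filter_add_card_filter_not (s := (Finset.univ : Finset ι)) (fun l => l ∈ T)
            rw [h1, Finset.card_univ] at this
            omega
          rw [← h2]
          apply Finset.card_le_card
          intro l hl
          rw [Finset.mem_filter] at hl ⊢
          exact ⟨Finset.mem_univ _, hl.2⟩
        have hc1' : ((J.filter (fun l => l ∈ T)).card : ℚ) ≤ 1 := by exact_mod_cast hc1
        have hc2' : ((J.filter (fun l => ¬ l ∈ T)).card : ℚ) ≤ n - 3 := by
          have : ((J.filter (fun l => ¬ l ∈ T)).card : ℚ) ≤ ((Fintype.card ι - 3 : ℕ) : ℚ) := by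
            exact_mod_cast hc2
          rw [hn]
          push_cast [hn3] at this
          exact this
        have h5 : ((J.filter (fun l => l ∈ T)).card : ℚ) * α ≤ 1 * α :=
          mul_le_mul_of_nonneg_right hc1' hαpos.le
        have h6 : ((J.filter (fun l => ¬ l ∈ T)).card : ℚ) * δ ≤ (n - 3) * δ :=
          mul_le_mul_of_nonneg_right hc2' hδpos.le
        linarith

end Groth.Agent.S18561
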