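import Groth.Statements.S18579
import Mathlib
-- import your own Groth.Agent.* helpers here

set_option autoImplicit false
universe u
open LogDiff

namespace Groth.Agent.S18579

open Finset
namespace Aux

variable {R : Type u} [CommRing R] [IsDomain R] {r : ℕ} (f : Fin r → R)

/-- Lemma B -/
theorem le_of_pow_dvd (hf : ∀ i, Prime (f i)) (hfa : ∀ i j, Associated (f i) (f j) → i = j)
    (v : R) (hv : IsUnit v) (m : Fin r → ℕ) (j : Fin r) (k : ℕ)
    (hk : f j ^ k ∣ v * ∏ i, f i ^ m i) : k ≤ m j := by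
  by_contra hlt
  push Not at hlt
  have h1 : f j ^ (m j + 1) ∣ v * ∏ i, f i ^ m i := (pow_dvd_pow _ hlt).trans hk
  rw [← Finset.mul_prod_erase univ (fun i => f i ^ m i) (mem_univ j), pow_succ] at h1
  have h2 : f j ^ m j * f j ∣ f j ^ m j * (v * ∏ i ∈ univ.erase j, f i ^ m i) := by
    convert h1 using 1
    ring
  have h3 : f j ∣ v * ∏ i ∈ univ.erase j, f i ^ m i :=
    (mul_dvd_mul_iff_left (pow_ne_zero _ (hf j).ne_zero)).mp h2
  rcases (hf j).dvd_or_dvd h3 with h4 | h4
  · exact (hf j).not_unit (isUnit_of_dvd_unit h4 hv)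
  · obtain ⟨i, hi, h5⟩ := (hf j).exists_mem_finset_dvd h4
    have h6 : f j ∣ f i := (hf j).dvd_of_dvd_pow h5
    have h7 : Associated (f j) (f i) := ((hf j).dvd_prime_iff_associated (hf i)).mp h6
    exact (Finset.ne_of_mem_erase hi) (hfa j i h7).symm

theorem exps_eq (hf : ∀ i, Prime (f i)) (hfa : ∀ i j, Associated (f i) (f j) → i = j)
    (v v' : R) (hv : IsUnit v) (hv' : IsUnit v') (m m' : Fin r → ℕ)
    (h : v * ∏ i, f i ^ m i = v' * ∏ i, f i ^ m' i) : m = m' := by
  funext j
  apply le_antisymm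
  · apply le_of_pow_dvd f hf hfa v' hv' m' j
    rw [← h, ← Finset.mul_prod_erase univ (fun i => f i ^ m i) (mem_univ j)]
    exact ⟨v * ∏ i ∈ univ.erase j, f i ^ m i, by ring⟩
  · apply le_of_pow_dvd f hf hfa v hv m j
    rw [h, ← Finset.mul_prod_erase univ (fun i => f i ^ m' i) (mem_univ j)]
    exact ⟨v' * ∏ i ∈ univ.erase j, f i ^ m' i, by ring⟩

theorem exists_unit_mul_prod (hf : ∀ i, Prime (f i)) (N : ℕ) (a a' : R)
    (h : a * a' = (∏ i, f i) ^ N) :
    ∃ (v : Rˣ) (c : Fin r → ℕ), a = v * ∏ i, f i ^ c i := by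
  classical
  have hx : a * a' = 1 * ∏ x ∈ (univ : Finset (Fin r)) ×ˢ range N, f x.1 := by
    rw [h, one_mul, Finset.prod_product, ← Finset.prod_pow]
    refine Finset.prod_congr rfl fun i _ => ?_
    simp only [Finset.prod_const, card_range]
  obtain ⟨t, u, b, c, -, -, h1, ha, -⟩ :=
    mul_eq_mul_prime_prod (p := fun x : Fin r × ℕ => f x.1) (fun i _ => hf i.1) hx
  have hb : IsUnit b := IsUnit.of_mul_eq_one c h1.symm
  refine ⟨hb.unit, fun j => #{x ∈ t | x.1 = j}, ?_⟩
  rw [ha, IsUnit.unit_spec]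
  congr 1
  rw [← Finset.prod_fiberwise' t Prod.fst f]
  refine Finset.prod_congr rfl fun j _ => ?_
  rw [Finset.prod_const]

theorem main {R K : Type u} [CommRing R] [Field K] [Algebra R K] [IsFractionRing R K]
    {r : ℕ} (f : Fin r → R) (hf : ∀ i, Prime (f i)) (hfa : ∀ i j, Associated (f i) (f j) → i = j)
    (w : Kˣ)
    (hw : ∃ (a : R) (n : ℕ), (w : K) * algebraMap R K ((∏ i, f i) ^ n) = algebraMap R K a)
    (hw' : ∃ (a : R) (n : ℕ), (w⁻¹ : Kˣ) * algebraMap R K ((∏ i, f i) ^ n) = algebraMap R K a) :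
    ∃! vb : Rˣ × (Fin r → ℤ),
      (w : K) = algebraMap R K (vb.1 : R) * ∏ i, (algebraMap R K (f i)) ^ (vb.2 i) := by
  have hinj : Function.Injective (algebraMap R K) := IsFractionRing.injective R K
  haveI : IsDomain R := hinj.isDomain (algebraMap R K)
  have hg0 : ∀ i, algebraMap R K (f i) ≠ 0 := fun i =>
    (map_ne_zero_iff _ hinj).mpr (hf i).ne_zero
  obtain ⟨a, n, ha⟩ := hw
  obtain ⟨a', n', ha'⟩ := hw'
  have haa : a * a' = (∏ i, f i) ^ (n + n') := by
    apply hinj
    rw [map_mul, ← ha, ← ha', pow_add, map_mul]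
    have : (w : K) * ((w⁻¹ : Kˣ) : K) = 1 := by
      rw [← Units.val_mul, mul_inv_cancel, Units.val_one]
    calc (w : K) * algebraMap R K ((∏ i, f i) ^ n) *
          (((w⁻¹ : Kˣ) : K) * algebraMap R K ((∏ i, f i) ^ n'))
        = ((w : K) * ((w⁻¹ : Kˣ) : K)) * (algebraMap R K ((∏ i, f i) ^ n) *
            algebraMap R K ((∏ i, f i) ^ n')) := by ring
      _ = _ := by rw [this, one_mul]
  obtain ⟨v, c, hvc⟩ := exists_unit_mul_prod f hf (n + n') a a' haa
  have hFn : algebraMap R K ((∏ i, f i) ^ n) = ∏ i, algebraMap R K (f i) ^ n := by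
    rw [map_pow, map_prod, Finset.prod_pow]
  have hFn0 : (∏ i, algebraMap R K (f i) ^ n) ≠ 0 :=
    Finset.prod_ne_zero_iff.mpr fun i _ => pow_ne_zero _ (hg0 i)
  refine ⟨(v, fun i => (c i : ℤ) - n), ?_, ?_⟩
  · show (w : K) = algebraMap R K (v : R) * ∏ i, algebraMap R K (f i) ^ ((c i : ℤ) - n)
    have h1 : ∀ i, algebraMap R K (f i) ^ ((c i : ℤ) - n) =
        algebraMap R K (f i) ^ c i / algebraMap R K (f i) ^ n := fun i => by
      rw [zpow_sub₀ (hg0 i), zpow_natCast, zpow_natCast]
    simp only [h1]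
    rw [Finset.prod_div_distrib, ← mul_div_assoc, eq_div_iff hFn0, ← hFn, ha, hvc, map_mul,
      map_prod]
    simp only [map_pow]
  · rintro ⟨v', b'⟩ hvb'
    have hvb : (w : K) = algebraMap R K (v : R) * ∏ i, algebraMap R K (f i) ^ ((c i : ℤ) - n) := by
      have h1 : ∀ i, algebraMap R K (f i) ^ ((c i : ℤ) - n) =
          algebraMap R K (f i) ^ c i / algebraMap R K (f i) ^ n := fun i => by
        rw [zpow_sub₀ (hg0 i), zpow_natCast, zpow_natCast]
      simp only [h1]
      rw [Finset.prod_div_distrib, ← mul_div_assoc, eq_div_iff hFn0, ← hFn, ha, hvc, map_mul,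
        map_prod]
      simp only [map_pow]
    simp only at hvb'
    set b : Fin r → ℤ := fun i => (c i : ℤ) - n with hb
    -- common shift
    let N : ℕ := ∑ i, ((b i).natAbs + (b' i).natAbs)
    have hN : ∀ i, 0 ≤ b i + N ∧ 0 ≤ b' i + N := by
      intro i
      have h1 : (b i).natAbs + (b' i).natAbs ≤ N :=
        Finset.single_le_sum (f := fun i => (b i).natAbs + (b' i).natAbs)
          (fun _ _ => Nat.zero_le _) (mem_univ i)
      have h2 : ((b i).natAbs : ℤ) + ((b' i).natAbs : ℤ) ≤ (N : ℤ) := by exact_mod_cast h1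
      constructor <;> omega
    let m : Fin r → ℕ := fun i => (b i + N).toNat
    let m' : Fin r → ℕ := fun i => (b' i + N).toNat
    have hm : ∀ i, (m i : ℤ) = b i + N := fun i => Int.toNat_of_nonneg (hN i).1
    have hm' : ∀ i, (m' i : ℤ) = b' i + N := fun i => Int.toNat_of_nonneg (hN i).2
    have key : ∀ (u : R) (e : Fin r → ℤ) (μ : Fin r → ℕ), (∀ i, (μ i : ℤ) = e i + N) →
        (algebraMap R K u * ∏ i, algebraMap R K (f i) ^ e i) *
          ∏ i, algebraMap R K (f i) ^ N = algebraMap R K (u * ∏ i, f i ^ μ i) := by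
      intro u e μ hμ
      rw [mul_assoc, ← Finset.prod_mul_distrib, map_mul, map_prod]
      congr 1
      refine Finset.prod_congr rfl fun i _ => ?_
      rw [map_pow, ← zpow_natCast (algebraMap R K (f i)) (μ i), hμ i, zpow_add₀ (hg0 i),
        zpow_natCast]
    have e1 := key (v : R) b m hm
    have e2 := key (v' : R) b' m' hm'
    rw [← hvb] at e1
    rw [← hvb'] at e2
    have e3 : (v : R) * ∏ i, f i ^ m i = (v' : R) * ∏ i, f i ^ m' i := hinj (e1.symm.trans e2)
    have hmm : m = m' := exps_eq f hf hfa _ _ v.isUnit v'.isUnit m m' e3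
    have hbb : b = b' := by
      funext i
      have := congrFun hmm i
      have h5 : (m i : ℤ) = (m' i : ℤ) := by exact_mod_cast this
      rw [hm, hm'] at h5
      omega
    have hvv : v' = v := by
      rw [hmm] at e3
      have hne : (∏ i, f i ^ m' i) ≠ 0 :=
        Finset.prod_ne_zero_iff.mpr fun i _ => pow_ne_zero _ (hf i).ne_zero
      exact Units.ext (mul_right_cancel₀ hne e3).symm
    rw [hvv, ← hbb]

end Aux

/-- The exact sequence for units (first Milnor K-groups) when every component of the divisor is removed.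
Let k be a field, B a smooth k-algebra, R the localization of B at a prime ideal, K the fraction
field of R and f_1, …, f_r pairwise non-associate prime elements of R. If w is a unit of K such that
w and w⁻¹ both lie in R[1/(f_1⋯f_r)], i.e. each becomes an element of R after multiplication by a
power of f_1⋯f_r, then there is exactly one pair (v, b) consisting of a unit v of R and integers
b_1, …, b_r with w = v · ∏ f_i^{b_i} in K. (This is the exactness of 0 → Γ(Spec R, O^×) → Γ(Spec R ∖
V(f_1⋯f_r), O^×) → ℤ^r → 0, the last map being the orders along the f_i. The published statement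
takes the f_i to be local equations of the components of a normal crossings divisor, over a field of
characteristic zero; this row allows arbitrary pairwise non-associate prime elements and any field.) -/
theorem result
    {k B R K : Type u} [Field k] [CommRing B] [Algebra k B] [Algebra.Smooth k B]
    (p : Ideal B) [p.IsPrime] [CommRing R] [Algebra B R] [IsLocalization.AtPrime R p]
    [Field K] [Algebra R K] [IsFractionRing R K]
    {r : ℕ} (f : Fin r → R) (hf : ∀ i, Prime (f i)) (hfa : ∀ i j, Associated (f i) (f j) → i = j)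
    (w : Kˣ)
    (hw : ∃ (a : R) (n : ℕ), (w : K) * algebraMap R K ((∏ i, f i) ^ n) = algebraMap R K a)
    (hw' : ∃ (a : R) (n : ℕ), (w⁻¹ : Kˣ) * algebraMap R K ((∏ i, f i) ^ n) = algebraMap R K a) :
    ∃! vb : Rˣ × (Fin r → ℤ),
      (w : K) = algebraMap R K (vb.1 : R) * ∏ i, (algebraMap R K (f i)) ^ (vb.2 i) := by
  exact Aux.main f hf hfa w hw hw'

end Groth.Agent.S18579
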