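import Groth.Statements.S18587
import Mathlib
import Groth.Agent.S18590
import Groth.Agent.Lib.Helper6.WittShift
-- import your own Groth.Agent.* helpers here

set_option autoImplicit false
universe u
open CAlg

namespace Groth.Agent.S18587

namespace Aux
open WittVector

section algebra
variable {A B : Type u} [CommRing A] [CommRing B] [Algebra A B]

lemma key_pow (ℓ : ℕ) (hℓ : 0 < ℓ) (N : ℕ) (hN : Nat.Coprime N ℓ) (a c d : A)
    (hac : a = c * d) (y : B) (hy : y ^ ℓ = algebraMap A B c) :
    ∃ j < ℓ, ∃ γ : A, algebraMap A B a ^ N * y = algebraMap A B γ * (y ^ j) ^ N := by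
  rcases Nat.lt_or_ge 1 ℓ with h1 | h1
  · obtain ⟨N', _, hN'⟩ := Nat.exists_mul_mod_eq_one_of_coprime hN h1
    have hjl : N' % ℓ < ℓ := Nat.mod_lt _ hℓ
    have hmod : N * (N' % ℓ) % ℓ = 1 := by rw [Nat.mul_mod_mod, hN']
    set j := N' % ℓ with hj
    set m := N * j / ℓ with hm
    have hdiv : ℓ * m + 1 = N * j := by
      have := Nat.div_add_mod (N * j) ℓ
      rw [hmod] at this
      exact this
    have hmN : m ≤ N := by
      have h2 : ℓ * m ≤ N * j := by omega
      have h3 : N * j ≤ N * ℓ := Nat.mul_le_mul_left _ hjl.le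
      have h4 : ℓ * m ≤ ℓ * N := by rw [mul_comm ℓ N]; exact h2.trans h3
      exact Nat.le_of_mul_le_mul_left h4 hℓ
    refine ⟨j, hjl, c ^ (N - m) * d ^ N, ?_⟩
    have e1 : (y ^ j) ^ N = algebraMap A B c ^ m * y := by
      rw [← pow_mul, mul_comm j N, ← hdiv, pow_succ, pow_mul, hy]
    have e2 : algebraMap A B c ^ N = algebraMap A B c ^ (N - m) * algebraMap A B c ^ m := by
      rw [← pow_add, Nat.sub_add_cancel hmN]
    rw [e1, hac, map_mul, mul_pow, e2, map_mul, map_pow, map_pow]
    ring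
  · have hℓ1 : ℓ = 1 := by omega
    subst hℓ1
    refine ⟨0, Nat.zero_lt_one, a ^ N * c, ?_⟩
    rw [pow_one] at hy
    rw [pow_zero, one_pow, mul_one, map_mul, map_pow, hy]

lemma key_span (ℓ : ℕ) (hℓ : 0 < ℓ) (N : ℕ) (hN : Nat.Coprime N ℓ) (Y : Finset B)
    (hspan : Submodule.span A (Y : Set B) = ⊤) (a : A) (c d : B → A)
    (hac : ∀ y ∈ Y, y ≠ 0 → a = c y * d y) (hy : ∀ y ∈ Y, y ^ ℓ = algebraMap A B (c y)) (b : B) :
    ∃ α : B × ℕ → A,
      algebraMap A B a ^ N * b =
        ∑ z ∈ Y ×ˢ Finset.range ℓ, algebraMap A B (α z) * (z.1 ^ z.2) ^ N ∧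
      ∀ z ∈ Y ×ˢ Finset.range ℓ, ∃ b' : B,
        algebraMap A B (α z) * (z.1 ^ z.2) ^ N = algebraMap A B a ^ N * b' := by
  classical
  have hb : b ∈ Submodule.span A (Y : Set B) := by rw [hspan]; trivial
  obtain ⟨β, _, hβ⟩ := Submodule.mem_span_finset.mp hb
  have hjγ : ∀ y : B, ∃ j : ℕ, ∃ γ : A, y ∈ Y →
      (j < ℓ ∧ algebraMap A B a ^ N * y = algebraMap A B γ * (y ^ j) ^ N) := by
    intro y
    by_cases hyY : y ∈ Y
    · by_cases hy0 : y = 0
      · refine ⟨0, 0, fun _ => ⟨hℓ, ?_⟩⟩
        rw [hy0, mul_zero, map_zero, zero_mul]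
      · obtain ⟨j, hj, γ, hγ⟩ := key_pow ℓ hℓ N hN a (c y) (d y) (hac y hyY hy0) y (hy y hyY)
        exact ⟨j, γ, fun _ => ⟨hj, hγ⟩⟩
    · exact ⟨0, 0, fun h => absurd h hyY⟩
  choose j γ hjγ using hjγ
  refine ⟨fun z => if z.2 = j z.1 then β z.1 * γ z.1 else 0, ?_, ?_⟩
  · rw [Finset.sum_product, ← hβ, Finset.mul_sum]
    refine Finset.sum_congr rfl (fun y hyY => ?_)
    rw [Finset.sum_eq_single (j y)]
    · simp only [if_true]
      rw [map_mul, mul_assoc, ← (hjγ y hyY).2, Algebra.smul_def]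
      ring
    · intro k _ hk
      simp only [if_neg hk, map_zero, zero_mul]
    · intro h
      exact absurd (Finset.mem_range.mpr (hjγ y hyY).1) h
  · intro z hz
    obtain ⟨hz1, _⟩ := Finset.mem_product.mp hz
    by_cases hk : z.2 = j z.1
    · refine ⟨algebraMap A B (β z.1) * z.1, ?_⟩
      simp only [if_pos hk]
      rw [hk, map_mul, mul_assoc, ← (hjγ z.1 hz1).2]
      ring
    · refine ⟨0, ?_⟩
      simp only [if_neg hk, map_zero, zero_mul, mul_zero]

end algebra

section witt
variable {p : ℕ} [hp : Fact p.Prime]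

lemma map_iterV {R S : Type*} [CommRing R] [CommRing S] (f : R →+* S) (i : ℕ) (x : WittVector p R) :
    WittVector.map f ((⇑(verschiebung : WittVector p R →+ WittVector p R))^[i] x) =
      (⇑(verschiebung : WittVector p S →+ WittVector p S))^[i] (WittVector.map f x) := by
  induction i with
  | zero => rfl
  | succ i ih =>
    rw [Function.iterate_succ_apply', Function.iterate_succ_apply', map_verschiebung, ih]

lemma iterF_teich {R : Type*} [CommRing R] [CharP R p] (i : ℕ) (b : R) :
    (⇑(frobenius : WittVector p R →+* WittVector p R))^[i] (teichmuller p b) =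
      teichmuller p (b ^ p ^ i) := by
  induction i with
  | zero => simp
  | succ i ih =>
    rw [Function.iterate_succ_apply', ih, frobenius_eq_map_frobenius, map_teichmuller,
      frobenius_def, ← pow_mul, ← pow_succ]

lemma iterV_teich_coeff {R : Type*} [CommRing R] (i : ℕ) (t : R) (j : ℕ) :
    ((⇑(verschiebung : WittVector p R →+ WittVector p R))^[i] (teichmuller p t)).coeff j =
      if j = i then t else 0 := by
  rcases lt_or_ge j i with h | h
  · rw [iterate_verschiebung_coeff_eq_zero _ h, if_neg (ne_of_lt h)]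
  · obtain ⟨k, rfl⟩ := Nat.exists_eq_add_of_le' h
    rw [iterate_verschiebung_coeff]
    rcases Nat.eq_zero_or_pos k with hk | hk
    · subst hk
      rw [teichmuller_coeff_zero, zero_add, if_pos rfl]
    · rw [teichmuller_coeff_pos p t k hk, if_neg (by omega)]

lemma iterV_sum {R : Type*} [CommRing R] {ι : Type*} (s : Finset ι) (i : ℕ)
    (x : ι → WittVector p R) :
    ∑ z ∈ s, (⇑(verschiebung : WittVector p R →+ WittVector p R))^[i] (x z) =
      (⇑(verschiebung : WittVector p R →+ WittVector p R))^[i] (∑ z ∈ s, x z) := by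
  classical
  induction s using Finset.induction_on with
  | empty =>
    simp only [Finset.sum_empty]
    induction i with
    | zero => rfl
    | succ i ih => rw [Function.iterate_succ_apply', ← ih, map_zero]
  | insert z s hz ih =>
    rw [Finset.sum_insert hz, Finset.sum_insert hz, ih]
    exact Groth.Agent.Helper6.WittShift.iterate_verschiebung_add p i _ _

lemma T_formula {A B : Type*} [CommRing A] [CommRing B] [Algebra A B] [CharP B p]
    (i : ℕ) (α : A) (w : B) :
    WittVector.map (algebraMap A B)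
        ((⇑(verschiebung : WittVector p A →+ WittVector p A))^[i] (teichmuller p α)) *
      teichmuller p w =
    (⇑(verschiebung : WittVector p B →+ WittVector p B))^[i]
      (teichmuller p (algebraMap A B α * w ^ p ^ i)) := by
  rw [map_iterV, iterate_verschiebung_mul_left, iterF_teich, map_teichmuller, ← map_mul]

lemma sum_iterV_teich_eq_init {R : Type*} [CommRing R] (x : WittVector p R) (i : ℕ) :
    ∑ j ∈ Finset.range i, (⇑(verschiebung : WittVector p R →+ WittVector p R))^[j]
      (teichmuller p (x.coeff j)) = WittVector.init i x := by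
  induction i with
  | zero =>
    rw [Finset.sum_range_zero]
    ext n
    rw [Groth.Agent.Helper6.WittShift.coeff_init', if_neg (Nat.not_lt_zero _), zero_coeff]
  | succ i ih =>
    rw [Finset.sum_range_succ, ih]
    ext n
    have hdisj : ∀ n, (WittVector.init i x).coeff n = 0 ∨
        ((⇑(verschiebung : WittVector p R →+ WittVector p R))^[i]
          (teichmuller p (x.coeff i))).coeff n = 0 := by
      intro n
      rw [Groth.Agent.Helper6.WittShift.coeff_init', iterV_teich_coeff]
      by_cases h : n < i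
      · right; rw [if_neg (ne_of_lt h)]
      · left; rw [if_neg h]
    rw [coeff_add_of_disjoint n _ _ hdisj, Groth.Agent.Helper6.WittShift.coeff_init',
      Groth.Agent.Helper6.WittShift.coeff_init', iterV_teich_coeff]
    by_cases h1 : n < i
    · rw [if_pos h1, if_neg (ne_of_lt h1), if_pos (by omega), add_zero]
    · by_cases h2 : n = i
      · rw [if_neg h1, if_pos h2, if_pos (by omega), zero_add, h2]
      · rw [if_neg h1, if_neg h2, if_neg (by omega), add_zero]

end witt

section core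
variable {p : ℕ} [hp : Fact p.Prime] {A B : Type u} [CommRing A] [CommRing B] [Algebra A B]
  [CharP B p]

/-- the filtration `M k = a^(q k) B` -/
def Mfil (a : A) (q k : ℕ) : Submodule A B where
  carrier := {b | ∃ b' : B, b = algebraMap A B a ^ (q * k) * b'}
  add_mem' := by
    rintro _ _ ⟨x, rfl⟩ ⟨y, rfl⟩
    exact ⟨x + y, by ring⟩
  zero_mem' := ⟨0, by ring⟩
  smul_mem' := by
    rintro r _ ⟨x, rfl⟩
    exact ⟨r • x, by rw [mul_smul_comm]⟩

lemma mem_Mfil {a : A} {q k : ℕ} {b : B} :
    b ∈ Mfil a q k ↔ ∃ b' : B, b = algebraMap A B a ^ (q * k) * b' := Iff.rfl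

lemma Mfil_mul (a : A) (q : ℕ) (i j : ℕ) (x y : B) (hx : x ∈ Mfil a q i) (hy : y ∈ Mfil a q j) :
    x * y ∈ Mfil a q (i + j) := by
  obtain ⟨x', rfl⟩ := hx
  obtain ⟨y', rfl⟩ := hy
  exact ⟨x' * y', by rw [mul_add, pow_add]; ring⟩

/-- the set `𝒮` of Witt vectors with `n`-th coefficient in `M (p^n)` -/
def InS (a : A) (q : ℕ) (φ : WittVector p B) : Prop := ∀ j : ℕ, φ.coeff j ∈ Mfil a q (p ^ j)

lemma InS.add {a : A} {q : ℕ} {φ ψ : WittVector p B} (h1 : InS a q φ) (h2 : InS a q ψ) :
    InS a q (φ + ψ) :=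
  (Groth.Agent.S18590.result p A B (Mfil a q) (Mfil_mul a q)).1 φ ψ h1 h2

lemma InS.smul {a : A} {q : ℕ} (x : WittVector p A) {φ : WittVector p B} (h1 : InS a q φ) :
    InS a q (WittVector.map (algebraMap A B) x * φ) :=
  (Groth.Agent.S18590.result p A B (Mfil a q) (Mfil_mul a q)).2 x φ h1

lemma InS.zero (a : A) (q : ℕ) : InS (p := p) (B := B) a q 0 := by
  intro j
  rw [zero_coeff]
  exact Submodule.zero_mem _

lemma InS.neg {a : A} {q : ℕ} {φ : WittVector p B} (h1 : InS a q φ) : InS a q (-φ) := by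
  have := InS.smul (-1 : WittVector p A) h1
  rwa [map_neg, map_one, neg_one_mul] at this

lemma InS.sub {a : A} {q : ℕ} {φ ψ : WittVector p B} (h1 : InS a q φ) (h2 : InS a q ψ) :
    InS a q (φ - ψ) := by
  rw [sub_eq_add_neg]
  exact h1.add h2.neg

lemma InS.sum {a : A} {q : ℕ} {ι : Type*} (s : Finset ι) (φ : ι → WittVector p B)
    (h : ∀ z ∈ s, InS a q (φ z)) : InS a q (∑ z ∈ s, φ z) := by
  classical
  induction s using Finset.induction_on with
  | empty => rw [Finset.sum_empty]; exact InS.zero a q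
  | insert z s hz ih =>
    rw [Finset.sum_insert hz]
    exact (h z (Finset.mem_insert_self z s)).add
      (ih (fun w hw => h w (Finset.mem_insert_of_mem hw)))

/-- the correction term at level `i` -/
noncomputable def corr (Y : Finset B) (ℓ n i : ℕ) (α : B × ℕ → A) : WittVector p B :=
  ∑ z ∈ Y ×ˢ Finset.range ℓ,
    WittVector.map (algebraMap A B)
        ((⇑(verschiebung : WittVector p A →+ WittVector p A))^[i] (teichmuller p (α z))) *
      teichmuller p ((z.1 ^ z.2) ^ p ^ n)

lemma step (n ℓ : ℕ) (hℓ : 0 < ℓ) (hpℓ : ¬ p ∣ ℓ) (Y : Finset B)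
    (hspan : Submodule.span A (Y : Set B) = ⊤) (a : A) (c d : B → A)
    (hac : ∀ y ∈ Y, y ≠ 0 → a = c y * d y) (hy : ∀ y ∈ Y, y ^ ℓ = algebraMap A B (c y))
    (i : ℕ) (ψ : WittVector p B) (hS : InS a (p ^ n) ψ) (h0 : ∀ j < i, ψ.coeff j = 0) :
    ∃ α : B × ℕ → A, InS a (p ^ n) (ψ - corr Y ℓ n i α) ∧
      ∀ j < i + 1, (ψ - corr Y ℓ n i α).coeff j = 0 := by
  set N := p ^ n * p ^ i with hN
  have hcop : Nat.Coprime N ℓ := by
    rw [hN, ← pow_add]
    exact Nat.Coprime.pow_left _ ((Nat.Prime.coprime_iff_not_dvd hp.out).mpr hpℓ)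
  obtain ⟨b, hb⟩ := hS i
  obtain ⟨α, hsum, hterm⟩ := key_span ℓ hℓ N hcop Y hspan a c d hac hy b
  refine ⟨α, ?_, ?_⟩
  all_goals
    set t : B × ℕ → B := fun z => algebraMap A B (α z) * (z.1 ^ z.2) ^ N with ht
    have hT : corr (p := p) Y ℓ n i α = ∑ z ∈ Y ×ˢ Finset.range ℓ,
        (⇑(verschiebung : WittVector p B →+ WittVector p B))^[i] (teichmuller p (t z)) := by
      unfold corr
      refine Finset.sum_congr rfl (fun z _ => ?_)
      rw [T_formula, ← pow_mul]
  · rw [hT]
    refine hS.sub (InS.sum _ _ (fun z hz => ?_))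
    intro j
    rw [iterV_teich_coeff]
    split_ifs with hj
    · obtain ⟨b', hb'⟩ := hterm z hz
      rw [hj]
      exact ⟨b', hb'⟩
    · exact Submodule.zero_mem _
  · have hW0 : ∀ j < i, (corr (p := p) Y ℓ n i α).coeff j = 0 := by
      intro j hj
      rw [hT, iterV_sum]
      exact iterate_verschiebung_coeff_eq_zero _ hj
    have hWi : (corr (p := p) Y ℓ n i α).coeff i = ∑ z ∈ Y ×ˢ Finset.range ℓ, t z := by
      rw [hT, iterV_sum]
      have h1 := iterate_verschiebung_coeff
        (∑ z ∈ Y ×ˢ Finset.range ℓ, teichmuller p (t z)) i 0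
      rw [zero_add] at h1
      rw [h1]
      have h2 : ∀ x : WittVector p B, x.coeff 0 = WittVector.constantCoeff x := fun _ => rfl
      rw [h2, map_sum]
      refine Finset.sum_congr rfl (fun z _ => ?_)
      rw [← h2, teichmuller_coeff_zero]
    obtain ⟨e1, e2⟩ := Groth.Agent.Helper6.WittShift.sub_coeff_of_vanish p ψ
      (corr Y ℓ n i α) i hW0
    intro j hj
    rcases Nat.lt_succ_iff_lt_or_eq.mp hj with hlt | heq
    · rw [e1 j hlt, h0 j hlt]
    · rw [heq, e2, hWi, hb, ← hsum, sub_self]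

lemma exists_seq (n ℓ : ℕ) (hℓ : 0 < ℓ) (hpℓ : ¬ p ∣ ℓ) (Y : Finset B)
    (hspan : Submodule.span A (Y : Set B) = ⊤) (a : A) (c d : B → A)
    (hac : ∀ y ∈ Y, y ≠ 0 → a = c y * d y) (hy : ∀ y ∈ Y, y ^ ℓ = algebraMap A B (c y))
    (τ : WittVector p B) (hτ : InS a (p ^ n) τ) :
    ∃ (ψs : ℕ → WittVector p B) (α : ℕ → B × ℕ → A), ψs 0 = τ ∧
      (∀ i, ψs (i + 1) = ψs i - corr Y ℓ n i (α i)) ∧
      ∀ i, ∀ j < i, (ψs i).coeff j = 0 := by
  classical
  let St : ℕ → Type u := fun i =>
    {ψ : WittVector p B // InS a (p ^ n) ψ ∧ ∀ j < i, ψ.coeff j = 0}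
  let nextα : (i : ℕ) → St i → (B × ℕ → A) := fun i ψ =>
    Classical.choose (step n ℓ hℓ hpℓ Y hspan a c d hac hy i ψ.1 ψ.2.1 ψ.2.2)
  let next : (i : ℕ) → St i → St (i + 1) := fun i ψ =>
    ⟨ψ.1 - corr Y ℓ n i (nextα i ψ),
      Classical.choose_spec (step n ℓ hℓ hpℓ Y hspan a c d hac hy i ψ.1 ψ.2.1 ψ.2.2)⟩
  let seq : (i : ℕ) → St i := fun i =>
    Nat.rec (motive := St) ⟨τ, hτ, fun j hj => absurd hj (Nat.not_lt_zero j)⟩
      (fun i ψ => next i ψ) i
  exact ⟨fun i => (seq i).1, fun i => nextα i (seq i), rfl, fun i => rfl, fun i => (seq i).2.2⟩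

theorem exists_decomp (n ℓ : ℕ) (hℓ : 0 < ℓ) (hpℓ : ¬ p ∣ ℓ) (Y : Finset B)
    (hspan : Submodule.span A (Y : Set B) = ⊤) (a : A) (c d : B → A)
    (hac : ∀ y ∈ Y, y ≠ 0 → a = c y * d y) (hy : ∀ y ∈ Y, y ^ ℓ = algebraMap A B (c y))
    (τ : WittVector p B) (hτ : InS a (p ^ n) τ) :
    ∃ x : B × ℕ → WittVector p A, τ = ∑ z ∈ Y ×ˢ Finset.range ℓ,
      WittVector.map (algebraMap A B) (x z) * teichmuller p ((z.1 ^ z.2) ^ p ^ n) := by
  classical
  obtain ⟨ψs, α, hseq0, hseq, hvan⟩ := exists_seq n ℓ hℓ hpℓ Y hspan a c d hac hy τ hτ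
  refine ⟨fun z => WittVector.mk p (fun i => α i z), ?_⟩
  set x : B × ℕ → WittVector p A := fun z => WittVector.mk p (fun i => α i z) with hx
  -- partial sums
  have claim1 : ∀ i, ψs i = τ - ∑ j ∈ Finset.range i, corr Y ℓ n j (α j) := by
    intro i
    induction i with
    | zero => rw [hseq0, Finset.sum_range_zero, sub_zero]
    | succ i ih => rw [hseq, ih, Finset.sum_range_succ, sub_sub]
  have claim2 : ∀ i, ∑ j ∈ Finset.range i, corr (p := p) Y ℓ n j (α j) =
      ∑ z ∈ Y ×ˢ Finset.range ℓ, WittVector.map (algebraMap A B) (WittVector.init i (x z)) *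
        teichmuller p ((z.1 ^ z.2) ^ p ^ n) := by
    intro i
    unfold corr
    rw [Finset.sum_comm]
    refine Finset.sum_congr rfl (fun z _ => ?_)
    rw [← Finset.sum_mul, ← map_sum, ← sum_iterV_teich_eq_init]
    simp only [hx, coeff_mk]
  rw [← sub_eq_zero]
  ext k
  rw [zero_coeff]
  have hker : τ - ∑ z ∈ Y ×ˢ Finset.range ℓ,
      WittVector.map (algebraMap A B) (x z) * teichmuller p ((z.1 ^ z.2) ^ p ^ n) ∈
        RingHom.ker (WittVector.truncate (p := p) (R := B) (k + 1)) := by
    have e1 : τ - ∑ z ∈ Y ×ˢ Finset.range ℓ,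
        WittVector.map (algebraMap A B) (x z) * teichmuller p ((z.1 ^ z.2) ^ p ^ n) =
        ψs (k + 1) - ∑ z ∈ Y ×ˢ Finset.range ℓ,
          WittVector.map (algebraMap A B) (WittVector.tail (k + 1) (x z)) *
            teichmuller p ((z.1 ^ z.2) ^ p ^ n) := by
      rw [claim1, claim2, sub_sub, ← Finset.sum_add_distrib]
      refine congrArg (fun w => τ - w) (Finset.sum_congr rfl (fun z _ => ?_))
      rw [← add_mul, ← map_add, WittVector.init_add_tail]
    rw [e1]
    refine Ideal.sub_mem _ ?_ (Ideal.sum_mem _ (fun z _ => Ideal.mul_mem_right _ _ ?_))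
    · rw [WittVector.mem_ker_truncate]
      exact hvan (k + 1)
    · rw [WittVector.mem_ker_truncate]
      intro j hj
      rw [WittVector.map_coeff, Groth.Agent.Helper6.WittShift.coeff_tail',
        if_neg (not_le.mpr hj), map_zero]
  rw [WittVector.mem_ker_truncate] at hker
  exact hker k (Nat.lt_succ_self k)

end core

theorem main (p : ℕ) [Fact p.Prime] (ℓ n : ℕ) (hℓ : 0 < ℓ) (hpℓ : ¬ p ∣ ℓ)
    (A B : Type u) [CommRing A] [CommRing B] [IsDomain A] [IsDomain B] [Algebra A B]
    [CharP B p]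
    (y : Finset B) (hspan : Submodule.span A (y : Set B) = ⊤)
    (hpow : ∀ b ∈ y, b ^ ℓ ∈ Set.range (algebraMap A B))
    (ζ : WittVector p B)
    (hζ : ∃ η : WittVector p B,
      (⇑(WittVector.verschiebung : WittVector p B →+ WittVector p B))^[n] η = ζ) :
    ∃ a : A, a ≠ 0 ∧ WittVector.teichmuller p (algebraMap A B a) * ζ ∈
      Ideal.span (Set.range (fun x : WittVector p A =>
        WittVector.map (algebraMap A B)
          ((⇑(WittVector.verschiebung : WittVector p A →+ WittVector p A))^[n] x))) := by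
  classical
  have hc : ∀ b : B, ∃ c : A, b ∈ y → b ^ ℓ = algebraMap A B c := by
    intro b
    by_cases hb : b ∈ y
    · obtain ⟨c, hc⟩ := hpow b hb
      exact ⟨c, fun _ => hc.symm⟩
    · exact ⟨0, fun h => absurd h hb⟩
  choose c hc using hc
  set Y' := y.filter (fun b => b ≠ 0) with hY'
  set a : A := ∏ b ∈ Y', c b with ha
  set d : B → A := fun b => ∏ b' ∈ Y'.erase b, c b' with hd
  have hac : ∀ b ∈ y, b ≠ 0 → a = c b * d b := by
    intro b hb hb0
    rw [ha, hd]
    exact (Finset.mul_prod_erase Y' c (Finset.mem_filter.mpr ⟨hb, hb0⟩)).symm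
  have ha0 : a ≠ 0 := by
    rw [ha, Finset.prod_ne_zero_iff]
    intro b hb
    obtain ⟨hby, hb0⟩ := Finset.mem_filter.mp hb
    intro h0
    have := hc b hby
    rw [h0, map_zero] at this
    exact hb0 (pow_eq_zero_iff hℓ.ne' |>.mp this)
  obtain ⟨η, rfl⟩ := hζ
  refine ⟨a, ha0, ?_⟩
  set τ : WittVector p B := teichmuller p (algebraMap A B a ^ p ^ n) * η with hτ
  have hτS : InS a (p ^ n) τ := by
    intro j
    rw [hτ, Groth.Agent.Helper6.WittTeich.teichmuller_mul_coeff, ← pow_mul]
    exact ⟨η.coeff j, rfl⟩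
  obtain ⟨x, hx⟩ := exists_decomp n ℓ hℓ hpℓ y hspan a c d hac hc τ hτS
  have e1 : teichmuller p (algebraMap A B a) *
      (⇑(verschiebung : WittVector p B →+ WittVector p B))^[n] η =
      ∑ z ∈ y ×ˢ Finset.range ℓ, WittVector.map (algebraMap A B)
        ((⇑(verschiebung : WittVector p A →+ WittVector p A))^[n] (x z)) *
          teichmuller p (z.1 ^ z.2) := by
    rw [mul_comm, iterate_verschiebung_mul_left, iterF_teich, mul_comm η, ← hτ, hx, ← iterV_sum]
    refine Finset.sum_congr rfl (fun z _ => ?_)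
    rw [map_iterV, iterate_verschiebung_mul_left, iterF_teich]
  rw [e1]
  refine Ideal.sum_mem _ (fun z _ => Ideal.mul_mem_right _ _ (Ideal.subset_span ⟨x z, rfl⟩))

end Aux

/-- Affine form with D = 0: let p be a prime, ℓ ≥ 1 an integer not divisible by p and n ≥ 1. Let A → B
be an injective ring homomorphism of integral domains of characteristic p such that B is spanned as
an A-module by finitely many elements y with y ^ ℓ in the image of A (a weakly ℓ-cyclic extension).
Then for every p-typical Witt vector ζ over B in the image of the n-fold Verschiebung there is a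
nonzero a in A such that the product of the Teichmüller representative of (the image of) a with ζ
lies in the ideal of W(B) generated by the images of the n-fold Verschiebungs of Witt vectors over
A. (This is the case D = 0 of the published statement, written for the coordinate rings; the
published statement allows a twist by a real Weil divisor D and assumes the rings excellent and
normal, hypotheses which the case D = 0 does not use.) -/
theorem result
    (p : ℕ) [Fact p.Prime] (ℓ n : ℕ) (hℓ : 0 < ℓ) (hpℓ : ¬ p ∣ ℓ) (hn : 0 < n)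
    (A B : Type u) [CommRing A] [CommRing B] [IsDomain A] [IsDomain B] [Algebra A B]
    [CharP A p] [CharP B p] (hinj : Function.Injective (algebraMap A B))
    (y : Finset B) (hspan : Submodule.span A (y : Set B) = ⊤)
    (hpow : ∀ b ∈ y, b ^ ℓ ∈ Set.range (algebraMap A B))
    (ζ : WittVector p B)
    (hζ : ∃ η : WittVector p B, (⇑(WittVector.verschiebung : WittVector p B →+ WittVector p B))^[n] η = ζ) :
    ∃ a : A, a ≠ 0 ∧ WittVector.teichmuller p (algebraMap A B a) * ζ ∈
      Ideal.span (Set.range (fun x : WittVector p A =>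
        WittVector.map (algebraMap A B) ((⇑(WittVector.verschiebung : WittVector p A →+ WittVector p A))^[n] x))) := by
  exact Aux.main p ℓ n hℓ hpℓ A B y hspan hpow ζ hζ

end Groth.Agent.S18587
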