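import Groth.Statements.S1859
import Mathlib
import Groth.Prelude.Def_Cyc
-- import your own Groth.Agent.* helpers here

set_option autoImplicit false
universe u
open CategoryTheory AlgebraicGeometry
open Cyc

namespace Groth.Agent.S1859

open CategoryTheory AlgebraicGeometry
open Cyc
namespace Aux

lemma residueDegree_comp {X Y Z : Scheme.{u}} (f : X ⟶ Y) (g : Y ⟶ Z) (x : X) :
    (f ≫ g).residueDegree x = g.residueDegree (f x) * f.residueDegree x := by
  let a1 : Algebra (Z.residueField (g (f x))) (Y.residueField (f x)) :=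
    (g.residueFieldMap (f x)).hom.toAlgebra
  let a2 : Algebra (Y.residueField (f x)) (X.residueField x) :=
    (f.residueFieldMap x).hom.toAlgebra
  let a3 : Algebra (Z.residueField (g (f x))) (X.residueField x) :=
    ((f ≫ g).residueFieldMap x).hom.toAlgebra
  haveI : IsScalarTower (Z.residueField (g (f x))) (Y.residueField (f x)) (X.residueField x) := by
    apply IsScalarTower.of_algebraMap_eq
    intro a
    change ((f ≫ g).residueFieldMap x).hom a = (f.residueFieldMap x).hom ((g.residueFieldMap (f x)).hom a)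
    rw [Scheme.residueFieldMap_comp]
    rfl
  exact (Module.finrank_mul_finrank (Z.residueField (g (f x))) (Y.residueField (f x))
    (X.residueField x)).symm

lemma mapCoeff_comp {X Y Z : Scheme.{u}} (δX : X → ℤ) (δY : Y → ℤ) (δZ : Z → ℤ)
    (f : X ⟶ Y) (g : Y ⟶ Z) (hf : Cyc.DeltaCompat f δX δY) (hg : Cyc.DeltaCompat g δY δZ) (x : X) :
    AlgebraicCycle.mapCoeff (f ≫ g) δX δZ x =
      AlgebraicCycle.mapCoeff f δX δY x * AlgebraicCycle.mapCoeff g δY δZ (f x) := by
  obtain ⟨n, -, hn⟩ := hf x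
  obtain ⟨m, -, hm⟩ := hg (f x)
  unfold AlgebraicCycle.mapCoeff
  have e : (f ≫ g).base x = g (f x) := rfl
  rw [e]
  by_cases h1 : δX x = δY (f x)
  · by_cases h2 : δY (f x) = δZ (g (f x))
    · have h3 : δX x = δZ (g (f x)) := h1.trans h2
      rw [if_pos h1, if_pos h3]
      have : δY (f.base x) = δZ (g.base (f x)) := h2
      rw [if_pos this, residueDegree_comp, mul_comm]
    · have h3 : ¬ δX x = δZ (g (f x)) := by
        intro h3
        apply h2
        omega
      have : ¬ δY (f.base x) = δZ (g.base (f x)) := h2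
      rw [if_neg h3, if_neg this, mul_zero]
  · have h3 : ¬ δX x = δZ (g (f x)) := by
      intro h3
      apply h1
      omega
    rw [if_neg h3, if_neg h1, zero_mul]

theorem main (X Y Z : Scheme.{u}) (δX : X → ℤ) (δY : Y → ℤ) (δZ : Z → ℤ)
    (f : X ⟶ Y) (g : Y ⟶ Z) [QuasiCompact f] [QuasiCompact g]
    (hf : Cyc.DeltaCompat f δX δY) (hg : Cyc.DeltaCompat g δY δZ) (α : AlgebraicCycle X ℤ) :
    AlgebraicCycle.map g δY δZ (AlgebraicCycle.map f δX δY α) =
      AlgebraicCycle.map (f ≫ g) δX δZ α := by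
  classical
  ext z
  simp only [AlgebraicCycle.map, Function.locallyFinsupp.map_apply]
  -- the finite set of relevant points
  obtain ⟨U, ⟨hUo, hUc⟩, hzU, -⟩ :=
    (PrespectralSpace.isTopologicalBasis (X := Z)).exists_subset_of_mem_open
      (Set.mem_univ z) isOpen_univ
  have hfin : ((f ≫ g) ⁻¹' {z} ∩ Function.support α).Finite := by
    refine (α.locallyFiniteSupport.finite_inter_support_of_isCompact
      ((f ≫ g).isSpectralMap.2 hUo hUc)).subset ?_
    rintro x ⟨hx, hx'⟩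
    refine ⟨?_, hx'⟩
    have : (f ≫ g) x = z := hx
    show (f ≫ g) x ∈ U
    rw [this]
    exact hzU
  set T : Finset X := hfin.toFinset with hT
  have hTmem : ∀ x, x ∈ T ↔ g (f x) = z ∧ α x ≠ 0 := by
    intro x
    rw [hT, Set.Finite.mem_toFinset]
    rfl
  -- RHS
  have hR : (∑ᶠ x ∈ (f ≫ g) ⁻¹' {z}, α x * ((AlgebraicCycle.mapCoeff (f ≫ g) δX δZ x : ℕ) : ℤ)) =
      ∑ x ∈ T, α x * ((AlgebraicCycle.mapCoeff (f ≫ g) δX δZ x : ℕ) : ℤ) := by
    apply finsum_mem_eq_sum_of_inter_support_eq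
    ext x
    simp only [Set.mem_inter_iff, Set.mem_preimage, Set.mem_singleton_iff, Function.mem_support,
      Finset.mem_coe, hTmem]
    constructor
    · rintro ⟨h1, h2⟩
      exact ⟨⟨h1, fun h => h2 (by rw [h, zero_mul])⟩, h2⟩
    · rintro ⟨⟨h1, -⟩, h2⟩
      exact ⟨h1, h2⟩
  -- LHS outer
  set H : Y → ℤ := fun y => (∑ᶠ x ∈ f ⁻¹' {y}, α x * ((AlgebraicCycle.mapCoeff f δX δY x : ℕ) : ℤ)) *
      ((AlgebraicCycle.mapCoeff g δY δZ y : ℕ) : ℤ) with hH
  have hL : (∑ᶠ y ∈ g ⁻¹' {z}, H y) = ∑ y ∈ T.image f, H y := by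
    apply finsum_mem_eq_sum_of_inter_support_eq
    ext y
    simp only [Set.mem_inter_iff, Set.mem_preimage, Set.mem_singleton_iff, Function.mem_support,
      Finset.mem_coe, Finset.mem_image, hTmem]
    constructor
    · rintro ⟨h1, h2⟩
      refine ⟨?_, h2⟩
      have h3 : (∑ᶠ x ∈ f ⁻¹' {y}, α x * ((AlgebraicCycle.mapCoeff f δX δY x : ℕ) : ℤ)) ≠ 0 := by
        intro h
        apply h2
        rw [hH]
        simp only
        rw [h, zero_mul]
      obtain ⟨x, hx, hx'⟩ := exists_ne_zero_of_finsum_mem_ne_zero h3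
      have hxy : f x = y := hx
      refine ⟨x, ⟨?_, fun h => hx' (by rw [h, zero_mul])⟩, hxy⟩
      rw [hxy]
      exact h1
    · rintro ⟨⟨x, ⟨h1, -⟩, rfl⟩, h2⟩
      exact ⟨h1, h2⟩
  have hin : ∀ y ∈ T.image f, H y =
      ∑ x ∈ T with f x = y, α x * ((AlgebraicCycle.mapCoeff f δX δY x : ℕ) : ℤ) *
        ((AlgebraicCycle.mapCoeff g δY δZ (f x) : ℕ) : ℤ) := by
    intro y hy
    rw [Finset.mem_image] at hy
    obtain ⟨x₀, hx₀, rfl⟩ := hy
    have hz : g (f x₀) = z := ((hTmem x₀).1 hx₀).1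
    rw [hH]
    simp only
    have : (∑ᶠ x ∈ f ⁻¹' {f x₀}, α x * ((AlgebraicCycle.mapCoeff f δX δY x : ℕ) : ℤ)) =
        ∑ x ∈ T with f x = f x₀, α x * ((AlgebraicCycle.mapCoeff f δX δY x : ℕ) : ℤ) := by
      apply finsum_mem_eq_sum_of_inter_support_eq
      ext x
      simp only [Set.mem_inter_iff, Set.mem_preimage, Set.mem_singleton_iff, Function.mem_support,
        Finset.mem_coe, Finset.mem_filter, hTmem]
      constructor
      · rintro ⟨h1, h2⟩
        refine ⟨⟨⟨?_, fun h => h2 (by rw [h, zero_mul])⟩, h1⟩, h2⟩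
        rw [h1, hz]
      · rintro ⟨⟨-, h1⟩, h2⟩
        exact ⟨h1, h2⟩
    rw [this, Finset.sum_mul]
    refine Finset.sum_congr rfl fun x hx => ?_
    rw [(Finset.mem_filter.1 hx).2]
  have hLHS : (∑ᶠ y ∈ g ⁻¹' {z}, H y) = ∑ x ∈ T, α x *
      ((AlgebraicCycle.mapCoeff f δX δY x : ℕ) : ℤ) *
        ((AlgebraicCycle.mapCoeff g δY δZ (f x) : ℕ) : ℤ) := by
    rw [hL, Finset.sum_congr rfl hin]
    exact Finset.sum_fiberwise_of_maps_to (fun x hx => Finset.mem_image_of_mem f hx) _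
  show (∑ᶠ y ∈ g ⁻¹' {z}, H y) = _
  rw [hLHS]
  show _ = ∑ᶠ x ∈ (f ≫ g) ⁻¹' {z}, α x * ((AlgebraicCycle.mapCoeff (f ≫ g) δX δZ x : ℕ) : ℤ)
  rw [hR]
  refine Finset.sum_congr rfl fun x _ => ?_
  rw [mapCoeff_comp δX δY δZ f g hf hg x, Nat.cast_mul, mul_assoc]

end Aux

/-- For proper morphisms f : X → Y and g : Y → Z and a k-cycle α on X, g_*(f_*α) = (g ∘ f)_*α. Here a
pair (X, δ) with Cyc.IsSetup plays the role of a scheme locally of finite type over a fixed base
with a dimension function (X locally Noetherian with universally catenary local rings, δ a dimension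
function), and Cyc.DeltaCompat records that the dimension function upstairs is the induced one. -/
theorem result (X Y Z : Scheme.{u}) (δX : X → ℤ) (δY : Y → ℤ) (δZ : Z → ℤ) (hX : Cyc.IsSetup X δX) (hY : Cyc.IsSetup Y δY) (hZ : Cyc.IsSetup Z δZ) (f : X ⟶ Y) (g : Y ⟶ Z) [IsProper f] [IsProper g] (hf : Cyc.DeltaCompat f δX δY) (hg : Cyc.DeltaCompat g δY δZ) (k : ℤ) (α : AlgebraicCycle X ℤ) (hα : α ∈ Cyc.Zk X δX k) : AlgebraicCycle.map g δY δZ (AlgebraicCycle.map f δX δY α) = AlgebraicCycle.map (f ≫ g) δX δZ α := by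
  exact Aux.main X Y Z δX δY δZ f g hf hg α

end Groth.Agent.S1859
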