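import Groth.Statements.S18591
import Mathlib

set_option autoImplicit false
universe v u
open W4c5suslinpi1ab

namespace Groth.Agent.S18591

section

open CategoryTheory MonoidalCategory Functor.LaxMonoidal Functor.OplaxMonoidal W4c5suslinpi1ab

section
variable {C : Type u} [Category.{v} C] [MonoidalCategory C]
variable {D : Type u} [Category.{v} D] [MonoidalCategory D]
variable {L : C ⥤ D} {R : D ⥤ C} (adj : L ⊣ R) [L.OplaxMonoidal] [R.LaxMonoidal] [adj.IsMonoidal]

theorem map_projR_counit (A : D) (B : C) :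
    L.map (projR adj A B) ≫ adj.counit.app (A ⊗ L.obj B) =
      δ L (R.obj A) B ≫ (adj.counit.app A ▷ L.obj B) := by
  unfold projR
  rw [L.map_comp, Category.assoc, adj.map_μ_comp_counit_app_tensor]
  have h := δ_natural_right L (R.obj A) (adj.unit.app B : B ⟶ R.obj (L.obj B))
  dsimp only [Functor.id_obj, Functor.comp_obj] at h
  rw [← Category.assoc, ← h, Category.assoc]
  congr 1
  have h2 : L.map (adj.unit.app B : B ⟶ R.obj (L.obj B)) ≫ adj.counit.app (L.obj B) = 𝟙 _ :=
    adj.left_triangle_components B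
  rw [MonoidalCategory.tensorHom_def', ← MonoidalCategory.whiskerLeft_comp_assoc, h2]
  simp

theorem map_projL_counit (A : C) (B : D) :
    L.map (projL adj A B) ≫ adj.counit.app (L.obj A ⊗ B) =
      δ L A (R.obj B) ≫ (L.obj A ◁ adj.counit.app B) := by
  unfold projL
  rw [L.map_comp, Category.assoc, adj.map_μ_comp_counit_app_tensor]
  have h := δ_natural_left L (adj.unit.app A : A ⟶ R.obj (L.obj A)) (R.obj B)
  dsimp only [Functor.id_obj, Functor.comp_obj] at h
  rw [← Category.assoc, ← h, Category.assoc]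
  congr 1
  have h2 : L.map (adj.unit.app A : A ⟶ R.obj (L.obj A)) ≫ adj.counit.app (L.obj A) = 𝟙 _ :=
    adj.left_triangle_components A
  rw [MonoidalCategory.tensorHom_def, ← MonoidalCategory.comp_whiskerRight_assoc, h2]
  simp

end

theorem main {S₀ : Type u} [Category.{v} S₀] [MonoidalCategory S₀]
    {Y₁ : Type u} [Category.{v} Y₁] [MonoidalCategory Y₁]
    {Y₂ : Type u} [Category.{v} Y₂] [MonoidalCategory Y₂]
    {X : Type u} [Category.{v} X] [MonoidalCategory X]
    {fL : S₀ ⥤ Y₁} {fR : Y₁ ⥤ S₀} (adjf : fL ⊣ fR) [fL.OplaxMonoidal] [fR.LaxMonoidal]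
    [adjf.IsMonoidal] {gR : Y₂ ⥤ S₀}
    {pL : Y₁ ⥤ X} {pR : X ⥤ Y₁} (adjp : pL ⊣ pR) [pL.OplaxMonoidal] [pR.LaxMonoidal]
    [adjp.IsMonoidal] {qL : Y₂ ⥤ X} {qR : X ⥤ Y₂} (adjq : qL ⊣ qR)
    (ν : qR ⋙ gR ⟶ pR ⋙ fR) (A : Y₁) (B : Y₂) :
    ((adjf.comp adjp).homEquiv _ _).symm (W4c5suslinpi1ab.extProd adjf adjp adjq ν A B) =
      δ (fL ⋙ pL) (fR.obj A) (gR.obj B) ≫
        (pL.map (adjf.counit.app A) ⊗ₘ
          (pL.map ((W4c5suslinpi1ab.bcMor adjf adjq ν).app B) ≫ adjp.counit.app (qL.obj B))) := by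
  have h1 : fL.map (extProd adjf adjp adjq ν A B) ≫ adjf.counit.app _ =
      δ fL (fR.obj A) (gR.obj B) ≫ (adjf.counit.app A ▷ fL.obj (gR.obj B)) ≫
        (A ◁ (bcMor adjf adjq ν).app B) ≫ projL adjp A (qL.obj B) := by
    unfold extProd
    have n1 := adjf.counit_naturality (projL adjp A (qL.obj B))
    have n2 := adjf.counit_naturality (A ◁ (bcMor adjf adjq ν).app B)
    dsimp only [Functor.id_obj, Functor.comp_obj] at n1 n2
    simp only [Functor.map_comp, Category.assoc]
    rw [n1, reassoc_of% n2, ← Category.assoc, map_projR_counit, Category.assoc]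
  rw [Adjunction.homEquiv_counit, Adjunction.comp_counit_app, Functor.comp_map,
    ← pL.map_comp_assoc, h1]
  simp only [Functor.map_comp, Category.assoc]
  rw [map_projL_counit, comp_δ]
  simp only [Category.assoc]
  congr 1
  have e1 := δ_natural_right_assoc pL A ((bcMor adjf adjq ν).app B)
    (pL.obj A ◁ adjp.counit.app (qL.obj B))
  dsimp only [Functor.id_obj, Functor.comp_obj] at e1
  rw [← e1]
  have e2 := δ_natural_left_assoc pL (adjf.counit.app A) (fL.obj (gR.obj B))
    (pL.obj A ◁ pL.map ((bcMor adjf adjq ν).app B) ≫ pL.obj A ◁ adjp.counit.app (qL.obj B))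
  dsimp only [Functor.id_obj, Functor.comp_obj] at e2
  rw [← e2]
  congr 1
  rw [MonoidalCategory.tensorHom_def, MonoidalCategory.whiskerLeft_comp]
  rfl


end


open CategoryTheory MonoidalCategory Functor.LaxMonoidal Functor.OplaxMonoidal in
/-- In a square of adjunctions between monoidal categories — fL ⊣ fR from the base S₀ to Y₁, pL ⊣ pR
from Y₁ to X (both left adjoints oplax monoidal, right adjoints with the induced lax structure), qL
⊣ qR from Y₂ to X, a functor gR : Y₂ ⥤ S₀ and a natural transformation ν : qR ⋙ gR ⟶ pR ⋙ fR from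
which the base change fL gR ⟶ pR qL is built, the adjoint under the composite adjunction fL ⋙ pL ⊣
pR ⋙ fR of the exterior product fR A ⊗ gR B ⟶ fR pR (pL A ⊗ qL B) is the oplax comparison map of fL
⋙ pL followed by (pL of the counit of adjf at A) ⊗ (pL of the base change at B, then the counit of
adjp at qL B). (The published statement assumes symmetric monoidal categories and monoidal pullbacks
and writes the domain of this map as a tensor product of pullbacks; here only oplax left adjoints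
are assumed and the oplax comparison map is kept explicit.) -/
theorem result {S₀ : Type u} [Category.{v} S₀] [MonoidalCategory S₀]
    {Y₁ : Type u} [Category.{v} Y₁] [MonoidalCategory Y₁]
    {Y₂ : Type u} [Category.{v} Y₂] [MonoidalCategory Y₂]
    {X : Type u} [Category.{v} X] [MonoidalCategory X]
    {fL : S₀ ⥤ Y₁} {fR : Y₁ ⥤ S₀} (adjf : fL ⊣ fR) [fL.OplaxMonoidal] [fR.LaxMonoidal]
    [adjf.IsMonoidal] {gR : Y₂ ⥤ S₀}
    {pL : Y₁ ⥤ X} {pR : X ⥤ Y₁} (adjp : pL ⊣ pR) [pL.OplaxMonoidal] [pR.LaxMonoidal]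
    [adjp.IsMonoidal] {qL : Y₂ ⥤ X} {qR : X ⥤ Y₂} (adjq : qL ⊣ qR)
    (ν : qR ⋙ gR ⟶ pR ⋙ fR) (A : Y₁) (B : Y₂) :
    ((adjf.comp adjp).homEquiv _ _).symm (W4c5suslinpi1ab.extProd adjf adjp adjq ν A B) =
      δ (fL ⋙ pL) (fR.obj A) (gR.obj B) ≫
        (pL.map (adjf.counit.app A) ⊗ₘ
          (pL.map ((W4c5suslinpi1ab.bcMor adjf adjq ν).app B) ≫ adjp.counit.app (qL.obj B))) := by
  classical
  exact main adjf adjp adjq ν A B

end Groth.Agent.S18591
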