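import Groth.Statements.S18594
import Mathlib
import Groth.Agent.S18592
import Groth.Agent.S18593

set_option autoImplicit false
universe v u
open W4c5suslinpi1ab

namespace Groth.Agent.S18594

section

open CategoryTheory MonoidalCategory Functor.LaxMonoidal Functor.OplaxMonoidal W4c5suslinpi1ab
open Groth.Agent.S18592 Groth.Agent.S18593

section
variable {C : Type u} [Category.{v} C] [MonoidalCategory C]
variable {D : Type u} [Category.{v} D] [MonoidalCategory D]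
variable {L : C ⥤ D} {R : D ⥤ C} (adj : L ⊣ R) [R.LaxMonoidal]

theorem projR_natural_left {A₁ A₂ : D} (a : A₁ ⟶ A₂) (B : C) :
    (R.map a ▷ B) ≫ projR adj A₂ B = projR adj A₁ B ≫ R.map (a ▷ L.obj B) := by
  unfold projR
  have w := whisker_exchange (R.map a) (adj.unit.app B : B ⟶ R.obj (L.obj B))
  dsimp only [Functor.id_obj, Functor.comp_obj] at w
  rw [← Category.assoc, ← w, Category.assoc, μ_natural_left, Category.assoc]

theorem projL_natural_right (A : C) {K₁ K₂ : D} (k : K₁ ⟶ K₂) :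
    (A ◁ R.map k) ≫ projL adj A K₂ = projL adj A K₁ ≫ R.map (L.obj A ◁ k) := by
  unfold projL
  have w := whisker_exchange (adj.unit.app A : A ⟶ R.obj (L.obj A)) (R.map k)
  dsimp only [Functor.id_obj, Functor.comp_obj] at w
  rw [← Category.assoc, w, Category.assoc, μ_natural_right, Category.assoc]

theorem projL_natural_left {A₁ A₂ : C} (a : A₁ ⟶ A₂) (K : D) :
    (a ▷ R.obj K) ≫ projL adj A₂ K = projL adj A₁ K ≫ R.map (L.map a ▷ K) := by
  unfold projL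
  have n := adj.unit.naturality a
  dsimp only [Functor.id_obj, Functor.comp_obj, Functor.id_map, Functor.comp_map] at n
  rw [← MonoidalCategory.comp_whiskerRight_assoc, n, MonoidalCategory.comp_whiskerRight_assoc,
    Category.assoc, μ_natural_left]
end

section
variable {S₀ : Type u} [Category.{v} S₀] [MonoidalCategory S₀]
    {Y₁ : Type u} [Category.{v} Y₁] [MonoidalCategory Y₁]
    {Y₂ : Type u} [Category.{v} Y₂] [MonoidalCategory Y₂]
    {X : Type u} [Category.{v} X] [MonoidalCategory X]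
    {fL : S₀ ⥤ Y₁} {fR : Y₁ ⥤ S₀} (adjf : fL ⊣ fR) [fR.LaxMonoidal]
    {gR : Y₂ ⥤ S₀}
    {pL : Y₁ ⥤ X} {pR : X ⥤ Y₁} (adjp : pL ⊣ pR) [pR.LaxMonoidal]
    {qL : Y₂ ⥤ X} {qR : X ⥤ Y₂} (adjq : qL ⊣ qR)
    (ν : qR ⋙ gR ⟶ pR ⋙ fR)

theorem extProd_natural {A₁ A₂ : Y₁} (a : A₁ ⟶ A₂) {B₁ B₂ : Y₂} (b : B₁ ⟶ B₂) :
    extProd adjf adjp adjq ν A₁ B₁ ≫ fR.map (pR.map (pL.map a ⊗ₘ qL.map b)) =
      (fR.map a ⊗ₘ gR.map b) ≫ extProd adjf adjp adjq ν A₂ B₂ := by
  unfold extProd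
  have e1 : (fR.map a ⊗ₘ gR.map b) ≫ projR adjf A₂ (gR.obj B₂) =
      projR adjf A₁ (gR.obj B₁) ≫ fR.map (a ⊗ₘ fL.map (gR.map b)) := by
    rw [MonoidalCategory.tensorHom_def, Category.assoc, projR_natural, ← Category.assoc,
      projR_natural_left, Category.assoc, ← fR.map_comp, ← MonoidalCategory.tensorHom_def]
  have e2 : (a ⊗ₘ fL.map (gR.map b)) ≫ (A₂ ◁ (bcMor adjf adjq ν).app B₂) =
      (A₁ ◁ (bcMor adjf adjq ν).app B₁) ≫ (a ⊗ₘ pR.map (qL.map b)) := by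
    have n := (bcMor adjf adjq ν).naturality b
    dsimp only [Functor.comp_obj, Functor.comp_map] at n
    rw [MonoidalCategory.tensorHom_def, Category.assoc, ← MonoidalCategory.whiskerLeft_comp, n,
      MonoidalCategory.whiskerLeft_comp, MonoidalCategory.tensorHom_def,
      ← whisker_exchange_assoc]
    rfl
  have e3 : (a ⊗ₘ pR.map (qL.map b)) ≫ projL adjp A₂ (qL.obj B₂) =
      projL adjp A₁ (qL.obj B₁) ≫ pR.map (pL.map a ⊗ₘ qL.map b) := by
    rw [MonoidalCategory.tensorHom_def, Category.assoc, projL_natural_right, ← Category.assoc,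
      projL_natural_left, Category.assoc, ← pR.map_comp, ← MonoidalCategory.tensorHom_def]
  simp only [Category.assoc]
  rw [reassoc_of% e1, ← fR.map_comp_assoc (a ⊗ₘ fL.map (gR.map b)), e2, fR.map_comp_assoc,
    ← fR.map_comp (a ⊗ₘ pR.map (qL.map b)), e3, fR.map_comp]

theorem isIso_extProd
    [∀ (A : Y₁) (B : S₀), IsIso (W4c5suslinpi1ab.projR adjf A B)]
    [∀ (A : Y₁) (B : X), IsIso (W4c5suslinpi1ab.projL adjp A B)]
    [∀ B : Y₂, IsIso ((W4c5suslinpi1ab.bcMor adjf adjq ν).app B)] (A : Y₁) (B : Y₂) :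
    IsIso (extProd adjf adjp adjq ν A B) := by
  unfold extProd
  infer_instance
end

theorem main {S₀ : Type u} [Category.{v} S₀] [MonoidalCategory S₀]
    {Y₁ : Type u} [Category.{v} Y₁] [MonoidalCategory Y₁]
    {Y₂ : Type u} [Category.{v} Y₂] [MonoidalCategory Y₂]
    {X : Type u} [Category.{v} X] [MonoidalCategory X]
    {fL : S₀ ⥤ Y₁} {fR : Y₁ ⥤ S₀} (adjf : fL ⊣ fR) [fL.OplaxMonoidal] [fR.LaxMonoidal]
    [adjf.IsMonoidal] {gR : Y₂ ⥤ S₀}
    {pL : Y₁ ⥤ X} {pR : X ⥤ Y₁} (adjp : pL ⊣ pR) [pL.OplaxMonoidal] [pR.LaxMonoidal]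
    [adjp.IsMonoidal] {qL : Y₂ ⥤ X} {qR : X ⥤ Y₂} (adjq : qL ⊣ qR)
    (ν : qR ⋙ gR ⟶ pR ⋙ fR)
    {fS : S₀ ⥤ Y₁} (adjf' : fR ⊣ fS) {gS : S₀ ⥤ Y₂} (adjg' : gR ⊣ gS)
    {pS : Y₁ ⥤ X} (adjp' : pR ⊣ pS)
    [∀ (A : Y₁) (B : S₀), IsIso (W4c5suslinpi1ab.projR adjf A B)]
    [∀ (A : Y₁) (B : X), IsIso (W4c5suslinpi1ab.projL adjp A B)]
    [∀ B : Y₂, IsIso ((W4c5suslinpi1ab.bcMor adjf adjq ν).app B)] (A B : S₀) (A' : Y₁) (B' : Y₂) (C' : X)
    (trA : A' ⟶ fS.obj A) (trB : B' ⟶ gS.obj B) (trC : C' ⟶ pS.obj (fS.obj (A ⊗ B)))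
    (m : pL.obj A' ⊗ qL.obj B' ⟶ C') :
    ((pL.map trA ⊗ₘ qL.map trB) ≫ W4c5suslinpi1ab.prodShriek adjf adjf' adjg' adjp adjp' adjq ν A B =
        m ≫ trC) ↔
      (((adjf'.homEquiv _ _).symm trA ⊗ₘ (adjg'.homEquiv _ _).symm trB) =
        W4c5suslinpi1ab.extProd adjf adjp adjq ν A' B' ≫ fR.map (pR.map m) ≫
          ((adjp'.comp adjf').homEquiv _ _).symm trC) := by
  haveI := isIso_extProd adjf adjp adjq ν A' B'
  set T := ((adjp'.comp adjf').homEquiv (pL.obj A' ⊗ qL.obj B') (A ⊗ B)).symm with hT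
  have key : extProd adjf adjp adjq ν A' B' ≫
      T ((pL.map trA ⊗ₘ qL.map trB) ≫ prodShriek adjf adjf' adjg' adjp adjp' adjq ν A B) =
      ((adjf'.homEquiv _ _).symm trA ⊗ₘ (adjg'.homEquiv _ _).symm trB) := by
    rw [hT, Adjunction.homEquiv_naturality_left_symm, Functor.comp_map, ← Category.assoc,
      extProd_natural, Category.assoc, Groth.Agent.S18592.result, tensorHom_comp_tensorHom,
      Adjunction.homEquiv_counit, Adjunction.homEquiv_counit]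
  have key2 : T (m ≫ trC) = fR.map (pR.map m) ≫ ((adjp'.comp adjf').homEquiv _ _).symm trC := by
    rw [hT, Adjunction.homEquiv_naturality_left_symm, Functor.comp_map]
  constructor
  · intro h
    rw [← key, h, key2]
  · intro h
    apply T.injective
    rw [← cancel_epi (extProd adjf adjp adjq ν A' B'), key, h, key2]


end


open CategoryTheory MonoidalCategory Functor.LaxMonoidal Functor.OplaxMonoidal in
/-- In a square of adjunctions between monoidal categories — fL ⊣ fR from the base S₀ to Y₁, pL ⊣ pR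
from Y₁ to X (both left adjoints oplax monoidal, right adjoints with the induced lax structure), qL
⊣ qR from Y₂ to X, a functor gR : Y₂ ⥤ S₀ and a natural transformation ν : qR ⋙ gR ⟶ pR ⋙ fR from
which the base change fL gR ⟶ pR qL is built, with right adjoints fS of fR, gS of gR, pS of pR and
the projection morphisms and base change isomorphisms, fix morphisms trA : A' ⟶ fS A, trB : B' ⟶ gS
B, trC : C' ⟶ pS fS (A ⊗ B) and a product m : pL A' ⊗ qL B' ⟶ C'. Then (pL trA ⊗ qL trB) followed by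
the shriek product of the square equals m ≫ trC if and only if the Fubini identity holds: the tensor
product of the adjoint maps fR A' ⟶ A and gR B' ⟶ B equals the exterior product fR A' ⊗ gR B' ⟶ fR
pR (pL A' ⊗ qL B') followed by fR pR m and the adjoint map fR pR C' ⟶ A ⊗ B. -/
theorem result {S₀ : Type u} [Category.{v} S₀] [MonoidalCategory S₀]
    {Y₁ : Type u} [Category.{v} Y₁] [MonoidalCategory Y₁]
    {Y₂ : Type u} [Category.{v} Y₂] [MonoidalCategory Y₂]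
    {X : Type u} [Category.{v} X] [MonoidalCategory X]
    {fL : S₀ ⥤ Y₁} {fR : Y₁ ⥤ S₀} (adjf : fL ⊣ fR) [fL.OplaxMonoidal] [fR.LaxMonoidal]
    [adjf.IsMonoidal] {gR : Y₂ ⥤ S₀}
    {pL : Y₁ ⥤ X} {pR : X ⥤ Y₁} (adjp : pL ⊣ pR) [pL.OplaxMonoidal] [pR.LaxMonoidal]
    [adjp.IsMonoidal] {qL : Y₂ ⥤ X} {qR : X ⥤ Y₂} (adjq : qL ⊣ qR)
    (ν : qR ⋙ gR ⟶ pR ⋙ fR)
    {fS : S₀ ⥤ Y₁} (adjf' : fR ⊣ fS) {gS : S₀ ⥤ Y₂} (adjg' : gR ⊣ gS)
    {pS : Y₁ ⥤ X} (adjp' : pR ⊣ pS)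
    [∀ (A : Y₁) (B : S₀), IsIso (W4c5suslinpi1ab.projR adjf A B)]
    [∀ (A : Y₁) (B : X), IsIso (W4c5suslinpi1ab.projL adjp A B)]
    [∀ B : Y₂, IsIso ((W4c5suslinpi1ab.bcMor adjf adjq ν).app B)] (A B : S₀) (A' : Y₁) (B' : Y₂) (C' : X)
    (trA : A' ⟶ fS.obj A) (trB : B' ⟶ gS.obj B) (trC : C' ⟶ pS.obj (fS.obj (A ⊗ B)))
    (m : pL.obj A' ⊗ qL.obj B' ⟶ C') :
    ((pL.map trA ⊗ₘ qL.map trB) ≫ W4c5suslinpi1ab.prodShriek adjf adjf' adjg' adjp adjp' adjq ν A B =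
        m ≫ trC) ↔
      (((adjf'.homEquiv _ _).symm trA ⊗ₘ (adjg'.homEquiv _ _).symm trB) =
        W4c5suslinpi1ab.extProd adjf adjp adjq ν A' B' ≫ fR.map (pR.map m) ≫
          ((adjp'.comp adjf').homEquiv _ _).symm trC) := by
  classical
  exact main adjf adjp adjq ν adjf' adjg' adjp' A B A' B' C' trA trB trC m

end Groth.Agent.S18594
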