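import Groth.Statements.S18598
import Mathlib

set_option autoImplicit false
universe u
open SSRed

namespace Groth.Agent.S18598

section

open Polynomial

variable {O : Type u} [CommRing O] [IsDomain O]

/-- the value of the cyclotomic polynomial at 1 is associated with a power of `α - 1` -/
theorem eval_one_assoc {α : O} {N : ℕ} (hα : IsPrimitiveRoot α N) (hN : 2 ≤ N) :
    Associated (eval 1 (cyclotomic N O)) ((α - 1) ^ N.totient) := by
  classical
  rw [cyclotomic_eq_prod_X_sub_primitiveRoots hα, eval_prod, ← hα.card_primitiveRoots]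
  have key : ∀ s : Finset O, s ⊆ primitiveRoots N O →
      Associated (∏ μ ∈ s, eval 1 (X - C μ)) ((α - 1) ^ s.card) := by
    intro s
    induction s using Finset.induction_on with
    | empty => intro _; simp
    | insert μ s hμ ih =>
      intro hs
      rw [Finset.prod_insert hμ, Finset.card_insert_of_notMem hμ, pow_succ, mul_comm]
      apply Associated.mul_mul (ih (fun x hx => hs (Finset.mem_insert_of_mem hx)))
      have hμ' : μ ∈ primitiveRoots N O := hs (Finset.mem_insert_self _ _)
      rw [mem_primitiveRoots (by omega)] at hμ'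
      have : NeZero N := ⟨by omega⟩
      obtain ⟨a, -, ha, rfl⟩ := hα.isPrimitiveRoot_iff.1 hμ'
      rw [eval_sub, eval_X, eval_C]
      have h1 := hα.associated_sub_one_pow_sub_one_of_coprime ha
      have h2 : Associated (α ^ a - 1) (1 - α ^ a) := by
        rw [← neg_sub]
        exact Associated.neg_left (Associated.refl _)
      exact (h1.trans h2).symm
  exact key _ (Finset.Subset.refl _)

theorem main_aux [CharZero O]
    (n : ℕ) (hn2 : 2 ≤ n) (hO : ∀ p : ℕ, p.Prime → p ∣ n → ¬ IsUnit (p : O))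
    (α : O) (hα : IsOfFinOrder α) (hα1 : α ≠ 1) (h : (n : O) ∣ (α - 1) ^ 2) :
    ∃ p k j : ℕ, p.Prime ∧ 1 ≤ j ∧ orderOf α = p ^ (k + 1) ∧ n = p ^ j ∧
      j * (p ^ k * (p - 1)) ≤ 2 := by
  set N := orderOf α with hNdef
  have hprim : IsPrimitiveRoot α N := IsPrimitiveRoot.orderOf α
  have hNpos : 0 < N := hα.orderOf_pos
  have hN2 : 2 ≤ N := by
    by_contra hlt
    have : N = 1 := by omega
    rw [hNdef, orderOf_eq_one_iff] at this
    exact hα1 this
  have hπ0 : α - 1 ≠ 0 := sub_ne_zero.2 hα1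
  obtain ⟨ℓ, hℓ, hℓn⟩ := Nat.exists_prime_and_dvd (by omega : n ≠ 1)
  have hassoc := eval_one_assoc hprim hN2
  -- the order is a prime power
  by_cases hpp : ∀ {p : ℕ}, p.Prime → ∀ k : ℕ, p ^ k ≠ N
  · exfalso
    rw [eval_one_cyclotomic_not_prime_pow hpp] at hassoc
    have hu : IsUnit ((α - 1) ^ N.totient) := hassoc.isUnit isUnit_one
    have hu1 : IsUnit (α - 1) := by
      have htpos : 0 < N.totient := Nat.totient_pos.2 hNpos
      exact (isUnit_pow_iff htpos.ne').1 hu
    have hu2 : IsUnit (n : O) := isUnit_of_dvd_unit h (hu1.pow 2)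
    apply hO ℓ hℓ hℓn
    obtain ⟨c, hc⟩ := hℓn
    apply isUnit_of_dvd_unit _ hu2
    exact ⟨(c : O), by rw [hc]; push_cast; rfl⟩
  · push Not at hpp
    obtain ⟨p, hp, k0, hk0⟩ := hpp
    have hk0pos : k0 ≠ 0 := by
      rintro rfl
      rw [pow_zero] at hk0
      omega
    obtain ⟨k, rfl⟩ := Nat.exists_eq_succ_of_ne_zero hk0pos
    have : Fact p.Prime := ⟨hp⟩
    rw [← hk0, eval_one_cyclotomic_prime_pow, Nat.totient_prime_pow_succ hp] at hassoc
    -- α - 1 is not a unit
    have hpnu : ¬ IsUnit (p : O) → ¬ IsUnit (α - 1) := by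
      intro hpn hu
      exact hpn (hassoc.symm.isUnit (hu.pow _))
    -- every prime factor of n is p
    have hall : ∀ {d : ℕ}, d.Prime → d ∣ n → d = p := by
      intro d hd hdn
      by_contra hne
      apply hO d hd hdn
      have h1 : (d : O) ∣ (α - 1) ^ 2 := dvd_trans (by exact_mod_cast (Nat.cast_dvd_cast hdn)) h
      have h2 : (α - 1) ^ 2 ∣ (p : O) ^ 2 := by
        apply pow_dvd_pow_of_dvd
        have hφ : 1 ≤ p ^ k * (p - 1) := Nat.one_le_iff_ne_zero.2
          (Nat.mul_ne_zero (pow_ne_zero _ hp.ne_zero) (by have := hp.two_le; omega))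
        exact dvd_trans (dvd_pow_self _ (by omega)) hassoc.symm.dvd
      have h3 : (d : O) ∣ (p : O) ^ 2 := dvd_trans h1 h2
      have hcop : Nat.Coprime d (p ^ 2) :=
        Nat.Coprime.pow_right 2 ((Nat.coprime_primes hd hp).2 hne)
      have hcop' : IsCoprime (d : ℤ) ((p ^ 2 : ℕ) : ℤ) := Nat.isCoprime_iff_coprime.2 hcop
      obtain ⟨a, b, hab⟩ := hcop'
      obtain ⟨c, hc⟩ := h3
      have hab' : (a : O) * (d : O) + (b : O) * (p : O) ^ 2 = 1 := by
        have := congrArg (Int.cast : ℤ → O) hab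
        push_cast at this
        exact this
      refine IsUnit.of_mul_eq_one ((a : O) + (b : O) * c) ?_
      rw [hc] at hab'
      linear_combination hab'
    have hnpow := Nat.eq_prime_pow_of_unique_prime_dvd (by omega : n ≠ 0) hall
    set j := n.primeFactorsList.length with hj
    have hj1 : 1 ≤ j := by
      rcases Nat.eq_zero_or_pos j with h0 | h0
      · rw [h0, pow_zero] at hnpow
        omega
      · exact h0
    have hpO : ¬ IsUnit (p : O) := by
      apply hO p hp
      rw [hnpow]
      exact dvd_pow_self _ (by omega)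
    have hπnu := hpnu hpO
    refine ⟨p, k, j, hp, hj1, hk0.symm, hnpow, ?_⟩
    -- the exponent inequality
    have h4 : ((α - 1) ^ (p ^ k * (p - 1))) ^ j ∣ (α - 1) ^ 2 := by
      have h5 : ((α - 1) ^ (p ^ k * (p - 1))) ^ j ∣ (p : O) ^ j :=
        pow_dvd_pow_of_dvd hassoc.symm.dvd j
      have h6 : (p : O) ^ j = (n : O) := by
        rw [hnpow]
        push_cast
        rfl
      rw [h6] at h5
      exact dvd_trans h5 h
    rw [← pow_mul, pow_dvd_pow_iff hπ0 hπnu] at h4
    rw [mul_comm]
    exact h4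

theorem main (O : Type u) [CommRing O] [IsDomain O] [CharZero O]
    (n : ℕ) (hn : 0 < n) (hO : ∀ p : ℕ, p.Prime → p ∣ n → ¬ IsUnit (p : O))
    (α : O) (hα : IsOfFinOrder α) (h : (n : O) ∣ (α - 1) ^ 2) :
    (5 ≤ n → α = 1) ∧ (n = 4 → α ^ 2 = 1) ∧ (n = 3 → α ^ 3 = 1) ∧ (n = 2 → α ^ 4 = 1) := by
  by_cases hα1 : α = 1
  · subst hα1
    simp
  have key : 2 ≤ n → ∃ p k j : ℕ, p.Prime ∧ 1 ≤ j ∧ orderOf α = p ^ (k + 1) ∧ n = p ^ j ∧
      j * (p ^ k * (p - 1)) ≤ 2 := fun h2 => main_aux n h2 hO α hα hα1 h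
  refine ⟨?_, ?_, ?_, ?_⟩
  · intro h5
    exfalso
    obtain ⟨p, k, j, hp, hj1, hord, hnp, hle⟩ := key (by omega)
    have hp2 := hp.two_le
    have hpk : 1 ≤ p ^ k := Nat.one_le_pow _ _ (by omega)
    have hj2 : j ≤ 2 := by
      have : j * 1 ≤ j * (p ^ k * (p - 1)) :=
        Nat.mul_le_mul_left j (by nlinarith [Nat.sub_pos_of_lt (by omega : 1 < p)])
      omega
    interval_cases j
    · -- j = 1 : n = p ≥ 5
      rw [pow_one] at hnp
      have : 4 ≤ p ^ k * (p - 1) := by
        have : 4 ≤ p - 1 := by omega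
        nlinarith
      omega
    · -- j = 2
      have h1 : p ^ k * (p - 1) ≤ 1 := by omega
      have hp' : p - 1 ≤ 1 := by nlinarith
      have : p = 2 := by omega
      subst this
      omega
  · intro h4
    obtain ⟨p, k, j, hp, hj1, hord, hnp, hle⟩ := key (by omega)
    have hp2 := hp.two_le
    -- 4 = p ^ j
    have hpd : p ∣ 4 := by rw [← h4, hnp]; exact dvd_pow_self _ (by omega)
    have hp2' : p = 2 := by
      have := (Nat.prime_dvd_prime_iff_eq hp Nat.prime_two).1
        (by
          have : p ∣ 2 ^ 2 := by simpa using hpd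
          exact hp.dvd_of_dvd_pow this)
      exact this
    subst hp2'
    have hj : j = 2 := by
      have : (2 : ℕ) ^ j = 2 ^ 2 := by rw [← hnp, h4]; norm_num
      exact Nat.pow_right_injective (le_refl 2) this
    subst hj
    have hk : k = 0 := by
      by_contra hk
      have : 2 ≤ 2 ^ k := by
        calc 2 = 2 ^ 1 := rfl
          _ ≤ 2 ^ k := Nat.pow_le_pow_right (by omega) (by omega)
      simp at hle
      omega
    subst hk
    rw [zero_add, pow_one] at hord
    rw [← hord]
    exact pow_orderOf_eq_one α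
  · intro h3
    obtain ⟨p, k, j, hp, hj1, hord, hnp, hle⟩ := key (by omega)
    have hpd : p ∣ 3 := by rw [← h3, hnp]; exact dvd_pow_self _ (by omega)
    have hp3 : p = 3 := (Nat.prime_dvd_prime_iff_eq hp Nat.prime_three).1 hpd
    subst hp3
    have hk : k = 0 := by
      by_contra hk
      have : 3 ≤ 3 ^ k := by
        calc 3 = 3 ^ 1 := rfl
          _ ≤ 3 ^ k := Nat.pow_le_pow_right (by omega) (by omega)
      have : 6 ≤ j * (3 ^ k * (3 - 1)) := by nlinarith
      omega
    subst hk
    rw [zero_add, pow_one] at hord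
    rw [← hord]
    exact pow_orderOf_eq_one α
  · intro h2
    obtain ⟨p, k, j, hp, hj1, hord, hnp, hle⟩ := key (by omega)
    have hpd : p ∣ 2 := by rw [← h2, hnp]; exact dvd_pow_self _ (by omega)
    have hp2 : p = 2 := (Nat.prime_dvd_prime_iff_eq hp Nat.prime_two).1 hpd
    subst hp2
    have hk : k ≤ 1 := by
      by_contra hk
      have : 2 ^ 2 ≤ 2 ^ k := Nat.pow_le_pow_right (by omega) (by omega)
      have : 4 ≤ j * (2 ^ k * (2 - 1)) := by nlinarith
      omega
    have hdvd : orderOf α ∣ 4 := by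
      rw [hord]
      interval_cases k
      · norm_num
      · norm_num
    exact orderOf_dvd_iff_pow_eq_one.1 hdvd


end


/-- Let O be a commutative integral domain of characteristic zero, n a positive integer such that no
prime number dividing n is a unit in O, and α an element of O of finite multiplicative order such
that (α − 1)² is divisible by n in O. Then α = 1 if n ≥ 5, α² = 1 if n = 4, α³ = 1 if n = 3, and α⁴
= 1 if n = 2. -/
theorem result (O : Type u) [CommRing O] [IsDomain O] [CharZero O]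
    (n : ℕ) (hn : 0 < n) (hO : ∀ p : ℕ, p.Prime → p ∣ n → ¬ IsUnit (p : O))
    (α : O) (hα : IsOfFinOrder α) (h : (n : O) ∣ (α - 1) ^ 2) :
    (5 ≤ n → α = 1) ∧ (n = 4 → α ^ 2 = 1) ∧ (n = 3 → α ^ 3 = 1) ∧ (n = 2 → α ^ 4 = 1) := by
  classical
  exact main O n hn hO α hα h

end Groth.Agent.S18598
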