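import Groth.Statements.S18599
import Mathlib
import Groth.Agent.Lib.Helper9.TorsCoker
import Groth.Agent.Lib.Helper9.PadicQuotCard
-- import your own Groth.Agent.* helpers here

set_option autoImplicit false
universe u
open SSRed

namespace Groth.Agent.S18599

open Groth.Agent.Lib.Helper9.TorsCoker Groth.Agent.Lib.Helper9.PadicQuotCard
namespace Aux

section
variable (ℓ : ℕ) [Fact ℓ.Prime] (M : Type u) [AddCommGroup M] [Module ℤ_[ℓ] M]
  [Module.Free ℤ_[ℓ] M] [Module.Finite ℤ_[ℓ] M]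

lemma lne : (ℓ : ℤ_[ℓ]) ≠ 0 := by
  exact_mod_cast (Fact.out : ℓ.Prime).ne_zero

/-- the common conclusion -/
lemma core (f E : Module.End ℤ_[ℓ] M) (hE : E * E = E) (hEf : E * f = 0) (hfE : f * E = 0)
    (H1 : ∀ m ∈ LinearMap.ker E, (ℓ : ℤ_[ℓ]) • m ∈ LinearMap.range f)
    (hker : LinearMap.ker f = LinearMap.range E)
    (r : ℕ) (hr : r * (ℓ - 1) = Module.finrank ℤ_[ℓ] (LinearMap.ker E))
    (hcard : Nat.card (LinearMap.ker E ⧸ LinearMap.range (phi f E hEf)) = ℓ ^ r)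
    (c : ℕ) (hc : c = Module.finrank ℤ_[ℓ] M - Module.finrank ℤ_[ℓ] (LinearMap.ker f)) :
    (∀ x ∈ Submodule.torsion ℤ_[ℓ] (M ⧸ LinearMap.range f), (ℓ : ℤ_[ℓ]) • x = 0) ∧
      ∃ r : ℕ, r * (ℓ - 1) = c ∧
        Nat.card (Submodule.torsion ℤ_[ℓ] (M ⧸ LinearMap.range f)) = ℓ ^ r := by
  refine ⟨fun x hx => smul_torsion_eq_zero f E hEf _ (lne ℓ) H1 x hx, r, ?_, ?_⟩
  · have h1 := (LinearMap.ker E).finrank_quotient_add_finrank
    rw [(LinearMap.quotKerEquivRange E).finrank_eq] at h1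
    rw [hc, hker, hr]
    omega
  · rw [card_torsion f E hE hEf hfE _ (lne ℓ) H1, hcard]


lemma two_eq (h2 : ℓ = 2) : (ℓ : ℤ_[ℓ]) = 2 := by
  have : ((ℓ : ℕ) : ℤ_[ℓ]) = ((2 : ℕ) : ℤ_[ℓ]) := congrArg (Nat.cast : ℕ → ℤ_[ℓ]) h2
  rw [this]; norm_num

lemma three_eq (h3 : ℓ = 3) : (ℓ : ℤ_[ℓ]) = 3 := by
  have : ((ℓ : ℕ) : ℤ_[ℓ]) = ((3 : ℕ) : ℤ_[ℓ]) := congrArg (Nat.cast : ℕ → ℤ_[ℓ]) h3
  rw [this]; norm_num

lemma case2 (h2 : ℓ = 2) (f B : Module.End ℤ_[ℓ] M)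
    (hff : ∀ m, f (f m) = -((2 : ℤ_[ℓ]) • f m)) (hB : ∀ m, f m = (2 : ℤ_[ℓ]) • B m)
    (c : ℕ) (hc : c = Module.finrank ℤ_[ℓ] M - Module.finrank ℤ_[ℓ] (LinearMap.ker f)) :
    (∀ x ∈ Submodule.torsion ℤ_[ℓ] (M ⧸ LinearMap.range f), (ℓ : ℤ_[ℓ]) • x = 0) ∧
      ∃ r : ℕ, r * (ℓ - 1) = c ∧
        Nat.card (Submodule.torsion ℤ_[ℓ] (M ⧸ LinearMap.range f)) = ℓ ^ r := by
  have hl2 := two_eq ℓ h2
  have h2ne : (2 : ℤ_[ℓ]) ≠ 0 := two_ne_zero
  have h4ne : (4 : ℤ_[ℓ]) ≠ 0 := by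
    have : ((4 : ℕ) : ℤ_[ℓ]) ≠ 0 := Nat.cast_ne_zero.mpr (by norm_num)
    simpa using this
  have hBB : ∀ m, B (B m) = -B m := by
    intro m
    have h1 := hff m
    rw [hB m, map_smul, hB (B m)] at h1
    have h3 : (4 : ℤ_[ℓ]) • (B (B m) + B m) = 0 := by
      linear_combination (norm := module) h1
    rcases smul_eq_zero.mp h3 with h | h
    · exact absurd h h4ne
    · exact eq_neg_of_add_eq_zero_left h
  have hfB : ∀ m, f (B m) = -f m := by
    intro m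
    rw [hB (B m), hBB, hB m, smul_neg]
  set E : Module.End ℤ_[ℓ] M := 1 + B with hEdef
  have hEm : ∀ m, E m = m + B m := fun m => rfl
  have hE : E * E = E := by
    apply LinearMap.ext
    intro m
    show E (E m) = E m
    rw [hEm (E m), hEm m, map_add, hBB]
    abel
  have hEf : E * f = 0 := by
    apply LinearMap.ext
    intro m
    show E (f m) = 0
    rw [hEm, hB m, map_smul, hBB, smul_neg, add_neg_cancel]
  have hfE : f * E = 0 := by
    apply LinearMap.ext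
    intro m
    show f (E m) = 0
    rw [hEm, map_add, hfB, add_neg_cancel]
  have hBn : ∀ m ∈ LinearMap.ker E, B m = -m := by
    intro m hm
    have : m + B m = 0 := hm
    exact eq_neg_of_add_eq_zero_right this
  have H1 : ∀ m ∈ LinearMap.ker E, (ℓ : ℤ_[ℓ]) • m ∈ LinearMap.range f := by
    intro m hm
    refine ⟨-m, ?_⟩
    rw [map_neg, hB m, hBn m hm, hl2, smul_neg, neg_neg]
  have hker : LinearMap.ker f = LinearMap.range E := by
    ext m
    constructor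
    · intro hm
      have h1 : f m = 0 := hm
      rw [hB m] at h1
      rcases smul_eq_zero.mp h1 with h | h
      · exact absurd h h2ne
      · exact ⟨m, by rw [hEm, h, add_zero]⟩
    · rintro ⟨m', rfl⟩
      exact LinearMap.congr_fun hfE m'
  have hcard : Nat.card (LinearMap.ker E ⧸ LinearMap.range (phi f E hEf)) =
      ℓ ^ Module.finrank ℤ_[ℓ] (LinearMap.ker E) := by
    apply card_quot
    intro x
    constructor
    · rintro ⟨n, rfl⟩
      refine ⟨-n, ?_⟩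
      apply Subtype.ext
      rw [phi_coe, hB, hBn _ n.2, hl2]
      simp
    · rintro ⟨y, rfl⟩
      refine ⟨-y, ?_⟩
      apply Subtype.ext
      rw [phi_coe, hl2]
      show f (-(y : M)) = (2 : ℤ_[ℓ]) • (y : M)
      rw [map_neg, hB, hBn _ y.2, smul_neg, neg_neg]
  refine core ℓ M f E hE hEf hfE H1 hker _ ?_ hcard c hc
  have : ℓ - 1 = 1 := by omega
  rw [this, mul_one]


lemma case3 (h3 : ℓ = 3) (f B : Module.End ℤ_[ℓ] M)
    (ha3 : ∀ m, (1 + f) ((1 + f) ((1 + f) m)) = m)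
    (hB : ∀ m, f (f m) = (3 : ℤ_[ℓ]) • B m)
    (c : ℕ) (hc : c = Module.finrank ℤ_[ℓ] M - Module.finrank ℤ_[ℓ] (LinearMap.ker f)) :
    (∀ x ∈ Submodule.torsion ℤ_[ℓ] (M ⧸ LinearMap.range f), (ℓ : ℤ_[ℓ]) • x = 0) ∧
      ∃ r : ℕ, r * (ℓ - 1) = c ∧
        Nat.card (Submodule.torsion ℤ_[ℓ] (M ⧸ LinearMap.range f)) = ℓ ^ r := by
  have hl3 := three_eq ℓ h3
  have h3ne : (3 : ℤ_[ℓ]) ≠ 0 := by
    have : ((3 : ℕ) : ℤ_[ℓ]) ≠ 0 := Nat.cast_ne_zero.mpr (by norm_num)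
    simpa using this
  have ham : ∀ m, (1 + f) m = m + f m := fun m => rfl
  have hfff : ∀ m, f (f (f m)) = -((3 : ℤ_[ℓ]) • f (f m)) - (3 : ℤ_[ℓ]) • f m := by
    intro m
    have h := ha3 m
    simp only [ham, map_add] at h
    linear_combination (norm := module) h
  have hcomm : ∀ m, f (B m) = B (f m) := by
    intro m
    have h1 : (3 : ℤ_[ℓ]) • f (B m) = f (f (f m)) := by rw [← map_smul, ← hB]
    have h2 : (3 : ℤ_[ℓ]) • B (f m) = f (f (f m)) := by rw [← hB]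
    have h4 : (3 : ℤ_[ℓ]) • (f (B m) - B (f m)) = 0 := by
      rw [smul_sub, h1, h2, sub_self]
    rcases smul_eq_zero.mp h4 with h | h
    · exact absurd h h3ne
    · exact sub_eq_zero.mp h
  set E : Module.End ℤ_[ℓ] M := 1 + f + B with hEdef
  have hEm : ∀ m, E m = m + f m + B m := fun m => rfl
  have hfEm : ∀ m, f (E m) = 0 := by
    intro m
    have h1 : (3 : ℤ_[ℓ]) • f (B m) = f (f (f m)) := by rw [← map_smul, ← hB]
    have h5 : (3 : ℤ_[ℓ]) • (f m + f (f m) + f (B m)) = 0 := by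
      rw [smul_add, h1, hfff m, hB m]
      module
    rw [hEm, map_add, map_add]
    rcases smul_eq_zero.mp h5 with h | h
    · exact absurd h h3ne
    · exact h
  have hEfm : ∀ m, E (f m) = 0 := by
    intro m
    have := hfEm m
    rw [hEm, map_add, map_add] at this
    rw [hEm, ← hcomm]
    exact this
  have hEB : ∀ m, E (B m) = 0 := by
    intro m
    have h1 : (3 : ℤ_[ℓ]) • E (B m) = 0 := by
      rw [← map_smul, ← hB, hEfm]
    rcases smul_eq_zero.mp h1 with h | h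
    · exact absurd h h3ne
    · exact h
  have hE : E * E = E := by
    apply LinearMap.ext
    intro m
    show E (E m) = E m
    conv_lhs => rw [hEm m, map_add, map_add, hEfm, hEB, add_zero, add_zero]
  have hEf : E * f = 0 := LinearMap.ext fun m => hEfm m
  have hfE : f * E = 0 := LinearMap.ext fun m => hfEm m
  have hBn : ∀ m ∈ LinearMap.ker E, B m = -m - f m := by
    intro m hm
    have : m + f m + B m = 0 := hm
    linear_combination (norm := module) this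
  have H1 : ∀ m ∈ LinearMap.ker E, (ℓ : ℤ_[ℓ]) • m ∈ LinearMap.range f := by
    intro m hm
    refine ⟨-((3 : ℤ_[ℓ]) • m) - f m, ?_⟩
    rw [map_sub, map_neg, map_smul, hB m, hBn m hm, hl3]
    module
  have hker : LinearMap.ker f = LinearMap.range E := by
    ext m
    constructor
    · intro hm
      have h1 : f m = 0 := hm
      have h2 : (3 : ℤ_[ℓ]) • B m = 0 := by rw [← hB, h1, map_zero]
      rcases smul_eq_zero.mp h2 with h | h
      · exact absurd h h3ne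
      · exact ⟨m, by rw [hEm, h, h1, add_zero, add_zero]⟩
    · rintro ⟨m', rfl⟩
      exact hfEm m'
  have hinj : Function.Injective (phi f E hEf) := by
    rw [← LinearMap.ker_eq_bot, LinearMap.ker_eq_bot']
    intro n hn
    have h1 : f (n : M) = 0 := by
      have := congrArg Subtype.val hn
      rwa [phi_coe] at this
    have h2 : (n : M) ∈ LinearMap.range E := by rw [← hker]; exact h1
    obtain ⟨n', hn'⟩ := h2
    have h4 : E (n : M) = 0 := n.2
    have h5 : E (E n') = E n' := LinearMap.congr_fun hE n'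
    apply Subtype.ext
    show (n : M) = 0
    rw [← hn', ← h5, hn', h4]
  -- the range of `φ ∘ φ`
  have hS : ∀ x : LinearMap.ker E, x ∈ LinearMap.range ((phi f E hEf) ∘ₗ (phi f E hEf)) ↔
      ∃ y : LinearMap.ker E, x = (ℓ : ℤ_[ℓ]) • y := by
    intro x
    constructor
    · rintro ⟨n, rfl⟩
      refine ⟨-(n + phi f E hEf n), ?_⟩
      apply Subtype.ext
      show f (f (n : M)) = (ℓ : ℤ_[ℓ]) • (-((n : M) + f (n : M)))
      rw [hB, hBn _ n.2, hl3]
      module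
    · rintro ⟨y, rfl⟩
      -- `n = -(a (a y))`
      refine ⟨-(y + phi f E hEf y + phi f E hEf (y + phi f E hEf y)), ?_⟩
      apply Subtype.ext
      show f (f (-((y : M) + f (y : M) + f ((y : M) + f (y : M))))) = (ℓ : ℤ_[ℓ]) • (y : M)
      have hy := ha3 (y : M)
      simp only [ham, map_add] at hy
      have hmem : (y : M) + f (y : M) + f ((y : M) + f (y : M)) ∈ LinearMap.ker E := by
        have := (y + phi f E hEf y + phi f E hEf (y + phi f E hEf y)).2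
        exact this
      rw [map_neg, map_neg, hB, hBn _ hmem, hl3]
      simp only [map_add]
      linear_combination (norm := module) (3 : ℤ_[ℓ]) • hy
  have hc2 : Nat.card (LinearMap.ker E ⧸ LinearMap.range ((phi f E hEf) ∘ₗ (phi f E hEf))) =
      ℓ ^ Module.finrank ℤ_[ℓ] (LinearMap.ker E) := card_quot ℓ _ _ hS
  have hidx := index_range_comp (phi f E hEf).toAddMonoidHom hinj
  have e1 : (phi f E hEf).toAddMonoidHom.range =
      (LinearMap.range (phi f E hEf)).toAddSubgroup := (LinearMap.range_toAddSubgroup _).symm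
  have e2 : ((phi f E hEf).toAddMonoidHom.comp (phi f E hEf).toAddMonoidHom).range =
      (LinearMap.range ((phi f E hEf) ∘ₗ (phi f E hEf))).toAddSubgroup := by
    have : (phi f E hEf).toAddMonoidHom.comp (phi f E hEf).toAddMonoidHom =
        ((phi f E hEf) ∘ₗ (phi f E hEf)).toAddMonoidHom := rfl
    rw [this]
    exact (LinearMap.range_toAddSubgroup _).symm
  rw [e1, e2, AddSubgroup.index_eq_card, AddSubgroup.index_eq_card] at hidx
  have hidx' : Nat.card (LinearMap.ker E ⧸ LinearMap.range ((phi f E hEf) ∘ₗ (phi f E hEf))) =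
      Nat.card (LinearMap.ker E ⧸ LinearMap.range (phi f E hEf)) ^ 2 := hidx
  rw [hc2] at hidx'
  have hp : ℓ.Prime := Fact.out
  have hdvd : Nat.card (LinearMap.ker E ⧸ LinearMap.range (phi f E hEf)) ∣
      ℓ ^ Module.finrank ℤ_[ℓ] (LinearMap.ker E) := by
    rw [hidx', sq]; exact dvd_mul_right _ _
  obtain ⟨r, -, hr⟩ := (Nat.dvd_prime_pow hp).mp hdvd
  have h2r : 2 * r = Module.finrank ℤ_[ℓ] (LinearMap.ker E) := by
    rw [hr, ← pow_mul] at hidx'
    have := Nat.pow_right_injective hp.two_le hidx'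
    omega
  refine core ℓ M f E hE hEf hfE H1 hker r ?_ hr c hc
  have : ℓ - 1 = 2 := by omega
  rw [this, ← h2r, mul_comm]


theorem main (A : M ≃ₗ[ℤ_[ℓ]] M) (hA : A ^ ℓ = 1) (f : Module.End ℤ_[ℓ] M)
    (hf : f = (A : M →ₗ[ℤ_[ℓ]] M) - 1)
    (hcase : (ℓ = 2 ∧ ∃ B : Module.End ℤ_[ℓ] M, f = (2 : ℤ_[ℓ]) • B) ∨
      (ℓ = 2 ∧ ∃ B : Module.End ℤ_[ℓ] M, f ^ 2 = (4 : ℤ_[ℓ]) • B) ∨
      (ℓ = 3 ∧ ∃ B : Module.End ℤ_[ℓ] M, f ^ 2 = (3 : ℤ_[ℓ]) • B))
    (c : ℕ) (hc : c = Module.finrank ℤ_[ℓ] M - Module.finrank ℤ_[ℓ] (LinearMap.ker f)) :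
    (∀ x ∈ Submodule.torsion ℤ_[ℓ] (M ⧸ LinearMap.range f), (ℓ : ℤ_[ℓ]) • x = 0) ∧
      ∃ r : ℕ, r * (ℓ - 1) = c ∧
        Nat.card (Submodule.torsion ℤ_[ℓ] (M ⧸ LinearMap.range f)) = ℓ ^ r := by
  have hfm : ∀ m, A m = m + f m := by
    intro m
    rw [hf]
    show A m = m + (A m - m)
    abel
  have h2ne : (2 : ℤ_[ℓ]) ≠ 0 := two_ne_zero
  have hsq : ∀ m, (f ^ 2) m = f (f m) := fun m => by rw [pow_two]; rfl
  have hff_of_two : ℓ = 2 → ∀ m, f (f m) = -((2 : ℤ_[ℓ]) • f m) := by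
    intro h2 m
    have hA2 : A ^ 2 = 1 := (congrArg (fun n => A ^ n) h2.symm).trans hA
    have h := LinearEquiv.congr_fun hA2 m
    rw [pow_two, LinearEquiv.mul_apply, LinearEquiv.coe_one, id_eq, hfm m, hfm (m + f m), map_add] at h
    linear_combination (norm := module) h
  rcases hcase with ⟨h2, B, hB⟩ | ⟨h2, B, hB⟩ | ⟨h3, B, hB⟩
  · exact case2 ℓ M h2 f B (hff_of_two h2) (fun m => by rw [hB]; rfl) c hc
  · have hff := hff_of_two h2
    refine case2 ℓ M h2 f (-B) hff (fun m => ?_) c hc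
    have h1 : f (f m) = (4 : ℤ_[ℓ]) • B m := by rw [← hsq, hB]; rfl
    rw [hff m] at h1
    have h3 : (2 : ℤ_[ℓ]) • (f m + (2 : ℤ_[ℓ]) • B m) = 0 := by
      linear_combination (norm := module) (-1 : ℤ_[ℓ]) • h1
    rcases smul_eq_zero.mp h3 with h | h
    · exact absurd h h2ne
    · show f m = (2 : ℤ_[ℓ]) • (-(B m))
      rw [smul_neg]
      exact eq_neg_of_add_eq_zero_left h
  · have hA3 : A ^ 3 = 1 := (congrArg (fun n => A ^ n) h3.symm).trans hA
    refine case3 ℓ M h3 f B (fun m => ?_) (fun m => by rw [← hsq, hB]; rfl) c hc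
    have h := LinearEquiv.congr_fun hA3 m
    rw [pow_succ, pow_two, LinearEquiv.mul_apply, LinearEquiv.mul_apply, LinearEquiv.coe_one, id_eq] at h
    have ham : ∀ x, (1 + f) x = A x := fun x => (hfm x).symm
    rw [ham, ham, ham]
    exact h

end

end Aux

/-- Let ℓ be a prime number, M a free ℤ_ℓ-module of finite rank, A an automorphism of M with A^ℓ = 1,
and c the rank of M minus the rank of the submodule of A-invariants. Assume that ℓ = 2 and A − 1 ∈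
2·End(M), or that ℓ = 2 and (A − 1)² ∈ 4·End(M), or that ℓ = 3 and (A − 1)² ∈ 3·End(M). Then the
torsion submodule of M/(A − 1)M is a vector space over ℤ/ℓℤ of dimension c/(ℓ − 1): it is killed by
ℓ and has ℓ^r elements for some r with r(ℓ − 1) = c. -/
theorem result (ℓ : ℕ) [Fact ℓ.Prime]
    (M : Type u) [AddCommGroup M] [Module ℤ_[ℓ] M] [Module.Free ℤ_[ℓ] M] [Module.Finite ℤ_[ℓ] M]
    (A : M ≃ₗ[ℤ_[ℓ]] M) (hA : A ^ ℓ = 1) (f : Module.End ℤ_[ℓ] M) (hf : f = (A : M →ₗ[ℤ_[ℓ]] M) - 1)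
    (hcase : (ℓ = 2 ∧ ∃ B : Module.End ℤ_[ℓ] M, f = (2 : ℤ_[ℓ]) • B) ∨
      (ℓ = 2 ∧ ∃ B : Module.End ℤ_[ℓ] M, f ^ 2 = (4 : ℤ_[ℓ]) • B) ∨
      (ℓ = 3 ∧ ∃ B : Module.End ℤ_[ℓ] M, f ^ 2 = (3 : ℤ_[ℓ]) • B))
    (c : ℕ) (hc : c = Module.finrank ℤ_[ℓ] M - Module.finrank ℤ_[ℓ] (LinearMap.ker f)) :
    (∀ x ∈ Submodule.torsion ℤ_[ℓ] (M ⧸ LinearMap.range f), (ℓ : ℤ_[ℓ]) • x = 0) ∧
      ∃ r : ℕ, r * (ℓ - 1) = c ∧
        Nat.card (Submodule.torsion ℤ_[ℓ] (M ⧸ LinearMap.range f)) = ℓ ^ r := by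
  exact Aux.main ℓ M A hA f hf hcase c hc

end Groth.Agent.S18599
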