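import Groth.Statements.S18600
import Mathlib
-- import your own Groth.Agent.* helpers here

set_option autoImplicit false
universe v
open SSRed

namespace Groth.Agent.S18600

open Polynomial Matrix
namespace Aux

section MatrixLemmas

variable {R : Type*} [CommRing R] {g : ℕ}

/-- `χ_{cB}(cX) = c^g χ_B(X)` -/
lemma charpoly_smul_comp (c : R) (B : Matrix (Fin g) (Fin g) R) :
    (c • B).charpoly.comp (C c * X) = C (c ^ g) * B.charpoly := by
  have h1 : (c • B).charpoly.comp (C c * X) =
      (Matrix.det ((Polynomial.compRingHom (C c * X : R[X])).mapMatrix (charmatrix (c • B)))) := by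
    rw [← RingHom.map_det]; rfl
  have h2 : (Polynomial.compRingHom (C c * X : R[X])).mapMatrix (charmatrix (c • B)) =
      (C c : R[X]) • charmatrix B := by
    ext i j : 1
    simp only [RingHom.mapMatrix_apply, Matrix.map_apply, charmatrix_apply, Matrix.smul_apply,
      Polynomial.coe_compRingHom, smul_eq_mul, Matrix.diagonal_apply]
    by_cases hij : i = j
    · simp [hij, mul_sub]
    · simp [hij]
  rw [h1, h2, Matrix.det_smul, Fintype.card_fin, ← C_pow]
  rfl

lemma charpoly_smul_coeff (c : R) (B : Matrix (Fin g) (Fin g) R) (k : ℕ) :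
    (c • B).charpoly.coeff k * c ^ k = c ^ g * B.charpoly.coeff k := by
  have := congrArg (fun p => p.coeff k) (charpoly_smul_comp c B)
  simp only [comp_C_mul_X_coeff, coeff_C_mul] at this
  exact this

/-- `χ_{N²}(X²) = (-1)^g χ_N(X) χ_N(-X)` -/
lemma expand_charpoly_sq (N : Matrix (Fin g) (Fin g) R) :
    expand R 2 (N ^ 2).charpoly = (-1) ^ g * N.charpoly * N.charpoly.comp (-X) := by
  have h1 : expand R 2 (N ^ 2).charpoly =
      Matrix.det (((expand R 2 : R[X] →ₐ[R] R[X]) : R[X] →+* R[X]).mapMatrix (charmatrix (N ^ 2))) := by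
    rw [← RingHom.map_det]; rfl
  have h2 : ((expand R 2 : R[X] →ₐ[R] R[X]) : R[X] →+* R[X]).mapMatrix (charmatrix (N ^ 2)) =
      charmatrix N * (-(((Polynomial.compRingHom (-X : R[X])).mapMatrix (charmatrix N)))) := by
    have e1 : ((expand R 2 : R[X] →ₐ[R] R[X]) : R[X] →+* R[X]).mapMatrix (charmatrix (N ^ 2)) =
        Matrix.scalar (Fin g) (X ^ 2 : R[X]) - (C : R →+* R[X]).mapMatrix (N ^ 2) := by
      ext i j : 1
      simp only [RingHom.mapMatrix_apply, Matrix.map_apply, charmatrix_apply, Matrix.sub_apply,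
        Matrix.scalar_apply, Matrix.diagonal_apply, RingHom.coe_coe, map_sub, expand_C]
      by_cases hij : i = j
      · simp [hij]
      · simp [hij]
    have e2 : -(((Polynomial.compRingHom (-X : R[X])).mapMatrix (charmatrix N))) =
        Matrix.scalar (Fin g) (X : R[X]) + (C : R →+* R[X]).mapMatrix N := by
      ext i j : 1
      simp only [RingHom.mapMatrix_apply, Matrix.map_apply, charmatrix_apply, Matrix.neg_apply,
        Matrix.add_apply, Matrix.scalar_apply, Matrix.diagonal_apply, Polynomial.coe_compRingHom]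
      by_cases hij : i = j
      · simp [hij]; ring
      · simp [hij]
    have e3 : charmatrix N = Matrix.scalar (Fin g) (X : R[X]) - (C : R →+* R[X]).mapMatrix N := rfl
    have hc : Commute (Matrix.scalar (Fin g) (X : R[X])) ((C : R →+* R[X]).mapMatrix N) :=
      Matrix.scalar_commute _ (fun _ => Commute.all _ _) _
    rw [e1, e2, e3, map_pow, map_pow, pow_two, pow_two, hc.mul_self_sub_mul_self_eq']
  have h3 : Matrix.det (-(((Polynomial.compRingHom (-X : R[X])).mapMatrix (charmatrix N)))) =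
      (-1) ^ g * N.charpoly.comp (-X) := by
    rw [Matrix.det_neg, Fintype.card_fin, ← RingHom.map_det]
    rfl
  rw [h1, h2, Matrix.det_mul, h3]
  rw [Matrix.charpoly]
  ring

end MatrixLemmas

section Poly

/-- the even polynomial `F(X) F(-X)` is the expansion of its contraction -/
lemma expand_contract_even (P : ℤ[X]) (hP : P.comp (-X) = P) : expand ℤ 2 (contract 2 P) = P := by
  ext j
  rw [coeff_expand (by norm_num)]
  split_ifs with h
  · rw [coeff_contract (by norm_num), Nat.div_mul_cancel h]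
  · have h1 : (P.comp (-X)).coeff j = P.coeff j * (-1) ^ j := by
      have : (-X : ℤ[X]) = C (-1) * X := by simp
      rw [this, comp_C_mul_X_coeff]
    rw [hP] at h1
    have hodd : Odd j := Nat.not_even_iff_odd.1 (fun he => h he.two_dvd)
    rw [hodd.neg_one_pow] at h1
    linarith

end Poly

section Padic

variable (ℓ : ℕ) [Fact ℓ.Prime]

/-- local divisibility of the coefficients of the contracted polynomial -/
lemma local_dvd (n : ℕ) (hn : 0 < n) (g : ℕ) (f : ℤ[X]) (hf : f.Monic)
    (A B : Matrix (Fin g) (Fin g) ℤ_[ℓ]) (hA : A.charpoly = f.map (Int.castRingHom ℤ_[ℓ]))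
    (hB : (A - 1) ^ 2 = (n : ℤ_[ℓ]) • B) (k : ℕ) (hk : k ≤ g) :
    f.natDegree = g ∧
    ((n : ℤ_[ℓ]) ^ (g - k) ∣ ((((contract 2 (f.comp (X + C 1) * (f.comp (X + C 1)).comp (-X))).coeff k : ℤ)) : ℤ_[ℓ])) := by
  set φ := Int.castRingHom ℤ_[ℓ] with hφ
  have hdeg : f.natDegree = g := by
    have h1 : (f.map φ).natDegree = f.natDegree := hf.natDegree_map φ
    rw [← h1, ← hA, Matrix.charpoly_natDegree_eq_dim, Fintype.card_fin]
  refine ⟨hdeg, ?_⟩
  set P : ℤ[X] := f.comp (X + C 1) * (f.comp (X + C 1)).comp (-X) with hP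
  have hXX : (-X : ℤ[X]).comp (-X) = X := by simp
  have hPeven : P.comp (-X) = P := by
    rw [hP, mul_comp, comp_assoc (f.comp (X + C 1)) (-X) (-X), hXX, comp_X, mul_comm]
  have hexp : expand ℤ 2 (contract 2 P) = P := expand_contract_even P hPeven
  set N : Matrix (Fin g) (Fin g) ℤ_[ℓ] := A - 1 with hN
  have hNchar : N.charpoly = (f.map φ).comp (X + C 1) := by
    have := Matrix.charpoly_sub_scalar A (1 : ℤ_[ℓ])
    rw [map_one] at this
    rw [hN, this, hA]
  have hPmap : P.map φ = N.charpoly * N.charpoly.comp (-X) := by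
    rw [hNchar, hP]
    simp only [Polynomial.map_mul, Polynomial.map_comp, Polynomial.map_add, Polynomial.map_neg,
      Polynomial.map_X, C_1, Polynomial.map_one]
  have h1 := expand_charpoly_sq N
  rw [mul_assoc, ← hPmap, ← hexp, Polynomial.map_expand] at h1
  have h2 : (N ^ 2).charpoly = C ((-1 : ℤ_[ℓ]) ^ g) * (contract 2 P).map φ := by
    apply expand_injective (show 0 < 2 by norm_num) (R := ℤ_[ℓ])
    rw [h1, map_mul, expand_C, C_pow, C_neg, C_1]
  have h3 := charpoly_smul_coeff (n : ℤ_[ℓ]) B k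
  rw [← hB, h2, coeff_C_mul, coeff_map] at h3
  have hn0 : (n : ℤ_[ℓ]) ≠ 0 := by
    exact_mod_cast hn.ne'
  have h4 : (-1 : ℤ_[ℓ]) ^ g * φ ((contract 2 P).coeff k) = (n : ℤ_[ℓ]) ^ (g - k) * B.charpoly.coeff k := by
    have : (n : ℤ_[ℓ]) ^ g = (n : ℤ_[ℓ]) ^ (g - k) * (n : ℤ_[ℓ]) ^ k := by
      rw [← pow_add]; congr 1; omega
    rw [this] at h3
    have h5 : ((-1 : ℤ_[ℓ]) ^ g * φ ((contract 2 P).coeff k)) * (n : ℤ_[ℓ]) ^ k =
        ((n : ℤ_[ℓ]) ^ (g - k) * B.charpoly.coeff k) * (n : ℤ_[ℓ]) ^ k := by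
      rw [h3]; ring
    exact mul_right_cancel₀ (pow_ne_zero k hn0) h5
  have h6 : φ ((contract 2 P).coeff k) =
      (n : ℤ_[ℓ]) ^ (g - k) * ((-1 : ℤ_[ℓ]) ^ g * B.charpoly.coeff k) := by
    have hsq : ((-1 : ℤ_[ℓ]) ^ g) * ((-1 : ℤ_[ℓ]) ^ g) = 1 := by
      rw [← mul_pow]; simp
    calc φ ((contract 2 P).coeff k) = ((-1 : ℤ_[ℓ]) ^ g * (-1 : ℤ_[ℓ]) ^ g) * φ ((contract 2 P).coeff k) := by
          rw [hsq, one_mul]
      _ = (-1 : ℤ_[ℓ]) ^ g * ((-1 : ℤ_[ℓ]) ^ g * φ ((contract 2 P).coeff k)) := by ring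
      _ = _ := by rw [h4]; ring
  exact ⟨_, h6⟩

end Padic

theorem main (n : ℕ) (hn : 0 < n) (g : ℕ) (f : Polynomial ℤ)
    (hf : f.Monic)
    (hA : ∀ (ℓ : ℕ) [Fact ℓ.Prime], ℓ ∣ n → ∃ A : Matrix (Fin g) (Fin g) ℤ_[ℓ],
      A.charpoly = f.map (Int.castRingHom ℤ_[ℓ]) ∧
        ∃ B : Matrix (Fin g) (Fin g) ℤ_[ℓ], (A - 1) ^ 2 = (n : ℤ_[ℓ]) • B)
    (K : Type v) [Field K] [CharZero K] (α s : K) (hα : Polynomial.aeval α f = 0) (hs : s ^ 2 = (n : K)) :
    IsIntegral ℤ ((α - 1) / s) := by
  set d := f.natDegree with hd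
  set F : ℤ[X] := f.comp (X + C 1) with hF
  set P : ℤ[X] := F * F.comp (-X) with hP
  set G : ℤ[X] := contract 2 P with hG
  have hXX : (-X : ℤ[X]).comp (-X) = X := by simp
  have hPeven : P.comp (-X) = P := by
    rw [hP, mul_comp, comp_assoc F (-X) (-X), hXX, comp_X, mul_comm]
  have hexp : expand ℤ 2 G = P := expand_contract_even P hPeven
  -- degrees
  have hFmonic : F.Monic := hf.comp_X_add_C 1
  have hFdeg : F.natDegree = d := by
    rw [hF, natDegree_comp, natDegree_X_add_C, mul_one]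
  have hnegX : (-X : ℤ[X]) = C (-1) * X := by simp
  have hF'deg : (F.comp (-X)).natDegree ≤ d := by
    refine (natDegree_comp_le).trans ?_
    rw [hFdeg, natDegree_neg, natDegree_X, mul_one]
  have hF'coeff : (F.comp (-X)).coeff d = (-1) ^ d := by
    rw [hnegX, comp_C_mul_X_coeff, ← hFdeg, hFmonic.coeff_natDegree, one_mul]
  have hGd : G.coeff d = (-1) ^ d := by
    rw [hG, coeff_contract (by norm_num), mul_two, hP,
      coeff_mul_add_eq_of_natDegree_le hFdeg.le hF'deg, hF'coeff, ← hFdeg, hFmonic.coeff_natDegree, one_mul]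
  have hPdeg : P.natDegree ≤ d + d := by
    refine natDegree_mul_le.trans ?_
    rw [hFdeg]; omega
  have hGdeg : G.natDegree ≤ d := by
    rw [natDegree_le_iff_coeff_eq_zero]
    intro k hk
    rw [hG, coeff_contract (by norm_num)]
    apply coeff_eq_zero_of_natDegree_lt
    omega
  -- root
  have hroot : aeval ((α - 1) ^ 2) G = 0 := by
    rw [← expand_aeval, hexp, hP, map_mul, hF, aeval_comp]
    simp [hα]
  -- divisibility
  have hdvd : ∀ k ≤ d, (n : ℤ) ^ (d - k) ∣ G.coeff k := by
    intro k hk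
    by_cases hc0 : G.coeff k = 0
    · rw [hc0]; exact dvd_zero _
    have hnat : n ^ (d - k) ∣ (G.coeff k).natAbs := by
      rw [← Nat.factorization_le_iff_dvd (pow_ne_zero _ hn.ne') (Int.natAbs_ne_zero.2 hc0)]
      intro ℓ
      rw [Nat.factorization_pow, Finsupp.smul_apply, smul_eq_mul]
      by_cases hp : ℓ.Prime
      · by_cases hln : ℓ ∣ n
        · have : Fact ℓ.Prime := ⟨hp⟩
          obtain ⟨A, hAc, B, hB⟩ := hA ℓ hln
          obtain ⟨hdg, hloc⟩ := local_dvd ℓ n hn g f hf A B hAc hB k (by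
            have : f.natDegree = g := (local_dvd ℓ n hn g f hf A B hAc hB 0 (Nat.zero_le _)).1
            omega)
          have hdg' : g = d := hdg.symm
          rw [hdg'] at hloc
          have h1 : (ℓ : ℤ_[ℓ]) ^ ((d - k) * n.factorization ℓ) ∣ ((n : ℤ_[ℓ])) ^ (d - k) := by
            rw [mul_comm, pow_mul]
            apply pow_dvd_pow_of_dvd
            have := Nat.ordProj_dvd n ℓ
            obtain ⟨c, hc⟩ := this
            refine ⟨(c : ℤ_[ℓ]), ?_⟩
            have hc' : (n : ℤ_[ℓ]) = ((ℓ ^ n.factorization ℓ * c : ℕ) : ℤ_[ℓ]) := by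
              rw [← hc]
            rw [hc']
            push_cast
            ring
          have h2 := h1.trans hloc
          rw [PadicInt.pow_p_dvd_int_iff] at h2
          have h3 : ℓ ^ ((d - k) * n.factorization ℓ) ∣ (G.coeff k).natAbs := by
            rw [← Int.natCast_dvd]
            exact_mod_cast h2
          exact (hp.pow_dvd_iff_le_factorization (Int.natAbs_ne_zero.2 hc0)).1 h3
        · rw [Nat.factorization_eq_zero_of_not_dvd hln, mul_zero]
          exact Nat.zero_le _
      · rw [Nat.factorization_eq_zero_of_not_prime n hp, mul_zero]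
        exact Nat.zero_le _
    rw [← Int.natCast_dvd] at hnat
    exact_mod_cast hnat
  choose! c hc using hdvd
  have hcd : c d = (-1) ^ d := by
    have := hc d le_rfl
    rw [Nat.sub_self, pow_zero, one_mul, hGd] at this
    exact this.symm
  -- the equation for β
  set β : K := (α - 1) ^ 2 / n with hβ
  have hnK : (n : K) ≠ 0 := by exact_mod_cast hn.ne'
  have hnβ : (α - 1) ^ 2 = n * β := by rw [hβ]; field_simp
  have hsum : ∑ k ∈ Finset.range (d + 1), (c k : K) * β ^ k = 0 := by
    have h1 := hroot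
    rw [aeval_eq_sum_range' (Nat.lt_succ_of_le hGdeg)] at h1
    have h2 : ∑ k ∈ Finset.range (d + 1), G.coeff k • ((α - 1) ^ 2) ^ k =
        (n : K) ^ d * ∑ k ∈ Finset.range (d + 1), (c k : K) * β ^ k := by
      rw [Finset.mul_sum]
      apply Finset.sum_congr rfl
      intro k hk
      have hkd : k ≤ d := Nat.lt_succ_iff.1 (Finset.mem_range.1 hk)
      rw [hc k hkd, hnβ, zsmul_eq_mul, mul_pow]
      push_cast
      have : (n : K) ^ d = (n : K) ^ (d - k) * (n : K) ^ k := by
        rw [← pow_add]; congr 1; omega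
      rw [this]; ring
    rw [h2] at h1
    exact (mul_eq_zero.1 h1).resolve_left (pow_ne_zero d hnK)
  -- integrality of β
  have hβint : IsIntegral ℤ β := by
    set low : ℤ[X] := ∑ k ∈ Finset.range d, C ((-1) ^ d * c k) * X ^ k with hlow
    have hlowdeg : low.degree < d := by
      refine (degree_sum_le _ _).trans_lt ?_
      refine (Finset.sup_lt_iff (WithBot.bot_lt_coe d)).2 ?_
      intro k hk
      exact (degree_C_mul_X_pow_le _ _).trans_lt (WithBot.coe_lt_coe.2 (Finset.mem_range.1 hk))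
    refine ⟨X ^ d + low, monic_X_pow_add hlowdeg, ?_⟩
    rw [← aeval_def, map_add, map_pow, aeval_X, hlow, map_sum]
    rw [Finset.sum_range_succ, hcd] at hsum
    have h3 : ∑ k ∈ Finset.range d, aeval β (C ((-1) ^ d * c k) * X ^ k) =
        (-1) ^ d * ∑ k ∈ Finset.range d, (c k : K) * β ^ k := by
      rw [Finset.mul_sum]
      apply Finset.sum_congr rfl
      intro k _
      rw [map_mul, aeval_C, map_pow, aeval_X]
      simp only [eq_intCast, Int.cast_mul, Int.cast_pow, Int.cast_neg, Int.cast_one]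
      ring
    rw [h3]
    have h4 : ∑ k ∈ Finset.range d, (c k : K) * β ^ k = -(((-1 : ℤ) ^ d : ℤ) : K) * β ^ d := by
      linear_combination hsum
    rw [h4]
    push_cast
    have hsq : ((-1 : K) ^ d) * ((-1 : K) ^ d) = 1 := by rw [← mul_pow]; simp
    linear_combination (-(β ^ d)) * hsq
  -- conclude
  apply IsIntegral.of_pow (n := 2) (by norm_num)
  have : ((α - 1) / s) ^ 2 = β := by
    rw [div_pow, hs]
  rw [this]
  exact hβint

end Aux

/-- Let n be a positive integer, g a natural number and f ∈ ℤ[x] a monic polynomial such that for every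
prime ℓ dividing n there is a g × g matrix A_ℓ over ℤ_ℓ whose characteristic polynomial is f and
such that (A_ℓ − 1)² lies in n·M_g(ℤ_ℓ). Then for every root α of f in a field of characteristic
zero and every square root s of n in that field, (α − 1)/s is integral over ℤ. (The published
statement is for matrices of size 2d and speaks of the eigenvalues of the A_ℓ, which are the roots
of their common characteristic polynomial f; the parity of the size plays no role.) -/
theorem result (n : ℕ) (hn : 0 < n) (g : ℕ) (f : Polynomial ℤ)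
    (hf : f.Monic)
    (hA : ∀ (ℓ : ℕ) [Fact ℓ.Prime], ℓ ∣ n → ∃ A : Matrix (Fin g) (Fin g) ℤ_[ℓ],
      A.charpoly = f.map (Int.castRingHom ℤ_[ℓ]) ∧
        ∃ B : Matrix (Fin g) (Fin g) ℤ_[ℓ], (A - 1) ^ 2 = (n : ℤ_[ℓ]) • B)
    (K : Type v) [Field K] [CharZero K] (α s : K) (hα : Polynomial.aeval α f = 0) (hs : s ^ 2 = (n : K)) :
    IsIntegral ℤ ((α - 1) / s) := by
  exact Aux.main n hn g f hf hA K α s hα hs

end Groth.Agent.S18600
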