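import Groth.Statements.S18617
import Mathlib
import Groth.Prelude.Def_LocRes
-- import your own Groth.Agent.* helpers here

set_option autoImplicit false
universe u
open LocRes

namespace Groth.Agent.S18617

open LaurentSeries HahnSeries
namespace Aux

theorem main (k : Type u) [Field k] [CharZero k] :
    (∀ f : LaurentSeries k, LocRes.D k f = 0 ↔ f = HahnSeries.C (f.coeff 0)) ∧
      ∀ g : LaurentSeries k, (∃ f : LaurentSeries k, LocRes.D k f = g) ↔ LocRes.res k g = 0 := by
  constructor
  · intro f
    constructor
    · intro h
      ext n
      rw [HahnSeries.C_apply, HahnSeries.coeff_single]
      by_cases hn : n = 0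
      · subst hn; simp
      · rw [if_neg hn]
        have h1 := LocRes.D_coeff k f (n - 1)
        rw [h, HahnSeries.coeff_zero, sub_add_cancel, zsmul_eq_mul] at h1
        rcases mul_eq_zero.1 h1.symm with h2 | h2
        · exfalso
          have : (n : k) = ((0 : ℤ) : k) := by push_cast; exact h2
          exact hn (Int.cast_injective this)
        · exact h2
    · intro h
      ext n
      rw [LocRes.D_coeff, HahnSeries.coeff_zero, h, HahnSeries.C_apply, HahnSeries.coeff_single]
      by_cases hn : n + 1 = 0
      · rw [hn, zero_smul]
      · rw [if_neg hn, smul_zero]
  · intro g
    constructor
    · rintro ⟨f, rfl⟩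
      rw [LocRes.res_apply, LocRes.D_coeff]
      simp
    · intro h
      rw [LocRes.res_apply] at h
      have hb : BddBelow (Function.support (fun n : ℤ => g.coeff (n - 1) / (n : k))) := by
        refine ⟨g.order + 1, ?_⟩
        intro m hm
        by_contra hlt
        push Not at hlt
        have : g.coeff (m - 1) = 0 := HahnSeries.coeff_eq_zero_of_lt_order (by omega)
        exact hm (by simp [this])
      refine ⟨HahnSeries.ofSuppBddBelow _ hb, ?_⟩
      ext n
      rw [LocRes.D_coeff, HahnSeries.coeff_ofSuppBddBelow]
      simp only [add_sub_cancel_right, zsmul_eq_mul]
      by_cases hn : n + 1 = 0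
      · have : n = -1 := by omega
        subst this
        rw [h]; simp
      · have hne : ((n + 1 : ℤ) : k) ≠ 0 := by
          intro h0
          exact hn (Int.cast_injective (by rw [h0]; simp))
        rw [mul_div_cancel₀ _ hne]

end Aux

/-- The published statement is that, for a complete separated linearly topologized commutative algebra K
over a field of characteristic zero, the separated de Rham complex of K tensored with the exterior
algebra on symbols α_1, ..., α_n maps quasi-isomorphically to the separated de Rham complex of the
iterated Laurent series ring K((t_1, ..., t_n)), α_i going to dlog t_i; this row is the case K = k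
and n = 1, unpacked: over a field k of characteristic 0, a formal Laurent series f in k((t)) has
term-by-term derivative zero if and only if it is the constant series on its coefficient of degree
0, and a Laurent series g is the derivative of some Laurent series if and only if its residue (the
coefficient of t⁻¹) vanishes; so H⁰ of the complex k((t)) → k((t)) dt is k and H¹ is the line
spanned by the class of dt/t, on which the residue is 1. -/
theorem result (k : Type u) [Field k] [CharZero k] :
    (∀ f : LaurentSeries k, LocRes.D k f = 0 ↔ f = HahnSeries.C (f.coeff 0)) ∧
      ∀ g : LaurentSeries k, (∃ f : LaurentSeries k, LocRes.D k f = g) ↔ LocRes.res k g = 0 := by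
  exact Aux.main k

end Groth.Agent.S18617
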