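import Groth.Statements.S18643
import Groth.Agent.Lib.Helper8.GV8
import Groth.Agent.Lib.Helper8.GorFlat11
import Groth.Agent.S18654

set_option autoImplicit false
universe u
open GrLC

namespace Groth.Agent.S18643

/-- Let R be a graded ring defined over a field k = R_0 which is Gorenstein and generated over k by R_1,
with dim R ≥ 1 and dim_k R_1 ≥ 2, and let q ≥ 1. Then the Veronese subring R^(q) is a Gorenstein
ring if and only if q divides the a-invariant a(R). Here 'graded ring defined over a field' means R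
= ⊕_{n ≥ 0} R_n is Noetherian with R_0 a field, and m = R_+ is its unique graded maximal ideal. The
a-invariant a(R) is the largest degree in which the graded local cohomology H^n_m(R) (n = dim R, m =
R_+), computed from a *injective resolution of R in the graded category, is nonzero. The Veronese
subring R^(q) = ⊕_j R_{jq}, regraded by (R^(q))_j = R_{jq}, is presented abstractly as a ℤ-graded
ring R' with an injective ring homomorphism φ : R' → R carrying R'_j onto R_{jq} for every j. -/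
theorem result (R : Type u) [CommRing R] [LocCoh.IsGorensteinRing R] (𝒜 : ℤ → AddSubgroup R) [GradedRing 𝒜] (hpos : ∀ n : ℤ, n < 0 → 𝒜 n = ⊥) (h0 : IsField (GrLC.deg0 𝒜)) (m : HomogeneousIdeal 𝒜) (hm : GrLC.IsStarLocal 𝒜 m) (hmsp : m.toIdeal = Ideal.span (⋃ n ∈ Set.Ioi (0 : ℤ), (𝒜 n : Set R))) (hstd : Ideal.span (⋃ n ∈ Set.Ioi (0 : ℤ), (𝒜 n : Set R)) = Ideal.span ((𝒜 1 : AddSubgroup R) : Set R)) (hR1 : 2 ≤ Module.finrank (GrLC.deg0 𝒜) (GrLC.comp 𝒜 𝒜 1)) (n : ℕ) (hn : ringKrullDim R = n) (h1 : 1 ≤ n) (I : GrLC.StarInjRes 𝒜 𝒜) (a : ℤ) (ha : GrLC.endDeg (I.Hgr m n) = ((a : WithTop ℤ) : WithBot (WithTop ℤ))) (q : ℕ) (hq : 0 < q) (R' : Type u) [CommRing R'] (𝒜' : ℤ → AddSubgroup R') [GradedRing 𝒜'] (φ : R' →+* R) (hφ : Function.Injective φ) (hdeg : ∀ j : ℤ, (𝒜' j).map (φ : R' →+ R) = 𝒜 (j * q)) : LocCoh.IsGorensteinRing R' ↔ (q : ℤ) ∣ a := by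
  have hF : Groth.Agent.Helper8.GD.FieldGr 𝒜 m := ⟨hpos, h0, hmsp⟩
  let D : Groth.Agent.Helper8.Ver.VerData 𝒜 𝒜' := ⟨φ, q, hq, hφ, hdeg⟩
  constructor
  · intro hG'
    haveI : IsNoetherianRing R' := Groth.Agent.Helper8.Ver.isNoetherianRing_ver D
    have hF' : Groth.Agent.Helper8.GD.FieldGr 𝒜' (Groth.Agent.Helper8.GV.irrIdeal 𝒜') :=
      Groth.Agent.Helper8.GD.fieldGr_ver D hF (Groth.Agent.Helper8.GV.irrIdeal 𝒜') rfl
    haveI hmax' : (Groth.Agent.Helper8.GV.irrIdeal 𝒜').toIdeal.IsMaximal := hF'.isMaximal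
    have hqpos : (0 : ℤ) < q := by exact_mod_cast hq
    obtain ⟨hvan, hlen⟩ := Groth.Agent.Helper8.GV.veronese_local hF hstd D n hn I a ha
      (Groth.Agent.Helper8.GV.irrIdeal 𝒜') rfl (a % q) (Int.emod_nonneg a hqpos.ne')
      (Int.emod_lt_of_pos a hqpos) Int.dvd_self_sub_emod
    haveI hGloc : LocCoh.IsGorensteinLocalRing
        (Localization.AtPrime (Groth.Agent.Helper8.GV.irrIdeal 𝒜').toIdeal) :=
      hG'.isGorensteinLocalRing_localization _
    have hdim := (Groth.Agent.Helper8.GV.mu_eq_length_hom_of_vanish _ n hvan).1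
    have hone := Groth.Agent.Helper8.GV.length_hom_of_gorenstein
      (Localization.AtPrime (Groth.Agent.Helper8.GV.irrIdeal 𝒜').toIdeal) n hdim
    rw [hlen] at hone
    have hfr : Module.finrank (GrLC.deg0 𝒜) (GrLC.comp 𝒜 𝒜 (a % q)) = 1 := by exact_mod_cast hone
    -- the Hilbert function is nondecreasing
    haveI hCM : LocCoh.IsCohenMacaulayRing R :=
      Groth.Agent.Helper8.GorFlat.isCohenMacaulayRing_of_isGorensteinRing R inferInstance
    have hdimR : (1 : WithBot ℕ∞) ≤ ringKrullDim R := by rw [hn]; exact_mod_cast h1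
    have hmono : ∀ k : ℕ, Module.finrank (GrLC.deg0 𝒜) (GrLC.comp 𝒜 𝒜 1) ≤
        Module.finrank (GrLC.deg0 𝒜) (GrLC.comp 𝒜 𝒜 (1 + (k : ℤ))) := by
      intro k
      induction k with
      | zero => simp
      | succ k ih =>
        have := Groth.Agent.S18654.result R 𝒜 hpos h0 hstd hdimR (1 + (k : ℤ))
        have h2 : (1 : ℤ) + ((k + 1 : ℕ) : ℤ) = 1 + (k : ℤ) + 1 := by push_cast; ring
        rw [h2]
        exact le_trans ih this
    by_contra hndvd
    have hρ : a % q ≠ 0 := fun h => hndvd (Int.dvd_of_emod_eq_zero h)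
    have hρ1 : 1 ≤ a % q := by
      have := Int.emod_nonneg a hqpos.ne'
      omega
    obtain ⟨k, hk⟩ : ∃ k : ℕ, a % q = 1 + (k : ℤ) := ⟨(a % q - 1).toNat, by omega⟩
    have := hmono k
    rw [← hk, hfr] at this
    omega
  · intro hdvd
    exact Groth.Agent.Helper8.GV.isGorensteinRing_ver hF D n hn I a ha hdvd

end Groth.Agent.S18643
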