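import Groth.Statements.S18650
import Groth.Agent.Lib.Helper8.GStar3

set_option autoImplicit false
universe u
open GrLC

namespace Groth.Agent.S18650

/-- The case M = R of the published statement. Let R be a commutative Noetherian ℤ-graded ring which is
H-local, i.e. has a unique maximal graded ideal m, and which is Cohen–Macaulay, with ht m = n. Then
R is a Gorenstein ring if and only if the graded local cohomology module H^n_m(R) is an injective
object of the category of graded R-modules. Here H^n_m(R) is computed from a *injective resolution I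
of R in the graded category, and its *injectivity is expressed as the existence of a *injective
graded R-module X and an R-linear isomorphism H^n_m(R) ≅ X preserving degrees. (The published item
is stated for a Cohen–Macaulay graded module M and the notion of Gorenstein module; this row is its
case M = R.) -/
theorem result (R : Type u) [CommRing R] [LocCoh.IsCohenMacaulayRing R] (𝒜 : ℤ → AddSubgroup R) [GradedRing 𝒜] (m : HomogeneousIdeal 𝒜) (hm : GrLC.IsStarLocal 𝒜 m) (n : ℕ) (hn : m.toIdeal.height = n) (I : GrLC.StarInjRes 𝒜 𝒜) : LocCoh.IsGorensteinRing R ↔ ∃ (X : GrLC.GMod.{u} 𝒜) (φ : I.H m n ≃ₗ[R] X.carrier), GrLC.IsStarInj 𝒜 X.gr ∧ GrLC.IsGrHom (I.Hgr m n) X.gr φ.toLinearMap := by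
  constructor
  · intro hG
    haveI hp : m.toIdeal.IsPrime := Groth.Agent.Helper8.GStar.isPrime_toIdeal 𝒜 m hm
    haveI hGp : LocCoh.IsGorensteinLocalRing (Localization.AtPrime m.toIdeal) :=
      hG.isGorensteinLocalRing_localization m.toIdeal
    have hdim : ringKrullDim (Localization.AtPrime m.toIdeal) = n := by
      have h1 := IsLocalization.AtPrime.ringKrullDim_eq_height m.toIdeal
        (Localization.AtPrime m.toIdeal)
      rw [hn] at h1
      exact_mod_cast h1
    obtain ⟨Θ₀, -⟩ := Groth.Agent.Helper9.GrLCLib.exists_theta_LCgr 𝒜 𝒜 m I n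
    refine ⟨Groth.Agent.Helper9.GrLCLib.HGMod 𝒜 𝒜 I m n, LinearEquiv.refl R _,
      Groth.Agent.Helper8.GStar.isStarInj_of_equiv_H 𝒜 m hm n hdim _ Θ₀, ?_⟩
    intro g x hx
    rw [Groth.Agent.Helper9.GrLCLib.HGMod_gr]
    exact hx
  · rintro ⟨X, φ, hX, -⟩
    exact Groth.Agent.Helper8.GStar.isGorensteinRing_of_isStarInj_H 𝒜 m hm n hn I X φ hX

end Groth.Agent.S18650
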