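import Groth.Statements.S18653
import Groth.Agent.Lib.Helper6.GradedOrbit

set_option autoImplicit false
universe u
open GrLC

namespace Groth.Agent.S18653

/-- Let R be a graded ring defined over an algebraically closed field k which is an integral domain of
dimension one. Then R is isomorphic to a semigroup ring (the subring of k[T] spanned by the
monomials T^h, h in an additive submonoid H of ℕ); moreover, if R is generated over k by R_1, then R
is a polynomial ring k[T]. Here a graded ring defined over k is a commutative k-algebra of finite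
type graded in nonnegative degrees by k-subspaces with degree-zero part k·1; the isomorphisms
asserted are ring isomorphisms. -/
theorem result (k : Type u) [Field k] [IsAlgClosed k] (R : Type u) [CommRing R] [IsDomain R] [Algebra k R] (𝒜 : ℤ → Submodule k R) [GradedAlgebra 𝒜] (hpos : ∀ n : ℤ, n < 0 → 𝒜 n = ⊥) (h0 : 𝒜 0 = Submodule.span k {(1 : R)}) [Algebra.FiniteType k R] (h1 : ringKrullDim R = 1) : (∃ H : AddSubmonoid ℕ, Nonempty (R ≃+* AddMonoidAlgebra k H)) ∧ (Ideal.span (⋃ n ∈ Set.Ioi (0 : ℤ), (𝒜 n : Set R)) = Ideal.span ((𝒜 1 : Submodule k R) : Set R) → Nonempty (R ≃+* Polynomial k)) := by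
  classical
  haveI hdim : Ring.KrullDimLE 1 R := (Ring.krullDimLE_iff).2 h1.le
  -- a nonzero homogeneous element of positive degree
  have hex : ∃ n : ℤ, 0 < n ∧ ∃ z ∈ 𝒜 n, z ≠ 0 := by
    by_contra hcon
    push Not at hcon
    have hall : ∀ r : R, r ∈ 𝒜 0 := by
      intro r
      induction r using DirectSum.Decomposition.inductionOn 𝒜 with
      | zero => exact Submodule.zero_mem _
      | @homogeneous i a =>
        rcases lt_trichotomy i 0 with hi | hi | hi
        · have h : (a : R) ∈ (⊥ : Submodule k R) := (hpos i hi) ▸ a.2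
          rw [(Submodule.mem_bot k).1 h]
          exact Submodule.zero_mem _
        · subst hi; exact a.2
        · rw [hcon i hi a a.2]
          exact Submodule.zero_mem _
      | add a b ha hb => exact Submodule.add_mem _ ha hb
    have hsurj : Function.Surjective (algebraMap k R) := by
      intro r
      have := hall r
      rw [h0, Submodule.mem_span_singleton] at this
      obtain ⟨c, rfl⟩ := this
      exact ⟨c, by rw [Algebra.algebraMap_eq_smul_one]⟩
    have hbij : Function.Bijective (algebraMap k R) := ⟨(algebraMap k R).injective, hsurj⟩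
    have hfield : IsField R :=
      (RingEquiv.ofBijective (algebraMap k R) hbij).symm.toMulEquiv.isField (Field.toIsField k)
    have := ringKrullDim_eq_zero_of_isField hfield
    rw [h1] at this
    exact one_ne_zero this
  obtain ⟨n, hn, z, hz, hz0⟩ := hex
  obtain ⟨x, hxz⟩ := Groth.Agent.Lib.Helper6.GradedOrbit.exists_point (k := k) z hz0
  have hinj := Groth.Agent.Lib.Helper6.GradedOrbit.orbit_injective 𝒜 hpos x hn hz hxz
  refine ⟨⟨Groth.Agent.Lib.Helper6.GradedOrbit.semigroup 𝒜 x, ?_⟩, ?_⟩
  · exact Groth.Agent.Lib.Helper6.GradedOrbit.ringEquiv_of_range_eq _ _ hinj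
      (Groth.Agent.Lib.Helper6.GradedOrbit.semiEmb_injective 𝒜 x)
      (Groth.Agent.Lib.Helper6.GradedOrbit.range_eq 𝒜 hpos x)
  · intro hgen
    have hex1 : ∃ r ∈ 𝒜 1, x r ≠ 0 := by
      by_contra hcon
      push Not at hcon
      have hzero : ∀ r ∈ 𝒜 1, r = 0 := by
        intro r hr
        apply hinj
        rw [Groth.Agent.Lib.Helper6.GradedOrbit.orbit_of_mem 𝒜 hpos x hr, hcon r hr, map_zero,
          map_zero]
      have hbot : Ideal.span ((𝒜 1 : Submodule k R) : Set R) = ⊥ := by
        rw [Ideal.span_eq_bot]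
        intro r hr
        exact hzero r hr
      have hzmem : z ∈ Ideal.span (⋃ n ∈ Set.Ioi (0 : ℤ), (𝒜 n : Set R)) := by
        apply Ideal.subset_span
        simp only [Set.mem_iUnion, Set.mem_Ioi, SetLike.mem_coe]
        exact ⟨n, hn, hz⟩
      rw [hgen, hbot] at hzmem
      exact hz0 ((Ideal.mem_bot).1 hzmem)
    obtain ⟨r, hr, hxr⟩ := hex1
    have hsurj := Groth.Agent.Lib.Helper6.GradedOrbit.orbit_surjective_of_one 𝒜 hpos x hr hxr
    exact ⟨RingEquiv.ofBijective
      (Groth.Agent.Lib.Helper6.GradedOrbit.orbit 𝒜 hpos x : R →+* Polynomial k) ⟨hinj, hsurj⟩⟩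

end Groth.Agent.S18653
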