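import Groth.Statements.S18656
import Mathlib
import Groth.Prelude.Def_GrLC
import Groth.Agent.Lib.Helper9.GrLC.Top
import Groth.Agent.Lib.Helper8.LC18
-- import your own Groth.Agent.* helpers here

set_option autoImplicit false
universe u
open GrLC

namespace Groth.Agent.S18656

open DirectSum
namespace Aux
open Groth.Agent.Helper9.GrLCLib

theorem main (R : Type u) [CommRing R] [IsNoetherianRing R] (𝒜 : ℤ → AddSubgroup R) [GradedRing 𝒜] (m : HomogeneousIdeal 𝒜) (hmsp : m.toIdeal = Ideal.span (⋃ n ∈ Set.Ioi (0 : ℤ), (𝒜 n : Set R))) (hstd : Ideal.span (⋃ n ∈ Set.Ioi (0 : ℤ), (𝒜 n : Set R)) = Ideal.span ((𝒜 1 : AddSubgroup R) : Set R)) (r : ℕ) (hr : ringKrullDim R = r) (h1 : 1 ≤ r) (I : GrLC.StarInjRes 𝒜 𝒜) (a : ℤ) (ha : GrLC.endDeg (I.Hgr m r) = ((a : WithTop ℤ) : WithBot (WithTop ℤ))) (n : ℤ) (hn : n ≤ a) : I.Hcomp m r n ≠ ⊥ := by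
  intro hbot
  obtain ⟨Θ, hΘ⟩ := exists_theta_LCgr 𝒜 𝒜 m I r
  have hcd : LocCoh.CdLE R m.toIdeal r :=
    Groth.Agent.Helper8.LC.cdLE_of_ringKrullDim_le m.toIdeal r (le_of_eq hr)
  have hG := Top.genP_top 𝒜 m r hcd (by omega) (hmsp.trans hstd) (GrLC.GMod.of 𝒜 R 𝒜)
  have hL : LCgr 𝒜 𝒜 m.toIdeal r n = ⊥ := by
    rw [eq_bot_iff]
    intro v hv
    have h2 : Θ.symm v ∈ I.Hcomp m r n := by
      rw [hΘ, LinearEquiv.apply_symm_apply]; exact hv
    rw [hbot, Submodule.mem_bot] at h2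
    have h3 : v = Θ (Θ.symm v) := (LinearEquiv.apply_symm_apply Θ v).symm
    rw [h3, h2, map_zero]
    exact AddSubgroup.mem_bot.mpr rfl
  have hall : ∀ n' : ℤ, n ≤ n' → I.Hgr m r n' = ⊥ := by
    intro n' hn'
    have h2 := Top.eq_bot_of_le_of_genP 𝒜 m r hG n hL n' hn'
    rw [eq_bot_iff]
    intro u hu
    have h3 : Θ u ∈ LCgr 𝒜 𝒜 m.toIdeal r n' := (hΘ n' u).mp hu
    have h2' : LCgr 𝒜 𝒜 m.toIdeal r n' = ⊥ := h2
    rw [h2'] at h3
    exact AddSubgroup.mem_bot.mpr (Θ.injective ((AddSubgroup.mem_bot.mp h3).trans (map_zero Θ).symm))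
  have hle : GrLC.endDeg (I.Hgr m r) ≤ (((n - 1 : ℤ) : WithTop ℤ) : WithBot (WithTop ℤ)) := by
    unfold GrLC.endDeg
    apply iSup₂_le
    intro n' hn'
    have : n' < n := by
      by_contra hcon
      exact hn' (hall n' (not_lt.mp hcon))
    exact WithBot.coe_le_coe.mpr (WithTop.coe_le_coe.mpr (by omega))
  rw [ha] at hle
  have := WithTop.coe_le_coe.mp (WithBot.coe_le_coe.mp hle)
  omega

end Aux

/-- Let R be a graded ring defined over a field k = R_0, generated over k by R_1, of dimension r ≥ 1,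
and let a(R) be its a-invariant. Then the homogeneous piece H^r_m(R)_n is nonzero for every n ≤
a(R). Here 'graded ring defined over a field' means R = ⊕_{n ≥ 0} R_n is Noetherian with R_0 a
field, and m = R_+ is its unique graded maximal ideal. The a-invariant a(R) is the largest degree in
which the graded local cohomology H^n_m(R) (n = dim R, m = R_+), computed from a *injective
resolution of R in the graded category, is nonzero. -/
theorem result (R : Type u) [CommRing R] [IsNoetherianRing R] (𝒜 : ℤ → AddSubgroup R) [GradedRing 𝒜] (hpos : ∀ n : ℤ, n < 0 → 𝒜 n = ⊥) (h0 : IsField (GrLC.deg0 𝒜)) (m : HomogeneousIdeal 𝒜) (hm : GrLC.IsStarLocal 𝒜 m) (hmsp : m.toIdeal = Ideal.span (⋃ n ∈ Set.Ioi (0 : ℤ), (𝒜 n : Set R))) (hstd : Ideal.span (⋃ n ∈ Set.Ioi (0 : ℤ), (𝒜 n : Set R)) = Ideal.span ((𝒜 1 : AddSubgroup R) : Set R)) (r : ℕ) (hr : ringKrullDim R = r) (h1 : 1 ≤ r) (I : GrLC.StarInjRes 𝒜 𝒜) (a : ℤ) (ha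 : GrLC.endDeg (I.Hgr m r) = ((a : WithTop ℤ) : WithBot (WithTop ℤ))) (n : ℤ) (hn : n ≤ a) : I.Hcomp m r n ≠ ⊥ := by
  exact Aux.main R 𝒜 m hmsp hstd r hr h1 I a ha n hn

end Groth.Agent.S18656
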