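import Groth.Statements.S18661
import Mathlib
import Groth.Prelude.Def_GrLC
import Groth.Agent.S13224
-- import your own Groth.Agent.* helpers here

set_option autoImplicit false
universe u
open GrLC

namespace Groth.Agent.S18661

namespace Aux
open Groth.Agent.Helper8.LC

theorem main {R : Type u} [CommRing R] [IsNoetherianRing R] (𝒜 : ℤ → AddSubgroup R) [GradedRing 𝒜]
    (m : HomogeneousIdeal 𝒜)
    (M : Type u) [AddCommGroup M] [Module R M] (ℳ : ℤ → AddSubgroup M) [DirectSum.Decomposition ℳ]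
    [SetLike.GradedSMul 𝒜 ℳ]
    (hstar : ∀ x : M, x ≠ 0 → ((Submodule.span R {x}).annihilator).IsPrimary ∧
      ((Submodule.span R {x}).annihilator).radical = m.toIdeal) :
    GrLC.gam m.toIdeal M = ⊤ ∧
      ∀ (E : GrLC.StarInjRes 𝒜 ℳ) (q : ℕ), 1 ≤ q → Subsingleton (E.H m q) := by
  have hT : LocCoh.IsPowerTorsion m.toIdeal M := by
    intro x
    by_cases hx : x = 0
    · exact ⟨0, fun a _ => by rw [hx, smul_zero]⟩
    · obtain ⟨-, hrad⟩ := hstar x hx
      obtain ⟨k, hk⟩ := Ideal.exists_pow_le_of_le_radical_of_fg (le_of_eq hrad.symm)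
        (IsNoetherian.noetherian m.toIdeal)
      refine ⟨k, fun a ha => ?_⟩
      have := hk ha
      rw [Submodule.mem_annihilator_span_singleton] at this
      exact this
  refine ⟨?_, fun E q hq => ?_⟩
  · rw [eq_top_iff]
    intro x _
    exact hT x
  · obtain ⟨e⟩ := Groth.Agent.S13224.Aux.main 𝒜 m ℳ E q
    haveI : Subsingleton (LocCoh.H m.toIdeal q M) :=
      subsingleton_of_isPowerTorsion m.toIdeal q hq M hT
    exact e.toEquiv.subsingleton

end Aux

/-- Let R be a graded ring defined over a field, m = R_+, and M a graded R-module satisfying condition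
(*): for every nonzero x ∈ M the annihilator Ann_R(x) is an m-primary ideal. Then H^0_m(M) = M, i.e.
every element of M is killed by a power of m, and H^q_m(M) = 0 for every q ≠ 0 (graded local
cohomology, computed from any *injective resolution of M in the graded category). Here 'graded ring
defined over a field' means R = ⊕_{n ≥ 0} R_n is Noetherian with R_0 a field, and m = R_+ is its
unique graded maximal ideal. -/
theorem result (R : Type u) [CommRing R] [IsNoetherianRing R] (𝒜 : ℤ → AddSubgroup R) [GradedRing 𝒜] (hpos : ∀ n : ℤ, n < 0 → 𝒜 n = ⊥) (h0 : IsField (GrLC.deg0 𝒜)) (m : HomogeneousIdeal 𝒜) (hm : GrLC.IsStarLocal 𝒜 m) (hmsp : m.toIdeal = Ideal.span (⋃ n ∈ Set.Ioi (0 : ℤ), (𝒜 n : Set R))) (M : Type u) [AddCommGroup M] [Module R M] (ℳ : ℤ → AddSubgroup M) [DirectSum.Decomposition ℳ] [SetLike.GradedSMul 𝒜 ℳ] (hstar : ∀ x : M, x ≠ 0 → ((Submodule.span R {x}).annihilator).IsPrimary ∧ ((Submodule.span R {x}).annihilator).radical = m.toIdeal) : GrLC.gam m.toIdeal M = ⊤ ∧ ∀ (E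 : GrLC.StarInjRes 𝒜 ℳ) (q : ℕ), 1 ≤ q → Subsingleton (E.H m q) := by
  exact Aux.main 𝒜 m M ℳ hstar

end Groth.Agent.S18661
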