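import Groth.Statements.S18662
import Mathlib
import Groth.Prelude.Def_GrLC
import Groth.Agent.S13224
-- import your own Groth.Agent.* helpers here

set_option autoImplicit false
universe u
open GrLC

namespace Groth.Agent.S18662

namespace Aux
open Groth.Agent.Helper8.LC

theorem main {R : Type u} [CommRing R] [IsNoetherianRing R] (𝒜 : ℤ → AddSubgroup R) [GradedRing 𝒜]
    (m : HomogeneousIdeal 𝒜)
    (hmsp : m.toIdeal = Ideal.span (⋃ n ∈ Set.Ioi (0 : ℤ), (𝒜 n : Set R)))
    (M : Type u) [AddCommGroup M] [Module R M] (ℳ : ℤ → AddSubgroup M) [DirectSum.Decomposition ℳ]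
    [SetLike.GradedSMul 𝒜 ℳ] (d : ℤ) (hd : 0 < d) (f : R) (hf : f ∈ 𝒜 d)
    (hbij : Function.Bijective (fun x : M => f • x)) (E : GrLC.StarInjRes 𝒜 ℳ) (q : ℕ) :
    Subsingleton (E.H m q) := by
  have hfm : f ∈ m.toIdeal := by
    rw [hmsp]
    apply Ideal.subset_span
    exact Set.mem_biUnion (Set.mem_Ioi.mpr hd) hf
  have hb := smul_bijective_H m.toIdeal q M f hbij
  have hsub : Subsingleton (LocCoh.H m.toIdeal q M) := by
    refine ⟨fun x y => ?_⟩
    suffices h : ∀ z : LocCoh.H m.toIdeal q M, z = 0 by rw [h x, h y]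
    intro z
    obtain ⟨n, hn⟩ := isPowerTorsion m.toIdeal q (ModuleCat.of R M) z
    have h1 : f ^ n • z = 0 := hn _ (Ideal.pow_mem_pow hfm n)
    clear hn
    induction n with
    | zero => rwa [pow_zero, one_smul] at h1
    | succ k ih =>
      apply ih
      apply hb.1
      change f • (f ^ k • z) = f • (0 : LocCoh.H m.toIdeal q M)
      rw [smul_zero, smul_smul, ← pow_succ']
      exact h1
  obtain ⟨e⟩ := Groth.Agent.S13224.Aux.main 𝒜 m ℳ E q
  exact e.toEquiv.subsingleton

end Aux

/-- Let R be a graded ring defined over a field, m = R_+, and M a graded R-module satisfying condition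
(**): there is a homogeneous f ∈ R_d with d > 0 such that multiplication by f on M is bijective.
Then H^q_m(M) = 0 for every integer q (graded local cohomology, computed from any *injective
resolution of M in the graded category). Here 'graded ring defined over a field' means R = ⊕_{n ≥ 0}
R_n is Noetherian with R_0 a field, and m = R_+ is its unique graded maximal ideal. -/
theorem result (R : Type u) [CommRing R] [IsNoetherianRing R] (𝒜 : ℤ → AddSubgroup R) [GradedRing 𝒜] (hpos : ∀ n : ℤ, n < 0 → 𝒜 n = ⊥) (h0 : IsField (GrLC.deg0 𝒜)) (m : HomogeneousIdeal 𝒜) (hm : GrLC.IsStarLocal 𝒜 m) (hmsp : m.toIdeal = Ideal.span (⋃ n ∈ Set.Ioi (0 : ℤ), (𝒜 n : Set R))) (M : Type u) [AddCommGroup M] [Module R M] (ℳ : ℤ → AddSubgroup M) [DirectSum.Decomposition ℳ] [SetLike.GradedSMul 𝒜 ℳ] (d : ℤ) (hd : 0 < d) (f : R) (hf : f ∈ 𝒜 d) (hbij : Function.Bijective (fun x : M => f • x)) (E : GrLC.StarInjRes 𝒜 ℳ) (q : ℕ) : Subsingleton (E.H m q) := by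
  exact Aux.main 𝒜 m hmsp M ℳ d hd f hf hbij E q

end Groth.Agent.S18662
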