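import Groth.Statements.S18668
import Mathlib
import Groth.Prelude.Def_W4c6gradedringsgwSect
import Groth.Agent.Lib.Helper9.GrSect.Basic
-- import your own Groth.Agent.* helpers here

set_option autoImplicit false
universe u
open GrSect

namespace Groth.Agent.S18668

namespace Aux

open FunFld W4c6gradedringsgw Polynomial WithZero Groth.Agent.Lib.Helper4.FF Groth.Agent.Helper9.FFExt
open Groth.Agent.Helper9.GrSect

theorem const_of_mem {k K : Type*} [Field k] [IsAlgClosed k] [Field K] [Algebra k K]
    (hK : IsFunctionField k K) (hg : 1 ≤ genus k K) (P : Place k K) {a : K}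
    (ha : a ∈ L (((1 : ℕ) : ℤ) • (Finsupp.single P 1 : Divisor k K))) :
    ∃ c : k, a = algebraMap k K c := by
  rw [Nat.cast_one, one_smul] at ha
  have h1 : ell (Finsupp.single P 1 : Divisor k K) = 1 :=
    ell_single_one_of_pos_genus hK (by omega) P
  have hone : (1 : K) ∈ L (Finsupp.single P 1 : Divisor k K) := by
    have h0 : (1 : K) ∈ L (0 : Divisor k K) := by
      have := algebraMap_mem_L_zero (k := k) (K := K) 1
      rwa [map_one] at this
    have hle : L (0 : Divisor k K) ≤ L (Finsupp.single P 1 : Divisor k K) := by
      rw [← Finsupp.single_zero P]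
      exact L_single_mono P (by norm_num)
    exact hle h0
  have hne : (⟨1, hone⟩ : L (Finsupp.single P 1 : Divisor k K)) ≠ 0 := by
    intro h
    have := congrArg Subtype.val h
    exact one_ne_zero this
  obtain ⟨c, hc⟩ := (finrank_eq_one_iff_of_nonzero' _ hne).mp h1 ⟨a, ha⟩
  refine ⟨c, ?_⟩
  have := congrArg Subtype.val hc
  simp only [Submodule.coe_smul] at this
  rw [← this, Algebra.smul_def, mul_one]

theorem main (k : Type u) [Field k] [IsAlgClosed k] (K : Type u) [Field K] [Algebra k K]
    (hK : FunFld.IsFunctionField k K) (hg : 1 ≤ FunFld.genus k K) (P : FunFld.Place k K)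
    (t : ↥(sectRing (Finsupp.single P 1 : FunFld.Divisor k K))) (a : K) (ha : a ≠ 0)
    (ht : (t : Polynomial K) = Polynomial.C a * Polynomial.X) :
    Prime t ∧ Nonempty ((↥(sectRing (Finsupp.single P 1 : FunFld.Divisor k K)) ⧸ Ideal.span {t})
      ≃ₐ[k] AddMonoidAlgebra k ↥(AddSubmonoid.closure (poleOrders P))) := by
  have hP : P.deg = 1 := Place.deg_eq_one hK P
  obtain ⟨π, hπ⟩ := Place.exists_uniformizer P
  let R : RatData P := ⟨π, hπ, fun z hz => Place.exists_const_sub_lt P hP hz⟩
  have hamem : a ∈ L (((1 : ℕ) : ℤ) • (Finsupp.single P 1 : Divisor k K)) := by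
    have := t.2 1
    rwa [ht, coeff_C_mul, coeff_X_one, mul_one] at this
  obtain ⟨c, rfl⟩ := const_of_mem hK hg P hamem
  have hc : c ≠ 0 := by
    rintro rfl
    exact ha (map_zero _)
  have hker := ker_psi R hK t c hc ht
  have ht0 : t ≠ 0 := by
    intro h
    have h1 : (t : K[X]).coeff 1 = 0 := by rw [h]; rfl
    rw [ht, coeff_C_mul, coeff_X_one, mul_one] at h1
    exact ha h1
  constructor
  · rw [← Ideal.span_singleton_prime ht0, ← hker]
    exact RingHom.ker_isPrime _
  · have hker' : RingHom.ker (psi R).rangeRestrict = Ideal.span {t} := by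
      rw [← hker]
      ext p
      rw [RingHom.mem_ker, RingHom.mem_ker]
      constructor
      · intro h
        have := congrArg Subtype.val h
        exact this
      · intro h
        exact Subtype.ext h
    let e1 := Ideal.quotientEquivAlgOfEq k hker'.symm
    let e2 := Ideal.quotientKerAlgEquivOfSurjective (f := (psi R).rangeRestrict)
      (psi R).rangeRestrict_surjective
    let e3 := Subalgebra.equivOfEq _ _ (range_psi R hK hP)
    let e4 := (AlgEquiv.ofInjective (iota k (AddSubmonoid.closure (poleOrders P)))
      (iota_injective _)).symm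
    exact ⟨((e1.trans e2).trans e3).trans e4⟩

end Aux

/-- Let X be a complete smooth curve of genus g ≥ 1 over an algebraically closed field k, P a closed
point, R = R_{X,P} = ⊕_{n ≥ 0} H^0(X, O_X(nP)) and H = H_{X,P} its Weierstrass semigroup. For any
nonzero t of degree one in R, t is prime in R and the quotient R/tR is isomorphic to k[H], the
semigroup algebra of H. Here the complete smooth curve X over the algebraically closed field k is
given by its function field K/k (a function field of one variable in which k is algebraically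
closed), the closed point P by a place of K/k, g ≥ 1 is the genus, H^0(X, O_X(nP)) = L(nP), and
R_{X,P} = ⊕_{n ≥ 0} L(nP)·T^n is realised as the k-subalgebra of K[T] of polynomials whose
coefficient of T^n lies in L(nP); the Weierstrass semigroup H_{X,P} is the set of n ≥ 0 with ℓ(nP) =
ℓ((n−1)P) + 1. The isomorphism is stated as a k-algebra isomorphism with the semigroup algebra of
the additive submonoid of ℕ generated by H_{X,P} (which is H_{X,P} itself). -/
theorem result (k : Type u) [Field k] [IsAlgClosed k] (K : Type u) [Field K] [Algebra k K] (hK : FunFld.IsFunctionField k K) (hg : 1 ≤ FunFld.genus k K) (P : FunFld.Place k K) (t : ↥(W4c6gradedringsgw.sectRing (Finsupp.single P 1 : FunFld.Divisor k K))) (a : K) (ha : a ≠ 0) (ht : (t : Polynomial K) = Polynomial.C a * Polynomial.X) : Prime t ∧ Nonempty ((↥(W4c6gradedringsgw.sectRing (Finsupp.single P 1 : FunFld.Divisor k K)) ⧸ Ideal.span {t}) ≃ₐ[k] AddMonoidAlgebra k ↥(AddSubmonoid.closure (W4c6gradedringsgw.poleOrders P))) := by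
  exact Aux.main k K hK hg P t a ha ht

end Groth.Agent.S18668
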