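import Groth.Statements.S18672
import Mathlib
import Groth.Prelude.Def_GrLC
import Groth.Prelude.Def_CAlg
import Groth.Agent.Lib.Helper9.GrLC.Basic
-- import your own Groth.Agent.* helpers here

set_option autoImplicit false
universe u
open GrLC

namespace Groth.Agent.S18672

open DirectSum
namespace Aux
open Groth.Agent.Helper9.GrLCLib

section Std

variable {R : Type u} [CommRing R] (𝒜 : ℤ → AddSubgroup R) [GradedRing 𝒜]

/-- sums of products of elements of two pieces -/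
def prodSet (i j : ℤ) : AddSubgroup R :=
  AddSubgroup.closure {z | ∃ x ∈ 𝒜 i, ∃ y ∈ 𝒜 j, z = x * y}

lemma piece_succ_le
    (hstd : Ideal.span (⋃ n ∈ Set.Ioi (0 : ℤ), (𝒜 n : Set R)) = Ideal.span ((𝒜 1 : AddSubgroup R) : Set R))
    (n : ℤ) (hn : 0 ≤ n) {r : R} (hr : r ∈ 𝒜 (n + 1)) : r ∈ prodSet 𝒜 n 1 := by
  have hra : r ∈ Ideal.span (⋃ n ∈ Set.Ioi (0 : ℤ), (𝒜 n : Set R)) := by
    apply Ideal.subset_span
    exact Set.mem_biUnion (Set.mem_Ioi.mpr (by omega)) hr
  rw [hstd] at hra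
  obtain ⟨s, f, g, rfl⟩ := Submodule.mem_span_set'.mp hra
  have h1 := proj_of_mem_same 𝒜 hr
  rw [map_sum] at h1
  rw [← h1]
  refine AddSubgroup.sum_mem _ (fun i _ => ?_)
  have hg : ((g i : R)) ∈ 𝒜 1 := (g i).2
  rw [proj_smul_of_mem_right' 𝒜 𝒜 hg (f i) (n + 1), add_sub_cancel_right]
  exact AddSubgroup.subset_closure ⟨_, (decompose 𝒜 (f i) n).2, _, hg, rfl⟩

lemma piece_add_le
    (hstd : Ideal.span (⋃ n ∈ Set.Ioi (0 : ℤ), (𝒜 n : Set R)) = Ideal.span ((𝒜 1 : AddSubgroup R) : Set R))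
    (b : ℤ) (hb : 0 ≤ b) : ∀ (t : ℕ) {r : R}, r ∈ 𝒜 ((t : ℤ) + b) → r ∈ prodSet 𝒜 (t : ℤ) b := by
  intro t
  induction t with
  | zero =>
    intro r hr
    rw [Nat.cast_zero, zero_add] at hr
    exact AddSubgroup.subset_closure
      ⟨1, SetLike.GradedOne.one_mem (A := 𝒜), r, hr, (one_mul r).symm⟩
  | succ t ih =>
    intro r hr
    have e : ((t + 1 : ℕ) : ℤ) + b = ((t : ℤ) + b) + 1 := by push_cast; ring
    rw [e] at hr
    have h1 := piece_succ_le 𝒜 hstd ((t : ℤ) + b) (by positivity) hr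
    refine AddSubgroup.closure_induction (p := fun z _ => z ∈ prodSet 𝒜 ((t + 1 : ℕ) : ℤ) b)
      ?_ (zero_mem _) (fun _ _ _ _ h1 h2 => add_mem h1 h2) (fun _ _ h => neg_mem h) h1
    rintro z ⟨x, hx, y, hy, rfl⟩
    have h2 := ih hx
    refine AddSubgroup.closure_induction
      (p := fun w _ => w * y ∈ prodSet 𝒜 ((t + 1 : ℕ) : ℤ) b)
      ?_ (by rw [zero_mul]; exact zero_mem _)
      (fun _ _ _ _ h1 h2 => by rw [add_mul]; exact add_mem h1 h2)
      (fun _ _ h => by rw [neg_mul]; exact neg_mem h) h2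
    rintro w ⟨x', hx', y', hy', rfl⟩
    refine AddSubgroup.subset_closure ⟨x' * y, ?_, y', hy', by ring⟩
    have := SetLike.GradedMul.mul_mem (A := 𝒜) hx' hy
    have e2 : ((t + 1 : ℕ) : ℤ) = (t : ℤ) + 1 := by push_cast; ring
    rw [e2]
    exact this

end Std

theorem main (R : Type u) [CommRing R] (𝒜 : ℤ → AddSubgroup R) [GradedRing 𝒜] (hpos : ∀ n : ℤ, n < 0 → 𝒜 n = ⊥) (hstd : Ideal.span (⋃ n ∈ Set.Ioi (0 : ℤ), (𝒜 n : Set R)) = Ideal.span ((𝒜 1 : AddSubgroup R) : Set R)) (q : ℕ) (hq : 0 < q) (R' : Type u) [CommRing R'] (𝒜' : ℤ → AddSubgroup R') [GradedRing 𝒜'] (φ : R' →+* R) (hdeg : ∀ j : ℤ, (𝒜' j).map (φ : R' →+ R) = 𝒜 (j * q)) (a : ℤ) (M' : Type u) [AddCommGroup M'] [Module R' M'] (ℳ' : ℤ → AddSubgroup M') [DirectSum.Decomposition ℳ'] [SetLike.GradedSMul 𝒜' ℳ'] (g : M' →ₛₗ[φ] R) (hg : Function.Injective g) (hgdeg : ∀ j : ℤ, (ℳ' j).map (g : M' →+ R) = 𝒜 (a + j * q)) (j₀ : ℤ) (hj₀ : 0 ≤ a + j₀ * q) (hj₀' : a + (j₀ - 1) *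 q < 0) : Submodule.span R' ((ℳ' j₀ : AddSubgroup M') : Set M') = ⊤ := by
  rw [eq_top_iff]
  intro m' hm'
  clear hm'
  induction m' using DirectSum.Decomposition.inductionOn ℳ' with
  | zero => exact zero_mem _
  | add x y hx hy => exact add_mem hx hy
  | @homogeneous j m' =>
    have hgm : g (m' : M') ∈ 𝒜 (a + j * q) := by
      rw [← hgdeg j]
      exact ⟨m', m'.2, rfl⟩
    by_cases hj : j < j₀
    · have hneg : a + j * q < 0 := by
        have h1 : j * (q : ℤ) ≤ (j₀ - 1) * q := by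
          apply mul_le_mul_of_nonneg_right (by omega) (by positivity)
        omega
      rw [hpos _ hneg, AddSubgroup.mem_bot] at hgm
      have : (m' : M') = 0 := hg (hgm.trans (map_zero g).symm)
      rw [this]
      exact zero_mem _
    · have hjj : j₀ ≤ j := not_lt.mp hj
      obtain ⟨t, ht⟩ : ∃ t : ℕ, (t : ℤ) = (j - j₀) * q := by
        refine ⟨((j - j₀) * q).toNat, Int.toNat_of_nonneg ?_⟩
        apply mul_nonneg (by omega) (by positivity)
      have e : a + j * q = (t : ℤ) + (a + j₀ * q) := by rw [ht]; ring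
      rw [e] at hgm
      have h1 := piece_add_le 𝒜 hstd (a + j₀ * q) hj₀ t hgm
      -- the subgroup of elements of `R` hit by the span
      have key : ∀ z ∈ prodSet 𝒜 (t : ℤ) (a + j₀ * q),
          ∃ w ∈ Submodule.span R' ((ℳ' j₀ : AddSubgroup M') : Set M'), g w = z := by
        intro z hz
        refine AddSubgroup.closure_induction
          (p := fun z _ => ∃ w ∈ Submodule.span R' ((ℳ' j₀ : AddSubgroup M') : Set M'), g w = z)
          ?_ ⟨0, zero_mem _, map_zero g⟩ ?_ ?_ hz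
        · rintro _ ⟨x, hx, y, hy, rfl⟩
          rw [ht, ← hdeg (j - j₀)] at hx
          obtain ⟨r', hr', rfl⟩ := hx
          rw [← hgdeg j₀] at hy
          obtain ⟨m₀, hm₀, rfl⟩ := hy
          refine ⟨r' • m₀, Submodule.smul_mem _ _ (Submodule.subset_span hm₀), ?_⟩
          rw [map_smulₛₗ]
          rfl
        · rintro _ _ _ _ ⟨w, hw, rfl⟩ ⟨w', hw', rfl⟩
          exact ⟨w + w', add_mem hw hw', map_add g w w'⟩
        · rintro _ _ ⟨w, hw, rfl⟩
          exact ⟨-w, neg_mem hw, map_neg g w⟩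
      obtain ⟨w, hw, hgw⟩ := key _ h1
      have : (m' : M') = w := hg hgw.symm
      rw [this]
      exact hw

end Aux

/-- Let R be a graded ring defined over a field k = R_0 which is Cohen–Macaulay and generated over k by
R_1 (the standing hypotheses of this section; only generation in degree one is used), q ≥ 1, R' =
R^(q), and a an integer. Then the Veronese submodule [R(a)]^(q) = ⊕_j R_{a+jq} is generated over R'
by its piece R(a)_n = R_{a+n}, where n is the smallest multiple of q with n + a ≥ 0. Here 'graded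
ring defined over a field' means R = ⊕_{n ≥ 0} R_n is Noetherian with R_0 a field, and m = R_+ is
its unique graded maximal ideal. The Veronese subring R^(q) = ⊕_j R_{jq}, regraded by (R^(q))_j =
R_{jq}, is presented abstractly as a ℤ-graded ring R' with an injective ring homomorphism φ : R' → R
carrying R'_j onto R_{jq} for every j. The module [R(a)]^(q) is presented as a graded R'-module M'
with an injective additive map g : M' → R, semilinear over φ, carrying M'_j onto R_{a+jq} for every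
j; with n = j₀q, the conclusion is that the R'-span of M'_{j₀} is all of M'. -/
theorem result (R : Type u) [CommRing R] [LocCoh.IsCohenMacaulayRing R] (𝒜 : ℤ → AddSubgroup R) [GradedRing 𝒜] (hpos : ∀ n : ℤ, n < 0 → 𝒜 n = ⊥) (h0 : IsField (GrLC.deg0 𝒜)) (hstd : Ideal.span (⋃ n ∈ Set.Ioi (0 : ℤ), (𝒜 n : Set R)) = Ideal.span ((𝒜 1 : AddSubgroup R) : Set R)) (q : ℕ) (hq : 0 < q) (R' : Type u) [CommRing R'] (𝒜' : ℤ → AddSubgroup R') [GradedRing 𝒜'] (φ : R' →+* R) (hφ : Function.Injective φ) (hdeg : ∀ j : ℤ, (𝒜' j).map (φ : R' →+ R) = 𝒜 (j * q)) (a : ℤ) (M' : Type u) [AddCommGroup M'] [Module R' M'] (ℳ' : ℤ → AddSubgroup M') [DirectSum.Decomposition ℳ'] [SetLike.GradedSMul 𝒜' ℳ'] (g : M' →ₛₗ[φ] R) (hg : Function.Injective g) (hgdeg : ∀ j : ℤ, (ℳ' j).map (g : M' →+ R) = 𝒜 (a + j * q)) (j₀ : ℤ) (hj₀ : 0 ≤ a + j₀ * q) (hj₀' : a + (j₀ - 1) * q < 0) : Submodule.span R' ((ℳ' j₀ : AddSubgroup M') : Set M') = ⊤ := by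
  exact Aux.main R 𝒜 hpos hstd q hq R' 𝒜' φ hdeg a M' ℳ' g hg hgdeg j₀ hj₀ hj₀'

end Groth.Agent.S18672
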