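import Groth.Statements.S1869
import Mathlib
import Groth.Prelude.Def_CycAlg
import Groth.Agent.Lib.Helper9.SubQuotLen
-- import your own Groth.Agent.* helpers here

set_option autoImplicit false
universe u v
open CycAlg

namespace Groth.Agent.S1869

namespace Aux

open Groth.Agent.Helper9.SubQuotLen

variable {R : Type u} [CommRing R] {M₁ N₁ M₂ N₂ M₃ N₃ : Type v} [AddCommGroup M₁] [Module R M₁]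
  [AddCommGroup N₁] [Module R N₁] [AddCommGroup M₂] [Module R M₂] [AddCommGroup N₂] [Module R N₂]
  [AddCommGroup M₃] [Module R M₃] [AddCommGroup N₃] [Module R N₃]

theorem length_perH {M N : Type v} [AddCommGroup M] [Module R M] [AddCommGroup N] [Module R N]
    (φ : M →ₗ[R] N) (ψ : N →ₗ[R] M) :
    Module.length R (CycAlg.perH φ ψ) = sqLen (LinearMap.range ψ) (LinearMap.ker φ) := rfl

theorem half (φ₁ : M₁ →ₗ[R] N₁) (ψ₁ : N₁ →ₗ[R] M₁) (φ₂ : M₂ →ₗ[R] N₂) (ψ₂ : N₂ →ₗ[R] M₂)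
    (φ₃ : M₃ →ₗ[R] N₃) (ψ₃ : N₃ →ₗ[R] M₃)
    (h₁ : CycAlg.IsPeriodic φ₁ ψ₁) (h₂ : CycAlg.IsPeriodic φ₂ ψ₂) (h₃ : CycAlg.IsPeriodic φ₃ ψ₃)
    (f₁ : M₁ →ₗ[R] M₂) (g₁ : N₁ →ₗ[R] N₂) (f₂ : M₂ →ₗ[R] M₃) (g₂ : N₂ →ₗ[R] N₃)
    (cφ₁ : φ₂ ∘ₗ f₁ = g₁ ∘ₗ φ₁) (cψ₁ : ψ₂ ∘ₗ g₁ = f₁ ∘ₗ ψ₁) (cφ₂ : φ₃ ∘ₗ f₂ = g₂ ∘ₗ φ₂)
    (cψ₂ : ψ₃ ∘ₗ g₂ = f₂ ∘ₗ ψ₂) (hf₁ : Function.Injective f₁) (hg₁ : Function.Injective g₁)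
    (hf₂ : Function.Surjective f₂) (hg₂ : Function.Surjective g₂)
    (hM : LinearMap.range f₁ = LinearMap.ker f₂) (hN : LinearMap.range g₁ = LinearMap.ker g₂) :
    ∃ α β : ℕ∞,
      Module.length R (CycAlg.perH φ₂ ψ₂) = α + β ∧
      Module.length R (CycAlg.perH φ₁ ψ₁)
        = sqLen (LinearMap.ker ψ₂ ⊔ LinearMap.range g₁) ((LinearMap.range f₁).comap ψ₂) + β ∧
      Module.length R (CycAlg.perH φ₃ ψ₃)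
        = α + sqLen (LinearMap.ker φ₂ ⊔ LinearMap.range f₁) ((LinearMap.range g₁).comap φ₂) := by
  set K := LinearMap.range f₁ with hK
  set L := LinearMap.range g₁ with hL
  set Z := LinearMap.ker φ₂ with hZ
  set B := LinearMap.range ψ₂ with hB
  have hBZ : B ≤ Z := by
    rintro _ ⟨y, rfl⟩
    rw [hZ, LinearMap.mem_ker]
    exact LinearMap.congr_fun h₂.1 y
  have c1 : ∀ m, φ₂ (f₁ m) = g₁ (φ₁ m) := fun m => LinearMap.congr_fun cφ₁ m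
  have c2 : ∀ n, ψ₂ (g₁ n) = f₁ (ψ₁ n) := fun n => LinearMap.congr_fun cψ₁ n
  have c3 : ∀ m, φ₃ (f₂ m) = g₂ (φ₂ m) := fun m => LinearMap.congr_fun cφ₂ m
  have c4 : ∀ n, ψ₃ (g₂ n) = f₂ (ψ₂ n) := fun n => LinearMap.congr_fun cψ₂ n
  refine ⟨sqLen (B ⊔ K ⊓ Z) Z, sqLen B (K ⊓ Z), ?_, ?_, ?_⟩
  · -- H₂
    rw [length_perH, sqLen_add (le_sup_left : B ≤ B ⊔ K ⊓ Z) (sup_le hBZ inf_le_right), add_comm]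
    congr 1
    rw [sup_comm, sqLen_sup, inf_comm, sqLen_inf]
  · -- H₁
    rw [length_perH]
    have hle : LinearMap.range ψ₁ ≤ LinearMap.ker φ₁ := by
      rintro _ ⟨y, rfl⟩
      rw [LinearMap.mem_ker]
      exact LinearMap.congr_fun h₁.1 y
    rw [← sqLen_map f₁ hle (by rw [LinearMap.ker_eq_bot.mpr hf₁, bot_inf_eq]; exact bot_le)]
    have e1 : (LinearMap.ker φ₁).map f₁ = K ⊓ Z := by
      ext x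
      constructor
      · rintro ⟨m, hm, rfl⟩
        refine ⟨⟨m, rfl⟩, ?_⟩
        show f₁ m ∈ LinearMap.ker φ₂
        rw [LinearMap.mem_ker, c1, LinearMap.mem_ker.mp hm, map_zero]
      · rintro ⟨⟨m, rfl⟩, hx⟩
        refine ⟨m, ?_, rfl⟩
        have hx' : f₁ m ∈ LinearMap.ker φ₂ := hx
        rw [LinearMap.mem_ker, c1] at hx'
        show m ∈ LinearMap.ker φ₁
        rw [LinearMap.mem_ker]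
        exact hg₁ (by rw [hx', map_zero])
    have e2 : (LinearMap.range ψ₁).map f₁ = L.map ψ₂ := by
      ext x
      constructor
      · rintro ⟨_, ⟨n, rfl⟩, rfl⟩
        exact ⟨g₁ n, ⟨n, rfl⟩, c2 n⟩
      · rintro ⟨_, ⟨n, rfl⟩, rfl⟩
        exact ⟨ψ₁ n, ⟨n, rfl⟩, (c2 n).symm⟩
    rw [e1, e2]
    have hψL : L.map ψ₂ ≤ B ⊓ (K ⊓ Z) := by
      rintro _ ⟨_, ⟨n, rfl⟩, rfl⟩
      refine ⟨⟨g₁ n, rfl⟩, ⟨ψ₁ n, (c2 n).symm⟩, ?_⟩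
      exact hBZ ⟨g₁ n, rfl⟩
    rw [sqLen_add hψL inf_le_right, sqLen_inf]
    congr 1
    -- γ = δ'
    have hk : LinearMap.ker ψ₂ ⊓ K.comap ψ₂ ≤ LinearMap.ker ψ₂ ⊔ L := inf_le_left.trans le_sup_left
    have hle2 : LinearMap.ker ψ₂ ⊔ L ≤ K.comap ψ₂ := by
      apply sup_le
      · intro x hx
        rw [Submodule.mem_comap, LinearMap.mem_ker.mp hx]
        exact zero_mem _
      · rintro _ ⟨n, rfl⟩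
        rw [Submodule.mem_comap]
        exact ⟨ψ₁ n, (c2 n).symm⟩
    rw [← sqLen_map ψ₂ hle2 hk, Submodule.map_sup, Submodule.map_comap_eq]
    have : (LinearMap.ker ψ₂).map ψ₂ = ⊥ := by
      rw [eq_bot_iff]
      rintro _ ⟨x, hx, rfl⟩
      exact LinearMap.mem_ker.mp hx
    rw [this, bot_sup_eq]
    apply sqLen_congr rfl
    rw [← inf_assoc]
    exact inf_eq_left.mpr (inf_le_left.trans hBZ)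
  · -- H₃
    rw [length_perH]
    have hle : LinearMap.range ψ₃ ≤ LinearMap.ker φ₃ := by
      rintro _ ⟨y, rfl⟩
      rw [LinearMap.mem_ker]
      exact LinearMap.congr_fun h₃.1 y
    rw [← sqLen_comap f₂ hf₂ hle]
    have e1 : (LinearMap.ker φ₃).comap f₂ = L.comap φ₂ := by
      ext x
      rw [Submodule.mem_comap, Submodule.mem_comap, LinearMap.mem_ker, c3, hN, LinearMap.mem_ker]
    have e2 : (LinearMap.range ψ₃).comap f₂ = B ⊔ K := by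
      ext x
      rw [Submodule.mem_comap]
      constructor
      · rintro ⟨n₃, hn₃⟩
        obtain ⟨n, rfl⟩ := hg₂ n₃
        rw [c4] at hn₃
        have : x - ψ₂ n ∈ K := by
          rw [hM, LinearMap.mem_ker, map_sub, hn₃, sub_self]
        have hx : x = ψ₂ n + (x - ψ₂ n) := by abel
        rw [hx]
        exact Submodule.add_mem_sup ⟨n, rfl⟩ this
      · intro hx
        obtain ⟨b, ⟨n, rfl⟩, k, hk, rfl⟩ := Submodule.mem_sup.mp hx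
        rw [hM, LinearMap.mem_ker] at hk
        rw [map_add, hk, add_zero]
        exact ⟨g₂ n, c4 n⟩
    rw [e1, e2]
    have hKP : K ≤ L.comap φ₂ := by
      rintro _ ⟨m, rfl⟩
      rw [Submodule.mem_comap, c1]
      exact ⟨φ₁ m, rfl⟩
    have hZP : Z ≤ L.comap φ₂ := by
      intro x hx
      rw [Submodule.mem_comap, LinearMap.mem_ker.mp hx]
      exact zero_mem _
    rw [sqLen_add (sup_le_sup_right hBZ K) (sup_le hZP hKP)]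
    congr 1
    have : Z ⊔ K = Z ⊔ (B ⊔ K) := by
      rw [← sup_assoc, sup_eq_left.mpr hBZ]
    rw [this, sqLen_sup]
    apply sqLen_congr _ rfl
    rw [inf_comm, sup_inf_assoc_of_le K hBZ]

theorem arith (α β x y α' β' : ℕ∞) (h02 h01 h03 h12 h11 h13 : ℕ∞)
    (e02 : h02 = α + β) (e01 : h01 = x + β) (e03 : h03 = α + y)
    (e12 : h12 = α' + β') (e11 : h11 = y + β') (e13 : h13 = α' + x)
    (htwo : ((h01 < ⊤ ∧ h11 < ⊤) ∧ (h02 < ⊤ ∧ h12 < ⊤)) ∨ ((h01 < ⊤ ∧ h11 < ⊤) ∧ (h03 < ⊤ ∧ h13 < ⊤))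
      ∨ ((h02 < ⊤ ∧ h12 < ⊤) ∧ (h03 < ⊤ ∧ h13 < ⊤))) :
    (h01 < ⊤ ∧ h11 < ⊤) ∧ (h02 < ⊤ ∧ h12 < ⊤) ∧ (h03 < ⊤ ∧ h13 < ⊤) ∧
      ((h02.toNat : ℤ) - (h12.toNat : ℤ)) = ((h01.toNat : ℤ) - (h11.toNat : ℤ))
        + ((h03.toNat : ℤ) - (h13.toNat : ℤ)) := by
  subst e02 e01 e03 e12 e11 e13
  simp only [ENat.add_lt_top] at htwo
  have hfin : α < ⊤ ∧ β < ⊤ ∧ x < ⊤ ∧ y < ⊤ ∧ α' < ⊤ ∧ β' < ⊤ := by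
    rcases htwo with h | h | h <;> tauto
  obtain ⟨hα, hβ, hx, hy, hα', hβ'⟩ := hfin
  lift α to ℕ using hα.ne
  lift β to ℕ using hβ.ne
  lift x to ℕ using hx.ne
  lift y to ℕ using hy.ne
  lift α' to ℕ using hα'.ne
  lift β' to ℕ using hβ'.ne
  simp only [← Nat.cast_add, ENat.toNat_coe, ENat.coe_lt_top, and_self, true_and]
  push_cast
  ring

theorem main (φ₁ : M₁ →ₗ[R] N₁) (ψ₁ : N₁ →ₗ[R] M₁) (φ₂ : M₂ →ₗ[R] N₂) (ψ₂ : N₂ →ₗ[R] M₂)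
    (φ₃ : M₃ →ₗ[R] N₃) (ψ₃ : N₃ →ₗ[R] M₃)
    (h₁ : CycAlg.IsPeriodic φ₁ ψ₁) (h₂ : CycAlg.IsPeriodic φ₂ ψ₂) (h₃ : CycAlg.IsPeriodic φ₃ ψ₃)
    (f₁ : M₁ →ₗ[R] M₂) (g₁ : N₁ →ₗ[R] N₂) (f₂ : M₂ →ₗ[R] M₃) (g₂ : N₂ →ₗ[R] N₃)
    (cφ₁ : φ₂ ∘ₗ f₁ = g₁ ∘ₗ φ₁) (cψ₁ : ψ₂ ∘ₗ g₁ = f₁ ∘ₗ ψ₁) (cφ₂ : φ₃ ∘ₗ f₂ = g₂ ∘ₗ φ₂)
    (cψ₂ : ψ₃ ∘ₗ g₂ = f₂ ∘ₗ ψ₂) (hf₁ : Function.Injective f₁) (hg₁ : Function.Injective g₁)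
    (hf₂ : Function.Surjective f₂) (hg₂ : Function.Surjective g₂)
    (hM : LinearMap.range f₁ = LinearMap.ker f₂) (hN : LinearMap.range g₁ = LinearMap.ker g₂)
    (htwo : (CycAlg.FinCoh R φ₁ ψ₁ ∧ CycAlg.FinCoh R φ₂ ψ₂) ∨ (CycAlg.FinCoh R φ₁ ψ₁ ∧ CycAlg.FinCoh R φ₃ ψ₃) ∨ (CycAlg.FinCoh R φ₂ ψ₂ ∧ CycAlg.FinCoh R φ₃ ψ₃)) :
    CycAlg.FinCoh R φ₁ ψ₁ ∧ CycAlg.FinCoh R φ₂ ψ₂ ∧ CycAlg.FinCoh R φ₃ ψ₃ ∧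
      CycAlg.herbrand R φ₂ ψ₂ = CycAlg.herbrand R φ₁ ψ₁ + CycAlg.herbrand R φ₃ ψ₃ := by
  obtain ⟨α, β, e02, e01, e03⟩ := half φ₁ ψ₁ φ₂ ψ₂ φ₃ ψ₃ h₁ h₂ h₃ f₁ g₁ f₂ g₂ cφ₁ cψ₁ cφ₂ cψ₂
    hf₁ hg₁ hf₂ hg₂ hM hN
  obtain ⟨α', β', e12, e11, e13⟩ := half ψ₁ φ₁ ψ₂ φ₂ ψ₃ φ₃ ⟨h₁.2, h₁.1⟩ ⟨h₂.2, h₂.1⟩ ⟨h₃.2, h₃.1⟩
    g₁ f₁ g₂ f₂ cψ₁ cφ₁ cψ₂ cφ₂ hg₁ hf₁ hg₂ hf₂ hN hM
  exact arith α β _ _ α' β' _ _ _ _ _ _ e02 e01 e03 e12 e11 e13 htwo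

end Aux

/-- Let 0 → (M₁, N₁, φ₁, ψ₁) → (M₂, N₂, φ₂, ψ₂) → (M₃, N₃, φ₃, ψ₃) → 0 be a short exact sequence of
2-periodic complexes over a ring R (so the maps f_i : M₁ → M₂ → M₃ and g_i : N₁ → N₂ → N₃ commute
with the φ's and ψ's and both rows are short exact). If two of the three complexes have cohomology
modules of finite length then so does the third, and e_R of the middle one is the sum of e_R of the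
outer ones. -/
theorem result {R : Type u} [CommRing R] {M₁ N₁ M₂ N₂ M₃ N₃ : Type v} [AddCommGroup M₁] [Module R M₁] [AddCommGroup N₁] [Module R N₁] [AddCommGroup M₂] [Module R M₂] [AddCommGroup N₂] [Module R N₂] [AddCommGroup M₃] [Module R M₃] [AddCommGroup N₃] [Module R N₃] (φ₁ : M₁ →ₗ[R] N₁) (ψ₁ : N₁ →ₗ[R] M₁) (φ₂ : M₂ →ₗ[R] N₂) (ψ₂ : N₂ →ₗ[R] M₂) (φ₃ : M₃ →ₗ[R] N₃) (ψ₃ : N₃ →ₗ[R] M₃) (h₁ : CycAlg.IsPeriodic φ₁ ψ₁) (h₂ : CycAlg.IsPeriodic φ₂ ψ₂) (h₃ : CycAlg.IsPeriodic φ₃ ψ₃) (f₁ : M₁ →ₗ[R] M₂) (g₁ : N₁ →ₗ[R] N₂) (f₂ : M₂ →ₗ[R] M₃) (g₂ : N₂ →ₗ[R] N₃) (cφ₁ : φ₂ ∘ₗ f₁ = g₁ ∘ₗ φ₁) (cψ₁ : ψ₂ ∘ₗ g₁ = f₁ ∘ₗ ψ₁) (cφ₂ : φ₃ ∘ₗ f₂ = g₂ ∘ₗ φ₂) (cψ₂ : ψ₃ ∘ₗ g₂ = f₂ ∘ₗ ψ₂) (hf₁ : Function.Injective f₁) (hg₁ : Function.Injective g₁) (hf₂ : Function.Surjective f₂) (hg₂ : Function.Surjective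 g₂) (hM : LinearMap.range f₁ = LinearMap.ker f₂) (hN : LinearMap.range g₁ = LinearMap.ker g₂) (htwo : (CycAlg.FinCoh R φ₁ ψ₁ ∧ CycAlg.FinCoh R φ₂ ψ₂) ∨ (CycAlg.FinCoh R φ₁ ψ₁ ∧ CycAlg.FinCoh R φ₃ ψ₃) ∨ (CycAlg.FinCoh R φ₂ ψ₂ ∧ CycAlg.FinCoh R φ₃ ψ₃)) : CycAlg.FinCoh R φ₁ ψ₁ ∧ CycAlg.FinCoh R φ₂ ψ₂ ∧ CycAlg.FinCoh R φ₃ ψ₃ ∧ CycAlg.herbrand R φ₂ ψ₂ = CycAlg.herbrand R φ₁ ψ₁ + CycAlg.herbrand R φ₃ ψ₃ := by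
  exact Aux.main φ₁ ψ₁ φ₂ ψ₂ φ₃ ψ₃ h₁ h₂ h₃ f₁ g₁ f₂ g₂ cφ₁ cψ₁ cφ₂ cψ₂ hf₁ hg₁ hf₂ hg₂ hM hN htwo

end Groth.Agent.S1869
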