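import Groth.Statements.S1870
import Mathlib
import Groth.Prelude.Def_CycAlg
import Groth.Agent.Lib.Helper9.SubQuotLen2
import Groth.Agent.S1869
-- import your own Groth.Agent.* helpers here

set_option autoImplicit false
universe u v
open CycAlg

namespace Groth.Agent.S1870

namespace Aux

open Groth.Agent.Helper9.SubQuotLen

variable {R : Type u} [CommRing R]

/-- a periodic complex on a finite length module has zero Herbrand quotient -/
theorem finlen {X : Type v} [AddCommGroup X] [Module R X] (φ ψ : X →ₗ[R] X)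
    (h : CycAlg.IsPeriodic φ ψ) (hX : Module.length R X < ⊤) :
    CycAlg.FinCoh R φ ψ ∧ CycAlg.herbrand R φ ψ = 0 := by
  have hle1 : LinearMap.range ψ ≤ LinearMap.ker φ := by
    rintro _ ⟨y, rfl⟩
    rw [LinearMap.mem_ker]
    exact LinearMap.congr_fun h.1 y
  have hle2 : LinearMap.range φ ≤ LinearMap.ker ψ := by
    rintro _ ⟨y, rfl⟩
    rw [LinearMap.mem_ker]
    exact LinearMap.congr_fun h.2 y
  have e1 := length_ker_add_range φ
  have e2 := length_ker_add_range ψ
  have e3 := sqLen_add (bot_le : (⊥ : Submodule R X) ≤ LinearMap.range ψ) hle1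
  have e4 := sqLen_add (bot_le : (⊥ : Submodule R X) ≤ LinearMap.range φ) hle2
  rw [sqLen_bot_left, sqLen_bot_left] at e3 e4
  have l0 : Module.length R (CycAlg.perH φ ψ) = sqLen (LinearMap.range ψ) (LinearMap.ker φ) := rfl
  have l1 : Module.length R (CycAlg.perH ψ φ) = sqLen (LinearMap.range φ) (LinearMap.ker ψ) := rfl
  unfold CycAlg.FinCoh CycAlg.herbrand
  rw [l0, l1]
  generalize sqLen (LinearMap.range ψ) (LinearMap.ker φ) = a at *
  generalize sqLen (LinearMap.range φ) (LinearMap.ker ψ) = b at *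
  generalize Module.length R (LinearMap.ker φ) = kφ at *
  generalize Module.length R (LinearMap.ker ψ) = kψ at *
  generalize Module.length R (LinearMap.range φ) = rφ at *
  generalize Module.length R (LinearMap.range ψ) = rψ at *
  generalize Module.length R X = x at *
  subst e3 e4
  rw [e1] at hX
  have hX2 := hX
  rw [← e1, e2] at hX2
  simp only [ENat.add_lt_top] at hX hX2
  obtain ⟨⟨h1, h2⟩, h3⟩ := hX
  obtain ⟨⟨_, h4⟩, _⟩ := hX2
  lift a to ℕ using h2.ne
  lift b to ℕ using h4.ne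
  lift rφ to ℕ using h3.ne
  lift rψ to ℕ using h1.ne
  refine ⟨⟨ENat.coe_lt_top _, ENat.coe_lt_top _⟩, ?_⟩
  have : ((rψ + a + rφ : ℕ) : ℕ∞) = ((rφ + b + rψ : ℕ) : ℕ∞) := by
    push_cast
    rw [← e1, e2]
  have := ENat.coe_inj.mp this
  simp only [ENat.toNat_coe]
  omega

theorem main {M M' : Type v} [AddCommGroup M] [Module R M] [AddCommGroup M'] [Module R M']
    (φ ψ : M →ₗ[R] M) (φ' ψ' : M' →ₗ[R] M') (h : CycAlg.IsPeriodic φ ψ)
    (h' : CycAlg.IsPeriodic φ' ψ') (f : M →ₗ[R] M') (cφ : φ' ∘ₗ f = f ∘ₗ φ) (cψ : ψ' ∘ₗ f = f ∘ₗ ψ)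
    (hfin : CycAlg.FinCoh R φ ψ) (hfin' : CycAlg.FinCoh R φ' ψ')
    (hker : Module.length R (LinearMap.ker f) < ⊤)
    (hcoker : Module.length R (M' ⧸ LinearMap.range f) < ⊤) :
    CycAlg.herbrand R φ ψ = CycAlg.herbrand R φ' ψ' := by
  have c1 : ∀ x, φ' (f x) = f (φ x) := fun x => LinearMap.congr_fun cφ x
  have c2 : ∀ x, ψ' (f x) = f (ψ x) := fun x => LinearMap.congr_fun cψ x
  have p1 : ∀ x, φ (ψ x) = 0 := fun x => LinearMap.congr_fun h.1 x
  have p2 : ∀ x, ψ (φ x) = 0 := fun x => LinearMap.congr_fun h.2 x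
  have p1' : ∀ x, φ' (ψ' x) = 0 := fun x => LinearMap.congr_fun h'.1 x
  have p2' : ∀ x, ψ' (φ' x) = 0 := fun x => LinearMap.congr_fun h'.2 x
  have hφK : ∀ x ∈ LinearMap.ker f, φ x ∈ LinearMap.ker f := by
    intro x hx
    rw [LinearMap.mem_ker] at hx ⊢
    rw [← c1, hx, map_zero]
  have hψK : ∀ x ∈ LinearMap.ker f, ψ x ∈ LinearMap.ker f := by
    intro x hx
    rw [LinearMap.mem_ker] at hx ⊢
    rw [← c2, hx, map_zero]
  have hφI : ∀ y ∈ LinearMap.range f, φ' y ∈ LinearMap.range f := by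
    rintro _ ⟨x, rfl⟩
    exact ⟨φ x, (c1 x).symm⟩
  have hψI : ∀ y ∈ LinearMap.range f, ψ' y ∈ LinearMap.range f := by
    rintro _ ⟨x, rfl⟩
    exact ⟨ψ x, (c2 x).symm⟩
  let φK := φ.restrict hφK
  let ψK := ψ.restrict hψK
  let φI := φ'.restrict hφI
  let ψI := ψ'.restrict hψI
  let φC := (LinearMap.range f).mapQ (LinearMap.range f) φ' (fun y hy => hφI y hy)
  let ψC := (LinearMap.range f).mapQ (LinearMap.range f) ψ' (fun y hy => hψI y hy)
  have hK : CycAlg.IsPeriodic φK ψK := by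
    constructor
    · ext x; exact p1 x
    · ext x; exact p2 x
  have hI : CycAlg.IsPeriodic φI ψI := by
    constructor
    · ext x; exact p1' x
    · ext x; exact p2' x
  have hC : CycAlg.IsPeriodic φC ψC := by
    constructor
    · apply LinearMap.ext
      intro x
      obtain ⟨y, rfl⟩ := Submodule.Quotient.mk_surjective _ x
      show Submodule.Quotient.mk (φ' (ψ' y)) = 0
      rw [p1', Submodule.Quotient.mk_zero]
    · apply LinearMap.ext
      intro x
      obtain ⟨y, rfl⟩ := Submodule.Quotient.mk_surjective _ x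
      show Submodule.Quotient.mk (ψ' (φ' y)) = 0
      rw [p2', Submodule.Quotient.mk_zero]
  obtain ⟨fK, eK⟩ := finlen φK ψK hK hker
  obtain ⟨fC, eC⟩ := finlen φC ψC hC hcoker
  have A1 := Groth.Agent.S1869.Aux.main φK ψK φ ψ φI ψI hK h hI
    (LinearMap.ker f).subtype (LinearMap.ker f).subtype f.rangeRestrict f.rangeRestrict
    (by ext x; rfl) (by ext x; rfl)
    (by ext x; exact c1 x) (by ext x; exact c2 x)
    (Submodule.subtype_injective _) (Submodule.subtype_injective _)
    f.surjective_rangeRestrict f.surjective_rangeRestrict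
    (by rw [Submodule.range_subtype, LinearMap.ker_rangeRestrict])
    (by rw [Submodule.range_subtype, LinearMap.ker_rangeRestrict])
    (Or.inl ⟨fK, hfin⟩)
  have A2 := Groth.Agent.S1869.Aux.main φI ψI φ' ψ' φC ψC hI h' hC
    (LinearMap.range f).subtype (LinearMap.range f).subtype (LinearMap.range f).mkQ
    (LinearMap.range f).mkQ
    (by ext x; rfl) (by ext x; rfl)
    (by ext x; rfl) (by ext x; rfl)
    (Submodule.subtype_injective _) (Submodule.subtype_injective _)
    (Submodule.mkQ_surjective _) (Submodule.mkQ_surjective _)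
    (by rw [Submodule.range_subtype, Submodule.ker_mkQ])
    (by rw [Submodule.range_subtype, Submodule.ker_mkQ])
    (Or.inr (Or.inr ⟨hfin', fC⟩))
  rw [A1.2.2.2, A2.2.2.2, eK, eC, zero_add, add_zero]

end Aux

/-- A morphism of (2,1)-periodic complexes, both with finite-length cohomology, whose kernel and
cokernel have finite length does not change the additive Herbrand quotient: e_R(M, φ, ψ) = e_R(M',
φ', ψ'). -/
theorem result {R : Type u} [CommRing R] {M M' : Type v} [AddCommGroup M] [Module R M] [AddCommGroup M'] [Module R M'] (φ ψ : M →ₗ[R] M) (φ' ψ' : M' →ₗ[R] M') (h : CycAlg.IsPeriodic φ ψ) (h' : CycAlg.IsPeriodic φ' ψ') (f : M →ₗ[R] M') (cφ : φ' ∘ₗ f = f ∘ₗ φ) (cψ : ψ' ∘ₗ f = f ∘ₗ ψ) (hfin : CycAlg.FinCoh R φ ψ) (hfin' : CycAlg.FinCoh R φ' ψ') (hker : Module.length R (LinearMap.ker f) < ⊤) (hcoker : Module.length R (M' ⧸ LinearMap.range f) < ⊤) : CycAlg.herbrand R φ ψ = CycAlg.herbrand R φ' ψ' := by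
  exact Aux.main φ ψ φ' ψ' h h' f cφ cψ hfin hfin' hker hcoker

end Groth.Agent.S1870
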