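import Groth.Statements.S18709
import Groth.Agent.Lib.Helper8.Transp2

set_option autoImplicit false
universe u
open QGor

namespace Groth.Agent.S18709

/-- Affine form; the flatness and depth hypotheses of the printed lemma only serve to place the sequence
in the situation of the key proposition and are not needed for the existence. Let B be a Noetherian
ring, J an ideal and F a finite reflexive B-module with F_q free for every prime q not containing J.
Then there is an exact sequence 0 → F → Bⁿ → Bᵐ → G → 0 with G_q free for every prime q not
containing J. -/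
theorem result (B : Type u) [CommRing B] [IsNoetherianRing B]
    (J : Ideal B) (F : Type u) [AddCommGroup F] [Module B F] [Module.Finite B F] [Module.IsReflexive B F]
    (hU : ∀ q : PrimeSpectrum B, ¬ J ≤ q.asIdeal →
      Module.Free (Localization.AtPrime q.asIdeal) (LocalizedModule q.asIdeal.primeCompl F)) :
    ∃ (n m : ℕ) (g : F →ₗ[B] (Fin n → B)) (h : (Fin n → B) →ₗ[B] (Fin m → B)),
      Function.Injective g ∧ Function.Exact g h ∧
      ∀ q : PrimeSpectrum B, ¬ J ≤ q.asIdeal →
        Module.Free (Localization.AtPrime q.asIdeal)
          (LocalizedModule q.asIdeal.primeCompl ((Fin m → B) ⧸ LinearMap.range h)) := by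
  obtain ⟨n, m, u, ⟨e⟩, hC⟩ :=
    Groth.Agent.Helper8.Transp.exists_ker_equiv_dual_and_coker (A := B) (Module.Dual B F)
  let g : F →ₗ[B] (Fin n → B) :=
    (LinearMap.ker u).subtype ∘ₗ e.toLinearMap ∘ₗ (Module.evalEquiv B F).toLinearMap
  refine ⟨n, m + 1, g, u, ?_, ?_, ?_⟩
  · exact Subtype.val_injective.comp (e.injective.comp (Module.evalEquiv B F).injective)
  · intro y
    constructor
    · intro hy
      have hy' : y ∈ LinearMap.ker u := hy
      obtain ⟨z, hz⟩ := ((Module.evalEquiv B F).trans e).surjective ⟨y, hy'⟩
      exact ⟨z, congrArg Subtype.val hz⟩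
    · rintro ⟨z, rfl⟩
      exact (e ((Module.evalEquiv B F) z)).2
  · intro q hq
    haveI := hU q hq
    haveI : Module.Finite (Localization.AtPrime q.asIdeal)
        (LocalizedModule q.asIdeal.primeCompl F) :=
      Module.Finite.of_isLocalizedModule q.asIdeal.primeCompl
        (LocalizedModule.mkLinearMap q.asIdeal.primeCompl F)
    have hP : Module.Projective (Localization q.asIdeal.primeCompl)
        (LocalizedModule q.asIdeal.primeCompl (Module.Dual B F)) := by
      let e1 : LocalizedModule q.asIdeal.primeCompl (Module.Dual B F) ≃ₗ[B]
          Module.Dual (Localization q.asIdeal.primeCompl)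
            (LocalizedModule q.asIdeal.primeCompl F) :=
        IsLocalizedModule.iso q.asIdeal.primeCompl
          (Groth.Agent.Helper8.Refl.dualLoc q.asIdeal.primeCompl F)
      exact Module.Projective.of_equiv
        (e1.extendScalarsOfIsLocalization q.asIdeal.primeCompl
          (Localization q.asIdeal.primeCompl)).symm
    haveI := hC q.asIdeal.primeCompl hP
    haveI : Module.Finite (Localization.AtPrime q.asIdeal)
        (LocalizedModule q.asIdeal.primeCompl ((Fin (m + 1) → B) ⧸ LinearMap.range u)) :=
      Module.Finite.of_isLocalizedModule q.asIdeal.primeCompl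
        (LocalizedModule.mkLinearMap q.asIdeal.primeCompl _)
    exact Module.free_of_flat_of_isLocalRing

end Groth.Agent.S18709
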