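import Groth.Statements.S18710
import Groth.Agent.Lib.Helper8.FlatDepth2

set_option autoImplicit false
universe u
open QGor

namespace Groth.Agent.S18710

open TensorProduct in
/-- Affine form. Let A → B be a flat homomorphism of Noetherian rings and I an ideal of A with V(I)
contained in the image of Spec B → Spec A (every prime containing I is a contraction of a prime of
B). Then ht(IB) = ht(I) (codimension of the preimage equals codimension), and for every finite
A-module G one has depth_{IB} (B ⊗_A G) = depth_I G. -/
theorem result (A B : Type u) [CommRing A] [CommRing B]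
    [IsNoetherianRing A] [IsNoetherianRing B] [Algebra A B] [Module.Flat A B] (I : Ideal A)
    (hI : ∀ p : PrimeSpectrum A, I ≤ p.asIdeal → ∃ q : PrimeSpectrum B, q.asIdeal.comap (algebraMap A B) = p.asIdeal)
    (G : Type u) [AddCommGroup G] [Module A G] [Module.Finite A G] :
    (I.map (algebraMap A B)).height = I.height ∧
    LocCoh.idealDepth (I.map (algebraMap A B)) (B ⊗[A] G) = LocCoh.idealDepth I G := by
  have hI' : ∀ p : Ideal A, p.IsPrime → I ≤ p → ∃ q : Ideal B, q.IsPrime ∧
      q.comap (algebraMap A B) = p := by
    intro p hp hIp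
    obtain ⟨q, hq⟩ := hI ⟨p, hp⟩ hIp
    exact ⟨q.asIdeal, q.2, hq⟩
  exact ⟨Groth.Agent.Helper8.FlatDepth.height_map_eq_of_cover A B I hI',
    Groth.Agent.Helper8.FlatDepth.idealDepth_baseChange_eq_of_cover A B I hI' G⟩

end Groth.Agent.S18710
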