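import Groth.Statements.S18711
import Groth.Agent.Lib.Helper8.QGorBC2
import Groth.Agent.S18702
import Groth.Agent.S18703

set_option autoImplicit false
universe u
open QGor

namespace Groth.Agent.S18711

open TensorProduct in
/-- Affine form. Let A → B be a flat homomorphism of Noetherian rings, J an ideal of B such that for
every prime q ⊇ J with contraction p the fibre local ring B_q/pB_q has depth ≥ 2, A → A′ a
homomorphism of Noetherian rings and B′ = A′ ⊗_A B the (Noetherian) pushout. Let 0 → F → E⁰ → E¹ → G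
→ 0 be an exact sequence of finite B-modules with E⁰, E¹ projective and F_q, G_q free for every
prime q not containing J. Then F is reflexive; the kernel K′ of B′ ⊗_B E⁰ → B′ ⊗_B E¹ is a reflexive
B′-module with depth_{JB′} K′ ≥ 2 (so it is the module of sections of the pull-back of F off
V(JB′)); and K′ is flat over A′ with depth ≥ 2 along JB′ on every fibre stalk K′_{q′}/p′K′_{q′} if
and only if B′ ⊗_B G is flat over A′. (The published statement phrases the last left-hand condition
as the relative S₂ condition of K′ over A′; the two agree when the fibres of Spec B′ → Spec A′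
satisfy S₂ off V(JB′), and without that the relative S₂ form fails already for A = A′ a field, J =
B, F = E⁰ = B not S₂ and E¹ = G = 0, so the fibrewise-depth form, which is what the proof
establishes, is stated.) -/
theorem result (A B : Type u) [CommRing A] [CommRing B] [IsNoetherianRing A] [IsNoetherianRing B] [Algebra A B]
    (A' B' : Type u) [CommRing A'] [CommRing B'] [IsNoetherianRing A'] [IsNoetherianRing B']
    [Algebra A A'] [Algebra B B'] [Algebra A' B'] [Algebra A B'] [IsScalarTower A B B'] [IsScalarTower A A' B']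
    [Algebra.IsPushout A B A' B'] [Module.Flat A B] (J : Ideal B)
    (hZ : ∀ q : PrimeSpectrum B, J ≤ q.asIdeal →
      2 ≤ LocCoh.idealDepth (q.asIdeal.map (algebraMap B (EGA4.FibLocRing A B q.asIdeal))) (EGA4.FibLocRing A B q.asIdeal))
    (F E0 E1 G : Type u) [AddCommGroup F] [Module B F] [Module.Finite B F]
    [AddCommGroup E0] [Module B E0] [Module.Finite B E0] [Module.Projective B E0]
    [AddCommGroup E1] [Module B E1] [Module.Finite B E1] [Module.Projective B E1]
    [AddCommGroup G] [Module B G] [Module.Finite B G]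
    (f : F →ₗ[B] E0) (u : E0 →ₗ[B] E1) (v : E1 →ₗ[B] G)
    (hf : Function.Injective f) (hfu : Function.Exact f u) (huv : Function.Exact u v) (hv : Function.Surjective v)
    (hFU : ∀ q : PrimeSpectrum B, ¬ J ≤ q.asIdeal → Module.Free (Localization.AtPrime q.asIdeal) (LocalizedModule q.asIdeal.primeCompl F))
    (hGU : ∀ q : PrimeSpectrum B, ¬ J ≤ q.asIdeal → Module.Free (Localization.AtPrime q.asIdeal) (LocalizedModule q.asIdeal.primeCompl G)) :
    Module.IsReflexive B F ∧
    Module.IsReflexive B' (LinearMap.ker (u.baseChange B')) ∧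
    2 ≤ LocCoh.idealDepth (J.map (algebraMap B B')) (LinearMap.ker (u.baseChange B')) ∧
    ((∀ q' : PrimeSpectrum B', FlatCA.FlatAt A' q'.asIdeal (LinearMap.ker (u.baseChange B')) ∧
        2 ≤ LocCoh.idealDepth ((J.map (algebraMap B B')).map (algebraMap B' (EGA4.FibLocRing A' B' q'.asIdeal)))
          (EGA4.FibLocMod A' B' q'.asIdeal (LinearMap.ker (u.baseChange B')))) ↔
      Module.Flat A' (B' ⊗[B] G)) := by
  classical
  -- depth of the rings
  have hB2 : 2 ≤ LocCoh.idealDepth J B :=
    Groth.Agent.Helper8.FibMod.le_idealDepth_self_of_fibres A B J 2 hZ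
  have hB1 : 1 ≤ LocCoh.idealDepth J B := le_trans (by norm_num) hB2
  haveI hpo : Algebra.IsPushout A A' B B' := Algebra.IsPushout.symm inferInstance
  haveI hflatB' : Module.Flat A' B' :=
    Module.Flat.isBaseChange (R := A) (M := B) (S := A') B'
      (Algebra.IsPushout.out : IsBaseChange A' (IsScalarTower.toAlgHom A B B').toLinearMap)
  have hZ' : ∀ q' : PrimeSpectrum B', J.map (algebraMap B B') ≤ q'.asIdeal →
      2 ≤ LocCoh.idealDepth (q'.asIdeal.map (algebraMap B' (EGA4.FibLocRing A' B' q'.asIdeal)))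
        (EGA4.FibLocRing A' B' q'.asIdeal) := by
    intro q' hq'
    have hJq : J ≤ q'.asIdeal.comap (algebraMap B B') := Ideal.map_le_iff_le_comap.mp hq'
    exact le_trans (hZ ⟨q'.asIdeal.comap (algebraMap B B'), inferInstance⟩ hJq)
      (Groth.Agent.Helper8.FibBC.idealDepth_fibLocRing_le A B A' B' q'.asIdeal _ rfl)
  have hB'2 : 2 ≤ LocCoh.idealDepth (J.map (algebraMap B B')) B' :=
    Groth.Agent.Helper8.FibMod.le_idealDepth_self_of_fibres A' B' _ 2 hZ'
  have hB'1 : 1 ≤ LocCoh.idealDepth (J.map (algebraMap B B')) B' := le_trans (by norm_num) hB'2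
  -- part 1
  have hF : Module.IsReflexive B F := by
    have hE0 : 2 ≤ LocCoh.idealDepth J E0 := (Groth.Agent.S18702.result B J E0).2.1 hB2
    have hE1 : 1 ≤ LocCoh.idealDepth J E1 := (Groth.Agent.S18702.result B J E1).1 hB1
    have hK : 2 ≤ LocCoh.idealDepth J (LinearMap.ker u) :=
      (Groth.Agent.Helper8.Depth.idealDepth_ker J u).2 hE0 hE1
    let e : F ≃ₗ[B] LinearMap.ker u :=
      (LinearEquiv.ofInjective f hf).trans (LinearEquiv.ofEq _ _ (LinearMap.exact_iff.mp hfu).symm)
    rw [← Groth.Agent.Helper8.Depth.idealDepth_congr e] at hK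
    refine Groth.Agent.S18703.result B J hB1 F ?_ hK
    intro q hq
    haveI := hFU q hq
    infer_instance
  -- the base-changed sequence
  have huv' : Function.Exact (u.baseChange B') (v.baseChange B') := by
    have := lTensor_exact B' huv hv
    exact this
  have hv' : Function.Surjective (v.baseChange B') := LinearMap.lTensor_surjective B' hv
  have hE0' : 2 ≤ LocCoh.idealDepth (J.map (algebraMap B B')) (B' ⊗[B] E0) :=
    (Groth.Agent.S18702.result B' (J.map (algebraMap B B')) (B' ⊗[B] E0)).2.1 hB'2
  have hE1' : 1 ≤ LocCoh.idealDepth (J.map (algebraMap B B')) (B' ⊗[B] E1) :=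
    (Groth.Agent.S18702.result B' (J.map (algebraMap B B')) (B' ⊗[B] E1)).1 hB'1
  have hK' : 2 ≤ LocCoh.idealDepth (J.map (algebraMap B B')) (LinearMap.ker (u.baseChange B')) :=
    (Groth.Agent.Helper8.Depth.idealDepth_ker (J.map (algebraMap B B')) (u.baseChange B')).2
      hE0' hE1'
  have hGfree : ∀ q' : PrimeSpectrum B', ¬ J.map (algebraMap B B') ≤ q'.asIdeal →
      Module.Free (Localization.AtPrime q'.asIdeal)
        (LocalizedModule q'.asIdeal.primeCompl (B' ⊗[B] G)) := by
    intro q' hq'
    haveI := hGU ⟨q'.asIdeal.comap (algebraMap B B'), inferInstance⟩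
      (fun h => hq' (Ideal.map_le_iff_le_comap.mpr h))
    exact Groth.Agent.Helper8.FibBC.free_localizedModule_baseChange B B' q'.asIdeal
      (q'.asIdeal.comap (algebraMap B B')) rfl G
  have hKrefl : Module.IsReflexive B' (LinearMap.ker (u.baseChange B')) := by
    refine Groth.Agent.S18703.result B' (J.map (algebraMap B B')) hB'1 _ ?_ hK'
    intro q' hq'
    haveI := hGfree q' hq'
    haveI := Groth.Agent.Helper8.QGorBC.projective_localizedModule_ker q'.asIdeal.primeCompl
      (u.baseChange B') (v.baseChange B') huv' hv'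
    infer_instance
  refine ⟨hF, hKrefl, hK', ?_⟩
  -- part 4
  haveI : Module.Flat A' (B' ⊗[B] E0) := Module.Flat.trans A' B' (B' ⊗[B] E0)
  haveI : Module.Flat A' (B' ⊗[B] E1) := Module.Flat.trans A' B' (B' ⊗[B] E1)
  have hGU'' : ∀ q'' : PrimeSpectrum B', ¬ J.map (algebraMap B B') ≤ q''.asIdeal →
      FlatCA.FlatAt A' q''.asIdeal (B' ⊗[B] G) := by
    intro q'' hq''
    haveI := hGfree q'' hq''
    unfold FlatCA.FlatAt
    exact Module.Flat.trans A' (Localization.AtPrime q''.asIdeal) _
  have hloc : ∀ q' : PrimeSpectrum B',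
      (2 ≤ LocCoh.idealDepth ((J.map (algebraMap B B')).map
          (algebraMap B' (EGA4.FibLocRing A' B' q'.asIdeal)))
          (EGA4.FibLocMod A' B' q'.asIdeal (LinearMap.ker (u.baseChange B'))) ↔
        FlatCA.FlatAt A' q'.asIdeal (B' ⊗[B] G)) ∧
      (FlatCA.FlatAt A' q'.asIdeal (B' ⊗[B] G) →
        FlatCA.FlatAt A' q'.asIdeal (LinearMap.ker (u.baseChange B'))) := by
    intro q'
    have hFD : 2 ≤ LocCoh.idealDepth ((J.map (algebraMap B B')).map
        (algebraMap B' (Localization.AtPrime q'.asIdeal))) (EGA4.FibLocRing A' B' q'.asIdeal) := by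
      rw [Groth.Agent.Helper8.FibBC.idealDepth_fibLocRing_eq']
      exact Groth.Agent.Helper8.FibBC.le_idealDepth_fibLocRing_of_fibres A' B' _ 2 hZ' q'.asIdeal
    haveI : Module.Free (Localization.AtPrime q'.asIdeal)
        (LocalizedModule q'.asIdeal.primeCompl (B' ⊗[B] E0)) :=
      Module.free_of_flat_of_isLocalRing (R := Localization.AtPrime q'.asIdeal)
        (P := LocalizedModule q'.asIdeal.primeCompl (B' ⊗[B] E0))
    haveI : Module.Free (Localization.AtPrime q'.asIdeal)
        (LocalizedModule q'.asIdeal.primeCompl (B' ⊗[B] E1)) :=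
      Module.free_of_flat_of_isLocalRing (R := Localization.AtPrime q'.asIdeal)
        (P := LocalizedModule q'.asIdeal.primeCompl (B' ⊗[B] E1))
    have h0 : 2 ≤ LocCoh.idealDepth ((J.map (algebraMap B B')).map
        (algebraMap B' (Localization.AtPrime q'.asIdeal)))
        (EGA4.FibLocMod A' B' q'.asIdeal (B' ⊗[B] E0)) :=
      le_trans hFD (Groth.Agent.Helper8.QGorBC.idealDepth_fibLocRing_le_fibLocMod_of_free A' B'
        q'.asIdeal (B' ⊗[B] E0) _)
    have h1 : 1 ≤ LocCoh.idealDepth ((J.map (algebraMap B B')).map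
        (algebraMap B' (Localization.AtPrime q'.asIdeal)))
        (EGA4.FibLocMod A' B' q'.asIdeal (B' ⊗[B] E1)) :=
      le_trans (le_trans (by norm_num) hFD)
        (Groth.Agent.Helper8.QGorBC.idealDepth_fibLocRing_le_fibLocMod_of_free A' B'
        q'.asIdeal (B' ⊗[B] E1) _)
    have key := Groth.Agent.Helper8.QGorBC.fourTerm_at_prime A' B' q'.asIdeal
      (J.map (algebraMap B B')) (LinearMap.ker (u.baseChange B')) (B' ⊗[B] E0) (B' ⊗[B] E1)
      (B' ⊗[B] G) (LinearMap.ker (u.baseChange B')).subtype (u.baseChange B')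
      (v.baseChange B') (Submodule.subtype_injective _) (LinearMap.exact_subtype_ker_map _)
      huv' hv' (fun q'' _ h => hGU'' q'' h) h0 h1
    rw [Groth.Agent.Helper8.FibBC.idealDepth_fibLocMod_eq'] at key
    exact key
  constructor
  · intro h
    apply Module.flat_of_isLocalized_maximal B' (B' ⊗[B] G)
      (fun P _ => LocalizedModule P.primeCompl (B' ⊗[B] G))
      (fun P _ => LocalizedModule.mkLinearMap P.primeCompl (B' ⊗[B] G))
    intro P hP
    exact ((hloc ⟨P, hP.isPrime⟩).1.mp (h ⟨P, hP.isPrime⟩).2)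
  · intro h q'
    haveI := h
    have hG : FlatCA.FlatAt A' q'.asIdeal (B' ⊗[B] G) := by
      unfold FlatCA.FlatAt
      exact Groth.Agent.Helper8.FibMod.flat_of_isLocalizedModule q'.asIdeal.primeCompl
        (LocalizedModule.mkLinearMap q'.asIdeal.primeCompl (B' ⊗[B] G))
    exact ⟨(hloc q').2 hG, (hloc q').1.mpr hG⟩

end Groth.Agent.S18711
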