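import Groth.Statements.S18718
import Groth.Agent.Lib.Helper8.FibBC2
import Groth.Agent.Lib.Helper8.DDualBC1
import Groth.Agent.S18703

set_option autoImplicit false
universe u
open QGor

namespace Groth.Agent.S18718

open TensorProduct in
/-- Affine form. Let A → B be a flat homomorphism of Noetherian rings, J an ideal of B such that the
fibre local ring B_q/pB_q has depth ≥ 2 at every prime q ⊇ J (p its contraction), A → A′ a
homomorphism of Noetherian rings with Noetherian pushout B′ = A′ ⊗_A B, and F a finite B-module with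
F_q free for every prime q not containing J. Then depth_J (F^∨∨) ≥ 2 (the double dual is the module
of sections of F off V(J)); the natural map (B′ ⊗_B F)^∨∨ → (B′ ⊗_B F^∨∨)^∨∨ obtained by dualising
twice the base change of F → F^∨∨ is bijective; and if moreover F is flat over A and the fibre
stalks F_q/pF_q have depth ≥ 2 at all primes q ⊇ J, then F and B′ ⊗_B F are reflexive. -/
theorem result (A B : Type u) [CommRing A] [CommRing B] [IsNoetherianRing A] [IsNoetherianRing B] [Algebra A B]
    (A' B' : Type u) [CommRing A'] [CommRing B'] [IsNoetherianRing A'] [IsNoetherianRing B']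
    [Algebra A A'] [Algebra B B'] [Algebra A' B'] [Algebra A B'] [IsScalarTower A B B'] [IsScalarTower A A' B']
    [Algebra.IsPushout A B A' B'] [Module.Flat A B] (J : Ideal B)
    (hZ : ∀ q : PrimeSpectrum B, J ≤ q.asIdeal →
      2 ≤ LocCoh.idealDepth (q.asIdeal.map (algebraMap B (EGA4.FibLocRing A B q.asIdeal))) (EGA4.FibLocRing A B q.asIdeal))
    (F : Type u) [AddCommGroup F] [Module B F] [Module A F] [IsScalarTower A B F] [Module.Finite B F]
    (hFU : ∀ q : PrimeSpectrum B, ¬ J ≤ q.asIdeal → Module.Free (Localization.AtPrime q.asIdeal) (LocalizedModule q.asIdeal.primeCompl F)) :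
    2 ≤ LocCoh.idealDepth J (Module.Dual B (Module.Dual B F)) ∧
    Function.Bijective (((Module.Dual.eval B F).baseChange B').dualMap.dualMap) ∧
    (Module.Flat A F →
      (∀ q : PrimeSpectrum B, J ≤ q.asIdeal →
        2 ≤ LocCoh.idealDepth (q.asIdeal.map (algebraMap B (EGA4.FibLocRing A B q.asIdeal))) (EGA4.FibLocMod A B q.asIdeal F)) →
      Module.IsReflexive B F ∧ Module.IsReflexive B' (B' ⊗[B] F)) := by
  classical
  have hB2 : 2 ≤ LocCoh.idealDepth J B :=
    Groth.Agent.Helper8.FibMod.le_idealDepth_self_of_fibres A B J 2 hZ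
  haveI hpo : Algebra.IsPushout A A' B B' := Algebra.IsPushout.symm inferInstance
  haveI hflatB' : Module.Flat A' B' :=
    Module.Flat.isBaseChange (R := A) (M := B) (S := A') B'
      (Algebra.IsPushout.out : IsBaseChange A' (IsScalarTower.toAlgHom A B B').toLinearMap)
  have hZ' : ∀ q' : PrimeSpectrum B', J.map (algebraMap B B') ≤ q'.asIdeal →
      2 ≤ LocCoh.idealDepth (q'.asIdeal.map (algebraMap B' (EGA4.FibLocRing A' B' q'.asIdeal)))
        (EGA4.FibLocRing A' B' q'.asIdeal) := by
    intro q' hq'
    have hJq : J ≤ q'.asIdeal.comap (algebraMap B B') := Ideal.map_le_iff_le_comap.mp hq'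
    exact le_trans (hZ ⟨q'.asIdeal.comap (algebraMap B B'), inferInstance⟩ hJq)
      (Groth.Agent.Helper8.FibBC.idealDepth_fibLocRing_le A B A' B' q'.asIdeal _ rfl)
  have hB'2 : 2 ≤ LocCoh.idealDepth (J.map (algebraMap B B')) B' :=
    Groth.Agent.Helper8.FibMod.le_idealDepth_self_of_fibres A' B' _ 2 hZ'
  have hrefl : ∀ q : PrimeSpectrum B, ¬ J ≤ q.asIdeal →
      Module.IsReflexive (Localization.AtPrime q.asIdeal)
        (LocalizedModule q.asIdeal.primeCompl F) := by
    intro q hq
    haveI := hFU q hq
    infer_instance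
  refine ⟨Groth.Agent.Helper8.DDualBC.two_le_idealDepth_dual J hB2 _, ?_, ?_⟩
  · have hbij := Groth.Agent.Helper8.DDualBC.dualMap_baseChange_bijective (B' := B') J
      (Module.Dual.eval B F) hB'2
      (fun p hp x hx => Groth.Agent.Helper8.Refl.exists_smul_eq_zero_of_eval_eq_zero
        (hrefl p hp).bijective_dual_eval'.1 x hx)
      (fun p hp y => Groth.Agent.Helper8.Refl.exists_smul_mem_range_eval
        (hrefl p hp).bijective_dual_eval'.2 y)
    exact (LinearEquiv.ofBijective _ hbij).dualMap.bijective
  · intro hflat hfib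
    haveI := hflat
    have hB1 : 1 ≤ LocCoh.idealDepth J B := le_trans (by norm_num) hB2
    have hF2 : 2 ≤ LocCoh.idealDepth J F :=
      Groth.Agent.Helper8.FibMod.le_idealDepth_of_fibres A B F J 2 hfib
    refine ⟨Groth.Agent.S18703.result B J hB1 F hrefl hF2, ?_⟩
    have hB'1 : 1 ≤ LocCoh.idealDepth (J.map (algebraMap B B')) B' :=
      le_trans (by norm_num) hB'2
    haveI : Module.Flat A' (B' ⊗[B] F) :=
      Module.Flat.of_linearEquiv (Algebra.IsPushout.cancelBaseChange A A' B B' F)
    have hF'2 : 2 ≤ LocCoh.idealDepth (J.map (algebraMap B B')) (B' ⊗[B] F) := by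
      apply Groth.Agent.Helper8.FibMod.le_idealDepth_of_fibres A' B' (B' ⊗[B] F) _ 2
      intro q' hq'
      have hJq : J ≤ q'.asIdeal.comap (algebraMap B B') := Ideal.map_le_iff_le_comap.mp hq'
      exact le_trans (hfib ⟨q'.asIdeal.comap (algebraMap B B'), inferInstance⟩ hJq)
        (Groth.Agent.Helper8.FibBC.idealDepth_fibLocMod_le A B A' B' q'.asIdeal _ rfl F)
    apply Groth.Agent.S18703.result B' (J.map (algebraMap B B')) hB'1 (B' ⊗[B] F) ?_ hF'2
    intro q' hq'
    haveI := hFU ⟨q'.asIdeal.comap (algebraMap B B'), inferInstance⟩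
      (Groth.Agent.Helper8.DDualBC.not_le_comap J hq')
    haveI := Groth.Agent.Helper8.FibBC.free_localizedModule_baseChange B B' q'.asIdeal
      (q'.asIdeal.comap (algebraMap B B')) rfl F
    infer_instance

end Groth.Agent.S18718
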