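import Groth.Statements.S18725
import Groth.Agent.Lib.Helper8.QGorBC2
import Groth.Agent.S0387

set_option autoImplicit false
universe u
open QGor

namespace Groth.Agent.S18725

/-- Affine form of the equivalence (c) ⇔ (d). Let A → B be a homomorphism of finite type between
Noetherian rings, J an ideal of B and 0 → F → E⁰ → E¹ → G → 0 an exact sequence of finite B-modules
such that E⁰, E¹ are flat over A, G_q is flat over A for every prime q not containing J, and for
every prime q ⊇ J with contraction p the fibre stalk E⁰_q/pE⁰_q has depth ≥ 2 and E¹_q/pE¹_q has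
depth ≥ 1. Then for a prime n of B the following are equivalent: G is flat over A at n; there is a
basic open neighbourhood D(s) of n such that at every prime q ∈ D(s) the module F is flat over A at
q and, if q ⊇ J, the fibre stalk F_q/pF_q has depth ≥ 2 (the restriction maps of the fibres of F off
V(J) are bijective on D(s)). -/
theorem result (A B : Type u) [CommRing A] [CommRing B]
    [IsNoetherianRing A] [IsNoetherianRing B] [Algebra A B] (hft : Algebra.FiniteType A B) (J : Ideal B)
    (F E0 E1 G : Type u) [AddCommGroup F] [Module B F] [Module A F] [IsScalarTower A B F] [Module.Finite B F]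
    [AddCommGroup E0] [Module B E0] [Module A E0] [IsScalarTower A B E0] [Module.Finite B E0] [Module.Flat A E0]
    [AddCommGroup E1] [Module B E1] [Module A E1] [IsScalarTower A B E1] [Module.Finite B E1] [Module.Flat A E1]
    [AddCommGroup G] [Module B G] [Module A G] [IsScalarTower A B G] [Module.Finite B G]
    (f : F →ₗ[B] E0) (u : E0 →ₗ[B] E1) (v : E1 →ₗ[B] G)
    (hf : Function.Injective f) (hfu : Function.Exact f u) (huv : Function.Exact u v) (hv : Function.Surjective v)
    (hGU : ∀ q : PrimeSpectrum B, ¬ J ≤ q.asIdeal → FlatCA.FlatAt A q.asIdeal G)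
    (h0 : ∀ q : PrimeSpectrum B, J ≤ q.asIdeal →
      2 ≤ LocCoh.idealDepth (q.asIdeal.map (algebraMap B (EGA4.FibLocRing A B q.asIdeal))) (EGA4.FibLocMod A B q.asIdeal E0))
    (h1 : ∀ q : PrimeSpectrum B, J ≤ q.asIdeal →
      1 ≤ LocCoh.idealDepth (q.asIdeal.map (algebraMap B (EGA4.FibLocRing A B q.asIdeal))) (EGA4.FibLocMod A B q.asIdeal E1))
    (n : PrimeSpectrum B) :
    FlatCA.FlatAt A n.asIdeal G ↔
      ∃ s : B, s ∉ n.asIdeal ∧ ∀ q : PrimeSpectrum B, s ∉ q.asIdeal →
        FlatCA.FlatAt A q.asIdeal F ∧
        (J ≤ q.asIdeal →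
          2 ≤ LocCoh.idealDepth (q.asIdeal.map (algebraMap B (EGA4.FibLocRing A B q.asIdeal))) (EGA4.FibLocMod A B q.asIdeal F)) := by
  classical
  -- the local criterion at a prime `q ⊇ J` with `J' = q`
  have key : ∀ q : PrimeSpectrum B, J ≤ q.asIdeal →
      (∀ q'' : PrimeSpectrum B, q''.asIdeal < q.asIdeal → FlatCA.FlatAt A q''.asIdeal G) →
      ((2 ≤ LocCoh.idealDepth (q.asIdeal.map (algebraMap B (EGA4.FibLocRing A B q.asIdeal)))
          (EGA4.FibLocMod A B q.asIdeal F) ↔ FlatCA.FlatAt A q.asIdeal G) ∧
        (FlatCA.FlatAt A q.asIdeal G → FlatCA.FlatAt A q.asIdeal F)) := by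
    intro q hJq hlt
    have h := Groth.Agent.Helper8.QGorBC.fourTerm_at_prime A B q.asIdeal q.asIdeal F E0 E1 G
      f u v hf hfu huv hv
      (fun q'' hle hnot => hlt q'' (lt_of_le_of_ne hle (fun heq => hnot (le_of_eq heq.symm))))
      (by
        rw [Groth.Agent.Helper8.FibBC.idealDepth_fibLocMod_eq' A B q.asIdeal q.asIdeal E0]
        exact h0 q hJq)
      (by
        rw [Groth.Agent.Helper8.FibBC.idealDepth_fibLocMod_eq' A B q.asIdeal q.asIdeal E1]
        exact h1 q hJq)
    rw [Groth.Agent.Helper8.FibBC.idealDepth_fibLocMod_eq' A B q.asIdeal q.asIdeal F] at h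
    exact h
  constructor
  · intro hn
    -- openness of the flat locus of `G`
    haveI : Algebra.FinitePresentation A B := Algebra.FinitePresentation.of_finiteType.mp hft
    haveI : Module.FinitePresentation B G := Module.finitePresentation_of_finite B G
    have hopen : IsOpen {q : PrimeSpectrum B |
        Module.Flat A (LocalizedModule q.asIdeal.primeCompl G)} :=
      Groth.Agent.S0387.result
    have hmem : n ∈ {q : PrimeSpectrum B |
        Module.Flat A (LocalizedModule q.asIdeal.primeCompl G)} := hn
    obtain ⟨_, ⟨s, rfl⟩, hns, hsub⟩ :=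
      PrimeSpectrum.isTopologicalBasis_basic_opens.exists_subset_of_mem_open hmem hopen
    refine ⟨s, hns, fun q hq => ?_⟩
    have hGq : FlatCA.FlatAt A q.asIdeal G := hsub hq
    have hlt : ∀ q'' : PrimeSpectrum B, q''.asIdeal < q.asIdeal →
        FlatCA.FlatAt A q''.asIdeal G := by
      intro q'' hq''
      apply hsub
      change s ∉ q''.asIdeal
      exact fun hs => hq (hq''.le hs)
    constructor
    · -- flatness of `F` at `q`
      unfold FlatCA.FlatAt at hGq ⊢
      haveI := hGq
      haveI : Module.Flat A (LocalizedModule q.asIdeal.primeCompl E0) :=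
        Groth.Agent.Helper8.FibMod.flat_of_isLocalizedModule q.asIdeal.primeCompl
          (LocalizedModule.mkLinearMap q.asIdeal.primeCompl E0)
      haveI : Module.Flat A (LocalizedModule q.asIdeal.primeCompl E1) :=
        Groth.Agent.Helper8.FibMod.flat_of_isLocalizedModule q.asIdeal.primeCompl
          (LocalizedModule.mkLinearMap q.asIdeal.primeCompl E1)
      exact Groth.Agent.Helper8.FourTerm.flat_ker_of_flat (A := A)
        (Groth.Agent.Helper8.QGorBC.locMap q.asIdeal.primeCompl f)
        (Groth.Agent.Helper8.QGorBC.locMap q.asIdeal.primeCompl u)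
        (Groth.Agent.Helper8.QGorBC.locMap q.asIdeal.primeCompl v)
        (Groth.Agent.Helper8.QGorBC.locMap_injective q.asIdeal.primeCompl f hf)
        (Groth.Agent.Helper8.QGorBC.locMap_exact q.asIdeal.primeCompl f u hfu)
        (Groth.Agent.Helper8.QGorBC.locMap_exact q.asIdeal.primeCompl u v huv)
        (Groth.Agent.Helper8.QGorBC.locMap_surjective q.asIdeal.primeCompl v hv)
    · intro hJq
      exact (key q hJq hlt).1.mpr hGq
  · rintro ⟨s, hsn, hs⟩
    -- induction on the height of the primes below `n`
    have hind : ∀ k : ℕ, ∀ q : PrimeSpectrum B, q.asIdeal.height = k →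
        q.asIdeal ≤ n.asIdeal → FlatCA.FlatAt A q.asIdeal G := by
      intro k
      induction k using Nat.strong_induction_on with
      | _ k ih =>
        intro q hk hqn
        by_cases hJq : J ≤ q.asIdeal
        · have hsq : s ∉ q.asIdeal := fun h => hsn (hqn h)
          have hlt : ∀ q'' : PrimeSpectrum B, q''.asIdeal < q.asIdeal →
              FlatCA.FlatAt A q''.asIdeal G := by
            intro q'' hq''
            have hfin : q''.asIdeal.height ≠ ⊤ := Ideal.height_ne_top q''.2.ne_top
            obtain ⟨j, hj⟩ := ENat.ne_top_iff_exists.mp hfin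
            have hlt' : q''.asIdeal.height < q.asIdeal.height :=
              Ideal.height_strict_mono_of_isPrime_of_isPrime hq''
            rw [hk, ← hj] at hlt'
            exact ih j (by exact_mod_cast hlt') q'' hj.symm (hq''.le.trans hqn)
          exact (key q hJq hlt).1.mp ((hs q hsq).2 hJq)
        · exact hGU q hJq
    have hfin : n.asIdeal.height ≠ ⊤ := Ideal.height_ne_top n.2.ne_top
    obtain ⟨j, hj⟩ := ENat.ne_top_iff_exists.mp hfin
    exact hind j n hj.symm le_rfl

end Groth.Agent.S18725
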