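import Groth.Statements.S18731
import Mathlib
import Groth.Agent.Lib.Helper4.EffCartier

set_option autoImplicit false
universe u
open CategoryTheory CategoryTheory.Limits AlgebraicGeometry TopologicalSpace
open ModPair

namespace Groth.Agent.S18731

open CategoryTheory CategoryTheory.Limits AlgebraicGeometry TopologicalSpace
namespace H18731
open Groth.Agent.Helper4

theorem nzd_of_mem_span {R : Type*} [CommRing R] (s a : R) (hs : s ∈ nonZeroDivisors R)
    (h : s ∈ Ideal.span {a}) : a ∈ nonZeroDivisors R := by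
  obtain ⟨c, hc⟩ := Ideal.mem_span_singleton'.mp h
  rw [← hc] at hs
  exact (mul_mem_nonZeroDivisors.mp hs).2

theorem main {X Y : Scheme.{u}} (I : X.IdealSheafData)
    (J : Y.IdealSheafData) (hI : BlowUp.IsEffCartierIdeal I) (hJ : BlowUp.IsEffCartierIdeal J)
    (f : X ⟶ Y) (hf : ModPair.IsAmbient I J f) : BlowUp.IsEffCartierIdeal (J.comap f) := by
  intro x
  obtain ⟨V, hxV, t, ht, hJt⟩ := hJ (f x)
  have hxfV : x ∈ f ⁻¹ᵁ V.1 := hxV
  obtain ⟨U, hxU, hUV, s, hs, hIs⟩ := EffCartier.shrink hI x (f ⁻¹ᵁ V.1) hxfV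
  have hcomap := IdealComap.ideal_comap_eq_map f J U V hUV
  rw [hJt, Ideal.map_span, Set.image_singleton] at hcomap
  refine ⟨U, hxU, (f.appLE V.1 U.1 hUV).hom t, ?_, hcomap⟩
  have hle : I.ideal U ≤ (J.comap f).ideal U := hf U
  have hmem : s ∈ (J.comap f).ideal U := hle (hIs ▸ Ideal.subset_span rfl)
  rw [hcomap] at hmem
  exact nzd_of_mem_span s _ hs hmem

end H18731

/-- Let I on X and J on Y be quasi-coherent ideal sheaves of effective Cartier divisors and f : X ⟶ Y a
morphism satisfying the modulus condition I ≤ J.comap f (the closed subscheme J ×_Y X of X lies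
inside the closed subscheme cut out by I). Then the pull-back of the divisor of J along f is
defined: J.comap f is the ideal sheaf of an effective Cartier divisor on X. -/
theorem result {X Y : Scheme.{u}} (I : X.IdealSheafData)
    (J : Y.IdealSheafData) (hI : BlowUp.IsEffCartierIdeal I) (hJ : BlowUp.IsEffCartierIdeal J)
    (f : X ⟶ Y) (hf : ModPair.IsAmbient I J f) : BlowUp.IsEffCartierIdeal (J.comap f) := by
  exact H18731.main I J hI hJ f hf

end Groth.Agent.S18731
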