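import Groth.Statements.S18732
import Mathlib
import Groth.Agent.Lib.Helper4.EffCartier

set_option autoImplicit false
universe u
open CategoryTheory CategoryTheory.Limits AlgebraicGeometry TopologicalSpace
open ModPair

namespace Groth.Agent.S18732

open CategoryTheory CategoryTheory.Limits AlgebraicGeometry TopologicalSpace
namespace H18732
open Groth.Agent.Helper4

theorem inj_of_inj_le {X : Scheme.{u}} {A B C : X.Opens} (hBA : B ≤ A) (hCA : C ≤ A) (hCB : C ≤ B)
    (h : Function.Injective (X.presheaf.map (homOfLE hCA).op).hom) :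
    Function.Injective (X.presheaf.map (homOfLE hBA).op).hom := by
  have e : X.presheaf.map (homOfLE hCA).op =
      X.presheaf.map (homOfLE hBA).op ≫ X.presheaf.map (homOfLE hCB).op := by
    rw [← Functor.map_comp]; rfl
  rw [e, CommRingCat.hom_comp, RingHom.coe_comp] at h
  exact Function.Injective.of_comp h

theorem isUnit_res_of_le_basicOpen {X : Scheme.{u}} {O C : X.Opens} (a : Γ(X, O)) (hle : C ≤ O)
    (hCb : C ≤ X.basicOpen a) : IsUnit ((X.presheaf.map (homOfLE hle).op).hom a) := by
  have h1 := X.toRingedSpace.isUnit_res_basicOpen a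
  have e : (X.presheaf.map (homOfLE hle).op).hom a =
      (X.presheaf.map (homOfLE hCb).op).hom
        ((X.presheaf.map (homOfLE (X.basicOpen_le a)).op).hom a) := by
    rw [← CommRingCat.comp_apply, ← Functor.map_comp]
    rfl
  rw [e]
  exact h1.map (X.presheaf.map (homOfLE hCb).op).hom

theorem main {X X' : Scheme.{u}}
    (I : X.IdealSheafData) (hI : BlowUp.IsEffCartierIdeal I) (f : X' ⟶ X)
    [IsSchemeTheoreticallyDominant (f ⁻¹ᵁ ModPair.interior I).ι] :
    (∀ W : X'.Opens, IsSchemeTheoreticallyDominant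
        (X'.homOfLE (inf_le_right : f ⁻¹ᵁ ModPair.interior I ⊓ W ≤ W))) ∧
      BlowUp.IsEffCartierIdeal (I.comap f) := by
  let U : X.Opens := ModPair.interior I
  let U' : X'.Opens := f ⁻¹ᵁ U
  have hUaff : IsAffineHom U.ι := EffCartier.isAffineHom_compl hI
  have hU'aff : IsAffineHom U'.ι :=
    MorphismProperty.of_isPullback (P := @IsAffineHom) (isPullback_morphismRestrict f U) hUaff
  have hinj : ∀ A : X'.Opens, ∀ (hle : U'.ι ''ᵁ U'.ι ⁻¹ᵁ A ≤ A),
      Function.Injective (X'.presheaf.map (homOfLE hle).op).hom := by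
    intro A hle
    have := Scheme.Hom.app_injective U'.ι A
    rw [Scheme.Opens.ι_app] at this
    exact this
  constructor
  · intro W
    rw [isSchemeTheoreticallyDominant_iff, eq_bot_iff]
    intro O
    refine (Scheme.Hom.ideal_ker_le _ O).trans ?_
    rw [Scheme.IdealSheafData.ideal_bot, Pi.bot_apply, le_bot_iff,
      ← RingHom.injective_iff_ker_eq_bot, Scheme.homOfLE_app]
    have hle : U'.ι ''ᵁ U'.ι ⁻¹ᵁ (W.ι ''ᵁ O.1) ≤ W.ι ''ᵁ O.1 := Scheme.Hom.image_preimage_le _ _
    refine inj_of_inj_le _ hle ?_ (hinj _ hle)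
    rw [Scheme.ι_image_homOfLE_eq_ι_image_inf, Scheme.Hom.image_preimage_eq_opensRange_inf,
      Scheme.Opens.opensRange_ι]
    have hAW : W.ι ''ᵁ O.1 ≤ W := by
      rintro _ ⟨z, -, rfl⟩
      exact z.2
    exact le_inf inf_le_right (le_inf inf_le_left (inf_le_right.trans hAW))
  · intro x'
    obtain ⟨V, hxV, t, ht, hIt⟩ := hI (f x')
    have hxfV : x' ∈ f ⁻¹ᵁ V.1 := hxV
    obtain ⟨O, hO, hxO, hOV⟩ := Opens.isBasis_iff_nbhd.mp (X'.isBasis_affineOpens) hxfV
    have hcomap := IdealComap.ideal_comap_eq_map f I ⟨O, hO⟩ V hOV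
    rw [hIt, Ideal.map_span, Set.image_singleton] at hcomap
    refine ⟨⟨O, hO⟩, hxO, _, ?_, hcomap⟩
    rw [mem_nonZeroDivisors_iff_right]
    intro s hs
    have hle : U'.ι ''ᵁ U'.ι ⁻¹ᵁ O ≤ O := Scheme.Hom.image_preimage_le _ _
    apply hinj O hle
    rw [map_zero]
    -- on `C`, `φ t` is a unit
    have hCb : U'.ι ''ᵁ U'.ι ⁻¹ᵁ O ≤ X'.basicOpen ((f.appLE V.1 O hOV).hom t) := by
      rw [Scheme.basicOpen_appLE]
      rintro _ ⟨y, hy, rfl⟩
      refine ⟨hy, ?_⟩
      show f y.1 ∈ X.basicOpen t
      have hfyV : f y.1 ∈ V.1 := hOV hy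
      exact (EffCartier.mem_basicOpen_iff_not_mem_support V t hIt (f y.1) hfyV).mpr y.2
    have hunit : IsUnit ((X'.presheaf.map (homOfLE hle).op).hom ((f.appLE V.1 O hOV).hom t)) := by
      exact isUnit_res_of_le_basicOpen _ hle hCb
    have h0 : (X'.presheaf.map (homOfLE hle).op).hom s *
        (X'.presheaf.map (homOfLE hle).op).hom ((f.appLE V.1 O hOV).hom t) = 0 := by
      rw [← map_mul, hs, map_zero]
    exact (hunit.mul_left_eq_zero).mp h0

end H18732

/-- Let X be a scheme, I the quasi-coherent ideal sheaf of an effective Cartier divisor on X with open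
complement U, and f : X' ⟶ X a morphism of schemes for which the open immersion of f⁻¹(U) into X'
has all of X' as its scheme-theoretic image. Then f⁻¹(U) is scheme-theoretically dense in X' (for
every open W of X' the inclusion of f⁻¹(U) ∩ W into W is scheme-theoretically dominant), and the
closed subscheme of X' pulled back from the divisor of I is an effective Cartier divisor: I.comap f
is the ideal sheaf of an effective Cartier divisor. -/
theorem result {X X' : Scheme.{u}}
    (I : X.IdealSheafData) (hI : BlowUp.IsEffCartierIdeal I) (f : X' ⟶ X)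
    [IsSchemeTheoreticallyDominant (f ⁻¹ᵁ ModPair.interior I).ι] :
    (∀ W : X'.Opens, IsSchemeTheoreticallyDominant
        (X'.homOfLE (inf_le_right : f ⁻¹ᵁ ModPair.interior I ⊓ W ≤ W))) ∧
      BlowUp.IsEffCartierIdeal (I.comap f) := by
  exact H18732.main I hI f

end Groth.Agent.S18732
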