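import Groth.Statements.S19341
import Mathlib
import Groth.Agent.Lib.Helper4.EffCartier
import Groth.Agent.S18731

set_option autoImplicit false
universe u
open CategoryTheory CategoryTheory.Limits AlgebraicGeometry TopologicalSpace
open ModPair

namespace Groth.Agent.S19341

open CategoryTheory CategoryTheory.Limits AlgebraicGeometry TopologicalSpace
namespace H19341
open Groth.Agent.Helper4

/-- if both pulled back moduli are effective Cartier then the product interior is
scheme-theoretically dense and `mprodι` is an isomorphism -/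
theorem isIso_mprodι {X T S : Scheme.{u}} (IX : X.IdealSheafData) (IT : T.IdealSheafData)
    (f : X ⟶ S) (g : T ⟶ S)
    (h₁ : BlowUp.IsEffCartierIdeal (IX.comap (pullback.fst f g)))
    (h₂ : BlowUp.IsEffCartierIdeal (IT.comap (pullback.snd f g))) :
    IsSchemeTheoreticallyDominant (ModPair.prodInterior f g IX IT).ι ∧
      IsIso (ModPair.mprodι f g IX IT) := by
  have hmul := EffCartier.mul h₁ h₂
  have hdom : IsSchemeTheoreticallyDominant (ModPair.prodInterior f g IX IT).ι := by
    apply EffCartier.dominant_of_compl_le hmul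
    intro x hx
    rw [Scheme.IdealSheafData.support_mul, Scheme.IdealSheafData.support_comap,
      Scheme.IdealSheafData.support_comap] at hx
    constructor
    · intro h; exact hx (Or.inl h)
    · intro h; exact hx (Or.inr h)
  refine ⟨hdom, ?_⟩
  show IsIso (ModPair.prodInterior f g IX IT).ι.ker.subschemeι
  rw [Scheme.isIso_subschemeι_iff_eq_bot]
  exact hdom.ker_eq_bot

theorem main {X T S : Scheme.{u}}
    (IS : S.IdealSheafData) (IX : X.IdealSheafData) (IT : T.IdealSheafData)
    (hS : BlowUp.IsEffCartierIdeal IS) (hX : BlowUp.IsEffCartierIdeal IX)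
    (hT : BlowUp.IsEffCartierIdeal IT) (f : X ⟶ S) (g : T ⟶ S)
    (hf : ModPair.IsAmbient IX IS f) (hg : ModPair.IsAmbient IT IS g)
    (h₁ : BlowUp.IsEffCartierIdeal (IX.comap (pullback.fst f g)))
    (h₂ : BlowUp.IsEffCartierIdeal (IT.comap (pullback.snd f g))) :
    BlowUp.IsEffCartierIdeal (IS.comap (pullback.fst f g ≫ f)) ∧
      IsIso (ModPair.mprodι f g IX IT) := by
  refine ⟨?_, (isIso_mprodι IX IT f g h₁ h₂).2⟩
  apply Groth.Agent.S18731.result (IX.comap (pullback.fst f g)) IS h₁ hS
  show IX.comap (pullback.fst f g) ≤ IS.comap (pullback.fst f g ≫ f)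
  rw [Scheme.IdealSheafData.comap_comp]
  exact Scheme.IdealSheafData.comap_mono _ hf

end H19341

/-- Let (S, I_S), (X, I_X), (T, I_T) be modulus pairs, i.e. schemes with quasi-coherent ideal sheaves of
effective Cartier divisors, and f : X ⟶ S, g : T ⟶ S morphisms satisfying the modulus conditions I_X
≤ I_S.comap f and I_T ≤ I_S.comap g. Suppose that the pulled-back ideals I_X.comap pr₁ and I_T.comap
pr₂ on X ×_S T are again ideal sheaves of effective Cartier divisors. Then the pulled-back base
modulus I_S.comap (pr₁ ≫ f) is also the ideal sheaf of an effective Cartier divisor, and the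
scheme-theoretic closure of pr₁⁻¹(X°) ∩ pr₂⁻¹(T°) is all of X ×_S T: its closed immersion into X ×_S
T is an isomorphism. Consequently the box product of (X, I_X) and (T, I_T) over (S, I_S) has total
space X ×_S T with modulus D_X + D_T − D_S. -/
theorem result {X T S : Scheme.{u}}
    (IS : S.IdealSheafData) (IX : X.IdealSheafData) (IT : T.IdealSheafData)
    (hS : BlowUp.IsEffCartierIdeal IS) (hX : BlowUp.IsEffCartierIdeal IX)
    (hT : BlowUp.IsEffCartierIdeal IT) (f : X ⟶ S) (g : T ⟶ S)
    (hf : ModPair.IsAmbient IX IS f) (hg : ModPair.IsAmbient IT IS g)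
    (h₁ : BlowUp.IsEffCartierIdeal (IX.comap (pullback.fst f g)))
    (h₂ : BlowUp.IsEffCartierIdeal (IT.comap (pullback.snd f g))) :
    BlowUp.IsEffCartierIdeal (IS.comap (pullback.fst f g ≫ f)) ∧
      IsIso (ModPair.mprodι f g IX IT) := by
  exact H19341.main IS IX IT hS hX hT f g hf hg h₁ h₂

end Groth.Agent.S19341
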