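import Groth.Statements.S18778
import Mathlib
import Groth.Agent.Lib.Lead.CV6

set_option autoImplicit false
universe u
open CategoryTheory CategoryTheory.Limits AlgebraicGeometry
open VBCurve

namespace Groth.Agent.S18778

/-- Let k be a finite field and C a smooth proper geometrically integral curve over k (proper, smooth
and geometrically integral over k, of dimension one) of genus one, i.e. dim_k H^1(C, O_C) = 1, with
a k-rational point O (an elliptic curve over k). Let G be a finite locally free O_C-module of rank r
≥ 1 and degree 0, where the degree of a rank-n locally free module H is χ(H) − n·χ(O_C), which is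
semistable: deg H · r ≤ deg G · rk H = 0 for every finite locally free submodule H of G of positive
rank. Then dim_k H^0(C, G) ≤ r. -/
theorem result (k : Type u) [Field k] [Finite k] (X : Scheme.{u}) [X.Over (Spec (CommRingCat.of k))]
    [IsProper (X ↘ Spec (CommRingCat.of k))] [Smooth (X ↘ Spec (CommRingCat.of k))]
    [GeometricallyIntegral (X ↘ Spec (CommRingCat.of k))] (hdim : topologicalKrullDim ↥X = 1)
    (hg : Curv2.genus k X = 1) (O : Spec (CommRingCat.of k) ⟶ X) (hO : O ≫ (X ↘ Spec (CommRingCat.of k)) = 𝟙 _)
    (G : X.Modules) (r : ℕ) (hr : 0 < r) (hG : FlatMod.IsFinLocFreeOfRank r G)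
    (hdeg : Curv2.deg k X G r = 0)
    (hGss : (∀ (H : X.Modules) (r' : ℕ) (i : H ⟶ G), Mono i → 0 < r' → FlatMod.IsFinLocFreeOfRank r' H →
      Curv2.deg k X H r' * (r : ℤ) ≤ Curv2.deg k X G r * (r' : ℤ))) :
    Module.finrank k (Coh.HH X G 0) ≤ r := by
  classical
  haveI : Subsingleton ↥(Spec (CommRingCat.of k)) :=
    inferInstanceAs (Subsingleton (PrimeSpectrum k))
  haveI : AlgebraicGeometry.IsIntegral X :=
    GeometricallyIntegral.isIntegral_of_subsingleton (X ↘ (Spec (CommRingCat.of k)))
  have hX : ∀ x : X, ValuationRing (X.presheaf.stalk x) := fun x =>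
    Groth.Agent.Helper1.VB5.valuationRing_stalk_of_smooth k (X ↘ Spec (CommRingCat.of k)) hdim.le x
  let pt : Spec (CommRingCat.of k) := default
  have hP := Groth.Agent.Helper1.PtDeg.isClosed_of_section k O hO pt
  haveI := Groth.Agent.Helper1.Euler.isNoetherian_of_proper k X
  haveI : IsLocallyNoetherian X := inferInstance
  have hI := Groth.Agent.Helper1.PtInv.isInvertible_ptIdeal_of_smooth k X hdim (O pt) hP
  have hd : Module.finrank k (Coh.HH X (ClSub.quotMod (Groth.Agent.Helper1.CurveDual.ptIdeal (O pt) hP)) 0) = 1 := by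
    rw [Groth.Agent.Helper1.PtDeg.finrank_quotMod_pt' k X (O pt) hP]
    exact Groth.Agent.Helper1.PtDeg.finrank_residueField_of_section k O hO pt
  have h := Groth.Agent.Lead.CV.h0_le_of_semistable k X hdim hX (O pt) hP hd hI hr 1 G hG hGss
    (by rw [hdeg]; simpa using hr)
  simpa using h

end Groth.Agent.S18778
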