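import Groth.Statements.S18789
import Mathlib

set_option autoImplicit false
universe u v w x
open TorusGr

namespace Groth.Agent.S18789

section aux
open DirectSum

variable {k : Type u} [Field k] {M : Type v} [AddCommGroup M] [DecidableEq M]
    {A : Type w} [CommRing A] [Algebra k A] (𝒜 : M → Submodule k A) [GradedAlgebra 𝒜]
    {P : Type x} [AddCommGroup P] [Module A P] [Module k P] [IsScalarTower k A P]
    (ℳ : M → Submodule k P) [Decomposition ℳ] [SetLike.GradedSMul 𝒜 ℳ]

/-- projection to the degree `g` component, as an additive map. -/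
def projg (g : M) : P →+ P where
  toFun x := (decompose ℳ x g : P)
  map_zero' := by simp only [decompose_zero, DirectSum.zero_apply, ZeroMemClass.coe_zero]
  map_add' x y := by simp only [decompose_add, DirectSum.add_apply, Submodule.coe_add]

lemma coe_decompose_smul (a : A) {p : P} {d : M} (hp : p ∈ ℳ d) (g : M) :
    ((decompose ℳ (a • p)) g : P) = ((decompose 𝒜 a) (g - d) : A) • p := by
  classical
  have hmem : ∀ e, ((decompose 𝒜 a) e : A) • p ∈ ℳ (e + d) := fun e => by
    have h := SetLike.GradedSMul.smul_mem (A := 𝒜) (B := ℳ) (i := e) (j := d)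
      (SetLike.coe_mem ((decompose 𝒜 a) e)) hp
    rwa [vadd_eq_add] at h
  have e1 : a • p = ∑ e ∈ (decompose 𝒜 a).support, ((decompose 𝒜 a) e : A) • p := by
    rw [← Finset.sum_smul, sum_support_decompose]
  have e2 : ((decompose ℳ (a • p)) g : P) =
      ∑ e ∈ (decompose 𝒜 a).support, ((decompose ℳ (((decompose 𝒜 a) e : A) • p)) g : P) := by
    conv_lhs => rw [e1]
    exact map_sum (projg ℳ g) _ _
  rw [e2, Finset.sum_eq_single (g - d)]
  · have := hmem (g - d)
    rw [sub_add_cancel] at this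
    exact decompose_of_mem_same ℳ this
  · intro e _ he
    exact decompose_of_mem_ne ℳ (hmem e) (fun h => he (by rw [← h, add_sub_cancel_right]))
  · intro hn
    rw [DFinsupp.notMem_support_iff] at hn
    have h0 : ((decompose 𝒜 a) (g - d) : A) = 0 := by rw [hn]; rfl
    rw [h0, zero_smul, decompose_zero]; rfl

lemma coe_decompose_sum_smul {n : ℕ} (wt : Fin n → M) (f : Fin n → P)
    (hf : ∀ i, f i ∈ ℳ (wt i)) (c : Fin n → A) (g : M) :
    ((decompose ℳ (∑ i, c i • f i)) g : P) =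
      ∑ i, ((decompose 𝒜 (c i)) (g - wt i) : A) • f i := by
  have := map_sum (projg ℳ g) (fun i => c i • f i) Finset.univ
  exact this.trans (Finset.sum_congr rfl fun i _ => coe_decompose_smul 𝒜 ℳ (c i) (hf i) g)

lemma exists_homogeneous_not_mem (J : Ideal A) (hJ : J.IsHomogeneous 𝒜) (m : Ideal A) {a : A}
    (haJ : a ∈ J) (ham : a ∉ m) :
    ∃ s, SetLike.IsHomogeneousElem 𝒜 s ∧ s ∈ J ∧ s ∉ m := by
  classical
  by_contra hcon
  push Not at hcon
  apply ham
  rw [← sum_support_decompose 𝒜 a]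
  refine Ideal.sum_mem _ fun e _ => ?_
  exact hcon _ ⟨e, SetLike.coe_mem _⟩ (hJ e haJ)

end aux

open DirectSum in
theorem result
    {k : Type u} [Field k] {M : Type v} [AddCommGroup M] [DecidableEq M]
    {A : Type w} [CommRing A] [Algebra k A] (𝒜 : M → Submodule k A) [GradedAlgebra 𝒜]
    {P : Type x} [AddCommGroup P] [Module A P] [Module k P] [IsScalarTower k A P]
    (ℳ : M → Submodule k P) [Decomposition ℳ] [SetLike.GradedSMul 𝒜 ℳ]
    [Module.Finite A P] [Module.Projective A P]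
    (m : Ideal A) [m.IsMaximal] (hm : m.IsHomogeneous 𝒜)
    (hrat : Function.Surjective (algebraMap k (A ⧸ m)))
    {n : ℕ} (wt : Fin n → M) (f : Fin n → P) (hf : ∀ i, f i ∈ ℳ (wt i))
    (hli : LinearIndependent (A ⧸ m)
      (fun i => (Submodule.Quotient.mk (f i) : P ⧸ (m • (⊤ : Submodule A P)))))
    (hsp : Submodule.span A (Set.range f) ⊔ m • (⊤ : Submodule A P) = ⊤) :
    ∃ s : A, SetLike.IsHomogeneousElem 𝒜 s ∧ s ∉ m ∧
      (∀ p : P, ∃ (N : ℕ) (c : Fin n → A), s ^ N • p = ∑ i, c i • f i) ∧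
      (∀ c : Fin n → A, ∑ i, c i • f i = 0 → ∃ N : ℕ, ∀ i, s ^ N * c i = 0) := by
  classical
  have hmax : m.IsMaximal := inferInstance
  have hnotmem : ∀ t : A, t - 1 ∈ m → t ∉ m := fun t ht1 h =>
    hmax.ne_top ((Ideal.eq_top_iff_one _).2 (by
      have := m.sub_mem h ht1
      simpa using this))
  -- Step 1: the ideal `J₁` of elements mapping `P` into the span of the `f i`
  let J₁ : Ideal A :=
    { carrier := {a | ∀ p : P, a • p ∈ Submodule.span A (Set.range f)}
      add_mem' := fun {a b} ha hb p => by rw [add_smul]; exact add_mem (ha p) (hb p)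
      zero_mem' := fun p => by rw [zero_smul]; exact zero_mem _
      smul_mem' := fun c a ha p => by
        rw [smul_eq_mul, mul_smul]; exact Submodule.smul_mem _ _ (ha p) }
  have hJ₁mem : ∀ a, a ∈ J₁ ↔ ∀ p : P, a • p ∈ Submodule.span A (Set.range f) := fun a => Iff.rfl
  have hJ₁hom : J₁.IsHomogeneous 𝒜 := by
    intro e a ha
    rw [hJ₁mem] at ha ⊢
    intro p
    refine Decomposition.inductionOn ℳ ?_ ?_ ?_ p
    · rw [smul_zero]; exact zero_mem _
    · intro d q
      obtain ⟨c, hc⟩ := (Submodule.mem_span_range_iff_exists_fun A).1 (ha (q : P))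
      have h1 := coe_decompose_smul 𝒜 ℳ a q.2 (e + d)
      rw [add_sub_cancel_right] at h1
      rw [← h1, ← hc, coe_decompose_sum_smul 𝒜 ℳ wt f hf]
      exact Submodule.sum_mem _ fun i _ =>
        Submodule.smul_mem _ _ (Submodule.subset_span ⟨i, rfl⟩)
    · intro p q hp hq
      rw [smul_add]; exact add_mem hp hq
  obtain ⟨t, ht1, htle⟩ := Submodule.exists_sub_one_mem_and_smul_le_of_fg_of_le_sup (I := m)
    (N := Submodule.span A (Set.range f)) (N' := ⊤) (P := ⊤) Module.Finite.fg_top le_rfl hsp.ge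
  have htJ : t ∈ J₁ := fun p =>
    htle (Submodule.smul_mem_pointwise_smul p t ⊤ Submodule.mem_top)
  obtain ⟨s₁, hs₁h, hs₁J, hs₁m⟩ :=
    exists_homogeneous_not_mem 𝒜 J₁ hJ₁hom m htJ (hnotmem t ht1)
  -- Step 2: the kernel
  let φ : (Fin n → A) →ₗ[A] P := Fintype.linearCombination A f
  have hφ : ∀ c, φ c = ∑ i, c i • f i := fun c => rfl
  obtain ⟨r, π, ι, -, -, hπι⟩ := Module.Finite.exists_comp_eq_id_of_projective A P
  have hπι' : ∀ p, π (ι p) = p := fun p => LinearMap.congr_fun hπι p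
  have hb : ∀ j : Fin r, ∃ b : Fin n → A,
      ∑ i, b i • f i = s₁ • π (fun j' => if j = j' then 1 else 0) := fun j =>
    (Submodule.mem_span_range_iff_exists_fun A).1 (hs₁J _)
  choose b hb using hb
  let Bm : (Fin r → A) →ₗ[A] (Fin n → A) := Fintype.linearCombination A b
  have hφB : ∀ y, φ (Bm y) = s₁ • π y := by
    intro y
    rw [LinearMap.pi_apply_eq_sum_univ π y, Finset.smul_sum]
    have : Bm y = ∑ j, y j • b j := rfl
    rw [this, map_sum]
    refine Finset.sum_congr rfl fun j _ => ?_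
    rw [map_smul, hφ, hb j, smul_comm]
  let θ : (Fin n → A) →ₗ[A] (Fin n → A) := s₁ • LinearMap.id - (Bm ∘ₗ ι) ∘ₗ φ
  have hθ_apply : ∀ c, θ c = s₁ • c - Bm (ι (φ c)) := fun c => rfl
  have hφθ : ∀ c, φ (θ c) = 0 := by
    intro c
    rw [hθ_apply, map_sub, map_smul, hφB, hπι', sub_self]
  have hθK : ∀ c, φ c = 0 → θ c = s₁ • c := by
    intro c hc
    rw [hθ_apply, hc, map_zero, map_zero, sub_zero]
  have hKm : ∀ c : Fin n → A, φ c = 0 → ∀ i, c i ∈ m := by
    intro c hc i
    rw [Fintype.linearIndependent_iff] at hli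
    have h0 : (Submodule.Quotient.mk (∑ i, c i • f i) : P ⧸ (m • (⊤ : Submodule A P))) = 0 := by
      rw [← hφ, hc]; rfl
    have := hli (fun i => Ideal.Quotient.mk m (c i)) (by
      rw [← h0, ← Submodule.mkQ_apply, map_sum]
      refine Finset.sum_congr rfl fun i _ => ?_
      rfl) i
    exact Ideal.Quotient.eq_zero_iff_mem.1 this
  let K' : Submodule A (Fin n → A) := LinearMap.range θ
  have hK'fg : K'.FG := by
    have : K' = Submodule.map θ ⊤ := LinearMap.range_eq_map θ
    rw [this]; exact Module.Finite.fg_top.map θ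
  have hK'le : K' ≤ m • K' := by
    rintro _ ⟨c₀, rfl⟩
    have hc : φ (θ c₀) = 0 := hφθ c₀
    have h1 : s₁ • θ c₀ ∈ m • K' := by
      rw [← hθK (θ c₀) hc, LinearMap.pi_apply_eq_sum_univ θ (θ c₀)]
      exact Submodule.sum_mem _ fun l _ =>
        Submodule.smul_mem_smul (hKm (θ c₀) hc l) ⟨_, rfl⟩
    obtain ⟨y, i, hi, hyi⟩ := Ideal.IsMaximal.exists_inv hmax hs₁m
    have : θ c₀ = y • (s₁ • θ c₀) + i • θ c₀ := by
      rw [smul_smul, ← add_smul, hyi, one_smul]
    rw [this]
    exact add_mem (Submodule.smul_mem _ _ h1) (Submodule.smul_mem_smul hi ⟨c₀, rfl⟩)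
  obtain ⟨t₂, ht₂1, ht₂⟩ :=
    Submodule.exists_sub_one_mem_and_smul_eq_zero_of_fg_of_le_smul m K' hK'fg hK'le
  let J₂ : Ideal A :=
    { carrier := {a | ∀ c : Fin n → A, φ c = 0 → a • c = 0}
      add_mem' := fun {a b} ha hb c hc => by rw [add_smul, ha c hc, hb c hc, add_zero]
      zero_mem' := fun c _ => zero_smul _ _
      smul_mem' := fun x a ha c hc => by rw [smul_eq_mul, mul_smul, ha c hc, smul_zero] }
  have hJ₂mem : ∀ a, a ∈ J₂ ↔ ∀ c : Fin n → A, φ c = 0 → a • c = 0 := fun a => Iff.rfl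
  have hts : t₂ * s₁ ∈ J₂ := by
    intro c hc
    rw [mul_smul, ← hθK c hc]
    exact ht₂ _ ⟨c, rfl⟩
  have hts_m : t₂ * s₁ ∉ m := fun h =>
    (hmax.isPrime.mem_or_mem h).elim (hnotmem t₂ ht₂1) hs₁m
  have hJ₂hom : J₂.IsHomogeneous 𝒜 := by
    intro e a ha
    rw [hJ₂mem] at ha ⊢
    intro c hc
    funext l
    show ((decompose 𝒜 a) e : A) * c l = 0
    rw [← sum_support_decompose 𝒜 (c l), Finset.mul_sum]
    refine Finset.sum_eq_zero fun d' _ => ?_
    let cd : Fin n → A := fun i => ((decompose 𝒜 (c i)) (d' + wt l - wt i) : A)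
    have hcd : φ cd = 0 := by
      have h5 := coe_decompose_sum_smul 𝒜 ℳ wt f hf c (d' + wt l)
      rw [← hφ, hc, decompose_zero] at h5
      rw [hφ]
      exact h5.symm
    have h2 := congrFun (ha cd hcd) l
    have h3 : cd l = ((decompose 𝒜 (c l)) d' : A) := by
      have h6 : d' + wt l - wt l = d' := add_sub_cancel_right _ _
      show ((decompose 𝒜 (c l)) (d' + wt l - wt l) : A) = _
      rw [h6]
    rw [Pi.smul_apply, smul_eq_mul, h3, Pi.zero_apply] at h2
    have h4 := coe_decompose_mul_add_of_right_mem 𝒜 (i := e) (a := a)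
      (SetLike.coe_mem ((decompose 𝒜 (c l)) d'))
    rw [← h4, h2, decompose_zero]; rfl
  obtain ⟨s₂, hs₂h, hs₂J, hs₂m⟩ :=
    exists_homogeneous_not_mem 𝒜 J₂ hJ₂hom m hts hts_m
  refine ⟨s₁ * s₂, hs₁h.mul hs₂h, fun h => (hmax.isPrime.mem_or_mem h).elim hs₁m hs₂m, ?_, ?_⟩
  · intro p
    have : (s₁ * s₂) ^ 1 • p ∈ Submodule.span A (Set.range f) := by
      rw [pow_one, mul_comm, mul_smul]
      exact Submodule.smul_mem _ _ (hs₁J p)
    obtain ⟨c, hc⟩ := (Submodule.mem_span_range_iff_exists_fun A).1 this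
    exact ⟨1, c, hc.symm⟩
  · intro c hc
    refine ⟨1, fun i => ?_⟩
    have h := congrFun (hs₂J c (by rw [hφ, hc])) i
    rw [Pi.smul_apply, smul_eq_mul, Pi.zero_apply] at h
    rw [pow_one, mul_assoc, h, mul_zero]

end Groth.Agent.S18789
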