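import Groth.Statements.S18792
-- import your own Groth.Agent.* helpers here

set_option autoImplicit false
universe u
open DefMod

namespace Groth.Agent.S18792

/-- Let A be an associative unital algebra over ℚ, let a ∈ A be nilpotent and let b ∈ A. Then the
commutator map x ↦ a x − x a is a nilpotent ℚ-linear endomorphism of A, and exp(a) b exp(−a) =
exp(ad a)(b), where exp is the finite exponential series of a nilpotent element and ad a is the
commutator map. (The published statement takes A an algebra over an arbitrary commutative ring; the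
factorials in the exponential series require the rationals to act, so A is taken to be a ℚ-algebra
here. The intermediate double-sum expansion printed between the two sides is not restated.) -/
theorem result {A : Type u} [Ring A] [Algebra ℚ A] (a b : A)
    (ha : IsNilpotent a) :
    IsNilpotent (LinearMap.mulLeft ℚ a - LinearMap.mulRight ℚ a) ∧
      IsNilpotent.exp a * b * IsNilpotent.exp (-a) =
        IsNilpotent.exp (LinearMap.mulLeft ℚ a - LinearMap.mulRight ℚ a) b := by
  obtain ⟨k, hk⟩ := ha
  have hl : IsNilpotent (LinearMap.mulLeft ℚ a) :=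
    ⟨k, by rw [LinearMap.pow_mulLeft, hk, LinearMap.mulLeft_zero_eq_zero]⟩
  have hr : IsNilpotent (LinearMap.mulRight ℚ a) :=
    ⟨k, by rw [LinearMap.pow_mulRight, hk, LinearMap.mulRight_zero_eq_zero]⟩
  have hcomm : Commute (LinearMap.mulLeft ℚ a) (LinearMap.mulRight ℚ a) :=
    LinearMap.commute_mulLeft_right a a
  refine ⟨hcomm.isNilpotent_sub hl hr, ?_⟩
  have hrn : IsNilpotent (-LinearMap.mulRight ℚ a) := hr.neg
  rw [sub_eq_add_neg, IsNilpotent.exp_add_of_commute (Commute.neg_right hcomm) hl hrn]
  have hLk : (LinearMap.mulLeft ℚ a) ^ k = 0 := by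
    rw [LinearMap.pow_mulLeft, hk, LinearMap.mulLeft_zero_eq_zero]
  have hneg : -LinearMap.mulRight ℚ a = LinearMap.mulRight ℚ (-a) := by
    ext x
    simp
  have hnak : (-a) ^ k = 0 := by
    rw [neg_pow, hk, mul_zero]
  have hRk : (-LinearMap.mulRight ℚ a) ^ k = 0 := by
    rw [hneg, LinearMap.pow_mulRight, hnak, LinearMap.mulRight_zero_eq_zero]
  rw [IsNilpotent.exp_eq_sum hLk, IsNilpotent.exp_eq_sum hRk, IsNilpotent.exp_eq_sum hk,
    IsNilpotent.exp_eq_sum hnak]
  have h1 : ∀ x : A, (∑ i ∈ Finset.range k, ((i.factorial : ℚ)⁻¹) • (LinearMap.mulLeft ℚ a) ^ i) x =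
      (∑ i ∈ Finset.range k, ((i.factorial : ℚ)⁻¹) • a ^ i) * x := by
    intro x
    rw [LinearMap.sum_apply, Finset.sum_mul]
    refine Finset.sum_congr rfl fun i _ => ?_
    rw [LinearMap.smul_apply, LinearMap.pow_mulLeft, LinearMap.mulLeft_apply, smul_mul_assoc]
  have h2 : ∀ x : A, (∑ i ∈ Finset.range k, ((i.factorial : ℚ)⁻¹) • (-LinearMap.mulRight ℚ a) ^ i) x =
      x * (∑ i ∈ Finset.range k, ((i.factorial : ℚ)⁻¹) • (-a) ^ i) := by
    intro x
    rw [LinearMap.sum_apply, Finset.mul_sum]
    refine Finset.sum_congr rfl fun i _ => ?_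
    rw [LinearMap.smul_apply, hneg, LinearMap.pow_mulRight, LinearMap.mulRight_apply,
      mul_smul_comm]
  rw [Module.End.mul_apply, h1, h2, mul_assoc]

end Groth.Agent.S18792
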