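import Groth.Statements.S18797
-- import your own Groth.Agent.* helpers here

set_option autoImplicit false
universe u v w
open DefMod

namespace Groth.Agent.S18797

/-- Let K be a field of characteristic zero, O a commutative K-algebra with a K-linear derivation ∂, and
E a finite free O-module equipped with a K-linear map ∂_E satisfying the Leibniz rule ∂_E(a e) =
∂(a) e + a ∂_E(e) (a differential module). The induced derivation on End_O(E) sends φ to ∂_E ∘ φ − φ
∘ ∂_E, which is again O-linear; the trace End_O(E) → O is compatible with the two derivations: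
tr(∂_E ∘ φ − φ ∘ ∂_E) = ∂(tr φ). Here the O-linear map ψ = ∂_E ∘ φ − φ ∘ ∂_E is given by its values.
(The published lemma also asserts that the trace is split surjective and that it respects commutator
brackets; the split surjectivity fails for E = 0 over a nonzero ring and holds only in positive
rank, and neither clause is restated.) -/
theorem result
    {K : Type u} [Field K] [CharZero K]
    {O : Type v} [CommRing O] [Algebra K O] (δ : Derivation K O O)
    {E : Type w} [AddCommGroup E] [Module O E] [Module K E] [IsScalarTower K O E]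
    [Module.Free O E] [Module.Finite O E]
    (δE : E →ₗ[K] E) (hδE : ∀ (a : O) (e : E), δE (a • e) = δ a • e + a • δE e)
    (φ ψ : E →ₗ[O] E) (hψ : ∀ e : E, ψ e = δE (φ e) - φ (δE e)) :
    LinearMap.trace O E ψ = δ (LinearMap.trace O E φ) := by
  classical
  let b : Module.Basis (Module.Free.ChooseBasisIndex O E) O E := Module.Free.chooseBasis O E
  have trace_formula : ∀ f : E →ₗ[O] E, LinearMap.trace O E f = ∑ j, b.coord j (f (b j)) := by
    intro f
    rw [LinearMap.trace_eq_matrix_trace O b f, Matrix.trace]
    refine Finset.sum_congr rfl fun j _ => ?_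
    rw [Matrix.diag_apply, LinearMap.toMatrix_apply]
    rfl
  let Γ : E →ₗ[O] E :=
    { toFun := fun e => δE e - ∑ i, δ (b.coord i e) • b i
      map_add' := fun x y => by
        simp only [map_add, add_smul, Finset.sum_add_distrib]
        abel
      map_smul' := fun a x => by
        simp only [map_smul, smul_eq_mul, Derivation.leibniz, RingHom.id_apply, hδE, add_smul,
          Finset.sum_add_distrib, smul_sub, Finset.smul_sum, smul_smul]
        have h1 : ∑ i, (b.coord i x * δ a) • b i = δ a • x := by
          conv_rhs => rw [← b.sum_repr x, Finset.smul_sum]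
          refine Finset.sum_congr rfl fun i _ => ?_
          rw [smul_smul, mul_comm]
          rfl
        simp only [h1]
        abel }
  have hΓ : ∀ e, δE e = Γ e + ∑ i, δ (b.coord i e) • b i := by
    intro e
    show δE e = (δE e - ∑ i, δ (b.coord i e) • b i) + ∑ i, δ (b.coord i e) • b i
    abel
  have hb0 : ∀ j, ∑ i, δ (b.coord i (b j)) • b i = 0 := by
    intro j
    refine Finset.sum_eq_zero fun i _ => ?_
    have h3 : b.coord i (b j) = if j = i then 1 else 0 := by
      rw [Module.Basis.coord_apply, Module.Basis.repr_self, Finsupp.single_apply]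
    rw [h3]
    split_ifs
    · rw [Derivation.map_one_eq_zero, zero_smul]
    · rw [map_zero, zero_smul]
  have hcomm : LinearMap.trace O E (Γ ∘ₗ φ - φ ∘ₗ Γ) = 0 := by
    rw [map_sub, sub_eq_zero]
    exact LinearMap.trace_mul_comm O Γ φ
  have hsplit : ψ = (ψ - (Γ ∘ₗ φ - φ ∘ₗ Γ)) + (Γ ∘ₗ φ - φ ∘ₗ Γ) := by abel
  rw [hsplit, map_add, hcomm, add_zero, trace_formula, trace_formula, map_sum]
  refine Finset.sum_congr rfl fun j _ => ?_
  have h4 : (ψ - (Γ ∘ₗ φ - φ ∘ₗ Γ)) (b j) = ∑ i, δ (b.coord i (φ (b j))) • b i := by
    simp only [LinearMap.sub_apply, LinearMap.comp_apply]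
    rw [hψ, hΓ (φ (b j)), hΓ (b j), hb0, add_zero]
    abel
  have hcoord : ∀ i k, b.coord i (b k) = if k = i then 1 else 0 := by
    intro i k
    rw [Module.Basis.coord_apply, Module.Basis.repr_self, Finsupp.single_apply]
  rw [h4, map_sum]
  rw [Finset.sum_eq_single j]
  · rw [map_smul, hcoord, if_pos rfl, smul_eq_mul, mul_one]
  · intro i _ hij
    rw [map_smul, hcoord, if_neg hij, smul_zero]
  · intro h
    exact absurd (Finset.mem_univ j) h

end Groth.Agent.S18797
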