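import Groth.Statements.S1880
import Mathlib
import Groth.Prelude.Def_Grpd
import Groth.Agent.S1894
import Groth.Agent.S7457
-- import your own Groth.Agent.* helpers here

set_option autoImplicit false
universe u
open CategoryTheory CategoryTheory.Limits AlgebraicGeometry
open Grpd

namespace Groth.Agent.S1880

open CategoryTheory CategoryTheory.Limits AlgebraicGeometry
namespace Aux
open Groth.Agent.S1894.Aux Groth.Agent.S7457.Aux
open TensorProduct

/-- norm of `1 ⊗ x` in a base change -/
lemma norm_one_tmul (R S T : Type u) [CommRing R] [CommRing S] [CommRing T] [Algebra R S]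
    [Algebra R T] [Module.Free R S] [Module.Finite R S] (x : S) :
    Algebra.norm T ((1 : T) ⊗ₜ[R] x) = algebraMap R T (Algebra.norm R x) := by
  rw [Algebra.norm_apply, Algebra.norm_apply, ← LinearMap.det_baseChange]
  congr 1
  ext y
  simp

/-- the norm commutes with pushouts of commutative rings -/
lemma norm_of_isPushout {R S T P : CommRingCat.{u}} {f : R ⟶ S} {g : R ⟶ T}
    {inl : S ⟶ P} {inr : T ⟶ P} (h : CategoryTheory.IsPushout f g inl inr)
    (hfree : letI := f.hom.toAlgebra; Module.Free R S)
    (hfin : letI := f.hom.toAlgebra; Module.Finite R S) (x : S) :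
    letI := f.hom.toAlgebra
    letI := inr.hom.toAlgebra
    Algebra.norm T (inl.hom x) = g.hom (Algebra.norm R x) := by
  algebraize [f.hom, g.hom, inl.hom, inr.hom, inl.hom.comp f.hom]
  have : IsScalarTower R T P := .of_algebraMap_eq' <| congr($(h.1.1).hom)
  have h1 : Algebra.IsPushout R S T P := CommRingCat.isPushout_iff_isPushout.mp h
  have h2 : Algebra.IsPushout R T S P := h1.symm
  let e : T ⊗[R] S ≃ₐ[T] P := Algebra.IsPushout.equiv R T S P
  have he : e ((1 : T) ⊗ₜ x) = inl.hom x := by
    show Algebra.IsPushout.equiv R T S P ((1 : T) ⊗ₜ x) = inl.hom x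
    rw [Algebra.IsPushout.equiv_tmul, map_one, one_mul]
    rfl
  show Algebra.norm T (inl.hom x) = algebraMap R T (Algebra.norm R x)
  rw [← he, Algebra.norm_eq_of_algEquiv e, norm_one_tmul]

variable {S : Scheme.{u}} (G : Grpd.GroupoidScheme S)

theorem main [IsAffine G.U] [IsAffine G.R] [IsFinite G.s] [Flat G.s] [LocallyOfFinitePresentation G.s] [IsFinite G.t] [Flat G.t] [LocallyOfFinitePresentation G.t] (f : Γ(G.U, ⊤)) : G.normST f ∈ G.invariants := by
  letI := G.s.appTop.hom.toAlgebra
  by_cases hb : ∃ s : Finset Γ(G.R, ⊤), Nonempty (Module.Basis s Γ(G.U, ⊤) Γ(G.R, ⊤))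
  · obtain ⟨s, ⟨b⟩⟩ := hb
    have hfree : Module.Free Γ(G.U, ⊤) Γ(G.R, ⊤) := Module.Free.of_basis b
    have hfin : Module.Finite Γ(G.U, ⊤) Γ(G.R, ⊤) := Module.Finite.of_basis b
    have sq1 := isPushout_appTop_of_isPullback (IsPullback.of_hasPullback G.s G.t)
    have sq2 := isPushout_appTop_of_isPullback (isPullback_c G)
    have n1 := norm_of_isPushout sq1 hfree hfin (G.t.appTop.hom f)
    have n2 := norm_of_isPushout sq2 hfree hfin (G.t.appTop.hom f)
    have hct : G.c.appTop.hom (G.t.appTop.hom f) =
        (pullback.fst G.s G.t).appTop.hom (G.t.appTop.hom f) := by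
      have h1 := congrArg (fun φ : pullback G.s G.t ⟶ G.U => φ.appTop.hom f) (c_t G)
      simp only [Scheme.Hom.comp_appTop, CommRingCat.hom_comp, RingHom.coe_comp,
        Function.comp_apply] at h1
      exact h1
    show G.s.appTop.hom (G.normST f) = G.t.appTop.hom (G.normST f)
    show G.s.appTop.hom (Algebra.norm Γ(G.U, ⊤) (G.t.appTop.hom f)) =
      G.t.appTop.hom (Algebra.norm Γ(G.U, ⊤) (G.t.appTop.hom f))
    rw [← n1, ← n2, hct]
  · have : G.normST f = 1 := Algebra.norm_eq_one_of_not_exists_basis _ hb _
    rw [this]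
    exact one_mem _

end Aux

/-- Let (U, R, s, t, c) be a groupoid scheme with U, R affine and s, t finite locally free. For f ∈
Γ(U), the norm along s♯ of t♯(f) is an R-invariant function. (Mathlib's norm is the determinant when
Γ(R) is free over Γ(U) via s♯ and 1 otherwise; the content is the free case, e.g. after localizing
U.) (A groupoid scheme carries U, R, s, t, c, e, i over S with the groupoid axioms on T-points;
'finite locally free' is finite, flat and locally of finite presentation; C ⊂ Γ(U) is the ring of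
functions a with s♯(a) = t♯(a) and M = Spec C.) -/
theorem result (S : Scheme.{u}) (G : Grpd.GroupoidScheme S) [IsAffine G.U] [IsAffine G.R] [IsFinite G.s] [Flat G.s] [LocallyOfFinitePresentation G.s] [IsFinite G.t] [Flat G.t] [LocallyOfFinitePresentation G.t] (f : Γ(G.U, ⊤)) : G.normST f ∈ G.invariants := by
  exact Aux.main G f

end Groth.Agent.S1880
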