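import Groth.Statements.S18800
import Groth.Agent.Lib.Helper3.DefModE

set_option autoImplicit false
universe u v w w'
open DefMod

namespace Groth.Agent.S18800

/-- Let E be a nonzero left module over an associative algebra D over a field K of characteristic zero,
whose D-linear endomorphisms are exactly the scalars of K; let R be an Artinian local K-algebra with
residue field K and (F, θ) a deformation of E over R: F carries commuting R- and D-module structures
and is flat over R, and θ : F → E is D-linear, semilinear over the augmentation R → K, surjective,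
with kernel m_R F. Then every automorphism of (F, θ) is multiplication by an element of 1 + m_R:
every endomorphism α of F that is R-linear and D-linear and satisfies θ ∘ α = θ is multiplication by
a unique element r of R, and the residue of r in K is 1. -/
theorem result
    {K : Type u} [Field K] [CharZero K]
    {D : Type v} [Ring D] [Algebra K D]
    {E : Type w} [AddCommGroup E] [Module K E] [Module D E] [IsScalarTower K D E] [Nontrivial E]
    (hE : ∀ ψ : E →ₗ[D] E, ∃ c : K, ∀ y : E, ψ y = c • y)
    (R : ArtFun.Art K K)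
    {F : Type w'} [AddCommGroup F] [Module K F] [Module R F] [Module D F]
    [IsScalarTower K R F] [IsScalarTower K D F] [SMulCommClass R D F] [Module.Flat R F]
    (θ : F →ₗ[D] E) (hθ : ∀ (r : R) (x : F), θ (r • x) = R.res r • θ x)
    (hθsurj : Function.Surjective θ)
    (hθker : ∀ x : F, θ x = 0 ↔ x ∈ IsLocalRing.maximalIdeal R • (⊤ : Submodule R F))
    (α : F →ₗ[R] F) (hαD : ∀ (d : D) (x : F), α (d • x) = d • α x) (hαθ : ∀ x : F, θ (α x) = θ x) :
    ∃! r : R, R.res r = 1 ∧ ∀ x : F, α x = r • x := by
  open Groth.Agent.Helper3.DefMod Groth.Agent.Helper3.ArtFunLib in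
  obtain ⟨n, hn⟩ := exists_pow_succ_eq_bot R
  have key : ∀ i, 1 ≤ i → ∃ r : R, R.res r = 1 ∧
      ∀ x, α x - r • x ∈ IsLocalRing.maximalIdeal R ^ i • (⊤ : Submodule R F) := by
    intro i hi
    induction i, hi using Nat.le_induction with
    | base =>
      refine ⟨1, map_one _, fun x => ?_⟩
      rw [pow_one, one_smul, ← hθker, map_sub, hαθ, sub_self]
    | succ i hi ih =>
      obtain ⟨r, hr1, hr⟩ := ih
      let β : F →ₗ[R] F := α - r • LinearMap.id
      have hβ : ∀ x, β x = α x - r • x := fun x => rfl
      obtain ⟨t, ht, hβt⟩ := exists_scalar_mod R hE θ hθ hθsurj hθker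
        (I := IsLocalRing.maximalIdeal R ^ i) (I' := IsLocalRing.maximalIdeal R ^ (i + 1))
        (by rw [pow_succ']) β
        (fun d x => by rw [hβ, hβ, hαD, smul_sub, smul_comm])
        (fun x => by rw [hβ]; exact hr x)
      refine ⟨r + t, ?_, fun x => ?_⟩
      · rw [map_add, hr1, (R.mem_maximalIdeal_iff t).1 (Ideal.pow_le_self (by omega) ht),
          add_zero]
      · have h1 := hβt x
        rw [hβ] at h1
        rwa [add_smul, ← sub_sub]
  obtain ⟨r, hr1, hr⟩ := key (n + 1) (by omega)
  rw [hn, Submodule.bot_smul] at hr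
  have hαr : ∀ x, α x = r • x := fun x => sub_eq_zero.1 ((Submodule.mem_bot R).1 (hr x))
  refine ⟨r, ⟨hr1, hαr⟩, ?_⟩
  rintro r' ⟨-, hr'⟩
  obtain ⟨e, he⟩ := exists_ne (0 : E)
  obtain ⟨x, rfl⟩ := hθsurj e
  have hx : x ∉ IsLocalRing.maximalIdeal R • (⊤ : Submodule R F) := fun h => he ((hθker x).2 h)
  have h0 : (r' - r) • x = 0 := by rw [sub_smul, ← hr' x, ← hαr x, sub_self]
  exact sub_eq_zero.1 (eq_zero_of_smul_eq_zero R _ hx h0)

end Groth.Agent.S18800
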