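import Groth.Statements.S18802
import Mathlib

set_option autoImplicit false
universe u v w w' w''
open DefMod

namespace Groth.Agent.S18802

/-- Let K be a field of characteristic zero, D an associative K-algebra and E, F left D-modules. A
K-linear map s : D → Hom_K(E, F) with s(ab)(e) = a s(b)(e) + s(a)(b e) (a derivation into the
bimodule Hom_K(E, F), i.e. a Hochschild 1-cocycle) defines the twisted sum F ⊕_s E = F × E with a ·
(f, e) = (a f + s(a) e, a e), an extension of E by F. Every extension of left D-modules 0 → F → Q →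
E → 0 arises this way: there are such an s and a D-linear isomorphism Q ≅ F ⊕_s E carrying the given
map F → Q to the inclusion f ↦ (f, 0) and compatible with the two projections onto E. (Together with
the splitting criterion this identifies derivations modulo principal derivations with Ext¹_D(E, F);
the compatibility of that identification with addition and scalars is not restated.) -/
theorem result
    {K : Type u} [Field K] [CharZero K]
    {D : Type v} [Ring D] [Algebra K D]
    {E : Type w} [AddCommGroup E] [Module K E] [Module D E] [IsScalarTower K D E]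
    {F : Type w'} [AddCommGroup F] [Module K F] [Module D F] [IsScalarTower K D F]
    {Q : Type w''} [AddCommGroup Q] [Module D Q]
    (i : F →ₗ[D] Q) (p : Q →ₗ[D] E) (hi : Function.Injective i) (hp : Function.Surjective p)
    (hex : Function.Exact i p) :
    ∃ (s : D →ₗ[K] E →ₗ[K] F) (hs : W4c6defoisocp1.IsHomDerivation s) (Φ : Q ≃ₗ[D] W4c6defoisocp1.TwistExt s hs),
      (∀ f : F, Φ (i f) = W4c6defoisocp1.TwistExt.inl f) ∧ ∀ q : Q, W4c6defoisocp1.TwistExt.snd (Φ q) = p q := by
  open W4c6defoisocp1 in
  letI : Module K Q := Module.compHom Q (algebraMap K D)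
  haveI : IsScalarTower K D Q := ⟨fun c a q => by
    change (c • a) • q = algebraMap K D c • (a • q)
    rw [Algebra.smul_def, mul_smul]⟩
  obtain ⟨τ, hτ⟩ := (p.restrictScalars K).exists_rightInverse_of_surjective
    (LinearMap.range_eq_top.2 hp)
  have hpτ : ∀ e, p (τ e) = e := fun e => LinearMap.congr_fun hτ e
  have hpi : ∀ f, p (i f) = 0 := fun f => (hex (i f)).2 ⟨f, rfl⟩
  have hexq : ∀ q : Q, ∃ f : F, i f = q - τ (p q) := fun q =>
    (hex _).1 (by rw [map_sub, hpτ, sub_self])
  choose ρ hρ using hexq
  have hiK : ∀ (c : K) (f : F), i (c • f) = c • i f := fun c f => by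
    rw [← algebraMap_smul D c f, map_smul, algebraMap_smul]
  have hpK : ∀ (c : K) (q : Q), p (c • q) = c • p q := fun c q => by
    rw [← algebraMap_smul D c q, map_smul, algebraMap_smul]
  have hρadd : ∀ q q', ρ (q + q') = ρ q + ρ q' := fun q q' => hi (by
    rw [map_add, hρ, hρ, hρ, map_add, map_add]; abel)
  have hρK : ∀ (c : K) q, ρ (c • q) = c • ρ q := fun c q => hi (by
    rw [hiK, hρ, hρ, hpK, map_smul, smul_sub])
  let s : D →ₗ[K] E →ₗ[K] F := LinearMap.mk₂ K (fun a e => ρ (a • τ e))
    (fun a b e => by rw [add_smul, hρadd])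
    (fun c a e => by rw [smul_assoc, hρK])
    (fun a e e' => by rw [map_add, smul_add, hρadd])
    (fun c a e => by rw [map_smul, smul_comm, hρK])
  have hsapp : ∀ a e, s a e = ρ (a • τ e) := fun _ _ => rfl
  have his : ∀ a e, i (s a e) = a • τ e - τ (a • e) := fun a e => by
    rw [hsapp, hρ, map_smul, hpτ]
  have hs : IsHomDerivation s := by
    intro a b e
    apply hi
    rw [map_add, map_smul, his, his, his, mul_smul, mul_smul, smul_sub]
    abel
  let Ψ : TwistExt s hs →ₗ[D] Q :=
    { toFun := fun x => i (TwistExt.val x).1 + τ (TwistExt.val x).2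
      map_add' := fun x y => by
        simp only [TwistExt.val_add, Prod.fst_add, Prod.snd_add, map_add]
        abel
      map_smul' := fun a x => by
        simp only [TwistExt.val_smul, RingHom.id_apply, map_add, map_smul, his, smul_add]
        abel }
  have hΨ : ∀ x, Ψ x = i (TwistExt.val x).1 + τ (TwistExt.val x).2 := fun _ => rfl
  have hpΨ : ∀ x, p (Ψ x) = (TwistExt.val x).2 := fun x => by
    rw [hΨ, map_add, hpi, hpτ, zero_add]
  have hbij : Function.Bijective Ψ := by
    constructor
    · intro x y hxy
      have h2 : (TwistExt.val x).2 = (TwistExt.val y).2 := by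
        rw [← hpΨ x, ← hpΨ y, hxy]
      rw [hΨ, hΨ, h2] at hxy
      exact TwistExt.ext (hi (add_right_cancel hxy)) h2
    · intro q
      refine ⟨TwistExt.mk (ρ q, p q), ?_⟩
      rw [hΨ]
      simp only [TwistExt.val_mk, hρ]
      abel
  refine ⟨s, hs, (LinearEquiv.ofBijective Ψ hbij).symm, fun f => ?_, fun q => ?_⟩
  · rw [LinearEquiv.symm_apply_eq]
    change i f = Ψ (TwistExt.inl f)
    rw [hΨ]
    simp
  · have h1 : Ψ ((LinearEquiv.ofBijective Ψ hbij).symm q) = q :=
      (LinearEquiv.ofBijective Ψ hbij).apply_symm_apply q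
    rw [TwistExt.snd_apply, ← hpΨ, h1]

end Groth.Agent.S18802
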