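import Groth.Statements.S18803
import Mathlib

set_option autoImplicit false
universe u v w w'
open DefMod

namespace Groth.Agent.S18803

/-- Let K be a field of characteristic zero, D an associative K-algebra, E and F left D-modules, and s :
D → Hom_K(E, F) a K-linear map with s(ab)(e) = a s(b)(e) + s(a)(b e). The twisted sum F ⊕_s E (that
is F × E with a · (f, e) = (a f + s(a) e, a e)) is a trivial extension of E by F — there is a
D-linear isomorphism F ⊕_s E ≅ F × E with the direct-sum module structure, carrying the inclusion f
↦ (f, 0) to itself and compatible with the second projections — if and only if s is principal: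
s(a)(e) = a σ(e) − σ(a e) for some K-linear σ : E → F (a Hochschild 1-coboundary). -/
theorem result
    {K : Type u} [Field K] [CharZero K]
    {D : Type v} [Ring D] [Algebra K D]
    {E : Type w} [AddCommGroup E] [Module K E] [Module D E] [IsScalarTower K D E]
    {F : Type w'} [AddCommGroup F] [Module K F] [Module D F] [IsScalarTower K D F]
    (s : D →ₗ[K] E →ₗ[K] F) (hs : W4c6defoisocp1.IsHomDerivation s) :
    (∃ Ψ : W4c6defoisocp1.TwistExt s hs ≃ₗ[D] F × E,
        (∀ f : F, Ψ (W4c6defoisocp1.TwistExt.inl f) = (f, 0)) ∧ ∀ x : W4c6defoisocp1.TwistExt s hs, (Ψ x).2 = W4c6defoisocp1.TwistExt.snd x) ↔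
      W4c6defoisocp1.IsPrincipal s := by
  open W4c6defoisocp1 in
  constructor
  · rintro ⟨Ψ, hΨ1, hΨ2⟩
    have hs1 : ∀ c : K, s (algebraMap K D c) = 0 := fun c => by
      rw [Algebra.algebraMap_eq_smul_one, map_smul, TwistExt.map_one_eq_zero hs, smul_zero]
    let σ : E →ₗ[K] F :=
      { toFun := fun e => (Ψ (TwistExt.mk (0, e))).1
        map_add' := fun e e' => by
          have h : (TwistExt.mk (0, e + e') : TwistExt s hs) =
              TwistExt.mk (0, e) + TwistExt.mk (0, e') := TwistExt.ext (by simp) (by simp)
          rw [h, map_add]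
          rfl
        map_smul' := fun c e => by
          have h : (TwistExt.mk (0, c • e) : TwistExt s hs) =
              algebraMap K D c • TwistExt.mk (0, e) :=
            TwistExt.ext (by simp [hs1]) (by simp)
          rw [h, map_smul, RingHom.id_apply, Prod.smul_fst, algebraMap_smul] }
    have hσ : ∀ e, σ e = (Ψ (TwistExt.mk (0, e))).1 := fun _ => rfl
    refine ⟨σ, fun a e => ?_⟩
    have h1 : (a • TwistExt.mk (0, e) : TwistExt s hs) =
        TwistExt.inl (s a e) + TwistExt.mk (0, a • e) := TwistExt.ext (by simp) (by simp)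
    have h2 := congrArg (fun x => (Ψ x).1) h1
    simp only [map_smul, map_add, hΨ1, Prod.smul_fst, Prod.fst_add] at h2
    rw [← hσ, ← hσ] at h2
    rw [h2]
    abel
  · rintro ⟨σ, hσ⟩
    let Ψ₀ : TwistExt s hs →ₗ[D] F × E :=
      { toFun := fun x => ((TwistExt.val x).1 + σ (TwistExt.val x).2, (TwistExt.val x).2)
        map_add' := fun x y => by
          apply Prod.ext
          · simp only [TwistExt.val_add, Prod.fst_add, Prod.snd_add, map_add]
            abel
          · simp
        map_smul' := fun a x => by
          apply Prod.ext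
          · simp only [TwistExt.val_smul, RingHom.id_apply, Prod.smul_fst, hσ, smul_add]
            abel
          · simp }
    have hΨ₀ : ∀ x, Ψ₀ x = ((TwistExt.val x).1 + σ (TwistExt.val x).2, (TwistExt.val x).2) :=
      fun _ => rfl
    have hbij : Function.Bijective Ψ₀ := by
      constructor
      · intro x y hxy
        rw [hΨ₀, hΨ₀, Prod.mk.injEq] at hxy
        obtain ⟨h1, h2⟩ := hxy
        rw [h2] at h1
        exact TwistExt.ext (add_right_cancel h1) h2
      · rintro ⟨f, e⟩
        refine ⟨TwistExt.mk (f - σ e, e), ?_⟩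
        rw [hΨ₀]
        simp
    refine ⟨LinearEquiv.ofBijective Ψ₀ hbij, fun f => ?_, fun x => ?_⟩
    · change Ψ₀ (TwistExt.inl f) = (f, 0)
      rw [hΨ₀]
      simp
    · rfl

end Groth.Agent.S18803
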