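import Groth.Statements.S18811
import Mathlib

set_option autoImplicit false
universe u
open CategoryTheory CategoryTheory.Limits AlgebraicGeometry
open Variety

namespace Groth.Agent.S18811

/-- Let k be a field and X, Y quasi-compact k-schemes whose diagonal morphisms over k are affine
(semi-separated; for instance X and Y separated over k). Then the canonical map Γ(X, O_X) ⊗_k Γ(Y,
O_Y) → Γ(X ×_k Y, O) is an isomorphism: the commutative square of rings of global sections formed by
Spec k, X, Y and X ×_k Y with the pullback maps along the structure morphisms and the two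
projections is a pushout square of commutative rings. -/
theorem result (k : Type u) [Field k]
    (X : Scheme.{u}) [X.Over (Spec (CommRingCat.of k))] [CompactSpace ↥X]
    [IsAffineHom (pullback.diagonal (X ↘ (Spec (CommRingCat.of k))))]
    (Y : Scheme.{u}) [Y.Over (Spec (CommRingCat.of k))] [CompactSpace ↥Y]
    [IsAffineHom (pullback.diagonal (Y ↘ (Spec (CommRingCat.of k))))] :
    IsPushout (X ↘ (Spec (CommRingCat.of k))).appTop (Y ↘ (Spec (CommRingCat.of k))).appTop
      (pullback.fst (X ↘ (Spec (CommRingCat.of k))) (Y ↘ (Spec (CommRingCat.of k)))).appTop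
      (pullback.snd (X ↘ (Spec (CommRingCat.of k))) (Y ↘ (Spec (CommRingCat.of k)))).appTop := by
  classical
  let S := Spec (CommRingCat.of k)
  have H : IsPullback (pullback.fst (X ↘ S) (Y ↘ S)) (pullback.snd (X ↘ S) (Y ↘ S)) (X ↘ S) (Y ↘ S) :=
    IsPullback.of_hasPullback _ _
  have hQSX : QuasiSeparatedSpace X := by
    have : QuasiSeparated (X ↘ S) := ⟨inferInstance⟩
    exact quasiSeparatedSpace_of_quasiSeparated (X ↘ S)
  have hQSY : QuasiSeparatedSpace Y := by
    have : QuasiSeparated (Y ↘ S) := ⟨inferInstance⟩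
    exact quasiSeparatedSpace_of_quasiSeparated (Y ↘ S)
  have hUST : (⊤ : Y.Opens) ≤ (Y ↘ S) ⁻¹ᵁ (⊤ : S.Opens) := le_of_eq rfl
  have hUSX : (⊤ : X.Opens) ≤ (X ↘ S) ⁻¹ᵁ (⊤ : S.Opens) := le_of_eq rfl
  have hUY : (⊤ : (pullback (X ↘ S) (Y ↘ S)).Opens) =
      (pullback.fst (X ↘ S) (Y ↘ S)) ⁻¹ᵁ ⊤ ⊓ (pullback.snd (X ↘ S) (Y ↘ S)) ⁻¹ᵁ ⊤ := by
    simp
  have hflat : ((X ↘ S).appLE ⊤ ⊤ hUSX).hom.Flat := by
    have hF : IsField Γ(S, ⊤) :=
      MulEquiv.isField (Field.toIsField k)
        (Scheme.ΓSpecIso (CommRingCat.of k)).commRingCatIsoToRingEquiv.toMulEquiv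
    let _ := hF.toField
    algebraize [((X ↘ S).appLE ⊤ ⊤ hUSX).hom]
    show Module.Flat Γ(S, ⊤) Γ(X, ⊤)
    infer_instance
  have hiso := isIso_pushoutSection_of_isCompact_of_flat_right_of_ringHomFlat H hUST hUSX hUY
    (isAffineOpen_top S) (by simpa using isCompact_univ)
    (by simpa using (isQuasiSeparated_univ_iff.mpr hQSY)) (by simpa using isCompact_univ)
    (by simpa using (isQuasiSeparated_univ_iff.mpr hQSX)) hflat
  have hpo := (isIso_pushoutSection_iff H hUST hUSX hUY).mp hiso
  convert hpo using 1 <;> simp [Scheme.Hom.appTop, Scheme.Hom.app_eq_appLE] <;> rfl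

end Groth.Agent.S18811
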