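import Groth.Statements.S18819
import Mathlib
import Groth.Agent.Lib.Helper4.Comod

set_option autoImplicit false
universe u v w w'
open TensorProduct
open HopfRep

namespace Groth.Agent.S18819

/-- Let k be a field, C a k-coalgebra and V a right C-comodule which is the sum of finitely many simple
subcomodules, given as the images of comodule maps g_i : K_i → V (i < n) from simple comodules K_i.
If S is a simple comodule and f : S → V a nonzero comodule map (so that its image is a simple
subcomodule of V), then S is isomorphic as a comodule to some K_i: there is a k-linear isomorphism S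
≃ K_i commuting with the coactions. (The source states this for representations of an affine monoid
scheme over k with the subrepresentations given as subspaces; here the simple subcomodules are
presented as images of maps from simple comodules.) -/
theorem result (k : Type u) [Field k]
    (C : Type v) [AddCommGroup C] [Module k C] [Coalgebra k C]
    (V : Type w) [AddCommGroup V] [Module k V] [HopfRep.Comod k C V]
    {n : ℕ} (K : Fin n → Type w') [∀ i, AddCommGroup (K i)] [∀ i, Module k (K i)] [∀ i, HopfRep.Comod k C (K i)]
    (hK : ∀ i, HopfRep.IsSimpleComod k C (K i)) (g : ∀ i, K i →ₗ[k] V) (hg : ∀ i, Hoch.IsComodHom C (g i))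
    (hsum : (⨆ i, LinearMap.range (g i)) = ⊤)
    (S : Type w') [AddCommGroup S] [Module k S] [HopfRep.Comod k C S] (hS : HopfRep.IsSimpleComod k C S)
    (f : S →ₗ[k] V) (hf : Hoch.IsComodHom C f) (hf0 : f ≠ 0) :
    ∃ (i : Fin n) (e : S ≃ₗ[k] K i), Hoch.IsComodHom C (e : S →ₗ[k] K i) := by
  letI := Groth.Agent.Helper4.Comod.dualModule k C V
  letI := Groth.Agent.Helper4.Comod.dualModule k C S
  letI : ∀ i, Module (Groth.Agent.Helper4.Comod.Dual k C) (K i) :=
    fun i => Groth.Agent.Helper4.Comod.dualModule k C (K i)
  haveI : IsSimpleModule (Groth.Agent.Helper4.Comod.Dual k C) S :=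
    Groth.Agent.Helper4.Comod.isSimpleComod_iff.mp hS
  haveI : ∀ i, IsSimpleModule (Groth.Agent.Helper4.Comod.Dual k C) (K i) :=
    fun i => Groth.Agent.Helper4.Comod.isSimpleComod_iff.mp (hK i)
  set G : ∀ i, K i →ₗ[Groth.Agent.Helper4.Comod.Dual k C] V :=
    fun i => Groth.Agent.Helper4.Comod.toDualLinear (C := C) (g i) (hg i) with hG
  set F : S →ₗ[Groth.Agent.Helper4.Comod.Dual k C] V :=
    Groth.Agent.Helper4.Comod.toDualLinear (C := C) f hf with hF
  have hsum' : (⨆ i, LinearMap.range (G i)) = ⊤ := by
    have h1 : (⨆ i, LinearMap.range (G i)).restrictScalars k = ⊤ := by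
      rw [Submodule.restrictScalars_iSup, ← hsum]
      rfl
    rw [← Submodule.restrictScalars_top k (Groth.Agent.Helper4.Comod.Dual k C) V] at h1
    exact Submodule.restrictScalars_injective k _ _ h1
  haveI : IsSemisimpleModule (Groth.Agent.Helper4.Comod.Dual k C) V :=
    isSemisimpleModule_of_isSemisimpleModule_submodule' (p := fun i => LinearMap.range (G i))
      (fun i => IsSemisimpleModule.range (G i)) hsum'
  have hF0 : F ≠ 0 := by
    intro h
    apply hf0
    ext s
    have := congrArg (fun T => T s) h
    exact this
  have hFinj : Function.Injective F := LinearMap.injective_of_ne_zero hF0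
  obtain ⟨r, hr⟩ := IsSemisimpleModule.extension_property F hFinj LinearMap.id
  have hex : ∃ i, r ∘ₗ G i ≠ 0 := by
    by_contra hcon
    push Not at hcon
    have hr0 : r = 0 := by
      have hker : (⊤ : Submodule (Groth.Agent.Helper4.Comod.Dual k C) V) ≤ LinearMap.ker r := by
        rw [← hsum']
        apply iSup_le
        rintro i _ ⟨x, rfl⟩
        rw [LinearMap.mem_ker]
        have := congrArg (fun T => T x) (hcon i)
        simpa using this
      ext v
      exact LinearMap.mem_ker.mp (hker trivial)
    rw [hr0, LinearMap.zero_comp] at hr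
    haveI : Nontrivial S := IsSimpleModule.nontrivial (Groth.Agent.Helper4.Comod.Dual k C) S
    obtain ⟨s, hs⟩ := exists_ne (0 : S)
    have := congrArg (fun T => T s) hr
    simp at this
    exact hs this.symm
  obtain ⟨i, hi⟩ := hex
  have hbij : Function.Bijective (r ∘ₗ G i) :=
    (LinearMap.bijective_or_eq_zero (r ∘ₗ G i)).resolve_right hi
  set e : K i ≃ₗ[Groth.Agent.Helper4.Comod.Dual k C] S := LinearEquiv.ofBijective (r ∘ₗ G i) hbij
  refine ⟨i, e.symm.restrictScalars k, ?_⟩
  exact Groth.Agent.Helper4.Comod.isComodHom_restrictScalars (C := C) e.symm.toLinearMap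

end Groth.Agent.S18819
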