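import Groth.Statements.S18820
import Mathlib

set_option autoImplicit false
universe u
open CategoryTheory MonoidalCategory CartesianMonoidalCategory AlgebraicGeometry
open AlgGrp

namespace Groth.Agent.S18820

open CategoryTheory MonoidalCategory CartesianMonoidalCategory AlgebraicGeometry Limits


/-- In a cartesian monoidal category, `M ◁ z` is the base change of `z` along `snd`. -/
theorem isPullback_whiskerLeft_snd {C : Type*} [Category C] [CartesianMonoidalCategory C]
    (M : C) {Z X : C} (z : Z ⟶ X) :
    IsPullback (M ◁ z) (snd M Z) (snd M X) z := by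
  refine ⟨⟨by simp⟩, ⟨PullbackCone.IsLimit.mk _ (fun s => lift (s.fst ≫ fst M X) s.snd) ?_ ?_ ?_⟩⟩
  · intro s
    apply CartesianMonoidalCategory.hom_ext
    · simp
    · simp [s.condition]
  · intro s
    simp
  · intro s m h1 h2
    apply CartesianMonoidalCategory.hom_ext
    · have := congrArg (fun t => t ≫ fst M X) h1
      simpa using this
    · simpa using h2


theorem stable_iff (S : Scheme.{u})
    (M X Z : Over S) (a : M ⊗ X ⟶ X) (aZ : M ⊗ Z ⟶ Z) (z : Z ⟶ X)
    [IsClosedImmersion z.left] [Surjective z.left] (hz : (M ◁ z) ≫ a = aZ ≫ z) (U : X.left.Opens) :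
    (CartesianMonoidalCategory.snd M X).left ⁻¹ᵁ U ≤ a.left ⁻¹ᵁ U ↔
      (CartesianMonoidalCategory.snd M Z).left ⁻¹ᵁ (z.left ⁻¹ᵁ U) ≤ aZ.left ⁻¹ᵁ (z.left ⁻¹ᵁ U) := by
  have hpb := (isPullback_whiskerLeft_snd M z).map (Over.forget S)
  simp only [Over.forget_obj, Over.forget_map] at hpb
  have hsurj : Surjective (M ◁ z).left :=
    MorphismProperty.of_isPullback (P := @Surjective) hpb.flip inferInstance
  have e1 : ∀ p, (snd M X).left.base ((M ◁ z).left.base p) = z.left.base ((snd M Z).left.base p) := by
    intro p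
    have := congrArg (fun φ => φ.base p) hpb.w
    exact this
  have e2 : ∀ p, a.left.base ((M ◁ z).left.base p) = z.left.base (aZ.left.base p) := by
    intro p
    have := congrArg (fun φ : M ⊗ Z ⟶ X => φ.left.base p) hz
    exact this
  constructor
  · intro h p hp
    have h1 : (M ◁ z).left.base p ∈ (snd M X).left ⁻¹ᵁ U := by
      show (snd M X).left.base ((M ◁ z).left.base p) ∈ U
      rw [e1]; exact hp
    have h2 := h h1
    show z.left.base (aZ.left.base p) ∈ U
    rw [← e2]; exact h2
  · intro h q hq
    obtain ⟨p, rfl⟩ := hsurj.surj q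
    have h1 : p ∈ (snd M Z).left ⁻¹ᵁ (z.left ⁻¹ᵁ U) := by
      show z.left.base ((snd M Z).left.base p) ∈ U
      rw [← e1]; exact hq
    have h2 := h h1
    show a.left.base ((M ◁ z).left.base p) ∈ U
    rw [e2]; exact h2

/-- Let k be a field, M a k-scheme (in the source a monoid k-scheme) acting on a k-scheme X through a :
M ×_k X → X, and z : Z → X a closed immersion which is surjective (a closed subscheme defined by an
ideal all of whose sections are nilpotent, e.g. the reduction of X), stable under the action: a_Z :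
M ×_k Z → Z satisfies (id_M × z) followed by a = a_Z followed by z. For an open subset U of X the
following are equivalent: (i) U is stable, i.e. a maps M ×_k U into U; (ii) U ∩ Z is stable, i.e.
a_Z maps M ×_k (U ∩ Z) into U ∩ Z. (The monoid axioms of the source play no role and are not
assumed.) -/
theorem result (k : Type u) [Field k]
    (M X Z : Over (Spec (CommRingCat.of k))) (a : M ⊗ X ⟶ X) (aZ : M ⊗ Z ⟶ Z) (z : Z ⟶ X)
    [IsClosedImmersion z.left] [Surjective z.left] (hz : (M ◁ z) ≫ a = aZ ≫ z) (U : X.left.Opens) :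
    (CartesianMonoidalCategory.snd M X).left ⁻¹ᵁ U ≤ a.left ⁻¹ᵁ U ↔
      (CartesianMonoidalCategory.snd M Z).left ⁻¹ᵁ (z.left ⁻¹ᵁ U) ≤ aZ.left ⁻¹ᵁ (z.left ⁻¹ᵁ U) := by
  exact stable_iff _ M X Z a aZ z hz U

end Groth.Agent.S18820
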