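import Groth.Statements.S18821
import Mathlib

set_option autoImplicit false
universe u
open CategoryTheory MonoidalCategory CartesianMonoidalCategory MonObj AlgebraicGeometry
open AlgGrp

namespace Groth.Agent.S18821

section
open CategoryTheory MonoidalCategory CartesianMonoidalCategory MonObj AlgebraicGeometry

section
variable {C : Type*} [Category C] [CartesianMonoidalCategory C] [Limits.HasPullbacks C]
  (M : C) [MonObj M]

/-- (a,b) ↦ (ab, ba) -/
noncomputable def φ : M ⊗ M ⟶ M ⊗ M := lift μ[M] (lift (snd M M) (fst M M) ≫ μ[M])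
/-- the point (1,1) -/
noncomputable def e : 𝟙_ C ⟶ M ⊗ M := lift η[M] η[M]

theorem lift_φ {T : C} (a b : T ⟶ M) : lift a b ≫ φ M = lift (a * b) (b * a) := by
  unfold φ
  ext
  · simp [Hom.mul_def]
  · simp only [Category.assoc, lift_snd, Hom.mul_def]
    rw [← Category.assoc]
    congr 1
    ext <;> simp

theorem toUnit_e {T : C} : toUnit T ≫ e M = lift (1 : T ⟶ M) 1 := by
  unfold e
  ext <;> simp [Hom.one_def]

noncomputable abbrev Gobj : C := Limits.pullback (φ M) (e M)
noncomputable def incl : Gobj M ⟶ M := Limits.pullback.fst (φ M) (e M) ≫ fst M M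

theorem pt_cond {T : C} (g : T ⟶ Gobj M) :
    let p := g ≫ Limits.pullback.fst (φ M) (e M)
    (p ≫ fst M M) * (p ≫ snd M M) = 1 ∧ (p ≫ snd M M) * (p ≫ fst M M) = 1 := by
  intro p
  have hp : p = lift (p ≫ fst M M) (p ≫ snd M M) := by ext <;> simp
  have h1 : p ≫ φ M = toUnit T ≫ e M := by
    show (g ≫ Limits.pullback.fst (φ M) (e M)) ≫ φ M = _
    rw [Category.assoc, Limits.pullback.condition, ← Category.assoc]
    congr 1
    exact toUnit_unique _ _
  rw [hp, lift_φ, toUnit_e] at h1
  constructor
  · have := congrArg (· ≫ fst M M) h1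
    simpa using this
  · have := congrArg (· ≫ snd M M) h1
    simpa using this

theorem core : Mono (incl M) ∧ ∀ (T : C) (m : T ⟶ M), (∃ g : T ⟶ Gobj M, g ≫ incl M = m) ↔ IsUnit m := by
  constructor
  · constructor
    intro T g g' hgg
    have h1 := pt_cond M g
    have h2 := pt_cond M g'
    simp only at h1 h2
    set p := g ≫ Limits.pullback.fst (φ M) (e M) with hp
    set p' := g' ≫ Limits.pullback.fst (φ M) (e M) with hp'
    have ha : p ≫ fst M M = p' ≫ fst M M := by
      simpa [incl, hp, hp'] using hgg
    have hb : p ≫ snd M M = p' ≫ snd M M := by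
      have := left_inv_eq_right_inv h1.2 (ha ▸ h2.1)
      exact this
    have hpp : p = p' := by
      ext
      · exact ha
      · exact hb
    apply Limits.pullback.hom_ext
    · exact hpp
    · exact toUnit_unique _ _
  · intro T m
    constructor
    · rintro ⟨g, rfl⟩
      have h1 := pt_cond M g
      simp only at h1
      refine ⟨⟨g ≫ incl M, (g ≫ Limits.pullback.fst (φ M) (e M)) ≫ snd M M, ?_, ?_⟩, rfl⟩
      · simpa [incl] using h1.1
      · simpa [incl] using h1.2
    · rintro ⟨u, rfl⟩
      have hcond : lift (u : T ⟶ M) ((u⁻¹ : (T ⟶ M)ˣ) : T ⟶ M) ≫ φ M = toUnit T ≫ e M := by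
        rw [lift_φ, toUnit_e, Units.mul_inv, Units.inv_mul]
      refine ⟨Limits.pullback.lift _ _ hcond, ?_⟩
      unfold incl
      rw [← Category.assoc, Limits.pullback.lift_fst, lift_fst]
end

theorem main (k : Type u) [CommRing k]
    (M : Over (Spec (CommRingCat.of k))) [MonObj M] :
    ∃ (G : Over (Spec (CommRingCat.of k))) (i : G ⟶ M), Mono i ∧
      (∀ (T : Over (Spec (CommRingCat.of k))) (m : T ⟶ M), (∃ g : T ⟶ G, g ≫ i = m) ↔ IsUnit m) ∧
      (IsAffine M.left → IsAffine G.left) := by
  refine ⟨Gobj M, incl M, (core M).1, (core M).2, ?_⟩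
  intro hM
  haveI : IsAffine (M ⊗ M).left := by
    rw [Over.tensorObj_left]
    infer_instance
  haveI : IsAffine (𝟙_ (Over (Spec (CommRingCat.of k)))).left := by
    rw [Over.tensorUnit_left]
    infer_instance
  let iso := Limits.PreservesPullback.iso (Over.forget (Spec (CommRingCat.of k))) (φ M) (e M)
  have : IsAffine (Limits.pullback ((Over.forget _).map (φ M)) ((Over.forget _).map (e M))) := by
    dsimp only [Over.forget_map, Over.forget_obj]
    infer_instance
  exact IsAffine.of_isIso iso.hom


end


/-- Let k be a commutative ring and M a monoid k-scheme (a monoid object in k-schemes). Then the group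
k-functor of units T ↦ M(T)^× is representable by a k-scheme: there are a k-scheme G and a
monomorphism i : G → M such that, for every k-scheme T, a T-valued point of M factors through i if
and only if it is invertible in the monoid M(T). If moreover M is affine then G is affine. -/
theorem result (k : Type u) [CommRing k]
    (M : Over (Spec (CommRingCat.of k))) [MonObj M] :
    ∃ (G : Over (Spec (CommRingCat.of k))) (i : G ⟶ M), Mono i ∧
      (∀ (T : Over (Spec (CommRingCat.of k))) (m : T ⟶ M), (∃ g : T ⟶ G, g ≫ i = m) ↔ IsUnit m) ∧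
      (IsAffine M.left → IsAffine G.left) := by
  classical
  exact main k M

end Groth.Agent.S18821
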