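import Groth.Statements.S18822
import Mathlib

set_option autoImplicit false
universe u
open CategoryTheory MonoidalCategory CartesianMonoidalCategory MonObj AlgebraicGeometry Opposite
open Magnet

namespace Groth.Agent.S18822

section
open CategoryTheory MonoidalCategory CartesianMonoidalCategory MonObj AlgebraicGeometry Opposite

universe v₁ u₁

theorem fixed_sheaf {C : Type u₁} [Category.{v₁} C] [CartesianMonoidalCategory C]
    (J : GrothendieckTopology C) {A X : C} [MonObj A] (a : Magnet.MonAct A X)
    (hX : Presieve.IsSheaf J (yoneda.obj X)) : Presieve.IsSheaf J (Magnet.MonAct.fixedPsh a) := by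
  intro T R hR x hx
  let y : Presieve.FamilyOfElements (yoneda.obj X) R.arrows := fun Y f hf => (x f hf).1
  have hy : y.Compatible := by
    intro Y₁ Y₂ Z g₁ g₂ f₁ f₂ h₁ h₂ comm
    have := hx g₁ g₂ h₁ h₂ comm
    exact congrArg Subtype.val this
  obtain ⟨s, hs, hs_uniq⟩ := hX R hR y hy
  have hs' : ∀ {Y : C} (f : Y ⟶ T) (hf : R.arrows f), f ≫ s = (x f hf).1 := fun f hf => hs f hf
  have hfix : ∀ (T' : C) (t : T' ⟶ T) (g : T' ⟶ A), lift g (t ≫ s) ≫ a.act = t ≫ s := by
    intro T' t g
    have hsep := (hX (R.pullback t) (J.pullback_stable t hR)).isSeparatedFor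
    apply hsep.ext
    intro Y h hh
    show h ≫ lift g (t ≫ s) ≫ a.act = h ≫ t ≫ s
    have hh' : R.arrows (h ≫ t) := hh
    have h1 : (h ≫ t) ≫ s = (x (h ≫ t) hh').1 := hs' _ hh'
    have h2 := (x (h ≫ t) hh').2 Y (𝟙 _) (h ≫ g)
    rw [Category.id_comp] at h2
    rw [← Category.assoc, comp_lift, ← Category.assoc h t s, h1]
    exact h2
  refine ⟨⟨s, hfix⟩, ?_, ?_⟩
  · intro Y f hf
    apply Subtype.ext
    exact hs' f hf
  · intro s' hs'
    apply Subtype.ext
    apply hs_uniq
    intro Y f hf
    exact congrArg Subtype.val (hs' f hf)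

theorem main (k : Type u) [CommRing k]
    (M X : Over (Spec (CommRingCat.of k))) [MonObj M] (a : Magnet.MonAct M X) :
    Presheaf.IsSheaf (Scheme.zariskiTopology.over (Spec (CommRingCat.of k))) (Magnet.MonAct.fixedPsh a) := by
  rw [isSheaf_iff_isSheaf_of_type]
  apply fixed_sheaf
  exact GrothendieckTopology.Subcanonical.isSheaf_of_isRepresentable _


end


/-- Let k be a commutative ring, M a monoid k-scheme and X a k-scheme with an action a of M. Then the
fixed-point subpresheaf X^M of X, whose T-valued points are the k-morphisms x : T → X such that g ·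
(x ∘ t) = x ∘ t for every k-scheme T', every t : T' → T and every T'-valued point g of M, is a sheaf
for the Zariski topology on k-schemes (the topology induced on schemes over Spec k). -/
theorem result (k : Type u) [CommRing k]
    (M X : Over (Spec (CommRingCat.of k))) [MonObj M] (a : Magnet.MonAct M X) :
    Presheaf.IsSheaf (Scheme.zariskiTopology.over (Spec (CommRingCat.of k))) (Magnet.MonAct.fixedPsh a) := by
  classical
  exact main k M X a

end Groth.Agent.S18822
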