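import Groth.Statements.S18824
import Mathlib
import Groth.Agent.Lib.Helper4.Act1

set_option autoImplicit false
universe u
open CategoryTheory MonoidalCategory CartesianMonoidalCategory MonObj AlgebraicGeometry
open AlgGrp

namespace Groth.Agent.S18824

open CategoryTheory MonoidalCategory CartesianMonoidalCategory MonObj AlgebraicGeometry Limits


theorem isPullback_whiskerLeft_snd' {C : Type*} [Category C] [CartesianMonoidalCategory C]
    (M : C) {Z X : C} (z : Z ⟶ X) :
    IsPullback (M ◁ z) (snd M Z) (snd M X) z := by
  refine ⟨⟨by simp⟩, ⟨PullbackCone.IsLimit.mk _ (fun s => lift (s.fst ≫ fst M X) s.snd) ?_ ?_ ?_⟩⟩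
  · intro s
    apply CartesianMonoidalCategory.hom_ext
    · simp
    · simp [s.condition]
  · intro s
    simp
  · intro s m h1 h2
    apply CartesianMonoidalCategory.hom_ext
    · have := congrArg (fun t => t ≫ fst M X) h1
      simpa using this
    · simpa using h2

theorem orbit_open (k : Type u) [Field k]
    (G X : Over (Spec (CommRingCat.of k))) [GrpObj G] (a : AlgGrp.Action G X)
    (U : Set ↥X.left) (hU : IsOpen U) :
    IsOpen (a.act.left.base '' ((CartesianMonoidalCategory.snd G X).left.base ⁻¹' U)) ∧
      U ⊆ a.act.left.base '' ((CartesianMonoidalCategory.snd G X).left.base ⁻¹' U) ∧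
      a.act.left.base '' ((CartesianMonoidalCategory.snd G X).left.base ⁻¹'
          (a.act.left.base '' ((CartesianMonoidalCategory.snd G X).left.base ⁻¹' U))) ⊆
        a.act.left.base '' ((CartesianMonoidalCategory.snd G X).left.base ⁻¹' U) ∧
      ∀ W : Set ↥X.left, IsOpen W → U ⊆ W →
        a.act.left.base '' ((CartesianMonoidalCategory.snd G X).left.base ⁻¹' W) ⊆ W →
          a.act.left.base '' ((CartesianMonoidalCategory.snd G X).left.base ⁻¹' U) ⊆ W := by
  refine ⟨?_, ?_, ?_, ?_⟩
  · obtain ⟨e, he⟩ := Groth.Agent.Helper4.Act.exists_iso_act a.act a.one_act a.mul_act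
    have hiso : IsIso e.hom.left := (inferInstance : IsIso ((Over.forget _).map e.hom))
    have huo : UniversallyOpen (snd G X).left := by
      have : UniversallyOpen G.hom := inferInstance
      exact (inferInstance : UniversallyOpen (pullback.snd G.hom X.hom))
    have hopen : IsOpenMap a.act.left.base := by
      rw [he, Over.comp_left]
      have : UniversallyOpen (e.hom.left ≫ (snd G X).left) := inferInstance
      exact (e.hom.left ≫ (snd G X).left).isOpenMap
    exact hopen _ (hU.preimage (snd G X).left.base.hom.continuous)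
  · intro x hx
    let s : X ⟶ G ⊗ X := (λ_ X).inv ≫ (η[G] ▷ X)
    have hs1 : s ≫ a.act = 𝟙 X := by
      simp only [s, Category.assoc, a.one_act, Iso.inv_hom_id]
    have hs2 : s ≫ snd G X = 𝟙 X := by
      simp only [s, Category.assoc, whiskerRight_snd, ← leftUnitor_hom, Iso.inv_hom_id]
    refine ⟨s.left.base x, ?_, ?_⟩
    · show (snd G X).left.base (s.left.base x) ∈ U
      have := congrArg (fun φ : X ⟶ X => φ.left.base x) hs2
      have h2 : (snd G X).left.base (s.left.base x) = x := this
      rw [h2]; exact hx
    · have := congrArg (fun φ : X ⟶ X => φ.left.base x) hs1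
      exact this
  · rintro _ ⟨q, ⟨q', hq'U, hq'⟩, rfl⟩
    have hpb := (isPullback_whiskerLeft_snd' G a.act).map (Over.forget _)
    simp only [Over.forget_obj, Over.forget_map] at hpb
    obtain ⟨r, hr1, hr2⟩ := Scheme.exists_preimage_of_isPullback hpb q q' hq'.symm
    let t : (G ⊗ X).left := (μ[G] ▷ X).left.base ((α_ G G X).inv.left.base r)
    refine ⟨t, ?_, ?_⟩
    · show (snd G X).left.base t ∈ U
      have h1 : (α_ G G X).inv ≫ (μ[G] ▷ X) ≫ snd G X = snd G (G ⊗ X) ≫ snd G X := by
        simp
      have h2 := congrArg (fun φ : G ⊗ (G ⊗ X) ⟶ X => φ.left.base r) h1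
      have h3 : (snd G X).left.base t = (snd G X).left.base ((snd G (G ⊗ X)).left.base r) := h2
      rw [h3, hr2]
      exact hq'U
    · have h1 : (α_ G G X).inv ≫ (μ[G] ▷ X) ≫ a.act = (G ◁ a.act) ≫ a.act := by
        rw [a.mul_act, Iso.inv_hom_id_assoc]
      have h2 := congrArg (fun φ : G ⊗ (G ⊗ X) ⟶ X => φ.left.base r) h1
      have h3 : a.act.left.base t = a.act.left.base ((G ◁ a.act).left.base r) := h2
      rw [h3, hr1]
  · intro W _ hUW hW
    exact (Set.image_mono (Set.preimage_mono hUW)).trans hW

/-- Let k be a field, G a locally algebraic group over k (a group k-scheme locally of finite type)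
acting on a k-scheme X through a : G ×_k X → X, and U an open subset of X. Let G·U ⊆ X be the image
under a of G ×_k U (the preimage of U under the projection). Then G·U is open in X, contains U, is
G-stable in the sense that a maps G ×_k (G·U) into G·U, and is the smallest such set: every G-stable
open subset of X containing U contains G·U. -/
theorem result (k : Type u) [Field k]
    (G X : Over (Spec (CommRingCat.of k))) [GrpObj G] [LocallyOfFiniteType G.hom] (a : AlgGrp.Action G X)
    (U : Set ↥X.left) (hU : IsOpen U) :
    IsOpen (a.act.left.base '' ((CartesianMonoidalCategory.snd G X).left.base ⁻¹' U)) ∧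
      U ⊆ a.act.left.base '' ((CartesianMonoidalCategory.snd G X).left.base ⁻¹' U) ∧
      a.act.left.base '' ((CartesianMonoidalCategory.snd G X).left.base ⁻¹'
          (a.act.left.base '' ((CartesianMonoidalCategory.snd G X).left.base ⁻¹' U))) ⊆
        a.act.left.base '' ((CartesianMonoidalCategory.snd G X).left.base ⁻¹' U) ∧
      ∀ W : Set ↥X.left, IsOpen W → U ⊆ W →
        a.act.left.base '' ((CartesianMonoidalCategory.snd G X).left.base ⁻¹' W) ⊆ W →
          a.act.left.base '' ((CartesianMonoidalCategory.snd G X).left.base ⁻¹' U) ⊆ W := by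
  exact orbit_open k G X a U hU

end Groth.Agent.S18824
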