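import Groth.Statements.S18826
import Mathlib
import Groth.Prelude.Def_ChGrp
import Groth.Agent.S7994
import Groth.Agent.S18858

set_option autoImplicit false
universe u
open CategoryTheory MonoidalCategory CartesianMonoidalCategory MonObj AlgebraicGeometry
open AlgGrp

namespace Groth.Agent.S18826

section
open CategoryTheory MonoidalCategory CartesianMonoidalCategory MonObj AlgebraicGeometry
open Limits GrpObj MorphismProperty

section gen
variable {C : Type*} [Category C] [CartesianMonoidalCategory C]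

theorem isPullback_whiskerLeft {A B : C} (Z : C) (q : A ⟶ B) :
    IsPullback (snd Z A) (Z ◁ q) q (snd Z B) := by
  refine ⟨⟨by simp⟩, ⟨PullbackCone.IsLimit.mk _ (fun s => lift (s.snd ≫ fst Z B) s.fst) ?_ ?_ ?_⟩⟩
  · intro s; simp
  · intro s
    apply CartesianMonoidalCategory.hom_ext
    · simp
    · simp [s.condition]
  · intro s m h1 h2
    apply CartesianMonoidalCategory.hom_ext
    · simp [← h2]
    · simp [← h1]
end gen

variable {S : Scheme.{u}}

/-- the equivariance square is cartesian -/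
theorem isPullback_equivariant {G X Y : Over S} [GrpObj G] (aX : AlgGrp.Action G X)
    (aY : AlgGrp.Action G Y) (f : X ⟶ Y) (hf : (G ◁ f) ≫ aY.act = aX.act ≫ f) :
    IsPullback aX.act (G ◁ f) f aY.act := by
  haveI := Groth.Agent.S7994.shear_iso aX
  haveI := Groth.Agent.S7994.shear_iso aY
  let σX := asIso (lift (fst G X) aX.act)
  let σY := asIso (lift (fst G Y) aY.act)
  have hcomm : σX.hom ≫ (G ◁ f) = (G ◁ f) ≫ σY.hom := by
    apply CartesianMonoidalCategory.hom_ext
    · simp [σX, σY]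
    · simp [σX, σY, hf]
  refine IsPullback.of_iso (isPullback_whiskerLeft G f) σX.symm (Iso.refl _) σY.symm (Iso.refl _)
    ?_ ?_ ?_ ?_
  · simp [σX]
  · simp only [Iso.symm_hom]
    rw [Iso.comp_inv_eq, Category.assoc, ← hcomm, Iso.inv_hom_id_assoc]
  · simp
  · simp [σY]

/-- the maximal open for a property local at the target -/
theorem exists_max_open (P : MorphismProperty Scheme.{u}) [IsZariskiLocalAtTarget P]
    {X Y : Scheme.{u}} (f : X ⟶ Y) :
    ∃ V : Y.Opens, P (f ∣_ V) ∧ ∀ V' : Y.Opens, P (f ∣_ V') → V' ≤ V := by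
  let 𝒮 : Set Y.Opens := {V' | P (f ∣_ V')}
  refine ⟨sSup 𝒮, ?_, fun V' h => le_sSup h⟩
  set V := sSup 𝒮 with hVdef
  apply IsZariskiLocalAtTarget.of_iSup_eq_top (P := P) (fun i : 𝒮 => V.ι ⁻¹ᵁ i.1)
  · apply top_unique
    rintro x -
    obtain ⟨y, hy⟩ := x
    have hy' : y ∈ (sSup 𝒮 : Y.Opens) := hy
    rw [TopologicalSpace.Opens.mem_sSup] at hy'
    obtain ⟨V', hV', hyV'⟩ := hy'
    rw [TopologicalSpace.Opens.mem_iSup]
    exact ⟨⟨V', hV'⟩, hyV'⟩
  · rintro ⟨V', hV'⟩
    have hle : V' ≤ V := le_sSup hV'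
    rw [P.arrow_mk_iso_iff (morphismRestrictRestrict f V (V.ι ⁻¹ᵁ V'))]
    have e : V.ι ''ᵁ (V.ι ⁻¹ᵁ V') = V' := by
      rw [Scheme.Hom.image_preimage_eq_opensRange_inf, Scheme.Opens.opensRange_ι]
      exact inf_eq_right.2 hle
    rw [e]
    exact hV'


theorem main (k : Type u) [Field k]
    (G X Y : Over (Spec (CommRingCat.of k))) [GrpObj G] [LocallyOfFiniteType G.hom]
    (aX : AlgGrp.Action G X) (aY : AlgGrp.Action G Y) (f : X ⟶ Y) (hf : (G ◁ f) ≫ aY.act = aX.act ≫ f)
    (P : MorphismProperty Scheme.{u}) [IsZariskiLocalAtTarget P] [P.IsStableUnderBaseChange]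
    [P.DescendsAlong (@Flat ⊓ @Surjective ⊓ @UniversallyOpen)] :
    ∃ V : Y.left.Opens, P (f.left ∣_ V) ∧ (∀ V' : Y.left.Opens, P (f.left ∣_ V') → V' ≤ V) ∧
      (CartesianMonoidalCategory.snd G Y).left ⁻¹ᵁ V ≤ aY.act.left ⁻¹ᵁ V := by
  obtain ⟨V, hV, hmax⟩ := exists_max_open P f.left
  refine ⟨V, hV, hmax, ?_⟩
  haveI : P.RespectsIso := inferInstance
  -- properties of the group
  have hGflat : Flat G.hom := inferInstance
  haveI : LocallyOfFinitePresentation G.hom := inferInstance
  have hGuo : UniversallyOpen G.hom := inferInstance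
  set m := aY.act.left with hm
  set p := (snd G Y).left with hp
  set φ := (G ◁ f).left with hφ
  have hmflat : Flat m := Groth.Agent.S7994.act_prop @Flat aY hGflat
  haveI hmuo : UniversallyOpen m := Groth.Agent.S7994.act_prop @UniversallyOpen aY hGuo
  let U : (G ⊗ Y).left.Opens := p ⁻¹ᵁ V
  let W : Y.left.Opens := ⟨m.base '' (U : Set (G ⊗ Y).left), m.isOpenMap _ U.isOpen⟩
  have hUW : U ≤ m ⁻¹ᵁ W := fun x hx => ⟨x, hx, rfl⟩
  let c : (U : Scheme.{u}) ⟶ (W : Scheme.{u}) := m.resLE W U hUW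
  have hc : c ≫ W.ι = U.ι ≫ m := Scheme.Hom.resLE_comp_ι _ _
  have hcflat : Flat c := by
    have : Flat (c ≫ W.ι) := by rw [hc]; infer_instance
    exact MorphismProperty.of_postcomp (W := @Flat) (W' := MorphismProperty.monomorphisms _) c W.ι
      (MorphismProperty.monomorphisms.infer_property _) this
  have hcuo : UniversallyOpen c := by
    have : UniversallyOpen (c ≫ W.ι) := by rw [hc]; infer_instance
    exact MorphismProperty.of_postcomp (W := @UniversallyOpen) (W' := MorphismProperty.monomorphisms _) c W.ι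
      (MorphismProperty.monomorphisms.infer_property _) this
  have hcsurj : Surjective c := by
    constructor
    rintro ⟨w, x, hx, rfl⟩
    refine ⟨⟨x, hx⟩, ?_⟩
    apply W.ι.isOpenEmbedding.injective
    rw [← Scheme.Hom.comp_apply, hc]
    rfl
  -- the restriction of `G ◁ f` over `U` has `P`
  have hPφ : P (φ ∣_ U) := by
    have sqL : IsPullback (φ ⁻¹ᵁ U).ι (φ ∣_ U) φ U.ι := (isPullback_morphismRestrict φ U).flip
    have sqR : IsPullback (snd G X).left φ f.left p :=
      (isPullback_whiskerLeft G f).map (Over.forget _)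
    have sq := sqL.paste_horiz sqR
    have hb : U.ι ≫ p = p.resLE V U le_rfl ≫ V.ι := (Scheme.Hom.resLE_comp_ι _ _).symm
    refine Groth.Agent.S18858.of_isPullback_comp P sq (p.resLE V U le_rfl) V.ι hb ?_
    have : f.left ∣_ V = (pullbackRestrictIsoRestrict f.left V).inv ≫ pullback.snd f.left V.ι := rfl
    rw [this, P.cancel_left_of_respectsIso] at hV
    exact hV
  -- the descent square
  have sqL : IsPullback (φ ⁻¹ᵁ U).ι (φ ∣_ U) φ U.ι := (isPullback_morphismRestrict φ U).flip
  have sqR : IsPullback aX.act.left φ f.left m :=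
    (isPullback_equivariant aX aY f hf).map (Over.forget _)
  have sqO := sqL.paste_horiz sqR
  have t : IsPullback (f.left ⁻¹ᵁ W).ι (f.left ∣_ W) f.left W.ι :=
    (isPullback_morphismRestrict f.left W).flip
  have hw : ((φ ⁻¹ᵁ U).ι ≫ aX.act.left) ≫ f.left = ((φ ∣_ U) ≫ c) ≫ W.ι := by
    rw [Category.assoc (φ ∣_ U), hc, sqO.w]
  let s := t.lift ((φ ⁻¹ᵁ U).ι ≫ aX.act.left) ((φ ∣_ U) ≫ c) hw
  have hs1 : s ≫ (f.left ⁻¹ᵁ W).ι = (φ ⁻¹ᵁ U).ι ≫ aX.act.left := t.lift_fst _ _ _
  have hs2 : s ≫ (f.left ∣_ W) = (φ ∣_ U) ≫ c := t.lift_snd _ _ _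
  have sqO' : IsPullback (s ≫ (f.left ⁻¹ᵁ W).ι) (φ ∣_ U) f.left (c ≫ W.ι) := by
    rw [hs1, hc]; exact sqO
  have sqD : IsPullback s (φ ∣_ U) (f.left ∣_ W) c := IsPullback.of_right sqO' hs2 t
  have hPW : P (f.left ∣_ W) :=
    MorphismProperty.DescendsAlong.of_isPullback (P := P)
      (Q := (@Flat ⊓ @Surjective ⊓ @UniversallyOpen)) sqD.flip ⟨⟨hcflat, hcsurj⟩, hcuo⟩ hPφ
  have hWV : W ≤ V := hmax W hPW
  intro x hx
  exact hWV ⟨x, hx, rfl⟩


end


/-- Let k be a field, G a locally algebraic group over k (a group k-scheme locally of finite type)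
acting on k-schemes X and Y, and f : X → Y a G-equivariant k-morphism. Let P be a property of
morphisms of schemes which is local on the target for the Zariski topology, stable under base
change, and descends along flat surjective universally open morphisms (the published hypothesis is
descent along fpqc morphisms; the printed argument descends only along the restriction G ×_k U → G·U
of the action, which is flat, surjective and universally open). Then there is a largest open subset
V of Y such that the restriction f⁻¹(V) → V of f has P, and this V is G-stable: the action G ×_k Y →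
Y maps G ×_k V into V. -/
theorem result (k : Type u) [Field k]
    (G X Y : Over (Spec (CommRingCat.of k))) [GrpObj G] [LocallyOfFiniteType G.hom]
    (aX : AlgGrp.Action G X) (aY : AlgGrp.Action G Y) (f : X ⟶ Y) (hf : (G ◁ f) ≫ aY.act = aX.act ≫ f)
    (P : MorphismProperty Scheme.{u}) [IsZariskiLocalAtTarget P] [P.IsStableUnderBaseChange]
    [P.DescendsAlong (@Flat ⊓ @Surjective ⊓ @UniversallyOpen)] :
    ∃ V : Y.left.Opens, P (f.left ∣_ V) ∧ (∀ V' : Y.left.Opens, P (f.left ∣_ V') → V' ≤ V) ∧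
      (CartesianMonoidalCategory.snd G Y).left ⁻¹ᵁ V ≤ aY.act.left ⁻¹ᵁ V := by
  classical
  exact main k G X Y aX aY f hf P

end Groth.Agent.S18826
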