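import Groth.Statements.S18827
import Mathlib
import Groth.Agent.Lib.Helper4.Comod

set_option autoImplicit false
universe u v w
open TensorProduct
open HopfRep

namespace Groth.Agent.S18827

/-- Let k be a field, C a k-coalgebra, V a right C-comodule which is semisimple (every subcomodule has a
complementary subcomodule, which over a field is the same as being the sum of its simple
subcomodules) and W a subcomodule of V. Then the subcomodule W with its induced structure and the
quotient comodule V/W are again semisimple. (The source states this for representations of an affine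
monoid scheme over k.) -/
theorem result (k : Type u) [Field k]
    (C : Type v) [AddCommGroup C] [Module k C] [Coalgebra k C]
    (V : Type w) [AddCommGroup V] [Module k V] [c : HopfRep.Comod k C V] (hV : HopfRep.IsSemisimpleComod k C V)
    (W : Submodule k V) (hW : HopfRep.IsSubcomod (k := k) (A := C) W) :
    @HopfRep.IsSemisimpleComod k C _ _ _ _ ↥W _ _ (ComodSub.Comod.restr c W hW) ∧
      @HopfRep.IsSemisimpleComod k C _ _ _ _ (V ⧸ W) _ _ (ComodSub.Comod.quot c W hW) := by
  classical
  constructor
  · letI cW : HopfRep.Comod k C ↥W := ComodSub.Comod.restr c W hW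
    have hsub : Hoch.IsComodHom C W.subtype := ComodSub.isComodHom_subtype c W hW
    have hact : ∀ (l : C →ₗ[k] k) (w : W),
        ((Groth.Agent.Helper4.Comod.act (↥W) l w : W) : V) =
          Groth.Agent.Helper4.Comod.act V l (w : V) :=
      fun l w => (Groth.Agent.Helper4.Comod.isComodHom_iff W.subtype).mp hsub l w
    intro U hU
    rw [Groth.Agent.Helper4.Comod.isSubcomod_iff] at hU
    have hU' : HopfRep.IsSubcomod (k := k) (A := C) (U.map W.subtype) := by
      rw [Groth.Agent.Helper4.Comod.isSubcomod_iff]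
      rintro l _ ⟨u, hu, rfl⟩
      refine ⟨Groth.Agent.Helper4.Comod.act (↥W) l u, hU l u hu, ?_⟩
      exact hact l u
    obtain ⟨U'', hU'', hc⟩ := hV _ hU'
    rw [Groth.Agent.Helper4.Comod.isSubcomod_iff] at hU''
    refine ⟨U''.comap W.subtype, ?_, ?_⟩
    · rw [Groth.Agent.Helper4.Comod.isSubcomod_iff]
      intro l z hz
      rw [Submodule.mem_comap] at hz ⊢
      rw [Submodule.subtype_apply, hact l z]
      exact hU'' l _ hz
    · constructor
      · rw [Submodule.disjoint_def]
        intro x hxU hxZ
        have : (x : V) ∈ U.map W.subtype ⊓ U'' := ⟨⟨x, hxU, rfl⟩, hxZ⟩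
        rw [hc.inf_eq_bot, Submodule.mem_bot] at this
        exact Subtype.ext this
      · rw [codisjoint_iff, eq_top_iff]
        intro w _
        have hw : (w : V) ∈ U.map W.subtype ⊔ U'' := by rw [hc.sup_eq_top]; trivial
        obtain ⟨a, ⟨u, hu, rfl⟩, b, hb, hab⟩ := Submodule.mem_sup.mp hw
        have hbW : b ∈ W := by
          have : b = (w : V) - (u : V) := by rw [← hab]; simp
          rw [this]
          exact W.sub_mem w.2 u.2
        refine Submodule.mem_sup.mpr ⟨u, hu, ⟨b, hbW⟩, hb, ?_⟩
        exact Subtype.ext hab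
  · letI cQ : HopfRep.Comod k C (V ⧸ W) := ComodSub.Comod.quot c W hW
    have hq : Hoch.IsComodHom C W.mkQ := ComodSub.isComodHom_mkQ c W hW
    have hact : ∀ (l : C →ₗ[k] k) (v : V),
        W.mkQ (Groth.Agent.Helper4.Comod.act V l v) =
          Groth.Agent.Helper4.Comod.act (V ⧸ W) l (W.mkQ v) :=
      fun l v => (Groth.Agent.Helper4.Comod.isComodHom_iff W.mkQ).mp hq l v
    intro Q hQ
    rw [Groth.Agent.Helper4.Comod.isSubcomod_iff] at hQ
    have hQ' : HopfRep.IsSubcomod (k := k) (A := C) (Q.comap W.mkQ) := by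
      rw [Groth.Agent.Helper4.Comod.isSubcomod_iff]
      intro l v hv
      rw [Submodule.mem_comap] at hv ⊢
      rw [hact l v]
      exact hQ l _ hv
    obtain ⟨Q'', hQ'', hc⟩ := hV _ hQ'
    rw [Groth.Agent.Helper4.Comod.isSubcomod_iff] at hQ''
    refine ⟨Q''.map W.mkQ, ?_, ?_⟩
    · rw [Groth.Agent.Helper4.Comod.isSubcomod_iff]
      rintro l _ ⟨b, hb, rfl⟩
      exact ⟨Groth.Agent.Helper4.Comod.act V l b, hQ'' l b hb, hact l b⟩
    · constructor
      · rw [Submodule.disjoint_def]
        rintro y hyQ ⟨b, hb, rfl⟩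
        have : b ∈ Q.comap W.mkQ ⊓ Q'' := ⟨hyQ, hb⟩
        rw [hc.inf_eq_bot, Submodule.mem_bot] at this
        rw [this, map_zero]
      · rw [codisjoint_iff, eq_top_iff]
        intro y _
        obtain ⟨v, rfl⟩ := W.mkQ_surjective y
        have hv : v ∈ Q.comap W.mkQ ⊔ Q'' := by rw [hc.sup_eq_top]; trivial
        obtain ⟨a, ha, b, hb, rfl⟩ := Submodule.mem_sup.mp hv
        rw [map_add]
        exact Submodule.add_mem _ (Submodule.mem_sup_left ha)
          (Submodule.mem_sup_right ⟨b, hb, rfl⟩)

end Groth.Agent.S18827
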