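import Groth.Statements.S18829
import Mathlib
import Groth.Agent.Lib.Helper9.LinRedBaseChange
import Groth.Agent.S3274

set_option autoImplicit false
universe u
open scoped TensorProduct
open HopfRep

namespace Groth.Agent.S18829

namespace Aux

open TensorProduct

theorem diag_of_equiv {K : Type u} [Field K] {B : Type u} [CommRing B] [HopfAlgebra K B]
    {M : Type} [CommGroup M] (e : B ≃ₐc[K] MonoidAlgebra K M) :
    HopfRep.IsDiagonalizable K B := by
  show Submodule.span K {a : B | IsGroupLikeElem K a} = ⊤
  rw [eq_top_iff]
  intro z _
  have hall : ∀ y : MonoidAlgebra K M, e.symm y ∈ Submodule.span K {a : B | IsGroupLikeElem K a} := by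
    intro y
    have hy : y ∈ Submodule.span K {b : MonoidAlgebra K M | IsGroupLikeElem K b} := by
      rw [MonoidAlgebra.span_isGroupLikeElem]; trivial
    induction hy using Submodule.span_induction with
    | mem b hb => exact Submodule.subset_span (IsGroupLikeElem.map e.symm hb)
    | zero => rw [map_zero]; exact zero_mem _
    | add x y _ _ hx hy => rw [map_add]; exact add_mem hx hy
    | smul c x _ hx => rw [map_smul]; exact Submodule.smul_mem _ _ hx
  have := hall (e z)
  rwa [BialgEquiv.symm_apply_apply] at this

end Aux

/-- Let k be a field and A a finitely generated commutative Hopf algebra over k, the coordinate ring of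
an affine algebraic group T. Suppose T is a torus: for some algebraically closed field extension K
of k the base change K ⊗_k A is isomorphic as a K-bialgebra to the group algebra over K of a free
abelian group ℤ^n (T_K is a split torus of rank n). Then T is linearly reductive in the sense that
every finite-dimensional A-comodule is semisimple. (The source's definition of a torus asks for such
an isomorphism over every algebraically closed extension; one suffices for the printed argument. The
source's notion of a linearly reductive algebraic group also includes smoothness of T over k, which
this row does not assert.) -/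
theorem result (k K A : Type u) [Field k] [Field K]
    [Algebra k K] [IsAlgClosed K] [CommRing A] [HopfAlgebra k A] [Algebra.FiniteType k A] (n : ℕ)
    (e : (K ⊗[k] A) ≃ₐc[K] MonoidAlgebra K (Multiplicative (Fin n → ℤ))) :
    HopfRep.IsLinearlyReductive k A := by
  have hD : HopfRep.IsDiagonalizable K (K ⊗[k] A) := Aux.diag_of_equiv e
  have hK : HopfRep.IsLinearlyReductive K (K ⊗[k] A) := Groth.Agent.S3274.Aux.linRed_of_diag hD
  exact (Groth.Agent.Helper9.LinRedBaseChange.isLinearlyReductive_baseChange_iff k K A).mpr hK

end Groth.Agent.S18829
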