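import Groth.Statements.S18830
import Mathlib
import Groth.Agent.S18821

set_option autoImplicit false
universe u
open CategoryTheory MonoidalCategory CartesianMonoidalCategory MonObj AlgebraicGeometry
open AlgGrp

namespace Groth.Agent.S18830

section
open CategoryTheory MonoidalCategory CartesianMonoidalCategory MonObj AlgebraicGeometry

open Groth.Agent.S18821 in
theorem main (k : Type u) [Field k]
    (M G : Over (Spec (CommRingCat.of k))) [MonObj M] [LocallyOfFiniteType M.hom] [QuasiCompact M.hom]
    (i : G ⟶ M) [Mono i]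
    (hi : ∀ (T : Over (Spec (CommRingCat.of k))) (m : T ⟶ M), (∃ g : T ⟶ G, g ≫ i = m) ↔ IsUnit m) :
    LocallyOfFiniteType G.hom ∧ QuasiCompact G.hom := by
  have hc := core M
  haveI := hc.1
  -- comparison maps
  obtain ⟨a, ha⟩ : ∃ a : G ⟶ Gobj M, a ≫ incl M = i :=
    (hc.2 G i).2 ((hi G i).1 ⟨𝟙 G, Category.id_comp _⟩)
  obtain ⟨b, hb⟩ : ∃ b : Gobj M ⟶ G, b ≫ i = incl M :=
    (hi _ (incl M)).2 ((hc.2 _ (incl M)).1 ⟨𝟙 _, Category.id_comp _⟩)
  have hab : a ≫ b = 𝟙 G := by
    rw [← cancel_mono i, Category.assoc, hb, ha, Category.id_comp]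
  have hba : b ≫ a = 𝟙 _ := by
    rw [← cancel_mono (incl M), Category.assoc, ha, hb, Category.id_comp]
  haveI : IsIso a := ⟨b, hab, hba⟩
  haveI : IsIso a.left := (inferInstance : IsIso ((Over.forget _).map a))
  -- properties of Gobj
  have hS : (𝟙_ (Over (Spec (CommRingCat.of k)))).left = Spec (CommRingCat.of k) := Over.tensorUnit_left
  haveI : LocallyOfFiniteType (M ⊗ M).hom := by
    rw [Over.tensorObj_hom]
    infer_instance
  haveI : QuasiCompact (M ⊗ M).hom := by
    rw [Over.tensorObj_hom]
    infer_instance
  have he : (e M).left ≫ (M ⊗ M).hom = (𝟙_ (Over (Spec (CommRingCat.of k)))).hom := Over.w (e M)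
  haveI : IsIso (𝟙_ (Over (Spec (CommRingCat.of k)))).hom := by
    rw [Over.tensorUnit_hom]; exact IsIso.id (Spec (CommRingCat.of k))
  haveI : LocallyOfFiniteType (𝟙_ (Over (Spec (CommRingCat.of k)))).hom := inferInstance
  haveI : LocallyOfFiniteType (e M).left := by
    haveI : LocallyOfFiniteType ((e M).left ≫ (M ⊗ M).hom) := by rw [he]; infer_instance
    exact locallyOfFiniteType_of_comp (e M).left (M ⊗ M).hom
  haveI : QuasiCompact (e M).left := by
    haveI : TopologicalSpace.NoetherianSpace ((𝟙_ (Over (Spec (CommRingCat.of k)))).left) := by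
      rw [hS]; infer_instance
    infer_instance
  let iso := Limits.PreservesPullback.iso (Over.forget (Spec (CommRingCat.of k))) (φ M) (e M)
  have hfst : (Limits.pullback.fst (φ M) (e M)).left =
      iso.hom ≫ Limits.pullback.fst ((Over.forget _).map (φ M)) ((Over.forget _).map (e M)) := by
    rw [Limits.PreservesPullback.iso_hom_fst]; rfl
  have hLe : LocallyOfFiniteType (e M).left := inferInstance
  have hQe : QuasiCompact (e M).left := inferInstance
  haveI : LocallyOfFiniteType (Limits.pullback.fst ((Over.forget (Spec (CommRingCat.of k))).map (φ M))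
      ((Over.forget _).map (e M))) :=
    MorphismProperty.pullback_fst (P := @LocallyOfFiniteType) _ _ hLe
  haveI : QuasiCompact (Limits.pullback.fst ((Over.forget (Spec (CommRingCat.of k))).map (φ M))
      ((Over.forget _).map (e M))) :=
    MorphismProperty.pullback_fst (P := @QuasiCompact) _ _ hQe
  haveI : LocallyOfFiniteType (Limits.pullback.fst (φ M) (e M)).left := by
    rw [hfst]
    exact (MorphismProperty.cancel_left_of_respectsIso @LocallyOfFiniteType iso.hom _).2 ‹_›
  haveI : QuasiCompact (Limits.pullback.fst (φ M) (e M)).left := by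
    rw [hfst]
    exact (MorphismProperty.cancel_left_of_respectsIso @QuasiCompact iso.hom _).2 ‹_›
  have hG : G.hom = a.left ≫ (Limits.pullback.fst (φ M) (e M)).left ≫ (M ⊗ M).hom := by
    rw [Over.w, Over.w]
  rw [hG]
  exact ⟨inferInstance, inferInstance⟩


end


/-- Let k be a field and M an algebraic monoid over k (a monoid k-scheme of finite type). Let i : G → M
be its group of units: a monomorphism of k-schemes through which a T-valued point of M factors if
and only if it is invertible in the monoid M(T). Then G is of finite type over k, i.e. the unit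
group is an algebraic group. -/
theorem result (k : Type u) [Field k]
    (M G : Over (Spec (CommRingCat.of k))) [MonObj M] [LocallyOfFiniteType M.hom] [QuasiCompact M.hom]
    (i : G ⟶ M) [Mono i]
    (hi : ∀ (T : Over (Spec (CommRingCat.of k))) (m : T ⟶ M), (∃ g : T ⟶ G, g ≫ i = m) ↔ IsUnit m) :
    LocallyOfFiniteType G.hom ∧ QuasiCompact G.hom := by
  classical
  exact main k M G i hi

end Groth.Agent.S18830
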