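import Groth.Statements.S18831
import Mathlib
import Groth.Agent.Lib.Lead.CV6

set_option autoImplicit false
universe u
open CategoryTheory CategoryTheory.Limits AlgebraicGeometry
open VBCurve

namespace Groth.Agent.S18831

/-- Let X be a smooth projective integral curve over an algebraically closed field k of characteristic
zero, and G a finite locally free O_X-module of rank r ≥ 1 which is slope-semistable, of slope μ =
deg G / r (deg G = χ(G) − r χ(O_X)). Then dim_k H^0(X, G) ≤ r · max(⌊μ⌋ + 1, 0); in particular a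
slope-semistable bundle of negative slope has no nonzero global section. -/
theorem result (k : Type u) [Field k] [IsAlgClosed k] [CharZero k]
    (X : Scheme.{u}) [X.Over (Spec (CommRingCat.of k))]
    [IsIntegral X] [IsProper (X ↘ Spec (CommRingCat.of k))] [Smooth (X ↘ Spec (CommRingCat.of k))]
    (hdim : topologicalKrullDim X = 1)
    (r : ℕ) (hr : 0 < r) (G : X.Modules) (hG : FlatMod.IsFinLocFreeOfRank r G)
    (hss : ModFun.IsSlopeSemistable k X G r) :
    (Module.finrank k (Coh.HH X G 0) : ℤ) ≤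
      (r : ℤ) * max (⌊(Curv2.deg k X G r : ℚ) / (r : ℚ)⌋ + 1) 0 := by
  classical
  have hX : ∀ x : X, ValuationRing (X.presheaf.stalk x) := fun x =>
    Groth.Agent.Helper1.VB5.valuationRing_stalk_of_smooth k (X ↘ Spec (CommRingCat.of k)) hdim.le x
  haveI := Groth.Agent.Helper1.Euler.isNoetherian_of_proper k X
  haveI : IsLocallyNoetherian X := inferInstance
  obtain ⟨P, -, hP⟩ := Groth.Agent.Helper1.PtInv.exists_closedPoint_mem k
    (X ↘ Spec (CommRingCat.of k)) ⊤ (genericPoint X) trivial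
  have hI := Groth.Agent.Helper1.PtInv.isInvertible_ptIdeal_of_smooth k X hdim P hP
  have hd := Groth.Agent.Helper1.CurvePt.finrank_quotMod_pt k X P hP
  have hm : (((max (⌊(Curv2.deg k X G r : ℚ) / (r : ℚ)⌋ + 1) 0).toNat : ℕ) : ℤ) =
      max (⌊(Curv2.deg k X G r : ℚ) / (r : ℚ)⌋ + 1) 0 := Int.toNat_of_nonneg (le_max_right _ _)
  have hrq : (0 : ℚ) < (r : ℚ) := by exact_mod_cast hr
  have hlt : Curv2.deg k X G r <
      (r : ℤ) * ((max (⌊(Curv2.deg k X G r : ℚ) / (r : ℚ)⌋ + 1) 0).toNat : ℕ) := by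
    rw [hm]
    have h1 : (Curv2.deg k X G r : ℚ) / (r : ℚ) <
        ((⌊(Curv2.deg k X G r : ℚ) / (r : ℚ)⌋ + 1 : ℤ) : ℚ) := by
      push_cast
      exact Int.lt_floor_add_one _
    have h2 : ((⌊(Curv2.deg k X G r : ℚ) / (r : ℚ)⌋ + 1 : ℤ) : ℚ) ≤
        ((max (⌊(Curv2.deg k X G r : ℚ) / (r : ℚ)⌋ + 1) 0 : ℤ) : ℚ) := by
      exact_mod_cast le_max_left _ _
    have h3 := lt_of_lt_of_le h1 h2
    rw [div_lt_iff₀ hrq] at h3
    have h4 : (Curv2.deg k X G r : ℚ) <
        (((r : ℤ) * max (⌊(Curv2.deg k X G r : ℚ) / (r : ℚ)⌋ + 1) 0 : ℤ) : ℚ) := by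
      push_cast
      push_cast at h3
      linarith
    exact_mod_cast h4
  have h := Groth.Agent.Lead.CV.h0_le_of_semistable k X hdim hX P hP hd hI hr _ G hG hss hlt
  rw [← hm]
  exact_mod_cast h

end Groth.Agent.S18831
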