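import Groth.Statements.S18834
import Mathlib
import Groth.Agent.Lib.Helper4.ComodLR
import Groth.Agent.S12926
import Groth.Agent.S12927
import Groth.Agent.S12921

set_option autoImplicit false
universe u
open TensorProduct
open GIT

namespace Groth.Agent.S18834

/-- Let k be an algebraically closed field of characteristic zero, G = Spec A a linearly reductive
affine group over k (A a commutative Hopf algebra whose finite-dimensional comodules are semisimple)
acting on an affine k-scheme Spec R of finite type (a multiplicative coaction of A on R), and R^G
the ring of invariants. Then for every ideal I of R^G the ideal I·R of R generated by I satisfies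
(I·R) ∩ R^G = I. (The section also assumes Spec R irreducible; that hypothesis plays no role here
and is not carried.) -/
theorem result (k : Type u) [Field k] [IsAlgClosed k] [CharZero k]
    (A : Type u) [CommRing A] [HopfAlgebra k A] (hG : HopfRep.IsLinearlyReductive k A)
    (R : Type u) [CommRing R] [Algebra k R] [Algebra.FiniteType k R]
    [HopfRep.Comod k A R] [GLin.IsCoactAlg k A R]
    (I : Ideal (GLin.invariants k A R)) :
    Ideal.comap (GLin.invariants k A R).val.toRingHom
        (Ideal.map (GLin.invariants k A R).val.toRingHom I) = I := by
  have hss : HopfRep.IsSemisimpleComod k A A :=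
    Groth.Agent.Helper4.Comod.isSemisimpleComod_of_isLinearlyReductive hG A
  have h1 : HopfRep.IsSubcomod (k := k) (A := A) (Submodule.span k {(1 : A)}) := by
    intro w hw
    obtain ⟨c, rfl⟩ := Submodule.mem_span_singleton.mp hw
    refine ⟨(c • ⟨1, Submodule.subset_span rfl⟩) ⊗ₜ[k] (1 : A), ?_⟩
    change _ = Coalgebra.comul (R := k) (c • (1 : A))
    rw [map_smul, Bialgebra.comul_one, Algebra.TensorProduct.one_def]
    simp [TensorProduct.smul_tmul']
  obtain ⟨H, hH, hc⟩ := hss _ h1
  have htriv := Groth.Agent.S12926.result k A H hH hc
  have htame := Groth.Agent.S12927.result k A R htriv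
  exact Groth.Agent.S12921.result k A R htame I

end Groth.Agent.S18834
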