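import Groth.Statements.S18838
import Mathlib
import Groth.Agent.Lib.Helper9.TruncDef.Kaehler
-- import your own Groth.Agent.* helpers here

set_option autoImplicit false
universe u
open Polynomial TensorProduct
open Deform

namespace Groth.Agent.S18838

open Polynomial TensorProduct
namespace Aux

open Groth.Agent.Helper9.TruncDef

theorem range_eq (k : Type u) [Field k] (B : Type u) [CommRing B] [Algebra k B] (I : Ideal B) :
    Set.range (fun f : B =>
      ((Ideal.Quotient.mk I f,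
        (1 : (B ⧸ I)) ⊗ₜ[B] KaehlerDifferential.D k B f) : (B ⧸ I) × ((B ⧸ I) ⊗[B] Ω[B⁄k]))) =
      {p | KaehlerDifferential.D k (B ⧸ I) p.1 = KaehlerDifferential.mapBaseChange k B (B ⧸ I) p.2} := by
  have hsurj : Function.Surjective (algebraMap B (B ⧸ I)) := Ideal.Quotient.mk_surjective
  ext ⟨g, α⟩
  simp only [Set.mem_range, Prod.mk.injEq, Set.mem_ofPred_eq]
  constructor
  · rintro ⟨f, rfl, rfl⟩
    rw [KaehlerDifferential.mapBaseChange_tmul, KaehlerDifferential.map_D, one_smul]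
    rfl
  · intro hgα
    obtain ⟨f, rfl⟩ := Ideal.Quotient.mk_surjective g
    have h0 : KaehlerDifferential.mapBaseChange k B (B ⧸ I)
        (α - (1 : (B ⧸ I)) ⊗ₜ[B] KaehlerDifferential.D k B f) = 0 := by
      rw [map_sub, ← hgα, KaehlerDifferential.mapBaseChange_tmul, KaehlerDifferential.map_D,
        one_smul]
      exact sub_self _
    obtain ⟨c, hc⟩ := (KaehlerDifferential.exact_kerCotangentToTensor_mapBaseChange k B (B ⧸ I)
      hsurj _).1 h0
    obtain ⟨x, rfl⟩ := Ideal.toCotangent_surjective _ c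
    rw [KaehlerDifferential.kerCotangentToTensor_toCotangent] at hc
    refine ⟨f + x.1, ?_, ?_⟩
    · have : Ideal.Quotient.mk I x.1 = 0 := RingHom.mem_ker.1 x.2
      rw [map_add, this, add_zero]
    · rw [map_add, tmul_add, hc]
      abel

theorem main (k : Type u) [Field k] [CharZero k] (n : ℕ) (hn : 1 ≤ n)
    (D : Type u) [CommRing D] [Algebra k D] (τ : D)
    (e : (k[X] ⧸ Ideal.span {(X : k[X]) ^ (n + 1)}) ≃ₐ[k] D)
    (he : e (Ideal.Quotient.mk (Ideal.span {(X : k[X]) ^ (n + 1)}) X) = τ)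
    (B : Type u) [CommRing B] [Algebra k B] [Algebra D B] [IsScalarTower k D B]
    [Module.Flat D B]
    (t : B) (ht : t = algebraMap D B τ) (hsm : Algebra.Smooth k (B ⧸ Ideal.span {t})) :
    Function.Injective (fun f : B =>
      ((Ideal.Quotient.mk (Ideal.span {t ^ n}) f,
        (1 : (B ⧸ Ideal.span {t ^ n})) ⊗ₜ[B] KaehlerDifferential.D k B f) : (B ⧸ Ideal.span {t ^ n}) × ((B ⧸ Ideal.span {t ^ n}) ⊗[B] Ω[B⁄k]))) := by
  have h := isTrunc_of_equiv n τ e he
  have hfs : Algebra.FormallySmooth k (B ⧸ Ideal.span {t}) := hsm.formallySmooth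
  have : Algebra.FormallySmooth D B := formallySmooth h ht hfs
  obtain ⟨-, hinj, -, -⟩ := main_seq h ht
  have ht0 : t ^ (n + 1) = 0 := t_pow_eq_zero h ht
  intro f1 f2 h12
  simp only [Prod.mk.injEq] at h12
  obtain ⟨h1, h2⟩ := h12
  rw [← sub_eq_zero] at h1 h2 ⊢
  rw [← map_sub] at h1
  rw [← tmul_sub, ← map_sub] at h2
  generalize f1 - f2 = f at h1 h2 ⊢
  rw [Ideal.Quotient.eq_zero_iff_mem, Ideal.mem_span_singleton'] at h1
  obtain ⟨g, rfl⟩ := h1
  -- d(g t^n) = g • n t^(n-1) dt + t^n • dg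
  have hmk : Ideal.Quotient.mk (Ideal.span {t ^ n}) (t ^ n) = 0 :=
    Ideal.Quotient.eq_zero_iff_mem.2 (Ideal.mem_span_singleton_self _)
  have h3 : (1 : (B ⧸ Ideal.span {t ^ n})) ⊗ₜ[B] KaehlerDifferential.D k B (g * t ^ n) =
      (Ideal.Quotient.mk (Ideal.span {t ^ n}) (g * (n * t ^ (n - 1)))) •
        ((1 : (B ⧸ Ideal.span {t ^ n})) ⊗ₜ[B] KaehlerDifferential.D k B t) := by
    rw [Derivation.leibniz, Derivation.leibniz_pow, tmul_add, tmul_smul, tmul_smul, tmul_smul,
      tmul_smul]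
    have e1 : t ^ n • ((1 : (B ⧸ Ideal.span {t ^ n})) ⊗ₜ[B] KaehlerDifferential.D k B g) = 0 := by
      rw [TensorProduct.smul_tmul', Algebra.smul_def, mul_one, Ideal.Quotient.algebraMap_eq, hmk,
        zero_tmul]
    rw [e1, add_zero, ← Nat.cast_smul_eq_nsmul B n, smul_smul, smul_smul, ← mul_assoc,
      ← Ideal.Quotient.algebraMap_eq, algebraMap_smul]
  rw [h3] at h2
  have h4 := hinj (by
      rw [LinearMap.toSpanSingleton_apply, LinearMap.toSpanSingleton_apply, zero_smul]
      exact h2 :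
    LinearMap.toSpanSingleton (B ⧸ Ideal.span {t ^ n}) ((B ⧸ Ideal.span {t ^ n}) ⊗[B] Ω[B⁄k])
        ((1 : (B ⧸ Ideal.span {t ^ n})) ⊗ₜ[B] KaehlerDifferential.D k B t)
        (Ideal.Quotient.mk (Ideal.span {t ^ n}) (g * (n * t ^ (n - 1)))) =
    LinearMap.toSpanSingleton (B ⧸ Ideal.span {t ^ n}) ((B ⧸ Ideal.span {t ^ n}) ⊗[B] Ω[B⁄k])
        ((1 : (B ⧸ Ideal.span {t ^ n})) ⊗ₜ[B] KaehlerDifferential.D k B t) 0)
  rw [Ideal.Quotient.eq_zero_iff_mem, Ideal.mem_span_singleton'] at h4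
  obtain ⟨a, ha⟩ := h4
  -- n is invertible
  have hnk : (n : k) ≠ 0 := by exact_mod_cast (by omega : n ≠ 0)
  have hu : algebraMap k B ((n : k)⁻¹) * (n : B) = 1 := by
    rw [← map_natCast (algebraMap k B), ← map_mul, inv_mul_cancel₀ hnk, map_one]
  have hn1 : t ^ n = t ^ (n - 1) * t := by
    rw [← pow_succ]; congr 1; omega
  calc g * t ^ n = (algebraMap k B ((n : k)⁻¹) * (n : B)) * (g * t ^ n) := by rw [hu, one_mul]
    _ = algebraMap k B ((n : k)⁻¹) * (g * (n * t ^ (n - 1))) * t := by rw [hn1]; ring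
    _ = algebraMap k B ((n : k)⁻¹) * (a * t ^ n) * t := by rw [ha]
    _ = algebraMap k B ((n : k)⁻¹) * a * t ^ (n + 1) := by ring
    _ = 0 := by rw [ht0, mul_zero]

end Aux

/-- Let k be an algebraically closed field of characteristic zero, n ≥ 1, D = k[X]/(X^(n+1)) (given with
a k-algebra isomorphism e identifying the class of X with τ ∈ D), and B a finitely generated
k-algebra which is a flat D-algebra such that B/tB is smooth over k, where t is the image of τ in B
(an affine open of a flat deformation of a smooth k-scheme over Spec D); put B' = B/t^nB. The map μ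
: B → B' × (B' ⊗_B Ω_(B/k)) sending f to (f mod t^n, 1 ⊗ df) is injective, and its image consists
exactly of the pairs (g, α) with dg = r(α) in Ω_(B'/k), r being the canonical map B' ⊗_B Ω_(B/k) →
Ω_(B'/k). Injectivity uses that n is invertible in k. The source works with a flat proper family
over Spec D with smooth central fibre; the statement is local and is given here on an affine open. -/
theorem result (k : Type u) [Field k] [IsAlgClosed k] [CharZero k] (n : ℕ) (hn : 1 ≤ n)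
    (D : Type u) [CommRing D] [Algebra k D] (τ : D)
    (e : (k[X] ⧸ Ideal.span {(X : k[X]) ^ (n + 1)}) ≃ₐ[k] D)
    (he : e (Ideal.Quotient.mk (Ideal.span {(X : k[X]) ^ (n + 1)}) X) = τ)
    (B : Type u) [CommRing B] [Algebra k B] [Algebra D B] [IsScalarTower k D B]
    [Algebra.FiniteType k B] [Module.Flat D B]
    (t : B) (ht : t = algebraMap D B τ) (hsm : Algebra.Smooth k (B ⧸ Ideal.span {t})) :
    Function.Injective (fun f : B =>
      ((Ideal.Quotient.mk (Ideal.span {t ^ n}) f,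
        (1 : (B ⧸ Ideal.span {t ^ n})) ⊗ₜ[B] KaehlerDifferential.D k B f) : (B ⧸ Ideal.span {t ^ n}) × ((B ⧸ Ideal.span {t ^ n}) ⊗[B] Ω[B⁄k]))) ∧
    Set.range (fun f : B =>
      ((Ideal.Quotient.mk (Ideal.span {t ^ n}) f,
        (1 : (B ⧸ Ideal.span {t ^ n})) ⊗ₜ[B] KaehlerDifferential.D k B f) : (B ⧸ Ideal.span {t ^ n}) × ((B ⧸ Ideal.span {t ^ n}) ⊗[B] Ω[B⁄k]))) =
      {p | KaehlerDifferential.D k (B ⧸ Ideal.span {t ^ n}) p.1 = KaehlerDifferential.mapBaseChange k B (B ⧸ Ideal.span {t ^ n}) p.2} := by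
  exact ⟨Aux.main k n hn D τ e he B t ht hsm, Aux.range_eq k B _⟩

end Groth.Agent.S18838
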