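import Groth.Statements.S18839
import Mathlib
import Groth.Agent.Lib.Helper9.TruncDef.Kaehler
-- import your own Groth.Agent.* helpers here

set_option autoImplicit false
universe u
open Polynomial TensorProduct
open Deform

namespace Groth.Agent.S18839

open Polynomial TensorProduct
namespace Aux

open Groth.Agent.Helper9.TruncDef

section gen

variable (k : Type u) [CommRing k] (D : Type u) [CommRing D] [Algebra k D]
  (B : Type u) [CommRing B] [Algebra k B] [Algebra D B] [IsScalarTower k D B] (I : Ideal B)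

theorem key (η : Ω[B⁄k]) :
    KaehlerDifferential.map D D B (B ⧸ I) (KaehlerDifferential.map k D B B η) =
      KaehlerDifferential.map k D (B ⧸ I) (B ⧸ I) (KaehlerDifferential.map k k B (B ⧸ I) η) := by
  have : η ∈ Submodule.span B (Set.range (KaehlerDifferential.D k B)) := by
    rw [KaehlerDifferential.span_range_derivation]; trivial
  induction this using Submodule.span_induction with
  | mem x hx =>
    obtain ⟨b, rfl⟩ := hx
    simp only [KaehlerDifferential.map_D]
    rfl
  | zero => simp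
  | add x y _ _ hx hy => simp only [map_add, hx, hy]
  | smul a x _ hx =>
    rw [map_smul, map_smul, hx, map_smul, LinearMap.map_smul_of_tower]

theorem square (β : (B ⧸ I) ⊗[B] Ω[B⁄k]) :
    KaehlerDifferential.mapBaseChange D B (B ⧸ I)
      (LinearMap.baseChange (B ⧸ I) (KaehlerDifferential.map k D B B) β) =
    KaehlerDifferential.map k D (B ⧸ I) (B ⧸ I) (KaehlerDifferential.mapBaseChange k B (B ⧸ I) β) := by
  induction β using TensorProduct.induction_on with
  | zero => simp
  | tmul c η =>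
    rw [LinearMap.baseChange_tmul, KaehlerDifferential.mapBaseChange_tmul,
      KaehlerDifferential.mapBaseChange_tmul, map_smul, key]
  | add x y hx hy => simp only [map_add, hx, hy]

end gen

theorem mapBaseChange_injective (k : Type u) [CommRing k] (D : Type u) [CommRing D] [Algebra k D]
    (B : Type u) [CommRing B] [Algebra k B] [Algebra D B] [IsScalarTower k D B] (x : D) :
    Function.Injective
      (KaehlerDifferential.mapBaseChange D B (B ⧸ Ideal.span {algebraMap D B x})) := by
  have hsurj : Function.Surjective (algebraMap B (B ⧸ Ideal.span {algebraMap D B x})) :=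
    Ideal.Quotient.mk_surjective
  rw [injective_iff_map_eq_zero]
  intro y hy
  obtain ⟨c, rfl⟩ := (KaehlerDifferential.exact_kerCotangentToTensor_mapBaseChange D B
    (B ⧸ Ideal.span {algebraMap D B x}) hsurj y).1 hy
  obtain ⟨z, rfl⟩ := Ideal.toCotangent_surjective _ c
  rw [KaehlerDifferential.kerCotangentToTensor_toCotangent]
  have hz : z.1 ∈ Ideal.span {algebraMap D B x} := by
    have h1 : Ideal.Quotient.mk (Ideal.span {algebraMap D B x}) z.1 = 0 := RingHom.mem_ker.1 z.2
    exact Ideal.Quotient.eq_zero_iff_mem.1 h1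
  obtain ⟨a, ha⟩ := Ideal.mem_span_singleton'.1 hz
  rw [← ha, Derivation.leibniz, Derivation.map_algebraMap, smul_zero, zero_add, tmul_smul,
    TensorProduct.smul_tmul', Algebra.smul_def, mul_one, Ideal.Quotient.algebraMap_eq,
    Ideal.Quotient.eq_zero_iff_mem.2 (Ideal.mem_span_singleton_self _), zero_tmul]

theorem main (k : Type u) [Field k] [CharZero k] (n : ℕ)
    (D : Type u) [CommRing D] [Algebra k D] (τ : D)
    (e : (k[X] ⧸ Ideal.span {(X : k[X]) ^ (n + 1)}) ≃ₐ[k] D)
    (he : e (Ideal.Quotient.mk (Ideal.span {(X : k[X]) ^ (n + 1)}) X) = τ)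
    (B : Type u) [CommRing B] [Algebra k B] [Algebra D B] [IsScalarTower k D B]
    [Module.Flat D B]
    (t : B) (ht : t = algebraMap D B τ) (hsm : Algebra.Smooth k (B ⧸ Ideal.span {t})) :
    Function.Injective (fun η : Ω[B⁄k] =>
      ((KaehlerDifferential.map k D B B η, (1 : (B ⧸ Ideal.span {t ^ n})) ⊗ₜ[B] η) : Ω[B⁄D] × ((B ⧸ Ideal.span {t ^ n}) ⊗[B] Ω[B⁄k]))) ∧
    Set.range (fun η : Ω[B⁄k] =>
      ((KaehlerDifferential.map k D B B η, (1 : (B ⧸ Ideal.span {t ^ n})) ⊗ₜ[B] η) : Ω[B⁄D] × ((B ⧸ Ideal.span {t ^ n}) ⊗[B] Ω[B⁄k]))) =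
      {p | KaehlerDifferential.map D D B (B ⧸ Ideal.span {t ^ n}) p.1 =
        KaehlerDifferential.map k D (B ⧸ Ideal.span {t ^ n}) (B ⧸ Ideal.span {t ^ n}) (KaehlerDifferential.mapBaseChange k B (B ⧸ Ideal.span {t ^ n}) p.2)} := by
  have h := isTrunc_of_equiv n τ e he
  have hfs : Algebra.FormallySmooth k (B ⧸ Ideal.span {t}) := hsm.formallySmooth
  have : Algebra.FormallySmooth D B := formallySmooth h ht hfs
  obtain ⟨-, hinj, hexact, -⟩ := main_seq h ht
  have ht0 : t ^ (n + 1) = 0 := t_pow_eq_zero h ht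
  have htn : t ^ n = algebraMap D B (τ ^ n) := by rw [map_pow, ht]
  have hdt : KaehlerDifferential.map k D B B (KaehlerDifferential.D k B t) = 0 := by
    rw [KaehlerDifferential.map_D, ht]
    exact Derivation.map_algebraMap _ _
  have hone : ∀ (b : B) (ω : Ω[B⁄k]), (1 : (B ⧸ Ideal.span {t ^ n})) ⊗ₜ[B] (b • ω) =
      Ideal.Quotient.mk (Ideal.span {t ^ n}) b • ((1 : (B ⧸ Ideal.span {t ^ n})) ⊗ₜ[B] ω) := by
    intro b ω
    rw [tmul_smul, ← Ideal.Quotient.algebraMap_eq, algebraMap_smul]
  constructor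
  · intro η1 η2 h12
    simp only [Prod.mk.injEq] at h12
    obtain ⟨h1, h2⟩ := h12
    rw [← sub_eq_zero] at h1 h2 ⊢
    rw [← map_sub] at h1
    rw [← tmul_sub] at h2
    generalize η1 - η2 = η at h1 h2 ⊢
    obtain ⟨b, rfl⟩ := exists_smul_dt_of_map_eq_zero h ht η h1
    rw [hone] at h2
    have h4 := hinj (by
      rw [LinearMap.toSpanSingleton_apply, LinearMap.toSpanSingleton_apply, zero_smul]
      exact h2 :
      LinearMap.toSpanSingleton (B ⧸ Ideal.span {t ^ n}) ((B ⧸ Ideal.span {t ^ n}) ⊗[B] Ω[B⁄k])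
          ((1 : (B ⧸ Ideal.span {t ^ n})) ⊗ₜ[B] KaehlerDifferential.D k B t)
          (Ideal.Quotient.mk (Ideal.span {t ^ n}) b) =
      LinearMap.toSpanSingleton (B ⧸ Ideal.span {t ^ n}) ((B ⧸ Ideal.span {t ^ n}) ⊗[B] Ω[B⁄k])
          ((1 : (B ⧸ Ideal.span {t ^ n})) ⊗ₜ[B] KaehlerDifferential.D k B t) 0)
    rw [Ideal.Quotient.eq_zero_iff_mem, Ideal.mem_span_singleton'] at h4
    obtain ⟨a, rfl⟩ := h4
    rw [mul_smul, pow_smul_dt_eq_zero ht0, smul_zero]
  · ext ⟨α, β⟩
    simp only [Set.mem_range, Prod.mk.injEq, Set.mem_ofPred_eq]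
    constructor
    · rintro ⟨η, rfl, rfl⟩
      rw [KaehlerDifferential.mapBaseChange_tmul, one_smul]
      exact key k D B _ η
    · intro hαβ
      obtain ⟨η0, rfl⟩ := KaehlerDifferential.map_surjective k D B α
      have h0 : LinearMap.baseChange (B ⧸ Ideal.span {t ^ n}) (KaehlerDifferential.map k D B B)
          (β - (1 : (B ⧸ Ideal.span {t ^ n})) ⊗ₜ[B] η0) = 0 := by
        have hI : Ideal.span {t ^ n} = Ideal.span {algebraMap D B (τ ^ n)} := by rw [htn]
        have hmi := mapBaseChange_injective k D B (τ ^ n)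
        rw [← htn] at hmi
        apply hmi
        rw [square, map_zero, map_sub, map_sub, ← hαβ, KaehlerDifferential.mapBaseChange_tmul,
          one_smul, key, sub_self]
      obtain ⟨c, hc⟩ := (hexact _).1 h0
      obtain ⟨b, rfl⟩ := Ideal.Quotient.mk_surjective c
      rw [LinearMap.toSpanSingleton_apply, ← hone] at hc
      refine ⟨η0 + b • KaehlerDifferential.D k B t, ?_, ?_⟩
      · rw [map_add, map_smul, hdt, smul_zero, add_zero]
      · rw [tmul_add, hc]
        abel

end Aux

/-- Let k be an algebraically closed field of characteristic zero, n ≥ 1, D = k[X]/(X^(n+1)) (given with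
a k-algebra isomorphism e identifying the class of X with τ ∈ D), and B a finitely generated
k-algebra which is a flat D-algebra such that B/tB is smooth over k, where t is the image of τ in B
(an affine open of a flat deformation of a smooth k-scheme over Spec D); put B' = B/t^nB. The map ν
: Ω_(B/k) → Ω_(B/D) × (B' ⊗_B Ω_(B/k)), η ↦ (η relative to D, 1 ⊗ η), is injective, and its image
consists exactly of the pairs (α, β) with the same image in Ω_(B'/D) under the canonical maps
Ω_(B/D) → Ω_(B'/D) and B' ⊗_B Ω_(B/k) → Ω_(B'/k) → Ω_(B'/D). Injectivity uses that n + 1 is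
invertible in k (so that t^n dt = 0 in Ω_(B/k)). The source works with a flat proper family over
Spec D with smooth central fibre; the statement is local and is given here on an affine open. -/
theorem result (k : Type u) [Field k] [IsAlgClosed k] [CharZero k] (n : ℕ) (hn : 1 ≤ n)
    (D : Type u) [CommRing D] [Algebra k D] (τ : D)
    (e : (k[X] ⧸ Ideal.span {(X : k[X]) ^ (n + 1)}) ≃ₐ[k] D)
    (he : e (Ideal.Quotient.mk (Ideal.span {(X : k[X]) ^ (n + 1)}) X) = τ)
    (B : Type u) [CommRing B] [Algebra k B] [Algebra D B] [IsScalarTower k D B]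
    [Algebra.FiniteType k B] [Module.Flat D B]
    (t : B) (ht : t = algebraMap D B τ) (hsm : Algebra.Smooth k (B ⧸ Ideal.span {t})) :
    Function.Injective (fun η : Ω[B⁄k] =>
      ((KaehlerDifferential.map k D B B η, (1 : (B ⧸ Ideal.span {t ^ n})) ⊗ₜ[B] η) : Ω[B⁄D] × ((B ⧸ Ideal.span {t ^ n}) ⊗[B] Ω[B⁄k]))) ∧
    Set.range (fun η : Ω[B⁄k] =>
      ((KaehlerDifferential.map k D B B η, (1 : (B ⧸ Ideal.span {t ^ n})) ⊗ₜ[B] η) : Ω[B⁄D] × ((B ⧸ Ideal.span {t ^ n}) ⊗[B] Ω[B⁄k]))) =
      {p | KaehlerDifferential.map D D B (B ⧸ Ideal.span {t ^ n}) p.1 =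
        KaehlerDifferential.map k D (B ⧸ Ideal.span {t ^ n}) (B ⧸ Ideal.span {t ^ n}) (KaehlerDifferential.mapBaseChange k B (B ⧸ Ideal.span {t ^ n}) p.2)} := by
  exact Aux.main k n D τ e he B t ht hsm

end Groth.Agent.S18839
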