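import Groth.Statements.S1886
import Mathlib
import Groth.Prelude.Def_Grpd
import Groth.Agent.S1888
-- import your own Groth.Agent.* helpers here

set_option autoImplicit false
universe u
open CategoryTheory CategoryTheory.Limits AlgebraicGeometry
open Grpd

namespace Groth.Agent.S1886

open CategoryTheory CategoryTheory.Limits AlgebraicGeometry
open Groth.Agent.S1888.Aux
namespace Aux

variable {S : Scheme.{u}} (G : Grpd.GroupoidScheme S)

noncomputable def eS : G.U ⟶ pullback G.j G.diag := G.eStab

lemma eStab_snd : eS G ≫ pullback.snd G.j G.diag = 𝟙 G.U :=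
  pullback.lift_snd _ _ _

lemma eStab_fst : eS G ≫ pullback.fst G.j G.diag = G.e :=
  pullback.lift_fst _ _ _

lemma j_fst : G.j ≫ pullback.fst G.pU G.pU = G.t := by
  unfold Grpd.GroupoidScheme.j
  rw [pullback.lift_fst]

lemma j_snd : G.j ≫ pullback.snd G.pU G.pU = G.s := by
  unfold Grpd.GroupoidScheme.j
  rw [pullback.lift_snd]

lemma diag_fst : G.diag ≫ pullback.fst G.pU G.pU = 𝟙 G.U := by
  unfold Grpd.GroupoidScheme.diag
  rw [pullback.lift_fst]

lemma diag_snd : G.diag ≫ pullback.snd G.pU G.pU = 𝟙 G.U := by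
  unfold Grpd.GroupoidScheme.diag
  rw [pullback.lift_snd]

lemma jj_t : pullback.fst G.j G.j ≫ G.t = pullback.snd G.j G.j ≫ G.t := by
  rw [← j_fst, ← Category.assoc, pullback.condition, Category.assoc]

lemma jj_s : pullback.fst G.j G.j ≫ G.s = pullback.snd G.j G.j ≫ G.s := by
  rw [← j_snd, ← Category.assoc, pullback.condition, Category.assoc]

lemma γ_compat : (pullback.fst G.j G.j ≫ G.i) ≫ G.s = pullback.snd G.j G.j ≫ G.t := by
  rw [Category.assoc, G.i_s, jj_t]

/-- `(α, β) ↦ α⁻¹ ∘ β` -/
noncomputable def γ : pullback G.j G.j ⟶ G.R :=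
  comp G (pullback.fst G.j G.j ≫ G.i) (pullback.snd G.j G.j) (γ_compat G)

lemma γ_j : γ G ≫ G.j = (pullback.fst G.j G.j ≫ G.s) ≫ G.diag := by
  apply pullback.hom_ext
  · rw [Category.assoc, j_fst, Category.assoc, diag_fst, Category.comp_id]
    unfold γ
    rw [comp_t, Category.assoc, G.i_t]
  · rw [Category.assoc, j_snd, Category.assoc, diag_snd, Category.comp_id]
    unfold γ
    rw [comp_s, jj_s]

noncomputable def ψ : pullback G.j G.j ⟶ pullback G.j G.diag :=
  pullback.lift (γ G) (pullback.fst G.j G.j ≫ G.s) (γ_j G)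

lemma ψ_fst : ψ G ≫ pullback.fst G.j G.diag = γ G := by
  unfold ψ
  rw [pullback.lift_fst]

lemma ψ_snd : ψ G ≫ pullback.snd G.j G.diag = pullback.fst G.j G.j ≫ G.s := by
  unfold ψ
  rw [pullback.lift_snd]

lemma sq_comm : pullback.diagonal G.j ≫ ψ G = G.s ≫ eS G := by
  apply pullback.hom_ext
  · rw [Category.assoc, ψ_fst, Category.assoc, eStab_fst]
    unfold γ
    rw [precomp]
    have e1 : pullback.diagonal G.j ≫ pullback.fst G.j G.j ≫ G.i = 𝟙 G.R ≫ G.i := by
      rw [← Category.assoc, pullback.diagonal_fst]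
    have e2 : pullback.diagonal G.j ≫ pullback.snd G.j G.j = 𝟙 G.R := pullback.diagonal_snd _
    rw [comp_congr G _ e1 e2, i_comp' G (𝟙 G.R) _ rfl, Category.id_comp]
  · rw [Category.assoc, ψ_snd, ← Category.assoc, pullback.diagonal_fst, Category.id_comp,
      Category.assoc]
    rw [eStab_snd, Category.comp_id]

lemma isPullback_sq : IsPullback (pullback.diagonal G.j) G.s (ψ G) (eS G) := by
  refine ⟨⟨sq_comm G⟩, ⟨PullbackCone.IsLimit.mk _ (fun c => c.fst ≫ pullback.fst G.j G.j) ?_ ?_ ?_⟩⟩
  · intro c
    -- α = β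
    have hs : (c.fst ≫ pullback.fst G.j G.j) ≫ G.s = c.snd := by
      have h1 := congrArg (· ≫ pullback.snd G.j G.diag) c.condition
      simp only [Category.assoc] at h1
      rw [ψ_snd] at h1
      rw [eStab_snd, Category.comp_id] at h1
      rw [Category.assoc]
      exact h1
    have hγ : c.fst ≫ γ G = c.snd ≫ G.e := by
      have h1 := congrArg (· ≫ pullback.fst G.j G.diag) c.condition
      simp only [Category.assoc] at h1
      rwa [ψ_fst, eStab_fst] at h1
    have hαβ : c.fst ≫ pullback.fst G.j G.j = c.fst ≫ pullback.snd G.j G.j := by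
      unfold γ at hγ
      rw [precomp] at hγ
      have h2 := cancel_left' G (c.fst ≫ pullback.fst G.j G.j) (c.fst ≫ pullback.snd G.j G.j)
        (by rw [Category.assoc, G.i_s, Category.assoc, Category.assoc, jj_t])
      rw [← h2]
      symm
      have e1 : comp G ((c.fst ≫ pullback.fst G.j G.j) ≫ G.i) (c.fst ≫ pullback.snd G.j G.j)
          (by rw [Category.assoc, G.i_s, Category.assoc, Category.assoc, jj_t]) =
          (c.fst ≫ pullback.fst G.j G.j) ≫ G.s ≫ G.e := by
        rw [← Category.assoc _ G.s, hs, ← hγ]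
        exact comp_congr G _ (Category.assoc _ _ _) rfl
      rw [comp_congr G _ rfl e1]
      exact comp_e' G _ _ rfl
    apply pullback.hom_ext
    · rw [Category.assoc, pullback.diagonal_fst, Category.comp_id]
    · rw [Category.assoc, pullback.diagonal_snd, Category.comp_id]
      exact hαβ
  · intro c
    have h1 := congrArg (· ≫ pullback.snd G.j G.diag) c.condition
    simp only [Category.assoc] at h1
    rw [ψ_snd] at h1
    rw [eStab_snd, Category.comp_id] at h1
    rw [Category.assoc]
    exact h1
  · intro c m h1 h2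
    rw [← h1, Category.assoc, pullback.diagonal_fst, Category.comp_id]

theorem main : ((IsSeparated G.j ↔ IsSeparated G.stabilizerToU) ∧
    (IsSeparated G.stabilizerToU ↔ IsClosedImmersion G.eStab)) ∧
    ((QuasiSeparated G.j ↔ QuasiSeparated G.stabilizerToU) ∧
    (QuasiSeparated G.stabilizerToU ↔ QuasiCompact G.eStab)) := by
  change ((IsSeparated G.j ↔ IsSeparated (pullback.snd G.j G.diag)) ∧
    (IsSeparated (pullback.snd G.j G.diag) ↔ IsClosedImmersion (eS G))) ∧
    ((QuasiSeparated G.j ↔ QuasiSeparated (pullback.snd G.j G.diag)) ∧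
    (QuasiSeparated (pullback.snd G.j G.diag) ↔ QuasiCompact (eS G)))
  have A : IsSeparated G.j → IsSeparated (pullback.snd G.j G.diag) := by
    intro h
    infer_instance
  have B : IsSeparated (pullback.snd G.j G.diag) → IsClosedImmersion (eS G) := by
    intro h
    have : IsClosedImmersion (eS G ≫ pullback.snd G.j G.diag) := by
      rw [eStab_snd]
      infer_instance
    exact IsClosedImmersion.of_comp (eS G) (pullback.snd G.j G.diag)
  have C : IsClosedImmersion (eS G) → IsSeparated G.j := by
    intro h
    exact ⟨MorphismProperty.of_isPullback (P := @IsClosedImmersion) (isPullback_sq G).flip h⟩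
  have A' : QuasiSeparated G.j → QuasiSeparated (pullback.snd G.j G.diag) := by
    intro h
    infer_instance
  have B' : QuasiSeparated (pullback.snd G.j G.diag) → QuasiCompact (eS G) := by
    intro h
    have : QuasiCompact (eS G ≫ pullback.snd G.j G.diag) := by
      rw [eStab_snd]
      infer_instance
    exact QuasiCompact.of_comp (eS G) (pullback.snd G.j G.diag)
  have C' : QuasiCompact (eS G) → QuasiSeparated G.j := by
    intro h
    exact ⟨MorphismProperty.of_isPullback (P := @QuasiCompact) (isPullback_sq G).flip h⟩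
  exact ⟨⟨⟨A, fun h => C (B h)⟩, ⟨B, fun h => A (C h)⟩⟩,
    ⟨⟨A', fun h => C' (B' h)⟩, ⟨B', fun h => A' (C' h)⟩⟩⟩

end Aux

/-- Let (U, R, s, t, c) be a groupoid scheme over S with stabilizer group scheme G → U and identity
section e : U → G. Then j = (t, s) : R → U ×_S U is separated iff G → U is separated iff e is a
closed immersion; and j is quasi-separated iff G → U is quasi-separated iff e is quasi-compact. (A
groupoid scheme carries U, R, s, t, c, e, i over S with the groupoid axioms on T-points; 'finite
locally free' is finite, flat and locally of finite presentation; C ⊂ Γ(U) is the ring of functions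
a with s♯(a) = t♯(a) and M = Spec C.) -/
theorem result (S : Scheme.{u}) (G : Grpd.GroupoidScheme S) : ((IsSeparated G.j ↔ IsSeparated G.stabilizerToU) ∧ (IsSeparated G.stabilizerToU ↔ IsClosedImmersion G.eStab)) ∧ ((QuasiSeparated G.j ↔ QuasiSeparated G.stabilizerToU) ∧ (QuasiSeparated G.stabilizerToU ↔ QuasiCompact G.eStab)) := by
  exact Aux.main G

end Groth.Agent.S1886
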