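import Groth.Statements.S18864
import Mathlib

set_option autoImplicit false
universe u v w
open HopfRep

namespace Groth.Agent.S18864

namespace Aux

open TensorProduct

theorem main (k : Type u) [Field k]
    (A : Type v) [CommRing A] [HopfAlgebra k A] {ι : Type v} (Aι : ι → Type v)
    [∀ i, CommRing (Aι i)] [∀ i, HopfAlgebra k (Aι i)] (emb : ∀ i, Aι i →ₐc[k] A)
    (hinj : ∀ i, Function.Injective (emb i))
    (hdir : ∀ i j, ∃ l, Set.range (emb i) ⊆ Set.range (emb l) ∧ Set.range (emb j) ⊆ Set.range (emb l))
    (hcov : ∀ a : A, ∃ i, a ∈ Set.range (emb i))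
    (B : Type w) [CommRing B] [HopfAlgebra k B] [Algebra.FiniteType k B] (f : B →ₐc[k] A) :
    ∃ (i : ι) (g : B →ₐc[k] Aι i), (emb i).comp g = f := by
  classical
  obtain ⟨s, hs⟩ := (inferInstance : Algebra.FiniteType k B).out
  have hfin : ∀ t : Finset B, ∃ i, ∀ b ∈ t, f b ∈ Set.range (emb i) := by
    intro t
    induction t using Finset.induction_on with
    | empty =>
      obtain ⟨i, _⟩ := hcov 0
      exact ⟨i, fun b hb => absurd hb (Finset.notMem_empty b)⟩
    | insert b t _ ih =>
      obtain ⟨i₁, h₁⟩ := ih
      obtain ⟨i₂, h₂⟩ := hcov (f b)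
      obtain ⟨l, hl₁, hl₂⟩ := hdir i₁ i₂
      refine ⟨l, fun b' hb' => ?_⟩
      rcases Finset.mem_insert.mp hb' with rfl | hb'
      · exact hl₂ h₂
      · exact hl₁ (h₁ b' hb')
  obtain ⟨i, hi⟩ := hfin s
  let e : Aι i →ₐ[k] A := (emb i : Aι i →ₐ[k] A)
  have he : ∀ x, e x = emb i x := fun x => rfl
  have hmem : ∀ b : B, (f : B →ₐ[k] A) b ∈ e.range := by
    intro b
    have hb : b ∈ Algebra.adjoin k (s : Set B) := by rw [hs]; trivial
    induction hb using Algebra.adjoin_induction with
    | mem x hx => exact hi x hx
    | algebraMap r => exact ⟨algebraMap k _ r, by simp [e]⟩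
    | add x y _ _ hx hy => rw [map_add]; exact Subalgebra.add_mem _ hx hy
    | mul x y _ _ hx hy => rw [map_mul]; exact Subalgebra.mul_mem _ hx hy
  let g₀ : B →ₐ[k] Aι i :=
    ((AlgEquiv.ofInjective e (hinj i)).symm : e.range →ₐ[k] Aι i).comp
      ((f : B →ₐ[k] A).codRestrict e.range hmem)
  have hg₀ : ∀ b, emb i (g₀ b) = f b := by
    intro b
    have h1 := (AlgEquiv.ofInjective e (hinj i)).apply_symm_apply
      ((f : B →ₐ[k] A).codRestrict e.range hmem b)
    have h2 := congrArg Subtype.val h1
    exact h2
  have hcounit : (Bialgebra.counitAlgHom k (Aι i)).comp g₀ = Bialgebra.counitAlgHom k B := by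
    apply AlgHom.ext
    intro b
    show CoalgebraStruct.counit (R := k) (A := Aι i) (g₀ b) = CoalgebraStruct.counit (R := k) (A := B) b
    rw [← CoalgHomClass.counit_comp_apply (emb i) (g₀ b), hg₀,
      CoalgHomClass.counit_comp_apply f b]
  have hcomul : (Algebra.TensorProduct.map g₀ g₀).comp (Bialgebra.comulAlgHom k B) =
      (Bialgebra.comulAlgHom k (Aι i)).comp g₀ := by
    apply AlgHom.ext
    intro b
    show TensorProduct.map g₀.toLinearMap g₀.toLinearMap (CoalgebraStruct.comul (R := k) (A := B) b) =
      CoalgebraStruct.comul (R := k) (A := Aι i) (g₀ b)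
    have hinj2 : Function.Injective
        (TensorProduct.map (emb i : Aι i →ₗ[k] A) (emb i : Aι i →ₗ[k] A)) :=
      TensorProduct.map_injective_of_flat_flat _ _ (hinj i) (hinj i)
    apply hinj2
    rw [CoalgHomClass.map_comp_comul_apply (emb i) (g₀ b), hg₀,
      ← CoalgHomClass.map_comp_comul_apply f b, ← LinearMap.comp_apply, ← TensorProduct.map_comp]
    congr 1
    have : (emb i : Aι i →ₗ[k] A) ∘ₗ g₀.toLinearMap = (f : B →ₗ[k] A) := by
      apply LinearMap.ext
      intro b
      exact hg₀ b
    rw [this]
  refine ⟨i, BialgHom.ofAlgHom g₀ hcounit hcomul, ?_⟩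
  apply DFunLike.ext
  intro b
  exact hg₀ b

end Aux

/-- Let k be a field and G = lim G_i a pro-algebraic group scheme over k, so that G = Spec A with A the
direct limit of the Hopf algebras A_i of the affine group schemes G_i of finite type; assume
moreover that the maps A_i → A are injective, so that A is the directed union of the A_i, here given
as injective bialgebra maps A_i → A with directed, jointly covering images. Then every homomorphism
from G to an affine group scheme H = Spec B of finite type over k factors through some projection G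
→ G_i: every bialgebra map f : B → A with B finitely generated as a k-algebra is the composite of
A_i → A with a bialgebra map B → A_i for some i. (The published statement allows arbitrary
transition maps in the system; this row assumes each A_i → A injective, the case the printed
argument treats. The source also states the pro-finite variant with H finite, which is the case of
finite-dimensional A_i and B; finite generation of the A_i is not used.) -/
theorem result (k : Type u) [Field k]
    (A : Type v) [CommRing A] [HopfAlgebra k A] {ι : Type v} (Aι : ι → Type v)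
    [∀ i, CommRing (Aι i)] [∀ i, HopfAlgebra k (Aι i)] (emb : ∀ i, Aι i →ₐc[k] A)
    (hinj : ∀ i, Function.Injective (emb i))
    (hdir : ∀ i j, ∃ l, Set.range (emb i) ⊆ Set.range (emb l) ∧ Set.range (emb j) ⊆ Set.range (emb l))
    (hcov : ∀ a : A, ∃ i, a ∈ Set.range (emb i))
    (B : Type w) [CommRing B] [HopfAlgebra k B] [Algebra.FiniteType k B] (f : B →ₐc[k] A) :
    ∃ (i : ι) (g : B →ₐc[k] Aι i), (emb i).comp g = f := by
  exact Aux.main k A Aι emb hinj hdir hcov B f

end Groth.Agent.S18864
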