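import Groth.Statements.S18868
import Groth.Agent.Lib.Helper2.Gor.LinkGor


set_option autoImplicit false
universe u
open Liaison

namespace Groth.Agent.S18868

/-- Let K be a field, R = K[x_0, …, x_n] graded by degree, c ≥ 2, 𝔠 ⊂ R a homogeneous complete
intersection of codimension c, that is a homogeneous ideal of height c generated by c elements g_1,
…, g_c, and I ⊂ R a homogeneous ideal of height c with R/I Cohen–Macaulay which properly contains 𝔠
and has the form I = 𝔠 + fR for some f (so I is an almost complete intersection). Then the linked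
ideal J = 𝔠 : I has height c and R/J is a Gorenstein ring. (A Gorenstein ideal of the notes, one
whose quotient is Cohen–Macaulay with last graded Betti number 1, is rendered as: the quotient ring
is Gorenstein.) -/
theorem result (K : Type u) [Field K] (n c : ℕ) (hc : 2 ≤ c)
    (g : Fin c → MvPolynomial (Fin (n + 1)) K) (f : MvPolynomial (Fin (n + 1)) K) (𝔠 I : Ideal (MvPolynomial (Fin (n + 1)) K)) (h𝔠g : Ideal.span (Set.range g) = 𝔠)
    (h𝔠 : 𝔠.IsHomogeneous (GrSyz.stdGr K (Fin (n + 1)))) (hI : I.IsHomogeneous (GrSyz.stdGr K (Fin (n + 1))))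
    (h𝔠c : 𝔠.height = c) (hIc : I.height = c) [LocCoh.IsCohenMacaulayRing (MvPolynomial (Fin (n + 1)) K ⧸ I)]
    (hlt : 𝔠 < I) (hIf : I = 𝔠 ⊔ Ideal.span {f}) :
    (𝔠.colon (I : Set (MvPolynomial (Fin (n + 1)) K))).height = c ∧
      LocCoh.IsGorensteinRing (MvPolynomial (Fin (n + 1)) K ⧸ 𝔠.colon (I : Set (MvPolynomial (Fin (n + 1)) K))) := by
  have hGR : LocCoh.IsGorensteinRing (MvPolynomial (Fin (n + 1)) K) :=
    Groth.Agent.Helper8.GorFlat.isGorensteinRing_of_isRegularRing _
  haveI hG𝔠 : LocCoh.IsGorensteinRing (MvPolynomial (Fin (n + 1)) K ⧸ 𝔠) :=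
    Groth.Agent.Helper2.Gor.isGorensteinRing_quotient_span_range hGR g 𝔠 h𝔠g (by rw [h𝔠c])
  haveI hCM𝔠 : LocCoh.IsCohenMacaulayRing (MvPolynomial (Fin (n + 1)) K ⧸ 𝔠) :=
    Groth.Agent.Helper8.GorFlat.isCohenMacaulayRing_of_isGorensteinRing _ hG𝔠
  haveI : IsNoetherianRing (MvPolynomial (Fin (n + 1)) K) := inferInstance
  have hII := Groth.Agent.Helper2.Gor.colon_colon_eq_self 𝔠 I hlt.le
    (fun P hP => Groth.Agent.Helper2.Gor.mem_minimalPrimes_of_mem_associatedPrimes_of_homog
      𝔠 I h𝔠 hI c h𝔠c hIc hlt.le P hP)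
  refine ⟨?_, Groth.Agent.Helper2.Gor.isGorensteinRing_quotient_colon_of_aci 𝔠 I f hIf hII
    inferInstance⟩
  have hJtop : 𝔠.colon (I : Set (MvPolynomial (Fin (n + 1)) K)) ≠ ⊤ := by
    intro htop
    have h1 : (1 : MvPolynomial (Fin (n + 1)) K) ∈
        𝔠.colon (I : Set (MvPolynomial (Fin (n + 1)) K)) := by rw [htop]; trivial
    rw [Submodule.mem_colon] at h1
    have h2 : I ≤ 𝔠 := by
      intro x hx
      have := h1 x hx
      rwa [one_smul] at this
    exact (lt_irrefl _ (lt_of_lt_of_le hlt h2))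
  apply Groth.Agent.Helper2.CM.height_eq_of_forall_associatedPrimes _ hJtop
  intro p hp
  have hp' := Groth.Agent.Helper2.CM.associatedPrimes_colon_subset 𝔠 I hp
  rw [Groth.Agent.Helper2.CM.height_eq_of_mem_associatedPrimes_of_homog 𝔠 h𝔠 p hp', h𝔠c]

end Groth.Agent.S18868
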