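import Groth.Statements.S18870
import Mathlib

set_option autoImplicit false
universe u
open Liaison

namespace Groth.Agent.S18870

namespace H18870

theorem main (R : Type u) [CommRing R] [IsNoetherianRing R] (h : ℕ) (J I : Ideal R)
    (hJI : J ≤ I) (hJh : J.height = h) (hIh : I.height = h + 1)
    (f : R) (hJf : J.colon {f} = J) :
    (J ⊔ Ideal.span {f} * I).height = h + 1 := by
  apply le_antisymm
  · rw [← hIh]
    exact Ideal.height_mono (sup_le hJI Ideal.mul_le_right)
  · rw [Ideal.height_eq_inf_minimalPrimes]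
    refine le_iInf₂ fun P hP => ?_
    have hPprime : P.IsPrime := hP.1.1
    have hJP : J ≤ P := le_sup_left.trans hP.1.2
    have hfIP : Ideal.span {f} * I ≤ P := le_sup_right.trans hP.1.2
    rcases (Ideal.IsPrime.mul_le hPprime).1 hfIP with hfP | hIP
    · obtain ⟨q, hq, hqP⟩ := Ideal.exists_minimalPrimes_le hJP
      have hqprime : q.IsPrime := hq.1.1
      have hfq : f ∉ q := by
        intro hfq
        have hqass : q ∈ associatedPrimes R (R ⧸ J) := by
          apply Module.associatedPrimes.minimalPrimes_annihilator_subset_associatedPrimes R (R ⧸ J)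
          rwa [Ideal.annihilator_quotient]
        obtain ⟨_, y, hy⟩ := (isAssociatedPrime_iff).1 hqass
        obtain ⟨y, rfl⟩ := Ideal.Quotient.mk_surjective y
        have h1 : f ∈ (⊥ : Submodule R (R ⧸ J)).colon {Ideal.Quotient.mk J y} := hy ▸ hfq
        rw [Submodule.mem_colon_singleton, Submodule.mem_bot] at h1
        have h2 : f * y ∈ J := by
          rw [← Ideal.Quotient.eq_zero_iff_mem, map_mul]
          rw [Algebra.smul_def] at h1
          exact h1
        have h3 : y ∈ J.colon {f} := by
          rw [Submodule.mem_colon_singleton, smul_eq_mul, mul_comm]; exact h2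
        rw [hJf] at h3
        have h4 : (1 : R) ∈ q := by
          rw [hy, Submodule.mem_colon_singleton, Submodule.mem_bot, one_smul]
          exact Ideal.Quotient.eq_zero_iff_mem.2 h3
        exact hqprime.ne_top ((Ideal.eq_top_iff_one q).2 h4)
      have hqltP : q < P := lt_of_le_of_ne hqP (fun h => hfq (h ▸ hfP (Ideal.mem_span_singleton_self f)))
      have h5 := Ideal.height_add_one_le_of_lt_of_isPrime hqltP
      have h6 : (h : ℕ∞) ≤ q.height := hJh ▸ Ideal.height_mono hq.1.2
      calc ((h : ℕ∞) + 1) ≤ q.height + 1 := by gcongr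
        _ ≤ P.height := h5
    · rw [← hIh]
      exact Ideal.height_mono hIP

end H18870

/-- Let K be a field, R = K[x_0, …, x_n] graded by degree, and J ⊆ I ⊂ R homogeneous ideals with J ≠ 0,
height I = height J + 1 = h + 1 and R/J Cohen–Macaulay; let f ∈ R be homogeneous of degree d with J
: f = J, and put Ĩ = J + fI (the basic double link). Then Ĩ has the same height h + 1 as I. -/
theorem result (K : Type u) [Field K] (n h : ℕ)
    (J I : Ideal (MvPolynomial (Fin (n + 1)) K))
    (hJ : J.IsHomogeneous (GrSyz.stdGr K (Fin (n + 1)))) (hI : I.IsHomogeneous (GrSyz.stdGr K (Fin (n + 1))))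
    (hJ0 : J ≠ ⊥) (hJI : J ≤ I) (hJh : J.height = h) (hIh : I.height = h + 1)
    [LocCoh.IsCohenMacaulayRing (MvPolynomial (Fin (n + 1)) K ⧸ J)]
    (f : MvPolynomial (Fin (n + 1)) K) (d : ℕ) (hf : f ∈ GrSyz.stdGr K (Fin (n + 1)) (d : ℤ)) (hJf : J.colon {f} = J) :
    (J ⊔ Ideal.span {f} * I).height = h + 1 := by
  exact H18870.main _ h J I hJI hJh hIh f hJf

end Groth.Agent.S18870
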