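import Groth.Statements.S18871
import Groth.Agent.Lib.Helper2.CM.DoubleLink


set_option autoImplicit false
universe u
open Liaison

namespace Groth.Agent.S18871

/-- Let K be a field, R = K[x_0, …, x_n] graded by degree, and J ⊆ I ⊂ R homogeneous ideals with J ≠ 0,
height I = height J + 1 = h + 1 and R/J Cohen–Macaulay; let f ∈ R be homogeneous of degree d with J
: f = J, and put Ĩ = J + fI (the basic double link). Then I is unmixed, meaning that every
associated prime of R/I has height h + 1, if and only if Ĩ is unmixed in the same sense. -/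
theorem result (K : Type u) [Field K] (n h : ℕ)
    (J I : Ideal (MvPolynomial (Fin (n + 1)) K))
    (hJ : J.IsHomogeneous (GrSyz.stdGr K (Fin (n + 1)))) (hI : I.IsHomogeneous (GrSyz.stdGr K (Fin (n + 1))))
    (hJ0 : J ≠ ⊥) (hJI : J ≤ I) (hJh : J.height = h) (hIh : I.height = h + 1)
    [LocCoh.IsCohenMacaulayRing (MvPolynomial (Fin (n + 1)) K ⧸ J)]
    (f : MvPolynomial (Fin (n + 1)) K) (d : ℕ) (hf : f ∈ GrSyz.stdGr K (Fin (n + 1)) (d : ℤ)) (hJf : J.colon {f} = J) :
    (∀ p ∈ associatedPrimes (MvPolynomial (Fin (n + 1)) K) (MvPolynomial (Fin (n + 1)) K ⧸ I), p.height = h + 1) ↔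
      ∀ p ∈ associatedPrimes (MvPolynomial (Fin (n + 1)) K) (MvPolynomial (Fin (n + 1)) K ⧸ (J ⊔ Ideal.span {f} * I)), p.height = h + 1 := by
  have hCMR : LocCoh.IsCohenMacaulayRing (MvPolynomial (Fin (n + 1)) K) :=
    Groth.Agent.Helper8.CplMap.isCohenMacaulayRing_of_isRegularRing _
  have hCMJ : LocCoh.IsCohenMacaulayRing (MvPolynomial (Fin (n + 1)) K ⧸ J) := inferInstance
  have hmin : ∀ Q ∈ J.minimalPrimes, Q.height = h := by
    intro Q hQ
    have hQass : Q ∈ associatedPrimes (MvPolynomial (Fin (n + 1)) K)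
        (MvPolynomial (Fin (n + 1)) K ⧸ J) := by
      apply Module.associatedPrimes.minimalPrimes_annihilator_subset_associatedPrimes
      rwa [Ideal.annihilator_quotient]
    rw [Groth.Agent.Helper2.CM.height_eq_of_mem_associatedPrimes_of_homog J hJ Q hQass, hJh]
  have hinj := Groth.Agent.Helper2.CM.dlMul_injective J I f hJI hJf
  have hex := Groth.Agent.Helper2.CM.dl_exact J I f
  constructor
  · intro hI' p hp
    rcases associatedPrimes.subset_union_of_exact hinj hex hp with h1 | h1
    · exact hI' p h1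
    · have := Groth.Agent.Helper2.CM.height_eq_succ_of_mem_associatedPrimes_quot hCMR J f hCMJ h
        hmin hJf p h1
      rw [this]
  · intro hI' p hp
    exact hI' p (associatedPrimes.subset_of_injective hinj hp)

end Groth.Agent.S18871
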