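import Groth.Statements.S18879
import Groth.Agent.Lib.Helper4.DimIneq4
import Groth.Agent.Lib.Helper4.DimIneq2


set_option autoImplicit false
universe u
open CategoryTheory AlgebraicGeometry
open Resolve

namespace Groth.Agent.S18879

/-- Let f : Y ⟶ X be a morphism locally of finite type between Noetherian separated schemes which is
birational: it maps the maximal points of Y bijectively onto the maximal points of X, and over every
maximal point of X its fibre is one point with the same residue field. Then for every point y of Y,
the Krull dimension of the local ring of Y at y is at most the Krull dimension of the local ring of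
X at f y (the codimension of a point does not increase along f). -/
theorem result {X Y : Scheme.{u}} (f : Y ⟶ X)
    [IsNoetherian X] [X.IsSeparated] [IsNoetherian Y] [Y.IsSeparated] [LocallyOfFiniteType f]
    (hf : RadPt.IsBirational f) (y : Y) :
    ringKrullDim (Y.presheaf.stalk y) ≤ ringKrullDim (X.presheaf.stalk (f.base y)) := by
  obtain ⟨n, hn⟩ := Groth.Agent.Lib.Helper4.DimIneq4.exists_trdeg_eq_nat f y
  have hE : ∀ ξ : Y, closure {ξ} ∈ irreducibleComponents ↥Y → ξ ⤳ y →
      letI := (f.residueFieldMap ξ).hom.toAlgebra
      Algebra.trdeg (X.residueField (f.base ξ)) (Y.residueField ξ) ≤ (0 : ℕ) := by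
    intro ξ hξ _
    have hξg : ξ ∈ genericPoints Y := hξ
    have hfξ : f ξ ∈ genericPoints X := hf.1.mapsTo hξg
    have hbij : Function.Bijective (f.residueFieldMap ξ).hom := (hf.2 (f ξ) hfξ).2 ξ rfl
    letI := (f.residueFieldMap ξ).hom.toAlgebra
    haveI : Algebra.IsAlgebraic (X.residueField (f.base ξ)) (Y.residueField ξ) := by
      have hs : Function.Surjective (algebraMap (X.residueField (f.base ξ)) (Y.residueField ξ)) :=
        hbij.2
      have hint : (algebraMap (X.residueField (f.base ξ)) (Y.residueField ξ)).IsIntegral :=
        RingHom.isIntegral_of_surjective _ hs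
      haveI : Algebra.IsIntegral (X.residueField (f.base ξ)) (Y.residueField ξ) := ⟨hint⟩
      exact Algebra.IsIntegral.isAlgebraic
    rw [trdeg_eq_zero]
    simp
  have h1 := Groth.Agent.Lib.Helper4.DimIneq2.S9687_main f y n 0 hn hE
  calc ringKrullDim (Y.presheaf.stalk y) ≤ ringKrullDim (Y.presheaf.stalk y) + n :=
        le_add_of_nonneg_right (by positivity)
    _ ≤ ringKrullDim (X.presheaf.stalk (f.base y)) + (0 : ℕ) := h1
    _ = ringKrullDim (X.presheaf.stalk (f.base y)) := by simp

end Groth.Agent.S18879
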