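import Groth.Statements.S18887
import Mathlib

set_option autoImplicit false
universe u v
open DblCov

namespace Groth.Agent.S18887

namespace H18887


theorem mat_ch2 {A : Type*} [CommRing A] (M : Matrix (Fin 2) (Fin 2) A) :
    M * M - M.trace • M + M.det • (1 : Matrix (Fin 2) (Fin 2) A) = 0 := by
  ext i j
  fin_cases i <;> fin_cases j <;>
    simp [Matrix.mul_apply, Fin.sum_univ_two, Matrix.trace, Matrix.det_fin_two] <;> ring

variable {A : Type u} {B : Type v} [CommRing A] [CommRing B] [Algebra A B]

theorem nontrivial_of_finrank (hrk : Module.finrank A B = 2) : Nontrivial A := by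
  by_contra h
  rw [not_nontrivial_iff_subsingleton] at h
  have : Module.finrank A B = 1 := by
    rw [Module.finrank, rank_subsingleton]
    simp
  omega

theorem ch2 [Module.Free A B] [Module.Finite A B] (hrk : Module.finrank A B = 2) (b : B) :
    ∃ N : A, b * b - (Algebra.trace A B b) • b + algebraMap A B N = 0 := by
  have := nontrivial_of_finrank hrk
  let bas := Module.finBasisOfFinrankEq A B hrk
  refine ⟨(Algebra.leftMulMatrix bas b).det, ?_⟩
  apply Algebra.leftMulMatrix_injective bas
  rw [map_zero, map_add, map_sub, map_mul, map_smul, AlgHom.commutes,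
    Algebra.trace_eq_matrix_trace bas b, Algebra.algebraMap_eq_smul_one]
  exact mat_ch2 _

theorem main (h2 : IsUnit (2 : A)) [Module.Free A B] [Module.Finite A B]
    (hrk : Module.finrank A B = 2)
    [Module.Free A (LinearMap.ker (Algebra.trace A B))]
    (hker : Module.finrank A (LinearMap.ker (Algebra.trace A B)) = 1) :
    ∃ σ : B →ₐ[A] B, (∀ b : B, σ b = algebraMap A B (Algebra.trace A B b) - b) ∧
      σ ≠ AlgHom.id A B ∧ σ.comp σ = AlgHom.id A B ∧
      ∀ b : B, σ b = b ↔ b ∈ Set.range (algebraMap A B) := by
  have hnt := nontrivial_of_finrank hrk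
  obtain ⟨u, hu⟩ := h2
  have hu2 : ∀ a : A, 2 * a = 0 → a = 0 := by
    intro a ha
    rw [← hu] at ha
    exact u.mul_right_eq_zero.1 ha
  have htr1 : ∀ a : A, Algebra.trace A B (algebraMap A B a) = 2 * a := by
    intro a
    rw [Algebra.trace_algebraMap, hrk]
    simp
  let τ : B →ₗ[A] B := (Algebra.linearMap A B) ∘ₗ (Algebra.trace A B) - LinearMap.id
  have hτ : ∀ b, τ b = algebraMap A B (Algebra.trace A B b) - b := fun b => rfl
  have hτ1 : τ 1 = 1 := by
    rw [hτ, ← map_one (algebraMap A B), htr1, map_one, mul_one, map_ofNat]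
    ring
  have hτmul : ∀ b c, τ (b * c) = τ b * τ c := by
    intro b c
    obtain ⟨Nb, hNb⟩ := ch2 hrk b
    obtain ⟨Nc, hNc⟩ := ch2 hrk c
    obtain ⟨Nbc, hNbc⟩ := ch2 hrk (b + c)
    set tb := Algebra.trace A B b with htb
    set tc := Algebra.trace A B c with htc
    -- polarization
    have hpol : 2 * (b * c) - tb • c - tc • b + algebraMap A B (Nbc - Nb - Nc) = 0 := by
      rw [map_add] at hNbc
      simp only [map_sub, Algebra.smul_def, map_add] at hNbc hNb hNc ⊢
      linear_combination hNbc - hNb - hNc
    have hP : Nbc - Nb - Nc = tb * tc - Algebra.trace A B (b * c) := by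
      have h3 := congrArg (Algebra.trace A B) hpol
      rw [map_zero, map_add, map_sub, map_sub, map_smul, map_smul, htr1] at h3
      have h4 : Algebra.trace A B (2 * (b * c)) = 2 * Algebra.trace A B (b * c) := by
        have : (2 : B) * (b * c) = (2 : A) • (b * c) := by
          rw [Algebra.smul_def, map_ofNat]
        rw [this, map_smul, smul_eq_mul]
      rw [h4, ← htb, ← htc, smul_eq_mul, smul_eq_mul] at h3
      have h5 : (Nbc - Nb - Nc) - (tb * tc - Algebra.trace A B (b * c)) = 0 :=
        hu2 _ (by linear_combination h3)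
      exact sub_eq_zero.1 h5
    rw [hP] at hpol
    rw [hτ, hτ, hτ]
    simp only [map_sub, map_mul, Algebra.smul_def] at hpol ⊢
    linear_combination -hpol
  let σ : B →ₐ[A] B := AlgHom.ofLinearMap τ hτ1 hτmul
  have hσ : ∀ b, σ b = algebraMap A B (Algebra.trace A B b) - b := fun b => rfl
  refine ⟨σ, hσ, ?_, ?_, ?_⟩
  · -- σ ≠ id
    intro hid
    have : Module.Finite A (LinearMap.ker (Algebra.trace A B)) :=
      Module.finite_of_finrank_pos (by omega)
    let bk := Module.finBasisOfFinrankEq A _ hker
    have hw : (bk 0 : B) ≠ 0 := by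
      intro h0
      exact bk.ne_zero 0 (Subtype.ext h0)
    have htw : Algebra.trace A B (bk 0 : B) = 0 := (bk 0).2
    have h1 : σ (bk 0 : B) = (bk 0 : B) := by rw [hid]; rfl
    rw [hσ, htw, map_zero, zero_sub] at h1
    apply hw
    have h2w : (2 : A) • (bk 0 : B) = 0 := by
      rw [two_smul]
      nth_rewrite 1 [← h1]
      simp
    rw [← hu] at h2w
    have := congrArg (fun z => ((u⁻¹ : Aˣ) : A) • z) h2w
    simp only [smul_smul, Units.inv_mul, one_smul, smul_zero] at this
    exact this
  · ext b
    simp only [AlgHom.comp_apply, AlgHom.id_apply]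
    rw [hσ, hσ, map_sub, htr1, map_sub, map_mul, map_ofNat]
    ring
  · intro b
    rw [hσ]
    constructor
    · intro h
      refine ⟨(u⁻¹ : Aˣ) * Algebra.trace A B b, ?_⟩
      have h2b : (2 : B) * b = algebraMap A B (Algebra.trace A B b) := by linear_combination -h
      have : algebraMap A B ((u : A) * ((u⁻¹ : Aˣ) * Algebra.trace A B b)) = algebraMap A B (u : A) * b := by
        rw [← mul_assoc, Units.mul_inv, one_mul, hu, map_ofNat, h2b]
      rw [map_mul] at this
      have hinj : ∀ x y : B, algebraMap A B (u : A) * x = algebraMap A B (u : A) * y → x = y := by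
        intro x y hxy
        have := congrArg (fun z => algebraMap A B ((u⁻¹ : Aˣ) : A) * z) hxy
        simp only [← mul_assoc, ← map_mul, Units.inv_mul, map_one, one_mul] at this
        exact this
      exact hinj _ _ this
    · rintro ⟨a, rfl⟩
      rw [htr1, map_mul, map_ofNat]
      ring

end H18887

/-- Let A be a commutative ring in which 2 is invertible and B a commutative A-algebra which is free of
rank 2 as an A-module and whose trace form tr : B → A has kernel free of rank 1 over A. Then σ(b) =
tr(b) − b defines an A-algebra endomorphism σ of B with σ ≠ id and σ ∘ σ = id, and the elements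
fixed by σ are exactly the image of A in B. -/
theorem result {A : Type u} {B : Type v} [CommRing A] [CommRing B]
    [Algebra A B] (h2 : IsUnit (2 : A)) [Module.Free A B] [Module.Finite A B]
    (hrk : Module.finrank A B = 2)
    [Module.Free A (LinearMap.ker (Algebra.trace A B))]
    (hker : Module.finrank A (LinearMap.ker (Algebra.trace A B)) = 1) :
    ∃ σ : B →ₐ[A] B, (∀ b : B, σ b = algebraMap A B (Algebra.trace A B b) - b) ∧
      σ ≠ AlgHom.id A B ∧ σ.comp σ = AlgHom.id A B ∧
      ∀ b : B, σ b = b ↔ b ∈ Set.range (algebraMap A B) := by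
  exact H18887.main h2 hrk hker

end Groth.Agent.S18887
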