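import Groth.Statements.S18888
import Mathlib

set_option autoImplicit false
universe u v w
open CAlg

namespace Groth.Agent.S18888

theorem ufd_sq_lemma {A K : Type*} [CommRing A] [IsDomain A] [UniqueFactorizationMonoid A]
    [Field K] [Algebra A K] [IsFractionRing A K] (d : A) (hd : Squarefree d) (b : K) (e : A)
    (h : b * b * algebraMap A K d = algebraMap A K e) : b ∈ Set.range (algebraMap A K) := by
  obtain ⟨r, s, hrs, rfl⟩ := IsFractionRing.exists_reduced_fraction (A := A) (K := K) b
  have hs0 : algebraMap A K (s : A) ≠ 0 := by
    intro h0
    have := (IsFractionRing.injective A K) (h0.trans (map_zero _).symm)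
    exact nonZeroDivisors.coe_ne_zero s this
  have h1 : r * r * d = e * (s * s) := by
    apply IsFractionRing.injective A K
    rw [IsFractionRing.mk'_eq_div] at h
    field_simp at h
    simp only [map_mul]
    simp only [pow_two] at h
    linear_combination h
  have h2 : ((s : A) * s) ∣ d := by
    have hrel : IsRelPrime ((s:A) * s) (r * r) := by
      have := (hrs.symm.pow (m := 2) (n := 2))
      simpa [pow_two] using this
    apply hrel.dvd_of_dvd_mul_left
    rw [h1]
    exact dvd_mul_left _ _
  have h3 : IsUnit (s : A) := hd _ h2
  obtain ⟨t, ht⟩ := h3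
  refine ⟨r * (t⁻¹ : Aˣ), ?_⟩
  rw [IsFractionRing.mk'_eq_div, eq_div_iff hs0, ← map_mul, ← ht]
  congr 1
  rw [mul_assoc]
  simp

theorem quad_main {A : Type*} {K : Type*} {L : Type*}
    [CommRing A] [IsDomain A] [UniqueFactorizationMonoid A] [Field K] [Algebra A K] [IsFractionRing A K]
    [Field L] [Algebra K L] [Algebra A L] [IsScalarTower A K L]
    (h2 : IsUnit (2 : A)) (hL : Module.finrank K L = 2)
    (d : A) (hd : Squarefree d) (y : L) (hy : y * y = algebraMap A L d)
    (hyK : y ∉ Set.range (algebraMap K L))
    (ufd : ∀ (b : K) (e : A), b * b * algebraMap A K d = algebraMap A K e → b ∈ Set.range (algebraMap A K)) :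
    integralClosure A L = Algebra.adjoin A {y} := by
  have : FiniteDimensional K L := Module.finite_of_finrank_pos (by omega)
  have hinjKL : Function.Injective (algebraMap K L) := (algebraMap K L).injective
  -- linear independence
  have hli : ∀ s t : K, algebraMap K L s + algebraMap K L t * y = 0 → s = 0 ∧ t = 0 := by
    intro s t hst
    by_cases ht : t = 0
    · subst ht
      simp only [map_zero, zero_mul, add_zero] at hst
      exact ⟨hinjKL (hst.trans (map_zero _).symm), rfl⟩
    · exfalso
      apply hyK
      refine ⟨-s / t, ?_⟩
      have ht' : algebraMap K L t ≠ 0 := fun h0 => ht (hinjKL (h0.trans (map_zero _).symm))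
      rw [map_div₀, map_neg, div_eq_iff ht']
      linear_combination -hst
  have hind : LinearIndependent K ![(1 : L), y] := by
    rw [LinearIndependent.pair_iff]
    intro s t hst
    apply hli s t
    rw [Algebra.smul_def, Algebra.smul_def, mul_one] at hst
    exact hst
  have hspan : Submodule.span K (Set.range ![(1 : L), y]) = ⊤ := by
    apply hind.span_eq_top_of_card_eq_finrank'
    simp [hL]
  have hrep : ∀ z : L, ∃ a b : K, z = algebraMap K L a + algebraMap K L b * y := by
    intro z
    have hz : z ∈ Submodule.span K (Set.range ![(1 : L), y]) := by rw [hspan]; trivial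
    rw [Matrix.range_cons, Matrix.range_cons, Matrix.range_empty, Set.union_empty,
      Set.union_comm, ← Set.insert_eq, Submodule.mem_span_pair] at hz
    obtain ⟨a, b, hab⟩ := hz
    refine ⟨b, a, ?_⟩
    rw [← hab, Algebra.smul_def, Algebra.smul_def, mul_one]
    ring
  apply le_antisymm
  · intro z hz
    have hzint : IsIntegral A z := hz
    obtain ⟨a, b, rfl⟩ := hrep z
    by_cases hb : b = 0
    · subst hb
      simp only [map_zero, zero_mul, add_zero] at hzint ⊢
      have : IsIntegral A a := (isIntegral_algebraMap_iff hinjKL).1 hzint
      obtain ⟨a', rfl⟩ := IsIntegrallyClosed.isIntegral_iff.1 this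
      rw [← IsScalarTower.algebraMap_apply]
      exact Subalgebra.algebraMap_mem _ _
    · set z := algebraMap K L a + algebraMap K L b * y with hzdef
      have hzK : z ∉ Set.range (algebraMap K L) := by
        rintro ⟨c, hc⟩
        have := hli (a - c) b (by rw [map_sub]; linear_combination hzdef.symm.trans hc.symm)
        exact hb this.2
      have hQ := minpoly.isIntegrallyClosed_eq_field_fractions' K hzint
      have hdeg : (minpoly K z).natDegree = 2 := by
        have h1 := minpoly.natDegree_le (A := K) z
        rw [hL] at h1
        have h2 := minpoly.natDegree_pos (Algebra.IsIntegral.isIntegral (R := K) z)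
        have h3 : (minpoly K z).natDegree ≠ 1 := by
          intro h
          exact hzK ((minpoly.natDegree_eq_one_iff).1 h)
        omega
      have hmonic : (minpoly A z).Monic := minpoly.monic hzint
      have hdegA : (minpoly A z).natDegree = 2 := by
        rw [hQ, hmonic.natDegree_map] at hdeg
        exact hdeg
      have haev : Polynomial.aeval z (minpoly A z) = 0 := minpoly.aeval A z
      rw [hmonic.as_sum, hdegA] at haev
      simp only [Finset.sum_range_succ, Finset.sum_range_zero, zero_add, pow_zero, mul_one,
        pow_one, map_add, map_pow, Polynomial.aeval_X, map_mul, Polynomial.aeval_C] at haev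
      set c0 := (minpoly A z).coeff 0
      set c1 := (minpoly A z).coeff 1
      have e0 : algebraMap A L c0 = algebraMap K L (algebraMap A K c0) :=
        IsScalarTower.algebraMap_apply A K L c0
      have e1 : algebraMap A L c1 = algebraMap K L (algebraMap A K c1) :=
        IsScalarTower.algebraMap_apply A K L c1
      have ed : algebraMap A L d = algebraMap K L (algebraMap A K d) :=
        IsScalarTower.algebraMap_apply A K L d
      have key := hli (a * a + b * b * algebraMap A K d + algebraMap A K c0 + algebraMap A K c1 * a)
        (2 * a * b + algebraMap A K c1 * b) (by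
          simp only [map_add, map_mul, map_ofNat]
          rw [hzdef, e0, e1] at haev
          rw [ed] at hy
          linear_combination haev - (algebraMap K L b * algebraMap K L b) * hy)
      obtain ⟨k1, k2⟩ := key
      obtain ⟨u, hu⟩ := h2
      have hu' : algebraMap A K (u : A) = 2 := by rw [hu]; exact map_ofNat _ 2
      have ha : a = algebraMap A K (- c1 * (u⁻¹ : Aˣ)) := by
        have h2a : 2 * a + algebraMap A K c1 = 0 := by
          have : (2 * a + algebraMap A K c1) * b = 0 := by linear_combination k2
          rcases mul_eq_zero.1 this with h | h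
          · exact h
          · exact absurd h hb
        have : algebraMap A K (u : A) * algebraMap A K ((u⁻¹ : Aˣ) : A) = 1 := by
          rw [← map_mul]; simp
        rw [map_mul, map_neg]
        rw [hu'] at this
        linear_combination (algebraMap A K ((u⁻¹ : Aˣ) : A)) * h2a - a * this
      obtain ⟨b', hb'⟩ := ufd b (-(c0 + c1 * (- c1 * (u⁻¹ : Aˣ)) + (- c1 * (u⁻¹ : Aˣ)) * (- c1 * (u⁻¹ : Aˣ)))) (by
        simp only [map_neg, map_add, map_mul] at ha ⊢
        rw [← ha]
        linear_combination k1)
      rw [hzdef, ha, ← hb', ← IsScalarTower.algebraMap_apply, ← IsScalarTower.algebraMap_apply]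
      refine Subalgebra.add_mem _ (Subalgebra.algebraMap_mem _ _) (Subalgebra.mul_mem _ (Subalgebra.algebraMap_mem _ _) ?_)
      exact Algebra.subset_adjoin (Set.mem_singleton y)
  · apply Algebra.adjoin_le
    intro w hw
    rw [Set.mem_singleton_iff] at hw
    subst hw
    refine ⟨Polynomial.X ^ 2 - Polynomial.C d, Polynomial.monic_X_pow_sub_C d (by norm_num), ?_⟩
    simp [pow_two, hy]

/-- Let A be a unique factorisation domain in which 2 is invertible, with fraction field K, and let L ⊇
K be a quadratic extension field (of degree 2 over K) containing an element y ∉ K whose square is a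
squarefree element d of A. Then the integral closure of A in L equals the A-subalgebra A[y]
generated by y. -/
theorem result {A : Type u} {K : Type v} {L : Type w}
    [CommRing A] [IsDomain A] [UniqueFactorizationMonoid A] [Field K] [Algebra A K] [IsFractionRing A K]
    [Field L] [Algebra K L] [Algebra A L] [IsScalarTower A K L]
    (h2 : IsUnit (2 : A)) (hL : Module.finrank K L = 2)
    (d : A) (hd : Squarefree d) (y : L) (hy : y * y = algebraMap A L d)
    (hyK : y ∉ Set.range (algebraMap K L)) :
    integralClosure A L = Algebra.adjoin A {y} := by
  exact quad_main h2 hL d hd y hy hyK (fun b e h => ufd_sq_lemma d hd b e h)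

end Groth.Agent.S18888
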