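import Groth.Statements.S18899
import Mathlib

set_option autoImplicit false
universe u v w
open CAlg

namespace Groth.Agent.S18899


open Polynomial in
/-- Key step: two ring maps into a domain agreeing on invariants agree at each element up to
a group element (depending on the element). -/
theorem exists_smul_apply_eq {R : Type*} [CommRing R] {G : Type*} [Group G] [Fintype G]
    [MulSemiringAction G R] {L : Type*} [CommRing L] [IsDomain L] (F₁ F₂ : R →+* L)
    (h : ∀ a : R, (∀ g : G, g • a = a) → F₁ a = F₂ a) (q : R) :
    ∃ γ : G, F₂ q = F₁ (γ • q) := by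
  classical
  have hmap : (prodXSubSMul G R q).map F₁ = (prodXSubSMul G R q).map F₂ := by
    ext n
    rw [coeff_map, coeff_map]
    exact h _ (fun g => prodXSubSMul.coeff G R q g n)
  have h0 : ((prodXSubSMul G R q).map F₂).eval (F₂ q) = 0 := by
    rw [eval_map_apply, prodXSubSMul.eval, map_zero]
  rw [← hmap] at h0
  unfold prodXSubSMul at h0
  rw [Polynomial.map_prod, eval_prod, Finset.prod_eq_zero_iff] at h0
  obtain ⟨gbar, -, hg⟩ := h0
  obtain ⟨g, rfl⟩ := QuotientGroup.mk_surjective gbar
  refine ⟨g, ?_⟩
  simp only [Polynomial.map_sub, map_X, map_C, eval_sub, eval_X, eval_C,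
    MulAction.ofQuotientStabilizer_mk] at hg
  exact sub_eq_zero.1 hg

/-- Let A be a commutative ring on which a finite group G acts by ring automorphisms, with ring of
invariants A^G, and let K be a field. If two ring homomorphisms f₁, f₂ : A → K have the same
restriction to A^G, then f₂ = f₁ ∘ γ for some γ ∈ G. -/
theorem result {A : Type u} [CommRing A] {G : Type v} [Group G] [Finite G]
    [MulSemiringAction G A] {K : Type w} [Field K] (f₁ f₂ : A →+* K)
    (h : ∀ a : A, (∀ g : G, g • a = a) → f₁ a = f₂ a) :
    ∃ γ : G, ∀ a : A, f₂ a = f₁ (γ • a) := by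
  classical
  cases nonempty_fintype G
  by_contra hcon
  push_neg at hcon
  choose a ha using hcon
  let e : G ≃ Fin (Fintype.card G) := Fintype.equivFin G
  let q : Polynomial A := ∑ δ : G, Polynomial.C (a δ) * Polynomial.X ^ ((e δ : ℕ))
  have hq : ∀ γ : G, q.coeff (e γ : ℕ) = a γ := by
    intro γ
    simp only [q, Polynomial.finset_sum_coeff, Polynomial.coeff_C_mul_X_pow]
    rw [Finset.sum_eq_single γ]
    · simp
    · intro δ _ hδ
      rw [if_neg]
      intro h'
      exact hδ (e.injective (Fin.ext h')).symm
    · intro h'; exact absurd (Finset.mem_univ γ) h'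
  have hinv : ∀ c : Polynomial A, (∀ g : G, g • c = c) →
      Polynomial.mapRingHom f₁ c = Polynomial.mapRingHom f₂ c := by
    intro c hc
    ext n
    simp only [Polynomial.coe_mapRingHom, Polynomial.coeff_map]
    apply h
    intro g
    rw [← Polynomial.coeff_smul, hc]
  obtain ⟨γ, hγ⟩ := exists_smul_apply_eq (G := G) (Polynomial.mapRingHom f₁)
    (Polynomial.mapRingHom f₂) hinv q
  have := congrArg (fun r => Polynomial.coeff r (e γ : ℕ)) hγ
  simp only [Polynomial.coe_mapRingHom, Polynomial.coeff_map, Polynomial.coeff_smul, hq] at this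
  exact ha γ this

end Groth.Agent.S18899
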