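import Groth.Statements.S1890
import Mathlib
-- import your own Groth.Agent.* helpers here

set_option autoImplicit false
universe u
open CategoryTheory CategoryTheory.Limits AlgebraicGeometry
open Grpd

namespace Groth.Agent.S1890

open CategoryTheory CategoryTheory.Limits AlgebraicGeometry
namespace Aux

/-- Lemma A: for a qcqs scheme `X` and a global section `s` whose basic open is affine,
the basic open `D(s)` of `Spec Γ(X)` lies in the range of `X.toSpecΓ`. -/
theorem basicOpen_subset_range (X : Scheme.{u}) [CompactSpace X] [QuasiSeparatedSpace X]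
    (s : Γ(X, ⊤)) (hs : IsAffineOpen (X.basicOpen s)) :
    (PrimeSpectrum.basicOpen s : Set (PrimeSpectrum Γ(X, ⊤))) ⊆ Set.range X.toSpecΓ := by
  intro p hp
  have hloc : IsLocalization.Away s Γ(X, X.basicOpen s) :=
    isLocalization_basicOpen_of_qcqs (U := ⊤) CompactSpace.isCompact_univ isQuasiSeparated_univ s
  have hr := PrimeSpectrum.localization_away_comap_range Γ(X, X.basicOpen s) s
  have hp' : p ∈ Set.range (PrimeSpectrum.comap (algebraMap Γ(X, ⊤) Γ(X, X.basicOpen s))) := by
    rw [hr]; exact hp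
  obtain ⟨q, hq⟩ := hp'
  have hsurj : Function.Surjective (X.basicOpen s).toSpecΓ := by
    have : IsIso (X.basicOpen s).toSpecΓ := by
      rw [← IsAffineOpen.isoSpec_hom hs]; infer_instance
    exact (X.basicOpen s).toSpecΓ.surjective
  obtain ⟨u, hu⟩ := hsurj q
  have key := Scheme.Opens.toSpecΓ_SpecMap_presheaf_map_top (X.basicOpen s)
  refine ⟨(X.basicOpen s).ι u, ?_⟩
  have := congrArg (fun φ => φ u) key
  simp only [Scheme.Hom.comp_apply] at this
  rw [← this, hu, ← hq]
  rfl

/-- The closedness step: for an immersion `j = ι ≫ g` with `ι` an open immersion and `g` separated,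
the range of `ι` is closed in `g⁻¹(O)` where `O` is an open in which `range j` is closed. -/
theorem mem_range_of_mem_closure {V Y Z : Scheme.{u}} (ι : V ⟶ Y) (g : Y ⟶ Z) (j : V ⟶ Z)
    [IsOpenImmersion ι] [IsSeparated g] [IsImmersion j] (hj : ι ≫ g = j)
    (y : Y) (hy : y ∈ closure (Set.range ι)) (hgy : g y ∈ Set.range j) : y ∈ Set.range ι := by
  let O : Z.Opens := j.coborderRange
  let O' : Y.Opens := g ⁻¹ᵁ O
  have hle : Set.range ι ⊆ (O' : Set Y) := by
    rintro _ ⟨v, rfl⟩
    change g (ι v) ∈ (O : Set Z)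
    rw [← Scheme.Hom.comp_apply, hj, ← j.liftCoborder_ι]
    simp only [Scheme.Hom.comp_apply]
    exact (j.liftCoborder v).2
  let ℓ : V ⟶ O'.toScheme := IsOpenImmersion.lift O'.ι ι (by simpa using hle)
  have hℓ : ℓ ≫ O'.ι = ι := IsOpenImmersion.lift_fac _ _ _
  have hcomp : ℓ ≫ (g ∣_ O) = j.liftCoborder := by
    rw [← cancel_mono O.ι, Category.assoc, morphismRestrict_ι, ← Category.assoc, hℓ, hj,
      j.liftCoborder_ι]
  have : IsClosedImmersion (ℓ ≫ (g ∣_ O)) := by rw [hcomp]; infer_instance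
  have hcl : IsClosedImmersion ℓ := IsClosedImmersion.of_comp ℓ (g ∣_ O)
  have hclosed : IsClosed (Set.range ℓ) := ℓ.isClosedEmbedding.isClosed_range
  obtain ⟨C, hC, hCpre⟩ := O'.ι.isOpenEmbedding.isInducing.isClosed_iff.1 hclosed
  have hyO : y ∈ (O' : Set Y) := by
    obtain ⟨v, hv⟩ := hgy
    change g y ∈ (O : Set Z)
    rw [← hv, ← j.liftCoborder_ι]
    simp only [Scheme.Hom.comp_apply]
    exact (j.liftCoborder v).2
  have hWC : Set.range ι ⊆ C := by
    rintro _ ⟨v, rfl⟩
    have : ℓ v ∈ O'.ι ⁻¹' C := by rw [hCpre]; exact ⟨v, rfl⟩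
    have h2 : O'.ι (ℓ v) = ι v := by rw [← Scheme.Hom.comp_apply, hℓ]
    rw [← h2]; exact this
  have hyC : y ∈ C := (closure_minimal hWC hC) hy
  have : (⟨y, hyO⟩ : O'.toScheme) ∈ O'.ι ⁻¹' C := hyC
  rw [hCpre] at this
  obtain ⟨v, hv⟩ := this
  refine ⟨v, ?_⟩
  rw [← hℓ, Scheme.Hom.comp_apply, hv]
  rfl

theorem main (A : Type u) [CommRing A] (V : Scheme.{u}) (j : V ⟶ Spec (CommRingCat.of A))
    [IsImmersion j] [QuasiCompact j] (f : A)
    (haff : IsAffineOpen (j ⁻¹ᵁ PrimeSpectrum.basicOpen f))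
    (hcl : IsClosed (Set.range ⇑j ∩ PrimeSpectrum.zeroLocus {f})) : IsAffine V := by
  have hcpt : CompactSpace V := QuasiCompact.compactSpace_of_compactSpace j
  have hqa : V.IsQuasiAffine := Scheme.IsQuasiAffine.of_isImmersion j
  -- the open immersion into Spec Γ(V)
  let ι : V ⟶ Spec Γ(V, ⊤) := V.toSpecΓ
  let g : Spec Γ(V, ⊤) ⟶ Spec (CommRingCat.of A) :=
    Spec.map j.appTop ≫ (Spec (CommRingCat.of A)).isoSpec.inv
  have hj : ι ≫ g = j := by
    dsimp only [ι, g]
    rw [← Category.assoc, ← Scheme.toSpecΓ_naturality, Category.assoc]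
    erw [Scheme.toSpecΓ_isoSpec_inv]
    simp
  -- the image of f
  let s : Γ(V, ⊤) := j.appTop ((Scheme.ΓSpecIso (CommRingCat.of A)).inv f)
  have hs : V.basicOpen s = j ⁻¹ᵁ PrimeSpectrum.basicOpen f := by
    dsimp only [s]
    rw [← Scheme.preimage_basicOpen_top]
    congr 1
    rw [basicOpen_eq_of_affine']
    simp
    try rfl
  have hqs : QuasiSeparatedSpace V := inferInstance
  -- D(s) ⊆ range ι
  have hDs : (PrimeSpectrum.basicOpen s : Set (PrimeSpectrum Γ(V, ⊤))) ⊆ Set.range ι :=
    basicOpen_subset_range V s (hs ▸ haff)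
  -- preimages of basic opens
  have hpre : ∀ h : Γ(V, ⊤), ι ⁻¹ᵁ PrimeSpectrum.basicOpen h = V.basicOpen h :=
    fun h => Scheme.toSpecΓ_preimage_basicOpen V h
  -- surjectivity of ι
  have hsurj : Function.Surjective ι := by
    by_contra hns
    rw [Function.Surjective] at hns
    push Not at hns
    obtain ⟨y, hy⟩ := hns
    have hyr : y ∉ Set.range ι := fun ⟨v, hv⟩ => hy v hv
    -- the closed set Z'
    let Z' : Set (Spec Γ(V, ⊤)) := Set.range ι ∩ ((PrimeSpectrum.basicOpen s : TopologicalSpace.Opens (PrimeSpectrum Γ(V, ⊤))) : Set (PrimeSpectrum Γ(V, ⊤)))ᶜ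
    have hyZ : y ∉ closure Z' := by
      intro hyc
      have h1 : g y ∈ closure (g '' Z') :=
        image_closure_subset_closure_image g.continuous ⟨y, hyc, rfl⟩
      have h2 : g '' Z' ⊆ Set.range ⇑j ∩ PrimeSpectrum.zeroLocus {f} := by
        rintro _ ⟨z, ⟨⟨v, rfl⟩, hz⟩, rfl⟩
        have e : g (ι v) = j v := by rw [← Scheme.Hom.comp_apply, hj]
        refine ⟨⟨v, e.symm⟩, ?_⟩
        rw [e]
        have hv : v ∉ V.basicOpen s := by
          rw [← hpre s]; exact hz
        rw [hs] at hv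
        have : j v ∉ PrimeSpectrum.basicOpen f := hv
        refine (PrimeSpectrum.mem_zeroLocus (j v : PrimeSpectrum A) {f}).2 ?_
        rw [Set.singleton_subset_iff]
        by_contra hc
        exact this hc
      have h3 : g y ∈ Set.range ⇑j ∩ PrimeSpectrum.zeroLocus {f} :=
        (closure_minimal h2 hcl) h1
      have hsep : IsSeparated g := inferInstance
      exact hyr (mem_range_of_mem_closure ι g j hj y
        (closure_mono Set.inter_subset_left hyc) h3.1)
    -- a basic open around y missing Z'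
    obtain ⟨_, ⟨h, rfl⟩, hyh, hhZ⟩ :=
      PrimeSpectrum.isTopologicalBasis_basic_opens.exists_subset_of_mem_open
        (show y ∈ (closure Z')ᶜ from hyZ) isClosed_closure.isOpen_compl
    -- V.basicOpen h ≤ V.basicOpen s
    have hle : V.basicOpen h ≤ V.basicOpen s := by
      intro v hv
      rw [← hpre h] at hv
      have hv' : ι v ∈ ((PrimeSpectrum.basicOpen h : TopologicalSpace.Opens (PrimeSpectrum Γ(V, ⊤))) : Set (PrimeSpectrum Γ(V, ⊤))) := hv
      have h4 : ι v ∉ closure Z' := hhZ hv'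
      have h5 : ι v ∉ Z' := fun hc => h4 (subset_closure hc)
      rw [← hpre s]
      by_contra hc
      exact h5 ⟨⟨v, rfl⟩, hc⟩
    -- so V.basicOpen h is affine
    have haffs : IsAffineOpen (V.basicOpen s) := hs ▸ haff
    have haffh : IsAffineOpen (V.basicOpen h) := by
      have := haffs.basicOpen (V.presheaf.map (homOfLE le_top).op h)
      rw [Scheme.basicOpen_res] at this
      rwa [inf_eq_right.2 hle] at this
    exact hyr (basicOpen_subset_range V h haffh hyh)
  have hiso : IsIso ι :=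
    isIso_of_isOpenImmersion_of_opensRange_eq_top ι
      (TopologicalSpace.Opens.ext (by simpa using Set.range_eq_univ.2 hsurj))
  exact IsAffine.of_isIso ι

end Aux

/-- Take a quasi-compact immersion j : V → Spec A and an element f ∈ A such that j⁻¹(D(f)) is affine and
j(V) ∩ V(f) is closed in Spec A. Then V is affine. -/
theorem result (A : Type u) [CommRing A] (V : Scheme.{u}) (j : V ⟶ Spec (CommRingCat.of A)) [IsImmersion j] [QuasiCompact j] (f : A) (haff : IsAffineOpen (j ⁻¹ᵁ PrimeSpectrum.basicOpen f)) (hcl : IsClosed (Set.range ⇑j ∩ PrimeSpectrum.zeroLocus {f})) : IsAffine V := by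
  exact Aux.main A V j f haff hcl

end Groth.Agent.S1890
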