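import Groth.Statements.S18912
import Groth.Agent.Lib.Helper2.TorFree.RootUnity


set_option autoImplicit false
universe u
open CategoryTheory CategoryTheory.Limits AlgebraicGeometry
open TFNodal

namespace Groth.Agent.S18912

/-- the germ at `η` of the image of a section under a map to the structure sheaf -/
noncomputable def germAt {X : Scheme.{u}} {F : X.Modules} (η : X) (σ : F ⟶ Coh.structureModule X)
    (U : X.Opens) (hU : η ∈ U) (a : Γ(F, U)) : X.presheaf.stalk η :=
  X.presheaf.germ U η hU (σ.app U a : Γ(X, U))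

/-- Let k be an algebraically closed field of characteristic zero, X a reduced scheme locally of finite
type over k, F an O_X-module, d ≥ 1 an integer and τ, τ' : F → O_X two O_X-linear maps whose d-th
symmetric powers agree, in the sense that for every open U and all sections a_1, …, a_d of F over U
the products τ(a_1)⋯τ(a_d) and τ'(a_1)⋯τ'(a_d) coincide in Γ(U, O_X). Then for every point η of X
whose local ring is a field (a generic point of an irreducible component) there is a d-th root of
unity ξ in k such that, for every section a of F over an open containing η, the germ of τ'(a) at η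
is ξ times the germ of τ(a). The published statement is for a coherent module on a projective nodal
curve and concludes that τ' = ξ τ with one root of unity ξ on each connected component; that form
fails for the union of two lines meeting at a node, F the ideal of the node, τ the inclusion and τ'
equal to τ on one line and to −τ on the other (d = 2), so the conclusion is stated here at each
generic point, i.e. per irreducible component, which is what the stalkwise argument yields. -/
theorem result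
    (k : Type u) [Field k] [IsAlgClosed k] [CharZero k]
    (X : Scheme.{u}) [X.Over (Spec (CommRingCat.of k))]
    [LocallyOfFiniteType (X ↘ Spec (CommRingCat.of k))] [AlgebraicGeometry.IsReduced X]
    (F : X.Modules) (τ τ' : F ⟶ Coh.structureModule X) (d : ℕ) (hd : 1 ≤ d)
    (hS : ∀ (U : X.Opens) (a : Fin d → Γ(F, U)),
      (∏ i, (τ.app U (a i) : Γ(X, U)) : Γ(X, U)) = (∏ i, (τ'.app U (a i) : Γ(X, U)) : Γ(X, U)))
    (η : X) (hη : IsField (X.presheaf.stalk η)) :
    ∃ ξ : k, ξ ^ d = 1 ∧ ∀ (U : X.Opens) (hU : η ∈ U) (a : Γ(F, U)),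
      (X.presheaf.germ U η hU (τ'.app U a : Γ(X, U)) : X.presheaf.stalk η) =
        Curv2.stalkMap k X η ξ * X.presheaf.germ U η hU (τ.app U a : Γ(X, U)) := by
  obtain ⟨d', rfl⟩ : ∃ d', d = d' + 1 := ⟨d - 1, by omega⟩
  haveI : IsDomain (X.presheaf.stalk η) := hη.isDomain
  have hnat : ∀ (σ : F ⟶ Coh.structureModule X) (U V : X.Opens) (i : V ≤ U) (hηV : η ∈ V)
      (a : Γ(F, U)),
      X.presheaf.germ V η hηV (σ.app V (F.presheaf.map (homOfLE i).op a) : Γ(X, V)) =
        X.presheaf.germ U η (i hηV) (σ.app U a : Γ(X, U)) := by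
    intro σ U V i hηV a
    have h1 : σ.app V (F.presheaf.map (homOfLE i).op a) =
        (Coh.structureModule X).presheaf.map (homOfLE i).op (σ.app U a) := by
      have := congrArg (fun f => f.hom a) (σ.mapPresheaf.naturality (homOfLE i).op)
      exact this
    rw [h1]
    exact TopCat.Presheaf.germ_res_apply X.presheaf (homOfLE i) η hηV (σ.app U a : Γ(X, U))
  obtain ⟨l, hl⟩ : ∃ l : (Σ U : {U : X.Opens // η ∈ U}, Γ(F, U.1)) → X.presheaf.stalk η,
      l = fun p => germAt η τ p.1.1 p.1.2 p.2 := ⟨_, rfl⟩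
  obtain ⟨l', hl'⟩ : ∃ l' : (Σ U : {U : X.Opens // η ∈ U}, Γ(F, U.1)) → X.presheaf.stalk η,
      l' = fun p => germAt η τ' p.1.1 p.1.2 p.2 := ⟨_, rfl⟩
  have H : ∀ p p₀, l p * l p₀ ^ d' = l' p * l' p₀ ^ d' := by
    rintro ⟨⟨U, hU⟩, a⟩ ⟨⟨U₀, hU₀⟩, a₀⟩
    have hV : η ∈ U ⊓ U₀ := ⟨hU, hU₀⟩
    obtain ⟨b, hb⟩ : ∃ b : Γ(F, U ⊓ U₀), b = F.presheaf.map (homOfLE inf_le_left).op a := ⟨_, rfl⟩
    obtain ⟨b₀, hb₀⟩ : ∃ b₀ : Γ(F, U ⊓ U₀), b₀ = F.presheaf.map (homOfLE inf_le_right).op a₀ :=
      ⟨_, rfl⟩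
    have h1 := hS (U ⊓ U₀) (Fin.cons b (fun _ => b₀))
    rw [Fin.prod_univ_succ, Fin.prod_univ_succ] at h1
    simp only [Fin.cons_zero, Fin.cons_succ, Finset.prod_const, Finset.card_univ,
      Fintype.card_fin] at h1
    have h2 := congrArg (X.presheaf.germ (U ⊓ U₀) η hV) h1
    rw [map_mul, map_mul, map_pow, map_pow] at h2
    rw [hb, hb₀, hnat τ U (U ⊓ U₀) inf_le_left hV a, hnat τ U₀ (U ⊓ U₀) inf_le_right hV a₀,
      hnat τ' U (U ⊓ U₀) inf_le_left hV a, hnat τ' U₀ (U ⊓ U₀) inf_le_right hV a₀] at h2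
    rw [hl, hl']
    exact h2
  obtain ⟨c, hc, hcl⟩ := Groth.Agent.Helper2.RootUnity.exists_eq_mul
    (fun x hx => hη.mul_inv_cancel hx) l l' d' H
  obtain ⟨ξ, hξ1, hξ2⟩ := Groth.Agent.Helper2.RootUnity.exists_rootOfUnity k _
    (Curv2.stalkMap k X η) c (d' + 1) (by omega) hc
  refine ⟨ξ, hξ1, fun U hU a => ?_⟩
  rw [hξ2]
  have := hcl ⟨⟨U, hU⟩, a⟩
  rw [hl, hl'] at this
  exact this

end Groth.Agent.S18912
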