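import Groth.Statements.S18916
import Groth.Agent.Lib.Helper2.TorFree.Ass
import Groth.Agent.Lib.Helper1.Euler3
import Groth.Agent.Lib.Helper1.InvInv2
import Groth.Agent.Lib.Helper5.Stalk.FlatFree
import Groth.Agent.Lib.Lead.RH1


set_option autoImplicit false
universe u
open CategoryTheory CategoryTheory.Limits AlgebraicGeometry
open TFNodal

namespace Groth.Agent.S18916

/-- Let k be an algebraically closed field of characteristic zero, X a reduced proper curve over k (a
proper k-scheme of dimension one) without isolated points (no closed point is open, i.e. X is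
one-dimensional at every point) and F a coherent O_X-module. Then the dual 𝓗om(F, O_X) is torsion
free: no closed point of X is an associated point of it. -/
theorem result
    (k : Type u) [Field k] [IsAlgClosed k] [CharZero k]
    (X : Scheme.{u}) [X.Over (Spec (CommRingCat.of k))] [IsProper (X ↘ Spec (CommRingCat.of k))]
    [AlgebraicGeometry.IsReduced X] (hdim : topologicalKrullDim X = 1)
    (hpure : ∀ x : X, IsClosed ({x} : Set X) → ¬ IsOpen ({x} : Set X))
    (F : X.Modules) (hF : Coh.IsCoh F) (x : X) (hx : IsClosed ({x} : Set X)) :
    ¬ Curv2.IsAssPoint (RefHull.dual F) x := by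
  haveI : IsNoetherian X := Groth.Agent.Helper1.Euler.isNoetherian_of_proper k X
  have hO : TorSh.IsTorsionFree (Coh.structureModule X) := fun y => by
    haveI : Module.Flat (X.presheaf.stalk y) ((Coh.structureModule X).presheaf.stalk y) :=
      Groth.Agent.Lib.Helper5.StalkAdj.flatMod_of_isFinLocFree _
        (Groth.Agent.Helper1.InvInv2.isFinLocFree_of_isInvertible
          (show PicF.IsInvertible (Coh.structureModule X) from
            fun _ => ⟨⊤, trivial, ⟨Scheme.Modules.restrictUnitIso _⟩⟩)) y
    infer_instance
  have htf : TorSh.IsTorsionFree (RefHull.dual F) :=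
    Groth.Agent.Lead.RH.isTorsionFree_homSh hF.1 hF.2 hO
  exact Groth.Agent.Helper2.TFAss.not_isAssPoint _ htf x hx (hpure x hx)

end Groth.Agent.S18916
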