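import Groth.Statements.S18918
import Mathlib
import Groth.Statements.S18918
import Groth.Agent.Lib.Lead.FLF6
import Groth.Agent.Lib.Lead.GeomCount6
import Groth.Agent.Lib.Helper9.FE.FieldGal
import Groth.Agent.Lib.Helper9.FE.FEtDegAlg
-- import your own Groth.Agent.* helpers here

set_option autoImplicit false
universe u
open CategoryTheory CategoryTheory.Limits AlgebraicGeometry
open FEt

namespace Groth.Agent.S18918

open CategoryTheory CategoryTheory.Limits AlgebraicGeometry TopologicalSpace Opposite MorphismProperty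
namespace Aux
set_option linter.style.haveILetI false
set_option linter.unusedSectionVars false
set_option backward.isDefEq.respectTransparency false
open H9FE H9SF

theorem finrank_eq_of_rank {X Y : Scheme.{u}} (f : X ⟶ Y) [IsFinite f] [Flat f] (n : ℕ)
    (hdeg : FlatMod.IsFinLocFreeOfRank n
      ((Scheme.Modules.pushforward f).obj (Coh.structureModule X)))
    (y : Y) : f.finrank y = n := by
  obtain ⟨_, ⟨V, hV, rfl⟩, hyV, -⟩ :=
    Y.isBasis_affineOpens.exists_subset_of_mem_open (Set.mem_univ y) isOpen_univ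
  have hU : IsAffineOpen (f ⁻¹ᵁ V) := hV.preimage f
  haveI : IsOpenImmersion hV.fromSpec := hV.isOpenImmersion_fromSpec
  haveI : IsOpenImmersion hU.fromSpec := hU.isOpenImmersion_fromSpec
  have hsq : IsPullback (Spec.map (f.app V)) hU.fromSpec hV.fromSpec f := by
    apply IsOpenImmersion.isPullback
    · have := IsAffineOpen.SpecMap_appLE_fromSpec f hV hU le_rfl
      rw [Scheme.Hom.appLE_eq_app] at this
      exact this.symm
    · rw [hV.opensRange_fromSpec, hU.opensRange_fromSpec]
  obtain ⟨p, hp⟩ : ∃ p, hV.fromSpec p = y := by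
    have : y ∈ Set.range hV.fromSpec := by rw [hV.range_fromSpec]; exact hyV
    exact this
  haveI : IsFinite (Spec.map (f.app V)) :=
    MorphismProperty.of_isPullback (P := @IsFinite) hsq.flip inferInstance
  haveI : Flat (Spec.map (f.app V)) :=
    MorphismProperty.of_isPullback (P := @Flat) hsq.flip inferInstance
  have hfin : (f.app V).hom.Finite := (IsFinite.SpecMap_iff _).mp inferInstance
  have hflat : (f.app V).hom.Flat := Flat.SpecMap_iff.mp inferInstance
  rw [← hp, ← Scheme.Hom.finrank_of_isPullback _ _ _ _ hsq.flip p,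
    Scheme.Hom.finrank_SpecMap_eq_finrank hfin hflat]
  have hrk := ((Groth.Agent.Lead.FLF.isFinLocFreeOfRank_iff _ n).1 hdeg).2 V hV p
  unfold RingHom.finrank
  letI : Algebra Γ(Y, V) Γ(X, f ⁻¹ᵁ V) := (f.app V).hom.toAlgebra
  let e : Γ((Scheme.Modules.pushforward f).obj (Coh.structureModule X), V) ≃ₗ[Γ(Y, V)]
      Γ(X, f ⁻¹ᵁ V) :=
    { toFun := fun s => s
      map_add' := fun _ _ => rfl
      map_smul' := fun _ _ => rfl
      invFun := fun s => s
      left_inv := fun _ => rfl
      right_inv := fun _ => rfl }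
  rw [← Module.rankAtStalk_eq_of_equiv e]
  exact hrk

section Main
variable {X Y X' : Scheme.{u}} (f : X ⟶ Y) [IsFinite f] [Etale f] (φ : X' ⟶ Y)

theorem fetProp_snd : FEt.prop (pullback.snd f φ) :=
  FEt.prop.pullback_snd _ _ ⟨inferInstance, inferInstance⟩

noncomputable abbrev one (S : Scheme.{u}) : FEt.Cat S :=
  MorphismProperty.Over.mk ⊤ (𝟙 S) ⟨inferInstance, inferInstance⟩

noncomputable abbrev XO : FEt.Cat X' :=
  MorphismProperty.Over.mk ⊤ (pullback.snd f φ) (fetProp_snd f φ)

noncomputable def secLeft (h : one X' ⟶ XO f φ) : X' ⟶ pullback f φ := h.left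

theorem secLeft_snd (h : one X' ⟶ XO f φ) : secLeft f φ h ≫ pullback.snd f φ = 𝟙 X' :=
  MorphismProperty.Over.w h

theorem sec_ext {h h' : one X' ⟶ XO f φ} (e : secLeft f φ h = secLeft f φ h') : h = h' :=
  MorphismProperty.Over.Hom.ext e

noncomputable def toSec (g : Over.mk φ ⟶ Over.mk f) : one X' ⟶ XO f φ :=
  MorphismProperty.Over.homMk (pullback.lift g.left (𝟙 X')
    ((Over.w g).trans (Category.id_comp φ).symm)) (pullback.lift_snd _ _ _) trivial

theorem secLeft_toSec (g : Over.mk φ ⟶ Over.mk f) :
    secLeft f φ (toSec f φ g) = pullback.lift g.left (𝟙 X')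
      ((Over.w g).trans (Category.id_comp φ).symm) := rfl

noncomputable def ofSec (h : one X' ⟶ XO f φ) : Over.mk φ ⟶ Over.mk f :=
  Over.homMk (secLeft f φ h ≫ pullback.fst f φ) (by
    show (secLeft f φ h ≫ pullback.fst f φ) ≫ f = φ
    rw [Category.assoc, pullback.condition, ← Category.assoc, secLeft_snd, Category.id_comp])

theorem ofSec_left (h : one X' ⟶ XO f φ) :
    (ofSec f φ h).left = secLeft f φ h ≫ pullback.fst f φ := Over.homMk_left _ _

noncomputable def homEquiv : (Over.mk φ ⟶ Over.mk f) ≃ (one X' ⟶ XO f φ) where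
  toFun := toSec f φ
  invFun := ofSec f φ
  left_inv g := by
    apply Over.OverMorphism.ext
    exact (ofSec_left f φ _).trans ((congrArg (· ≫ pullback.fst f φ)
      (secLeft_toSec f φ g)).trans (pullback.lift_fst _ _ _))
  right_inv h := by
    apply sec_ext
    rw [secLeft_toSec]
    apply pullback.hom_ext
    · exact (pullback.lift_fst _ _ _).trans (ofSec_left f φ h)
    · exact (pullback.lift_snd _ _ _).trans (secLeft_snd f φ h).symm

end Main

section Count
variable {X Y X' : Scheme.{u}} (f : X ⟶ Y) [IsFinite f] [Etale f] (φ : X' ⟶ Y)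
  (n : ℕ) (hdeg : FlatMod.IsFinLocFreeOfRank n
      ((Scheme.Modules.pushforward f).obj (Coh.structureModule X)))

include hdeg in
theorem card_fibre {Ω : Type u} [Field Ω] [IsAlgClosed Ω] (ξ : Spec (CommRingCat.of Ω) ⟶ X') :
    Nat.card (FEt.fiberObj ξ (XO f φ)) = n := by
  haveI : IsFinite (pullback.snd f φ) := (fetProp_snd f φ).1
  haveI : Etale (pullback.snd f φ) := (fetProp_snd f φ).2
  have h1 : Nat.card {t : Spec (CommRingCat.of Ω) ⟶ pullback f φ // t ≫ pullback.snd f φ = ξ} =
      Nat.card ↥(pullback (pullback.snd f φ) ξ) :=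
    FEtDegAlg.card_lifts_eq (pullback.snd f φ) ξ
  have h2 : ENat.card ↥(pullback (pullback.snd f φ) ξ) = (n : ℕ∞) := by
    rw [Groth.Agent.Lead.GeomCount.card_pullback_eq_finrank (pullback.snd f φ) Ω ξ default,
      Scheme.Hom.finrank_pullback_snd, finrank_eq_of_rank f n hdeg]
  have h3 : Nat.card ↥(pullback (pullback.snd f φ) ξ) = n := by
    haveI : Finite ↥(pullback (pullback.snd f φ) ξ) := by
      by_contra hinf
      rw [not_finite_iff_infinite] at hinf
      rw [ENat.card_eq_top_of_infinite] at h2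
      exact ENat.top_ne_coe n h2
    rw [ENat.card_eq_coe_natCard] at h2
    exact_mod_cast h2
  exact h1.trans h3

include hdeg in
theorem main [Nonempty X'] [ConnectedSpace X'] :
    Finite (Over.mk φ ⟶ Over.mk f) ∧ Nat.card (Over.mk φ ⟶ Over.mk f) ≤ n ∧
      (Nat.card (Over.mk φ ⟶ Over.mk f) = n ↔
        ∃ e : pullback f φ ≅ ∐ fun _ : Fin n => X',
          e.hom ≫ Sigma.desc (fun _ : Fin n => 𝟙 X') = pullback.snd f φ) := by
  have hπ : FEt.prop (pullback.snd f φ) := fetProp_snd f φ
  haveI : ConnectedSpace (one X').left := (inferInstance : ConnectedSpace X')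
  haveI : PreGaloisCategory.IsConnected (one X') := isConnected_of_connectedSpace (one X')
  obtain ⟨x0⟩ := (inferInstance : Nonempty X')
  obtain ⟨Ω, _, _, ξ, hξ⟩ := exists_geomPt X' x0
  haveI : GaloisCategory (FEt.Cat X') := ⟨⟨fiberFin ξ, ⟨fiberFunctor_fiberFin ξ⟩⟩⟩
  let a : (fiberFin ξ).obj (one X') := (⟨ξ, Category.comp_id ξ⟩ : FEt.fiberObj ξ (one X'))
  have hinj : Function.Injective (fun h : one X' ⟶ XO f φ => (fiberFin ξ).map h a) :=
    PreGaloisCategory.evaluation_injective_of_isConnected (fiberFin ξ) (one X') (XO f φ) a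
  haveI hfinS : Finite (one X' ⟶ XO f φ) := Finite.of_injective _ hinj
  have hcardF : Nat.card ((fiberFin ξ).obj (XO f φ)) = n := card_fibre f φ n hdeg ξ
  have hle : Nat.card (one X' ⟶ XO f φ) ≤ n := by
    rw [← hcardF]; exact Nat.card_le_card_of_injective _ hinj
  have hcard : Nat.card (Over.mk φ ⟶ Over.mk f) = Nat.card (one X' ⟶ XO f φ) :=
    Nat.card_congr (homEquiv f φ)
  refine ⟨Finite.of_equiv _ (homEquiv f φ).symm, hcard ▸ hle, ?_⟩
  rw [hcard]
  constructor
  · intro hn
    have hbij : Function.Bijective (fun h : one X' ⟶ XO f φ => (fiberFin ξ).map h a) :=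
      hinj.bijective_of_nat_card_le (by rw [hn, hcardF])
    let idx : Fin n ≃ (one X' ⟶ XO f φ) := (Finite.equivFinOfCardEq hn).symm
    let s : Fin n → (X' ⟶ pullback f φ) := fun i => secLeft f φ (idx i)
    have hs : ∀ i, s i ≫ pullback.snd f φ = 𝟙 X' := fun i => secLeft_snd f φ (idx i)
    haveI : ∀ i, IsOpenImmersion (s i) := fun i =>
      isOpenImmersion_of_section (pullback.snd f φ) hπ (s i) (hs i)
    have hcov : ⨆ i, (s i).opensRange = ⊤ := by
      rw [eq_top_iff]
      intro z _
      obtain ⟨Ω', _, _, ζ, hζ⟩ := exists_geomPt (pullback f φ) z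
      obtain ⟨h, hh⟩ := exists_hom_of_geomPt (A := one X') (XO := XO f φ) ξ a hbij
        (ζ ≫ pullback.snd f φ) ζ (Category.comp_id _).symm
      simp only [TopologicalSpace.Opens.iSup_mk, TopologicalSpace.Opens.carrier_eq_coe,
        Scheme.Hom.coe_opensRange, TopologicalSpace.Opens.mem_mk, Set.mem_iUnion]
      refine ⟨idx.symm h, (ζ ≫ pullback.snd f φ) (default : PrimeSpectrum Ω'), ?_⟩
      rw [← hζ]
      show (secLeft f φ (idx (idx.symm h))) _ = _
      rw [Equiv.apply_symm_apply]
      exact congrArg (fun k : Spec (CommRingCat.of Ω') ⟶ pullback f φ =>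
        k (default : PrimeSpectrum Ω')) hh
    have hdisj : Pairwise (Function.onFun Disjoint (fun i => (s i).opensRange)) := by
      intro i j hij
      show Disjoint (s i).opensRange (s j).opensRange
      rw [disjoint_iff]
      ext z
      simp only [TopologicalSpace.Opens.coe_inf, Scheme.Hom.coe_opensRange, Set.mem_inter_iff,
        TopologicalSpace.Opens.coe_bot, Set.mem_empty_iff_false, iff_false]
      rintro ⟨hzi, hzj⟩
      obtain ⟨Ω', _, _, ζ, hζ⟩ := exists_geomPt (pullback f φ) z
      obtain ⟨t, ht⟩ := exists_lift_of_mem_range (s i) ζ _ (by rw [hζ]; exact hzi)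
      obtain ⟨t', ht'⟩ := exists_lift_of_mem_range (s j) ζ _ (by rw [hζ]; exact hzj)
      have e1 : t = ζ ≫ pullback.snd f φ := by
        rw [← ht, Category.assoc, hs]; exact (Category.comp_id _).symm
      have e2 : t' = ζ ≫ pullback.snd f φ := by
        rw [← ht', Category.assoc, hs]; exact (Category.comp_id _).symm
      have e3 : t ≫ (idx i).left = t ≫ (idx j).left := by
        show t ≫ s i = t ≫ s j
        rw [ht, e1, ← e2, ht']
      exact hij (idx.injective (hom_ext_of_geomPt t (idx i) (idx j) e3))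
    obtain ⟨hc⟩ := nonempty_isColimit_cofanMk_of s hcov hdisj
    let e' : (∐ fun _ : Fin n => X') ≅ pullback f φ :=
      (colimit.isColimit _).coconePointUniqueUpToIso hc
    have he' : ∀ i, Sigma.ι (fun _ : Fin n => X') i ≫ e'.hom = s i := fun i =>
      (colimit.isColimit _).comp_coconePointUniqueUpToIso_hom hc ⟨i⟩
    refine ⟨e'.symm, ?_⟩
    show e'.inv ≫ Sigma.desc (fun _ : Fin n => 𝟙 X') = pullback.snd f φ
    rw [Iso.inv_comp_eq]
    apply Sigma.hom_ext
    intro i
    rw [Sigma.ι_desc, ← Category.assoc, he', hs]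
  · rintro ⟨e, he⟩
    have hdesc : e.inv ≫ pullback.snd f φ = Sigma.desc (fun _ : Fin n => 𝟙 X') := by
      rw [← he, Iso.inv_hom_id_assoc]
    let s : Fin n → (X' ⟶ pullback f φ) := fun i => Sigma.ι (fun _ : Fin n => X') i ≫ e.inv
    have hs : ∀ i, s i ≫ pullback.snd f φ = 𝟙 X' := fun i => by
      show (Sigma.ι (fun _ : Fin n => X') i ≫ e.inv) ≫ pullback.snd f φ = 𝟙 X'
      rw [Category.assoc, hdesc, Sigma.ι_desc]
    let hsec : Fin n → (one X' ⟶ XO f φ) := fun i =>
      MorphismProperty.Over.homMk (s i) (hs i) trivial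
    have hinj' : Function.Injective hsec := by
      intro i j hij
      have h1 : s i = s j := congrArg (fun h => secLeft f φ h) hij
      have h2 : Sigma.ι (fun _ : Fin n => X') i = Sigma.ι (fun _ : Fin n => X') j := by
        have := congrArg (· ≫ e.hom) h1
        simpa [s] using this
      have h3 : (Sigma.ι (fun _ : Fin n => X') i) x0 = (Sigma.ι (fun _ : Fin n => X') j) x0 := by
        rw [h2]
      have h4 := (sigmaι_eq_iff (fun _ : Fin n => X') i j x0 x0).mp h3
      exact congrArg Sigma.fst h4
    have hge : n ≤ Nat.card (one X' ⟶ XO f φ) := by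
      have := Nat.card_le_card_of_injective hsec hinj'
      simpa using this
    exact le_antisymm hle hge

end Count

end Aux

/-- Let f : X → Y be a finite étale morphism of degree n (f_*O_X locally free of rank n) and φ : X' → Y
a morphism from a nonempty connected scheme X'. Then the Y-morphisms X' → X (equivalently, the
sections of X ×_Y X' → X') form a finite set with at most n elements, and there are exactly n of
them if and only if the covering X ×_Y X' → X' is trivial, i.e. X ×_Y X' is isomorphic over X' to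
the disjoint union of n copies of X'. The source works with separated Noetherian schemes over an
algebraically closed field of characteristic zero; that setting is not needed for the statement. -/
theorem result
    {X Y X' : Scheme.{u}} (f : X ⟶ Y) [IsFinite f] [Etale f] (n : ℕ)
    (hdeg : FlatMod.IsFinLocFreeOfRank n ((Scheme.Modules.pushforward f).obj (Coh.structureModule X)))
    (φ : X' ⟶ Y) [Nonempty X'] [ConnectedSpace X'] :
    Finite (Over.mk φ ⟶ Over.mk f) ∧ Nat.card (Over.mk φ ⟶ Over.mk f) ≤ n ∧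
      (Nat.card (Over.mk φ ⟶ Over.mk f) = n ↔
        ∃ e : pullback f φ ≅ ∐ fun _ : Fin n => X',
          e.hom ≫ Sigma.desc (fun _ : Fin n => 𝟙 X') = pullback.snd f φ) := by
  exact Aux.main f φ n hdeg

end Groth.Agent.S18918
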