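import Groth.Statements.S18920
import Mathlib

set_option autoImplicit false
universe u
open CAlg

namespace Groth.Agent.S18920

/-- Let M be a commutative monoid, s ≥ 1, and ξ_1, …, ξ_s elements of M with ξ_i ^ (s!/i) = 1 for 1 ≤ i
≤ s (an (s!/i)-th root of unity for each i). Suppose that for every finitely supported function d on
{1, …, s} with Σ_i i · d_i = s! the product ∏_i ξ_i ^ d_i equals 1. Then ξ_1 ^ j = ξ_j for every 1 ≤
j ≤ s. (The source works with roots of unity in the complex numbers.) -/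
theorem result
    {M : Type u} [CommMonoid M] (s : ℕ) (hs : 1 ≤ s) (ξ : ℕ → M)
    (hξ : ∀ i : ℕ, 1 ≤ i → i ≤ s → ξ i ^ (s.factorial / i) = 1)
    (hprod : ∀ d : ℕ →₀ ℕ, (∀ i ∈ d.support, 1 ≤ i ∧ i ≤ s) →
      (d.sum fun i n => i * n) = s.factorial → (d.prod fun i n => ξ i ^ n) = 1)
    (j : ℕ) (hj : 1 ≤ j) (hjs : j ≤ s) :
    ξ 1 ^ j = ξ j := by
  classical
  by_cases hj1 : j = 1
  · subst hj1; rw [pow_one]
  have hjpos : 0 < j := hj
  have hdvd : j ∣ s.factorial := Nat.dvd_factorial hjpos hjs
  have hq : 1 ≤ s.factorial / j :=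
    Nat.div_pos (Nat.le_of_dvd (Nat.factorial_pos s) hdvd) hjpos
  set q := s.factorial / j with hqdef
  have hjq : j * q = s.factorial := Nat.mul_div_cancel' hdvd
  let d : ℕ →₀ ℕ := Finsupp.single j (q - 1) + Finsupp.single 1 j
  have hsupp : ∀ i ∈ d.support, 1 ≤ i ∧ i ≤ s := by
    intro i hi
    have h1 := Finsupp.support_add hi
    rw [Finset.mem_union] at h1
    rcases h1 with h1 | h1
    · have := Finsupp.support_single_subset h1
      rw [Finset.mem_singleton] at this
      subst this; exact ⟨hj, hjs⟩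
    · have := Finsupp.support_single_subset h1
      rw [Finset.mem_singleton] at this
      subst this; exact ⟨le_refl 1, hs⟩
  have hsum : (d.sum fun i n => i * n) = s.factorial := by
    rw [Finsupp.sum_add_index' (by intro i; simp) (by intro i a b; ring)]
    rw [Finsupp.sum_single_index (by simp), Finsupp.sum_single_index (by simp)]
    rw [one_mul, Nat.mul_sub, mul_one, hjq]
    have : j ≤ s.factorial := Nat.le_of_dvd (Nat.factorial_pos s) hdvd
    omega
  have hprod' := hprod d hsupp hsum
  rw [Finsupp.prod_add_index' (by intro i; simp) (by intro i a b; rw [pow_add])] at hprod'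
  rw [Finsupp.prod_single_index (by simp), Finsupp.prod_single_index (by simp)] at hprod'
  have hξj := hξ j hj hjs
  rw [← hqdef] at hξj
  calc ξ 1 ^ j = (ξ j ^ (q - 1) * ξ j) * ξ 1 ^ j := by
        rw [← pow_succ, Nat.sub_add_cancel hq, hξj, one_mul]
    _ = ξ j * (ξ j ^ (q - 1) * ξ 1 ^ j) := by
        rw [mul_comm (ξ j ^ (q - 1)) (ξ j), mul_assoc]
    _ = ξ j := by rw [hprod', mul_one]

end Groth.Agent.S18920
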