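import Groth.Statements.S18922
import Groth.Agent.Lib.Helper2.TorFree.Elem
import Groth.Agent.Lib.Helper1.Euler3


set_option autoImplicit false
universe u
open CategoryTheory CategoryTheory.Limits AlgebraicGeometry
open TFNodal

namespace Groth.Agent.S18922

/-- Let k be an algebraically closed field of characteristic zero, X a reduced proper curve over k (a
proper k-scheme of dimension one) and F a coherent torsion free O_X-module (every stalk a torsion
free module over the local ring). Let x be a point of X and U an open subset containing x such that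
every irreducible component of U passes through x, that is, every point of U whose local ring is a
field specializes to x. Then the map from the sections of F over U to the stalk F_x is injective.
(The source states this for x a node of a connected nodal curve and U inside the union of the
irreducible components through x, meeting no other node.) -/
theorem result
    (k : Type u) [Field k] [IsAlgClosed k] [CharZero k]
    (X : Scheme.{u}) [X.Over (Spec (CommRingCat.of k))] [IsProper (X ↘ Spec (CommRingCat.of k))]
    [AlgebraicGeometry.IsReduced X] (hdim : topologicalKrullDim X = 1)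
    (F : X.Modules) (hF : Coh.IsCoh F) (htF : TorSh.IsTorsionFree F)
    (x : X) (U : X.Opens) (hxU : x ∈ U)
    (hU : ∀ y : X, y ∈ U → IsField (X.presheaf.stalk y) → x ∈ closure ({y} : Set X)) :
    Function.Injective (F.presheaf.germ U x hxU) := by
  haveI : IsNoetherian X := Groth.Agent.Helper1.Euler.isNoetherian_of_proper k X
  haveI : F.IsQuasicoherent := hF.1
  have key : ∀ s : Γ(F, U), F.presheaf.germ U x hxU s = 0 →
      ∀ (y : X) (hy : y ∈ U), F.presheaf.germ U y hy s = 0 := by
    intro s hs y hy
    by_contra hne
    obtain ⟨W, hW, hyW, hWU⟩ : ∃ W : X.Opens, IsAffineOpen W ∧ y ∈ W ∧ W ≤ U := by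
      obtain ⟨_, ⟨W, hW, rfl⟩, h1, h2⟩ :=
        X.isBasis_affineOpens.exists_subset_of_mem_open hy U.2
      exact ⟨W, hW, h1, h2⟩
    obtain ⟨s', hs'def⟩ : ∃ s' : Γ(F, W), s' = F.presheaf.map (homOfLE hWU).op s := ⟨_, rfl⟩
    have hs' : F.presheaf.germ W y hyW s' ≠ 0 := by
      rw [hs'def, TopCat.Presheaf.germ_res_apply]
      exact hne
    obtain ⟨η, hη, hmin, hle⟩ :=
      Groth.Agent.Helper2.TFElem.exists_generic_germ_ne_zero F hW s' ⟨y, hyW⟩ hs' (htF y)
    have hfield : IsField (X.presheaf.stalk η.1) := by
      haveI := hW.isLocalization_stalk η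
      haveI := Ring.KrullDimLE.of_isLocalization _ hmin (X.presheaf.stalk η.1)
      exact Ring.KrullDimLE.isField_of_isReduced
    have hspec : η.1 ⤳ x := specializes_iff_mem_closure.2 (hU η.1 (hWU η.2) hfield)
    obtain ⟨V, hxV, iV, _, e⟩ :=
      TopCat.Presheaf.germ_eq F.presheaf x hxU hxU s 0 (by rw [hs, map_zero])
    rw [map_zero] at e
    have hηV : η.1 ∈ V := hspec.mem_open V.2 hxV
    apply hη
    rw [hs'def, TopCat.Presheaf.germ_res_apply,
      ← TopCat.Presheaf.germ_res_apply F.presheaf iV η.1 hηV s, e, map_zero]
  intro s t hst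
  apply F.isSheaf.section_ext (U := Opposite.op U)
  intro y hy
  have h0 := key (s - t) (by rw [map_sub, hst, sub_self]) y hy
  rw [map_sub, sub_eq_zero] at h0
  obtain ⟨W, hyW, iU, iV, hW⟩ := TopCat.Presheaf.germ_eq F.presheaf y hy hy s t h0
  exact ⟨W, iU.le, hyW, hW⟩

end Groth.Agent.S18922
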