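import Groth.Statements.S18928
import Mathlib

set_option autoImplicit false
universe u
open DPow

namespace Groth.Agent.S18928


open Nat in
theorem add_pow_sub_pow_mem {B : Type*} [CommRing B] {I : Ideal B}
    (hI : DividedPowers I) (n : ℕ) (b δ : B) (hδ : δ ∈ I) :
    (b + δ) ^ (n + 1) - b ^ (n + 1) ∈ Ideal.span {((n + 1 : ℕ) : B)} * I := by
  rw [add_comm b δ, add_pow, Finset.sum_range_succ']
  simp only [pow_zero, one_mul, Nat.sub_zero, Nat.choose_zero_right, Nat.cast_one, mul_one,
    add_sub_cancel_right]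
  apply Ideal.sum_mem
  intro m _
  have h1 : δ ^ (m + 1) = ((m + 1)! : B) * hI.dpow (m + 1) δ :=
    (hI.factorial_mul_dpow_eq_pow hδ).symm
  have h2 : ((m + 1)! : ℕ) * (n + 1).choose (m + 1) = (n + 1) * n.descFactorial m := by
    rw [← Nat.descFactorial_eq_factorial_mul_choose, Nat.succ_descFactorial_succ]
  have h3 : δ ^ (m + 1) * b ^ (n + 1 - (m + 1)) * ((n + 1).choose (m + 1) : B)
      = ((n + 1 : ℕ) : B) * ((n.descFactorial m : B) * b ^ (n + 1 - (m + 1)) * hI.dpow (m + 1) δ) := by
    rw [h1]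
    have : (((m + 1)! : ℕ) : B) * (((n + 1).choose (m + 1) : ℕ) : B)
        = ((n + 1 : ℕ) : B) * ((n.descFactorial m : ℕ) : B) := by
      rw [← Nat.cast_mul, h2, Nat.cast_mul]
    calc ((m + 1)! : B) * hI.dpow (m + 1) δ * b ^ (n + 1 - (m + 1)) * ((n + 1).choose (m + 1) : B)
        = ((((m + 1)! : ℕ) : B) * (((n + 1).choose (m + 1) : ℕ) : B)) *
            (b ^ (n + 1 - (m + 1)) * hI.dpow (m + 1) δ) := by ring
      _ = _ := by rw [this]; ring
  rw [h3]
  exact Ideal.mul_mem_mul (Ideal.mem_span_singleton_self _)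
    (I.mul_mem_left _ (hI.dpow_mem (Nat.succ_ne_zero m) hδ))

/-- Let B be a commutative ring, I an ideal of B with a divided power structure, p a prime, r a natural
number, b an element of B and δ an element of I. Then (b + δ)^(p^r) − b^(p^r) lies in the ideal p^r
I. (The source states this for a divided power thickening over the Witt vectors of length n and 0 ≤
r ≤ n; neither restriction is used.) -/
theorem result {B : Type u} [CommRing B] {I : Ideal B}
    (hI : DividedPowers I) (p : ℕ) [Fact p.Prime] (r : ℕ) (b δ : B) (hδ : δ ∈ I) :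
    (b + δ) ^ (p ^ r) - b ^ (p ^ r) ∈ Ideal.span {((p : B) ^ r)} * I := by
  have hp : 0 < p ^ r := pow_pos (Fact.out : p.Prime).pos r
  obtain ⟨n, hn⟩ := Nat.exists_eq_succ_of_ne_zero hp.ne'
  have := add_pow_sub_pow_mem hI n b δ hδ
  rw [← Nat.succ_eq_add_one, ← hn, Nat.cast_pow] at this
  exact this

end Groth.Agent.S18928
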