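import Groth.Statements.S1893
import Mathlib
import Groth.Prelude.Def_Grpd
-- import your own Groth.Agent.* helpers here

set_option autoImplicit false
universe u
open CategoryTheory CategoryTheory.Limits AlgebraicGeometry
open Grpd

namespace Groth.Agent.S1893

open CategoryTheory CategoryTheory.Limits AlgebraicGeometry
namespace Aux

/-- A compact subset stable under generalization of a prespectral space is the intersection of the
compact opens containing it. -/
lemma eq_iInter_of_stableUnderGeneralization {X : Type u} [TopologicalSpace X] [PrespectralSpace X]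
    {E : Set X} (hE : IsCompact E) (hg : StableUnderGeneralization E) :
    ∃ (ι : Type u) (_ : Nonempty ι) (V : ι → TopologicalSpace.Opens X),
      (∀ i, IsCompact (V i : Set X)) ∧ E = ⋂ i, (V i : Set X) := by
  refine ⟨{V : TopologicalSpace.Opens X // IsCompact (V : Set X) ∧ E ⊆ V}, ?_, fun V => V.1,
    fun V => V.2.1, ?_⟩
  · obtain ⟨W, hWc, hWo, hEW, -⟩ := PrespectralSpace.exists_isCompact_and_isOpen_between hE
      isOpen_univ (Set.subset_univ _)
    exact ⟨⟨⟨W, hWo⟩, hWc, hEW⟩⟩
  · apply subset_antisymm
    · exact Set.subset_iInter fun V => V.2.2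
    · intro x hx
      by_contra hxE
      have hsub : E ⊆ (closure {x})ᶜ := by
        intro e he hmem
        have : x ⤳ e := specializes_iff_mem_closure.2 hmem
        exact hxE (hg this he)
      obtain ⟨W, hWc, hWo, hEW, hWsub⟩ := PrespectralSpace.exists_isCompact_and_isOpen_between hE
        isClosed_closure.isOpen_compl hsub
      have := Set.mem_iInter.1 hx ⟨⟨W, hWo⟩, hWc, hEW⟩
      exact hWsub this (subset_closure rfl)

theorem main (S : Scheme.{u}) (G : Grpd.GroupoidScheme S) [QuasiCompact G.s] [Flat G.t]
    (W : G.U.Opens) (hW : IsCompact (W : Set G.U)) :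
    ∃ (ι : Type u) (_ : Nonempty ι) (V : ι → G.U.Opens), (∀ i, IsCompact (V i : Set G.U)) ∧
      ⇑G.t '' (⇑G.s ⁻¹' (W : Set G.U)) = ⋂ i, (V i : Set G.U) := by
  apply eq_iInter_of_stableUnderGeneralization
  · exact (QuasiCompact.isCompact_preimage (f := G.s) _ W.2 hW).image G.t.continuous
  · apply (Flat.generalizingMap G.t).stableUnderGeneralization_image
    exact (W.2.preimage G.s.continuous).stableUnderGeneralization

end Aux

/-- Let (U, R, s, t, c) be a groupoid scheme over S with s, t quasi-compact and flat and U
quasi-separated, and W ⊆ U a quasi-compact open. Then the saturation t(s⁻¹(W)) can be written as an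
intersection of quasi-compact opens of U, indexed by a nonempty set. (A groupoid scheme carries U,
R, s, t, c, e, i over S with the groupoid axioms on T-points; 'finite locally free' is finite, flat
and locally of finite presentation; C ⊂ Γ(U) is the ring of functions a with s♯(a) = t♯(a) and M =
Spec C.) -/
theorem result (S : Scheme.{u}) (G : Grpd.GroupoidScheme S) [QuasiCompact G.s] [Flat G.s] [QuasiCompact G.t] [Flat G.t] [QuasiSeparatedSpace G.U] (W : G.U.Opens) (hW : IsCompact (W : Set G.U)) : ∃ (ι : Type u) (_ : Nonempty ι) (V : ι → G.U.Opens), (∀ i, IsCompact (V i : Set G.U)) ∧ ⇑G.t '' (⇑G.s ⁻¹' (W : Set G.U)) = ⋂ i, (V i : Set G.U) := by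
  exact Aux.main S G W hW

end Groth.Agent.S1893
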