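import Groth.Statements.S18933
import Mathlib

set_option autoImplicit false
universe u
open Synt

namespace Groth.Agent.S18933

namespace H18933
open MvPolynomial

lemma bijective_of_basis_bij {A R S : Type*} [CommRing A] [CommRing R] [CommRing S]
    [Algebra A R] [Algebra A S] [Algebra R S] [IsScalarTower A R S]
    {ι κ J : Type*} (bR : Module.Basis ι A R) (bS : Module.Basis κ A S) (g : J → S)
    (e : (Σ _ : J, ι) ≃ κ) (h : ∀ j i, bR i • g j = bS (e ⟨j, i⟩)) :
    Function.Bijective (Finsupp.linearCombination R g) := by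
  classical
  let bJ : Module.Basis (Σ _ : J, ι) A (J →₀ R) := Finsupp.basis (fun _ : J => bR)
  let E : (J →₀ R) ≃ₗ[A] S := bJ.equiv bS e
  have hE : ((Finsupp.linearCombination R g).restrictScalars A) = E.toLinearMap := by
    apply bJ.ext
    rintro ⟨j, i⟩
    rw [LinearEquiv.coe_coe, Module.Basis.equiv_apply]
    show Finsupp.linearCombination R g (bJ ⟨j, i⟩) = _
    rw [Finsupp.coe_basis]
    simp only [Finsupp.linearCombination_single]
    exact h j i
  have : (Finsupp.linearCombination R g : (J →₀ R) → S) = E := by
    funext x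
    exact LinearMap.congr_fun hE x
  rw [this]
  exact E.bijective

end H18933

namespace H18933
open MvPolynomial

/-- exponent vectors with all entries `< p` -/
def Idx (p : ℕ) (σ : Type*) := {r : σ →₀ ℕ // ∀ i, r i < p}

/-- division with remainder on exponent vectors -/
noncomputable def idxEquiv (p : ℕ) (hp : 0 < p) (σ : Type*) : (Σ _ : Idx p σ, (σ →₀ ℕ)) ≃ (σ →₀ ℕ) where
  toFun x := p • x.2 + x.1.1
  invFun a := ⟨⟨a.mapRange (· % p) (Nat.zero_mod p), fun i => by
    rw [Finsupp.mapRange_apply]; exact Nat.mod_lt _ hp⟩, a.mapRange (· / p) (Nat.zero_div p)⟩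
  left_inv := by
    rintro ⟨⟨r, hr⟩, q⟩
    have h1 : Finsupp.mapRange (· % p) (Nat.zero_mod p) (p • q + r) = r := by
      ext i
      simp only [Finsupp.mapRange_apply, Finsupp.add_apply, Finsupp.smul_apply, smul_eq_mul]
      rw [Nat.mul_add_mod, Nat.mod_eq_of_lt (hr i)]
    have h2 : Finsupp.mapRange (· / p) (Nat.zero_div p) (p • q + r) = q := by
      ext i
      simp only [Finsupp.mapRange_apply, Finsupp.add_apply, Finsupp.smul_apply, smul_eq_mul]
      rw [Nat.mul_add_div hp, Nat.div_eq_of_lt (hr i), add_zero]
    simp only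
    congr 1
    · exact Subtype.ext h1
  right_inv := by
    intro a
    ext i
    simp only [Finsupp.add_apply, Finsupp.smul_apply, smul_eq_mul, Finsupp.mapRange_apply]
    exact Nat.div_add_mod _ _

end H18933

namespace H18933
open MvPolynomial

/-- the target copy of the polynomial ring, an algebra over the source via `expand p` -/
def Tgt (_p : ℕ) (σ A : Type*) [CommRing A] : Type _ := MvPolynomial σ A

section
variable (p : ℕ) (σ A : Type*) [CommRing A]

noncomputable instance : CommRing (Tgt p σ A) := inferInstanceAs (CommRing (MvPolynomial σ A))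
noncomputable instance : Algebra A (Tgt p σ A) := inferInstanceAs (Algebra A (MvPolynomial σ A))
noncomputable instance instAlgTgt : Algebra (MvPolynomial σ A) (Tgt p σ A) :=
  (expand p : MvPolynomial σ A →ₐ[A] MvPolynomial σ A).toRingHom.toAlgebra

instance : IsScalarTower A (MvPolynomial σ A) (Tgt p σ A) :=
  IsScalarTower.of_algebraMap_eq (fun a =>
    ((expand p : MvPolynomial σ A →ₐ[A] MvPolynomial σ A).commutes a).symm)

lemma smul_tgt (r : MvPolynomial σ A) (s : Tgt p σ A) :
    r • s = (expand p r : MvPolynomial σ A) * (show MvPolynomial σ A from s) := rfl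

/-- the monomial family indexed by `Idx` -/
noncomputable def gfam : Idx p σ → Tgt p σ A := fun r => (monomial r.1 (1 : A) : MvPolynomial σ A)

theorem tgt_bijective (hp : 0 < p) :
    Function.Bijective (Finsupp.linearCombination (MvPolynomial σ A) (gfam p σ A)) := by
  refine bijective_of_basis_bij (A := A) (basisMonomials σ A)
    (show Module.Basis (σ →₀ ℕ) A (Tgt p σ A) from basisMonomials σ A) (gfam p σ A)
    (idxEquiv p hp σ) ?_
  intro r q
  rw [smul_tgt]
  simp only [coe_basisMonomials, gfam, expand_monomial]
  rw [monomial_mul, one_mul]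
  rfl

noncomputable def tgtEquiv (hp : 0 < p) : (Idx p σ →₀ MvPolynomial σ A) ≃ₗ[MvPolynomial σ A] Tgt p σ A :=
  LinearEquiv.ofBijective _ (tgt_bijective p σ A hp)

instance tgt_free [hp : Fact (0 < p)] : Module.Free (MvPolynomial σ A) (Tgt p σ A) :=
  Module.Free.of_equiv (tgtEquiv p σ A hp.out)

end
end H18933

namespace H18933
open MvPolynomial

section
variable (p : ℕ) (σ A : Type*) [CommRing A]

/-- the generators `X i` of the target -/
noncomputable def tval : σ → Tgt p σ A := fun i => (X i : MvPolynomial σ A)

/-- the relations `X_i^p - T_i` -/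
noncomputable def trel : σ → MvPolynomial σ (MvPolynomial σ A) := fun i => X i ^ p - C (X i)

/-- coefficient inclusion `A[X] → A[T][X]` -/
noncomputable def iota : Tgt p σ A →+* MvPolynomial σ (MvPolynomial σ A) :=
  (MvPolynomial.map (algebraMap A (MvPolynomial σ A)) : MvPolynomial σ A →+* _)

lemma aeval_tval_C (r : MvPolynomial σ A) :
    aeval (tval p σ A) (C r : MvPolynomial σ (MvPolynomial σ A)) =
      (show Tgt p σ A from (expand p r : MvPolynomial σ A)) := by
  rw [aeval_C]
  rfl

lemma aeval_tval_iota (s : Tgt p σ A) : aeval (tval p σ A) (iota p σ A s) = s := by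
  have key : ∀ s : MvPolynomial σ A,
      aeval (tval p σ A) (MvPolynomial.map (algebraMap A (MvPolynomial σ A)) s) =
        (show Tgt p σ A from s) := by
    intro s
    induction s using MvPolynomial.induction_on with
    | C a =>
      rw [map_C, aeval_C]
      show (expand p (algebraMap A (MvPolynomial σ A) a) : MvPolynomial σ A) = C a
      rw [algebraMap_eq, expand_C]
    | add f g hf hg => rw [map_add, map_add, hf, hg]; rfl
    | mul_X f i hf => rw [map_mul, map_mul, hf, map_X, aeval_X]; rfl
  exact key s

lemma sub_iota_mem (f : MvPolynomial σ (MvPolynomial σ A)) :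
    f - iota p σ A (aeval (tval p σ A) f) ∈ Ideal.span (Set.range (trel p σ A)) := by
  set J := Ideal.span (Set.range (trel p σ A)) with hJ
  let F₁ : MvPolynomial σ (MvPolynomial σ A) →+* MvPolynomial σ (MvPolynomial σ A) ⧸ J :=
    Ideal.Quotient.mk J
  let F₂ : MvPolynomial σ (MvPolynomial σ A) →+* MvPolynomial σ (MvPolynomial σ A) ⧸ J :=
    ((Ideal.Quotient.mk J).comp (iota p σ A)).comp
      (aeval (tval p σ A) : MvPolynomial σ (MvPolynomial σ A) →ₐ[MvPolynomial σ A] Tgt p σ A).toRingHom
  have hF : F₁ = F₂ := by
    apply MvPolynomial.ringHom_ext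
    · intro r
      have hG : (F₁.comp C) = (F₂.comp C) := by
        apply MvPolynomial.ringHom_ext
        · intro a
          show Ideal.Quotient.mk J (C (C a)) =
            Ideal.Quotient.mk J (iota p σ A (aeval (tval p σ A) (C (C a))))
          rw [aeval_tval_C, expand_C]
          show _ = Ideal.Quotient.mk J (MvPolynomial.map (algebraMap A (MvPolynomial σ A)) (C a))
          rw [map_C, algebraMap_eq]
        · intro i
          show Ideal.Quotient.mk J (C (X i)) =
            Ideal.Quotient.mk J (iota p σ A (aeval (tval p σ A) (C (X i))))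
          rw [aeval_tval_C, expand_X]
          show _ = Ideal.Quotient.mk J (MvPolynomial.map (algebraMap A (MvPolynomial σ A)) (X i ^ p))
          rw [map_pow, map_X, eq_comm, Ideal.Quotient.eq]
          exact Ideal.subset_span ⟨i, rfl⟩
      exact RingHom.congr_fun hG r
    · intro i
      show Ideal.Quotient.mk J (X i) = Ideal.Quotient.mk J (iota p σ A (aeval (tval p σ A) (X i)))
      rw [aeval_X]
      show _ = Ideal.Quotient.mk J (MvPolynomial.map (algebraMap A (MvPolynomial σ A)) (X i))
      rw [map_X]
  have := RingHom.congr_fun hF f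
  exact Ideal.Quotient.eq.mp this

noncomputable def tgens : Algebra.Generators (MvPolynomial σ A) (Tgt p σ A) σ :=
  Algebra.Generators.ofSurjective (tval p σ A) (fun s => ⟨iota p σ A s, aeval_tval_iota p σ A s⟩)

noncomputable def tpres : Algebra.Presentation (MvPolynomial σ A) (Tgt p σ A) σ σ where
  __ := tgens p σ A
  relation := trel p σ A
  span_range_relation_eq_ker := by
    rw [Algebra.Generators.ker_eq_ker_aeval_val]
    show Ideal.span (Set.range (trel p σ A)) = RingHom.ker (aeval (tval p σ A))
    apply le_antisymm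
    · rw [Ideal.span_le]
      rintro _ ⟨i, rfl⟩
      rw [SetLike.mem_coe, RingHom.mem_ker]
      show aeval (tval p σ A) (X i ^ p - C (X i)) = 0
      rw [map_sub, map_pow, aeval_X, aeval_tval_C, expand_X]
      exact sub_self _
    · intro f hf
      rw [RingHom.mem_ker] at hf
      have := sub_iota_mem p σ A f
      rwa [hf, map_zero, sub_zero] at this

end
end H18933

namespace H18933
open MvPolynomial TensorProduct


instance idx_finite (p : ℕ) (σ : Type*) [Finite σ] : Finite (Idx p σ) := by
  have : Function.Injective (fun r : Idx p σ => (fun i => (⟨r.1 i, r.2 i⟩ : Fin p) : σ → Fin p)) := by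
    intro r s h
    apply Subtype.ext
    ext i
    have := congrFun h i
    exact congrArg Fin.val this
  exact Finite.of_injective _ this

section
variable (p : ℕ) [hp : Fact (0 < p)] (σ : Type) [Finite σ] (A : Type u) [CommRing A]

instance tgt_finite : Module.Finite (MvPolynomial σ A) (Tgt p σ A) :=
  Module.Finite.equiv (tgtEquiv p σ A hp.out)

noncomputable instance tgt_fpA : Algebra.FinitePresentation A (Tgt p σ A) :=
  inferInstanceAs (Algebra.FinitePresentation A (MvPolynomial σ A))

instance tgt_fp : Algebra.FinitePresentation (MvPolynomial σ A) (Tgt p σ A) :=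
  Algebra.FinitePresentation.of_restrict_scalars_finitePresentation A _ _

instance tgt_nontrivial [Nontrivial A] : Nontrivial (Tgt p σ A) :=
  inferInstanceAs (Nontrivial (MvPolynomial σ A))

theorem tgt_faithfullyFlat : Module.FaithfullyFlat (MvPolynomial σ A) (Tgt p σ A) := by
  rcases subsingleton_or_nontrivial A with hA | hA
  · refine ⟨fun m hm => ?_⟩
    exact absurd (Subsingleton.elim m ⊤) hm.ne_top
  · infer_instance

end
end H18933

namespace H18933
open MvPolynomial TensorProduct


lemma gci_away_one (k : Type u) [Field k] (F : Type u) [CommRing F] [Algebra k F]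
    [Module.Finite k F] [Nontrivial F] (m : ℕ)
    (f : MvPolynomial (Fin m) k →ₐ[k] F) (hf : Function.Surjective f)
    (r : Fin m → MvPolynomial (Fin m) k)
    (hker : RingHom.ker f.toRingHom = Ideal.span (Set.range r)) :
    Synt.IsGlobalCI k (Localization.Away (1 : F)) := by
  right
  let e3 : F ≃ₐ[k] Localization.Away (1 : F) :=
    (IsLocalization.atOne F (Localization.Away (1 : F))).restrictScalars k
  refine ⟨m, m, le_refl _, e3.toAlgHom.comp f, r, e3.surjective.comp hf, ?_, ?_⟩
  · rw [← hker]
    ext x
    rw [RingHom.mem_ker, RingHom.mem_ker]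
    show e3 (f x) = 0 ↔ f x = 0
    exact map_eq_zero_iff e3 e3.injective
  · have hfin : Module.Finite k (Localization.Away (1 : F)) := Module.Finite.equiv e3.toLinearEquiv
    have hnt : Nontrivial (Localization.Away (1 : F)) := e3.injective.nontrivial
    have : IsArtinianRing (Localization.Away (1 : F)) := IsArtinianRing.of_finite k _
    have h0 : Ring.KrullDimLE 0 (Localization.Away (1 : F)) := inferInstance
    rw [Nat.sub_self]
    exact (ringKrullDimZero_iff_ringKrullDim_eq_zero).mp h0

theorem main_tgt (p : ℕ) [hp : Fact p.Prime] (A : Type u) [CommRing A] (m : ℕ) :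
    Synt.IsSyntomic (MvPolynomial (Fin m) A) (Tgt p (Fin m) A) ∧
      Module.FaithfullyFlat (MvPolynomial (Fin m) A) (Tgt p (Fin m) A) := by
  have hp0 : Fact (0 < p) := ⟨hp.out.pos⟩
  have hff := tgt_faithfullyFlat p (Fin m) A
  refine ⟨⟨inferInstance, inferInstance, ?_⟩, hff⟩
  intro 𝔭
  refine ⟨inferInstance, fun q => ⟨1, ?_, ?_⟩⟩
  · intro h1
    exact q.isPrime.ne_top ((Ideal.eq_top_iff_one _).mpr h1)
  · let P' := (tpres p (Fin m) A).baseChange 𝔭.asIdeal.ResidueField
    exact gci_away_one 𝔭.asIdeal.ResidueField _ m (aeval P'.val) P'.aeval_val_surjective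
      (fun i => MvPolynomial.map (algebraMap (MvPolynomial (Fin m) A) 𝔭.asIdeal.ResidueField)
        (trel p (Fin m) A i))
      ((tpres p (Fin m) A).span_range_relation_eq_ker_baseChange 𝔭.asIdeal.ResidueField).symm

end H18933

namespace H18933
open MvPolynomial
theorem main (p : ℕ) [Fact p.Prime] (A : Type u) [CommRing A] (m : ℕ)
    (φ : MvPolynomial (Fin m) A →ₐ[A] MvPolynomial (Fin m) A)
    (hφ : ∀ i : Fin m, φ (MvPolynomial.X i) = MvPolynomial.X i ^ p) :
    @Synt.IsSyntomic (MvPolynomial (Fin m) A) _ (MvPolynomial (Fin m) A) _ φ.toRingHom.toAlgebra ∧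
      φ.toRingHom.FaithfullyFlat := by
  have hφe : φ = expand p := MvPolynomial.algHom_ext (fun i => by rw [hφ, expand_X])
  subst hφe
  exact main_tgt p A m
end H18933

/-- Let p be a prime, A a Noetherian commutative ring and m a natural number, and let φ be the A-algebra
endomorphism of the polynomial ring A[T_1, …, T_m] with φ(T_i) = T_i^p. Then φ is syntomic and
faithfully flat (so Spec φ is a covering for the syntomic topology). -/
theorem result (p : ℕ) [Fact p.Prime]
    (A : Type u) [CommRing A] [IsNoetherianRing A] (m : ℕ)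
    (φ : MvPolynomial (Fin m) A →ₐ[A] MvPolynomial (Fin m) A)
    (hφ : ∀ i : Fin m, φ (MvPolynomial.X i) = MvPolynomial.X i ^ p) :
    @Synt.IsSyntomic (MvPolynomial (Fin m) A) _ (MvPolynomial (Fin m) A) _ φ.toRingHom.toAlgebra ∧
      φ.toRingHom.FaithfullyFlat := by
  exact H18933.main p A m φ hφ

end Groth.Agent.S18933
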