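import Groth.Statements.S18934
import Mathlib

set_option autoImplicit false
universe u
open Synt

namespace Groth.Agent.S18934

namespace H18934
open Polynomial


/-- the `k`-algebra iso `MvPolynomial (Fin 1) k ≃ k[X]` -/
noncomputable def E1 (k : Type u) [CommRing k] : MvPolynomial (Fin 1) k ≃ₐ[k] k[X] :=
  MvPolynomial.uniqueAlgEquiv k (Fin 1)

lemma gci_of_equiv (k : Type u) [Field k] (f : k[X]) (hf : f.Monic) (hdeg : 0 < f.natDegree)
    (S : Type u) [CommRing S] [Algebra k S] (e : AdjoinRoot f ≃ₐ[k] S) : Synt.IsGlobalCI k S := by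
  right
  refine ⟨1, 1, le_refl _, (e.toAlgHom.comp (AdjoinRoot.mkₐ f)).comp (E1 k).toAlgHom,
    fun _ => (E1 k).symm f, ?_, ?_, ?_⟩
  · intro s
    obtain ⟨y, hy⟩ := AdjoinRoot.mk_surjective (g := f) (e.symm s)
    refine ⟨(E1 k).symm y, ?_⟩
    show e (AdjoinRoot.mk f ((E1 k) ((E1 k).symm y))) = s
    rw [AlgEquiv.apply_symm_apply, hy, AlgEquiv.apply_symm_apply]
  · ext x
    rw [Set.range_const, Ideal.mem_span_singleton, RingHom.mem_ker]
    show e (AdjoinRoot.mk f ((E1 k) x)) = 0 ↔ _
    rw [map_eq_zero_iff e e.injective, AdjoinRoot.mk_eq_zero]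
    rw [← map_dvd_iff (E1 k), AlgEquiv.apply_symm_apply]
  · have hfin : Module.Finite k (AdjoinRoot f) := hf.finite_adjoinRoot
    have hfinS : Module.Finite k S := Module.Finite.equiv e.toLinearEquiv
    have hnt : Nontrivial (AdjoinRoot f) := AdjoinRoot.nontrivial f (by
      rw [Polynomial.degree_eq_natDegree hf.ne_zero]
      exact_mod_cast hdeg.ne')
    have hntS : Nontrivial S := e.injective.nontrivial
    have : IsArtinianRing S := IsArtinianRing.of_finite k S
    have h0 : Ring.KrullDimLE 0 S := inferInstance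
    rw [Nat.sub_self]
    exact (ringKrullDimZero_iff_ringKrullDim_eq_zero).mp h0

end H18934

namespace H18934
open Polynomial TensorProduct


theorem main (p : ℕ) [Fact p.Prime] (A : Type u) [CommRing A] (a : A) :
    Synt.IsSyntomic A (AdjoinRoot (X ^ p - C a)) ∧
      Module.FaithfullyFlat A (AdjoinRoot (X ^ p - C a)) := by
  have hp : p ≠ 0 := (Fact.out : p.Prime).ne_zero
  have hmon : (X ^ p - C a : A[X]).Monic := monic_X_pow_sub_C a hp
  have hfree : Module.Free A (AdjoinRoot (X ^ p - C a)) := hmon.free_adjoinRoot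
  have hfin : Module.Finite A (AdjoinRoot (X ^ p - C a)) := hmon.finite_adjoinRoot
  refine ⟨⟨inferInstance, inferInstance, ?_⟩, ?_⟩
  · intro 𝔭
    refine ⟨inferInstance, fun q => ⟨1, ?_, ?_⟩⟩
    · intro h1
      exact q.isPrime.ne_top ((Ideal.eq_top_iff_one _).mpr h1)
    · set κ := 𝔭.asIdeal.ResidueField with hκ
      set fb : κ[X] := X ^ p - C (algebraMap A κ a) with hfb
      have hfbmon : fb.Monic := monic_X_pow_sub_C _ hp
      have hfbdeg : 0 < fb.natDegree := by
        rw [hfb, natDegree_X_pow_sub_C]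
        exact Nat.pos_of_ne_zero hp
      let q0 : (κ ⊗[A] A)[X] := (X ^ p - C a : A[X]).map
        (Algebra.TensorProduct.includeRight (R := A) (A := κ) (B := A)).toRingHom
      let e1 : κ ⊗[A] AdjoinRoot (X ^ p - C a : A[X]) ≃ₐ[κ] AdjoinRoot q0 :=
        AdjoinRoot.tensorAlgEquiv (X ^ p - C a : A[X]) q0 rfl
      have hq0 : q0.map (Algebra.TensorProduct.rid A κ κ : κ ⊗[A] A ≃ₐ[κ] κ) = fb := by
        simp only [q0, hfb, Polynomial.map_sub, Polynomial.map_pow, Polynomial.map_X, Polynomial.map_C]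
        congr 2
        simp [Algebra.smul_def]
      let e2 : AdjoinRoot q0 ≃ₐ[κ] AdjoinRoot fb :=
        AdjoinRoot.mapAlgEquiv (Algebra.TensorProduct.rid A κ κ) q0 fb (by rw [hq0])
      let e3 : (κ ⊗[A] AdjoinRoot (X ^ p - C a : A[X])) ≃ₐ[κ]
          Localization.Away (1 : κ ⊗[A] AdjoinRoot (X ^ p - C a : A[X])) :=
        (IsLocalization.atOne (κ ⊗[A] AdjoinRoot (X ^ p - C a : A[X]))
          (Localization.Away (1 : κ ⊗[A] AdjoinRoot (X ^ p - C a : A[X])))).restrictScalars κ
      exact gci_of_equiv κ fb hfbmon hfbdeg _ ((e2.symm.trans e1.symm).trans e3)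
  · rcases subsingleton_or_nontrivial A with hA | hA
    · refine ⟨fun m hm => ?_⟩
      exact absurd (Subsingleton.elim m ⊤) hm.ne_top
    · have h1 : AdjoinRoot.mk (X ^ p - C a : A[X]) 1 ≠ 0 :=
        AdjoinRoot.mk_ne_zero_of_natDegree_lt hmon one_ne_zero (by
          rw [natDegree_X_pow_sub_C, natDegree_one]
          exact Nat.pos_of_ne_zero hp)
      have : Nontrivial (AdjoinRoot (X ^ p - C a : A[X])) := ⟨⟨_, _, h1⟩⟩
      infer_instance

end H18934

open Polynomial in
/-- Let p be a prime, A a commutative ring and a an element of A. Then the A-algebra A[T]/(T^p − a) is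
syntomic and faithfully flat over A. This is the step of the source's proof showing that adjoining a
p-th root of any element is a covering for the syntomic topology. -/
theorem result (p : ℕ) [Fact p.Prime]
    (A : Type u) [CommRing A] (a : A) :
    Synt.IsSyntomic A (AdjoinRoot (X ^ p - C a)) ∧ Module.FaithfullyFlat A (AdjoinRoot (X ^ p - C a)) := by
  exact H18934.main p A a

end Groth.Agent.S18934
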