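import Groth.Statements.S18936
import Mathlib

set_option autoImplicit false
universe u
open CAlg

namespace Groth.Agent.S18936

/-- Let A be a Noetherian commutative ring, q a prime ideal of A and f an element of A whose image in
the localization A_q is a non-zero-divisor. Then there is an element b of A not in q such that the
image of f in A[1/b] is a non-zero-divisor. -/
theorem result {A : Type u} [CommRing A] [IsNoetherianRing A]
    (q : Ideal A) [q.IsPrime] (f : A)
    (hf : algebraMap A (Localization.AtPrime q) f ∈ nonZeroDivisors (Localization.AtPrime q)) :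
    ∃ b : A, b ∉ q ∧ algebraMap A (Localization.Away b) f ∈ nonZeroDivisors (Localization.Away b) := by
  classical
  -- the annihilator of f
  let K : Ideal A := LinearMap.ker (LinearMap.mulLeft A f)
  have hK : ∀ a, a ∈ K ↔ f * a = 0 := fun a => by
    simp only [K, LinearMap.mem_ker, LinearMap.mulLeft_apply]
  obtain ⟨s, hs⟩ := (IsNoetherian.noetherian K : K.FG)
  -- each element of K is killed by something outside q
  have hkill : ∀ k ∈ K, ∃ m : A, m ∉ q ∧ m * k = 0 := by
    intro k hk
    have h1 : algebraMap A (Localization.AtPrime q) k * algebraMap A (Localization.AtPrime q) f = 0 := by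
      rw [← map_mul, mul_comm, (hK k).1 hk, map_zero]
    have h2 := (mul_right_mem_nonZeroDivisors_eq_zero_iff hf).1 h1
    obtain ⟨m, hm⟩ := (IsLocalization.map_eq_zero_iff q.primeCompl (Localization.AtPrime q) k).1 h2
    exact ⟨m, m.2, hm⟩
  let μ : A → A := fun k => if hk : k ∈ K then (hkill k hk).choose else 1
  have hμ1 : ∀ k, μ k ∉ q := by
    intro k
    by_cases hk : k ∈ K
    · simp only [μ, dif_pos hk]; exact (hkill k hk).choose_spec.1
    · simp only [μ, dif_neg hk]
      exact fun h => (Ideal.IsPrime.ne_top inferInstance) ((Ideal.eq_top_iff_one q).2 h)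
  have hμ2 : ∀ k ∈ K, μ k * k = 0 := by
    intro k hk
    simp only [μ, dif_pos hk]; exact (hkill k hk).choose_spec.2
  let b : A := ∏ k ∈ s, μ k
  have hb : b ∉ q := by
    intro hbq
    obtain ⟨k, _, hk⟩ := (Ideal.IsPrime.prod_mem_iff).1 hbq
    exact hμ1 k hk
  have hbK : ∀ k ∈ K, b * k = 0 := by
    intro k hk
    rw [← hs] at hk
    induction hk using Submodule.span_induction with
    | mem x hx =>
      have hxK : x ∈ K := by rw [← hs]; exact Submodule.subset_span hx
      have : b = (∏ k ∈ s.erase x, μ k) * μ x := by
        rw [Finset.prod_erase_mul _ _ hx]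
      rw [this, mul_assoc, hμ2 x hxK, mul_zero]
    | zero => rw [mul_zero]
    | add x y _ _ hx hy => rw [mul_add, hx, hy, add_zero]
    | smul a x _ hx => rw [smul_eq_mul, mul_left_comm, hx, mul_zero]
  refine ⟨b, hb, ?_⟩
  rw [mem_nonZeroDivisors_iff_right]
  intro x hx
  obtain ⟨⟨a, c⟩, hac⟩ := IsLocalization.surj (Submonoid.powers b) x
  simp only at hac
  have h1 : algebraMap A (Localization.Away b) (a * f) = 0 := by
    rw [map_mul, ← hac, mul_right_comm, hx, zero_mul]
  obtain ⟨m, hm⟩ := (IsLocalization.map_eq_zero_iff (Submonoid.powers b) (Localization.Away b) (a * f)).1 h1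
  have h2 : (m : A) * a ∈ K := by
    rw [hK]
    calc f * ((m : A) * a) = (m : A) * (a * f) := by ring
      _ = 0 := hm
  have h3 : b * ((m : A) * a) = 0 := hbK _ h2
  have h4 : algebraMap A (Localization.Away b) a = 0 := by
    rw [IsLocalization.map_eq_zero_iff (Submonoid.powers b)]
    refine ⟨⟨b, Submonoid.mem_powers b⟩ * m, ?_⟩
    simp only [Submonoid.coe_mul]
    rw [mul_assoc]; exact h3
  rw [h4] at hac
  exact (IsUnit.mul_left_eq_zero (IsLocalization.map_units (Localization.Away b) c)).1 hac

end Groth.Agent.S18936
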