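import Groth.Statements.S18940
import Mathlib

set_option autoImplicit false
universe w v u
open CategoryTheory
open ShfCat

namespace Groth.Agent.S18940

open CategoryTheory Limits Opposite


theorem ls_pullback {C : Type u} [Category.{v} C]
    (J : GrothendieckTopology C) {F G H : Sheaf J (Type w)} (f : F ⟶ G) (g : H ⟶ G)
    [Sheaf.IsLocallySurjective f] :
    Sheaf.IsLocallySurjective (Limits.pullback.snd f g) := by
  constructor
  intro U s
  have hS := Presheaf.imageSieve_mem J f.hom (U := op U) (g.hom.app (op U) s)
  refine J.superset_covering ?_ hS
  rintro V i ⟨t, ht⟩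
  let E := sheafToPresheaf J (Type w) ⋙ (evaluation Cᵒᵖ (Type w)).obj (op V)
  have hpb : IsPullback (E.map (pullback.fst f g)) (E.map (pullback.snd f g)) (E.map f) (E.map g) :=
    (IsPullback.of_hasPullback f g).map E
  obtain ⟨z, hz1, hz2⟩ := Types.exists_of_isPullback hpb t (H.obj.map i.op s) (by
    show f.hom.app (op V) t = g.hom.app (op V) (H.obj.map i.op s)
    rw [ht]
    exact (NatTrans.naturality_apply g.hom i.op s).symm)
  exact ⟨z, hz2⟩

/-- Let (C, J) be a site and f : F → G a morphism of sheaves of sets on it which is locally surjective
(every section of G is, after passing to a covering, in the image of f). Then for every morphism of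
sheaves g : H → G the base change F ×_G H → H of f is again locally surjective. -/
theorem result {C : Type u} [Category.{v} C]
    (J : GrothendieckTopology C) {F G H : Sheaf J (Type w)} (f : F ⟶ G) (g : H ⟶ G)
    [Sheaf.IsLocallySurjective f] :
    Sheaf.IsLocallySurjective (Limits.pullback.snd f g) := by
  exact ls_pullback J f g

end Groth.Agent.S18940
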