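import Groth.Statements.S18942
import Mathlib

set_option autoImplicit false
universe u
open DPow

namespace Groth.Agent.S18942

open WittVector in
theorem witt_id (p : ℕ) [Fact p.Prime]
    (k : Type*) [Field k] [CharP k p] [PerfectRing k p] (n : ℕ) (x : WittVector p k)
    (y : Fin n → WittVector p k) (hy : ∀ i : Fin n, ((y i).coeff 0) ^ (p ^ n) = x.coeff i) :
    WittVector.truncate n x =
      WittVector.truncate n (∑ i : Fin n, (p : WittVector p k) ^ (i : ℕ) * (y i) ^ (p ^ (n - i))) := by
  rw [← sub_eq_zero, ← map_sub, ← RingHom.mem_ker, mem_ker_truncate,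
    ← mem_span_p_pow_iff_le_coeff_eq_zero]
  rcases n with _ | n
  · simp
  set S := ∑ i : Fin (n+1), (p : WittVector p k) ^ (i : ℕ) * (y i) ^ (p ^ (n + 1 - i)) with hS
  set T := ∑ i ∈ Finset.Iic n, (teichmuller p
        (((_root_.frobeniusEquiv k p).symm ^ i) (x.coeff i)) * (p : WittVector p k) ^ i) with hT
  have h1 : x - T ∈ Ideal.span {((p : WittVector p k) ^ (n+1))} := by
    rw [Ideal.mem_span_singleton]
    exact dvd_sub_sum_teichmuller_iterateFrobeniusEquiv_coeff x n
  have h2 : T - S ∈ Ideal.span {((p : WittVector p k) ^ (n+1))} := by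
    rw [hT, ← Nat.range_succ_eq_Iic, ← Fin.sum_univ_eq_sum_range
      (fun i => teichmuller p
        (((_root_.frobeniusEquiv k p).symm ^ i) (x.coeff i)) * (p : WittVector p k) ^ i), hS,
      ← Finset.sum_sub_distrib]
    refine Ideal.sum_mem _ (fun i _ => ?_)
    rw [Ideal.mem_span_singleton]
    have ha : ((_root_.frobeniusEquiv k p).symm ^ (i : ℕ)) (x.coeff i) =
        ((y i).coeff 0) ^ (p ^ (n + 1 - i)) := by
      apply ((frobenius_inj k p).iterate (i : ℕ))
      rw [iterate_frobenius, iterate_frobenius, RingAut.coe_pow,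
        iterate_frobeniusEquiv_symm_pow_p_pow, ← hy i, ← pow_mul, ← pow_add]
      congr 2
      have := i.2
      omega
    rw [ha, map_pow]
    have hd : (p : WittVector p k) ∣ teichmuller p ((y i).coeff 0) - y i := by
      rw [← Ideal.mem_span_singleton, mem_span_p_iff_coeff_zero_eq_zero]
      have : (teichmuller p ((y i).coeff 0) - y i).coeff 0 =
          constantCoeff (teichmuller p ((y i).coeff 0) - y i) := rfl
      rw [this, map_sub]
      simp [constantCoeff_apply]
    have hd2 := dvd_sub_pow_of_dvd_sub hd (n + 1 - i)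
    have hi : (n + 1 - (i:ℕ)) + 1 + i = n + 1 + 1 := by have := i.2; omega
    have : (teichmuller p ((y i).coeff 0)) ^ p ^ (n + 1 - (i:ℕ)) * (p : WittVector p k) ^ (i:ℕ)
        - (p : WittVector p k) ^ (i:ℕ) * y i ^ p ^ (n + 1 - (i:ℕ)) =
        (p : WittVector p k) ^ (i:ℕ) * ((teichmuller p ((y i).coeff 0)) ^ p ^ (n + 1 - (i:ℕ))
          - y i ^ p ^ (n + 1 - (i:ℕ))) := by ring
    rw [this]
    obtain ⟨c, hc⟩ := hd2
    rw [hc]
    refine ⟨p * c, ?_⟩
    rw [← mul_assoc, ← pow_add, add_comm (i : ℕ), hi]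
    ring
  have : x - S = (x - T) + (T - S) := by ring
  rw [this]
  exact Ideal.add_mem _ h1 h2

/-- Let p be a prime, k a perfect field of characteristic p, n a natural number and x an element of
W_n(k), written here as the truncation of a Witt vector x over k. For any Witt vectors y_0, …,
y_{n−1} over k lifting the components of x under the map y ↦ (y_0)^(p^n) (that is, (y_i)_0^(p^n) =
x_i), one has x = Σ_{i<n} p^i y_i^(p^(n−i)) in W_n(k). -/
theorem result (p : ℕ) [Fact p.Prime]
    (k : Type u) [Field k] [CharP k p] [PerfectRing k p] (n : ℕ) (x : WittVector p k)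
    (y : Fin n → WittVector p k) (hy : ∀ i : Fin n, ((y i).coeff 0) ^ (p ^ n) = x.coeff i) :
    WittVector.truncate n x =
      WittVector.truncate n (∑ i : Fin n, (p : WittVector p k) ^ (i : ℕ) * (y i) ^ (p ^ (n - i))) := by
  exact witt_id p k n x y hy

end Groth.Agent.S18942
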