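import Groth.Statements.S18943
import Mathlib

set_option autoImplicit false
open scoped ContDiff
open CInfGerm

namespace Groth.Agent.S18943

section
open scoped ContDiff Topology
open MeasureTheory

/-- the auxiliary family of parametric integrals -/
noncomputable def G (k : ℕ) (h : ℝ → ℝ) (x : ℝ) : ℝ := ∫ t in (0:ℝ)..1, t ^ k * h (t * x)

theorem hasDerivAt_G (k : ℕ) (h : ℝ → ℝ) (hh : ContDiff ℝ ∞ h) (x₀ : ℝ) :
    HasDerivAt (G k h) (G (k + 1) (deriv h) x₀) x₀ := by
  have hdiff : Differentiable ℝ h := (contDiff_infty_iff_deriv.mp hh).1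
  have hcont : Continuous h := hh.continuous
  have hdc : Continuous (deriv h) := (contDiff_infty_iff_deriv.mp hh).2.continuous
  -- bound of deriv h on a compact
  set B : ℝ := |x₀| + 1 with hB
  obtain ⟨C, hC⟩ := (isCompact_Icc (a := -B) (b := B)).exists_bound_of_continuousOn hdc.continuousOn
  have key := intervalIntegral.hasDerivAt_integral_of_dominated_loc_of_deriv_le
    (μ := volume) (a := (0:ℝ)) (b := 1)
    (F := fun x t => t ^ k * h (t * x)) (F' := fun x t => t ^ (k + 1) * deriv h (t * x))
    (x₀ := x₀) (s := Metric.ball x₀ 1) (bound := fun _ => C)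
    (Metric.ball_mem_nhds x₀ one_pos)
    (Filter.Eventually.of_forall fun x =>
      (Continuous.aestronglyMeasurable (by fun_prop)))
    (Continuous.intervalIntegrable (by fun_prop) _ _)
    (Continuous.aestronglyMeasurable (by fun_prop))
    (by
      refine Filter.Eventually.of_forall fun t ht x hx => ?_
      rw [Set.uIoc_of_le zero_le_one] at ht
      have hx' : |x - x₀| < 1 := by
        have := Metric.mem_ball.mp hx
        rwa [Real.dist_eq] at this
      have hxB : |x| ≤ B := by
        have : |x| ≤ |x - x₀| + |x₀| := by
          have := abs_add_le (x - x₀) x₀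
          simpa using this
        rw [hB]; linarith
      have htx : |t * x| ≤ B := by
        rw [abs_mul, abs_of_pos ht.1]
        calc t * |x| ≤ 1 * |x| := by
              apply mul_le_mul_of_nonneg_right ht.2 (abs_nonneg x)
          _ = |x| := one_mul _
          _ ≤ B := hxB
      have hmem : t * x ∈ Set.Icc (-B) B := abs_le.mp htx
      have h1 := hC _ hmem
      rw [norm_mul, norm_pow]
      have h2 : ‖t‖ ^ (k + 1) ≤ 1 := by
        apply pow_le_one₀ (norm_nonneg _)
        rw [Real.norm_eq_abs, abs_of_pos ht.1]
        exact ht.2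
      calc ‖t‖ ^ (k + 1) * ‖deriv h (t * x)‖ ≤ 1 * C :=
            mul_le_mul h2 h1 (norm_nonneg _) zero_le_one
        _ = C := one_mul _)
    intervalIntegrable_const
    (by
      refine Filter.Eventually.of_forall fun t _ x _ => ?_
      have h1 : HasDerivAt (fun x : ℝ => t * x) t x := by
        simpa using (hasDerivAt_id x).const_mul t
      have h2 : HasDerivAt h (deriv h (t * x)) (t * x) := (hdiff (t * x)).hasDerivAt
      have h3 := (h2.comp x h1).const_mul (t ^ k)
      have e : t ^ (k + 1) * deriv h (t * x) = t ^ k * (deriv h (t * x) * t) := by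
        rw [pow_succ]; ring
      rw [e]
      exact h3)
  exact key.2

theorem contDiff_G : ∀ (n : ℕ) (k : ℕ) (h : ℝ → ℝ), ContDiff ℝ ∞ h → ContDiff ℝ n (G k h) := by
  intro n
  induction n with
  | zero =>
    intro k h hh
    rw [Nat.cast_zero, contDiff_zero]
    have : Differentiable ℝ (G k h) := fun x => (hasDerivAt_G k h hh x).differentiableAt
    exact this.continuous
  | succ n ih =>
    intro k h hh
    have hd : deriv (G k h) = G (k + 1) (deriv h) := by
      funext x
      exact (hasDerivAt_G k h hh x).deriv
    rw [Nat.cast_succ, contDiff_succ_iff_deriv]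
    refine ⟨fun x => (hasDerivAt_G k h hh x).differentiableAt, ?_, ?_⟩
    · intro hn
      exact absurd hn (by exact_mod_cast WithTop.coe_ne_top)
    · rw [hd]
      exact ih (k + 1) (deriv h) (contDiff_infty_iff_deriv.mp hh).2

theorem main (f : ℝ → ℝ) (hf : ContDiff ℝ ∞ f) (h0 : f 0 = 0) :
    ∃ g : ℝ → ℝ, ContDiff ℝ ∞ g ∧ ∀ x : ℝ, f x = x * g x := by
  refine ⟨G 0 (deriv f), ?_, ?_⟩
  · rw [contDiff_infty]
    intro n
    exact contDiff_G n 0 (deriv f) (contDiff_infty_iff_deriv.mp hf).2
  · intro x
    have hdiff : Differentiable ℝ f := (contDiff_infty_iff_deriv.mp hf).1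
    have hdc : Continuous (deriv f) := (contDiff_infty_iff_deriv.mp hf).2.continuous
    have h1 : ∀ t ∈ Set.uIcc (0:ℝ) 1, HasDerivAt (fun t => f (t * x)) (deriv f (t * x) * x) t := by
      intro t _
      have h1 : HasDerivAt (fun t : ℝ => t * x) x t := by
        simpa using (hasDerivAt_id t).mul_const x
      exact ((hdiff (t * x)).hasDerivAt).comp t h1
    have h2 := intervalIntegral.integral_eq_sub_of_hasDerivAt h1
      (Continuous.intervalIntegrable (by fun_prop) _ _)
    rw [intervalIntegral.integral_mul_const] at h2
    simp only [one_mul, zero_mul, h0, sub_zero] at h2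
    rw [← h2, mul_comm]
    congr 1
    unfold G
    simp


end


/-- Let f be an infinitely differentiable real-valued function on the real line with f(0) = 0. Then f(x)
= x·g(x) for an infinitely differentiable function g. (The source phrases this for germs at 0: the
maximal ideal of the local ring of germs of smooth functions at the origin is generated by the
coordinate t; the global form stated here is what its argument, smooth extension of f(x)/x across 0,
gives.) -/
theorem result (f : ℝ → ℝ) (hf : ContDiff ℝ ∞ f) (h0 : f 0 = 0) :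
    ∃ g : ℝ → ℝ, ContDiff ℝ ∞ g ∧ ∀ x : ℝ, f x = x * g x := by
  classical
  exact main f hf h0

end Groth.Agent.S18943
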