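import Groth.Statements.S18945
import Mathlib
import Groth.Agent.S18934

set_option autoImplicit false
universe u
open CategoryTheory AlgebraicGeometry
open Synt

namespace Groth.Agent.S18945

namespace H18945
open Polynomial

section transport
variable (k : Type u) [Field k] (G G' : Type u) [CommRing G] [CommRing G'] [Algebra k G] [Algebra k G']

theorem gci_of_algEquiv (e : G ≃ₐ[k] G') (h : Synt.IsGlobalCI k G) : Synt.IsGlobalCI k G' := by
  rcases h with h | ⟨n, c, hle, φ, r, hsurj, hker, hdim⟩
  · left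
    exact e.symm.toEquiv.subsingleton
  · right
    refine ⟨n, c, hle, (e : G →ₐ[k] G').comp φ, r, e.surjective.comp hsurj, ?_, ?_⟩
    · rw [← hker]
      ext x
      simp only [RingHom.mem_ker, AlgHom.toRingHom_eq_coe, RingHom.coe_coe, AlgHom.coe_comp,
        AlgHom.coe_coe, Function.comp_apply]
      exact e.map_eq_zero_iff
    · rw [← hdim]
      exact (ringKrullDim_eq_of_ringEquiv e.toRingEquiv).symm

theorem lci_of_algEquiv (e : G ≃ₐ[k] G') (h : Synt.IsLCIOver k G) : Synt.IsLCIOver k G' := by
  obtain ⟨hft, hloc⟩ := h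
  refine ⟨Algebra.FiniteType.equiv hft e, ?_⟩
  intro p'
  obtain ⟨g, hg, hgci⟩ := hloc (PrimeSpectrum.comap (e : G →+* G') p')
  refine ⟨e g, ?_, ?_⟩
  · intro hmem
    apply hg
    simpa using hmem
  · have H : Submonoid.map e (Submonoid.powers g) = Submonoid.powers (e g) := by
      rw [Submonoid.map_powers]
    exact gci_of_algEquiv k _ _
      (IsLocalization.algEquivOfAlgEquiv (Localization.Away g) (Localization.Away (e g)) e H) hgci

end transport

section transport2
variable (R S S' : Type u) [CommRing R] [CommRing S] [CommRing S'] [Algebra R S] [Algebra R S']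

theorem syntomic_of_algEquiv (e : S ≃ₐ[R] S') (h : Synt.IsSyntomic R S) : Synt.IsSyntomic R S' := by
  obtain ⟨hflat, hfp, hfib⟩ := h
  refine ⟨Module.Flat.of_linearEquiv e.symm.toLinearEquiv, Algebra.FinitePresentation.equiv e, ?_⟩
  intro p
  exact lci_of_algEquiv _ _ _ (Algebra.TensorProduct.congr AlgEquiv.refl e) (hfib p)

end transport2
end H18945

namespace H18945
open Polynomial

section sch
variable (p : ℕ) [Fact p.Prime] (W : Scheme.{u}) (a : Γ(W, ⊤))

/-- restriction of `a` to an affine open -/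
noncomputable def aV (V : W.affineOpens) : Γ(W, V.1) := W.presheaf.map (homOfLE le_top).op a

/-- the ring `Γ(W,V)[T]/(T^p - a)` -/
abbrev SV (V : W.affineOpens) : Type u := AdjoinRoot (X ^ p - C (aV W a V) : (Γ(W, V.1))[X])

noncomputable def phi (V : W.affineOpens) : Γ(W, V.1) ⟶ CommRingCat.of (SV p W a V) :=
  CommRingCat.ofHom (algebraMap Γ(W, V.1) (SV p W a V))

noncomputable def YV (V : W.affineOpens) : Scheme.{u} := Spec (CommRingCat.of (SV p W a V))

instance (V : W.affineOpens) : IsAffine (YV p W a V) := by unfold YV; infer_instance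

noncomputable def gV (V : W.affineOpens) : YV p W a V ⟶ W :=
  Spec.map (phi p W a V) ≫ (show IsAffineOpen V.1 from V.2).fromSpec

theorem range_gV (V : W.affineOpens) : Set.range (gV p W a V) = V.1 := by
  have hff : Module.FaithfullyFlat Γ(W, V.1) (SV p W a V) :=
    (Groth.Agent.S18934.result p Γ(W, V.1) (aV W a V)).2
  have hsurj : Function.Surjective (Spec.map (phi p W a V)) := by
    intro x
    obtain ⟨y, hy⟩ := PrimeSpectrum.comap_surjective_of_faithfullyFlat (A := Γ(W, V.1))
      (B := SV p W a V) x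
    exact ⟨y, hy⟩
  have hV : IsAffineOpen V.1 := V.2
  ext x
  constructor
  · rintro ⟨y, rfl⟩
    have : gV p W a V y = hV.fromSpec (Spec.map (phi p W a V) y) := rfl
    rw [this, ← hV.range_fromSpec]
    exact ⟨_, rfl⟩
  · intro hx
    rw [← hV.range_fromSpec] at hx
    obtain ⟨z, rfl⟩ := hx
    obtain ⟨y, rfl⟩ := hsurj z
    exact ⟨y, rfl⟩

end sch
end H18945

namespace H18945
open Polynomial

section sch2
variable (p : ℕ) [Fact p.Prime] (W : Scheme.{u}) (a : Γ(W, ⊤))

theorem top_le (V : W.affineOpens) : (⊤ : (YV p W a V).Opens) ≤ (gV p W a V) ⁻¹ᵁ V.1 := by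
  intro y _
  change (gV p W a V) y ∈ (V.1 : Set W)
  rw [← range_gV p W a V]
  exact ⟨y, rfl⟩

theorem appLE_eq (V : W.affineOpens) :
    (gV p W a V).appLE V.1 ⊤ (top_le p W a V) =
      phi p W a V ≫ (Scheme.ΓSpecIso (CommRingCat.of (SV p W a V))).inv := by
  have hV : IsAffineOpen V.1 := V.2
  apply Spec.map_injective
  have h1 := IsAffineOpen.SpecMap_appLE_fromSpec (gV p W a V) hV (isAffineOpen_top (YV p W a V))
    (top_le p W a V)
  have hmono : Mono hV.fromSpec := inferInstance
  rw [← cancel_mono hV.fromSpec, h1, IsAffineOpen.fromSpec_top]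
  change _ = Spec.map (phi p W a V ≫ _) ≫ _
  rw [Spec.map_comp, Category.assoc]
  change _ ≫ (Spec.map (phi p W a V) ≫ hV.fromSpec) = _
  congr 1
  exact Scheme.isoSpec_Spec_inv _

end sch2
end H18945

namespace H18945
open Polynomial

section sch3
variable (p : ℕ) [Fact p.Prime] (W : Scheme.{u}) (a : Γ(W, ⊤))

theorem syntomicAt (V : W.affineOpens) (y : YV p W a V) : Synt.IsSyntomicAt (gV p W a V) y := by
  refine ⟨⟨⊤, isAffineOpen_top _⟩, V, top_le p W a V, trivial, ?_⟩
  letI : Algebra Γ(W, V.1) Γ(YV p W a V, ⊤) :=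
    ((gV p W a V).appLE V.1 ⊤ (top_le p W a V)).hom.toAlgebra
  have hsyn : Synt.IsSyntomic Γ(W, V.1) (SV p W a V) :=
    (Groth.Agent.S18934.result p Γ(W, V.1) (aV W a V)).1
  let e0 : SV p W a V ≃+* Γ(YV p W a V, ⊤) :=
    (Scheme.ΓSpecIso (CommRingCat.of (SV p W a V))).symm.commRingCatIsoToRingEquiv
  let e : SV p W a V ≃ₐ[Γ(W, V.1)] Γ(YV p W a V, ⊤) :=
    { e0 with
      commutes' := by
        intro r
        change (Scheme.ΓSpecIso (CommRingCat.of (SV p W a V))).inv (phi p W a V r) =
          ((gV p W a V).appLE V.1 ⊤ (top_le p W a V)) r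
        rw [appLE_eq]
        rfl }
  exact syntomic_of_algEquiv _ _ _ e hsyn

end sch3
end H18945

namespace H18945
open Polynomial

section fin
variable (p : ℕ) [Fact p.Prime] (W : Scheme.{u}) (a : Γ(W, ⊤))

theorem appTop_eq (V : W.affineOpens) :
    (gV p W a V).appTop a =
      (Scheme.ΓSpecIso (CommRingCat.of (SV p W a V))).inv (phi p W a V (aV W a V)) := by
  have hV : IsAffineOpen V.1 := V.2
  have h1 : (gV p W a V).appTop = hV.fromSpec.appTop ≫ (Spec.map (phi p W a V)).appTop := by
    unfold gV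
    rw [Scheme.Hom.comp_appTop]
    rfl
  have h2 : hV.fromSpec.appTop = W.presheaf.map (homOfLE le_top).op ≫
      (Scheme.ΓSpecIso Γ(W, V.1)).inv := by
    have h7 := congrArg Scheme.Hom.appTop hV.fromSpec_toSpecΓ
    rw [Scheme.Hom.comp_appTop, Scheme.toSpecΓ_appTop] at h7
    rw [← cancel_epi (Scheme.ΓSpecIso Γ(W, ⊤)).hom, h7, ← Category.assoc, Iso.eq_comp_inv,
      Scheme.ΓSpecIso_naturality]
  rw [h1, h2]
  simp only [CommRingCat.comp_apply]
  have h3 := Scheme.ΓSpecIso_inv_naturality (phi p W a V)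
  have h4 := congrArg (fun f => f (aV W a V)) h3
  simp only [CommRingCat.comp_apply] at h4
  exact h4.symm

theorem main : ∃ 𝒰 : Scheme.Cover.{u} (Scheme.precoverage @Synt.IsSyntomicMor) W,
      ∀ i : 𝒰.I₀, ∃ b : Γ(𝒰.X i, ⊤), b ^ p = (𝒰.f i).appTop a := by
  refine ⟨Scheme.Cover.mkOfCovers W.affineOpens (fun V => YV p W a V) (fun V => gV p W a V)
    ?_ ?_, ?_⟩
  · intro x
    obtain ⟨V, hV, hxV, -⟩ := AlgebraicGeometry.exists_isAffineOpen_mem_and_subset
      (X := W) (U := ⊤) (x := x) trivial
    have : x ∈ Set.range (gV p W a ⟨V, hV⟩) := by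
      rw [range_gV]; exact hxV
    obtain ⟨y, hy⟩ := this
    exact ⟨⟨V, hV⟩, y, hy⟩
  · intro V y
    exact syntomicAt p W a V y
  · intro (V : W.affineOpens)
    refine ⟨(Scheme.ΓSpecIso (CommRingCat.of (SV p W a V))).inv (AdjoinRoot.root _), ?_⟩
    change _ = (gV p W a V).appTop a
    rw [appTop_eq]
    have h : (AdjoinRoot.root (X ^ p - C (aV W a V) : (Γ(W, V.1))[X])) ^ p =
        phi p W a V (aV W a V) := by
      have h := AdjoinRoot.eval₂_root (X ^ p - C (aV W a V) : (Γ(W, V.1))[X])
      simp only [eval₂_sub, eval₂_pow, eval₂_X, eval₂_C, sub_eq_zero] at h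
      rw [h]
      rfl
    rw [← h, map_pow]
    rfl

end fin
end H18945

/-- Let p be a prime, X a scheme and a a global section of the structure sheaf of X. There is a covering
of X for the syntomic topology, that is a jointly surjective family of syntomic morphisms X_i → X,
such that the restriction of a to each X_i is a p-th power. (The source states the surjectivity of
the p-th power map of the structure sheaf on the small syntomic site of a syntomic scheme over a
perfect field of characteristic p; the covering it uses elsewhere, adjoining a p-th root T^p = a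
over affine pieces, gives the statement for every scheme, which is the form given here.) -/
theorem result (p : ℕ) [Fact p.Prime] (X : Scheme.{u}) (a : Γ(X, ⊤)) :
    ∃ 𝒰 : Scheme.Cover.{u} (Scheme.precoverage @Synt.IsSyntomicMor) X,
      ∀ i : 𝒰.I₀, ∃ b : Γ(𝒰.X i, ⊤), b ^ p = (𝒰.f i).appTop a := by
  exact H18945.main p X a

end Groth.Agent.S18945
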