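import Groth.Statements.S18946
import Mathlib

set_option autoImplicit false
universe u
open scoped BigOperators
open InvQ

namespace Groth.Agent.S18946

namespace H18946

open MvPolynomial

variable {k : Type*} [Field k] {n : ℕ}

/-- the character attached to an exponent vector -/
noncomputable def chi (σ : Fin (n + 1) → kˣ) (s : Fin (n + 1) →₀ ℕ) : k :=
  s.prod fun i e => ((σ i : k)) ^ e

theorem aeval_monomial_scale (σ : Fin (n + 1) → kˣ) (s : Fin (n + 1) →₀ ℕ) (a : k) :
    aeval (fun i => C (σ i : k) * X i) (monomial s a) =
      (monomial s (a * chi σ s) : MvPolynomial (Fin (n + 1)) k) := by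
  rw [aeval_monomial]
  have : (s.prod fun i e => (C (σ i : k) * X i : MvPolynomial (Fin (n + 1)) k) ^ e) =
      C (chi σ s) * monomial s 1 := by
    unfold chi
    rw [monomial_eq, Finsupp.prod, Finsupp.prod, Finsupp.prod, map_prod, C_1, one_mul,
      ← Finset.prod_mul_distrib]
    apply Finset.prod_congr rfl
    intro i _
    rw [mul_pow, map_pow]
  rw [this, algebraMap_eq, ← mul_assoc, ← C_mul, C_mul_monomial, mul_one]

theorem coeff_aeval_scale (σ : Fin (n + 1) → kˣ) (f : MvPolynomial (Fin (n + 1)) k)
    (m : Fin (n + 1) →₀ ℕ) :
    coeff m (aeval (fun i => C (σ i : k) * X i) f) = coeff m f * chi σ m := by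
  induction f using MvPolynomial.induction_on' with
  | monomial s a =>
    rw [aeval_monomial_scale, coeff_monomial, coeff_monomial]
    split_ifs with h
    · rw [h]
    · rw [zero_mul]
  | add p q hp hq =>
    rw [map_add, coeff_add, coeff_add, hp, hq, add_mul]

theorem chi_eq (σ : Fin (n + 1) → kˣ) (s : Fin (n + 1) →₀ ℕ) :
    chi σ s = ∏ l, ((σ l : k)) ^ (s l) := by
  unfold chi
  rw [Finsupp.prod_fintype]
  intro i
  rw [pow_zero]

theorem main [CharZero k] (f : MvPolynomial (Fin (n + 1)) k) :
    (∀ σ : Fin (n + 1) → kˣ, ∏ i, (σ i : k) = 1 →
        MvPolynomial.aeval (fun i => MvPolynomial.C (σ i : k) * MvPolynomial.X i) f = f) ↔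
      f ∈ Algebra.adjoin k ({∏ i : Fin (n + 1), MvPolynomial.X i} : Set (MvPolynomial (Fin (n + 1)) k)) := by
  classical
  constructor
  · intro h
    have key : ∀ m ∈ f.support, ∀ i j : Fin (n + 1), m i = m j := by
      intro m hm i j
      by_cases hij : i = j
      · rw [hij]
      let two : kˣ := Units.mk0 (2 : k) two_ne_zero
      let σ : Fin (n + 1) → kˣ := fun l => if l = i then two else if l = j then two⁻¹ else 1
      have hprod : ∏ l, (σ l : k) = 1 := by
        rw [Finset.prod_eq_mul i j hij]
        · simp only [σ, if_true]
          rw [if_neg (Ne.symm hij)]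
          exact Units.mul_inv two
        · intro c _ hc
          simp only [σ]
          rw [if_neg hc.1, if_neg hc.2]
          rfl
        · intro h; exact absurd (Finset.mem_univ i) h
        · intro h; exact absurd (Finset.mem_univ j) h
      have h1 := congrArg (coeff m) (h σ hprod)
      rw [coeff_aeval_scale] at h1
      have hc : coeff m f ≠ 0 := by rwa [mem_support_iff] at hm
      have h2 : chi σ m = 1 := by
        have : coeff m f * chi σ m = coeff m f * 1 := by rw [h1, mul_one]
        exact mul_left_cancel₀ hc this
      rw [chi_eq, Finset.prod_eq_mul i j hij] at h2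
      · simp only [σ, if_true] at h2
        rw [if_neg (Ne.symm hij)] at h2
        have h3 : (2 : k) ^ (m i) = (2 : k) ^ (m j) := by
          have : ((two⁻¹ : kˣ) : k) = (2 : k)⁻¹ := by simp [two]
          rw [this] at h2
          have htwo : ((two : kˣ) : k) = 2 := rfl
          rw [htwo, inv_pow] at h2
          field_simp at h2
          exact h2
        have h4 : ((2 ^ (m i) : ℕ) : k) = ((2 ^ (m j) : ℕ) : k) := by
          push_cast; exact h3
        have h5 := Nat.cast_injective h4
        exact Nat.pow_right_injective (le_refl 2) h5
      · intro c _ hc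
        simp only [σ]
        rw [if_neg hc.1, if_neg hc.2]
        simp
      · intro h; exact absurd (Finset.mem_univ i) h
      · intro h; exact absurd (Finset.mem_univ j) h
    rw [f.as_sum]
    apply Subalgebra.sum_mem
    intro m hm
    have hm' : ∀ l, m l = m 0 := fun l => key m hm l 0
    rw [monomial_eq, Finsupp.prod_fintype _ _ (fun i => pow_zero _)]
    simp only [hm']
    rw [Finset.prod_pow]
    apply Subalgebra.mul_mem
    · exact Subalgebra.algebraMap_mem _ _
    · apply Subalgebra.pow_mem
      exact Algebra.subset_adjoin rfl
  · intro hf σ hσ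
    have hle : Algebra.adjoin k ({∏ i : Fin (n + 1), X i} : Set (MvPolynomial (Fin (n + 1)) k)) ≤
        AlgHom.equalizer (aeval (fun i => C (σ i : k) * X i)) (AlgHom.id k _) := by
      apply Algebra.adjoin_le
      intro p hp
      rw [Set.mem_singleton_iff] at hp
      subst hp
      show aeval (fun i => C (σ i : k) * X i) (∏ i, X i) = ∏ i, X i
      rw [map_prod]
      simp only [aeval_X]
      rw [Finset.prod_mul_distrib, ← map_prod, hσ, C_1, one_mul]
    exact hle hf

end H18946

/-- Let k be an algebraically closed field of characteristic zero and n a natural number, and let the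
torus of (n+1)-tuples of units of k with product 1 act on the polynomial ring k[t_0, ..., t_n] by
rescaling each variable t_i by the i-th unit. A polynomial is fixed by every such rescaling if and
only if it lies in the k-subalgebra generated by the product t_0 t_1 ... t_n. (This is the
computation of the ring of functions on affine (n+1)-space invariant under the maximal diagonal
torus of the special linear group, identified with the polynomial ring in the single coordinate t =
t_0 ... t_n of the line it maps to by the product map; invariance is tested on k-valued points of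
the torus, which over an infinite field is the same as invariance under the group scheme.) -/
theorem result
    (k : Type u) [Field k] [IsAlgClosed k] [CharZero k] (n : ℕ)
    (f : MvPolynomial (Fin (n + 1)) k) :
    (∀ σ : Fin (n + 1) → kˣ, ∏ i, (σ i : k) = 1 →
        MvPolynomial.aeval (fun i => MvPolynomial.C (σ i : k) * MvPolynomial.X i) f = f) ↔
      f ∈ Algebra.adjoin k ({∏ i : Fin (n + 1), MvPolynomial.X i} : Set (MvPolynomial (Fin (n + 1)) k)) := by
  exact H18946.main f

end Groth.Agent.S18946
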