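import Groth.Statements.S18949
import Mathlib

set_option autoImplicit false
universe u v
open CExt

namespace Groth.Agent.S18949

/-- Automorphisms over the base: let f : E → G be a surjective homomorphism of groups with central
kernel A. For every homomorphism χ : G → A the map e ↦ χ(f(e)) · e is an endomorphism of E over G
which is the identity on A; and every endomorphism α of E with f ∘ α = f and α equal to the identity
on A is of this form for exactly one χ. (In the source this identifies the automorphisms of a
central extension fixing its kernel with Hom(G, A), for extensions of profinite étale group schemes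
over a field; stated here for abstract groups.) -/
theorem result {E : Type u} {G : Type v} [Group E] [Group G]
    (f : E →* G) (hf : Function.Surjective f) (hker : f.ker ≤ Subgroup.center E) :
    (∀ χ : G →* f.ker, ∃ α : E →* E, f.comp α = f ∧ (∀ a ∈ f.ker, α a = a) ∧
        ∀ e : E, α e = (χ (f e) : E) * e) ∧
      ∀ α : E →* E, f.comp α = f → (∀ a ∈ f.ker, α a = a) →
        ∃! χ : G →* f.ker, ∀ e : E, α e = (χ (f e) : E) * e := by
  constructor
  · intro χ
    have hcen : ∀ g : G, ∀ e : E, e * (χ g : E) = (χ g : E) * e := fun g e =>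
      Subgroup.mem_center_iff.1 (hker (χ g).2) e
    refine ⟨MonoidHom.mk' (fun e => (χ (f e) : E) * e) ?_, ?_, ?_, ?_⟩
    · intro a b
      simp only [map_mul, Subgroup.coe_mul]
      calc (χ (f a) : E) * (χ (f b) : E) * (a * b)
          = (χ (f a) : E) * ((χ (f b) : E) * a) * b := by group
        _ = (χ (f a) : E) * (a * (χ (f b) : E)) * b := by rw [hcen]
        _ = (χ (f a) : E) * a * ((χ (f b) : E) * b) := by group
    · ext e
      simp only [MonoidHom.comp_apply, MonoidHom.mk'_apply, map_mul]
      have : f (χ (f e) : E) = 1 := MonoidHom.mem_ker.1 (χ (f e)).2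
      rw [this, one_mul]
    · intro a ha
      simp only [MonoidHom.mk'_apply]
      rw [MonoidHom.mem_ker.1 ha, map_one]; simp
    · intro e; rfl
  · intro α hα hαA
    have hfα : ∀ e, f (α e) = f e := fun e => by
      have := congrArg (fun φ => φ e) hα
      simpa using this
    -- the difference cocycle
    have hd_ker : ∀ e : E, α e * e⁻¹ ∈ f.ker := fun e => by
      rw [MonoidHom.mem_ker, map_mul, map_inv, hfα]; simp
    have hd_cen : ∀ e x : E, x * (α e * e⁻¹) = (α e * e⁻¹) * x := fun e x =>
      Subgroup.mem_center_iff.1 (hker (hd_ker e)) x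
    have hd_mul : ∀ a b : E, α (a * b) * (a * b)⁻¹ = (α a * a⁻¹) * (α b * b⁻¹) := by
      intro a b
      calc α (a * b) * (a * b)⁻¹ = α a * ((α b * b⁻¹) * a⁻¹) := by
            rw [map_mul]; group
        _ = α a * (a⁻¹ * (α b * b⁻¹)) := by rw [hd_cen b a⁻¹]
        _ = (α a * a⁻¹) * (α b * b⁻¹) := by group
    have hd_wd : ∀ a b : E, f a = f b → α a * a⁻¹ = α b * b⁻¹ := by
      intro a b hab
      have hk : a⁻¹ * b ∈ f.ker := by
        rw [MonoidHom.mem_ker, map_mul, map_inv, hab]; simp
      have hb : b = a * (a⁻¹ * b) := by group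
      have h1 : α b * b⁻¹ = (α a * a⁻¹) * (α (a⁻¹ * b) * (a⁻¹ * b)⁻¹) := by
        rw [← hd_mul, ← hb]
      rw [h1, hαA _ hk]; simp
    let s : G → E := Function.surjInv hf
    have hs : ∀ g, f (s g) = g := Function.surjInv_eq hf
    let χ : G →* f.ker := MonoidHom.mk' (fun g => ⟨α (s g) * (s g)⁻¹, hd_ker (s g)⟩) (by
      intro a b
      apply Subtype.ext
      simp only [Subgroup.coe_mul]
      rw [← hd_mul]
      apply hd_wd
      rw [hs, map_mul, hs, hs])
    have hχ : ∀ e : E, α e = (χ (f e) : E) * e := by
      intro e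
      have : (χ (f e) : E) = α e * e⁻¹ := hd_wd _ _ (hs (f e))
      rw [this]; group
    refine ⟨χ, hχ, ?_⟩
    intro χ' hχ'
    ext g
    obtain ⟨e, rfl⟩ := hf g
    have h1 := hχ e
    have h2 := hχ' e
    rw [h1] at h2
    exact (mul_right_cancel h2).symm

end Groth.Agent.S18949
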