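import Groth.Statements.S18954
import Mathlib

set_option autoImplicit false
universe u v w
open Classical
open BGCount

namespace Groth.Agent.S18954

/-- Let a finite group G act on a finite set X, let W be a finite set of orbits and f a function on
orbits with values in a field of characteristic zero. Then Σ_{O ∈ W} f(O)/|Stab(x_O)|, with x_O any
point of O, equals |G|⁻¹ · Σ f(orbit(x)) over the points x of X whose orbit lies in W. (In the
source X is the set of 1-cocycles of the absolute Galois group of a field in a finite étale group
scheme G, acted on by the geometric points of G, the orbits are the isomorphism classes of G-torsors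
and the stabilisers their automorphism groups; stated here for an arbitrary action of a finite group
on a finite set, the representative x_O being chosen by Quotient.out.) -/
theorem result {G : Type u} {X : Type v} (𝕜 : Type w)
    [Group G] [Fintype G] [MulAction G X] [Fintype X] [Field 𝕜] [CharZero 𝕜]
    (W : Finset (MulAction.orbitRel.Quotient G X)) (f : MulAction.orbitRel.Quotient G X → 𝕜) :
    (∑ O ∈ W, f O / (Nat.card (MulAction.stabilizer G O.out) : 𝕜)) =
      (Fintype.card G : 𝕜)⁻¹ *
        ∑ x ∈ Finset.univ.filter (fun x : X => (Quotient.mk (MulAction.orbitRel G X) x) ∈ W),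
          f (Quotient.mk (MulAction.orbitRel G X) x) := by
  rw [Finset.mul_sum]
  rw [← Finset.sum_fiberwise_of_maps_to
    (s := Finset.univ.filter (fun x : X => (Quotient.mk (MulAction.orbitRel G X) x) ∈ W))
    (t := W) (g := fun x => Quotient.mk (MulAction.orbitRel G X) x)
    (by intro x hx; simpa using hx)]
  apply Finset.sum_congr rfl
  intro O hO
  have hset : (((Finset.univ.filter (fun x : X => (Quotient.mk (MulAction.orbitRel G X) x) ∈ W)).filter
      (fun x => Quotient.mk (MulAction.orbitRel G X) x = O) : Finset X) : Set X)
      = MulAction.orbit G O.out := by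
    rw [← MulAction.orbitRel.Quotient.orbit_eq_orbit_out O Quotient.out_eq']
    ext x
    simp only [Finset.coe_filter, Finset.mem_filter, Finset.mem_univ, true_and, Set.mem_setOf_eq,
      MulAction.orbitRel.Quotient.mem_orbit]
    constructor
    · rintro ⟨_, h⟩; exact h
    · intro h
      refine ⟨?_, h⟩
      have : Quotient.mk (MulAction.orbitRel G X) x = O := h
      rw [this]; exact hO
  have hcard : ((Finset.univ.filter (fun x : X => (Quotient.mk (MulAction.orbitRel G X) x) ∈ W)).filter
      (fun x => Quotient.mk (MulAction.orbitRel G X) x = O)).card * Nat.card (MulAction.stabilizer G O.out)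
      = Fintype.card G := by
    rw [← Set.ncard_coe_finset, hset, ← MulAction.index_stabilizer, mul_comm, Subgroup.card_mul_index,
      Nat.card_eq_fintype_card]
  rw [Finset.sum_congr rfl (g := fun _ => (Fintype.card G : 𝕜)⁻¹ * f O)
    (by intro x hx; rw [(Finset.mem_filter.1 hx).2])]
  rw [Finset.sum_const, nsmul_eq_mul]
  have hG : (Fintype.card G : 𝕜) ≠ 0 := Nat.cast_ne_zero.2 Fintype.card_ne_zero
  have hS : (Nat.card (MulAction.stabilizer G O.out) : 𝕜) ≠ 0 := by
    apply Nat.cast_ne_zero.2
    exact Nat.card_pos.ne'
  have hcard' : (((Finset.univ.filter (fun x : X => (Quotient.mk (MulAction.orbitRel G X) x) ∈ W)).filter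
      (fun x => Quotient.mk (MulAction.orbitRel G X) x = O)).card : 𝕜) * (Nat.card (MulAction.stabilizer G O.out) : 𝕜)
      = (Fintype.card G : 𝕜) := by
    rw [← Nat.cast_mul, hcard]
  have hc : (((Finset.univ.filter (fun x : X => (Quotient.mk (MulAction.orbitRel G X) x) ∈ W)).filter
      (fun x => Quotient.mk (MulAction.orbitRel G X) x = O)).card : 𝕜) ≠ 0 := by
    intro h0
    rw [h0, zero_mul] at hcard'
    exact hG hcard'.symm
  rw [← hcard']
  field_simp

end Groth.Agent.S18954
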