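import Groth.Statements.S18957
import Mathlib

set_option autoImplicit false
universe u
open CategoryTheory MonoidalCategory CartesianMonoidalCategory MonObj AlgebraicGeometry Opposite
open Magnet

open Limits

namespace Groth.Agent.S18957

/-- Let k be a field, M a monoid k-scheme with an action a on a k-scheme X, G a group k-scheme and i : G
→ M a homomorphism of monoids which is a quasi-compact open immersion with scheme-theoretically
dense image. Let j : Z → X be a closed immersion and b an action of G on Z for which j is
equivariant, G acting on X through i and a (a closed G-stable subscheme). Then the G-action on Z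
extends to an M-action making j equivariant: there is an action c of M on Z such that j is
equivariant for c and a and the restriction of c along i is b. (The published statement takes G to
be the group of units of M, schematically dense in M; here it is assumed only that i is a
homomorphism of monoids and a quasi-compact, scheme-theoretically dominant open immersion.) -/
theorem result (k : Type u) [Field k]
    (M G X Z : Over (Spec (CommRingCat.of k))) [MonObj M] [GrpObj G]
    (i : G ⟶ M) [IsMonHom i] [IsOpenImmersion i.left] [QuasiCompact i.left]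
    [IsSchemeTheoreticallyDominant i.left]
    (a : Magnet.MonAct M X) (b : AlgGrp.Action G Z) (j : Z ⟶ X) [IsClosedImmersion j.left]
    (hj : Magnet.MonAct.IsEquivariant (Magnet.MonAct.ofAction b) (a.restrict i) j) :
    ∃ c : Magnet.MonAct M Z, Magnet.MonAct.IsEquivariant c a j ∧ c.restrict i = Magnet.MonAct.ofAction b := by
  -- `j` is a monomorphism of `Over`
  haveI hjm : Mono j := (Over.forget _).mono_of_mono_map (inferInstanceAs (Mono j.left))
  -- the square is a pullback
  have hpb : IsPullback (pullback.fst G.hom Z.hom) ((i ▷ Z).left) i.left (pullback.fst M.hom Z.hom) := by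
    have hr : IsPullback (pullback.snd M.hom Z.hom) (pullback.fst M.hom Z.hom) Z.hom M.hom :=
      (IsPullback.of_hasPullback M.hom Z.hom).flip
    have ho : IsPullback ((i ▷ Z).left ≫ pullback.snd M.hom Z.hom) (pullback.fst G.hom Z.hom) Z.hom
        (i.left ≫ M.hom) := by
      rw [Over.whiskerRight_left_snd, Over.w i]
      exact (IsPullback.of_hasPullback G.hom Z.hom).flip
    exact (IsPullback.of_right ho (Over.whiskerRight_left_fst i) hr).flip
  haveI : Flat Z.hom := inferInstance
  haveI : Flat (pullback.fst M.hom Z.hom) := inferInstance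
  haveI hdom : IsSchemeTheoreticallyDominant ((i ▷ Z).left) :=
    IsSchemeTheoreticallyDominant.of_isPullback hpb
  -- the candidate action map
  let φ : M ⊗ Z ⟶ X := (M ◁ j) ≫ a.act
  have hφ : (i ▷ Z) ≫ φ = b.act ≫ j := by
    have h1 : (Magnet.MonAct.ofAction b).act ≫ j = (G ◁ j) ≫ (a.restrict i).act := hj
    rw [Magnet.MonAct.ofAction_act, Magnet.MonAct.restrict_act] at h1
    rw [h1]
    dsimp only [φ]
    rw [← whisker_exchange_assoc]
  have hker : j.left.ker ≤ φ.left.ker := by
    have h2 : ((i ▷ Z).left ≫ φ.left).ker = φ.left.ker := by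
      rw [Scheme.Hom.ker_comp, hdom.ker_eq_bot, Scheme.IdealSheafData.map_bot]
    rw [← h2]
    have h3 : (i ▷ Z).left ≫ φ.left = b.act.left ≫ j.left := by
      rw [← Over.comp_left, hφ, Over.comp_left]
    rw [h3]
    exact Scheme.Hom.le_ker_comp _ _
  let ψl : (M ⊗ Z).left ⟶ Z.left := IsClosedImmersion.lift j.left φ.left hker
  have hψl : ψl ≫ j.left = φ.left := IsClosedImmersion.lift_fac _ _ _
  let ψ : M ⊗ Z ⟶ Z := Over.homMk ψl (by
    rw [← Over.w j, ← Category.assoc, hψl, Over.w φ])
  have hψ : ψ ≫ j = φ := by
    apply Over.OverMorphism.ext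
    exact hψl
  have h1 : (η[M] ▷ Z) ≫ ψ = (λ_ Z).hom := by
    rw [← cancel_mono j, Category.assoc, hψ]
    dsimp only [φ]
    rw [← whisker_exchange_assoc, a.one_act, leftUnitor_naturality]
  have h2 : (μ[M] ▷ Z) ≫ ψ = (α_ M M Z).hom ≫ (M ◁ ψ) ≫ ψ := by
    rw [← cancel_mono j]
    simp only [Category.assoc, hψ]
    dsimp only [φ]
    rw [← whisker_exchange_assoc, a.mul_act, ← whiskerLeft_comp_assoc, hψ]
    dsimp only [φ]
    rw [whiskerLeft_comp_assoc, associator_naturality_right_assoc]
  refine ⟨⟨ψ, h1, h2⟩, hψ, ?_⟩
  apply Magnet.MonAct.ext'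
  rw [Magnet.MonAct.restrict_act, Magnet.MonAct.ofAction_act]
  rw [← cancel_mono j, Category.assoc]
  exact (congrArg (fun t => (i ▷ Z) ≫ t) hψ).trans hφ

end Groth.Agent.S18957
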