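import Groth.Statements.S18960
import Mathlib

set_option autoImplicit false
universe w' w v u
open CategoryTheory Limits
open CatLim

namespace Groth.Agent.S18960

set_option linter.unusedSectionVars false


namespace H18960


variable {C : Type u} [Category.{v} C] (T : C ⥤ C)
  {J : Type w} [Category.{w'} J]

abbrev P : ObjectProperty (Endofunctor.Algebra T) := fun A => IsIso A.str

abbrev π : (P T).FullSubcategory ⥤ C := (P T).ι ⋙ Endofunctor.Algebra.forget T

variable {T}

section
variable (K : J ⥤ (P T).FullSubcategory)

def sj (j : J) : T.obj ((K ⋙ π T).obj j) ⟶ (K ⋙ π T).obj j := (K.obj j).obj.str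

instance (j : J) : IsIso (sj K j) := (K.obj j).property

theorem sj_nat {j j' : J} (f : j ⟶ j') :
    T.map ((K ⋙ π T).map f) ≫ sj K j' = sj K j ≫ (K ⋙ π T).map f :=
  (K.map f).hom.h

variable [PreservesColimitsOfShape J T] (c : Cocone (K ⋙ π T)) (hc : IsColimit c)

/-- structure cocone -/
noncomputable def strCocone : Cocone ((K ⋙ π T) ⋙ T) where
  pt := c.pt
  ι :=
    { app := fun j => sj K j ≫ c.ι.app j
      naturality := fun j j' f => by
        show T.map ((K ⋙ π T).map f) ≫ (sj K j' ≫ c.ι.app j') = (sj K j ≫ c.ι.app j) ≫ 𝟙 _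
        rw [Category.comp_id, ← c.w f, ← Category.assoc, sj_nat, Category.assoc] }

noncomputable def strX : T.obj c.pt ⟶ c.pt :=
  (isColimitOfPreserves T hc).desc (strCocone K c)

theorem ι_strX (j : J) : T.map (c.ι.app j) ≫ strX K c hc = sj K j ≫ c.ι.app j :=
  (isColimitOfPreserves T hc).fac (strCocone K c) j

/-- inverse cocone -/
noncomputable def invCocone : Cocone (K ⋙ π T) where
  pt := T.obj c.pt
  ι :=
    { app := fun j => inv (sj K j) ≫ T.map (c.ι.app j)
      naturality := fun j j' f => by
        show (K ⋙ π T).map f ≫ (inv (sj K j') ≫ T.map (c.ι.app j')) =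
          (inv (sj K j) ≫ T.map (c.ι.app j)) ≫ 𝟙 _
        rw [Category.comp_id, ← c.w f, T.map_comp, IsIso.eq_inv_comp, ← Category.assoc,
          ← Category.assoc, ← sj_nat K f, Category.assoc, Category.assoc, IsIso.hom_inv_id_assoc] }

noncomputable def strXinv : c.pt ⟶ T.obj c.pt := hc.desc (invCocone K c)

theorem ι_strXinv (j : J) : c.ι.app j ≫ strXinv K c hc = inv (sj K j) ≫ T.map (c.ι.app j) :=
  hc.fac (invCocone K c) j

instance strX_iso : IsIso (strX K c hc) := by
  refine ⟨strXinv K c hc, ?_, ?_⟩
  · apply (isColimitOfPreserves T hc).hom_ext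
    intro j
    show T.map (c.ι.app j) ≫ (strX K c hc ≫ strXinv K c hc) = T.map (c.ι.app j) ≫ 𝟙 _
    rw [← Category.assoc, ι_strX, Category.assoc, ι_strXinv, IsIso.hom_inv_id_assoc, Category.comp_id]
  · apply hc.hom_ext
    intro j
    rw [← Category.assoc, ι_strXinv, Category.assoc, ι_strX, IsIso.inv_hom_id_assoc, Category.comp_id]

/-- the lifted object -/
noncomputable def liftObj : (P T).FullSubcategory :=
  ⟨⟨c.pt, strX K c hc⟩, strX_iso K c hc⟩

noncomputable def liftLeg (j : J) : K.obj j ⟶ liftObj K c hc :=
  ObjectProperty.homMk ⟨c.ι.app j, ι_strX K c hc j⟩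

noncomputable def liftCocone : Cocone K where
  pt := liftObj K c hc
  ι :=
    { app := fun j => liftLeg K c hc j
      naturality := fun j j' f => by
        apply ObjectProperty.hom_ext
        apply Endofunctor.Algebra.Hom.ext
        show (K ⋙ π T).map f ≫ c.ι.app j' = c.ι.app j ≫ 𝟙 _
        rw [Category.comp_id, c.w f] }


theorem desc_h (s : Cocone K) :
    T.map (hc.desc ((π T).mapCocone s)) ≫ s.pt.obj.str =
      strX K c hc ≫ hc.desc ((π T).mapCocone s) := by
  set d : c.pt ⟶ s.pt.obj.a := hc.desc ((π T).mapCocone s) with hd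
  have hfac : ∀ j, c.ι.app j ≫ d = (s.ι.app j).hom.f := fun j => hc.fac ((π T).mapCocone s) j
  apply (isColimitOfPreserves T hc).hom_ext
  intro j
  show T.map (c.ι.app j) ≫ (T.map d ≫ s.pt.obj.str) = T.map (c.ι.app j) ≫ (strX K c hc ≫ d)
  have e1 : T.map (c.ι.app j) ≫ (T.map d ≫ s.pt.obj.str) = T.map ((s.ι.app j).hom.f) ≫ s.pt.obj.str := by
    rw [← Category.assoc, ← T.map_comp, hfac]
    rfl
  have e2 : T.map (c.ι.app j) ≫ (strX K c hc ≫ d) = sj K j ≫ (s.ι.app j).hom.f := by
    rw [← Category.assoc, ι_strX, Category.assoc, hfac]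
  rw [e1, e2]
  exact (s.ι.app j).hom.h

noncomputable def liftIsColimit : IsColimit (liftCocone K c hc) where
  desc s := ObjectProperty.homMk ⟨hc.desc ((π T).mapCocone s), desc_h K c hc s⟩
  fac s j := by
    apply ObjectProperty.hom_ext
    apply Endofunctor.Algebra.Hom.ext
    exact hc.fac ((π T).mapCocone s) j
  uniq s m hm := by
    apply ObjectProperty.hom_ext
    apply Endofunctor.Algebra.Hom.ext
    apply hc.uniq ((π T).mapCocone s) m.hom.f
    intro j
    have := congrArg (fun φ => φ.hom.f) (hm j)
    exact this

noncomputable def liftsToColimit : LiftsToColimit K (π T) c hc where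
  liftedCocone := liftCocone K c hc
  validLift := Cocone.ext (Iso.refl _) (fun j => by
    show c.ι.app j ≫ 𝟙 _ = c.ι.app j
    rw [Category.comp_id])
  makesColimit := liftIsColimit K c hc

end

instance : (π T).ReflectsIsomorphisms := by
  unfold π
  infer_instance

theorem main (T : C ⥤ C) (J : Type w) [Category.{w'} J] [PreservesColimitsOfShape J T] :
    Nonempty (CreatesColimitsOfShape J (π T)) :=
  ⟨{ CreatesColimit := fun {K} => createsColimitOfReflectsIso (fun c hc => liftsToColimit K c hc) }⟩

end H18960

/-- Let C be a category and T an endofunctor of C; let C(T) be the category whose objects are pairs (X,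
u) with u : T X → X an isomorphism and whose morphisms (X, u) → (Y, w) are the morphisms X → Y
compatible with u and w — the full subcategory of T-algebras with invertible structure map — and let
π : C(T) → C be the forgetful functor. If T preserves colimits of shape J then π creates colimits of
shape J. (The source assumes T preserves all small colimits and concludes for all small shapes; the
argument is shape by shape.) -/
theorem result {C : Type u} [Category.{v} C] (T : C ⥤ C)
    (J : Type w) [Category.{w'} J] [PreservesColimitsOfShape J T] :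
    Nonempty (CreatesColimitsOfShape J
      ((ObjectProperty.ι (fun A : Endofunctor.Algebra T => IsIso A.str)) ⋙ Endofunctor.Algebra.forget T)) := by
  exact H18960.main T J

end Groth.Agent.S18960
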