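import Groth.Statements.S18974
import Mathlib

set_option autoImplicit false
universe u
open CAlg

namespace Groth.Agent.S18974

section

open PowerSeries

variable {A : Type u} [CommRing A] [Algebra ℚ A] (D : Derivation ℚ A A)

/-- iterate of `D` -/
def Dn (n : ℕ) (x : A) : A := ((D : A →ₗ[ℚ] A) ^ n) x

theorem Dn_zero (x : A) : Dn D 0 x = x := by simp [Dn]

theorem Dn_succ (n : ℕ) (x : A) : Dn D (n + 1) x = Dn D n (D x) := by
  unfold Dn
  rw [pow_succ]
  rfl

theorem Dn_succ' (n : ℕ) (x : A) : Dn D (n + 1) x = D (Dn D n x) := by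
  unfold Dn
  rw [pow_succ']
  rfl

theorem Dn_add (n : ℕ) (x y : A) : Dn D n (x + y) = Dn D n x + Dn D n y := by
  unfold Dn; rw [map_add]

theorem Dn_zero_right (n : ℕ) : Dn D n (0 : A) = 0 := by
  unfold Dn; rw [map_zero]

theorem Dn_add_index (m n : ℕ) (x : A) : Dn D (m + n) x = Dn D m (Dn D n x) := by
  unfold Dn
  rw [pow_add]
  rfl

theorem Dn_eq_zero_of_le {m n : ℕ} (h : m ≤ n) {x : A} (hx : Dn D m x = 0) : Dn D n x = 0 := by
  obtain ⟨k, rfl⟩ := Nat.exists_eq_add_of_le h
  rw [add_comm, Dn_add_index, hx, Dn_zero_right]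

theorem Dn_one (n : ℕ) (hn : 1 ≤ n) : Dn D n (1 : A) = 0 := by
  obtain ⟨k, rfl⟩ := Nat.exists_eq_add_of_le hn
  rw [add_comm, Dn_succ, Derivation.map_one_eq_zero, Dn_zero_right]

/-- the exponential series -/
noncomputable def Ehat (x : A) : PowerSeries A :=
  PowerSeries.mk fun n => ((n.factorial : ℚ)⁻¹) • Dn D n x

theorem coeff_Ehat (n : ℕ) (x : A) :
    coeff n (Ehat D x) = ((n.factorial : ℚ)⁻¹) • Dn D n x := by
  unfold Ehat; rw [coeff_mk]

theorem Ehat_add (x y : A) : Ehat D (x + y) = Ehat D x + Ehat D y := by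
  ext n
  rw [map_add, coeff_Ehat, coeff_Ehat, coeff_Ehat, Dn_add, smul_add]

theorem Ehat_one : Ehat D (1 : A) = 1 := by
  ext n
  rw [coeff_Ehat, coeff_one]
  split_ifs with h
  · subst h; simp [Dn_zero]
  · rw [Dn_one D n (by omega), smul_zero]

theorem deriv_Ehat (x : A) : d⁄dX A (Ehat D x) = Ehat D (D x) := by
  ext n
  rw [coeff_derivative, coeff_Ehat, coeff_Ehat, Dn_succ]
  have h : ((n + 1 : ℕ) : A) = algebraMap ℚ A ((n + 1 : ℕ) : ℚ) := by
    rw [map_natCast]
  have h2 : ((n : A) + 1) = algebraMap ℚ A ((n + 1 : ℕ) : ℚ) := by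
    rw [← h]; push_cast; rfl
  rw [h2, mul_comm, ← Algebra.smul_def, smul_smul]
  congr 1
  rw [Nat.factorial_succ]
  push_cast
  field_simp

theorem natCast_cancel (n : ℕ) {x y : A} (h : x * ((n : A) + 1) = y * ((n : A) + 1)) : x = y := by
  have h2 : ((n : A) + 1) = algebraMap ℚ A ((n + 1 : ℕ) : ℚ) := by
    rw [map_natCast]; push_cast; rfl
  have h3 : ((n : A) + 1) * algebraMap ℚ A (((n + 1 : ℕ) : ℚ)⁻¹) = 1 := by
    rw [h2, ← map_mul, mul_inv_cancel₀ (by positivity), map_one]
  calc x = x * (((n : A) + 1) * algebraMap ℚ A (((n + 1 : ℕ) : ℚ)⁻¹)) := by rw [h3, mul_one]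
    _ = y * (((n : A) + 1) * algebraMap ℚ A (((n + 1 : ℕ) : ℚ)⁻¹)) := by
        rw [← mul_assoc, h, mul_assoc]
    _ = y := by rw [h3, mul_one]

theorem Ehat_mul_coeff : ∀ (n : ℕ) (x y : A),
    coeff n (Ehat D x * Ehat D y) = coeff n (Ehat D (x * y)) := by
  intro n
  induction n with
  | zero =>
    intro x y
    rw [coeff_zero_eq_constantCoeff_apply, map_mul, ← coeff_zero_eq_constantCoeff_apply,
      ← coeff_zero_eq_constantCoeff_apply]
    simp [coeff_Ehat, Dn_zero]
  | succ n ih =>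
    intro x y
    apply natCast_cancel n
    rw [← coeff_derivative, ← coeff_derivative, deriv_Ehat, Derivation.leibniz, deriv_Ehat, deriv_Ehat,
      Derivation.leibniz, smul_eq_mul, smul_eq_mul, map_add, ih, mul_comm (Ehat D y), ih,
      smul_eq_mul, smul_eq_mul, Ehat_add, map_add, mul_comm (D x) y]

theorem Ehat_mul (x y : A) : Ehat D (x * y) = Ehat D x * Ehat D y := by
  ext n
  rw [Ehat_mul_coeff]

variable (hnil : ∀ x : A, ∃ n : ℕ, Dn D n x = 0)

/-- the exponential polynomial -/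
noncomputable def Epoly (x : A) : Polynomial A := by
  classical
  exact trunc (Nat.find (hnil x)) (Ehat D x)

theorem coe_Epoly (x : A) : ((Epoly D hnil x : Polynomial A) : PowerSeries A) = Ehat D x := by
  classical
  ext n
  rw [Polynomial.coeff_coe]
  unfold Epoly
  rw [coeff_trunc]
  split_ifs with h
  · rfl
  · rw [coeff_Ehat, Dn_eq_zero_of_le D (not_lt.mp h) (Nat.find_spec (hnil x)), smul_zero]

theorem coeff_Epoly (n : ℕ) (x : A) :
    (Epoly D hnil x).coeff n = ((n.factorial : ℚ)⁻¹) • Dn D n x := by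
  rw [← Polynomial.coeff_coe, coe_Epoly, coeff_Ehat]

/-- the exponential ring hom -/
noncomputable def E : A →+* Polynomial A where
  toFun := Epoly D hnil
  map_one' := by
    apply Polynomial.coe_injective
    rw [coe_Epoly, Ehat_one, Polynomial.coe_one]
  map_mul' x y := by
    apply Polynomial.coe_injective
    rw [coe_Epoly, Polynomial.coe_mul, coe_Epoly, coe_Epoly, Ehat_mul]
  map_zero' := by
    apply Polynomial.coe_injective
    rw [coe_Epoly, Polynomial.coe_zero]
    ext n
    rw [coeff_Ehat, Dn_zero_right, smul_zero, map_zero]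
  map_add' x y := by
    apply Polynomial.coe_injective
    rw [coe_Epoly, Polynomial.coe_add, coe_Epoly, coe_Epoly, Ehat_add]

theorem coeff_E (n : ℕ) (x : A) :
    (E D hnil x).coeff n = ((n.factorial : ℚ)⁻¹) • Dn D n x := coeff_Epoly D hnil n x

theorem E_eq_sum (x : A) (N : ℕ) (hN : Dn D N x = 0) :
    E D hnil x = ∑ n ∈ Finset.range N,
      (((n.factorial : ℚ)⁻¹) • Polynomial.C (Dn D n x)) * Polynomial.X ^ n := by
  ext m
  rw [coeff_E, Polynomial.finset_sum_coeff]
  have : ∀ n ∈ Finset.range N,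
      ((((n.factorial : ℚ)⁻¹) • Polynomial.C (Dn D n x)) * Polynomial.X ^ n).coeff m
        = if n = m then ((n.factorial : ℚ)⁻¹) • Dn D n x else 0 := by
    intro n _
    rw [smul_mul_assoc, Polynomial.coeff_smul, Polynomial.coeff_C_mul_X_pow]
    split_ifs with h1 h2 h2
    · rfl
    · exact absurd h1.symm h2
    · exact absurd h2.symm h1
    · rw [smul_zero]
  rw [Finset.sum_congr rfl this, Finset.sum_ite_eq']
  split_ifs with h
  · rfl
  · rw [Finset.mem_range, not_lt] at h
    rw [Dn_eq_zero_of_le D h hN, smul_zero]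

theorem derivative_E (x : A) : Polynomial.derivative (E D hnil x) = E D hnil (D x) := by
  apply Polynomial.coe_injective
  rw [← derivative_coe]
  change d⁄dX A ((Epoly D hnil x : Polynomial A) : PowerSeries A) = ((Epoly D hnil (D x) : Polynomial A) : PowerSeries A)
  rw [coe_Epoly, coe_Epoly, deriv_Ehat]


section slice
variable (a : A) (ha : D a = 1)
include ha

theorem Dn_mul_a (n : ℕ) (y : A) :
    Dn D (n + 1) (a * y) = a * Dn D (n + 1) y + ((n : A) + 1) * Dn D n y := by
  induction n with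
  | zero =>
    rw [Dn_succ', Dn_succ', Dn_zero, Dn_zero, Derivation.leibniz, ha]
    simp only [smul_eq_mul, Nat.cast_zero, zero_add, one_mul, mul_one]
  | succ n ih =>
    rw [Dn_succ', ih, map_add, Derivation.leibniz, ha, ← Dn_succ']
    have : D (((n : A) + 1) * Dn D n y) = ((n : A) + 1) * Dn D (n + 1) y := by
      rw [Derivation.leibniz, ← Dn_succ' D n]
      have : D ((n : A) + 1) = 0 := by
        have : ((n : A) + 1) = ((n + 1 : ℕ) : A) := by push_cast; rfl
        rw [this, Derivation.map_natCast]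
      rw [this]
      simp
    rw [this]
    simp only [smul_eq_mul]
    push_cast
    ring

theorem natCast_mul_cancel (n : ℕ) {z : A} (h : ((n : A) + 1) * z = 0) : z = 0 := by
  apply natCast_cancel n
  rw [mul_comm, h, zero_mul]

include hnil in
theorem idx_lemma (N : ℕ) (y : A) (h : Dn D (N + 1) (a * y) = 0) : Dn D N y = 0 := by
  classical
  by_cases hM : Nat.find (hnil y) ≤ N
  · exact Dn_eq_zero_of_le D hM (Nat.find_spec (hnil y))
  · exfalso
    obtain ⟨M', hM'⟩ : ∃ M', Nat.find (hnil y) = M' + 1 := ⟨Nat.find (hnil y) - 1, by omega⟩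
    have h1 : Dn D (M' + 1) (a * y) = 0 := Dn_eq_zero_of_le D (by omega) h
    rw [Dn_mul_a D a ha] at h1
    have h2 : Dn D (M' + 1) y = 0 := by
      rw [← hM']; exact Nat.find_spec (hnil y)
    rw [h2, mul_zero, zero_add] at h1
    have h3 := natCast_mul_cancel D a ha M' h1
    exact Nat.find_min (hnil y) (by omega : M' < Nat.find (hnil y)) h3

theorem cond_lemma (y : A) (h : ∀ n, Dn D n (a * y) ∈ Ideal.span ({a} : Set A)) :
    ∀ n, Dn D n y ∈ Ideal.span ({a} : Set A) := by
  intro n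
  have h1 := h (n + 1)
  rw [Dn_mul_a D a ha] at h1
  have h2 : a * Dn D (n + 1) y ∈ Ideal.span ({a} : Set A) :=
    Ideal.mul_mem_right _ _ (Ideal.subset_span rfl)
  have h3 : ((n : A) + 1) * Dn D n y ∈ Ideal.span ({a} : Set A) := by
    have := Ideal.sub_mem _ h1 h2
    simpa using this
  have h4 := Ideal.mul_mem_left _ (algebraMap ℚ A (((n + 1 : ℕ) : ℚ)⁻¹)) h3
  have h5 : algebraMap ℚ A (((n + 1 : ℕ) : ℚ)⁻¹) * ((n : A) + 1) = 1 := by
    have h2 : ((n : A) + 1) = algebraMap ℚ A ((n + 1 : ℕ) : ℚ) := by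
      rw [map_natCast]; push_cast; rfl
    rw [h2, ← map_mul, inv_mul_cancel₀ (by positivity), map_one]
  rwa [← mul_assoc, h5, one_mul] at h4

include hnil in
theorem inj_aux : ∀ (N : ℕ) (x : A), Dn D N x = 0 →
    (∀ n, Dn D n x ∈ Ideal.span ({a} : Set A)) → x = 0 := by
  intro N
  induction N with
  | zero =>
    intro x hx _
    rwa [Dn_zero] at hx
  | succ N ih =>
    intro x hx hc
    have h0 := hc 0
    rw [Dn_zero, Ideal.mem_span_singleton'] at h0
    obtain ⟨y, rfl⟩ := h0
    rw [mul_comm] at hx hc ⊢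
    have hy := ih y (idx_lemma D hnil a ha N y hx) (cond_lemma D a ha y hc)
    rw [hy, mul_zero]

/-- the candidate map -/
noncomputable def chi0 : A →+* Polynomial (A ⧸ Ideal.span ({a} : Set A)) :=
  (Polynomial.mapRingHom (Ideal.Quotient.mk (Ideal.span ({a} : Set A)))).comp (E D hnil)

omit ha in
theorem coeff_chi0 (n : ℕ) (x : A) :
    (chi0 D hnil a x).coeff n
      = Ideal.Quotient.mk (Ideal.span ({a} : Set A)) (((n.factorial : ℚ)⁻¹) • Dn D n x) := by
  unfold chi0
  rw [RingHom.comp_apply, Polynomial.coe_mapRingHom, Polynomial.coeff_map, coeff_E]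

theorem chi0_injective : Function.Injective (chi0 D hnil a) := by
  rw [injective_iff_map_eq_zero]
  intro x hx
  obtain ⟨N, hN⟩ := hnil x
  apply inj_aux D hnil a ha N x hN
  intro n
  have h1 : (chi0 D hnil a x).coeff n = 0 := by rw [hx, Polynomial.coeff_zero]
  rw [coeff_chi0, Ideal.Quotient.eq_zero_iff_mem] at h1
  have h2 := Ideal.mul_mem_left _ (algebraMap ℚ A (n.factorial : ℚ)) h1
  rwa [← Algebra.smul_def, smul_smul, mul_inv_cancel₀ (by positivity), one_smul] at h2

omit ha in
theorem chi0_eq_sum (x : A) (N : ℕ) (hN : Dn D N x = 0) :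
    chi0 D hnil a x = ∑ n ∈ Finset.range N,
      (((n.factorial : ℚ)⁻¹) • Polynomial.C (Ideal.Quotient.mk (Ideal.span ({a} : Set A)) (Dn D n x)))
        * Polynomial.X ^ n := by
  ext m
  rw [coeff_chi0, Polynomial.finset_sum_coeff]
  have : ∀ n ∈ Finset.range N,
      ((((n.factorial : ℚ)⁻¹) • Polynomial.C (Ideal.Quotient.mk (Ideal.span ({a} : Set A)) (Dn D n x)))
        * Polynomial.X ^ n).coeff m
        = if n = m then Ideal.Quotient.mk (Ideal.span ({a} : Set A)) (((n.factorial : ℚ)⁻¹) • Dn D n x)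
          else 0 := by
    intro n _
    rw [smul_mul_assoc, Polynomial.coeff_smul, Polynomial.coeff_C_mul_X_pow]
    split_ifs with h1 h2 h2
    · exact (map_smul (Ideal.Quotient.mkₐ ℚ (Ideal.span ({a} : Set A))) _ _).symm
    · exact absurd h1.symm h2
    · exact absurd h2.symm h1
    · rw [smul_zero]
  rw [Finset.sum_congr rfl this, Finset.sum_ite_eq']
  split_ifs with h
  · rfl
  · rw [Finset.mem_range, not_lt] at h
    rw [Dn_eq_zero_of_le D h hN, smul_zero, map_zero]

theorem chi0_a : chi0 D hnil a a = Polynomial.X := by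
  have h2 : Dn D 2 a = 0 := by
    rw [Dn_succ, ha, Dn_one D 1 le_rfl]
  rw [chi0_eq_sum D hnil a a 2 h2, Finset.sum_range_succ, Finset.sum_range_one]
  have h1 : Dn D 1 a = 1 := by rw [Dn_succ, Dn_zero, ha]
  rw [Dn_zero, h1]
  have : Ideal.Quotient.mk (Ideal.span ({a} : Set A)) a = 0 :=
    Ideal.Quotient.eq_zero_iff_mem.mpr (Ideal.subset_span rfl)
  rw [this]
  simp

/-- the slice projection -/
noncomputable def S (N : ℕ) (x : A) : A :=
  ∑ n ∈ Finset.range N, (((-1 : ℚ) ^ n * (n.factorial : ℚ)⁻¹) • (Dn D n x * a ^ n))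

theorem D_S (N : ℕ) (x : A) :
    D (S D a (N + 1) x) = (((-1 : ℚ) ^ N * (N.factorial : ℚ)⁻¹) • (Dn D (N + 1) x * a ^ N)) := by
  induction N with
  | zero =>
    unfold S
    rw [Finset.sum_range_one]
    simp [Dn_zero, Dn_succ]
  | succ N ih =>
    have hS : S D a (N + 1 + 1) x = S D a (N + 1) x +
        (((-1 : ℚ) ^ (N + 1) * ((N + 1).factorial : ℚ)⁻¹) • (Dn D (N + 1) x * a ^ (N + 1))) := by
      unfold S; rw [Finset.sum_range_succ]
    rw [hS, map_add, ih, D.map_smul, Derivation.leibniz, Derivation.leibniz_pow, ha, ← Dn_succ']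
    have hc : ((-1 : ℚ) ^ N * (N.factorial : ℚ)⁻¹)
        + ((-1 : ℚ) ^ (N + 1) * ((N + 1).factorial : ℚ)⁻¹) * ((N : ℚ) + 1) = 0 := by
      rw [Nat.factorial_succ]
      push_cast
      have : (N.factorial : ℚ) ≠ 0 := by positivity
      have : ((N : ℚ) + 1) ≠ 0 := by positivity
      field_simp
      ring
    have hαβ := congrArg (algebraMap ℚ A) hc
    simp only [map_add, map_mul, map_natCast, map_one, map_zero] at hαβ
    simp only [smul_eq_mul, nsmul_eq_mul, Nat.add_sub_cancel, mul_one, Nat.cast_add, Nat.cast_one]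
    simp only [Algebra.smul_def, map_mul]
    linear_combination (Dn D (N + 1) x * a ^ N) * hαβ


theorem D_S_zero (N : ℕ) (x : A) (hN : Dn D N x = 0) : D (S D a N x) = 0 := by
  cases N with
  | zero => unfold S; simp
  | succ N => rw [D_S D a ha, hN, zero_mul, smul_zero]

omit ha in
theorem S_sub_mem (N : ℕ) (x : A) (hN : Dn D N x = 0) :
    S D a N x - x ∈ Ideal.span ({a} : Set A) := by
  cases N with
  | zero =>
    rw [Dn_zero] at hN
    unfold S
    simp [hN]
  | succ N =>
    unfold S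
    rw [Finset.sum_range_succ']
    simp only [pow_zero, Nat.factorial_zero, Nat.cast_one, inv_one, mul_one, one_smul, Dn_zero,
      add_sub_cancel_right]
    refine Ideal.sum_mem _ fun n _ => ?_
    rw [Algebra.smul_def, ← mul_assoc]
    have hmem : a ^ (n + 1) ∈ Ideal.span ({a} : Set A) := by
      rw [pow_succ]
      exact Ideal.mul_mem_left _ _ (Ideal.subset_span rfl)
    exact Ideal.mul_mem_left _ _ hmem

theorem chi0_S (N : ℕ) (x : A) (hN : Dn D N x = 0) :
    chi0 D hnil a (S D a N x) = Polynomial.C (Ideal.Quotient.mk (Ideal.span ({a} : Set A)) x) := by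
  have h1 : Dn D 1 (S D a N x) = 0 := by
    rw [Dn_succ', Dn_zero]; exact D_S_zero D a ha N x hN
  rw [chi0_eq_sum D hnil a _ 1 h1, Finset.sum_range_one]
  simp only [Nat.factorial_zero, Nat.cast_one, inv_one, one_smul, pow_zero, mul_one, Dn_zero]
  congr 1
  rw [Ideal.Quotient.eq]
  exact S_sub_mem D a N x hN

theorem chi0_surjective : Function.Surjective (chi0 D hnil a) := by
  intro p
  induction p using Polynomial.induction_on' with
  | add p q hp hq =>
    obtain ⟨u, rfl⟩ := hp
    obtain ⟨v, rfl⟩ := hq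
    exact ⟨u + v, map_add _ _ _⟩
  | monomial n c =>
    obtain ⟨x, rfl⟩ := Ideal.Quotient.mk_surjective c
    obtain ⟨N, hN⟩ := hnil x
    refine ⟨S D a N x * a ^ n, ?_⟩
    rw [map_mul, map_pow, chi0_S D hnil a ha N x hN, chi0_a D hnil a ha, Polynomial.C_mul_X_pow_eq_monomial]

omit ha in
theorem chi0_D (x : A) : chi0 D hnil a (D x) = Polynomial.derivative (chi0 D hnil a x) := by
  unfold chi0
  rw [RingHom.comp_apply, RingHom.comp_apply, ← derivative_E, Polynomial.coe_mapRingHom,
    Polynomial.derivative_map]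

end slice

theorem main
    (A : Type u) [CommRing A] [Algebra ℚ A] (D : Derivation ℚ A A)
    (hnil : ∀ x : A, ∃ n : ℕ, ((D : A →ₗ[ℚ] A) ^ n) x = 0) (a : A) (ha : D a = 1) :
    ∃ χ : A ≃+* Polynomial (A ⧸ Ideal.span ({a} : Set A)),
      (∀ (x : A) (N : ℕ), ((D : A →ₗ[ℚ] A) ^ N) x = 0 →
        χ x = ∑ n ∈ Finset.range N,
          ((n.factorial : ℚ)⁻¹ • Polynomial.C (Ideal.Quotient.mk (Ideal.span ({a} : Set A)) (((D : A →ₗ[ℚ] A) ^ n) x))) *
            Polynomial.X ^ n) ∧
      χ.symm Polynomial.X = a ∧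
      (∀ (x : A) (N : ℕ), ((D : A →ₗ[ℚ] A) ^ N) x = 0 →
        χ.symm (Polynomial.C (Ideal.Quotient.mk (Ideal.span ({a} : Set A)) x)) =
          ∑ n ∈ Finset.range N, (((-1 : ℚ) ^ n * (n.factorial : ℚ)⁻¹) • ((((D : A →ₗ[ℚ] A) ^ n) x) * a ^ n))) ∧
      ∀ p : Polynomial (A ⧸ Ideal.span ({a} : Set A)), χ (D (χ.symm p)) = Polynomial.derivative p := by
  have hnil' : ∀ x : A, ∃ n : ℕ, Dn D n x = 0 := hnil
  let χ : A ≃+* Polynomial (A ⧸ Ideal.span ({a} : Set A)) :=
    RingEquiv.ofBijective (chi0 D hnil' a) ⟨chi0_injective D hnil' a ha, chi0_surjective D hnil' a ha⟩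
  have hχ : ∀ x, χ x = chi0 D hnil' a x := fun x => rfl
  refine ⟨χ, ?_, ?_, ?_, ?_⟩
  · intro x N hN
    rw [hχ]
    exact chi0_eq_sum D hnil' a x N hN
  · rw [RingEquiv.symm_apply_eq, hχ, chi0_a D hnil' a ha]
  · intro x N hN
    rw [RingEquiv.symm_apply_eq, hχ]
    exact (chi0_S D hnil' a ha N x hN).symm
  · intro p
    rw [hχ, chi0_D, ← hχ, RingEquiv.apply_symm_apply]


end


/-- Let A be a commutative algebra over the rationals, D a locally nilpotent derivation of A and a an
element with D a = 1; write A' for the quotient of A by the ideal generated by a. Then there is a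
ring isomorphism from A onto the polynomial ring A'[Y] which sends every x to the (finite) sum over
n of (1/n!) (class of D^n x) Y^n; its inverse sends Y to a and the constant polynomial on the class
of x to the sum over n of ((-1)^n/n!) (D^n x) a^n, and under it D corresponds to the derivative
d/dY. (The source says only that A is a ring, in a setting over a field of characteristic zero; the
rational coefficients 1/n! require an algebra over the rationals, which is the hypothesis taken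
here. Both sums are written over any range beyond which the iterates of D vanish at x.) -/
theorem result
    (A : Type u) [CommRing A] [Algebra ℚ A] (D : Derivation ℚ A A)
    (hnil : ∀ x : A, ∃ n : ℕ, ((D : A →ₗ[ℚ] A) ^ n) x = 0) (a : A) (ha : D a = 1) :
    ∃ χ : A ≃+* Polynomial (A ⧸ Ideal.span ({a} : Set A)),
      (∀ (x : A) (N : ℕ), ((D : A →ₗ[ℚ] A) ^ N) x = 0 →
        χ x = ∑ n ∈ Finset.range N,
          ((n.factorial : ℚ)⁻¹ • Polynomial.C (Ideal.Quotient.mk (Ideal.span ({a} : Set A)) (((D : A →ₗ[ℚ] A) ^ n) x))) *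
            Polynomial.X ^ n) ∧
      χ.symm Polynomial.X = a ∧
      (∀ (x : A) (N : ℕ), ((D : A →ₗ[ℚ] A) ^ N) x = 0 →
        χ.symm (Polynomial.C (Ideal.Quotient.mk (Ideal.span ({a} : Set A)) x)) =
          ∑ n ∈ Finset.range N, (((-1 : ℚ) ^ n * (n.factorial : ℚ)⁻¹) • ((((D : A →ₗ[ℚ] A) ^ n) x) * a ^ n))) ∧
      ∀ p : Polynomial (A ⧸ Ideal.span ({a} : Set A)), χ (D (χ.symm p)) = Polynomial.derivative p := by
  classical
  exact main A D hnil a ha

end Groth.Agent.S18974
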