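import Groth.Statements.S18988
import Mathlib
import Groth.Agent.Lib.Helper9.Cartier7
-- import your own Groth.Agent.* helpers here

set_option autoImplicit false
universe u
open TensorProduct
open HopfRep

namespace Groth.Agent.S18988

namespace Aux

open TensorProduct Groth.Agent.Helper9 Groth.Agent.Helper9.CartierLib

section
variable {k : Type u} [Field k] {A : Type u} [CommRing A] [HopfAlgebra k A]
variable {R : Type u} [AddCommGroup R] [Module k R]

omit [HopfAlgebra k A] in
lemma slice_mem_iff [Module k A] (V : Submodule k R) (ξ : A →ₗ[k] k) (u : R ⊗[k] A) :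
    LinearMap.lTensor R ξ u ∈ LinearMap.range (LinearMap.rTensor k V.subtype) ↔
      slice ξ u ∈ V := by
  have h2 : ∀ y : V ⊗[k] k, TensorProduct.rid k R (LinearMap.rTensor k V.subtype y) =
      V.subtype (TensorProduct.rid k V y) := by
    intro y
    induction y using TensorProduct.induction_on with
    | zero => simp
    | add y₁ y₂ h₁ h₂ => simp only [map_add, h₁, h₂]
    | tmul v c => simp
  constructor
  · rintro ⟨y, hy⟩
    have h1 : slice ξ u = TensorProduct.rid k R (LinearMap.lTensor R ξ u) := rfl
    rw [h1, ← hy, h2]
    exact (TensorProduct.rid k V y).2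
  · intro h
    refine ⟨(TensorProduct.rid k V).symm ⟨slice ξ u, h⟩, ?_⟩
    apply (TensorProduct.rid k R).injective
    have h1 : slice ξ u = TensorProduct.rid k R (LinearMap.lTensor R ξ u) := rfl
    rw [← h1, h2]
    simp

theorem main [IsAlgClosed k] [CharZero k] [Algebra.FiniteType k A] [HopfRep.Comod k A R]
    (hU : HopfRep.IsUnipotent k A) (V : Submodule k R) :
    HopfRep.IsSubcomod (k := k) (A := A) V ↔
      ∀ (ξ : LieHopf.Lie k A) (v : R), v ∈ V →
        LinearMap.lTensor R (ξ.toLinearMap.restrictScalars k) (HopfRep.Comod.coact (k := k) (A := A) v) ∈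
          LinearMap.range (LinearMap.rTensor (LieHopf.K k A) V.subtype) := by
  have key : ∀ (ξ : LieHopf.Lie k A) (v : R),
      (LinearMap.lTensor R (ξ.toLinearMap.restrictScalars k) (HopfRep.Comod.coact (k := k) (A := A) v) ∈
          LinearMap.range (LinearMap.rTensor (LieHopf.K k A) V.subtype)) ↔
        slice (ofLie ξ) (HopfRep.Comod.coact (k := k) (A := A) v) ∈ V :=
    fun ξ v => slice_mem_iff V (ofLie ξ) _
  constructor
  · intro hV ξ v hv
    rw [key]
    exact slice_mem_of_mem_range_rTensor_subtype V _ (hV v hv) _
  · intro h
    apply isSubcomod_of_forall_epsDer hU V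
    intro ξ hξ w hw
    have := (key (toLie ξ hξ) w).mp (h (toLie ξ hξ) w hw)
    rw [ofLie_toLie] at this
    exact this

end

end Aux

/-- In Hopf-algebra form, over an algebraically closed field k of characteristic zero, let A be a
finitely generated commutative Hopf algebra which is unipotent in the fixed-vector sense (the
coordinate ring of a unipotent group U), coacting multiplicatively on a finitely generated
commutative k-algebra R. Then a k-subspace V of R is a subcomodule (is invariant under U) if and
only if it is stable under the infinitesimal action of every ε-derivation ξ : A → k: for every v in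
V, applying ξ to the A-factor of the coaction of v gives an element of the image of V ⊗ k in R ⊗ k. -/
theorem result
    (k : Type u) [Field k] [IsAlgClosed k] [CharZero k]
    (A : Type u) [CommRing A] [HopfAlgebra k A] [Algebra.FiniteType k A] (hU : HopfRep.IsUnipotent k A)
    (R : Type u) [CommRing R] [Algebra k R] [Algebra.FiniteType k R]
    [HopfRep.Comod k A R] [GLin.IsCoactAlg k A R] (V : Submodule k R) :
    HopfRep.IsSubcomod (k := k) (A := A) V ↔
      ∀ (ξ : LieHopf.Lie k A) (v : R), v ∈ V →
        LinearMap.lTensor R (ξ.toLinearMap.restrictScalars k) (HopfRep.Comod.coact (k := k) (A := A) v) ∈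
          LinearMap.range (LinearMap.rTensor (LieHopf.K k A) V.subtype) := by
  exact Aux.main hU V

end Groth.Agent.S18988
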