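import Groth.Statements.S18989
import Mathlib
import Groth.Agent.Lib.Helper9.Cartier7
-- import your own Groth.Agent.* helpers here

set_option autoImplicit false
universe u
open TensorProduct
open HopfRep

namespace Groth.Agent.S18989

namespace Aux

open TensorProduct Groth.Agent.Helper9 Groth.Agent.Helper9.CartierLib

section
variable {k : Type u} [Field k] {A : Type u} [CommRing A] [HopfAlgebra k A]
variable {R₁ : Type u} [AddCommGroup R₁] [Module k R₁]
variable {R₂ : Type u} [AddCommGroup R₂] [Module k R₂]

omit [HopfAlgebra k A] in
lemma rid_rTensor (e : R₁ →ₗ[k] R₂) (y : R₁ ⊗[k] k) :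
    TensorProduct.rid k R₂ (LinearMap.rTensor k e y) = e (TensorProduct.rid k R₁ y) := by
  induction y using TensorProduct.induction_on with
  | zero => simp
  | add y₁ y₂ h₁ h₂ => simp only [map_add, h₁, h₂]
  | tmul v c => simp

theorem main [IsAlgClosed k] [CharZero k] [Algebra.FiniteType k A] [HopfRep.Comod k A R₁]
    [HopfRep.Comod k A R₂]
    (hU : HopfRep.IsUnipotent k A) (e : R₁ →ₗ[k] R₂)
    (h : ∀ (ξ : LieHopf.Lie k A) (f : R₁),
      LinearMap.lTensor R₂ (ξ.toLinearMap.restrictScalars k) (HopfRep.Comod.coact (k := k) (A := A) (e f)) =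
        LinearMap.rTensor (LieHopf.K k A) e
          (LinearMap.lTensor R₁ (ξ.toLinearMap.restrictScalars k) (HopfRep.Comod.coact (k := k) (A := A) f))) :
    ∀ f : R₁, HopfRep.Comod.coact (k := k) (A := A) (e f) =
      LinearMap.rTensor A e (HopfRep.Comod.coact (k := k) (A := A) f) := by
  intro f
  apply comodHom_of_forall_epsDer hU e
  intro ξ hξ v
  have h1 := h (toLie ξ hξ) v
  have h2 : LinearMap.lTensor R₂ ξ (HopfRep.Comod.coact (k := k) (A := A) (e v)) =
      LinearMap.rTensor k e (LinearMap.lTensor R₁ ξ (HopfRep.Comod.coact (k := k) (A := A) v)) := h1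
  have h3 : slice ξ (HopfRep.Comod.coact (k := k) (A := A) (e v)) =
      TensorProduct.rid k R₂ (LinearMap.lTensor R₂ ξ (HopfRep.Comod.coact (k := k) (A := A) (e v))) := rfl
  rw [h3, h2, rid_rTensor]
  rfl

end

end Aux

/-- An action of a unipotent group on an affine scheme is determined by its infinitesimal action. Over
an algebraically closed field k of characteristic zero, let A be a finitely generated commutative
Hopf algebra, unipotent in the fixed-vector sense, coacting multiplicatively on two finitely
generated commutative k-algebras R₁ and R₂, and let e : R₁ → R₂ be an algebra isomorphism which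
intertwines the two infinitesimal actions: for every ε-derivation ξ : A → k and every f in R₁,
applying ξ to the A-factor of the coaction of e(f) equals e ⊗ id applied to the same for f. Then e
intertwines the coactions: the coaction of e(f) is (e ⊗ id) of the coaction of f for all f. (With R₁
= R₂ and e the identity this says that two actions with the same infinitesimal action coincide,
which is the printed assertion.) -/
theorem result
    (k : Type u) [Field k] [IsAlgClosed k] [CharZero k]
    (A : Type u) [CommRing A] [HopfAlgebra k A] [Algebra.FiniteType k A] (hU : HopfRep.IsUnipotent k A)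
    (R₁ R₂ : Type u) [CommRing R₁] [Algebra k R₁] [Algebra.FiniteType k R₁]
    [HopfRep.Comod k A R₁] [GLin.IsCoactAlg k A R₁]
    [CommRing R₂] [Algebra k R₂] [Algebra.FiniteType k R₂]
    [HopfRep.Comod k A R₂] [GLin.IsCoactAlg k A R₂]
    (e : R₁ ≃ₐ[k] R₂)
    (h : ∀ (ξ : LieHopf.Lie k A) (f : R₁),
      LinearMap.lTensor R₂ (ξ.toLinearMap.restrictScalars k) (HopfRep.Comod.coact (k := k) (A := A) (e f)) =
        LinearMap.rTensor (LieHopf.K k A) e.toLinearMap
          (LinearMap.lTensor R₁ (ξ.toLinearMap.restrictScalars k) (HopfRep.Comod.coact (k := k) (A := A) f))) :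
    ∀ f : R₁, HopfRep.Comod.coact (k := k) (A := A) (e f) =
      LinearMap.rTensor A e.toLinearMap (HopfRep.Comod.coact (k := k) (A := A) f) := by
  exact Aux.main hU e.toLinearMap h

end Groth.Agent.S18989
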