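import Groth.Statements.S18994
import Mathlib

set_option autoImplicit false
universe u
open TernForm

namespace Groth.Agent.S18994

section
open MvPolynomial

variable {R : Type u} [CommRing R]

theorem deg_of_hom {p : MvPolynomial (Fin 3) R} {n : ℕ} (hp : p.IsHomogeneous n)
    {d : Fin 3 →₀ ℕ} (hd : coeff d p ≠ 0) : d.degree = n := by
  have := hp hd
  rw [Finsupp.degree_eq_weight_one]
  exact this

theorem eq_single_of (j : Fin 3) (x : Fin 3 →₀ ℕ) (hx : x.degree = 2) (hj : 2 ≤ x j) :
    x = Finsupp.single j 2 := by
  rw [Finsupp.degree_eq_sum, Fin.sum_univ_three] at hx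
  ext i
  fin_cases j <;> fin_cases i <;> simp at hj ⊢ <;> omega

/-- Lemma Z: if all monomials of `q * s` have `j`-exponent `< 2` then `s = 0`. -/
theorem lemmaZ (j : Fin 3) (q : MvPolynomial (Fin 3) R)
    (hq : q.IsHomogeneous 2) (hqj : IsUnit (q.coeff (Finsupp.single j 2)))
    (s : MvPolynomial (Fin 3) R) (hs : ∀ m, coeff m (q * s) ≠ 0 → m j < 2) : s = 0 := by
  classical
  by_contra hne
  have hsupp : s.support.Nonempty := by
    rwa [Finset.nonempty_iff_ne_empty, Ne, MvPolynomial.support_eq_empty]
  obtain ⟨m', hm', hmax⟩ := Finset.exists_max_image s.support (fun m => m j) hsupp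
  have hcoeff : coeff (Finsupp.single j 2 + m') (q * s) =
      coeff (Finsupp.single j 2) q * coeff m' s := by
    rw [MvPolynomial.coeff_mul]
    apply Finset.sum_eq_single (Finsupp.single j 2, m')
    · rintro ⟨x, y⟩ hxy hne'
      rw [Finset.HasAntidiagonal.mem_antidiagonal] at hxy
      simp only at hxy
      by_contra hprod
      have hx : coeff x q ≠ 0 := fun h => hprod (by rw [h, zero_mul])
      have hy : coeff y s ≠ 0 := fun h => hprod (by rw [h, mul_zero])
      have hxdeg := deg_of_hom hq hx
      have hyj : y j ≤ m' j := hmax y (MvPolynomial.mem_support_iff.mpr hy)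
      have hxj : x j ≤ 2 := by
        have := Finsupp.le_degree j x
        omega
      have hsum := congrArg (fun f => f j) hxy
      simp only [Finsupp.add_apply, Finsupp.single_eq_same] at hsum
      have hx2 : 2 ≤ x j := by omega
      have hxe := eq_single_of j x hxdeg hx2
      apply hne'
      subst hxe
      have : y = m' := add_left_cancel hxy
      rw [this]
    · intro hnot
      exfalso
      apply hnot
      rw [Finset.HasAntidiagonal.mem_antidiagonal]
  have hnz : coeff (Finsupp.single j 2 + m') (q * s) ≠ 0 := by
    rw [hcoeff]
    intro h0
    have := (hqj.mul_right_eq_zero).mp h0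
    exact (MvPolynomial.mem_support_iff.mp hm') this
  have := hs _ hnz
  simp at this
  omega


/-- polynomials all of whose monomials have small `j`-exponent -/
def lowSub (j : Fin 3) : Submodule R (MvPolynomial (Fin 3) R) where
  carrier := {p | ∀ m, coeff m p ≠ 0 → m j < 2}
  zero_mem' := by
    intro m hm
    simp at hm
  add_mem' := by
    intro a b ha hb m hm
    rw [coeff_add] at hm
    by_cases h1 : coeff m a = 0
    · rw [h1, zero_add] at hm
      exact hb m hm
    · exact ha m h1
  smul_mem' := by
    intro c a ha m hm
    rw [coeff_smul] at hm
    apply ha m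
    intro h0
    rw [h0, smul_zero] at hm
    exact hm rfl

theorem li (j : Fin 3) (q : MvPolynomial (Fin 3) R)
    (hq : q.IsHomogeneous 2) (hqj : IsUnit (q.coeff (Finsupp.single j 2))) (n : ℕ) :
    LinearIndependent R (Sum.elim (fun m : {m : Fin 3 →₀ ℕ // m.degree = n ∧ m j < 2} => MvPolynomial.monomial m.1 (1 : R)) (fun m : {m : Fin 3 →₀ ℕ // m.degree + 2 = n} => q * MvPolynomial.monomial m.1 (1 : R))) := by
  classical
  have hmono : LinearIndependent R (fun s : Fin 3 →₀ ℕ => (monomial s (1 : R))) := by
    have := (MvPolynomial.basisMonomials (Fin 3) R).linearIndependent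
    rwa [MvPolynomial.coe_basisMonomials] at this
  have hker : LinearMap.ker (LinearMap.mulLeft R q) = ⊥ := by
    rw [LinearMap.ker_eq_bot']
    intro s hs
    rw [LinearMap.mulLeft_apply] at hs
    apply lemmaZ j q hq hqj s
    intro m hm
    rw [hs] at hm
    simp at hm
  apply LinearIndependent.sum_type
  · exact hmono.comp (fun m : {m : Fin 3 →₀ ℕ // m.degree = n ∧ m j < 2} => m.1)
      Subtype.val_injective
  · have h1 : LinearIndependent R (fun m : {m : Fin 3 →₀ ℕ // m.degree + 2 = n} =>
        (monomial m.1 (1 : R))) :=
      hmono.comp (fun m : {m : Fin 3 →₀ ℕ // m.degree + 2 = n} => m.1) Subtype.val_injective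
    exact h1.map' (LinearMap.mulLeft R q) hker
  · rw [Submodule.disjoint_def]
    intro x hx1 hx2
    have h1 : x ∈ lowSub (R := R) j := by
      refine Submodule.span_le.mpr ?_ hx1
      rintro _ ⟨m, rfl⟩
      intro m' hm'
      rw [coeff_monomial] at hm'
      by_cases h : m.1 = m'
      · rw [← h]; exact m.2.2
      · rw [if_neg h] at hm'
        exact absurd rfl hm'
    have h2 : x ∈ LinearMap.range (LinearMap.mulLeft R q) := by
      refine Submodule.span_le.mpr ?_ hx2
      rintro _ ⟨m, rfl⟩
      exact ⟨monomial m.1 1, rfl⟩
    obtain ⟨s, rfl⟩ := h2
    rw [LinearMap.mulLeft_apply]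
    rw [LinearMap.mulLeft_apply] at h1
    rw [lemmaZ j q hq hqj s h1, mul_zero]


theorem spans (j : Fin 3) (q : MvPolynomial (Fin 3) R)
    (hq : q.IsHomogeneous 2) (hqj : IsUnit (q.coeff (Finsupp.single j 2))) (n : ℕ) :
    Submodule.span R (Set.range (Sum.elim (fun m : {m : Fin 3 →₀ ℕ // m.degree = n ∧ m j < 2} => MvPolynomial.monomial m.1 (1 : R)) (fun m : {m : Fin 3 →₀ ℕ // m.degree + 2 = n} => q * MvPolynomial.monomial m.1 (1 : R)))) = MvPolynomial.homogeneousSubmodule (Fin 3) R n := by
  classical
  set S := Submodule.span R (Set.range (Sum.elim (fun m : {m : Fin 3 →₀ ℕ // m.degree = n ∧ m j < 2} => MvPolynomial.monomial m.1 (1 : R)) (fun m : {m : Fin 3 →₀ ℕ // m.degree + 2 = n} => q * MvPolynomial.monomial m.1 (1 : R)))) with hS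
  apply le_antisymm
  · rw [Submodule.span_le]
    rintro _ ⟨i, rfl⟩
    rcases i with m | m
    · exact isHomogeneous_monomial _ m.2.1
    · have := hq.mul (isHomogeneous_monomial (1:R) (rfl : m.1.degree = m.1.degree))
      have e : 2 + m.1.degree = n := by have := m.2; omega
      rw [e] at this
      exact this
  · have key : ∀ t, ∀ m : Fin 3 →₀ ℕ, m.degree = n → m j = t → monomial m (1:R) ∈ S := by
      intro t
      induction t using Nat.strong_induction_on with
      | _ t ih =>
        intro m hm hmt
        by_cases hlt : t < 2
        · exact Submodule.subset_span ⟨Sum.inl ⟨m, hm, hmt ▸ hlt⟩, rfl⟩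
        · have hmm' : Finsupp.single j 2 + (m - Finsupp.single j 2) = m := by
            ext i
            simp only [Finsupp.add_apply, Finsupp.tsub_apply, Finsupp.single_apply]
            by_cases hij : j = i
            · subst hij; simp; omega
            · simp [hij]
          set m' := m - Finsupp.single j 2 with hm'
          have hdeg' : m'.degree + 2 = n := by
            have := congrArg Finsupp.degree hmm'
            rw [map_add, Finsupp.degree_single, hm] at this
            omega
          have hm'j : m' j + 2 = t := by
            have := congrArg (fun f => f j) hmm'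
            simp only [Finsupp.add_apply, Finsupp.single_eq_same] at this
            omega
          set u := coeff (Finsupp.single j 2) q with hu
          set q' := q - monomial (Finsupp.single j 2) u with hq'
          have h1 : q * monomial m' (1:R) ∈ S :=
            Submodule.subset_span ⟨Sum.inr ⟨m', hdeg'⟩, rfl⟩
          have h2 : q' * monomial m' (1:R) ∈ S := by
            rw [← MvPolynomial.support_sum_monomial_coeff q', Finset.sum_mul]
            apply Submodule.sum_mem
            intro x hx
            rw [monomial_mul, mul_one]
            have hxc : coeff x q' ≠ 0 := MvPolynomial.mem_support_iff.mp hx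
            have hxne : x ≠ Finsupp.single j 2 := by
              intro hxe
              apply hxc
              rw [hq', coeff_sub, coeff_monomial, hxe, if_pos rfl, hu, sub_self]
            have hxq : coeff x q ≠ 0 := by
              intro h0
              apply hxc
              rw [hq', coeff_sub, coeff_monomial, if_neg (Ne.symm hxne), h0, sub_zero]
            have hxdeg : x.degree = 2 := deg_of_hom hq hxq
            have hxj : x j < 2 := by
              by_contra hge
              exact hxne (eq_single_of j x hxdeg (by omega))
            have hmem : monomial (x + m') (1:R) ∈ S := by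
              apply ih ((x + m') j)
              · rw [Finsupp.add_apply]; omega
              · rw [map_add, hxdeg]; omega
              · rfl
            have : monomial (x + m') (coeff x q') = (coeff x q') • monomial (x + m') (1:R) := by
              rw [smul_monomial, smul_eq_mul, mul_one]
            rw [this]
            exact S.smul_mem _ hmem
          have h3 : monomial m u ∈ S := by
            have : monomial m u = q * monomial m' (1:R) - q' * monomial m' (1:R) := by
              rw [hq', sub_mul, sub_sub_cancel, monomial_mul, mul_one, hmm']
            rw [this]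
            exact S.sub_mem h1 h2
          have h4 : monomial m (1:R) = ((hqj.unit⁻¹ : Rˣ) : R) • monomial m u := by
            rw [smul_monomial, smul_eq_mul, IsUnit.val_inv_mul]
          rw [h4]
          exact S.smul_mem _ h3
    intro p hp
    rw [mem_homogeneousSubmodule] at hp
    rw [← MvPolynomial.support_sum_monomial_coeff p]
    apply Submodule.sum_mem
    intro v hv
    have hvdeg := deg_of_hom hp (MvPolynomial.mem_support_iff.mp hv)
    have : monomial v (coeff v p) = (coeff v p) • monomial v (1:R) := by
      rw [smul_monomial, smul_eq_mul, mul_one]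
    rw [this]
    exact S.smul_mem _ (key (v j) v hvdeg rfl)

theorem main
    (R : Type u) [CommRing R] (j : Fin 3) (q : MvPolynomial (Fin 3) R)
    (hq : q.IsHomogeneous 2) (hqj : IsUnit (q.coeff (Finsupp.single j 2))) (n : ℕ) :
    LinearIndependent R (Sum.elim (fun m : {m : Fin 3 →₀ ℕ // m.degree = n ∧ m j < 2} => MvPolynomial.monomial m.1 (1 : R)) (fun m : {m : Fin 3 →₀ ℕ // m.degree + 2 = n} => q * MvPolynomial.monomial m.1 (1 : R))) ∧
      Submodule.span R (Set.range (Sum.elim (fun m : {m : Fin 3 →₀ ℕ // m.degree = n ∧ m j < 2} => MvPolynomial.monomial m.1 (1 : R)) (fun m : {m : Fin 3 →₀ ℕ // m.degree + 2 = n} => q * MvPolynomial.monomial m.1 (1 : R)))) = MvPolynomial.homogeneousSubmodule (Fin 3) R n :=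
  ⟨li j q hq hqj n, spans j q hq hqj n⟩


end


/-- Let R be a commutative ring, j ∈ {0, 1, 2}, q a homogeneous polynomial of degree 2 in R[X_0, X_1,
X_2] whose coefficient of X_j^2 is a unit, and n a natural number. Then the family consisting of the
monomials of degree n not divisible by X_j^2 (exponent of X_j at most 1) together with the products
q · m, m running over the monomials of degree n − 2 (indexed by exponents m with |m| + 2 = n), is
linearly independent over R and spans exactly the homogeneous polynomials of degree n; in particular
it is a basis of that module and the two parts are disjoint. (The published lemma is stated over a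
field with the coefficient nonzero, the special case of a field R here; the version over a ring with
the coefficient invertible is what its change-of-basis argument gives — ordering monomials by
decreasing exponent of X_j makes the matrix triangular with diagonal entries 1 and that coefficient
— and is the form used to trivialise the bundle of degree-n forms modulo multiples of q over the
locus where the coefficient is invertible. The published lemma also allows an arbitrary monomial of
degree 2 in place of X_j^2; for the mixed monomial X_1X_2, the form q = X_1^2 + X_1X_2 + X_2^2 and n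
= 3 give the linear relation q·X_1 − q·X_2 = X_1^3 − X_2^3 among members of the family, so the claim
fails there and is stated here for the square of a variable.) -/
theorem result
    (R : Type u) [CommRing R] (j : Fin 3) (q : MvPolynomial (Fin 3) R)
    (hq : q.IsHomogeneous 2) (hqj : IsUnit (q.coeff (Finsupp.single j 2))) (n : ℕ) :
    LinearIndependent R (Sum.elim (fun m : {m : Fin 3 →₀ ℕ // m.degree = n ∧ m j < 2} => MvPolynomial.monomial m.1 (1 : R)) (fun m : {m : Fin 3 →₀ ℕ // m.degree + 2 = n} => q * MvPolynomial.monomial m.1 (1 : R))) ∧
      Submodule.span R (Set.range (Sum.elim (fun m : {m : Fin 3 →₀ ℕ // m.degree = n ∧ m j < 2} => MvPolynomial.monomial m.1 (1 : R)) (fun m : {m : Fin 3 →₀ ℕ // m.degree + 2 = n} => q * MvPolynomial.monomial m.1 (1 : R)))) = MvPolynomial.homogeneousSubmodule (Fin 3) R n := by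
  classical
  exact main R j q hq hqj n

end Groth.Agent.S18994
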