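import Groth.Statements.S19004
import Mathlib

set_option autoImplicit false
open GIT

namespace Groth.Agent.S19004

/-- For the group PGL(n) acting on the space of n × n matrices the T-quotient is (P^{n−1})^n with Chow
ring ℚ[t_1,…,t_n]/(t_1^n,…,t_n^n), the class c_top(g/t) is the product of all roots t_i − t_j (i ≠
j), and the computation in the proof shows that this product equals n!·t_1^{n−1}⋯t_n^{n−1} in that
ring. Stated here as the equivalent coefficient identity in ℤ[t_1,…,t_n]: the coefficient of
t_1^{n−1}⋯t_n^{n−1} in the product over ordered pairs i ≠ j of (t_i − t_j) is n!. -/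
theorem result (n : ℕ) :
    MvPolynomial.coeff (Finsupp.equivFunOnFinite.symm (fun _ : Fin n => n - 1))
      (∏ i : Fin n, ∏ j ∈ Finset.univ.erase i, (MvPolynomial.X i - MvPolynomial.X j : MvPolynomial (Fin n) ℤ)) = (n.factorial : ℤ) := by
  classical
  set t : Fin n → MvPolynomial (Fin n) ℤ := fun i => MvPolynomial.X i with ht
  have hV := Matrix.det_vandermonde t
  have hW := Matrix.det_projVandermonde (1 : Fin n → MvPolynomial (Fin n) ℤ) t
  have hP : (∏ i : Fin n, ∏ j ∈ Finset.univ.erase i, (t i - t j)) =
      (Matrix.vandermonde t).det * (Matrix.projVandermonde 1 t).det := by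
    rw [hV, hW]
    have h1 : ∀ i : Fin n, Finset.univ.erase i = Finset.Iio i ∪ Finset.Ioi i := by
      intro i; ext j
      simp only [Finset.mem_erase, Finset.mem_univ, and_true, Finset.mem_union, Finset.mem_Iio,
        Finset.mem_Ioi]
      exact ⟨fun h => lt_or_gt_of_ne h, fun h => h.elim (fun h => h.ne) (fun h => h.ne')⟩
    have h2 : ∀ i : Fin n, Disjoint (Finset.Iio i) (Finset.Ioi i) := by
      intro i; rw [Finset.disjoint_left]; intro j hj hj'
      simp only [Finset.mem_Iio] at hj
      simp only [Finset.mem_Ioi] at hj'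
      exact absurd hj (not_lt.2 hj'.le)
    simp_rw [h1, Finset.prod_union (h2 _), Finset.prod_mul_distrib]
    congr 1
    · rw [Finset.prod_comm' (s := Finset.univ) (t := fun i => Finset.Iio i) (t' := Finset.univ)
        (s' := fun j => Finset.Ioi j)]
      intro x y
      simp
    · simp
  have mono : ∀ e : Fin n → ℕ, ∏ i, (MvPolynomial.X i : MvPolynomial (Fin n) ℤ) ^ (e i) =
      MvPolynomial.monomial (Finsupp.equivFunOnFinite.symm e) 1 := by
    intro e
    rw [MvPolynomial.monomial_eq, MvPolynomial.C_1, one_mul, Finsupp.prod_fintype]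
    · rfl
    · intro i; simp
  have hV2 : (Matrix.vandermonde t).det = ∑ σ : Equiv.Perm (Fin n), ((Equiv.Perm.sign σ : ℤ)) •
      MvPolynomial.monomial (Finsupp.equivFunOnFinite.symm (fun i => (σ i : ℕ))) (1:ℤ) := by
    rw [← Matrix.det_transpose, Matrix.det_apply]
    refine Finset.sum_congr rfl fun σ _ => ?_
    rw [Units.smul_def]
    congr 1
    simp only [Matrix.transpose_apply, Matrix.vandermonde_apply]
    exact mono _
  have hW2 : (Matrix.projVandermonde 1 t).det = ∑ τ : Equiv.Perm (Fin n), ((Equiv.Perm.sign τ : ℤ)) •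
      MvPolynomial.monomial (Finsupp.equivFunOnFinite.symm (fun i => ((τ i).rev : ℕ))) (1:ℤ) := by
    rw [← Matrix.det_transpose, Matrix.det_apply]
    refine Finset.sum_congr rfl fun τ _ => ?_
    rw [Units.smul_def]
    congr 1
    simp only [Matrix.transpose_apply, Matrix.projVandermonde_apply, Pi.one_apply, one_pow, one_mul]
    exact mono _
  show MvPolynomial.coeff _ (∏ i : Fin n, ∏ j ∈ Finset.univ.erase i, (t i - t j)) = _
  rw [hP, hV2, hW2, Finset.sum_mul_sum]
  have key : ∀ σ τ : Equiv.Perm (Fin n), (Finsupp.equivFunOnFinite.symm (fun i => (σ i : ℕ)) +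
      Finsupp.equivFunOnFinite.symm (fun i => ((τ i).rev : ℕ)) =
      Finsupp.equivFunOnFinite.symm (fun _ : Fin n => n - 1)) ↔ σ = τ := by
    intro σ τ
    constructor
    · intro h
      ext i
      have := DFunLike.congr_fun h i
      simp only [Finsupp.coe_add, Pi.add_apply, Finsupp.equivFunOnFinite_symm_apply_apply,
        Fin.val_rev] at this
      have h3 := (τ i).isLt
      have h4 := (σ i).isLt
      omega
    · rintro rfl
      ext i
      simp only [Finsupp.coe_add, Pi.add_apply, Finsupp.equivFunOnFinite_symm_apply_apply,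
        Fin.val_rev]
      have h4 := (σ i).isLt
      omega
  simp_rw [MvPolynomial.coeff_sum, smul_mul_smul_comm, MvPolynomial.monomial_mul,
    MvPolynomial.coeff_smul, MvPolynomial.coeff_monomial, key]
  simp only [mul_one, smul_eq_mul, mul_ite, mul_zero, Finset.sum_ite_eq, Finset.mem_univ, if_true]
  have : ∀ σ : Equiv.Perm (Fin n), ((Equiv.Perm.sign σ : ℤ)) * ((Equiv.Perm.sign σ : ℤ)) = 1 := by
    intro σ
    rw [← Units.val_mul, Int.units_mul_self]; rfl
  simp_rw [this]
  simp [Fintype.card_perm]

end Groth.Agent.S19004
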