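import Groth.Statements.S19005
import Mathlib

set_option autoImplicit false
open scoped TensorProduct
open K2Cent

namespace Groth.Agent.S19005

/-- For abelian groups X and M and ε in M with 2ε = 0 (in the source X is the character group of a split
torus and ε is the class of −1 among the units), the map x ↦ (x ⊗ x, −(x ⊗ ε)) into (X ⊗ X) × (X ⊗
M) is quadratic over ℤ, i.e. it underlies an integer quadratic map with exactly these values. -/
theorem result (X M : Type*) [AddCommGroup X]
    [AddCommGroup M] (ε : M) (hε : 2 • ε = 0) :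
    ∃ R : QuadraticMap ℤ X (TensorProduct ℤ X X × TensorProduct ℤ X M),
      ∀ x : X, R x = (x ⊗ₜ[ℤ] x, -(x ⊗ₜ[ℤ] ε)) := by
  classical
  have key : ∀ (a : ℤ) (x : X), (a * a) • (x ⊗ₜ[ℤ] ε) = a • (x ⊗ₜ[ℤ] ε) := by
    intro a x
    have h2 : ∀ x : X, (2 : ℤ) • (x ⊗ₜ[ℤ] ε) = 0 := by
      intro x
      rw [← TensorProduct.tmul_smul]
      have : (2 : ℤ) • ε = 0 := by
        have := hε
        rw [← natCast_zsmul] at this
        simpa using this
      rw [this, TensorProduct.tmul_zero]
    obtain ⟨m, hm⟩ : ∃ m : ℤ, a * a - a = m * 2 := by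
      have : Even (a * a - a) := by
        have : a * a - a = a * (a - 1) := by ring
        rw [this]
        exact Int.even_mul_pred_self a
      obtain ⟨m, hm⟩ := this
      exact ⟨m, by rw [hm]; ring⟩
    have : (a * a - a) • (x ⊗ₜ[ℤ] ε) = 0 := by
      rw [hm, mul_smul, h2, smul_zero]
    rw [sub_smul, sub_eq_zero] at this
    exact this
  refine ⟨{ toFun := fun x => (x ⊗ₜ[ℤ] x, -(x ⊗ₜ[ℤ] ε))
            toFun_smul := ?_
            exists_companion' := ?_ }, fun x => rfl⟩
  · intro a x
    ext
    · simp only [Prod.smul_fst]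
      rw [TensorProduct.smul_tmul_smul]
    · simp only [Prod.smul_snd, smul_neg, neg_inj]
      rw [key a x, TensorProduct.smul_tmul']
  · refine ⟨(TensorProduct.mk ℤ X X + (TensorProduct.mk ℤ X X).flip).compr₂ (LinearMap.inl ℤ _ _), ?_⟩
    intro x y
    ext
    · simp [TensorProduct.add_tmul, TensorProduct.tmul_add]
      abel
    · simp [TensorProduct.add_tmul]
      abel

end Groth.Agent.S19005
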