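import Groth.Statements.S19006
import Mathlib

set_option autoImplicit false
universe u v w x
open RootD

namespace Groth.Agent.S19006

/-- For a root pairing over an integral domain of characteristic zero, a quadratic form Q on the
coweight module N with polar form B, and a root α with coroot α^∨, the form Q is invariant under the
reflection attached to α acting on N if and only if B(y, α^∨) = ⟨α, y⟩ Q(α^∨) for all y in N. (The
source states this for integer-valued forms on the cocharacter lattice of a split reductive group;
here the form takes values in the base ring of the pairing.) -/
theorem result {ι : Type u} {R : Type v} {M : Type w} {N : Type x} [CommRing R] [IsDomain R] [CharZero R]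
    [AddCommGroup M] [Module R M] [AddCommGroup N] [Module R N] (P : RootPairing ι R M N)
    (Q : QuadraticMap R N R) (j : ι) :
    (∀ y : N, Q (P.coreflection j y) = Q y) ↔
      ∀ y : N, QuadraticMap.polar Q y (P.coroot j) = P.root' j y * Q (P.coroot j) := by
  have expand : ∀ y : N, Q (P.coreflection j y) = Q y + (P.root' j y * P.root' j y) * Q (P.coroot j)
      - P.root' j y * QuadraticMap.polar Q y (P.coroot j) := by
    intro y
    rw [RootPairing.coreflection_apply, sub_eq_add_neg, ← neg_smul, QuadraticMap.map_add Q,
      QuadraticMap.map_smul, QuadraticMap.polar_smul_right]
    simp only [smul_eq_mul]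
    ring
  constructor
  · intro h y
    have h1 : ∀ z : N, P.root' j z *
        (QuadraticMap.polar Q z (P.coroot j) - P.root' j z * Q (P.coroot j)) = 0 := by
      intro z
      have := expand z
      rw [h z] at this
      linear_combination this
    by_cases hc : P.root' j y = 0
    · have h2 := h1 (y + P.coroot j)
      rw [map_add, hc, zero_add, RootPairing.root'_coroot_eq_pairing, RootPairing.pairing_same,
        QuadraticMap.polar_add_left, QuadraticMap.polar_self] at h2
      have h3 : (2:R) ≠ 0 := two_ne_zero
      have := (mul_eq_zero.mp h2).resolve_left h3
      rw [hc, zero_mul]
      simp only [nsmul_eq_mul, Nat.cast_ofNat] at this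
      linear_combination this
    · have := (mul_eq_zero.mp (h1 y)).resolve_left hc
      linear_combination this
  · intro h y
    rw [expand y, h y]
    ring

end Groth.Agent.S19006
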