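import Groth.Statements.S19007
import Mathlib

set_option autoImplicit false
universe u v w x
open RootD

namespace Groth.Agent.S19007

namespace H19007

variable {ι : Type u} {R : Type v} {M : Type w} {N : Type x} [CommRing R] [IsDomain R] [CharZero R]
    [AddCommGroup M] [Module R M] [AddCommGroup N] [Module R N] (P : RootPairing ι R M N)

/-- Key lemma: for a form invariant under the reflection `s_i` on a submodule containing the
coroot, the polar form against the coroot is determined. -/
lemma polar_coroot (Q : QuadraticMap R N R) (i : ι) (D' : Submodule R N) (hi : P.coroot i ∈ D')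
    (hQ : ∀ y ∈ D', Q (P.coreflection i y) = Q y) (y : N) (hy : y ∈ D') :
    QuadraticMap.polar Q y (P.coroot i) = P.root' i y * Q (P.coroot i) := by
  have h2 : (2 : R) ≠ 0 := two_ne_zero
  -- the basic identity
  have key : ∀ z ∈ D', (P.root' i z) * (P.root' i z * Q (P.coroot i)) =
      (P.root' i z) * QuadraticMap.polar Q z (P.coroot i) := by
    intro z hz
    have h1 := hQ z hz
    rw [P.coreflection_apply, sub_eq_add_neg, ← neg_smul] at h1
    have h3 : Q (z + (-(P.root' i z)) • P.coroot i) = Q z + Q ((-(P.root' i z)) • P.coroot i) +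
        QuadraticMap.polar Q z ((-(P.root' i z)) • P.coroot i) := by
      unfold QuadraticMap.polar; ring
    rw [h3, QuadraticMap.map_smul, QuadraticMap.polar_smul_right] at h1
    simp only [smul_eq_mul] at h1
    linear_combination h1
  by_cases hc : P.root' i y = 0
  · have hz : y + P.coroot i ∈ D' := D'.add_mem hy hi
    have h4 := key _ hz
    have h5 : P.root' i (y + P.coroot i) = 2 := by
      rw [map_add, hc, zero_add]
      exact P.root_coroot_two i
    rw [h5, QuadraticMap.polar_add_left, QuadraticMap.polar_self] at h4
    have h6 : (2 : R) * QuadraticMap.polar Q y (P.coroot i) = 0 := by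
      linear_combination -h4
    rw [hc, zero_mul]
    exact (mul_eq_zero.1 h6).resolve_left h2
  · exact (mul_left_cancel₀ hc (key y hy)).symm



/-- polar forms agreeing on coroots agree on the saturation of their span. -/
lemma polar_eq_of_coroot (Q₁ Q₂ : QuadraticMap R N R) (y : N)
    (h : ∀ i : ι, QuadraticMap.polar Q₁ y (P.coroot i) = QuadraticMap.polar Q₂ y (P.coroot i))
    (d : N) (hd : ∃ n : ℕ, 0 < n ∧ n • d ∈ Submodule.span R (Set.range P.coroot)) :
    QuadraticMap.polar Q₁ y d = QuadraticMap.polar Q₂ y d := by
  have hspan : ∀ z ∈ Submodule.span R (Set.range P.coroot),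
      QuadraticMap.polar Q₁ y z = QuadraticMap.polar Q₂ y z := by
    intro z hz
    induction hz using Submodule.span_induction with
    | mem z hz => obtain ⟨i, rfl⟩ := hz; exact h i
    | zero => simp
    | add a b _ _ ha hb => rw [QuadraticMap.polar_add_right, QuadraticMap.polar_add_right, ha, hb]
    | smul c a _ ha => rw [QuadraticMap.polar_smul_right, QuadraticMap.polar_smul_right, ha]
  obtain ⟨n, hn, hnd⟩ := hd
  have h1 := hspan _ hnd
  rw [← Nat.cast_smul_eq_nsmul R, QuadraticMap.polar_smul_right, QuadraticMap.polar_smul_right] at h1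
  have hn0 : (n : R) ≠ 0 := Nat.cast_ne_zero.2 hn.ne'
  simp only [smul_eq_mul] at h1
  exact mul_left_cancel₀ hn0 h1

theorem main (D Y₀ : Submodule R N) (hD : ∀ i : ι, P.coroot i ∈ D)
    (hDsat : ∀ y ∈ D, ∃ n : ℕ, 0 < n ∧ n • y ∈ Submodule.span R (Set.range P.coroot))
    (hc : IsCompl Y₀ D)
    (Q' : QuadraticMap R N R) (hQ' : ∀ (i : ι) (y : N), Q' (P.coreflection i y) = Q' y) :
    Set.BijOn (fun Q : QuadraticMap R N R => Q.comp Y₀.subtype)
      {Q | (∀ (i : ι) (y : N), Q (P.coreflection i y) = Q y) ∧ ∀ y ∈ D, Q y = Q' y} Set.univ := by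
  set π₀ : N →ₗ[R] Y₀ := Submodule.projectionOnto Y₀ D hc with hπ₀
  have hπD : ∀ d ∈ D, π₀ d = 0 := fun d hd =>
    (Submodule.projectionOnto_apply_right hc ⟨d, hd⟩)
  have hπY : ∀ y : Y₀, π₀ (y : N) = y := fun y => Submodule.projectionOnto_apply_left hc y
  refine ⟨fun _ _ => Set.mem_univ _, ?_, ?_⟩
  · -- injectivity
    rintro Q₁ ⟨hQ₁, hQ₁D⟩ Q₂ ⟨hQ₂, hQ₂D⟩ hres
    ext y
    have hy₀ : (π₀ y : N) ∈ Y₀ := (π₀ y).2
    have hd : y - (π₀ y : N) ∈ D := by
      rw [← Submodule.ker_projectionOnto hc, LinearMap.mem_ker, ← hπ₀, map_sub, hπY, sub_self]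
    have hsplit : y = (π₀ y : N) + (y - (π₀ y : N)) := by abel
    have e1 : Q₁ (π₀ y : N) = Q₂ (π₀ y : N) := by
      have := congrArg (fun q : QuadraticMap R Y₀ R => q (π₀ y)) hres
      exact this
    have e2 : Q₁ (y - (π₀ y : N)) = Q₂ (y - (π₀ y : N)) := by rw [hQ₁D _ hd, hQ₂D _ hd]
    have e3 : QuadraticMap.polar Q₁ (π₀ y : N) (y - (π₀ y : N)) =
        QuadraticMap.polar Q₂ (π₀ y : N) (y - (π₀ y : N)) := by
      refine polar_eq_of_coroot P Q₁ Q₂ _ (fun i => ?_) _ (hDsat _ hd)
      rw [polar_coroot P Q₁ i ⊤ trivial (fun z _ => hQ₁ i z) _ trivial,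
        polar_coroot P Q₂ i ⊤ trivial (fun z _ => hQ₂ i z) _ trivial,
        hQ₁D _ (hD i), hQ₂D _ (hD i)]
    have f1 : ∀ Q : QuadraticMap R N R, Q y = Q (π₀ y : N) + Q (y - (π₀ y : N)) +
        QuadraticMap.polar Q (π₀ y : N) (y - (π₀ y : N)) := by
      intro Q
      unfold QuadraticMap.polar
      rw [← hsplit]; ring
    rw [f1 Q₁, f1 Q₂, e1, e2, e3]
  · -- surjectivity
    intro q₀ _
    refine ⟨Q' + (q₀ - Q'.comp Y₀.subtype).comp π₀, ⟨?_, ?_⟩, ?_⟩
    · intro i y
      have h1 : π₀ (P.coreflection i y) = π₀ y := by
        rw [P.coreflection_apply, map_sub, map_smul, hπD _ (hD i), smul_zero, sub_zero]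
      simp only [add_apply, QuadraticMap.comp_apply, hQ' i y, h1]
    · intro y hy
      simp only [add_apply, QuadraticMap.comp_apply, hπD y hy, map_zero, add_zero]
    · ext y
      simp only [QuadraticMap.comp_apply, add_apply, sub_apply,
        Submodule.subtype_apply, hπY]
      ring



omit [IsDomain R] [CharZero R] in
lemma coreflection_reflectionPerm' (i j : ι) :
    P.coreflection (P.reflectionPerm j i) = P.coreflection j * P.coreflection i * P.coreflection j :=
  P.flip.reflection_reflectionPerm

omit [IsDomain R] [CharZero R] in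
/-- invariance from the polar identity. -/
lemma inv_of_polar (Q : QuadraticMap R N R) (j : ι) (y : N)
    (h : QuadraticMap.polar Q y (P.coroot j) = P.root' j y * Q (P.coroot j)) :
    Q (P.coreflection j y) = Q y := by
  have e : P.coreflection j y = y + (-(P.root' j y)) • P.coroot j := by
    rw [P.coreflection_apply, neg_smul, sub_eq_add_neg]
  have e2 : Q (y + (-(P.root' j y)) • P.coroot j) = Q y +
      Q ((-(P.root' j y)) • P.coroot j) +
      QuadraticMap.polar Q y ((-(P.root' j y)) • P.coroot j) := by
    unfold QuadraticMap.polar; ring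
  rw [e, e2, QuadraticMap.map_smul, QuadraticMap.polar_smul_right, h]
  simp only [smul_eq_mul]
  ring

theorem main7 [Finite ι] [P.IsCrystallographic] [P.IsReduced] (b : P.Base) (Q : QuadraticMap R N R) :
    (∀ i : ι, ∀ y ∈ Submodule.span R (Set.range P.coroot), Q (P.coreflection i y) = Q y) ↔
      ∀ i ∈ b.support, ∀ j ∈ b.support, i ≠ j →
        QuadraticMap.polar Q (P.coroot i) (P.coroot j) = P.pairing j i * Q (P.coroot j) := by
  constructor
  · intro h i _ j _ _
    have := polar_coroot P Q j (Submodule.span R (Set.range P.coroot))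
      (Submodule.subset_span ⟨j, rfl⟩) (h j) (P.coroot i) (Submodule.subset_span ⟨i, rfl⟩)
    rw [this, P.root'_coroot_eq_pairing]
  · intro h
    -- stability of the coroot span
    have hstab : ∀ (i : ι), ∀ y ∈ Submodule.span R (Set.range P.coroot),
        P.coreflection i y ∈ Submodule.span R (Set.range P.coroot) := by
      intro i y hy
      rw [P.coreflection_apply]
      exact sub_mem hy (Submodule.smul_mem _ _ (Submodule.subset_span ⟨i, rfl⟩))
    -- simple reflections
    have hsimple : ∀ j ∈ b.support, ∀ y ∈ Submodule.span R (Set.range P.coroot),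
        Q (P.coreflection j y) = Q y := by
      intro j hj
      have hC : ∀ z ∈ Submodule.span R (P.coroot '' b.support),
          QuadraticMap.polar Q z (P.coroot j) = P.root' j z * Q (P.coroot j) := by
        intro z hz
        induction hz using Submodule.span_induction with
        | mem z hz =>
          obtain ⟨i, hi, rfl⟩ := hz
          by_cases hij : i = j
          · subst hij
            rw [QuadraticMap.polar_self, P.root'_coroot_eq_pairing, P.pairing_same]
            simp
          · rw [h i hi j hj hij, P.root'_coroot_eq_pairing]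
        | zero => simp
        | add a c _ _ ha hc =>
          rw [QuadraticMap.polar_add_left, map_add, add_mul, ha, hc]
        | smul r a _ ha =>
          rw [QuadraticMap.polar_smul_left, map_smul, smul_eq_mul, smul_eq_mul, mul_assoc, ha]
      intro y hy
      apply inv_of_polar
      apply hC
      rw [b.span_coroot_support]; exact hy
    intro i
    refine b.induction_reflect i (p := fun i => ∀ y ∈ Submodule.span R (Set.range P.coroot),
      Q (P.coreflection i y) = Q y) ?_ hsimple ?_
    · intro i hi y hy
      rw [coreflection_reflectionPerm' P i i]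
      simp only [LinearEquiv.mul_apply]
      rw [hi _ (hstab i _ (hstab i y hy)), hi _ (hstab i y hy), hi y hy]
    · intro i j hi hj y hy
      rw [coreflection_reflectionPerm' P i j]
      simp only [LinearEquiv.mul_apply]
      rw [hsimple j hj _ (hstab i _ (hstab j y hy)), hi _ (hstab j y hy), hsimple j hj y hy]

end H19007

/-- Let P be a finite reduced crystallographic root pairing over an integral domain of characteristic
zero, b a base of P (a system of simple roots) and Q a quadratic form on the coweight module with
polar form B. Then Q is invariant under all root reflections (equivalently under the Weyl group) on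
the span of the coroots if and only if for all pairs of distinct simple roots α_i ≠ α_j one has
B(α_i^∨, α_j^∨) = ⟨α_j, α_i^∨⟩ Q(α_j^∨). (In the source the form is integer-valued on the lattice
spanned by the coroots and the condition says that the bilinear form lies in the kernel of the last
map of a three-term complex built from the Bruhat cells of codimension at most two; here the form
takes values in the base ring.) -/
theorem result {ι : Type u} {R : Type v} {M : Type w} {N : Type x} [CommRing R] [IsDomain R] [CharZero R]
    [AddCommGroup M] [Module R M] [AddCommGroup N] [Module R N] (P : RootPairing ι R M N)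
    [Finite ι] [P.IsCrystallographic] [P.IsReduced] (b : P.Base) (Q : QuadraticMap R N R) :
    (∀ i : ι, ∀ y ∈ Submodule.span R (Set.range P.coroot), Q (P.coreflection i y) = Q y) ↔
      ∀ i ∈ b.support, ∀ j ∈ b.support, i ≠ j →
        QuadraticMap.polar Q (P.coroot i) (P.coroot j) = P.pairing j i * Q (P.coroot j) := by
  exact H19007.main7 P b Q

end Groth.Agent.S19007
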