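import Groth.Statements.S19009
import Mathlib

set_option autoImplicit false
universe u v w x
open RootD

namespace Groth.Agent.S19009

namespace H19009

variable {ι : Type u} {R : Type v} {M : Type w} {N : Type x} [CommRing R] [IsDomain R] [CharZero R]
    [AddCommGroup M] [Module R M] [AddCommGroup N] [Module R N] (P : RootPairing ι R M N)

/-- Key lemma: for a form invariant under the reflection `s_i` on a submodule containing the
coroot, the polar form against the coroot is determined. -/
lemma polar_coroot (Q : QuadraticMap R N R) (i : ι) (D' : Submodule R N) (hi : P.coroot i ∈ D')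
    (hQ : ∀ y ∈ D', Q (P.coreflection i y) = Q y) (y : N) (hy : y ∈ D') :
    QuadraticMap.polar Q y (P.coroot i) = P.root' i y * Q (P.coroot i) := by
  have h2 : (2 : R) ≠ 0 := two_ne_zero
  -- the basic identity
  have key : ∀ z ∈ D', (P.root' i z) * (P.root' i z * Q (P.coroot i)) =
      (P.root' i z) * QuadraticMap.polar Q z (P.coroot i) := by
    intro z hz
    have h1 := hQ z hz
    rw [P.coreflection_apply, sub_eq_add_neg, ← neg_smul] at h1
    have h3 : Q (z + (-(P.root' i z)) • P.coroot i) = Q z + Q ((-(P.root' i z)) • P.coroot i) +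
        QuadraticMap.polar Q z ((-(P.root' i z)) • P.coroot i) := by
      unfold QuadraticMap.polar; ring
    rw [h3, QuadraticMap.map_smul, QuadraticMap.polar_smul_right] at h1
    simp only [smul_eq_mul] at h1
    linear_combination h1
  by_cases hc : P.root' i y = 0
  · have hz : y + P.coroot i ∈ D' := D'.add_mem hy hi
    have h4 := key _ hz
    have h5 : P.root' i (y + P.coroot i) = 2 := by
      rw [map_add, hc, zero_add]
      exact P.root_coroot_two i
    rw [h5, QuadraticMap.polar_add_left, QuadraticMap.polar_self] at h4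
    have h6 : (2 : R) * QuadraticMap.polar Q y (P.coroot i) = 0 := by
      linear_combination -h4
    rw [hc, zero_mul]
    exact (mul_eq_zero.1 h6).resolve_left h2
  · exact (mul_left_cancel₀ hc (key y hy)).symm



/-- polar forms agreeing on coroots agree on the saturation of their span. -/
lemma polar_eq_of_coroot (Q₁ Q₂ : QuadraticMap R N R) (y : N)
    (h : ∀ i : ι, QuadraticMap.polar Q₁ y (P.coroot i) = QuadraticMap.polar Q₂ y (P.coroot i))
    (d : N) (hd : ∃ n : ℕ, 0 < n ∧ n • d ∈ Submodule.span R (Set.range P.coroot)) :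
    QuadraticMap.polar Q₁ y d = QuadraticMap.polar Q₂ y d := by
  have hspan : ∀ z ∈ Submodule.span R (Set.range P.coroot),
      QuadraticMap.polar Q₁ y z = QuadraticMap.polar Q₂ y z := by
    intro z hz
    induction hz using Submodule.span_induction with
    | mem z hz => obtain ⟨i, rfl⟩ := hz; exact h i
    | zero => simp
    | add a b _ _ ha hb => rw [QuadraticMap.polar_add_right, QuadraticMap.polar_add_right, ha, hb]
    | smul c a _ ha => rw [QuadraticMap.polar_smul_right, QuadraticMap.polar_smul_right, ha]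
  obtain ⟨n, hn, hnd⟩ := hd
  have h1 := hspan _ hnd
  rw [← Nat.cast_smul_eq_nsmul R, QuadraticMap.polar_smul_right, QuadraticMap.polar_smul_right] at h1
  have hn0 : (n : R) ≠ 0 := Nat.cast_ne_zero.2 hn.ne'
  simp only [smul_eq_mul] at h1
  exact mul_left_cancel₀ hn0 h1

theorem main (D Y₀ : Submodule R N) (hD : ∀ i : ι, P.coroot i ∈ D)
    (hDsat : ∀ y ∈ D, ∃ n : ℕ, 0 < n ∧ n • y ∈ Submodule.span R (Set.range P.coroot))
    (hc : IsCompl Y₀ D)
    (Q' : QuadraticMap R N R) (hQ' : ∀ (i : ι) (y : N), Q' (P.coreflection i y) = Q' y) :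
    Set.BijOn (fun Q : QuadraticMap R N R => Q.comp Y₀.subtype)
      {Q | (∀ (i : ι) (y : N), Q (P.coreflection i y) = Q y) ∧ ∀ y ∈ D, Q y = Q' y} Set.univ := by
  set π₀ : N →ₗ[R] Y₀ := Submodule.projectionOnto Y₀ D hc with hπ₀
  have hπD : ∀ d ∈ D, π₀ d = 0 := fun d hd =>
    (Submodule.projectionOnto_apply_right hc ⟨d, hd⟩)
  have hπY : ∀ y : Y₀, π₀ (y : N) = y := fun y => Submodule.projectionOnto_apply_left hc y
  refine ⟨fun _ _ => Set.mem_univ _, ?_, ?_⟩
  · -- injectivity
    rintro Q₁ ⟨hQ₁, hQ₁D⟩ Q₂ ⟨hQ₂, hQ₂D⟩ hres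
    ext y
    have hy₀ : (π₀ y : N) ∈ Y₀ := (π₀ y).2
    have hd : y - (π₀ y : N) ∈ D := by
      rw [← Submodule.ker_projectionOnto hc, LinearMap.mem_ker, ← hπ₀, map_sub, hπY, sub_self]
    have hsplit : y = (π₀ y : N) + (y - (π₀ y : N)) := by abel
    have e1 : Q₁ (π₀ y : N) = Q₂ (π₀ y : N) := by
      have := congrArg (fun q : QuadraticMap R Y₀ R => q (π₀ y)) hres
      exact this
    have e2 : Q₁ (y - (π₀ y : N)) = Q₂ (y - (π₀ y : N)) := by rw [hQ₁D _ hd, hQ₂D _ hd]
    have e3 : QuadraticMap.polar Q₁ (π₀ y : N) (y - (π₀ y : N)) =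
        QuadraticMap.polar Q₂ (π₀ y : N) (y - (π₀ y : N)) := by
      refine polar_eq_of_coroot P Q₁ Q₂ _ (fun i => ?_) _ (hDsat _ hd)
      rw [polar_coroot P Q₁ i ⊤ trivial (fun z _ => hQ₁ i z) _ trivial,
        polar_coroot P Q₂ i ⊤ trivial (fun z _ => hQ₂ i z) _ trivial,
        hQ₁D _ (hD i), hQ₂D _ (hD i)]
    have f1 : ∀ Q : QuadraticMap R N R, Q y = Q (π₀ y : N) + Q (y - (π₀ y : N)) +
        QuadraticMap.polar Q (π₀ y : N) (y - (π₀ y : N)) := by
      intro Q
      unfold QuadraticMap.polar
      rw [← hsplit]; ring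
    rw [f1 Q₁, f1 Q₂, e1, e2, e3]
  · -- surjectivity
    intro q₀ _
    refine ⟨Q' + (q₀ - Q'.comp Y₀.subtype).comp π₀, ⟨?_, ?_⟩, ?_⟩
    · intro i y
      have h1 : π₀ (P.coreflection i y) = π₀ y := by
        rw [P.coreflection_apply, map_sub, map_smul, hπD _ (hD i), smul_zero, sub_zero]
      simp only [add_apply, QuadraticMap.comp_apply, hQ' i y, h1]
    · intro y hy
      simp only [add_apply, QuadraticMap.comp_apply, hπD y hy, map_zero, add_zero]
    · ext y
      simp only [QuadraticMap.comp_apply, add_apply, sub_apply,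
        Submodule.subtype_apply, hπY]
      ring



theorem main9 (D Y₀ : Submodule R N) (hD : ∀ i : ι, P.coroot i ∈ D)
    (hc : IsCompl Y₀ D)
    (Qd : QuadraticMap R N R) (hQd : ∀ i : ι, ∀ y ∈ D, Qd (P.coreflection i y) = Qd y) :
    (∃ Q : QuadraticMap R N R, (∀ (i : ι) (y : N), Q (P.coreflection i y) = Q y) ∧ ∀ y ∈ D, Q y = Qd y) ↔
      ∃ Φ : N →ₗ[R] N →ₗ[R] R, ∀ y₀ ∈ Y₀, ∀ i : ι,
        Φ y₀ (P.coroot i) = P.root' i y₀ * Qd (P.coroot i) := by
  constructor
  · rintro ⟨Q, hQ, hQD⟩
    refine ⟨Q.polarBilin, fun y₀ _ i => ?_⟩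
    rw [QuadraticMap.polarBilin_apply_apply,
      polar_coroot P Q i ⊤ trivial (fun z _ => hQ i z) _ trivial, hQD _ (hD i)]
  · rintro ⟨Φ, hΦ⟩
    set π₀ : N →ₗ[R] Y₀ := Submodule.projectionOnto Y₀ D hc with hπ₀
    set πD : N →ₗ[R] D := Submodule.projectionOnto D Y₀ hc.symm with hπD
    have hπ₀D : ∀ d ∈ D, π₀ d = 0 := fun d hd =>
      (Submodule.projectionOnto_apply_right hc ⟨d, hd⟩)
    have hπDD : ∀ d : D, πD (d : N) = d := fun d => Submodule.projectionOnto_apply_left hc.symm d
    have hsplit : ∀ y : N, y = (π₀ y : N) + (πD y : N) := by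
      intro y
      have := Submodule.projection_add_projection_eq_self hc y
      rw [← Submodule.coe_projectionOnto_apply, ← Submodule.coe_projectionOnto_apply] at this
      exact this.symm
    let β : N →ₗ[R] N →ₗ[R] R := Φ.compl₁₂ (Y₀.subtype ∘ₗ π₀) (D.subtype ∘ₗ πD)
    let Q : QuadraticMap R N R := Qd.comp (D.subtype ∘ₗ πD) + LinearMap.BilinMap.toQuadraticMap β
    have hQapp : ∀ y : N, Q y = Qd (πD y : N) + Φ (π₀ y : N) (πD y : N) := by
      intro y
      simp [Q, β]
    refine ⟨Q, ?_, ?_⟩
    · intro i y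
      rw [hQapp, hQapp]
      have h1 : π₀ (P.coreflection i y) = π₀ y := by
        rw [P.coreflection_apply, map_sub, map_smul, hπ₀D _ (hD i), smul_zero, sub_zero]
      have h2 : (πD (P.coreflection i y) : N) = (πD y : N) - (P.root' i y) • P.coroot i := by
        rw [P.coreflection_apply, map_sub, map_smul, hπDD ⟨_, hD i⟩]
        rfl
      rw [h1, h2]
      have h3 : P.root' i y = P.root' i (π₀ y : N) + P.root' i (πD y : N) := by
        conv_lhs => rw [hsplit y]
        rw [map_add]
      have h4 := polar_coroot P Qd i D (hD i) (hQd i) (πD y : N) (πD y).2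
      have h5 := hΦ (π₀ y : N) (π₀ y).2 i
      have h6 : Qd ((πD y : N) - (P.root' i y) • P.coroot i) = Qd (πD y : N) +
          (P.root' i y) * (P.root' i y) * Qd (P.coroot i) -
          (P.root' i y) * QuadraticMap.polar Qd (πD y : N) (P.coroot i) := by
        have e : (πD y : N) - (P.root' i y) • P.coroot i =
            (πD y : N) + (-(P.root' i y)) • P.coroot i := by rw [neg_smul, sub_eq_add_neg]
        have e2 : Qd ((πD y : N) + (-(P.root' i y)) • P.coroot i) = Qd (πD y : N) +
            Qd ((-(P.root' i y)) • P.coroot i) +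
            QuadraticMap.polar Qd (πD y : N) ((-(P.root' i y)) • P.coroot i) := by
          unfold QuadraticMap.polar; ring
        rw [e, e2, QuadraticMap.map_smul, QuadraticMap.polar_smul_right]
        simp only [smul_eq_mul]
        ring
      rw [h6, map_sub, map_smul, h4, h5, smul_eq_mul, h3]
      ring
    · intro y hy
      rw [hQapp, hπ₀D y hy, hπDD ⟨y, hy⟩]
      simp

end H19009

/-- Let P be a root pairing over an integral domain R of characteristic zero (roots α acting on the
coweight module N through reflections y ↦ y − ⟨α, y⟩ α^∨), D ⊆ N a submodule containing every coroot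
and such that every element of D has a positive integer multiple in the span of the coroots (the
derived part), and Y₀ a complement of D in N. Let Q_d be a quadratic form on N whose restriction to
D is invariant under all root reflections. Then there is a quadratic form on N, invariant under all
root reflections and agreeing with Q_d on D, if and only if there is an R-bilinear form Φ on N with
Φ(y₀, α^∨) = ⟨α, y₀⟩ Q_d(α^∨) for all y₀ in Y₀ and all roots α. (In the source R = ℤ, N = Y₀ ⊕ Y_der
is the cocharacter lattice of a split reductive group, and the condition is phrased as integrality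
on Y₀ × Y_der of the pairing y₀, y ↦ B(q(y₀), y) deduced from the polar form B of Q_d; that pairing
is characterised by the displayed values on coroots, only the values of Φ on Y₀ × D matter, and
forms take values in R here.) -/
theorem result {ι : Type u} {R : Type v} {M : Type w} {N : Type x} [CommRing R] [IsDomain R] [CharZero R]
    [AddCommGroup M] [Module R M] [AddCommGroup N] [Module R N] (P : RootPairing ι R M N)
    (D Y₀ : Submodule R N) (hD : ∀ i : ι, P.coroot i ∈ D)
    (hDsat : ∀ y ∈ D, ∃ n : ℕ, 0 < n ∧ n • y ∈ Submodule.span R (Set.range P.coroot))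
    (hc : IsCompl Y₀ D)
    (Qd : QuadraticMap R N R) (hQd : ∀ i : ι, ∀ y ∈ D, Qd (P.coreflection i y) = Qd y) :
    (∃ Q : QuadraticMap R N R, (∀ (i : ι) (y : N), Q (P.coreflection i y) = Q y) ∧ ∀ y ∈ D, Q y = Qd y) ↔
      ∃ Φ : N →ₗ[R] N →ₗ[R] R, ∀ y₀ ∈ Y₀, ∀ i : ι,
        Φ y₀ (P.coroot i) = P.root' i y₀ * Qd (P.coroot i) := by
  exact H19009.main9 P D Y₀ hD hc Qd hQd

end Groth.Agent.S19009
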