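import Groth.Statements.S19011
import Mathlib

set_option autoImplicit false
universe u v w x
open RootD

namespace Groth.Agent.S19011

namespace H19011
open Set Function Submodule IsAddIndecomposable

variable {ι : Type u} {R : Type v} {M : Type w} {N : Type x} [CommRing R] [IsDomain R] [CharZero R]
    [AddCommGroup M] [Module R M] [AddCommGroup N] [Module R N] (P : RootPairing ι R M N)
    [Finite ι] [P.IsCrystallographic]

/-- generic integer functional -/
lemma exists_functional : ∃ f : Module.Dual ℤ (P.rootSpan ℤ), ∀ i, f (P.rootSpanMem ℤ i) ≠ 0 := by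
  classical
  have _i : Fintype ι := Fintype.ofFinite ι
  let F : ι → Module.Dual ℚ (ι → ℚ) := fun i => ∑ j, (P.pairingIn ℤ i j : ℚ) • LinearMap.proj j
  have hF : ∀ i, ∃ x, F i x ≠ 0 := by
    intro i
    refine ⟨Pi.single i 1, ?_⟩
    simp [F, Pi.single_apply]
  obtain ⟨x, hx⟩ := Module.Dual.exists_forall_ne_zero_of_forall_exists F hF
  obtain ⟨b, hb⟩ := IsLocalization.exist_integer_multiples_of_finite (nonZeroDivisors ℤ) x
  choose c hc using hb
  refine ⟨∑ j, c j • P.coroot'In ℤ j, fun i => ?_⟩
  have h1 : (∑ j, c j • P.coroot'In ℤ j) (P.rootSpanMem ℤ i) = ∑ j, c j * P.pairingIn ℤ i j := by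
    simp [LinearMap.sum_apply]
  rw [h1]
  have h2 : ((∑ j, c j * P.pairingIn ℤ i j : ℤ) : ℚ) = (b : ℤ) * F i x := by
    simp only [F, LinearMap.sum_apply, LinearMap.smul_apply, LinearMap.proj_apply, smul_eq_mul,
      Finset.mul_sum, Int.cast_sum, Int.cast_mul]
    refine Finset.sum_congr rfl fun j _ => ?_
    have := hc j
    simp only [eq_intCast, zsmul_eq_mul] at this
    rw [this]; ring
  intro h0
  rw [h0, Int.cast_zero] at h2
  have hb0 : ((b : ℤ) : ℚ) ≠ 0 := by
    exact_mod_cast nonZeroDivisors.coe_ne_zero b
  exact (mul_ne_zero hb0 (hx i)) h2.symm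

variable [P.IsReduced]

theorem rootKer :
    LinearMap.ker (Finsupp.linearCombination ℤ (fun i : ι => (P.root i : M))) =
      Submodule.span ℤ (Set.range fun p : ι × ι =>
        Finsupp.single (P.reflectionPerm p.1 p.2) (1 : ℤ) - Finsupp.single p.2 1 +
          P.pairingIn ℤ p.2 p.1 • Finsupp.single p.1 1) := by
  classical
  have _i : Fintype ι := Fintype.ofFinite ι
  let _n : InvolutiveNeg ι := P.indexNeg
  set K := Submodule.span ℤ (Set.range fun p : ι × ι =>
        Finsupp.single (P.reflectionPerm p.1 p.2) (1 : ℤ) - Finsupp.single p.2 1 +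
          P.pairingIn ℤ p.2 p.1 • Finsupp.single p.1 1) with hK
  set φ := Finsupp.linearCombination ℤ (fun i : ι => (P.root i : M)) with hφ
  have hrel : ∀ i j : ι, Finsupp.single (P.reflectionPerm i j) (1 : ℤ) - Finsupp.single j 1 +
          P.pairingIn ℤ j i • Finsupp.single i 1 ∈ K :=
    fun i j => Submodule.subset_span ⟨(i, j), rfl⟩
  have hKφ : K ≤ LinearMap.ker φ := by
    rw [hK, Submodule.span_le]
    rintro _ ⟨⟨i, j⟩, rfl⟩
    simp only [SetLike.mem_coe, LinearMap.mem_ker, map_add, map_sub, map_smul, hφ,
      Finsupp.linearCombination_single, one_smul]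
    rw [P.root_reflectionPerm, P.reflection_apply_root' ℤ]
    abel
  refine le_antisymm ?_ hKφ
  obtain ⟨f, hf0⟩ := exists_functional P
  let v : ι → P.rootSpan ℤ := P.rootSpanMem ℤ
  have hf : ∀ i, f (v i) ≠ 0 := hf0
  have hv_neg : ∀ i, v (-i) = - v i := fun i => P.rootSpanMem_reflectionPerm_self ℤ i
  let f' : P.rootSpan ℤ →+ ℤ := f.toAddMonoidHom
  have hf' : ∀ i, f' (v i) ≠ 0 := hf
  set Δ : Set ι := baseOf v f' with hΔ
  have hΔpos : ∀ j ∈ Δ, 0 < f (v j) := fun j hj => baseOf_subset_pos v f' hj
  have hclos : AddSubmonoid.closure (v '' Δ) = AddSubmonoid.closure (v '' {i | 0 < f' (v i)}) :=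
    AddSubmonoid.closure_image_isAddIndecomposable_baseOf v f'
  have hpos_mem : ∀ i, 0 < f (v i) → v i ∈ AddSubmonoid.closure (v '' Δ) := by
    intro i hi
    rw [hclos]
    exact AddSubmonoid.subset_closure ⟨i, hi, rfl⟩
  -- pairwise nonpositive
  have hpair : Δ.Pairwise fun i j => P.pairingIn ℤ i j ≤ 0 := by
    intro i hi j hj hne
    have := IsAddIndecomposable.pairwise_baseOf_sub_notMem v hv_neg f' hf' hi hj hne
    contrapose! this
    obtain ⟨k, hk⟩ := P.root_sub_root_mem_of_pairingIn_pos this hne
    exact ⟨k, Subtype.ext (by simpa [v] using hk)⟩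
  -- linear independence
  have hli : LinearIndependent ℤ (fun j : Δ => v j) := by
    obtain ⟨B, hB⟩ : ∃ B : P.RootPositiveForm ℤ, B.posForm.toQuadraticMap.PosDef :=
      ⟨P.posRootForm ℤ, by simpa using P.posRootForm_rootFormIn_posDef ℤ⟩
    refine LinearMap.BilinForm.linearIndependent_of_pairwise_le_zero B.posForm hB f
      (fun j : Δ => v j) (fun j => hΔpos j j.2) ?_
    rintro ⟨i, hi⟩ ⟨j, hj⟩ hij
    show B.posForm (v i) (v j) ≤ 0
    simp only [v]
    rw [B.posForm_apply_root_root_le_zero_iff]
    exact hpair hi hj (by simpa using hij)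
  -- span
  have hclos_le : AddSubmonoid.closure (v '' Δ) ≤
      (Submodule.span ℤ (Set.range fun j : Δ => v j)).toAddSubmonoid := by
    rw [AddSubmonoid.closure_le]
    rintro _ ⟨j, hj, rfl⟩
    exact Submodule.subset_span ⟨⟨j, hj⟩, rfl⟩
  have hv_span : Submodule.span ℤ (Set.range v) = ⊤ := by
    have : Set.range v = ((↑) : P.rootSpan ℤ → M) ⁻¹' (Set.range P.root) := by
      ext ⟨x, hx⟩
      simp [v, Subtype.ext_iff]
    rw [this]; exact Submodule.span_span_coe_preimage
  have hsp : ⊤ ≤ Submodule.span ℤ (Set.range fun j : Δ => v j) := by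
    rw [← hv_span, Submodule.span_le]
    rintro _ ⟨i, rfl⟩
    rcases lt_or_gt_of_ne (hf i) with h | h
    · have h1 : 0 < f (v (-i)) := by rw [hv_neg, map_neg]; omega
      have h2 := hclos_le (hpos_mem (-i) h1)
      rw [hv_neg] at h2
      exact (Submodule.neg_mem_iff _).1 h2
    · exact hclos_le (hpos_mem i h)
  let b : Module.Basis Δ ℤ (P.rootSpan ℤ) := Module.Basis.mk hli hsp
  have hb_coord : ∀ (k : Δ) (j : Δ), b.coord k (v j) = if j = k then 1 else 0 := by
    intro k j
    exact Module.Basis.mk_coord_apply (hli := hli) (hsp := hsp)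
  have hcoord_nonneg : ∀ x ∈ AddSubmonoid.closure (v '' Δ), ∀ k : Δ, 0 ≤ b.coord k x := by
    intro x hx k
    induction hx using AddSubmonoid.closure_induction with
    | mem x hx =>
      obtain ⟨j, hj, rfl⟩ := hx
      rw [hb_coord k ⟨j, hj⟩]
      split_ifs <;> simp
    | zero => simp
    | add x y _ _ hx hy => rw [map_add]; exact add_nonneg hx hy
  have hvrefl : ∀ β j, v (P.reflectionPerm j β) = v β - P.pairingIn ℤ β j • v j := by
    intro β j
    apply Subtype.ext
    simp [v, P.root_reflectionPerm, P.reflection_apply_root' ℤ]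
  -- Step 5
  have hrefl_pos : ∀ β j, 0 < f (v β) → j ∈ Δ → β ≠ j → 0 < f (v (P.reflectionPerm j β)) := by
    intro β j hβ hj hne
    have hvγ := hvrefl β j
    by_contra hneg
    have hneg' : f (v (P.reflectionPerm j β)) < 0 := lt_of_le_of_ne (not_lt.1 hneg) (hf _)
    have h1 : -(v (P.reflectionPerm j β)) ∈ AddSubmonoid.closure (v '' Δ) := by
      have := hpos_mem (-(P.reflectionPerm j β)) (by rw [hv_neg, map_neg]; omega)
      rwa [hv_neg] at this
    have hc1 := hcoord_nonneg _ (hpos_mem β hβ)
    have hc2 := hcoord_nonneg _ h1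
    have hzero : ∀ k : Δ, k ≠ ⟨j, hj⟩ → b.coord k (v β) = 0 := by
      intro k hk
      have h3 := hc2 k
      rw [map_neg, hvγ, map_sub, map_smul, hb_coord k ⟨j, hj⟩, if_neg (Ne.symm hk), smul_zero,
        sub_zero] at h3
      have := hc1 k
      omega
    have hvβ : v β = b.coord ⟨j, hj⟩ (v β) • v j := by
      have hsum := b.sum_repr (v β)
      rw [Finset.sum_eq_single ⟨j, hj⟩] at hsum
      · have hbj : b ⟨j, hj⟩ = v j := Module.Basis.mk_apply hli hsp ⟨j, hj⟩
        rw [hbj] at hsum
        rw [Module.Basis.coord_apply]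
        exact hsum.symm
      · intro k _ hk
        have := hzero k hk
        rw [Module.Basis.coord_apply] at this
        rw [this, zero_smul]
      · intro h; exact absurd (Finset.mem_univ _) h
    have hnl : ¬ LinearIndependent R ![P.root β, P.root j] := by
      rw [LinearIndependent.pair_iff]
      push Not
      refine ⟨1, -((b.coord ⟨j, hj⟩ (v β) : ℤ) : R), ?_, fun h => absurd h one_ne_zero⟩
      have := congrArg (fun x : P.rootSpan ℤ => (x : M)) hvβ
      simp only [v, Submodule.coe_smul] at this
      rw [one_smul, neg_smul, Int.cast_smul_eq_zsmul, ← this]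
      simp
    rcases RootPairing.IsReduced.eq_or_eq_neg β j hnl with h | h
    · exact hne (P.root.injective h)
    · have h4 : v β = - v j := Subtype.ext (by simpa [v] using h)
      rw [h4, map_neg] at hβ
      have := hΔpos j hj
      omega
  -- Step 4
  let T : Submodule ℤ (ι →₀ ℤ) := K ⊔ Submodule.span ℤ ((fun j => Finsupp.single j (1:ℤ)) '' Δ)
  have hΔT : ∀ j ∈ Δ, Finsupp.single j (1:ℤ) ∈ T := fun j hj =>
    Submodule.mem_sup_right (Submodule.subset_span ⟨j, hj, rfl⟩)
  have hpos_T : ∀ n : ℕ, ∀ β, 0 < f (v β) → (f (v β)).toNat = n → Finsupp.single β (1:ℤ) ∈ T := by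
    intro n
    induction n using Nat.strong_induction_on with
    | _ n ih =>
      intro β hβ hn
      obtain ⟨j, hj, hjβ⟩ : ∃ j ∈ Δ, 0 < P.pairingIn ℤ j β := by
        by_contra! hcon
        have : ∀ x ∈ AddSubmonoid.closure (v '' Δ), P.coroot'In ℤ β x ≤ 0 := by
          intro x hx
          induction hx using AddSubmonoid.closure_induction with
          | mem x hx =>
            obtain ⟨j, hj, rfl⟩ := hx
            simpa [v] using hcon j hj
          | zero => simp
          | add x y _ _ hx hy => rw [map_add]; exact add_nonpos hx hy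
        have h2 := this _ (hpos_mem β hβ)
        simp [v] at h2
      rw [P.zero_lt_pairingIn_iff'] at hjβ
      by_cases hβj : β = j
      · subst hβj; exact hΔT β hj
      · have hγpos := hrefl_pos β j hβ hj hβj
        have hvγ := hvrefl β j
        have hlt : (f (v (P.reflectionPerm j β))).toNat < n := by
          rw [← hn, hvγ, map_sub, map_smul, smul_eq_mul]
          have h5 := hΔpos j hj
          have h6 : 0 < P.pairingIn ℤ β j * f (v j) := mul_pos hjβ h5
          omega
        have hγT := ih _ hlt (P.reflectionPerm j β) hγpos rfl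
        have hr := hrel j β
        have h7 : Finsupp.single β (1:ℤ) = Finsupp.single (P.reflectionPerm j β) (1:ℤ) +
            P.pairingIn ℤ β j • Finsupp.single j (1:ℤ) -
            (Finsupp.single (P.reflectionPerm j β) (1 : ℤ) - Finsupp.single β 1 +
              P.pairingIn ℤ β j • Finsupp.single j 1) := by abel
        rw [h7]
        exact T.sub_mem (T.add_mem hγT (T.smul_mem _ (hΔT j hj))) (Submodule.mem_sup_left hr)
  have hall : ∀ β, Finsupp.single β (1:ℤ) ∈ T := by
    intro β
    rcases lt_or_gt_of_ne (hf β) with h | h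
    · have h1 : 0 < f (v (-β)) := by rw [hv_neg, map_neg]; omega
      have h2 := hpos_T _ (-β) h1 rfl
      have hr := hrel β β
      have h3 : P.pairingIn ℤ β β = 2 := P.pairingIn_same ℤ β
      have h7 : Finsupp.single β (1:ℤ) = (Finsupp.single (P.reflectionPerm β β) (1 : ℤ) -
          Finsupp.single β 1 + P.pairingIn ℤ β β • Finsupp.single β 1) -
          Finsupp.single (-β) (1:ℤ) := by
        rw [h3, two_smul]
        show _ = (Finsupp.single (-β) (1 : ℤ) - Finsupp.single β 1 + (Finsupp.single β 1
          + Finsupp.single β 1)) - Finsupp.single (-β) (1:ℤ)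
        abel
      rw [h7]
      exact T.sub_mem (Submodule.mem_sup_left hr) h2
    · exact hpos_T _ β h rfl
  have hT : ∀ x : ι →₀ ℤ, x ∈ T := by
    intro x
    induction x using Finsupp.induction_linear with
    | zero => exact T.zero_mem
    | add a b ha hb => exact T.add_mem ha hb
    | single i c =>
      have : Finsupp.single i c = c • Finsupp.single i (1:ℤ) := by simp
      rw [this]; exact T.smul_mem _ (hall i)
  intro x hx
  obtain ⟨k, hk, y, hy, rfl⟩ := Submodule.mem_sup.1 (hT x)
  have hφy : φ y = 0 := by
    have h1 := hKφ hk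
    rw [LinearMap.mem_ker] at h1 hx
    rw [map_add, h1, zero_add] at hx
    exact hx
  have hy0 : y = 0 := by
    have hli' : LinearIndepOn ℤ P.root Δ :=
      hli.map' (P.rootSpan ℤ).subtype (Submodule.ker_subtype _)
    rw [linearIndepOn_iff] at hli'
    refine hli' y ?_ hφy
    rw [Finsupp.supported_eq_span_single]; exact hy
  rw [hy0, add_zero]; exact hk

end H19011

namespace H19011
variable {ι : Type u} {R : Type v} {M : Type w} {N : Type x} [CommRing R] [IsDomain R] [CharZero R]
    [AddCommGroup M] [Module R M] [AddCommGroup N] [Module R N] (P : RootPairing ι R M N)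
    [Finite ι] [P.IsCrystallographic] [P.IsReduced]

theorem main :
    LinearMap.ker (Finsupp.linearCombination ℤ (fun i : ι => (P.coroot i : N))) =
      Submodule.span ℤ (Set.range fun p : ι × ι =>
        Finsupp.single (P.reflectionPerm p.1 p.2) (1 : ℤ) - Finsupp.single p.2 1 +
          P.pairingIn ℤ p.1 p.2 • Finsupp.single p.1 1) := by
  have : Module.IsReflexive R M := .of_isPerfPair P.toLinearMap
  have : Module.IsReflexive R N := .of_isPerfPair P.flip.toLinearMap
  have h := rootKer P.flip
  have hp : ∀ i j, P.flip.pairingIn ℤ j i = P.pairingIn ℤ i j := by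
    intro i j
    apply FaithfulSMul.algebraMap_injective ℤ R
    rw [RootPairing.algebraMap_pairingIn, RootPairing.algebraMap_pairingIn]
    rfl
  simp only [hp] at h
  exact h
end H19011

/-- For a finite reduced crystallographic root pairing over an integral domain of characteristic zero,
the additive group generated by the coroots admits the presentation with one generator [β] for each
root β and the relations [s_α(β)] = [β] − ⟨α, β^∨⟩ [α] for all roots α, β, where ⟨α, β^∨⟩ is the
Cartan integer. Concretely: the kernel of the ℤ-linear map from the free abelian group on the index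
type of the roots to the coweight module sending the generator of index β to the coroot β^∨ is the
subgroup generated by the elements [s_α(β)] − [β] + ⟨α, β^∨⟩ [α]. (The source states this for the
cocharacter lattice of a split semi-simple simply connected group, which is the group generated by
the coroots.) -/
theorem result {ι : Type u} {R : Type v} {M : Type w} {N : Type x} [CommRing R] [IsDomain R] [CharZero R]
    [AddCommGroup M] [Module R M] [AddCommGroup N] [Module R N] (P : RootPairing ι R M N)
    [Finite ι] [P.IsCrystallographic] [P.IsReduced] :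
    LinearMap.ker (Finsupp.linearCombination ℤ (fun i : ι => (P.coroot i : N))) =
      Submodule.span ℤ (Set.range fun p : ι × ι =>
        Finsupp.single (P.reflectionPerm p.1 p.2) (1 : ℤ) - Finsupp.single p.2 1 +
          P.pairingIn ℤ p.1 p.2 • Finsupp.single p.1 1) := by
  exact H19011.main P

end Groth.Agent.S19011
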