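import Groth.Statements.S19012
import Mathlib
import Groth.Agent.S19010

set_option autoImplicit false
universe u v w x
open RootD

namespace Groth.Agent.S19012

namespace H19012
open Groth.Agent.S19010

theorem main {ι : Type u} {K : Type v} {M : Type w} {N : Type x} [Field K] [CharZero K]
    [AddCommGroup M] [Module K M] [AddCommGroup N] [Module K N] (P : RootPairing ι K M N)
    [P.IsIrreducible]
    (Q : QuadraticMap K N K) (hQ : ∀ (i : ι) (y : N), Q (P.coreflection i y) = Q y)
    (i₀ : ι) (h0 : Q (P.coroot i₀) = 0) : Q = 0 := by
  have hpol : ∀ (i : ι) (y : N), QuadraticMap.polar Q y (P.coroot i) = P.root' i y * Q (P.coroot i) :=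
    fun i y => H19010.polar_coroot P Q i ⊤ trivial (fun z _ => hQ i z) y trivial
  let Z : Set ι := {i | Q (P.coroot i) = 0}
  let q : Submodule K N := Submodule.span K (P.coroot '' Z)
  have hZ : ∀ i ∈ Z, ∀ j, P.pairing j i ≠ 0 → j ∈ Z := by
    intro i hi j hji
    have h1 := hpol j (P.coroot i)
    have h2 := hpol i (P.coroot j)
    rw [QuadraticMap.polar_comm, h1] at h2
    have hi' : Q (P.coroot i) = 0 := hi
    rw [hi', mul_zero] at h2
    have h3 : P.root' j (P.coroot i) = P.pairing j i := rfl
    rw [h3] at h2
    exact (mul_eq_zero.1 h2).resolve_left hji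
  have hq_inv : ∀ j, q ∈ Module.End.invtSubmodule (P.coreflection j) := by
    intro j
    rw [Module.End.mem_invtSubmodule]
    intro y hy
    rw [Submodule.mem_comap]
    induction hy using Submodule.span_induction with
    | mem z hz =>
      obtain ⟨i, hi, rfl⟩ := hz
      rw [LinearEquiv.coe_coe, P.coreflection_apply]
      by_cases hji : P.pairing j i = 0
      · have : P.root' j (P.coroot i) = P.pairing j i := rfl
        rw [this, hji, zero_smul, sub_zero]
        exact Submodule.subset_span ⟨i, hi, rfl⟩
      · exact q.sub_mem (Submodule.subset_span ⟨i, hi, rfl⟩)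
          (q.smul_mem _ (Submodule.subset_span ⟨j, hZ i hi j hji, rfl⟩))
    | zero => simp
    | add a b _ _ ha hb => rw [map_add]; exact q.add_mem ha hb
    | smul c a _ ha => rw [map_smul]; exact q.smul_mem c ha
  have hq_ne : q ≠ ⊥ := by
    intro h
    have : P.coroot i₀ ∈ q := Submodule.subset_span ⟨i₀, h0, rfl⟩
    rw [h, Submodule.mem_bot] at this
    exact P.flip.ne_zero i₀ this
  have hq_top : q = ⊤ := RootPairing.IsIrreducible.eq_top_of_invtSubmodule_coreflection q hq_inv hq_ne
  have hpolar0 : ∀ y z : N, QuadraticMap.polar Q y z = 0 := by
    intro y z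
    have hz : z ∈ q := hq_top ▸ Submodule.mem_top
    induction hz using Submodule.span_induction with
    | mem z hz =>
      obtain ⟨i, hi, rfl⟩ := hz
      rw [hpol i y]
      have hi' : Q (P.coroot i) = 0 := hi
      rw [hi', mul_zero]
    | zero => simp
    | add a b _ _ ha hb => rw [QuadraticMap.polar_add_right, ha, hb, add_zero]
    | smul c a _ ha => rw [QuadraticMap.polar_smul_right, ha, smul_zero]
  ext y
  have h1 := hpolar0 y y
  rw [QuadraticMap.polar_self] at h1
  have h2 : (2 : K) ≠ 0 := two_ne_zero
  rw [two_nsmul, ← two_mul] at h1
  exact (mul_eq_zero.1 h1).resolve_left h2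

end H19012

/-- Let P be a finite reduced crystallographic root pairing over a field of characteristic zero which is
irreducible, and b a base. A quadratic form on the coweight module that is invariant under all root
reflections and vanishes on some simple coroot is zero; in other words an invariant form is
determined by its value on a single simple coroot. (The source proves, component by component of the
Dynkin diagram, that an invariant integer-valued form on the coroot lattice with prescribed value on
the first simple coroot of each component is unique; here the system is irreducible, the coroots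
span the coweight module, and forms take values in the base field.) -/
theorem result {ι : Type u} {K : Type v} {M : Type w} {N : Type x} [Field K] [CharZero K]
    [AddCommGroup M] [Module K M] [AddCommGroup N] [Module K N] (P : RootPairing ι K M N)
    [Finite ι] [P.IsCrystallographic] [P.IsReduced] [P.IsIrreducible] (b : P.Base)
    (Q : QuadraticMap K N K) (hQ : ∀ (i : ι) (y : N), Q (P.coreflection i y) = Q y)
    (i₀ : ι) (hi₀ : i₀ ∈ b.support) (h0 : Q (P.coroot i₀) = 0) : Q = 0 := by
  exact H19012.main P Q hQ i₀ h0

end Groth.Agent.S19012
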