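import Groth.Statements.S19019
import Mathlib

set_option autoImplicit false
open scoped ComplexOrder
open Toeplitz

namespace S19019aux
open Complex MeasureTheory intervalIntegral Real

/-- the character `y ↦ exp (i n y)` -/
noncomputable def e (n : ℤ) (y : ℝ) : ℂ := Complex.exp (Complex.I * (n : ℂ) * (y : ℂ))

theorem e_add (a b : ℤ) (y : ℝ) : e (a + b) y = e a y * e b y := by
  unfold e
  rw [← Complex.exp_add]
  congr 1
  push_cast
  ring

theorem e_zero (y : ℝ) : e 0 y = 1 := by simp [e]

theorem e_conj (a : ℤ) (y : ℝ) : (starRingEnd ℂ) (e a y) = e (-a) y := by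
  unfold e
  rw [← Complex.exp_conj]
  congr 1
  simp

@[fun_prop]
theorem continuous_e (n : ℤ) : Continuous (e n) := by
  unfold e
  fun_prop

theorem integral_e (n : ℤ) :
    ∫ y in (0 : ℝ)..(2 * π), e n y = if n = 0 then (2 * π : ℂ) else 0 := by
  split_ifs with h
  · subst h
    simp [e_zero]
  · have hc : Complex.I * (n : ℂ) ≠ 0 := mul_ne_zero Complex.I_ne_zero (by exact_mod_cast h)
    unfold e
    rw [integral_exp_mul_complex hc]
    have : Complex.exp (Complex.I * (n : ℂ) * ((2 * π : ℝ) : ℂ)) = 1 := by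
      have := Complex.exp_int_mul_two_pi_mul_I n
      rw [← this]
      congr 1
      push_cast
      ring
    rw [this]
    simp


variable (m : ℕ) (t : ℤ → ℂ) (x : Fin m → ℂ)

/-- the symbol -/
noncomputable def f (y : ℝ) : ℂ := ∑ k ∈ Finset.Ioo (-(m : ℤ)) (m : ℤ), t k * e k y

/-- the trigonometric polynomial attached to the vector `x` -/
noncomputable def p (y : ℝ) : ℂ := ∑ j : Fin m, x j * e (-(j : ℤ)) y

@[fun_prop]
theorem continuous_f : Continuous (f m t) := by
  unfold f
  fun_prop

@[fun_prop]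
theorem continuous_p : Continuous (p m x) := by
  unfold p
  fun_prop

theorem conj_p (y : ℝ) :
    (starRingEnd ℂ) (p m x y) = ∑ i : Fin m, (starRingEnd ℂ) (x i) * e (i : ℤ) y := by
  simp only [p, map_sum, map_mul, e_conj, neg_neg]

theorem expand (y : ℝ) : f m t y * ((starRingEnd ℂ) (p m x y) * p m x y) =
    ∑ k ∈ Finset.Ioo (-(m : ℤ)) (m : ℤ), ∑ i : Fin m, ∑ j : Fin m,
      (t k * (starRingEnd ℂ) (x i) * x j) * e (k + ((i : ℤ) + -(j : ℤ))) y := by
  rw [conj_p]
  unfold f p
  rw [Finset.sum_mul_sum, Finset.sum_mul_sum]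
  refine Finset.sum_congr rfl fun k _ => Finset.sum_congr rfl fun i _ => ?_
  rw [Finset.mul_sum]
  refine Finset.sum_congr rfl fun j _ => ?_
  rw [e_add, e_add]
  ring

theorem quad_eq (A : Matrix (Fin m) (Fin m) ℂ)
    (hA : ∀ i j : Fin m, A i j = t ((j : ℤ) - (i : ℤ))) :
    ∫ y in (0 : ℝ)..(2 * π), f m t y * ((starRingEnd ℂ) (p m x y) * p m x y) =
      (2 * π : ℂ) * (star x ⬝ᵥ A.mulVec x) := by
  simp_rw [expand]
  rw [intervalIntegral.integral_finsetSum
    (fun _ _ => (by fun_prop : Continuous _).intervalIntegrable _ _)]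
  have h2 : ∀ k ∈ Finset.Ioo (-(m : ℤ)) (m : ℤ),
      ∫ y in (0 : ℝ)..(2 * π), ∑ i : Fin m, ∑ j : Fin m,
        (t k * (starRingEnd ℂ) (x i) * x j) * e (k + ((i : ℤ) + -(j : ℤ))) y =
      ∑ i : Fin m, ∑ j : Fin m, (t k * (starRingEnd ℂ) (x i) * x j) *
        (if k = (j : ℤ) - (i : ℤ) then (2 * π : ℂ) else 0) := by
    intro k _
    rw [intervalIntegral.integral_finsetSum
      (fun _ _ => (by fun_prop : Continuous _).intervalIntegrable _ _)]
    refine Finset.sum_congr rfl fun i _ => ?_
    rw [intervalIntegral.integral_finsetSum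
      (fun _ _ => (by fun_prop : Continuous _).intervalIntegrable _ _)]
    refine Finset.sum_congr rfl fun j _ => ?_
    rw [intervalIntegral.integral_const_mul, integral_e]
    congr 1
    have : (k + ((i : ℤ) + -(j : ℤ)) = 0) ↔ (k = (j : ℤ) - (i : ℤ)) := by
      constructor <;> intro h <;> omega
    simp only [this]
  rw [Finset.sum_congr rfl h2, Finset.sum_comm]
  simp only [dotProduct, Matrix.mulVec, Pi.star_apply, Finset.mul_sum]
  refine Finset.sum_congr rfl fun i _ => ?_
  rw [Finset.sum_comm]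
  refine Finset.sum_congr rfl fun j _ => ?_
  have hmem : (j : ℤ) - (i : ℤ) ∈ Finset.Ioo (-(m : ℤ)) (m : ℤ) := by
    rw [Finset.mem_Ioo]
    have := i.2
    have := j.2
    constructor <;> omega
  simp only [mul_ite, mul_zero, Finset.sum_ite_eq', hmem, if_true, hA]
  simp only [RCLike.star_def]
  ring


theorem coeff_eq (j : Fin m) :
    ∫ y in (0 : ℝ)..(2 * π), p m x y * e (j : ℤ) y = (2 * π : ℂ) * x j := by
  have h1 : ∀ y, p m x y * e (j : ℤ) y =
      ∑ i : Fin m, x i * e (-(i : ℤ) + (j : ℤ)) y := by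
    intro y
    unfold p
    rw [Finset.sum_mul]
    refine Finset.sum_congr rfl fun i _ => ?_
    rw [e_add]; ring
  simp_rw [h1]
  rw [intervalIntegral.integral_finsetSum
    (fun _ _ => (by fun_prop : Continuous _).intervalIntegrable _ _)]
  have h2 : ∀ i : Fin m, ∫ y in (0 : ℝ)..(2 * π), x i * e (-(i : ℤ) + (j : ℤ)) y =
      if i = j then (2 * π : ℂ) * x j else 0 := by
    intro i
    rw [intervalIntegral.integral_const_mul, integral_e]
    have : (-(i : ℤ) + (j : ℤ) = 0) ↔ i = j := by
      rw [Fin.ext_iff]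
      constructor <;> intro h <;> omega
    simp only [this]
    split_ifs with h
    · subst h; ring
    · ring
  simp only [h2, Finset.sum_ite_eq', Finset.mem_univ, if_true]

end S19019aux

open S19019aux Real

namespace Groth.Agent.S19019

/-- Let A be an m × m complex Hermitian Toeplitz matrix, with entries A i j = t (j - i) constant along
diagonals, and let f(y) = Σ_{-m < k < m} t k · exp(i k y) be the trigonometric polynomial attached
to it. If f has positive real part at every real y outside a countable set, then A is positive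
definite (hence nondegenerate). (The source also states the mirror case: f negative off a countable
set gives A negative definite, which is this statement for -A.) -/
theorem result
    (m : ℕ) (t : ℤ → ℂ) (A : Matrix (Fin m) (Fin m) ℂ)
    (hA : ∀ i j : Fin m, A i j = t ((j : ℤ) - (i : ℤ))) (hH : A.IsHermitian)
    (hpos : Set.Countable {y : ℝ | ¬ 0 < (∑ k ∈ Finset.Ioo (-(m : ℤ)) (m : ℤ),
        t k * Complex.exp (Complex.I * (k : ℂ) * (y : ℂ))).re}) :
    A.PosDef := by
  refine Matrix.PosDef.of_dotProduct_mulVec_pos hH ?_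
  intro x hx
  have hpos' : Set.Countable {y : ℝ | ¬ 0 < (f m t y).re} := hpos
  have hdense : Dense {y : ℝ | ¬ 0 < (f m t y).re}ᶜ := hpos'.dense_compl ℝ
  set g : ℝ → ℝ := fun y => (f m t y).re * Complex.normSq (p m x y) with hg
  have hg_cont : Continuous g := by
    have := Complex.continuous_normSq
    have := Complex.continuous_re
    fun_prop
  have hFg : ∀ y, (f m t y * ((starRingEnd ℂ) (p m x y) * p m x y)).re = g y := by
    intro y
    rw [← Complex.normSq_eq_conj_mul_self, Complex.re_mul_ofReal]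
  have hg_nonneg : ∀ y, 0 ≤ g y := by
    have hclosed : IsClosed {y | 0 ≤ g y} := isClosed_le continuous_const hg_cont
    have hsub : {y : ℝ | ¬ 0 < (f m t y).re}ᶜ ⊆ {y | 0 ≤ g y} := fun y hy =>
      mul_nonneg (le_of_lt (not_not.1 hy)) (Complex.normSq_nonneg _)
    have := closure_minimal hsub hclosed
    rw [hdense.closure_eq] at this
    exact fun y => this (Set.mem_univ y)
  have hre : ((2 * π : ℂ) * (star x ⬝ᵥ A.mulVec x)).re = ∫ y in (0 : ℝ)..(2 * π), g y := by
    rw [← quad_eq m t x A hA]
    have hint : IntervalIntegrable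
        (fun y => f m t y * ((starRingEnd ℂ) (p m x y) * p m x y)) MeasureTheory.volume 0 (2 * π) :=
      (by fun_prop : Continuous _).intervalIntegrable _ _
    have := Complex.reCLM.intervalIntegral_comp_comm hint
    simp only [Complex.reCLM_apply] at this
    rw [← this]
    exact intervalIntegral.integral_congr fun y _ => hFg y
  have h2pi : (0 : ℝ) < 2 * π := by positivity
  have hex : ∃ c ∈ Set.Icc (0 : ℝ) (2 * π), 0 < g c := by
    by_contra hcon
    push Not at hcon
    have hZ : ∀ y ∈ Set.Icc (0 : ℝ) (2 * π), p m x y = 0 := by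
      have hclosed : IsClosed {y | p m x y = 0} := isClosed_eq (continuous_p m x) continuous_const
      have hsub : Set.Ioo (0 : ℝ) (2 * π) ⊆ {y | p m x y = 0} := by
        intro y hy
        by_contra hne
        have hUo : IsOpen (Set.Ioo (0 : ℝ) (2 * π) ∩ {z | p m x z ≠ 0}) :=
          isOpen_Ioo.inter (isOpen_ne_fun (continuous_p m x) continuous_const)
        obtain ⟨z, hzS, hzU⟩ := hdense.exists_mem_open hUo ⟨y, hy, hne⟩
        have h1 : 0 < g z := mul_pos (not_not.1 hzS) (Complex.normSq_pos.2 hzU.2)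
        exact absurd h1 (not_lt.2 (hcon z (Set.Ioo_subset_Icc_self hzU.1)))
      have := closure_minimal hsub hclosed
      rw [closure_Ioo h2pi.ne] at this
      exact this
    apply hx
    funext j
    have h1 := coeff_eq m x j
    have h0 : ∫ y in (0 : ℝ)..(2 * π), p m x y * e (j : ℤ) y = 0 := by
      have hz : ∫ _y in (0 : ℝ)..(2 * π), (0 : ℂ) = 0 := intervalIntegral.integral_zero
      rw [← hz]
      refine intervalIntegral.integral_congr fun y hy => ?_
      rw [Set.uIcc_of_le h2pi.le] at hy
      simp only [hZ y hy, zero_mul]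
    rw [h0] at h1
    have h2 : (2 * π : ℂ) ≠ 0 := by
      exact_mod_cast h2pi.ne'
    simpa [h2] using h1.symm
  have hint_pos : 0 < ∫ y in (0 : ℝ)..(2 * π), g y :=
    intervalIntegral.integral_pos h2pi hg_cont.continuousOn (fun y _ => hg_nonneg y) hex
  rw [← hre] at hint_pos
  have him : (star x ⬝ᵥ A.mulVec x).im = 0 := hH.im_star_dotProduct_mulVec_self x
  rw [Complex.pos_iff]
  have h3 : ((2 * π : ℂ) * (star x ⬝ᵥ A.mulVec x)).re = 2 * π * (star x ⬝ᵥ A.mulVec x).re := by
    have : (2 * π : ℂ) = ((2 * π : ℝ) : ℂ) := by push_cast; rfl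
    rw [this, Complex.re_ofReal_mul]
  rw [h3] at hint_pos
  exact ⟨(mul_pos_iff_of_pos_left h2pi).1 hint_pos, him.symm⟩

end Groth.Agent.S19019
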