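import Groth.Statements.S19020
import Mathlib

set_option autoImplicit false
open Toeplitz

/-- Vandermonde-type identity. -/
theorem vand (n k N : ℕ) (hN : n + 1 ≤ N) :
    ∑ r ∈ Finset.range N, n.choose (k + r) * n.choose r = (2 * n).choose (n + k) := by
  have h1 : ∑ r ∈ Finset.range N, n.choose (k + r) * n.choose r =
      ∑ r ∈ Finset.range (n + 1), n.choose (k + r) * n.choose r := by
    symm
    apply Finset.sum_subset
    · intro r hr
      rw [Finset.mem_range] at hr ⊢
      omega
    · intro r _ hr
      rw [Finset.mem_range] at hr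
      rw [Nat.choose_eq_zero_of_lt (by omega : n < r), mul_zero]
  rw [h1, two_mul, Nat.add_choose_eq, Finset.Nat.sum_antidiagonal_eq_sum_range_succ_mk]
  have h2 : ∑ a ∈ Finset.range (n + k).succ, n.choose a * n.choose (n + k - a) =
      ∑ a ∈ Finset.Ico k (n + k + 1), n.choose a * n.choose (n + k - a) := by
    symm
    apply Finset.sum_subset
    · intro a ha
      rw [Finset.mem_Ico] at ha
      rw [Finset.mem_range]
      omega
    · intro a ha ha'
      rw [Finset.mem_range] at ha
      rw [Finset.mem_Ico] at ha'
      rw [Nat.choose_eq_zero_of_lt (by omega : n < n + k - a), mul_zero]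
  rw [h2, Finset.sum_Ico_eq_sum_range]
  have : n + k + 1 - k = n + 1 := by omega
  rw [this]
  refine Finset.sum_congr rfl (fun r hr => ?_)
  rw [Finset.mem_range] at hr
  have : n + k - (k + r) = n - r := by omega
  rw [this, Nat.choose_symm (by omega : r ≤ n)]

/-- entries of the banded matrix of `(1 - z)^n` -/
noncomputable def cc (n : ℕ) (l j : ℕ) : ℝ :=
  if j ≤ l then (-1 : ℝ) ^ (l - j) * (n.choose (l - j) : ℝ) else 0

theorem cc_sum (n m i j : ℕ) (hij : i ≤ j) (hj : j < m) :
    ∑ l ∈ Finset.range (m + n), cc n l i * cc n l j =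
      (-1 : ℝ) ^ (i + j) * ((2 * n).choose (n + (j - i)) : ℝ) := by
  have hsplit : ∑ l ∈ Finset.range (m + n), cc n l i * cc n l j =
      ∑ l ∈ Finset.Ico j (m + n), cc n l i * cc n l j := by
    symm
    apply Finset.sum_subset
    · intro a ha
      rw [Finset.mem_Ico] at ha
      rw [Finset.mem_range]
      omega
    · intro a ha ha'
      rw [Finset.mem_range] at ha
      rw [Finset.mem_Ico] at ha'
      have : ¬ j ≤ a := by omega
      simp [cc, this]
  rw [hsplit, Finset.sum_Ico_eq_sum_range]
  have hterm : ∀ r ∈ Finset.range (m + n - j), cc n (j + r) i * cc n (j + r) j =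
      (-1 : ℝ) ^ (i + j) * ((n.choose ((j - i) + r) * n.choose r : ℕ) : ℝ) := by
    intro r _
    have h1 : i ≤ j + r := by omega
    have h2 : j ≤ j + r := by omega
    have e1 : j + r - i = (j - i) + r := by omega
    have e2 : j + r - j = r := by omega
    simp only [cc, h1, h2, if_true, e1, e2]
    have e3 : (-1 : ℝ) ^ (i + j) = (-1) ^ (j - i) := by
      have : i + j = (j - i) + 2 * i := by omega
      rw [this, pow_add, pow_mul]
      simp
    rw [e3]
    push_cast
    have e4 : (-1 : ℝ) ^ r * (-1) ^ r = 1 := by
      rw [← pow_add, ← two_mul, pow_mul]; simp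
    rw [pow_add]
    linear_combination ((-1 : ℝ) ^ (j - i) * (n.choose (j - i + r) : ℝ) * (n.choose r : ℝ)) * e4
  rw [Finset.sum_congr rfl hterm, ← Finset.mul_sum, ← Nat.cast_sum, vand n (j - i) (m + n - j) (by omega)]

namespace Groth.Agent.S19020

/-- For natural numbers n and m, the m × m real Toeplitz matrix with (i, j) entry (-1)^(i+j) · C(2n, n +
|i - j|), i.e. with t_k = (-1)^k C(2n, n + k) on the k-th diagonal for |k| ≤ n and zero beyond, is
positive definite; in particular it is nondegenerate, which is the printed assertion (positive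
definiteness is what the printed proof establishes; m = 0 is the empty matrix). -/
theorem result (n m : ℕ) :
    (Matrix.of fun i j : Fin m =>
        (-1 : ℝ) ^ ((i : ℕ) + (j : ℕ)) * (Nat.choose (2 * n) (n + Nat.dist i j) : ℝ)).PosDef := by
  classical
  set B : Matrix (Fin (m + n)) (Fin m) ℝ := Matrix.of fun l j => cc n (l : ℕ) (j : ℕ) with hB
  have hinj : Function.Injective B.mulVec := by
    intro x y hxy
    have hz : B.mulVec (x - y) = 0 := by rw [Matrix.mulVec_sub, hxy, sub_self]
    suffices h : x - y = 0 by exact sub_eq_zero.mp h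
    set v := x - y with hv
    have key : ∀ j : ℕ, ∀ hj : j < m, v ⟨j, hj⟩ = 0 := by
      intro j
      induction j using Nat.strong_induction_on with
      | _ j ih =>
        intro hj
        have hrow := congrFun hz ⟨j, by omega⟩
        simp only [Matrix.mulVec, dotProduct, hB, Matrix.of_apply, Pi.zero_apply] at hrow
        rw [Finset.sum_eq_single ⟨j, hj⟩] at hrow
        · simpa [cc] using hrow
        · intro b _ hb
          rcases lt_or_gt_of_ne (fun h => hb (Fin.ext h) : (b : ℕ) ≠ j) with h | h
          · rw [show b = ⟨b, b.2⟩ from rfl, ih b h b.2, mul_zero]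
          · have : ¬ (b : ℕ) ≤ j := by omega
            simp [cc, this]
        · intro h; exact absurd (Finset.mem_univ _) h
    funext j
    exact key j j.2
  have hT : (Matrix.of fun i j : Fin m =>
        (-1 : ℝ) ^ ((i : ℕ) + (j : ℕ)) * (Nat.choose (2 * n) (n + Nat.dist i j) : ℝ)) = B.conjTranspose * B := by
    ext i j
    rw [Matrix.mul_apply]
    simp only [Matrix.conjTranspose_apply, hB, Matrix.of_apply, star_trivial]
    rw [Fin.sum_univ_eq_sum_range (fun l => cc n l i * cc n l j) (m + n)]
    rcases le_total (i : ℕ) (j : ℕ) with h | h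
    · rw [cc_sum n m i j h j.2, Nat.dist_eq_sub_of_le h]
    · have : ∑ l ∈ Finset.range (m + n), cc n l i * cc n l j =
          ∑ l ∈ Finset.range (m + n), cc n l j * cc n l i :=
        Finset.sum_congr rfl (fun _ _ => mul_comm _ _)
      rw [this, cc_sum n m j i h i.2, Nat.dist_eq_sub_of_le_right h, add_comm (j : ℕ) (i : ℕ)]
  rw [hT]
  exact Matrix.PosDef.conjTranspose_mul_self B hinj

end Groth.Agent.S19020
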