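import Groth.Statements.S19021
import Mathlib
import Groth.Agent.S19020

set_option autoImplicit false
open Toeplitz


/-- the band function -/
def tt (n i j : ℕ) : ℕ :=
  if j ≤ i then Nat.choose (2 * n + 1) (n + 1 + (i - j)) else Nat.choose (2 * n + 1) (n + (j - i))

theorem tt_add (n i j : ℕ) :
    tt n i j + tt n j i = Nat.choose (2 * (n + 1)) (n + 1 + Nat.dist i j) := by
  have h2 : 2 * (n + 1) = (2 * n + 1) + 1 := by ring
  rcases lt_trichotomy i j with h | h | h
  · have h1 : ¬ j ≤ i := by omega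
    have h1' : i ≤ j := by omega
    simp only [tt, h1, h1', if_true, if_false]
    rw [Nat.dist_eq_sub_of_le h1', h2]
    have : n + 1 + (j - i) = (n + (j - i)) + 1 := by omega
    rw [this, Nat.choose_succ_succ' (2 * n + 1) (n + (j - i))]
  · subst h
    simp only [tt, le_refl, if_true, Nat.sub_self, add_zero, Nat.dist_self]
    rw [h2, Nat.choose_succ_succ' (2 * n + 1) n, Nat.choose_symm_half]
  · have h1 : ¬ i ≤ j := by omega
    have h1' : j ≤ i := by omega
    simp only [tt, h1, h1', if_true, if_false]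
    rw [Nat.dist_eq_sub_of_le_right h1', h2]
    have : n + 1 + (i - j) = (n + (i - j)) + 1 := by omega
    rw [this, Nat.choose_succ_succ' (2 * n + 1) (n + (i - j)), add_comm]

namespace Groth.Agent.S19021

/-- For natural numbers n and m, the m × m integer Toeplitz matrix with (i, j) entry (-1)^(i+j) ·
C(2n+1, n+1+i-j) (the binomial coefficient being 0 outside the range 0 ≤ n+1+i-j ≤ 2n+1;
equivalently s_k = (-1)^k C(2n+1, n+k+1) on the diagonal i - j = k for -n-1 ≤ k ≤ n and zero beyond)
is nondegenerate: its determinant is nonzero (m = 0 is the empty matrix, of determinant 1). -/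
theorem result (n m : ℕ) :
    (Matrix.of fun i j : Fin m =>
        (-1 : ℤ) ^ ((i : ℕ) + (j : ℕ)) *
          (if (j : ℕ) ≤ (i : ℕ) then (Nat.choose (2 * n + 1) (n + 1 + ((i : ℕ) - (j : ℕ))) : ℤ)
            else (Nat.choose (2 * n + 1) (n + ((j : ℕ) - (i : ℕ))) : ℤ))).det ≠ 0 := by
  classical
  set T : Matrix (Fin m) (Fin m) ℤ := Matrix.of fun i j : Fin m =>
        (-1 : ℤ) ^ ((i : ℕ) + (j : ℕ)) *
          (if (j : ℕ) ≤ (i : ℕ) then (Nat.choose (2 * n + 1) (n + 1 + ((i : ℕ) - (j : ℕ))) : ℤ)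
            else (Nat.choose (2 * n + 1) (n + ((j : ℕ) - (i : ℕ))) : ℤ)) with hT
  have hTt : ∀ i j : Fin m, T i j = (-1 : ℤ) ^ ((i : ℕ) + (j : ℕ)) * (tt n i j : ℤ) := by
    intro i j
    simp only [hT, Matrix.of_apply, tt]
    split_ifs <;> rfl
  intro hdet
  obtain ⟨v, hv0, hv⟩ := (Matrix.exists_mulVec_eq_zero_iff (M := T)).mpr hdet
  set w : Fin m → ℝ := fun i => (v i : ℝ) with hw
  have hw0 : w ≠ 0 := by
    intro h
    apply hv0
    funext i
    have := congrFun h i
    simpa [hw] using this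
  set TR : Matrix (Fin m) (Fin m) ℝ := T.map (Int.cast : ℤ → ℝ) with hTR
  have hTRw : TR.mulVec w = 0 := by
    funext i
    have := congrFun hv i
    simp only [Matrix.mulVec, dotProduct, Pi.zero_apply] at this ⊢
    have h2 := congrArg (Int.cast : ℤ → ℝ) this
    push_cast at h2
    simpa [hTR, hw] using h2
  have hS := Groth.Agent.S19020.result (n + 1) m
  have hSeq : (Matrix.of fun i j : Fin m =>
        (-1 : ℝ) ^ ((i : ℕ) + (j : ℕ)) * (Nat.choose (2 * (n + 1)) (n + 1 + Nat.dist i j) : ℝ)) =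
      TR + TR.transpose := by
    ext i j
    simp only [Matrix.of_apply, Matrix.add_apply, Matrix.transpose_apply, hTR, Matrix.map_apply, hTt]
    rw [← tt_add n i j]
    push_cast
    rw [add_comm (j : ℕ) (i : ℕ)]
    ring
  rw [hSeq] at hS
  have hpos := hS.dotProduct_mulVec_pos hw0
  rw [Matrix.add_mulVec, dotProduct_add, hTRw, dotProduct_zero, zero_add, star_trivial,
    Matrix.dotProduct_mulVec, Matrix.vecMul_transpose, hTRw, zero_dotProduct] at hpos
  exact lt_irrefl _ hpos

end Groth.Agent.S19021
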