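import Groth.Statements.S19022
import Mathlib
import Groth.Agent.Lib.Lead.SLF1

set_option autoImplicit false
universe u
open CategoryTheory AlgebraicGeometry
open PicF

namespace Groth.Agent.S19022

section
open CategoryTheory AlgebraicGeometry

open CategoryTheory.Limits Groth.Agent.Lead.SLF

/-- a free module of rank one is the structure sheaf -/
noncomputable def freeOneIso (Z : Scheme.{u}) : FlatMod.freeMod Z 1 ≅ Coh.structureModule Z :=
  Limits.coproductUniqueIso (fun _ : Fin 1 => Coh.structureModule Z)

theorem rankOne_of_invertible {X : Scheme.{u}} (L : X.Modules) (hL : PicF.IsInvertible L) :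
    FlatMod.IsFinLocFreeOfRank 1 L := by
  intro x
  obtain ⟨U, hxU, ⟨e⟩⟩ := hL x
  exact ⟨U, hxU, ⟨e ≪≫ (freeOneIso _).symm⟩⟩

theorem main
    (X : Scheme.{u}) (L : X.Modules) (hL : PicF.IsInvertible L)
    (T : Finset X)
    (hU : ∃ U : X.Opens, IsAffineOpen U ∧ ∀ x ∈ T, x ∈ U) :
    ∃ U : X.Opens, IsAffineOpen U ∧ (∀ x ∈ T, x ∈ U) ∧
      Nonempty (L.restrict U.ι ≅ Coh.structureModule (↑U : Scheme.{u})) := by
  obtain ⟨U, hU, hT⟩ := hU
  obtain ⟨f, hf, ⟨e⟩⟩ := exists_basicOpen_free L 1 (rankOne_of_invertible L hL) hU T hT
  exact ⟨X.basicOpen f, hU.basicOpen f, hf, ⟨e ≪≫ freeOneIso _⟩⟩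


end


/-- Let X be a scheme, L an invertible O_X-module and T a finite set of closed points of X that lies in
some affine open of X. Then T lies in an affine open U of X on which L is trivial (L restricted to U
is isomorphic to the structure sheaf). (The source states this for a smooth quasi-projective complex
surface, where every finite set of points lies in an affine open, and phrases it as: X^n and the
symmetric product S^n X are covered by the opens U^n and S^n U with U affine and L trivial on U; the
printed argument uses only that the finitely many points lie in one affine open, which is taken as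
the hypothesis here.) -/
theorem result
    (X : Scheme.{u}) (L : X.Modules) (hL : PicF.IsInvertible L)
    (T : Finset X) (hT : ∀ x ∈ T, IsClosed ({x} : Set X))
    (hU : ∃ U : X.Opens, IsAffineOpen U ∧ ∀ x ∈ T, x ∈ U) :
    ∃ U : X.Opens, IsAffineOpen U ∧ (∀ x ∈ T, x ∈ U) ∧
      Nonempty (L.restrict U.ι ≅ Coh.structureModule (↑U : Scheme.{u})) := by
  classical
  exact main X L hL T hU

end Groth.Agent.S19022
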