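import Groth.Statements.S19025
import Mathlib

set_option autoImplicit false
universe u
open HigherRestr

namespace Groth.Agent.S19025

/-- In abstract form, the estimate its proof establishes. Let S be a commutative ring, I an ideal of S,
g₀ and g₁ elements with g₁ - g₀ ∈ I, N a natural number and y a sequence in S such that, for 1 ≤ i ≤
N, the (N-i)-fold unit-step forward difference of y taken at i lies in I^(N-i). Then g₀^N times the
N-fold forward difference of y at 0, minus the N-fold forward difference at 0 of the twisted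
sequence j ↦ g₀^(N-j) g₁^j y_j, lies in I^N. (In the source S is the ring of functions on an affine
chart of X^n, I the ideal of a pairwise diagonal, g₀ and g₁ the two pullbacks of a transition unit
of L, and y_j the components x_λ along the compositions a₀^(N-j) a₁^j μ; the estimate is what makes
the higher order restrictions D^l_L well defined on ker D^(l-1)_L independently of the
trivialisation.) -/
theorem result
    (S : Type u) [CommRing S] (I : Ideal S) (g₀ g₁ : S) (hg : g₁ - g₀ ∈ I)
    (N : ℕ) (y : ℕ → S)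
    (hy : ∀ i : ℕ, 1 ≤ i → i ≤ N → (fwdDiff (1 : ℕ))^[N - i] y i ∈ I ^ (N - i)) :
    g₀ ^ N * (fwdDiff (1 : ℕ))^[N] y 0 -
        (fwdDiff (1 : ℕ))^[N] (fun j : ℕ => g₀ ^ (N - j) * g₁ ^ j * y j) 0 ∈ I ^ N := by
  classical
  let D : Module.End S (ℕ → S) :=
    { toFun := fwdDiff (1 : ℕ)
      map_add' := fwdDiff_add 1
      map_smul' := fun r f => fwdDiff_const_smul 1 r f }
  let E : Module.End S (ℕ → S) := D + 1
  have hDpow : ∀ (n : ℕ) (f : ℕ → S), (D ^ n) f = (fwdDiff (1 : ℕ))^[n] f := by
    intro n f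
    rw [Module.End.pow_apply]; rfl
  have hE1 : ∀ (f : ℕ → S) (n : ℕ), E f n = f (n + 1) := by
    intro f n
    show fwdDiff 1 f n + f n = f (n + 1)
    simp [fwdDiff]
  have hEpow : ∀ (k : ℕ) (f : ℕ → S) (n : ℕ), (E ^ k) f n = f (n + k) := by
    intro k
    induction k with
    | zero => intro f n; simp
    | succ k ih =>
      intro f n
      rw [pow_succ, Module.End.mul_apply, ih, hE1]
      rfl
  have hcomm : Commute E D := by
    show Commute (D + 1) D
    exact (Commute.refl D).add_left (Commute.one_left D)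
  set T : Module.End S (ℕ → S) := g₁ • E + (-g₀) • (1 : Module.End S (ℕ → S)) with hT
  have hT2 : T = (g₁ - g₀) • E + g₀ • D := by
    rw [hT]
    have : (1 : Module.End S (ℕ → S)) = E - D := by simp [E]
    rw [this]; module
  have key1 : (T ^ N) y 0 = (fwdDiff (1 : ℕ))^[N] (fun j : ℕ => g₀ ^ (N - j) * g₁ ^ j * y j) 0 := by
    rw [fwdDiff_iter_eq_sum_shift, hT]
    have hc : Commute (g₁ • E) ((-g₀) • (1 : Module.End S (ℕ → S))) :=
      ((Commute.one_right (g₁ • E)).smul_right (-g₀))
    rw [hc.add_pow, LinearMap.sum_apply, Finset.sum_apply]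
    refine Finset.sum_congr rfl ?_
    intro j hj
    rw [smul_pow, smul_pow, one_pow, mul_smul_comm, mul_one, smul_mul_assoc, smul_mul_assoc,
      LinearMap.smul_apply, LinearMap.smul_apply, Module.End.mul_apply, Module.End.natCast_apply,
      Pi.smul_apply, Pi.smul_apply, hEpow, Pi.smul_apply]
    simp only [smul_eq_mul, zero_add, nsmul_eq_mul, mul_one, zsmul_eq_mul, Int.cast_mul, Int.cast_pow,
      Int.cast_neg, Int.cast_one, Int.cast_natCast, neg_pow g₀]
    ring
  have key2 : (T ^ N) y 0 = ∑ i ∈ Finset.range (N + 1),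
      (g₁ - g₀) ^ i * g₀ ^ (N - i) * (N.choose i : S) * (fwdDiff (1 : ℕ))^[N - i] y i := by
    rw [hT2]
    have hc : Commute ((g₁ - g₀) • E) (g₀ • D) :=
      (hcomm.smul_left (g₁ - g₀)).smul_right g₀
    rw [hc.add_pow, LinearMap.sum_apply, Finset.sum_apply]
    refine Finset.sum_congr rfl ?_
    intro i hi
    simp only [smul_pow, mul_smul_comm, smul_mul_assoc, LinearMap.smul_apply, Module.End.mul_apply,
      Module.End.natCast_apply, Pi.smul_apply, hEpow, map_nsmul, smul_eq_mul, zero_add]
    simp only [hDpow, nsmul_eq_mul]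
    ring
  rw [← key1, key2, Finset.sum_range_succ']
  simp only [pow_zero, one_mul, Nat.sub_zero, Nat.choose_zero_right, Nat.cast_one, mul_one]
  rw [sub_add_cancel_right]
  apply Ideal.neg_mem_iff _ |>.2
  apply Ideal.sum_mem
  intro i hi
  have hi' : i + 1 ≤ N := by
    have := Finset.mem_range.1 hi; omega
  have h1 : (g₁ - g₀) ^ (i + 1) ∈ I ^ (i + 1) := Ideal.pow_mem_pow hg _
  have h2 := hy (i + 1) (by omega) hi'
  have h3 : (g₁ - g₀) ^ (i + 1) * (fwdDiff (1 : ℕ))^[N - (i + 1)] y (i + 1) ∈ I ^ N := by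
    have : I ^ N = I ^ (i + 1) * I ^ (N - (i + 1)) := by
      rw [← pow_add]; congr 1; omega
    rw [this]
    exact Ideal.mul_mem_mul h1 h2
  have : (g₁ - g₀) ^ (i + 1) * g₀ ^ (N - (i + 1)) * ↑(N.choose (i + 1)) *
      (fwdDiff (1 : ℕ))^[N - (i + 1)] y (i + 1) =
      (g₀ ^ (N - (i + 1)) * ↑(N.choose (i + 1))) *
        ((g₁ - g₀) ^ (i + 1) * (fwdDiff (1 : ℕ))^[N - (i + 1)] y (i + 1)) := by ring
  rw [this]
  exact Ideal.mul_mem_left _ _ h3

end Groth.Agent.S19025
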