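import Groth.Statements.S19033
import Mathlib
import Groth.Agent.Lib.Helper4.BI

set_option autoImplicit false
universe u
open LabGraph

namespace Groth.Agent.S19033

namespace H19033
open LabGraph Groth.Agent.Helper4.BI

variable {V E : Type u} [Fintype V] [Fintype E] [DecidableEq V] [DecidableEq E]

theorem main (ends : E → V × V) (w : V → ℕ) (hX : IsQuasistableGraph ends w)
    (hg : 2 ≤ genus ends w) (d d' : V → ℤ)
    (hBI : SatisfiesBI ends w d)
    (hone : ∀ v : V, IsExceptional ends w v → d v = 1) (hone' : ∀ v : V, IsExceptional ends w v → d' v = 1)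
    (hstrict : ∀ Y : Finset V, Y.Nonempty → Y ≠ Finset.univ →
      2 * (canDeg ends w Finset.univ * (∑ v ∈ Y, d v) - (∑ v, d v) * canDeg ends w Y)
          = (cut ends Y : ℤ) * canDeg ends w Finset.univ →
      ∀ e : E, (((ends e).1 ∈ Y ∧ (ends e).2 ∉ Y) ∨ ((ends e).1 ∉ Y ∧ (ends e).2 ∈ Y)) →
        (IsExceptional ends w (ends e).1 ∨ IsExceptional ends w (ends e).2))
    (m : ℕ) (Z : Fin m → Finset V)
    (hext : ∀ i : Fin m, 2 * (canDeg ends w Finset.univ * (∑ v ∈ Z i, d v) - (∑ v, d v) * canDeg ends w (Z i))
          = (cut ends (Z i) : ℤ) * canDeg ends w Finset.univ)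
    (hsum : ∀ v : V, d' v = d v + ∑ i : Fin m, twist ends (fun u => if u ∈ Z i then (1 : ℤ) else 0) v) :
    d = d' := by
  have hK := canDeg_univ_pos ends w hg
  have hconn : Connected ends := hX.1.1
  -- every Z j is empty or everything
  have htriv : ∀ j : Fin m, Z j = ∅ ∨ Z j = Finset.univ := by
    intro j
    by_contra hcon
    push_neg at hcon
    obtain ⟨hne, hprop⟩ := hcon
    have hne' : (Z j).Nonempty := hne
    obtain ⟨e, he⟩ := exists_crossing ends hconn (Z j) hne' hprop
    have hexc := hstrict (Z j) hne' hprop (hext j) e he
    -- reduce to: an exceptional vertex s ∈ Z j with a neighbour outside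
    have key : ∀ (s u : V), IsExceptional ends w s → (ends e = (s, u) ∨ ends e = (u, s)) →
        ((s ∈ Z j ∧ u ∉ Z j) ∨ (s ∉ Z j ∧ u ∈ Z j)) → False := by
      intro s u hs hsu hside
      rcases hside with ⟨hsZ, huZ⟩ | ⟨hsZ, huZ⟩
      · -- use the twist sum
        have hT : ∑ i : Fin m, twist ends (fun u => if u ∈ Z i then (1 : ℤ) else 0) s = 0 := by
          have := hsum s
          rw [hone s hs, hone' s hs] at this
          linarith
        have hneg := twist_indicator_neg ends (Z j) s hsZ e u huZ hsu
        have : ∃ i : Fin m, 0 < twist ends (fun u => if u ∈ Z i then (1 : ℤ) else 0) s := by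
          by_contra hall
          push_neg at hall
          have : ∑ i : Fin m, twist ends (fun u => if u ∈ Z i then (1 : ℤ) else 0) s < ∑ _i : Fin m, (0 : ℤ) := by
            apply Finset.sum_lt_sum
            · intro i _; exact hall i
            · exact ⟨j, Finset.mem_univ _, hneg⟩
          simp at this
          linarith
        obtain ⟨i, hi⟩ := this
        obtain ⟨hsZi, e', u', hu', he'⟩ := twist_indicator_pos ends (Z i) s hi
        exact lemmaA ends w hK d hBI (Z i) (hext i) s hs hsZi (hone s hs) e' u' hu' he'
      · exact lemmaA ends w hK d hBI (Z j) (hext j) s hs hsZ (hone s hs) e u huZ hsu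
    rcases hexc with hs | hs
    · apply key (ends e).1 (ends e).2 hs (Or.inl rfl)
      rcases he with ⟨h1, h2⟩ | ⟨h1, h2⟩
      · exact Or.inl ⟨h1, h2⟩
      · exact Or.inr ⟨h1, h2⟩
    · apply key (ends e).2 (ends e).1 hs (Or.inr rfl)
      rcases he with ⟨h1, h2⟩ | ⟨h1, h2⟩
      · exact Or.inr ⟨h2, h1⟩
      · exact Or.inl ⟨h2, h1⟩
  funext v
  rw [hsum v]
  have : ∑ i : Fin m, twist ends (fun u => if u ∈ Z i then (1 : ℤ) else 0) v = 0 := by
    apply Finset.sum_eq_zero
    intro i _
    apply twist_eq_zero_of_const
    intro a b
    rcases htriv i with h | h <;> simp [h]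
  rw [this, add_zero]
end H19033

open LabGraph in
/-- Let X be a quasi-wp-stable curve of genus g ≥ 2 over an algebraically closed field, encoded by a
weighted multigraph: vertices are the irreducible components C_v, with the weight w v and the loops
at v chosen so that w v plus the number of loops at v is the arithmetic genus of C_v; two distinct
components are joined by one edge for each node and by two edges for each tacnode at which they
meet. For a set Y of vertices (a subcurve) canDeg Y is then deg_Y ω_X = 2 g_Y − 2 + k_Y and cut Y is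
k_Y, the length of the intersection of Y with its complementary subcurve; a vertex is exceptional
(weight zero, loopless, exactly two edges to other vertices) exactly when C_v is an exceptional
component; the twist of the indicator function of Y is the multidegree Σ_{C ⊆ Y} C of the degree
class group construction; and the graph is a connected quasistable graph. Let d, d' be properly
balanced multidegrees of the same total degree D (each satisfies the Basic Inequality 2·|K·d_Y −
D·canDeg Y| ≤ cut Y·K for every Y, where K = 2g − 2 = canDeg of the whole graph, and takes the value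
1 on every exceptional vertex), with d strictly balanced: for every nonempty proper Y with d_Y equal
to the upper extreme, i.e. 2(K·d_Y − D·canDeg Y) = K·cut Y, every edge with exactly one endpoint in
Y has an exceptional endpoint. Suppose d' = d + Σ_i twist(1_{Z_i}) for nested vertex sets Z_1 ⊆ ⋯ ⊆
Z_m, each with d at its upper extreme, such that for j < i no edge joins a vertex of Z_j to a vertex
outside Z_i. Then d = d'. (The source assumes only that d − d' lies in the lattice generated by the
multidegrees of the components and takes the existence of such a nested family from an earlier paper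
it cites without proof; this row carries that description as its hypothesis.) -/
theorem result {V E : Type u} [Fintype V] [Fintype E]
    [DecidableEq V] [DecidableEq E] (ends : E → V × V) (w : V → ℕ) (hX : IsQuasistableGraph ends w)
    (hg : 2 ≤ genus ends w) (d d' : V → ℤ) (hD : ∑ v, d v = ∑ v, d' v)
    (hBI : SatisfiesBI ends w d) (hBI' : SatisfiesBI ends w d')
    (hone : ∀ v : V, IsExceptional ends w v → d v = 1) (hone' : ∀ v : V, IsExceptional ends w v → d' v = 1)
    (hstrict : ∀ Y : Finset V, Y.Nonempty → Y ≠ Finset.univ →
      2 * (canDeg ends w Finset.univ * (∑ v ∈ Y, d v) - (∑ v, d v) * canDeg ends w Y)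
          = (cut ends Y : ℤ) * canDeg ends w Finset.univ →
      ∀ e : E, (((ends e).1 ∈ Y ∧ (ends e).2 ∉ Y) ∨ ((ends e).1 ∉ Y ∧ (ends e).2 ∈ Y)) →
        (IsExceptional ends w (ends e).1 ∨ IsExceptional ends w (ends e).2))
    (m : ℕ) (Z : Fin m → Finset V) (hmono : ∀ i j : Fin m, i ≤ j → Z i ⊆ Z j)
    (hext : ∀ i : Fin m, 2 * (canDeg ends w Finset.univ * (∑ v ∈ Z i, d v) - (∑ v, d v) * canDeg ends w (Z i))
          = (cut ends (Z i) : ℤ) * canDeg ends w Finset.univ)
    (hsep : ∀ i j : Fin m, j < i → ∀ e : E,
      ¬ (((ends e).1 ∈ Z j ∧ (ends e).2 ∉ Z i) ∨ ((ends e).2 ∈ Z j ∧ (ends e).1 ∉ Z i)))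
    (hsum : ∀ v : V, d' v = d v + ∑ i : Fin m, twist ends (fun u => if u ∈ Z i then (1 : ℤ) else 0) v) :
    d = d' := by
  exact H19033.main ends w hX hg d d' hBI hone hone' hstrict m Z hext hsum

end Groth.Agent.S19033
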