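import Groth.Statements.S19034
import Mathlib
import Groth.Agent.Lib.Helper4.BI

set_option autoImplicit false
universe u
open LabGraph

namespace Groth.Agent.S19034

namespace H19034
open LabGraph Groth.Agent.Helper4.BI

variable {V E : Type u} [Fintype V] [Fintype E] [DecidableEq V] [DecidableEq E]

theorem main (ends : E → V × V) (w : V → ℕ) (hZ : IsQuasistableGraph ends w)
    (hg : 2 ≤ genus ends w) (S : Finset V) (hS : ∀ v ∈ S, IsExceptional ends w v)
    (dt : V → ℤ) (hzero : ∀ v ∈ S, dt v = 0)
    (hBI : ∀ W : Finset V, Disjoint W S →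
      2 * |canDeg ends w Finset.univ * (∑ v ∈ W, dt v) - (∑ v, dt v) * canDeg ends w (Finset.univ.filter (fun v : V => v ∈ W ∨ (v ∈ S ∧ ∀ e : E, ((ends e).1 = v → (ends e).2 ∈ W) ∧ ((ends e).2 = v → (ends e).1 ∈ W))))|
        ≤ (cut ends (Finset.univ.filter (fun v : V => v ∈ W ∨ (v ∈ S ∧ ∀ e : E, ((ends e).1 = v → (ends e).2 ∈ W) ∧ ((ends e).2 = v → (ends e).1 ∈ W)))) : ℤ) * canDeg ends w Finset.univ) :
    SatisfiesBI ends w dt := by
  classical
  have hK := canDeg_univ_pos ends w hg
  intro Y
  have hBIW := hBI (Y.filter (fun v => v ∉ S)) (by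
    rw [Finset.disjoint_left]; intro v hv; exact (Finset.mem_filter.1 hv).2)
  generalize hW : Y.filter (fun v => v ∉ S) = W at hBIW
  have hmemW : ∀ v, v ∈ W ↔ v ∈ Y ∧ v ∉ S := by
    intro v; rw [← hW, Finset.mem_filter]
  generalize hWhat : Finset.univ.filter (fun v : V => v ∈ W ∨ (v ∈ S ∧ ∀ e : E, ((ends e).1 = v → (ends e).2 ∈ W) ∧ ((ends e).2 = v → (ends e).1 ∈ W))) = What at hBIW
  have hmemWhat : ∀ v, v ∈ What ↔ (v ∈ W ∨ (v ∈ S ∧ ∀ e : E, ((ends e).1 = v → (ends e).2 ∈ W) ∧ ((ends e).2 = v → (ends e).1 ∈ W))) := by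
    intro v; rw [← hWhat, Finset.mem_filter]; simp
  have h1 : ∑ v ∈ Y, dt v = ∑ v ∈ W, dt v := by
    rw [← hW, Finset.sum_filter]
    apply Finset.sum_congr rfl
    intro v _
    by_cases hv : v ∈ S
    · simp [hv, hzero v hv]
    · simp [hv]
  have hcan : ∀ X : Finset V, canDeg ends w X = canDeg ends w (X.filter (fun v => v ∉ S)) := by
    intro X
    unfold canDeg
    rw [Finset.sum_filter]
    apply Finset.sum_congr rfl
    intro v _
    by_cases hv : v ∈ S
    · simp only [hv, not_true_eq_false, if_false]
      exact canDeg_term_exceptional ends w v (hS v hv)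
    · simp [hv]
  have hWf : What.filter (fun v => v ∉ S) = W := by
    ext v
    rw [Finset.mem_filter, hmemWhat]
    constructor
    · rintro ⟨h | h, hn⟩
      · exact h
      · exact absurd h.1 hn
    · intro h
      exact ⟨Or.inl h, ((hmemW v).1 h).2⟩
  have h2 : canDeg ends w Y = canDeg ends w What := by
    rw [hcan Y, hcan What, hWf, hW]
  have hnb : ∀ s ∈ S, ∀ e : E, ((ends e).1 = s → (ends e).2 ∉ S) ∧ ((ends e).2 = s → (ends e).1 ∉ S) := by
    intro s hs e
    have hex := hS s hs
    constructor
    · intro h1 h2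
      have hne : (ends e).1 ≠ (ends e).2 := by
        intro heq
        exact hex.2.1 e (Prod.ext h1 (heq ▸ h1))
      exact hZ.2 e hne ⟨h1 ▸ hex, hS _ h2⟩
    · intro h1 h2
      have hne : (ends e).1 ≠ (ends e).2 := by
        intro heq
        exact hex.2.1 e (Prod.ext (heq ▸ h1) h1)
      exact hZ.2 e hne ⟨hS _ h2, h1 ▸ hex⟩
  have hind : ∀ T : Finset V, T ⊆ S →
      cut ends (Finset.univ.filter (fun v => if v ∈ T then v ∈ What else v ∈ Y)) ≤ cut ends Y := by
    intro T
    induction T using Finset.induction_on with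
    | empty => intro _; simp
    | insert s T' hs ih =>
      intro hsub
      have hsS : s ∈ S := hsub (Finset.mem_insert_self _ _)
      have hT' : T' ⊆ S := fun x hx => hsub (Finset.mem_insert_of_mem hx)
      refine le_trans ?_ (ih hT')
      generalize hY' : Finset.univ.filter (fun v => if v ∈ T' then v ∈ What else v ∈ Y) = Y'
      have hmemY' : ∀ v, v ∈ Y' ↔ (if v ∈ T' then v ∈ What else v ∈ Y) := by
        intro v; rw [← hY', Finset.mem_filter]; simp
      have hmemY'u : ∀ u, u ∉ S → (u ∈ Y' ↔ u ∈ W) := by
        intro u hu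
        have : u ∉ T' := fun h => hu (hT' h)
        rw [hmemY', if_neg this, hmemW]
        simp [hu]
      have hsY' : s ∈ Y' ↔ s ∈ Y := by rw [hmemY', if_neg hs]
      have hsW : s ∉ W := fun h => ((hmemW s).1 h).2 hsS
      have hext : ∀ (R : Finset V), (∀ v, v ≠ s → (v ∈ R ↔ v ∈ Y')) →
          (s ∈ R ↔ s ∈ What) →
          Finset.univ.filter (fun v => if v ∈ insert s T' then v ∈ What else v ∈ Y) = R := by
        intro R hR hRs
        ext v
        by_cases hv : v = s
        · subst hv
          simp only [Finset.mem_filter, Finset.mem_univ, true_and, Finset.mem_insert, true_or, if_true]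
          exact hRs.symm
        · rw [hR v hv, hmemY']
          simp only [Finset.mem_filter, Finset.mem_univ, true_and, Finset.mem_insert, hv, false_or]
      by_cases hsWh : s ∈ What <;> by_cases hsY : s ∈ Y
      · rw [hext Y' (fun v _ => Iff.rfl) (by rw [hsY']; exact ⟨fun _ => hsWh, fun _ => hsY⟩)]
      · have hall : ∀ e : E, ((ends e).1 = s → (ends e).2 ∈ W) ∧ ((ends e).2 = s → (ends e).1 ∈ W) := by
          rcases (hmemWhat s).1 hsWh with h | h
          · exact absurd h hsW
          · exact h.2
        rw [hext (insert s Y') (fun v hv => by simp [hv]) (by simp [hsWh])]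
        apply toggle_in ends w s (hS s hsS) Y' (fun h => hsY (hsY'.1 h))
        intro e
        constructor
        · intro h; exact (hmemY'u _ ((hnb s hsS e).1 h)).2 ((hall e).1 h)
        · intro h; exact (hmemY'u _ ((hnb s hsS e).2 h)).2 ((hall e).2 h)
      · have hnall : ¬ ∀ e : E, ((ends e).1 = s → (ends e).2 ∈ W) ∧ ((ends e).2 = s → (ends e).1 ∈ W) := by
          intro h; exact hsWh ((hmemWhat s).2 (Or.inr ⟨hsS, h⟩))
        rw [hext (Y'.erase s) (fun v hv => by simp [hv]) (by simp [hsWh])]
        obtain ⟨e, he⟩ := not_forall.1 hnall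
        rcases not_and_or.1 he with h | h
        · obtain ⟨h1, h2⟩ := Classical.not_imp.1 h
          apply toggle_out ends w s (hS s hsS) Y' (hsY'.2 hsY) e (ends e).2
          · intro hc; exact h2 ((hmemY'u _ ((hnb s hsS e).1 h1)).1 hc)
          · exact Or.inl (Prod.ext h1 rfl)
        · obtain ⟨h1, h2⟩ := Classical.not_imp.1 h
          apply toggle_out ends w s (hS s hsS) Y' (hsY'.2 hsY) e (ends e).1
          · intro hc; exact h2 ((hmemY'u _ ((hnb s hsS e).2 h1)).1 hc)
          · exact Or.inr (Prod.ext rfl h1)
      · rw [hext Y' (fun v _ => Iff.rfl) (by rw [hsY']; exact ⟨fun h => absurd h hsY, fun h => absurd h hsWh⟩)]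
  have hfin : Finset.univ.filter (fun v => if v ∈ S then v ∈ What else v ∈ Y) = What := by
    ext v
    rw [Finset.mem_filter]
    by_cases hv : v ∈ S
    · simp [hv]
    · simp only [Finset.mem_univ, true_and, if_neg hv]
      rw [hmemWhat, hmemW]
      simp [hv]
  have h3 : cut ends What ≤ cut ends Y := by
    have := hind S (Finset.Subset.refl _)
    rwa [hfin] at this
  rw [h1, h2]
  calc _ ≤ (cut ends What : ℤ) * canDeg ends w Finset.univ := hBIW
    _ ≤ (cut ends Y : ℤ) * canDeg ends w Finset.univ := by
      apply mul_le_mul_of_nonneg_right _ hK.le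
      exact_mod_cast h3
end H19034

open LabGraph in
/-- Let σ : Z → X be the contraction of some exceptional components of a quasi-wp-stable curve Z of
genus g ≥ 2 onto a quasi-wp-stable curve X, and d a properly balanced multidegree on X; then the
pull-back d̃ of d to Z (d̃_W = d_{σ(W)} when σ(W) is a curve, d̃ = 0 on contracted components) is
balanced. Encode Z by its weighted multigraph (vertices = irreducible components, weight plus number
of loops = arithmetic genus of the component, one edge per node and two per tacnode joining distinct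
components; canDeg Y = deg_Y ω_Z, cut Y = k_Y, K = canDeg of all vertices = 2g − 2; exceptional
vertex = exceptional component), and let S be the set of contracted components, each an exceptional
vertex. The components of X are the vertices outside S; for a set W of them, the subcurve σ(W) of X
has deg ω_X equal to canDeg Ŵ and k equal to cut Ŵ, where Ŵ is W together with the vertices of S all
of whose edges end in W, and the exceptional components of X are the exceptional vertices outside S.
So the hypotheses below say that d̃ vanishes on S and that d = d̃|_{V∖S} is properly balanced on X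
(Basic Inequality 2·|K·d_W − D·canDeg Ŵ| ≤ cut Ŵ·K for every W disjoint from S, D the total degree,
and value 1 on exceptional vertices outside S); the conclusion is the Basic Inequality for d̃ on Z,
for every set of vertices. -/
theorem result {V E : Type u} [Fintype V] [Fintype E]
    [DecidableEq V] [DecidableEq E] (ends : E → V × V) (w : V → ℕ) (hZ : IsQuasistableGraph ends w)
    (hg : 2 ≤ genus ends w) (S : Finset V) (hS : ∀ v ∈ S, IsExceptional ends w v)
    (dt : V → ℤ) (hzero : ∀ v ∈ S, dt v = 0)
    (hBI : ∀ W : Finset V, Disjoint W S →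
      2 * |canDeg ends w Finset.univ * (∑ v ∈ W, dt v) - (∑ v, dt v) * canDeg ends w (Finset.univ.filter (fun v : V => v ∈ W ∨ (v ∈ S ∧ ∀ e : E, ((ends e).1 = v → (ends e).2 ∈ W) ∧ ((ends e).2 = v → (ends e).1 ∈ W))))|
        ≤ (cut ends (Finset.univ.filter (fun v : V => v ∈ W ∨ (v ∈ S ∧ ∀ e : E, ((ends e).1 = v → (ends e).2 ∈ W) ∧ ((ends e).2 = v → (ends e).1 ∈ W)))) : ℤ) * canDeg ends w Finset.univ)
    (hone : ∀ v : V, v ∉ S → IsExceptional ends w v → dt v = 1) :
    SatisfiesBI ends w dt := by
  exact H19034.main ends w hZ hg S hS dt hzero hBI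

end Groth.Agent.S19034
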