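import Groth.Statements.S19035
import Mathlib

set_option autoImplicit false
universe u v w x
open CAlg

namespace Groth.Agent.S19035

/-- Let p be a prime and k a perfect field of characteristic p. Let (A_i) be a directed system of
finitely generated commutative k-algebras, indexed by a nonempty directed preorder, with compatible
k-algebra transition maps, and let B be a finitely generated k-algebra with compatible k-algebra
maps A_i → B which present B as the direct limit of the system (every element of B is the image of
an element of some A_i, and two elements of some A_i with the same image in B have the same image in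
some A_j). Then the p-typical Witt vectors commute with this direct limit: every Witt vector over B
is the image of a Witt vector over some A_i, and two Witt vectors over some A_i with the same image
over B already have the same image over some A_j. (Both finiteness hypotheses matter: for an
arbitrary filtered direct limit of commutative rings either assertion can fail.) -/
theorem result
    (p : ℕ) [Fact p.Prime] (k : Type u) [Field k] [CharP k p] [PerfectRing k p]
    {ι : Type v} [Preorder ι] [IsDirected ι (· ≤ ·)] [Nonempty ι]
    (A : ι → Type w) [∀ i, CommRing (A i)] [∀ i, Algebra k (A i)]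
    [∀ i, Algebra.FiniteType k (A i)]
    (f : ∀ i j, i ≤ j → (A i →ₐ[k] A j))
    (hf : ∀ i j l (hij : i ≤ j) (hjl : j ≤ l) (x : A i),
      f j l hjl (f i j hij x) = f i l (hij.trans hjl) x)
    (B : Type x) [CommRing B] [Algebra k B] [Algebra.FiniteType k B]
    (g : ∀ i, A i →ₐ[k] B)
    (hfg : ∀ i j (hij : i ≤ j) (x : A i), g j (f i j hij x) = g i x)
    (hsurj : ∀ b : B, ∃ i, ∃ x : A i, g i x = b)
    (hinj : ∀ i (x y : A i), g i x = g i y → ∃ j, ∃ hij : i ≤ j, f i j hij x = f i j hij y) :
    (∀ w : WittVector p B, ∃ i, ∃ v : WittVector p (A i),
        WittVector.map (g i).toRingHom v = w) ∧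
    (∀ i (v v' : WittVector p (A i)),
        WittVector.map (g i).toRingHom v = WittVector.map (g i).toRingHom v' →
        ∃ j, ∃ hij : i ≤ j,
          WittVector.map (f i j hij).toRingHom v = WittVector.map (f i j hij).toRingHom v') := by
  classical
  constructor
  · -- some `g i` is surjective
    obtain ⟨s, hs⟩ := (Algebra.FiniteType.out : (⊤ : Subalgebra k B).FG)
    choose ib xb hxb using hsurj
    obtain ⟨M, hM⟩ := (s.image ib).exists_le
    have hsurjM : Function.Surjective (g M) := by
      rw [← AlgHom.range_eq_top, eq_top_iff, ← hs, Algebra.adjoin_le_iff]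
      intro b hb
      have hle : ib b ≤ M := hM _ (Finset.mem_image_of_mem _ hb)
      refine ⟨f (ib b) M hle (xb b), ?_⟩
      show g M _ = b
      rw [hfg, hxb]
    intro w
    obtain ⟨v, hv⟩ := WittVector.map_surjective (p := p) (g M).toRingHom hsurjM w
    exact ⟨M, v, hv⟩
  · intro i v v' hvv
    have : IsNoetherianRing (A i) := Algebra.FiniteType.isNoetherianRing k (A i)
    obtain ⟨s, hs⟩ := (isNoetherianRing_iff_ideal_fg (A i)).1 inferInstance (RingHom.ker (g i).toRingHom)
    have hker : ∀ x ∈ s, ∃ j, ∃ hij : i ≤ j, f i j hij x = 0 := by
      intro x hx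
      have hx' : x ∈ RingHom.ker (g i).toRingHom := by rw [← hs]; exact Ideal.subset_span hx
      have : g i x = g i 0 := by rw [map_zero]; exact hx'
      obtain ⟨j, hij, h⟩ := hinj i x 0 this
      exact ⟨j, hij, by rw [h, map_zero]⟩
    choose! jx hjx hfx using hker
    obtain ⟨M, hM⟩ := (insert i (s.image jx)).exists_le
    have hiM : i ≤ M := hM i (Finset.mem_insert_self _ _)
    have hkerM : RingHom.ker (g i).toRingHom ≤ RingHom.ker (f i M hiM).toRingHom := by
      rw [← hs, Ideal.span_le]
      intro x hx
      have hle : jx x ≤ M := hM _ (Finset.mem_insert_of_mem (Finset.mem_image_of_mem _ hx))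
      show f i M hiM x = 0
      rw [← hf i (jx x) M (hjx x hx) hle, hfx x hx, map_zero]
    refine ⟨M, hiM, ?_⟩
    ext n
    rw [WittVector.map_coeff, WittVector.map_coeff]
    have h1 := congrArg (fun w => WittVector.coeff w n) hvv
    simp only [WittVector.map_coeff] at h1
    have h2 : v.coeff n - v'.coeff n ∈ RingHom.ker (g i).toRingHom := by
      rw [RingHom.mem_ker, map_sub, h1, sub_self]
    have h3 := hkerM h2
    rw [RingHom.mem_ker, map_sub, sub_eq_zero] at h3
    exact h3

end Groth.Agent.S19035
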