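import Groth.Statements.S19036
import Mathlib
import Groth.Agent.Lib.Helper9.ZRCompact
import Groth.Agent.Lib.Helper9.ValCritAff
-- import your own Groth.Agent.* helpers here

set_option autoImplicit false
universe u
open Instab

namespace Groth.Agent.S19036

open CategoryTheory AlgebraicGeometry
namespace Aux

open Groth.Agent.Lib.Helper9.ZRCompact Groth.Agent.Lib.Helper9.ValCritAff

/-- image of a morphism from a local scheme: every point maps to a generization of the image of
the closed point -/
lemma specializes_image_closedPoint {X : Scheme.{u}} (S : CommRingCat.{u}) [IsLocalRing S]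
    (ℓ : Spec S ⟶ X) (p : Spec S) : ℓ p ⤳ ℓ (IsLocalRing.closedPoint S) :=
  (IsLocalRing.specializes_closedPoint p).map ℓ.continuous

/-- if the image of the composite lies in `W`, the map factors -/
lemma mem_of_factor {X : Scheme.{u}} {S : CommRingCat.{u}} {W : X.Opens} (hW : IsAffineOpen W)
    (a : Γ(X, W) ⟶ S) (p : Spec S) : (Spec.map a ≫ hW.fromSpec) p ∈ W := by
  have : (Spec.map a ≫ hW.fromSpec) p ∈ Set.range hW.fromSpec := ⟨Spec.map a p, rfl⟩
  rw [hW.range_fromSpec] at this
  exact this


lemma exists_gens_of_finiteType {A B : Type u} [CommRing A] [CommRing B] (g : A →+* B)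
    (hg : g.FiniteType) :
    ∃ s : Finset B, ∀ R' : Subring B, (∀ a, g a ∈ R') → (∀ b ∈ s, b ∈ R') → ∀ b, b ∈ R' := by
  letI := g.toAlgebra
  obtain ⟨s, hs⟩ := (hg : Algebra.FiniteType A B).out
  refine ⟨s, fun R' h1 h2 b => ?_⟩
  let R'' : Subalgebra A B := { R' with algebraMap_mem' := h1 }
  have : Algebra.adjoin A (s : Set B) ≤ R'' := Algebra.adjoin_le h2
  rw [hs] at this
  exact this trivial

section core
variable {X Y : Scheme.{u}} (f : X ⟶ Y) [LocallyOfFiniteType f]
  (V : Y.Opens) (hV : IsAffineOpen V) (η : X) (hη : η ∈ f ⁻¹ᵁ V)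

/-- index type: affine opens of `X` inside `f⁻¹ V` containing `η` -/
abbrev JJ : Type u := {W : X.Opens // IsAffineOpen W ∧ W ≤ f ⁻¹ᵁ V ∧ η ∈ W}

include hη in
lemma closedPoint_mem (W : JJ f V η) (s : ↥(Spec (X.residueField η))) :
    (X.fromSpecResidueField η) s ∈ W.1 := by
  rw [Scheme.fromSpecResidueField_apply]; exact W.2.2.2

include hη in
lemma closedPoint_mem' (s : ↥(Spec (X.residueField η))) :
    (X.fromSpecResidueField η ≫ f) s ∈ V := by
  rw [Scheme.Hom.comp_apply, Scheme.fromSpecResidueField_apply]; exact hη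

/-- the map `Γ(Y,V) → κ(η)` -/
noncomputable def psi : Γ(Y, V) ⟶ X.residueField η :=
  (factor_affine (X.residueField η) (X.fromSpecResidueField η ≫ f) hV
    (closedPoint_mem' f V η hη _)).choose

lemma psi_spec : X.fromSpecResidueField η ≫ f = Spec.map (psi f V hV η hη) ≫ hV.fromSpec :=
  (factor_affine (X.residueField η) (X.fromSpecResidueField η ≫ f) hV
    (closedPoint_mem' f V η hη _)).choose_spec

/-- the map `Γ(X,W) → κ(η)` -/
noncomputable def phi (W : JJ f V η) : Γ(X, W.1) ⟶ X.residueField η :=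
  (factor_affine (X.residueField η) (X.fromSpecResidueField η) W.2.1
    (closedPoint_mem f V η hη W _)).choose

lemma phi_spec (W : JJ f V η) :
    X.fromSpecResidueField η = Spec.map (phi f V η hη W) ≫ W.2.1.fromSpec :=
  (factor_affine (X.residueField η) (X.fromSpecResidueField η) W.2.1
    (closedPoint_mem f V η hη W _)).choose_spec

lemma alpha_phi (W : JJ f V η) :
    f.appLE V W.1 W.2.2.1 ≫ phi f V η hη W = psi f V hV η hη := by
  apply factor_unique hV
  rw [Spec.map_comp, Category.assoc, IsAffineOpen.SpecMap_appLE_fromSpec f hV W.2.1 W.2.2.1,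
    ← Category.assoc, ← phi_spec, psi_spec f V hV η hη]


lemma claim1 (hf : ValuativeCriterion.Existence f)
    (T : (W : JJ f V η) → Finset (X.residueField η))
    (hT : ∀ W, ∀ t ∈ T W, t ∈ Set.range (phi f V η hη W).hom)
    (R : ValuationSubring (X.residueField η))
    (hR : Set.range (psi f V hV η hη).hom ⊆ (R : Set (X.residueField η))) : ∃ W : JJ f V η, (T W : Set (X.residueField η)) ⊆ (R : Set (X.residueField η)) := by
  haveI : IsLocalRing (CommRingCat.of ↥R) := inferInstanceAs (IsLocalRing ↥R)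
  let ψR : Γ(Y, V) ⟶ CommRingCat.of ↥R :=
    CommRingCat.ofHom ((psi f V hV η hη).hom.codRestrict R.toSubring (fun a => hR ⟨a, rfl⟩))
  let alg : CommRingCat.of ↥R ⟶ X.residueField η :=
    CommRingCat.ofHom (algebraMap ↥R (X.residueField η))
  have hψ : psi f V hV η hη = ψR ≫ alg := by
    ext a; rfl
  let i₂ : Spec (CommRingCat.of ↥R) ⟶ Y := Spec.map ψR ≫ hV.fromSpec
  have w : X.fromSpecResidueField η ≫ f = Spec.map alg ≫ i₂ := by
    rw [psi_spec f V hV η hη, hψ, Spec.map_comp, Category.assoc]
  obtain ⟨l, hl₁, hl₂⟩ := (hf { R := ↥R, K := X.residueField η, commSq := ⟨w⟩, .. }).exists_lift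
  dsimp only at hl₁ hl₂
  have hl₁' : Spec.map alg ≫ l = X.fromSpecResidueField η := hl₁
  have hl₂' : l ≫ f = Spec.map ψR ≫ hV.fromSpec := hl₂
  set x := l (IsLocalRing.closedPoint (CommRingCat.of ↥R)) with hx
  have hfx : x ∈ f ⁻¹ᵁ V := by
    change (l ≫ f) (IsLocalRing.closedPoint (CommRingCat.of ↥R)) ∈ V
    rw [hl₂']
    exact mem_of_factor hV ψR _
  obtain ⟨W, hW, hxW, hWle⟩ := TopologicalSpace.Opens.isBasis_iff_nbhd.mp
    (X.isBasis_affineOpens) hfx
  have hηW : η ∈ W := by
    have h1 : η = l (Spec.map alg (IsLocalRing.closedPoint (X.residueField η))) := by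
      change η = (Spec.map alg ≫ l) (IsLocalRing.closedPoint (X.residueField η))
      rw [hl₁']
      exact (Scheme.fromSpecResidueField_apply η _).symm
    have h2 : η ⤳ x := by
      rw [h1]; exact specializes_image_closedPoint _ l _
    exact h2.mem_open W.isOpen hxW
  let Wj : JJ f V η := ⟨W, hW, hWle, hηW⟩
  obtain ⟨a, ha⟩ := factor_affine (CommRingCat.of ↥R) l hW hxW
  have hφ : phi f V η hη Wj = a ≫ alg := by
    apply factor_unique hW
    rw [Spec.map_comp, Category.assoc, ← ha, hl₁']
    exact (phi_spec f V η hη Wj).symm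
  refine ⟨Wj, fun t ht => ?_⟩
  obtain ⟨b, rfl⟩ := hT Wj t ht
  rw [hφ]
  exact (a.hom b).2


lemma claim3 (hf : ValuativeCriterion.Uniqueness f)
    (T : (W : JJ f V η) → Finset (X.residueField η))
    (hTgen : ∀ (W : JJ f V η) (R' : Subring (X.residueField η)),
      Set.range (psi f V hV η hη).hom ⊆ (R' : Set (X.residueField η)) →
      (T W : Set (X.residueField η)) ⊆ (R' : Set (X.residueField η)) →
      Set.range (phi f V η hη W).hom ⊆ (R' : Set (X.residueField η)))
    (F : Finset (JJ f V η))
    (hF : ∀ R : ValuationSubring (X.residueField η),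
      Set.range (psi f V hV η hη).hom ⊆ (R : Set (X.residueField η)) →
      ∃ W ∈ F, (T W : Set (X.residueField η)) ⊆ (R : Set (X.residueField η)))
    (x : X) (hx : η ⤳ x) (hxV : x ∈ f ⁻¹ᵁ V) : ∃ W ∈ F, x ∈ W.1 := by
  let φx : X.presheaf.stalk x ⟶ X.residueField η :=
    X.presheaf.stalkSpecializes hx ≫ X.residue η
  obtain ⟨R, hR, hloc⟩ := IsLocalRing.exists_factor_valuationRing φx.hom
  haveI : IsLocalRing (CommRingCat.of ↥R) := inferInstanceAs (IsLocalRing ↥R)
  let a0 : X.presheaf.stalk x ⟶ CommRingCat.of ↥R :=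
    CommRingCat.ofHom (φx.hom.codRestrict R.toSubring hR)
  let alg : CommRingCat.of ↥R ⟶ X.residueField η :=
    CommRingCat.ofHom (algebraMap ↥R (X.residueField η))
  have halg_inj : ∀ {A : CommRingCat.{u}} (u v : A ⟶ CommRingCat.of ↥R), u ≫ alg = v ≫ alg → u = v := by
    intro A u v h
    ext t
    have := congrArg (fun g => g.hom t) h
    exact this
  have hφx : φx = a0 ≫ alg := by ext t; rfl
  let l : Spec (CommRingCat.of ↥R) ⟶ X := Spec.map a0 ≫ X.fromSpecStalk x
  have h1 : Spec.map alg ≫ l = X.fromSpecResidueField η := by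
    change Spec.map alg ≫ Spec.map a0 ≫ X.fromSpecStalk x = _
    rw [← Category.assoc, ← Spec.map_comp, ← hφx, Scheme.fromSpecResidueField]
    change Spec.map (X.presheaf.stalkSpecializes hx ≫ X.residue η) ≫ _ = _
    rw [Spec.map_comp, Category.assoc, Scheme.SpecMap_stalkSpecializes_fromSpecStalk]
  have h2 : l (IsLocalRing.closedPoint (CommRingCat.of ↥R)) = x := by
    change X.fromSpecStalk x (Spec.map a0 (IsLocalRing.closedPoint (CommRingCat.of ↥R))) = x
    have : Spec.map a0 (IsLocalRing.closedPoint (CommRingCat.of ↥R)) =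
        IsLocalRing.closedPoint (X.presheaf.stalk x) :=
      IsLocalRing.comap_closedPoint (S := ↥R) (φx.hom.codRestrict R.toSubring hR)
    rw [this, Scheme.fromSpecStalk_closedPoint]
  have h3 : (l ≫ f) (IsLocalRing.closedPoint (CommRingCat.of ↥R)) ∈ V := by
    change f (l (IsLocalRing.closedPoint (CommRingCat.of ↥R))) ∈ V
    rw [h2]; exact hxV
  obtain ⟨b, hb⟩ := factor_affine (CommRingCat.of ↥R) (l ≫ f) hV h3
  have hψ : psi f V hV η hη = b ≫ alg := by
    apply factor_unique hV
    rw [Spec.map_comp, Category.assoc, ← hb, ← Category.assoc, h1]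
    exact (psi_spec f V hV η hη).symm
  have hRψ : Set.range (psi f V hV η hη).hom ⊆ (R : Set (X.residueField η)) := by
    rintro _ ⟨t, rfl⟩
    rw [hψ]
    exact (b.hom t).2
  obtain ⟨W, hWF, hTW⟩ := hF R hRψ
  have hφW : Set.range (phi f V η hη W).hom ⊆ (R : Set (X.residueField η)) :=
    hTgen W R.toSubring hRψ hTW
  let c : Γ(X, W.1) ⟶ CommRingCat.of ↥R :=
    CommRingCat.ofHom ((phi f V η hη W).hom.codRestrict R.toSubring (fun t => hφW ⟨t, rfl⟩))
  have hc : phi f V η hη W = c ≫ alg := by ext t; rfl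
  let l' : Spec (CommRingCat.of ↥R) ⟶ X := Spec.map c ≫ W.2.1.fromSpec
  have h1' : Spec.map alg ≫ l' = X.fromSpecResidueField η := by
    change Spec.map alg ≫ Spec.map c ≫ W.2.1.fromSpec = _
    rw [← Category.assoc, ← Spec.map_comp, ← hc]
    exact (phi_spec f V η hη W).symm
  have h2' : l' ≫ f = l ≫ f := by
    change (Spec.map c ≫ W.2.1.fromSpec) ≫ f = _
    rw [Category.assoc, ← IsAffineOpen.SpecMap_appLE_fromSpec f hV W.2.1 W.2.2.1, hb,
      ← Category.assoc, ← Spec.map_comp]
    congr 2
    apply halg_inj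
    rw [Category.assoc, ← hc, alpha_phi f V hV η hη W, hψ]
  have w : X.fromSpecResidueField η ≫ f = Spec.map alg ≫ (l ≫ f) := by
    rw [← Category.assoc, h1]
  let S : ValuativeCommSq f := { R := ↥R, K := X.residueField η, commSq := ⟨w⟩, .. }
  haveI := hf S
  let L1 : S.commSq.LiftStruct := ⟨l, h1, rfl⟩
  let L2 : S.commSq.LiftStruct := ⟨l', h1', h2'⟩
  have hL : L1 = L2 := Subsingleton.elim _ _
  have hll : l = l' := congrArg (fun L => L.l) hL
  refine ⟨W, hWF, ?_⟩
  rw [← h2, hll]
  exact mem_of_factor W.2.1 c _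


include hV hη in
theorem isCompact_closure_inter (hf : ValuativeCriterion f) :
    IsCompact (closure {η} ∩ (f ⁻¹ᵁ V : Set X)) := by
  classical
  have hgen : ∀ W : JJ f V η, ∃ s : Finset Γ(X, W.1), ∀ R' : Subring Γ(X, W.1),
      (∀ a, (f.appLE V W.1 W.2.2.1).hom a ∈ R') → (∀ b ∈ s, b ∈ R') → ∀ b, b ∈ R' := fun W =>
    exists_gens_of_finiteType _
      (HasRingHomProperty.appLE @LocallyOfFiniteType f inferInstance ⟨V, hV⟩ ⟨W.1, W.2.1⟩ W.2.2.1)
  choose s hs using hgen
  let T : JJ f V η → Finset (X.residueField η) := fun W => (s W).image (phi f V η hη W).hom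
  have hT : ∀ W, ∀ t ∈ T W, t ∈ Set.range (phi f V η hη W).hom := by
    intro W t ht
    obtain ⟨b, -, rfl⟩ := Finset.mem_image.mp ht
    exact ⟨b, rfl⟩
  have hTgen : ∀ (W : JJ f V η) (R' : Subring (X.residueField η)),
      Set.range (psi f V hV η hη).hom ⊆ (R' : Set (X.residueField η)) →
      (T W : Set (X.residueField η)) ⊆ (R' : Set (X.residueField η)) →
      Set.range (phi f V η hη W).hom ⊆ (R' : Set (X.residueField η)) := by
    intro W R' h1 h2
    rintro _ ⟨b, rfl⟩
    have := hs W (R'.comap (phi f V η hη W).hom) ?_ ?_ b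
    · exact this
    · intro a
      rw [Subring.mem_comap]
      have : (phi f V η hη W).hom ((f.appLE V W.1 W.2.2.1).hom a) = (psi f V hV η hη).hom a := by
        rw [← alpha_phi f V hV η hη W]; rfl
      rw [this]
      exact h1 ⟨a, rfl⟩
    · intro b hb
      rw [Subring.mem_comap]
      exact h2 (Finset.mem_coe.mpr (Finset.mem_image_of_mem _ hb))
  obtain ⟨F, hF⟩ := exists_finite_subfamily (Set.range (psi f V hV η hη).hom) T
    (claim1 f V hV η hη hf.existence T hT)
  have hcover : closure {η} ∩ (f ⁻¹ᵁ V : Set X) = ⋃ W ∈ F, closure {η} ∩ (W.1 : Set X) := by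
    apply Set.Subset.antisymm
    · rintro x ⟨hx1, hx2⟩
      have hsp : η ⤳ x := specializes_iff_mem_closure.mpr hx1
      obtain ⟨W, hWF, hxW⟩ := claim3 f V hV η hη hf.uniqueness T hTgen F hF x hsp hx2
      exact Set.mem_biUnion hWF ⟨hx1, hxW⟩
    · intro x hx
      simp only [Set.mem_iUnion] at hx
      obtain ⟨W, -, hx1, hx2⟩ := hx
      exact ⟨hx1, W.2.2.1 hx2⟩
  rw [hcover]
  exact F.isCompact_biUnion (fun W _ => (W.2.1.isCompact).inter_left isClosed_closure)

end core

theorem main {X Y : Scheme.{u}} (f : X ⟶ Y) [LocallyOfFinitePresentation f]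
    (hf : ValuativeCriterion f) (hX : (irreducibleComponents ↥X).Finite) :
    QuasiCompact f := by
  rw [quasiCompact_iff_forall_isAffineOpen]
  intro V hV
  have hcov : (f ⁻¹ᵁ V : Set X) = ⋃ Z ∈ irreducibleComponents X, Z ∩ (f ⁻¹ᵁ V : Set X) := by
    rw [← Set.iUnion₂_inter, ← Set.sUnion_eq_biUnion, sUnion_irreducibleComponents,
      Set.univ_inter]
  rw [hcov]
  apply hX.isCompact_biUnion
  intro Z hZ
  obtain ⟨η, hη⟩ := QuasiSober.sober hZ.1 (isClosed_of_mem_irreducibleComponents Z hZ)
  by_cases hηV : η ∈ f ⁻¹ᵁ V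
  · rw [← hη.def]; exact isCompact_closure_inter f V hV η hηV hf
  · have : Z ∩ (f ⁻¹ᵁ V : Set X) = ∅ := by
      rw [Set.eq_empty_iff_forall_notMem]
      rintro x ⟨hx1, hx2⟩
      apply hηV
      have hsp : η ⤳ x := hη.specializes hx1
      exact hsp.mem_open (f ⁻¹ᵁ V).isOpen hx2
    rw [this]; exact isCompact_empty

end Aux

open CategoryTheory AlgebraicGeometry in
/-- Let f : X → Y be a morphism of schemes which is locally of finite presentation, and for which the
valuative criterion holds (every valuative square over a valuation ring has exactly one lift). When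
X has only finitely many irreducible components, the morphism f is quasi-compact. (The source states
this for algebraic spaces and adds that f is then proper; universal closedness follows from
quasi-compactness and the existence part by the standard criterion, and separatedness from the
uniqueness part once f is quasi-separated. Only the scheme case and the quasi-compactness conclusion
are stated here.) -/
theorem result
    {X Y : Scheme.{u}} (f : X ⟶ Y) [LocallyOfFinitePresentation f]
    (hf : ValuativeCriterion f) (hX : (irreducibleComponents ↥X).Finite) :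
    QuasiCompact f := by
  exact Aux.main f hf hX

end Groth.Agent.S19036
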