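import Groth.Statements.S19037
import Mathlib

set_option autoImplicit false
universe u v
open scoped Polynomial LaurentPolynomial
open Instab

namespace Groth.Agent.S19037

section
open scoped Polynomial LaurentPolynomial

theorem main
    {R : Type u} {A : Type v} [CommRing R] [CommRing A] [Algebra R A]
    (𝒜 : ℤ → Submodule R A) [GradedAlgebra 𝒜] (t : A) (ht : t ∈ 𝒜 (-1))
    (ψ : Localization.Away t →ₐ[R] R[T;T⁻¹])
    (hψt : ψ (algebraMap A (Localization.Away t) t) = LaurentPolynomial.T 1)
    (hψ : ∀ (n : ℤ) (a : A), a ∈ 𝒜 n →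
      ∃ r : R, ψ (algebraMap A (Localization.Away t) a) = LaurentPolynomial.C r * LaurentPolynomial.T (-n)) :
    (∃! χ : A →ₐ[R] R[X], ∀ a : A,
        ψ (algebraMap A (Localization.Away t) a) = Polynomial.toLaurentAlg (χ a)) ↔
      ∀ a ∈ 𝒜 1, ψ (algebraMap A (Localization.Away t) (t * a)) = 0 := by
  let ψ' : A →ₐ[R] R[T;T⁻¹] := ψ.comp (IsScalarTower.toAlgHom R A (Localization.Away t))
  have hψ' : ∀ a, ψ' a = ψ (algebraMap A (Localization.Away t) a) := fun a => rfl
  simp only [← hψ'] at hψt hψ ⊢
  constructor
  · rintro ⟨χ, hχ, -⟩ a ha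
    obtain ⟨r, hr⟩ := hψ 1 a ha
    have h1 : χ a = 0 := by
      have := congrArg LaurentPolynomial.trunc ((hχ a).symm.trans hr)
      rw [Polynomial.toLaurentAlg_apply, Polynomial.trunc_toLaurent, LaurentPolynomial.trunc_C_mul_T] at this
      simpa using this
    rw [map_mul, hχ a, h1, map_zero, mul_zero]
  · intro h
    have hTunit : ∀ k : ℕ, ∀ x : R[T;T⁻¹], (LaurentPolynomial.T 1 : R[T;T⁻¹]) ^ k * x = 0 → x = 0 := by
      intro k x hx
      have hu : IsUnit ((LaurentPolynomial.T 1 : R[T;T⁻¹]) ^ k) := (LaurentPolynomial.isUnit_T 1).pow k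
      exact (hu.mul_right_eq_zero).mp hx
    -- Step 1
    have step1 : ∀ n : ℤ, 1 ≤ n → ∀ a ∈ 𝒜 n, ψ' a = 0 := by
      intro n hn a ha
      have hk : ((n - 1).toNat : ℤ) = n - 1 := Int.toNat_of_nonneg (by omega)
      have hmem : t ^ (n - 1).toNat * a ∈ 𝒜 1 := by
        have h1 : t ^ (n - 1).toNat ∈ 𝒜 ((n - 1).toNat • (-1 : ℤ)) := SetLike.pow_mem_graded _ ht
        have h2 := SetLike.mul_mem_graded h1 ha
        have e : (n - 1).toNat • (-1 : ℤ) + n = 1 := by
          rw [nsmul_eq_mul, hk]; ring
        rwa [e] at h2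
      have := h _ hmem
      rw [map_mul, map_mul, map_pow, hψt, ← mul_assoc, ← pow_succ'] at this
      exact hTunit _ _ this
    -- Step 2
    have step2 : ∀ n : ℤ, ∀ a ∈ 𝒜 n, ψ' a ∈ (Polynomial.toLaurentAlg (R := R)).range := by
      intro n a ha
      by_cases hn : 1 ≤ n
      · rw [step1 n hn a ha]; exact Subalgebra.zero_mem _
      · obtain ⟨r, hr⟩ := hψ n a ha
        rw [hr]
        refine ⟨Polynomial.monomial (-n).toNat r, ?_⟩
        change Polynomial.toLaurentAlg _ = _
        rw [Polynomial.toLaurentAlg_apply, Polynomial.toLaurent_C_mul_T,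
          Int.toNat_of_nonneg (by omega)]
    have step3 : ∀ a, ψ' a ∈ (Polynomial.toLaurentAlg (R := R)).range := by
      intro a
      induction a using DirectSum.Decomposition.inductionOn 𝒜 with
      | zero => rw [map_zero]; exact Subalgebra.zero_mem _
      | homogeneous a => exact step2 _ a a.2
      | add a b ha hb => rw [map_add]; exact Subalgebra.add_mem _ ha hb
    have hinj : Function.Injective (Polynomial.toLaurentAlg (R := R)) := by
      intro x y hxy
      rw [Polynomial.toLaurentAlg_apply, Polynomial.toLaurentAlg_apply] at hxy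
      exact Polynomial.toLaurent_injective hxy
    let E := AlgEquiv.ofInjective (Polynomial.toLaurentAlg (R := R)) hinj
    let χ : A →ₐ[R] R[X] := E.symm.toAlgHom.comp (ψ'.codRestrict _ step3)
    have hχ : ∀ a, ψ' a = Polynomial.toLaurentAlg (χ a) := by
      intro a
      have h1 := AlgEquiv.ofInjective_apply (Polynomial.toLaurentAlg (R := R)) hinj (χ a)
      have h2 : E (χ a) = ψ'.codRestrict _ step3 a := by
        change E (E.symm _) = _
        rw [AlgEquiv.apply_symm_apply]
        rfl
      rw [← h1]
      change _ = ((E (χ a) : (Polynomial.toLaurentAlg (R := R)).range) : R[T;T⁻¹])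
      rw [h2]
      rfl
    refine ⟨χ, hχ, ?_⟩
    intro χ' hχ'
    apply AlgHom.ext
    intro a
    apply hinj
    rw [← hχ, ← hχ']


end


/-- Affine form over a ring R. Let A be a commutative ℤ-graded R-algebra and t an element of degree −1
(so A is a graded algebra over R[t] with t in degree −1), and let ψ : A[1/t] → R[T, T⁻¹] be an
R-algebra map sending t to T which is graded, in the sense that each homogeneous element of degree n
of A goes to an element of R times T^(−n). Then ψ is obtained by inverting t from an R-algebra map χ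
: A → R[T] (compared through the inclusion of R[T] in R[T, T⁻¹]) if and only if ψ kills t·a for
every homogeneous a of degree 1; such a χ is unique. (The source states this for quasi-coherent
graded algebras over an arbitrary base scheme; the statement is local on the base and is given here
over an affine base.) -/
theorem result
    {R : Type u} {A : Type v} [CommRing R] [CommRing A] [Algebra R A]
    (𝒜 : ℤ → Submodule R A) [GradedAlgebra 𝒜] (t : A) (ht : t ∈ 𝒜 (-1))
    (ψ : Localization.Away t →ₐ[R] R[T;T⁻¹])
    (hψt : ψ (algebraMap A (Localization.Away t) t) = LaurentPolynomial.T 1)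
    (hψ : ∀ (n : ℤ) (a : A), a ∈ 𝒜 n →
      ∃ r : R, ψ (algebraMap A (Localization.Away t) a) = LaurentPolynomial.C r * LaurentPolynomial.T (-n)) :
    (∃! χ : A →ₐ[R] R[X], ∀ a : A,
        ψ (algebraMap A (Localization.Away t) a) = Polynomial.toLaurentAlg (χ a)) ↔
      ∀ a ∈ 𝒜 1, ψ (algebraMap A (Localization.Away t) (t * a)) = 0 := by
  classical
  exact main 𝒜 t ht ψ hψt hψ

end Groth.Agent.S19037
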