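import Groth.Statements.S19041
import Mathlib
import Groth.Agent.Lib.Helper9.GcMod
-- import your own Groth.Agent.* helpers here

set_option autoImplicit false
universe u
open Dieu

namespace Groth.Agent.S19041

open W4c6eohyperellchar2 Groth.Agent.Helper9.GcModLib
namespace Aux

theorem F_iter_X (c : ℕ) (k : Type u) [Field k] (e : ℕ) : ∀ l : ℕ, 2 ^ e * l ≤ c →
    (F c k)^[e] (X c k (2 ^ e * l)) = X c k l := by
  induction e with
  | zero => intro l _; rw [pow_zero, one_mul]; rfl
  | succ e ih =>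
    intro l hl
    rw [Function.iterate_succ_apply, F_X_even c k _ ⟨2 ^ e * l, by ring⟩ hl]
    have : 2 ^ (e + 1) * l / 2 = 2 ^ e * l := by
      rw [pow_succ, mul_assoc, mul_comm 2 l, ← mul_assoc]
      exact Nat.mul_div_cancel _ (by norm_num)
    rw [this]
    apply ih
    calc 2 ^ e * l ≤ 2 ^ (e + 1) * l := by
          apply Nat.mul_le_mul_right
          exact Nat.pow_le_pow_right (by norm_num) (by omega)
      _ ≤ c := hl

theorem V_iter_Y (c : ℕ) (k : Type u) [Field k] [ExpChar k 2] [PerfectRing k 2] (n : ℕ) :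
    ∀ m : ℕ, (V c k)^[n] (Y c k m) = Y c k (2 ^ n * m) := by
  induction n with
  | zero => intro m; rw [pow_zero, one_mul]; rfl
  | succ n ih =>
    intro m
    rw [Function.iterate_succ_apply, V_Y, ih]
    congr 1
    ring

theorem main (c : ℕ) (k : Type u) [Field k] [CharP k 2] [PerfectRing k 2]
    (j e l : ℕ) (hj : j = 2 ^ e * l) (hl : Odd l) (hjc : j ≤ c) (hcj : c < 2 * j)
    (j' n : ℕ) (hj'c : j' ≤ c) (hcj' : c < 2 * j') (hn : 2 ^ n * (2 * c - 2 * j' + 1) = c - (l - 1) / 2) :
    (W4c6eohyperellchar2.F c k)^[e + 1] (W4c6eohyperellchar2.X c k j) + (W4c6eohyperellchar2.V c k)^[n + 1] (W4c6eohyperellchar2.X c k j') = 0 := by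
  have hlc : l ≤ c := by
    have h1 : 1 ≤ 2 ^ e := Nat.one_le_two_pow
    calc l = 1 * l := (one_mul l).symm
      _ ≤ 2 ^ e * l := Nat.mul_le_mul_right _ h1
      _ = j := hj.symm
      _ ≤ c := hjc
  rw [Function.iterate_succ_apply', hj, F_iter_X c k e l (by rw [← hj]; exact hjc),
    F_X_odd c k l hl hlc, Function.iterate_succ_apply, V_X c k j' hcj' hj'c, V_iter_Y, hn,
    ← two_smul k, CharTwo.two_eq_zero, zero_smul]

end Aux

/-- Let `k` be a perfect field of characteristic `2` and `c` a natural number, and consider the explicit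
`2c`-dimensional `k`-space on `X_1, …, X_c, Y_1, …, Y_c` with its operators `F` and `V` (`F Y_j =
0`; `F X_j = X_{j/2}` for `j` even and `Y_{c-(j-1)/2}` for `j` odd; `V Y_j = Y_{2j}` when `2j ≤ c`,
else `0`; `V X_j = Y_{2c-2j+1}` when `2j > c`, else `0`). For `j = 2^e l` with `l` odd and `c < 2j ≤
2c`, and for `j'` with `c < 2j' ≤ 2c` and `n` with `2^n (2c - 2j' + 1) = c - (l-1)/2`, one has
`F^{e+1} X_j + V^{n+1} X_{j'} = 0`. (Stated over any perfect field of characteristic `2`; the source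
works over an algebraically closed one.) -/
theorem result (c : ℕ) (k : Type u) [Field k] [CharP k 2] [PerfectRing k 2]
    (j e l : ℕ) (hj : j = 2 ^ e * l) (hl : Odd l) (hjc : j ≤ c) (hcj : c < 2 * j)
    (j' n : ℕ) (hj'c : j' ≤ c) (hcj' : c < 2 * j') (hn : 2 ^ n * (2 * c - 2 * j' + 1) = c - (l - 1) / 2) :
    (W4c6eohyperellchar2.F c k)^[e + 1] (W4c6eohyperellchar2.X c k j) + (W4c6eohyperellchar2.V c k)^[n + 1] (W4c6eohyperellchar2.X c k j') = 0 := by
  exact Aux.main c k j e l hj hl hjc hcj j' n hj'c hcj' hn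

end Groth.Agent.S19041
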