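import Groth.Statements.S19042
import Mathlib
import Groth.Agent.Lib.Helper9.GcMod
-- import your own Groth.Agent.* helpers here

set_option autoImplicit false
universe u
open Dieu

namespace Groth.Agent.S19042

open W4c6eohyperellchar2 Groth.Agent.Helper9.GcModLib
namespace Aux

theorem gc_decomp (c : ℕ) (k : Type u) [Field k] (v : GcMod c k) :
    v = ∑ i : Fin c, v.1 i • X c k (i.val + 1) + ∑ i : Fin c, v.2 i • Y c k (i.val + 1) := by
  classical
  apply gc_ext
  · intro i0
    rw [Prod.fst_add, Pi.add_apply, Prod.fst_sum, Prod.fst_sum, Finset.sum_apply, Finset.sum_apply]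
    have h1 : ∀ i : Fin c, (v.1 i • X c k (i.val + 1)).1 i0 = if i = i0 then v.1 i else 0 := by
      intro i
      rw [Prod.smul_fst, Pi.smul_apply, X_fst, smul_eq_mul]
      by_cases h : i = i0
      · rw [if_pos h, if_pos (by rw [h]), mul_one]
      · rw [if_neg h, if_neg (fun h' => h (Fin.ext (by omega))), mul_zero]
    have h2 : ∀ i : Fin c, (v.2 i • Y c k (i.val + 1)).1 i0 = 0 := by
      intro i
      rw [Prod.smul_fst, Pi.smul_apply, Y_fst, smul_zero]
    rw [Finset.sum_congr rfl (fun i _ => h1 i), Finset.sum_congr rfl (fun i _ => h2 i),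
      Finset.sum_ite_eq' Finset.univ i0, if_pos (Finset.mem_univ _), Finset.sum_const_zero, add_zero]
  · intro i0
    rw [Prod.snd_add, Pi.add_apply, Prod.snd_sum, Prod.snd_sum, Finset.sum_apply, Finset.sum_apply]
    have h1 : ∀ i : Fin c, (v.2 i • Y c k (i.val + 1)).2 i0 = if i = i0 then v.2 i else 0 := by
      intro i
      rw [Prod.smul_snd, Pi.smul_apply, Y_snd, smul_eq_mul]
      by_cases h : i = i0
      · rw [if_pos h, if_pos (by rw [h]), mul_one]
      · rw [if_neg h, if_neg (fun h' => h (Fin.ext (by omega))), mul_zero]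
    have h2 : ∀ i : Fin c, (v.1 i • X c k (i.val + 1)).2 i0 = 0 := by
      intro i
      rw [Prod.smul_snd, Pi.smul_apply, X_snd, smul_zero]
    rw [Finset.sum_congr rfl (fun i _ => h1 i), Finset.sum_congr rfl (fun i _ => h2 i),
      Finset.sum_ite_eq' Finset.univ i0, if_pos (Finset.mem_univ _), Finset.sum_const_zero, zero_add]

theorem main (c : ℕ) (k : Type u) [Field k] [CharP k 2] [PerfectRing k 2]
    (N : Submodule k (W4c6eohyperellchar2.GcMod c k))
    (hF : ∀ v ∈ N, W4c6eohyperellchar2.F c k v ∈ N) (hV : ∀ v ∈ N, W4c6eohyperellchar2.V c k v ∈ N)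
    (hX : ∀ j : ℕ, c < 2 * j → j ≤ c → W4c6eohyperellchar2.X c k j ∈ N) : N = ⊤ := by
  have hXall : ∀ d j : ℕ, c - j ≤ d → 1 ≤ j → j ≤ c → X c k j ∈ N := by
    intro d
    induction d with
    | zero =>
      intro j hd h1 hc
      exact hX j (by omega) hc
    | succ d ih =>
      intro j hd h1 hc
      by_cases h2 : c < 2 * j
      · exact hX j h2 hc
      · have h3 := ih (2 * j) (by omega) (by omega) (by omega)
        have h4 := hF _ h3
        rw [F_X_even c k (2 * j) ⟨j, by ring⟩ (by omega)] at h4
        rwa [Nat.mul_div_cancel_left j (by norm_num : 0 < 2)] at h4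
  have hYall : ∀ m : ℕ, 1 ≤ m → m ≤ c → Y c k m ∈ N := by
    intro m
    induction m using Nat.strong_induction_on with
    | _ m ih =>
      intro h1 hc
      rcases Nat.even_or_odd m with ⟨r, hr⟩ | ⟨r, hr⟩
      · have h2 := hV _ (ih r (by omega) (by omega) (by omega))
        rw [V_Y] at h2
        have : 2 * r = m := by omega
        rwa [this] at h2
      · have h2 := hV _ (hXall c (c - r) (by omega) (by omega) (by omega))
        rw [V_X c k (c - r) (by omega) (by omega)] at h2
        have : 2 * c - 2 * (c - r) + 1 = m := by omega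
        rwa [this] at h2
  rw [eq_top_iff]
  rintro v -
  rw [gc_decomp c k v]
  apply N.add_mem
  · apply N.sum_mem
    intro i _
    exact N.smul_mem _ (hXall c _ (by omega) (by omega) (by have := i.2; omega))
  · apply N.sum_mem
    intro i _
    exact N.smul_mem _ (hYall _ (by omega) (by have := i.2; omega))

end Aux

/-- Let `k` be a perfect field of characteristic `2` and `c` a natural number, and consider the explicit
`2c`-dimensional `k`-space on `X_1, …, X_c, Y_1, …, Y_c` with its operators `F` and `V` (`F Y_j =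
0`; `F X_j = X_{j/2}` for `j` even and `Y_{c-(j-1)/2}` for `j` odd; `V Y_j = Y_{2j}` when `2j ≤ c`,
else `0`; `V X_j = Y_{2c-2j+1}` when `2j > c`, else `0`). The vectors `X_j` with `c < 2j ≤ 2c`
generate it as a module over `k[F, V]`: a `k`-subspace stable under `F` and `V` containing them is
everything. (Stated over any perfect field of characteristic `2`; the source works over an
algebraically closed one.) -/
theorem result (c : ℕ) (k : Type u) [Field k] [CharP k 2] [PerfectRing k 2]
    (N : Submodule k (W4c6eohyperellchar2.GcMod c k))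
    (hF : ∀ v ∈ N, W4c6eohyperellchar2.F c k v ∈ N) (hV : ∀ v ∈ N, W4c6eohyperellchar2.V c k v ∈ N)
    (hX : ∀ j : ℕ, c < 2 * j → j ≤ c → W4c6eohyperellchar2.X c k j ∈ N) : N = ⊤ := by
  exact Aux.main c k N hF hV hX

end Groth.Agent.S19042
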