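import Groth.Statements.S19043
import Mathlib
import Groth.Agent.Lib.Helper9.GcMod
import Groth.Agent.S19042
-- import your own Groth.Agent.* helpers here

set_option autoImplicit false
universe u
open Dieu

namespace Groth.Agent.S19043

open W4c6eohyperellchar2 Groth.Agent.Helper9.GcModLib
namespace Aux

section

variable (c : ℕ) (k : Type u) [Field k] [ExpChar k 2] [PerfectRing k 2]

/-- the span of the images of `F` and `V` -/
noncomputable def W : Submodule k (GcMod c k) :=
  Submodule.span k (Set.range (F c k) ∪ Set.range (V c k))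

theorem fst_eq_zero_of_mem_W (w : GcMod c k) (hw : w ∈ W c k) (i : Fin c) (hi : c < 2 * (i.val + 1)) :
    w.1 i = 0 := by
  unfold W at hw
  induction hw using Submodule.span_induction with
  | mem x hx =>
    rcases hx with ⟨v, rfl⟩ | ⟨v, rfl⟩
    · rw [F_fst]
      unfold coefX
      rw [dif_neg (by omega), zero_pow two_ne_zero]
    · rw [V_fst]
  | zero => rfl
  | add x y _ _ hx hy => rw [Prod.fst_add, Pi.add_apply, hx, hy, add_zero]
  | smul a x _ hx => rw [Prod.smul_fst, Pi.smul_apply, hx, smul_zero]

theorem X_mem_W (j : ℕ) (_h1 : 1 ≤ j) (h2 : 2 * j ≤ c) : X c k j ∈ W c k := by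
  apply Submodule.subset_span
  left
  refine ⟨X c k (2 * j), ?_⟩
  rw [F_X_even c k (2 * j) ⟨j, by ring⟩ h2, Nat.mul_div_cancel_left j (by norm_num : 0 < 2)]

theorem Y_mem_W (m : ℕ) (h1 : 1 ≤ m) (h2 : m ≤ c) : Y c k m ∈ W c k := by
  apply Submodule.subset_span
  right
  rcases Nat.even_or_odd m with ⟨r, hr⟩ | ⟨r, hr⟩
  · refine ⟨Y c k r, ?_⟩
    rw [V_Y]
    congr 1
    omega
  · refine ⟨X c k (c - r), ?_⟩
    rw [V_X c k (c - r) (by omega) (by omega)]
    congr 1
    omega

end

theorem main (c : ℕ) (k : Type u) [Field k] [CharP k 2] [PerfectRing k 2] :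
    LinearIndependent k (fun j : {j : ℕ // c < 2 * j ∧ j ≤ c} =>
        Submodule.mkQ (Submodule.span k (Set.range (W4c6eohyperellchar2.F c k) ∪ Set.range (W4c6eohyperellchar2.V c k))) (W4c6eohyperellchar2.X c k j.1)) ∧
      Submodule.span k (Set.range (fun j : {j : ℕ // c < 2 * j ∧ j ≤ c} =>
        Submodule.mkQ (Submodule.span k (Set.range (W4c6eohyperellchar2.F c k) ∪ Set.range (W4c6eohyperellchar2.V c k))) (W4c6eohyperellchar2.X c k j.1))) = ⊤ := by
  classical
  constructor
  · rw [linearIndependent_iff']
    intro s g hsum j0 hj0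
    have h1 : (∑ j ∈ s, g j • X c k j.1) ∈ W c k := by
      have hsum' : ∑ i ∈ s, g i • (W c k).mkQ (X c k i.1) = 0 := hsum
      rw [← Submodule.Quotient.mk_eq_zero, ← Submodule.mkQ_apply, map_sum, ← hsum']
      apply Finset.sum_congr rfl
      intro j _
      rw [map_smul]
    have hj0' := j0.2
    have h2 := fst_eq_zero_of_mem_W c k _ h1 ⟨j0.1 - 1, by omega⟩ (by show c < 2 * (j0.1 - 1 + 1); omega)
    rw [Prod.fst_sum, Finset.sum_apply] at h2
    have h3 : ∀ j ∈ s, (g j • X c k j.1).1 ⟨j0.1 - 1, by omega⟩ = if j = j0 then g j else 0 := by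
      intro j _
      rw [Prod.smul_fst, Pi.smul_apply, X_fst, smul_eq_mul]
      by_cases h : j = j0
      · rw [if_pos h, if_pos (by show j0.1 - 1 + 1 = j.1; rw [h]; omega), mul_one]
      · rw [if_neg h, if_neg (fun h' => h (Subtype.ext (by
          have h'' : j0.1 - 1 + 1 = j.1 := h'
          omega))), mul_zero]
    rw [Finset.sum_congr rfl h3, Finset.sum_ite_eq' s j0, if_pos hj0] at h2
    exact h2
  · rw [eq_top_iff]
    rintro x -
    obtain ⟨v, rfl⟩ := Submodule.mkQ_surjective _ x
    rw [Groth.Agent.S19042.Aux.gc_decomp c k v, map_add, map_sum, map_sum]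
    apply Submodule.add_mem
    · apply Submodule.sum_mem
      intro i _
      rw [map_smul]
      apply Submodule.smul_mem
      by_cases h : c < 2 * (i.val + 1)
      · exact Submodule.subset_span ⟨⟨i.val + 1, h, by have := i.2; omega⟩, rfl⟩
      · have : X c k (i.val + 1) ∈ W c k := X_mem_W c k _ (by omega) (by omega)
        have h0 : Submodule.mkQ (W c k) (X c k (i.val + 1)) = 0 := by
          rw [Submodule.mkQ_apply, Submodule.Quotient.mk_eq_zero]; exact this
        have h0' : Submodule.mkQ (Submodule.span k (Set.range (F c k) ∪ Set.range (V c k)))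
            (X c k (i.val + 1)) = 0 := h0
        rw [h0']
        exact Submodule.zero_mem _
    · apply Submodule.sum_mem
      intro i _
      rw [map_smul]
      apply Submodule.smul_mem
      have : Y c k (i.val + 1) ∈ W c k := Y_mem_W c k _ (by omega) (by have := i.2; omega)
      have h0 : Submodule.mkQ (W c k) (Y c k (i.val + 1)) = 0 := by
        rw [Submodule.mkQ_apply, Submodule.Quotient.mk_eq_zero]; exact this
      have h0' : Submodule.mkQ (Submodule.span k (Set.range (F c k) ∪ Set.range (V c k)))
          (Y c k (i.val + 1)) = 0 := h0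
      rw [h0']
      exact Submodule.zero_mem _

end Aux

/-- Let `k` be a perfect field of characteristic `2` and `c` a natural number, and let `M` be the
explicit `2c`-dimensional `k`-space on `X_1, …, X_c, Y_1, …, Y_c` with its operators `F` and `V` (`F
Y_j = 0`; `F X_j = X_{j/2}` for `j` even and `Y_{c-(j-1)/2}` for `j` odd; `V Y_j = Y_{2j}` when `2j
≤ c`, else `0`; `V X_j = Y_{2c-2j+1}` when `2j > c`, else `0`). The classes of the `X_j` with `c <
2j ≤ 2c` in the quotient of `M` by the `k`-span of `F(M) ∪ V(M)` are linearly independent and span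
that quotient. (Stated over any perfect field of characteristic `2`; the source works over an
algebraically closed one.) -/
theorem result (c : ℕ) (k : Type u) [Field k] [CharP k 2] [PerfectRing k 2] :
    LinearIndependent k (fun j : {j : ℕ // c < 2 * j ∧ j ≤ c} =>
        Submodule.mkQ (Submodule.span k (Set.range (W4c6eohyperellchar2.F c k) ∪ Set.range (W4c6eohyperellchar2.V c k))) (W4c6eohyperellchar2.X c k j.1)) ∧
      Submodule.span k (Set.range (fun j : {j : ℕ // c < 2 * j ∧ j ≤ c} =>
        Submodule.mkQ (Submodule.span k (Set.range (W4c6eohyperellchar2.F c k) ∪ Set.range (W4c6eohyperellchar2.V c k))) (W4c6eohyperellchar2.X c k j.1))) = ⊤ := by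
  exact Aux.main c k

end Groth.Agent.S19043
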