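import Groth.Statements.S19044
import Mathlib
import Groth.Prelude.Def_W4bk4goldsch23Ext
import Groth.Prelude.Def_LocRes
import Groth.Agent.Lib.Helper9.FFExt.ASB
-- import your own Groth.Agent.* helpers here

set_option autoImplicit false
universe u v w
open FunFld

namespace Groth.Agent.S19044

namespace Aux

open FunFld WithZero Polynomial IntermediateField
open Groth.Agent.Lib.Helper4.FF Groth.Agent.Helper9.FFExt Groth.Agent.Helper9.Tate
open Groth.Agent.Helper9.AS2 Groth.Agent.Helper9.ASB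

section Index

variable {k : Type u} [Field k] (B : Finset k) (d : k → ℕ)

abbrev I1 := {a : ↥B × ℕ // 1 ≤ a.2 ∧ 2 * a.2 + 1 ≤ d (a.1 : k)}
abbrev I2 := {b : ↥B // (b : k) ≠ 0}

def e1 : I1 B d ≃ Σ β : ↥B, Fin ((d (β : k) - 1) / 2) where
  toFun a := ⟨a.1.1, ⟨a.1.2 - 1, by have := a.2; omega⟩⟩
  invFun s := ⟨(s.1, s.2.1 + 1), by have := s.2.2; simp only; omega⟩
  left_inv a := by
    apply Subtype.ext
    apply Prod.ext
    · rfl
    · have := a.2
      simp only
      omega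
  right_inv s := by
    rcases s with ⟨β, i, hi⟩
    simp

noncomputable instance : Fintype (I1 B d) := Fintype.ofEquiv _ (e1 B d).symm

theorem card_I1 : Fintype.card (I1 B d) = ∑ β ∈ B, (d β - 1) / 2 := by
  rw [Fintype.card_congr (e1 B d), Fintype.card_sigma]
  simp only [Fintype.card_fin]
  exact Finset.sum_coe_sort B (fun β => (d β - 1) / 2)

theorem card_I2 [DecidableEq k] (h0 : (0 : k) ∈ B) : Fintype.card (I2 B) = B.card - 1 := by
  classical
  have h1 : Fintype.card (I2 B) = Fintype.card {b : ↥B // b ≠ ⟨0, h0⟩} := by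
    apply Fintype.card_congr
    refine Equiv.subtypeEquivRight fun b => ?_
    rw [Ne, Ne, Subtype.ext_iff]
  rw [h1, Fintype.card_subtype_compl, Fintype.card_coe]
  simp

end Index

section Fam

variable {k : Type u} [Field k] (B : Finset k) (d : k → ℕ)

noncomputable def u1 (a : I1 B d) : RatFunc k :=
  ((RatFunc.X : RatFunc k) - RatFunc.C (a.1.1 : k))⁻¹ ^ (a.1.2 + 1)

noncomputable def u2 (b : I2 B) : RatFunc k :=
  RatFunc.C (b.1 : k) / ((RatFunc.X : RatFunc k) * ((RatFunc.X : RatFunc k) - RatFunc.C (b.1 : k)))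

noncomputable def uu : I1 B d ⊕ I2 B → RatFunc k := Sum.elim (u1 B d) (u2 B)

def ctr : I1 B d ⊕ I2 B → k := Sum.elim (fun a => (a.1.1 : k)) (fun b => (b.1 : k))

theorem u1_ne_zero (a : I1 B d) : u1 B d a ≠ 0 :=
  pow_ne_zero _ (inv_ne_zero (X_sub_C_ne_zero _))

theorem C_ne_zero' {c : k} (hc : c ≠ 0) : (RatFunc.C c : RatFunc k) ≠ 0 :=
  (map_ne_zero_iff _ (RatFunc.C : k →+* RatFunc k).injective).mpr hc

theorem u2_ne_zero (b : I2 B) : u2 B b ≠ 0 :=
  div_ne_zero (C_ne_zero' b.2) (mul_ne_zero RatFunc.X_ne_zero (X_sub_C_ne_zero _))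

theorem uu_ne_zero (i : I1 B d ⊕ I2 B) : uu B d i ≠ 0 := by
  rcases i with a | b
  · exact u1_ne_zero B d a
  · exact u2_ne_zero B b

theorem ord_u1 (p : Place k (RatFunc k)) (a : I1 B d) :
    p.ord (u1 B d a) = -(((a.1.2 + 1 : ℕ) : ℤ) * p.ord ((RatFunc.X : RatFunc k) - RatFunc.C (a.1.1 : k))) := by
  unfold u1
  rw [Place.ord_pow, Place.ord_inv]
  ring

theorem ord_C (p : Place k (RatFunc k)) {c : k} (hc : c ≠ 0) : p.ord (RatFunc.C c : RatFunc k) = 0 := by
  unfold FunFld.Place.ord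
  rw [val_C_eq_one p hc]
  simp

theorem ord_u2 (p : Place k (RatFunc k)) (b : I2 B) :
    p.ord (u2 B b) = -(p.ord ((RatFunc.X : RatFunc k) - RatFunc.C 0) +
      p.ord ((RatFunc.X : RatFunc k) - RatFunc.C (b.1 : k))) := by
  unfold u2
  rw [map_zero, sub_zero, div_eq_mul_inv, Place.ord_mul p (C_ne_zero' b.2)
    (inv_ne_zero (mul_ne_zero RatFunc.X_ne_zero (X_sub_C_ne_zero _))), Place.ord_inv,
    Place.ord_mul p RatFunc.X_ne_zero (X_sub_C_ne_zero _), ord_C p b.2]
  ring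

end Fam

section LI

variable {k : Type u} [Field k] (B : Finset k) (d : k → ℕ)

/-- pole order of a member of the family at its centre -/
def pol : I1 B d ⊕ I2 B → ℤ := Sum.elim (fun a => (a.1.2 : ℤ) + 1) (fun _ => 1)

theorem pol_inj {i j : I1 B d ⊕ I2 B} (hc : ctr B d i = ctr B d j) (hp : pol B d i = pol B d j) :
    i = j := by
  rcases i with a | b <;> rcases j with a' | b'
  · congr 1
    apply Subtype.ext
    apply Prod.ext
    · exact Subtype.ext hc
    · have : (a.1.2 : ℤ) + 1 = (a'.1.2 : ℤ) + 1 := hp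
      omega
  · exfalso
    have : (a.1.2 : ℤ) + 1 = 1 := hp
    have := a.2.1
    omega
  · exfalso
    have : (1 : ℤ) = (a'.1.2 : ℤ) + 1 := hp
    have := a'.2.1
    omega
  · congr 1
    exact Subtype.ext (Subtype.ext hc)

theorem ord_at_ctr (p : Place k (RatFunc k)) (i : I1 B d ⊕ I2 B)
    (h : p.1 ((RatFunc.X : RatFunc k) - RatFunc.C (ctr B d i)) < 1) :
    p.ord (uu B d i) = -pol B d i := by
  rcases i with a | b
  · change p.ord (u1 B d a) = -((a.1.2 : ℤ) + 1)
    rw [ord_u1]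
    change p.1 ((RatFunc.X : RatFunc k) - RatFunc.C (a.1.1 : k)) < 1 at h
    rw [ord_X_sub_C p h]
    push_cast
    ring
  · change p.ord (u2 B b) = -1
    rw [ord_u2]
    change p.1 ((RatFunc.X : RatFunc k) - RatFunc.C (b.1 : k)) < 1 at h
    rw [ord_X_sub_C p h, ord_X_sub_C_of_ne p h (Ne.symm b.2)]
    ring

theorem val_off_ctr (p : Place k (RatFunc k)) (β : k)
    (h : p.1 ((RatFunc.X : RatFunc k) - RatFunc.C β) < 1) (i : I1 B d ⊕ I2 B)
    (hi : ctr B d i ≠ β) (h' : β ≠ 0 ∨ i.isLeft) : p.1 (uu B d i) = 1 := by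
  rw [Place.val_eq_exp_neg_ord p (uu_ne_zero B d i)]
  rcases i with a | b
  · change exp (-(p.ord (u1 B d a))) = 1
    have hi' : (a.1.1 : k) ≠ β := hi
    rw [ord_u1, ord_X_sub_C_of_ne p h hi']
    simp
  · change exp (-(p.ord (u2 B b))) = 1
    have hβ : β ≠ 0 := by
      rcases h' with h' | h'
      · exact h'
      · simp at h'
    have hi' : (b.1 : k) ≠ β := hi
    rw [ord_u2, ord_X_sub_C_of_ne p h hi', ord_X_sub_C_of_ne p h (Ne.symm hβ)]
    simp

theorem li_uu : LinearIndependent k (uu B d) := by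
  classical
  rw [Fintype.linearIndependent_iff]
  intro g hg
  choose pl hpl using fun β : k => exists_place_at β
  have hk : ∀ (β : k) (c : k), c ≠ 0 → (pl β).1 (algebraMap k (RatFunc k) c) = 1 :=
    fun β c hc => Place.val_k (pl β) hc
  have step : ∀ β : k, (∀ i, ctr B d i ≠ β → (pl β).1 (g i • uu B d i) ≤ 1) →
      ∀ i, ctr B d i = β → g i = 0 := by
    intro β hrest i hi
    refine coeff_eq_zero_of_distinct_val (pl β).1 (hk β) (Finset.univ.filter fun i => ctr B d i = β)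
      (uu B d) ?_ ?_ g ?_ i (Finset.mem_filter.mpr ⟨Finset.mem_univ _, hi⟩)
    · intro j hj
      rw [Finset.mem_filter] at hj
      have h1 : (pl β).1 ((RatFunc.X : RatFunc k) - RatFunc.C (ctr B d j)) < 1 := by
        rw [hj.2]; exact hpl β
      rw [Place.val_eq_exp_neg_ord _ (uu_ne_zero B d j), ord_at_ctr B d _ j h1, neg_neg,
        ← exp_zero, exp_lt_exp]
      rcases j with a | b
      · change (0 : ℤ) < (a.1.2 : ℤ) + 1
        omega
      · change (0 : ℤ) < 1
        norm_num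
    · intro j hj j' hj' hne hv
      rw [Finset.mem_filter] at hj hj'
      have h1 : (pl β).1 ((RatFunc.X : RatFunc k) - RatFunc.C (ctr B d j)) < 1 := by
        rw [hj.2]; exact hpl β
      have h1' : (pl β).1 ((RatFunc.X : RatFunc k) - RatFunc.C (ctr B d j')) < 1 := by
        rw [hj'.2]; exact hpl β
      rw [Place.val_eq_exp_neg_ord _ (uu_ne_zero B d j), ord_at_ctr B d _ j h1,
        Place.val_eq_exp_neg_ord _ (uu_ne_zero B d j'), ord_at_ctr B d _ j' h1', exp_inj] at hv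
      exact hne (pol_inj B d (hj.2.trans hj'.2.symm) (by omega))
    · have hsplit := Finset.sum_filter_add_sum_filter_not Finset.univ (fun i => ctr B d i = β)
        (fun i => g i • uu B d i)
      rw [hg] at hsplit
      rw [eq_neg_of_add_eq_zero_left hsplit, Valuation.map_neg]
      apply Valuation.map_sum_le
      intro j hj
      rw [Finset.mem_filter] at hj
      exact hrest j hj.2
  have hsmul : ∀ (β : k) (i : I1 B d ⊕ I2 B), (pl β).1 (uu B d i) ≤ 1 →
      (pl β).1 (g i • uu B d i) ≤ 1 := by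
    intro β i h
    rw [Algebra.smul_def, map_mul]
    exact mul_le_one' (Place.val_k_le (pl β) (g i)) h
  have step1 : ∀ β : k, β ≠ 0 → ∀ i, ctr B d i = β → g i = 0 := by
    intro β hβ
    apply step β
    intro i hi
    exact hsmul β i (val_off_ctr B d (pl β) β (hpl β) i hi (Or.inl hβ)).le
  have step2 : ∀ i, ctr B d i = 0 → g i = 0 := by
    apply step 0
    intro i hi
    rcases i with a | b
    · exact hsmul 0 _ (val_off_ctr B d (pl 0) 0 (hpl 0) (Sum.inl a) hi (Or.inr rfl)).le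
    · rw [step1 _ hi (Sum.inr b) rfl, zero_smul, map_zero]
      exact zero_le_one
  intro i
  by_cases hi : ctr B d i = 0
  · exact step2 i hi
  · exact step1 _ hi i rfl

end LI

section Reg

variable {k : Type u} {K : Type v} [Field k] [IsAlgClosed k] [CharP k 2] [Field K] [Algebra k K]
  [Algebra (RatFunc k) K] [IsScalarTower k (RatFunc k) K]

theorem regular_fam (hK : IsFunctionField k K) (hdeg : Module.finrank (RatFunc k) K = 2)
    (y : K) (hy : y ∉ Set.range (algebraMap (RatFunc k) K)) (f : RatFunc k)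
    (heq : y ^ 2 + y = algebraMap (RatFunc k) K f)
    (B : Finset k) (h0 : (0 : k) ∈ B) (d : k → ℕ) (hd : ∀ β ∈ B, Odd (d β))
    (hpole : ∀ (p : FunFld.Place k (RatFunc k)) (β : k), β ∈ B →
      p.1 ((RatFunc.X : RatFunc k) - RatFunc.C β) < 1 → p.ord f = -(d β : ℤ))
    (hint : ∀ p : FunFld.Place k (RatFunc k),
      (∀ β ∈ B, 1 ≤ p.1 ((RatFunc.X : RatFunc k) - RatFunc.C β)) → p.1 f ≤ 1)
    (i : I1 B d ⊕ I2 B) (Q : Place k K)
    {F' : Type w} [Field F'] [Algebra k F'] (ψ : K →ₐ[k] LaurentSeries F')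
    (hψ : LocRes.IsExpansionAt Q.1 ψ) :
    LocRes.vDiff ψ (algebraMap (RatFunc k) K (uu B d i)) (algebraMap (RatFunc k) K RatFunc.X) ≤ 1 := by
  classical
  have h2 : ringChar k = 2 := ringChar.eq k 2
  have hfin : FiniteDimensional (RatFunc k) K :=
    Module.finite_of_finrank_pos (by rw [hdeg]; norm_num)
  have halg : Algebra.IsAlgebraic (RatFunc k) K := Algebra.IsAlgebraic.of_finite _ _
  have hgK : IsGeometric k K := isGeometric_of_perfect k K hK.2
  have h2E := two_eq_zero_ratFunc h2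
  have hsep : Algebra.IsSeparable (RatFunc k) K := isSeparable_AS h2E hdeg y hy f heq
  obtain ⟨p, e, he⟩ := exists_below' (K := RatFunc k) Q
  obtain ⟨hram1, hram2⟩ := ram_data hdeg y hy f heq B d hd hpole hint Q p e he
  obtain ⟨hd1, hd2, hd3⟩ := diff_data hK hdeg y hy f heq B d hd hpole hint Q p e he ψ hψ
  have hx' : LocRes.vDiff ψ 1 (algebraMap (RatFunc k) K RatFunc.X) ≠ 0 :=
    vDiff_ne_zero_gen (isFFw_of_isFunctionField hK) hgK hψ one_ne_zero D_algebraMap_X_ne_zero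
  have hu0' : algebraMap (RatFunc k) K (uu B d i) ≠ 0 :=
    (map_ne_zero_iff _ (algebraMap (RatFunc k) K).injective).mpr (uu_ne_zero B d i)
  rw [vDiff_le_one_iff Q hψ hu0' hx', ow_ord_eq he]
  by_cases hA : ∃ β ∈ B, p.1 ((RatFunc.X : RatFunc k) - RatFunc.C β) < 1
  · obtain ⟨β, hβ, h⟩ := hA
    obtain ⟨hee, -, -⟩ := hram1 β hβ h
    rw [hd1 β hβ h, hee]
    obtain ⟨m, hm⟩ := hd β hβ
    rcases i with a | b
    · change 0 ≤ ((2 : ℕ) : ℤ) * p.ord (u1 B d a) + _
      rw [ord_u1]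
      have ha := a.2
      by_cases hα : (a.1.1 : k) = β
      · rw [hα, ord_X_sub_C p h]
        rw [hα] at ha
        push_cast
        omega
      · rw [ord_X_sub_C_of_ne p h hα]
        push_cast
        omega
    · change 0 ≤ ((2 : ℕ) : ℤ) * p.ord (u2 B b) + _
      rw [ord_u2]
      by_cases h1 : (0 : k) = β
      · have hb : (b.1 : k) ≠ β := by rw [← h1]; exact b.2
        rw [ord_X_sub_C_of_ne p h hb, h1, ord_X_sub_C p h]
        push_cast
        omega
      · rw [ord_X_sub_C_of_ne p h h1]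
        by_cases hb : (b.1 : k) = β
        · rw [hb, ord_X_sub_C p h]
          push_cast
          omega
        · rw [ord_X_sub_C_of_ne p h hb]
          push_cast
          omega
  · push Not at hA
    by_cases hX : 1 < p.1 RatFunc.X
    · have hge : ∀ β ∈ B, 1 ≤ p.1 ((RatFunc.X : RatFunc k) - RatFunc.C β) := by
        intro β _
        rw [val_X_sub_C_infty p hX β]
        exact hX.le
      obtain ⟨hee, -⟩ := hram2 hge
      rw [hd2 hX, hee]
      rcases i with a | b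
      · change 0 ≤ ((1 : ℕ) : ℤ) * p.ord (u1 B d a) + _
        rw [ord_u1, ord_X_sub_C_infty p hX]
        have ha := a.2
        push_cast
        omega
      · change 0 ≤ ((1 : ℕ) : ℤ) * p.ord (u2 B b) + _
        rw [ord_u2, ord_X_sub_C_infty p hX, ord_X_sub_C_infty p hX]
        norm_num
    · push Not at hX
      obtain ⟨hee, -⟩ := hram2 hA
      rw [hd3 hX hA, hee]
      have ho : ∀ α ∈ B, p.ord ((RatFunc.X : RatFunc k) - RatFunc.C α) = 0 := by
        intro α hα
        unfold FunFld.Place.ord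
        rw [le_antisymm (val_X_sub_C_le p hX α) (hA α hα)]
        simp
      rcases i with a | b
      · change 0 ≤ ((1 : ℕ) : ℤ) * p.ord (u1 B d a) + _
        rw [ord_u1, ho _ a.1.1.2]
        simp
      · change 0 ≤ ((1 : ℕ) : ℤ) * p.ord (u2 B b) + _
        rw [ord_u2, ho _ h0, ho _ b.1.2]
        simp

theorem card_eq (hK : IsFunctionField k K) (hdeg : Module.finrank (RatFunc k) K = 2)
    (y : K) (hy : y ∉ Set.range (algebraMap (RatFunc k) K)) (f : RatFunc k)
    (heq : y ^ 2 + y = algebraMap (RatFunc k) K f)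
    (B : Finset k) (h0 : (0 : k) ∈ B) (d : k → ℕ) (hd : ∀ β ∈ B, Odd (d β))
    (hpole : ∀ (p : FunFld.Place k (RatFunc k)) (β : k), β ∈ B →
      p.1 ((RatFunc.X : RatFunc k) - RatFunc.C β) < 1 → p.ord f = -(d β : ℤ))
    (hint : ∀ p : FunFld.Place k (RatFunc k),
      (∀ β ∈ B, 1 ≤ p.1 ((RatFunc.X : RatFunc k) - RatFunc.C β)) → p.1 f ≤ 1)
    [DecidableEq k] :
    Fintype.card (I1 B d ⊕ I2 B) = genus k K := by
  have hg := genus_eq hK hdeg y hy f heq B d hd hpole hint
  have hpos : 1 ≤ B.card := Finset.card_pos.mpr ⟨0, h0⟩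
  have h1 : ∑ β ∈ B, (1 + (d β : ℤ)) / 2 = ((∑ β ∈ B, (d β - 1) / 2 : ℕ) : ℤ) + B.card := by
    rw [Finset.card_eq_sum_ones, Nat.cast_sum, Nat.cast_sum, ← Finset.sum_add_distrib]
    refine Finset.sum_congr rfl fun β hβ => ?_
    obtain ⟨m, hm⟩ := hd β hβ
    rw [hm]
    push_cast
    omega
  rw [Fintype.card_sum, card_I1, card_I2 B h0]
  have : ((∑ β ∈ B, (d β - 1) / 2 + (B.card - 1) : ℕ) : ℤ) = genus k K := by
    rw [hg, h1]
    push_cast
    omega
  exact_mod_cast this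

end Reg

theorem main (k : Type u) (K : Type v)
    [Field k] [IsAlgClosed k] [CharP k 2] [Field K] [Algebra k K] [Algebra (RatFunc k) K] [IsScalarTower k (RatFunc k) K]
    (hK : FunFld.IsFunctionField k K) (hdeg : Module.finrank (RatFunc k) K = 2)
    (y : K) (hy : y ∉ Set.range (algebraMap (RatFunc k) K)) (f : RatFunc k)
    (heq : y ^ 2 + y = algebraMap (RatFunc k) K f)
    (B : Finset k) (h0 : (0 : k) ∈ B) (d : k → ℕ) (hd : ∀ α ∈ B, Odd (d α))
    (hpole : ∀ (p : FunFld.Place k (RatFunc k)) (α : k), α ∈ B →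
      p.1 ((RatFunc.X : RatFunc k) - RatFunc.C α) < 1 → p.ord f = -(d α : ℤ))
    (hint : ∀ p : FunFld.Place k (RatFunc k), (∀ α ∈ B, 1 ≤ p.1 ((RatFunc.X : RatFunc k) - RatFunc.C α)) → p.1 f ≤ 1)
    (F : FunFld.Place k K → Type w) [∀ P, Field (F P)] [∀ P, Algebra k (F P)] [∀ P, FiniteDimensional k (F P)]
    (φ : ∀ P, K →ₐ[k] LaurentSeries (F P)) (hφ : ∀ P, LocRes.IsExpansionAt P.1 (φ P)) :
    (∀ i P, LocRes.vDiff (φ P) ((Sum.elim
        (fun a : {a : ↥B × ℕ // 1 ≤ a.2 ∧ 2 * a.2 + 1 ≤ d (a.1 : k)} => algebraMap (RatFunc k) K (((RatFunc.X : RatFunc k) - RatFunc.C (a.1.1 : k))⁻¹ ^ (a.1.2 + 1)))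
        (fun b : {b : ↥B // (b : k) ≠ 0} => algebraMap (RatFunc k) K (RatFunc.C (b.1 : k) / ((RatFunc.X : RatFunc k) * ((RatFunc.X : RatFunc k) - RatFunc.C (b.1 : k)))))) i) (algebraMap (RatFunc k) K RatFunc.X) ≤ 1) ∧
    LinearIndependent k (Sum.elim
        (fun a : {a : ↥B × ℕ // 1 ≤ a.2 ∧ 2 * a.2 + 1 ≤ d (a.1 : k)} => algebraMap (RatFunc k) K (((RatFunc.X : RatFunc k) - RatFunc.C (a.1.1 : k))⁻¹ ^ (a.1.2 + 1)))
        (fun b : {b : ↥B // (b : k) ≠ 0} => algebraMap (RatFunc k) K (RatFunc.C (b.1 : k) / ((RatFunc.X : RatFunc k) * ((RatFunc.X : RatFunc k) - RatFunc.C (b.1 : k)))))) ∧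
    ∀ z : K, (∀ P, LocRes.vDiff (φ P) z (algebraMap (RatFunc k) K RatFunc.X) ≤ 1) →
      z ∈ Submodule.span k (Set.range (Sum.elim
        (fun a : {a : ↥B × ℕ // 1 ≤ a.2 ∧ 2 * a.2 + 1 ≤ d (a.1 : k)} => algebraMap (RatFunc k) K (((RatFunc.X : RatFunc k) - RatFunc.C (a.1.1 : k))⁻¹ ^ (a.1.2 + 1)))
        (fun b : {b : ↥B // (b : k) ≠ 0} => algebraMap (RatFunc k) K (RatFunc.C (b.1 : k) / ((RatFunc.X : RatFunc k) * ((RatFunc.X : RatFunc k) - RatFunc.C (b.1 : k))))))) := by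
  classical
  have h2 : ringChar k = 2 := ringChar.eq k 2
  have hgK : IsGeometric k K := isGeometric_of_perfect k K hK.2
  have h2E := two_eq_zero_ratFunc h2
  have hsep : Algebra.IsSeparable (RatFunc k) K := isSeparable_AS h2E hdeg y hy f heq
  have hv : KaehlerDifferential.D k K (algebraMap (RatFunc k) K RatFunc.X) ≠ 0 :=
    D_algebraMap_X_ne_zero
  have hfam : (Sum.elim
        (fun a : {a : ↥B × ℕ // 1 ≤ a.2 ∧ 2 * a.2 + 1 ≤ d (a.1 : k)} => algebraMap (RatFunc k) K (((RatFunc.X : RatFunc k) - RatFunc.C (a.1.1 : k))⁻¹ ^ (a.1.2 + 1)))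
        (fun b : {b : ↥B // (b : k) ≠ 0} => algebraMap (RatFunc k) K (RatFunc.C (b.1 : k) / ((RatFunc.X : RatFunc k) * ((RatFunc.X : RatFunc k) - RatFunc.C (b.1 : k)))))) =
      fun i : I1 B d ⊕ I2 B => algebraMap (RatFunc k) K (uu B d i) := by
    funext i
    rcases i with a | b <;> rfl
  rw [hfam]
  have hreg : ∀ (i : I1 B d ⊕ I2 B) (P : Place k K),
      LocRes.vDiff (φ P) (algebraMap (RatFunc k) K (uu B d i)) (algebraMap (RatFunc k) K RatFunc.X) ≤ 1 :=
    fun i P => regular_fam hK hdeg y hy f heq B h0 d hd hpole hint i P (φ P) (hφ P)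
  have hli : LinearIndependent k (fun i : I1 B d ⊕ I2 B => algebraMap (RatFunc k) K (uu B d i)) := by
    have h3 := (li_uu B d).map' ((Algebra.linearMap (RatFunc k) K).restrictScalars k)
      (LinearMap.ker_eq_bot.mpr (algebraMap (RatFunc k) K).injective)
    exact h3
  refine ⟨hreg, hli, ?_⟩
  intro z hz
  exact regular_span hK hgK hφ hv _ hreg hli
    (card_eq hK hdeg y hy f heq B h0 d hd hpole hint) z hz

end Aux

/-- Let `k` be algebraically closed of characteristic `2` and `K = k(x, y)` with `y² + y = f(x)`, `K`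
separable of degree `2` over `k(x)`; let `B ⊆ k` be a finite set containing `0` such that `f` has a
pole of odd order `d_α` at `x = α` for every `α ∈ B` and is integral at all other places of `k(x)`
(so also at infinity), and put `c_α = (d_α - 1)/2`. Then the differentials `z dx` with `z = (x -
α)^{-(j+1)}` (`α ∈ B`, `1 ≤ j ≤ c_α`) and `z = α/(x(x-α))` (`α ∈ B`, `α ≠ 0`) are regular, this
family of `z` is linearly independent over `k`, and every `z` with `z dx` regular is a `k`-linear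
combination of them; regularity is read through Laurent expansions over `k` at every place of `K`.
(Up to sign these are the forms `x_α^{j-1} dx_α` and `x_α^{-1} dx_α - x_0^{-1} dx_0` with `x_α = (x
- α)^{-1}`.) -/
theorem result (k : Type u) (K : Type v)
    [Field k] [IsAlgClosed k] [CharP k 2] [Field K] [Algebra k K] [Algebra (RatFunc k) K] [IsScalarTower k (RatFunc k) K]
    (hK : FunFld.IsFunctionField k K) (hdeg : Module.finrank (RatFunc k) K = 2) [Algebra.IsSeparable (RatFunc k) K]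
    (y : K) (hy : y ∉ Set.range (algebraMap (RatFunc k) K)) (f : RatFunc k)
    (heq : y ^ 2 + y = algebraMap (RatFunc k) K f)
    (B : Finset k) (h0 : (0 : k) ∈ B) (d : k → ℕ) (hd : ∀ α ∈ B, Odd (d α))
    (hpole : ∀ (p : FunFld.Place k (RatFunc k)) (α : k), α ∈ B →
      p.1 ((RatFunc.X : RatFunc k) - RatFunc.C α) < 1 → p.ord f = -(d α : ℤ))
    (hint : ∀ p : FunFld.Place k (RatFunc k), (∀ α ∈ B, 1 ≤ p.1 ((RatFunc.X : RatFunc k) - RatFunc.C α)) → p.1 f ≤ 1)
    (F : FunFld.Place k K → Type w) [∀ P, Field (F P)] [∀ P, Algebra k (F P)] [∀ P, FiniteDimensional k (F P)]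
    (φ : ∀ P, K →ₐ[k] LaurentSeries (F P)) (hφ : ∀ P, LocRes.IsExpansionAt P.1 (φ P)) :
    (∀ i P, LocRes.vDiff (φ P) ((Sum.elim
        (fun a : {a : ↥B × ℕ // 1 ≤ a.2 ∧ 2 * a.2 + 1 ≤ d (a.1 : k)} => algebraMap (RatFunc k) K (((RatFunc.X : RatFunc k) - RatFunc.C (a.1.1 : k))⁻¹ ^ (a.1.2 + 1)))
        (fun b : {b : ↥B // (b : k) ≠ 0} => algebraMap (RatFunc k) K (RatFunc.C (b.1 : k) / ((RatFunc.X : RatFunc k) * ((RatFunc.X : RatFunc k) - RatFunc.C (b.1 : k)))))) i) (algebraMap (RatFunc k) K RatFunc.X) ≤ 1) ∧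
    LinearIndependent k (Sum.elim
        (fun a : {a : ↥B × ℕ // 1 ≤ a.2 ∧ 2 * a.2 + 1 ≤ d (a.1 : k)} => algebraMap (RatFunc k) K (((RatFunc.X : RatFunc k) - RatFunc.C (a.1.1 : k))⁻¹ ^ (a.1.2 + 1)))
        (fun b : {b : ↥B // (b : k) ≠ 0} => algebraMap (RatFunc k) K (RatFunc.C (b.1 : k) / ((RatFunc.X : RatFunc k) * ((RatFunc.X : RatFunc k) - RatFunc.C (b.1 : k)))))) ∧
    ∀ z : K, (∀ P, LocRes.vDiff (φ P) z (algebraMap (RatFunc k) K RatFunc.X) ≤ 1) →
      z ∈ Submodule.span k (Set.range (Sum.elim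
        (fun a : {a : ↥B × ℕ // 1 ≤ a.2 ∧ 2 * a.2 + 1 ≤ d (a.1 : k)} => algebraMap (RatFunc k) K (((RatFunc.X : RatFunc k) - RatFunc.C (a.1.1 : k))⁻¹ ^ (a.1.2 + 1)))
        (fun b : {b : ↥B // (b : k) ≠ 0} => algebraMap (RatFunc k) K (RatFunc.C (b.1 : k) / ((RatFunc.X : RatFunc k) * ((RatFunc.X : RatFunc k) - RatFunc.C (b.1 : k))))))) := by
  exact Aux.main k K hK hdeg y hy f heq B h0 d hd hpole hint F φ hφ

end Groth.Agent.S19044
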