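import Groth.Statements.S19045
import Mathlib
import Groth.Prelude.Def_W4bk4goldsch23Ext
import Groth.Prelude.Def_LocRes
import Groth.Agent.Lib.Helper9.FFExt.ASB
import Groth.Agent.Lib.Helper9.FFExt.Conorm
import Groth.Agent.Lib.Helper9.FFExt.DiffExp2
-- import your own Groth.Agent.* helpers here

set_option autoImplicit false
universe u v
open FunFld

namespace Groth.Agent.S19045

namespace Aux

open FunFld WithZero Polynomial IntermediateField
open Groth.Agent.Lib.Helper4.FF Groth.Agent.Helper9.FFExt Groth.Agent.Helper9.Tate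
open Groth.Agent.Helper9.AS2 Groth.Agent.Helper9.ASB

section Norm

variable {E K : Type*} [Field E] [Field K] [Algebra E K]

theorem adjoin_eq_top_AS (hdeg : Module.finrank E K = 2) (y : K)
    (hy : y ∉ Set.range (algebraMap E K)) : E⟮y⟯ = ⊤ := by
  have hfin : FiniteDimensional E K := Module.finite_of_finrank_pos (by rw [hdeg]; norm_num)
  have h1 : Module.finrank E E⟮y⟯ ∣ 2 := by
    rw [← hdeg]
    exact IntermediateField.finrank_dvd_of_le_right le_top |>.trans (by
      rw [IntermediateField.finrank_top'])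
  have h3 : Module.finrank E E⟮y⟯ ≠ 1 := by
    rw [Ne, IntermediateField.finrank_adjoin_simple_eq_one_iff, IntermediateField.mem_bot]
    exact hy
  have h4 : Module.finrank E E⟮y⟯ = 2 := by
    rcases (Nat.dvd_prime Nat.prime_two).mp h1 with h | h
    · exact absurd h h3
    · exact h
  apply IntermediateField.eq_of_le_of_finrank_eq le_top
  rw [h4, IntermediateField.finrank_top', hdeg]

/-- the norm of an Artin–Schreier generator -/
theorem norm_AS (h2 : (2 : E) = 0) (hdeg : Module.finrank E K = 2) (y : K)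
    (hy : y ∉ Set.range (algebraMap E K)) (f : E) (heq : y ^ 2 + y = algebraMap E K f) :
    Algebra.norm E y = f := by
  have hfin : FiniteDimensional E K := Module.finite_of_finrank_pos (by rw [hdeg]; norm_num)
  set g : E[X] := X ^ 2 + X - C f with hg
  have hgm : g.Monic := by
    rw [hg]
    monicity!
  have hgdeg : g.natDegree = 2 := by
    rw [hg]
    compute_degree!
  have hroot : aeval y g = 0 := by
    rw [hg]
    simp only [map_sub, map_add, map_pow, aeval_X, aeval_C]
    rw [heq, sub_self]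
  have hyint : IsIntegral E y := ⟨g, hgm, hroot⟩
  have hmin2 : 2 ≤ (minpoly E y).natDegree := (minpoly.two_le_natDegree_iff hyint).mpr hy
  have hdvd : minpoly E y ∣ g := minpoly.dvd _ _ hroot
  have hmeq : minpoly E y = g :=
    (Polynomial.eq_of_monic_of_dvd_of_natDegree_le (minpoly.monic hyint) hgm hdvd (by
      rw [hgdeg]; exact hmin2)).symm
  have hc0 : g.coeff 0 = -f := by
    rw [hg]
    simp
  rw [norm_eq_coeff_zero_pow (K := E) y, hmeq, hgdeg, hc0, adjoin_eq_top_AS hdeg y hy,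
    IntermediateField.finrank_top, pow_one]
  have : f + f = 0 := by rw [← two_mul, h2, zero_mul]
  linear_combination (-1 : E) * this

end Norm

section Main

variable {k : Type u} {K : Type v} [Field k] [Field K] [Algebra k K]
  [Algebra (RatFunc k) K] [IsScalarTower k (RatFunc k) K]

theorem algebraMap_sub_C (α : k) : algebraMap (RatFunc k) K RatFunc.X - algebraMap k K α =
    algebraMap (RatFunc k) K ((RatFunc.X : RatFunc k) - RatFunc.C α) := by
  rw [map_sub, ← RatFunc.algebraMap_eq_C, ← IsScalarTower.algebraMap_apply]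

end Main

theorem main (k : Type u) (K : Type v)
    [Field k] [IsAlgClosed k] [CharP k 2] [Field K] [Algebra k K] [Algebra (RatFunc k) K] [IsScalarTower k (RatFunc k) K]
    (hK : FunFld.IsFunctionField k K) (hdeg : Module.finrank (RatFunc k) K = 2) [Algebra.IsSeparable (RatFunc k) K]
    (y : K) (hy : y ∉ Set.range (algebraMap (RatFunc k) K)) (f : RatFunc k)
    (heq : y ^ 2 + y = algebraMap (RatFunc k) K f)
    (B : Finset k) (h0 : (0 : k) ∈ B) (d : k → ℕ) (hd : ∀ β ∈ B, Odd (d β))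
    (hpole : ∀ (p : FunFld.Place k (RatFunc k)) (β : k), β ∈ B →
      p.1 ((RatFunc.X : RatFunc k) - RatFunc.C β) < 1 → p.ord f = -(d β : ℤ))
    (hint : ∀ p : FunFld.Place k (RatFunc k), (∀ β ∈ B, 1 ≤ p.1 ((RatFunc.X : RatFunc k) - RatFunc.C β)) → p.1 f ≤ 1) :
    (∀ P : FunFld.Place k K, 1 < P.1 (algebraMap (RatFunc k) K RatFunc.X) → 0 ≤ P.ord y) ∧
    (∃ P : FunFld.Place k K, 1 < P.1 (algebraMap (RatFunc k) K RatFunc.X) ∧ P.ord y = 0) ∧
    ∀ (α : k), α ∈ B → ∀ (j : ℤ) (P : FunFld.Place k K),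
      (P.1 ((algebraMap (RatFunc k) K RatFunc.X) - (algebraMap k K α)) < 1 →
        max (-(P.ord (y * ((algebraMap (RatFunc k) K RatFunc.X) - (algebraMap k K α)) ^ j))) 0 = max ((d α : ℤ) - 2 * j) 0) ∧
      (∀ β : k, β ∈ B → β ≠ α → P.1 ((algebraMap (RatFunc k) K RatFunc.X) - (algebraMap k K β)) < 1 →
        P.ord (y * ((algebraMap (RatFunc k) K RatFunc.X) - (algebraMap k K α)) ^ j) = -(d β : ℤ)) ∧
      (1 < P.1 (algebraMap (RatFunc k) K RatFunc.X) → max (-(P.ord (y * ((algebraMap (RatFunc k) K RatFunc.X) - (algebraMap k K α)) ^ j))) 0 = max (j - P.ord y) 0) ∧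
      (P.1 (algebraMap (RatFunc k) K RatFunc.X) ≤ 1 → (∀ β : k, β ∈ B → 1 ≤ P.1 ((algebraMap (RatFunc k) K RatFunc.X) - (algebraMap k K β))) → 0 ≤ P.ord (y * ((algebraMap (RatFunc k) K RatFunc.X) - (algebraMap k K α)) ^ j)) := by
  classical
  have h2 : ringChar k = 2 := ringChar.eq k 2
  have h2E := two_eq_zero_ratFunc h2
  have hfin : FiniteDimensional (RatFunc k) K :=
    Module.finite_of_finrank_pos (by rw [hdeg]; norm_num)
  have halg : Algebra.IsAlgebraic (RatFunc k) K := Algebra.IsAlgebraic.of_finite _ _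
  have hE : IsFunctionField k (RatFunc k) := isFunctionField_ratFunc
  have hy0 : y ≠ 0 := fun h => hy ⟨0, by rw [map_zero, h]⟩
  have part1 : ∀ P : FunFld.Place k K, 1 < P.1 (algebraMap (RatFunc k) K RatFunc.X) → 0 ≤ P.ord y := by
    intro P hP
    obtain ⟨p, e, he⟩ := exists_below' (K := RatFunc k) P
    have hX : 1 < p.1 RatFunc.X := (ow_one_lt_iff he _).mp hP
    have hge : ∀ β ∈ B, 1 ≤ p.1 ((RatFunc.X : RatFunc k) - RatFunc.C β) := fun β _ => by
      rw [val_X_sub_C_infty p hX β]; exact hX.le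
    exact (Place.ord_nonneg_iff P hy0).mpr ((ram_data hdeg y hy f heq B d hd hpole hint P p e he).2 hge).2
  refine ⟨part1, ?_, ?_⟩
  · by_contra hno
    push Not at hno
    obtain ⟨Pinf, hdinf, hXinf, huniq⟩ := exists_infty (k := k)
    obtain ⟨Qs, hQs⟩ : ∃ Qs : Finset (Place k K), ∀ Q, Q ∈ Qs ↔ IsOver Q Pinf :=
      ⟨(finite_over (K' := K) hE Pinf).toFinset, fun Q => by rw [Set.Finite.mem_toFinset]; rfl⟩
    obtain ⟨Q₀, hQ₀⟩ := exists_over (K' := K) hE Pinf
    have hpos : ∀ Q ∈ Qs, 0 < Q.ord y := by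
      intro Q hQ
      obtain ⟨e, he⟩ := (hQs Q).mp hQ
      have h1 : 1 < Q.1 (algebraMap (RatFunc k) K RatFunc.X) := (ow_one_lt_iff he _).mpr hXinf
      have h3 := part1 Q h1
      have h4 := hno Q h1
      omega
    have hzero : ∀ Q ∈ Qs, Q.ord (y + 1) = 0 := by
      intro Q hQ
      have h1 : Q.1 y < 1 := (Place.ord_pos_iff Q hy0).mp (hpos Q hQ)
      unfold FunFld.Place.ord
      rw [Valuation.map_add_eq_of_lt_right Q.1 (by rw [map_one]; exact h1), map_one]
      simp
    have h2K : (2 : K) = 0 := by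
      have := congrArg (algebraMap (RatFunc k) K) h2E
      rwa [map_ofNat, map_zero] at this
    have hy1 : y + 1 ∉ Set.range (algebraMap (RatFunc k) K) := by
      rintro ⟨a, ha⟩
      exact hy ⟨a - 1, by rw [map_sub, map_one, ha]; ring⟩
    have heq1 : (y + 1) ^ 2 + (y + 1) = algebraMap (RatFunc k) K f := by
      rw [← heq]
      linear_combination (y + 1) * h2K
    have hN1 := ord_norm (isFFw_of_isFunctionField hE) Pinf y Qs hQs
    have hN2 := ord_norm (isFFw_of_isFunctionField hE) Pinf (y + 1) Qs hQs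
    rw [norm_AS h2E hdeg y hy f heq] at hN1
    rw [norm_AS h2E hdeg (y + 1) hy1 f heq1] at hN2
    have h5 : ∑ Q ∈ Qs, (Q.deg : ℤ) * Q.ord (y + 1) = 0 :=
      Finset.sum_eq_zero (fun Q hQ => by rw [hzero Q hQ, mul_zero])
    have h6 : 0 < ∑ Q ∈ Qs, (Q.deg : ℤ) * Q.ord y :=
      Finset.sum_pos (fun Q hQ => mul_pos (by exact_mod_cast Place.deg_pos hK Q) (hpos Q hQ))
        ⟨Q₀, (hQs Q₀).mpr hQ₀⟩
    linarith
  · intro α hα j P
    obtain ⟨p, e, he⟩ := exists_below' (K := RatFunc k) P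
    obtain ⟨hram1, hram2⟩ := ram_data hdeg y hy f heq B d hd hpole hint P p e he
    have ht0 : algebraMap (RatFunc k) K ((RatFunc.X : RatFunc k) - RatFunc.C α) ≠ 0 :=
      (map_ne_zero_iff _ (algebraMap (RatFunc k) K).injective).mpr (X_sub_C_ne_zero α)
    have hord : P.ord (y * (algebraMap (RatFunc k) K RatFunc.X - algebraMap k K α) ^ j) =
        P.ord y + j * ((e : ℤ) * p.ord ((RatFunc.X : RatFunc k) - RatFunc.C α)) := by
      rw [algebraMap_sub_C, Place.ord_mul P hy0 (zpow_ne_zero _ ht0), Place.ord_zpow, ow_ord_eq he]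
    have hconv : ∀ β : k, P.1 (algebraMap (RatFunc k) K RatFunc.X - algebraMap k K β) < 1 ↔
        p.1 ((RatFunc.X : RatFunc k) - RatFunc.C β) < 1 := by
      intro β
      rw [algebraMap_sub_C, ow_lt_one_iff he]
    refine ⟨fun hP => ?_, fun β hβ hne hP => ?_, fun hP => ?_, fun hP hB => ?_⟩
    · have h := (hconv α).mp hP
      obtain ⟨hee, hoy, -⟩ := hram1 α hα h
      rw [hord, hee, hoy, ord_X_sub_C p h]
      congr 1
      push_cast
      ring
    · have h := (hconv β).mp hP
      obtain ⟨hee, hoy, -⟩ := hram1 β hβ h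
      rw [hord, hee, hoy, ord_X_sub_C_of_ne p h hne.symm]
      ring
    · have hX : 1 < p.1 RatFunc.X := (ow_one_lt_iff he _).mp hP
      have hge : ∀ β ∈ B, 1 ≤ p.1 ((RatFunc.X : RatFunc k) - RatFunc.C β) := fun β _ => by
        rw [val_X_sub_C_infty p hX β]; exact hX.le
      obtain ⟨hee, -⟩ := hram2 hge
      rw [hord, hee, ord_X_sub_C_infty p hX]
      congr 1
      push_cast
      ring
    · have hX : p.1 RatFunc.X ≤ 1 := (ow_le_one_iff he _).mp hP
      have hge : ∀ β ∈ B, 1 ≤ p.1 ((RatFunc.X : RatFunc k) - RatFunc.C β) := by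
        intro β hβ
        have := hB β hβ
        rw [← not_lt] at this ⊢
        rwa [hconv β] at this
      obtain ⟨hee, hy1⟩ := hram2 hge
      have ho : p.ord ((RatFunc.X : RatFunc k) - RatFunc.C α) = 0 := by
        unfold FunFld.Place.ord
        rw [le_antisymm (val_X_sub_C_le p hX α) (hge α hα)]
        simp
      rw [hord, ho, mul_zero, mul_zero, add_zero]
      exact (Place.ord_nonneg_iff P hy0).mpr hy1

end Aux

/-- Let `k` be algebraically closed of characteristic `2` and `K = k(x, y)` with `y² + y = f(x)`, `K`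
separable of degree `2` over `k(x)`; let `B ⊆ k` be a finite set containing `0` such that `f` has a
pole of odd order `d_β` at `x = β` for every `β ∈ B` and is integral at all other places of `k(x)`.
Then `y` is integral at the places of `K` above `x = ∞` and has order `0` at one of them, and for `α
∈ B` and `j ∈ ℤ` the divisor of poles of `y (x - α)^j` consists of: order `max(d_α - 2j, 0)` at the
place above `α`, order exactly `d_β` above every other `β ∈ B`, order `max(j - ord_P y, 0)` at each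
place `P` above `∞`, and nothing elsewhere. -/
theorem result (k : Type u) (K : Type v)
    [Field k] [IsAlgClosed k] [CharP k 2] [Field K] [Algebra k K] [Algebra (RatFunc k) K] [IsScalarTower k (RatFunc k) K]
    (hK : FunFld.IsFunctionField k K) (hdeg : Module.finrank (RatFunc k) K = 2) [Algebra.IsSeparable (RatFunc k) K]
    (y : K) (hy : y ∉ Set.range (algebraMap (RatFunc k) K)) (f : RatFunc k)
    (heq : y ^ 2 + y = algebraMap (RatFunc k) K f)
    (B : Finset k) (h0 : (0 : k) ∈ B) (d : k → ℕ) (hd : ∀ β ∈ B, Odd (d β))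
    (hpole : ∀ (p : FunFld.Place k (RatFunc k)) (β : k), β ∈ B →
      p.1 ((RatFunc.X : RatFunc k) - RatFunc.C β) < 1 → p.ord f = -(d β : ℤ))
    (hint : ∀ p : FunFld.Place k (RatFunc k), (∀ β ∈ B, 1 ≤ p.1 ((RatFunc.X : RatFunc k) - RatFunc.C β)) → p.1 f ≤ 1) :
    (∀ P : FunFld.Place k K, 1 < P.1 (algebraMap (RatFunc k) K RatFunc.X) → 0 ≤ P.ord y) ∧
    (∃ P : FunFld.Place k K, 1 < P.1 (algebraMap (RatFunc k) K RatFunc.X) ∧ P.ord y = 0) ∧
    ∀ (α : k), α ∈ B → ∀ (j : ℤ) (P : FunFld.Place k K),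
      (P.1 ((algebraMap (RatFunc k) K RatFunc.X) - (algebraMap k K α)) < 1 →
        max (-(P.ord (y * ((algebraMap (RatFunc k) K RatFunc.X) - (algebraMap k K α)) ^ j))) 0 = max ((d α : ℤ) - 2 * j) 0) ∧
      (∀ β : k, β ∈ B → β ≠ α → P.1 ((algebraMap (RatFunc k) K RatFunc.X) - (algebraMap k K β)) < 1 →
        P.ord (y * ((algebraMap (RatFunc k) K RatFunc.X) - (algebraMap k K α)) ^ j) = -(d β : ℤ)) ∧
      (1 < P.1 (algebraMap (RatFunc k) K RatFunc.X) → max (-(P.ord (y * ((algebraMap (RatFunc k) K RatFunc.X) - (algebraMap k K α)) ^ j))) 0 = max (j - P.ord y) 0) ∧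
      (P.1 (algebraMap (RatFunc k) K RatFunc.X) ≤ 1 → (∀ β : k, β ∈ B → 1 ≤ P.1 ((algebraMap (RatFunc k) K RatFunc.X) - (algebraMap k K β))) → 0 ≤ P.ord (y * ((algebraMap (RatFunc k) K RatFunc.X) - (algebraMap k K α)) ^ j)) := by
  exact Aux.main k K hK hdeg y hy f heq B h0 d hd hpole hint

end Groth.Agent.S19045
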