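import Groth.Statements.S19046
import Mathlib
import Groth.Prelude.Def_W4bk4goldsch23Ext
import Groth.Prelude.Def_LocRes
import Groth.Agent.Lib.Helper9.FFExt.ASB
import Groth.Agent.Lib.Helper9.FFExt.RatPP
import Groth.Agent.Lib.Helper9.FFExt.TraceInt
import Groth.Agent.Lib.Helper4.FF.Adele
-- import your own Groth.Agent.* helpers here

set_option autoImplicit false
universe u v
open Classical
open FunFld

namespace Groth.Agent.S19046

open Classical
namespace Aux

open FunFld WithZero Polynomial IntermediateField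
open Groth.Agent.Lib.Helper4.FF Groth.Agent.Helper9.FFExt Groth.Agent.Helper9.Tate
open Groth.Agent.Helper9.AS2 Groth.Agent.Helper9.ASB

section Index

variable {k : Type u} [Field k] (B : Finset k) (d : k → ℕ)

abbrev I1 := {a : ↥B × ℕ // 1 ≤ a.2 ∧ 2 * a.2 + 1 ≤ d (a.1 : k)}
abbrev I2 := {b : ↥B // (b : k) ≠ 0}

def e1 : I1 B d ≃ Σ β : ↥B, Fin ((d (β : k) - 1) / 2) where
  toFun a := ⟨a.1.1, ⟨a.1.2 - 1, by have := a.2; omega⟩⟩
  invFun s := ⟨(s.1, s.2.1 + 1), by have := s.2.2; simp only; omega⟩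
  left_inv a := by
    apply Subtype.ext
    apply Prod.ext
    · rfl
    · have := a.2
      simp only
      omega
  right_inv s := by
    rcases s with ⟨β, i, hi⟩
    simp

noncomputable instance : Fintype (I1 B d) := Fintype.ofEquiv _ (e1 B d).symm

omit [Field k] in
theorem card_I1 : Fintype.card (I1 B d) = ∑ β ∈ B, (d β - 1) / 2 := by
  rw [Fintype.card_congr (e1 B d), Fintype.card_sigma]
  simp only [Fintype.card_fin]
  exact Finset.sum_coe_sort B (fun β => (d β - 1) / 2)

theorem card_I2 (h0 : (0 : k) ∈ B) : Fintype.card (I2 B) = B.card - 1 := by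
  have h1 : Fintype.card (I2 B) = Fintype.card {b : ↥B // b ≠ ⟨0, h0⟩} := by
    apply Fintype.card_congr
    refine Equiv.subtypeEquivRight fun b => ?_
    rw [Ne, Ne, Subtype.ext_iff]
  rw [h1, Fintype.card_subtype_compl, Fintype.card_coe]
  simp

def ctr : I1 B d ⊕ I2 B → k := Sum.elim (fun a => (a.1.1 : k)) (fun b => (b.1 : k))

def pw : I1 B d ⊕ I2 B → ℕ := Sum.elim (fun a => a.1.2) (fun _ => 0)

theorem ctr_mem (i : I1 B d ⊕ I2 B) : ctr B d i ∈ B := by
  rcases i with a | b
  · exact a.1.1.2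
  · exact b.1.2

theorem pw_inj {i j : I1 B d ⊕ I2 B} (hc : ctr B d i = ctr B d j) (hp : pw B d i = pw B d j) :
    i = j := by
  rcases i with a | b <;> rcases j with a' | b'
  · congr 1
    apply Subtype.ext
    apply Prod.ext
    · exact Subtype.ext hc
    · exact hp
  · exfalso
    have : a.1.2 = 0 := hp
    have := a.2.1
    omega
  · exfalso
    have : 0 = a'.1.2 := hp
    have := a'.2.1
    omega
  · congr 1
    exact Subtype.ext (Subtype.ext hc)

theorem pw_le (i : I1 B d ⊕ I2 B) : 2 * pw B d i + 1 ≤ d (ctr B d i) ∨ pw B d i = 0 := by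
  rcases i with a | b
  · exact Or.inl a.2.2
  · exact Or.inr rfl

end Index

section Fam

variable {k : Type u} {K : Type v} [Field k] [Field K] [Algebra k K]
  [Algebra (RatFunc k) K] [IsScalarTower k (RatFunc k) K] (B : Finset k) (d : k → ℕ)

theorem algebraMap_sub_C (α : k) : algebraMap (RatFunc k) K RatFunc.X - algebraMap k K α =
    algebraMap (RatFunc k) K ((RatFunc.X : RatFunc k) - RatFunc.C α) := by
  rw [map_sub, ← RatFunc.algebraMap_eq_C, ← IsScalarTower.algebraMap_apply]

/-- the value of the `i`-th repartition at its place -/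
noncomputable def valA (y : K) (i : I1 B d ⊕ I2 B) : K :=
  y * algebraMap (RatFunc k) K (((RatFunc.X : RatFunc k) - RatFunc.C (ctr B d i)) ^ pw B d i)

theorem famA_eq (y : K) (Pl : k → Place k K) :
    (Sum.elim
        (fun a : {a : ↥B × ℕ // 1 ≤ a.2 ∧ 2 * a.2 + 1 ≤ d (a.1 : k)} =>
          (Pi.single (Pl (a.1.1 : k)) (y * ((algebraMap (RatFunc k) K RatFunc.X) - (algebraMap k K (a.1.1 : k))) ^ a.1.2) : FunFld.Place k K → K))
        (fun b : {b : ↥B // (b : k) ≠ 0} => (Pi.single (Pl (b.1 : k)) y : FunFld.Place k K → K))) =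
      fun i : I1 B d ⊕ I2 B => (Pi.single (Pl (ctr B d i)) (valA B d y i) : Place k K → K) := by
  funext i
  rcases i with a | b
  · change Pi.single (Pl (a.1.1 : k)) _ = Pi.single (Pl (a.1.1 : k)) _
    congr 1
    unfold valA
    rw [map_pow, ← algebraMap_sub_C]
    rfl
  · change Pi.single (Pl (b.1 : k)) _ = Pi.single (Pl (b.1 : k)) _
    congr 1
    unfold valA
    change y = y * algebraMap (RatFunc k) K (_ ^ 0)
    rw [pow_zero, map_one, mul_one]

omit [Algebra (RatFunc k) K] [IsScalarTower k (RatFunc k) K] in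
theorem single_mem_adele (P : Place k K) (z : K) :
    (Pi.single P z : Place k K → K) ∈ adele k K := by
  change ∀ᶠ Q : Place k K in Filter.cofinite, Q.1 ((Pi.single P z : Place k K → K) Q) ≤ 1
  rw [Filter.eventually_cofinite]
  refine (Set.finite_singleton P).subset ?_
  intro Q hQ
  rw [Set.mem_setOf_eq] at hQ
  by_contra hne
  apply hQ
  rw [Pi.single_eq_of_ne hne, map_zero]
  exact zero_le_one

theorem Pl_inj (Pl : k → Place k K)
    (hPl : ∀ β ∈ B, (Pl β).1 ((algebraMap (RatFunc k) K RatFunc.X) - (algebraMap k K β)) < 1)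
    {α β : k} (hα : α ∈ B) (hβ : β ∈ B) (h : Pl α = Pl β) : α = β := by
  by_contra hne
  have h1 := hPl α hα
  have h2 := hPl β hβ
  rw [← h] at h2
  have h3 : algebraMap k K (α - β) = (algebraMap (RatFunc k) K RatFunc.X - algebraMap k K β) -
      (algebraMap (RatFunc k) K RatFunc.X - algebraMap k K α) := by
    rw [map_sub]; ring
  have h4 : (Pl α).1 (algebraMap k K (α - β)) < 1 := by
    rw [h3]
    exact lt_of_le_of_lt ((Pl α).1.map_sub _ _) (max_lt h2 h1)
  rw [Place.val_k (Pl α) (sub_ne_zero.mpr hne)] at h4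
  exact lt_irrefl _ h4

end Fam

section Poly

variable {k : Type u} [Field k]

/-- a polynomial in `t = x - α` of degree `≤ m` vanishing to order `> m` at `x = α` is zero -/
theorem polyLemma (p : Place k (RatFunc k)) {α : k}
    (hp : p.1 ((RatFunc.X : RatFunc k) - RatFunc.C α) < 1) {J : Type*} (s : Finset J) (ex : J → ℕ)
    (c : J → k) (m : ℕ) (hex : ∀ j ∈ s, ex j ≤ m)
    (hinj : ∀ i ∈ s, ∀ j ∈ s, ex i = ex j → i = j)
    (hval : p.1 (∑ j ∈ s, c j • ((RatFunc.X : RatFunc k) - RatFunc.C α) ^ ex j) ≤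
      exp (-((m : ℤ) + 1))) : ∀ j ∈ s, c j = 0 := by
  set t : RatFunc k := (RatFunc.X : RatFunc k) - RatFunc.C α with ht
  have ht0 : t ≠ 0 := X_sub_C_ne_zero α
  have hvt : p.1 t = exp (-1 : ℤ) := by
    rw [Place.val_eq_exp_neg_ord p ht0, ord_X_sub_C p hp]
  have hvu : ∀ j, p.1 (t ^ ex j * t⁻¹ ^ (m + 1)) = exp ((m : ℤ) + 1 - ex j) := by
    intro j
    rw [map_mul, map_pow, map_pow, map_inv₀, hvt, ← exp_neg, neg_neg, ← exp_nsmul, ← exp_nsmul,
      ← exp_add]
    congr 1
    simp
    ring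
  refine coeff_eq_zero_of_distinct_val p.1 (fun c hc => Place.val_k p hc) s
    (fun j => t ^ ex j * t⁻¹ ^ (m + 1)) ?_ ?_ c ?_
  · intro j hj
    rw [hvu, ← exp_zero, exp_lt_exp]
    have := hex j hj
    omega
  · intro i hi j hj hne hv
    rw [hvu, hvu, exp_inj] at hv
    exact hne (hinj i hi j hj (by omega))
  · have : ∑ j ∈ s, c j • (t ^ ex j * t⁻¹ ^ (m + 1)) = (∑ j ∈ s, c j • t ^ ex j) * t⁻¹ ^ (m + 1) := by
      rw [Finset.sum_mul]
      refine Finset.sum_congr rfl fun j _ => ?_
      rw [smul_mul_assoc]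
    rw [this, map_mul, map_pow, map_inv₀, hvt, ← exp_neg, neg_neg, ← exp_nsmul]
    calc p.1 (∑ j ∈ s, c j • t ^ ex j) * exp ((m + 1) • (1 : ℤ))
        ≤ exp (-((m : ℤ) + 1)) * exp ((m + 1) • (1 : ℤ)) := mul_le_mul' hval le_rfl
      _ = 1 := by
          rw [← exp_add, ← exp_zero]
          congr 1
          simp

end Poly

section Trace

variable {E K : Type*} [Field E] [Field K] [Algebra E K]

theorem adjoin_eq_top_AS (hdeg : Module.finrank E K = 2) (y : K)
    (hy : y ∉ Set.range (algebraMap E K)) : E⟮y⟯ = ⊤ := by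
  have hfin : FiniteDimensional E K := Module.finite_of_finrank_pos (by rw [hdeg]; norm_num)
  have h1 : Module.finrank E E⟮y⟯ ∣ 2 := by
    rw [← hdeg]
    exact IntermediateField.finrank_dvd_of_le_right le_top |>.trans (by
      rw [IntermediateField.finrank_top'])
  have h3 : Module.finrank E E⟮y⟯ ≠ 1 := by
    rw [Ne, IntermediateField.finrank_adjoin_simple_eq_one_iff, IntermediateField.mem_bot]
    exact hy
  have h4 : Module.finrank E E⟮y⟯ = 2 := by
    rcases (Nat.dvd_prime Nat.prime_two).mp h1 with h | h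
    · exact absurd h h3
    · exact h
  apply IntermediateField.eq_of_le_of_finrank_eq le_top
  rw [h4, IntermediateField.finrank_top', hdeg]

/-- the trace of an Artin–Schreier generator -/
theorem trace_AS (h2 : (2 : E) = 0) (hdeg : Module.finrank E K = 2) (y : K)
    (hy : y ∉ Set.range (algebraMap E K)) (f : E) (heq : y ^ 2 + y = algebraMap E K f) :
    Algebra.trace E K y = 1 := by
  have hfin : FiniteDimensional E K := Module.finite_of_finrank_pos (by rw [hdeg]; norm_num)
  set g : E[X] := X ^ 2 + X - C f with hg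
  have hgm : g.Monic := by
    rw [hg]
    monicity!
  have hgdeg : g.natDegree = 2 := by
    rw [hg]
    compute_degree!
  have hroot : aeval y g = 0 := by
    rw [hg]
    simp only [map_sub, map_add, map_pow, aeval_X, aeval_C]
    rw [heq, sub_self]
  have hyint : IsIntegral E y := ⟨g, hgm, hroot⟩
  have hmin2 : 2 ≤ (minpoly E y).natDegree := (minpoly.two_le_natDegree_iff hyint).mpr hy
  have hdvd : minpoly E y ∣ g := minpoly.dvd _ _ hroot
  have hmeq : minpoly E y = g :=
    (Polynomial.eq_of_monic_of_dvd_of_natDegree_le (minpoly.monic hyint) hgm hdvd (by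
      rw [hgdeg]; exact hmin2)).symm
  have hnc : g.nextCoeff = 1 := by
    rw [Polynomial.nextCoeff_of_natDegree_pos (by rw [hgdeg]; norm_num), hgdeg, hg]
    simp [coeff_X]
  rw [trace_eq_finrank_mul_minpoly_nextCoeff, hmeq, hnc, adjoin_eq_top_AS hdeg y hy,
    IntermediateField.finrank_top]
  have : (1 : E) + 1 = 0 := by rw [one_add_one_eq_two, h2]
  simp only [Nat.cast_one, one_mul]
  linear_combination (-1 : E) * this

/-- `K = E ⊕ E y` -/
theorem decomp_AS (hdeg : Module.finrank E K = 2) (y : K)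
    (hy : y ∉ Set.range (algebraMap E K)) (w : K) :
    ∃ u v : E, w = algebraMap E K u + algebraMap E K v * y := by
  have hli : LinearIndependent E ![(1 : K), y] := by
    rw [LinearIndependent.pair_iff]
    intro s t hst
    have ht : t = 0 := by
      by_contra ht
      apply hy
      refine ⟨-s / t, ?_⟩
      rw [Algebra.smul_def, Algebra.smul_def, mul_one] at hst
      have ht' : algebraMap E K t ≠ 0 := (map_ne_zero_iff _ (algebraMap E K).injective).mpr ht
      rw [map_div₀, map_neg]
      field_simp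
      linear_combination (-1 : K) * hst
    rw [ht, zero_smul, add_zero, Algebra.smul_def, mul_one,
      map_eq_zero_iff _ (algebraMap E K).injective] at hst
    exact ⟨hst, ht⟩
  let b := basisOfLinearIndependentOfCardEqFinrank hli (by rw [hdeg]; rfl)
  have hw := b.sum_repr w
  rw [Fin.sum_univ_two] at hw
  simp only [b, coe_basisOfLinearIndependentOfCardEqFinrank, Matrix.cons_val_zero,
    Matrix.cons_val_one] at hw
  obtain ⟨c0, hc0⟩ : ∃ c : E, c = (basisOfLinearIndependentOfCardEqFinrank hli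
    (by rw [hdeg]; rfl)).repr w 0 := ⟨_, rfl⟩
  obtain ⟨c1, hc1⟩ : ∃ c : E, c = (basisOfLinearIndependentOfCardEqFinrank hli
    (by rw [hdeg]; rfl)).repr w 1 := ⟨_, rfl⟩
  rw [← hc0, ← hc1, Algebra.smul_def, Algebra.smul_def, mul_one] at hw
  exact ⟨c0, c1, hw.symm⟩

end Trace

section Indep

variable {k : Type u} {K : Type v} [Field k] [IsAlgClosed k] [CharP k 2] [Field K] [Algebra k K]
  [Algebra (RatFunc k) K] [IsScalarTower k (RatFunc k) K]

theorem indep_core (hK : IsFunctionField k K) (hdeg : Module.finrank (RatFunc k) K = 2)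
    (y : K) (hy : y ∉ Set.range (algebraMap (RatFunc k) K)) (f : RatFunc k)
    (heq : y ^ 2 + y = algebraMap (RatFunc k) K f)
    (B : Finset k) (h0 : (0 : k) ∈ B) (d : k → ℕ) (hd : ∀ β ∈ B, Odd (d β))
    (hpole : ∀ (p : FunFld.Place k (RatFunc k)) (β : k), β ∈ B →
      p.1 ((RatFunc.X : RatFunc k) - RatFunc.C β) < 1 → p.ord f = -(d β : ℤ))
    (hint : ∀ p : FunFld.Place k (RatFunc k),
      (∀ β ∈ B, 1 ≤ p.1 ((RatFunc.X : RatFunc k) - RatFunc.C β)) → p.1 f ≤ 1)
    (Pl : k → FunFld.Place k K)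
    (hPl : ∀ β ∈ B, (Pl β).1 ((algebraMap (RatFunc k) K RatFunc.X) - (algebraMap k K β)) < 1)
    (g : I1 B d ⊕ I2 B → k)
    (hmem : (∑ i, g i • (Pi.single (Pl (ctr B d i)) (valA B d y i) : Place k K → K)) ∈
      AD (0 : Divisor k K) ⊔ LinearMap.range (diag k K)) : ∀ i, g i = 0 := by
  have h2 : ringChar k = 2 := ringChar.eq k 2
  have h2E := two_eq_zero_ratFunc h2
  have hfin : FiniteDimensional (RatFunc k) K :=
    Module.finite_of_finrank_pos (by rw [hdeg]; norm_num)
  have halg : Algebra.IsAlgebraic (RatFunc k) K := Algebra.IsAlgebraic.of_finite _ _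
  have hE : IsFunctionField k (RatFunc k) := isFunctionField_ratFunc
  have hy0 : y ≠ 0 := fun h => hy ⟨0, by rw [map_zero, h]⟩
  obtain ⟨a₀, ha₀, _, ⟨w, rfl⟩, hsum⟩ := Submodule.mem_sup.mp hmem
  -- the places below
  have hbelow : ∀ α ∈ B, ∃ p : Place k (RatFunc k), IsOverWith (Pl α) p 2 ∧
      p.1 ((RatFunc.X : RatFunc k) - RatFunc.C α) < 1 ∧ (Pl α).ord y = -(d α : ℤ) ∧
      ∀ Q' : Place k K, IsOver Q' p → Q' = Pl α := by
    intro α hα
    obtain ⟨p, e, he⟩ := exists_below' (K := RatFunc k) (Pl α)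
    have hp : p.1 ((RatFunc.X : RatFunc k) - RatFunc.C α) < 1 := by
      rw [← ow_lt_one_iff he, ← algebraMap_sub_C]
      exact hPl α hα
    obtain ⟨hee, hoy, huniq⟩ := (ram_data hdeg y hy f heq B d hd hpole hint (Pl α) p e he).1 α hα hp
    subst hee
    exact ⟨p, he, hp, hoy, huniq⟩
  obtain ⟨A, hAdef⟩ : ∃ A : Place k K → K,
      A = ∑ i, g i • (Pi.single (Pl (ctr B d i)) (valA B d y i) : Place k K → K) := ⟨_, rfl⟩
  rw [← hAdef] at hsum
  have hAw : ∀ P : Place k K, P.1 (A P - w) ≤ 1 := by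
    intro P
    have h1 : A P - w = a₀ P := by
      rw [← hsum]
      change a₀ P + w - w = a₀ P
      ring
    rw [h1]
    have := ha₀ P
    rwa [Finsupp.zero_apply, exp_zero] at this
  have hAeval : ∀ P : Place k K, A P =
      ∑ i, if P = Pl (ctr B d i) then g i • valA B d y i else 0 := by
    intro P
    rw [hAdef, Finset.sum_apply]
    refine Finset.sum_congr rfl fun i _ => ?_
    rw [Pi.smul_apply, Pi.single_apply]
    split_ifs <;> simp
  obtain ⟨cE, hcE⟩ : ∃ cE : k → RatFunc k, cE = fun α =>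
      ∑ i ∈ Finset.univ.filter (fun i => ctr B d i = α),
        g i • ((RatFunc.X : RatFunc k) - RatFunc.C α) ^ pw B d i := ⟨_, rfl⟩
  have hAPl : ∀ α ∈ B, A (Pl α) = y * algebraMap (RatFunc k) K (cE α) := by
    intro α hα
    rw [hAeval, ← Finset.sum_filter]
    have hfilt : Finset.univ.filter (fun i => Pl α = Pl (ctr B d i)) =
        Finset.univ.filter (fun i => ctr B d i = α) := by
      ext i
      simp only [Finset.mem_filter, Finset.mem_univ, true_and]
      constructor
      · intro h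
        exact (Pl_inj B Pl hPl hα (ctr_mem B d i) h).symm
      · intro h
        rw [h]
    rw [hfilt, hcE, map_sum, Finset.mul_sum]
    refine Finset.sum_congr rfl fun i hi => ?_
    rw [Finset.mem_filter] at hi
    unfold valA
    rw [hi.2, Algebra.smul_def (g i) (((RatFunc.X : RatFunc k) - RatFunc.C α) ^ pw B d i), map_mul,
      ← IsScalarTower.algebraMap_apply, Algebra.smul_def]
    ring
  have hAoff : ∀ P : Place k K, (∀ α ∈ B, P ≠ Pl α) → A P = 0 := by
    intro P hP
    rw [hAeval]
    apply Finset.sum_eq_zero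
    intro i _
    rw [if_neg (hP _ (ctr_mem B d i))]
  have hcE_reg : ∀ (α : k) (p : Place k (RatFunc k)),
      p.1 ((RatFunc.X : RatFunc k) - RatFunc.C α) < 1 → p.1 (cE α) ≤ 1 := by
    intro α p hp
    rw [hcE]
    apply Valuation.map_sum_le
    intro i _
    rw [Algebra.smul_def, map_mul, map_pow]
    exact mul_le_one' (Place.val_k_le p _) (pow_le_one₀ zero_le hp.le)
  have htry : Algebra.trace (RatFunc k) K y = 1 := trace_AS h2E hdeg y hy f heq
  -- the trace of `w` is regular everywhere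
  have hv_reg : ∀ p : Place k (RatFunc k), p.1 (Algebra.trace (RatFunc k) K w) ≤ 1 := by
    intro p
    by_cases hA : ∃ α ∈ B, p.1 ((RatFunc.X : RatFunc k) - RatFunc.C α) < 1
    · obtain ⟨α, hα, hp⟩ := hA
      obtain ⟨p', he, hp', hoy, huniq⟩ := hbelow α hα
      have : p' = p := place_unique_at _ _ hp' hp
      subst this
      have h1 : p'.1 (Algebra.trace (RatFunc k) K (y * algebraMap (RatFunc k) K (cE α) - w)) ≤ 1 := by
        apply val_trace_le_one (isFFw_of_isFunctionField hE) p'
        intro Q hQ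
        rw [huniq Q hQ, ← hAPl α hα]
        exact hAw _
      rw [map_sub, mul_comm, ← Algebra.smul_def, map_smul, htry, smul_eq_mul, mul_one] at h1
      have h3 : Algebra.trace (RatFunc k) K w = cE α - (cE α - Algebra.trace (RatFunc k) K w) := by
        ring
      rw [h3]
      exact (p'.1.map_sub _ _).trans (max_le (hcE_reg α p' hp') h1)
    · push Not at hA
      apply val_trace_le_one (isFFw_of_isFunctionField hE) p
      intro Q hQ
      have hoff : ∀ α ∈ B, Q ≠ Pl α := by
        rintro α hα rfl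
        obtain ⟨p', he, hp', -, -⟩ := hbelow α hα
        have : p' = p := isOver_unique ⟨2, he⟩ hQ
        subst this
        exact absurd hp' (not_lt.mpr (hA α hα))
      have := hAw Q
      rw [hAoff Q hoff, zero_sub, Valuation.map_neg] at this
      exact this
  obtain ⟨v₀, hv₀⟩ := mem_range_of_forall_le_one hE hv_reg
  -- decomposition of `w`
  obtain ⟨u, v', hw⟩ := decomp_AS hdeg y hy w
  have htrw : Algebra.trace (RatFunc k) K w = v' := by
    rw [hw, map_add, Algebra.trace_algebraMap, hdeg, ← Algebra.smul_def, map_smul, htry,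
      smul_eq_mul, mul_one]
    have : (2 : ℕ) • u = 0 := by
      rw [nsmul_eq_mul, Nat.cast_ofNat, h2E, zero_mul]
    rw [this, zero_add]
  rw [htrw] at hv₀
  -- the key estimate
  have hD : ∀ α ∈ B, ∀ p : Place k (RatFunc k), IsOverWith (Pl α) p 2 →
      p.1 ((RatFunc.X : RatFunc k) - RatFunc.C α) < 1 → (Pl α).ord y = -(d α : ℤ) →
      p.1 (cE α - algebraMap k (RatFunc k) v₀) ≤ exp (-((((d α - 1) / 2 : ℕ) : ℤ) + 1)) := by
    intro α hα p he hp hoy
    obtain ⟨D, hDdef⟩ : ∃ D : RatFunc k, D = cE α - algebraMap k (RatFunc k) v₀ := ⟨_, rfl⟩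
    rw [← hDdef]
    by_cases hD0 : D = 0
    · rw [hD0, map_zero]
      exact zero_le
    have h1 := hAw (Pl α)
    have h3 : A (Pl α) - w = algebraMap (RatFunc k) K D * y + (-algebraMap (RatFunc k) K u) := by
      rw [hAPl α hα, hw, hDdef, hv₀, map_sub]
      ring
    rw [h3] at h1
    have hDy0 : algebraMap (RatFunc k) K D * y ≠ 0 :=
      mul_ne_zero ((map_ne_zero_iff _ (algebraMap (RatFunc k) K).injective).mpr hD0) hy0
    have hordDy : (Pl α).ord (algebraMap (RatFunc k) K D * y) = 2 * p.ord D - (d α : ℤ) := by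
      rw [Place.ord_mul _ ((map_ne_zero_iff _ (algebraMap (RatFunc k) K).injective).mpr hD0) hy0,
        ow_ord_eq he, hoy]
      push_cast
      ring
    obtain ⟨m, hm⟩ := hd α hα
    have hdist : (Pl α).1 (algebraMap (RatFunc k) K D * y) ≠
        (Pl α).1 (-algebraMap (RatFunc k) K u) := by
      rw [Valuation.map_neg]
      by_cases hu0 : u = 0
      · rw [hu0, map_zero, map_zero]
        exact (Valuation.ne_zero_iff _).mpr hDy0
      · have hu0' : algebraMap (RatFunc k) K u ≠ 0 :=
          (map_ne_zero_iff _ (algebraMap (RatFunc k) K).injective).mpr hu0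
        rw [Place.val_eq_exp_neg_ord _ hDy0, Place.val_eq_exp_neg_ord _ hu0', hordDy, ow_ord_eq he,
          Ne, exp_inj]
        push_cast
        omega
    rw [Valuation.map_add_of_distinct_val _ hdist] at h1
    have h4 := (le_max_left _ _).trans h1
    rw [← Place.ord_nonneg_iff _ hDy0, hordDy] at h4
    rw [Place.val_eq_exp_neg_ord p hD0, exp_le_exp]
    have : (((d α - 1) / 2 : ℕ) : ℤ) = m := by
      rw [hm]
      have : (2 * m + 1 - 1) / 2 = m := by omega
      rw [this]
    rw [this]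
    rw [hm] at h4
    push_cast at h4
    omega
  -- stage 1: the centre `0`
  obtain ⟨p0, he0, hp0, hoy0, -⟩ := hbelow 0 h0
  have hD0 := hD 0 h0 p0 he0 hp0 hoy0
  have hstage1 : v₀ = 0 ∧ ∀ i, ctr B d i = 0 → g i = 0 := by
    have key := polyLemma p0 hp0
      (Finset.insertNone (Finset.univ.filter (fun i => ctr B d i = 0)))
      (fun o : Option (I1 B d ⊕ I2 B) => o.elim 0 (pw B d))
      (fun o : Option (I1 B d ⊕ I2 B) => o.elim (-v₀) g) ((d 0 - 1) / 2) ?_ ?_ ?_
    · constructor
      · have := key none (Finset.mem_insertNone.mpr (fun a h => by cases h))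
        simpa using this
      · intro i hi
        have := key (some i) (Finset.mem_insertNone.mpr (fun a h => by
          cases h
          exact Finset.mem_filter.mpr ⟨Finset.mem_univ _, hi⟩))
        simpa using this
    · intro o ho
      rcases o with _ | i
      · exact Nat.zero_le _
      · have hi : ctr B d i = 0 := by
          have := Finset.mem_insertNone.mp ho i rfl
          exact (Finset.mem_filter.mp this).2
        change pw B d i ≤ _
        rcases pw_le B d i with h | h
        · rw [hi] at h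
          omega
        · rw [h]
          exact Nat.zero_le _
    · intro o ho o' ho' hex
      rcases o with _ | i <;> rcases o' with _ | i'
      · rfl
      · exfalso
        have hi : ctr B d i' = 0 := (Finset.mem_filter.mp (Finset.mem_insertNone.mp ho' i' rfl)).2
        change 0 = pw B d i' at hex
        rcases i' with a | b
        · have := a.2.1
          change 0 = a.1.2 at hex
          omega
        · exact b.2 hi
      · exfalso
        have hi : ctr B d i = 0 := (Finset.mem_filter.mp (Finset.mem_insertNone.mp ho i rfl)).2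
        change pw B d i = 0 at hex
        rcases i with a | b
        · have := a.2.1
          change a.1.2 = 0 at hex
          omega
        · exact b.2 hi
      · congr 1
        have hi : ctr B d i = 0 := (Finset.mem_filter.mp (Finset.mem_insertNone.mp ho i rfl)).2
        have hi' : ctr B d i' = 0 := (Finset.mem_filter.mp (Finset.mem_insertNone.mp ho' i' rfl)).2
        exact pw_inj B d (hi.trans hi'.symm) hex
    · rw [Finset.sum_insertNone]
      convert hD0 using 2
      rw [hcE]
      simp only [Option.elim_none, Option.elim_some, pow_zero]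
      rw [Algebra.smul_def, mul_one, map_neg]
      ring
  obtain ⟨hv0, hg0⟩ := hstage1
  -- stage 2: the other centres
  intro i
  by_cases hi : ctr B d i = 0
  · exact hg0 i hi
  · obtain ⟨p, he, hp, hoy, -⟩ := hbelow (ctr B d i) (ctr_mem B d i)
    have hDi := hD (ctr B d i) (ctr_mem B d i) p he hp hoy
    rw [hv0, map_zero, sub_zero, hcE] at hDi
    refine polyLemma p hp (Finset.univ.filter (fun j => ctr B d j = ctr B d i)) (pw B d) g
      ((d (ctr B d i) - 1) / 2) ?_ ?_ hDi i (Finset.mem_filter.mpr ⟨Finset.mem_univ _, rfl⟩)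
    · intro j hj
      have hj' := (Finset.mem_filter.mp hj).2
      rcases pw_le B d j with h | h
      · rw [hj'] at h
        omega
      · rw [h]
        exact Nat.zero_le _
    · intro j hj j' hj' hex
      exact pw_inj B d ((Finset.mem_filter.mp hj).2.trans (Finset.mem_filter.mp hj').2.symm) hex

theorem card_eq (hK : IsFunctionField k K) (hdeg : Module.finrank (RatFunc k) K = 2)
    (y : K) (hy : y ∉ Set.range (algebraMap (RatFunc k) K)) (f : RatFunc k)
    (heq : y ^ 2 + y = algebraMap (RatFunc k) K f)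
    (B : Finset k) (h0 : (0 : k) ∈ B) (d : k → ℕ) (hd : ∀ β ∈ B, Odd (d β))
    (hpole : ∀ (p : FunFld.Place k (RatFunc k)) (β : k), β ∈ B →
      p.1 ((RatFunc.X : RatFunc k) - RatFunc.C β) < 1 → p.ord f = -(d β : ℤ))
    (hint : ∀ p : FunFld.Place k (RatFunc k),
      (∀ β ∈ B, 1 ≤ p.1 ((RatFunc.X : RatFunc k) - RatFunc.C β)) → p.1 f ≤ 1) :
    Fintype.card (I1 B d ⊕ I2 B) = genus k K := by
  have hg := genus_eq hK hdeg y hy f heq B d hd hpole hint
  have hpos : 1 ≤ B.card := Finset.card_pos.mpr ⟨0, h0⟩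
  have h1 : ∑ β ∈ B, (1 + (d β : ℤ)) / 2 = ((∑ β ∈ B, (d β - 1) / 2 : ℕ) : ℤ) + B.card := by
    rw [Finset.card_eq_sum_ones, Nat.cast_sum, Nat.cast_sum, ← Finset.sum_add_distrib]
    refine Finset.sum_congr rfl fun β hβ => ?_
    obtain ⟨m, hm⟩ := hd β hβ
    rw [hm]
    push_cast
    omega
  rw [Fintype.card_sum, card_I1, card_I2 B h0]
  have : ((∑ β ∈ B, (d β - 1) / 2 + (B.card - 1) : ℕ) : ℤ) = genus k K := by
    rw [hg, h1]
    push_cast
    omega
  exact_mod_cast this

end Indep

theorem main (k : Type u) (K : Type v)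
    [Field k] [IsAlgClosed k] [CharP k 2] [Field K] [Algebra k K] [Algebra (RatFunc k) K] [IsScalarTower k (RatFunc k) K]
    (hK : FunFld.IsFunctionField k K) (hdeg : Module.finrank (RatFunc k) K = 2) [Algebra.IsSeparable (RatFunc k) K]
    (y : K) (hy : y ∉ Set.range (algebraMap (RatFunc k) K)) (f : RatFunc k)
    (heq : y ^ 2 + y = algebraMap (RatFunc k) K f)
    (B : Finset k) (h0 : (0 : k) ∈ B) (d : k → ℕ) (hd : ∀ β ∈ B, Odd (d β))
    (hpole : ∀ (p : FunFld.Place k (RatFunc k)) (β : k), β ∈ B →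
      p.1 ((RatFunc.X : RatFunc k) - RatFunc.C β) < 1 → p.ord f = -(d β : ℤ))
    (hint : ∀ p : FunFld.Place k (RatFunc k), (∀ β ∈ B, 1 ≤ p.1 ((RatFunc.X : RatFunc k) - RatFunc.C β)) → p.1 f ≤ 1)
    (Pl : k → FunFld.Place k K) (hPl : ∀ β ∈ B, (Pl β).1 ((algebraMap (RatFunc k) K RatFunc.X) - (algebraMap k K β)) < 1) :
    (∀ i, (Sum.elim
        (fun a : {a : ↥B × ℕ // 1 ≤ a.2 ∧ 2 * a.2 + 1 ≤ d (a.1 : k)} =>
          (Pi.single (Pl (a.1.1 : k)) (y * ((algebraMap (RatFunc k) K RatFunc.X) - (algebraMap k K (a.1.1 : k))) ^ a.1.2) : FunFld.Place k K → K))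
        (fun b : {b : ↥B // (b : k) ≠ 0} => (Pi.single (Pl (b.1 : k)) y : FunFld.Place k K → K))) i ∈ FunFld.adele k K) ∧
    LinearIndependent k (fun i => Submodule.mkQ (FunFld.AD (0 : FunFld.Divisor k K) ⊔ LinearMap.range (FunFld.diag k K)) ((Sum.elim
        (fun a : {a : ↥B × ℕ // 1 ≤ a.2 ∧ 2 * a.2 + 1 ≤ d (a.1 : k)} =>
          (Pi.single (Pl (a.1.1 : k)) (y * ((algebraMap (RatFunc k) K RatFunc.X) - (algebraMap k K (a.1.1 : k))) ^ a.1.2) : FunFld.Place k K → K))
        (fun b : {b : ↥B // (b : k) ≠ 0} => (Pi.single (Pl (b.1 : k)) y : FunFld.Place k K → K))) i)) ∧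
    ∀ a : FunFld.Place k K → K, a ∈ FunFld.adele k K →
      a ∈ (FunFld.AD (0 : FunFld.Divisor k K) ⊔ LinearMap.range (FunFld.diag k K)) ⊔ Submodule.span k (Set.range (Sum.elim
        (fun a : {a : ↥B × ℕ // 1 ≤ a.2 ∧ 2 * a.2 + 1 ≤ d (a.1 : k)} =>
          (Pi.single (Pl (a.1.1 : k)) (y * ((algebraMap (RatFunc k) K RatFunc.X) - (algebraMap k K (a.1.1 : k))) ^ a.1.2) : FunFld.Place k K → K))
        (fun b : {b : ↥B // (b : k) ≠ 0} => (Pi.single (Pl (b.1 : k)) y : FunFld.Place k K → K)))) := by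
  rw [famA_eq B d y Pl]
  have hadele : ∀ i : I1 B d ⊕ I2 B,
      (Pi.single (Pl (ctr B d i)) (valA B d y i) : Place k K → K) ∈ adele k K :=
    fun i => single_mem_adele _ _
  have hli : LinearIndependent k (fun i : I1 B d ⊕ I2 B =>
      Submodule.mkQ (AD (0 : Divisor k K) ⊔ LinearMap.range (diag k K))
        (Pi.single (Pl (ctr B d i)) (valA B d y i) : Place k K → K)) := by
    rw [Fintype.linearIndependent_iff]
    intro g hg
    apply indep_core hK hdeg y hy f heq B h0 d hd hpole hint Pl hPl g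
    rw [← Submodule.Quotient.mk_eq_zero, ← Submodule.mkQ_apply, map_sum]
    simp only [map_smul]
    exact hg
  refine ⟨hadele, hli, ?_⟩
  intro a ha
  obtain ⟨e, he, W, hWfin, hWrank, hWinf, hWsup⟩ := isRelDim_adele hK (0 : Divisor k K)
  have heg : e = genus k K := by
    rw [Divisor.deg_zero, ell_zero hK] at he
    have : (e : ℤ) = genus k K := by rw [he]; push_cast; ring
    exact_mod_cast this
  obtain ⟨W₀, hW₀⟩ : ∃ W₀ : Submodule k (Place k K → K),
      W₀ = AD (0 : Divisor k K) ⊔ LinearMap.range (diag k K) := ⟨_, rfl⟩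
  rw [← hW₀] at hli hWsup hWinf ⊢
  have hle : Submodule.span k (Set.range (fun i : I1 B d ⊕ I2 B =>
      Submodule.mkQ W₀ (Pi.single (Pl (ctr B d i)) (valA B d y i) : Place k K → K))) ≤
      Submodule.map (Submodule.mkQ W₀) W := by
    rw [Submodule.span_le]
    rintro _ ⟨i, rfl⟩
    have hmem := hadele i
    rw [← hWsup] at hmem
    obtain ⟨a1, ha1, w1, hw1, hsum⟩ := Submodule.mem_sup.mp hmem
    refine ⟨w1, hw1, ?_⟩
    change Submodule.mkQ W₀ w1 = Submodule.mkQ W₀ (Pi.single (Pl (ctr B d i)) (valA B d y i))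
    rw [← hsum, map_add, Submodule.mkQ_apply, Submodule.mkQ_apply,
      (Submodule.Quotient.mk_eq_zero _).mpr ha1, zero_add]
  have hfr : Module.finrank k (Submodule.map (Submodule.mkQ W₀) W) ≤
      Module.finrank k (Submodule.span k (Set.range (fun i : I1 B d ⊕ I2 B =>
        Submodule.mkQ W₀ (Pi.single (Pl (ctr B d i)) (valA B d y i) : Place k K → K)))) := by
    rw [finrank_span_eq_card hli, card_eq hK hdeg y hy f heq B h0 d hd hpole hint, ← heg, ← hWrank]
    exact Submodule.finrank_map_le _ W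
  have hspan := Submodule.eq_of_le_of_finrank_le hle hfr
  rw [← hWsup] at ha
  obtain ⟨a1, ha1, w1, hw1, rfl⟩ := Submodule.mem_sup.mp ha
  have h1 : Submodule.mkQ W₀ w1 ∈ Submodule.span k (Set.range (fun i : I1 B d ⊕ I2 B =>
      Submodule.mkQ W₀ (Pi.single (Pl (ctr B d i)) (valA B d y i) : Place k K → K))) := by
    rw [hspan]
    exact ⟨w1, hw1, rfl⟩
  have h2 : (fun i : I1 B d ⊕ I2 B =>
      Submodule.mkQ W₀ (Pi.single (Pl (ctr B d i)) (valA B d y i) : Place k K → K)) =
      (Submodule.mkQ W₀) ∘ (fun i : I1 B d ⊕ I2 B =>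
        (Pi.single (Pl (ctr B d i)) (valA B d y i) : Place k K → K)) := rfl
  rw [h2, Set.range_comp, ← Submodule.map_span] at h1
  obtain ⟨s, hs, hsπ⟩ := h1
  have h3 : w1 - s ∈ W₀ := by
    rw [← Submodule.Quotient.mk_eq_zero, Submodule.Quotient.mk_sub, sub_eq_zero]
    exact hsπ.symm
  have h4 : a1 + w1 = (a1 + (w1 - s)) + s := by ring
  rw [h4]
  exact Submodule.add_mem _ (Submodule.mem_sup_left (Submodule.add_mem _ ha1 h3))
    (Submodule.mem_sup_right hs)

end Aux

/-- Let `k` be algebraically closed of characteristic `2`, `K = k(x, y)` with `y² + y = f(x)` separable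
of degree `2` over `k(x)`, `B ⊆ k` a finite set containing `0` with `f` having a pole of odd order
`d_β` at `x = β` for `β ∈ B` and integral elsewhere, `c_β = (d_β - 1)/2`, and `P_β` a place of `K`
above `x = β`. Identify `H¹(X, O)` of the smooth projective model with the repartitions (adeles with
components in `K`) modulo `W = A(0) + K` (everywhere-integral repartitions plus constants), a Čech
class with defining component `h` at `β` corresponding to the repartition with component `h` at
`P_β` and `0` elsewhere. Then the repartitions supported at `P_α` with value `y (x - α)^j` (`α ∈ B`,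
`1 ≤ j ≤ c_α`) and with value `y` (`α ∈ B`, `α ≠ 0`) are adeles whose classes modulo `W` are
linearly independent over `k` and, together with `W`, span the adeles: they give a basis of `H¹(X,
O)`. -/
theorem result (k : Type u) (K : Type v)
    [Field k] [IsAlgClosed k] [CharP k 2] [Field K] [Algebra k K] [Algebra (RatFunc k) K] [IsScalarTower k (RatFunc k) K]
    (hK : FunFld.IsFunctionField k K) (hdeg : Module.finrank (RatFunc k) K = 2) [Algebra.IsSeparable (RatFunc k) K]
    (y : K) (hy : y ∉ Set.range (algebraMap (RatFunc k) K)) (f : RatFunc k)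
    (heq : y ^ 2 + y = algebraMap (RatFunc k) K f)
    (B : Finset k) (h0 : (0 : k) ∈ B) (d : k → ℕ) (hd : ∀ β ∈ B, Odd (d β))
    (hpole : ∀ (p : FunFld.Place k (RatFunc k)) (β : k), β ∈ B →
      p.1 ((RatFunc.X : RatFunc k) - RatFunc.C β) < 1 → p.ord f = -(d β : ℤ))
    (hint : ∀ p : FunFld.Place k (RatFunc k), (∀ β ∈ B, 1 ≤ p.1 ((RatFunc.X : RatFunc k) - RatFunc.C β)) → p.1 f ≤ 1)
    (Pl : k → FunFld.Place k K) (hPl : ∀ β ∈ B, (Pl β).1 ((algebraMap (RatFunc k) K RatFunc.X) - (algebraMap k K β)) < 1) :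
    (∀ i, (Sum.elim
        (fun a : {a : ↥B × ℕ // 1 ≤ a.2 ∧ 2 * a.2 + 1 ≤ d (a.1 : k)} =>
          (Pi.single (Pl (a.1.1 : k)) (y * ((algebraMap (RatFunc k) K RatFunc.X) - (algebraMap k K (a.1.1 : k))) ^ a.1.2) : FunFld.Place k K → K))
        (fun b : {b : ↥B // (b : k) ≠ 0} => (Pi.single (Pl (b.1 : k)) y : FunFld.Place k K → K))) i ∈ FunFld.adele k K) ∧
    LinearIndependent k (fun i => Submodule.mkQ (FunFld.AD (0 : FunFld.Divisor k K) ⊔ LinearMap.range (FunFld.diag k K)) ((Sum.elim
        (fun a : {a : ↥B × ℕ // 1 ≤ a.2 ∧ 2 * a.2 + 1 ≤ d (a.1 : k)} =>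
          (Pi.single (Pl (a.1.1 : k)) (y * ((algebraMap (RatFunc k) K RatFunc.X) - (algebraMap k K (a.1.1 : k))) ^ a.1.2) : FunFld.Place k K → K))
        (fun b : {b : ↥B // (b : k) ≠ 0} => (Pi.single (Pl (b.1 : k)) y : FunFld.Place k K → K))) i)) ∧
    ∀ a : FunFld.Place k K → K, a ∈ FunFld.adele k K →
      a ∈ (FunFld.AD (0 : FunFld.Divisor k K) ⊔ LinearMap.range (FunFld.diag k K)) ⊔ Submodule.span k (Set.range (Sum.elim
        (fun a : {a : ↥B × ℕ // 1 ≤ a.2 ∧ 2 * a.2 + 1 ≤ d (a.1 : k)} =>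
          (Pi.single (Pl (a.1.1 : k)) (y * ((algebraMap (RatFunc k) K RatFunc.X) - (algebraMap k K (a.1.1 : k))) ^ a.1.2) : FunFld.Place k K → K))
        (fun b : {b : ↥B // (b : k) ≠ 0} => (Pi.single (Pl (b.1 : k)) y : FunFld.Place k K → K)))) := by
  exact Aux.main k K hK hdeg y hy f heq B h0 d hd hpole hint Pl hPl

end Groth.Agent.S19046
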