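import Groth.Statements.S19047
import Mathlib
import Groth.Prelude.Def_W4bk4goldsch23Ext
import Groth.Prelude.Def_LocRes
import Groth.Agent.Lib.Helper9.FFExt.ASB
import Groth.Agent.Lib.Helper9.FFExt.RatPP
-- import your own Groth.Agent.* helpers here

set_option autoImplicit false
universe u v
open Classical
open FunFld

namespace Groth.Agent.S19047

open Classical
namespace Aux

open FunFld WithZero Polynomial IntermediateField
open Groth.Agent.Lib.Helper4.FF Groth.Agent.Helper9.FFExt Groth.Agent.Helper9.Tate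
open Groth.Agent.Helper9.AS2 Groth.Agent.Helper9.ASB

section Adele

variable {k : Type u} {K : Type v} [Field k] [Field K] [Algebra k K]
  [Algebra (RatFunc k) K] [IsScalarTower k (RatFunc k) K]

theorem algebraMap_sub_C (α : k) : algebraMap (RatFunc k) K RatFunc.X - algebraMap k K α =
    algebraMap (RatFunc k) K ((RatFunc.X : RatFunc k) - RatFunc.C α) := by
  rw [map_sub, ← RatFunc.algebraMap_eq_C, ← IsScalarTower.algebraMap_apply]

/-- a repartition supported at one place with an integral value is in `A(0)` -/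
theorem single_mem_AD [DecidableEq (Place k K)] (P : Place k K) {z : K} (hz : P.1 z ≤ 1) :
    (Pi.single P z : Place k K → K) ∈ AD (0 : Divisor k K) := by
  intro Q
  rw [Finsupp.zero_apply, exp_zero]
  by_cases hQ : Q = P
  · subst hQ
    rw [Pi.single_eq_same]
    exact hz
  · rw [Pi.single_eq_of_ne hQ, map_zero]
    exact zero_le_one

/-- a repartition supported at the unique place over `x = α`, with value in `k(x)`, lies in
`A(0) + K` -/
theorem single_mem [DecidableEq (Place k K)] [Algebra.IsAlgebraic (RatFunc k) K] (P : Place k K) (p : Place k (RatFunc k))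
    (hover : IsOver P p) (huniq : ∀ Q' : Place k K, IsOver Q' p → Q' = P) (hdeg : p.deg = 1) {α : k}
    (h : p.1 ((RatFunc.X : RatFunc k) - RatFunc.C α) < 1) (z : RatFunc k) :
    (Pi.single P (algebraMap (RatFunc k) K z) : Place k K → K) ∈
      AD (0 : Divisor k K) ⊔ LinearMap.range (diag k K) := by
  obtain ⟨n, hn⟩ : ∃ n : ℕ, p.1 z ≤ exp (n : ℤ) := by
    by_cases hz : z = 0
    · exact ⟨0, by rw [hz, map_zero]; exact zero_le⟩
    · refine ⟨(-p.ord z).toNat, ?_⟩
      rw [Place.val_eq_exp_neg_ord p hz, exp_le_exp]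
      exact Int.self_le_toNat _
  obtain ⟨r, hr, hr'⟩ := exists_principal_part p hdeg h n z hn
  rw [Submodule.mem_sup]
  refine ⟨fun Q => if Q = P then algebraMap (RatFunc k) K (z - r) else -algebraMap (RatFunc k) K r, ?_,
    diag k K (algebraMap (RatFunc k) K r), ⟨_, rfl⟩, ?_⟩
  · intro Q
    rw [Finsupp.zero_apply, exp_zero]
    obtain ⟨e, he⟩ := hover
    change Q.1 (if Q = P then algebraMap (RatFunc k) K (z - r) else -algebraMap (RatFunc k) K r) ≤ 1
    by_cases hQ : Q = P
    · rw [if_pos hQ, hQ]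
      exact (ow_le_one_iff he _).mpr hr
    · rw [if_neg hQ, Valuation.map_neg]
      obtain ⟨q, e', he'⟩ := exists_below' (K := RatFunc k) Q
      have hq : q ≠ p := by
        rintro rfl
        exact hQ (huniq Q ⟨e', he'⟩)
      exact (ow_le_one_iff he' _).mpr (hr' q hq)
  · funext Q
    change (if Q = P then algebraMap (RatFunc k) K (z - r) else -algebraMap (RatFunc k) K r) +
      algebraMap (RatFunc k) K r = _
    by_cases hQ : Q = P
    · rw [if_pos hQ, hQ, Pi.single_eq_same, map_sub]
      ring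
    · rw [if_neg hQ, Pi.single_eq_of_ne hQ]
      ring

end Adele

theorem main (k : Type u) (K : Type v)
    [Field k] [IsAlgClosed k] [CharP k 2] [Field K] [Algebra k K] [Algebra (RatFunc k) K] [IsScalarTower k (RatFunc k) K]
    (hK : FunFld.IsFunctionField k K) (hdeg : Module.finrank (RatFunc k) K = 2) [Algebra.IsSeparable (RatFunc k) K]
    (y : K) (hy : y ∉ Set.range (algebraMap (RatFunc k) K)) (f : RatFunc k)
    (heq : y ^ 2 + y = algebraMap (RatFunc k) K f)
    (B : Finset k) (h0 : (0 : k) ∈ B) (d : k → ℕ) (hd : ∀ β ∈ B, Odd (d β))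
    (hpole : ∀ (p : FunFld.Place k (RatFunc k)) (β : k), β ∈ B →
      p.1 ((RatFunc.X : RatFunc k) - RatFunc.C β) < 1 → p.ord f = -(d β : ℤ))
    (hint : ∀ p : FunFld.Place k (RatFunc k), (∀ β ∈ B, 1 ≤ p.1 ((RatFunc.X : RatFunc k) - RatFunc.C β)) → p.1 f ≤ 1)
    (Pl : k → FunFld.Place k K) (hPl : ∀ β ∈ B, (Pl β).1 ((algebraMap (RatFunc k) K RatFunc.X) - (algebraMap k K β)) < 1)
    (α : k) (hα : α ∈ B) (j : ℕ) :
    (4 * j + 1 ≤ d α → (Pi.single (Pl α) ((y * ((algebraMap (RatFunc k) K RatFunc.X) - (algebraMap k K α)) ^ j) ^ 2) : FunFld.Place k K → K) - (Pi.single (Pl α) (y * ((algebraMap (RatFunc k) K RatFunc.X) - (algebraMap k K α)) ^ (2 * j)) : FunFld.Place k K → K) ∈ (FunFld.AD (0 : FunFld.Divisor k K) ⊔ LinearMap.range (FunFld.diag k K))) ∧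
    (d α < 4 * j + 1 → (Pi.single (Pl α) ((y * ((algebraMap (RatFunc k) K RatFunc.X) - (algebraMap k K α)) ^ j) ^ 2) : FunFld.Place k K → K) ∈ (FunFld.AD (0 : FunFld.Divisor k K) ⊔ LinearMap.range (FunFld.diag k K))) := by
  have h2 : ringChar k = 2 := ringChar.eq k 2
  have h2E := two_eq_zero_ratFunc h2
  have hfin : FiniteDimensional (RatFunc k) K :=
    Module.finite_of_finrank_pos (by rw [hdeg]; norm_num)
  have halg : Algebra.IsAlgebraic (RatFunc k) K := Algebra.IsAlgebraic.of_finite _ _
  have hE : IsFunctionField k (RatFunc k) := isFunctionField_ratFunc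
  have hy0 : y ≠ 0 := fun h => hy ⟨0, by rw [map_zero, h]⟩
  have h2K : (2 : K) = 0 := by
    have := congrArg (algebraMap (RatFunc k) K) h2E
    rwa [map_ofNat, map_zero] at this
  obtain ⟨p, e, he⟩ := exists_below' (K := RatFunc k) (Pl α)
  have hp : p.1 ((RatFunc.X : RatFunc k) - RatFunc.C α) < 1 := by
    rw [← ow_lt_one_iff he, ← algebraMap_sub_C]
    exact hPl α hα
  obtain ⟨hee, hoy, huniq⟩ := (ram_data hdeg y hy f heq B d hd hpole hint (Pl α) p e he).1 α hα hp
  have hdegp := Place.deg_eq_one hE p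
  obtain ⟨t, ht⟩ : ∃ t : K, t = algebraMap (RatFunc k) K RatFunc.X - algebraMap k K α := ⟨_, rfl⟩
  rw [← ht]
  have ht' : t = algebraMap (RatFunc k) K ((RatFunc.X : RatFunc k) - RatFunc.C α) := by
    rw [ht, algebraMap_sub_C]
  have key : (y * t ^ j) ^ 2 = y * t ^ (2 * j) +
      algebraMap (RatFunc k) K (f * ((RatFunc.X : RatFunc k) - RatFunc.C α) ^ (2 * j)) := by
    rw [map_mul, map_pow, ← ht', ← heq]
    linear_combination (-(y * t ^ (2 * j))) * h2K
  have hsm := single_mem (Pl α) p ⟨e, he⟩ huniq hdegp hp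
    (f * ((RatFunc.X : RatFunc k) - RatFunc.C α) ^ (2 * j))
  constructor
  · intro _
    rw [← Pi.single_sub, key, add_sub_cancel_left]
    exact hsm
  · intro hlt
    rw [key, Pi.single_add]
    refine Submodule.add_mem _ (Submodule.mem_sup_left ?_) hsm
    apply single_mem_AD
    have ht0 : t ≠ 0 := by
      rw [ht']
      exact (map_ne_zero_iff _ (algebraMap (RatFunc k) K).injective).mpr (X_sub_C_ne_zero α)
    rw [← Place.ord_nonneg_iff _ (mul_ne_zero hy0 (pow_ne_zero _ ht0)),
      Place.ord_mul _ hy0 (pow_ne_zero _ ht0), Place.ord_pow, hoy, ht', ow_ord_eq he, hee,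
      ord_X_sub_C p hp]
    push_cast
    omega

end Aux

/-- Let `k` be algebraically closed of characteristic `2`, `K = k(x, y)` with `y² + y = f(x)` separable
of degree `2` over `k(x)`, `B ⊆ k` a finite set containing `0` with `f` having a pole of odd order
`d_β` at `x = β` for `β ∈ B` and integral elsewhere, `c_β = (d_β - 1)/2`, and `P_β` a place of `K`
above `x = β`. With `H¹(X, O)` of the smooth projective model written as repartitions modulo `W =
A(0) + K` (everywhere-integral repartitions plus constants) and its Frobenius induced by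
componentwise squaring, for `α ∈ B` and `j ≥ 0`: the Frobenius of the class of the repartition
supported at `P_α` with value `y (x - α)^j` is the class of the one with value `y (x - α)^{2j}` when
`2j ≤ c_α`, and is `0` when `2j > c_α`. -/
theorem result (k : Type u) (K : Type v)
    [Field k] [IsAlgClosed k] [CharP k 2] [Field K] [Algebra k K] [Algebra (RatFunc k) K] [IsScalarTower k (RatFunc k) K]
    (hK : FunFld.IsFunctionField k K) (hdeg : Module.finrank (RatFunc k) K = 2) [Algebra.IsSeparable (RatFunc k) K]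
    (y : K) (hy : y ∉ Set.range (algebraMap (RatFunc k) K)) (f : RatFunc k)
    (heq : y ^ 2 + y = algebraMap (RatFunc k) K f)
    (B : Finset k) (h0 : (0 : k) ∈ B) (d : k → ℕ) (hd : ∀ β ∈ B, Odd (d β))
    (hpole : ∀ (p : FunFld.Place k (RatFunc k)) (β : k), β ∈ B →
      p.1 ((RatFunc.X : RatFunc k) - RatFunc.C β) < 1 → p.ord f = -(d β : ℤ))
    (hint : ∀ p : FunFld.Place k (RatFunc k), (∀ β ∈ B, 1 ≤ p.1 ((RatFunc.X : RatFunc k) - RatFunc.C β)) → p.1 f ≤ 1)
    (Pl : k → FunFld.Place k K) (hPl : ∀ β ∈ B, (Pl β).1 ((algebraMap (RatFunc k) K RatFunc.X) - (algebraMap k K β)) < 1)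
    (α : k) (hα : α ∈ B) (j : ℕ) :
    (4 * j + 1 ≤ d α → (Pi.single (Pl α) ((y * ((algebraMap (RatFunc k) K RatFunc.X) - (algebraMap k K α)) ^ j) ^ 2) : FunFld.Place k K → K) - (Pi.single (Pl α) (y * ((algebraMap (RatFunc k) K RatFunc.X) - (algebraMap k K α)) ^ (2 * j)) : FunFld.Place k K → K) ∈ (FunFld.AD (0 : FunFld.Divisor k K) ⊔ LinearMap.range (FunFld.diag k K))) ∧
    (d α < 4 * j + 1 → (Pi.single (Pl α) ((y * ((algebraMap (RatFunc k) K RatFunc.X) - (algebraMap k K α)) ^ j) ^ 2) : FunFld.Place k K → K) ∈ (FunFld.AD (0 : FunFld.Divisor k K) ⊔ LinearMap.range (FunFld.diag k K))) := by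
  exact Aux.main k K hK hdeg y hy f heq B h0 d hd hpole hint Pl hPl α hα j

end Groth.Agent.S19047
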