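import Groth.Statements.S19048
import Mathlib
import Groth.Prelude.Def_W4c6eohyperellchar2Gc
-- import your own Groth.Agent.* helpers here

set_option autoImplicit false
universe u
open Dieu

namespace Groth.Agent.S19048

open W4c6eohyperellchar2
namespace Aux

section basic
variable (c : ℕ) (k : Type u) [Field k]

/-- coordinate description of `Nfil` -/
def Ncoord (i : ℕ) : Submodule k (GcMod c k) where
  carrier := {v | (∀ j : Fin c, min i c < j.val + 1 → v.2 j = 0) ∧
    (∀ j : Fin c, j.val + 1 ≤ 2 * c - i → v.1 j = 0)}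
  add_mem' := by
    rintro v w ⟨hv1, hv2⟩ ⟨hw1, hw2⟩
    refine ⟨fun j hj => ?_, fun j hj => ?_⟩
    · show v.2 j + w.2 j = 0
      rw [hv1 j hj, hw1 j hj, add_zero]
    · show v.1 j + w.1 j = 0
      rw [hv2 j hj, hw2 j hj, add_zero]
  zero_mem' := ⟨fun _ _ => rfl, fun _ _ => rfl⟩
  smul_mem' := by
    rintro t v ⟨hv1, hv2⟩
    refine ⟨fun j hj => ?_, fun j hj => ?_⟩
    · show t * v.2 j = 0
      rw [hv1 j hj, mul_zero]
    · show t * v.1 j = 0
      rw [hv2 j hj, mul_zero]

variable {c k}

lemma mem_Ncoord {i : ℕ} {v : GcMod c k} : v ∈ Ncoord c k i ↔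
    (∀ j : Fin c, min i c < j.val + 1 → v.2 j = 0) ∧
    (∀ j : Fin c, j.val + 1 ≤ 2 * c - i → v.1 j = 0) := Iff.rfl

lemma decompose (v : GcMod c k) :
    v = ∑ j : Fin c, v.1 j • X c k (j.val + 1) + ∑ j : Fin c, v.2 j • Y c k (j.val + 1) := by
  refine Prod.ext (funext fun i => ?_) (funext fun i => ?_)
  · simp only [Prod.fst_add, Prod.fst_sum, Prod.smul_fst, Pi.add_apply, Finset.sum_apply,
      Pi.smul_apply, smul_eq_mul]
    have h1 : ∀ j : Fin c, (X c k (j.val + 1)).1 i = if j = i then 1 else 0 := by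
      intro j
      show (if i.val + 1 = j.val + 1 then (1 : k) else 0) = _
      by_cases h : j = i
      · subst h; simp
      · rw [if_neg h, if_neg]
        intro h'; apply h; exact Fin.ext (by omega)
    have h2 : ∀ j : Fin c, (Y c k (j.val + 1)).1 i = 0 := fun j => rfl
    simp only [h1, h2, mul_ite, mul_one, mul_zero, Finset.sum_ite_eq', Finset.mem_univ, if_true,
      Finset.sum_const_zero, add_zero]
  · simp only [Prod.snd_add, Prod.snd_sum, Prod.smul_snd, Pi.add_apply, Finset.sum_apply,
      Pi.smul_apply, smul_eq_mul]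
    have h1 : ∀ j : Fin c, (Y c k (j.val + 1)).2 i = if j = i then 1 else 0 := by
      intro j
      show (if i.val + 1 = j.val + 1 then (1 : k) else 0) = _
      by_cases h : j = i
      · subst h; simp
      · rw [if_neg h, if_neg]
        intro h'; apply h; exact Fin.ext (by omega)
    have h2 : ∀ j : Fin c, (X c k (j.val + 1)).2 i = 0 := fun j => rfl
    simp only [h1, h2, mul_ite, mul_one, mul_zero, Finset.sum_ite_eq', Finset.mem_univ, if_true,
      Finset.sum_const_zero, zero_add]

lemma Nfil_eq (i : ℕ) : Nfil c k i = Ncoord c k i := by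
  apply le_antisymm
  · unfold Nfil
    rw [Submodule.span_le]
    rintro v (⟨n, hn, rfl⟩ | ⟨n, hn, rfl⟩)
    · rw [Set.mem_Icc] at hn
      refine ⟨fun j hj => ?_, fun j _ => rfl⟩
      show (if j.val + 1 = n then (1 : k) else 0) = 0
      rw [if_neg]; omega
    · rw [Set.mem_Ioc] at hn
      refine ⟨fun j _ => rfl, fun j hj => ?_⟩
      show (if j.val + 1 = n then (1 : k) else 0) = 0
      rw [if_neg]; omega
  · intro v hv
    rw [mem_Ncoord] at hv
    rw [decompose v]
    refine Submodule.add_mem _ (Submodule.sum_mem _ fun j _ => ?_) (Submodule.sum_mem _ fun j _ => ?_)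
    · by_cases hj : j.val + 1 ≤ 2 * c - i
      · rw [hv.2 j hj, zero_smul]; exact Submodule.zero_mem _
      · apply Submodule.smul_mem
        apply Submodule.subset_span
        right
        exact ⟨j.val + 1, Set.mem_Ioc.mpr ⟨by omega, by have := j.2; omega⟩, rfl⟩
    · by_cases hj : min i c < j.val + 1
      · rw [hv.1 j hj, zero_smul]; exact Submodule.zero_mem _
      · apply Submodule.smul_mem
        apply Submodule.subset_span
        left
        exact ⟨j.val + 1, Set.mem_Icc.mpr ⟨by omega, by omega⟩, rfl⟩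


section dim
variable (c : ℕ) (k : Type u) [Field k]

noncomputable def BB : Module.Basis (Fin c ⊕ Fin c) k (GcMod c k) :=
  (Pi.basisFun k (Fin c)).prod (Pi.basisFun k (Fin c))

lemma BB_inl (j : Fin c) : BB c k (Sum.inl j) = X c k (j.val + 1) := by
  refine Prod.ext (funext fun i => ?_) (funext fun i => ?_)
  · simp only [BB, Module.Basis.prod_apply_inl_fst, Pi.basisFun_apply, Pi.single_apply]
    show _ = (if i.val + 1 = j.val + 1 then (1 : k) else 0)
    by_cases h : i = j
    · subst h; simp
    · rw [if_neg h, if_neg]; intro h'; apply h; exact Fin.ext (by omega)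
  · simp only [BB, Module.Basis.prod_apply_inl_snd]
    rfl

lemma BB_inr (j : Fin c) : BB c k (Sum.inr j) = Y c k (j.val + 1) := by
  refine Prod.ext (funext fun i => ?_) (funext fun i => ?_)
  · simp only [BB, Module.Basis.prod_apply_inr_fst]
    rfl
  · simp only [BB, Module.Basis.prod_apply_inr_snd, Pi.basisFun_apply, Pi.single_apply]
    show _ = (if i.val + 1 = j.val + 1 then (1 : k) else 0)
    by_cases h : i = j
    · subst h; simp
    · rw [if_neg h, if_neg]; intro h'; apply h; exact Fin.ext (by omega)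

def TT (i : ℕ) : Finset (Fin c ⊕ Fin c) :=
  (Finset.univ.filter fun j : Fin c => 2 * c - i < j.val + 1).disjSum
    (Finset.univ.filter fun j : Fin c => j.val + 1 ≤ min i c)

lemma card_TT (i : ℕ) (hi : i ≤ 2 * c) : (TT c i).card = i := by
  unfold TT
  rw [Finset.card_disjSum]
  have h2 : (Finset.univ.filter fun j : Fin c => j.val + 1 ≤ min i c).card = min c (min i c) := by
    have hh := Fin.card_filter_val_lt (n := c) (m := min i c)
    rw [← hh]
    congr 1
  have h1 : (Finset.univ.filter fun j : Fin c => 2 * c - i < j.val + 1).card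
      + min c (2 * c - i) = c := by
    have hh := Fin.card_filter_val_lt (n := c) (m := 2 * c - i)
    have := Finset.card_filter_add_card_filter_not (s := (Finset.univ : Finset (Fin c)))
      (fun j : Fin c => 2 * c - i < j.val + 1)
    rw [Finset.card_univ, Fintype.card_fin] at this
    have h3 : (Finset.univ.filter fun j : Fin c => ¬ (2 * c - i < j.val + 1)) =
        (Finset.univ.filter fun j : Fin c => j.val < 2 * c - i) := by
      ext j
      simp only [Finset.mem_filter, Finset.mem_univ, true_and, not_lt]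
      omega
    rw [h3, hh] at this
    exact this
  omega

lemma Nfil_eq_span (i : ℕ) :
    Nfil c k i = Submodule.span k (Set.range fun t : TT c i => BB c k t.1) := by
  unfold Nfil
  congr 1
  ext v
  constructor
  · rintro (⟨n, hn, rfl⟩ | ⟨n, hn, rfl⟩)
    · rw [Set.mem_Icc] at hn
      refine ⟨⟨Sum.inr ⟨n - 1, by omega⟩, ?_⟩, ?_⟩
      · unfold TT
        rw [Finset.inr_mem_disjSum, Finset.mem_filter]
        exact ⟨Finset.mem_univ _, by show n - 1 + 1 ≤ min i c; omega⟩
      · show BB c k (Sum.inr ⟨n - 1, _⟩) = Y c k n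
        rw [BB_inr]
        congr 1
        show n - 1 + 1 = n
        omega
    · rw [Set.mem_Ioc] at hn
      refine ⟨⟨Sum.inl ⟨n - 1, by omega⟩, ?_⟩, ?_⟩
      · unfold TT
        rw [Finset.inl_mem_disjSum, Finset.mem_filter]
        exact ⟨Finset.mem_univ _, by show 2 * c - i < n - 1 + 1; omega⟩
      · show BB c k (Sum.inl ⟨n - 1, _⟩) = X c k n
        rw [BB_inl]
        congr 1
        show n - 1 + 1 = n
        omega
  · rintro ⟨⟨t, ht⟩, rfl⟩
    unfold TT at ht
    rcases t with j | j
    · rw [Finset.inl_mem_disjSum, Finset.mem_filter] at ht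
      right
      refine ⟨j.val + 1, Set.mem_Ioc.mpr ⟨ht.2, by have := j.2; omega⟩, ?_⟩
      show X c k (j.val + 1) = BB c k (Sum.inl j)
      rw [BB_inl]
    · rw [Finset.inr_mem_disjSum, Finset.mem_filter] at ht
      left
      refine ⟨j.val + 1, Set.mem_Icc.mpr ⟨by omega, ht.2⟩, ?_⟩
      show Y c k (j.val + 1) = BB c k (Sum.inr j)
      rw [BB_inr]

theorem finrank_Nfil (i : ℕ) (hi : i ≤ 2 * c) : Module.finrank k (Nfil c k i) = i := by
  rw [Nfil_eq_span]
  have hli : LinearIndependent k (fun t : TT c i => BB c k t.1) :=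
    (BB c k).linearIndependent.comp _ Subtype.val_injective
  rw [finrank_span_eq_card hli, Fintype.card_coe, card_TT c i hi]

end dim

end basic


section ops
variable (c : ℕ) (k : Type u) [Field k] (a : ℕ → k)

lemma NF_fst (v : GcMod c k) (m : Fin c) : (NF c k a v).1 m =
    if (m.val + 1) % 2 = 0 then coefX v ((m.val + 1) / 2) ^ 2 else 0 := rfl

lemma NF_snd (v : GcMod c k) (m : Fin c) : (NF c k a v).2 m =
    if (m.val + 1) % 2 = 1 then
      ∑ j : Fin c, (if c < 2 * (j.val + 1) ∧ (j.val + 1) + m.val / 2 ≤ c then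
        v.1 j ^ 2 * a ((j.val + 1) + m.val / 2) else 0)
    else 0 := rfl

lemma coefX_eq (v : GcMod c k) (j : Fin c) : coefX v (j.val + 1) = v.1 j := by
  unfold coefX
  rw [dif_pos ⟨by omega, by have := j.2; omega⟩]
  rfl

theorem NF_pre_back (i : ℕ) (hi : i ≤ 2 * c) (v : GcMod c k)
    (hv : v ∈ Ncoord c k (c + (i + 1) / 2)) : NF c k a v ∈ Ncoord c k i := by
  rw [mem_Ncoord] at hv ⊢
  obtain ⟨_, hv2⟩ := hv
  refine ⟨fun m hm => ?_, fun m hm => ?_⟩
  · rw [NF_snd]
    split_ifs with hodd
    · apply Finset.sum_eq_zero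
      intro j _
      split_ifs with hj
      · rw [hv2 j (by have := m.2; omega), zero_pow two_ne_zero, zero_mul]
      · rfl
    · rfl
  · rw [NF_fst]
    split_ifs with hev
    · have h1 : 1 ≤ (m.val + 1) / 2 := by omega
      have h2 : (m.val + 1) / 2 ≤ c := by have := m.2; omega
      have := coefX_eq c k v ⟨(m.val + 1) / 2 - 1, by omega⟩
      simp only at this
      rw [show (m.val + 1) / 2 - 1 + 1 = (m.val + 1) / 2 by omega] at this
      rw [this, hv2 _ (by show (m.val + 1) / 2 - 1 + 1 ≤ _; omega), zero_pow two_ne_zero]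
    · rfl

theorem NF_pre_fwd (hac : a c ≠ 0) (i : ℕ) (hi : i ≤ 2 * c) (v : GcMod c k)
    (hv : NF c k a v ∈ Ncoord c k i) : v ∈ Ncoord c k (c + (i + 1) / 2) := by
  rw [mem_Ncoord] at hv ⊢
  obtain ⟨hv1, hv2⟩ := hv
  refine ⟨fun j hj => by have := j.2; omega, ?_⟩
  have key : ∀ J : ℕ, ∀ j : Fin c, j.val + 1 = J → J ≤ c - (i + 1) / 2 → v.1 j = 0 := by
    intro J
    induction J using Nat.strong_induction_on with
    | _ J ih =>
      intro j hjJ hJ
      by_cases hcase : 2 * (j.val + 1) ≤ c
      · have hm := hv2 ⟨2 * (j.val + 1) - 1, by omega⟩ (by show 2 * (j.val + 1) - 1 + 1 ≤ _; omega)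
        rw [NF_fst] at hm
        simp only at hm
        rw [if_pos (by omega), show (2 * (j.val + 1) - 1 + 1) / 2 = j.val + 1 by omega,
          coefX_eq] at hm
        exact pow_eq_zero_iff two_ne_zero |>.mp hm
      · have hm := hv1 ⟨2 * (c - J), by omega⟩ (by show min i c < 2 * (c - J) + 1; omega)
        rw [NF_snd] at hm
        simp only at hm
        rw [if_pos (by omega)] at hm
        rw [Finset.sum_eq_single j] at hm
        · rw [if_pos ⟨by omega, by omega⟩] at hm
          have h2 : j.val + 1 + 2 * (c - J) / 2 = c := by omega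
          rw [h2] at hm
          rcases mul_eq_zero.mp hm with h | h
          · exact pow_eq_zero_iff two_ne_zero |>.mp h
          · exact absurd h hac
        · intro j' _ hne
          split_ifs with hj'
          · have hlt : j'.val + 1 < J := by
              have : j'.val ≠ j.val := fun h => hne (Fin.ext h)
              omega
            rw [ih (j'.val + 1) hlt j' rfl (by omega), zero_pow two_ne_zero, zero_mul]
          · rfl
        · intro h; exact absurd (Finset.mem_univ _) h
  intro j hj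
  exact key (j.val + 1) j rfl (by omega)

end ops


section opsV
variable (c : ℕ) (k : Type u) [Field k] [CharP k 2] [PerfectRing k 2] (a : ℕ → k)

lemma NV_fst (v : GcMod c k) (m : Fin c) : (NV c k a v).1 m = 0 := rfl

lemma NV_snd (v : GcMod c k) (m : Fin c) : (NV c k a v).2 m =
    (frobeniusEquiv k 2).symm (coefY v (2 * (m.val + 1))) +
      ∑ j : Fin c, (if (j.val + 1) % 2 = 1 ∧ (m.val + 1) + j.val / 2 ≤ c then
          (frobeniusEquiv k 2).symm (v.1 j * a ((m.val + 1) + j.val / 2)) else 0) := rfl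

omit [CharP k 2] [PerfectRing k 2] in
lemma coefY_eq (v : GcMod c k) (j : Fin c) : coefY v (j.val + 1) = v.2 j := by
  unfold coefY
  rw [dif_pos ⟨by omega, by have := j.2; omega⟩]
  rfl

omit [CharP k 2] [PerfectRing k 2] in
lemma coefY_add (v w : GcMod c k) (n : ℕ) : coefY (v + w) n = coefY v n + coefY w n := by
  unfold coefY
  split_ifs
  · rfl
  · rw [add_zero]

omit [CharP k 2] [PerfectRing k 2] in
lemma coefY_smul (t : k) (v : GcMod c k) (n : ℕ) : coefY (t • v) n = t * coefY v n := by
  unfold coefY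
  split_ifs
  · rfl
  · rw [mul_zero]

lemma NV_add (v w : GcMod c k) : NV c k a (v + w) = NV c k a v + NV c k a w := by
  refine Prod.ext (funext fun m => ?_) (funext fun m => ?_)
  · show (0 : k) = 0 + 0
    rw [add_zero]
  · show (NV c k a (v + w)).2 m = (NV c k a v).2 m + (NV c k a w).2 m
    rw [NV_snd, NV_snd, NV_snd, coefY_add, map_add]
    rw [add_add_add_comm, ← Finset.sum_add_distrib]
    congr 1
    refine Finset.sum_congr rfl fun j _ => ?_
    split_ifs
    · show (frobeniusEquiv k 2).symm ((v.1 j + w.1 j) * _) = _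
      rw [add_mul, map_add]
    · rw [add_zero]

lemma NV_smul (t : k) (v : GcMod c k) :
    NV c k a (t • v) = (frobeniusEquiv k 2).symm t • NV c k a v := by
  refine Prod.ext (funext fun m => ?_) (funext fun m => ?_)
  · show (0 : k) = (frobeniusEquiv k 2).symm t * 0
    rw [mul_zero]
  · show (NV c k a (t • v)).2 m = (frobeniusEquiv k 2).symm t * (NV c k a v).2 m
    rw [NV_snd, NV_snd, coefY_smul, map_mul, mul_add ((frobeniusEquiv k 2).symm t), Finset.mul_sum]
    congr 1
    refine Finset.sum_congr rfl fun j _ => ?_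
    split_ifs
    · show (frobeniusEquiv k 2).symm ((t * v.1 j) * _) = _
      rw [mul_assoc, map_mul]
    · rw [mul_zero]

theorem NV_image_sub (i : ℕ) (hi : i ≤ 2 * c) (v : GcMod c k) (hv : v ∈ Ncoord c k i) :
    NV c k a v ∈ Ncoord c k (i / 2) := by
  rw [mem_Ncoord] at hv ⊢
  obtain ⟨hv1, hv2⟩ := hv
  refine ⟨fun m hm => ?_, fun m _ => rfl⟩
  rw [NV_snd]
  have h1 : coefY v (2 * (m.val + 1)) = 0 := by
    unfold coefY
    split_ifs with h
    · exact hv1 _ (by show min i c < 2 * (m.val + 1) - 1 + 1; omega)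
    · rfl
  rw [h1, map_zero, zero_add]
  apply Finset.sum_eq_zero
  intro j _
  split_ifs with hj
  · rw [hv2 j (by have := m.2; omega), zero_mul, map_zero]
  · rfl


/-- the image of `Ncoord i` under `NV`, as a submodule -/
noncomputable def imgV (i : ℕ) : Submodule k (GcMod c k) where
  carrier := NV c k a '' (Ncoord c k i : Set (GcMod c k))
  add_mem' := by
    rintro _ _ ⟨v, hv, rfl⟩ ⟨w, hw, rfl⟩
    exact ⟨v + w, add_mem hv hw, NV_add c k a v w⟩
  zero_mem' := ⟨0, zero_mem _, by
    have := NV_smul c k a 0 0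
    rw [zero_smul, map_zero, zero_smul] at this
    exact this⟩
  smul_mem' := by
    rintro t _ ⟨v, hv, rfl⟩
    refine ⟨(t ^ 2) • v, Submodule.smul_mem _ _ hv, ?_⟩
    rw [NV_smul, frobeniusEquiv_symm_pow]

lemma mem_imgV {i : ℕ} {w : GcMod c k} :
    w ∈ imgV c k a i ↔ ∃ v ∈ Ncoord c k i, NV c k a v = w := Iff.rfl

lemma NV_Y (n : ℕ) (hn : 1 ≤ n) (h2n : 2 * n ≤ c) : NV c k a (Y c k (2 * n)) = Y c k n := by
  refine Prod.ext (funext fun m => ?_) (funext fun m => ?_)
  · rfl
  · show (NV c k a (Y c k (2 * n))).2 m = (if m.val + 1 = n then (1 : k) else 0)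
    rw [NV_snd]
    have h1 : ∀ j : Fin c, (Y c k (2 * n)).1 j = 0 := fun j => rfl
    simp only [h1, zero_mul, map_zero, ite_self, Finset.sum_const_zero, add_zero]
    unfold coefY
    by_cases hmn : m.val + 1 = n
    · rw [dif_pos ⟨by omega, by omega⟩, if_pos hmn]
      show (frobeniusEquiv k 2).symm (if 2 * (m.val + 1) - 1 + 1 = 2 * n then (1 : k) else 0) = 1
      rw [if_pos (by omega), map_one]
    · rw [if_neg hmn]
      split_ifs with h
      · show (frobeniusEquiv k 2).symm (if 2 * (m.val + 1) - 1 + 1 = 2 * n then (1 : k) else 0) = 0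
        rw [if_neg (by omega), map_zero]
      · rw [map_zero]

lemma NV_X_snd (n : ℕ) (hn : 1 ≤ n) (hnc : n ≤ c) (h2n : c < 2 * n) (m : Fin c) :
    (NV c k a (X c k (2 * (c - n) + 1))).2 m =
      if m.val + 1 ≤ n then (frobeniusEquiv k 2).symm (a (m.val + 1 + (c - n))) else 0 := by
  rw [NV_snd]
  have h0 : coefY (X c k (2 * (c - n) + 1)) (2 * (m.val + 1)) = 0 := by
    unfold coefY
    split_ifs <;> rfl
  rw [h0, map_zero, zero_add]
  rw [Finset.sum_eq_single (⟨2 * (c - n), by omega⟩ : Fin c)]
  · simp only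
    have hX : (X c k (2 * (c - n) + 1)).1 (⟨2 * (c - n), by omega⟩ : Fin c) = 1 := by
      show (if 2 * (c - n) + 1 = 2 * (c - n) + 1 then (1 : k) else 0) = 1
      rw [if_pos rfl]
    rw [hX, one_mul]
    by_cases hm : m.val + 1 ≤ n
    · rw [if_pos ⟨by omega, by omega⟩, if_pos hm]
      congr 2
      omega
    · rw [if_neg (by omega), if_neg hm]
  · intro j _ hne
    have hX : (X c k (2 * (c - n) + 1)).1 j = 0 := by
      show (if j.val + 1 = 2 * (c - n) + 1 then (1 : k) else 0) = 0
      rw [if_neg]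
      intro h
      apply hne
      exact Fin.ext (by simp only; omega)
    rw [hX, zero_mul, map_zero, ite_self]
  · intro h; exact absurd (Finset.mem_univ _) h

theorem Y_mem_imgV (hac : a c ≠ 0) (i : ℕ) (hi : i ≤ 2 * c) :
    ∀ n : ℕ, 1 ≤ n → n ≤ i / 2 → Y c k n ∈ imgV c k a i := by
  intro n
  induction n using Nat.strong_induction_on with
  | _ n ih =>
    intro hn1 hni
    by_cases h2n : 2 * n ≤ c
    · rw [mem_imgV]
      refine ⟨Y c k (2 * n), ?_, NV_Y c k a n hn1 h2n⟩
      rw [mem_Ncoord]
      refine ⟨fun j hj => ?_, fun j _ => rfl⟩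
      show (if j.val + 1 = 2 * n then (1 : k) else 0) = 0
      rw [if_neg]; omega
    · push Not at h2n
      have hnc : n ≤ c := by omega
      set w := NV c k a (X c k (2 * (c - n) + 1)) with hw
      have hwmem : w ∈ imgV c k a i := by
        rw [mem_imgV]
        refine ⟨X c k (2 * (c - n) + 1), ?_, rfl⟩
        rw [mem_Ncoord]
        refine ⟨fun j _ => rfl, fun j hj => ?_⟩
        show (if j.val + 1 = 2 * (c - n) + 1 then (1 : k) else 0) = 0
        rw [if_neg]; omega
      have hw1 : ∀ j : Fin c, w.1 j = 0 := fun j => rfl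
      have hw2 : ∀ m : Fin c, w.2 m =
          if m.val + 1 ≤ n then (frobeniusEquiv k 2).symm (a (m.val + 1 + (c - n))) else 0 :=
        fun m => NV_X_snd c k a n hn1 hnc h2n m
      have hdec := decompose w
      simp only [hw1, zero_smul, Finset.sum_const_zero, zero_add] at hdec
      let m0 : Fin c := ⟨n - 1, by omega⟩
      rw [← Finset.add_sum_erase Finset.univ _ (Finset.mem_univ m0)] at hdec
      have hrest : ∑ m ∈ Finset.univ.erase m0, w.2 m • Y c k (m.val + 1) ∈ imgV c k a i := by
        refine Submodule.sum_mem _ fun m hm => ?_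
        rw [Finset.mem_erase] at hm
        have hne : m.val ≠ n - 1 := fun h => hm.1 (Fin.ext h)
        rw [hw2]
        split_ifs with hmn
        · apply Submodule.smul_mem
          exact ih (m.val + 1) (by omega) (by omega) (by omega)
        · rw [zero_smul]; exact Submodule.zero_mem _
      have hmain : w.2 m0 • Y c k (m0.val + 1) ∈ imgV c k a i := by
        have : w.2 m0 • Y c k (m0.val + 1) =
            w - ∑ m ∈ Finset.univ.erase m0, w.2 m • Y c k (m.val + 1) := by
          rw [eq_sub_iff_add_eq]; exact hdec.symm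
        rw [this]
        exact Submodule.sub_mem _ hwmem hrest
      have hm0 : m0.val + 1 = n := by show n - 1 + 1 = n; omega
      rw [hm0] at hmain
      have hcoef : w.2 m0 = (frobeniusEquiv k 2).symm (a c) := by
        rw [hw2, if_pos (by omega)]
        congr 2
        omega
      have hne : w.2 m0 ≠ 0 := by
        rw [hcoef]
        intro h
        apply hac
        have := (frobeniusEquiv k 2).symm.map_eq_zero_iff.mp h
        exact this
      have := Submodule.smul_mem (imgV c k a i) (w.2 m0)⁻¹ hmain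
      rwa [smul_smul, inv_mul_cancel₀ hne, one_smul] at this

theorem NV_image_sup (hac : a c ≠ 0) (i : ℕ) (hi : i ≤ 2 * c) (w : GcMod c k)
    (hw : w ∈ Ncoord c k (i / 2)) : w ∈ imgV c k a i := by
  rw [mem_Ncoord] at hw
  rw [decompose w]
  refine Submodule.add_mem _ (Submodule.sum_mem _ fun j _ => ?_) (Submodule.sum_mem _ fun j _ => ?_)
  · rw [hw.2 j (by have := j.2; omega), zero_smul]
    exact Submodule.zero_mem _
  · by_cases hj : min (i / 2) c < j.val + 1
    · rw [hw.1 j hj, zero_smul]; exact Submodule.zero_mem _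
    · apply Submodule.smul_mem
      exact Y_mem_imgV c k a hac i hi (j.val + 1) (by omega) (by omega)


theorem main (hac : a c ≠ 0) (i : ℕ) (hi : i ≤ 2 * c) :
    Module.finrank k (Nfil c k i) = i ∧
      NV c k a '' (Nfil c k i : Set (GcMod c k)) = (Nfil c k (i / 2) : Set (GcMod c k)) ∧
      NF c k a ⁻¹' (Nfil c k i : Set (GcMod c k)) =
        (Nfil c k (c + (i + 1) / 2) : Set (GcMod c k)) := by
  refine ⟨finrank_Nfil c k i hi, ?_, ?_⟩
  · rw [Nfil_eq, Nfil_eq]
    ext w
    constructor
    · rintro ⟨v, hv, rfl⟩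
      exact NV_image_sub c k a i hi v hv
    · intro hw
      exact NV_image_sup c k a hac i hi w hw
  · rw [Nfil_eq, Nfil_eq]
    ext v
    constructor
    · intro hv
      exact NF_pre_fwd c k a hac i hi v hv
    · intro hv
      exact NF_pre_back c k a i hi v hv

end opsV

end Aux

/-- Let `k` be a perfect field of characteristic `2`, `c` a natural number and `a_1, …, a_c ∈ k` with
`a_c ≠ 0`. On the `2c`-dimensional `k`-space with basis `λ_1, …, λ_c, σ_1, …, σ_c` let `F` be
Frobenius-semilinear with `F λ_j = 0`, `F σ_j = σ_{2j}` for `2j ≤ c`, `F σ_j = Σ_{i=j}^{c} a_i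
λ_{2i-2j+1}` for `2j > c`, and `V` inverse-Frobenius-semilinear with `V λ_j = λ_{j/2}` (`j` even),
`0` (`j` odd), `V σ_j = 0` (`j` even), `V σ_j = Σ_{i=(j+1)/2}^{c} a_i^{1/2} λ_{i-(j-1)/2}` (`j` odd)
— the shape of `F` and `V` on the block of the first de Rham cohomology of `y² − y = f(x)` belonging
to a branch point with invariant `d = 2c + 1`, `a_i` the coefficients of the odd polynomial `f_α`.
Put `N_i = ⟨λ_1, …, λ_i⟩` for `i ≤ c` and `N_i = ⟨λ_1, …, λ_c, σ_{2c-i+1}, …, σ_c⟩` for `c ≤ i ≤
2c`. Then for `0 ≤ i ≤ 2c`: `dim N_i = i`, `V(N_i) = N_{⌊i/2⌋}` and `F⁻¹(N_i) = N_{c+⌈i/2⌉}`; so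
`(N_i)` is a final filtration with `dim V(N_i) = ⌊i/2⌋`. (The published statement adjoins the `σ_j`
starting from `σ_1`; then `V(N_{c+1})` contains `V σ_1`, whose `λ_c`-coefficient is a square root of
`a_c ≠ 0`, so it is not `N_{⌊(c+1)/2⌋}` once `c ≥ 2`; adjoining them from `σ_c` downward, as here,
makes both identities hold.) -/
theorem result (c : ℕ) (k : Type u) [Field k] [CharP k 2] [PerfectRing k 2]
    (a : ℕ → k) (ha : a c ≠ 0) (i : ℕ) (hi : i ≤ 2 * c) :
    Module.finrank k (W4c6eohyperellchar2.Nfil c k i) = i ∧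
      W4c6eohyperellchar2.NV c k a '' (W4c6eohyperellchar2.Nfil c k i : Set (W4c6eohyperellchar2.GcMod c k)) = (W4c6eohyperellchar2.Nfil c k (i / 2) : Set (W4c6eohyperellchar2.GcMod c k)) ∧
      W4c6eohyperellchar2.NF c k a ⁻¹' (W4c6eohyperellchar2.Nfil c k i : Set (W4c6eohyperellchar2.GcMod c k)) = (W4c6eohyperellchar2.Nfil c k (c + (i + 1) / 2) : Set (W4c6eohyperellchar2.GcMod c k)) := by
  exact Aux.main c k a ha i hi

end Groth.Agent.S19048
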