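import Groth.Statements.S19106
import Mathlib

set_option autoImplicit false
open HilbD

namespace Groth.Agent.S19106

/-- Let μ be a non-empty Young diagram, V the number of its cells, E the number of unordered pairs of
cells sharing a side (a cell together with the cell immediately below it, or immediately to its
right, both in μ) and Q the number of 2 × 2 blocks of cells of μ (cells c such that the cell
diagonally below-right of c is in μ, the other two corners being in μ automatically). Then V − E + Q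
− 1 = 0, stated as V + Q = E + 1 in the naturals. (The empty diagram, for which the count reads 0 −
0 + 0 − 1, is excluded.) -/
theorem result (μ : YoungDiagram) (hμ : μ ≠ ⊥) :
    μ.cells.card + (μ.cells.filter (fun c => (c.1 + 1, c.2 + 1) ∈ μ)).card =
      (μ.cells.filter (fun c => (c.1 + 1, c.2) ∈ μ)).card + (μ.cells.filter (fun c => (c.1, c.2 + 1) ∈ μ)).card + 1 := by
  classical
  -- (0,0) ∈ μ
  have h00 : ((0, 0) : ℕ × ℕ) ∈ μ := by
    have : μ.cells.Nonempty := by
      rw [Finset.nonempty_iff_ne_empty]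
      intro h
      apply hμ
      apply YoungDiagram.ext
      rw [h]; rfl
    obtain ⟨⟨i, j⟩, hc⟩ := this
    exact μ.up_left_mem (Nat.zero_le i) (Nat.zero_le j) ((YoungDiagram.mem_cells _).1 hc)
  -- shifting bijections
  have hD : (μ.cells.filter (fun c => (c.1 + 1, c.2) ∈ μ)).card = (μ.cells.filter (fun c => c.1 ≠ 0)).card := by
    apply Finset.card_bij (fun c _ => (c.1 + 1, c.2))
    · intro c hc
      simp only [Finset.mem_filter, YoungDiagram.mem_cells] at hc ⊢
      exact ⟨hc.2, Nat.succ_ne_zero _⟩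
    · intro c _ c' _ h
      simp only [Prod.mk.injEq, add_left_inj] at h
      exact Prod.ext h.1 h.2
    · rintro ⟨i, j⟩ hc
      simp only [Finset.mem_filter, YoungDiagram.mem_cells] at hc
      obtain ⟨i', rfl⟩ := Nat.exists_eq_succ_of_ne_zero hc.2
      refine ⟨(i', j), ?_, rfl⟩
      simp only [Finset.mem_filter, YoungDiagram.mem_cells]
      exact ⟨μ.up_left_mem (Nat.le_succ i') le_rfl hc.1, hc.1⟩
  have hR : (μ.cells.filter (fun c => (c.1, c.2 + 1) ∈ μ)).card = (μ.cells.filter (fun c => c.2 ≠ 0)).card := by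
    apply Finset.card_bij (fun c _ => (c.1, c.2 + 1))
    · intro c hc
      simp only [Finset.mem_filter, YoungDiagram.mem_cells] at hc ⊢
      exact ⟨hc.2, Nat.succ_ne_zero _⟩
    · intro c _ c' _ h
      simp only [Prod.mk.injEq, add_left_inj] at h
      exact Prod.ext h.1 h.2
    · rintro ⟨i, j⟩ hc
      simp only [Finset.mem_filter, YoungDiagram.mem_cells] at hc
      obtain ⟨j', rfl⟩ := Nat.exists_eq_succ_of_ne_zero hc.2
      refine ⟨(i, j'), ?_, rfl⟩
      simp only [Finset.mem_filter, YoungDiagram.mem_cells]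
      exact ⟨μ.up_left_mem le_rfl (Nat.le_succ j') hc.1, hc.1⟩
  have hQ : (μ.cells.filter (fun c => (c.1 + 1, c.2 + 1) ∈ μ)).card =
      (μ.cells.filter (fun c => c.1 ≠ 0 ∧ c.2 ≠ 0)).card := by
    apply Finset.card_bij (fun c _ => (c.1 + 1, c.2 + 1))
    · intro c hc
      simp only [Finset.mem_filter, YoungDiagram.mem_cells] at hc ⊢
      exact ⟨hc.2, Nat.succ_ne_zero _, Nat.succ_ne_zero _⟩
    · intro c _ c' _ h
      simp only [Prod.mk.injEq, add_left_inj] at h
      exact Prod.ext h.1 h.2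
    · rintro ⟨i, j⟩ hc
      simp only [Finset.mem_filter, YoungDiagram.mem_cells] at hc
      obtain ⟨i', rfl⟩ := Nat.exists_eq_succ_of_ne_zero hc.2.1
      obtain ⟨j', rfl⟩ := Nat.exists_eq_succ_of_ne_zero hc.2.2
      refine ⟨(i', j'), ?_, rfl⟩
      simp only [Finset.mem_filter, YoungDiagram.mem_cells]
      exact ⟨μ.up_left_mem (Nat.le_succ i') (Nat.le_succ j') hc.1, hc.1⟩
  rw [hD, hR, hQ]
  -- split by the four classes
  have s1 : μ.cells.card = (μ.cells.filter (fun c => c.1 ≠ 0)).card + (μ.cells.filter (fun c => ¬ c.1 ≠ 0)).card :=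
    (Finset.card_filter_add_card_filter_not _).symm
  have s2 : (μ.cells.filter (fun c => c.1 ≠ 0)).card =
      (μ.cells.filter (fun c => c.1 ≠ 0 ∧ c.2 ≠ 0)).card + (μ.cells.filter (fun c => c.1 ≠ 0 ∧ ¬ c.2 ≠ 0)).card := by
    rw [← Finset.card_filter_add_card_filter_not (s := μ.cells.filter (fun c => c.1 ≠ 0)) (fun c => c.2 ≠ 0),
      Finset.filter_filter, Finset.filter_filter]
  have s3 : (μ.cells.filter (fun c => c.2 ≠ 0)).card =
      (μ.cells.filter (fun c => c.1 ≠ 0 ∧ c.2 ≠ 0)).card + (μ.cells.filter (fun c => ¬ c.1 ≠ 0 ∧ c.2 ≠ 0)).card := by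
    rw [← Finset.card_filter_add_card_filter_not (s := μ.cells.filter (fun c => c.2 ≠ 0)) (fun c => c.1 ≠ 0),
      Finset.filter_filter, Finset.filter_filter]
    simp only [and_comm]
  have s4 : (μ.cells.filter (fun c => ¬ c.1 ≠ 0)).card =
      (μ.cells.filter (fun c => ¬ c.1 ≠ 0 ∧ c.2 ≠ 0)).card + (μ.cells.filter (fun c => ¬ c.1 ≠ 0 ∧ ¬ c.2 ≠ 0)).card := by
    rw [← Finset.card_filter_add_card_filter_not (s := μ.cells.filter (fun c => ¬ c.1 ≠ 0)) (fun c => c.2 ≠ 0),
      Finset.filter_filter, Finset.filter_filter]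
  have s5 : (μ.cells.filter (fun c => ¬ c.1 ≠ 0 ∧ ¬ c.2 ≠ 0)).card = 1 := by
    rw [Finset.card_eq_one]
    refine ⟨(0, 0), ?_⟩
    ext ⟨i, j⟩
    simp only [ne_eq, not_not, Finset.mem_filter, YoungDiagram.mem_cells, Finset.mem_singleton,
      Prod.mk.injEq]
    constructor
    · rintro ⟨_, h1, h2⟩; exact ⟨h1, h2⟩
    · rintro ⟨rfl, rfl⟩; exact ⟨h00, rfl, rfl⟩
  omega

end Groth.Agent.S19106
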