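import Groth.Statements.S19130
import Mathlib
import Groth.Statements.S19130
import Groth.Prelude.Def_EtBase
import Groth.Prelude.Def_EtCore
import Groth.Agent.Lib.Helper9.FE.FlasqC
import Groth.Agent.S0627
-- import your own Groth.Agent.* helpers here

set_option autoImplicit false
universe u
open CategoryTheory CategoryTheory.Limits AlgebraicGeometry Opposite
open EtCoh

namespace Groth.Agent.S19130

open CategoryTheory CategoryTheory.Limits AlgebraicGeometry Opposite
namespace Aux
set_option linter.unusedSectionVars false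
set_option linter.style.haveILetI false
set_option backward.isDefEq.respectTransparency false
open H9FE H9FE.FlasqC

theorem card_H0 (p : ℕ) [Fact p.Prime] (Y : Scheme.{u}) [IsIntegral Y] :
    Nat.card (EtCoh.H Y (EtCoh.const Y (ZMod p)) 0) = p := by
  let A : AddCommGrpCat.{u + 1} := AddCommGrpCat.of (ULift.{u + 1} (ZMod p))
  let hT := EtCore.topIsTerminal Y
  have e1 : EtCoh.H Y (EtCoh.const Y (ZMod p)) 0 ≃
      (ConstUnit.cS Y A).obj.obj (op (EtCoh.top Y)) :=
    (Sheaf.H.equiv₀ (EtCoh.const Y (ZMod p)) hT).toEquiv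
  haveI : Nonempty (EtCoh.top Y).left := (inferInstance : Nonempty Y)
  haveI : PreirreducibleSpace (EtCoh.top Y).left := (inferInstance : PreirreducibleSpace Y)
  have e2 : A ≃ (ConstUnit.cS Y A).obj.obj (op (EtCoh.top Y)) :=
    Equiv.ofBijective
      (fun a => (toSheafify Y.smallEtaleTopology (ConstUnit.cP Y A)).app (op (EtCoh.top Y)) a)
      ⟨fun a b h => ConstUnit.ts_injective Y A _ a b h,
        fun s => ConstUnit.ts_surjective Y A _ s⟩
  rw [Nat.card_congr e1, ← Nat.card_congr e2]
  show Nat.card (ULift.{u + 1} (ZMod p)) = p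
  rw [Nat.card_congr Equiv.ulift, Nat.card_zmod]

theorem main (p : ℕ) [Fact p.Prime] (Y : Scheme.{u}) [IsIntegral Y]
    (hnorm : ∀ y : Y, IsIntegrallyClosed (Y.presheaf.stalk y)) [IsAlgClosed Y.functionField] :
    Nat.card (EtCoh.H Y (EtCoh.const Y (ZMod p)) 0) = p ∧
      (∀ i : ℕ, 0 < i → Subsingleton (EtCoh.H Y (EtCoh.const Y (ZMod p)) i)) ∧
      ∀ U : Y.Opens, (U : Set Y).Nonempty →
        IsIso ((EtCoh.pullPushAdj U.ι).unit.app (EtCoh.const Y (ZMod p))) := by
  haveI : IsSepClosed Y.functionField := inferInstance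
  refine ⟨card_H0 p Y, fun i hi => ?_, fun U hU => ?_⟩
  · exact H_subsingleton hnorm (EtCoh.const Y (ZMod p))
      (flq_const (AddCommGrpCat.of (ULift.{u + 1} (ZMod p)))) i hi
  · exact Groth.Agent.S0627.result Y hnorm U hU (ZMod p)

end Aux

/-- Let p be a prime and Y an integral scheme which is normal (every local ring is integrally closed in
its fraction field) and whose function field is algebraically closed. Then the étale cohomology of
the constant sheaf Z/p on Y is Z/p in degree 0 and vanishes in positive degrees: H^0(Y_et, Z/p) has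
exactly p elements and H^i(Y_et, Z/p) = 0 for i > 0. Moreover, for every nonempty open subscheme j :
U → Y, the unit morphism from the constant sheaf Z/p on Y_et to j_* of its restriction to U is an
isomorphism. -/
theorem result
    (p : ℕ) [Fact p.Prime] (Y : Scheme.{u}) [IsIntegral Y]
    (hnorm : ∀ y : Y, IsIntegrallyClosed (Y.presheaf.stalk y)) [IsAlgClosed Y.functionField] :
    Nat.card (EtCoh.H Y (EtCoh.const Y (ZMod p)) 0) = p ∧
      (∀ i : ℕ, 0 < i → Subsingleton (EtCoh.H Y (EtCoh.const Y (ZMod p)) i)) ∧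
      ∀ U : Y.Opens, (U : Set Y).Nonempty →
        IsIso ((EtCoh.pullPushAdj U.ι).unit.app (EtCoh.const Y (ZMod p))) := by
  exact Aux.main p Y hnorm

end Groth.Agent.S19130
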