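import Groth.Statements.S19148
import Mathlib

set_option autoImplicit false
open scoped TensorProduct
universe u v
open FiltMod

set_option linter.style.haveILetI false
set_option linter.unusedSectionVars false

namespace S19148aux

variable {R : Type u} [CommRing R] {M : Type v} [AddCommGroup M] [Module R M]
    [Module.Finite R M] [Module.Projective R M]

/-- functionals separate points of a finite projective module -/
theorem eq_zero_of_forall_dual (m : M) (h : ∀ χ : M →ₗ[R] R, χ m = 0) : m = 0 := by
  obtain ⟨n, f, g, -, -, hfg⟩ := Module.Finite.exists_comp_eq_id_of_projective R M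
  have h1 : f (g m) = m := by
    have := congrArg (fun φ => φ m) hfg
    simpa using this
  have h2 : g m = 0 := by
    ext j
    exact h ((LinearMap.proj j) ∘ₗ g)
  rw [← h1, h2, map_zero]

theorem le_of_range_eq (F₁ F₂ : Submodule R M)
    (h₁ : ∃ C : Submodule R M, IsCompl F₁ C) (h₂ : ∃ C : Submodule R M, IsCompl F₂ C) (j : ℕ)
    (hr : LinearMap.range (PiTensorProduct.map (R := R) (fun _ : Fin (j + 1) => F₁.subtype)) =
      LinearMap.range (PiTensorProduct.map (R := R) (fun _ : Fin (j + 1) => F₂.subtype))) :
    F₁ ≤ F₂ := by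
  obtain ⟨C₁, hC₁⟩ := h₁
  obtain ⟨C₂, hC₂⟩ := h₂
  -- main vanishing
  have hmain : ∀ (ξ : Fin (j + 1) → (M →ₗ[R] R)), (∀ z ∈ F₂, ξ (Fin.last j) z = 0) →
      ∀ x : Fin (j + 1) → F₁, ∏ i, ξ i (x i) = 0 := by
    intro ξ hξ x
    let Λ : (⨂[R] _ : Fin (j + 1), M) →ₗ[R] R :=
      PiTensorProduct.lift ((MultilinearMap.mkPiAlgebra R (Fin (j + 1)) R).compLinearMap ξ)
    have hΛ : Λ ∘ₗ PiTensorProduct.map (R := R) (fun _ : Fin (j + 1) => F₂.subtype) = 0 := by
      apply PiTensorProduct.ext
      apply MultilinearMap.ext
      intro z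
      simp only [LinearMap.compMultilinearMap_apply, LinearMap.comp_apply,
        PiTensorProduct.map_tprod, Λ, PiTensorProduct.lift.tprod,
        MultilinearMap.compLinearMap_apply, MultilinearMap.mkPiAlgebra_apply, LinearMap.zero_apply,
        Submodule.subtype_apply]
      exact Finset.prod_eq_zero (Finset.mem_univ (Fin.last j)) (hξ _ (z (Fin.last j)).2)
    have hx : PiTensorProduct.tprod R (fun i => ((x i : F₁) : M)) ∈
        LinearMap.range (PiTensorProduct.map (R := R) (fun _ : Fin (j + 1) => F₂.subtype)) := by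
      rw [← hr]
      exact ⟨PiTensorProduct.tprod R x, by simp⟩
    obtain ⟨w, hw⟩ := hx
    have := congrArg (fun φ => φ w) hΛ
    simp only [LinearMap.comp_apply, LinearMap.zero_apply, hw] at this
    simpa [Λ] using this
  -- dual basis of F₁
  haveI : Module.Finite R F₁ :=
    Module.Finite.of_surjective (Submodule.projectionOnto F₁ C₁ hC₁)
      (Submodule.projectionOnto_surjective hC₁)
  haveI : Module.Projective R F₁ :=
    Module.Projective.of_split F₁.subtype (Submodule.projectionOnto F₁ C₁ hC₁) (by
      ext x; simp [Submodule.projectionOnto_apply_left])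
  obtain ⟨n, f, g, -, -, hfg⟩ := Module.Finite.exists_comp_eq_id_of_projective R F₁
  let ψ : Fin n → (M →ₗ[R] R) := fun b =>
    (LinearMap.proj b) ∘ₗ g ∘ₗ (Submodule.projectionOnto F₁ C₁ hC₁)
  have hexp : ∀ x : F₁, x = ∑ b, ψ b (x : M) • f (Pi.single b 1) := by
    intro x
    have h1 : f (g x) = x := by
      have := congrArg (fun φ => φ x) hfg
      simpa using this
    have h2 : g x = ∑ b, g x b • (Pi.single b 1 : Fin n → R) := by
      ext i
      simp [Finset.sum_apply, Pi.single_apply]
    conv_lhs => rw [← h1, h2]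
    rw [map_sum]
    refine Finset.sum_congr rfl fun b _ => ?_
    rw [map_smul]
    simp [ψ, Submodule.projectionOnto_apply_left]
  -- downward induction
  have hind : ∀ i : ℕ, i ≤ j → ∀ (φ : Fin i → (M →ₗ[R] R)) (y : Fin i → F₁) (ξ : M →ₗ[R] R),
      (∀ z ∈ F₂, ξ z = 0) → ∀ x : F₁, (∏ a, φ a (y a)) * ξ x = 0 := by
    intro i hi
    induction' h : j - i with d ih generalizing i
    · have hij : i = j := by omega
      subst hij
      intro φ y ξ hξ x
      have := hmain (Fin.snoc φ ξ) (by simpa using hξ) (Fin.snoc y x)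
      rw [Fin.prod_univ_castSucc] at this
      simpa using this
    · intro φ y ξ hξ x
      have hstep := ih (i + 1) (by omega) (by omega)
      conv_lhs => rw [hexp x]
      simp only [Submodule.coe_sum, Submodule.coe_smul, map_sum, map_smul, smul_eq_mul,
        Finset.mul_sum]
      refine Finset.sum_eq_zero fun b _ => ?_
      have := hstep (Fin.snoc φ (ψ b)) (Fin.snoc y x) ξ hξ (f (Pi.single b 1))
      rw [Fin.prod_univ_castSucc] at this
      simp only [Fin.snoc_castSucc, Fin.snoc_last] at this
      rw [← mul_assoc]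
      exact this
  have h0 := hind 0 (Nat.zero_le _) Fin.elim0 Fin.elim0
  intro x hx
  have hproj : Submodule.projectionOnto C₂ F₂ hC₂.symm x = 0 := by
    apply Subtype.ext
    refine eq_zero_of_forall_dual (R := R) _ ?_
    intro χ
    have := h0 (χ ∘ₗ C₂.subtype ∘ₗ Submodule.projectionOnto C₂ F₂ hC₂.symm) (by
      intro z hz
      simp [Submodule.projectionOnto_apply_of_mem_right hC₂.symm hz]) ⟨x, hx⟩
    simpa using this
  have hker := Submodule.ker_projectionOnto hC₂.symm
  rw [← hker]
  exact hproj

end S19148aux

namespace Groth.Agent.S19148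

/-- In affine form, let R be a commutative ring, M a finitely generated projective R-module (a finite
locally free sheaf on Spec R), F₁ and F₂ direct summands of M and k ≥ 1. Then the images of F₁^{⊗k}
and F₂^{⊗k} in the k-th tensor power M^{⊗k} are equal if and only if F₁ = F₂. (The source states
this for local direct factors of a finite locally free sheaf on a scheme; equality of subsheaves
being local, this is the affine case with global direct summands, to which it reduces.) -/
theorem result {R : Type u} [CommRing R] {M : Type v} [AddCommGroup M] [Module R M]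
    [Module.Finite R M] [Module.Projective R M] (F₁ F₂ : Submodule R M)
    (h₁ : ∃ C : Submodule R M, IsCompl F₁ C) (h₂ : ∃ C : Submodule R M, IsCompl F₂ C) (k : ℕ) (hk : 1 ≤ k) :
    LinearMap.range (PiTensorProduct.map (R := R) (fun _ : Fin k => F₁.subtype)) =
      LinearMap.range (PiTensorProduct.map (R := R) (fun _ : Fin k => F₂.subtype)) ↔ F₁ = F₂ := by
  obtain ⟨j, rfl⟩ : ∃ j, k = j + 1 := ⟨k - 1, by omega⟩
  constructor
  · intro h
    exact le_antisymm (S19148aux.le_of_range_eq F₁ F₂ h₁ h₂ j h)
      (S19148aux.le_of_range_eq F₂ F₁ h₂ h₁ j h.symm)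
  · rintro rfl
    rfl

end Groth.Agent.S19148
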