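import Groth.Statements.S19155
import Mathlib
import Groth.Agent.Lib.Helper7.RootD.Faithful
import Groth.Agent.Lib.Helper7.RootD.Trans

set_option autoImplicit false
open RootPairing
open RootD

namespace Groth.Agent.S19155

namespace H19155
open RootPairing RootD Set Function Groth.Agent.Helper7.RD

variable {ι M N : Type*} [AddCommGroup M] [AddCommGroup N] {P : RootPairing ι ℤ M N} [Finite ι]
  {Γ : Type*} [AddCommGroup Γ] [LinearOrder Γ] [IsOrderedAddMonoid Γ] {Δ : Set ι}

lemma exists_dominant {S : Set ι} (hS : IsPosSys P S) (f : M →+ Γ) :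
    ∃ g : P.Aut, g ∈ P.weylGroup ∧ ∀ i ∈ S, 0 ≤ f (g • P.root i) := by
  let P' : Set ι := {i | 0 ≤ f (P.root i)}
  have hP2 : ∀ i, i ∈ P' ∨ P.reflectionPerm i i ∈ P' := by
    intro i
    rcases le_total 0 (f (P.root i)) with h | h
    · left; exact h
    · right
      show 0 ≤ f (P.root (P.reflectionPerm i i))
      rw [P.root_reflectionPerm, P.reflection_apply_self, map_neg]
      exact neg_nonneg.2 h
  have hcl : IsClosedSub P P' := by
    intro i j k hi hj hk
    show 0 ≤ f (P.root k)
    rw [hk, map_add]; exact add_nonneg hi hj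
  obtain ⟨g, hg, hsub⟩ := exists_smul_subset hS hP2 hcl
  refine ⟨g, hg, fun i hi => ?_⟩
  have : g • i ∈ P' := hsub ⟨i, hi, rfl⟩
  rw [← root_smul]; exact this

lemma comp_eq_of_dominant (hΔ : IsSimpleSys P Δ) (f : M →+ Γ) :
    ∀ (n : ℕ) (l : List ι), l.length = n → (∀ a ∈ l, a ∈ Δ) →
      (∀ i ∈ posOf P Δ, 0 ≤ f (P.root i)) →
      (∀ i ∈ posOf P Δ, 0 ≤ f (wprod P l • P.root i)) →
      ∀ m : M, f (wprod P l • m) = f m := by
  intro n
  induction n using Nat.strong_induction_on with
  | _ n ih =>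
    intro l hlen hl hdom hdomw m
    by_cases hw1 : wprod P l = 1
    · rw [hw1, one_smul]
    · have hex : ¬ ∀ i ∈ Δ, wprod P l • i ∈ posOf P Δ := fun h =>
        hw1 (eq_one_of_smul_mem_posOf hΔ (wprod_mem_WΔ hl) h)
      push Not at hex
      obtain ⟨a, ha, hna⟩ := hex
      have hneg : neg P (wprod P l • a) ∈ posOf P Δ := (mem_posOf_or_neg hΔ _).resolve_left hna
      obtain ⟨l'', hl'', hlen'', hw⟩ := exists_shorter hΔ l hl ha hneg
      have h1 : 0 ≤ f (wprod P l • P.root a) := hdomw a (subset_posOf hΔ ha)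
      have h2 : 0 ≤ f (P.root (neg P (wprod P l • a))) := hdom _ hneg
      rw [root_neg, root_smul, map_neg] at h2
      have h0 : f (wprod P l • P.root a) = 0 := le_antisymm (neg_nonneg.1 h2) h1
      have hww' : ∀ x : M, f (wprod P l'' • x) = f (wprod P l • x) := by
        intro x
        have h3 : wprod P l'' = wprod P l * Equiv.reflection P a := by
          rw [hw, mul_assoc, reflection_mul_self, mul_one]
        rw [h3, mul_smul, Equiv.reflection_smul, P.reflection_apply, smul_sub, map_sub,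
          smul_zsmul, map_zsmul, h0, smul_zero, sub_zero]
      have h4 := ih l''.length (by omega) l'' rfl hl'' hdom
        (fun i hi => by rw [hww']; exact hdomw i hi) m
      rw [← hww', h4]

theorem main (P : RootPairing ι ℤ M N) (S : Set ι) (hS : RootD.IsPosSys P S)
    (f : M →+ Γ) :
    (∃ g : P.Aut, g ∈ P.weylGroup ∧ ∀ i ∈ S, 0 ≤ f (RootPairing.Equiv.weightHom P g (P.root i))) ∧
    (∀ g : P.Aut, g ∈ P.weylGroup → (∀ i ∈ S, 0 ≤ f (P.root i)) →
      (∀ i ∈ S, 0 ≤ f (RootPairing.Equiv.weightHom P g (P.root i))) →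
      ∀ m : M, f (RootPairing.Equiv.weightHom P g m) = f m) := by
  refine ⟨exists_dominant hS f, ?_⟩
  obtain ⟨Δ, hΔ, rfl⟩ := exists_eq_posOf hS
  intro g hg hdom hdomg m
  rw [← WΔ_eq_weylGroup hΔ] at hg
  obtain ⟨l, hl, rfl⟩ := exists_wprod_eq hg
  exact comp_eq_of_dominant hΔ f _ l rfl hl hdom hdomg m

end H19155

/-- Let P be a root datum (root pairing over ℤ with finitely many roots, roots in M), S a system of
positive roots, Γ a non-trivial totally ordered commutative group and f : M → Γ additive. Call f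
dominant when f(α) ≥ 0 for every positive root α. Then the dominant maps form a fundamental domain
for the Weyl group W acting on Hom(M, Γ) through M: there is w ∈ W with f ∘ w dominant, and if f and
f ∘ w are both dominant (w ∈ W) then f ∘ w = f. -/
theorem result {ι M N : Type*} [AddCommGroup M] [AddCommGroup N]
    (P : RootPairing ι ℤ M N) [Finite ι] (S : Set ι) (hS : RootD.IsPosSys P S)
    {Γ : Type*} [AddCommGroup Γ] [LinearOrder Γ] [IsOrderedAddMonoid Γ] [Nontrivial Γ] (f : M →+ Γ) :
    (∃ g : P.Aut, g ∈ P.weylGroup ∧ ∀ i ∈ S, 0 ≤ f (RootPairing.Equiv.weightHom P g (P.root i))) ∧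
    (∀ g : P.Aut, g ∈ P.weylGroup → (∀ i ∈ S, 0 ≤ f (P.root i)) →
      (∀ i ∈ S, 0 ≤ f (RootPairing.Equiv.weightHom P g (P.root i))) →
      ∀ m : M, f (RootPairing.Equiv.weightHom P g m) = f m) := by
  exact H19155.main P S hS f

end Groth.Agent.S19155
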