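import Groth.Statements.S19169
import Mathlib
import Groth.Agent.Lib.Helper5.TDLC

set_option autoImplicit false
universe u
open ProCompl



namespace Groth.Agent.S19169

/-- Let B be a Hausdorff, locally compact, totally disconnected topological abelian group which is
compactly generated, i.e. generated as a group by a compact subset. Then the open subgroups of
finite index of B have trivial intersection: every nonzero b lies outside some open subgroup of
finite index. Equivalently, the natural map from B to its completion with respect to open subgroups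
of finite index is injective. -/
theorem result
    {B : Type u} [AddCommGroup B] [TopologicalSpace B] [IsTopologicalAddGroup B]
    [T2Space B] [LocallyCompactSpace B] [TotallyDisconnectedSpace B]
    (hcg : ∃ K : Set B, IsCompact K ∧ AddSubgroup.closure K = ⊤) (b : B) (hb : b ≠ 0) :
    ∃ B' : AddSubgroup B, IsOpen (B' : Set B) ∧ B'.FiniteIndex ∧ b ∉ B' := by
  classical
  obtain ⟨K, hK, hKgen⟩ := hcg
  have hW : ({b}ᶜ : Set B) ∈ nhds (0 : B) :=
    isOpen_compl_singleton.mem_nhds (by simpa using Ne.symm hb)
  obtain ⟨U, hUo, hUW⟩ := Groth.Agent.Helper5.exists_open_addSubgroup_subset hW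
  have hbU : b ∉ U := fun h => (hUW h) rfl
  -- finite subcover of K by cosets of U
  have hcover : K ⊆ ⋃ k ∈ K, (fun x => k + x) '' (U : Set B) := by
    intro k hk
    simp only [Set.mem_iUnion]
    exact ⟨k, hk, 0, U.zero_mem, by simp⟩
  obtain ⟨F, hFK, hF⟩ := hK.elim_finite_subcover_image (b := K)
    (c := fun k => (fun x => k + x) '' (U : Set B))
    (fun k _ => (Homeomorph.addLeft k).isOpenMap _ hUo) hcover
  haveI : AddGroup.FG (B ⧸ U) := by
    rw [AddGroup.fg_iff]
    refine ⟨(QuotientAddGroup.mk' U) '' F, ?_, hF.1.image _⟩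
    have h1 : AddSubgroup.closure ((QuotientAddGroup.mk' U) '' K) = ⊤ := by
      rw [← AddMonoidHom.map_closure, hKgen, ← AddMonoidHom.range_eq_map,
        AddMonoidHom.range_eq_top.mpr (QuotientAddGroup.mk'_surjective U)]
    rw [eq_top_iff, ← h1]
    apply AddSubgroup.closure_mono
    rintro _ ⟨k, hk, rfl⟩
    have := hF.2 hk
    simp only [Set.mem_iUnion] at this
    obtain ⟨k₀, hk₀, u, hu, rfl⟩ := this
    refine ⟨k₀, hk₀, ?_⟩
    simp only [QuotientAddGroup.mk'_apply, QuotientAddGroup.mk_add]
    rw [(QuotientAddGroup.eq_zero_iff u).mpr hu, add_zero]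
  have hq : (QuotientAddGroup.mk' U b) ≠ 0 := by
    intro h
    exact hbU ((QuotientAddGroup.eq_zero_iff b).mp h)
  obtain ⟨H, hHfin, hHq⟩ := Groth.Agent.Helper5.exists_finiteIndex_not_mem_of_fg hq
  refine ⟨H.comap (QuotientAddGroup.mk' U), ?_, ?_, ?_⟩
  · refine AddSubgroup.isOpen_mono (H₁ := U) ?_ hUo
    intro u hu
    rw [AddSubgroup.mem_comap, QuotientAddGroup.mk'_apply, (QuotientAddGroup.eq_zero_iff u).mpr hu]
    exact H.zero_mem
  · constructor
    rw [AddSubgroup.index_comap_of_surjective _ (QuotientAddGroup.mk'_surjective U)]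
    exact hHfin.index_ne_zero
  · exact hHq

end Groth.Agent.S19169
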