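import Groth.Statements.S19170
import Mathlib

set_option autoImplicit false
universe u
open ProCompl

namespace Groth.Agent.S19170

/-- Let B be a topological abelian group generated as a group by a compact subset. Then every character
χ : B → ℚ/ℤ with open kernel (a continuous character for discrete ℚ/ℤ) has kernel of finite index;
consequently each such character factors through B^∧, the completion of B taken along its
finite-index open subgroups, i.e. (B^∧)^D = B^D. (The published statement assumes moreover that B is
Hausdorff, locally compact and totally disconnected; only compact generation is needed for this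
assertion, so those assumptions are dropped here.) -/
theorem result
    {B : Type u} [AddCommGroup B] [TopologicalSpace B] [IsTopologicalAddGroup B]
    (hcg : ∃ K : Set B, IsCompact K ∧ AddSubgroup.closure K = ⊤)
    (χ : B →+ ℚ ⧸ AddSubgroup.zmultiples (1 : ℚ)) (hχ : IsOpen (χ.ker : Set B)) : χ.ker.FiniteIndex := by
  obtain ⟨K, hK, hKgen⟩ := hcg
  have hfin : (χ '' K).Finite := by
    obtain ⟨t, ht⟩ := hK.elim_finite_subcover (fun k : K => {b : B | χ b = χ k})
      (fun k => by
        have : {b : B | χ b = χ k} = (fun b => b - (k : B)) ⁻¹' (χ.ker : Set B) := by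
          ext b
          simp [AddMonoidHom.mem_ker, sub_eq_zero]
        rw [this]
        exact hχ.preimage (continuous_sub_right _))
      (fun b hb => Set.mem_iUnion.mpr ⟨⟨b, hb⟩, rfl⟩)
    apply Set.Finite.subset (t.image (fun k : K => χ k)).finite_toSet
    rintro _ ⟨b, hb, rfl⟩
    have hb' := ht hb
    simp only [Set.mem_iUnion, Set.mem_setOf_eq, exists_prop] at hb'
    obtain ⟨k, hk, hbk⟩ := hb'
    rw [Finset.mem_coe, Finset.mem_image]
    exact ⟨k, hk, hbk.symm⟩
  have hrange : χ.range = AddSubgroup.closure (χ '' K) := by
    rw [← AddMonoidHom.map_closure, hKgen, AddMonoidHom.range_eq_map]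
  have htors : IsAddTorsion (ℚ ⧸ AddSubgroup.zmultiples (1 : ℚ)) := by
    intro x
    obtain ⟨q, rfl⟩ := QuotientAddGroup.mk_surjective x
    rw [isOfFinAddOrder_iff_nsmul_eq_zero]
    refine ⟨q.den, q.den_pos, ?_⟩
    rw [← QuotientAddGroup.mk_nsmul, QuotientAddGroup.eq_zero_iff, AddSubgroup.mem_zmultiples_iff]
    refine ⟨q.num, ?_⟩
    rw [nsmul_eq_mul, zsmul_eq_mul, mul_one, Rat.den_mul_eq_num]
  haveI : AddGroup.FG χ.range := by
    rw [AddGroup.fg_iff_addSubgroup_fg, hrange]
    exact ⟨hfin.toFinset, by simp⟩
  haveI : Finite χ.range := AddCommGroup.finite_of_fg_isAddTorsion (G := χ.range) (htors.addSubgroup _)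
  exact AddSubgroup.finiteIndex_ker χ

end Groth.Agent.S19170
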