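import Groth.Statements.S19171
import Mathlib
import Groth.Agent.Lib.Helper5.TDLC

set_option autoImplicit false
universe u v
open ProCompl



namespace Groth.Agent.S19171

open Topology in
/-- Let B be a Hausdorff, locally compact, totally disconnected topological abelian group generated as a
group by a compact subset, and let i : A → B be an injective continuous homomorphism inducing the
topology of A from that of B (a strict injection) whose image is closed. Then every character χ : A
→ ℚ/ℤ with open kernel extends along i to a character ψ : B → ℚ/ℤ with open kernel; with ℚ/ℤ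
discrete this says that restriction B^D → A^D of continuous characters is surjective, i.e. the dual
of a topological exact sequence 0 → A → B → C → 0 with such B, strict closed i and open p is a short
exact sequence 0 → C^D → B^D → A^D → 0. -/
theorem result
    {A : Type u} {B : Type v} [AddCommGroup A] [TopologicalSpace A] [IsTopologicalAddGroup A]
    [AddCommGroup B] [TopologicalSpace B] [IsTopologicalAddGroup B]
    [T2Space B] [LocallyCompactSpace B] [TotallyDisconnectedSpace B]
    (hcg : ∃ K : Set B, IsCompact K ∧ AddSubgroup.closure K = ⊤)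
    (i : A →+ B) (hi : Continuous i) (hinj : Function.Injective i) (hind : IsInducing i)
    (hcl : IsClosed (Set.range i))
    (χ : A →+ ℚ ⧸ AddSubgroup.zmultiples (1 : ℚ)) (hχ : IsOpen (χ.ker : Set A)) :
    ∃ ψ : B →+ ℚ ⧸ AddSubgroup.zmultiples (1 : ℚ), IsOpen (ψ.ker : Set B) ∧ ψ.comp i = χ := by
  classical
  obtain ⟨W, hWo, hWχ⟩ := hind.isOpen_iff.mp hχ
  have h0W : (0 : B) ∈ W := by
    have : (0 : A) ∈ i ⁻¹' W := by rw [hWχ]; exact χ.ker.zero_mem
    simpa using this
  obtain ⟨U, hUo, hUW⟩ := Groth.Agent.Helper5.exists_open_addSubgroup_subset (hWo.mem_nhds h0W)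
  have hle : U.comap i ≤ χ.ker := by
    intro a ha
    have : a ∈ i ⁻¹' W := hUW ha
    rw [hWχ] at this
    exact this
  set χb : A ⧸ U.comap i →+ ℚ ⧸ AddSubgroup.zmultiples (1 : ℚ) :=
    QuotientAddGroup.lift (U.comap i) χ hle with hχb
  set ib : A ⧸ U.comap i →+ B ⧸ U := QuotientAddGroup.map (U.comap i) U i le_rfl with hib
  have hibinj : Function.Injective ib := by
    rw [injective_iff_map_eq_zero]
    intro x hx
    obtain ⟨a, rfl⟩ := QuotientAddGroup.mk_surjective x
    rw [hib, QuotientAddGroup.map_mk, QuotientAddGroup.eq_zero_iff] at hx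
    exact (QuotientAddGroup.eq_zero_iff a).mpr hx
  have hbaer : Module.Baer ℤ (ℚ ⧸ AddSubgroup.zmultiples (1 : ℚ)) := Module.Baer.of_divisible _
  obtain ⟨ψb, hψb⟩ := hbaer.extension_property_addMonoidHom ib hibinj χb
  refine ⟨ψb.comp (QuotientAddGroup.mk' U), ?_, ?_⟩
  · refine AddSubgroup.isOpen_mono (H₁ := U) ?_ hUo
    intro u hu
    rw [AddMonoidHom.mem_ker, AddMonoidHom.comp_apply, QuotientAddGroup.mk'_apply,
      (QuotientAddGroup.eq_zero_iff u).mpr hu, map_zero]
  · ext a
    have h1 := DFunLike.congr_fun hψb (QuotientAddGroup.mk a)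
    simp only [AddMonoidHom.comp_apply, hib, QuotientAddGroup.map_mk, hχb,
      QuotientAddGroup.lift_mk] at h1
    simpa using h1

end Groth.Agent.S19171
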