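import Groth.Statements.S19172
import Mathlib
import Groth.Agent.Lib.Helper5.InvLim

set_option autoImplicit false
universe u v w
open ProCompl


namespace Groth.Agent.Helper5.S19172aux

open W4c61motalbduality

/-- reverse-inclusion preorder on `OpenFI` -/
@[reducible] def openFIPreorder (B : Type v) [AddCommGroup B] [TopologicalSpace B] :
    Preorder (OpenFI B) where
  le U V := V.toAddSubgroup ≤ U.toAddSubgroup
  le_refl U := le_refl _
  le_trans U V W h₁ h₂ := le_trans h₂ h₁

/-- intersection of two open finite-index subgroups -/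
def inf {B : Type v} [AddCommGroup B] [TopologicalSpace B] (U V : OpenFI B) : OpenFI B where
  toAddSubgroup := U.toAddSubgroup ⊓ V.toAddSubgroup
  isOpen' := U.isOpen'.inter V.isOpen'
  finiteIndex' := by
    haveI := U.finiteIndex'
    haveI := V.finiteIndex'
    infer_instance

/-- the whole group -/
def top {B : Type v} [AddCommGroup B] [TopologicalSpace B] : OpenFI B where
  toAddSubgroup := ⊤
  isOpen' := isOpen_univ
  finiteIndex' := inferInstance

/-- the image of an open finite-index subgroup under an open surjection -/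
def image {B : Type v} {C : Type w} [AddCommGroup B] [TopologicalSpace B]
    [AddCommGroup C] [TopologicalSpace C] (p : B →+ C) (hpo : IsOpenMap p)
    (hps : Function.Surjective p) (V : OpenFI B) : OpenFI C where
  toAddSubgroup := V.toAddSubgroup.map p
  isOpen' := by
    rw [AddSubgroup.coe_map]
    exact hpo _ V.isOpen'
  finiteIndex' := by
    haveI := V.finiteIndex'
    exact ⟨ne_zero_of_dvd_ne_zero AddSubgroup.FiniteIndex.index_ne_zero
      (AddSubgroup.index_map_dvd V.toAddSubgroup hps)⟩

theorem finite_quot {B : Type v} [AddCommGroup B] [TopologicalSpace B] (V : OpenFI B) :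
    Finite (B ⧸ V.toAddSubgroup) := by
  haveI := V.finiteIndex'
  infer_instance

section surj

variable {B : Type v} {C : Type w}
  [AddCommGroup B] [TopologicalSpace B]
  [AddCommGroup C] [TopologicalSpace C]
  (p : B →+ C) (hp : Continuous p)
  (hpo : IsOpenMap p) (hps : Function.Surjective p)

include hpo hps in
theorem surj : Function.Surjective (FICompl.map p hp) := by
  intro c
  letI : Preorder (OpenFI B) := openFIPreorder B
  haveI : IsDirected (OpenFI B) (· ≤ ·) :=
    ⟨fun U V => ⟨inf U V, (inf_le_left : U.toAddSubgroup ⊓ V.toAddSubgroup ≤ _),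
      (inf_le_right : U.toAddSubgroup ⊓ V.toAddSubgroup ≤ _)⟩⟩
  haveI : Nonempty (OpenFI B) := ⟨top⟩
  let pV : OpenFI B → OpenFI C := image p hpo hps
  let q : ∀ V : OpenFI B, B ⧸ V.toAddSubgroup →+ C ⧸ (pV V).toAddSubgroup := fun V =>
    QuotientAddGroup.map _ _ p (AddSubgroup.le_comap_map p _)
  have hq : ∀ (V : OpenFI B) (b : B), q V (QuotientAddGroup.mk b) = QuotientAddGroup.mk (p b) :=
    fun V b => rfl
  let X : OpenFI B → Type v := fun V => {b : B ⧸ V.toAddSubgroup // q V b = c.1 (pV V)}
  haveI : ∀ V, Finite (X V) := fun V => by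
    haveI := finite_quot V
    exact Subtype.finite
  haveI : ∀ V, Nonempty (X V) := fun V => by
    obtain ⟨c₀, hc₀⟩ := QuotientAddGroup.mk_surjective (c.1 (pV V))
    obtain ⟨b₀, rfl⟩ := hps c₀
    exact ⟨⟨QuotientAddGroup.mk b₀, by rw [hq, hc₀]⟩⟩
  have hpVmono : ∀ {V V' : OpenFI B}, V'.toAddSubgroup ≤ V.toAddSubgroup →
      (pV V').toAddSubgroup ≤ (pV V).toAddSubgroup := fun h => AddSubgroup.map_mono h
  let f : ∀ {V V' : OpenFI B}, V ≤ V' → X V' → X V := fun {V V'} h x =>
    ⟨QuotientAddGroup.map V'.toAddSubgroup V.toAddSubgroup (AddMonoidHom.id B) h x.1, by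
      obtain ⟨b, hb⟩ := QuotientAddGroup.mk_surjective x.1
      have h2 := c.2 (pV V') (pV V) (hpVmono h)
      rw [← x.2, ← hb, hq, QuotientAddGroup.map_mk] at h2
      rw [← hb, QuotientAddGroup.map_mk, hq]
      exact h2⟩
  obtain ⟨x, hx⟩ := Groth.Agent.Helper5.exists_compatible X (fun {V V'} h => f h)
    (by
      intro V x
      apply Subtype.ext
      obtain ⟨b, hb⟩ := QuotientAddGroup.mk_surjective x.1
      show QuotientAddGroup.map _ _ (AddMonoidHom.id B) _ x.1 = x.1
      rw [← hb, QuotientAddGroup.map_mk]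
      rfl)
    (by
      intro V V' V'' h₁ h₂ x
      apply Subtype.ext
      obtain ⟨b, hb⟩ := QuotientAddGroup.mk_surjective x.1
      show QuotientAddGroup.map _ _ (AddMonoidHom.id B) _
        (QuotientAddGroup.map _ _ (AddMonoidHom.id B) _ x.1) =
          QuotientAddGroup.map _ _ (AddMonoidHom.id B) _ x.1
      rw [← hb, QuotientAddGroup.map_mk, QuotientAddGroup.map_mk, QuotientAddGroup.map_mk]
      rfl)
  let bhat : FICompl B := ⟨fun V => (x V).1, by
    intro U V h
    have := hx (j := V) (k := U) h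
    exact congrArg Subtype.val this⟩
  refine ⟨bhat, ?_⟩
  apply Subtype.ext
  funext W
  show QuotientAddGroup.map (W.comap p hp).toAddSubgroup W.toAddSubgroup p (W.comap_le p)
    ((x (W.comap p hp)).1) = c.1 W
  have hle : (pV (W.comap p hp)).toAddSubgroup ≤ W.toAddSubgroup := by
    show (W.toAddSubgroup.comap p).map p ≤ W.toAddSubgroup
    exact AddSubgroup.map_comap_le p _
  have h2 := c.2 (pV (W.comap p hp)) W hle
  have h3 := congrArg (QuotientAddGroup.map _ _ (AddMonoidHom.id C) hle) (x (W.comap p hp)).2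
  rw [← h2, ← h3]
  obtain ⟨b, hb⟩ := QuotientAddGroup.mk_surjective (x (W.comap p hp)).1
  rw [← hb, hq, QuotientAddGroup.map_mk, QuotientAddGroup.map_mk]
  rfl

end surj

section exact

variable {A : Type u} {B : Type v} {C : Type w}
  [AddCommGroup A] [TopologicalSpace A]
  [AddCommGroup B] [TopologicalSpace B]
  [AddCommGroup C] [TopologicalSpace C]
  (i : A →+ B) (hi : Continuous i) (p : B →+ C) (hp : Continuous p)
  (hpo : IsOpenMap p) (hps : Function.Surjective p) (hex : p.ker = i.range)

include hex in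
theorem range_le_ker : (FICompl.map i hi).range ≤ (FICompl.map p hp).ker := by
  rintro _ ⟨a, rfl⟩
  rw [AddMonoidHom.mem_ker]
  apply Subtype.ext
  funext W
  show QuotientAddGroup.map (W.comap p hp).toAddSubgroup W.toAddSubgroup p (W.comap_le p)
    (QuotientAddGroup.map ((W.comap p hp).comap i hi).toAddSubgroup (W.comap p hp).toAddSubgroup i
      ((W.comap p hp).comap_le i) (a.1 ((W.comap p hp).comap i hi))) = 0
  obtain ⟨a₀, ha₀⟩ := QuotientAddGroup.mk_surjective (a.1 ((W.comap p hp).comap i hi))
  rw [← ha₀, QuotientAddGroup.map_mk, QuotientAddGroup.map_mk]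
  have h0 : p (i a₀) = 0 := by
    have : i a₀ ∈ p.ker := by rw [hex]; exact ⟨a₀, rfl⟩
    exact this
  rw [h0]
  rfl

include hpo hps hex in
theorem stepA (b : FICompl B) (hb : FICompl.map p hp b = 0) (V : OpenFI B) :
    ∃ a' : A, b.1 V = QuotientAddGroup.mk (i a') := by
  set W : OpenFI C := image p hpo hps V with hW
  set V₁ : OpenFI B := W.comap p hp with hV₁
  have hV : V.toAddSubgroup ≤ V₁.toAddSubgroup := by
    show V.toAddSubgroup ≤ (V.toAddSubgroup.map p).comap p
    exact AddSubgroup.le_comap_map p _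
  obtain ⟨b₀, hb₀⟩ := QuotientAddGroup.mk_surjective (b.1 V)
  have h1 := b.2 V V₁ hV
  rw [← hb₀, QuotientAddGroup.map_mk] at h1
  have h2 : (FICompl.map p hp b).1 W = 0 := by rw [hb]; rfl
  have h3 : QuotientAddGroup.map V₁.toAddSubgroup W.toAddSubgroup p (W.comap_le p) (b.1 V₁) = 0 := h2
  rw [← h1, QuotientAddGroup.map_mk, QuotientAddGroup.eq_zero_iff] at h3
  obtain ⟨v, hv, hpv⟩ : ∃ v ∈ V.toAddSubgroup, p v = p (AddMonoidHom.id B b₀) := h3
  have hker : b₀ - v ∈ p.ker := by
    rw [AddMonoidHom.mem_ker, map_sub, hpv]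
    simp
  rw [hex] at hker
  obtain ⟨a', ha'⟩ := hker
  refine ⟨a', ?_⟩
  rw [← hb₀, ha', QuotientAddGroup.eq]
  have : -b₀ + (b₀ - v) = -v := by abel
  rw [this]
  exact V.toAddSubgroup.neg_mem hv

include hpo hps hex in
theorem ker_le_range : (FICompl.map p hp).ker ≤ (FICompl.map i hi).range := by
  intro b hb
  rw [AddMonoidHom.mem_ker] at hb
  letI : Preorder (OpenFI A) := openFIPreorder A
  haveI : IsDirected (OpenFI A) (· ≤ ·) :=
    ⟨fun U V => ⟨inf U V, (inf_le_left : U.toAddSubgroup ⊓ V.toAddSubgroup ≤ _),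
      (inf_le_right : U.toAddSubgroup ⊓ V.toAddSubgroup ≤ _)⟩⟩
  haveI : Nonempty (OpenFI A) := ⟨top⟩
  let T : ∀ U : OpenFI A, Set (A ⧸ U.toAddSubgroup) := fun U =>
    {a | ∀ (V : OpenFI B) (h : U.toAddSubgroup ≤ V.toAddSubgroup.comap i),
      QuotientAddGroup.map U.toAddSubgroup V.toAddSubgroup i h a = b.1 V}
  let X : OpenFI A → Type u := fun U => {a : A ⧸ U.toAddSubgroup // a ∈ T U}
  haveI : ∀ U, Finite (X U) := fun U => by
    haveI := finite_quot U
    exact Subtype.finite
  haveI : ∀ U, Nonempty (X U) := fun U => by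
    haveI := finite_quot U
    let ι := {V : OpenFI B // U.toAddSubgroup ≤ V.toAddSubgroup.comap i}
    haveI : Nonempty ι := ⟨⟨top, by
      show U.toAddSubgroup ≤ (⊤ : AddSubgroup B).comap i
      rw [AddSubgroup.comap_top]
      exact le_top⟩⟩
    let S : ι → Set (A ⧸ U.toAddSubgroup) := fun V =>
      {a | QuotientAddGroup.map U.toAddSubgroup V.1.toAddSubgroup i V.2 a = b.1 V.1}
    have hne : ∀ V : ι, (S V).Nonempty := by
      intro V
      obtain ⟨a', ha'⟩ := stepA i p hp hpo hps hex b hb V.1
      refine ⟨QuotientAddGroup.mk a', ?_⟩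
      show QuotientAddGroup.map _ _ i V.2 (QuotientAddGroup.mk a') = b.1 V.1
      rw [QuotientAddGroup.map_mk, ha']
    have hdir : ∀ V₁ V₂ : ι, ∃ V₃ : ι, S V₃ ⊆ S V₁ ∩ S V₂ := by
      intro V₁ V₂
      refine ⟨⟨inf V₁.1 V₂.1, ?_⟩, ?_⟩
      · show U.toAddSubgroup ≤ (V₁.1.toAddSubgroup ⊓ V₂.1.toAddSubgroup).comap i
        rw [AddSubgroup.comap_inf]
        exact le_inf V₁.2 V₂.2
      · intro a ha
        have ha' : QuotientAddGroup.map U.toAddSubgroup (inf V₁.1 V₂.1).toAddSubgroup i _ a =
            b.1 (inf V₁.1 V₂.1) := ha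
        obtain ⟨a₀, rfl⟩ := QuotientAddGroup.mk_surjective a
        rw [QuotientAddGroup.map_mk] at ha'
        constructor
        · show QuotientAddGroup.map _ _ i V₁.2 (QuotientAddGroup.mk a₀) = b.1 V₁.1
          have hc := b.2 (inf V₁.1 V₂.1) V₁.1 (inf_le_left : V₁.1.toAddSubgroup ⊓ V₂.1.toAddSubgroup ≤ _)
          rw [← ha', QuotientAddGroup.map_mk] at hc
          rw [QuotientAddGroup.map_mk, ← hc]
          rfl
        · show QuotientAddGroup.map _ _ i V₂.2 (QuotientAddGroup.mk a₀) = b.1 V₂.1
          have hc := b.2 (inf V₁.1 V₂.1) V₂.1 (inf_le_right : V₁.1.toAddSubgroup ⊓ V₂.1.toAddSubgroup ≤ _)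
          rw [← ha', QuotientAddGroup.map_mk] at hc
          rw [QuotientAddGroup.map_mk, ← hc]
          rfl
    obtain ⟨a, ha⟩ := Groth.Agent.Helper5.directed_iInter_nonempty S hne hdir
    exact ⟨⟨a, fun V h => ha ⟨V, h⟩⟩⟩
  let f : ∀ {U U' : OpenFI A}, U ≤ U' → X U' → X U := fun {U U'} h x =>
    ⟨QuotientAddGroup.map U'.toAddSubgroup U.toAddSubgroup (AddMonoidHom.id A) h x.1, by
      intro V hV
      obtain ⟨a₀, ha₀⟩ := QuotientAddGroup.mk_surjective x.1
      have hx := x.2 V (le_trans h hV)
      rw [← ha₀, QuotientAddGroup.map_mk] at hx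
      rw [← ha₀, QuotientAddGroup.map_mk, QuotientAddGroup.map_mk]
      exact hx⟩
  obtain ⟨x, hx⟩ := Groth.Agent.Helper5.exists_compatible X (fun {U U'} h => f h)
    (by
      intro U x
      apply Subtype.ext
      obtain ⟨a₀, ha₀⟩ := QuotientAddGroup.mk_surjective x.1
      show QuotientAddGroup.map _ _ (AddMonoidHom.id A) _ x.1 = x.1
      rw [← ha₀, QuotientAddGroup.map_mk]
      rfl)
    (by
      intro U U' U'' h₁ h₂ x
      apply Subtype.ext
      obtain ⟨a₀, ha₀⟩ := QuotientAddGroup.mk_surjective x.1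
      show QuotientAddGroup.map _ _ (AddMonoidHom.id A) _
        (QuotientAddGroup.map _ _ (AddMonoidHom.id A) _ x.1) =
          QuotientAddGroup.map _ _ (AddMonoidHom.id A) _ x.1
      rw [← ha₀, QuotientAddGroup.map_mk, QuotientAddGroup.map_mk, QuotientAddGroup.map_mk]
      rfl)
  let ahat : FICompl A := ⟨fun U => (x U).1, by
    intro U V h
    have := hx (j := V) (k := U) h
    exact congrArg Subtype.val this⟩
  refine ⟨ahat, ?_⟩
  apply Subtype.ext
  funext V
  show QuotientAddGroup.map (V.comap i hi).toAddSubgroup V.toAddSubgroup i (V.comap_le i)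
    ((x (V.comap i hi)).1) = b.1 V
  exact (x (V.comap i hi)).2 V (V.comap_le i)

end exact

end Groth.Agent.Helper5.S19172aux

namespace Groth.Agent.S19172

open W4c61motalbduality in
/-- Let i : A → B and p : B → C be continuous homomorphisms of topological abelian groups with p
surjective and open and with the kernel of p equal to the image of i. Then the induced sequence of
completions with respect to open subgroups of finite index, A^∧ → B^∧ → C^∧ → 0, is exact: the map
B^∧ → C^∧ is surjective and its kernel is the image of A^∧. The completion is the group of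
compatible families of residues modulo all open subgroups of finite index. (The published statement
takes i injective, as the first map of an exact sequence 0 → A → B → C → 0 of topological abelian
groups; here it is only assumed that the image of i is the kernel of p, which is all the proof
uses.) -/
theorem result
    {A : Type u} {B : Type v} {C : Type w}
    [AddCommGroup A] [TopologicalSpace A] [IsTopologicalAddGroup A]
    [AddCommGroup B] [TopologicalSpace B] [IsTopologicalAddGroup B]
    [AddCommGroup C] [TopologicalSpace C] [IsTopologicalAddGroup C]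
    (i : A →+ B) (hi : Continuous i) (p : B →+ C) (hp : Continuous p)
    (hpo : IsOpenMap p) (hps : Function.Surjective p) (hex : p.ker = i.range) :
    Function.Surjective (FICompl.map p hp) ∧ (FICompl.map p hp).ker = (FICompl.map i hi).range := by
  refine ⟨Groth.Agent.Helper5.S19172aux.surj p hp hpo hps, le_antisymm ?_ ?_⟩
  · exact Groth.Agent.Helper5.S19172aux.ker_le_range i hi p hp hpo hps hex
  · exact Groth.Agent.Helper5.S19172aux.range_le_ker i hi p hp hex

end Groth.Agent.S19172
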