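import Groth.Statements.S19177
import Mathlib

set_option autoImplicit false
universe u
open CAlg

set_option linter.style.haveILetI false

namespace S19177aux

variable (S R : Type u) [CommRing S] [CommRing R] [Algebra S R] [Module.Finite S R]
  [Module.Projective S R]

/-- If `R` is a finite projective `S`-algebra with injective structure map, there is an `S`-linear
retraction `R → S`. -/
theorem exists_retraction (hinj : Function.Injective (algebraMap S R)) :
    ∃ ψ : R →ₗ[S] S, ψ 1 = 1 := by
  obtain ⟨n, f, g, -, -, hfg⟩ := Module.Finite.exists_comp_eq_id_of_projective S R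
  -- the ideal of values ψ(1)
  let T : Ideal S := LinearMap.range (LinearMap.applyₗ (1 : R) : (R →ₗ[S] S) →ₗ[S] S)
  suffices hT : T = ⊤ by
    have : (1 : S) ∈ T := by rw [hT]; trivial
    obtain ⟨ψ, hψ⟩ := this
    exact ⟨ψ, hψ⟩
  by_contra hT
  obtain ⟨m, hm, hTm⟩ := Ideal.exists_le_maximal T hT
  have hmem : ∀ (r : R) (j : Fin n), g r j ∈ T := by
    intro r j
    refine ⟨(LinearMap.proj j) ∘ₗ g ∘ₗ (LinearMap.mulRight S r), ?_⟩
    simp
  have hle : (⊤ : Submodule S R) ≤ m • (⊤ : Submodule S R) := by
    intro r _
    have hr : r = ∑ j, g r j • f (Pi.single j 1) := by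
      have h1 : f (g r) = r := by
        have := congrArg (fun φ => φ r) hfg
        simpa using this
      conv_lhs => rw [← h1]
      have h2 : g r = ∑ j, g r j • (Pi.single j 1 : Fin n → S) := by
        ext i
        simp [Finset.sum_apply, Pi.single_apply]
      conv_lhs => rw [h2]
      rw [map_sum]
      refine Finset.sum_congr rfl fun j _ => ?_
      rw [map_smul]
    rw [hr]
    refine Submodule.sum_mem _ fun j _ => ?_
    exact Submodule.smul_mem_smul (hTm (hmem r j)) trivial
  obtain ⟨s, hs1, hs0⟩ := Submodule.exists_sub_one_mem_and_smul_eq_zero_of_fg_of_le_smul m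
    (⊤ : Submodule S R) Module.Finite.fg_top hle
  have h0 : algebraMap S R s = 0 := by
    have := hs0 1 trivial
    rwa [Algebra.smul_def, mul_one] at this
  have hs : s = 0 := hinj (by rw [h0, map_zero])
  rw [hs, zero_sub, neg_mem_iff] at hs1
  exact hm.ne_top ((Ideal.eq_top_iff_one m).mpr hs1)

end S19177aux

namespace Groth.Agent.S19177

/-- Let S → R be a homomorphism of commutative rings making R a finitely generated projective S-module
of rank 2 at every prime of S (the affine form of a finite locally free morphism of degree 2). Then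
the cokernel of the (injective) structure map S → R, the S-module R/S, is a projective S-module of
rank 1 at every prime of S (locally free of rank 1). -/
theorem result
    (S R : Type u) [CommRing S] [CommRing R] [Algebra S R] [Module.Finite S R] [Module.Projective S R]
    (h2 : ∀ p : PrimeSpectrum S, Module.rankAtStalk (R := S) R p = 2) :
    Module.Projective S (R ⧸ LinearMap.range (Algebra.linearMap S R)) ∧
      ∀ p : PrimeSpectrum S,
        Module.rankAtStalk (R := S) (R ⧸ LinearMap.range (Algebra.linearMap S R)) p = 1 := by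
  have hinj : Function.Injective (algebraMap S R) :=
    Module.rankAtStalk_pos_iff_algebraMap_injective.mp (fun p => by rw [h2 p]; norm_num)
  obtain ⟨ψ, hψ⟩ := S19177aux.exists_retraction S R hinj
  set ι := Algebra.linearMap S R with hι
  have hψι : ∀ s : S, ψ (ι s) = s := by
    intro s
    rw [hι, Algebra.linearMap_apply, Algebra.algebraMap_eq_smul_one, map_smul, hψ, smul_eq_mul,
      mul_one]
  -- the section of the quotient map
  let τ : R →ₗ[S] R := LinearMap.id - ι ∘ₗ ψ
  have hτ : LinearMap.range ι ≤ LinearMap.ker τ := by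
    rintro _ ⟨s, rfl⟩
    simp [τ, hψι]
  let σ : (R ⧸ LinearMap.range ι) →ₗ[S] R := (LinearMap.range ι).liftQ τ hτ
  have hσ : ∀ r : R, σ ((LinearMap.range ι).mkQ r) = r - ι (ψ r) := fun r => by
    simp [σ, τ]
  have hmk : ∀ s : S, (LinearMap.range ι).mkQ (ι s) = 0 := fun s => by
    rw [Submodule.mkQ_apply, Submodule.Quotient.mk_eq_zero]; exact ⟨s, rfl⟩
  have hsplit : (LinearMap.range ι).mkQ ∘ₗ σ = LinearMap.id := by
    apply LinearMap.ext
    intro q
    obtain ⟨r, rfl⟩ := (LinearMap.range ι).mkQ_surjective q
    rw [LinearMap.comp_apply, hσ, map_sub, hmk, sub_zero, LinearMap.id_apply]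
  haveI hproj : Module.Projective S (R ⧸ LinearMap.range ι) :=
    Module.Projective.of_split σ (LinearMap.range ι).mkQ hsplit
  refine ⟨hproj, fun p => ?_⟩
  have hψσ : ∀ q, ψ (σ q) = 0 := by
    intro q
    obtain ⟨r, rfl⟩ := (LinearMap.range ι).mkQ_surjective q
    rw [hσ, map_sub, hψι, sub_self]
  have hq : ∀ q, (LinearMap.range ι).mkQ (σ q) = q := fun q => by
    have := congrArg (fun φ => φ q) hsplit
    simpa only [LinearMap.comp_apply, LinearMap.id_apply] using this
  let e : R ≃ₗ[S] S × (R ⧸ LinearMap.range ι) :=
    { toFun := fun r => (ψ r, (LinearMap.range ι).mkQ r)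
      map_add' := fun a b => by rw [map_add, map_add]; rfl
      map_smul' := fun c a => by rw [map_smul, map_smul]; rfl
      invFun := fun x => ι x.1 + σ x.2
      left_inv := fun r => by
        show ι (ψ r) + σ ((LinearMap.range ι).mkQ r) = r
        rw [hσ]; abel
      right_inv := fun x => by
        obtain ⟨s, q⟩ := x
        show (ψ (ι s + σ q), (LinearMap.range ι).mkQ (ι s + σ q)) = (s, q)
        rw [map_add, map_add, hψι, hψσ, add_zero, hmk, zero_add, hq] }
  haveI : Nontrivial S := by
    by_contra hS
    rw [not_nontrivial_iff_subsingleton] at hS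
    haveI := hS
    haveI : Subsingleton R := Module.subsingleton S R
    have := h2 p
    rw [Module.rankAtStalk_eq_zero_of_subsingleton] at this
    simp at this
  have h3 := Module.rankAtStalk_eq_of_equiv e
  rw [Module.rankAtStalk_prod, Module.rankAtStalk_self] at h3
  have h4 := congrFun h3 p
  rw [h2 p] at h4
  simp only [Pi.add_apply, Pi.one_apply] at h4
  omega

end Groth.Agent.S19177
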