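import Groth.Statements.S19178
import Mathlib

set_option autoImplicit false
universe u
open Curves

namespace S19178aux

open Polynomial in
/-- no polynomial root of the affine Weierstrass cubic in `X` over `k[T]`. -/
theorem noroot (k : Type u) [Field k] (a₁ a₂ a₃ a₄ a₆ : k) (ρ : k[X])
    (h : ρ ^ 3 = - (C a₂ * ρ ^ 2) + (C a₁ * X - C a₄) * ρ + (X ^ 2 + C a₃ * X - C a₆)) : False := by
  by_cases he : ρ.natDegree = 0
  · obtain ⟨c, rfl⟩ := Polynomial.natDegree_eq_zero.1 he
    have := congrArg (fun q => Polynomial.coeff q 2) h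
    have hc3 : (C c ^ 3 : k[X]).coeff 2 = 0 := by rw [← C_pow, coeff_C]; simp
    have hc2 : (C c ^ 2 : k[X]).coeff 2 = 0 := by rw [← C_pow, coeff_C]; simp
    simp [hc3, hc2] at this
  · have h3 : (ρ ^ 3).natDegree = 3 * ρ.natDegree := Polynomial.natDegree_pow ρ 3
    have hlt : (- (C a₂ * ρ ^ 2) + (C a₁ * X - C a₄) * ρ + (X ^ 2 + C a₃ * X - C a₆)).natDegree
        < 3 * ρ.natDegree := by
      have e1 : (- (C a₂ * ρ ^ 2)).natDegree ≤ 2 * ρ.natDegree := by
        rw [Polynomial.natDegree_neg]
        refine (Polynomial.natDegree_C_mul_le _ _).trans ?_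
        rw [Polynomial.natDegree_pow]
      have e2 : ((C a₁ * X - C a₄) * ρ).natDegree ≤ 1 + ρ.natDegree := by
        refine Polynomial.natDegree_mul_le.trans ?_
        gcongr
        compute_degree
      have e3 : (X ^ 2 + C a₃ * X - C a₆ : k[X]).natDegree ≤ 2 := by
        compute_degree
      have := Polynomial.natDegree_add_le (- (C a₂ * ρ ^ 2) + (C a₁ * X - C a₄) * ρ)
        (X ^ 2 + C a₃ * X - C a₆)
      have := Polynomial.natDegree_add_le (- (C a₂ * ρ ^ 2)) ((C a₁ * X - C a₄) * ρ)
      omega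
    rw [← h, h3] at hlt
    exact lt_irrefl _ hlt

end S19178aux

namespace S19178aux
open MvPolynomial in
theorem main (k : Type u) [Field k] (W : WeierstrassCurve k) :
    Irreducible (WeierstrassCurve.Projective.polynomial W) := by
  set e := MvPolynomial.finSuccEquiv k 2 with he
  have heC : ∀ a : k, e (C a) = Polynomial.C (C a) := by
    intro a
    rw [← MvPolynomial.algebraMap_eq, AlgEquiv.commutes]; rfl
  set Q : Polynomial (MvPolynomial (Fin 2) k) := Polynomial.X ^ 3 + Polynomial.C (C W.a₂ * X 1) * Polynomial.X ^ 2 +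
        Polynomial.C (C W.a₄ * X 1 ^ 2 - C W.a₁ * X 0 * X 1) * Polynomial.X +
        Polynomial.C (C W.a₆ * X 1 ^ 3 - X 0 ^ 2 * X 1 - C W.a₃ * X 0 * X 1 ^ 2) with hQ
  have hP : e (WeierstrassCurve.Projective.polynomial W) = - Q := by
    rw [WeierstrassCurve.Projective.polynomial]
    have h1 : (1 : Fin 3) = Fin.succ 0 := rfl
    have h2 : (2 : Fin 3) = Fin.succ 1 := rfl
    have heX0 : e (X 0) = Polynomial.X := finSuccEquiv_X_zero
    have heX1 : e (X (Fin.succ 0)) = Polynomial.C (X 0) := finSuccEquiv_X_succ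
    have heX2 : e (X (Fin.succ 1)) = Polynomial.C (X 1) := finSuccEquiv_X_succ
    simp only [map_sub, map_add, map_mul, map_pow, h1, h2, heX0, heX1, heX2, heC, hQ]
    ring
  rw [← MulEquiv.irreducible_iff e.toMulEquiv]
  show Irreducible (e _)
  rw [hP, (Associated.neg_left (Associated.refl Q)).irreducible_iff]
  have hmonic : Q.Monic := by
    rw [hQ]; monicity!
  have hdeg : Q.natDegree = 3 := by
    rw [hQ]; compute_degree!
  rw [hmonic.irreducible_iff_roots_eq_zero_of_degree_le_three (by omega) (by omega)]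
  rw [Multiset.eq_zero_iff_forall_notMem]
  intro r hr
  rw [Polynomial.mem_roots hmonic.ne_zero, Polynomial.IsRoot, hQ] at hr
  simp only [Polynomial.eval_add, Polynomial.eval_mul, Polynomial.eval_pow, Polynomial.eval_X,
    Polynomial.eval_C] at hr
  let ψ : MvPolynomial (Fin 2) k →ₐ[k] Polynomial k := aeval ![Polynomial.X, 1]
  have hψ0 : ψ (X 0) = Polynomial.X := by simp [ψ]
  have hψ1 : ψ (X 1) = 1 := by simp [ψ]
  have hψC : ∀ a : k, ψ (C a) = Polynomial.C a := by
    intro a; rw [← MvPolynomial.algebraMap_eq, AlgHom.commutes]; rfl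
  have := congrArg ψ hr
  simp only [map_add, map_sub, map_mul, map_pow, hψ0, hψ1, hψC, map_zero, one_pow, mul_one] at this
  apply noroot k W.a₁ W.a₂ W.a₃ W.a₄ W.a₆ (ψ r)
  linear_combination this
end S19178aux

namespace Groth.Agent.S19178

/-- For every field k and every choice of coefficients a₁, a₂, a₃, a₄, a₆ in k, the homogeneous
Weierstrass cubic Y²Z + a₁XYZ + a₃YZ² − (X³ + a₂X²Z + a₄XZ² + a₆Z³) is an irreducible polynomial in
k[X, Y, Z]. Applied to all fields, this says every fibre of the Weierstrass family over the affine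
space of coefficients is geometrically integral. -/
theorem result (k : Type u) [Field k]
    (W : WeierstrassCurve k) :
    Irreducible (WeierstrassCurve.Projective.polynomial W) := by
  exact S19178aux.main k W

end Groth.Agent.S19178
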