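import Groth.Statements.S19182
import Mathlib

set_option autoImplicit false
universe u
open CAlg

namespace S19182aux

open MvPolynomial

variable (R : Type u) [CommRing R] (a₁ a₂ : R)

theorem smoothPoly : Algebra.Smooth R (Polynomial R) := by
  have : Algebra.Smooth R (MvPolynomial PUnit.{1} R) := ⟨inferInstance, inferInstance⟩
  exact Algebra.Smooth.of_equiv (MvPolynomial.uniqueAlgEquiv R PUnit.{1})

/-- chart 2 -/
theorem chart2 : Algebra.Smooth R (MvPolynomial (Fin 2) R ⧸
      Ideal.span ({X 1 ^ 2 + C a₁ * X 1 - X 0 - C a₂} : Set (MvPolynomial (Fin 2) R))) := by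
  set I := Ideal.span ({X 1 ^ 2 + C a₁ * X 1 - X 0 - C a₂} : Set (MvPolynomial (Fin 2) R)) with hI
  obtain ⟨f, hf0, hf1⟩ : ∃ f : MvPolynomial (Fin 2) R →ₐ[R] Polynomial R,
      f (X 0) = Polynomial.X ^ 2 + Polynomial.C a₁ * Polynomial.X - Polynomial.C a₂ ∧
      f (X 1) = Polynomial.X :=
    ⟨aeval ![Polynomial.X ^ 2 + Polynomial.C a₁ * Polynomial.X - Polynomial.C a₂, Polynomial.X],
      by simp, by simp⟩
  have hfC : ∀ r : R, f (C r) = Polynomial.C r := fun r => by
    rw [← MvPolynomial.algebraMap_eq, AlgHom.commutes]; rfl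
  have hf : ∀ x ∈ I, f x = 0 := by
    intro x hx
    have : I ≤ RingHom.ker f.toRingHom := by
      rw [hI, Ideal.span_le, Set.singleton_subset_iff]
      show f _ = 0
      simp only [map_sub, map_add, map_pow, map_mul, hf0, hf1, hfC]
      ring
    exact this hx
  obtain ⟨fbar, hfbar⟩ : ∃ fbar : (MvPolynomial (Fin 2) R ⧸ I) →ₐ[R] Polynomial R,
      ∀ x, fbar (Ideal.Quotient.mk I x) = f x := ⟨Ideal.Quotient.liftₐ I f hf, fun x => rfl⟩
  obtain ⟨g, hg⟩ : ∃ g : Polynomial R →ₐ[R] (MvPolynomial (Fin 2) R ⧸ I),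
      g Polynomial.X = Ideal.Quotient.mk I (X 1) :=
    ⟨Polynomial.aeval (Ideal.Quotient.mk I (X 1)), by simp⟩
  have hgC : ∀ r : R, g (Polynomial.C r) = Ideal.Quotient.mk I (C r) := fun r => by
    rw [Polynomial.C_eq_algebraMap, AlgHom.commutes]; rfl
  have h1 : fbar.comp g = AlgHom.id R _ := by
    apply Polynomial.algHom_ext
    simp only [AlgHom.coe_comp, Function.comp_apply, hg, hfbar, hf1, AlgHom.coe_id, id_eq]
  have h2 : g.comp fbar = AlgHom.id R _ := by
    apply Ideal.Quotient.algHom_ext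
    apply MvPolynomial.algHom_ext
    intro i
    fin_cases i
    · simp only [Fin.zero_eta, AlgHom.coe_comp, Function.comp_apply, Ideal.Quotient.mkₐ_eq_mk,
        AlgHom.id_comp, hfbar, hf0, map_sub, map_add, map_pow, map_mul, hg, hgC]
      rw [← sub_eq_zero]
      have : (X 1 ^ 2 + C a₁ * X 1 - X 0 - C a₂ : MvPolynomial (Fin 2) R) ∈ I :=
        Ideal.subset_span rfl
      have h0 := (Ideal.Quotient.eq_zero_iff_mem).2 this
      simp only [map_sub, map_add, map_pow, map_mul] at h0
      rw [← h0]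
      ring
    · simp only [Fin.mk_one, AlgHom.coe_comp, Function.comp_apply, Ideal.Quotient.mkₐ_eq_mk,
        AlgHom.id_comp, hfbar, hf1, hg]
  have := smoothPoly R
  exact Algebra.Smooth.of_equiv (AlgEquiv.ofAlgHom g fbar h2 h1)


/-- chart 1 -/
theorem chart1 : Algebra.Smooth R (MvPolynomial (Fin 2) R ⧸
      Ideal.span ({1 + C a₁ * X 1 - X 0 * X 1 ^ 3 - C a₂ * X 1 ^ 2} : Set (MvPolynomial (Fin 2) R))) := by
  set I := Ideal.span ({1 + C a₁ * X 1 - X 0 * X 1 ^ 3 - C a₂ * X 1 ^ 2} :
    Set (MvPolynomial (Fin 2) R)) with hI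
  let L := Localization.Away (Polynomial.X : Polynomial R)
  set T : L := algebraMap (Polynomial R) L Polynomial.X with hT
  set Ti : L := IsLocalization.Away.invSelf (Polynomial.X : Polynomial R) with hTi
  have hTTi : T * Ti = 1 := IsLocalization.Away.mul_invSelf _
  have hLC : ∀ r : R, algebraMap R L r = algebraMap (Polynomial R) L (Polynomial.C r) := fun r => by
    rw [IsScalarTower.algebraMap_apply R (Polynomial R) L]; rfl
  obtain ⟨f, hf0, hf1⟩ : ∃ f : MvPolynomial (Fin 2) R →ₐ[R] L,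
      f (X 0) = (1 + algebraMap R L a₁ * T - algebraMap R L a₂ * T ^ 2) * Ti ^ 3 ∧
      f (X 1) = T :=
    ⟨aeval ![(1 + algebraMap R L a₁ * T - algebraMap R L a₂ * T ^ 2) * Ti ^ 3, T],
      by simp, by simp⟩
  have hfC : ∀ r : R, f (C r) = algebraMap R L r := fun r => by
    rw [← MvPolynomial.algebraMap_eq, AlgHom.commutes]
  have hf : ∀ x ∈ I, f x = 0 := by
    intro x hx
    have : I ≤ RingHom.ker f.toRingHom := by
      rw [hI, Ideal.span_le, Set.singleton_subset_iff]
      show f _ = 0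
      simp only [map_sub, map_add, map_pow, map_mul, map_one, hf0, hf1, hfC]
      have h3 : Ti ^ 3 * T ^ 3 = 1 := by rw [← mul_pow, mul_comm, hTTi, one_pow]
      linear_combination (-(1 + algebraMap R L a₁ * T - algebraMap R L a₂ * T ^ 2)) * h3
    exact this hx
  obtain ⟨fbar, hfbar⟩ : ∃ fbar : (MvPolynomial (Fin 2) R ⧸ I) →ₐ[R] L,
      ∀ x, fbar (Ideal.Quotient.mk I x) = f x := ⟨Ideal.Quotient.liftₐ I f hf, fun x => rfl⟩
  -- the inverse
  set α : MvPolynomial (Fin 2) R ⧸ I := Ideal.Quotient.mk I (X 1) with hα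
  set y : MvPolynomial (Fin 2) R ⧸ I := Ideal.Quotient.mk I (X 0) with hy
  set c₁ : MvPolynomial (Fin 2) R ⧸ I := Ideal.Quotient.mk I (C a₁) with hc₁
  set c₂ : MvPolynomial (Fin 2) R ⧸ I := Ideal.Quotient.mk I (C a₂) with hc₂
  have hrel : 1 + c₁ * α - y * α ^ 3 - c₂ * α ^ 2 = 0 := by
    have : (1 + C a₁ * X 1 - X 0 * X 1 ^ 3 - C a₂ * X 1 ^ 2 : MvPolynomial (Fin 2) R) ∈ I :=
      Ideal.subset_span rfl
    have h0 := (Ideal.Quotient.eq_zero_iff_mem).2 this
    simpa only [map_sub, map_add, map_pow, map_mul, map_one] using h0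
  set v : MvPolynomial (Fin 2) R ⧸ I := y * α ^ 2 - c₁ + c₂ * α with hv
  have hαv : α * v = 1 := by
    rw [hv]; linear_combination (-1 : MvPolynomial (Fin 2) R ⧸ I) * hrel
  let g₀ : Polynomial R →ₐ[R] (MvPolynomial (Fin 2) R ⧸ I) := Polynomial.aeval α
  have hg₀X : g₀ Polynomial.X = α := by simp [g₀]
  have hunit : ∀ z : Submonoid.powers (Polynomial.X : Polynomial R), IsUnit (g₀ z) := by
    rintro ⟨_, n, rfl⟩
    simp only [map_pow, hg₀X]
    exact (IsUnit.of_mul_eq_one _ hαv).pow n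
  let g : L →ₐ[R] (MvPolynomial (Fin 2) R ⧸ I) := IsLocalization.liftAlgHom (S := L) hunit
  have hg_alg : ∀ q : Polynomial R, g (algebraMap (Polynomial R) L q) = g₀ q := by
    intro q
    simp [g, IsLocalization.liftAlgHom_apply]
  have hgT : g T = α := by rw [hT, hg_alg, hg₀X]
  have hgTi : g Ti = v := by
    have h1 : g T * g Ti = 1 := by rw [← map_mul, hTTi, map_one]
    rw [hgT] at h1
    calc g Ti = (v * α) * g Ti := by rw [mul_comm v α, hαv, one_mul]
      _ = v * (α * g Ti) := by ring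
      _ = v := by rw [h1, mul_one]
  have hgC : ∀ r : R, g (algebraMap R L r) = Ideal.Quotient.mk I (C r) := fun r => by
    rw [AlgHom.commutes]; rfl
  have h1 : fbar.comp g = AlgHom.id R _ := by
    apply IsLocalization.algHom_ext (Submonoid.powers (Polynomial.X : Polynomial R))
    apply Polynomial.algHom_ext
    show fbar (g T) = T
    rw [hgT, hα, hfbar, hf1]
  have h2 : g.comp fbar = AlgHom.id R _ := by
    apply Ideal.Quotient.algHom_ext
    apply MvPolynomial.algHom_ext
    intro i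
    fin_cases i
    · simp only [Fin.zero_eta, AlgHom.coe_comp, Function.comp_apply, Ideal.Quotient.mkₐ_eq_mk,
        AlgHom.id_comp, hfbar, hf0, map_sub, map_add, map_pow, map_mul, map_one, hgT, hgTi, hgC]
      show (1 + c₁ * α - c₂ * α ^ 2) * v ^ 3 = y
      have h3 : α ^ 3 * v ^ 3 = 1 := by rw [← mul_pow, hαv, one_pow]
      linear_combination (v ^ 3) * hrel + y * h3
    · simp only [Fin.mk_one, AlgHom.coe_comp, Function.comp_apply, Ideal.Quotient.mkₐ_eq_mk,
        AlgHom.id_comp, hfbar, hf1, hgT]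
      rfl
  have := smoothPoly R
  have : Algebra.Smooth (Polynomial R) L :=
    Algebra.Smooth.of_isLocalization_Away (Polynomial.X : Polynomial R)
  have : Algebra.Smooth R L := Algebra.Smooth.comp R (Polynomial R) L
  exact Algebra.Smooth.of_equiv (AlgEquiv.ofAlgHom g fbar h2 h1)

end S19182aux

namespace Groth.Agent.S19182

open MvPolynomial in
/-- Let R be a commutative ring and a₁, a₂ ∈ R. The two affine charts of the blow-up of the plane curve
y² + a₁xy = x³ + a₂x² at the section x = y = 0, with coordinate rings R[y, α]/(1 + a₁α − yα³ − a₂α²)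
and R[x, β]/(β² + a₁β − x − a₂) (variables indexed 0 and 1 in this order), are smooth R-algebras
(formally smooth of finite presentation). This is the local computation behind the statement that
the blow-up of a Weierstrass curve along a section through its singular locus is a smooth proper
curve of genus 0. -/
theorem result (R : Type u) [CommRing R] (a₁ a₂ : R) :
    Algebra.Smooth R (MvPolynomial (Fin 2) R ⧸
      Ideal.span ({1 + C a₁ * X 1 - X 0 * X 1 ^ 3 - C a₂ * X 1 ^ 2} : Set (MvPolynomial (Fin 2) R))) ∧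
    Algebra.Smooth R (MvPolynomial (Fin 2) R ⧸
      Ideal.span ({X 1 ^ 2 + C a₁ * X 1 - X 0 - C a₂} : Set (MvPolynomial (Fin 2) R))) := by
  exact ⟨S19182aux.chart1 R a₁ a₂, S19182aux.chart2 R a₁ a₂⟩

end Groth.Agent.S19182
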