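import Groth.Statements.S19183
import Mathlib

set_option autoImplicit false
universe u
open CAlg

namespace Groth.Agent.S19183

/-- Let A be a non-zero commutative ring and f ∈ A a non-zero-divisor. The fibre product A ×_{A/(f)} A
of two copies of A over A/(f) — the A-submodule of A × A of pairs (x, y) with x − y ∈ (f), which is
the coordinate ring of two copies of Spec A glued along the Cartier divisor f = 0 — is a free
A-module of rank 2. (This is what makes the gluing of two copies of a curve along an effective
Cartier divisor finite locally free of degree 2 over the curve.) -/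
theorem result (A : Type u) [CommRing A] [Nontrivial A]
    (f : A) (hf : f ∈ nonZeroDivisors A) :
    Module.Free A (Submodule.comap (LinearMap.fst A A A - LinearMap.snd A A A) (Ideal.span ({f} : Set A))) ∧
      Module.finrank A (Submodule.comap (LinearMap.fst A A A - LinearMap.snd A A A) (Ideal.span ({f} : Set A))) = 2 := by
  set N := Submodule.comap (LinearMap.fst A A A - LinearMap.snd A A A) (Ideal.span ({f} : Set A)) with hN
  have hNmem : ∀ z : A × A, z ∈ N ↔ z.1 - z.2 ∈ Ideal.span ({f} : Set A) := fun z => Iff.rfl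
  let φ₀ : (A × A) →ₗ[A] (A × A) :=
    { toFun := fun z => (z.1 + f * z.2, z.1)
      map_add' := fun x y => by ext <;> simp <;> ring
      map_smul' := fun c x => by ext <;> simp <;> ring }
  have hφ₀ : ∀ z, φ₀ z = (z.1 + f * z.2, z.1) := fun z => rfl
  have hmem : ∀ z, φ₀ z ∈ N := by
    intro z
    rw [hNmem, hφ₀]
    simp only [add_sub_cancel_left]
    exact Ideal.mem_span_singleton'.mpr ⟨z.2, by ring⟩
  let φ : (A × A) →ₗ[A] N := φ₀.codRestrict N hmem
  have hinj : Function.Injective φ := by
    rw [← LinearMap.ker_eq_bot, LinearMap.ker_eq_bot']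
    intro z hz
    have h0 : φ₀ z = 0 := congrArg Subtype.val hz
    rw [hφ₀, Prod.mk_eq_zero] at h0
    obtain ⟨h1, h2⟩ := h0
    rw [h2, zero_add] at h1
    have h3 : z.2 = 0 := (mem_nonZeroDivisors_iff.mp hf).1 z.2 h1
    exact Prod.ext h2 h3
  have hsurj : Function.Surjective φ := by
    rintro ⟨⟨x, y⟩, hxy⟩
    rw [hNmem] at hxy
    obtain ⟨b, hb⟩ := Ideal.mem_span_singleton'.mp hxy
    refine ⟨(y, b), ?_⟩
    apply Subtype.ext
    show φ₀ (y, b) = (x, y)
    rw [hφ₀]
    refine Prod.ext ?_ rfl
    show y + f * b = x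
    simp only at hb
    rw [mul_comm, hb]; ring
  let e : (A × A) ≃ₗ[A] N := LinearEquiv.ofBijective φ ⟨hinj, hsurj⟩
  refine ⟨Module.Free.of_equiv e, ?_⟩
  rw [← e.finrank_eq, Module.finrank_prod, Module.finrank_self]

end Groth.Agent.S19183
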