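import Groth.Statements.S19184
import Mathlib

set_option autoImplicit false
universe u
open CAlg

namespace Groth.Agent.S19184

open Polynomial in
/-- Let S be a commutative ring, a, b ∈ S, f = x² + ax + b ∈ S[x] and R = S[x]/(f), a free S-algebra of
rank 2. Let A ⊂ S[x] be the S-subalgebra of polynomials whose class in R lies in the image of S → R;
it is the fibre product S[x] ×_R S, the coordinate ring of the affine line over S with the degree-2
subscheme Spec R collapsed onto Spec S. Then A is a free S-module and S[x] is a finitely generated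
A-module. -/
theorem result (S : Type u) [CommRing S] (a b : S) :
    Module.Free S ((⊥ : Subalgebra S (S[X] ⧸ Ideal.span ({X ^ 2 + C a * X + C b} : Set S[X]))).comap
        (Ideal.Quotient.mkₐ S (Ideal.span ({X ^ 2 + C a * X + C b} : Set S[X])))) ∧
      Module.Finite ((⊥ : Subalgebra S (S[X] ⧸ Ideal.span ({X ^ 2 + C a * X + C b} : Set S[X]))).comap
        (Ideal.Quotient.mkₐ S (Ideal.span ({X ^ 2 + C a * X + C b} : Set S[X])))) S[X] := by
  classical
  rcases subsingleton_or_nontrivial S with hS | hS
  · haveI : Subsingleton S[X] := inferInstance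
    refine ⟨?_, ?_⟩
    · exact Module.Free.of_subsingleton _ _
    · exact Module.Finite.of_finite
  set f : S[X] := X ^ 2 + C a * X + C b with hf
  set I : Ideal S[X] := Ideal.span {f} with hI
  set A := (⊥ : Subalgebra S (S[X] ⧸ I)).comap (Ideal.Quotient.mkₐ S I) with hA
  have hmonic : f.Monic := by
    rw [hf]; monicity!
  have hdeg : f.natDegree = 2 := by
    rw [hf]; compute_degree!
  have hdeg' : f.degree = 2 := by
    rw [Polynomial.degree_eq_natDegree hmonic.ne_zero, hdeg]; rfl
  have memA : ∀ p : S[X], p ∈ A ↔ ∃ c : S, ∃ q : S[X], p = C c + q * f := by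
    intro p
    rw [hA, Subalgebra.mem_comap, Algebra.mem_bot]
    constructor
    · rintro ⟨c, hc⟩
      have h1 : (Ideal.Quotient.mk I) (C c) = (Ideal.Quotient.mk I) p := hc
      rw [Ideal.Quotient.eq, hI, Ideal.mem_span_singleton] at h1
      obtain ⟨q, hq⟩ := h1
      refine ⟨c, -q, ?_⟩
      linear_combination (-1 : S[X]) * hq
    · rintro ⟨c, q, rfl⟩
      refine ⟨c, ?_⟩
      show (Ideal.Quotient.mk I) (C c) = (Ideal.Quotient.mk I) (C c + q * f)
      rw [Ideal.Quotient.eq, hI, Ideal.mem_span_singleton]
      exact ⟨-q, by ring⟩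
  refine ⟨?_, ?_⟩
  · let ψ : S × S[X] →ₗ[S] S[X] := (Algebra.linearMap S S[X]).coprod (LinearMap.mulRight S f)
    have hψ : ∀ x : S × S[X], ψ x = C x.1 + x.2 * f := by
      intro x
      simp [ψ, LinearMap.coprod_apply, Polynomial.algebraMap_apply]
    let φ : S × S[X] →ₗ[S] A := LinearMap.codRestrict (Subalgebra.toSubmodule A) ψ (by
      intro x
      show ψ x ∈ A
      rw [memA]
      exact ⟨x.1, x.2, hψ x⟩)
    have hinj : Function.Injective φ := by
      rw [← LinearMap.ker_eq_bot, LinearMap.ker_eq_bot']
      intro x hx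
      have h0 : ψ x = 0 := congrArg Subtype.val hx
      rw [hψ] at h0
      have hlt : (C x.1).degree < f.degree := by
        rw [hdeg']
        exact lt_of_le_of_lt Polynomial.degree_C_le (by norm_num)
      have := Polynomial.div_modByMonic_unique (f := (0 : S[X])) x.2 (C x.1) hmonic
        ⟨by linear_combination h0, hlt⟩
      rw [Polynomial.zero_divByMonic, Polynomial.zero_modByMonic] at this
      have h1 : x.1 = 0 := by
        have := this.2.symm
        simpa using this
      exact Prod.ext h1 this.1.symm
    have hsurj : Function.Surjective φ := by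
      rintro ⟨p, hp⟩
      obtain ⟨c, q, rfl⟩ := (memA p).1 hp
      refine ⟨(c, q), ?_⟩
      apply Subtype.ext
      exact hψ (c, q)
    exact Module.Free.of_equiv (LinearEquiv.ofBijective φ ⟨hinj, hsurj⟩)
  · refine ⟨⟨{1, X}, ?_⟩⟩
    rw [eq_top_iff]
    intro p _
    set r := p %ₘ f with hr
    set q := p /ₘ f with hq
    have hp : p = r + f * q := (Polynomial.modByMonic_add_div p f).symm
    have hrdeg : r.natDegree ≤ 1 := by
      have : r.natDegree < f.natDegree := by
        apply Polynomial.natDegree_modByMonic_lt p hmonic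
        intro h1
        rw [h1] at hdeg
        simp at hdeg
      omega
    have hr2 := Polynomial.eq_X_add_C_of_natDegree_le_one hrdeg
    have hmem1 : C (r.coeff 0) + f * q ∈ A := (memA _).2 ⟨_, q, by ring⟩
    have hmem2 : C (r.coeff 1) ∈ A := (memA _).2 ⟨_, 0, by ring⟩
    have : p = (⟨_, hmem1⟩ : A) • (1 : S[X]) + (⟨_, hmem2⟩ : A) • (X : S[X]) := by
      rw [Subalgebra.smul_def, Subalgebra.smul_def]
      simp only [smul_eq_mul, mul_one]
      rw [hp]
      nth_rewrite 1 [hr2]
      ring
    rw [this]
    apply Submodule.add_mem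
    · exact Submodule.smul_mem _ _ (Submodule.subset_span (by simp))
    · exact Submodule.smul_mem _ _ (Submodule.subset_span (by simp))

end Groth.Agent.S19184
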