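import Groth.Statements.S19186
import Mathlib

set_option autoImplicit false
universe u
open OneMot

namespace Groth.Agent.S19186

/-- Let p and ℓ be distinct prime numbers, r and n natural numbers, and f : A → B a homomorphism of
abelian groups whose kernel and cokernel are annihilated by p^r (f a = 0 implies p^r • a = 0, and
every p^r • b lies in the image of f). Then f induces a bijection between the ℓ^n-torsion subgroups
of A and B and a bijection A/ℓ^n A → B/ℓ^n B. Spelled out without quotients: every ℓ^n-torsion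
element of B has exactly one ℓ^n-torsion preimage; an element of A whose image is an ℓ^n-multiple is
itself an ℓ^n-multiple; and every element of B is the sum of an image and an ℓ^n-multiple. -/
theorem result {A B : Type u} [AddCommGroup A] [AddCommGroup B] (f : A →+ B) (p ℓ r n : ℕ) (hp : p.Prime) (hl : ℓ.Prime) (hne : ℓ ≠ p) (hker : ∀ a : A, f a = 0 → p ^ r • a = 0) (hcoker : ∀ b : B, ∃ a : A, f a = p ^ r • b) : (∀ b : B, ℓ ^ n • b = 0 → ∃! a : A, ℓ ^ n • a = 0 ∧ f a = b) ∧ (∀ a : A, (∃ b' : B, f a = ℓ ^ n • b') → ∃ a' : A, a = ℓ ^ n • a') ∧ (∀ b : B, ∃ (a : A) (b' : B), b = f a + ℓ ^ n • b') := by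
  have hcop : Nat.Coprime (p ^ r) (ℓ ^ n) :=
    Nat.Coprime.pow _ _ ((Nat.coprime_primes hp hl).mpr hne.symm)
  have hcopZ : IsCoprime (((p ^ r : ℕ) : ℤ)) (((ℓ ^ n : ℕ) : ℤ)) := Nat.isCoprime_iff_coprime.mpr hcop
  obtain ⟨u, v, huv⟩ := hcopZ
  set P : ℤ := ((p ^ r : ℕ) : ℤ) with hP
  set L : ℤ := ((ℓ ^ n : ℕ) : ℤ) with hL
  have hLA : ∀ x : A, ℓ ^ n • x = L • x := fun x => (natCast_zsmul x _).symm
  have hLB : ∀ x : B, ℓ ^ n • x = L • x := fun x => (natCast_zsmul x _).symm
  have hPA : ∀ x : A, p ^ r • x = P • x := fun x => (natCast_zsmul x _).symm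
  have hPB : ∀ x : B, p ^ r • x = P • x := fun x => (natCast_zsmul x _).symm
  simp only [hLA, hLB]
  simp only [hPA, hPB] at hker hcoker
  -- second Bezout relation
  have huv2 : (u * u) * (P * P) + (2 * u * v * P + v * v * L) * L = 1 := by
    have : (u * P + v * L) ^ 2 = 1 := by rw [huv]; ring
    linear_combination this
  refine ⟨?_, ?_, ?_⟩
  · intro b hb
    obtain ⟨a₀, ha₀⟩ := hcoker b
    -- a₁ = u • a₀ has f a₁ = b
    have hfa₁ : f (u • a₀) = b := by
      rw [map_zsmul, ha₀]
      linear_combination (norm := module) (huv • b) - v • hb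
    have hPL : P • (L • (u • a₀)) = 0 := by
      apply hker
      rw [map_zsmul, hfa₁, hb]
    refine ⟨(u * P) • (u • a₀), ⟨?_, ?_⟩, ?_⟩
    · linear_combination (norm := module) u • hPL
    · rw [map_zsmul, hfa₁]
      linear_combination (norm := module) (huv • b) - v • hb
    · rintro a' ⟨ha'L, ha'f⟩
      have hd : f (a' - (u * P) • (u • a₀)) = 0 := by
        rw [map_sub, ha'f, map_zsmul, hfa₁]
        linear_combination (norm := module) -(huv • b) + v • hb
      have hPd := hker _ hd
      have hLd : L • (a' - (u * P) • (u • a₀)) = 0 := by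
        linear_combination (norm := module) ha'L - u • hPL
      have : a' - (u * P) • (u • a₀) = 0 := by
        linear_combination (norm := module) -(huv • (a' - (u * P) • (u • a₀))) + u • hPd + v • hLd
      exact sub_eq_zero.mp this
  · rintro a ⟨b', hb'⟩
    obtain ⟨a₀, ha₀⟩ := hcoker b'
    have hd : f (P • a - L • a₀) = 0 := by
      rw [map_sub, map_zsmul, map_zsmul, hb', ha₀]
      module
    have hPd := hker _ hd
    refine ⟨(u * u * P) • a₀ + (2 * u * v * P + v * v * L) • a, ?_⟩
    linear_combination (norm := module) -(huv2 • a) + (u * u) • hPd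
  · intro b
    obtain ⟨a₀, ha₀⟩ := hcoker b
    refine ⟨u • a₀, v • b, ?_⟩
    rw [map_zsmul, ha₀]
    linear_combination (norm := module) -(huv • b)

end Groth.Agent.S19186
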