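import Groth.Statements.S19193
import Mathlib

set_option autoImplicit false
universe u
open CategoryTheory Opposite TopologicalSpace
open CohTop

namespace S19193aux
open W4c6blochformula0cyc

variable {X : Type u} [TopologicalSpace X] (F : (Opens X)ᵒᵖ ⥤ AddCommGrpCat.{u})

theorem res_res {V W Z : Opens X} (h₁ : W ≤ V) (h₂ : Z ≤ W) (x : F.obj (op V)) :
    res F h₂ (res F h₁ x) = res F (h₂.trans h₁) x := by
  unfold res
  rw [← AddCommGrpCat.comp_apply, ← F.map_comp]
  rfl

theorem res_self {V : Opens X} (h : V ≤ V) (x : F.obj (op V)) : res F h x = x := by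
  unfold res
  have : (homOfLE h).op = 𝟙 (op V) := rfl
  rw [this, F.map_id]
  rfl

variable {ι : Type u} (U : ι → Opens X)

theorem res_congr {k : ℕ} (f : Cochain F U k) (t t' : Fin k → ι) (h : t = t') (W : Opens X)
    (hW : W ≤ cechOpen U t) (hW' : W ≤ cechOpen U t') :
    res F hW (f t) = res F hW' (f t') := by
  subst h
  rfl

theorem transport_E (E : ∀ (V : Opens X) (α : ι), F.obj (op (V ⊓ U α)) →+ F.obj (op V))
    (V₁ V₂ : Opens X) (h : V₁ = V₂) (α : ι) (g : F.obj (op (V₁ ⊓ U α))) :
    res F (le_of_eq h.symm) (E V₁ α g) =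
      E V₂ α (res F (inf_le_inf_right (U α) (le_of_eq h.symm)) g) := by
  subst h
  rw [res_self, res_self]

theorem cechOpen_eq {n : ℕ} (t : Fin (n + 1) → ι) (i : Fin (n + 1)) :
    cechOpen U (t ∘ i.succAbove) ⊓ U (t i) = cechOpen U t := by
  apply le_antisymm
  · refine le_iInf fun j => ?_
    rcases eq_or_ne j i with rfl | hj
    · exact inf_le_right
    · obtain ⟨j', rfl⟩ := Fin.exists_succAbove_eq hj
      exact inf_le_left.trans (iInf_le (fun j => U ((t ∘ i.succAbove) j)) j')
  · exact le_inf (cechOpen_le_comp U t i) (iInf_le (fun j => U (t j)) i)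


theorem key (E : ∀ (V : Opens X) (α : ι), F.obj (op (V ⊓ U α)) →+ F.obj (op V))
    (h3 : ∀ (m : ℕ) (t : Fin (m + 1) → ι) (α β : ι) (g : F.obj (op (cechOpen U t ⊓ U α))),
      res F inf_le_left (E (cechOpen U t) α g) =
        E (cechOpen U t ⊓ U β) α (res F (inf_le_inf_right (U α) inf_le_left) g))
    {n : ℕ} (t : Fin (n + 2) → ι) (i : Fin (n + 2)) (α : ι)
    (g : F.obj (op (cechOpen U (t ∘ i.succAbove) ⊓ U α))) :
    res F (cechOpen_le_comp U t i) (E (cechOpen U (t ∘ i.succAbove)) α g) =
      E (cechOpen U t) α (res F (inf_le_inf_right (U α) (cechOpen_le_comp U t i)) g) := by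
  have heq := cechOpen_eq U t i
  have h1 : res F (cechOpen_le_comp U t i) (E (cechOpen U (t ∘ i.succAbove)) α g) =
      res F (le_of_eq heq.symm) (res F inf_le_left (E (cechOpen U (t ∘ i.succAbove)) α g)) := by
    rw [res_res]
  rw [h1, h3 n (t ∘ i.succAbove) α (t i) g, transport_E F U E _ _ heq, res_res]

end S19193aux

open S19193aux W4c6blochformula0cyc

namespace Groth.Agent.S19193

open W4c6blochformula0cyc in
/-- Let `F` be a presheaf of abelian groups on a topological space `X`, `U` a family of opens of `X`
indexed by a finite type, and suppose given, for every open `V` and every index `α`, an additive map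
`E V α : F(V ∩ U_α) → F(V)` such that for every nonempty tuple of indices `t`, with `V = U_{t_0} ∩ ⋯
∩ U_{t_m}`: (i) `∑_α E V α (f|_{V ∩ U_α}) = f` for all `f ∈ F(V)`, and (ii) `(E V α g)|_{V ∩ U_β} =
E (V ∩ U_β) α (g|_{V ∩ U_β ∩ U_α})` for all indices `α, β` and all `g ∈ F(V ∩ U_α)`. Then the
operator `H` on ordered Čech cochains, `(H f)_t = ∑_α E (U_t) α (f_{(α, t)})`, satisfies `H (δ f) +
δ (H f) = f` for every Čech cochain `f` on tuples of length at least `2`, i.e. in every Čech degree
`≥ 1`. (The published statement takes a flasque sheaf on an open cover and extension maps attached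
to pairs of finite intersections; this row takes any presheaf, any finite family of opens, and maps
that may depend on the index, none of which the printed argument needs. The published statement also
asserts the identity in every degree of the Čech complex without augmentation term, and allows an
infinite index set with finitely supported sums; in Čech degree `0`, where that complex has no term
below and the identity reads `H (δ f) = f`, it fails in general — for the one-member cover of a
point and the constant presheaf `ℤ` with `E` the identity, `δ f` vanishes on the pair while `f` need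
not — so it is stated here from degree `1` on, i.e. for cochains on tuples of length at least `2`
(the whole-space term on the empty tuple carried by the cochain groups used here plays no role), and
for a finite index type.) -/
theorem result {X : Type u} [TopologicalSpace X]
    {ι : Type u} [Fintype ι] (F : (Opens X)ᵒᵖ ⥤ AddCommGrpCat.{u}) (U : ι → Opens X)
    (E : ∀ (V : Opens X) (α : ι), F.obj (op (V ⊓ U α)) →+ F.obj (op V))
    (h2 : ∀ (m : ℕ) (t : Fin (m + 1) → ι) (f : F.obj (op (cechOpen U t))),
      ∑ α, E (cechOpen U t) α (res F inf_le_left f) = f)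
    (h3 : ∀ (m : ℕ) (t : Fin (m + 1) → ι) (α β : ι) (g : F.obj (op (cechOpen U t ⊓ U α))),
      res F inf_le_left (E (cechOpen U t) α g) =
        E (cechOpen U t ⊓ U β) α (res F (inf_le_inf_right (U α) inf_le_left) g))
    (n : ℕ) (f : Cochain F U (n + 2)) :
    homotopy F U E (n + 2) (delta F U (n + 2) f) + delta F U (n + 1) (homotopy F U E (n + 1) f) = f := by
  funext t
  -- the common terms
  have hle : ∀ (α : ι) (i : Fin (n + 2)),
      cechOpen U t ⊓ U α ≤ cechOpen U (Fin.cons α (t ∘ i.succAbove) : Fin (n + 2) → ι) :=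
    fun α i => (inf_le_inf_right (U α) (cechOpen_le_comp U t i)).trans
      (inf_le_cechOpen_cons U (t ∘ i.succAbove) α)
  set T : ι → Fin (n + 2) → F.obj (op (cechOpen U t)) := fun α i =>
    E (cechOpen U t) α (res F (hle α i) (f (Fin.cons α (t ∘ i.succAbove)))) with hT
  -- first term
  have hA : (homotopy F U E (n + 2) (delta F U (n + 2) f)) t =
      ∑ α, (E (cechOpen U t) α (res F inf_le_left (f t)) +
        ∑ i : Fin (n + 2), ((-1 : ℤ) ^ ((i.succ : Fin (n + 3)) : ℕ)) • T α i) := by
    show ∑ α : ι, E (cechOpen U t) α (res F (inf_le_cechOpen_cons U t α)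
      (∑ j : Fin (n + 3), ((-1 : ℤ) ^ (j : ℕ)) •
        res F (cechOpen_le_comp U (Fin.cons α t) j) (f ((Fin.cons α t : Fin (n + 3) → ι) ∘ j.succAbove)))) = _
    refine Finset.sum_congr rfl fun α _ => ?_
    rw [map_sum, map_sum, Fin.sum_univ_succ]
    congr 1
    · simp only [Fin.val_zero, pow_zero, one_smul]
      rw [res_res]
      congr 1
    · refine Finset.sum_congr rfl fun i _ => ?_
      rw [map_zsmul, map_zsmul, res_res]
      congr 2
      exact res_congr F U f _ _ (by
        funext j
        refine Fin.cases ?_ (fun j' => ?_) j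
        · simp
        · simp) _ _ _
  -- second term
  have hB : (delta F U (n + 1) (homotopy F U E (n + 1) f)) t =
      ∑ i : Fin (n + 2), ((-1 : ℤ) ^ (i : ℕ)) • ∑ α, T α i := by
    show ∑ i : Fin (n + 2), ((-1 : ℤ) ^ (i : ℕ)) • res F (cechOpen_le_comp U t i)
      (∑ α : ι, E (cechOpen U (t ∘ i.succAbove)) α (res F (inf_le_cechOpen_cons U (t ∘ i.succAbove) α)
        (f (Fin.cons α (t ∘ i.succAbove))))) = _
    refine Finset.sum_congr rfl fun i _ => ?_
    congr 1
    rw [map_sum]
    refine Finset.sum_congr rfl fun α _ => ?_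
    rw [key F U E h3 t i α, res_res]
  have hsum : ∑ α, E (cechOpen U t) α (res F inf_le_left (f t)) = f t := h2 (n + 1) t (f t)
  show (homotopy F U E (n + 2) (delta F U (n + 2) f)) t +
    (delta F U (n + 1) (homotopy F U E (n + 1) f)) t = f t
  rw [hA, hB, Finset.sum_add_distrib, hsum, add_assoc]
  have hcancel : ∑ α, ∑ i : Fin (n + 2), ((-1 : ℤ) ^ ((i.succ : Fin (n + 3)) : ℕ)) • T α i +
      ∑ i : Fin (n + 2), ((-1 : ℤ) ^ (i : ℕ)) • ∑ α, T α i = 0 := by
    rw [Finset.sum_comm, ← Finset.sum_add_distrib]
    refine Finset.sum_eq_zero fun i _ => ?_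
    rw [Finset.smul_sum, ← Finset.sum_add_distrib]
    refine Finset.sum_eq_zero fun α _ => ?_
    rw [← add_zsmul, Fin.val_succ, pow_succ]
    simp
  rw [hcancel, add_zero]

end Groth.Agent.S19193
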