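import Groth.Statements.S19196
import Mathlib

set_option autoImplicit false
universe u
open RelS1

namespace Groth.Agent.S19196

/-- Let R be a Noetherian commutative ring and N a finitely generated R-module which fails Serre's
condition (S_1), in the sense that some associated prime of N is not a minimal prime of the
annihilator of N. Then there exist an element a of R lying in no minimal prime of the annihilator of
N and a nonzero element b of N with a • b = 0; thus the basic open set D(a) meets the support of N
densely while restriction to it is not injective on N. -/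
theorem result (R N : Type u) [CommRing R] [IsNoetherianRing R]
    [AddCommGroup N] [Module R N] [Module.Finite R N]
    (h : ¬ associatedPrimes R N ⊆ (Module.annihilator R N).minimalPrimes) :
    ∃ (a : R) (b : N), (∀ P ∈ (Module.annihilator R N).minimalPrimes, a ∉ P) ∧ b ≠ 0 ∧ a • b = 0 := by
  rw [Set.not_subset] at h
  obtain ⟨p, hp, hpmin⟩ := h
  obtain ⟨hprime, b, hb⟩ := isAssociatedPrime_iff.mp hp
  have hmem : ∀ r : R, r ∈ p ↔ r • b = 0 := by
    intro r
    rw [hb, Submodule.mem_colon_singleton, Submodule.mem_bot]
  have hb0 : b ≠ 0 := by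
    rintro rfl
    apply hprime.ne_top
    rw [Ideal.eq_top_iff_one, hmem]
    simp
  have hann : Module.annihilator R N ≤ p := by
    intro r hr
    rw [hmem]
    exact Module.mem_annihilator.mp hr b
  have hfin := Ideal.finite_minimalPrimes_of_isNoetherianRing R (Module.annihilator R N)
  have hnot : ¬ ((p : Set R) ⊆ ⋃ P ∈ (hfin.toFinset : Set (Ideal R)), ((id P : Ideal R) : Set R)) := by
    intro hsub
    rw [Ideal.subset_union_prime (f := id) p p] at hsub
    · obtain ⟨P, hP, hpP⟩ := hsub
      rw [Set.Finite.mem_toFinset] at hP
      have hPp : P ≤ p := hP.2 ⟨hprime, hann⟩ hpP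
      exact hpmin ((le_antisymm hpP hPp) ▸ hP)
    · intro P hP _ _
      rw [Set.Finite.mem_toFinset] at hP
      exact hP.1.1
  obtain ⟨a, hap, hau⟩ := Set.not_subset.mp hnot
  refine ⟨a, b, ?_, hb0, (hmem a).mp hap⟩
  intro P hP haP
  apply hau
  simp only [Set.Finite.coe_toFinset, id, Set.mem_iUnion, SetLike.mem_coe, exists_prop]
  exact ⟨P, hP, haP⟩

end Groth.Agent.S19196
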