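import Groth.Statements.S19209
import Groth.Agent.Lib.Helper6.NewtonPoly

set_option autoImplicit false
universe u
open Curves

namespace Groth.Agent.S19209

/-- Let n ≥ 1 and let p_0 ≥ p_1 ≥ … ≥ p_n = 0 be real numbers. Then some chain 0 = s_0 < s_1 < … < s_l =
n satisfies Σ_{k<l} (p_{s_k} − p_{s_{k+1}})·(s_k + s_{k+1}) ≤ (2n/(n+1))·(p_0 + p_1 + … + p_n).
Equivalently the minimum of these sums over all chains, which is twice the area under the Newton
polygon (lower convex hull) of the points (k, p_k), is at most 2n/(n+1) times the sum of the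
weights. -/
theorem result (n : ℕ) (hn : 1 ≤ n) (p : ℕ → ℝ)
    (hp : ∀ i j : ℕ, i ≤ j → j ≤ n → p j ≤ p i) (hpn : p n = 0) :
    ∃ (l : ℕ) (s : ℕ → ℕ), s 0 = 0 ∧ s l = n ∧ (∀ k : ℕ, k < l → s k < s (k + 1)) ∧
      (∑ k ∈ Finset.range l, (p (s k) - p (s (k + 1))) * ((s k : ℝ) + (s (k + 1) : ℝ))) ≤
        2 * (n : ℝ) / ((n : ℝ) + 1) * ∑ i ∈ Finset.range (n + 1), p i := by
  obtain ⟨l, s, L, hs0, hsl, hmono, hT, hLp, hLc⟩ :=
    Groth.Agent.Lib.Helper6.NewtonPoly.good n hn p hp hpn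
  refine ⟨l, s, hs0, hsl, hmono, ?_⟩
  rw [hT]
  have hnpos : (0 : ℝ) < n := by exact_mod_cast hn
  have hn1 : (0 : ℝ) < (n : ℝ) + 1 := by linarith
  have hSL : ∑ i ∈ Finset.range (n + 1), L i ≤ ∑ i ∈ Finset.range (n + 1), p i :=
    Finset.sum_le_sum fun i hi => hLp i (by have := Finset.mem_range.1 hi; omega)
  have hchord : ∑ i ∈ Finset.range (n + 1), L i ≤ p 0 * ((n : ℝ) + 1) / 2 := by
    have h1 : ∑ i ∈ Finset.range (n + 1), L i ≤
        ∑ i ∈ Finset.range (n + 1), p 0 * ((n : ℝ) - i) / n :=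
      Finset.sum_le_sum fun i hi => hLc i (by have := Finset.mem_range.1 hi; omega)
    have h2 : ∑ i ∈ Finset.range (n + 1), p 0 * ((n : ℝ) - i) / n = p 0 * ((n : ℝ) + 1) / 2 := by
      have : ∀ i ∈ Finset.range (n + 1), p 0 * ((n : ℝ) - i) / n = p 0 / n * ((n : ℝ) - (i : ℝ)) := by
        intro i _; ring
      rw [Finset.sum_congr rfl this, ← Finset.mul_sum, Finset.sum_sub_distrib,
        Groth.Agent.Lib.Helper6.NewtonPoly.sum_range_cast]
      simp only [Finset.sum_const, Finset.card_range, nsmul_eq_mul]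
      push_cast
      field_simp
      ring
    linarith
  set SL := ∑ i ∈ Finset.range (n + 1), L i with hSLdef
  set Sp := ∑ i ∈ Finset.range (n + 1), p i with hSpdef
  have hcoef : (0 : ℝ) ≤ 2 * (n : ℝ) / ((n : ℝ) + 1) := by positivity
  have h3 : 2 * SL - p 0 ≤ 2 * (n : ℝ) / ((n : ℝ) + 1) * SL := by
    have h4 : 2 * SL / ((n : ℝ) + 1) ≤ p 0 := by
      rw [div_le_iff₀ hn1]
      linarith
    have h5 : 2 * (n : ℝ) / ((n : ℝ) + 1) * SL = 2 * SL - 2 * SL / ((n : ℝ) + 1) := by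
      field_simp
      ring
    rw [h5]
    linarith
  calc 2 * SL - p 0 ≤ 2 * (n : ℝ) / ((n : ℝ) + 1) * SL := h3
    _ ≤ 2 * (n : ℝ) / ((n : ℝ) + 1) * Sp := mul_le_mul_of_nonneg_left hSL hcoef

end Groth.Agent.S19209
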