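import Groth.Statements.S19210
import Mathlib

set_option autoImplicit false
universe u
open LocAlg

namespace Groth.Agent.S19210

/-- mean value type inequalities for powers -/
theorem pow_sub_pow_le (x y : ℝ) (hy : 0 ≤ y) (hxy : y ≤ x) (n : ℕ) :
    x ^ n - y ^ n ≤ n * x ^ (n - 1) * (x - y) ∧ n * y ^ (n - 1) * (x - y) ≤ x ^ n - y ^ n := by
  have hx : 0 ≤ x := hy.trans hxy
  have h := geom_sum₂_mul x y n
  rw [← h]
  constructor
  · apply mul_le_mul_of_nonneg_right _ (sub_nonneg.mpr hxy)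
    calc ∑ i ∈ Finset.range n, x ^ i * y ^ (n - 1 - i)
        ≤ ∑ i ∈ Finset.range n, x ^ (n - 1) := by
          refine Finset.sum_le_sum fun i hi => ?_
          have hi' : i < n := Finset.mem_range.mp hi
          calc x ^ i * y ^ (n - 1 - i) ≤ x ^ i * x ^ (n - 1 - i) :=
                mul_le_mul_of_nonneg_left (pow_le_pow_left₀ hy hxy _) (pow_nonneg hx _)
            _ = x ^ (n - 1) := by rw [← pow_add]; congr 1; omega
      _ = n * x ^ (n - 1) := by simp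
  · apply mul_le_mul_of_nonneg_right _ (sub_nonneg.mpr hxy)
    calc (n : ℝ) * y ^ (n - 1) = ∑ i ∈ Finset.range n, y ^ (n - 1) := by simp
      _ ≤ ∑ i ∈ Finset.range n, x ^ i * y ^ (n - 1 - i) := by
          refine Finset.sum_le_sum fun i hi => ?_
          have hi' : i < n := Finset.mem_range.mp hi
          calc y ^ (n - 1) = y ^ i * y ^ (n - 1 - i) := by rw [← pow_add]; congr 1; omega
            _ ≤ x ^ i * y ^ (n - 1 - i) :=
                mul_le_mul_of_nonneg_right (pow_le_pow_left₀ hy hxy _) (pow_nonneg hy _)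

/-- power sums -/
theorem powsum_bound (a : ℕ) (n : ℕ) (hn : 1 ≤ n) :
    |(∑ i ∈ Finset.range n, ((i : ℝ) + 1) ^ a) - (n : ℝ) ^ (a + 1) / ((a : ℝ) + 1)| ≤
      2 ^ a * (n : ℝ) ^ a := by
  have ha1 : (0 : ℝ) < (a : ℝ) + 1 := by positivity
  set P := ∑ i ∈ Finset.range n, ((i : ℝ) + 1) ^ a with hP
  -- lower bound
  have hlow : (n : ℝ) ^ (a + 1) ≤ ((a : ℝ) + 1) * P := by
    have h1 : ∀ i ∈ Finset.range n, ((i : ℝ) + 1) ^ (a + 1) - (i : ℝ) ^ (a + 1) ≤
        ((a : ℝ) + 1) * ((i : ℝ) + 1) ^ a := by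
      intro i _
      have := (pow_sub_pow_le ((i : ℝ) + 1) (i : ℝ) (Nat.cast_nonneg i) (by linarith) (a + 1)).1
      simpa using this
    have h2 := Finset.sum_le_sum h1
    rw [← Finset.mul_sum] at h2
    have h3 := Finset.sum_range_sub (fun i : ℕ => (i : ℝ) ^ (a + 1)) n
    simp only [Nat.cast_add, Nat.cast_one] at h3
    rw [h3] at h2
    simpa using h2
  -- upper bound
  have hup : ((a : ℝ) + 1) * P ≤ ((n : ℝ) + 1) ^ (a + 1) := by
    have h1 : ∀ i ∈ Finset.range n, ((a : ℝ) + 1) * ((i : ℝ) + 1) ^ a ≤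
        ((i : ℝ) + 1 + 1) ^ (a + 1) - ((i : ℝ) + 1) ^ (a + 1) := by
      intro i _
      have := (pow_sub_pow_le ((i : ℝ) + 1 + 1) ((i : ℝ) + 1) (by positivity) (by linarith) (a + 1)).2
      simpa using this
    have h2 := Finset.sum_le_sum h1
    rw [← Finset.mul_sum] at h2
    have h3 := Finset.sum_range_sub (fun i : ℕ => ((i : ℝ) + 1) ^ (a + 1)) n
    simp only [Nat.cast_add, Nat.cast_one] at h3
    rw [h3] at h2
    have : (0 : ℝ) ≤ ((0 : ℕ) : ℝ) + 1 := by simp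
    have h4 : (0 : ℝ) ≤ (((0 : ℕ) : ℝ) + 1) ^ (a + 1) := by positivity
    linarith
  have hn1 : (1 : ℝ) ≤ n := by exact_mod_cast hn
  have hdiff : ((n : ℝ) + 1) ^ (a + 1) - (n : ℝ) ^ (a + 1) ≤ ((a : ℝ) + 1) * (2 ^ a * (n : ℝ) ^ a) := by
    have := (pow_sub_pow_le ((n : ℝ) + 1) (n : ℝ) (Nat.cast_nonneg n) (by linarith) (a + 1)).1
    have h5 : ((n : ℝ) + 1) ^ a ≤ (2 * (n : ℝ)) ^ a :=
      pow_le_pow_left₀ (by positivity) (by linarith) _
    rw [mul_pow] at h5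
    have h6 : ((a + 1 : ℕ) : ℝ) * ((n : ℝ) + 1) ^ (a + 1 - 1) * ((n : ℝ) + 1 - n)
        = ((a : ℝ) + 1) * ((n : ℝ) + 1) ^ a := by
      simp
    rw [h6] at this
    calc ((n : ℝ) + 1) ^ (a + 1) - (n : ℝ) ^ (a + 1) ≤ ((a : ℝ) + 1) * ((n : ℝ) + 1) ^ a := this
      _ ≤ ((a : ℝ) + 1) * (2 ^ a * (n : ℝ) ^ a) := mul_le_mul_of_nonneg_left h5 ha1.le
  rw [abs_le]
  constructor
  · have : (n : ℝ) ^ (a + 1) / ((a : ℝ) + 1) ≤ P := by
      rw [div_le_iff₀ ha1]; linarith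
    have h0 : (0 : ℝ) ≤ 2 ^ a * (n : ℝ) ^ a := by positivity
    linarith
  · have : P ≤ ((n : ℝ) ^ (a + 1) + ((a : ℝ) + 1) * (2 ^ a * (n : ℝ) ^ a)) / ((a : ℝ) + 1) := by
      rw [le_div_iff₀ ha1]; linarith
    have h7 : ((n : ℝ) ^ (a + 1) + ((a : ℝ) + 1) * (2 ^ a * (n : ℝ) ^ a)) / ((a : ℝ) + 1)
        = (n : ℝ) ^ (a + 1) / ((a : ℝ) + 1) + 2 ^ a * (n : ℝ) ^ a := by
      field_simp
    linarith

/-- the sums -/
noncomputable def S (a b n : ℕ) : ℝ := ∑ i ∈ Finset.range n, ((n : ℝ) - (i : ℝ)) ^ a * (i : ℝ) ^ b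

/-- the leading coefficients -/
noncomputable def c (a b : ℕ) : ℝ := (a.factorial : ℝ) * (b.factorial : ℝ) / ((a + b + 1).factorial : ℝ)

theorem c_succ (a b : ℕ) : c a (b + 1) = c a b - c (a + 1) b := by
  unfold c
  have e1 : a + (b + 1) + 1 = (a + b + 1) + 1 := by ring
  have e2 : a + 1 + b + 1 = (a + b + 1) + 1 := by ring
  rw [e1, e2, Nat.factorial_succ (a + b + 1), Nat.factorial_succ a, Nat.factorial_succ b]
  have h1 : ((a + b + 1).factorial : ℝ) ≠ 0 := by positivity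
  push_cast
  field_simp
  ring

theorem S_rec (a b n : ℕ) : (n : ℝ) * S a b n = S (a + 1) b n + S a (b + 1) n := by
  unfold S
  rw [Finset.mul_sum, ← Finset.sum_add_distrib]
  refine Finset.sum_congr rfl fun i _ => ?_
  ring

theorem main (b : ℕ) : ∀ a : ℕ, ∃ C : ℝ, ∀ n : ℕ, 1 ≤ n →
    |S a b n - c a b * (n : ℝ) ^ (a + b + 1)| ≤ C * (n : ℝ) ^ (a + b) := by
  induction b with
  | zero =>
    intro a
    refine ⟨2 ^ a, fun n hn => ?_⟩
    have h1 : S a 0 n = ∑ i ∈ Finset.range n, ((i : ℝ) + 1) ^ a := by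
      unfold S
      rw [← Finset.sum_range_reflect]
      refine Finset.sum_congr rfl fun i hi => ?_
      have hi' : i < n := Finset.mem_range.mp hi
      have : ((n - 1 - i : ℕ) : ℝ) = (n : ℝ) - 1 - i := by
        rw [Nat.cast_sub (by omega), Nat.cast_sub (by omega)]; simp
      rw [this, pow_zero, mul_one]
      congr 1
      ring
    have h2 : c a 0 = 1 / ((a : ℝ) + 1) := by
      unfold c
      rw [Nat.factorial_zero, Nat.cast_one, mul_one, add_zero, Nat.factorial_succ]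
      have : (a.factorial : ℝ) ≠ 0 := by positivity
      push_cast
      field_simp
    have h3 := powsum_bound a n hn
    rw [h1, h2, add_zero]
    have : 1 / ((a : ℝ) + 1) * (n : ℝ) ^ (a + 1) = (n : ℝ) ^ (a + 1) / ((a : ℝ) + 1) := by ring
    rw [this]
    exact h3
  | succ b ih =>
    intro a
    obtain ⟨C₁, hC₁⟩ := ih a
    obtain ⟨C₂, hC₂⟩ := ih (a + 1)
    refine ⟨C₁ + C₂, fun n hn => ?_⟩
    have h1 := hC₁ n hn
    have h2 := hC₂ n hn
    have hrec := S_rec a b n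
    have hS : S a (b + 1) n = (n : ℝ) * S a b n - S (a + 1) b n := by linarith
    have key : S a (b + 1) n - c a (b + 1) * (n : ℝ) ^ (a + (b + 1) + 1)
        = (n : ℝ) * (S a b n - c a b * (n : ℝ) ^ (a + b + 1))
          - (S (a + 1) b n - c (a + 1) b * (n : ℝ) ^ (a + 1 + b + 1)) := by
      rw [hS, c_succ]
      have e1 : a + (b + 1) + 1 = (a + b + 1) + 1 := by ring
      have e2 : a + 1 + b + 1 = (a + b + 1) + 1 := by ring
      rw [e1, e2, pow_succ]
      ring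
    rw [key]
    have hn0 : (0 : ℝ) ≤ n := Nat.cast_nonneg n
    calc |(n : ℝ) * (S a b n - c a b * (n : ℝ) ^ (a + b + 1))
          - (S (a + 1) b n - c (a + 1) b * (n : ℝ) ^ (a + 1 + b + 1))|
        ≤ |(n : ℝ) * (S a b n - c a b * (n : ℝ) ^ (a + b + 1))|
          + |S (a + 1) b n - c (a + 1) b * (n : ℝ) ^ (a + 1 + b + 1)| := abs_sub _ _
      _ ≤ (n : ℝ) * (C₁ * (n : ℝ) ^ (a + b)) + C₂ * (n : ℝ) ^ (a + 1 + b) := by
          rw [abs_mul, abs_of_nonneg hn0]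
          exact add_le_add (mul_le_mul_of_nonneg_left h1 hn0) h2
      _ = (C₁ + C₂) * (n : ℝ) ^ (a + (b + 1)) := by
          have e3 : a + 1 + b = (a + b) + 1 := by ring
          have e4 : a + (b + 1) = (a + b) + 1 := by ring
          rw [e3, e4, pow_succ]
          ring

/-- For natural numbers j ≤ r, the sums Σ_{i=0}^{n−1} (n − i)^{r−j} i^j equal n^{r+1}·(r − j)!·j!/(r +
1)! up to O(n^r): there is a real constant C with |Σ_{i<n} (n − i)^{r−j} i^j − ((r − j)!·j!/(r +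
1)!)·n^{r+1}| ≤ C·n^r for all n ≥ 1. -/
theorem result (r j : ℕ) (hj : j ≤ r) :
    ∃ C : ℝ, ∀ n : ℕ, 1 ≤ n →
      |(∑ i ∈ Finset.range n, ((n : ℝ) - (i : ℝ)) ^ (r - j) * (i : ℝ) ^ j) -
          ((r - j).factorial : ℝ) * (j.factorial : ℝ) / ((r + 1).factorial : ℝ) * (n : ℝ) ^ (r + 1)| ≤
        C * (n : ℝ) ^ r := by
  obtain ⟨C, hC⟩ := main j (r - j)
  refine ⟨C, fun n hn => ?_⟩
  have h := hC n hn
  have e : r - j + j = r := Nat.sub_add_cancel hj
  unfold S c at h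
  rw [e] at h
  exact h

end Groth.Agent.S19210
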