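import Groth.Statements.S19212
import Mathlib
-- import your own Groth.Agent.* helpers here

set_option autoImplicit false
universe u v
open TensorProduct
open DiagIdeal

namespace Groth.Agent.S19212

open TensorProduct
namespace Aux

variable (k : Type u) [Field k] [CharZero k] (A : Type v) [CommRing A] [Algebra k A]

/-- swap of the first two factors -/
noncomputable def s1 : A ⊗[k] (A ⊗[k] A) →ₗ[k] A ⊗[k] (A ⊗[k] A) :=
  (TensorProduct.leftComm k A A A).toLinearMap

/-- swap of the last two factors -/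
noncomputable def s2 : A ⊗[k] (A ⊗[k] A) →ₗ[k] A ⊗[k] (A ⊗[k] A) :=
  LinearMap.lTensor A (TensorProduct.comm k A A).toLinearMap

@[simp] lemma s1_tmul (a b c : A) : s1 k A (a ⊗ₜ[k] (b ⊗ₜ[k] c)) = b ⊗ₜ[k] (a ⊗ₜ[k] c) := by
  simp [s1]

@[simp] lemma s2_tmul (a b c : A) : s2 k A (a ⊗ₜ[k] (b ⊗ₜ[k] c)) = a ⊗ₜ[k] (c ⊗ₜ[k] b) := by
  simp [s2]

/-- symmetrisation -/
noncomputable def Sym : A ⊗[k] (A ⊗[k] A) →ₗ[k] A ⊗[k] (A ⊗[k] A) :=
  LinearMap.id + s1 k A + s2 k A + (s1 k A) ∘ₗ (s2 k A) + (s2 k A) ∘ₗ (s1 k A)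
    + (s1 k A) ∘ₗ (s2 k A) ∘ₗ (s1 k A)

lemma Sym_tmul (a b c : A) : Sym k A (a ⊗ₜ[k] (b ⊗ₜ[k] c)) =
    a ⊗ₜ[k] (b ⊗ₜ[k] c) + b ⊗ₜ[k] (a ⊗ₜ[k] c) + a ⊗ₜ[k] (c ⊗ₜ[k] b) + c ⊗ₜ[k] (a ⊗ₜ[k] b)
      + b ⊗ₜ[k] (c ⊗ₜ[k] a) + c ⊗ₜ[k] (b ⊗ₜ[k] a) := by
  simp [Sym]

lemma s1_Sym : (s1 k A) ∘ₗ (Sym k A) = Sym k A := by
  apply TensorProduct.ext_threefold'
  intro a b c
  simp only [LinearMap.comp_apply, Sym_tmul, map_add, s1_tmul]
  abel

lemma s2_Sym : (s2 k A) ∘ₗ (Sym k A) = Sym k A := by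
  apply TensorProduct.ext_threefold'
  intro a b c
  simp only [LinearMap.comp_apply, Sym_tmul, map_add, s2_tmul]
  abel

lemma Sym_of_inv (x : A ⊗[k] (A ⊗[k] A)) (h1 : s1 k A x = x) (h2 : s2 k A x = x) :
    Sym k A x = (6 : k) • x := by
  simp only [Sym, LinearMap.add_apply, LinearMap.comp_apply, LinearMap.id_apply, h1, h2]
  rw [show (6 : k) = 1 + 1 + 1 + 1 + 1 + 1 by norm_num]
  simp only [add_smul, one_smul]

variable {k A}

section main

variable (r : A ⊗[k] (A ⊗[k] A) →ₗ[k] A ⊗[k] A)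
    (hr : ∀ a b c : A, r (a ⊗ₜ[k] (b ⊗ₜ[k] c)) = (a * b) ⊗ₜ[k] c)
    (D : A ⊗[k] A →ₗ[k] Ω[A⁄k])
    (hD : ∀ a b : A, D (a ⊗ₜ[k] b) = (2 : A) • (a • KaehlerDifferential.D k A b) - b • KaehlerDifferential.D k A a)

include hr hD in
lemma DrSym : D ∘ₗ r ∘ₗ Sym k A = 0 := by
  apply TensorProduct.ext_threefold'
  intro a b c
  simp only [LinearMap.comp_apply, Sym_tmul, map_add, hr, hD, LinearMap.zero_apply,
    Derivation.leibniz]
  module

/-- the multiplication map -/
noncomputable abbrev mm : A ⊗[k] A →ₗ[k] A := LinearMap.mul' k A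

/-- `θ (a ⊗ b) = a db` -/
noncomputable abbrev th : A ⊗[k] A →ₗ[k] Ω[A⁄k] :=
  ((KaehlerDifferential.D k A).tensorProductTo).restrictScalars k

include hD in
lemma D_eq (z : A ⊗[k] A) :
    D z = (3 : k) • th (k := k) (A := A) z - KaehlerDifferential.D k A (mm (k := k) (A := A) z) := by
  have : D = (3 : k) • th (k := k) (A := A) -
      ((KaehlerDifferential.D k A : A →ₗ[k] Ω[A⁄k])) ∘ₗ (mm (k := k) (A := A)) := by
    apply TensorProduct.ext'
    intro a b
    simp only [hD, LinearMap.sub_apply, LinearMap.smul_apply, LinearMap.comp_apply,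
      LinearMap.restrictScalars_apply, Derivation.tensorProductTo_tmul, LinearMap.mul'_apply,
      Derivation.coeFn_coe, Derivation.leibniz]
    rw [show (3 : k) • (a • (KaehlerDifferential.D k A) b) = (3 : A) • (a • (KaehlerDifferential.D k A) b) by
      rw [← algebraMap_smul A (3 : k), map_ofNat]]
    module
  rw [this]; rfl


include hr in
lemma rSym_one (a : A) : r (Sym k A (a ⊗ₜ[k] ((1:A) ⊗ₜ[k] (1:A)))) =
    (2 : k) • ((2 : k) • (a ⊗ₜ[k] (1:A)) + (1:A) ⊗ₜ[k] a) := by
  simp only [Sym_tmul, map_add, hr, mul_one, one_mul]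
  module

include hr in
lemma mm_rSym_one (a : A) : mm (k := k) (A := A) (r (Sym k A (a ⊗ₜ[k] ((1:A) ⊗ₜ[k] (1:A))))) =
    (6 : k) • a := by
  rw [rSym_one r hr]
  simp only [map_smul, map_add, LinearMap.mul'_apply, mul_one, one_mul]
  module

/-- the projection onto the diagonal ideal `a ⊗ b ↦ a ⊗ b - ab ⊗ 1` -/
noncomputable def PP : A ⊗[k] A →ₗ[k] A ⊗[k] A :=
  LinearMap.id - (TensorProduct.mk k A A).flip 1 ∘ₗ mm (k := k) (A := A)

lemma PP_tmul (a b : A) : PP (k := k) (A := A) (a ⊗ₜ[k] b) = a ⊗ₜ[k] b - (a * b) ⊗ₜ[k] (1:A) := by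
  simp [PP]

lemma PP_of_mem (z : A ⊗[k] A) (hz : mm (k := k) (A := A) z = 0) : PP (k := k) (A := A) z = z := by
  simp [PP, hz]

include hr in
lemma PP_mul_mem (g h : A ⊗[k] A) :
    PP (k := k) (A := A) g * PP (k := k) (A := A) h ∈ LinearMap.range (r ∘ₗ Sym k A) := by
  induction g using TensorProduct.induction_on with
  | zero => simp
  | add g₁ g₂ h₁ h₂ => rw [map_add, add_mul]; exact Submodule.add_mem _ h₁ h₂
  | tmul a b =>
    induction h using TensorProduct.induction_on with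
    | zero => simp
    | add g₁ g₂ h₁ h₂ => rw [map_add, mul_add]; exact Submodule.add_mem _ h₁ h₂
    | tmul a' b' =>
      refine ⟨(2⁻¹ : k) • ((b * b') ⊗ₜ[k] ((a * a') ⊗ₜ[k] (1:A)) - b ⊗ₜ[k] (b' ⊗ₜ[k] (a * a'))), ?_⟩
      simp only [LinearMap.comp_apply, map_smul, map_sub, Sym_tmul, map_add, hr, PP_tmul, mul_one,
        one_mul, sub_mul, mul_sub, Algebra.TensorProduct.tmul_mul_tmul]
      rw [inv_smul_eq_iff₀ (by norm_num)]
      simp only [mul_comm, mul_left_comm, mul_assoc]
      module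


lemma mem_ideal_iff (z : A ⊗[k] A) :
    z ∈ KaehlerDifferential.ideal k A ↔ mm (k := k) (A := A) z = 0 := by
  rw [KaehlerDifferential.ideal, RingHom.mem_ker]
  have : (Algebra.TensorProduct.lmul' k (S := A)) z = mm (k := k) (A := A) z := by
    show _ = LinearMap.mul' k A z
    rw [← Algebra.TensorProduct.lmul'_toLinearMap]; rfl
  rw [← this]

include hr in
lemma sq_le_range (z : A ⊗[k] A) (hz : z ∈ (KaehlerDifferential.ideal k A) ^ 2) :
    z ∈ LinearMap.range (r ∘ₗ Sym k A) := by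
  rw [pow_two] at hz
  refine Submodule.mul_induction_on hz ?_ ?_
  · intro g hg h hh
    have hg' : mm (k := k) (A := A) g = 0 := (mem_ideal_iff g).mp hg
    have hh' : mm (k := k) (A := A) h = 0 := (mem_ideal_iff h).mp hh
    have := PP_mul_mem r hr g h
    rwa [PP_of_mem g hg', PP_of_mem h hh'] at this
  · intro x y hx hy
    exact Submodule.add_mem _ hx hy

include hr hD in
theorem main :
    (∀ y : A ⊗[k] A, D y = 0 ↔ ∃ x : A ⊗[k] (A ⊗[k] A),
        TensorProduct.leftComm k A A A x = x ∧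
        LinearMap.lTensor A (TensorProduct.comm k A A).toLinearMap x = x ∧ r x = y) ∧
    Function.Surjective D := by
  refine ⟨fun y => ⟨fun hy => ?_, ?_⟩, ?_⟩
  · -- kernel is contained in the image
    set y₀ : A ⊗[k] A := (6⁻¹ : k) • r (Sym k A ((mm (k := k) (A := A) y) ⊗ₜ[k] ((1:A) ⊗ₜ[k] (1:A)))) with hy₀
    have hDy₀ : D y₀ = 0 := by
      rw [hy₀, map_smul]
      have := LinearMap.congr_fun (DrSym r hr D hD) ((mm (k := k) (A := A) y) ⊗ₜ[k] ((1:A) ⊗ₜ[k] (1:A)))
      simp only [LinearMap.comp_apply, LinearMap.zero_apply] at this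
      rw [this, smul_zero]
    have hmy₀ : mm (k := k) (A := A) y₀ = mm (k := k) (A := A) y := by
      rw [hy₀, map_smul, mm_rSym_one r hr, smul_smul, inv_mul_cancel₀ (by norm_num), one_smul]
    set z := y - y₀ with hzdef
    have hmz : mm (k := k) (A := A) z = 0 := by rw [hzdef, map_sub, hmy₀, sub_self]
    have hzI : z ∈ KaehlerDifferential.ideal k A := (mem_ideal_iff z).mpr hmz
    have hDz : D z = 0 := by rw [hzdef, map_sub, hy, hDy₀, sub_zero]
    have hth : th (k := k) (A := A) z = 0 := by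
      have := D_eq D hD z
      rw [hDz, hmz, map_zero, sub_zero] at this
      have h3 : (3 : k) ≠ 0 := by norm_num
      exact (smul_eq_zero.mp this.symm).resolve_left h3
    have hcot : (KaehlerDifferential.ideal k A).toCotangent ⟨z, hzI⟩ = 0 := by
      rw [← KaehlerDifferential.D_tensorProductTo]
      exact hth
    rw [Ideal.toCotangent_eq_zero] at hcot
    obtain ⟨w, hw⟩ := sq_le_range r hr z hcot
    refine ⟨Sym k A (w + (6⁻¹ : k) • ((mm (k := k) (A := A) y) ⊗ₜ[k] ((1:A) ⊗ₜ[k] (1:A)))), ?_, ?_, ?_⟩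
    · exact LinearMap.congr_fun (s1_Sym k A) _
    · exact LinearMap.congr_fun (s2_Sym k A) _
    · rw [map_add, map_add, map_smul, map_smul, ← hy₀]
      rw [LinearMap.comp_apply] at hw
      rw [hw, hzdef]; abel
  · rintro ⟨x, h1, h2, rfl⟩
    have h6 := Sym_of_inv k A x h1 h2
    have := LinearMap.congr_fun (DrSym r hr D hD) x
    simp only [LinearMap.comp_apply, LinearMap.zero_apply] at this
    rw [h6, map_smul, map_smul] at this
    have h6' : (6 : k) ≠ 0 := by norm_num
    exact (smul_eq_zero.mp this).resolve_left h6'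
  · -- surjectivity
    intro ω
    obtain ⟨z, rfl⟩ := KaehlerDifferential.tensorProductTo_surjective k A ω
    refine ⟨(3⁻¹ : k) • (z + (2⁻¹ : k) • ((1:A) ⊗ₜ[k] (mm (k := k) (A := A) z))), ?_⟩
    rw [map_smul, inv_smul_eq_iff₀ (by norm_num), map_add, map_smul, D_eq D hD z,
      D_eq D hD ((1:A) ⊗ₜ[k] (mm (k := k) (A := A) z))]
    simp only [LinearMap.restrictScalars_apply, Derivation.tensorProductTo_tmul, one_smul,
      LinearMap.mul'_apply, one_mul]
    module

end main

end Aux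

/-- Let k be an algebraically closed field of characteristic zero and A a smooth k-algebra which is a
domain. Let the symmetric group on three letters permute the factors of A ⊗ A ⊗ A (it is generated
by the swap of the first two factors and the swap of the last two), let r : A ⊗ (A ⊗ A) → A ⊗ A be
the k-linear map a ⊗ b ⊗ c ↦ ab ⊗ c, and let D : A ⊗ A → Ω_{A/k} be the k-linear map a ⊗ b ↦ 2a·db −
b·da. Then an element y of A ⊗ A satisfies D y = 0 if and only if y = r x for some x fixed by both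
swaps, and D is surjective. (This is exactness at the last two places of the four-term right
resolution of the invariants of the ideal of the big diagonal on the symmetric cube of X = Spec A,
namely invariant functions on X³, then functions on X × X through restriction to a diagonal, then
one-forms on X; exactness at the first two places is immediate. The published statement is the sheaf
version on the symmetric cube of a smooth complex variety of any dimension; an algebraically closed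
field of characteristic zero is used here.) -/
theorem result (k : Type u) [Field k] [IsAlgClosed k] [CharZero k]
    (A : Type v) [CommRing A] [Algebra k A] [Algebra.Smooth k A] [IsDomain A]
    (r : A ⊗[k] (A ⊗[k] A) →ₗ[k] A ⊗[k] A)
    (hr : ∀ a b c : A, r (a ⊗ₜ[k] (b ⊗ₜ[k] c)) = (a * b) ⊗ₜ[k] c)
    (D : A ⊗[k] A →ₗ[k] Ω[A⁄k])
    (hD : ∀ a b : A, D (a ⊗ₜ[k] b) = (2 : A) • (a • KaehlerDifferential.D k A b) - b • KaehlerDifferential.D k A a) :
    (∀ y : A ⊗[k] A, D y = 0 ↔ ∃ x : A ⊗[k] (A ⊗[k] A),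
        TensorProduct.leftComm k A A A x = x ∧
        LinearMap.lTensor A (TensorProduct.comm k A A).toLinearMap x = x ∧ r x = y) ∧
    Function.Surjective D := by
  exact Aux.main r hr D hD

end Groth.Agent.S19212
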