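import Groth.Statements.S19213
import Mathlib
-- import your own Groth.Agent.* helpers here

set_option autoImplicit false
universe u v
open TensorProduct
open DiagIdeal

namespace Groth.Agent.S19213

open TensorProduct
namespace Aux

variable (k : Type u) [Field k] [CharZero k] (A : Type v) [CommRing A] [Algebra k A]

/-- swap of the last two factors -/
noncomputable def s2 : A ⊗[k] (A ⊗[k] A) →ₗ[k] A ⊗[k] (A ⊗[k] A) :=
  LinearMap.lTensor A (TensorProduct.comm k A A).toLinearMap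

@[simp] lemma s2_tmul (a b c : A) : s2 k A (a ⊗ₜ[k] (b ⊗ₜ[k] c)) = a ⊗ₜ[k] (c ⊗ₜ[k] b) := by
  simp [s2]

/-- symmetrisation -/
noncomputable def Sym : A ⊗[k] (A ⊗[k] A) →ₗ[k] A ⊗[k] (A ⊗[k] A) :=
  LinearMap.id + s2 k A

lemma Sym_tmul (a b c : A) : Sym k A (a ⊗ₜ[k] (b ⊗ₜ[k] c)) =
    a ⊗ₜ[k] (b ⊗ₜ[k] c) + a ⊗ₜ[k] (c ⊗ₜ[k] b) := by
  simp [Sym]

lemma s2_Sym : (s2 k A) ∘ₗ (Sym k A) = Sym k A := by
  apply TensorProduct.ext_threefold'
  intro a b c
  simp only [LinearMap.comp_apply, Sym_tmul, map_add, s2_tmul]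
  abel

lemma Sym_of_inv (x : A ⊗[k] (A ⊗[k] A)) (h2 : s2 k A x = x) :
    Sym k A x = (2 : k) • x := by
  simp only [Sym, LinearMap.add_apply, LinearMap.id_apply, h2]
  rw [two_smul]

variable {k A}

/-- the multiplication map -/
noncomputable abbrev mm : A ⊗[k] A →ₗ[k] A := LinearMap.mul' k A

/-- `θ (a ⊗ b) = a db` -/
noncomputable abbrev th : A ⊗[k] A →ₗ[k] Ω[A⁄k] :=
  ((KaehlerDifferential.D k A).tensorProductTo).restrictScalars k

lemma mem_ideal_iff (z : A ⊗[k] A) :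
    z ∈ KaehlerDifferential.ideal k A ↔ mm (k := k) (A := A) z = 0 := by
  rw [KaehlerDifferential.ideal, RingHom.mem_ker]
  have : (Algebra.TensorProduct.lmul' k (S := A)) z = mm (k := k) (A := A) z := by
    show _ = LinearMap.mul' k A z
    rw [← Algebra.TensorProduct.lmul'_toLinearMap]; rfl
  rw [← this]

/-- the projection onto the diagonal ideal `a ⊗ b ↦ a ⊗ b - ab ⊗ 1` -/
noncomputable def PP : A ⊗[k] A →ₗ[k] A ⊗[k] A :=
  LinearMap.id - (TensorProduct.mk k A A).flip 1 ∘ₗ mm (k := k) (A := A)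

lemma PP_tmul (a b : A) : PP (k := k) (A := A) (a ⊗ₜ[k] b) = a ⊗ₜ[k] b - (a * b) ⊗ₜ[k] (1:A) := by
  simp [PP]

lemma PP_of_mem (z : A ⊗[k] A) (hz : mm (k := k) (A := A) z = 0) : PP (k := k) (A := A) z = z := by
  simp [PP, hz]

lemma mm_PP (z : A ⊗[k] A) : mm (k := k) (A := A) (PP (k := k) (A := A) z) = 0 := by
  simp [PP]

lemma th_PP (z : A ⊗[k] A) : th (k := k) (A := A) (PP (k := k) (A := A) z) = th (k := k) (A := A) z := by
  simp [PP, Derivation.tensorProductTo_tmul]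

lemma mm_comm (q : A ⊗[k] A) :
    mm (k := k) (A := A) (TensorProduct.comm k A A q) = mm (k := k) (A := A) q := by
  induction q using TensorProduct.induction_on with
  | zero => simp
  | add q₁ q₂ h₁ h₂ => simp only [map_add, h₁, h₂]
  | tmul b v => simp [mul_comm]

/-- `b ⊗ v ↦ v ⊗ b ⊗ 1` -/
noncomputable def WW : A ⊗[k] A →ₗ[k] A ⊗[k] (A ⊗[k] A) :=
  (LinearMap.lTensor A ((TensorProduct.mk k A A).flip 1)) ∘ₗ (TensorProduct.comm k A A).toLinearMap

lemma WW_tmul (b v : A) : WW (k := k) (A := A) (b ⊗ₜ[k] v) = v ⊗ₜ[k] (b ⊗ₜ[k] (1:A)) := by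
  simp [WW]

section main

variable (r₁₂ r₂₃ : A ⊗[k] (A ⊗[k] A) →ₗ[k] A ⊗[k] A)
    (h₁₂ : ∀ a u v : A, r₁₂ (a ⊗ₜ[k] (u ⊗ₜ[k] v)) = (a * u) ⊗ₜ[k] v)
    (h₂₃ : ∀ a u v : A, r₂₃ (a ⊗ₜ[k] (u ⊗ₜ[k] v)) = (u * v) ⊗ₜ[k] a)
    (ψ : (A ⊗[k] A) × (A ⊗[k] A) →ₗ[k] Ω[A⁄k])
    (hψ : ∀ a u b v : A, ψ (a ⊗ₜ[k] u, b ⊗ₜ[k] v) =
      (2 : A) • (a • KaehlerDifferential.D k A u) - v • KaehlerDifferential.D k A b)

include hψ in
lemma psi_inl : ψ ∘ₗ LinearMap.inl k _ _ = (2 : k) • th (k := k) (A := A) := by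
  apply TensorProduct.ext'
  intro a u
  have := hψ a u 0 0
  simp only [tmul_zero, zero_smul, sub_zero] at this
  simp only [LinearMap.comp_apply, LinearMap.inl_apply, this, LinearMap.smul_apply,
    LinearMap.restrictScalars_apply, Derivation.tensorProductTo_tmul]
  rw [← algebraMap_smul A (2 : k), map_ofNat]

include hψ in
lemma psi_inr : ψ ∘ₗ LinearMap.inr k _ _ =
    - th (k := k) (A := A) ∘ₗ (TensorProduct.comm k A A).toLinearMap := by
  apply TensorProduct.ext'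
  intro b v
  have := hψ 0 0 b v
  simp only [tmul_zero, zero_smul, smul_zero, zero_sub] at this
  simp only [LinearMap.comp_apply, LinearMap.inr_apply, this, LinearMap.neg_apply,
    LinearMap.restrictScalars_apply, LinearEquiv.coe_coe, TensorProduct.comm_tmul,
    Derivation.tensorProductTo_tmul]

include hψ in
lemma psi_eq (p q : A ⊗[k] A) : ψ (p, q) =
    (2 : k) • th (k := k) (A := A) p - th (k := k) (A := A) (TensorProduct.comm k A A q) := by
  have h1 := LinearMap.congr_fun (psi_inl ψ hψ) p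
  have h2 := LinearMap.congr_fun (psi_inr ψ hψ) q
  simp only [LinearMap.comp_apply, LinearMap.inl_apply, LinearMap.inr_apply, LinearMap.smul_apply,
    LinearMap.neg_apply, LinearEquiv.coe_coe] at h1 h2
  have : (p, q) = (p, 0) + (0, q) := by simp
  rw [this, map_add, h1, h2]; abel

/-- the pair of restrictions of the symmetrisation -/
noncomputable def RR : A ⊗[k] (A ⊗[k] A) →ₗ[k] (A ⊗[k] A) × (A ⊗[k] A) :=
  (r₁₂.prod r₂₃) ∘ₗ Sym k A

include h₁₂ h₂₃ in
lemma RR_tmul (a u v : A) : RR r₁₂ r₂₃ (a ⊗ₜ[k] (u ⊗ₜ[k] v)) =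
    ((a * u) ⊗ₜ[k] v + (a * v) ⊗ₜ[k] u, (u * v) ⊗ₜ[k] a + (v * u) ⊗ₜ[k] a) := by
  simp [RR, Sym_tmul, h₁₂, h₂₃]

include h₁₂ h₂₃ hψ in
lemma psi_RR : ψ ∘ₗ RR r₁₂ r₂₃ = 0 := by
  apply TensorProduct.ext_threefold'
  intro a u v
  simp only [LinearMap.comp_apply, RR_tmul r₁₂ r₂₃ h₁₂ h₂₃, psi_eq ψ hψ, map_add,
    LinearMap.restrictScalars_apply, Derivation.tensorProductTo_tmul, TensorProduct.comm_tmul,
    LinearMap.zero_apply, Derivation.leibniz]
  rw [← algebraMap_smul A (2 : k), map_ofNat]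
  module

include h₁₂ h₂₃ in
lemma PP_mul_mem (g h : A ⊗[k] A) :
    (PP (k := k) (A := A) g * PP (k := k) (A := A) h, (0 : A ⊗[k] A)) ∈
      LinearMap.range (RR r₁₂ r₂₃) := by
  induction g using TensorProduct.induction_on with
  | zero => exact ⟨0, by simp only [map_zero, zero_mul, mul_zero]; rfl⟩
  | add g₁ g₂ h₁ h₂ =>
    rw [map_add, add_mul]
    have := Submodule.add_mem _ h₁ h₂
    simpa using this
  | tmul a b =>
    induction h using TensorProduct.induction_on with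
    | zero => exact ⟨0, by simp only [map_zero, zero_mul, mul_zero]; rfl⟩
    | add g₁ g₂ h₁ h₂ =>
      rw [map_add, mul_add]
      have := Submodule.add_mem _ h₁ h₂
      simpa using this
    | tmul a' b' =>
      refine ⟨((a * a') ⊗ₜ[k] ((b * b') ⊗ₜ[k] (1:A)) - (a * a') ⊗ₜ[k] (b ⊗ₜ[k] b')), ?_⟩
      simp only [map_sub, RR_tmul r₁₂ r₂₃ h₁₂ h₂₃, PP_tmul, mul_one,
        one_mul, sub_mul, mul_sub, Algebra.TensorProduct.tmul_mul_tmul, Prod.mk_sub_mk]
      refine Prod.ext ?_ ?_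
      · simp only [mul_comm, mul_left_comm, mul_assoc]
        module
      · simp only [mul_comm, mul_left_comm, mul_assoc]
        module

include h₁₂ h₂₃ in
lemma sq_le_range (z : A ⊗[k] A) (hz : z ∈ (KaehlerDifferential.ideal k A) ^ 2) :
    (z, (0 : A ⊗[k] A)) ∈ LinearMap.range (RR r₁₂ r₂₃) := by
  rw [pow_two] at hz
  refine Submodule.mul_induction_on hz ?_ ?_
  · intro g hg h hh
    have hg' : mm (k := k) (A := A) g = 0 := (mem_ideal_iff g).mp hg
    have hh' : mm (k := k) (A := A) h = 0 := (mem_ideal_iff h).mp hh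
    have := PP_mul_mem r₁₂ r₂₃ h₁₂ h₂₃ g h
    rwa [PP_of_mem g hg', PP_of_mem h hh'] at this
  · intro x y hx hy
    have := Submodule.add_mem _ hx hy
    simpa using this

include h₁₂ h₂₃ in
lemma RR_WW (q : A ⊗[k] A) : RR r₁₂ r₂₃ ((2⁻¹ : k) • WW (k := k) (A := A) q) =
    ((2⁻¹ : k) • ((mm (k := k) (A := A) q) ⊗ₜ[k] (1:A) + TensorProduct.comm k A A q), q) := by
  induction q using TensorProduct.induction_on with
  | zero => simp only [map_zero, smul_zero, zero_tmul, add_zero]; rfl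
  | add q₁ q₂ h₁ h₂ =>
    simp only [map_add, smul_add, add_tmul] at h₁ h₂ ⊢
    rw [h₁, h₂]
    refine Prod.ext ?_ ?_
    · simp only [Prod.mk_add_mk, smul_add]; abel
    · simp
  | tmul b v =>
    simp only [WW_tmul, map_smul, RR_tmul r₁₂ r₂₃ h₁₂ h₂₃, LinearMap.mul'_apply,
      TensorProduct.comm_tmul, mul_one, one_mul, Prod.smul_mk]
    refine Prod.ext ?_ ?_
    · simp only [mul_comm]
    · simp only []
      rw [← two_smul k, smul_smul, inv_mul_cancel₀ (by norm_num), one_smul]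


include h₁₂ h₂₃ hψ in
theorem main :
    (∀ p q : A ⊗[k] A, LinearMap.mul' k A p = LinearMap.mul' k A q →
      (ψ (p, q) = 0 ↔ ∃ x : A ⊗[k] (A ⊗[k] A),
        LinearMap.lTensor A (TensorProduct.comm k A A).toLinearMap x = x ∧ r₁₂ x = p ∧ r₂₃ x = q)) ∧
    (∀ ω : Ω[A⁄k], ∃ p q : A ⊗[k] A, LinearMap.mul' k A p = LinearMap.mul' k A q ∧ ψ (p, q) = ω) := by
  have key : ∀ w, ψ (RR r₁₂ r₂₃ w) = 0 := fun w => by
    have := LinearMap.congr_fun (psi_RR r₁₂ r₂₃ h₁₂ h₂₃ ψ hψ) w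
    simpa using this
  refine ⟨fun p q hpq => ⟨fun hy => ?_, ?_⟩, ?_⟩
  · set q' : A ⊗[k] A :=
      (2⁻¹ : k) • ((mm (k := k) (A := A) q) ⊗ₜ[k] (1:A) + TensorProduct.comm k A A q) with hq'
    have hRW := RR_WW r₁₂ r₂₃ h₁₂ h₂₃ q
    rw [← hq'] at hRW
    have hψq : ψ (q', q) = 0 := by rw [← hRW]; exact key _
    have hmq' : mm (k := k) (A := A) q' = mm (k := k) (A := A) q := by
      have hc := mm_comm (k := k) (A := A) q
      rw [hq', map_smul, map_add, hc, LinearMap.mul'_apply, mul_one, ← two_smul k, smul_smul,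
        inv_mul_cancel₀ (by norm_num), one_smul]
    set z := p - q' with hzdef
    have hmz : mm (k := k) (A := A) z = 0 := by
      rw [hzdef, map_sub, hmq']; exact sub_eq_zero.mpr hpq
    have hzI : z ∈ KaehlerDifferential.ideal k A := (mem_ideal_iff z).mpr hmz
    have hψz : ψ (z, 0) = 0 := by
      have : (z, (0 : A ⊗[k] A)) = (p, q) - (q', q) := by simp [hzdef]
      rw [this, map_sub, hy, hψq, sub_zero]
    have hth : th (k := k) (A := A) z = 0 := by
      have := psi_eq ψ hψ z 0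
      rw [hψz, map_zero, map_zero, sub_zero] at this
      have h2 : (2 : k) ≠ 0 := by norm_num
      exact (smul_eq_zero.mp this.symm).resolve_left h2
    have hcot : (KaehlerDifferential.ideal k A).toCotangent ⟨z, hzI⟩ = 0 := by
      rw [← KaehlerDifferential.D_tensorProductTo]
      exact hth
    rw [Ideal.toCotangent_eq_zero] at hcot
    obtain ⟨w, hw⟩ := sq_le_range r₁₂ r₂₃ h₁₂ h₂₃ z hcot
    have hsum : RR r₁₂ r₂₃ (w + (2⁻¹ : k) • WW (k := k) (A := A) q) = (p, q) := by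
      rw [map_add, hw, hRW, hzdef]; simp
    refine ⟨Sym k A (w + (2⁻¹ : k) • WW (k := k) (A := A) q), ?_, ?_, ?_⟩
    · exact LinearMap.congr_fun (s2_Sym k A) _
    · exact congrArg Prod.fst hsum
    · exact congrArg Prod.snd hsum
  · rintro ⟨x, h2, rfl, rfl⟩
    have h6 := Sym_of_inv k A x h2
    have := key x
    rw [RR, LinearMap.comp_apply, h6, map_smul, map_smul] at this
    have h2' : (2 : k) ≠ 0 := by norm_num
    exact (smul_eq_zero.mp this).resolve_left h2'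
  · intro ω
    obtain ⟨z, rfl⟩ := KaehlerDifferential.tensorProductTo_surjective k A ω
    refine ⟨(2⁻¹ : k) • PP (k := k) (A := A) z, 0, ?_, ?_⟩
    · have := mm_PP (k := k) (A := A) z
      rw [map_smul, map_zero]
      show (2⁻¹ : k) • mm (k := k) (A := A) _ = 0
      rw [this, smul_zero]
    · rw [psi_eq ψ hψ, map_zero, map_zero, sub_zero, map_smul, smul_smul,
        mul_inv_cancel₀ (by norm_num), one_smul, th_PP]
      rfl

end main

end Aux

/-- Let k be an algebraically closed field of characteristic zero and A a smooth k-algebra which is a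
domain. Let r₁₂, r₂₃ : A ⊗ (A ⊗ A) → A ⊗ A be the k-linear maps a ⊗ u ⊗ v ↦ au ⊗ v and a ⊗ u ⊗ v ↦
uv ⊗ a (restriction to the diagonal of factors 1, 2, resp. 2, 3, the repeated coordinate written
first), let m : A ⊗ A → A be multiplication, and let ψ : (A ⊗ A) × (A ⊗ A) → Ω_{A/k} be the k-linear
map with ψ(a ⊗ u, b ⊗ v) = 2a·du − v·db. Then for p, q in A ⊗ A with m p = m q one has ψ(p, q) = 0
if and only if (p, q) = (r₁₂ x, r₂₃ x) for some x fixed by the swap of the last two tensor factors;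
and every element of Ω_{A/k} is ψ(p, q) for some pair with m p = m q. (This is exactness at the last
two places of the right resolution, on the symmetric cube of X = Spec A, of the invariants of the
ideal of the big diagonal under the transposition of the last two factors; exactness at the first
two places is immediate. The published statement is the sheaf version for a smooth complex variety
of any dimension; an algebraically closed field of characteristic zero is used here.) -/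
theorem result (k : Type u) [Field k] [IsAlgClosed k] [CharZero k]
    (A : Type v) [CommRing A] [Algebra k A] [Algebra.Smooth k A] [IsDomain A]
    (r₁₂ r₂₃ : A ⊗[k] (A ⊗[k] A) →ₗ[k] A ⊗[k] A)
    (h₁₂ : ∀ a u v : A, r₁₂ (a ⊗ₜ[k] (u ⊗ₜ[k] v)) = (a * u) ⊗ₜ[k] v)
    (h₂₃ : ∀ a u v : A, r₂₃ (a ⊗ₜ[k] (u ⊗ₜ[k] v)) = (u * v) ⊗ₜ[k] a)
    (ψ : (A ⊗[k] A) × (A ⊗[k] A) →ₗ[k] Ω[A⁄k])
    (hψ : ∀ a u b v : A, ψ (a ⊗ₜ[k] u, b ⊗ₜ[k] v) =
      (2 : A) • (a • KaehlerDifferential.D k A u) - v • KaehlerDifferential.D k A b) :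
    (∀ p q : A ⊗[k] A, LinearMap.mul' k A p = LinearMap.mul' k A q →
      (ψ (p, q) = 0 ↔ ∃ x : A ⊗[k] (A ⊗[k] A),
        LinearMap.lTensor A (TensorProduct.comm k A A).toLinearMap x = x ∧ r₁₂ x = p ∧ r₂₃ x = q)) ∧
    (∀ ω : Ω[A⁄k], ∃ p q : A ⊗[k] A, LinearMap.mul' k A p = LinearMap.mul' k A q ∧ ψ (p, q) = ω) := by
  exact Aux.main r₁₂ r₂₃ h₁₂ h₂₃ ψ hψ

end Groth.Agent.S19213
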