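import Groth.Statements.S19216
import Mathlib

set_option autoImplicit false
universe u
open SymRep

namespace Groth.Agent.S19216

/-- Let k be a field of characteristic zero and r, s ≥ 1. Realise the standard representation of the
symmetric group on a finite set T as the hyperplane of functions T → k with sum zero, the group
acting by precomposition with the inverse. Then the standard representation of the symmetric group
of Fin r ⊕ Fin s, restricted to the subgroup S_r × S_s, is isomorphic to the direct sum of the
standard representations of S_r and of S_s and of a one-dimensional trivial representation: there is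
a k-linear map E from functions on Fin r ⊕ Fin s to triples (function on Fin r, function on Fin s,
scalar), compatible with the actions of S_r × S_s (trivial on the scalar), which maps the sum-zero
hyperplane bijectively onto the product of the two sum-zero hyperplanes and k. (The published
statement is over the complex numbers; a field of characteristic zero is used here. The published
statement also gives the analogous decomposition for any number of blocks, which follows by
induction; only the two-block case is stated here.) -/
theorem result (k : Type u) [Field k] [CharZero k]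
    (r s : ℕ) (hr : 1 ≤ r) (hs : 1 ≤ s) :
    ∃ E : (Fin r ⊕ Fin s → k) →ₗ[k] (Fin r → k) × (Fin s → k) × k,
      (∀ (σ : Equiv.Perm (Fin r)) (τ : Equiv.Perm (Fin s)) (f : Fin r ⊕ Fin s → k),
        E (f ∘ ⇑(Equiv.sumCongr σ τ).symm) = ((E f).1 ∘ ⇑σ.symm, (E f).2.1 ∘ ⇑τ.symm, (E f).2.2)) ∧
      Set.BijOn E {f | ∑ i, f i = 0}
        ({g : Fin r → k | ∑ i, g i = 0} ×ˢ ({h : Fin s → k | ∑ i, h i = 0} ×ˢ Set.univ)) := by
  classical
  have hr0 : (r : k) ≠ 0 := by
    have : r ≠ 0 := by omega
    exact_mod_cast this
  have hs0 : (s : k) ≠ 0 := by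
    have : s ≠ 0 := by omega
    exact_mod_cast this
  -- the linear map
  let E : (Fin r ⊕ Fin s → k) →ₗ[k] (Fin r → k) × (Fin s → k) × k :=
    { toFun := fun f => (fun i => f (Sum.inl i) - (r : k)⁻¹ * ∑ i', f (Sum.inl i'),
        fun j => f (Sum.inr j) - (s : k)⁻¹ * ∑ j', f (Sum.inr j'), ∑ i', f (Sum.inl i'))
      map_add' := by
        intro f g
        ext <;> simp [Finset.sum_add_distrib, mul_add] <;> ring
      map_smul' := by
        intro c f
        ext <;> simp [← Finset.mul_sum] <;> ring }
  have hE : ∀ f, E f = (fun i => f (Sum.inl i) - (r : k)⁻¹ * ∑ i', f (Sum.inl i'),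
        fun j => f (Sum.inr j) - (s : k)⁻¹ * ∑ j', f (Sum.inr j'), ∑ i', f (Sum.inl i')) :=
    fun f => rfl
  refine ⟨E, ?_, ?_⟩
  · intro σ τ f
    have h1 : ∑ i', (f ∘ ⇑(Equiv.sumCongr σ τ).symm) (Sum.inl i') = ∑ i', f (Sum.inl i') := by
      simp only [Function.comp_apply, Equiv.sumCongr_symm, Equiv.sumCongr_apply, Sum.map_inl]
      exact Equiv.sum_comp σ.symm (fun i => f (Sum.inl i))
    have h2 : ∑ j', (f ∘ ⇑(Equiv.sumCongr σ τ).symm) (Sum.inr j') = ∑ j', f (Sum.inr j') := by
      simp only [Function.comp_apply, Equiv.sumCongr_symm, Equiv.sumCongr_apply, Sum.map_inr]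
      exact Equiv.sum_comp τ.symm (fun j => f (Sum.inr j))
    rw [hE, hE, h1, h2]
    ext <;> simp
  · refine ⟨?_, ?_, ?_⟩
    · intro f hf
      rw [Set.mem_ofPred_eq, Fintype.sum_sum_type] at hf
      rw [hE]
      refine ⟨?_, ?_, trivial⟩
      · simp only [Set.mem_ofPred_eq, Finset.sum_sub_distrib, Finset.sum_const, Finset.card_univ,
          Fintype.card_fin, nsmul_eq_mul]
        rw [← mul_assoc, mul_inv_cancel₀ hr0, one_mul, sub_self]
      · simp only [Set.mem_ofPred_eq, Finset.sum_sub_distrib, Finset.sum_const, Finset.card_univ,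
          Fintype.card_fin, nsmul_eq_mul]
        rw [← mul_assoc, mul_inv_cancel₀ hs0, one_mul, sub_self]
    · intro f hf g hg hfg
      rw [Set.mem_ofPred_eq, Fintype.sum_sum_type] at hf hg
      rw [hE, hE] at hfg
      have e3 : ∑ i', f (Sum.inl i') = ∑ i', g (Sum.inl i') := congrArg (fun t => t.2.2) hfg
      have e3' : ∑ j', f (Sum.inr j') = ∑ j', g (Sum.inr j') := by
        have h1 : ∑ j', f (Sum.inr j') = - ∑ i', f (Sum.inl i') := by linear_combination hf
        have h2 : ∑ j', g (Sum.inr j') = - ∑ i', g (Sum.inl i') := by linear_combination hg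
        rw [h1, h2, e3]
      funext x
      rcases x with i | j
      · have := congrFun (congrArg (fun t => t.1) hfg) i
        simp only [e3] at this
        exact sub_left_injective this
      · have := congrFun (congrArg (fun t => t.2.1) hfg) j
        simp only [e3'] at this
        exact sub_left_injective this
    · rintro ⟨g, h, c⟩ ⟨hg, hh, -⟩
      rw [Set.mem_ofPred_eq] at hg hh
      refine ⟨Sum.elim (fun i => g i + (r : k)⁻¹ * c) (fun j => h j - (s : k)⁻¹ * c), ?_, ?_⟩
      · rw [Set.mem_ofPred_eq, Fintype.sum_sum_type]
        simp only [Sum.elim_inl, Sum.elim_inr, Finset.sum_add_distrib, Finset.sum_sub_distrib, hg, hh,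
          Finset.sum_const, Finset.card_univ, Fintype.card_fin, nsmul_eq_mul]
        rw [← mul_assoc, ← mul_assoc, mul_inv_cancel₀ hr0, mul_inv_cancel₀ hs0]
        ring
      · rw [hE]
        have h1 : ∑ i', (g i' + (r : k)⁻¹ * c) = c := by
          rw [Finset.sum_add_distrib, hg, Finset.sum_const, Finset.card_univ, Fintype.card_fin,
            nsmul_eq_mul, ← mul_assoc, mul_inv_cancel₀ hr0]
          ring
        have h2 : ∑ j', (h j' - (s : k)⁻¹ * c) = - c := by
          rw [Finset.sum_sub_distrib, hh, Finset.sum_const, Finset.card_univ, Fintype.card_fin,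
            nsmul_eq_mul, ← mul_assoc, mul_inv_cancel₀ hs0]
          ring
        simp only [Sum.elim_inl, Sum.elim_inr, h1, h2]
        ext <;> simp

end Groth.Agent.S19216
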