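import Groth.Statements.S19218
import Mathlib
-- import your own Groth.Agent.* helpers here

set_option autoImplicit false
universe u v
open TensorProduct
open DiagIdeal

namespace Groth.Agent.S19218

open TensorProduct
open PiTensorProduct
namespace Aux

variable {k : Type u} [Field k] {A : Type v} [CommRing A] [Algebra k A] {n : ℕ}

/-- permutation action on the tensor power -/
noncomputable def rho (σ : Equiv.Perm (Fin n)) : (⨂[k] _ : Fin n, A) →ₗ[k] (⨂[k] _ : Fin n, A) :=
  (PiTensorProduct.reindex k (fun _ : Fin n => A) σ).toLinearMap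

lemma rho_apply (σ : Equiv.Perm (Fin n)) (x : ⨂[k] _ : Fin n, A) :
    rho σ x = PiTensorProduct.reindex k (fun _ : Fin n => A) σ x := rfl

lemma rho_tprod (σ : Equiv.Perm (Fin n)) (f : Fin n → A) :
    rho (k := k) σ (tprod k f) = tprod k (fun i => f (σ.symm i)) := by
  rw [rho_apply]
  exact PiTensorProduct.reindex_tprod σ f

lemma rho_one (σ : Equiv.Perm (Fin n)) : rho (k := k) (A := A) σ 1 = 1 := by
  rw [PiTensorProduct.one_def, rho_tprod]
  rfl

lemma rho_mul (σ : Equiv.Perm (Fin n)) (x y : ⨂[k] _ : Fin n, A) :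
    rho σ (x * y) = rho σ x * rho σ y := by
  induction x using PiTensorProduct.induction_on with
  | smul_tprod r f =>
    induction y using PiTensorProduct.induction_on with
    | smul_tprod s g =>
      rw [smul_mul_smul_comm, PiTensorProduct.tprod_mul_tprod, map_smul, map_smul, map_smul,
        rho_tprod, rho_tprod, rho_tprod, smul_mul_smul_comm, PiTensorProduct.tprod_mul_tprod]
      rfl
    | add y₁ y₂ h₁ h₂ => rw [mul_add, map_add, h₁, h₂, map_add, mul_add]
  | add x₁ x₂ h₁ h₂ => rw [add_mul, map_add, h₁, h₂, map_add, add_mul]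

lemma rho_single (σ : Equiv.Perm (Fin n)) (i : Fin n) (a : A) :
    rho σ (PiTensorProduct.singleAlgHom (R := k) (A := fun _ : Fin n => A) i a) =
      PiTensorProduct.singleAlgHom (R := k) (A := fun _ : Fin n => A) (σ i) a := by
  rw [PiTensorProduct.singleAlgHom_apply, PiTensorProduct.singleAlgHom_apply, rho_tprod]
  congr 1
  funext l
  simp only [MonoidHom.mulSingle_apply, Pi.mulSingle_apply]
  by_cases h : l = σ i
  · subst h; simp
  · rw [if_neg h, if_neg]
    intro h'
    apply h
    rw [← h', Equiv.apply_symm_apply]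

lemma tprod_eq_prod (f : Fin n → A) :
    tprod k f = ∏ l, PiTensorProduct.singleAlgHom (R := k) (A := fun _ : Fin n => A) l (f l) := by
  simp only [PiTensorProduct.singleAlgHom_apply]
  rw [← PiTensorProduct.tprod_prod]
  congr 1
  funext l
  rw [Finset.prod_apply]
  simp only [MonoidHom.mulSingle_apply]
  rw [Finset.prod_eq_single l]
  · simp
  · intro b _ hb
    simp [Pi.mulSingle_apply, hb.symm]
  · intro h; exact absurd (Finset.mem_univ l) h


section Pair

variable (i j : Fin n) (hij : i ≠ j)
variable (I : Ideal (⨂[k] _ : Fin n, A))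
  (hI : I = Ideal.span (Set.range fun a : A =>
        PiTensorProduct.singleAlgHom (R := k) (A := fun _ : Fin n => A) i a -
        PiTensorProduct.singleAlgHom (R := k) (A := fun _ : Fin n => A) j a))

include hI in
lemma d_mem (a : A) :
    PiTensorProduct.singleAlgHom (R := k) (A := fun _ : Fin n => A) i a -
      PiTensorProduct.singleAlgHom (R := k) (A := fun _ : Fin n => A) j a ∈ I := by
  rw [hI]; exact Ideal.subset_span ⟨a, rfl⟩

lemma rho_d (a : A) :
    rho (Equiv.swap i j) (PiTensorProduct.singleAlgHom (R := k) (A := fun _ : Fin n => A) i a -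
      PiTensorProduct.singleAlgHom (R := k) (A := fun _ : Fin n => A) j a) =
    -(PiTensorProduct.singleAlgHom (R := k) (A := fun _ : Fin n => A) i a -
      PiTensorProduct.singleAlgHom (R := k) (A := fun _ : Fin n => A) j a) := by
  rw [map_sub, rho_single, rho_single, Equiv.swap_apply_left, Equiv.swap_apply_right, neg_sub]

include hI in
/-- the transposition acts trivially modulo `I` -/
lemma rho_sub_mem (r : ⨂[k] _ : Fin n, A) : rho (Equiv.swap i j) r - r ∈ I := by
  let E : Submodule k (⨂[k] _ : Fin n, A) :=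
    { carrier := {r | rho (Equiv.swap i j) r - r ∈ I}
      add_mem' := by
        intro a b ha hb
        simp only [Set.mem_setOf_eq] at ha hb ⊢
        rw [map_add, add_sub_add_comm]
        exact I.add_mem ha hb
      zero_mem' := by simp
      smul_mem' := by
        intro c a ha
        simp only [Set.mem_setOf_eq] at ha ⊢
        rw [map_smul, ← smul_sub]
        exact Submodule.smul_of_tower_mem I c ha }
  have hmul : ∀ a b, a ∈ E → b ∈ E → a * b ∈ E := by
    intro a b ha hb
    change rho (Equiv.swap i j) (a * b) - a * b ∈ I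
    have ha' : rho (Equiv.swap i j) a - a ∈ I := ha
    have hb' : rho (Equiv.swap i j) b - b ∈ I := hb
    rw [rho_mul]
    have : rho (Equiv.swap i j) a * rho (Equiv.swap i j) b - a * b =
        rho (Equiv.swap i j) a * (rho (Equiv.swap i j) b - b) + (rho (Equiv.swap i j) a - a) * b := by
      ring
    rw [this]
    exact I.add_mem (I.mul_mem_left _ hb') (I.mul_mem_right _ ha')
  have hone : (1 : ⨂[k] _ : Fin n, A) ∈ E := by
    change rho (Equiv.swap i j) 1 - 1 ∈ I
    rw [rho_one, sub_self]; exact I.zero_mem
  have hsingle : ∀ (l : Fin n) (a : A),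
      PiTensorProduct.singleAlgHom (R := k) (A := fun _ : Fin n => A) l a ∈ E := by
    intro l a
    change rho (Equiv.swap i j) _ - _ ∈ I
    rw [rho_single]
    by_cases hli : l = i
    · subst hli
      rw [Equiv.swap_apply_left, ← neg_sub]
      exact I.neg_mem (d_mem l j I hI a)
    · by_cases hlj : l = j
      · subst hlj
        rw [Equiv.swap_apply_right]
        exact d_mem i l I hI a
      · rw [Equiv.swap_apply_of_ne_of_ne hli hlj, sub_self]
        exact I.zero_mem
  have htop : E = ⊤ := by
    rw [eq_top_iff, ← PiTensorProduct.span_tprod_eq_top, Submodule.span_le]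
    rintro _ ⟨f, rfl⟩
    rw [tprod_eq_prod]
    exact Finset.prod_induction _ (· ∈ E) hmul hone (fun l _ => hsingle l (f l))
  have : r ∈ E := htop ▸ Submodule.mem_top
  exact this

include hI in
/-- `τ a + a ∈ I²` for `a ∈ I` -/
lemma rho_add_mem_sq (a : ⨂[k] _ : Fin n, A) (ha : a ∈ I) :
    rho (Equiv.swap i j) a + a ∈ I ^ 2 := by
  have ha' : a ∈ Ideal.span (Set.range fun a : A =>
        PiTensorProduct.singleAlgHom (R := k) (A := fun _ : Fin n => A) i a -
        PiTensorProduct.singleAlgHom (R := k) (A := fun _ : Fin n => A) j a) := hI ▸ ha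
  clear ha
  induction ha' using Submodule.span_induction with
  | mem x hx =>
    obtain ⟨c, rfl⟩ := hx
    rw [rho_d, neg_add_cancel]
    exact Submodule.zero_mem _
  | zero => simp
  | add x y _ _ hx hy =>
    rw [map_add, add_add_add_comm]
    exact Ideal.add_mem _ hx hy
  | smul r x hx ihx =>
    have hxI : x ∈ I := hI ▸ hx
    rw [smul_eq_mul, rho_mul]
    have : rho (Equiv.swap i j) r * rho (Equiv.swap i j) x + r * x =
        rho (Equiv.swap i j) r * (rho (Equiv.swap i j) x + x) -
          (rho (Equiv.swap i j) r - r) * x := by ring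
    rw [this]
    refine Ideal.sub_mem _ (Ideal.mul_mem_left _ _ ihx) ?_
    rw [pow_two]
    exact Ideal.mul_mem_mul (rho_sub_mem i j I hI r) hxI

include hI in
/-- the transposition acts by `(-1)^s` on `I^s / I^(s+1)` -/
lemma rho_sub_pow_mem (s : ℕ) (y : ⨂[k] _ : Fin n, A) (hy : y ∈ I ^ s) :
    rho (Equiv.swap i j) y - (-1) ^ s * y ∈ I ^ (s + 1) := by
  induction s generalizing y with
  | zero =>
    rw [pow_zero, one_mul, zero_add, pow_one]
    exact rho_sub_mem i j I hI y
  | succ s ih =>
    rw [pow_succ] at hy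
    refine Submodule.mul_induction_on (C := fun y => rho (Equiv.swap i j) y - (-1) ^ (s + 1) * y ∈
      I ^ (s + 1 + 1)) hy ?_ ?_
    · intro m hm n' hn'
      have h1 := ih m hm
      have h2 := rho_add_mem_sq i j I hI n' hn'
      rw [rho_mul]
      have : rho (Equiv.swap i j) m * rho (Equiv.swap i j) n' - (-1) ^ (s + 1) * (m * n') =
          (-1) ^ s * m * (rho (Equiv.swap i j) n' + n') -
            (rho (Equiv.swap i j) m - (-1) ^ s * m) * n' +
            (rho (Equiv.swap i j) m - (-1) ^ s * m) * (rho (Equiv.swap i j) n' + n') := by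
        ring
      rw [this]
      refine Ideal.add_mem _ (Ideal.sub_mem _ ?_ ?_) ?_
      · have : (-1) ^ s * m * (rho (Equiv.swap i j) n' + n') ∈ I ^ s * I ^ 2 :=
          Ideal.mul_mem_mul (Ideal.mul_mem_left _ _ hm) h2
        rwa [← pow_add] at this
      · have : (rho (Equiv.swap i j) m - (-1) ^ s * m) * n' ∈ I ^ (s + 1) * I :=
          Ideal.mul_mem_mul h1 hn'
        rwa [← pow_succ] at this
      · have : (rho (Equiv.swap i j) m - (-1) ^ s * m) * (rho (Equiv.swap i j) n' + n') ∈
            I ^ (s + 1) * I ^ 2 := Ideal.mul_mem_mul h1 h2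
        rw [← pow_add] at this
        exact Ideal.pow_le_pow_right (by omega) this
    · intro a b ha hb
      rw [map_add, mul_add, add_sub_add_comm]
      exact Ideal.add_mem _ ha hb

end Pair

theorem main (k : Type u) [Field k] [IsAlgClosed k] [CharZero k]
    (A : Type v) [CommRing A] [Algebra k A] [Algebra.Smooth k A] [IsDomain A]
    (hdim : ringKrullDim A = 2) (n : ℕ)
    (I : Fin n × Fin n → Ideal (⨂[k] _ : Fin n, A))
    (hI : ∀ p, I p = Ideal.span (Set.range fun a : A =>
        PiTensorProduct.singleAlgHom (R := k) (A := fun _ : Fin n => A) p.1 a -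
        PiTensorProduct.singleAlgHom (R := k) (A := fun _ : Fin n => A) p.2 a))
    (IΔ : Ideal (⨂[k] _ : Fin n, A))
    (hIΔ : IΔ = ⨅ p ∈ Finset.univ.filter (fun p : Fin n × Fin n => p.1 < p.2), I p)
    (hpow : ∀ s : ℕ, IΔ ^ s = ⨅ p ∈ Finset.univ.filter (fun p : Fin n × Fin n => p.1 < p.2), (I p) ^ s)
    (m : ℕ) (hm : 1 ≤ m) (x : ⨂[k] _ : Fin n, A)
    (hx : ∀ σ : Equiv.Perm (Fin n), PiTensorProduct.reindex k (fun _ : Fin n => A) σ x = x)
    (hmem : x ∈ IΔ ^ (2 * m - 1)) :
    x ∈ IΔ ^ (2 * m) := by
  rw [hpow] at hmem ⊢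
  rw [Submodule.mem_iInf] at hmem ⊢
  intro p
  rw [Submodule.mem_iInf]
  intro hp
  have hxp : x ∈ I p ^ (2 * m - 1) := by
    have := hmem p
    rw [Submodule.mem_iInf] at this
    exact this hp
  have key := rho_sub_pow_mem p.1 p.2 (I p) (hI p) (2 * m - 1) x hxp
  have hρ : rho (Equiv.swap p.1 p.2) x = x := hx _
  rw [hρ, show 2 * m - 1 + 1 = 2 * m by omega, Odd.neg_one_pow ⟨m - 1, by omega⟩] at key
  have h2 : (2 : ⨂[k] _ : Fin n, A) * x ∈ I p ^ (2 * m) := by
    have : x - -1 * x = 2 * x := by ring
    rwa [this] at key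
  have hinv : (algebraMap k (⨂[k] _ : Fin n, A) (2⁻¹ : k)) * (2 * x) = x := by
    have h2k : (2 : ⨂[k] _ : Fin n, A) = algebraMap k _ (2 : k) := by
      rw [map_ofNat]
    rw [h2k, ← mul_assoc, ← map_mul, inv_mul_cancel₀ (two_ne_zero), map_one, one_mul]
  rw [← hinv]
  exact Ideal.mul_mem_left _ _ h2

end Aux

/-- Let k be an algebraically closed field of characteristic zero and A a smooth k-algebra which is a
domain of Krull dimension 2. In the n-fold tensor power R of A over k, indexed by Fin n, let I_p (p
= (i, j), i < j) be the ideal generated by the a_i − a_j, a ∈ A, and let I be the intersection of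
the I_p, the ideal of the big diagonal. Assume that for every s ≥ 0 the power I ^ s is the
intersection of the powers I_p ^ s (a property of the big diagonal of a smooth surface that the
source takes from the literature). Then for m ≥ 1 every element of R fixed by all permutations of
the n factors and lying in I ^ (2m − 1) lies in I ^ (2m): on the symmetric product the invariants of
the odd power and of the next even power of the ideal of the big diagonal coincide. (The source
states the sheaf version for a smooth quasi-projective complex surface, using the displayed property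
of the powers without restating it as a hypothesis.) -/
theorem result (k : Type u) [Field k] [IsAlgClosed k] [CharZero k]
    (A : Type v) [CommRing A] [Algebra k A] [Algebra.Smooth k A] [IsDomain A]
    (hdim : ringKrullDim A = 2) (n : ℕ)
    (I : Fin n × Fin n → Ideal (⨂[k] _ : Fin n, A))
    (hI : ∀ p, I p = Ideal.span (Set.range fun a : A =>
        PiTensorProduct.singleAlgHom (R := k) (A := fun _ : Fin n => A) p.1 a -
        PiTensorProduct.singleAlgHom (R := k) (A := fun _ : Fin n => A) p.2 a))
    (IΔ : Ideal (⨂[k] _ : Fin n, A))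
    (hIΔ : IΔ = ⨅ p ∈ Finset.univ.filter (fun p : Fin n × Fin n => p.1 < p.2), I p)
    (hpow : ∀ s : ℕ, IΔ ^ s = ⨅ p ∈ Finset.univ.filter (fun p : Fin n × Fin n => p.1 < p.2), (I p) ^ s)
    (m : ℕ) (hm : 1 ≤ m) (x : ⨂[k] _ : Fin n, A)
    (hx : ∀ σ : Equiv.Perm (Fin n), PiTensorProduct.reindex k (fun _ : Fin n => A) σ x = x)
    (hmem : x ∈ IΔ ^ (2 * m - 1)) :
    x ∈ IΔ ^ (2 * m) := by
  exact Aux.main k A hdim n I hI IΔ hIΔ hpow m hm x hx hmem

end Groth.Agent.S19218
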