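import Groth.Statements.S19223
import Mathlib
import Groth.Agent.Lib.Lead.GrpCohDiv
import Groth.Agent.Lib.Lead.GrpCohLES

set_option autoImplicit false
attribute [local instance] Units.mulDistribMulActionRight
open GalCoh

namespace Groth.Agent.S19223

section
open CategoryTheory CategoryTheory.Limits Polynomial
open Groth.Agent.Lead.GrpCohAvg Groth.Agent.Lead.GrpCohLES

theorem pow_eq_one_of_residue {R : Type} [CommRing R] [IsLocalRing R] (N : ℕ)
    (hN : IsUnit (N : R)) (u : R) (hu : IsLocalRing.residue R u = 1) (h : u ^ N = 1) : u = 1 := by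
  have h1 : (u - 1) * ∑ i ∈ Finset.range N, u ^ i = 0 := by
    rw [mul_geom_sum, h, sub_self]
  have h2 : IsUnit (∑ i ∈ Finset.range N, u ^ i) := by
    rw [← IsLocalRing.residue_ne_zero_iff_isUnit, map_sum]
    simp only [map_pow, hu, one_pow, Finset.sum_const, Finset.card_range, nsmul_eq_mul, mul_one]
    rw [← map_natCast (IsLocalRing.residue R), IsLocalRing.residue_ne_zero_iff_isUnit]
    exact hN
  have h3 := (h2.mul_left_eq_zero).mp h1
  exact sub_eq_zero.mp h3

theorem exists_root_of_residue {R : Type} [CommRing R] [HenselianLocalRing R] (N : ℕ) (hN0 : 0 < N)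
    (hN : IsUnit (N : R)) (u : R) (hu : IsLocalRing.residue R u = 1) :
    ∃ v : R, IsLocalRing.residue R v = 1 ∧ v ^ N = u := by
  have hmonic : (X ^ N - C u : R[X]).Monic := monic_X_pow_sub_C u hN0.ne'
  have h1 : (X ^ N - C u : R[X]).eval 1 ∈ IsLocalRing.maximalIdeal R := by
    rw [← IsLocalRing.residue_eq_zero_iff]
    simp [hu]
  have h2 : IsUnit ((X ^ N - C u : R[X]).derivative.eval 1) := by
    simp only [derivative_sub, derivative_X_pow, derivative_C, sub_zero, eval_mul, eval_C,
      eval_pow, eval_X, one_pow, mul_one]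
    exact hN
  obtain ⟨a, ha, ha1⟩ := HenselianLocalRing.is_henselian (X ^ N - C u : R[X]) hmonic 1 h1 h2
  refine ⟨a, ?_, ?_⟩
  · rw [← IsLocalRing.residue_eq_zero_iff, map_sub, map_one, sub_eq_zero] at ha1
    exact ha1
  · have := ha
    simp only [IsRoot.def, eval_sub, eval_pow, eval_X, eval_C, sub_eq_zero] at this
    exact this

theorem main (R : Type) [CommRing R]
    [HenselianLocalRing R] [IsSepClosed (IsLocalRing.ResidueField R)] (p : ℕ) [CharP (IsLocalRing.ResidueField R) p]
    (G : Type) [Group G] [Finite G] [MulSemiringAction G R] (hp : ¬ p ∣ Nat.card G)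
    (φ : Rep.ofMulDistribMulAction G Rˣ ⟶ Rep.ofMulDistribMulAction G (IsLocalRing.ResidueField R)ˣ)
    (hφ : ∀ x : Rˣ, Additive.toMul (φ.hom (Additive.ofMul x)) = Units.map (IsLocalRing.residue R).toMonoidHom x)
    (n : ℕ) (hn : 1 ≤ n) (h1 : n = 1 → p ≠ 0 → ∀ (ζ : Rˣ) (m : ℕ), ζ ^ p ^ m = 1 → ζ = 1) :
    Function.Bijective ((groupCohomology.functor ℤ G n).map φ).hom := by
  classical
  have hN0 : 0 < Nat.card G := Nat.card_pos
  have hNk : ((Nat.card G : ℕ) : IsLocalRing.ResidueField R) ≠ 0 := by
    intro h
    exact hp ((CharP.cast_eq_zero_iff (IsLocalRing.ResidueField R) p (Nat.card G)).mp h)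
  have hNunit : IsUnit ((Nat.card G : ℕ) : R) := by
    rw [← IsLocalRing.residue_ne_zero_iff_isUnit, map_natCast]
    exact hNk
  -- description of φ
  have hφ' : ∀ a : Additive Rˣ, φ.hom a =
      Additive.ofMul (Units.map (IsLocalRing.residue R).toMonoidHom a.toMul) := by
    intro a
    apply Additive.toMul.injective
    exact hφ (Additive.toMul a)
  have hφ0 : ∀ a : Additive Rˣ, φ.hom a = 0 ↔ IsLocalRing.residue R ((a.toMul : Rˣ) : R) = 1 := by
    intro a
    rw [hφ' a]
    constructor
    · intro h
      have h2 : Units.map (IsLocalRing.residue R).toMonoidHom a.toMul = 1 := by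
        exact h
      have := congrArg Units.val h2
      simpa using this
    · intro h
      have h2 : Units.map (IsLocalRing.residue R).toMonoidHom a.toMul = 1 := by
        apply Units.ext
        simpa using h
      rw [h2]
      rfl
  have hsurj : Function.Surjective φ.hom := by
    intro (y : Additive (IsLocalRing.ResidueField R)ˣ)
    obtain ⟨r, hr⟩ := IsLocalRing.residue_surjective (((Additive.toMul y :
      (IsLocalRing.ResidueField R)ˣ)) : IsLocalRing.ResidueField R)
    have hru : IsUnit r := by
      rw [← IsLocalRing.residue_ne_zero_iff_isUnit, hr]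
      exact Units.ne_zero _
    refine ⟨Additive.ofMul hru.unit, ?_⟩
    refine (hφ' (Additive.ofMul hru.unit)).trans ?_
    apply Additive.toMul.injective
    apply Units.ext
    exact hr
  have hepi : Epi φ := (Rep.epi_iff_surjective φ).mpr hsurj
  let X : ShortComplex (Rep ℤ G) := ShortComplex.mk (kernel.ι φ) φ (kernel.condition φ)
  have hX : X.ShortExact :=
    { exact := ShortComplex.exact_of_f_is_kernel _ (kernelIsKernel φ)
      mono_f := inferInstanceAs (Mono (kernel.ι φ))
      epi_g := hepi }
  have hιinj : Function.Injective (kernel.ι φ).hom :=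
    (Rep.mono_iff_injective (kernel.ι φ)).mp inferInstance
  have hιφ : ∀ a : (kernel φ : Rep ℤ G), φ.hom ((kernel.ι φ).hom a) = 0 := by
    intro a
    have h2 := kernel.condition φ
    have h3 := congrArg (fun f => f.hom a) h2
    exact h3
  have hrange : ∀ b : Additive Rˣ, φ.hom b = 0 → ∃ a : (kernel φ : Rep ℤ G),
      (kernel.ι φ).hom a = b := fun b hb => range_eq_ker X hX b hb
  have hdiv : Function.Bijective fun a : (kernel φ : Rep ℤ G) => Nat.card G • a := by
    constructor
    · intro a b hab
      apply hιinj
      have h2 : Nat.card G • ((kernel.ι φ).hom a - (kernel.ι φ).hom b) = 0 := by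
        rw [smul_sub, ← map_nsmul, ← map_nsmul]
        have : Nat.card G • a = Nat.card G • b := hab
        rw [this, sub_self]
      have h3 : φ.hom ((kernel.ι φ).hom a - (kernel.ι φ).hom b) = 0 := by
        rw [map_sub, hιφ, hιφ, sub_zero]
      obtain ⟨c, hc⟩ : ∃ c : Additive Rˣ, c = (kernel.ι φ).hom a - (kernel.ι φ).hom b := ⟨_, rfl⟩
      rw [← hc] at h2 h3
      have h4 := (hφ0 c).mp h3
      have h5 : ((Additive.toMul c : Rˣ) : R) ^ Nat.card G = 1 := by
        have h6 : (Additive.toMul c) ^ Nat.card G = 1 := h2
        have := congrArg Units.val h6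
        simpa using this
      have h7 := pow_eq_one_of_residue (Nat.card G) hNunit _ h4 h5
      have h8 : c = 0 := by
        apply Additive.toMul.injective
        apply Units.ext
        exact h7
      rw [h8] at hc
      exact (sub_eq_zero.mp hc.symm)
    · intro b
      have h3 := hιφ b
      obtain ⟨c, hc⟩ : ∃ c : Additive Rˣ, c = (kernel.ι φ).hom b := ⟨_, rfl⟩
      rw [← hc] at h3
      have h4 := (hφ0 c).mp h3
      obtain ⟨v, hv1, hvN⟩ := exists_root_of_residue (Nat.card G) hN0 hNunit _ h4
      have hvu : IsUnit v := by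
        rw [← IsLocalRing.residue_ne_zero_iff_isUnit, hv1]
        exact one_ne_zero
      have h5 : φ.hom (Additive.ofMul hvu.unit) = 0 :=
        (hφ0 (Additive.ofMul hvu.unit)).mpr hv1
      obtain ⟨a, ha⟩ := hrange _ h5
      refine ⟨a, ?_⟩
      apply hιinj
      change (kernel.ι φ).hom (Nat.card G • a) = (kernel.ι φ).hom b
      rw [map_nsmul, ha, ← hc]
      apply Additive.toMul.injective
      apply Units.ext
      exact hvN
  have hsub : ∀ j : ℕ, 0 < j → Subsingleton (groupCohomology (kernel φ) j) := fun j hj =>
    subsingleton_of_bijective_nsmul ℤ G (kernel φ) hdiv j hj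
  exact map_bijective_of_subsingleton X hX n (hsub n (by omega)) (hsub (n + 1) (by omega))


end


/-- For a strictly henselian local ring R whose residue field k has characteristic p ≥ 0, and a finite
group G of order prime to p acting on R by ring automorphisms (hence on the unit groups R^× and
k^×), consider the homomorphism H^n(G, R^×) → H^n(G, k^×) induced by the reduction map. It is
bijective for every n ≥ 2; it is also bijective for n = 1 provided that p = 0 or the only p-power
root of unity in R is 1. (The reduction map on cohomology is pinned by its values on units; groups,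
rings and modules are taken in the lowest universe, as integral coefficients in the group-cohomology
library require.) -/
theorem result (R : Type) [CommRing R]
    [HenselianLocalRing R] [IsSepClosed (IsLocalRing.ResidueField R)] (p : ℕ) [CharP (IsLocalRing.ResidueField R) p]
    (G : Type) [Group G] [Finite G] [MulSemiringAction G R] (hp : ¬ p ∣ Nat.card G)
    (φ : Rep.ofMulDistribMulAction G Rˣ ⟶ Rep.ofMulDistribMulAction G (IsLocalRing.ResidueField R)ˣ)
    (hφ : ∀ x : Rˣ, Additive.toMul (φ.hom (Additive.ofMul x)) = Units.map (IsLocalRing.residue R).toMonoidHom x)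
    (n : ℕ) (hn : 1 ≤ n) (h1 : n = 1 → p ≠ 0 → ∀ (ζ : Rˣ) (m : ℕ), ζ ^ p ^ m = 1 → ζ = 1) :
    Function.Bijective ((groupCohomology.functor ℤ G n).map φ).hom := by
  classical
  exact main R p G hp φ hφ n hn h1

end Groth.Agent.S19223
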