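import Groth.Statements.S19224
import Mathlib

set_option autoImplicit false
open GalCoh
open groupCohomology

namespace Groth.Agent.S19224

open CategoryTheory groupCohomology in
theorem h3_explicit (Q : Type) [Group Q]
    (hQ : Subsingleton (groupCohomology (Rep.trivial ℤ Q ℤ) 3))
    (t : Q → Q → Q → ℤ)
    (ht : ∀ g h j l, t h j l - t (g * h) j l + t g (h * j) l - t g h (j * l) + t g h j = 0) :
    ∃ s : Q → Q → ℤ, ∀ g h j, t g h j = s h j - s (g * h) j + s g (h * j) - s g h := by
  let A := Rep.trivial ℤ Q ℤ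
  have hz : Limits.IsZero ((inhomogeneousCochains A).homology 3) := by
    rw [ModuleCat.isZero_iff_subsingleton]
    exact hQ
  have hex : (inhomogeneousCochains A).ExactAt 3 := by
    rwa [HomologicalComplex.exactAt_iff_isZero_homology]
  rw [HomologicalComplex.exactAt_iff' _ 2 3 4 (by simp) (by simp),
    ShortComplex.moduleCat_exact_iff] at hex
  let T : (Fin 3 → Q) → ℤ := fun v => t (v 0) (v 1) (v 2)
  have hT : (inhomogeneousCochains A).d 3 4 T = 0 := by
    rw [inhomogeneousCochains.d_def]
    ext v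
    rw [inhomogeneousCochains.d_hom_apply]
    have h := ht (v 0) (v 1) (v 2) (v 3)
    have hρ : ∀ (g : Q) (z : ℤ), (A.ρ g) z = z := fun g z => rfl
    rw [hρ, Fin.sum_univ_four]
    simp only [T, Fin.contractNth]
    simp
    change _ = (0 : ℤ)
    linarith
  obtain ⟨S, hS⟩ := hex T hT
  let S' : (Fin 2 → Q) → ℤ := S
  refine ⟨fun g h => S' ![g, h], ?_⟩
  intro g h j
  have h0 : (inhomogeneousCochains A).d 2 3 S' = T := hS
  rw [inhomogeneousCochains.d_def] at h0
  have h1 : (inhomogeneousCochains.d A 2).hom S' ![g, h, j] = T ![g, h, j] := congrFun h0 ![g, h, j]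
  rw [inhomogeneousCochains.d_hom_apply] at h1
  have hρ : ∀ (g : Q) (z : ℤ), (A.ρ g) z = z := fun g z => rfl
  rw [hρ, Fin.sum_univ_three] at h1
  simp only [T] at h1
  simp at h1
  have c0 : Fin.contractNth 0 (fun x1 x2 => x1 * x2) ![g, h, j] = ![g * h, j] := by
    ext i; fin_cases i <;> rfl
  have c1 : Fin.contractNth 1 (fun x1 x2 => x1 * x2) ![g, h, j] = ![g, h * j] := by
    ext i; fin_cases i <;> rfl
  have c2 : Fin.contractNth 2 (fun x1 x2 => x1 * x2) ![g, h, j] = ![g, h] := by
    ext i; fin_cases i <;> rfl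
  have c3 : (fun i => ![h, j] i) = ![h, j] := rfl
  rw [c0, c1, c2, c3] at h1
  change t g h j = S' ![h, j] - S' ![g * h, j] + S' ![g, h * j] - S' ![g, h]
  linarith

/-- power lemma: n • e is a coboundary -/
theorem smul_card_coboundary {Q : Type} [Group Q] [Fintype Q] {A : Type} [AddCommGroup A]
    (e : Q → Q → A) (he : ∀ g h j, e (g * h) j + e g h = e h j + e g (h * j)) :
    ∃ b : Q → A, ∀ g h, Fintype.card Q • e g h = b h - b (g * h) + b g := by
  refine ⟨fun g => ∑ x, e g x, ?_⟩
  intro g h
  have h1 : ∑ x, (e (g * h) x + e g h) = ∑ x, (e h x + e g (h * x)) :=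
    Finset.sum_congr rfl fun x _ => he g h x
  rw [Finset.sum_add_distrib, Finset.sum_add_distrib, Finset.sum_const, Finset.card_univ] at h1
  have h2 : ∑ x, e g (h * x) = ∑ x, e g x := Equiv.sum_comp (Equiv.mulLeft h) (fun x => e g x)
  rw [h2] at h1
  have h3 : Fintype.card Q • e g h = (∑ x, e h x + ∑ x, e g x) - ∑ x, e (g * h) x := by
    rw [← h1]; abel
  rw [h3]; abel

theorem cocycle_coboundary {Q : Type} [Group Q] [Fintype Q] {A : Type} [AddCommGroup A]
    (hdiv : ∀ u : A, ∃ w : A, Fintype.card Q • w = u)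
    (ζ : A) (hζ : Fintype.card Q • ζ = 0)
    (hcyc : ∀ u : A, Fintype.card Q • u = 0 → ∃ a : ℤ, u = a • ζ)
    (H3 : ∀ t : Q → Q → Q → ℤ,
      (∀ g h j l, t h j l - t (g * h) j l + t g (h * j) l - t g h (j * l) + t g h j = 0) →
      ∃ s : Q → Q → ℤ, ∀ g h j, t g h j = s h j - s (g * h) j + s g (h * j) - s g h)
    (c : Q → Q → A) (hc : ∀ g h j, c (g * h) j + c g h = c h j + c g (h * j)) :
    ∃ β : Q → A, ∀ g h, c g h = β h - β (g * h) + β g := by
  classical
  set n := Fintype.card Q with hn
  have hnpos : 0 < n := Fintype.card_pos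
  -- Step 1–3
  obtain ⟨b, hb⟩ := smul_card_coboundary c hc
  choose β hβ using fun g => hdiv (b g)
  let c' : Q → Q → A := fun g h => c g h - (β h - β (g * h) + β g)
  have hc' : ∀ g h j, c' (g * h) j + c' g h = c' h j + c' g (h * j) := by
    intro g h j
    simp only [c', mul_assoc]
    linear_combination (norm := module) hc g h j
  have hc'n : ∀ g h, n • c' g h = 0 := by
    intro g h
    simp only [c', smul_sub, smul_add, hβ]
    rw [hb]; abel
  -- Step 4
  choose a ha using fun g h => hcyc (c' g h) (hc'n g h)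
  -- Step 5
  set m := addOrderOf ζ with hm
  have hfo : IsOfFinAddOrder ζ := isOfFinAddOrder_iff_nsmul_eq_zero.mpr ⟨n, hnpos, hζ⟩
  have hmpos : 0 < m := hfo.addOrderOf_pos
  have hmζ : (m : ℤ) • ζ = 0 := by rw [natCast_zsmul]; exact addOrderOf_nsmul_eq_zero ζ
  have hdvd : ∀ g h j, (m : ℤ) ∣ a h j - a (g * h) j + a g (h * j) - a g h := by
    intro g h j
    rw [addOrderOf_dvd_iff_zsmul_eq_zero]
    have := hc' g h j
    rw [ha, ha, ha, ha] at this
    simp only [sub_smul, add_smul]
    linear_combination (norm := module) -this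
  choose t ht using hdvd
  have htc : ∀ g h j l, t h j l - t (g * h) j l + t g (h * j) l - t g h (j * l) + t g h j = 0 := by
    intro g h j l
    have hm0 : (m : ℤ) ≠ 0 := by exact_mod_cast hmpos.ne'
    apply mul_left_cancel₀ hm0
    have e1 := ht h j l
    have e2 := ht (g * h) j l
    have e3 := ht g (h * j) l
    have e4 := ht g h (j * l)
    have e5 := ht g h j
    simp only [mul_assoc] at e1 e2 e3 e4 e5 ⊢
    linear_combination -e1 + e2 - e3 + e4 - e5
  obtain ⟨s, hs⟩ := H3 t htc
  let a' : Q → Q → ℤ := fun g h => a g h - m * s g h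
  have ha' : ∀ g h j, a' h j - a' (g * h) j + a' g (h * j) - a' g h = 0 := by
    intro g h j
    simp only [a']
    have e5 := ht g h j
    have e6 := hs g h j
    rw [e6] at e5
    linear_combination e5
  -- Step 7
  obtain ⟨ξ, hξ⟩ := hdiv ζ
  let e : Q → Q → A := fun g h => a' g h • ξ
  have he : ∀ g h j, e (g * h) j + e g h = e h j + e g (h * j) := by
    intro g h j
    simp only [e, ← add_smul]
    congr 1
    linear_combination -(ha' g h j)
  obtain ⟨be, hbe⟩ := smul_card_coboundary e he
  have hec : ∀ g h, n • e g h = c' g h := by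
    intro g h
    simp only [e]
    rw [smul_comm, hξ, ha g h]
    simp only [a', sub_smul, mul_smul]
    rw [smul_comm, hmζ, smul_zero, sub_zero]
  refine ⟨fun g => be g + β g, ?_⟩
  intro g h
  have h1 := hbe g h
  rw [hec g h] at h1
  simp only [c'] at h1
  linear_combination (norm := module) h1

/-- Let Q be a finite group such that H^3(Q, ℤ) = 0 for the trivial action, and let k be a separably
closed field of characteristic p ≥ 0 with p not dividing the order of Q. Then H^2(Q, k^×) = 0, where
Q acts trivially on the units of k. (Groups and fields are taken in the lowest universe, as integral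
coefficients in the group-cohomology library require.) -/
theorem result (Q : Type) [Group Q] [Finite Q]
    (hQ : Subsingleton (groupCohomology (Rep.trivial ℤ Q ℤ) 3)) (k : Type) [Field k] [IsSepClosed k]
    (p : ℕ) [CharP k p] (hp : ¬ p ∣ Nat.card Q) :
    Subsingleton (groupCohomology (Rep.trivial ℤ Q (Additive kˣ)) 2) := by
  classical
  have : Fintype Q := Fintype.ofFinite Q
  have hcard : Nat.card Q = Fintype.card Q := Nat.card_eq_fintype_card
  rw [hcard] at hp
  have hnk : ((Fintype.card Q : ℕ) : k) ≠ 0 := fun h => hp ((CharP.cast_eq_zero_iff k p _).mp h)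
  have : NeZero ((Fintype.card Q : ℕ) : k) := ⟨hnk⟩
  have hnpos : 0 < Fintype.card Q := Fintype.card_pos
  have : NeZero (Fintype.card Q) := ⟨hnpos.ne'⟩
  -- divisibility
  have hdiv : ∀ u : Additive kˣ, ∃ w : Additive kˣ, Fintype.card Q • w = u := by
    intro u
    obtain ⟨z, hz⟩ := IsSepClosed.exists_pow_nat_eq ((Additive.toMul u : kˣ) : k) (Fintype.card Q)
    have hz0 : z ≠ 0 := by
      rintro rfl
      rw [zero_pow hnpos.ne'] at hz
      exact (Units.ne_zero _) hz.symm
    refine ⟨Additive.ofMul (Units.mk0 z hz0), ?_⟩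
    rw [← ofMul_pow]
    apply Additive.toMul.injective
    apply Units.ext
    simpa using hz
  -- cyclic torsion
  obtain ⟨g₀, hg₀⟩ := IsCyclic.exists_generator (α := rootsOfUnity (Fintype.card Q) k)
  have hζ : Fintype.card Q • (Additive.ofMul (g₀ : kˣ)) = 0 := by
    rw [← ofMul_pow, (mem_rootsOfUnity _ _).mp g₀.2]; rfl
  have hcyc : ∀ u : Additive kˣ, Fintype.card Q • u = 0 →
      ∃ a : ℤ, u = a • (Additive.ofMul (g₀ : kˣ)) := by
    intro u hu
    have hx : (Additive.toMul u) ∈ rootsOfUnity (Fintype.card Q) k := by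
      rw [mem_rootsOfUnity]
      exact congrArg Additive.toMul hu
    obtain ⟨a, ha⟩ := Subgroup.mem_zpowers_iff.mp (hg₀ ⟨_, hx⟩)
    refine ⟨a, ?_⟩
    rw [← ofMul_zpow]
    apply Additive.toMul.injective
    have := congrArg (Subtype.val) ha
    simpa using this.symm
  have H3 := h3_explicit Q hQ
  constructor
  intro x y
  suffices h : ∀ z : groupCohomology (Rep.trivial ℤ Q (Additive kˣ)) 2, z = 0 by rw [h x, h y]
  intro z
  induction z using H2_induction_on with
  | h f =>
    rw [H2π_eq_zero_iff]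
    have hf := (mem_cocycles₂_iff (f : Q × Q → Additive kˣ)).mp f.2
    obtain ⟨β, hβ⟩ := cocycle_coboundary hdiv _ hζ hcyc H3 (fun g h => f (g, h))
      (fun g h j => hf g h j)
    refine ⟨β, ?_⟩
    funext ⟨g, h⟩
    rw [d₁₂_hom_apply]
    exact (hβ g h).symm

end Groth.Agent.S19224
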