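import Groth.Statements.S19244
import Groth.Agent.Lib.Helper6.SerreQ

set_option autoImplicit false
universe v v' u u'
open HomAlg3

namespace Groth.Agent.S19244

open CategoryTheory in
/-- Let A be an abelian category and let P be the class of bounded-torsion objects of A, those X with n
• 𝟙_X = 0 for some nonzero integer n; assume P is a Serre class. Let L : A ⥤ D be an additive
functor to a preadditive category exhibiting D as the localization of A at the morphisms whose
kernel and cokernel are in P (so D is the quotient category A_ℚ = A ⧸ A_{b-tor}; the source assumes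
A well-powered, which guarantees that this quotient exists). Then for all objects X, Y of A: (1) for
every nonzero integer n, multiplication by n is bijective on Hom_D(L X, L Y), so that this group is
naturally a ℚ-vector space; (2) a morphism f : X ⟶ Y satisfies L f = 0 if and only if n • f = 0 for
some nonzero integer n; (3) for every g : L X ⟶ L Y there are a nonzero integer n and f : X ⟶ Y with
n • g = L f. Equivalently, the natural map Hom_A(X, Y) ⊗_ℤ ℚ → Hom_D(L X, L Y) is an isomorphism. -/
theorem result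
    {A : Type u} [Category.{v} A] [Abelian A] {D : Type u'} [Category.{v'} D] [Preadditive D]
    (P : ObjectProperty A) (hP : ∀ X : A, P X ↔ ∃ n : ℤ, n ≠ 0 ∧ n • (𝟙 X) = 0) [P.IsSerreClass]
    (L : A ⥤ D) [L.Additive] [L.IsLocalization P.isoModSerre] (X Y : A) :
    (∀ n : ℤ, n ≠ 0 → Function.Bijective (fun g : L.obj X ⟶ L.obj Y => n • g)) ∧
    (∀ f : X ⟶ Y, L.map f = 0 ↔ ∃ n : ℤ, n ≠ 0 ∧ n • f = 0) ∧
    (∀ g : L.obj X ⟶ L.obj Y, ∃ (n : ℤ) (f : X ⟶ Y), n ≠ 0 ∧ n • g = L.map f) := by
  classical
  -- multiplication by `n ≠ 0` becomes invertible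
  have hiso : ∀ (Z : A) (n : ℤ), n ≠ 0 → IsIso (n • 𝟙 (L.obj Z)) := by
    intro Z n hn
    have hW : P.isoModSerre (n • 𝟙 Z) := by
      rw [ObjectProperty.isoModSerre_iff]
      constructor
      · rw [ObjectProperty.monoModSerre_iff, hP]
        refine ⟨n, hn, ?_⟩
        rw [← cancel_mono (Limits.kernel.ι (n • 𝟙 Z)), Limits.zero_comp, Preadditive.zsmul_comp,
          Category.id_comp]
        have := Limits.kernel.condition (n • 𝟙 Z)
        rwa [Preadditive.comp_zsmul, Category.comp_id] at this
      · rw [ObjectProperty.epiModSerre_iff, hP]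
        refine ⟨n, hn, ?_⟩
        rw [← cancel_epi (Limits.cokernel.π (n • 𝟙 Z)), Limits.comp_zero, Preadditive.comp_zsmul,
          Category.comp_id]
        have := Limits.cokernel.condition (n • 𝟙 Z)
        rwa [Preadditive.zsmul_comp, Category.id_comp] at this
    have h1 : IsIso (L.map (n • 𝟙 Z)) := Localization.inverts L P.isoModSerre _ hW
    rwa [L.map_zsmul, L.map_id] at h1
  refine ⟨?_, ?_, ?_⟩
  · intro n hn
    have := hiso X n hn
    constructor
    · intro g g' h
      have h' : (n • 𝟙 (L.obj X)) ≫ g = (n • 𝟙 (L.obj X)) ≫ g' := by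
        simpa [Preadditive.zsmul_comp] using h
      exact (cancel_epi _).1 h'
    · intro g
      refine ⟨inv (n • 𝟙 (L.obj X)) ≫ g, ?_⟩
      show n • (inv (n • 𝟙 (L.obj X)) ≫ g) = g
      rw [← Category.id_comp (inv (n • 𝟙 (L.obj X)) ≫ g), ← Preadditive.zsmul_comp,
        IsIso.hom_inv_id_assoc]
  · intro f
    rw [ObjectProperty.SerreClassLocalization.map_eq_zero_iff L P, hP]
    constructor
    · rintro ⟨n, hn, h⟩
      refine ⟨n, hn, ?_⟩
      have hfac : n • f = Abelian.factorThruImage f ≫ (n • 𝟙 (Abelian.image f)) ≫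
          Abelian.image.ι f := by
        rw [Preadditive.zsmul_comp, Category.id_comp, Preadditive.comp_zsmul, Abelian.image.fac]
      rw [hfac, h, Limits.zero_comp, Limits.comp_zero]
    · rintro ⟨n, hn, h⟩
      refine ⟨n, hn, ?_⟩
      rw [← cancel_mono (Abelian.image.ι f), ← cancel_epi (Abelian.factorThruImage f),
        Limits.zero_comp, Limits.comp_zero, Preadditive.zsmul_comp, Category.id_comp,
        Preadditive.comp_zsmul, Abelian.image.fac]
      exact h
  · intro g
    obtain ⟨φ, hφ⟩ := Localization.exists_leftFraction L P.isoModSerre g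
    have hs := φ.hs
    rw [ObjectProperty.isoModSerre_iff, ObjectProperty.monoModSerre_iff,
      ObjectProperty.epiModSerre_iff, hP, hP] at hs
    obtain ⟨⟨n₁, hn₁, h1⟩, ⟨n₂, hn₂, h2⟩⟩ := hs
    obtain ⟨t, ht⟩ := Groth.Agent.Lib.Helper6.SerreQ.exists_quasi_inverse φ.s n₁ n₂ h1 h2
    refine ⟨n₂ * n₁, φ.f ≫ t, mul_ne_zero hn₂ hn₁, ?_⟩
    have hinv : IsIso (L.map φ.s) := Localization.inverts L P.isoModSerre _ φ.hs
    have hLt : L.map t = (n₂ * n₁) • inv (L.map φ.s) := by
      rw [← cancel_epi (L.map φ.s), ← L.map_comp, ht, L.map_zsmul, L.map_id,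
        Preadditive.comp_zsmul, IsIso.hom_inv_id]
    rw [hφ, L.map_comp, hLt, Preadditive.comp_zsmul]
    rfl

end Groth.Agent.S19244
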