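import Groth.Statements.S19258
import Groth.Agent.Lib.Helper6.FinDual

set_option autoImplicit false
universe u
open PontDual

namespace Groth.Agent.S19258

/-- Let G and G' be abelian groups such that every element of G' has finite order, and let β : G' →
Hom(G, ℚ/ℤ) be an injective homomorphism (equivalently a pairing G' × G → ℚ/ℤ with no left kernel).
Endow G with the weak topology defined by G': the coarsest topology for which every character β(f),
f ∈ G', is continuous when ℚ/ℤ carries the discrete topology. Then every homomorphism χ : G → ℚ/ℤ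
that is continuous for this topology on G and the discrete topology on ℚ/ℤ equals β(f) for some f ∈
G', so that β is a bijection from G' onto the group of continuous characters of G. -/
theorem result
    (G : Type u) (G' : Type u) [AddCommGroup G] [AddCommGroup G'] (hG' : IsAddTorsion G')
    (β : G' →+ (G →+ AddCircle (1 : ℚ))) (hβ : Function.Injective β)
    (χ : G →+ AddCircle (1 : ℚ))
    (hχ : @Continuous G (AddCircle (1 : ℚ)) (⨅ f' : G', TopologicalSpace.induced (fun x : G => β f' x) ⊥) ⊥ χ) :
    ∃ f' : G', β f' = χ := by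
  classical
  -- the kernel of χ is a neighbourhood of 0
  have hopen : @IsOpen G (⨅ f' : G', TopologicalSpace.induced (fun x : G => β f' x) ⊥)
      (χ ⁻¹' {0}) := by
    have h1 := (@continuous_def G (AddCircle (1 : ℚ))
      (⨅ f' : G', TopologicalSpace.induced (fun x : G => β f' x) ⊥) ⊥ χ).mp hχ
    exact h1 {0} (by trivial)
  have hnhds : χ ⁻¹' {0} ∈ @nhds G (⨅ f' : G', TopologicalSpace.induced (fun x : G => β f' x) ⊥) 0 :=
    @IsOpen.mem_nhds G (⨅ f' : G', TopologicalSpace.induced (fun x : G => β f' x) ⊥) 0 _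
      hopen (by simp)
  rw [nhds_iInf] at hnhds
  have hnh : ∀ f' : G', @nhds G (TopologicalSpace.induced (fun x : G => β f' x) ⊥) 0 =
      Filter.principal {g : G | β f' g = 0} := by
    intro f'
    rw [@nhds_induced (AddCircle (1 : ℚ)) G ⊥ (fun x : G => β f' x) 0]
    have : @nhds (AddCircle (1 : ℚ)) ⊥ (β f' 0) = pure (β f' 0) := by
      have hd : @DiscreteTopology (AddCircle (1 : ℚ)) ⊥ := @DiscreteTopology.mk _ ⊥ rfl
      rw [@nhds_discrete _ ⊥ hd]
    rw [this, map_zero, Filter.comap_pure]
    rfl
  simp_rw [hnh] at hnhds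
  rw [Filter.mem_iInf] at hnhds
  obtain ⟨I, hI, V, hV, hU⟩ := hnhds
  have := hI.fintype
  have hker : ∀ g : G, (∀ i : I, β i.1 g = 0) → χ g = 0 := by
    intro g hg
    have : g ∈ χ ⁻¹' {0} := by
      rw [hU, Set.mem_iInter]
      intro i
      exact Filter.mem_principal.mp (hV i) (hg i)
    exact this
  have htor : ∀ i : I, ∃ n : ℕ, 0 < n ∧ n • β i.1 = 0 := by
    intro i
    obtain ⟨n, hn, hni⟩ := isOfFinAddOrder_iff_nsmul_eq_zero.mp (hG' i.1)
    exact ⟨n, hn, by rw [← map_nsmul, hni, map_zero]⟩
  obtain ⟨a, ha⟩ := Groth.Agent.Lib.Helper6.FinDual.span_of_ker (fun i : I => β i.1) htor χ hker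
  refine ⟨∑ i, a i • i.1, ?_⟩
  rw [map_sum, ha]
  exact Finset.sum_congr rfl fun i _ => map_zsmul β _ _

end Groth.Agent.S19258
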