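import Groth.Statements.S19264
import Mathlib
import Groth.Agent.Lib.Helper6.UFDLoc

set_option autoImplicit false
universe u
open WittFil

namespace Groth.Agent.S19264

/-- Let A be a unique factorisation domain of characteristic p, x_1, …, x_r pairwise non-associate prime
elements of A, B = A[1/(x_1⋯x_r)] with u_i the unit of B defined by x_i, n ∈ ℤ^r and m ≥ 0. The
restriction map from truncated p-typical Witt vectors of length m+1 to those of length m over B
(forgetting the last coordinate) maps the filtered piece cut out by ∏ u_i ^ n_i onto the filtered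
piece cut out by ∏ u_i ^ ⌊n_i / p⌋; that is, the image is exactly that piece. (The other parts of
the exact sequence, injectivity of the (m-fold) Verschiebung from the fractional ideal generated by
(∏ u_i ^ n_i)⁻¹ and exactness in the middle, are immediate from the definition and are not restated.
The published setting is a regular local ring; only unique factorisation is used.) -/
theorem result (p : ℕ) [Fact p.Prime] {A B : Type u} [CommRing A] [IsDomain A]
    [UniqueFactorizationMonoid A] [CharP A p] [CommRing B] [Algebra A B] {r : ℕ} (x : Fin r → A)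
    (hx : ∀ i, Prime (x i)) (hxa : ∀ i j, Associated (x i) (x j) → i = j)
    [IsLocalization.Away (∏ i, x i) B] (u : Fin r → Bˣ)
    (hu : ∀ i, (u i : B) = algebraMap A B (x i)) (n : Fin r → ℤ) (m : ℕ) :
    (TruncatedWittVector.truncate (Nat.le_succ m)) '' WittFil.fil p (m + 1) (A := A) (WittFil.zmon u n) =
      WittFil.fil p m (A := A) (WittFil.zmon u (fun i => n i / (p : ℤ))) := by
  classical
  have hp : p.Prime := Fact.out
  have hp0 : (0 : ℤ) < (p : ℤ) := by exact_mod_cast hp.pos
  have hπ : (∏ i, x i) ≠ 0 := Groth.Agent.Helper6.UFDLoc.prod_ne_zero x hx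
  have hinj := Groth.Agent.Helper6.UFDLoc.injective (B := B) (∏ i, x i) hπ
  -- exponent bookkeeping
  let E : (Fin r → ℤ) → Bˣ := fun k => ∏ i, u i ^ k i
  have hE_add : ∀ k k' : Fin r → ℤ, E (fun i => k i + k' i) = E k * E k' := by
    intro k k'
    simp only [E, zpow_add, Finset.prod_mul_distrib]
  have hE_pow : ∀ (N : ℕ) (k : Fin r → ℤ), E (fun i => (N : ℤ) * k i) = E k ^ N := by
    intro N k
    simp only [E]
    rw [← Finset.prod_pow]
    refine Finset.prod_congr rfl fun i _ => ?_
    rw [mul_comm, zpow_mul, zpow_natCast]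
  have hE_nat : ∀ e : Fin r → ℕ, ((E (fun i => (e i : ℤ)) : Bˣ) : B) = algebraMap A B (∏ i, x i ^ e i) :=
    fun e => Groth.Agent.Helper6.UFDLoc.zmon_eq x u hu e
  have hE_one : ((E (fun _ => 1) : Bˣ) : B) = algebraMap A B (∏ i, x i) := by
    have := hE_nat (fun _ => 1)
    simpa using this
  let q : Fin r → ℤ := fun i => n i / (p : ℤ)
  let ρ : Fin r → ℤ := fun i => n i % (p : ℤ)
  have hρ0 : ∀ i, 0 ≤ ρ i := fun i => Int.emod_nonneg _ hp0.ne'
  have hρp : ∀ i, ρ i < p := fun i => Int.emod_lt_of_pos _ hp0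
  have hn : n = fun i => (p : ℤ) * q i + ρ i := by
    funext i
    exact (Int.mul_ediv_add_emod (n i) p).symm
  have hc : WittFil.zmon u n = ((E n : Bˣ) : B) := rfl
  have hc' : WittFil.zmon u (fun i => n i / (p : ℤ)) = ((E q : Bˣ) : B) := rfl
  have hEn : E n = E q ^ p * E ρ := by
    conv_lhs => rw [hn]
    rw [hE_add, hE_pow]
  apply Set.Subset.antisymm
  · rintro _ ⟨a, ha, rfl⟩ j
    rw [TruncatedWittVector.coeff_truncate]
    set y := TruncatedWittVector.coeff (Fin.castLE (Nat.le_succ m) j) a with hy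
    have h := ha (Fin.castLE (Nat.le_succ m) j)
    rw [← hy] at h
    obtain ⟨α, hα⟩ := h
    have hjm : (j : ℕ) < m := j.2
    have hexp : m + 1 - 1 - ((Fin.castLE (Nat.le_succ m) j : Fin (m + 1)) : ℕ)
        = (m - 1 - (j : ℕ)) + 1 := by
      simp only [Fin.val_castLE]
      omega
    rw [hexp, hc] at hα
    rw [hc']
    set M := p ^ (m - 1 - (j : ℕ)) with hM
    set z := y ^ M * ((E q : Bˣ) : B) with hz
    -- w = z * π
    let σ : Fin r → ℕ := fun i => ((p : ℤ) - ρ i).toNat
    have hσ : ∀ i, (σ i : ℤ) = (p : ℤ) - ρ i :=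
      fun i => Int.toNat_of_nonneg (by have := hρp i; omega)
    have hσ1 : ∀ i, 1 ≤ σ i := by
      intro i
      have h1 := hσ i
      have h2 := hρp i
      omega
    have hEE : E q ^ p * E (fun _ => 1) ^ p = E n * E (fun i => (σ i : ℤ)) := by
      rw [hEn, ← hE_pow p (fun _ => 1), mul_assoc]
      congr 1
      rw [← hE_add]
      congr 1
      funext i
      rw [hσ]
      ring
    have hw : (z * algebraMap A B (∏ i, x i)) ^ p
        = algebraMap A B (α * ∏ i, x i ^ σ i) := by
      rw [map_mul, hα, ← hE_nat, ← hE_one, hz]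
      have e1 : (y ^ M * ((E q : Bˣ) : B) * ((E (fun _ => 1) : Bˣ) : B)) ^ p
          = y ^ (p ^ (m - 1 - (j : ℕ) + 1)) * (((E q ^ p * E (fun _ => 1) ^ p : Bˣ)) : B) := by
        rw [Units.val_mul, Units.val_pow_eq_pow_val, Units.val_pow_eq_pow_val, pow_succ, pow_mul,
          ← hM]
        ring
      rw [e1, hEE, Units.val_mul]
      ring
    obtain ⟨β, hβ⟩ := Groth.Agent.Helper6.UFDLoc.mem_range_of_pow_mem_range (∏ i, x i) hπ _ p
      hp.ne_zero ⟨_, hw.symm⟩
    have h2 : β ^ p = α * ∏ i, x i ^ σ i := by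
      apply hinj
      rw [map_pow, hβ, hw]
    have h3 : ∀ i, x i ∣ β := by
      intro i
      apply (hx i).dvd_of_dvd_pow (n := p)
      rw [h2]
      apply Dvd.dvd.mul_left
      exact (dvd_pow_self (x i) (by have := hσ1 i; omega)).trans
        (Finset.dvd_prod_of_mem (fun i => x i ^ σ i) (Finset.mem_univ i))
    obtain ⟨b, hb⟩ := Groth.Agent.Helper6.UFDLoc.prod_dvd_of_primes x hx hxa β h3
    refine ⟨b, ?_⟩
    have hu' : IsUnit (algebraMap A B (∏ i, x i)) := by
      rw [← hE_one]
      exact Units.isUnit _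
    apply hu'.mul_left_injective
    change algebraMap A B b * algebraMap A B (∏ i, x i) = z * algebraMap A B (∏ i, x i)
    rw [← hβ, hb, map_mul, mul_comm]
  · intro b hb
    let a : TruncatedWittVector p (m + 1) B :=
      TruncatedWittVector.mk p (fun j : Fin (m + 1) => if h : (j : ℕ) < m then
        TruncatedWittVector.coeff ⟨j, h⟩ b else 0)
    have hatr : TruncatedWittVector.truncate (Nat.le_succ m) a = b := by
      ext j
      rw [TruncatedWittVector.coeff_truncate]
      simp only [a, TruncatedWittVector.coeff_mk, Fin.val_castLE, j.2, dif_pos]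
    refine ⟨a, ?_, hatr⟩
    intro j
    simp only [a, TruncatedWittVector.coeff_mk]
    split_ifs with hj
    · obtain ⟨α, hα⟩ := hb ⟨j, hj⟩
      rw [hc'] at hα
      simp only at hα
      let τ : Fin r → ℕ := fun i => (ρ i).toNat
      have hτ : ∀ i, (τ i : ℤ) = ρ i := fun i => Int.toNat_of_nonneg (hρ0 i)
      have hEρ : E ρ = E (fun i => (τ i : ℤ)) := by
        congr 1
        funext i
        exact (hτ i).symm
      refine ⟨α ^ p * ∏ i, x i ^ τ i, ?_⟩
      rw [map_mul, map_pow, hα, ← hE_nat, ← hEρ, hc, hEn, Units.val_mul, Units.val_pow_eq_pow_val]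
      have hexp : m + 1 - 1 - (j : ℕ) = (m - 1 - (j : ℕ)) + 1 := by omega
      rw [hexp, pow_succ, pow_mul]
      ring
    · have hjm : (j : ℕ) = m := by have := j.2; omega
      rw [hjm]
      simp

end Groth.Agent.S19264
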