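import Groth.Statements.S19265
import Groth.Agent.Lib.Helper6.WittFilG
import Groth.Agent.Lib.Helper6.UFDLoc

set_option autoImplicit false
universe u
open WittFil

namespace Groth.Agent.S19265

/-- Let A be a unique factorisation domain of characteristic p, x_1, …, x_r pairwise non-associate prime
elements of A, B = A[1/(x_1⋯x_r)] with u_i the unit of B defined by x_i, n, n' ∈ ℤ^r and m ≥ 0. If a
truncated p-typical Witt vector a of length m over B lies in the filtered piece cut out by ∏ u_i ^
n_i and b lies in the piece cut out by ∏ u_i ^ n'_i, then the product a · b lies in the piece cut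
out by ∏ u_i ^ (n_i + n'_i). In particular (n' = 0) each filtered piece is a module over the
truncated Witt vectors of A. (The published statement also asserts the analogous inclusion for sums,
which holds only when both multi-indices are non-negative and is then immediate from monotonicity;
the published setting is a regular local ring, and only unique factorisation is used.) -/
theorem result (p : ℕ) [Fact p.Prime] {A B : Type u} [CommRing A] [IsDomain A]
    [UniqueFactorizationMonoid A] [CharP A p] [CommRing B] [Algebra A B] {r : ℕ} (x : Fin r → A)
    (hx : ∀ i, Prime (x i)) (hxa : ∀ i j, Associated (x i) (x j) → i = j)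
    [IsLocalization.Away (∏ i, x i) B] (u : Fin r → Bˣ)
    (hu : ∀ i, (u i : B) = algebraMap A B (x i)) (n n' : Fin r → ℤ) (m : ℕ)
    (a b : TruncatedWittVector p m B) (ha : a ∈ WittFil.fil p m (A := A) (WittFil.zmon u n))
    (hb : b ∈ WittFil.fil p m (A := A) (WittFil.zmon u n')) :
    a * b ∈ WittFil.fil p m (A := A) (WittFil.zmon u (n + n')) := by
  have hπ : (∏ i, x i) ≠ 0 := Groth.Agent.Helper6.UFDLoc.prod_ne_zero x hx
  have hinj := Groth.Agent.Helper6.UFDLoc.injective (B := B) (∏ i, x i) hπ
  haveI : CharP B p := charP_of_injective_algebraMap hinj p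
  have hz : WittFil.zmon u (n + n') = WittFil.zmon u n * WittFil.zmon u n' := by
    unfold WittFil.zmon
    rw [← Units.val_mul, ← Finset.prod_mul_distrib]
    congr 2
    funext i
    rw [Pi.add_apply, zpow_add]
  rw [hz]
  exact Groth.Agent.Helper6.WittFilG.mul_mem_fil p A
    (fun y N hN h => Groth.Agent.Helper6.UFDLoc.mem_range_of_pow_mem_range (∏ i, x i) hπ y N hN h)
    _ _ m a b ha hb

end Groth.Agent.S19265
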