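import Groth.Statements.S19267
import Mathlib
import Groth.Agent.Lib.Helper6.WittTeich

set_option autoImplicit false
universe u
open WittFil

namespace Groth.Agent.S19267

/-- Let A → B be a homomorphism of commutative rings, u a unit of B, m ≥ 0 and n, l integers. For an
element c of B call the filtered piece cut out by c the set of truncated p-typical Witt vectors of
length m over B whose j-th coordinate y_j satisfies: y_j ^ (p ^ (m-1-j)) · c lies in the image of A,
for every j < m. Then the piece cut out by u ^ (n − p^(m−1)·l) is exactly the image of the piece cut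
out by u ^ n under multiplication by the truncated Teichmüller representative [u ^ l]. (The
published case is B = S[[π]][1/π] over A = S[[π]] with u = π; the computation is the same in
general.) -/
theorem result (p : ℕ) [Fact p.Prime] {A B : Type u}
    [CommRing A] [CommRing B] [Algebra A B] (m : ℕ) (u : Bˣ) (n l : ℤ) :
    WittFil.fil p m (A := A) ((u ^ (n - (p : ℤ) ^ (m - 1) * l) : Bˣ) : B) =
      (fun a => WittVector.truncate m (WittVector.teichmuller p ((u ^ l : Bˣ) : B)) * a) ''
        WittFil.fil p m (A := A) ((u ^ n : Bˣ) : B) := by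
  have hcoef : ∀ (v : B) (A' : WittVector p B) (j : Fin m),
      TruncatedWittVector.coeff j (WittVector.truncate m (WittVector.teichmuller p v) *
        WittVector.truncate m A') = v ^ p ^ (j : ℕ) * A'.coeff j := by
    intro v A' j
    rw [← map_mul, WittVector.coeff_truncate, Groth.Agent.Helper6.WittTeich.teichmuller_mul_coeff]
  have key : ∀ (z k : ℤ) (a : TruncatedWittVector p m B),
      a ∈ WittFil.fil p m (A := A) ((u ^ k : Bˣ) : B) →
      WittVector.truncate m (WittVector.teichmuller p ((u ^ z : Bˣ) : B)) * a ∈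
        WittFil.fil p m (A := A) ((u ^ (k - (p : ℤ) ^ (m - 1) * z) : Bˣ) : B) := by
    intro z k a ha j
    obtain ⟨A', rfl⟩ := WittVector.truncate_surjective p m B a
    have h := ha j
    rw [WittVector.coeff_truncate] at h
    rw [hcoef]
    have hpp : p ^ (j : ℕ) * p ^ (m - 1 - (j : ℕ)) = p ^ (m - 1) := by
      rw [← pow_add]
      congr 1
      have := j.2
      omega
    have hu : (((u ^ z : Bˣ) : B) ^ p ^ (j : ℕ)) ^ p ^ (m - 1 - (j : ℕ)) *
        ((u ^ (k - (p : ℤ) ^ (m - 1) * z) : Bˣ) : B) = ((u ^ k : Bˣ) : B) := by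
      rw [← pow_mul, hpp, ← Units.val_pow_eq_pow_val, ← Units.val_mul, ← zpow_natCast, ← zpow_mul,
        ← zpow_add]
      congr 2
      push_cast
      ring
    have e : (((u ^ z : Bˣ) : B) ^ p ^ (j : ℕ) * A'.coeff j) ^ p ^ (m - 1 - (j : ℕ)) *
        ((u ^ (k - (p : ℤ) ^ (m - 1) * z) : Bˣ) : B)
        = A'.coeff j ^ p ^ (m - 1 - (j : ℕ)) * ((u ^ k : Bˣ) : B) := by
      rw [← hu]
      ring
    rw [e]
    exact h
  apply Set.Subset.antisymm
  · intro b hb
    refine ⟨WittVector.truncate m (WittVector.teichmuller p ((u ^ (-l) : Bˣ) : B)) * b, ?_, ?_⟩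
    · have := key (-l) _ b hb
      have e : n - (p : ℤ) ^ (m - 1) * l - (p : ℤ) ^ (m - 1) * (-l) = n := by ring
      rw [e] at this
      exact this
    · change WittVector.truncate m (WittVector.teichmuller p ((u ^ l : Bˣ) : B)) *
        (WittVector.truncate m (WittVector.teichmuller p ((u ^ (-l) : Bˣ) : B)) * b) = b
      rw [← mul_assoc, ← map_mul, ← map_mul, ← Units.val_mul, ← zpow_add, add_neg_cancel, zpow_zero,
        Units.val_one, map_one, map_one, one_mul]
  · rintro _ ⟨a, ha, rfl⟩
    exact key l n a ha

end Groth.Agent.S19267
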