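import Groth.Statements.S19270
import Mathlib
import Groth.Agent.Lib.Helper2.SepPerfect

set_option autoImplicit false
universe u
open CAlg

namespace Groth.Agent.S19270

open IsLocalRing TensorProduct in
theorem exists_map (p : ℕ) [Fact p.Prime]
    {A : Type u} [CommRing A] [IsLocalRing A] [CharP A p] :
    ∃ L : Ω[A⁄ℤ] →ₗ[A] (maximalIdeal A).Cotangent,
      ∀ (x : A) (hx : x ∈ maximalIdeal A),
        L (KaehlerDifferential.D ℤ A x) = (maximalIdeal A).toCotangent ⟨x, hx⟩ := by
  classical
  let m := maximalIdeal A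
  let κ := ResidueField A
  let P := ULift.{u} (ZMod p)
  let _ : Algebra (ZMod p) A := ZMod.algebra A p
  let _ : Algebra P A := ULift.algebra' (ZMod p) A
  have hle : m ^ 2 ≤ m := Ideal.pow_le_self two_ne_zero
  let q : (A ⧸ m ^ 2) →ₐ[P] κ := Ideal.Quotient.factorₐ P hle
  have hq_mk : ∀ a : A, q (Ideal.Quotient.mk (m ^ 2) a) = residue A a := fun a => rfl
  have hq_surj : Function.Surjective q := by
    intro c
    obtain ⟨a, rfl⟩ := residue_surjective c
    exact ⟨Ideal.Quotient.mk _ a, hq_mk a⟩
  have hker : ∀ y : A ⧸ m ^ 2, q y = 0 → y ∈ m.cotangentIdeal := by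
    intro y hy
    obtain ⟨a, rfl⟩ := Ideal.Quotient.mk_surjective y
    rw [hq_mk, residue_eq_zero_iff] at hy
    exact Ideal.mk_mem_cotangentIdeal.mpr hy
  have hsq : ∀ y z : A ⧸ m ^ 2, q y = 0 → q z = 0 → y * z = 0 := by
    intro y z hy hz
    have h1 : y * z ∈ m.cotangentIdeal * m.cotangentIdeal :=
      Ideal.mul_mem_mul (hker y hy) (hker z hz)
    have h2 : m.cotangentIdeal * m.cotangentIdeal = ⊥ :=
      (sq m.cotangentIdeal).symm.trans (Ideal.cotangentIdeal_square m)
    rw [h2] at h1
    exact h1
  have hnil : IsNilpotent (RingHom.ker (q : (A ⧸ m ^ 2) →+* κ)) := by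
    refine ⟨2, ?_⟩
    rw [Ideal.zero_eq_bot, eq_bot_iff, pow_two (RingHom.ker (q : (A ⧸ m ^ 2) →+* κ)), Ideal.mul_le]
    intro y hy z hz
    rw [Ideal.mem_bot]
    exact hsq y z hy hz
  have : Algebra.FormallySmooth P κ := Groth.Agent.Helper2.Sep.formallySmooth_of_perfect p P κ
  let σ : κ →ₐ[P] (A ⧸ m ^ 2) :=
    Algebra.FormallySmooth.liftOfSurjective (AlgHom.id P κ) q hq_surj hnil
  have hσ : ∀ c, q (σ c) = c := fun c =>
    Algebra.FormallySmooth.liftOfSurjective_apply (AlgHom.id P κ) q hq_surj hnil c
  -- the derivation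
  let δ₀ : A →+ A ⧸ m ^ 2 :=
    (Ideal.Quotient.mk (m ^ 2)).toAddMonoidHom - (σ.toRingHom.comp (residue A)).toAddMonoidHom
  have hδ₀ : ∀ a, δ₀ a = Ideal.Quotient.mk (m ^ 2) a - σ (residue A a) := fun a => rfl
  have hqδ : ∀ a, q (δ₀ a) = 0 := by
    intro a
    rw [hδ₀, map_sub, hσ, hq_mk, sub_self]
  let δ : Derivation ℤ A (A ⧸ m ^ 2) := Derivation.mk' δ₀.toIntLinearMap (by
    intro a b
    change δ₀ (a * b) = a • δ₀ b + b • δ₀ a
    have h := hsq _ _ (hqδ a) (hqδ b)
    rw [Algebra.smul_def, Algebra.smul_def, Ideal.Quotient.algebraMap_eq]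
    simp only [hδ₀] at h ⊢
    rw [map_mul, map_mul, map_mul]
    linear_combination -h)
  have hδ : ∀ a, δ a = δ₀ a := fun a => rfl
  let L := δ.liftKaehlerDifferential
  have hL : ∀ a, L (KaehlerDifferential.D ℤ A a) = δ₀ a := fun a =>
    (Derivation.liftKaehlerDifferential_comp_D δ a).trans (hδ a)
  have hrange : ∀ ω, L ω ∈ m.cotangentIdeal.restrictScalars A := by
    intro ω
    have hω : ω ∈ Submodule.span A (Set.range (KaehlerDifferential.D ℤ A)) := by
      rw [KaehlerDifferential.span_range_derivation]; trivial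
    induction hω using Submodule.span_induction with
    | mem y hy =>
      obtain ⟨a, rfl⟩ := hy
      rw [hL]
      exact hker _ (hqδ a)
    | zero => rw [map_zero]; exact Submodule.zero_mem _
    | add y z _ _ hy hz => rw [map_add]; exact Submodule.add_mem _ hy hz
    | smul a y _ hy => rw [map_smul]; exact Submodule.smul_mem _ a hy
  let L' : Ω[A⁄ℤ] →ₗ[A] m.cotangentIdeal.restrictScalars A := L.codRestrict _ hrange
  refine ⟨m.cotangentEquivIdeal.symm.toLinearMap ∘ₗ L', ?_⟩
  intro x hx
  change m.cotangentEquivIdeal.symm (L' _) = _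
  refine Eq.trans ?_ (Ideal.cotangentEquivIdeal_symm_apply (I := m) x hx)
  congr 1
  apply Subtype.ext
  change L _ = _
  rw [hL, hδ₀, (residue_eq_zero_iff x).mpr hx, map_zero, sub_zero]
  rfl

open IsLocalRing TensorProduct in
theorem main_of_map
    {A : Type u} [CommRing A] [IsRegularLocalRing A]
    [Module.Free A (KaehlerDifferential ℤ A)] [Module.Finite A (KaehlerDifferential ℤ A)]
    {N : ℕ} (x : Fin N → A) (hx : Ideal.span (Set.range x) = maximalIdeal A)
    (hN : ringKrullDim A = (N : WithBot ℕ∞))
    (L : Ω[A⁄ℤ] →ₗ[A] (maximalIdeal A).Cotangent)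
    (hL : ∀ (x : A) (hx : x ∈ maximalIdeal A),
        L (KaehlerDifferential.D ℤ A x) = (maximalIdeal A).toCotangent ⟨x, hx⟩) :
    ∃ (ι : Type u) (b : Module.Basis ι A (KaehlerDifferential ℤ A)) (e : Fin N ↪ ι),
      ∀ i : Fin N, b (e i) = KaehlerDifferential.D ℤ A (x i) := by
  classical
  let m := maximalIdeal A
  let κ := ResidueField A
  have hxm : ∀ i, x i ∈ maximalIdeal A := fun i => by
    rw [← hx]; exact Ideal.subset_span (Set.mem_range_self i)
  -- the cotangent classes
  let c : Fin N → CotangentSpace A := fun i => m.toCotangent ⟨x i, hxm i⟩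
  have hfin : Module.finrank κ (CotangentSpace A) = N := by
    have h1 := spanFinrank_maximalIdeal_eq_finrank_cotangentSpace A
    have h2 := IsRegularLocalRing.spanFinrank_maximalIdeal (R := A)
    rw [hN] at h2
    have h3 : (maximalIdeal A).spanFinrank = N := by exact_mod_cast h2
    rw [← h1, h3]
  have hspanA : Submodule.span A (Set.range c) = ⊤ := by
    have h1 : Submodule.span A (Set.range fun i => (⟨x i, hxm i⟩ : m)) = ⊤ := by
      apply Submodule.map_injective_of_injective m.subtype_injective
      rw [Submodule.map_span, Submodule.map_subtype_top, ← Set.range_comp]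
      exact hx
    have h2 : Set.range c = m.toCotangent '' (Set.range fun i => (⟨x i, hxm i⟩ : m)) := by
      rw [← Set.range_comp]; rfl
    rw [h2, ← Submodule.map_span, h1, Submodule.map_top, Ideal.toCotangent_range]
  have hspan : ⊤ ≤ Submodule.span κ (Set.range c) := by
    intro y _
    have hy : y ∈ Submodule.span A (Set.range c) := hspanA ▸ Submodule.mem_top
    exact Submodule.span_le_restrictScalars A κ _ hy
  have hc : LinearIndependent κ c :=
    linearIndependent_of_top_le_span_of_card_eq_finrank hspan (by simp [hfin])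
  -- the family in the fibre
  let V := κ ⊗[A] Ω[A⁄ℤ]
  let v : Fin N → V := fun i => (1 : κ) ⊗ₜ[A] KaehlerDifferential.D ℤ A (x i)
  let Φ : V →ₗ[κ] CotangentSpace A := L.liftBaseChange κ
  have hΦ : ∀ i, Φ (v i) = c i := by
    intro i
    change L.liftBaseChange κ ((1 : κ) ⊗ₜ[A] _) = _
    rw [LinearMap.liftBaseChange_tmul, one_smul, hL _ (hxm i)]
  have hv : LinearIndependent κ v := by
    apply LinearIndependent.of_comp Φ
    have : Φ ∘ v = c := funext hΦ
    rw [this]; exact hc
  have hvinj : Function.Injective v := hv.injective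
  -- extend to a basis
  have hs : LinearIndepOn κ id (Set.range v) := hv.linearIndepOn_id
  let b₀ := Module.Basis.extend hs
  let ι : Type u := ↥(hs.extend (Set.subset_univ (Set.range v)))
  have hb₀ : ∀ j : ι, b₀ j = (j : V) := fun j => Module.Basis.extend_apply_self hs j
  have hmem : ∀ i, v i ∈ hs.extend (Set.subset_univ (Set.range v)) := fun i =>
    hs.subset_extend _ (Set.mem_range_self i)
  -- lifts
  have hsurj : Function.Surjective (TensorProduct.mk A κ Ω[A⁄ℤ] 1) :=
    TensorProduct.mk_surjective A _ κ residue_surjective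
  let w : ι → Ω[A⁄ℤ] := fun j =>
    if h : ∃ i, v i = (j : V) then KaehlerDifferential.D ℤ A (x h.choose) else (hsurj (j : V)).choose
  have hw : ∀ j : ι, (TensorProduct.mk A κ Ω[A⁄ℤ] 1) (w j) = (j : V) := by
    intro j
    by_cases h : ∃ i, v i = (j : V)
    · simp only [w, dif_pos h]
      exact h.choose_spec
    · simp only [w, dif_neg h]
      exact (hsurj (j : V)).choose_spec
  have hcomp : (TensorProduct.mk A κ Ω[A⁄ℤ] 1 ∘ w) = b₀ := by
    funext j
    rw [Function.comp_apply, hw, hb₀]
  have hli : LinearIndependent κ (TensorProduct.mk A κ Ω[A⁄ℤ] 1 ∘ w) := by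
    rw [hcomp]; exact b₀.linearIndependent
  have hsp : Submodule.span κ (Set.range (TensorProduct.mk A κ Ω[A⁄ℤ] 1 ∘ w)) = ⊤ := by
    rw [hcomp]; exact b₀.span_eq
  have H : Function.Injective ((maximalIdeal A).subtype.rTensor Ω[A⁄ℤ]) :=
    Module.Flat.rTensor_preserves_injective_linearMap _ Subtype.val_injective
  have : Module.FinitePresentation A Ω[A⁄ℤ] := Module.finitePresentation_of_projective A _
  obtain ⟨b, hb⟩ := Module.exists_basis_of_basis_baseChange w hli hsp H
  refine ⟨ι, b, ⟨fun i => ⟨v i, hmem i⟩, fun i i' h => hvinj (Subtype.ext_iff.mp h)⟩, ?_⟩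
  intro i
  rw [hb]
  have h : ∃ i', v i' = v i := ⟨i, rfl⟩
  change w ⟨v i, hmem i⟩ = _
  simp only [w, dif_pos h]
  rw [hvinj h.choose_spec]

open IsLocalRing in
/-- Let A be a regular local ring of prime characteristic p, of Krull dimension N, with maximal ideal
generated by x_1, …, x_N, and assume that the module Ω_A of absolute Kähler differentials of A
(differentials relative to ℤ, equivalently relative to the prime field) is a free A-module of finite
rank. Then dx_1, …, dx_N are part of a basis of Ω_A: there exist a basis b of Ω_A and an injection e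
of the indices 1, …, N into the index type of b with b (e i) = d(x_i) for all i. (In the published
statement A is a regular local F-finite algebra over the prime field and the freeness and finiteness
of Ω_A form the first assertion, taken there from the literature; here they are hypotheses.) -/
theorem result (p : ℕ) [Fact p.Prime]
    {A : Type u} [CommRing A] [IsRegularLocalRing A] [CharP A p]
    [Module.Free A (KaehlerDifferential ℤ A)] [Module.Finite A (KaehlerDifferential ℤ A)]
    {N : ℕ} (x : Fin N → A) (hx : Ideal.span (Set.range x) = maximalIdeal A)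
    (hN : ringKrullDim A = (N : WithBot ℕ∞)) :
    ∃ (ι : Type u) (b : Module.Basis ι A (KaehlerDifferential ℤ A)) (e : Fin N ↪ ι),
      ∀ i : Fin N, b (e i) = KaehlerDifferential.D ℤ A (x i) := by
  obtain ⟨L, hL⟩ := exists_map (A := A) p
  exact main_of_map x hx hN L hL

end Groth.Agent.S19270
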