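import Groth.Statements.S19272
import Mathlib
import Groth.Agent.Lib.Helper6.UFDLoc

set_option autoImplicit false
universe u
open WittFil

namespace Groth.Agent.S19272

/-- Let A be a unique factorisation domain of characteristic p, x_1, …, x_r pairwise non-associate prime
elements of A, B = A[1/(x_1⋯x_r)] with u_i the unit of B defined by x_i, m ≥ 0, and n ∈ ℤ^r with n_i
< 0 for every i. Then every truncated p-typical Witt vector of length m over B lying in the filtered
piece cut out by ∏ u_i ^ n_i (every coordinate y_j has y_j ^ (p ^ (m−1−j)) · ∏ u_i ^ n_i in the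
image of A) has all its coordinates in the image of the ideal (x_1⋯x_r)·A. (The published item,
stated for the filtered de Rham–Witt pieces in all degrees over a regular local ring, says only that
such vectors have all coordinates in A; this row states the divisibility of every coordinate by
x_1⋯x_r that its proof establishes, in degree zero, for a unique factorisation domain in place of a
regular local ring.) -/
theorem result (p : ℕ) [Fact p.Prime] {A B : Type u} [CommRing A] [IsDomain A]
    [UniqueFactorizationMonoid A] [CharP A p] [CommRing B] [Algebra A B] {r : ℕ} (x : Fin r → A)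
    (hx : ∀ i, Prime (x i)) (hxa : ∀ i j, Associated (x i) (x j) → i = j)
    [IsLocalization.Away (∏ i, x i) B] (u : Fin r → Bˣ)
    (hu : ∀ i, (u i : B) = algebraMap A B (x i)) (m : ℕ) (n : Fin r → ℤ) (hn : ∀ i, n i < 0)
    (a : TruncatedWittVector p m B) (ha : a ∈ WittFil.fil p m (A := A) (WittFil.zmon u n))
    (j : Fin m) :
    ∃ b : A, TruncatedWittVector.coeff j a = algebraMap A B ((∏ i, x i) * b) := by
  have hπ : (∏ i, x i) ≠ 0 := Groth.Agent.Helper6.UFDLoc.prod_ne_zero x hx
  have hinj := Groth.Agent.Helper6.UFDLoc.injective (B := B) (∏ i, x i) hπ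
  set y := TruncatedWittVector.coeff j a with hy
  set N := p ^ (m - 1 - (j : ℕ)) with hN
  have hN0 : N ≠ 0 := pow_ne_zero _ (Fact.out : p.Prime).ne_zero
  obtain ⟨α, hα⟩ := ha j
  let e : Fin r → ℕ := fun i => (-(n i)).toNat
  have he : ∀ i, (e i : ℤ) = - n i := fun i => Int.toNat_of_nonneg (by have := hn i; omega)
  have he1 : ∀ i, 1 ≤ e i := by
    intro i
    have h1 := he i
    have h2 := hn i
    omega
  have hinv : WittFil.zmon u n * ((∏ i, u i ^ (e i : ℤ) : Bˣ) : B) = 1 := by
    unfold WittFil.zmon
    rw [← Units.val_mul, ← Finset.prod_mul_distrib]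
    have : ∀ i ∈ Finset.univ, u i ^ n i * u i ^ (e i : ℤ) = 1 := by
      intro i _
      rw [← zpow_add, he, add_neg_cancel, zpow_zero]
    rw [Finset.prod_congr rfl this, Finset.prod_const_one, Units.val_one]
  have h1 : y ^ N = algebraMap A B (α * ∏ i, x i ^ e i) := by
    rw [map_mul, hα, ← Groth.Agent.Helper6.UFDLoc.zmon_eq x u hu e, mul_assoc, hinv, mul_one]
  obtain ⟨β, hβ⟩ := Groth.Agent.Helper6.UFDLoc.mem_range_of_pow_mem_range (∏ i, x i) hπ y N hN0
    ⟨_, h1.symm⟩
  have h2 : β ^ N = α * ∏ i, x i ^ e i := by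
    apply hinj
    rw [map_pow, hβ, h1]
  have h3 : ∀ i, x i ∣ β := by
    intro i
    apply (hx i).dvd_of_dvd_pow (n := N)
    rw [h2]
    apply Dvd.dvd.mul_left
    exact (dvd_pow_self (x i) (by have := he1 i; omega)).trans
      (Finset.dvd_prod_of_mem (fun i => x i ^ e i) (Finset.mem_univ i))
  obtain ⟨b, hb⟩ := Groth.Agent.Helper6.UFDLoc.prod_dvd_of_primes x hx hxa β h3
  exact ⟨b, by rw [← hb, hβ]⟩

end Groth.Agent.S19272
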