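import Groth.Statements.S19273
import Mathlib

set_option autoImplicit false
universe u
open CAlg

namespace Groth.Agent.S19273

section abstract

variable {A B MA MB J : Type*} [CommRing A] [CommRing B] [Algebra A B]
  [AddCommGroup MA] [Module A MA] [AddCommGroup MB] [Module B MB] [Module A MB]
  [IsScalarTower A B MB]

theorem abstract_li (hinj : Function.Injective (algebraMap A B))
    (bB : Module.Basis J B MB) (c : J → Bˣ) :
    LinearIndependent A (fun j => c j • bB j) := by
  have h1 : LinearIndependent B (fun j => c j • bB j) := by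
    have := (bB.unitsSMul c).linearIndependent
    convert this using 1
    funext j
    exact (Module.Basis.unitsSMul_apply j).symm
  haveI : FaithfulSMul A B := (faithfulSMul_iff_algebraMap_injective A B).mpr hinj
  exact LinearIndependent.restrict_scalars' A h1

theorem abstract_range (b : Module.Basis J A MA) (f : MA →ₗ[A] MB)
    (bB : Module.Basis J B MB) (hbB : ∀ j, bB j = f (b j)) (c : J → Bˣ) (a : J → A)
    (hac : ∀ j, algebraMap A B (a j) * (c j : B) = 1) (ω : MA) :
    f ω ∈ Submodule.span A (Set.range (fun j => c j • bB j)) := by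
  have hmapb : ∀ j, f (b j) ∈ Submodule.span A (Set.range (fun j => c j • bB j)) := by
    intro j
    have h1 : f (b j) = a j • (c j • bB j) := by
      rw [Units.smul_def, algebra_compatible_smul B (a j), smul_smul, hac, one_smul, hbB]
    rw [h1]
    exact Submodule.smul_mem _ (a j) (Submodule.subset_span (Set.mem_range_self j))
  have hω : ω ∈ Submodule.span A (Set.range b) := by
    rw [b.span_eq]; exact Submodule.mem_top
  induction hω using Submodule.span_induction with
  | mem y hy =>
    obtain ⟨j, rfl⟩ := hy
    exact hmapb j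
  | zero => rw [map_zero]; exact Submodule.zero_mem _
  | add y z _ _ hy hz => rw [map_add]; exact Submodule.add_mem _ hy hz
  | smul a y _ hy => rw [map_smul]; exact Submodule.smul_mem _ _ hy

/-- abstract form of the statement -/
theorem abstract_basis (hinj : Function.Injective (algebraMap A B))
    (b : Module.Basis J A MA) (f : MA →ₗ[A] MB)
    (bB : Module.Basis J B MB) (hbB : ∀ j, bB j = f (b j)) (c : J → Bˣ) (a : J → A)
    (hac : ∀ j, algebraMap A B (a j) * (c j : B) = 1)
    (T : Set MB) (hT : T ⊆ Set.range (fun j => c j • bB j))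
    (hT' : ∀ j, c j • bB j ∈ Set.range f ∪ T) :
    ∃ e : Module.Basis J A (Submodule.span A (Set.range f ∪ T)),
      ∀ j, (e j : MB) = c j • bB j := by
  have hspan : Submodule.span A (Set.range (fun j => c j • bB j))
      = Submodule.span A (Set.range f ∪ T) := by
    apply le_antisymm
    · rw [Submodule.span_le]
      rintro _ ⟨j, rfl⟩
      exact Submodule.subset_span (hT' j)
    · rw [Submodule.span_le]
      rintro z (⟨ω, rfl⟩ | hz)
      · exact abstract_range b f bB hbB c a hac ω
      · exact Submodule.subset_span (hT hz)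
  let e₁ : Module.Basis J A (Submodule.span A (Set.range (fun j => c j • bB j))) :=
    Module.Basis.span (abstract_li hinj bB c)
  refine ⟨e₁.map (LinearEquiv.ofEq _ _ hspan), ?_⟩
  intro j
  simp only [e₁, Module.Basis.map_apply, LinearEquiv.coe_ofEq_apply, Module.Basis.span_apply]

end abstract


open KaehlerDifferential in
/-- Let A be an integral domain of prime characteristic p, x_1, …, x_N elements of A, r ≤ N, B =
A[1/(x_1⋯x_r)] with u_i the unit of B defined by x_i for i ≤ r, and suppose that the module Ω_A of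
absolute Kähler differentials of A is free with a basis b indexed by {1, …, N} ⊔ ι whose i-th vector
is d(x_i) for i ≤ N. Then the module of logarithmic 1-forms — the A-submodule of Ω_B spanned by the
image of Ω_A and the forms u_i⁻¹ · d(x_i), i ≤ r — is a free A-module: it has a basis indexed by {1,
…, N} ⊔ ι whose vector at i ≤ r is u_i⁻¹ · d(x_i), at r < i ≤ N is d(x_i), and at k ∈ ι is the image
of b_k. (In the published statement A is a regular local F-finite algebra over the prime field with
maximal ideal (x_1, …, x_N), the basis of Ω_A comes from the preceding lemma, and the assertion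
covers the logarithmic q-forms for all q together with their identification with the log de Rham
complex of the log ring; only the degree-one freeness is stated here, from the properties of A
actually used.) -/
theorem result (p : ℕ) [Fact p.Prime]
    {A B : Type u} [CommRing A] [IsDomain A] [CharP A p] [CommRing B] [Algebra A B] {r N : ℕ}
    (hr : r ≤ N) (x : Fin N → A) [IsLocalization.Away (∏ i : Fin r, x (Fin.castLE hr i)) B]
    (u : Fin r → Bˣ) (hu : ∀ i, (u i : B) = algebraMap A B (x (Fin.castLE hr i)))
    {ι : Type u} (b : Module.Basis (Fin N ⊕ ι) A (Ω[A⁄ℤ])) (hb : ∀ i, b (Sum.inl i) = D ℤ A (x i)) :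
    ∃ e : Module.Basis (Fin N ⊕ ι) A
        (W4c6katofilta.logForms1 (fun i : Fin r => x (Fin.castLE hr i)) u),
      (∀ i : Fin r, (e (Sum.inl (Fin.castLE hr i)) : Ω[B⁄ℤ]) =
          ((u i)⁻¹ : Bˣ) • KaehlerDifferential.map ℤ ℤ A B (D ℤ A (x (Fin.castLE hr i)))) ∧
      (∀ i : Fin N, r ≤ (i : ℕ) →
          (e (Sum.inl i) : Ω[B⁄ℤ]) = KaehlerDifferential.map ℤ ℤ A B (D ℤ A (x i))) ∧
      (∀ k : ι, (e (Sum.inr k) : Ω[B⁄ℤ]) = KaehlerDifferential.map ℤ ℤ A B (b (Sum.inr k))) := by
  classical
  set π : A := ∏ i : Fin r, x (Fin.castLE hr i) with hπdef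
  -- the `B`-basis of `Ω_B` induced by `b`
  let bB : Module.Basis (Fin N ⊕ ι) B (Ω[B⁄ℤ]) :=
    b.ofIsLocalizedModule B (Submonoid.powers π) (KaehlerDifferential.map ℤ ℤ A B)
  have hbB : ∀ j, bB j = KaehlerDifferential.map ℤ ℤ A B (b j) := fun j =>
    Module.Basis.ofIsLocalizedModule_apply _ _ _ _ j
  -- units
  let c : Fin N ⊕ ι → Bˣ := fun j => match j with
    | Sum.inl i => if h : (i : ℕ) < r then (u ⟨i, h⟩)⁻¹ else 1
    | Sum.inr _ => 1
  let a : Fin N ⊕ ι → A := fun j => match j with
    | Sum.inl i => if (i : ℕ) < r then x i else 1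
    | Sum.inr _ => 1
  have hac : ∀ j, algebraMap A B (a j) * (c j : B) = 1 := by
    intro j
    rcases j with i | k
    · by_cases h : (i : ℕ) < r
      · have : Fin.castLE hr ⟨(i : ℕ), h⟩ = i := Fin.ext rfl
        have h2 := hu ⟨i, h⟩
        rw [this] at h2
        simp only [a, c, if_pos h, dif_pos h]
        rw [← h2, Units.mul_inv]
      · simp only [a, c, if_neg h, dif_neg h, map_one, Units.val_one, mul_one]
    · simp only [a, c, map_one, Units.val_one, mul_one]
  have hx0 : ∀ i : Fin N, x i ≠ 0 := by
    intro i h0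
    have h1 := b.ne_zero (Sum.inl i)
    rw [hb, h0, map_zero] at h1
    exact h1 rfl
  have hπ0 : π ≠ 0 := Finset.prod_ne_zero_iff.mpr fun i _ => hx0 _
  have hinj : Function.Injective (algebraMap A B) :=
    IsLocalization.injective B (powers_le_nonZeroDivisors_of_noZeroDivisors hπ0)
  set T : Set (Ω[B⁄ℤ]) := Set.range (fun i : Fin r => ((u i)⁻¹ : Bˣ) •
    KaehlerDifferential.map ℤ ℤ A B (D ℤ A (x (Fin.castLE hr i)))) with hTdef
  have hT : T ⊆ Set.range (fun j => c j • bB j) := by
    rintro _ ⟨i, rfl⟩
    refine ⟨Sum.inl (Fin.castLE hr i), ?_⟩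
    have h : ((Fin.castLE hr i : Fin N) : ℕ) < r := i.2
    have : (⟨((Fin.castLE hr i : Fin N) : ℕ), h⟩ : Fin r) = i := Fin.ext rfl
    simp only [c, dif_pos h, this, hbB, hb]
  have hT' : ∀ j, c j • bB j ∈ Set.range (KaehlerDifferential.map ℤ ℤ A B) ∪ T := by
    intro j
    rcases j with i | k
    · by_cases h : (i : ℕ) < r
      · right
        refine ⟨⟨i, h⟩, ?_⟩
        have : Fin.castLE hr ⟨(i : ℕ), h⟩ = i := Fin.ext rfl
        simp only [c, dif_pos h, this, hbB, hb]
      · left
        refine ⟨b (Sum.inl i), ?_⟩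
        simp only [c, dif_neg h, one_smul, hbB]
    · left
      refine ⟨b (Sum.inr k), ?_⟩
      simp only [c, one_smul, hbB]
  obtain ⟨e, he⟩ := abstract_basis hinj b (KaehlerDifferential.map ℤ ℤ A B) bB hbB c a hac T hT hT'
  refine ⟨e, ?_, ?_, ?_⟩
  · intro i
    refine (he _).trans ?_
    have h : ((Fin.castLE hr i : Fin N) : ℕ) < r := i.2
    have : (⟨((Fin.castLE hr i : Fin N) : ℕ), h⟩ : Fin r) = i := Fin.ext rfl
    simp only [c, dif_pos h, this, hbB, hb]
  · intro i hi
    refine (he _).trans ?_
    have h : ¬ (i : ℕ) < r := by omega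
    simp only [c, dif_neg h, one_smul, hbB, hb]
  · intro k
    refine (he _).trans ?_
    simp only [c, one_smul, hbB]

end Groth.Agent.S19273
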