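import Groth.Statements.S19274
import Mathlib
import Groth.Agent.Lib.Helper6.UFDLoc

set_option autoImplicit false
universe u
open WittFil

namespace Groth.Agent.S19274

theorem dvd_of_pow_mul {A B : Type*} [CommRing A] [IsDomain A] [CommRing B] [Algebra A B]
    (x : A) (hx : Prime x) [IsLocalization.Away x B] (u : Bˣ) (hu : (u : B) = algebraMap A B x)
    (N : ℕ) (hN : N ≠ 0) (n : ℤ) (hn : ¬ ((N : ℤ) ∣ n)) (y₀ : B) (α : A)
    (h : algebraMap A B α = y₀ ^ N * ((u ^ n : Bˣ) : B)) : x ∣ α := by
  by_contra hdvd
  have hinj := Groth.Agent.Helper6.UFDLoc.injective (B := B) x hx.ne_zero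
  obtain ⟨k, β, hkβ⟩ := IsLocalization.Away.surj x y₀
  rw [← hu] at hkβ
  have hnn : ((n.toNat : ℤ)) - ((-n).toNat : ℤ) = n := Int.toNat_sub_toNat_neg n
  have hun : ((u ^ n : Bˣ) : B) * (u : B) ^ (-n).toNat = (u : B) ^ n.toNat := by
    rw [← Units.val_pow_eq_pow_val, ← Units.val_pow_eq_pow_val, ← Units.val_mul, ← zpow_natCast,
      ← zpow_natCast, ← zpow_add]
    congr 2
    omega
  have heq : α * x ^ (k * N + (-n).toNat) = β ^ N * x ^ n.toNat := by
    apply hinj
    rw [map_mul, map_mul, map_pow, map_pow, map_pow, ← hu, h, ← hkβ, ← hun]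
    ring
  have he := congrArg (emultiplicity x) heq
  rw [emultiplicity_mul hx, emultiplicity_mul hx,
    emultiplicity_pow_self_of_prime hx, emultiplicity_pow_self_of_prime hx, emultiplicity_pow hx,
    emultiplicity_eq_zero.mpr hdvd, zero_add] at he
  have hfin : emultiplicity x β ≠ ⊤ := by
    intro htop
    rw [htop, ENat.mul_top (by exact_mod_cast hN), top_add] at he
    exact ENat.natCast_ne_top _ he
  obtain ⟨t, ht⟩ := ENat.ne_top_iff_exists.mp hfin
  rw [← ht] at he
  have he' : k * N + (-n).toNat = N * t + n.toNat := by exact_mod_cast he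
  apply hn
  refine ⟨(k : ℤ) - t, ?_⟩
  have : ((k * N + (-n).toNat : ℕ) : ℤ) = ((N * t + n.toNat : ℕ) : ℤ) := by rw [he']
  push_cast at this
  linarith

/-- Let A be a unique factorisation domain of characteristic p, x a prime element of A, B = A[1/x] with
u the unit of B defined by x, m ≥ 1, and n an integer NOT divisible by p^m. For e in B and k ≥ 0
write fil_k(e) for the set of truncated p-typical Witt vectors of length k over B whose j-th
coordinate y_j satisfies y_j ^ (p ^ (k−1−j)) · e ∈ A for all j < k (the filtered piece; fil_k(u^n)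
is the piece of index n). Then fil_{m+1}(u^n) is contained in fil_{m+1}(u^(n−1)) + V(fil_m(u^n))
(the reverse inclusion is immediate): every a in fil_{m+1}(u^n) can be written a = b + V(y) with b
in fil_{m+1}(u^(n−1)) and y a Witt vector over B whose length-m truncation lies in fil_m(u^n), V(y)
being truncated to length m+1. (In the source A is a henselian discrete valuation ring, n = p^r·l >
1 with p not dividing l, and the condition reads m ≥ r + 1.) -/
theorem result (p : ℕ) [Fact p.Prime]
    {A B : Type u} [CommRing A] [IsDomain A] [UniqueFactorizationMonoid A] [CharP A p]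
    [CommRing B] [Algebra A B] (x : A) (hx : Prime x) [IsLocalization.Away x B] (u : Bˣ)
    (hu : (u : B) = algebraMap A B x) (m : ℕ) (hm : 0 < m) (n : ℤ) (hn : ¬ ((p : ℤ) ^ m ∣ n)) :
    ∀ a ∈ WittFil.fil p (m + 1) (A := A) ((u ^ n : Bˣ) : B),
      ∃ b ∈ WittFil.fil p (m + 1) (A := A) ((u ^ (n - 1) : Bˣ) : B),
        ∃ y : WittVector p B,
          WittVector.truncate m y ∈ WittFil.fil p m (A := A) ((u ^ n : Bˣ) : B) ∧
            a = b + WittVector.truncate (m + 1) (WittVector.verschiebung y) := by
  intro a ha
  have hp : p.Prime := Fact.out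
  obtain ⟨A', rfl⟩ := WittVector.truncate_surjective p (m + 1) B a
  let y : WittVector p B := WittVector.mk p (fun i => A'.coeff (i + 1))
  have hVy : WittVector.verschiebung y = WittVector.tail 1 A' := by
    ext i
    rcases i with _ | i
    · rw [WittVector.verschiebung_coeff_zero]
      simp [WittVector.tail, WittVector.select, WittVector.coeff_mk]
    · rw [WittVector.verschiebung_coeff_succ]
      simp [WittVector.tail, WittVector.select, WittVector.coeff_mk, y]
  refine ⟨WittVector.truncate (m + 1) (WittVector.init 1 A'), ?_, y, ?_, ?_⟩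
  · intro j
    rw [WittVector.coeff_truncate]
    obtain ⟨j, hj⟩ := j
    rcases j with _ | i
    · -- the zeroth coordinate
      obtain ⟨α, hα⟩ := ha ⟨0, by omega⟩
      rw [WittVector.coeff_truncate] at hα
      simp only [WittVector.init, WittVector.select, WittVector.coeff_mk, Nat.lt_one_iff, if_true]
      simp only [Nat.add_sub_cancel, Nat.sub_zero] at hα ⊢
      have hdvd : x ∣ α := by
        refine dvd_of_pow_mul x hx u hu (p ^ m) (pow_ne_zero _ hp.ne_zero) n ?_ (A'.coeff 0) α hα
        push_cast
        exact hn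
      obtain ⟨α', rfl⟩ := hdvd
      refine ⟨α', ?_⟩
      have h1 : ((u ^ (n - 1) : Bˣ) : B) = ((u ^ n : Bˣ) : B) * ((u⁻¹ : Bˣ) : B) := by
        rw [← Units.val_mul, zpow_sub_one]
      rw [h1, ← mul_assoc, ← hα, map_mul, ← hu, mul_comm ((u : Bˣ) : B), mul_assoc,
        Units.mul_inv, mul_one]
    · simp only [WittVector.init, WittVector.select, WittVector.coeff_mk]
      rw [if_neg (by omega), zero_pow (pow_ne_zero _ hp.ne_zero), zero_mul]
      exact zero_mem _
  · intro j
    rw [WittVector.coeff_truncate]
    have h := ha ⟨(j : ℕ) + 1, by have := j.2; omega⟩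
    rw [WittVector.coeff_truncate] at h
    simp only [y, WittVector.coeff_mk]
    have e : m + 1 - 1 - ((j : ℕ) + 1) = m - 1 - (j : ℕ) := by omega
    simp only [e] at h
    exact h
  · rw [hVy, ← map_add, WittVector.init_add_tail]

end Groth.Agent.S19274
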