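import Groth.Statements.S19275
import Groth.Agent.Lib.Helper6.HochBC.HBa
import Groth.Agent.Lib.Helper6.HochBC.HBb

set_option autoImplicit false
universe u v w
open Hoch

namespace Groth.Agent.S19275

open TensorProduct in
/-- In the case of an affine group scheme over a field (a K-groupoid acting on Spec K itself),
cohomology commutes with arbitrary base change. Precisely: let K be a field, A a commutative Hopf
algebra over K (the coordinate ring of an affine K-group scheme G), V a right A-comodule (a linear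
representation of G) and R any commutative K-algebra. Give R ⊗ V the base-changed comodule structure
over the R-bialgebra R ⊗ A, whose coaction sends r ⊗ v to the image of r ⊗ ρ(v) under the canonical
identification of R ⊗ (V ⊗ A) with (R ⊗ V) ⊗_R (R ⊗ A), and let φ_n : R ⊗ C^n(A, V) → C^n(R ⊗ A, R ⊗
V) be the canonical R-linear maps between the Hochschild cochain modules, determined by φ_0 = id and
φ_{n+1}(r ⊗ (c ⊗ a)) = φ_n(r ⊗ c) ⊗ (1 ⊗ a). Then every φ_n is bijective, the φ_n commute with the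
Hochschild differentials, and for every n there is an R-linear isomorphism R ⊗ H^n(A, V) ≅ H^n(R ⊗
A, R ⊗ V) sending r ⊗ [z] to [φ_n(r ⊗ z)] for every n-cocycle z. (The published statement is for an
affine K-groupoid acting on the spectrum of a finite extension L of K and its coherent
representations, with K of characteristic 0; this is its case L = K, in which the cochain complex of
a representation is the Hochschild complex of the comodule; V is not assumed finite-dimensional and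
K may be any field.) -/
theorem result
    (K : Type u) [Field K] (A : Type v) [CommRing A] [HopfAlgebra K A]
    (V : Type v) [AddCommGroup V] [Module K V] [HopfRep.Comod K A V]
    (R : Type w) [CommRing R] [Algebra K R]
    (φ : ∀ n : ℕ, R ⊗[K] (Hoch.cochain K A V n) →ₗ[R] (Hoch.cochain R (R ⊗[K] A) (R ⊗[K] V) n))
    (hφ0 : ∀ x : R ⊗[K] V, φ 0 x = x)
    (hφs : ∀ (n : ℕ) (r : R) (c : Hoch.cochain K A V n) (a : A),
      φ (n + 1) (r ⊗ₜ[K] (c ⊗ₜ[K] a)) = (φ n (r ⊗ₜ[K] c)) ⊗ₜ[R] ((1 : R) ⊗ₜ[K] a)) :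
    letI := CoactBr.Comod.baseChange K R A V
    (∀ n : ℕ, Function.Bijective (φ n)) ∧
    (∀ (n : ℕ) (x : R ⊗[K] (Hoch.cochain K A V n)),
        φ (n + 1) ((Hoch.d K A V n).baseChange R x) = Hoch.d R (R ⊗[K] A) (R ⊗[K] V) n (φ n x)) ∧
      ∀ n : ℕ, ∃ e : R ⊗[K] Hoch.H K A V n ≃ₗ[R] Hoch.H R (R ⊗[K] A) (R ⊗[K] V) n,
        ∀ (r : R) (z : Hoch.cocycles K A V n)
          (hz : φ n (r ⊗ₜ[K] (z : Hoch.cochain K A V n)) ∈ Hoch.cocycles R (R ⊗[K] A) (R ⊗[K] V) n),
          e (r ⊗ₜ[K] Hoch.H.mk K A V n z) = Hoch.H.mk R (R ⊗[K] A) (R ⊗[K] V) n ⟨φ n (r ⊗ₜ[K] (z : Hoch.cochain K A V n)), hz⟩ := by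
  open Groth.Agent.Lib.Helper6.HochBC in
  refine ⟨phi_bij K A V R φ hφ0 hφs, phi_d K A V R φ hφ0 hφs, ?_⟩
  intro n
  letI := CoactBr.Comod.baseChange K R A V
  have hb := phi_bij K A V R φ hφ0 hφs
  have hd := phi_d K A V R φ hφ0 hφs
  cases n with
  | zero =>
    exact exists_equiv (0 : V →ₗ[K] V) (Hoch.d K A V 0)
      (0 : (R ⊗[K] V) →ₗ[R] (R ⊗[K] V))
      (@Hoch.d R _ (R ⊗[K] A) _ _ (R ⊗[K] V) _ _ (CoactBr.Comod.baseChange K R A V) 0)
      (φ 0) (φ 0) (φ 1) (hb 0) (hb 0) (hb 1)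
      (fun x => by simp) (hd 0)
      (Hoch.coboundaries K A V 0) (Hoch.coboundaries R (R ⊗[K] A) (R ⊗[K] V) 0)
      (by rw [LinearMap.range_zero]; rfl) (by rw [LinearMap.range_zero]; rfl)
  | succ n =>
    exact exists_equiv (Hoch.d K A V n) (Hoch.d K A V (n + 1))
      (@Hoch.d R _ (R ⊗[K] A) _ _ (R ⊗[K] V) _ _ (CoactBr.Comod.baseChange K R A V) n)
      (@Hoch.d R _ (R ⊗[K] A) _ _ (R ⊗[K] V) _ _ (CoactBr.Comod.baseChange K R A V) (n + 1))
      (φ n) (φ (n + 1)) (φ (n + 2)) (hb n) (hb (n + 1)) (hb (n + 2))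
      (hd n) (hd (n + 1))
      (Hoch.coboundaries K A V (n + 1)) (Hoch.coboundaries R (R ⊗[K] A) (R ⊗[K] V) (n + 1))
      rfl rfl

end Groth.Agent.S19275
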