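import Groth.Statements.S19276
import Groth.Agent.Lib.Helper6.CycFourier

set_option autoImplicit false
universe u v
open GrpAlg

namespace Groth.Agent.S19276

/-- Let `A` be a finite commutative group and `Λ` a commutative ring in which the order of `A` is
invertible. Then the ring homomorphism from the group ring `Λ[A]` to the product, over the subgroups
`B` of `A` with cyclic quotient, of the cyclotomic quotients `Λ[A ⧸ B]/(Φ_{|A/B|})`, each component
induced by `A → A/B`, is bijective. (In terms of group schemes: `Λ[A]` is the representation ring
with coefficients in `Λ` of the finite diagonalizable group with character group `A`, the factors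
are indexed by its dual cyclic subgroups, i.e. those isomorphic to some `μ_n`, and the components
are restriction followed by the cyclotomic quotient. The published statement takes `Λ = ℤ[1/|A|]`;
here `Λ` is any commutative ring in which `|A|` is invertible.) -/
theorem result (Λ : Type u) [CommRing Λ] (A : Type v)
    [AddCommGroup A] [Finite A] (hA : IsUnit ((Nat.card A : ℕ) : Λ)) :
    Function.Bijective (RingHom.pi fun B : {B : AddSubgroup A // IsAddCyclic (A ⧸ B)} =>
      W4c6equivkfinstab.cycQuotMap Λ A B.1) := by
  classical
  have hfinidx : ∀ B : AddSubgroup A, B.FiniteIndex := fun B => AddSubgroup.finiteIndex_of_finite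
  have hunit : ∀ B : AddSubgroup A, IsUnit ((B.index : ℕ) : Λ) := by
    intro B
    obtain ⟨k, hk⟩ := AddSubgroup.index_dvd_card B
    rw [hk, Nat.cast_mul] at hA
    exact isUnit_of_mul_isUnit_left hA
  constructor
  · -- injectivity
    rw [injective_iff_map_eq_zero]
    intro x hx
    have hx' : ∀ B : AddSubgroup A, (⊥ : AddSubgroup A) ≤ B → IsAddCyclic (A ⧸ B) →
        W4c6equivkfinstab.cycQuotMap Λ A B x = 0 := by
      intro B _ hB
      exact congrFun hx ⟨B, hB⟩
    have h0 := Groth.Agent.Lib.Helper6.CycFourier.core_inj Λ A ⊥ (hunit ⊥) x hx'
    have hinj : Function.Injective (QuotientAddGroup.mk' (⊥ : AddSubgroup A)) := by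
      rw [injective_iff_map_eq_zero]
      intro a ha
      have := (QuotientAddGroup.eq_zero_iff a).1 ha
      simpa using this
    have hmapinj : Function.Injective (W4c6equivkfinstab.quotMap Λ A ⊥) :=
      AddMonoidAlgebra.mapDomain_injective hinj
    exact hmapinj (by rw [h0, map_zero])
  · -- surjectivity
    have hfin : Finite {B : AddSubgroup A // IsAddCyclic (A ⧸ B)} := inferInstance
    refine Groth.Agent.Lib.Helper6.CycFourier.pi_surjective _
      (fun B => Groth.Agent.Lib.Helper6.CycUnit.cycQuotMap_surjective Λ A B.1) ?_
    intro B B' hne
    have hne' : B'.1 ≠ B.1 := fun h => hne (Subtype.ext h.symm)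
    have := B.2
    have := B'.2
    exact Groth.Agent.Lib.Helper6.CycFourier.exists_one_zero Λ A B'.1 B.1 hne' (hunit _) (hunit _)

end Groth.Agent.S19276
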