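import Groth.Statements.S19277
import Groth.Agent.Lib.Helper6.CycUnit

set_option autoImplicit false
universe u v
open GrpAlg

namespace Groth.Agent.S19277

/-- Let `M` be a commutative group, `B ≠ B'` subgroups of finite index with `M ⧸ B` and `M ⧸ B'` cyclic,
and `Λ` a commutative ring in which both indices are invertible. Then the localization of the
`Λ[M]`-module `Λ[M ⧸ B]/(Φ_{|M/B|})` at the multiplicative subset of `Λ[M]` of elements with image
`1` in `Λ[M ⧸ B']/(Φ_{|M/B'|})` is zero. (In terms of group schemes: for two distinct dual cyclic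
subgroups σ, σ' of the diagonalizable group with character group `M`, the ring R̃(σ) with
coefficients in `Λ` vanishes after localization at σ'. The published statement has a split torus,
i.e. `M` free of finite rank, and `Λ = ℤ[1/N]` for `N` the order of the subgroup generated by σ and
σ'; here `M` is any commutative group and `Λ` any commutative ring in which the orders of σ and σ'
are invertible.) -/
theorem result (Λ : Type u) [CommRing Λ] (M : Type v)
    [AddCommGroup M] (B B' : AddSubgroup M) [B.FiniteIndex] [B'.FiniteIndex]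
    [IsAddCyclic (M ⧸ B)] [IsAddCyclic (M ⧸ B')] (hne : B ≠ B')
    (hu : IsUnit ((B.index * B'.index : ℕ) : Λ)) :
    Subsingleton (LocalizedModule (W4c6equivkfinstab.locSubmonoid Λ M B')
      (W4c6equivkfinstab.CycQuot Λ (M ⧸ B))) := by
  have hu1 : IsUnit ((B.index : ℕ) : Λ) := by
    rw [Nat.cast_mul] at hu
    exact isUnit_of_mul_isUnit_left hu
  have hu2 : IsUnit ((B'.index : ℕ) : Λ) := by
    rw [Nat.cast_mul] at hu
    exact isUnit_of_mul_isUnit_right hu
  rw [LocalizedModule.subsingleton_iff]
  -- it suffices to find `r` with image `1` in the quotient for `B'` and image `0` for `B`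
  suffices h : ∃ r : AddMonoidAlgebra Λ M, W4c6equivkfinstab.cycQuotMap Λ M B' r = 1 ∧
      W4c6equivkfinstab.cycQuotMap Λ M B r = 0 by
    obtain ⟨r, hr1, hr0⟩ := h
    intro n
    refine ⟨r, hr1, ?_⟩
    obtain ⟨w, rfl⟩ := Ideal.Quotient.mk_surjective n
    have : r • (Ideal.Quotient.mk (W4c6equivkfinstab.cycIdeal Λ (M ⧸ B)) w) =
        W4c6equivkfinstab.cycQuotMap Λ M B r * Ideal.Quotient.mk _ w := by
      show Ideal.Quotient.mk _ (r • w) = _
      rw [Algebra.smul_def, map_mul]
      rfl
    rw [this, hr0, zero_mul]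
  by_cases hle : B' ≤ B
  · -- then `B ⊄ B'`
    have hnle : ¬ B ≤ B' := fun h => hne (le_antisymm h hle)
    obtain ⟨b, hbB, hbB'⟩ := SetLike.not_le_iff_exists.1 hnle
    obtain ⟨y, hy⟩ := Groth.Agent.Lib.Helper6.CycUnit.exists_mul_eq_one Λ M B' hu2 b hbB'
    refine ⟨(AddMonoidAlgebra.single b (1 : Λ) - 1) * y, hy, ?_⟩
    rw [map_mul, Groth.Agent.Lib.Helper6.CycUnit.cycQuotMap_single_of_mem Λ M B b hbB, zero_mul]
  · obtain ⟨b, hbB', hbB⟩ := SetLike.not_le_iff_exists.1 hle
    obtain ⟨y, hy⟩ := Groth.Agent.Lib.Helper6.CycUnit.exists_mul_eq_one Λ M B hu1 b hbB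
    refine ⟨1 - (AddMonoidAlgebra.single b (1 : Λ) - 1) * y, ?_, ?_⟩
    · rw [map_sub, map_one, map_mul,
        Groth.Agent.Lib.Helper6.CycUnit.cycQuotMap_single_of_mem Λ M B' b hbB', zero_mul, sub_zero]
    · rw [map_sub, map_one, hy, sub_self]

end Groth.Agent.S19277
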