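import Groth.Statements.S19279
import Groth.Agent.Lib.Helper6.CycFourier

set_option autoImplicit false
universe u v
open GrpAlg

namespace Groth.Agent.S19279

/-- Let `M` be a commutative group, `B₀` a subgroup of finite index and `Λ` a commutative ring in which
the index of `B₀` is invertible. Then the `Λ[M]`-linear map from `Λ[M ⧸ B₀]` to the product, over
the subgroups `B ⊇ B₀` with `M ⧸ B` cyclic, of the localizations of `Λ[M ⧸ B₀]` at the
multiplicative subsets of `Λ[M]` of elements with image `1` in `Λ[M ⧸ B]/(Φ_{|M/B|})`, with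
components the localization maps, is bijective. (In terms of group schemes: for a finite closed
subgroup T' = D(M/B₀) of the diagonalizable group with character group `M`, the representation ring
of T' with coefficients in `Λ` is the product of its localizations at the dual cyclic subgroups of
T'. The published statement has a split torus and `Λ = ℤ[1/|T'|]`; here `M` is any commutative group
and `Λ` any commutative ring in which the order of T' is invertible.) -/
theorem result (Λ : Type u) [CommRing Λ]
    (M : Type v) [AddCommGroup M] (B₀ : AddSubgroup M) [B₀.FiniteIndex]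
    (hu : IsUnit ((B₀.index : ℕ) : Λ)) :
    Function.Bijective (LinearMap.pi (R := AddMonoidAlgebra Λ M)
      fun B : {B : AddSubgroup M // B₀ ≤ B ∧ IsAddCyclic (M ⧸ B)} =>
        LocalizedModule.mkLinearMap (W4c6equivkfinstab.locSubmonoid Λ M B.1)
          (AddMonoidAlgebra Λ (M ⧸ B₀))) := by
  classical
  -- notation
  let J := {B : AddSubgroup M // B₀ ≤ B ∧ IsAddCyclic (M ⧸ B)}
  have hfinidx : ∀ B : J, B.1.FiniteIndex := fun B => AddSubgroup.finiteIndex_of_le B.2.1
  have hcyc : ∀ B : J, IsAddCyclic (M ⧸ B.1) := fun B => B.2.2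
  have hunit : ∀ B : J, IsUnit ((B.1.index : ℕ) : Λ) := by
    intro B
    obtain ⟨k, hk⟩ := AddSubgroup.index_dvd_of_le B.2.1
    rw [hk, Nat.cast_mul] at hu
    exact isUnit_of_mul_isUnit_left hu
  -- `J` is finite
  have hfinq : Finite (M ⧸ B₀) := AddSubgroup.finite_quotient_of_finiteIndex
  have hJfin : Finite J := by
    let φ : J → AddSubgroup (M ⧸ B₀) := fun B => B.1.map (QuotientAddGroup.mk' B₀)
    refine Finite.of_injective φ ?_
    intro B B' h
    apply Subtype.ext
    have key : ∀ C : J, (C.1.map (QuotientAddGroup.mk' B₀)).comap (QuotientAddGroup.mk' B₀) = C.1 := by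
      intro C
      rw [AddSubgroup.comap_map_eq, QuotientAddGroup.ker_mk', sup_eq_left.2 C.2.1]
    rw [← key B, ← key B']
    exact congrArg _ h
  have : Fintype J := Fintype.ofFinite J
  -- the orthogonal idempotent-like elements
  have hsurj := Groth.Agent.Lib.Helper6.CycFourier.pi_surjective
    (fun B : J => W4c6equivkfinstab.cycQuotMap Λ M B.1)
    (fun B => Groth.Agent.Lib.Helper6.CycUnit.cycQuotMap_surjective Λ M B.1) (by
      intro B B' hne
      have hne' : B'.1 ≠ B.1 := fun h => hne (Subtype.ext h.symm)
      have := hfinidx B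
      have := hfinidx B'
      have := hcyc B
      have := hcyc B'
      exact Groth.Agent.Lib.Helper6.CycFourier.exists_one_zero Λ M B'.1 B.1 hne' (hunit _) (hunit _))
  choose e he using fun B : J => hsurj (Pi.single B 1)
  have he1 : ∀ B : J, W4c6equivkfinstab.cycQuotMap Λ M B.1 (e B) = 1 := by
    intro B
    have := congrFun (he B) B
    simpa using this
  have he0 : ∀ B B' : J, B ≠ B' → W4c6equivkfinstab.cycQuotMap Λ M B'.1 (e B) = 0 := by
    intro B B' hne
    have := congrFun (he B) B'
    simpa [Pi.single_apply, hne.symm] using this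
  -- vanishing criterion
  have hvan : ∀ x : AddMonoidAlgebra Λ M,
      (∀ B : J, W4c6equivkfinstab.cycQuotMap Λ M B.1 x = 0) →
      ∀ p : AddMonoidAlgebra Λ (M ⧸ B₀), x • p = 0 := by
    intro x hx p
    have h0 := Groth.Agent.Lib.Helper6.CycFourier.core_inj Λ M B₀ hu x
      (fun B hB hc => hx ⟨B, hB, hc⟩)
    rw [Algebra.smul_def]
    show W4c6equivkfinstab.quotMap Λ M B₀ x * p = 0
    rw [h0, zero_mul]
  -- (F1)
  have hF1 : ∀ p : AddMonoidAlgebra Λ (M ⧸ B₀), (∑ B : J, e B) • p = p := by
    intro p
    have := hvan ((∑ B : J, e B) - 1) (by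
      intro B
      rw [map_sub, map_one, map_sum, Finset.sum_eq_single B, he1, sub_self]
      · intro B' _ hne
        exact he0 B' B hne
      · intro h; exact absurd (Finset.mem_univ B) h) p
    rwa [sub_smul, one_smul, sub_eq_zero] at this
  -- (F2)
  have hF2 : ∀ B B' : J, B ≠ B' → ∀ p : AddMonoidAlgebra Λ (M ⧸ B₀), (e B * e B') • p = 0 := by
    intro B B' hne p
    refine hvan _ (fun B'' => ?_) p
    rw [map_mul]
    by_cases h : B'' = B
    · subst h
      rw [he0 B' B'' hne.symm, mul_zero]
    · rw [he0 B B'' (Ne.symm h), zero_mul]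
  -- (F3)
  have hF3 : ∀ (B : J) (s : AddMonoidAlgebra Λ M), W4c6equivkfinstab.cycQuotMap Λ M B.1 s = 1 →
      ∀ p : AddMonoidAlgebra Λ (M ⧸ B₀), (e B * (s - 1)) • p = 0 := by
    intro B s hs p
    refine hvan _ (fun B'' => ?_) p
    rw [map_mul]
    by_cases h : B'' = B
    · subst h
      rw [map_sub, map_one, hs, sub_self, mul_zero]
    · rw [he0 B B'' (Ne.symm h), zero_mul]
  constructor
  · -- injectivity
    rw [injective_iff_map_eq_zero]
    intro p hp
    have hp' : ∀ B : J, e B • p = 0 := by
      intro B
      have h1 := congrFun hp B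
      have h2 : LocalizedModule.mkLinearMap (W4c6equivkfinstab.locSubmonoid Λ M B.1)
          (AddMonoidAlgebra Λ (M ⧸ B₀)) p = 0 := h1
      rw [← LinearMap.mem_ker, LocalizedModule.mem_ker_mkLinearMap_iff] at h2
      obtain ⟨s, hs, hsp⟩ := h2
      have h3 := hF3 B s hs p
      rw [mul_sub, mul_one, sub_smul, mul_smul, hsp, smul_zero, zero_sub, neg_eq_zero] at h3
      exact h3
    rw [← hF1 p, Finset.sum_smul]
    exact Finset.sum_eq_zero fun B _ => hp' B
  · -- surjectivity
    intro q
    have hrep : ∀ B : J, ∃ (p : AddMonoidAlgebra Λ (M ⧸ B₀))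
        (s : W4c6equivkfinstab.locSubmonoid Λ M B.1), q B = LocalizedModule.mk p s := by
      intro B
      induction q B using LocalizedModule.induction_on with
      | h p s => exact ⟨p, s, rfl⟩
    choose pp ss hq using hrep
    refine ⟨∑ B : J, e B • pp B, ?_⟩
    funext B
    show LocalizedModule.mkLinearMap (W4c6equivkfinstab.locSubmonoid Λ M B.1)
      (AddMonoidAlgebra Λ (M ⧸ B₀)) (∑ B : J, e B • pp B) = q B
    rw [hq B, LocalizedModule.mkLinearMap_apply, LocalizedModule.mk_eq]
    refine ⟨⟨e B, he1 B⟩, ?_⟩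
    show e B • (ss B : AddMonoidAlgebra Λ M) • (∑ B' : J, e B' • pp B') =
      e B • (1 : AddMonoidAlgebra Λ M) • pp B
    rw [one_smul, Finset.smul_sum, Finset.smul_sum, Finset.sum_eq_single B]
    · -- main term
      have hsB : W4c6equivkfinstab.cycQuotMap Λ M B.1 (e B * (ss B : AddMonoidAlgebra Λ M)) = 1 := by
        rw [map_mul, he1, one_mul]
        exact (ss B).2
      have h3 := hF3 B (e B * (ss B : AddMonoidAlgebra Λ M)) hsB (pp B)
      rw [mul_sub, mul_one, sub_smul, sub_eq_zero] at h3
      rw [smul_smul, smul_smul,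
        show e B * (ss B : AddMonoidAlgebra Λ M) * e B =
          e B * (e B * (ss B : AddMonoidAlgebra Λ M)) by ring]
      exact h3
    · intro B' _ hne
      rw [smul_smul, smul_smul]
      have := hF2 B B' hne.symm ((ss B : AddMonoidAlgebra Λ M) • pp B')
      rw [smul_smul] at this
      rw [show e B * (ss B : AddMonoidAlgebra Λ M) * e B' =
          e B * e B' * (ss B : AddMonoidAlgebra Λ M) by ring]
      exact this
    · intro h; exact absurd (Finset.mem_univ B) h

end Groth.Agent.S19279
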