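import Groth.Statements.S19288
import Mathlib

set_option autoImplicit false
universe u
open CategoryTheory CategoryTheory.Limits MonoidalCategory CartesianMonoidalCategory MonObj AlgebraicGeometry
open AbSch

namespace Groth.Agent.S19288

set_option backward.isDefEq.respectTransparency false in
theorem isOpenImmersion_equalizer_ι_left {S : Scheme.{u}} {X Y : Over S} [Etale Y.hom]
    (f g : X ⟶ Y) : IsOpenImmersion (equalizer.ι f g).left := by
  refine MorphismProperty.of_isPullback
    ((Limits.isPullback_equalizer_prod f g).map (Over.forget _)).flip ?_
  rw [← MorphismProperty.cancel_right_of_respectsIso @IsOpenImmersion _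
    (Over.prodLeftIsoPullback Y Y).hom]
  convert! (inferInstance : IsOpenImmersion (pullback.diagonal Y.hom))
  ext1 <;> simp [← Over.comp_left]

/-- Let S be a scheme, X a commutative S-group scheme which is etale and separated over S (hence locally
of finite presentation), and P a commutative S-group scheme of finite presentation over S all of
whose fibres are connected. Then every homomorphism of S-group schemes from P to X is trivial (it
factors through the unit section). -/
theorem result {S : Scheme.{u}} (P X : Over S)
    [GrpObj P] [IsCommMonObj P] [GrpObj X] [IsCommMonObj X]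
    [Etale X.hom] [IsSeparated X.hom]
    [QuasiCompact P.hom] [QuasiSeparated P.hom] [LocallyOfFinitePresentation P.hom]
    (hP : ∀ s : S, ConnectedSpace ↥(P.hom.fiber s))
    (f : P ⟶ X) [IsMonHom f] : f = 1 := by
  classical
  let e := equalizer.ι f (1 : P ⟶ X)
  have hopen : IsOpenImmersion e.left := isOpenImmersion_equalizer_ι_left f 1
  have hclosed : IsClosedImmersion e.left := inferInstance
  have hU : IsClopen (Set.range e.left) :=
    ⟨(Scheme.Hom.isClosedEmbedding e.left).isClosed_range, (Scheme.Hom.isOpenEmbedding e.left).isOpen_range⟩
  -- the unit section factors through the equalizer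
  have hη : η[P] ≫ f = η[P] ≫ (1 : P ⟶ X) := by
    rw [IsMonHom.one_hom, Hom.one_def, ← Category.assoc]
    have : η[P] ≫ toUnit P = 𝟙 _ := toUnit_unique _ _
    rw [this, Category.id_comp]
  let l := equalizer.lift η[P] hη
  have hl : l ≫ e = η[P] := equalizer.lift_ι _ _
  have hsurj : Function.Surjective e.left := by
    intro p
    set s : S := P.hom p with hs
    have hconn := hP s
    let ιs := P.hom.fiberι s
    have hV : IsClopen (ιs ⁻¹' Set.range e.left) := hU.preimage ιs.continuous
    -- the unit point
    let u : P.left := η[P].left s
    have hu1 : P.hom u = s := by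
      have h2 : (η[P].left ≫ P.hom) s = ((𝟙_ (Over S)).hom) s := by rw [Over.w]
      exact h2
    have hu2 : u ∈ Set.range e.left := by
      refine ⟨l.left s, ?_⟩
      have h := congrArg (fun (g : 𝟙_ (Over S) ⟶ P) => g.left s) hl
      exact h
    have hu3 : u ∈ Set.range ιs := by
      rw [Scheme.Hom.range_fiberι]
      exact hu1
    obtain ⟨z, hz⟩ := hu3
    have hne : (ιs ⁻¹' Set.range e.left).Nonempty := ⟨z, by rw [Set.mem_preimage, hz]; exact hu2⟩
    have huniv := hV.eq_univ hne
    have hp : p ∈ Set.range ιs := by
      rw [Scheme.Hom.range_fiberι]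
      rfl
    obtain ⟨z', hz'⟩ := hp
    have : z' ∈ ιs ⁻¹' Set.range e.left := by rw [huniv]; trivial
    rw [Set.mem_preimage, hz'] at this
    exact this
  have hepi : Epi e.left.base := by
    rw [TopCat.epi_iff_surjective]
    exact hsurj
  have hiso : IsIso e.left := IsOpenImmersion.isIso e.left
  apply Over.OverMorphism.ext
  rw [← cancel_epi e.left]
  exact congr($(equalizer.condition f (1 : P ⟶ X)).left)

end Groth.Agent.S19288
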