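import Groth.Statements.S19308
-- import your own Groth.Agent.* helpers here
import Groth.Agent.Lib.Helper7.UnitCoef.Main
import Groth.Agent.Lib.Helper8.GeomAlgClosed

set_option autoImplicit false
universe u
open TensorProduct
open CAlg

namespace Groth.Agent.S19308

/-- Let k be an algebraically closed field, A a finitely generated k-algebra which is an integral domain
(an affine variety X = Spec A), Z a finite (possibly empty) set of k-points of A, R a commutative
k-algebra and U an open dense subset of Spec (R ⊗_k A) = X_R containing every point of Z_R and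
meeting every fibre of X_R → Spec R. Then locally on Spec R there is a principal relative effective
Cartier divisor missing Z_R whose complement lies in U: for every prime p of R there are r ∉ p and f
∈ R[1/r] ⊗_k A such that f is a non-zero-divisor, (R[1/r] ⊗_k A)/(f) is flat over R[1/r], f maps to
a unit under every point of Z, and the basic open set D(f) of X_{R[1/r]} maps into U. (The published
statement is for a quasi-projective variety X and asks for relative Cartier divisors D_i over an
open cover of Spec R; this row is the affine case, to which the published proof reduces, where the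
divisors produced are principal.) -/
theorem result
    (k : Type u) [Field k] [IsAlgClosed k]
    (A : Type u) [CommRing A] [Algebra k A] [IsDomain A] [Algebra.FiniteType k A]
    (Z : Finset (A →ₐ[k] k))
    (R : Type u) [CommRing R] [Algebra k R]
    (U : TopologicalSpace.Opens (PrimeSpectrum (TensorProduct k R A)))
    (hU : Dense (U : Set (PrimeSpectrum (TensorProduct k R A))))
    (hZ : ∀ z ∈ Z, ∀ q : PrimeSpectrum R,
      PrimeSpectrum.comap (Algebra.TensorProduct.lift (AlgHom.id k R) ((Algebra.ofId k R).comp z)
        (fun _ _ => Commute.all _ _)).toRingHom q ∈ U)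
    (hsurj : ∀ q : PrimeSpectrum R, ∃ P ∈ U,
      PrimeSpectrum.comap (Algebra.TensorProduct.includeLeftRingHom : R →+* TensorProduct k R A) P = q)
    (p : PrimeSpectrum R) :
    ∃ r : R, r ∉ p.asIdeal ∧
      ∃ f : TensorProduct k (Localization.Away r) A,
        f ∈ nonZeroDivisors (TensorProduct k (Localization.Away r) A) ∧
        Module.Flat (Localization.Away r)
          (TensorProduct k (Localization.Away r) A ⧸ Ideal.span {f}) ∧
        (∀ z ∈ Z, IsUnit (Algebra.TensorProduct.lift (AlgHom.id k (Localization.Away r))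
          ((Algebra.ofId k (Localization.Away r)).comp z) (fun _ _ => Commute.all _ _) f)) ∧
        (∀ P : PrimeSpectrum (TensorProduct k (Localization.Away r) A), f ∉ P.asIdeal →
          PrimeSpectrum.comap (Algebra.TensorProduct.map
            (IsScalarTower.toAlgHom k R (Localization.Away r)) (AlgHom.id k A)).toRingHom P ∈ U) := by
  classical
  let e := Module.Free.chooseBasis k A
  let B := Algebra.TensorProduct.basis R e
  -- the ideal of the complement of `U`
  set J : Ideal (TensorProduct k R A) :=
    PrimeSpectrum.vanishingIdeal ((U : Set (PrimeSpectrum (TensorProduct k R A)))ᶜ) with hJdef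
  have hJU : ∀ x : PrimeSpectrum (TensorProduct k R A), J ≤ x.asIdeal → x ∉ U := by
    intro x hx hxU
    have hx' : x ∈ PrimeSpectrum.zeroLocus (J : Set (TensorProduct k R A)) :=
      (PrimeSpectrum.mem_zeroLocus _ _).mpr hx
    rw [hJdef, PrimeSpectrum.zeroLocus_vanishingIdeal_eq_closure,
      (U.isOpen.isClosed_compl).closure_eq] at hx'
    exact hx' hxU
  have hUJ : ∀ x : PrimeSpectrum (TensorProduct k R A), ∀ g ∈ J, g ∉ x.asIdeal → x ∈ U := by
    intro x g hg hgx
    by_contra hxU
    exact hgx ((PrimeSpectrum.mem_vanishingIdeal _ _).mp hg x hxU)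
  -- the generic point of the fibre over `p`
  let ψ : TensorProduct k R A →ₐ[k] TensorProduct k (R ⧸ p.asIdeal) A :=
    Algebra.TensorProduct.map (Ideal.Quotient.mkₐ k p.asIdeal) (AlgHom.id k A)
  haveI : IsDomain (TensorProduct k (R ⧸ p.asIdeal) A) :=
    Groth.Agent.Helper8.isDomain_tensor_of_isAlgClosed (R ⧸ p.asIdeal) A
  let P₀ : Ideal (TensorProduct k R A) := RingHom.ker ψ.toRingHom
  haveI hP₀prime : P₀.IsPrime := RingHom.ker_isPrime ψ.toRingHom
  let B' := Algebra.TensorProduct.basis (R ⧸ p.asIdeal) e
  have hP₀mem : ∀ x : TensorProduct k R A, x ∈ P₀ ↔ ∀ i, B.repr x i ∈ p.asIdeal := by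
    intro x
    show ψ x = 0 ↔ _
    rw [← B'.repr.map_eq_zero_iff, Finsupp.ext_iff]
    refine forall_congr' (fun i => ?_)
    rw [Groth.Agent.Helper7.UnitCoef.basis_repr_map e (Ideal.Quotient.mkₐ k p.asIdeal) x i,
      Finsupp.zero_apply]
    exact Ideal.Quotient.eq_zero_iff_mem
  have hsum : ∀ (P : Ideal (TensorProduct k R A)) (x : TensorProduct k R A),
      (∀ i, (Algebra.TensorProduct.includeLeftRingHom (B.repr x i) : TensorProduct k R A) ∈ P) →
        x ∈ P := by
    intro P x h
    rw [← B.linearCombination_repr x, Finsupp.linearCombination_apply, Finsupp.sum]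
    refine P.sum_mem (fun i _ => ?_)
    rw [Algebra.smul_def]
    exact P.mul_mem_right _ (h i)
  have hJP₀ : ¬ J ≤ P₀ := by
    intro hle
    obtain ⟨P, hPU, hPp⟩ := hsurj p
    refine hJU P (hle.trans ?_) hPU
    intro x hx
    rw [hP₀mem] at hx
    refine hsum P.asIdeal x (fun i => ?_)
    have h1 : B.repr x i ∈ (PrimeSpectrum.comap
        (Algebra.TensorProduct.includeLeftRingHom : R →+* TensorProduct k R A) P).asIdeal := by
      rw [hPp]
      exact hx i
    exact h1
  -- the sections
  let σ : (A →ₐ[k] k) → (TensorProduct k R A →ₐ[k] R) := fun z =>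
    Algebra.TensorProduct.lift (AlgHom.id k R) ((Algebra.ofId k R).comp z)
      (fun _ _ => Commute.all _ _)
  let Q : (A →ₐ[k] k) → Ideal (TensorProduct k R A) := fun z =>
    Ideal.comap (σ z).toRingHom p.asIdeal
  have hQprime : ∀ z, (Q z).IsPrime := fun z => Ideal.comap_isPrime _ _
  have hJQ : ∀ z ∈ Z, ¬ J ≤ Q z := by
    intro z hz hle
    exact hJU _ hle (hZ z hz p)
  -- prime avoidance
  obtain ⟨g₀, hg₀J, hg₀P, hg₀Q⟩ : ∃ g₀ ∈ J, g₀ ∉ P₀ ∧ ∀ z ∈ Z, g₀ ∉ Q z := by
    let s : Finset (Ideal (TensorProduct k R A)) := insert P₀ (Z.image Q)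
    have hprime : ∀ i ∈ s, i ≠ P₀ → i ≠ P₀ → (id i : Ideal (TensorProduct k R A)).IsPrime := by
      intro i hi _ _
      rcases Finset.mem_insert.mp hi with h | hi
      · rw [h]
        exact hP₀prime
      · obtain ⟨z, _, hz⟩ := Finset.mem_image.mp hi
        rw [← hz]
        exact hQprime z
    have hav := (Ideal.subset_union_prime (s := s) (f := id) P₀ P₀ hprime (I := J)).not
    have hnot : ¬ ∃ i ∈ s, J ≤ id i := by
      rintro ⟨i, hi, hle⟩
      rcases Finset.mem_insert.mp hi with h | hi
      · rw [h] at hle
        exact hJP₀ hle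
      · obtain ⟨z, hz, hzi⟩ := Finset.mem_image.mp hi
        rw [← hzi] at hle
        exact hJQ z hz hle
    have hns := hav.mpr hnot
    obtain ⟨g₀, hg₀J, hg₀⟩ := Set.not_subset.mp hns
    refine ⟨g₀, hg₀J, ?_, ?_⟩
    · intro h
      exact hg₀ (Set.mem_iUnion₂.mpr ⟨P₀, Finset.mem_coe.mpr (Finset.mem_insert_self _ _), h⟩)
    · intro z hz h
      exact hg₀ (Set.mem_iUnion₂.mpr ⟨Q z, Finset.mem_coe.mpr
        (Finset.mem_insert_of_mem (Finset.mem_image_of_mem _ hz)), h⟩)
  -- a coefficient outside `p`
  obtain ⟨i₀, hi₀⟩ : ∃ i₀, B.repr g₀ i₀ ∉ p.asIdeal := by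
    by_contra hall
    push Not at hall
    exact hg₀P ((hP₀mem g₀).mpr hall)
  set r : R := B.repr g₀ i₀ * ∏ z ∈ Z, σ z g₀ with hr
  have hrp : r ∉ p.asIdeal := by
    intro h
    rcases p.isPrime.mem_or_mem h with h1 | h2
    · exact hi₀ h1
    · obtain ⟨z, hz, hzp⟩ := (Ideal.IsPrime.prod_mem_iff (hp := p.isPrime)).mp h2
      exact hg₀Q z hz hzp
  refine ⟨r, hrp, ?_⟩
  let φ : R →ₐ[k] Localization.Away r := IsScalarTower.toAlgHom k R (Localization.Away r)
  let Φ : TensorProduct k R A →ₐ[k] TensorProduct k (Localization.Away r) A :=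
    Algebra.TensorProduct.map φ (AlgHom.id k A)
  let BS := Algebra.TensorProduct.basis (Localization.Away r) e
  have hrunit : IsUnit (algebraMap R (Localization.Away r) r) :=
    IsLocalization.Away.algebraMap_isUnit r
  have hcoef : IsUnit (BS.repr (Φ g₀) i₀) := by
    rw [Groth.Agent.Helper7.UnitCoef.basis_repr_map e φ g₀ i₀]
    show IsUnit (algebraMap R (Localization.Away r) (B.repr g₀ i₀))
    exact isUnit_of_dvd_unit (map_dvd (algebraMap R (Localization.Away r))
      (Dvd.intro _ hr.symm)) hrunit
  let u : TensorProduct k (Localization.Away r) A →ₗ[Localization.Away r]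
      TensorProduct k (Localization.Away r) A := LinearMap.mulLeft (Localization.Away r) (Φ g₀)
  have hD : ∀ (J' : Ideal (Localization.Away r)) (t : TensorProduct k (Localization.Away r) A),
      u t ∈ J' • (⊤ : Submodule (Localization.Away r) (TensorProduct k (Localization.Away r) A)) →
        t ∈ J' • (⊤ : Submodule (Localization.Away r) (TensorProduct k (Localization.Away r) A)) :=
    fun J' t ht => Groth.Agent.Helper7.UnitCoef.main_tensor A (Localization.Away r) e (Φ g₀) i₀
      hcoef J' t ht
  refine ⟨Φ g₀, ?_, ?_, ?_, ?_⟩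
  · -- nonzerodivisor
    have hinj : Function.Injective u := Groth.Agent.Helper7.InjFib.injective_of_forall_mem u hD
    refine mem_nonZeroDivisors_iff_right.mpr (fun x hx => ?_)
    apply hinj
    show Φ g₀ * x = Φ g₀ * 0
    rw [mul_zero, mul_comm]
    exact hx
  · -- flatness
    haveI hfl : Module.Flat (Localization.Away r)
        (TensorProduct k (Localization.Away r) A ⧸ LinearMap.range u) :=
      Groth.Agent.Helper7.InjFib.flat_quotient_range_of_forall_mem u hD
    have hrange : LinearMap.range u =
        (Ideal.span {Φ g₀} : Ideal (TensorProduct k (Localization.Away r) A)).restrictScalars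
          (Localization.Away r) := by
      ext t
      rw [LinearMap.mem_range, Submodule.restrictScalars_mem, Ideal.mem_span_singleton']
      constructor
      · rintro ⟨y, rfl⟩
        exact ⟨y, mul_comm _ _⟩
      · rintro ⟨a, rfl⟩
        exact ⟨a, mul_comm _ _⟩
    let eq1 := Submodule.quotEquivOfEq _ _ hrange
    let eq2 := Submodule.Quotient.restrictScalarsEquiv (Localization.Away r)
      (Ideal.span {Φ g₀} : Ideal (TensorProduct k (Localization.Away r) A))
    exact Module.Flat.of_linearEquiv (eq1.trans eq2).symm
  · -- units at the points of `Z`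
    intro z hz
    have hnat : (Algebra.TensorProduct.lift (AlgHom.id k (Localization.Away r))
        ((Algebra.ofId k (Localization.Away r)).comp z) (fun _ _ => Commute.all _ _)).comp Φ =
          φ.comp (σ z) := by
      apply Algebra.TensorProduct.ext'
      intro a b
      simp [Φ, σ, φ]
      rw [← IsScalarTower.algebraMap_apply k R (Localization.Away r)]
    have h1 : (Algebra.TensorProduct.lift (AlgHom.id k (Localization.Away r))
        ((Algebra.ofId k (Localization.Away r)).comp z) (fun _ _ => Commute.all _ _)) (Φ g₀) =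
          algebraMap R (Localization.Away r) (σ z g₀) := DFunLike.congr_fun hnat g₀
    rw [h1]
    refine isUnit_of_dvd_unit (map_dvd (algebraMap R (Localization.Away r)) ?_) hrunit
    rw [hr]
    exact (Finset.dvd_prod_of_mem (fun z => σ z g₀) hz).mul_left _
  · -- the basic open set lands in `U`
    intro P hfP
    exact hUJ _ g₀ hg₀J hfP

end Groth.Agent.S19308
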