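import Groth.Statements.S19309
import Groth.Agent.Lib.Helper6.LaurentExt

set_option autoImplicit false
universe u
open PowerSeries LaurentSeries
open CAlg

namespace Groth.Agent.S19309

/-- Let k be a field, R a commutative k-algebra, B a finitely presented R⟦X⟧-algebra (an affine scheme V
= Spec B of finite presentation over the disc D_R = Spec R⟦X⟧) and s : B → R((X)) an R⟦X⟧-algebra
map (a section of V over the punctured disc). Then there is an ideal I of R such that for every ring
map φ : R → R', writing θ : R((X)) → R'((X)) for the ring map compatible with R⟦X⟧ → R'⟦X⟧, the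
section s extends to a section over D_{R'} — an R⟦X⟧-algebra map s' : B → R'⟦X⟧ whose composite with
R'⟦X⟧ → R'((X)) is θ ∘ s — if and only if φ kills I. In other words the sub-presheaf of Spec R where
s extends over the disc is the closed subscheme defined by I. -/
theorem result
    (k : Type u) [Field k] (R : Type u) [CommRing R] [Algebra k R]
    (B : Type u) [CommRing B] [Algebra R⟦X⟧ B] [Algebra.FinitePresentation R⟦X⟧ B]
    (s : B →ₐ[R⟦X⟧] R⸨X⸩) :
    ∃ I : Ideal R, ∀ (R' : Type u) [CommRing R'] (φ : R →+* R') (θ : R⸨X⸩ →+* R'⸨X⸩),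
      θ.comp (algebraMap R⟦X⟧ R⸨X⸩) = (algebraMap R'⟦X⟧ R'⸨X⸩).comp (PowerSeries.map φ) →
      ((∃ s' : B →+* R'⟦X⟧, s'.comp (algebraMap R⟦X⟧ B) = PowerSeries.map φ ∧
          (algebraMap R'⟦X⟧ R'⸨X⸩).comp s' = θ.comp s.toRingHom) ↔ I ≤ RingHom.ker φ) := by
  refine ⟨Ideal.span {c | ∃ (b : B) (n : ℤ), n < 0 ∧ c = (s b).coeff n}, ?_⟩
  intro R' _ φ θ hθ
  have hinj : Function.Injective (algebraMap R'⟦X⟧ R'⸨X⸩) := HahnSeries.ofPowerSeries_injective
  constructor
  · rintro ⟨s', hs1, hs2⟩
    rw [Ideal.span_le]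
    rintro c ⟨b, n, hn, rfl⟩
    rw [SetLike.mem_coe, RingHom.mem_ker,
      ← Groth.Agent.Lib.Helper6.LaurentExt.theta_coeff φ θ hθ (s b) n]
    have h1 : θ (s b) = ((s' b : R'⟦X⟧) : R'⸨X⸩) := by
      have := congrArg (fun g => g b) hs2
      exact this.symm
    rw [h1, PowerSeries.coeff_coe, if_pos hn]
  · intro hI
    have hrange : ∀ b : B, ∃ f : R'⟦X⟧, (f : R'⸨X⸩) = θ (s b) := by
      intro b
      apply Groth.Agent.Lib.Helper6.LaurentExt.mem_range_coe
      intro n hn
      rw [Groth.Agent.Lib.Helper6.LaurentExt.theta_coeff φ θ hθ (s b) n]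
      have : (s b).coeff n ∈ RingHom.ker φ := hI (Ideal.subset_span ⟨b, n, hn, rfl⟩)
      exact this
    choose g hg using hrange
    have hg' : ∀ b, algebraMap R'⟦X⟧ R'⸨X⸩ (g b) = θ (s b) := hg
    let s' : B →+* R'⟦X⟧ :=
      { toFun := g
        map_one' := hinj (by rw [hg', map_one, map_one, map_one])
        map_mul' := fun a b => hinj (by rw [hg', map_mul, map_mul, map_mul, hg', hg'])
        map_zero' := hinj (by rw [hg', map_zero, map_zero, map_zero])
        map_add' := fun a b => hinj (by rw [hg', map_add, map_add, map_add, hg', hg']) }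
    refine ⟨s', ?_, ?_⟩
    · ext1 f
      apply hinj
      show algebraMap R'⟦X⟧ R'⸨X⸩ (g (algebraMap R⟦X⟧ B f)) = _
      rw [hg', s.commutes]
      exact congrArg (fun h => h f) hθ
    · ext1 b
      exact hg' b

end Groth.Agent.S19309
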