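import Groth.Statements.S19315
import Groth.Agent.Lib.Helper2.DecSh.Single
import Groth.Agent.Lib.Helper2.DecSh.MultSub
import Groth.Agent.Lib.Helper2.DecSh.Par
import Groth.Agent.Lib.Helper4.LimTopInj
import Groth.Agent.Lib.Helper5.Stalk.FlatFree
import Groth.Agent.Lib.Helper5.Perf.LocalCoh
import Groth.Agent.Lib.Helper7.SmoothBC.GeomRed


set_option autoImplicit false
universe u
open CategoryTheory CategoryTheory.Limits AlgebraicGeometry
open DecSh

namespace Groth.Agent.S19315

/-- Let k be an algebraically closed field of characteristic zero, Y a smooth proper k-scheme of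
dimension one without isolated points (possibly disconnected), L an ample invertible O_Y-module, χ
the Euler characteristic over k and α(M) = χ(M ⊗ L) − χ(M) the multiplicity. Let E be a locally free
O_Y-module of rank r with a generalized parabolic structure: finitely many effective Cartier ideal
sheaves I_1, …, I_ν (the divisors D_i) and, for each i, a k-subspace K_i of H⁰(E ⊗ O_{D_i}) whose
quotient has dimension r (K_i is the kernel of the parabolic quotient q_i). Fix rational weights κ_i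
with 0 < κ_i < 1, δ > 0, and a tensor field T of type (a, b) on E with values in a module D such
that (E, K, T) is (κ, δ)-semistable with respect to L. Then every nonzero proper coherent subsheaf F
⊂ E satisfies χ(F)/α(F) ≤ χ(E)/α(E) + (a·δ + r·ν). (The source states the bound for the slopes deg/α
with deg as the constant term of the Hilbert polynomial corrected by the rank; these differ from χ/α
by the same constant on both sides. The published target of the tensor field is det(E)^{⊗c} ⊗ L' and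
the D_i are the pairs of points over the nodes; the bound uses neither.) -/
theorem result
    (k : Type u) [Field k] [IsAlgClosed k] [CharZero k]
    (Y : Scheme.{u}) [Y.Over (Spec (CommRingCat.of k))] [IsProper (Y ↘ Spec (CommRingCat.of k))]
    [Smooth (Y ↘ Spec (CommRingCat.of k))] (hdim : topologicalKrullDim Y = 1)
    (hpure : ∀ y : Y, ¬ IsOpen ({y} : Set Y))
    (L : Y.Modules) (hL : CohB1.IsAmple L)
    (E : Y.Modules) (r : ℕ) (hE : FlatMod.IsFinLocFreeOfRank r E)
    {ν : ℕ} (I : Fin ν → Y.IdealSheafData) (hI : ∀ i, FGA.IsEffCartier (I i))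
    (K : ∀ i, Submodule k (ParSh.fibD Y (I i) E))
    (hK : ∀ i, Module.finrank k (ParSh.fibD Y (I i) E ⧸ K i) = r)
    (κ : Fin ν → ℚ) (hκ : ∀ i, 0 < κ i ∧ κ i < 1)
    {D : Y.Modules} {a b : ℕ} (T : DecSh.TF E a b D)
    (δ : ℚ) (hδ : 0 < δ) (hT : T.IsParSemistable k I K κ L δ)
    (F : Y.Modules) (ι : F ⟶ E) [Mono ι] (hF : Coh.IsCoh F) (hF0 : ¬ IsZero F) (hι : ¬ IsIso ι) :
    (Curv2.euler k Y F : ℚ) / (DecSh.mult k Y L F : ℚ) ≤
      (Curv2.euler k Y E : ℚ) / (DecSh.mult k Y L E : ℚ) + ((a : ℚ) * δ + (r : ℚ) * (ν : ℚ)) := by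
  haveI : AlgebraicGeometry.IsReduced Y :=
    Groth.Agent.Helper7.SmoothBC.isReduced_of_smooth_over_field k (Y ↘ Spec (CommRingCat.of k))
  haveI : IsNoetherian Y := Groth.Agent.Helper1.Euler.isNoetherian_of_proper k Y
  have hflf : FlatMod.IsFinLocFree E := fun x => by
    obtain ⟨U, hx, e⟩ := hE x
    exact ⟨U, r, hx, e⟩
  have hEc : Coh.IsCoh E := Groth.Agent.Lib.Helper5.LocalCoh.isCoh_of_isFinLocFree E hflf
  have htf : TorSh.IsTorsionFree E := fun x => by
    haveI : Module.Flat (Y.presheaf.stalk x) (E.presheaf.stalk x) :=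
      Groth.Agent.Lib.Helper5.StalkAdj.flatMod_of_isFinLocFree E hflf x
    infer_instance
  have hdimE : topologicalKrullDim (CohB1.support E) ≤ (1 : ℕ) :=
    Groth.Agent.Helper2.DecShMult.dim_le_of_dim Y E (by rw [hdim]; rfl)
  have hα : 0 ≤ DecSh.mult k Y L E := Groth.Agent.Helper2.DecShMult.mult_nonneg k Y hL hEc hdimE
  have hP : Subobject.mk ι ≠ ⊤ := fun h => hι ((Subobject.isIso_iff_mk_eq_top ι).2 h)
  have e : ((Subobject.mk ι : Subobject E) : Y.Modules) ≅ F := Subobject.underlyingIso ι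
  have hP0 : ¬ IsZero ((Subobject.mk ι : Subobject E) : Y.Modules) := fun h => hF0 (h.of_iso e.symm)
  have hok : Coh.IsCoh ((Subobject.mk ι : Subobject E) : Y.Modules) :=
    Groth.Agent.Lib.Helper4.LimTopInj.isCoh_of_iso e.symm hF
  have h := Groth.Agent.Helper2.DecShSingle.ineq_of_isDeltaSS
    (fun P : Subobject E => Coh.IsCoh (P : Y.Modules)) (DecSh.mult k Y L E)
    (fun P => DecSh.mult k Y L (P : Y.Modules)) (DecSh.parChi k I K κ (𝟙 E))
    (fun P => DecSh.parChi k I K κ P.arrow) T.nv δ hδ.le hT hα (Subobject.mk ι) hP hP0 hok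
  beta_reduce at h
  have hb1 := Groth.Agent.Helper2.DecShPar.parChi_bounds k hEc I K r hK κ hκ (Subobject.mk ι).arrow
  have hb2 := Groth.Agent.Helper2.DecShPar.parChi_bounds k hEc I K r hK κ hκ (𝟙 E)
  have hle : DecSh.mult k Y L ((Subobject.mk ι : Subobject E) : Y.Modules) ≤ DecSh.mult k Y L E :=
    Groth.Agent.Helper2.DecShMult.mult_subobject_le k Y hdim hL hEc _ hok
  have hpos : 1 ≤ DecSh.mult k Y L ((Subobject.mk ι : Subobject E) : Y.Modules) :=
    Groth.Agent.Helper2.DecShMult.mult_subobject_pos k Y hdim hpure hL htf _ hok hP0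
  rw [Groth.Agent.Helper2.DecShMult.mult_iso k Y L e] at h hle hpos
  rw [Groth.Agent.Helper1.Euler.euler_iso k Y e] at hb1
  have hpos' : (1 : ℚ) ≤ (DecSh.mult k Y L F : ℚ) := by exact_mod_cast hpos
  have hle' : (DecSh.mult k Y L F : ℚ) ≤ (DecSh.mult k Y L E : ℚ) := by exact_mod_cast hle
  generalize (Curv2.euler k Y F : ℚ) = x at *
  generalize (Curv2.euler k Y E : ℚ) = y at *
  generalize (DecSh.mult k Y L F : ℚ) = p at *
  generalize (DecSh.mult k Y L E : ℚ) = q at *
  generalize DecSh.parChi k I K κ (Subobject.mk ι).arrow = s1 at *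
  generalize DecSh.parChi k I K κ (𝟙 E) = s2 at *
  have hp1 : (1 : ℚ) ≤ p := hpos'
  have hpq : p ≤ q := hle'
  have ha : (0 : ℚ) ≤ (a : ℚ) := Nat.cast_nonneg a
  have hr : (0 : ℚ) ≤ (r : ℚ) := Nat.cast_nonneg r
  have hν : (0 : ℚ) ≤ (ν : ℚ) := Nat.cast_nonneg ν
  have hp0 : (0 : ℚ) < p := by linarith
  have hq0 : (0 : ℚ) < q := by linarith
  rw [div_add' _ _ _ hq0.ne', div_le_div_iff₀ hp0 hq0]
  have h1 : q * x - p * y ≤ δ * (a : ℚ) * (q - p) + q * ((ν : ℚ) * (r : ℚ)) := by
    nlinarith [hb1.1, hb1.2, hb2.1, hb2.2]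
  have h2 : δ * (a : ℚ) * (q - p) ≤ (a : ℚ) * δ * (p * q) := by
    have : q - p ≤ p * q := by nlinarith
    have hda : 0 ≤ δ * (a : ℚ) := mul_nonneg hδ.le ha
    nlinarith
  have h3 : q * ((ν : ℚ) * (r : ℚ)) ≤ (r : ℚ) * (ν : ℚ) * (p * q) := by
    have : q ≤ p * q := by nlinarith
    have hrν : 0 ≤ (ν : ℚ) * (r : ℚ) := mul_nonneg hν hr
    nlinarith
  nlinarith

end Groth.Agent.S19315
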