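import Groth.Statements.S19323
-- import your own Groth.Agent.* helpers here

set_option autoImplicit false
universe v u
open CategoryTheory CategoryTheory.Limits
open SpSeq

namespace Groth.Agent.S19323

section helpers

variable {C : Type u} [Category.{v} C] [Abelian C]

lemma mono_homologyMap {ι : Type*} {c : ComplexShape ι} {K L : HomologicalComplex C c}
    (f : K ⟶ L) (i : ι)
    (hK : K.d (c.prev i) i = 0) (hL : L.d (c.prev i) i = 0) (hf : Mono (f.f i)) :
    Mono (HomologicalComplex.homologyMap f i) := by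
  have h1 : IsIso (K.homologyπ i) := K.isIso_homologyπ _ i rfl hK
  have h2 : IsIso (L.homologyπ i) := L.isIso_homologyπ _ i rfl hL
  have h3 : Mono (HomologicalComplex.cyclesMap f i) := by
    have : Mono (HomologicalComplex.cyclesMap f i ≫ L.iCycles i) := by
      rw [HomologicalComplex.cyclesMap_i]; infer_instance
    exact mono_of_mono _ (L.iCycles i)
  have : HomologicalComplex.homologyMap f i =
      inv (K.homologyπ i) ≫ HomologicalComplex.cyclesMap f i ≫ L.homologyπ i := by
    rw [IsIso.eq_inv_comp, HomologicalComplex.homologyπ_naturality]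
  rw [this]; infer_instance

lemma isZero_homology_of_isZero {ι : Type*} {c : ComplexShape ι} (K : HomologicalComplex C c)
    (i : ι) (h : IsZero (K.X i)) : IsZero (K.homology i) := by
  have h1 : IsZero (K.cycles i) := IsZero.of_mono (K.iCycles i) h
  exact IsZero.of_epi (K.homologyπ i) h1

lemma d_eq_zero_of {a : ℤ × ℤ} (K : HomologicalComplex C (ComplexShape.up' a))
    (h : ∀ x, K.d x (x + a) = 0) (x y : ℤ × ℤ) : K.d x y = 0 := by
  by_cases hxy : (ComplexShape.up' a).Rel x y
  · have : x + a = y := hxy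
    subst this
    exact h x
  · exact K.shape _ _ hxy

end helpers

/-- In an abelian category let E and E' be first-quadrant E₂ cohomological spectral sequences and φ : E
⟶ E' a morphism of spectral sequences such that (i) every differential of E' leaving a position
whose first coordinate is nonzero vanishes, (ii) on every page the map φ at each position followed
by the outgoing differential of E' is zero, and (iii) φ is a monomorphism at every position of page
2. Then E degenerates at page 2. -/
theorem result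
    {C : Type u} [Category.{v} C] [Abelian C]
    (E E' : E₂CohomologicalSpectralSequence C) (φ : E ⟶ E')
    (hE : ∀ pq : ℤ × ℤ, pq.1 < 0 ∨ pq.2 < 0 → IsZero ((E.page 2 le_rfl).X pq))
    (hE' : ∀ pq : ℤ × ℤ, pq.1 < 0 ∨ pq.2 < 0 → IsZero ((E'.page 2 le_rfl).X pq))
    (hd' : ∀ (r : ℤ) (hr : 2 ≤ r) (pq : ℤ × ℤ), pq.1 ≠ 0 →
      (E'.page r hr).d pq (pq + (r, 1 - r)) = 0)
    (hφd : ∀ (r : ℤ) (hr : 2 ≤ r) (pq : ℤ × ℤ),
      (φ.hom r hr).f pq ≫ (E'.page r hr).d pq (pq + (r, 1 - r)) = 0)
    (hmono : ∀ pq : ℤ × ℤ, Mono ((φ.hom 2 le_rfl).f pq)) :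
    SpSeq.Degenerates E 2 := by
  -- the inductive property
  have key : ∀ (r : ℤ) (hr : 2 ≤ r),
      (∀ pq : ℤ × ℤ, pq.1 < 0 ∨ pq.2 < 0 → IsZero ((E.page r hr).X pq)) ∧
      (∀ pq : ℤ × ℤ, r ≤ pq.1 → Mono ((φ.hom r hr).f pq)) ∧
      (∀ pq pq' : ℤ × ℤ, (E.page r hr).d pq pq' = 0) := by
    -- vanishing of the differentials from the first two properties
    have dz : ∀ (r : ℤ) (hr : 2 ≤ r),
        (∀ pq : ℤ × ℤ, pq.1 < 0 ∨ pq.2 < 0 → IsZero ((E.page r hr).X pq)) →
        (∀ pq : ℤ × ℤ, r ≤ pq.1 → Mono ((φ.hom r hr).f pq)) →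
        (∀ pq pq' : ℤ × ℤ, (E.page r hr).d pq pq' = 0) := by
      intro r hr hz hm
      apply d_eq_zero_of
      intro x
      by_cases hx : x.1 < 0
      · exact (hz x (Or.inl hx)).eq_of_src _ _
      · have hmx : Mono ((φ.hom r hr).f (x + (r, 1 - r))) := by
          apply hm
          simp only [Prod.fst_add]
          lia
        rw [← cancel_mono ((φ.hom r hr).f (x + (r, 1 - r)))]
        rw [zero_comp, ← (φ.hom r hr).comm, hφd]
    intro r hr
    induction r, hr using Int.leInduction with
    | base =>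
      have hm : ∀ pq : ℤ × ℤ, 2 ≤ pq.1 → Mono ((φ.hom 2 le_rfl).f pq) := fun pq _ => hmono pq
      exact ⟨hE, hm, dz 2 le_rfl hE hm⟩
    | succ r hr ih =>
      obtain ⟨hz, hm, hd⟩ := ih
      have hz' : ∀ pq : ℤ × ℤ, pq.1 < 0 ∨ pq.2 < 0 →
          IsZero ((E.page (r + 1) (by lia)).X pq) := by
        intro pq hpq
        exact (isZero_homology_of_isZero _ pq (hz pq hpq)).of_iso (E.iso r (r + 1) pq rfl hr).symm
      have hm' : ∀ pq : ℤ × ℤ, r + 1 ≤ pq.1 → Mono ((φ.hom (r + 1) (by lia)).f pq) := by
        intro pq hpq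
        have hL : (E'.page r hr).d ((ComplexShape.up' ((r, 1 - r) : ℤ × ℤ)).prev pq) pq = 0 := by
          by_cases hrel : (ComplexShape.up' ((r, 1 - r) : ℤ × ℤ)).Rel
              ((ComplexShape.up' ((r, 1 - r) : ℤ × ℤ)).prev pq) pq
          · have h1 : (ComplexShape.up' ((r, 1 - r) : ℤ × ℤ)).prev pq + (r, 1 - r) = pq := hrel
            have h2 : ((ComplexShape.up' ((r, 1 - r) : ℤ × ℤ)).prev pq).1 ≠ 0 := by
              have := congrArg Prod.fst h1
              simp only [Prod.fst_add] at this
              lia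
            have h3 := hd' r hr _ h2
            rwa [h1] at h3
          · exact (E'.page r hr).shape _ _ hrel
        have hmh := mono_homologyMap (φ.hom r hr) pq (hd _ _) hL (hm pq (by lia))
        have hc := φ.comm r (r + 1) pq rfl hr
        have : (φ.hom (r + 1) (by lia)).f pq =
            (E.iso r (r + 1) pq rfl hr).inv ≫
              HomologicalComplex.homologyMap (φ.hom r hr) pq ≫ (E'.iso r (r + 1) pq rfl hr).hom := by
          rw [hc, Iso.inv_hom_id_assoc]
        rw [this]
        infer_instance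
      exact ⟨hz', hm', dz _ _ hz' hm'⟩
  exact ⟨le_rfl, fun r' h₀ _ pq pq' => (key r' h₀).2.2 pq pq'⟩

end Groth.Agent.S19323
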