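import Groth.Statements.S19326
import Mathlib
import Groth.Agent.Lib.Helper9.GroupLikeBasis

set_option autoImplicit false
universe u
open TensorProduct
open GLin

namespace Groth.Agent.S19326

/-- Let k be a field, M a finite abelian group and D = Spec k[M] the finite diagonalizable group scheme
it defines, acting on an affine k-scheme U = Spec R through a multiplicative coaction R → R ⊗ k[M];
write R_a for the weight space of a ∈ M (elements with coaction f ⊗ a). For an ideal J of R the
induced action of D on the closed subscheme V(J) is trivial, meaning that the coaction followed by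
reduction modulo J equals f ↦ (f mod J) ⊗ 1, exactly when J contains the ideal generated by the
weight spaces R_a for a ≠ 0; in other words that ideal defines the largest closed subscheme of U on
which D acts trivially. (The printed setting has U smooth, which plays no role here and is not
assumed; the further assertion that the construction commutes with flat base change on U/D is not
part of this statement.) -/
theorem result
    {k : Type u} [Field k] {M : Type u} [AddCommGroup M] [Finite M]
    {R : Type u} [CommRing R] [Algebra k R] [HopfRep.Comod k (AddMonoidAlgebra k M) R]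
    [GLin.IsCoactAlg k (AddMonoidAlgebra k M) R] (J : Ideal R) :
    (∀ f : R, LinearMap.rTensor (AddMonoidAlgebra k M) (Ideal.Quotient.mkₐ k J).toLinearMap
        (HopfRep.Comod.coact (k := k) (A := AddMonoidAlgebra k M) f) =
        (Ideal.Quotient.mk J f) ⊗ₜ[k] (1 : AddMonoidAlgebra k M)) ↔
      Ideal.span (⋃ (a : M) (_ : a ≠ 0),
        (HopfRep.eigenspace k (AddMonoidAlgebra k M) R (AddMonoidAlgebra.single a 1) : Set R)) ≤ J := by
  classical
  let b := AddMonoidAlgebra.basis M k
  have hb : ∀ m, b m = AddMonoidAlgebra.single m 1 := fun m => AddMonoidAlgebra.basis_apply k m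
  have hgl : ∀ m, IsGroupLikeElem k (b m) := by
    intro m
    rw [hb]; exact AddMonoidAlgebra.isGroupLikeElem_single_one m
  have hone : (1 : AddMonoidAlgebra k M) = b 0 := by rw [hb]; rfl
  constructor
  · intro h
    rw [Ideal.span_le]
    intro f hf
    simp only [Set.mem_iUnion] at hf
    obtain ⟨a, ha, hfa⟩ := hf
    have hco : HopfRep.Comod.coact (k := k) (A := AddMonoidAlgebra k M) f =
        f ⊗ₜ[k] (AddMonoidAlgebra.single a 1) := hfa
    have h1 := h f
    rw [hco, LinearMap.rTensor_tmul, ← hb, hone] at h1
    have h2 := congrArg (fun y => TensorProduct.equivFinsuppOfBasisRight b y a) h1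
    simp only [TensorProduct.equivFinsuppOfBasisRight_apply_tmul_apply, Module.Basis.repr_self,
      Finsupp.single_apply] at h2
    rw [if_pos trivial, if_neg (Ne.symm ha), one_smul, zero_smul] at h2
    exact Ideal.Quotient.eq_zero_iff_mem.mp h2
  · intro h f
    have hmem : ∀ i, i ≠ 0 → Groth.Agent.Helper9.wcomp b f i ∈ J := by
      intro i hi
      apply h
      apply Ideal.subset_span
      simp only [Set.mem_iUnion]
      refine ⟨i, hi, ?_⟩
      show HopfRep.Comod.coact (k := k) (A := AddMonoidAlgebra k M)
        (Groth.Agent.Helper9.wcomp b f i) = _ ⊗ₜ[k] (AddMonoidAlgebra.single i 1)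
      rw [← hb]
      exact Groth.Agent.Helper9.coact_wcomp b hgl f i
    have hsum := Groth.Agent.Helper9.sum_wcomp b hgl f
    rw [Groth.Agent.Helper9.coact_eq_sum b f, Finsupp.sum, map_sum]
    simp only [LinearMap.rTensor_tmul]
    have h0 : ∀ i ∈ (Groth.Agent.Helper9.wcomp b f).support,
        (Ideal.Quotient.mkₐ k J).toLinearMap (Groth.Agent.Helper9.wcomp b f i) ⊗ₜ[k] b i =
          (Ideal.Quotient.mkₐ k J).toLinearMap (Groth.Agent.Helper9.wcomp b f i) ⊗ₜ[k] b 0 := by
      intro i _
      by_cases hi : i = 0
      · rw [hi]
      · have : (Ideal.Quotient.mkₐ k J).toLinearMap (Groth.Agent.Helper9.wcomp b f i) = 0 :=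
          Ideal.Quotient.eq_zero_iff_mem.mpr (hmem i hi)
        rw [this, TensorProduct.zero_tmul, TensorProduct.zero_tmul]
    rw [Finset.sum_congr rfl h0, ← TensorProduct.sum_tmul, ← map_sum, ← hone]
    congr 1
    conv_rhs => rw [← hsum]
    rfl

end Groth.Agent.S19326
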