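import Groth.Statements.S19328
import Groth.Agent.Lib.Helper6.FppfLocal

set_option autoImplicit false
universe u
open CategoryTheory CategoryTheory.Limits AlgebraicGeometry
open ModPair

namespace Groth.Agent.S19328

/-- Let A be a commutative ring such that Spec A is local for fppf coverings, in the sense that for
every scheme X, every jointly surjective family of morphisms to X each of which is flat and of
finite presentation (locally of finite presentation, quasi-compact and quasi-separated), and every
morphism Spec A ⟶ X, the morphism factors through a member of the family. Then the residue field of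
A at every prime ideal is algebraically closed. -/
theorem result (A : Type u) [CommRing A]
    (hloc : ∀ (X : Scheme.{u}) (R : Presieve X),
      R ∈ Scheme.precoverage (@Flat ⊓ @LocallyOfFinitePresentation ⊓ @QuasiCompact ⊓ @QuasiSeparated) X →
      ∀ g : Spec (CommRingCat.of A) ⟶ X,
        ∃ (Y : Scheme.{u}) (v : Y ⟶ X) (h : Spec (CommRingCat.of A) ⟶ Y), R v ∧ h ≫ v = g)
    (p : Ideal A) [p.IsPrime] : IsAlgClosed p.ResidueField := by
  apply IsAlgClosed.of_exists_root
  intro f hf hirr
  obtain ⟨F, b, hFm, hFd, hb, hFmap⟩ := Groth.Agent.Lib.Helper6.FppfLocal.exists_monic_lift p f hf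
  have hdegf : f.natDegree ≠ 0 := fun h0 =>
    hirr.not_isUnit (by
      rw [Polynomial.eq_C_of_natDegree_eq_zero h0] at hf ⊢
      have : f.coeff 0 = 1 := by simpa [Polynomial.Monic, Polynomial.leadingCoeff_C] using hf
      rw [this]; exact isUnit_one)
  have hdegF : F.degree ≠ 0 := by
    intro h0
    have := Polynomial.natDegree_eq_of_degree_eq_some h0
    rw [hFd] at this
    exact hdegf this
  obtain ⟨a, ha⟩ := Groth.Agent.Lib.Helper6.FppfLocal.exists_root_of_local A hloc F hFm hdegF
  have h1 : Polynomial.eval (algebraMap A p.ResidueField a)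
      (f.scaleRoots (algebraMap A p.ResidueField b)) = 0 := by
    rw [← hFmap, Polynomial.eval_map, Polynomial.eval₂_at_apply, ha, map_zero]
  refine ⟨(algebraMap A p.ResidueField b)⁻¹ * algebraMap A p.ResidueField a, ?_⟩
  have h2 := Polynomial.scaleRoots_eval_mul f
    ((algebraMap A p.ResidueField b)⁻¹ * algebraMap A p.ResidueField a) (algebraMap A p.ResidueField b)
  rw [← mul_assoc, mul_inv_cancel₀ hb, one_mul, h1] at h2
  have h3 := mul_eq_zero.mp h2.symm
  rcases h3 with h3 | h3
  · exact absurd (pow_eq_zero_iff (M₀ := p.ResidueField) hdegf |>.mp h3) hb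
  · exact h3

end Groth.Agent.S19328
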