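import Groth.Statements.S19333
import Mathlib

set_option autoImplicit false
universe u
open ModPair

namespace Groth.Agent.S19333

/-- Let A → B be any homomorphism of commutative rings. An element x of B is integral over A if and only
if for every field K, every valuation subring R of K and every ring homomorphism φ : B → K which
sends the image of A into R, the element φ(x) lies in R. In other words the integral closure of A in
B is the intersection of the subrings R ×_K B taken over all commutative squares A → R ⊆ K ← B with
R a valuation ring of the field K. -/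
theorem result {A B : Type u} [CommRing A]
    [CommRing B] [Algebra A B] (x : B) :
    x ∈ integralClosure A B ↔
      ∀ (K : Type u) [Field K] (R : ValuationSubring K) (φ : B →+* K),
        (∀ a : A, φ (algebraMap A B a) ∈ R) → φ x ∈ R := by
  constructor
  · intro hx K _ R φ hφ
    let f : A →+* R := (φ.comp (algebraMap A B)).codRestrict R.toSubring hφ
    have hint : IsIntegral R (φ x) := by
      refine IsIntegral.map_of_comp_eq f φ ?_ hx
      ext a; rfl
    obtain ⟨r, hr⟩ := IsIntegrallyClosed.isIntegral_iff.mp hint
    rw [← hr]; exact r.2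
  · intro H
    by_contra hx
    have hxI : ¬ IsIntegral A x := hx
    have : Nontrivial A := by
      by_contra hA
      rw [not_nontrivial_iff_subsingleton] at hA
      apply hxI
      have : Subsingleton B := by
        refine subsingleton_of_zero_eq_one ?_
        have := congrArg (algebraMap A B) (Subsingleton.elim (0:A) 1)
        simpa using this
      rw [Subsingleton.elim x 0]; exact isIntegral_zero
    let Bx := Localization.Away x
    let y : Bx := IsLocalization.Away.invSelf x
    have hy : y * algebraMap B Bx x = 1 := by
      rw [mul_comm]; exact IsLocalization.Away.mul_invSelf x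
    let _ : Invertible y := ⟨algebraMap B Bx x, by rw [mul_comm]; exact hy, hy⟩
    let A' : Subalgebra A Bx := Algebra.adjoin A {y}
    let y' : A' := ⟨y, Algebra.subset_adjoin rfl⟩
    have hne : Ideal.span {y'} ≠ ⊤ := by
      intro eq
      obtain ⟨p, hp, hpx⟩ := Algebra.exists_aeval_invOf_eq_zero_of_idealMap_adjoin_sup_span_eq_top y
        (⊥ : Ideal A) bot_ne_top (top_unique <| eq.ge.trans le_sup_right)
      have hmonic : p.Monic := by
        have := Ideal.mem_bot.mp hp
        exact sub_eq_zero.mp this
      have hpx' : Polynomial.aeval (algebraMap B Bx x) p = 0 := hpx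
      rw [Polynomial.aeval_algebraMap_apply] at hpx'
      obtain ⟨⟨_, k, rfl⟩, hk⟩ := (IsLocalization.map_eq_zero_iff (Submonoid.powers x) Bx _).mp hpx'
      apply hxI
      refine ⟨Polynomial.X ^ k * p, (Polynomial.monic_X_pow k).mul hmonic, ?_⟩
      rw [Polynomial.eval₂_mul, Polynomial.eval₂_pow, Polynomial.eval₂_X]
      exact hk
    obtain ⟨m, hm, hle⟩ := Ideal.exists_le_maximal _ hne
    obtain ⟨p, hp, hpm⟩ := Ideal.exists_minimalPrimes_le (I := ⊥) (J := m) bot_le
    obtain ⟨q, hq, hqp⟩ := Ideal.exists_comap_eq_of_mem_minimalPrimes_of_injective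
      (f := A'.val.toRingHom) Subtype.val_injective p hp
    let K := FractionRing (Bx ⧸ q)
    let ψ : Bx →+* K := (algebraMap (Bx ⧸ q) K).comp (Ideal.Quotient.mk q)
    let g : A' →+* K := ψ.comp A'.val.toRingHom
    let S : Subring K := g.range
    let I : Ideal S := m.map g.rangeRestrict
    have hI : I ≠ ⊤ := by
      intro h
      have h1 : (I.comap g.rangeRestrict) = ⊤ := by rw [h]; exact Ideal.comap_top
      rw [Ideal.comap_map_of_surjective _ g.rangeRestrict_surjective] at h1
      have h2 : Ideal.comap g.rangeRestrict ⊥ ≤ m := by
        intro a ha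
        apply hpm
        rw [← hqp]
        have hga : g a = 0 := by
          have := Ideal.mem_comap.mp ha
          simpa using congrArg Subtype.val (Ideal.mem_bot.mp this)
        have h3 : (Ideal.Quotient.mk q) (a : Bx) = 0 :=
          IsFractionRing.injective (Bx ⧸ q) K (by rw [map_zero]; exact hga)
        exact Ideal.mem_comap.mpr (Ideal.Quotient.eq_zero_iff_mem.mp h3)
      exact hm.ne_top (by rw [← h1]; exact (sup_eq_left.mpr h2).symm)
    obtain ⟨V, hSV, hIV⟩ := Ideal.image_subset_nonunits_valuationSubring I hI
    let φ : B →+* K := ψ.comp (algebraMap B Bx)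
    have h1 : ∀ a : A, φ (algebraMap A B a) ∈ V := by
      intro a
      apply hSV
      refine ⟨algebraMap A A' a, ?_⟩
      show ψ (algebraMap A Bx a) = ψ (algebraMap B Bx (algebraMap A B a))
      rw [IsScalarTower.algebraMap_apply A B Bx]
    have h2 := H K V φ h1
    have h3 : ψ y ∈ V.nonunits :=
      hIV ⟨g.rangeRestrict y', Ideal.mem_map_of_mem _ (hle (Ideal.subset_span rfl)), rfl⟩
    have h4 : φ x * ψ y = 1 := by
      show ψ (algebraMap B Bx x) * ψ y = 1
      rw [← map_mul, mul_comm, hy, map_one]
    have h5 : ψ y = (φ x)⁻¹ := eq_inv_of_mul_eq_one_right h4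
    rw [h5, ValuationSubring.inv_mem_nonunits_iff] at h3
    rcases h3 with h3 | h3
    · rw [h3, zero_mul] at h4; exact zero_ne_one h4
    · exact h3 h2

end Groth.Agent.S19333
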