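import Groth.Statements.S19338
import Mathlib

set_option autoImplicit false
universe w v u
open CategoryTheory
open ModPair

namespace Groth.Agent.S19338

/-- Let C be a category and S a class of morphisms which contains the identities, is closed under
composition, admits a right calculus of fractions, and consists of monomorphisms. Then the sieves
containing a morphism of S are the covering sieves of a Grothendieck topology on C, and for every
such topology J a presheaf of types F on C is a J-sheaf if and only if it is S-local, i.e. F sends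
every morphism of S to a bijection. -/
theorem result {C : Type u} [Category.{v} C]
    (S : MorphismProperty C) [S.HasRightCalculusOfFractions]
    (hmono : ∀ ⦃X Y : C⦄ (s : X ⟶ Y), S s → Mono s) :
    (∃ J : GrothendieckTopology C, ∀ (X : C) (T : Sieve X),
        T ∈ J X ↔ ∃ (Y : C) (s : Y ⟶ X), S s ∧ T s) ∧
      ∀ J : GrothendieckTopology C, (∀ (X : C) (T : Sieve X),
          T ∈ J X ↔ ∃ (Y : C) (s : Y ⟶ X), S s ∧ T s) →
        ∀ F : Cᵒᵖ ⥤ Type w,
          Presheaf.IsSheaf J F ↔ ∀ ⦃X Y : C⦄ (s : X ⟶ Y), S s → IsIso (F.map s.op) := by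
  have hid : ∀ X : C, S (𝟙 X) := fun X => S.id_mem X
  have hcomp : ∀ {X Y Z : C} (f : X ⟶ Y) (g : Y ⟶ Z), S f → S g → S (f ≫ g) :=
    fun f g hf hg => S.comp_mem f g hf hg
  have hfrac : ∀ {X Y Z : C} (f : Z ⟶ X) (s : Y ⟶ X), S s →
      ∃ (Z' : C) (s' : Z' ⟶ Z) (f' : Z' ⟶ Y), S s' ∧ s' ≫ f = f' ≫ s := by
    intro X Y Z f s hs
    obtain ⟨ψ, hψ⟩ := MorphismProperty.HasRightCalculusOfFractions.exists_rightFraction
      (W := S) ⟨f, s, hs⟩
    exact ⟨ψ.X', ψ.s, ψ.f, ψ.hs, hψ⟩
  refine ⟨⟨{ sieves := fun X => {T | ∃ (Y : C) (s : Y ⟶ X), S s ∧ T s}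
             top_mem' := ?_
             pullback_stable' := ?_
             transitive' := ?_ }, fun X T => Iff.rfl⟩, ?_⟩
  · intro X; exact ⟨X, 𝟙 X, hid X, trivial⟩
  · rintro X Z T f ⟨Y, s, hs, hTs⟩
    obtain ⟨Z', s', f', hs', e⟩ := hfrac f s hs
    refine ⟨Z', s', hs', ?_⟩
    show T (s' ≫ f)
    rw [e]; exact T.downward_closed hTs f'
  · rintro X T ⟨Y, s, hs, hTs⟩ R hR
    obtain ⟨Y', t, ht, hRt⟩ := hR hTs
    exact ⟨Y', t ≫ s, hcomp t s ht hs, hRt⟩
  · intro J hJ F
    rw [isSheaf_iff_isSheaf_of_type]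
    constructor
    · intro hF X Y s hs
      have hcov : Sieve.generate (Presieve.singleton s) ∈ J Y := by
        rw [hJ]; exact ⟨X, s, hs, Sieve.le_generate _ _ _ (Presieve.singleton_self s)⟩
      have h1 := hF _ hcov
      rw [← Presieve.isSheafFor_iff_generate, Presieve.isSheafFor_singleton] at h1
      have := hmono s hs
      rw [isIso_iff_bijective]
      constructor
      · intro a b hab
        obtain ⟨y, _, hy⟩ := h1 (F.map s.op a) (fun p₁ p₂ h => by rw [(cancel_mono s).mp h])
        exact (hy a rfl).trans (hy b hab.symm).symm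
      · intro x
        obtain ⟨y, hy, _⟩ := h1 x (fun p₁ p₂ h => by rw [(cancel_mono s).mp h])
        exact ⟨y, hy⟩
    · intro hF X T hT
      rw [hJ] at hT
      obtain ⟨Y, s, hs, hTs⟩ := hT
      intro x hx
      rw [Presieve.compatible_iff_sieveCompatible] at hx
      have hbij : ∀ {X Y : C} (s : X ⟶ Y), S s → Function.Bijective (F.map s.op) :=
        fun s hs => (isIso_iff_bijective _).mp (hF s hs)
      obtain ⟨t, ht⟩ := (hbij s hs).2 (x s hTs)
      have hxeq : ∀ {Z' : C} (g₁ g₂ : Z' ⟶ X) (h : g₁ = g₂) (h1 : T g₁) (h2 : T g₂),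
          x g₁ h1 = x g₂ h2 := by
        rintro _ _ _ rfl _ _; rfl
      refine ⟨t, ?_, ?_⟩
      · intro Z f hf
        obtain ⟨Z', s', f', hs', e⟩ := hfrac f s hs
        apply (hbij s' hs').1
        have e1 : F.map s'.op (F.map f.op t) = F.map f'.op (F.map s.op t) := by
          rw [← Functor.map_comp_apply, ← Functor.map_comp_apply, ← op_comp,
            ← op_comp, e]
        rw [e1, ht, ← hx s f' hTs, ← hx f s' hf]
        exact hxeq _ _ e.symm _ _
      · intro t' ht'
        apply (hbij s hs).1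
        rw [ht]; exact ht' s hTs

end Groth.Agent.S19338
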