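import Groth.Statements.S19340
import Mathlib

set_option autoImplicit false
universe v v' u u'
open CategoryTheory
open ModPair

namespace Groth.Agent.S19340

/-- Let C be a category, S a class of morphisms of C containing the identities, closed under composition
and admitting a right calculus of fractions, and L : C ⥤ D a localization functor for S. Then for
every object X of C the comma category of L under X, whose objects are pairs (Y, L(X) ⟶ L(Y)) and
whose morphisms are morphisms Y ⟶ Y' of C compatible with the structure maps, is cofiltered. The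
published statement calls this category filtered; its proof verifies, and this row states,
cofilteredness. -/
theorem result {C : Type u}
    [Category.{v} C] {D : Type u'} [Category.{v'} D] (S : MorphismProperty C)
    [S.HasRightCalculusOfFractions] (L : C ⥤ D) [L.IsLocalization S] (X : C) :
    IsCofiltered (StructuredArrow (L.obj X) L) := by
  have hinv : ∀ {A B : C} (s : A ⟶ B), S s → IsIso (L.map s) :=
    fun s hs => Localization.inverts L S s hs
  have hrep : ∀ {Y : C} (φ : L.obj X ⟶ L.obj Y), ∃ (X' : C) (s : X' ⟶ X) (f : X' ⟶ Y),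
      S s ∧ L.map s ≫ φ = L.map f := by
    intro Y φ
    obtain ⟨ψ, hψ⟩ := Localization.exists_rightFraction L S φ
    refine ⟨ψ.X', ψ.s, ψ.f, ψ.hs, ?_⟩
    have := hinv ψ.s ψ.hs
    rw [hψ, MorphismProperty.RightFraction.map]
    simp
  have hcomp : ∀ {X Y Z : C} (f : X ⟶ Y) (g : Y ⟶ Z), S f → S g → S (f ≫ g) :=
    fun f g hf hg => S.comp_mem f g hf hg
  refine { cone_objs := ?_, cone_maps := ?_, nonempty := ⟨StructuredArrow.mk (𝟙 (L.obj X))⟩ }
  · intro A₁ A₂
    obtain ⟨X₁, s₁, f₁, hs₁, e₁⟩ := hrep A₁.hom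
    obtain ⟨X₂, s₂, f₂, hs₂, e₂⟩ := hrep A₂.hom
    obtain ⟨ψ, hψ⟩ := MorphismProperty.HasRightCalculusOfFractions.exists_rightFraction
      (W := S) (X := X₁) (Y := X₂) ⟨s₁, s₂, hs₂⟩
    have hψ' : ψ.s ≫ s₁ = ψ.f ≫ s₂ := hψ
    have hs₃ : S (ψ.s ≫ s₁) := hcomp _ _ ψ.hs hs₁
    have := hinv _ hs₃
    refine ⟨StructuredArrow.mk (inv (L.map (ψ.s ≫ s₁))),
      StructuredArrow.homMk (ψ.s ≫ f₁) ?_, StructuredArrow.homMk (ψ.f ≫ f₂) ?_, trivial⟩
    · show inv (L.map (ψ.s ≫ s₁)) ≫ L.map (ψ.s ≫ f₁) = A₁.hom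
      rw [IsIso.inv_comp_eq, L.map_comp, L.map_comp, Category.assoc, e₁]
    · show inv (L.map (ψ.s ≫ s₁)) ≫ L.map (ψ.f ≫ f₂) = A₂.hom
      rw [IsIso.inv_comp_eq, hψ', L.map_comp, L.map_comp, Category.assoc, e₂]
  · intro A₁ A₂ a b
    obtain ⟨X', s, f, hs, e⟩ := hrep A₁.hom
    have h1 : L.map (f ≫ a.right) = L.map (f ≫ b.right) := by
      rw [L.map_comp, L.map_comp, ← e, Category.assoc, Category.assoc, StructuredArrow.w a,
        StructuredArrow.w b]
    obtain ⟨X'', t, ht, e'⟩ := (MorphismProperty.map_eq_iff_precomp L S _ _).mp h1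
    have hts : S (t ≫ s) := hcomp _ _ ht hs
    have := hinv _ hts
    refine ⟨StructuredArrow.mk (inv (L.map (t ≫ s))), StructuredArrow.homMk (t ≫ f) ?_, ?_⟩
    · show inv (L.map (t ≫ s)) ≫ L.map (t ≫ f) = A₁.hom
      rw [IsIso.inv_comp_eq, L.map_comp, L.map_comp, Category.assoc, e]
    · apply StructuredArrow.hom_ext
      show (t ≫ f) ≫ a.right = (t ≫ f) ≫ b.right
      rw [Category.assoc, Category.assoc, e']

end Groth.Agent.S19340
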