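import Groth.Statements.S19345
import Groth.Agent.Lib.Helper6.RqfhLocal

set_option autoImplicit false
universe u
open CategoryTheory CategoryTheory.Limits AlgebraicGeometry TopologicalSpace
open ModPair

namespace Groth.Agent.S19345

/-- Let P be a quasi-separated scheme. Then P is local for Zariski coverings (for every scheme X, every
jointly surjective family of quasi-compact open immersions into X and every morphism P ⟶ X, the
morphism factors through a member) and for finite coverings (the same for jointly surjective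
families of finite morphisms) — which together is locality for the rqfh coverings, the finite
composites of coverings of these two kinds — if and only if P is affine and Γ(P) is a local integral
domain in which every monic polynomial of positive degree has a root, i.e. the spectrum of an
absolutely integrally closed local domain. The published statement allows any scheme P; this row
assumes P quasi-separated. -/
theorem result (P : Scheme.{u}) [QuasiSeparatedSpace P] :
    ((∀ (X : Scheme.{u}) (R : Presieve X), R ∈ Scheme.precoverage (@IsOpenImmersion ⊓ @QuasiCompact) X →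
        ∀ g : P ⟶ X, ∃ (Y : Scheme.{u}) (w : Y ⟶ X) (h : P ⟶ Y), R w ∧ h ≫ w = g) ∧
      (∀ (X : Scheme.{u}) (R : Presieve X), R ∈ Scheme.precoverage @IsFinite X →
        ∀ g : P ⟶ X, ∃ (Y : Scheme.{u}) (w : Y ⟶ X) (h : P ⟶ Y), R w ∧ h ≫ w = g)) ↔
    (IsAffine P ∧ IsLocalRing Γ(P, ⊤) ∧ IsDomain Γ(P, ⊤) ∧ Curves.IsAIC Γ(P, ⊤)) := by
  constructor
  · rintro ⟨hZ, hF⟩
    have hZ' : Groth.Agent.Lib.Helper6.RqfhLocal.LocalFor (@IsOpenImmersion ⊓ @QuasiCompact) P := hZ
    have hF' : Groth.Agent.Lib.Helper6.RqfhLocal.LocalFor @IsFinite P := hF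
    have hAff : IsAffine P := Groth.Agent.Lib.Helper6.RqfhLocal.isAffine_of_localFor P hZ'
    have hZ2 : Groth.Agent.Lib.Helper6.RqfhLocal.LocalFor (@IsOpenImmersion ⊓ @QuasiCompact)
        (Spec Γ(P, ⊤)) := hZ'.of_iso P.isoSpec
    have hF2 : Groth.Agent.Lib.Helper6.RqfhLocal.LocalFor @IsFinite
        (Spec (CommRingCat.of Γ(P, ⊤))) := hF'.of_iso P.isoSpec
    have hloc := Groth.Agent.Lib.Helper6.RqfhLocal.isLocalRing_of_localFor _ hZ2
    have hdom := Groth.Agent.Lib.Helper6.RqfhLocal.isDomain_of_localFor _ hF2
    exact ⟨hAff, hloc, hdom, Groth.Agent.Lib.Helper6.RqfhLocal.isAIC_of_localFor _ hF2⟩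
  · rintro ⟨hAff, hloc, hdom, haic⟩
    exact ⟨(Groth.Agent.Lib.Helper6.RqfhLocal.localFor_zariski_of_isLocalRing Γ(P, ⊤)).of_iso
        P.isoSpec.symm,
      (Groth.Agent.Lib.Helper6.RqfhLocal.localFor_finite_of_aic Γ(P, ⊤) haic).of_iso
        P.isoSpec.symm⟩

end Groth.Agent.S19345
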