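import Groth.Statements.S19352
import Mathlib
import Groth.Agent.Lib.Helper1.SurfNef2
import Groth.Agent.Lib.Helper1.VA5
import Groth.Agent.Lib.Helper1.PullAmple
import Groth.Agent.Lib.Helper1.SpFib8
import Groth.Agent.Lib.Helper1.CurveLin4
import Groth.Agent.Lib.Helper4.HModDelta1

set_option autoImplicit false
universe u
open CategoryTheory CategoryTheory.Limits AlgebraicGeometry
open Surf

namespace Groth.Agent.S19352

/-- Let k be an algebraically closed field and X a nonsingular projective surface over k, namely an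
integral scheme, smooth over k, of dimension two, given with a closed immersion ι into a projective
space P^n_k over k, and let H = ι^* O(1) be the invertible module of a hyperplane section. If L is
an invertible O_X-module (the module of a divisor D) with dim_k H^0(X, L) > 1, then (L·H) > 0. Here
(A·B) denotes the intersection number of two invertible modules, the alternating sum χ(O_X) − χ(A) −
χ(B) + χ(A ⊗ B) of Euler characteristics (cohomology in degrees at most two); for two invertible
modules this agrees with the same sum formed from their inverses. -/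
theorem result (k : Type u) [Field k] [IsAlgClosed k]
    (X : Scheme.{u}) [X.Over (Spec (CommRingCat.of k))] [AlgebraicGeometry.IsIntegral X]
    [Smooth (X ↘ Spec (CommRingCat.of k))] (hdim : topologicalKrullDim X = 2)
    (n : ℕ) (ι : X ⟶ CohB1.ProjSpace n k) [IsClosedImmersion ι]
    (hι : ι ≫ CohB1.ProjSpace.toSpec n k = X ↘ Spec (CommRingCat.of k))
    (L : X.Modules) (hL : PicF.IsInvertible L)
    (hsec : 1 < Module.finrank k (Coh.HH X L 0)) :
    0 < FGA.intNum k X 2 ![L, (Scheme.Modules.pullback ι).obj (Twist.twistProjSpace n k 1)] (Coh.structureModule X) := by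
  haveI : IsProper (CohB1.ProjSpace.toSpec n k) := Groth.Agent.Helper1.VA5.isProper_toSpec n k
  haveI : IsProper (X ↘ Spec (CommRingCat.of k)) := by
    rw [← hι]; infer_instance
  haveI : AlgebraicGeometry.IsNoetherian X := Groth.Agent.Helper1.Euler.isNoetherian_of_proper k X
  obtain ⟨H, hHdef⟩ : ∃ H : X.Modules,
    H = (Scheme.Modules.pullback ι).obj (Twist.twistProjSpace n k 1) := ⟨_, rfl⟩
  rw [← hHdef]
  have hH : CohB1.IsAmple H := by
    rw [hHdef]
    exact Groth.Agent.Helper1.PullAmple.isAmple_pullback_of_isEmbedding ι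
      ι.isClosedEmbedding.isEmbedding (Groth.Agent.Helper1.VA5.isAmple_twistProjSpace n k)
  haveI : Nontrivial (Coh.HH X L 0) := Module.nontrivial_of_finrank_pos (R := k) (by omega)
  obtain ⟨s, hs⟩ := Groth.Agent.Helper1.SurfNef2.exists_section_of_nontrivial L
  haveI : Mono s := Groth.Agent.Helper1.Curve.mono_of_ne_zero
    Groth.Agent.Helper1.GenLoc.isInvertible_O hL s hs
  obtain ⟨D, hDdef⟩ : ∃ D : X.IdealSheafData, D = PicF2.zeroScheme L s := ⟨_, rfl⟩
  have hinv : ClSub.IsInverseOf L (ClSub.idealMod D) := by
    rw [hDdef]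
    exact Groth.Agent.Helper2.ZeroConn.isInverseOf_idealMod_zeroScheme hL s
  obtain ⟨eD⟩ := hinv
  have eD' : CohB1.tensorMod (ClSub.idealMod D) L ≅ Coh.structureModule X :=
    Groth.Agent.Helper1.TildeTens.tensorModComm _ _ ≪≫ eD
  have hDinv : PicF.IsInvertible (ClSub.idealMod D) :=
    Groth.Agent.Helper1.CurveCart.isInvertible_left_of_tensor_iso hL eD'
  have hEff : FGA.IsEffCartier D := (Groth.Agent.S8914.result D).1 hDinv
  obtain ⟨h1, h2⟩ := Groth.Agent.Helper1.NegDef.intNum_effCartier_ample k X hdim D hEff H hH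
  have e : FGA.intNum k X 2 ![L, H] (Coh.structureModule X) =
      - FGA.intNum k X 2 ![ClSub.idealMod D, H] (Coh.structureModule X) := by
    rw [Groth.Agent.Helper1.SurfHodge.intNum_symm k X hdim L H hL hH.1,
      Groth.Agent.Helper1.SurfHodge.intNum_symm k X hdim (ClSub.idealMod D) H hDinv hH.1]
    exact Groth.Agent.Helper1.SurfHodge.intNum_inverse_right k X hdim H (ClSub.idealMod D) L
      hH.1 hDinv hL eD'
  rw [e]
  by_contra hcon
  have h0 : FGA.intNum k X 2 ![ClSub.idealMod D, H] (Coh.structureModule X) = 0 := by linarith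
  have htop := h2 h0
  rw [htop] at eD'
  obtain ⟨eT⟩ := Groth.Agent.Helper1.SpFib.nonempty_iso_idealMod_top (X := X)
  have eL : L ≅ Coh.structureModule X :=
    (SecTwist.unitorR L).symm ≪≫
      Groth.Agent.Helper1.TildeTens.tensorModComm _ _ ≪≫
      Groth.Agent.Helper1.TwistTens.tensorModCongrLeft eT L ≪≫ eD'
  have hfr : Module.finrank k (Coh.HH X L 0) =
      Module.finrank k (Coh.HH X (Coh.structureModule X) 0) :=
    ((Groth.Agent.Lib.Helper4.HModDelta1.HModF k X 0).mapIso eL).toLinearEquiv.finrank_eq
  rw [hfr, Groth.Agent.Helper1.CurveLin.finrank_HH_zero_eq_one_of_isAlgClosed k X] at hsec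
  exact lt_irrefl _ hsec

end Groth.Agent.S19352
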