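import Groth.Statements.S19358
import Groth.Agent.Lib.Helper6.FanEq

set_option autoImplicit false
universe u
open CategoryTheory Opposite Instab
open Instab Instab.Fan

namespace Groth.Agent.S19358

/-- Let f : F ⟶ G be a map of formal fans. If f is injective on n-cones for every n, then the induced
continuous map of projective realizations P F → P G is injective; if f is surjective on n-cones for
every n, then P F → P G is surjective. -/
theorem result {F G : Fan.{u}} (f : F ⟶ G) :
    ((∀ n : ICone, Function.Injective (f.app (op n))) → Function.Injective (Fan.P.map f)) ∧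
    ((∀ n : ICone, Function.Surjective (f.app (op n))) → Function.Surjective (Fan.P.map f)) := by
  constructor
  · intro hinj x x' hxx'
    induction x using Quot.ind with | _ p => ?_
    induction x' using Quot.ind with | _ p' => ?_
    obtain ⟨⟨n, σ⟩, v⟩ := p
    obtain ⟨⟨n', σ'⟩, v'⟩ := p'
    have h : Fan.P.mk (f.app _ σ) v = Fan.P.mk (f.app _ σ') v' := hxx'
    obtain ⟨k, φ₁, φ₂, y, c₁, c₂, e, hc₁, hc₂, h₁, h₂⟩ :=
      Groth.Agent.Lib.Helper6.FanEq.mk_eq_mk _ _ _ _ h
    have e1 : f.app _ (F.map φ₁.op σ) = G.map φ₁.op (f.app _ σ) :=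
      NatTrans.naturality_apply f φ₁.op σ
    have e2 : f.app _ (F.map φ₂.op σ') = G.map φ₂.op (f.app _ σ') :=
      NatTrans.naturality_apply f φ₂.op σ'
    have e3 : F.map φ₁.op σ = F.map φ₂.op σ' := hinj _ (by rw [e1, e2, e])
    exact Groth.Agent.Lib.Helper6.FanEq.mk_eq_mk_of σ σ' v v' φ₁ φ₂ y c₁ c₂ e3 hc₁ hc₂ h₁ h₂
  · intro hsurj x
    induction x using Quot.ind with | _ p => ?_
    obtain ⟨⟨n, τ⟩, v⟩ := p
    obtain ⟨σ, rfl⟩ := hsurj n τ
    exact ⟨Fan.P.mk σ v, rfl⟩

end Groth.Agent.S19358
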