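import Groth.Statements.S19362
import Groth.Agent.Lib.Helper6.FanEq

set_option autoImplicit false
universe u
open CategoryTheory Opposite Instab
open Instab Instab.Fan

namespace Groth.Agent.S19362

/-- Let f : F ⟶ G be a map of formal fans. (1) The image of the induced map P F → P G is the image of
the projective realization of the image sub-fan of f. (2) For a map g : G' ⟶ G, the image of the
projective realization of the base change F ×_G G' ⟶ G' is the preimage, under P G' → P G, of the
image of P F → P G. -/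
theorem result {F G G' : Fan.{u}} (f : F ⟶ G) (g : G' ⟶ G) :
    Set.range (Fan.P.map f) = Set.range (Fan.P.map (Subfunctor.range f).ι) ∧
    Set.range (Fan.P.map (Limits.pullback.snd f g)) = Fan.P.map g ⁻¹' Set.range (Fan.P.map f) := by
  constructor
  · ext x
    rw [Groth.Agent.Lib.Helper6.FanEq.mem_range_ι]
    constructor
    · rintro ⟨y, rfl⟩
      obtain ⟨n, σ, v, rfl⟩ := Groth.Agent.Lib.Helper6.FanEq.exists_mk y
      exact ⟨n, f.app _ σ, v, ⟨σ, rfl⟩, rfl⟩
    · rintro ⟨n, τ, v, ⟨σ, rfl⟩, rfl⟩
      exact ⟨Fan.P.mk σ v, rfl⟩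
  · ext y
    simp only [Set.mem_range, Set.mem_preimage]
    constructor
    · rintro ⟨z, rfl⟩
      refine ⟨Fan.P.map (Limits.pullback.fst f g) z, ?_⟩
      rw [← Groth.Agent.Lib.Helper6.FanEq.P_map_comp, ← Groth.Agent.Lib.Helper6.FanEq.P_map_comp,
        Limits.pullback.condition]
    · rintro ⟨x, hx⟩
      obtain ⟨z, -, hz⟩ := Groth.Agent.Lib.Helper6.FanEq.exists_pullback_point f g x y hx
      exact ⟨z, hz⟩

end Groth.Agent.S19362
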