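import Groth.Statements.S19364
import Groth.Agent.Lib.Helper6.FanTop

set_option autoImplicit false
universe u
open CategoryTheory Opposite Instab
open Instab Instab.Fan

namespace Groth.Agent.S19364

/-- Let ψ : F ⟶ G be a bounded map of formal fans. Then the induced map P F → P G is surjective if and
only if every rational point of P G lies in its image. (The published lemma also claims that such a
map is injective as soon as it is injective on rational points; that fails, since two copies of the
standard 2-cone glued to each other along all their rational rays map to the standard 2-cone by a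
bounded map that is bijective on rational points and two-to-one elsewhere, and it is not stated
here.) -/
theorem result {F G : Fan.{u}} (ψ : F ⟶ G)
    (hψ : Fan.IsBoundedMap ψ) :
    Function.Surjective (Fan.P.map ψ) ↔
      ∀ y : Fan.P G, y.IsRational → y ∈ Set.range (Fan.P.map ψ) := by
  constructor
  · intro h y _
    exact h y
  · intro h y
    obtain ⟨n, ξ, v, rfl⟩ := Groth.Agent.Lib.Helper6.FanEq.exists_mk y
    have hcl : IsClosed (Set.range (Fan.P.map ψ)) := by
      rw [← Set.image_univ]
      exact (Groth.Agent.Lib.Helper6.FanTop.bounded_map_props ψ hψ).1 _ isClosed_univ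
    have hT := Groth.Agent.Lib.Helper6.FanTop.eq_univ_of_int
      (Fan.P.mk ξ ⁻¹' Set.range (Fan.P.map ψ))
      (hcl.preimage (Groth.Agent.Lib.Helper6.FanTop.continuous_mk ξ))
      (fun v w hv c hc hw => by
        simp only [Set.mem_preimage] at hv ⊢
        rw [← Groth.Agent.Lib.Helper6.FanBasic.mk_smul ξ v w c hc hw]
        exact hv)
      (fun w u hw => h _ (Groth.Agent.Lib.Helper6.FanTop.isRational_mk_int ξ w u hw))
    have : v ∈ Fan.P.mk ξ ⁻¹' Set.range (Fan.P.map ψ) := by
      rw [hT]
      exact Set.mem_univ v
    exact this

end Groth.Agent.S19364
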