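import Groth.Statements.S19374
import Groth.Agent.Lib.Helper6.FanBasic

set_option autoImplicit false
universe u
open CategoryTheory Opposite Instab
open Instab Instab.Fan

namespace Groth.Agent.S19374

/-- Let F be a formal fan and U ⊆ P F. Then U is locally convex in the simplex-wise sense — for every
rational simplex, a ray lying strictly between two rays that map into U also maps into U — if and
only if, for every n-cone ξ of F, the set of nonzero nonnegative vectors v of ℝ^n whose point of the
rational simplex of ξ lies in U is a convex subset of ℝ^n (convexity of the preimage of U in each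
punctured cone of the affine realization). -/
theorem result (F : Fan.{u}) (U : Set (Fan.P F)) :
    Fan.IsLocallyConvex U ↔
      ∀ (n : ICone) (ξ : F.obj (op n)),
        Convex ℝ {v : Fin n.dim → ℝ | ∃ h : (∀ i, 0 ≤ v i) ∧ v ≠ 0, Fan.P.mk ξ (⟨v, h⟩ : Fan.Orth n) ∈ U} := by
  constructor
  · intro h n ξ v₀ hv₀ v₂ hv₂ a b ha hb hab
    obtain ⟨h₀, hU₀⟩ := hv₀
    obtain ⟨h₂, hU₂⟩ := hv₂
    rcases ha.eq_or_lt with rfl | ha'
    · have : b = 1 := by linarith
      subst this
      simpa using ⟨h₂, hU₂⟩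
    rcases hb.eq_or_lt with rfl | hb'
    · have : a = 1 := by linarith
      subst this
      simpa using ⟨h₀, hU₀⟩
    have hnn : ∀ i, 0 ≤ (a • v₀ + b • v₂) i := fun i => by
      simp only [Pi.add_apply, Pi.smul_apply, smul_eq_mul]
      exact add_nonneg (mul_nonneg ha (h₀.1 i)) (mul_nonneg hb (h₂.1 i))
    have hne : a • v₀ + b • v₂ ≠ 0 := by
      intro hz
      apply h₀.2
      funext i
      have h1 := congrFun hz i
      simp only [Pi.add_apply, Pi.smul_apply, smul_eq_mul, Pi.zero_apply] at h1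
      have h2 : a * v₀ i = 0 := by
        have := mul_nonneg ha (h₀.1 i)
        have := mul_nonneg hb (h₂.1 i)
        linarith
      rcases mul_eq_zero.1 h2 with h3 | h3
      · exact absurd h3 ha'.ne'
      · exact h3
    refine ⟨⟨hnn, hne⟩, ?_⟩
    exact h n ξ ⟨v₀, h₀⟩ ⟨_, hnn, hne⟩ ⟨v₂, h₂⟩ hU₀ hU₂ ⟨a, b, ha', hb', rfl⟩
  · intro h n ξ v₀ v₁ v₂ hU₀ hU₂ hex
    obtain ⟨a, b, ha, hb, hab⟩ := hex
    have hs : 0 < a + b := by linarith
    have hconv := h n ξ (x := v₀.1) ⟨v₀.2, hU₀⟩ (y := v₂.1) ⟨v₂.2, hU₂⟩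
      (a := a / (a + b)) (b := b / (a + b)) (by positivity) (by positivity)
      (by field_simp)
    obtain ⟨hw, hUw⟩ := hconv
    have := Groth.Agent.Lib.Helper6.FanBasic.mk_smul ξ
      ⟨(a / (a + b)) • v₀.1 + (b / (a + b)) • v₂.1, hw⟩ v₁ (a + b) hs (by
        rw [hab]
        funext i
        simp only [Pi.add_apply, Pi.smul_apply, smul_eq_mul]
        field_simp)
    rw [← this]
    exact hUw

end Groth.Agent.S19374
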