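import Groth.Statements.S19380
import Mathlib.Tactic
import Mathlib.LinearAlgebra.Matrix.SchurComplement

set_option autoImplicit false
universe u
open CAlg

namespace Groth.Agent.S19380

/-- Let L be a commutative ring, σ a ring automorphism of L of finite order dividing d (σ^d = 1), and C
an r × r matrix over L. The reverse characteristic polynomial det(1 − T·N) of the twisted product N
= C·σ(C)·σ²(C)⋯σ^(d−1)(C), with σ applied to the entries, is fixed by σ acting on coefficients. (In
the source this is phrased for the fibre at a closed point x of degree d of a convergent F-module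
with Frobenius matrix C: the d-th iterate of the semilinear Frobenius of the fibre is the linear map
with matrix N, so its characteristic polynomial has coefficients in the subfield fixed by the
Frobenius of K(x), namely K, and likewise with the valuation ring in place of K for an integral
F-module; only this linear-algebra statement, over any commutative ring, is given here.) -/
theorem result
    (L : Type u) [CommRing L] (σ : L ≃+* L) (d : ℕ) (hσ : σ ^ d = 1)
    (r : ℕ) (C : Matrix (Fin r) (Fin r) L) :
    (Matrix.charpolyRev (((List.range d).map fun i => C.map ⇑(σ ^ i)).prod)).map (σ : L →+* L) =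
      Matrix.charpolyRev (((List.range d).map fun i => C.map ⇑(σ ^ i)).prod) := by
  classical
  -- general facts about charpolyRev
  have hmap : ∀ (N : Matrix (Fin r) (Fin r) L),
      (Matrix.charpolyRev N).map (σ : L →+* L) = Matrix.charpolyRev (N.map (σ : L →+* L)) := by
    intro N
    unfold Matrix.charpolyRev
    rw [← Polynomial.coe_mapRingHom, RingHom.map_det]
    congr 1
    ext i j
    simp only [RingHom.mapMatrix_apply, Matrix.map_apply, Matrix.sub_apply, Matrix.smul_apply,
      Matrix.one_apply, smul_eq_mul, Polynomial.coe_mapRingHom, Polynomial.map_sub,
      Polynomial.map_mul, Polynomial.map_X, Polynomial.map_C]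
    by_cases h : i = j <;> simp [h]
  have hcomm : ∀ (A B : Matrix (Fin r) (Fin r) L),
      Matrix.charpolyRev (A * B) = Matrix.charpolyRev (B * A) := by
    intro A B
    unfold Matrix.charpolyRev
    have e1 : (1 : Matrix (Fin r) (Fin r) (Polynomial L)) - (Polynomial.X : Polynomial L) • (A * B).map Polynomial.C
        = 1 - ((Polynomial.X : Polynomial L) • A.map Polynomial.C) * B.map Polynomial.C := by
      rw [Matrix.map_mul, Matrix.smul_mul]
    have e2 : (1 : Matrix (Fin r) (Fin r) (Polynomial L)) - (Polynomial.X : Polynomial L) • (B * A).map Polynomial.C
        = 1 - B.map Polynomial.C * ((Polynomial.X : Polynomial L) • A.map Polynomial.C) := by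
      rw [Matrix.map_mul, Matrix.mul_smul]
    rw [e1, e2, Matrix.det_one_sub_mul_comm]
  set f : ℕ → Matrix (Fin r) (Fin r) L := fun i => C.map ⇑(σ ^ i) with hf
  have hfsucc : ∀ i, (f i).map (σ : L →+* L) = f (i + 1) := by
    intro i
    ext a b
    simp only [hf, Matrix.map_apply, pow_succ', RingAut.mul_apply, RingEquiv.coe_toRingHom]
  have hprodmap : ∀ l : List ℕ, ((l.map f).prod).map (σ : L →+* L) = (l.map fun i => f (i + 1)).prod := by
    intro l
    have := map_list_prod ((σ : L →+* L).mapMatrix (m := Fin r)) (l.map f)
    rw [RingHom.mapMatrix_apply] at this
    rw [this, List.map_map]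
    congr 1
    apply List.map_congr_left
    intro i _
    simp only [Function.comp_apply, RingHom.mapMatrix_apply]
    exact hfsucc i
  rw [hmap]
  cases d with
  | zero => simp
  | succ d' =>
    have hP : ((List.range (d' + 1)).map f).prod = C * ((List.range d').map fun i => f (i + 1)).prod := by
      rw [List.range_succ_eq_map, List.map_cons, List.prod_cons, List.map_map]
      have h0 : f 0 = C := by
        ext a b
        simp [hf, RingAut.one_apply]
      rw [h0]
      rfl
    have hQ : (((List.range (d' + 1)).map f).prod).map (σ : L →+* L)
        = ((List.range d').map fun i => f (i + 1)).prod * C := by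
      rw [hprodmap, List.range_succ, List.map_append, List.prod_append, List.map_singleton,
        List.prod_singleton]
      congr 1
      ext a b
      show (σ ^ (d' + 1)) (C a b) = C a b
      rw [hσ, RingAut.one_apply]
    rw [hQ, hP, hcomm]

end Groth.Agent.S19380
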