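import Groth.Statements.S19383
import Mathlib

set_option autoImplicit false
universe u
open CAlg

namespace Groth.Agent.S19383

/-- Over a discrete valuation ring, let V be a henselian discrete valuation ring with maximal ideal 𝔪
and B a Noetherian V-algebra, B̂ its 𝔪B-adic completion. Then B is flat over V if and only if B̂ is
flat over V. (The published lemma takes V an excellent normal ring with an ideal I such that (V,
V/I) is a henselian pair and B of finite type; in that generality it fails: for V = ℤ_p[[x]], I =
(p) and B = V[y]/(x, py − 1) ≅ ℚ_p one has IB = B, so B̂ = 0 is flat while B is not flat over V.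
Over a discrete valuation ring flatness is torsion-freeness and the statement holds for every
Noetherian B.) -/
theorem result
    (V : Type u) [CommRing V] [IsDomain V] [IsDiscreteValuationRing V] [HenselianLocalRing V]
    (B : Type u) [CommRing B] [Algebra V B] [IsNoetherianRing B] :
    Module.Flat V B ↔
      Module.Flat V (AdicCompletion ((IsLocalRing.maximalIdeal V).map (algebraMap V B)) B) := by
  constructor
  · intro hflat
    have h1 : Module.Flat B (AdicCompletion ((IsLocalRing.maximalIdeal V).map (algebraMap V B)) B) :=
      AdicCompletion.flat_of_isNoetherian _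
    exact Module.Flat.trans V B _
  · intro hflat
    rw [IsDedekindDomain.flat_iff_torsion_eq_bot, eq_bot_iff]
    rintro b ⟨⟨v, hv⟩, hvb⟩
    have hvb' : v • b = 0 := hvb
    rw [Submodule.mem_bot]
    have hv0 : v ≠ 0 := nonZeroDivisors.ne_zero hv
    -- step 1: image in completion is zero
    have h1 : AdicCompletion.of ((IsLocalRing.maximalIdeal V).map (algebraMap V B)) B b = 0 := by
      have htf := Module.Flat.torsion_eq_bot (R := V)
        (M := AdicCompletion ((IsLocalRing.maximalIdeal V).map (algebraMap V B)) B)
      have hmem : AdicCompletion.of ((IsLocalRing.maximalIdeal V).map (algebraMap V B)) B b ∈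
          Submodule.torsion V
            (AdicCompletion ((IsLocalRing.maximalIdeal V).map (algebraMap V B)) B) := by
        refine ⟨⟨v, hv⟩, ?_⟩
        show v • AdicCompletion.of ((IsLocalRing.maximalIdeal V).map (algebraMap V B)) B b = 0
        rw [← algebraMap_smul B v
          (AdicCompletion.of ((IsLocalRing.maximalIdeal V).map (algebraMap V B)) B b), ← map_smul,
          algebraMap_smul, hvb', map_zero]
      rw [htf] at hmem
      exact hmem
    -- step 2: b lies in the intersection of powers
    have h2 : b ∈ (⨅ i : ℕ, ((IsLocalRing.maximalIdeal V).map (algebraMap V B)) ^ i • ⊤ :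
        Submodule B B) := by
      rw [Submodule.mem_iInf]
      intro n
      have h3 := congrArg (fun x => x.1 n) h1
      simp only [AdicCompletion.of_apply] at h3
      exact (Submodule.Quotient.mk_eq_zero _).mp h3
    obtain ⟨⟨r, hr⟩, hrb⟩ := (Ideal.mem_iInf_smul_pow_eq_bot_iff _ b).mp h2
    have hrb' : r * b = b := hrb
    have hpow : ∀ n : ℕ, r ^ n * b = b := by
      intro n
      induction n with
      | zero => rw [pow_zero, one_mul]
      | succ n ih => rw [pow_succ, mul_assoc, hrb', ih]
    obtain ⟨ϖ, hϖ⟩ := IsDiscreteValuationRing.exists_irreducible V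
    obtain ⟨N, hN⟩ := IsDiscreteValuationRing.ideal_eq_span_pow_irreducible
      (s := Ideal.span {v}) (by rwa [Ne, Ideal.span_singleton_eq_bot]) hϖ
    have hϖN : ϖ ^ N ∈ Ideal.span {v} := by rw [hN]; exact Ideal.subset_span rfl
    obtain ⟨w, hw⟩ := Ideal.mem_span_singleton'.mp hϖN
    have hI : (IsLocalRing.maximalIdeal V).map (algebraMap V B) = Ideal.span {algebraMap V B ϖ} := by
      rw [hϖ.maximalIdeal_eq, Ideal.map_span, Set.image_singleton]
    have hrN : r ^ N ∈ Ideal.span {(algebraMap V B ϖ) ^ N} := by
      rw [← Ideal.span_singleton_pow, ← hI]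
      exact Ideal.pow_mem_pow hr N
    obtain ⟨c, hc⟩ := Ideal.mem_span_singleton'.mp hrN
    rw [← hpow N, ← hc, ← map_pow, ← hw, map_mul, mul_assoc, mul_assoc, ← Algebra.smul_def v b,
      hvb', mul_zero, mul_zero]

end Groth.Agent.S19383
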