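import Groth.Statements.S19384
import Groth.Agent.Lib.Helper6.Versch.PowConv

set_option autoImplicit false
universe u
open Versch

namespace Groth.Agent.S19384

/-- Over a field and for one finite level, let k be a field of characteristic p > 0 and G = Spec A a
finite commutative k-group scheme (A a finite-dimensional commutative cocommutative Hopf algebra)
killed by p^n, i.e. the p^n-th power map of G is the trivial homomorphism, and suppose the
Verschiebung of G is an isomorphism (the ring map v : A → A ⊗_k k^(p) characterised as the
Verschiebung is bijective). Then G is infinitesimal, more precisely the n-th iterate of its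
Frobenius is trivial: a^(p^n) = 0 for every a in the augmentation ideal. (The source states this for
the p^n-torsion levels of a p-divisible group of multiplicative type over any scheme of
characteristic p and reduces to a field fibre by fibre; it also records that the Cartier dual has
unipotent fibres, which is not stated here.) -/
theorem result
    (p : ℕ) [Fact p.Prime] (k : Type u) [Field k] [CharP k p]
    (A : Type u) [CommRing A] [HopfAlgebra k A] [Coalgebra.IsCocomm k A] [Module.Finite k A]
    (n : ℕ)
    (hn : SGA3b.powConv k A (p ^ n) = (Algebra.ofId k A).comp (Bialgebra.counitAlgHom k A))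
    (v : A →+* FrobAlg.BaseChange p k A) (hv : Versch.IsVerschiebung p k A v)
    (hbij : Function.Bijective v)
    (a : A) (ha : Coalgebra.counit (R := k) a = 0) : a ^ (p ^ n) = 0 := by
  classical
  haveI : Nontrivial A := by
    refine ⟨⟨0, 1, fun h01 => ?_⟩⟩
    have h1 := congrArg (Bialgebra.counitAlgHom k A) h01
    rw [map_zero, map_one] at h1
    exact zero_ne_one h1
  haveI : CharP A p := charP_of_injective_algebraMap (algebraMap k A).injective p
  set P := SGA3b.powConv k A p with hP
  have hPv : ∀ c : A, FrobAlg.relFrob p k A (v c) = P c := fun c => by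
    have h1 := Groth.Agent.Lib.Helper6.Versch.relFrob_comp_verschiebung p k A v hv
    exact congrArg (fun φ : A →+* A => φ c) h1
  -- key claim
  have key : ∀ m : ℕ, ∀ a : A, Coalgebra.counit (R := k) a = 0 →
      ∃ b : A, Coalgebra.counit (R := k) b = 0 ∧ a ^ (p ^ m) = SGA3b.powConv k A (p ^ m) b := by
    intro m
    induction m with
    | zero =>
      intro a ha
      refine ⟨a, ha, ?_⟩
      have h1 : SGA3b.powConv k A 1 = AlgHom.id k A := by
        unfold SGA3b.powConv
        rw [pow_one]
      rw [pow_zero, pow_one, h1]
      rfl
    | succ m ih =>
      intro a ha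
      obtain ⟨b, hb, hab⟩ := ih a ha
      obtain ⟨c, hc⟩ := hbij.2 (b ⊗ₜ[k] (1 : FrobAlg.Twist p k))
      have hc0 : Coalgebra.counit (R := k) c = 0 := by
        have h1 := (Versch.isVerschiebung_iff p k A v).1 hv c 1
        rw [hc, Versch.evTw_tmul, one_pow, mul_one] at h1
        have h2 : ((1 : CartDual.D k A) b) = Coalgebra.counit (R := k) b := by
          rw [LinearMap.convOne_apply]; rfl
        have h3 : ((1 : CartDual.D k A) c) = Coalgebra.counit (R := k) c := by
          rw [LinearMap.convOne_apply]; rfl
        rw [h2, h3, hb, map_zero] at h1
        have h4 := congrArg (FrobAlg.toTwist p k).symm h1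
        rw [RingEquiv.symm_apply_apply, map_zero] at h4
        exact h4.symm
      refine ⟨c, hc0, ?_⟩
      rw [Groth.Agent.Lib.Helper6.Versch.powConv_pow_succ, pow_succ, pow_mul, hab, ← map_pow]
      have h5 : b ^ p = P c := by
        rw [← hPv c, hc, Groth.Agent.Lib.Helper6.Versch.relFrob_tmul]
        simp
      rw [h5]
      rfl
  obtain ⟨b, hb, hab⟩ := key n a ha
  rw [hab, hn]
  change algebraMap k A (Coalgebra.counit (R := k) b) = 0
  rw [hb, map_zero]

end Groth.Agent.S19384
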