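import Groth.Statements.S19390
import Mathlib.Data.Fin.Tuple.Sort
import Mathlib.SetTheory.Cardinal.Order
import Mathlib.Order.Interval.Finset.Fin

set_option autoImplicit false
universe u
open GIT

namespace Groth.Agent.S19390

/-- first index sequence, on sorted positions -/
def fi (e k : ℕ) : ℕ :=
  if k = 0 then 0 else if k = 1 then e else if k = 2 then 2 * e
  else if k ≤ e + 1 then k - 2 else k - 1

/-- second index sequence, on sorted positions -/
def fj (e k : ℕ) : ℕ :=
  if k = 0 then e else if k = 1 then 2 * e else if k = 2 then 0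
  else if k ≤ e + 1 then k - 2 + e else k - e - 1

lemma fi_lt (e k : ℕ) (he : 1 ≤ e) (hk : k < 2 * e + 1) : fi e k < 2 * e + 1 := by
  unfold fi; split_ifs <;> omega

lemma fj_lt (e k : ℕ) (he : 1 ≤ e) (hk : k < 2 * e + 1) : fj e k < 2 * e + 1 := by
  unfold fj; split_ifs <;> omega

lemma fi_inj (e a b : ℕ) (he : 1 ≤ e) (ha : a < 2 * e + 1) (hb : b < 2 * e + 1)
    (h : fi e a = fi e b) : a = b := by
  unfold fi at h; split_ifs at h <;> omega

lemma fj_inj (e a b : ℕ) (he : 1 ≤ e) (ha : a < 2 * e + 1) (hb : b < 2 * e + 1)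
    (h : fj e a = fj e b) : a = b := by
  unfold fj at h; split_ifs at h <;> omega

lemma fij_far (e k : ℕ) (he : 1 ≤ e) (hk : k < 2 * e + 1) :
    fi e k + e ≤ fj e k ∨ fj e k + e ≤ fi e k := by
  unfold fi fj; split_ifs <;> omega

lemma card_filter_eq_one {n : ℕ} (f : Fin n → Fin n) (hf : Function.Injective f) (m : Fin n) :
    (Finset.univ.filter fun k => f k = m).card = 1 := by
  obtain ⟨k0, hk0⟩ := (Finite.injective_iff_surjective.1 hf) m
  rw [Finset.card_eq_one]
  refine ⟨k0, ?_⟩
  ext k
  simp only [Finset.mem_filter, Finset.mem_univ, true_and, Finset.mem_singleton]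
  constructor
  · intro h; exact hf (h.trans hk0.symm)
  · rintro rfl; exact hk0


/-- Let e ≥ 1, n = 2e + 1, and let x_1, …, x_n be points such that no point occurs more than e times
among them (the stability condition for n ordered points on a line, n odd). Then there are index
sequences i_1, …, i_n and j_1, …, j_n in which every index between 1 and n occurs exactly twice in
total, such that x_{i_k} ≠ x_{j_k} for every k and (i_1, i_2, i_3) = (j_3, j_1, j_2). Indices are
written 0, …, n − 1 here. -/
theorem result {α : Type u} [DecidableEq α] (e : ℕ) (he : 1 ≤ e)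
    (x : Fin (2 * e + 1) → α)
    (hx : ∀ a : α, (Finset.univ.filter fun k => x k = a).card ≤ e) :
    ∃ i j : Fin (2 * e + 1) → Fin (2 * e + 1),
      (∀ m : Fin (2 * e + 1),
        (Finset.univ.filter fun k => i k = m).card + (Finset.univ.filter fun k => j k = m).card = 2) ∧
      (∀ k, x (i k) ≠ x (j k)) ∧
      i 0 = j 2 ∧ i 1 = j 0 ∧ i 2 = j 1 := by
  classical
  letI : LinearOrder α := IsWellOrder.linearOrder WellOrderingRel
  let σ : Equiv.Perm (Fin (2 * e + 1)) := Tuple.sort x
  have hmono : Monotone (x ∘ σ) := Tuple.monotone_sort x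
  -- positions at distance at least `e` carry different values
  have key : ∀ s t : Fin (2 * e + 1), s.val + e ≤ t.val → x (σ s) ≠ x (σ t) := by
    intro s t hst heq
    have hsub : (Finset.Icc s t).map σ.toEmbedding ⊆
        Finset.univ.filter fun k => x k = x (σ s) := by
      intro k hk
      rw [Finset.mem_map] at hk
      obtain ⟨u, hu, rfl⟩ := hk
      rw [Finset.mem_Icc] at hu
      simp only [Finset.mem_filter, Finset.mem_univ, true_and, Equiv.coe_toEmbedding]
      apply le_antisymm
      · have := hmono hu.2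
        simp only [Function.comp] at this
        rw [heq]; exact this
      · exact hmono hu.1
    have h1 := Finset.card_le_card hsub
    rw [Finset.card_map, Fin.card_Icc] at h1
    have h2 := hx (x (σ s))
    omega
  have h0 : ((0 : Fin (2 * e + 1)) : ℕ) = 0 := rfl
  have h1 : ((1 : Fin (2 * e + 1)) : ℕ) = 1 := by
    show 1 % (2 * e + 1) = 1
    exact Nat.mod_eq_of_lt (by omega)
  have h2 : ((2 : Fin (2 * e + 1)) : ℕ) = 2 := by
    show 2 % (2 * e + 1) = 2
    exact Nat.mod_eq_of_lt (by omega)
  let i' : Fin (2 * e + 1) → Fin (2 * e + 1) := fun k => ⟨fi e k, fi_lt e k he k.2⟩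
  let j' : Fin (2 * e + 1) → Fin (2 * e + 1) := fun k => ⟨fj e k, fj_lt e k he k.2⟩
  have hi' : Function.Injective i' := by
    intro a b hab
    have : fi e a = fi e b := congrArg Fin.val hab
    exact Fin.ext (fi_inj e a b he a.2 b.2 this)
  have hj' : Function.Injective j' := by
    intro a b hab
    have : fj e a = fj e b := congrArg Fin.val hab
    exact Fin.ext (fj_inj e a b he a.2 b.2 this)
  refine ⟨fun k => σ (i' k), fun k => σ (j' k), ?_, ?_, ?_, ?_, ?_⟩
  · intro m
    rw [card_filter_eq_one (fun k => σ (i' k)) (σ.injective.comp hi') m,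
      card_filter_eq_one (fun k => σ (j' k)) (σ.injective.comp hj') m]
  · intro k
    rcases fij_far e k he k.2 with h | h
    · exact key (i' k) (j' k) h
    · exact (key (j' k) (i' k) h).symm
  · show σ (i' 0) = σ (j' 2)
    congr 1
    apply Fin.ext
    show fi e ((0 : Fin (2 * e + 1)) : ℕ) = fj e ((2 : Fin (2 * e + 1)) : ℕ)
    rw [h0, h2]; simp [fi, fj]
  · show σ (i' 1) = σ (j' 0)
    congr 1
    apply Fin.ext
    show fi e ((1 : Fin (2 * e + 1)) : ℕ) = fj e ((0 : Fin (2 * e + 1)) : ℕ)
    rw [h0, h1]; simp [fi, fj]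
  · show σ (i' 2) = σ (j' 1)
    congr 1
    apply Fin.ext
    show fi e ((2 : Fin (2 * e + 1)) : ℕ) = fj e ((1 : Fin (2 * e + 1)) : ℕ)
    rw [h1, h2]; simp [fi, fj]

end Groth.Agent.S19390
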