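import Groth.Statements.S19397
import Mathlib
import Groth.Agent.Lib.Helper9.FFExt.Ell1
import Groth.Agent.Lib.Helper9.FFExt.Ell2
-- import your own Groth.Agent.* helpers here

set_option autoImplicit false
universe u v
open FunFld

namespace Groth.Agent.S19397

open FunFld
namespace Aux

open WithZero Groth.Agent.Lib.Helper4.FF Groth.Agent.Helper9.FFExt Groth.Agent.Helper9.Ell
open Polynomial
open scoped Polynomial.Bivariate

section
variable {k : Type u} {K : Type v} [Field k] [IsAlgClosed k] [Field K] [Algebra k K]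

theorem key1 (h2 : (2 : k) ≠ 0) (h3 : (3 : k) ≠ 0)
    (hK : FunFld.IsFunctionField k K) (hgen : FunFld.genus k K = 1) (P : FunFld.Place k K)
    (a b : k) (x y : K)
    (heq : y ^ 2 = x ^ 3 + algebraMap k K a * x + algebraMap k K b)
    (hx : x ∈ FunFld.L (Finsupp.single P 2)) (hx2 : P.ord x = -2)
    (hy : y ∈ FunFld.L (Finsupp.single P 3)) (hy3 : P.ord y = -3)
    (σ : K ≃ₐ[k] K) (hσ : ∀ z : K, P.1 (σ z) = P.1 z) :
    ∃ w : k, w ≠ 0 ∧ a * (w ^ 4 - 1) = 0 ∧ b * (w ^ 6 - 1) = 0 ∧
      σ x = algebraMap k K (w ^ 2) * x ∧ σ y = algebraMap k K (w ^ 3) * y := by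
  have hfix : comapPlace σ P = P := comapPlace_eq_of_forall σ P hσ
  have hσx : σ x ∈ L (Finsupp.single P 2 : Divisor k K) :=
    (mem_L_comapPlace_iff σ P 2 x).mp (by rw [hfix]; exact hx)
  have hσy : σ y ∈ L (Finsupp.single P 3 : Divisor k K) :=
    (mem_L_comapPlace_iff σ P 3 y).mp (by rw [hfix]; exact hy)
  obtain ⟨α, β, hαβ⟩ := mem_L_two hK hgen P x y hx hx2 hy hy3 hσx
  obtain ⟨γ, δ, ε, hγδε⟩ := mem_L_three hK hgen P x y hx hx2 hy hy3 hσy
  have hrel : σ y ^ 2 = σ x ^ 3 + algebraMap k K a * σ x + algebraMap k K b := by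
    have := congrArg σ heq
    rwa [map_pow, map_add, map_add, map_pow, map_mul, σ.commutes, σ.commutes] at this
  rw [hαβ, hγδε] at hrel
  have hα0 : α ≠ 0 := by
    rintro rfl
    rw [map_zero, zero_mul, zero_add, ← σ.commutes] at hαβ
    have := σ.injective hαβ
    rw [this, Place.ord_k] at hx2
    norm_num at hx2
  have hc := indep6 P x y hx2 hy3
    ![γ ^ 2 * b + ε ^ 2 - β ^ 3 - a * β - b, γ ^ 2 * a + 2 * δ * ε - 3 * α * β ^ 2 - a * α,
      δ ^ 2 - 3 * α ^ 2 * β, γ ^ 2 - α ^ 3, 2 * γ * ε, 2 * γ * δ] (by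
    simp only [Matrix.cons_val_zero, Matrix.cons_val_one, Matrix.cons_val]
    simp only [map_sub, map_add, map_mul, map_pow, map_ofNat]
    linear_combination hrel - (algebraMap k K γ) ^ 2 * heq)
  have c0 := hc 0
  have c1 := hc 1
  have c2 := hc 2
  have c3 := hc 3
  have c4 := hc 4
  have c5 := hc 5
  simp only [Matrix.cons_val_zero, Matrix.cons_val_one, Matrix.cons_val] at c0 c1 c2 c3 c4 c5
  have hγ0 : γ ≠ 0 := by
    rintro rfl
    have : α ^ 3 = 0 := by linear_combination -c3
    exact hα0 (pow_eq_zero_iff (by norm_num) |>.mp this)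
  have hδ : δ = 0 := by
    have : 2 * γ * δ = 0 := c5
    rcases mul_eq_zero.mp this with h | h
    · exact absurd h (mul_ne_zero h2 hγ0)
    · exact h
  have hε : ε = 0 := by
    have : 2 * γ * ε = 0 := c4
    rcases mul_eq_zero.mp this with h | h
    · exact absurd h (mul_ne_zero h2 hγ0)
    · exact h
  have hβ : β = 0 := by
    rw [hδ] at c2
    have : 3 * α ^ 2 * β = 0 := by linear_combination -c2
    rcases mul_eq_zero.mp this with h | h
    · exact absurd h (mul_ne_zero h3 (pow_ne_zero _ hα0))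
    · exact h
  subst hδ hε hβ
  have hγα : γ ^ 2 = α ^ 3 := by linear_combination c3
  refine ⟨γ / α, div_ne_zero hγ0 hα0, ?_, ?_, ?_, ?_⟩
  · have h4 : (γ / α) ^ 4 = α ^ 2 := by
      have : (γ / α) ^ 4 = (γ ^ 2) ^ 2 / α ^ 4 := by ring
      rw [this, hγα]; field_simp
    rw [h4]
    have : α * (a * (α ^ 2 - 1)) = 0 := by linear_combination c1 - a * hγα
    exact (mul_eq_zero.mp this).resolve_left hα0
  · have h6 : (γ / α) ^ 6 = γ ^ 2 := by
      have : (γ / α) ^ 6 = (γ ^ 2) ^ 3 / (α ^ 3) ^ 2 := by ring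
      rw [this, ← hγα]; field_simp
    rw [h6]
    linear_combination c0
  · have h2' : (γ / α) ^ 2 = α := by
      rw [_root_.div_pow, hγα]; field_simp
    rw [hαβ, h2', map_zero, add_zero]
  · have h3' : (γ / α) ^ 3 = γ := by
      have : (γ / α) ^ 3 = γ * γ ^ 2 / α ^ 3 := by ring
      rw [this, hγα]; field_simp
    rw [hγδε, h3', map_zero, zero_mul, add_zero, add_zero]

theorem key2 (hK : FunFld.IsFunctionField k K) (P : FunFld.Place k K)
    (a b : k) (x y : K)
    (heq : y ^ 2 = x ^ 3 + algebraMap k K a * x + algebraMap k K b)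
    (hxy : IntermediateField.adjoin k ({x, y} : Set K) = ⊤)
    (hx : x ∈ FunFld.L (Finsupp.single P 2)) (hx2 : P.ord x = -2)
    (w : k) (hw0 : w ≠ 0) (hwa : a * (w ^ 4 - 1) = 0) (hwb : b * (w ^ 6 - 1) = 0) :
    ∃ σ : K ≃ₐ[k] K, (∀ z : K, P.1 (σ z) = P.1 z) ∧
      σ x = algebraMap k K (w ^ 2) * x ∧ σ y = algebraMap k K (w ^ 3) * y := by
  classical
  set f : k[X][Y] := Y ^ 2 - C (X ^ 3 + C a * X + C b) with hf
  have hfirr : Irreducible f := by
    have : f = WeierstrassCurve.Affine.polynomial (⟨0, 0, 0, a, b⟩ : WeierstrassCurve.Affine k) := by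
      simp [WeierstrassCurve.Affine.polynomial, hf]
    rw [this]; exact WeierstrassCurve.Affine.irreducible_polynomial
  have hev : ∀ s t : K, aevalAeval s t f =
      t ^ 2 - (s ^ 3 + algebraMap k K a * s + algebraMap k K b) := by
    intro s t
    simp only [hf, map_sub, map_pow, aevalAeval_Y, aevalAeval_C, map_add, map_mul, aeval_X, aeval_C]
  have hx0 : x ≠ 0 := by
    rintro rfl
    simp [FunFld.Place.ord] at hx2
  have hw2 : algebraMap k K (w ^ 2) ≠ 0 := by
    rw [Ne, map_eq_zero]; exact pow_ne_zero _ hw0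
  have hw3 : algebraMap k K (w ^ 3) ≠ 0 := by
    rw [Ne, map_eq_zero]; exact pow_ne_zero _ hw0
  have hxt : Transcendental k x := transcendental_of_ord_ne_zero hK P (by rw [hx2]; norm_num)
  have hord' : P.ord (algebraMap k K (w ^ 2) * x) = -2 := by
    rw [Place.ord_mul P hw2 hx0, Place.ord_k, zero_add, hx2]
  have hxt' : Transcendental k (algebraMap k K (w ^ 2) * x) :=
    transcendental_of_ord_ne_zero hK P (by rw [hord']; norm_num)
  have h1 : aevalAeval x y f = 0 := by rw [hev, heq, sub_self]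
  have h2 : aevalAeval (algebraMap k K (w ^ 2) * x) (algebraMap k K (w ^ 3) * y) f = 0 := by
    rw [hev]
    have ha := congrArg (algebraMap k K) hwa
    have hb := congrArg (algebraMap k K) hwb
    simp only [map_mul, map_sub, map_pow, map_one, map_zero] at ha hb
    simp only [map_pow]
    linear_combination (algebraMap k K w) ^ 6 * heq + (algebraMap k K w) ^ 2 * x * ha + hb
  have hxy' : IntermediateField.adjoin k
      ({algebraMap k K (w ^ 2) * x, algebraMap k K (w ^ 3) * y} : Set K) = ⊤ := by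
    rw [eq_top_iff, ← hxy, IntermediateField.adjoin_le_iff]
    rintro z (hz | hz)
    · have hmem : algebraMap k K (w ^ 2)⁻¹ * (algebraMap k K (w ^ 2) * x) ∈
          IntermediateField.adjoin k
            ({algebraMap k K (w ^ 2) * x, algebraMap k K (w ^ 3) * y} : Set K) :=
        mul_mem (IntermediateField.algebraMap_mem _ _)
          (IntermediateField.subset_adjoin _ _ (Set.mem_insert _ _))
      have e : algebraMap k K (w ^ 2)⁻¹ * (algebraMap k K (w ^ 2) * x) = x := by
        rw [← mul_assoc, ← map_mul, inv_mul_cancel₀ (pow_ne_zero _ hw0), map_one, one_mul]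
      rw [e] at hmem
      rw [hz]; exact hmem
    · have hmem : algebraMap k K (w ^ 3)⁻¹ * (algebraMap k K (w ^ 3) * y) ∈
          IntermediateField.adjoin k
            ({algebraMap k K (w ^ 2) * x, algebraMap k K (w ^ 3) * y} : Set K) :=
        mul_mem (IntermediateField.algebraMap_mem _ _)
          (IntermediateField.subset_adjoin _ _ (Set.mem_insert_of_mem _ rfl))
      have e : algebraMap k K (w ^ 3)⁻¹ * (algebraMap k K (w ^ 3) * y) = y := by
        rw [← mul_assoc, ← map_mul, inv_mul_cancel₀ (pow_ne_zero _ hw0), map_one, one_mul]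
      rw [e] at hmem
      rw [hz]; exact hmem
  obtain ⟨σ, hσx, hσy⟩ := exists_algEquiv x y _ _ hxt hxt' f hfirr h1 h2 hxy hxy'
  refine ⟨σ, ?_, hσx, hσy⟩
  have hfix : comapPlace σ P = P := by
    by_contra hne
    have h3 := hx (comapPlace σ P)
    rw [Finsupp.single_eq_of_ne hne, exp_zero] at h3
    change P.1 (σ x) ≤ 1 at h3
    rw [hσx, ← Place.ord_nonneg_iff P (mul_ne_zero hw2 hx0), hord'] at h3
    norm_num at h3
  intro z
  have := congrArg (fun Q : Place k K => Q.1 z) hfix
  exact this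

end

open Classical in
theorem main (k : Type u) (K : Type v) [Field k]
    [IsAlgClosed k] [Field K] [Algebra k K] (h2 : (2 : k) ≠ 0) (h3 : (3 : k) ≠ 0)
    (hK : FunFld.IsFunctionField k K) (hgen : FunFld.genus k K = 1) (P : FunFld.Place k K)
    (a b : k) (hdisc : 4 * a ^ 3 + 27 * b ^ 2 ≠ 0) (x y : K)
    (heq : y ^ 2 = x ^ 3 + algebraMap k K a * x + algebraMap k K b)
    (hxy : IntermediateField.adjoin k ({x, y} : Set K) = ⊤)
    (hx : x ∈ FunFld.L (Finsupp.single P 2)) (hx2 : P.ord x = -2)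
    (hy : y ∈ FunFld.L (Finsupp.single P 3)) (hy3 : P.ord y = -3) :
    Nat.card {σ : K ≃ₐ[k] K // ∀ z : K, P.1 (σ z) = P.1 z} =
      if a = 0 then 6 else if b = 0 then 4 else 2 := by
  have hx0 : x ≠ 0 := by
    rintro rfl
    simp [FunFld.Place.ord] at hx2
  have hy0 : y ≠ 0 := by
    rintro rfl
    simp [FunFld.Place.ord] at hy3
  have gen : ∀ n : ℕ, (∀ w : k, w ≠ 0 →
      ((a * (w ^ 4 - 1) = 0 ∧ b * (w ^ 6 - 1) = 0) ↔ w ^ n = 1)) →
      Nat.card {σ : K ≃ₐ[k] K // ∀ z : K, P.1 (σ z) = P.1 z} = Nat.card (rootsOfUnity n k) := by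
    intro n hn
    have hex : ∀ σ : {σ : K ≃ₐ[k] K // ∀ z : K, P.1 (σ z) = P.1 z}, ∃ ζ : rootsOfUnity n k,
        σ.1 x = algebraMap k K (((ζ : kˣ) : k) ^ 2) * x ∧
        σ.1 y = algebraMap k K (((ζ : kˣ) : k) ^ 3) * y := by
      intro σ
      obtain ⟨w, hw0, hwa, hwb, hσx, hσy⟩ :=
        key1 h2 h3 hK hgen P a b x y heq hx hx2 hy hy3 σ.1 σ.2
      have hwn : w ^ n = 1 := (hn w hw0).mp ⟨hwa, hwb⟩
      refine ⟨⟨Units.mk0 w hw0, ?_⟩, hσx, hσy⟩
      rw [mem_rootsOfUnity]
      apply Units.ext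
      rw [Units.val_pow_eq_pow_val, Units.val_mk0, hwn, Units.val_one]
    choose Φ hΦx hΦy using hex
    have hinj : Function.Injective Φ := by
      intro σ τ h
      apply Subtype.ext
      apply algEquiv_ext x y hxy
      · rw [hΦx, hΦx, h]
      · rw [hΦy, hΦy, h]
    have hsurj : Function.Surjective Φ := by
      intro ζ
      have hζn : ((ζ : kˣ) : k) ^ n = 1 := by
        have := ζ.2
        rw [mem_rootsOfUnity] at this
        have h4 := congrArg Units.val this
        rwa [Units.val_pow_eq_pow_val, Units.val_one] at h4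
      have hζ0 : ((ζ : kˣ) : k) ≠ 0 := Units.ne_zero _
      have hcond := (hn _ hζ0).mpr hζn
      obtain ⟨σ, hσP, hσx, hσy⟩ := key2 hK P a b x y heq hxy hx hx2 _ hζ0 hcond.1 hcond.2
      refine ⟨⟨σ, hσP⟩, ?_⟩
      have e2 : (((Φ ⟨σ, hσP⟩ : rootsOfUnity n k) : kˣ) : k) ^ 2 = ((ζ : kˣ) : k) ^ 2 := by
        have h4 := (hΦx ⟨σ, hσP⟩).symm.trans hσx
        exact (algebraMap k K).injective (mul_right_cancel₀ hx0 h4)
      have e3 : (((Φ ⟨σ, hσP⟩ : rootsOfUnity n k) : kˣ) : k) ^ 3 = ((ζ : kˣ) : k) ^ 3 := by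
        have h4 := (hΦy ⟨σ, hσP⟩).symm.trans hσy
        exact (algebraMap k K).injective (mul_right_cancel₀ hy0 h4)
      have hξ0 : (((Φ ⟨σ, hσP⟩ : rootsOfUnity n k) : kˣ) : k) ≠ 0 := Units.ne_zero _
      apply Subtype.ext
      apply Units.ext
      have h5 : (((Φ ⟨σ, hσP⟩ : rootsOfUnity n k) : kˣ) : k) ^ 2 *
          (((Φ ⟨σ, hσP⟩ : rootsOfUnity n k) : kˣ) : k) =
          (((Φ ⟨σ, hσP⟩ : rootsOfUnity n k) : kˣ) : k) ^ 2 * ((ζ : kˣ) : k) := by
        calc _ = (((Φ ⟨σ, hσP⟩ : rootsOfUnity n k) : kˣ) : k) ^ 3 := by ring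
          _ = ((ζ : kˣ) : k) ^ 3 := e3
          _ = ((ζ : kˣ) : k) ^ 2 * ((ζ : kˣ) : k) := by ring
          _ = _ := by rw [e2]
      exact mul_left_cancel₀ (pow_ne_zero 2 hξ0) h5
    exact Nat.card_congr (Equiv.ofBijective Φ ⟨hinj, hsurj⟩)
  by_cases ha : a = 0
  · rw [if_pos ha]
    have hb : b ≠ 0 := by
      rintro rfl
      apply hdisc
      rw [ha]; ring
    have : NeZero ((6 : ℕ) : k) := ⟨by
      have : ((6 : ℕ) : k) = 2 * 3 := by norm_num
      rw [this]; exact mul_ne_zero h2 h3⟩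
    rw [gen 6, HasEnoughRootsOfUnity.natCard_rootsOfUnity k 6]
    intro w hw0
    rw [ha, zero_mul]
    constructor
    · rintro ⟨-, h⟩
      have := (mul_eq_zero.mp h).resolve_left hb
      linear_combination this
    · intro h
      exact ⟨rfl, by rw [h, sub_self, mul_zero]⟩
  · rw [if_neg ha]
    by_cases hb : b = 0
    · rw [if_pos hb]
      have : NeZero ((4 : ℕ) : k) := ⟨by
        have : ((4 : ℕ) : k) = 2 * 2 := by norm_num
        rw [this]; exact mul_ne_zero h2 h2⟩
      rw [gen 4, HasEnoughRootsOfUnity.natCard_rootsOfUnity k 4]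
      intro w hw0
      rw [hb, zero_mul]
      constructor
      · rintro ⟨h, -⟩
        have := (mul_eq_zero.mp h).resolve_left ha
        linear_combination this
      · intro h
        exact ⟨by rw [h, sub_self, mul_zero], rfl⟩
    · rw [if_neg hb]
      have : NeZero ((2 : ℕ) : k) := ⟨by exact_mod_cast h2⟩
      rw [gen 2, HasEnoughRootsOfUnity.natCard_rootsOfUnity k 2]
      intro w hw0
      constructor
      · rintro ⟨h4, h6⟩
        have h4' : w ^ 4 = 1 := by
          have := (mul_eq_zero.mp h4).resolve_left ha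
          linear_combination this
        have h6' : w ^ 6 = 1 := by
          have := (mul_eq_zero.mp h6).resolve_left hb
          linear_combination this
        have : w ^ 4 * w ^ 2 = w ^ 4 * 1 := by
          have e : w ^ 4 * w ^ 2 = w ^ 6 := by ring
          rw [e, h6', mul_one, h4']
        exact mul_left_cancel₀ (pow_ne_zero 4 hw0) this
      · intro h
        have h4' : w ^ 4 = 1 := by
          have : w ^ 4 = (w ^ 2) ^ 2 := by ring
          rw [this, h, one_pow]
        have h6' : w ^ 6 = 1 := by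
          have : w ^ 6 = (w ^ 2) ^ 3 := by ring
          rw [this, h, one_pow]
        exact ⟨by rw [h4', sub_self, mul_zero], by rw [h6', sub_self, mul_zero]⟩

end Aux

open Classical in
/-- Over an algebraically closed field of characteristic different from 2 and 3, the automorphism group
of an elliptic curve (automorphisms fixing the base point) with invariant j has order 2 if j ≠ 0,
12³, order 4 if j = 12³ and order 6 if j = 0. Stated for the function field K/k of the curve: K of
genus 1 generated by x, y with y² = x³ + a x + b and 4a³ + 27b² ≠ 0, P the place where x has its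
double and y its triple pole (and no other poles), so that j = 12³ · 4a³/(4a³ + 27b²) and the three
cases are a, b ≠ 0; b = 0; a = 0; the automorphisms are the k-algebra automorphisms of K preserving
the valuation of P. -/
theorem result (k : Type u) (K : Type v) [Field k]
    [IsAlgClosed k] [Field K] [Algebra k K] (h2 : (2 : k) ≠ 0) (h3 : (3 : k) ≠ 0)
    (hK : FunFld.IsFunctionField k K) (hgen : FunFld.genus k K = 1) (P : FunFld.Place k K)
    (a b : k) (hdisc : 4 * a ^ 3 + 27 * b ^ 2 ≠ 0) (x y : K)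
    (heq : y ^ 2 = x ^ 3 + algebraMap k K a * x + algebraMap k K b)
    (hxy : IntermediateField.adjoin k ({x, y} : Set K) = ⊤)
    (hx : x ∈ FunFld.L (Finsupp.single P 2)) (hx2 : P.ord x = -2)
    (hy : y ∈ FunFld.L (Finsupp.single P 3)) (hy3 : P.ord y = -3) :
    Nat.card {σ : K ≃ₐ[k] K // ∀ z : K, P.1 (σ z) = P.1 z} =
      if a = 0 then 6 else if b = 0 then 4 else 2 := by
  exact Aux.main k K h2 h3 hK hgen P a b hdisc x y heq hxy hx hx2 hy hy3

end Groth.Agent.S19397
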