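import Groth.Statements.S19398
import Mathlib
import Groth.Agent.Lib.Helper9.Comod5

set_option autoImplicit false
universe u
open GIT

namespace Groth.Agent.S19398

namespace Aux

open TensorProduct Groth.Agent.Helper9

theorem main (k : Type u) [Field k] (A : Type u) [CommRing A] [HopfAlgebra k A]
    (hG : HopfRep.IsLinearlyReductive k A)
    (V W : Type u) [AddCommGroup V] [Module k V] [HopfRep.Comod k A V]
    [AddCommGroup W] [Module k W] [HopfRep.Comod k A W]
    (E : V →ₗ[k] V) (hE₁ : Hoch.IsComodHom A E) (hE₂ : E ∘ₗ E = E)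
    (hE₃ : ∀ x : V, E x = x ↔ x ∈ HopfRep.fixedPts k A V)
    (E' : W →ₗ[k] W) (hE'₁ : Hoch.IsComodHom A E') (hE'₂ : E' ∘ₗ E' = E')
    (hE'₃ : ∀ y : W, E' y = y ↔ y ∈ HopfRep.fixedPts k A W)
    (u : V →ₗ[k] W) (hu : Hoch.IsComodHom A u) :
    E' ∘ₗ u = u ∘ₗ E := by
  set φ : V →ₗ[k] W := E' ∘ₗ u with hφdef
  have hφ : Hoch.IsComodHom A φ := isComodHom_comp hE'₁ hu
  have hrangeE' : ∀ y, E' y ∈ HopfRep.fixedPts k A W :=
    fun y => (hE'₃ (E' y)).mp (LinearMap.congr_fun hE'₂ y)
  have hrangeE : ∀ x, E x ∈ HopfRep.fixedPts k A V :=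
    fun x => (hE₃ (E x)).mp (LinearMap.congr_fun hE₂ x)
  have hu_fix : ∀ x ∈ HopfRep.fixedPts k A V, u x ∈ HopfRep.fixedPts k A W := by
    intro x hx
    have h1 : HopfRep.Comod.coact (k := k) (A := A) x = x ⊗ₜ[k] (1 : A) := hx
    show HopfRep.Comod.coact (k := k) (A := A) (u x) = u x ⊗ₜ[k] (1 : A)
    rw [(isComodHom_iff u).mp hu, h1, LinearMap.rTensor_tmul]
  -- crux
  have hK : ∀ x, E x = 0 → φ x = 0 := by
    have hKsub : HopfRep.IsSubcomod (k := k) (A := A) (LinearMap.ker E) :=
      isSubcomod_ker_of_isComodHom E hE₁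
    have hN₀ : HopfRep.IsSubcomod (k := k) (A := A) (LinearMap.ker φ ⊓ LinearMap.ker E) :=
      isSubcomod_inf _ _ (isSubcomod_ker_of_isComodHom φ hφ) hKsub
    obtain ⟨T', hT', hc⟩ := isSemisimpleComod_of_isLinearlyReductive hG _ hN₀
    have hT : HopfRep.IsSubcomod (k := k) (A := A) (T' ⊓ LinearMap.ker E) :=
      isSubcomod_inf _ _ hT' hKsub
    set T : Submodule k V := T' ⊓ LinearMap.ker E with hTdef
    have hinjT : Function.Injective (φ ∘ₗ T.subtype) := by
      rw [← LinearMap.ker_eq_bot, eq_bot_iff]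
      intro t ht
      rw [LinearMap.mem_ker, LinearMap.comp_apply] at ht
      have h1 : (t : V) ∈ (LinearMap.ker φ ⊓ LinearMap.ker E) ⊓ T' :=
        ⟨⟨ht, t.2.2⟩, t.2.1⟩
      rw [hc.inf_eq_bot, Submodule.mem_bot] at h1
      rw [Submodule.mem_bot]
      exact Subtype.ext h1
    have hTfix : ∀ t ∈ T, t ∈ HopfRep.fixedPts k A V := by
      intro t ht
      obtain ⟨y, hy⟩ := hT t ht
      have hinj2 : Function.Injective ((φ ∘ₗ T.subtype).rTensor A) :=
        Module.Flat.rTensor_preserves_injective_linearMap _ hinjT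
      have hy0 : y - (⟨t, ht⟩ : T) ⊗ₜ[k] (1 : A) = 0 := by
        apply hinj2
        have e1 : (φ ∘ₗ T.subtype).rTensor A y = HopfRep.Comod.coact (k := k) (A := A) (φ t) := by
          rw [LinearMap.rTensor_comp, LinearMap.comp_apply, hy, ← (isComodHom_iff φ).mp hφ]
        have e2 : (φ ∘ₗ T.subtype).rTensor A ((⟨t, ht⟩ : T) ⊗ₜ[k] (1 : A)) = φ t ⊗ₜ[k] (1 : A) := by
          rw [LinearMap.rTensor_tmul]
          rfl
        rw [map_zero, map_sub, e1, e2, sub_eq_zero]
        exact hrangeE' (u t)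
      rw [sub_eq_zero] at hy0
      show HopfRep.Comod.coact (k := k) (A := A) t = t ⊗ₜ[k] (1 : A)
      rw [← hy, hy0, LinearMap.rTensor_tmul]
      rfl
    have hT0 : ∀ t ∈ T, t = 0 := by
      intro t ht
      have h1 : E t = t := (hE₃ t).mpr (hTfix t ht)
      have h2 : E t = 0 := ht.2
      rw [← h1, h2]
    intro x hx
    have hxtop : x ∈ (LinearMap.ker φ ⊓ LinearMap.ker E) ⊔ T' := by
      rw [hc.sup_eq_top]; trivial
    obtain ⟨n, hn, t', ht', hsum⟩ := Submodule.mem_sup.mp hxtop
    have ht'K : t' ∈ LinearMap.ker E := by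
      have : t' = x - n := by rw [← hsum]; abel
      rw [this]
      exact Submodule.sub_mem _ hx hn.2
    have ht'0 : t' = 0 := hT0 t' ⟨ht', ht'K⟩
    rw [← hsum, ht'0, add_zero]
    exact hn.1
  apply LinearMap.ext
  intro x
  have h1 : x = E x + (x - E x) := by abel
  have h2 : E (x - E x) = 0 := by
    rw [map_sub, ← LinearMap.comp_apply, hE₂, sub_self]
  have h3 : φ (x - E x) = 0 := hK _ h2
  have h4 : φ (E x) = u (E x) := (hE'₃ _).mpr (hu_fix _ (hrangeE x))
  show φ x = u (E x)
  rw [← h4]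
  conv_lhs => rw [h1]
  rw [map_add, h3, add_zero]

end Aux

/-- For a reductive group G (here: every finite-dimensional representation completely reducible, i.e.
linearly reductive) acting linearly on vector spaces V and V′ of any dimension, with Reynolds
operators E and E′ (the projections onto the invariants along the unique invariant complement),
every G-linear map u : V → V′ satisfies E′ ∘ u = u ∘ E. Stated for comodules over a commutative Hopf
algebra A whose finite-dimensional comodules are semisimple; a Reynolds operator is a comodule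
endomorphism that is idempotent and fixes exactly the invariant vectors (such an operator is the
projection onto the invariants along an invariant complement, which is unique). -/
theorem result (k : Type u) [Field k] (A : Type u) [CommRing A] [HopfAlgebra k A]
    (hG : HopfRep.IsLinearlyReductive k A)
    (V W : Type u) [AddCommGroup V] [Module k V] [HopfRep.Comod k A V]
    [AddCommGroup W] [Module k W] [HopfRep.Comod k A W]
    (E : V →ₗ[k] V) (hE₁ : Hoch.IsComodHom A E) (hE₂ : E ∘ₗ E = E)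
    (hE₃ : ∀ x : V, E x = x ↔ x ∈ HopfRep.fixedPts k A V)
    (E' : W →ₗ[k] W) (hE'₁ : Hoch.IsComodHom A E') (hE'₂ : E' ∘ₗ E' = E')
    (hE'₃ : ∀ y : W, E' y = y ↔ y ∈ HopfRep.fixedPts k A W)
    (u : V →ₗ[k] W) (hu : Hoch.IsComodHom A u) :
    E' ∘ₗ u = u ∘ₗ E := by
  exact Aux.main k A hG V W E hE₁ hE₂ hE₃ E' hE'₁ hE'₂ hE'₃ u hu

end Groth.Agent.S19398
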