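import Groth.Statements.S19400
import Mathlib
import Groth.Agent.Lib.Helper9.OrbitLib2
import Groth.Agent.S19602
-- import your own Groth.Agent.* helpers here

set_option autoImplicit false
universe u
open GIT

namespace Groth.Agent.S19400

namespace Aux
open Groth.Agent.Helper9 Groth.Agent.Helper9.OrbitLib

theorem surj (k : Type u) [Field k] [IsAlgClosed k]
    (A : Type u) [CommRing A] [HopfAlgebra k A]
    (hG : HopfRep.IsLinearlyReductive k A)
    (R : Type u) [CommRing R] [Algebra k R] [Algebra.FiniteType k R]
    [HopfRep.Comod k A R] [GLin.IsCoactAlg k A R]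
    (y : GLin.invariants k A R →ₐ[k] k) :
    ∃ x : R →ₐ[k] k, x.comp (GLin.invariants k A R).val = y := by
  have hJ : Ideal.map (algebraMap (GLin.invariants k A R) R) (RingHom.ker y) ≠ ⊤ := by
    intro htop
    have h1 : ((1 : GLin.invariants k A R) : R) ∈
        Ideal.map (algebraMap (GLin.invariants k A R) R) (RingHom.ker y) := by
      rw [htop]; trivial
    have h2 := mem_of_mem_map_invariants hG (RingHom.ker y) 1 h1
    rw [RingHom.mem_ker, map_one] at h2
    exact one_ne_zero h2
  obtain ⟨x, hx⟩ := exists_algHom_of_ne_top (k := k) _ hJ
  refine ⟨x, ?_⟩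
  apply AlgHom.ext
  intro f
  have h1 : f - algebraMap k (GLin.invariants k A R) (y f) ∈ RingHom.ker y := by
    rw [RingHom.mem_ker, map_sub, AlgHom.commutes]
    simp
  have h2 : algebraMap (GLin.invariants k A R) R (f - algebraMap k (GLin.invariants k A R) (y f)) ∈
      RingHom.ker x := hx (Ideal.mem_map_of_mem _ h1)
  rw [RingHom.mem_ker, map_sub, map_sub, ← IsScalarTower.algebraMap_apply, AlgHom.commutes,
    sub_eq_zero] at h2
  have h3 : x (algebraMap (GLin.invariants k A R) R f) = y f := by
    rw [h2]; simp
  exact h3

end Aux

/-- For a reductive group G (here: every finite-dimensional representation completely reducible, i.e.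
linearly reductive; any characteristic) acting on an affine variety X = Spec R over an algebraically
closed field with all orbits of closed points closed, the morphism X → Y = Spec R^G is a geometric
quotient; in particular it is surjective on closed points and its fibre over every closed point of Y
is a single orbit. This row states those two point-set assertions in coaction form: G = Spec A with
A a finitely generated commutative Hopf algebra whose finite-dimensional comodules are semisimple, R
of finite type with a multiplicative unital coaction, points as k-algebra maps. The published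
statement takes X to be a variety (reduced and irreducible); this row does not assume R reduced or a
domain. -/
theorem result (k : Type u) [Field k] [IsAlgClosed k]
    (A : Type u) [CommRing A] [HopfAlgebra k A] [Algebra.FiniteType k A]
    (hG : HopfRep.IsLinearlyReductive k A)
    (R : Type u) [CommRing R] [Algebra k R] [Algebra.FiniteType k R]
    [HopfRep.Comod k A R] [GLin.IsCoactAlg k A R]
    (hcl : ∀ x : R →ₐ[k] k, GLin.IsClosedOrbit k A x)
    (y : GLin.invariants k A R →ₐ[k] k) :
    (∃ x : R →ₐ[k] k, x.comp (GLin.invariants k A R).val = y) ∧
      ∀ x x' : R →ₐ[k] k, x.comp (GLin.invariants k A R).val = y →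
        x'.comp (GLin.invariants k A R).val = y →
          ∃ g : A →ₐ[k] k, x' = GLin.actPt k g x := by
  refine ⟨Aux.surj k A hG R y, ?_⟩
  intro x x' hx hx'
  obtain ⟨z, hz, hz'⟩ := (Groth.Agent.S19602.result k A hG R x x').mp (hx.trans hx'.symm)
  obtain ⟨g, hg⟩ := Groth.Agent.Helper9.OrbitLib.exists_actPt_of_isClosedOrbit x z (hcl x) hz
  obtain ⟨g', hg'⟩ := Groth.Agent.Helper9.OrbitLib.exists_actPt_of_isClosedOrbit x' z (hcl x') hz'
  exact Groth.Agent.Helper9.OrbitLib.exists_actPt_of_actPt_eq g g' x x' (hg.symm.trans hg')

end Groth.Agent.S19400
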