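import Groth.Statements.S19422
import Mathlib
import Groth.Agent.Lib.Helper9.GmDiag
-- import your own Groth.Agent.* helpers here

set_option autoImplicit false
universe u
open TensorProduct LaurentPolynomial
open GIT

namespace Groth.Agent.S19422

namespace Aux
open TensorProduct LaurentPolynomial Groth.Agent.Helper9.GmDiag

section
variable {k : Type u} [Field k]
  {ι : Type u} [Fintype ι] [HopfRep.Comod k k[T;T⁻¹] (MvPolynomial ι k)]
  [GLin.IsCoactAlg k k[T;T⁻¹] (MvPolynomial ι k)]

theorem main (r : ι → ℤ)
    (hr : ∀ i : ι, HopfRep.Comod.coact (k := k) (A := k[T;T⁻¹]) (MvPolynomial.X i : MvPolynomial ι k) =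
      (MvPolynomial.X i : MvPolynomial ι k) ⊗ₜ[k] (T (r i) : k[T;T⁻¹]))
    (v : ι → k) :
    GLin.IsSemistableVec k k[T;T⁻¹] v ↔ ∃ i j : ι, v i ≠ 0 ∧ v j ≠ 0 ∧ r i ≤ 0 ∧ 0 ≤ r j := by
  classical
  constructor
  · intro hss
    unfold GLin.IsSemistableVec GLin.IsNullform at hss
    push Not at hss
    obtain ⟨F, hF, d, hd, hFd, hne⟩ := hss
    rw [MvPolynomial.eval_eq] at hne
    obtain ⟨m, hm, hmne⟩ := Finset.exists_ne_zero_of_sum_ne_zero hne
    have hwt := (mem_invariants_iff_wt r hr F).mp hF m hm
    have hv : ∀ i ∈ m.support, v i ≠ 0 := by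
      intro i hi h0
      apply hmne
      have : ∏ i ∈ m.support, v i ^ m i = 0 := by
        apply Finset.prod_eq_zero hi
        rw [h0]
        exact zero_pow (Finsupp.mem_support_iff.mp hi)
      rw [this, mul_zero]
    have hdeg : m.degree = d := by
      by_contra hnd
      exact (MvPolynomial.mem_support_iff.mp hm) (hFd.coeff_eq_zero hnd)
    have hsupp : m.support.Nonempty := by
      rw [Finset.nonempty_iff_ne_empty]
      intro hem
      rw [Finsupp.support_eq_empty] at hem
      rw [hem] at hdeg
      simp at hdeg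
      omega
    rw [wt_eq_sum] at hwt
    have hpos : ∀ i ∈ m.support, (0 : ℤ) < m i := by
      intro i hi
      have := Finsupp.mem_support_iff.mp hi
      positivity
    have h1 : ∃ i ∈ m.support, r i ≤ 0 := by
      by_contra hcon
      push Not at hcon
      have : (0 : ℤ) < ∑ i ∈ m.support, (m i : ℤ) * r i :=
        Finset.sum_pos (fun i hi => mul_pos (hpos i hi) (hcon i hi)) hsupp
      omega
    have h2 : ∃ j ∈ m.support, 0 ≤ r j := by
      by_contra hcon
      push Not at hcon
      have : ∑ i ∈ m.support, (m i : ℤ) * r i < 0 :=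
        Finset.sum_neg (fun i hi => mul_neg_of_pos_of_neg (hpos i hi) (hcon i hi)) hsupp
      omega
    obtain ⟨i, hi, hri⟩ := h1
    obtain ⟨j, hj, hrj⟩ := h2
    exact ⟨i, j, hv i hi, hv j hj, hri, hrj⟩
  · rintro ⟨i, j, hvi, hvj, hri, hrj⟩
    intro hnull
    by_cases h0 : r i = 0
    · have hmem : (MvPolynomial.X i : MvPolynomial ι k) ∈
          GLin.invariants k k[T;T⁻¹] (MvPolynomial ι k) := by
        show HopfRep.Comod.coact (k := k) (A := k[T;T⁻¹]) (MvPolynomial.X i : MvPolynomial ι k) = _
        rw [hr, h0, T_zero]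
      have := hnull _ hmem 1 one_pos (MvPolynomial.isHomogeneous_X k i)
      rw [MvPolynomial.eval_X] at this
      exact hvi this
    · let a : ℕ := (r j).toNat
      let b : ℕ := (-(r i)).toNat
      have hb : 0 < b := by
        show 0 < (-(r i)).toNat
        omega
      have hmem : (MvPolynomial.X i ^ a * MvPolynomial.X j ^ b : MvPolynomial ι k) ∈
          GLin.invariants k k[T;T⁻¹] (MvPolynomial ι k) := by
        show HopfRep.Comod.coact (k := k) (A := k[T;T⁻¹])
          (MvPolynomial.X i ^ a * MvPolynomial.X j ^ b : MvPolynomial ι k) = _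
        rw [GLin.IsCoactAlg.coact_mul, coact_pow, coact_pow, hr, hr,
          Algebra.TensorProduct.tmul_pow, Algebra.TensorProduct.tmul_pow,
          Algebra.TensorProduct.tmul_mul_tmul, T_pow, T_pow, ← T_add]
        have : (a : ℤ) * r i + (b : ℤ) * r j = 0 := by
          show ((r j).toNat : ℤ) * r i + ((-(r i)).toNat : ℤ) * r j = 0
          rw [Int.toNat_of_nonneg hrj, Int.toNat_of_nonneg (by omega)]
          ring
        rw [this, T_zero]
      have hhom : (MvPolynomial.X i ^ a * MvPolynomial.X j ^ b : MvPolynomial ι k).IsHomogeneous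
          (1 * a + 1 * b) :=
        ((MvPolynomial.isHomogeneous_X k i).pow a).mul ((MvPolynomial.isHomogeneous_X k j).pow b)
      have := hnull _ hmem (1 * a + 1 * b) (by omega) hhom
      rw [map_mul, map_pow, map_pow, MvPolynomial.eval_X, MvPolynomial.eval_X] at this
      exact mul_ne_zero (pow_ne_zero _ hvi) (pow_ne_zero _ hvj) this

end
end Aux

/-- Over an algebraically closed field k, let the multiplicative group, whose coordinate Hopf algebra is
the Laurent polynomial ring, act diagonally on affine ι-space, ι finite: the coaction on the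
polynomial ring is multiplicative and sends the coordinate function X_i to X_i ⊗ T^(r_i) for
integers r_i. Then a vector v is semistable (some invariant homogeneous polynomial of positive
degree does not vanish at v) if and only if there are indices i and j, possibly equal, with v_i ≠ 0,
v_j ≠ 0 and r_i ≤ 0 ≤ r_j, i.e. the origin lies in the convex hull of the weights of v. (Stated for
the ambient projective space on its affine cone; the published statement is for a point of a closed
invariant subvariety, whose semistability is that of the point in the ambient space.) -/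
theorem result (k : Type u) [Field k] [IsAlgClosed k]
    (ι : Type u) [Fintype ι] [HopfRep.Comod k k[T;T⁻¹] (MvPolynomial ι k)] [GLin.IsCoactAlg k k[T;T⁻¹] (MvPolynomial ι k)]
    (r : ι → ℤ)
    (hr : ∀ i : ι, HopfRep.Comod.coact (k := k) (A := k[T;T⁻¹]) (MvPolynomial.X i : MvPolynomial ι k) =
      (MvPolynomial.X i : MvPolynomial ι k) ⊗ₜ[k] (T (r i) : k[T;T⁻¹]))
    (v : ι → k) :
    GLin.IsSemistableVec k k[T;T⁻¹] v ↔ ∃ i j : ι, v i ≠ 0 ∧ v j ≠ 0 ∧ r i ≤ 0 ∧ 0 ≤ r j := by
  exact Aux.main r hr v

end Groth.Agent.S19422
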