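import Groth.Statements.S19423
import Mathlib
import Groth.Agent.Lib.Helper9.GmDiag2
-- import your own Groth.Agent.* helpers here

set_option autoImplicit false
universe u
open TensorProduct LaurentPolynomial
open GIT

namespace Groth.Agent.S19423

namespace Aux
open TensorProduct LaurentPolynomial Groth.Agent.Helper9.GmDiag

section
variable {k : Type u} [Field k]
  {ι : Type u} [Fintype ι]

/-- the core: a map to the Laurent polynomial ring with monomial values and nonnegative exponents
on the nonzero coordinates, whose image in the spectrum is closed, has zero exponents there -/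
theorem core (φ : MvPolynomial ι k →ₐ[k] k[T;T⁻¹]) (v : ι → k) (s : ι → ℤ)
    (hφ : ∀ i, φ (MvPolynomial.X i) = LaurentPolynomial.C (v i) * T (s i))
    (hnn : ∀ i, v i ≠ 0 → 0 ≤ s i)
    (hcl : IsClosed (Set.range (PrimeSpectrum.comap φ.toRingHom))) :
    ∀ i, v i ≠ 0 → s i = 0 := by
  classical
  intro i hvi
  by_contra hsi
  have hpos : 0 < s i := lt_of_le_of_ne (hnn i hvi) (Ne.symm hsi)
  let h : MvPolynomial ι k →ₐ[k] Polynomial k := MvPolynomial.aeval (fun j => if 0 ≤ s j then
      Polynomial.C (v j) * Polynomial.X ^ (s j).toNat else 0)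
  have hh : (Polynomial.toLaurentAlg (R := k)).comp h = φ := by
    apply MvPolynomial.algHom_ext
    intro j
    rw [hφ, AlgHom.comp_apply, MvPolynomial.aeval_X]
    by_cases h0 : 0 ≤ s j
    · rw [if_pos h0]
      show Polynomial.toLaurent _ = _
      rw [map_mul, map_pow, Polynomial.toLaurent_C, Polynomial.toLaurent_X, T_pow,
        mul_one, Int.toNat_of_nonneg h0]
    · rw [if_neg h0]
      have hvj : v j = 0 := by
        by_contra hne
        exact h0 (hnn j hne)
      rw [hvj]
      simp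
  let w : MvPolynomial ι k →ₐ[k] k := (Polynomial.aeval (0 : k)).comp h
  have hker : RingHom.ker φ ≤ RingHom.ker w := by
    intro f hf
    rw [RingHom.mem_ker] at hf ⊢
    have h1 : Polynomial.toLaurent (h f) = 0 := by
      rw [← hf, ← hh]; rfl
    have h2 : h f = 0 := by
      apply Polynomial.toLaurent_injective
      rw [h1, map_zero]
    show Polynomial.aeval (0 : k) (h f) = 0
    rw [h2, map_zero]
  have hwprime : (RingHom.ker w).IsPrime := RingHom.ker_isPrime _
  let pw : PrimeSpectrum (MvPolynomial ι k) := ⟨RingHom.ker w, hwprime⟩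
  have hmem : pw ∈ closure (Set.range (PrimeSpectrum.comap φ.toRingHom)) := by
    rw [PrimeSpectrum.closure_range_comap, PrimeSpectrum.mem_zeroLocus]
    exact hker
  rw [hcl.closure_eq] at hmem
  obtain ⟨q, hq⟩ := hmem
  have hXi : (MvPolynomial.X i : MvPolynomial ι k) ∈ RingHom.ker w := by
    rw [RingHom.mem_ker]
    show Polynomial.aeval (0 : k) (h (MvPolynomial.X i)) = 0
    rw [MvPolynomial.aeval_X, if_pos hpos.le]
    have : (s i).toNat ≠ 0 := by omega
    simp [this]
  have h1 : (MvPolynomial.X i : MvPolynomial ι k) ∈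
      (PrimeSpectrum.comap φ.toRingHom q).asIdeal := by
    rw [hq]; exact hXi
  have h2 : φ (MvPolynomial.X i) ∈ q.asIdeal := h1
  rw [hφ] at h2
  have h3 : (1 : k[T;T⁻¹]) ∈ q.asIdeal := by
    have := q.asIdeal.mul_mem_left (LaurentPolynomial.C (v i)⁻¹ * T (-(s i))) h2
    have e : LaurentPolynomial.C (v i)⁻¹ * T (-(s i)) * (LaurentPolynomial.C (v i) * T (s i)) =
        (1 : k[T;T⁻¹]) := by
      have e1 : LaurentPolynomial.C (v i)⁻¹ * T (-(s i)) * (LaurentPolynomial.C (v i) * T (s i)) =
          (LaurentPolynomial.C (v i)⁻¹ * LaurentPolynomial.C (v i)) * (T (-(s i)) * T (s i)) := by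
        ring
      rw [e1, ← map_mul, inv_mul_cancel₀ hvi, ← T_add, neg_add_cancel, T_zero, map_one, mul_one]
    rwa [e] at this
  exact q.isPrime.ne_top ((Ideal.eq_top_iff_one _).mpr h3)

variable [HopfRep.Comod k k[T;T⁻¹] (MvPolynomial ι k)]
  [GLin.IsCoactAlg k k[T;T⁻¹] (MvPolynomial ι k)]

theorem closed_of (r : ι → ℤ)
    (hr : ∀ i : ι, HopfRep.Comod.coact (k := k) (A := k[T;T⁻¹]) (MvPolynomial.X i : MvPolynomial ι k) =
      (MvPolynomial.X i : MvPolynomial ι k) ⊗ₜ[k] (T (r i) : k[T;T⁻¹]))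
    (v : ι → k) (i j : ι) (hvi : v i ≠ 0) (hvj : v j ≠ 0) (hri : r i < 0) (hrj : 0 < r j) :
    GLin.IsClosedOrbit k k[T;T⁻¹] (GLin.vecPt k ι v) := by
  unfold GLin.IsClosedOrbit
  apply IsClosedMap.isClosed_range
  apply PrimeSpectrum.isClosedMap_comap_of_isIntegral
  set φ := GLin.orbitHom k k[T;T⁻¹] (GLin.vecPt k ι v) with hφdef
  have hX : ∀ l, φ (MvPolynomial.X l) = LaurentPolynomial.C (v l) * T (r l) :=
    fun l => orbitHom_X r hr v l
  intro f
  let _ : Algebra (MvPolynomial ι k) k[T;T⁻¹] := φ.toRingHom.toAlgebra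
  show IsIntegral (MvPolynomial ι k) f
  have hmap : ∀ p : MvPolynomial ι k, algebraMap (MvPolynomial ι k) k[T;T⁻¹] p = φ p := fun _ => rfl
  have hCC : ∀ a : k, φ (MvPolynomial.C a) = LaurentPolynomial.C a := by
    intro a
    rw [← MvPolynomial.algebraMap_eq]
    exact φ.commutes a
  have key := isIntegral_laurent (k := k) (R₀ := MvPolynomial ι k) (RingHom.id k[T;T⁻¹])
    (fun a => by
      have : (LaurentPolynomial.C a : k[T;T⁻¹]) =
          algebraMap (MvPolynomial ι k) k[T;T⁻¹] (MvPolynomial.C a) := by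
        rw [hmap, hCC]
      rw [RingHom.id_apply, this]
      exact isIntegral_algebraMap)
    (by
      rw [RingHom.id_apply]
      apply IsIntegral.of_pow (n := (r j).toNat) (by omega)
      have : (T 1 : k[T;T⁻¹]) ^ (r j).toNat =
          algebraMap (MvPolynomial ι k) k[T;T⁻¹] (MvPolynomial.C (v j)⁻¹ * MvPolynomial.X j) := by
        rw [hmap, map_mul, hX, T_pow, mul_one, Int.toNat_of_nonneg hrj.le,
          hCC, ← mul_assoc, ← map_mul, inv_mul_cancel₀ hvj, map_one, one_mul]
      rw [this]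
      exact isIntegral_algebraMap)
    (by
      rw [RingHom.id_apply]
      apply IsIntegral.of_pow (n := (-(r i)).toNat) (by omega)
      have : (T (-1) : k[T;T⁻¹]) ^ (-(r i)).toNat =
          algebraMap (MvPolynomial ι k) k[T;T⁻¹] (MvPolynomial.C (v i)⁻¹ * MvPolynomial.X i) := by
        rw [hmap, map_mul, hX, T_pow, Int.toNat_of_nonneg (by omega),
          hCC, ← mul_assoc, ← map_mul, inv_mul_cancel₀ hvi, map_one, one_mul]
        congr 1
        ring
      rw [this]
      exact isIntegral_algebraMap)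
    f
  exact key

theorem finStab_of (r : ι → ℤ)
    (hr : ∀ i : ι, HopfRep.Comod.coact (k := k) (A := k[T;T⁻¹]) (MvPolynomial.X i : MvPolynomial ι k) =
      (MvPolynomial.X i : MvPolynomial ι k) ⊗ₜ[k] (T (r i) : k[T;T⁻¹]))
    (v : ι → k) (i : ι) (hvi : v i ≠ 0) (hri : r i ≠ 0) :
    GLin.HasFiniteStab k k[T;T⁻¹] (GLin.vecPt k ι v) := by
  unfold GLin.HasFiniteStab
  set J := GLin.stabIdeal k k[T;T⁻¹] (GLin.vecPt k ι v) with hJ
  set φ := GLin.orbitHom k k[T;T⁻¹] (GLin.vecPt k ι v) with hφdef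
  have hX : ∀ l, φ (MvPolynomial.X l) = LaurentPolynomial.C (v l) * T (r l) :=
    fun l => orbitHom_X r hr v l
  have h1 : (MvPolynomial.X i - MvPolynomial.C (v i) : MvPolynomial ι k) ∈
      RingHom.ker (GLin.vecPt k ι v) := by
    rw [RingHom.mem_ker, map_sub]
    simp
  have h2 : φ (MvPolynomial.X i - MvPolynomial.C (v i)) ∈ J := Ideal.mem_map_of_mem _ h1
  have h3 : (T (r i) - 1 : k[T;T⁻¹]) ∈ J := by
    have := J.mul_mem_left (LaurentPolynomial.C (v i)⁻¹) h2
    have e : LaurentPolynomial.C (v i)⁻¹ * φ (MvPolynomial.X i - MvPolynomial.C (v i)) =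
        (T (r i) - 1 : k[T;T⁻¹]) := by
      have hCC : φ (MvPolynomial.C (v i)) = LaurentPolynomial.C (v i) := by
        rw [← MvPolynomial.algebraMap_eq]
        exact φ.commutes (v i)
      rw [map_sub, hX, hCC, mul_sub, ← mul_assoc, ← map_mul, inv_mul_cancel₀ hvi, map_one, one_mul]
    rwa [e] at this
  have hT1 : Ideal.Quotient.mk J (T (r i)) = 1 := by
    have : Ideal.Quotient.mk J (T (r i) - 1) = 0 := Ideal.Quotient.eq_zero_iff_mem.mpr h3
    rw [map_sub, map_one, sub_eq_zero] at this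
    exact this
  have hT2 : Ideal.Quotient.mk J (T (-(r i))) = 1 := by
    have : Ideal.Quotient.mk J (T (-(r i))) * Ideal.Quotient.mk J (T (r i)) = 1 := by
      rw [← map_mul, ← T_add, neg_add_cancel, T_zero, map_one]
    rwa [hT1, mul_one] at this
  have hnat : ((r i).natAbs : ℤ) = r i ∨ ((r i).natAbs : ℤ) = -(r i) := by omega
  have hnpos : 0 < (r i).natAbs := Int.natAbs_pos.mpr hri
  have hTn : ∀ m : ℤ, (m = r i ∨ m = -(r i)) → Ideal.Quotient.mk J (T m) = 1 := by
    rintro m (rfl | rfl)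
    · exact hT1
    · exact hT2
  have hint : Algebra.IsIntegral k (k[T;T⁻¹] ⧸ J) := by
    refine ⟨fun b => ?_⟩
    obtain ⟨f, rfl⟩ := Ideal.Quotient.mk_surjective b
    refine isIntegral_laurent (k := k) (R₀ := k) (Ideal.Quotient.mk J) (fun a => ?_) ?_ ?_ f
    · have : Ideal.Quotient.mk J (LaurentPolynomial.C a) = algebraMap k (k[T;T⁻¹] ⧸ J) a := rfl
      rw [this]
      exact isIntegral_algebraMap
    · apply IsIntegral.of_pow hnpos
      rw [← map_pow, T_pow, mul_one, hTn _ (by omega)]
      exact isIntegral_one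
    · apply IsIntegral.of_pow hnpos
      rw [← map_pow, T_pow, hTn _ (by omega)]
      exact isIntegral_one
  have hft : Algebra.FiniteType k (k[T;T⁻¹] ⧸ J) :=
    Algebra.FiniteType.of_surjective (Ideal.Quotient.mkₐ k J) (Ideal.Quotient.mkₐ_surjective k J)
  exact Algebra.IsIntegral.finite

theorem exists_of_finStab (r : ι → ℤ)
    (hr : ∀ i : ι, HopfRep.Comod.coact (k := k) (A := k[T;T⁻¹]) (MvPolynomial.X i : MvPolynomial ι k) =
      (MvPolynomial.X i : MvPolynomial ι k) ⊗ₜ[k] (T (r i) : k[T;T⁻¹]))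
    (v : ι → k) (hfin : GLin.HasFiniteStab k k[T;T⁻¹] (GLin.vecPt k ι v)) :
    ∃ i, v i ≠ 0 ∧ r i ≠ 0 := by
  by_contra hcon
  push Not at hcon
  unfold GLin.HasFiniteStab at hfin
  set φ := GLin.orbitHom k k[T;T⁻¹] (GLin.vecPt k ι v) with hφdef
  have hX : ∀ l, φ (MvPolynomial.X l) = LaurentPolynomial.C (v l) * T (r l) :=
    fun l => orbitHom_X r hr v l
  have hφ : φ = (Algebra.ofId k k[T;T⁻¹]).comp (GLin.vecPt k ι v) := by
    apply MvPolynomial.algHom_ext
    intro l
    rw [hX, AlgHom.comp_apply, MvPolynomial.aeval_X]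
    show _ = LaurentPolynomial.C (v l)
    by_cases hvl : v l = 0
    · rw [hvl, map_zero, zero_mul]
    · rw [hcon l hvl, T_zero, mul_one]
  have hJ : GLin.stabIdeal k k[T;T⁻¹] (GLin.vecPt k ι v) = ⊥ := by
    unfold GLin.stabIdeal
    rw [eq_bot_iff, Ideal.map_le_iff_le_comap]
    intro f hf
    rw [RingHom.mem_ker] at hf
    show φ f ∈ (⊥ : Ideal k[T;T⁻¹])
    rw [hφ, AlgHom.comp_apply, hf, map_zero]
    exact Ideal.zero_mem _
  rw [hJ] at hfin
  have : Module.Finite k k[T;T⁻¹] :=
    Module.Finite.equiv (AlgEquiv.quotientBot k k[T;T⁻¹]).toLinearEquiv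
  exact not_finite_laurent this

theorem main (r : ι → ℤ)
    (hr : ∀ i : ι, HopfRep.Comod.coact (k := k) (A := k[T;T⁻¹]) (MvPolynomial.X i : MvPolynomial ι k) =
      (MvPolynomial.X i : MvPolynomial ι k) ⊗ₜ[k] (T (r i) : k[T;T⁻¹]))
    (v : ι → k) :
    GLin.IsStableVec k k[T;T⁻¹] v ↔ ∃ i j : ι, v i ≠ 0 ∧ v j ≠ 0 ∧ r i < 0 ∧ 0 < r j := by
  constructor
  · rintro ⟨hcl, hfin⟩
    obtain ⟨i, hvi, hri⟩ := exists_of_finStab r hr v hfin
    set φ := GLin.orbitHom k k[T;T⁻¹] (GLin.vecPt k ι v) with hφdef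
    have hX : ∀ l, φ (MvPolynomial.X l) = LaurentPolynomial.C (v l) * T (r l) :=
      fun l => orbitHom_X r hr v l
    have hneg : ∃ j, v j ≠ 0 ∧ r j < 0 := by
      by_contra hcon
      push Not at hcon
      have h0 := core φ v r hX hcon hcl
      rcases lt_or_gt_of_ne hri with h | h
      · exact absurd h (not_lt.mpr (hcon i hvi))
      · exact hri (h0 i hvi)
    have hpos : ∃ j, v j ≠ 0 ∧ 0 < r j := by
      by_contra hcon
      push Not at hcon
      let φ' : MvPolynomial ι k →ₐ[k] k[T;T⁻¹] :=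
        (LaurentPolynomial.invert (R := k) : k[T;T⁻¹] →ₐ[k] k[T;T⁻¹]).comp φ
      have hX' : ∀ l, φ' (MvPolynomial.X l) = LaurentPolynomial.C (v l) * T (-(r l)) := by
        intro l
        show LaurentPolynomial.invert (φ (MvPolynomial.X l)) = _
        rw [hX, map_mul, invert_C, invert_T]
      have hcl' : IsClosed (Set.range (PrimeSpectrum.comap φ'.toRingHom)) := by
        have e : Set.range (PrimeSpectrum.comap φ'.toRingHom) =
            Set.range (PrimeSpectrum.comap φ.toRingHom) := by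
          have e1 : φ'.toRingHom = (LaurentPolynomial.invert (R := k) : k[T;T⁻¹] →+* k[T;T⁻¹]).comp
            φ.toRingHom := rfl
          rw [e1, PrimeSpectrum.comap_comp]
          show Set.range (PrimeSpectrum.comap φ.toRingHom ∘ PrimeSpectrum.comap _) = _
          apply Function.Surjective.range_comp
          exact (PrimeSpectrum.comapEquiv (LaurentPolynomial.invert (R := k)).toRingEquiv).surjective
        rw [e]; exact hcl
      have h0 := core φ' v (fun l => -(r l)) hX' (fun l hl => by have := hcon l hl; omega) hcl'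
      have := h0 i hvi
      omega
    obtain ⟨j, hvj, hrj⟩ := hneg
    obtain ⟨j', hvj', hrj'⟩ := hpos
    exact ⟨j, j', hvj, hvj', hrj, hrj'⟩
  · rintro ⟨i, j, hvi, hvj, hri, hrj⟩
    exact ⟨closed_of r hr v i j hvi hvj hri hrj, finStab_of r hr v i hvi (by omega)⟩

end
end Aux

/-- Over an algebraically closed field k, let the multiplicative group, whose coordinate Hopf algebra is
the Laurent polynomial ring, act diagonally on affine ι-space, ι finite: the coaction on the
polynomial ring is multiplicative and sends the coordinate function X_i to X_i ⊗ T^(r_i) for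
integers r_i. Then a vector v is stable (the orbit of the point v of affine space is closed and its
stabiliser is a finite group scheme) if and only if there are indices i and j with v_i ≠ 0, v_j ≠ 0
and r_i < 0 < r_j, i.e. the origin is an interior point of the convex hull of the weights of v.
(Stated for the ambient projective space on its affine cone, where stability means a closed orbit
with finite stabiliser in the cone.) -/
theorem result (k : Type u) [Field k] [IsAlgClosed k]
    (ι : Type u) [Fintype ι] [HopfRep.Comod k k[T;T⁻¹] (MvPolynomial ι k)] [GLin.IsCoactAlg k k[T;T⁻¹] (MvPolynomial ι k)]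
    (r : ι → ℤ)
    (hr : ∀ i : ι, HopfRep.Comod.coact (k := k) (A := k[T;T⁻¹]) (MvPolynomial.X i : MvPolynomial ι k) =
      (MvPolynomial.X i : MvPolynomial ι k) ⊗ₜ[k] (T (r i) : k[T;T⁻¹]))
    (v : ι → k) :
    GLin.IsStableVec k k[T;T⁻¹] v ↔ ∃ i j : ι, v i ≠ 0 ∧ v j ≠ 0 ∧ r i < 0 ∧ 0 < r j := by
  exact Aux.main r hr v

end Groth.Agent.S19423
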