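import Groth.Statements.S19436
-- import your own Groth.Agent.* helpers here
import Mathlib.RingTheory.Nakayama
import Mathlib.RingTheory.Jacobson.Ideal
import Mathlib.LinearAlgebra.FiniteDimensional.Lemmas
import Mathlib.RingTheory.LocalRing.Quotient

set_option autoImplicit false
universe u
open CAlg

namespace Groth.Agent.S19436

/-- For a Noetherian local commutative algebra R over a field k, with maximal ideal M, and an ideal I of
R whose quotient R/I is finite-dimensional over k of dimension n, the power M^n lies in I. -/
theorem result (k : Type u) [Field k] (R : Type u) [CommRing R]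
    [Algebra k R] [IsNoetherianRing R] [IsLocalRing R] (I : Ideal R) [Module.Finite k (R ⧸ I)] (n : ℕ)
    (hn : Module.finrank k (R ⧸ I) = n) : IsLocalRing.maximalIdeal R ^ n ≤ I := by
  set m := IsLocalRing.maximalIdeal R with hm
  let N : ℕ → Submodule R (R ⧸ I) := fun j => m ^ j • ⊤
  have hNsucc : ∀ j, N (j + 1) = m • N j := by
    intro j
    simp only [N]
    rw [pow_succ', mul_smul]
  have hle : ∀ j, N (j + 1) ≤ N j := by
    intro j
    rw [hNsucc]
    exact Submodule.smul_le_right
  have hjac : m ≤ Ideal.jacobson ⊥ := by
    rw [IsLocalRing.jacobson_eq_maximalIdeal ⊥ bot_ne_top]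
  have hfg : ∀ j, (N j).FG := fun j => IsNoetherian.noetherian _
  have key : ∀ j, N j = ⊥ ∨
      Module.finrank k ((N j).restrictScalars k) + j ≤ n := by
    intro j
    induction j with
    | zero =>
      right
      have : N 0 = ⊤ := by
        show m ^ 0 • (⊤ : Submodule R (R ⧸ I)) = ⊤
        rw [pow_zero, Ideal.one_eq_top, Submodule.top_smul]
      rw [this, Submodule.restrictScalars_top, finrank_top, hn, add_zero]
    | succ j ih =>
      rcases ih with h0 | h1
      · left
        rw [hNsucc, h0, Submodule.smul_bot]
      · by_cases heq : N (j + 1) = N j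
        · left
          have : N j = ⊥ := by
            apply Submodule.eq_bot_of_le_smul_of_le_jacobson_bot m (N j) (hfg j) _ hjac
            rw [← hNsucc, heq]
          rw [heq, this]
        · right
          have hlt : N (j + 1) < N j := lt_of_le_of_ne (hle j) heq
          have hlt' : (N (j + 1)).restrictScalars k < (N j).restrictScalars k := by
            rw [lt_iff_le_and_ne] at hlt ⊢
            refine ⟨fun x hx => hlt.1 hx, fun h => hlt.2 ?_⟩
            exact Submodule.restrictScalars_injective k R (R ⧸ I) h
          have := Submodule.finrank_lt_finrank_of_lt hlt'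
          omega
  have hbot : N n = ⊥ := by
    rcases key n with h | h
    · exact h
    · have h0 : Module.finrank k ((N n).restrictScalars k) = 0 := by omega
      have h1 : (N n).restrictScalars k = ⊥ := Submodule.finrank_eq_zero.mp h0
      rw [← Submodule.restrictScalars_bot k R (R ⧸ I)] at h1
      exact Submodule.restrictScalars_injective k R (R ⧸ I) h1
  intro x hx
  have h1 : x • (1 : R ⧸ I) ∈ N n := Submodule.smul_mem_smul hx Submodule.mem_top
  rw [hbot, Submodule.mem_bot] at h1
  have h2 : (Ideal.Quotient.mk I x) = 0 := by
    rw [← h1, Algebra.smul_def, mul_one]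
    rfl
  exact Ideal.Quotient.eq_zero_iff_mem.mp h2

end Groth.Agent.S19436
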