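import Groth.Statements.S19438
-- import your own Groth.Agent.* helpers here
import Mathlib.Algebra.Polynomial.Taylor
import Mathlib.LinearAlgebra.Dimension.Finite
import Mathlib.RingTheory.Adjoin.Polynomial.Basic

set_option autoImplicit false
universe u
open CAlg

namespace Groth.Agent.S19438

/-- First assertion: let A be a Noetherian local commutative algebra over a field k with maximal ideal
M, residue field k (the map from k to A/M is onto) and embedding dimension dim M/M^2 at least 2, and
let I be a proper ideal with A/I finite-dimensional over k. If A/I is generated as a k-algebra by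
one element, then some element of I does not lie in M^2; that is, the finite closed subscheme
defined by I lies on a smooth hypersurface germ (it is curvilinear). (The published statement is for
the local ring of a smooth surface at a closed point; only a Noetherian local algebra with residue
field k and embedding dimension at least 2 is assumed here, which is what the published argument
uses.) -/
theorem result (k : Type u) [Field k]
    (A : Type u) [CommRing A] [Algebra k A] [IsNoetherianRing A] [IsLocalRing A]
    (hres : Function.Surjective (algebraMap k (IsLocalRing.ResidueField A)))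
    (hemb : 2 ≤ Module.finrank (IsLocalRing.ResidueField A) (IsLocalRing.CotangentSpace A))
    (I : Ideal A) (hI : I ≠ ⊤) [Module.Finite k (A ⧸ I)]
    (f : A ⧸ I) (hf : Algebra.adjoin k {f} = ⊤) :
    ∃ g ∈ I, g ∉ IsLocalRing.maximalIdeal A ^ 2 := by
  classical
  by_contra hcon
  push Not at hcon
  set m := IsLocalRing.maximalIdeal A with hm
  have hIle : I ≤ m ^ 2 := fun g hg => hcon g hg
  obtain ⟨a, rfl⟩ := Ideal.Quotient.mk_surjective f
  obtain ⟨c, hc⟩ := hres (IsLocalRing.residue A a)
  have htm : a - algebraMap k A c ∈ m := by
    rw [hm, ← IsLocalRing.residue_eq_zero_iff, map_sub, sub_eq_zero, ← hc]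
    exact (IsScalarTower.algebraMap_apply k A (IsLocalRing.ResidueField A) c)
  set t : A := a - algebraMap k A c with ht
  have hall : ∀ x : A, ∃ α β : k, x - (algebraMap k A α + algebraMap k A β * t) ∈ m ^ 2 := by
    intro x
    have hx : Ideal.Quotient.mk I x ∈ Algebra.adjoin k {Ideal.Quotient.mk I a} := by
      rw [hf]; trivial
    rw [Algebra.adjoin_singleton_eq_range_aeval] at hx
    obtain ⟨p, hp⟩ := hx
    have hp2 : Polynomial.aeval (Ideal.Quotient.mk I a) p = Ideal.Quotient.mk I x := hp
    have hp' : Ideal.Quotient.mk I (Polynomial.aeval a p) = Ideal.Quotient.mk I x := by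
      rw [← hp2]
      exact (Polynomial.aeval_algHom_apply (Ideal.Quotient.mkₐ k I) a p).symm
    have h1 : x - Polynomial.aeval a p ∈ m ^ 2 := by
      apply hIle
      rw [← Ideal.Quotient.eq, hp']
    refine ⟨p.eval c, p.derivative.eval c, ?_⟩
    have h2 : Ideal.Quotient.mk (m ^ 2) (Polynomial.aeval a p) =
        Ideal.Quotient.mk (m ^ 2) (algebraMap k A (p.eval c) +
          algebraMap k A (p.derivative.eval c) * t) := by
      have e1 : Ideal.Quotient.mk (m ^ 2) (Polynomial.aeval a p) =
          Polynomial.aeval (Ideal.Quotient.mk (m ^ 2) a) p :=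
        (Polynomial.aeval_algHom_apply (Ideal.Quotient.mkₐ k (m ^ 2)) a p).symm
      have e2 : Ideal.Quotient.mk (m ^ 2) a =
          algebraMap k (A ⧸ m ^ 2) c + Ideal.Quotient.mk (m ^ 2) t := by
        rw [ht, map_sub]
        have : Ideal.Quotient.mk (m ^ 2) (algebraMap k A c) = algebraMap k (A ⧸ m ^ 2) c := rfl
        rw [this]; ring
      have e3 : (Ideal.Quotient.mk (m ^ 2) t) ^ 2 = 0 := by
        rw [← map_pow, Ideal.Quotient.eq_zero_iff_mem]
        exact Ideal.pow_mem_pow htm 2
      rw [e1, e2, Polynomial.aeval_add_of_sq_eq_zero _ _ _ e3,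
        Polynomial.aeval_algebraMap_apply_eq_algebraMap_eval,
        Polynomial.aeval_algebraMap_apply_eq_algebraMap_eval, map_add, map_mul]
      rfl
    rw [← Ideal.Quotient.eq] at h1 ⊢
    rw [h1, h2]
  have hspan : ∀ w : IsLocalRing.CotangentSpace A,
      ∃ r : IsLocalRing.ResidueField A, r • (m.toCotangent ⟨t, htm⟩) = w := by
    intro w
    obtain ⟨⟨x, hxm⟩, rfl⟩ := Ideal.toCotangent_surjective _ w
    obtain ⟨α, β, hαβ⟩ := hall x
    have hα : α = 0 := by
      by_contra hne
      have hu : IsUnit (algebraMap k A α) := (IsUnit.mk0 α hne).map _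
      have hmem : algebraMap k A α ∈ m := by
        have h1 : x - (algebraMap k A α + algebraMap k A β * t) ∈ m :=
          Ideal.pow_le_self (by norm_num) hαβ
        have h2 : algebraMap k A β * t ∈ m := Ideal.mul_mem_left _ _ htm
        have h3 := Ideal.sub_mem _ (Ideal.sub_mem _ hxm h1) h2
        convert h3 using 1
        ring
      exact (IsLocalRing.mem_maximalIdeal _).mp hmem hu
    refine ⟨IsLocalRing.residue A (algebraMap k A β), ?_⟩
    have e1 : (IsLocalRing.residue A (algebraMap k A β)) • (m.toCotangent ⟨t, htm⟩) =
        (algebraMap k A β) • (m.toCotangent ⟨t, htm⟩) := rfl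
    rw [e1, ← map_smul, Ideal.toCotangent_eq]
    rw [hα, map_zero, zero_add] at hαβ
    have : ((algebraMap k A β • (⟨t, htm⟩ : m) : m) : A) - x = -(x - algebraMap k A β * t) := by
      simp [Algebra.smul_def]
    rw [this]
    exact Ideal.neg_mem_iff _ |>.mpr hαβ
  have := finrank_le_one _ hspan
  omega

end Groth.Agent.S19438
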