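import Groth.Statements.S19439
import Mathlib

set_option autoImplicit false
universe u
open CAlg

namespace Groth.Agent.S19439

section
open MvPolynomial

variable {k : Type u} [Field k] {N : ℕ}

noncomputable def W (I : Ideal (MvPolynomial (Fin N) k)) (d : ℕ) :
    Submodule k (MvPolynomial (Fin N) k ⧸ I) :=
  Submodule.map (Ideal.Quotient.mkₐ k I).toLinearMap (MvPolynomial.restrictTotalDegree (Fin N) k d)

theorem mem_W (I : Ideal (MvPolynomial (Fin N) k)) (d : ℕ) (z : MvPolynomial (Fin N) k ⧸ I) :
    z ∈ W I d ↔ ∃ p : MvPolynomial (Fin N) k, p.totalDegree ≤ d ∧ Ideal.Quotient.mk I p = z := by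
  unfold W
  rw [Submodule.mem_map]
  constructor
  · rintro ⟨p, hp, rfl⟩
    exact ⟨p, (mem_restrictTotalDegree (Fin N) d p).mp hp, rfl⟩
  · rintro ⟨p, hp, rfl⟩
    exact ⟨p, (mem_restrictTotalDegree (Fin N) d p).mpr hp, rfl⟩

theorem W_mono (I : Ideal (MvPolynomial (Fin N) k)) {d e : ℕ} (h : d ≤ e) : W I d ≤ W I e := by
  intro z hz
  rw [mem_W] at hz ⊢
  obtain ⟨p, hp, rfl⟩ := hz
  exact ⟨p, le_trans hp h, rfl⟩

theorem W_step (I : Ideal (MvPolynomial (Fin N) k)) (d : ℕ) (h : W I (d + 1) ≤ W I d) :
    W I (d + 2) ≤ W I (d + 1) := by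
  classical
  intro z hz
  rw [mem_W] at hz
  obtain ⟨p, hp, rfl⟩ := hz
  rw [p.as_sum, map_sum]
  apply Submodule.sum_mem
  intro s hs
  have hs2 : (s.sum fun _ e => e) ≤ d + 2 := le_trans (le_totalDegree hs) hp
  by_cases hs1 : (s.sum fun _ e => e) ≤ d + 1
  · rw [mem_W]
    exact ⟨monomial s (coeff s p), le_trans (totalDegree_monomial_le s _) hs1, rfl⟩
  · -- degree exactly d+2, some exponent positive
    have hpos : ∃ i, s i ≠ 0 := by
      by_contra hcon
      have hz : s = 0 := by
        ext i
        by_contra hi
        exact hcon ⟨i, hi⟩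
      rw [hz] at hs1
      simp at hs1
    obtain ⟨i, hi⟩ := hpos
    have hsplit : s = (s - Finsupp.single i 1) + Finsupp.single i 1 := by
      ext j
      by_cases hj : j = i
      · subst hj
        simp only [Finsupp.coe_add, Finsupp.coe_tsub, Pi.add_apply, Pi.sub_apply,
          Finsupp.single_eq_same]
        omega
      · simp [Finsupp.single_eq_of_ne hj]
    have hdeg : ((s - Finsupp.single i 1 : Fin N →₀ ℕ).sum fun _ e => e) ≤ d + 1 := by
      have h1 : (s.sum fun _ e => e) =
          ((s - Finsupp.single i 1 : Fin N →₀ ℕ).sum fun _ e => e) + 1 := by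
        conv_lhs => rw [hsplit]
        rw [Finsupp.sum_add_index' (fun _ => rfl) (fun _ _ _ => rfl)]
        rw [Finsupp.sum_single_index rfl]
      omega
    have hmon : monomial s (coeff s p) =
        X i * monomial (s - Finsupp.single i 1) (coeff s p) := by
      rw [X, monomial_mul, one_mul, add_comm, ← hsplit]
    have hin : Ideal.Quotient.mk I (monomial (s - Finsupp.single i 1) (coeff s p)) ∈ W I d := by
      apply h
      rw [mem_W]
      exact ⟨_, le_trans (totalDegree_monomial_le _ _) hdeg, rfl⟩
    rw [mem_W] at hin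
    obtain ⟨p', hp', hpp'⟩ := hin
    rw [mem_W]
    refine ⟨X i * p', ?_, ?_⟩
    · refine le_trans (totalDegree_mul _ _) ?_
      rw [totalDegree_X]
      omega
    · show Ideal.Quotient.mk I (X i * p') = (Ideal.Quotient.mkₐ k I).toLinearMap (monomial s (coeff s p))
      rw [hmon]
      show Ideal.Quotient.mk I (X i * p') =
        Ideal.Quotient.mk I (X i * monomial (s - Finsupp.single i 1) (coeff s p))
      rw [map_mul, map_mul, hpp']

theorem W_stab (I : Ideal (MvPolynomial (Fin N) k)) (d : ℕ) (h : W I (d + 1) ≤ W I d) :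
    ∀ j, W I (d + j) ≤ W I d := by
  intro j
  induction j with
  | zero => exact le_refl _
  | succ j ih =>
    have hj : ∀ j, W I (d + j + 1) ≤ W I (d + j) := by
      intro j
      induction j with
      | zero => exact h
      | succ j ihj => exact W_step I (d + j) ihj
    exact le_trans (hj j) ih

theorem W_top_of_stab (I : Ideal (MvPolynomial (Fin N) k)) (d : ℕ) (h : W I (d + 1) ≤ W I d) :
    W I d = ⊤ := by
  rw [eq_top_iff]
  intro z _
  obtain ⟨p, rfl⟩ := Ideal.Quotient.mk_surjective z
  apply W_stab I d h p.totalDegree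
  rw [mem_W]
  exact ⟨p, by omega, rfl⟩

theorem key (I : Ideal (MvPolynomial (Fin N) k))
    [Module.Finite k (MvPolynomial (Fin N) k ⧸ I)] (d : ℕ) :
    W I d = ⊤ ∨ d + 1 ≤ Module.finrank k (W I d) := by
  induction d with
  | zero =>
    rcases subsingleton_or_nontrivial (MvPolynomial (Fin N) k ⧸ I) with hs | hnt
    · left
      exact Subsingleton.elim _ _
    · right
      have h1 : (1 : MvPolynomial (Fin N) k ⧸ I) ∈ W I 0 := by
        rw [mem_W]
        exact ⟨1, by simp, map_one _⟩
      have : 0 < Module.finrank k (W I 0) := by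
        rw [Module.finrank_pos_iff_exists_ne_zero]
        refine ⟨⟨1, h1⟩, ?_⟩
        intro h
        exact one_ne_zero (congrArg Subtype.val h)
      omega
  | succ d ih =>
    by_cases htop : W I (d + 1) = ⊤
    · exact Or.inl htop
    right
    have hd : W I d ≠ ⊤ := by
      intro h
      apply htop
      rw [eq_top_iff, ← h]
      exact W_mono I (Nat.le_succ d)
    have hfin : d + 1 ≤ Module.finrank k (W I d) := by
      rcases ih with h | h
      · exact absurd h hd
      · exact h
    have hlt : W I d < W I (d + 1) := by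
      apply lt_of_le_of_ne (W_mono I (Nat.le_succ d))
      intro heq
      exact hd (W_top_of_stab I d (le_of_eq heq.symm))
    have := Submodule.finrank_lt_finrank_of_lt hlt
    omega

theorem main (n N : ℕ) :
    ∃ d : ℕ, ∀ (k : Type u) [Field k] [IsAlgClosed k] (I : Ideal (MvPolynomial (Fin N) k))
      [Module.Finite k (MvPolynomial (Fin N) k ⧸ I)],
      Module.finrank k (MvPolynomial (Fin N) k ⧸ I) = n →
      Submodule.map (Ideal.Quotient.mkₐ k I).toLinearMap (MvPolynomial.restrictTotalDegree (Fin N) k d) = ⊤ := by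
  refine ⟨n, ?_⟩
  intro k _ _ I _ hn
  rcases key I n with h | h
  · exact h
  · exfalso
    have := Submodule.finrank_le (W I n)
    omega


end


/-- Affine form: for all n and N there is an integer d, that depends only on n and N, such that for
every algebraically closed field k and every ideal I of the polynomial ring in N variables over k
whose quotient has finite dimension n over k, the polynomials of total degree at most d map onto the
quotient. -/
theorem result (n N : ℕ) :
    ∃ d : ℕ, ∀ (k : Type u) [Field k] [IsAlgClosed k] (I : Ideal (MvPolynomial (Fin N) k))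
      [Module.Finite k (MvPolynomial (Fin N) k ⧸ I)],
      Module.finrank k (MvPolynomial (Fin N) k ⧸ I) = n →
      Submodule.map (Ideal.Quotient.mkₐ k I).toLinearMap (MvPolynomial.restrictTotalDegree (Fin N) k d) = ⊤ := by
  classical
  exact main n N

end Groth.Agent.S19439
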