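import Groth.Statements.S19443
-- import your own Groth.Agent.* helpers here

set_option autoImplicit false
universe u
open LinAlg

namespace Groth.Agent.S19443

/-- Algebraic form: let G be a finite group with order invertible in the field k, ρ a linear
representation of G on a k-vector space V, and ω a nondegenerate bilinear form on V invariant under
G. Then ω restricted to the fixed subspace V^G is nondegenerate (for a finite group of symplectic
automorphisms, the fixed subspace is a symplectic subspace). -/
theorem result (k : Type u) [Field k]
    (G : Type u) [Group G] [Finite G] (hG : (Nat.card G : k) ≠ 0)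
    (V : Type u) [AddCommGroup V] [Module k V] (ρ : Representation k G V)
    (ω : LinearMap.BilinForm k V) (hω : ω.Nondegenerate)
    (hinv : ∀ (g : G) (v w : V), ω (ρ g v) (ρ g w) = ω v w) :
    (ω.restrict ρ.invariants).Nondegenerate := by
  classical
  have : Fintype G := Fintype.ofFinite G
  have hcard : (Fintype.card G : k) ≠ 0 := by rwa [← Nat.card_eq_fintype_card]
  have hs : ∀ u : V, (∑ g : G, ρ g u) ∈ ρ.invariants := by
    intro u h
    rw [map_sum]
    simp only [← Module.End.mul_apply, ← map_mul]
    exact Equiv.sum_comp (Equiv.mulLeft h) (fun g => ρ g u)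
  have hfix : ∀ (v : ρ.invariants) (g : G), ρ g (v : V) = v := fun v g => v.2 g
  refine ⟨?_, ?_⟩
  · intro v hv
    have hv0 : ∀ u, ω v u = 0 := by
      intro u
      have h1 : ω (v : V) (∑ g : G, ρ g u) = 0 := hv ⟨_, hs u⟩
      have h2 : ω (v : V) (∑ g, ρ g u) = (Fintype.card G : k) * ω v u := by
        rw [map_sum]
        have : ∀ g : G, ω (v : V) (ρ g u) = ω v u := by
          intro g
          conv_lhs => rw [← hfix v g]
          exact hinv g v u
        simp [this]
      rw [h2] at h1
      exact (mul_eq_zero.mp h1).resolve_left hcard
    exact Subtype.ext (hω.1 v hv0)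
  · intro v hv
    have hv0 : ∀ u, ω u v = 0 := by
      intro u
      have h1 : ω (∑ g : G, ρ g u) (v : V) = 0 := hv ⟨_, hs u⟩
      have h2 : ω (∑ g, ρ g u) (v : V) = (Fintype.card G : k) * ω u v := by
        rw [map_sum, LinearMap.sum_apply]
        have : ∀ g : G, ω (ρ g u) (v : V) = ω u v := by
          intro g
          conv_lhs => rw [← hfix v g]
          exact hinv g u v
        simp [this]
      rw [h2] at h1
      exact (mul_eq_zero.mp h1).resolve_left hcard
    exact Subtype.ext (hω.2 v hv0)

end Groth.Agent.S19443
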