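import Groth.Statements.S19448
-- import your own Groth.Agent.* helpers here
import Mathlib.RingTheory.Filtration
import Mathlib.GroupTheory.OrderOfElement
import Mathlib.Algebra.Ring.Action.Group
import Mathlib.Tactic.LinearCombination

set_option autoImplicit false
universe u
open CAlg

namespace Groth.Agent.S19448

/-- Let k be a field, A a Noetherian local k-algebra with maximal ideal M and residue field k, and G a
finite group with |G| ≠ 0 in k acting on A by k-algebra automorphisms. An element of G which acts
trivially on M/M^2 acts trivially on A; in other words the stabilizer acts faithfully on the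
cotangent space whenever it acts faithfully on the local ring. -/
theorem result (k : Type u) [Field k] (A : Type u) [CommRing A]
    [Algebra k A] [IsLocalRing A] [IsNoetherianRing A]
    (hres : Function.Surjective (algebraMap k (IsLocalRing.ResidueField A)))
    (G : Type u) [Group G] [Finite G] [MulSemiringAction G A] [SMulCommClass G k A]
    (hG : (Nat.card G : k) ≠ 0) (g : G)
    (hg : ∀ a ∈ IsLocalRing.maximalIdeal A, g • a - a ∈ IsLocalRing.maximalIdeal A ^ 2) (a : A) :
    g • a = a := by
  classical
  set m := IsLocalRing.maximalIdeal A with hm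
  have hsmul_mem : ∀ (h : G) (x : A), x ∈ m → h • x ∈ m := by
    intro h x hx
    rw [hm, IsLocalRing.mem_maximalIdeal, mem_nonunits_iff] at hx ⊢
    intro hu
    apply hx
    have := hu.map (MulSemiringAction.toRingEquiv G A h).symm
    simpa using this
  have hsmul_pow : ∀ (h : G) (n : ℕ) (x : A), x ∈ m ^ n → h • x ∈ m ^ n := by
    intro h n x hx
    have h1 : m.map (MulSemiringAction.toRingHom G A h) ≤ m := by
      rw [Ideal.map_le_iff_le_comap]
      intro y hy
      exact hsmul_mem h y hy
    have h2 := Ideal.mem_map_of_mem (MulSemiringAction.toRingHom G A h) hx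
    rw [Ideal.map_pow] at h2
    exact Ideal.pow_right_mono h1 n h2
  have hconst : ∀ c : k, g • (algebraMap k A c) = algebraMap k A c := by
    intro c
    rw [Algebra.algebraMap_eq_smul_one, smul_comm, smul_one]
  have hres' : ∀ a : A, ∃ c : k, a - algebraMap k A c ∈ m := by
    intro a
    obtain ⟨c, hc⟩ := hres (IsLocalRing.residue A a)
    refine ⟨c, ?_⟩
    rw [hm, ← IsLocalRing.residue_eq_zero_iff, map_sub, sub_eq_zero, ← hc]
    exact (IsScalarTower.algebraMap_apply k A (IsLocalRing.ResidueField A) c)
  have hδA : ∀ a : A, g • a - a ∈ m ^ 2 := by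
    intro a
    obtain ⟨c, hc⟩ := hres' a
    have := hg _ hc
    rw [smul_sub, hconst] at this
    convert this using 1
    ring
  have hδpow : ∀ (n : ℕ) (x : A), x ∈ m ^ n → g • x - x ∈ m ^ (n + 1) := by
    intro n
    induction n with
    | zero =>
      intro x _
      exact Ideal.pow_le_pow_right (by norm_num) (hδA x)
    | succ n ih =>
      intro x hx
      rw [pow_succ] at hx
      refine Submodule.mul_induction_on hx ?_ ?_
      · intro b hb a ha
        have e : g • (b * a) - b * a = (g • b - b) * (g • a) + b * (g • a - a) := by
          rw [smul_mul']; ring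
        rw [e]
        refine Ideal.add_mem _ ?_ ?_
        · have := Ideal.mul_mem_mul (ih b hb) (hsmul_mem g a ha)
          rwa [← pow_succ] at this
        · have := Ideal.mul_mem_mul hb (hδA a)
          rw [← pow_add] at this
          exact this
      · intro x y hx hy
        have e : g • (x + y) - (x + y) = (g • x - x) + (g • y - y) := by
          rw [smul_add]; ring
        rw [e]
        exact Ideal.add_mem _ hx hy
  have hd : (orderOf g : k) ≠ 0 := by
    obtain ⟨q, hq⟩ := orderOf_dvd_natCard g
    intro h0
    apply hG
    rw [hq, Nat.cast_mul, h0, zero_mul]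
  have hdu : IsUnit ((orderOf g : ℕ) : A) := by
    have : ((orderOf g : ℕ) : A) = algebraMap k A (orderOf g : k) := by simp
    rw [this]
    exact (IsUnit.mk0 _ hd).map _
  have hnat : ∀ j : ℕ, g • ((j : ℕ) : A) = j :=
    fun j => map_natCast (MulSemiringAction.toRingHom G A g) j
  have main : ∀ (n : ℕ) (a : A), g • a - a ∈ m ^ n := by
    intro n
    induction n with
    | zero => intro a; simp
    | succ n ih =>
      intro a
      have hj : ∀ j : ℕ, ∃ e ∈ m ^ (n + 1), g ^ j • a = a + (j : A) * (g • a - a) + e := by
        intro j
        induction j with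
        | zero => exact ⟨0, Ideal.zero_mem _, by simp⟩
        | succ j ihj =>
          obtain ⟨e, he, hje⟩ := ihj
          refine ⟨(j : A) * (g • (g • a - a) - (g • a - a)) + g • e,
            Ideal.add_mem _ (Ideal.mul_mem_left _ _ (hδpow n _ (ih a))) (hsmul_pow g _ _ he), ?_⟩
          rw [pow_succ', mul_smul, hje, smul_add, smul_add, smul_mul', hnat]
          push_cast
          ring
      obtain ⟨e, he, hje⟩ := hj (orderOf g)
      rw [pow_orderOf_eq_one, one_smul] at hje
      have h1 : ((orderOf g : ℕ) : A) * (g • a - a) = -e := by
        linear_combination -hje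
      have h2 : ((orderOf g : ℕ) : A) * (g • a - a) ∈ m ^ (n + 1) := by
        rw [h1]; exact Ideal.neg_mem_iff _ |>.mpr he
      exact (Ideal.unit_mul_mem_iff_mem _ hdu).mp h2
  have hbot : g • a - a ∈ (⨅ n : ℕ, m ^ n) := by
    rw [Ideal.mem_iInf]
    exact fun n => main n a
  rw [Ideal.iInf_pow_eq_bot_of_isLocalRing m Ideal.IsPrime.ne_top'] at hbot
  exact sub_eq_zero.mp hbot

end Groth.Agent.S19448
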