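import Groth.Statements.S19449
import Mathlib
-- import your own Groth.Agent.* helpers here

set_option autoImplicit false
universe u
open SymRep

namespace Groth.Agent.S19449

open MvPolynomial
namespace Aux

section
variable (k : Type u) [Field k] (n : ℕ)

/-- the action of a permutation -/
noncomputable def rho (σ : Equiv.Perm (Fin n)) :
    MvPolynomial (Fin n × Fin 2) k →ₐ[k] MvPolynomial (Fin n × Fin 2) k :=
  rename (fun v : Fin n × Fin 2 => (σ v.1, v.2))

/-- the matrix -/
noncomputable def Mat (p : Fin n → ℕ × ℕ) : Matrix (Fin n) (Fin n) (MvPolynomial (Fin n × Fin 2) k) :=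
  Matrix.of fun i j : Fin n =>
    (X (i, 0) : MvPolynomial (Fin n × Fin 2) k) ^ (p j).1 * X (i, 1) ^ (p j).2

/-- the alternant -/
noncomputable def Delta (p : Fin n → ℕ × ℕ) : MvPolynomial (Fin n × Fin 2) k := (Mat k n p).det

/-- the monomial -/
noncomputable def mon (p : Fin n → ℕ × ℕ) : MvPolynomial (Fin n × Fin 2) k :=
  ∏ i, (X (i, 0) : MvPolynomial (Fin n × Fin 2) k) ^ (p i).1 * X (i, 1) ^ (p i).2

lemma rho_X (σ : Equiv.Perm (Fin n)) (v : Fin n × Fin 2) :
    rho k n σ (X v) = X (σ v.1, v.2) := by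
  rw [rho, rename_X]

lemma rho_mul (σ τ : Equiv.Perm (Fin n)) (f : MvPolynomial (Fin n × Fin 2) k) :
    rho k n σ (rho k n τ f) = rho k n (σ * τ) f := by
  rw [rho, rho, rho, rename_rename]
  rfl

lemma rho_mon (σ : Equiv.Perm (Fin n)) (p : Fin n → ℕ × ℕ) :
    rho k n σ (mon k n p) = ∏ i, (X (σ i, 0) : MvPolynomial (Fin n × Fin 2) k) ^ (p i).1 *
      X (σ i, 1) ^ (p i).2 := by
  rw [mon, map_prod]
  apply Finset.prod_congr rfl
  intro i _
  rw [map_mul, map_pow, map_pow, rho_X, rho_X]

lemma Delta_eq (p : Fin n → ℕ × ℕ) :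
    Delta k n p = ∑ σ : Equiv.Perm (Fin n), Equiv.Perm.sign σ • rho k n σ (mon k n p) := by
  rw [Delta, Matrix.det_apply]
  apply Finset.sum_congr rfl
  intro σ _
  rw [rho_mon]
  rfl

lemma rho_Delta (τ : Equiv.Perm (Fin n)) (p : Fin n → ℕ × ℕ) :
    rho k n τ (Delta k n p) = ((Equiv.Perm.sign τ : ℤˣ) : ℤ) • Delta k n p := by
  rw [Delta, AlgHom.map_det]
  have h : (rho k n τ).mapMatrix (Mat k n p) = (Mat k n p).submatrix τ id := by
    apply Matrix.ext
    intro i j
    show rho k n τ ((X (i, 0) : MvPolynomial (Fin n × Fin 2) k) ^ (p j).1 * X (i, 1) ^ (p j).2) = _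
    rw [map_mul, map_pow, map_pow, rho_X, rho_X]
    rfl
  rw [h, Matrix.det_permute]
  rw [zsmul_eq_mul]

/-- the antisymmetrizer -/
noncomputable def Alt : MvPolynomial (Fin n × Fin 2) k →ₗ[k] MvPolynomial (Fin n × Fin 2) k :=
  ∑ σ : Equiv.Perm (Fin n), ((Equiv.Perm.sign σ : ℤˣ) : ℤ) • (rho k n σ).toLinearMap

lemma Alt_apply (f : MvPolynomial (Fin n × Fin 2) k) :
    Alt k n f = ∑ σ : Equiv.Perm (Fin n), ((Equiv.Perm.sign σ : ℤˣ) : ℤ) • rho k n σ f := by
  rw [Alt, LinearMap.sum_apply]
  rfl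

/-- exponent vector to family of pairs -/
def pOf (e : (Fin n × Fin 2) →₀ ℕ) : Fin n → ℕ × ℕ := fun i => (e (i, 0), e (i, 1))

lemma monomial_eq_mon (e : (Fin n × Fin 2) →₀ ℕ) (c : k) :
    monomial e c = c • mon k n (pOf n e) := by
  rw [monomial_eq, Finsupp.prod_fintype _ _ (by simp), Fintype.prod_prod_type, mon, smul_eq_C_mul]
  congr 1
  apply Finset.prod_congr rfl
  intro i _
  rw [Fin.prod_univ_two]
  rfl

lemma Alt_mem (f : MvPolynomial (Fin n × Fin 2) k) :
    Alt k n f ∈ Submodule.span k (Set.range (Delta k n)) := by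
  induction f using MvPolynomial.induction_on' with
  | monomial e c =>
    rw [monomial_eq_mon, map_smul]
    apply Submodule.smul_mem
    apply Submodule.subset_span
    refine ⟨pOf n e, ?_⟩
    rw [Delta_eq, Alt_apply]
    rfl
  | add p q hp hq =>
    rw [map_add]
    exact Submodule.add_mem _ hp hq


lemma Alt_of_alternating [CharZero k] (f : MvPolynomial (Fin n × Fin 2) k)
    (hf : ∀ σ : Equiv.Perm (Fin n), rho k n σ f = ((Equiv.Perm.sign σ : ℤˣ) : ℤ) • f) :
    Alt k n f = (n.factorial : k) • f := by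
  rw [Alt_apply]
  have h1 : ∀ σ : Equiv.Perm (Fin n), ((Equiv.Perm.sign σ : ℤˣ) : ℤ) • rho k n σ f = f := by
    intro σ
    rw [hf σ, smul_smul, Int.units_coe_mul_self, one_smul]
  rw [Finset.sum_congr rfl (fun σ _ => h1 σ), Finset.sum_const, Finset.card_univ,
    Fintype.card_perm, Fintype.card_fin, ← Nat.cast_smul_eq_nsmul k]

theorem part1 [CharZero k] (f : MvPolynomial (Fin n × Fin 2) k) :
    (∀ σ : Equiv.Perm (Fin n), rho k n σ f = ((Equiv.Perm.sign σ : ℤˣ) : ℤ) • f) ↔
      f ∈ Submodule.span k (Set.range (Delta k n)) := by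
  constructor
  · intro hf
    have h := Alt_of_alternating k n f hf
    have hne : (n.factorial : k) ≠ 0 := Nat.cast_ne_zero.mpr (Nat.factorial_ne_zero n)
    have h2 : f = (n.factorial : k)⁻¹ • Alt k n f := by
      rw [h, smul_smul, inv_mul_cancel₀ hne, one_smul]
    rw [h2]
    exact Submodule.smul_mem _ _ (Alt_mem k n f)
  · intro hf σ
    induction hf using Submodule.span_induction with
    | mem x hx =>
      obtain ⟨p, rfl⟩ := hx
      exact rho_Delta k n σ p
    | zero => simp
    | add x y _ _ hx hy => rw [map_add, hx, hy, smul_add]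
    | smul c x _ hx => rw [map_smul, hx, smul_comm]

/-- exponent vector of a family of pairs -/
noncomputable def eOf (p : Fin n → ℕ × ℕ) : (Fin n × Fin 2) →₀ ℕ :=
  Finsupp.equivFunOnFinite.symm (fun v => if v.2 = 0 then (p v.1).1 else (p v.1).2)

lemma pOf_eOf (p : Fin n → ℕ × ℕ) : pOf n (eOf n p) = p := by
  funext i
  simp [pOf, eOf]

lemma eOf_injective : Function.Injective (eOf n) := by
  intro p p' h
  rw [← pOf_eOf n p, ← pOf_eOf n p', h]

lemma mon_eq_monomial (p : Fin n → ℕ × ℕ) : mon k n p = monomial (eOf n p) 1 := by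
  rw [monomial_eq_mon, pOf_eOf, one_smul]

lemma rho_mon' (σ : Equiv.Perm (Fin n)) (p : Fin n → ℕ × ℕ) :
    rho k n σ (mon k n p) = mon k n (p ∘ σ.symm) := by
  rw [rho_mon, mon]
  rw [← Equiv.prod_comp σ (fun j => (X (j, 0) : MvPolynomial (Fin n × Fin 2) k) ^ ((p ∘ σ.symm) j).1 *
    X (j, 1) ^ ((p ∘ σ.symm) j).2)]
  apply Finset.prod_congr rfl
  intro i _
  simp only [Function.comp_apply, Equiv.symm_apply_apply]

lemma coeff_Delta (p p' : Fin n → ℕ × ℕ) (hp : Function.Injective p)
    (h : ∀ σ : Equiv.Perm (Fin n), p' ∘ σ.symm = p → σ = 1) :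
    coeff (eOf n p) (Delta k n p') = if p' = p then 1 else 0 := by
  classical
  rw [Delta_eq, coeff_sum]
  have h1 : ∀ σ : Equiv.Perm (Fin n),
      coeff (eOf n p) (Equiv.Perm.sign σ • rho k n σ (mon k n p')) =
        if σ = 1 then (if p' = p then (1 : k) else 0) else 0 := by
    intro σ
    rw [rho_mon', mon_eq_monomial, Units.smul_def, zsmul_eq_mul,
      ← map_intCast (C : k →+* MvPolynomial (Fin n × Fin 2) k), coeff_C_mul, coeff_monomial]
    by_cases hσ : σ = 1
    · subst hσ
      rw [if_pos rfl, Equiv.Perm.sign_one]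
      have : p' ∘ (Equiv.symm (1 : Equiv.Perm (Fin n))) = p' := rfl
      rw [this]
      by_cases hpp : p' = p
      · rw [if_pos hpp, if_pos (by rw [hpp])]
        simp
      · rw [if_neg hpp, if_neg (fun hh => hpp (eOf_injective n hh)), mul_zero]
    · rw [if_neg hσ, if_neg, mul_zero]
      intro hh
      exact hσ (h σ (eOf_injective n hh))
  rw [Finset.sum_congr rfl (fun σ _ => h1 σ), Finset.sum_ite_eq' Finset.univ (1 : Equiv.Perm (Fin n)),
    if_pos (Finset.mem_univ _)]

lemma perm_eq_one_of_strictMono (P P' : {p : Fin n → ℕ ×ₗ ℕ // StrictMono p})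
    (σ : Equiv.Perm (Fin n))
    (h : (fun j => ofLex (P'.1 j)) ∘ σ.symm = (fun j => ofLex (P.1 j))) : σ = 1 ∧ P' = P := by
  have h0 : ∀ j, P'.1 (σ.symm j) = P.1 j := by
    intro j
    have := congrFun h j
    exact ofLex.injective this
  have h1 : Set.range P'.1 = Set.range P.1 := by
    ext x
    constructor
    · rintro ⟨j, rfl⟩
      exact ⟨σ j, by rw [← h0, Equiv.symm_apply_apply]⟩
    · rintro ⟨j, rfl⟩
      exact ⟨σ.symm j, h0 j⟩
  have h2 : P'.1 = P.1 := (P'.2.range_inj P.2).mp h1
  refine ⟨?_, Subtype.ext h2⟩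
  have h3 : ∀ j, σ.symm j = j := by
    intro j
    apply P'.2.injective
    rw [h0, h2]
  ext j
  have := h3 (σ j)
  rw [Equiv.symm_apply_apply] at this
  rw [← this]
  rfl

theorem part2 :
    LinearIndependent k (fun P : {p : Fin n → ℕ ×ₗ ℕ // StrictMono p} =>
      Delta k n (fun j => ofLex (P.1 j))) := by
  classical
  rw [linearIndependent_iff']
  intro s g hg P hP
  have hinj : Function.Injective (fun j => ofLex (P.1 j)) := by
    intro a b hab
    exact P.2.injective (ofLex.injective hab)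
  have h1 := congrArg (coeff (eOf n (fun j => ofLex (P.1 j)))) hg
  rw [coeff_sum, coeff_zero] at h1
  have h2 : ∀ P' ∈ s, coeff (eOf n (fun j => ofLex (P.1 j)))
      (g P' • Delta k n (fun j => ofLex (P'.1 j))) = if P' = P then g P else 0 := by
    intro P' _
    rw [coeff_smul, coeff_Delta k n _ _ hinj
      (fun σ hσ => (perm_eq_one_of_strictMono n P P' σ hσ).1)]
    by_cases hPP : P' = P
    · subst hPP
      rw [if_pos rfl, if_pos rfl, smul_eq_mul, mul_one]
    · rw [if_neg hPP, if_neg, smul_zero]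
      intro hh
      apply hPP
      apply Subtype.ext
      funext j
      exact ofLex.injective (congrFun hh j)
  rw [Finset.sum_congr rfl h2, Finset.sum_ite_eq' s P, if_pos hP] at h1
  exact h1

theorem main [CharZero k] :
    (∀ f : MvPolynomial (Fin n × Fin 2) k,
      (∀ σ : Equiv.Perm (Fin n),
          MvPolynomial.rename (fun v : Fin n × Fin 2 => (σ v.1, v.2)) f = ((Equiv.Perm.sign σ : ℤˣ) : ℤ) • f) ↔
        f ∈ Submodule.span k (Set.range fun p : Fin n → ℕ × ℕ =>
          (Matrix.of fun i j : Fin n =>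
            (MvPolynomial.X (i, 0) : MvPolynomial (Fin n × Fin 2) k) ^ (p j).1 * MvPolynomial.X (i, 1) ^ (p j).2).det)) ∧
    LinearIndependent k (fun p : {p : Fin n → ℕ ×ₗ ℕ // StrictMono p} =>
      (Matrix.of fun i j : Fin n =>
        (MvPolynomial.X (i, 0) : MvPolynomial (Fin n × Fin 2) k) ^ (ofLex (p.1 j)).1 *
          MvPolynomial.X (i, 1) ^ (ofLex (p.1 j)).2).det) :=
  ⟨fun f => part1 k n f, part2 k n⟩

end

end Aux

/-- Over a field k of characteristic zero, let the symmetric group S_n act on the polynomial ring in the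
2n variables x_i, y_i (i < n; the variable (i, 0) is x_i and (i, 1) is y_i) by permuting the index
i, and for an n-tuple p of pairs (p_j, q_j) of exponents let Δ_p be the determinant det(x_i^{p_j}
y_i^{q_j}). A polynomial is alternating — each permutation acts on it by its sign — exactly when it
is a k-linear combination of the Δ_p; and the Δ_p for p strictly increasing in the lexicographic
order on pairs (one for each n-element set of exponent pairs) are linearly independent. Hence these
Δ_p form a basis of the space of alternating polynomials. -/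
theorem result (k : Type u) [Field k] [CharZero k] (n : ℕ) :
    (∀ f : MvPolynomial (Fin n × Fin 2) k,
      (∀ σ : Equiv.Perm (Fin n),
          MvPolynomial.rename (fun v : Fin n × Fin 2 => (σ v.1, v.2)) f = ((Equiv.Perm.sign σ : ℤˣ) : ℤ) • f) ↔
        f ∈ Submodule.span k (Set.range fun p : Fin n → ℕ × ℕ =>
          (Matrix.of fun i j : Fin n =>
            (MvPolynomial.X (i, 0) : MvPolynomial (Fin n × Fin 2) k) ^ (p j).1 * MvPolynomial.X (i, 1) ^ (p j).2).det)) ∧
    LinearIndependent k (fun p : {p : Fin n → ℕ ×ₗ ℕ // StrictMono p} =>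
      (Matrix.of fun i j : Fin n =>
        (MvPolynomial.X (i, 0) : MvPolynomial (Fin n × Fin 2) k) ^ (ofLex (p.1 j)).1 *
          MvPolynomial.X (i, 1) ^ (ofLex (p.1 j)).2).det) := by
  exact Aux.main k n

end Groth.Agent.S19449
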