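import Groth.Statements.S19461
-- import your own Groth.Agent.* helpers here
import Groth.Agent.Lib.Helper3.FlatDescent
import Mathlib.RingTheory.AdicCompletion.LocalRing
import Mathlib.RingTheory.AdicCompletion.AsTensorProduct
import Mathlib.RingTheory.RingHom.FaithfullyFlat
import Mathlib.RingTheory.Flat.FaithfullyFlat.Algebra

set_option autoImplicit false
universe u
open CAlg

namespace Groth.Agent.S19461

/-- The implication from isomorphic completions to flat and unramified. Let A → B be a local
homomorphism of Noetherian local rings and ψ a ring map from the completion of A at its maximal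
ideal to that of B whose composite with A → A^ is A → B → B^. If ψ is bijective, then A → B is flat
and the maximal ideal of A generates the maximal ideal of B. (The published statement is the
implication, for a morphism of algebraic varieties over an algebraically closed field, from
isomorphic induced maps of completed local rings at every point to flat and unramified; its proof is
this local-ring argument, valid for any Noetherian local rings. The converse implication is a
separate result.) -/
theorem result (A B : Type u) [CommRing A]
    [CommRing B] [IsLocalRing A] [IsLocalRing B] [IsNoetherianRing A] [IsNoetherianRing B]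
    [Algebra A B] [IsLocalHom (algebraMap A B)]
    (ψ : AdicCompletion (IsLocalRing.maximalIdeal A) A →+* AdicCompletion (IsLocalRing.maximalIdeal B) B)
    (hψ : ψ.comp (algebraMap A (AdicCompletion (IsLocalRing.maximalIdeal A) A)) =
      (algebraMap B (AdicCompletion (IsLocalRing.maximalIdeal B) B)).comp (algebraMap A B))
    (hbij : Function.Bijective ψ) :
    Module.Flat A B ∧
      Ideal.map (algebraMap A B) (IsLocalRing.maximalIdeal A) = IsLocalRing.maximalIdeal B := by
  have hAflat : (algebraMap A (AdicCompletion (IsLocalRing.maximalIdeal A) A)).Flat :=
    RingHom.flat_algebraMap_iff.mpr inferInstance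
  have hBff : (algebraMap B (AdicCompletion (IsLocalRing.maximalIdeal B) B)).FaithfullyFlat := by
    rw [RingHom.faithfullyFlat_algebraMap_iff]
    exact Module.FaithfullyFlat.of_flat_of_isLocalHom
  have hψflat : ψ.Flat := RingHom.Flat.of_bijective hbij
  have hcomp : ((algebraMap B (AdicCompletion (IsLocalRing.maximalIdeal B) B)).comp
      (algebraMap A B)).Flat := by
    rw [← hψ]
    exact RingHom.Flat.comp hAflat hψflat
  have hflat : (algebraMap A B).Flat :=
    Groth.Agent.Helper3.ringHom_flat_of_comp_of_faithfullyFlat _ _ hBff hcomp
  refine ⟨RingHom.flat_algebraMap_iff.mp hflat, ?_⟩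
  have : Module.FaithfullyFlat B (AdicCompletion (IsLocalRing.maximalIdeal B) B) :=
    RingHom.faithfullyFlat_algebraMap_iff.mp hBff
  have hψmax : (IsLocalRing.maximalIdeal (AdicCompletion (IsLocalRing.maximalIdeal A) A)).map ψ =
      IsLocalRing.maximalIdeal (AdicCompletion (IsLocalRing.maximalIdeal B) B) := by
    let e := RingEquiv.ofBijective ψ hbij
    have h1 : (IsLocalRing.maximalIdeal (AdicCompletion (IsLocalRing.maximalIdeal A) A)).map ψ =
        (IsLocalRing.maximalIdeal (AdicCompletion (IsLocalRing.maximalIdeal A) A)).map
          (e : _ →+* _) := rfl
    rw [h1, Ideal.map_comap_of_equiv]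
    exact IsLocalRing.maximalIdeal_comap (e.symm : AdicCompletion (IsLocalRing.maximalIdeal B) B →+* AdicCompletion (IsLocalRing.maximalIdeal A) A)
  have key : ((IsLocalRing.maximalIdeal A).map (algebraMap A B)).map
      (algebraMap B (AdicCompletion (IsLocalRing.maximalIdeal B) B)) =
      (IsLocalRing.maximalIdeal B).map
        (algebraMap B (AdicCompletion (IsLocalRing.maximalIdeal B) B)) := by
    rw [Ideal.map_map, ← hψ, ← Ideal.map_map, ← AdicCompletion.maximalIdeal_eq_map, hψmax,
      AdicCompletion.maximalIdeal_eq_map]
  rw [← Ideal.comap_map_eq_self_of_faithfullyFlat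
    (B := AdicCompletion (IsLocalRing.maximalIdeal B) B)
    ((IsLocalRing.maximalIdeal A).map (algebraMap A B)), key,
    Ideal.comap_map_eq_self_of_faithfullyFlat]

end Groth.Agent.S19461
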