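import Groth.Statements.S19462
import Mathlib
import Groth.Agent.Lib.Helper9.GrMod.Comps
-- import your own Groth.Agent.* helpers here

set_option autoImplicit false
universe u
open GrNak

namespace Groth.Agent.S19462

open Groth.Agent.Helper9.GrMod
namespace Aux

variable {k : Type u} [Field k] {R : Type u} [CommRing R] [Algebra k R]
    {σ : Type u} [SetLike σ R] [AddSubmonoidClass σ R] (𝒜 : ℤ → σ) [GradedRing 𝒜]
    (hneg : ∀ i : ℤ, i < 0 → ∀ x ∈ 𝒜 i, x = 0)
    (h0 : ∀ x ∈ 𝒜 0, ∃ c : k, algebraMap k R c = x)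
    {M : Type u} [AddCommGroup M] [Module R M]

include hneg h0 in
/-- the key vanishing: a graded presentation by irredundant homogeneous generators of a
projective module has zero kernel -/
theorem ker_eq_bot (C : Comps 𝒜 M) {m : ℕ} (g : Fin m → M) (e : Fin m → ℤ)
    (hg : ∀ b, C.IsHom (e b) (g b))
    (hirr : ∀ b, g b ∉ Submodule.span R (g '' {b' | b' ≠ b}))
    (s : M →ₗ[R] (Fin m → R)) (hs : ∀ x, Fintype.linearCombination R g (s x) = x) :
    LinearMap.ker (Fintype.linearCombination R g) = ⊥ := by
  classical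
  set φ := Fintype.linearCombination R g with hφ
  set CF := shiftComps 𝒜 m e with hCF
  have hKhom : CF.IsHomog (LinearMap.ker φ) := isHomog_ker_linearCombination 𝒜 C g e hg
  -- step 3
  have step3 : ∀ w ∈ LinearMap.ker φ, ∀ j, CF.IsHom j w → ∀ a, w a = 0 ∨ e a < j := by
    intro w hw j hj a
    have hwa : w a ∈ 𝒜 (j - e a) := (shiftComps_isHom_iff 𝒜 m e j w).1 hj a
    rcases lt_trichotomy (e a) j with h | h | h
    · exact Or.inr h
    · left
      rw [h, sub_self] at hwa
      obtain ⟨c, hc⟩ := h0 _ hwa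
      by_contra hne
      have hc0 : c ≠ 0 := by
        rintro rfl
        exact hne (by rw [← hc, map_zero])
      apply hirr a
      have hsum : φ w = 0 := hw
      rw [hφ, Fintype.linearCombination_apply, ← Finset.add_sum_erase _ _ (Finset.mem_univ a)] at hsum
      have h1 : w a • g a = - ∑ b ∈ Finset.univ.erase a, w b • g b := eq_neg_of_add_eq_zero_left hsum
      have h2 : g a = algebraMap k R c⁻¹ • (w a • g a) := by
        rw [← hc, smul_smul, ← map_mul, inv_mul_cancel₀ hc0, map_one, one_smul]
      rw [h2, h1]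
      apply Submodule.smul_mem
      apply Submodule.neg_mem
      apply Submodule.sum_mem
      intro b hb
      apply Submodule.smul_mem
      apply Submodule.subset_span
      exact ⟨b, (Finset.mem_erase.1 hb).1, rfl⟩
    · left
      exact hneg _ (by omega) _ hwa
  -- the projection
  have hπ : ∀ v, v - s (φ v) ∈ LinearMap.ker φ := by
    intro v
    rw [LinearMap.mem_ker, map_sub, hs, sub_self]
  -- P
  let P : ℤ → Prop := fun j => ∃ w ∈ LinearMap.ker φ, CF.IsHom j w ∧ w ≠ 0
  have hbdd : ∃ b, ∀ z, P z → b ≤ z := by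
    refine ⟨-∑ a, |e a|, ?_⟩
    rintro z ⟨w, hw, hz, hne⟩
    obtain ⟨a, ha⟩ : ∃ a, w a ≠ 0 := by
      by_contra hcon
      push Not at hcon
      exact hne (funext hcon)
    have hwa : w a ∈ 𝒜 (z - e a) := (shiftComps_isHom_iff 𝒜 m e z w).1 hz a
    have h1 : 0 ≤ z - e a := by
      by_contra hlt
      exact ha (hneg _ (by omega) _ hwa)
    have h2 : |e a| ≤ ∑ a, |e a| :=
      Finset.single_le_sum (f := fun a => |e a|) (fun i _ => abs_nonneg _) (Finset.mem_univ a)
    have h3 : -|e a| ≤ e a := neg_abs_le _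
    omega
  have hnoP : ∀ j, ¬ P j := by
    by_contra hcon
    push Not at hcon
    obtain ⟨j₀, ⟨w, hw, hj, hne⟩, hmin⟩ := Int.exists_least_of_bdd hbdd hcon
    apply hne
    have hexp : w = ∑ a, w a • (Pi.single a (1 : R) : Fin m → R) := by
      funext b
      simp [Finset.sum_apply, Pi.single_apply]
    have hw2 : w = ∑ a, w a • ((Pi.single a (1 : R) : Fin m → R) - s (φ (Pi.single a 1))) := by
      have : w = w - s (φ w) := by
        rw [LinearMap.mem_ker.1 hw, map_zero, sub_zero]
      conv_lhs => rw [this]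
      conv_lhs => rw [hexp]
      simp only [map_sum, map_smul, smul_sub, Finset.sum_sub_distrib]
    have hw3 : w = CF.c j₀ w := hj.symm
    rw [hw3, hw2, map_sum]
    apply Finset.sum_eq_zero
    intro a _
    have hwa : w a ∈ 𝒜 (j₀ - e a) := (shiftComps_isHom_iff 𝒜 m e j₀ w).1 hj a
    rw [CF.smul (j₀ - e a) (w a) hwa]
    rcases step3 w hw j₀ hj a with h | h
    · rw [h, zero_smul]
    · have hy : CF.c (j₀ - (j₀ - e a)) ((Pi.single a (1 : R) : Fin m → R) -
          s (φ (Pi.single a 1))) = 0 := by
        by_contra hyne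
        have hP : P (j₀ - (j₀ - e a)) := ⟨_, hKhom _ (hπ _) _, CF.isHom_c _ _, hyne⟩
        have := hmin _ hP
        omega
      rw [hy, smul_zero]
  -- conclude
  rw [eq_bot_iff]
  intro w hw
  rw [Submodule.mem_bot]
  obtain ⟨t, ht0, ht⟩ := CF.fin w
  rw [ht]
  apply Finset.sum_eq_zero
  intro j _
  by_contra hne
  exact hnoP j ⟨_, hKhom w hw j, CF.isHom_c _ _, hne⟩


include hneg h0 in
theorem main (hk : ∀ c : k, algebraMap k R c ∈ 𝒜 0) [Module.Finite R M]
    {τ : Type u} [SetLike τ M] [AddSubmonoidClass τ M] (ℳ : ℤ → τ) [DirectSum.Decomposition ℳ]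
    [SetLike.GradedSMul 𝒜 ℳ] :
    Module.Projective R M ↔
      ∃ (ι : Type u) (b : Module.Basis ι R M), ∀ i : ι, SetLike.IsHomogeneousElem ℳ (b i) := by
  constructor
  · intro hproj
    let C := modComps 𝒜 ℳ
    obtain ⟨m, g, e, hg, hspan, hirr⟩ := C.exists_irred_gens ⊤ (fun _ _ _ => Submodule.mem_top)
      (Module.finite_def.1 inferInstance)
    have hsurj : Function.Surjective (Fintype.linearCombination R g) := by
      rw [← LinearMap.range_eq_top, Fintype.range_linearCombination, hspan]
    obtain ⟨s, hs⟩ := Module.projective_lifting_property (Fintype.linearCombination R g)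
      LinearMap.id hsurj
    have hker := ker_eq_bot 𝒜 hneg h0 C g e hg hirr s (fun x => LinearMap.congr_fun hs x)
    let eqv : (Fin m → R) ≃ₗ[R] M := LinearEquiv.ofBijective (Fintype.linearCombination R g)
      ⟨LinearMap.ker_eq_bot.1 hker, hsurj⟩
    let b0 : Module.Basis (Fin m) R M := (Pi.basisFun R (Fin m)).map eqv
    refine ⟨ULift.{u} (Fin m), b0.reindex Equiv.ulift.symm, ?_⟩
    rintro ⟨i⟩
    refine ⟨e i, ?_⟩
    have : (b0.reindex Equiv.ulift.symm) ⟨i⟩ = g i := by
      have h1 : (b0.reindex Equiv.ulift.symm) ⟨i⟩ = eqv (Pi.single i 1) := by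
        simp [b0]
      rw [h1]
      show Fintype.linearCombination R g (Pi.single i 1) = g i
      rw [Fintype.linearCombination_apply]
      simp [Pi.single_apply]
    rw [this]
    exact (modComps_isHom_iff 𝒜 ℳ (e i) (g i)).1 (hg i)
  · rintro ⟨ι, b, _⟩
    exact Module.Projective.of_basis b

end Aux

/-- Let k be a field and R a commutative ℤ-graded k-algebra whose pieces of negative degree vanish and
whose degree-zero piece is the image of k, and let M be a finitely generated ℤ-graded R-module,
graded compatibly with R. Then M is a projective R-module if and only if M has an R-basis consisting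
of homogeneous elements, i.e. M is a free graded module. (The published statement takes R a graded
quotient of a polynomial ring k[x_0, …, x_n] with its standard grading; stated here for any
commutative graded k-algebra concentrated in non-negative degrees with degree-zero part k, to which
the same graded-Nakayama argument applies.) -/
theorem result {k : Type u} [Field k] {R : Type u} [CommRing R] [Algebra k R]
    {σ : Type u} [SetLike σ R] [AddSubmonoidClass σ R] (𝒜 : ℤ → σ) [GradedRing 𝒜]
    (hneg : ∀ i : ℤ, i < 0 → ∀ x ∈ 𝒜 i, x = 0)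
    (hk : ∀ c : k, algebraMap k R c ∈ 𝒜 0) (h0 : ∀ x ∈ 𝒜 0, ∃ c : k, algebraMap k R c = x)
    {M : Type u} [AddCommGroup M] [Module R M] [Module.Finite R M]
    {τ : Type u} [SetLike τ M] [AddSubmonoidClass τ M] (ℳ : ℤ → τ) [DirectSum.Decomposition ℳ]
    [SetLike.GradedSMul 𝒜 ℳ] :
    Module.Projective R M ↔
      ∃ (ι : Type u) (b : Module.Basis ι R M), ∀ i : ι, SetLike.IsHomogeneousElem ℳ (b i) := by
  exact Aux.main 𝒜 hneg h0 hk ℳ

end Groth.Agent.S19462
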