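import Groth.Statements.S19471
import Mathlib
import Groth.Prelude.Def_GrSyz
import Groth.Agent.S15416
import Groth.Agent.Lib.Helper1.TorBal
-- import your own Groth.Agent.* helpers here

set_option autoImplicit false
universe u
open GrSyz

namespace Groth.Agent.S19471

open CategoryTheory CategoryTheory.Limits
namespace Aux
open Groth.Agent.Helper1.TorL Groth.Agent.Helper1.TorBal Groth.Agent.S15436.Aux MvPolynomial

section generic
variable {R : Type u} [CommRing R]

lemma pd_quot_succ (I' I : Ideal R) (r : R) (hI : I = I' ⊔ Ideal.span {r})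
    (hr : IsSMulRegular (R ⧸ I') r) (j : ℕ)
    (h : HasProjectiveDimensionLT (ModuleCat.of R (R ⧸ I')) (j + 1)) :
    HasProjectiveDimensionLT (ModuleCat.of R (R ⧸ I)) (j + 2) := by
  have hS := quotSC_shortExact I' I r hI hr
  have h1 : HasProjectiveDimensionLT (quotSC I' I r hI).X₁ (j + 1) := h
  have h2 : HasProjectiveDimensionLT (quotSC I' I r hI).X₂ (j + 1 + 1) :=
    hasProjectiveDimensionLT_of_ge (ModuleCat.of R (R ⧸ I')) (j + 1) (j + 1 + 1) (by omega)
  exact hS.hasProjectiveDimensionLT_X₃ (j + 1) h1 h2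

end generic

section poly
variable (k : Type u) [Field k] (n : ℕ)

/-- the ideal generated by the first `j` variables -/
noncomputable def Ij (j : ℕ) : Ideal (MvPolynomial (Fin (n + 1)) k) :=
  Ideal.span ((X : Fin (n + 1) → MvPolynomial (Fin (n + 1)) k) '' {i | i.val < j})

lemma Ij_zero : Ij k n 0 = ⊥ := by
  unfold Ij
  have : {i : Fin (n + 1) | i.val < 0} = ∅ := by ext i; simp
  rw [this, Set.image_empty, Ideal.span_empty]

lemma Ij_succ (j : ℕ) (hj : j < n + 1) :
    Ij k n (j + 1) = Ij k n j ⊔ Ideal.span {(X ⟨j, hj⟩ : MvPolynomial (Fin (n + 1)) k)} := by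
  unfold Ij
  have : {i : Fin (n + 1) | i.val < j + 1} = {i | i.val < j} ∪ {⟨j, hj⟩} := by
    ext i
    simp only [Set.mem_ofPred_eq, Set.mem_union, Set.mem_singleton_iff, Fin.ext_iff]
    omega
  rw [this, Set.image_union, Ideal.span_union, Set.image_singleton]

lemma Ij_top : Ij k n (n + 1) = (GrSyz.irrel (GrSyz.stdGr k (Fin (n + 1)))).toIdeal := by
  rw [irrel_eq]
  unfold Ij
  have : {i : Fin (n + 1) | i.val < n + 1} = Set.univ := by
    ext i
    simp only [Set.mem_ofPred_eq, Set.mem_univ, iff_true]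
    exact i.2
  rw [this]
  apply le_antisymm
  · rw [Ideal.span_le]
    rintro _ ⟨i, -, rfl⟩
    simp
  · intro p hp
    rw [RingHom.mem_ker, constantCoeff_eq] at hp
    rw [mem_ideal_span_X_image]
    intro m hm
    have hm0 : m ≠ 0 := by
      rintro rfl
      rw [mem_support_iff] at hm
      exact hm hp
    obtain ⟨i, hi⟩ : ∃ i, m i ≠ 0 := by
      by_contra hcon
      push Not at hcon
      exact hm0 (Finsupp.ext hcon)
    exact ⟨i, Set.mem_univ _, hi⟩

lemma X_mul_mem_Ij (j : ℕ) (hj : j < n + 1) (f : MvPolynomial (Fin (n + 1)) k)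
    (h : X ⟨j, hj⟩ * f ∈ Ij k n j) : f ∈ Ij k n j := by
  unfold Ij at h ⊢
  rw [mem_ideal_span_X_image] at h ⊢
  intro m hm
  have hm' : Finsupp.single (⟨j, hj⟩ : Fin (n + 1)) 1 + m ∈ ((X ⟨j, hj⟩ : MvPolynomial (Fin (n + 1)) k) * f).support := by
    rw [mem_support_iff, coeff_X_mul]
    exact mem_support_iff.1 hm
  obtain ⟨i, hi, hne⟩ := h _ hm'
  refine ⟨i, hi, ?_⟩
  have hij : (⟨j, hj⟩ : Fin (n + 1)) ≠ i := by
    intro heq
    have : i.val < j := hi
    rw [← heq] at this
    simp at this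
  rw [Finsupp.add_apply, Finsupp.single_eq_of_ne' hij, zero_add] at hne
  exact hne

lemma X_regular (j : ℕ) (hj : j < n + 1) :
    IsSMulRegular (MvPolynomial (Fin (n + 1)) k ⧸ Ij k n j)
      (X ⟨j, hj⟩ : MvPolynomial (Fin (n + 1)) k) := by
  intro a b hab
  obtain ⟨f, rfl⟩ := Submodule.mkQ_surjective _ a
  obtain ⟨g, rfl⟩ := Submodule.mkQ_surjective _ b
  have h1 : (Ij k n j).mkQ (X ⟨j, hj⟩ * (f - g)) = 0 := by
    have : (X ⟨j, hj⟩ : MvPolynomial (Fin (n + 1)) k) • (Ij k n j).mkQ f =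
        (X ⟨j, hj⟩ : MvPolynomial (Fin (n + 1)) k) • (Ij k n j).mkQ g := hab
    rw [mul_sub, map_sub, sub_eq_zero]
    rw [← smul_eq_mul, ← smul_eq_mul, map_smul, map_smul]
    exact this
  rw [Submodule.mkQ_apply, Submodule.Quotient.mk_eq_zero] at h1
  have h2 := X_mul_mem_Ij k n j hj _ h1
  rw [← sub_eq_zero, ← map_sub, Submodule.mkQ_apply, Submodule.Quotient.mk_eq_zero]
  exact h2

theorem pd_Ij (j : ℕ) (hj : j ≤ n + 1) :
    HasProjectiveDimensionLT (ModuleCat.of (MvPolynomial (Fin (n + 1)) k)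
      (MvPolynomial (Fin (n + 1)) k ⧸ Ij k n j)) (j + 1) := by
  induction j with
  | zero =>
    have : Module.Projective (MvPolynomial (Fin (n + 1)) k)
        (MvPolynomial (Fin (n + 1)) k ⧸ Ij k n 0) :=
      Module.Projective.of_equiv (Submodule.quotEquivOfEqBot _ (Ij_zero k n)).symm
    have : Projective (ModuleCat.of (MvPolynomial (Fin (n + 1)) k)
        (MvPolynomial (Fin (n + 1)) k ⧸ Ij k n 0)) := by
      rw [← IsProjective.iff_projective]
      infer_instance
    infer_instance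
  | succ j ih =>
    have hj' : j < n + 1 := by omega
    exact pd_quot_succ (Ij k n j) (Ij k n (j + 1)) (X ⟨j, hj'⟩) (Ij_succ k n j hj')
      (X_regular k n j hj') j (ih (by omega))

theorem pd_residue : HasProjectiveDimensionLT (ModuleCat.of (MvPolynomial (Fin (n + 1)) k)
    (MvPolynomial (Fin (n + 1)) k ⧸ (GrSyz.irrel (GrSyz.stdGr k (Fin (n + 1)))).toIdeal))
    (n + 1 + 1) := by
  have := pd_Ij k n (n + 1) le_rfl
  rw [Ij_top] at this
  exact this

end poly

theorem main (k : Type u) [Field k] (n : ℕ)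
    (M : Type u) [AddCommGroup M] [Module k M] [Module (MvPolynomial (Fin (n + 1)) k) M]
    [IsScalarTower k (MvPolynomial (Fin (n + 1)) k) M] [Module.Finite (MvPolynomial (Fin (n + 1)) k) M]
    (ℳ : ℤ → Submodule k M) [DirectSum.Decomposition ℳ]
    [SetLike.GradedSMul (GrSyz.stdGr k (Fin (n + 1))) ℳ] :
    ∃ F : GrSyz.FreeRes (GrSyz.stdGr k (Fin (n + 1))) ℳ, F.HasLengthLE (n + 1) := by
  obtain ⟨F, hF⟩ := Groth.Agent.S15416.result k n M ℳ
  refine ⟨F, fun i hi => ?_⟩
  have h1 := Groth.Agent.S15436.result k n M ℳ F hF i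
  haveI := pd_residue k n
  have h2 := isZero_tor_of_hasProjectiveDimensionLT (n + 1)
    (ModuleCat.of (MvPolynomial (Fin (n + 1)) k)
      (MvPolynomial (Fin (n + 1)) k ⧸ (GrSyz.irrel (GrSyz.stdGr k (Fin (n + 1)))).toIdeal))
    (ModuleCat.of (MvPolynomial (Fin (n + 1)) k) M) i hi
  have h3 := (isZero_tor_symm i _ _).1 h2
  have h4 : Subsingleton (T i (ModuleCat.of (MvPolynomial (Fin (n + 1)) k)
      (MvPolynomial (Fin (n + 1)) k ⧸ (GrSyz.irrel (GrSyz.stdGr k (Fin (n + 1)))).toIdeal))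
      (ModuleCat.of (MvPolynomial (Fin (n + 1)) k) M)) :=
    ModuleCat.subsingleton_of_isZero h3
  rw [Module.length_eq_zero_iff.2 h4] at h1
  exact_mod_cast h1.symm

end Aux

/-- Let k be an algebraically closed field, S = k[x_0, …, x_n] with its standard grading, and M a
finitely generated ℤ-graded S-module. Then M has a graded free resolution of length at most n + 1:
an exact sequence 0 → F_{n+1} → … → F_1 → F_0 → M → 0 in which every F_i is a finite direct sum of
twists S(−j) (a finite-rank free module with a homogeneous basis) and all maps respect the grading. -/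
theorem result (k : Type u) [Field k] [IsAlgClosed k] (n : ℕ)
    (M : Type u) [AddCommGroup M] [Module k M] [Module (MvPolynomial (Fin (n + 1)) k) M]
    [IsScalarTower k (MvPolynomial (Fin (n + 1)) k) M] [Module.Finite (MvPolynomial (Fin (n + 1)) k) M]
    (ℳ : ℤ → Submodule k M) [DirectSum.Decomposition ℳ]
    [SetLike.GradedSMul (GrSyz.stdGr k (Fin (n + 1))) ℳ] :
    ∃ F : GrSyz.FreeRes (GrSyz.stdGr k (Fin (n + 1))) ℳ, F.HasLengthLE (n + 1) := by
  exact Aux.main k n M ℳ

end Groth.Agent.S19471
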