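import Groth.Statements.S19473
import Groth.Agent.Lib.Helper6.GrpSch.Cat

set_option autoImplicit false
universe u
open CategoryTheory CategoryTheory.Limits MonoidalCategory CartesianMonoidalCategory MonObj GrpObj AlgebraicGeometry
open AlgGrp

namespace Groth.Agent.S19473

/-- Let S be a scheme and G an S-group scheme whose structure morphism G → S is locally of finite type.
Then G → S is unramified — formally unramified, since it is locally of finite type — if and only if
the identity section S → G is an open immersion. (The separated and quasi-separated clauses of the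
published item are separate results.) -/
theorem result (S : Scheme.{u})
    (G : Over S) [GrpObj G] [LocallyOfFiniteType G.hom] :
    FormallyUnramified G.hom ↔ IsOpenImmersion η[G].left := by
  have he : η[G].left ≫ G.hom = 𝟙 S := by simp
  constructor
  · intro hu
    have hΔ : IsOpenImmersion (pullback.diagonal G.hom) := inferInstance
    have sq := pullback_lift_diagonal_isPullback η[G].left G.hom
    have h1 := MorphismProperty.of_isPullback (P := @IsOpenImmersion) sq hΔ
    have h2 : IsIso (η[G].left ≫ G.hom) := by rw [he]; exact IsIso.id _
    have h3 : η[G].left = pullback.lift (f := η[G].left ≫ G.hom) (g := G.hom)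
        (𝟙 (𝟙_ (Over S)).left) η[G].left (by simp) ≫
        pullback.snd (η[G].left ≫ G.hom) G.hom := (pullback.lift_snd _ _ _).symm
    rw [h3]
    infer_instance
  · intro ho
    have h1 : IsOpenImmersion (G ◁ η[G]).left := by
      rw [Over.whiskerLeft_left]; infer_instance
    have h2 : lift (𝟙 G) (𝟙 G) = (ρ_ G).inv ≫ (G ◁ η[G]) ≫
        (Groth.Agent.Lib.Helper6.GrpSch.Cat.shear G).hom := by
      apply CartesianMonoidalCategory.hom_ext
      · simp [Groth.Agent.Lib.Helper6.GrpSch.Cat.shear]
      · simp [Groth.Agent.Lib.Helper6.GrpSch.Cat.shear, comp_mul, Hom.one_def]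
    have h3 : pullback.diagonal G.hom = (lift (𝟙 G) (𝟙 G)).left := rfl
    have h4 : IsOpenImmersion (pullback.diagonal G.hom) := by
      rw [h3, h2, Over.comp_left, Over.comp_left]
      have : IsIso (ρ_ G).inv.left := inferInstanceAs (IsIso ((Over.forget S).map (ρ_ G).inv))
      have : IsIso (Groth.Agent.Lib.Helper6.GrpSch.Cat.shear G).hom.left :=
        inferInstanceAs (IsIso ((Over.forget S).map
          (Groth.Agent.Lib.Helper6.GrpSch.Cat.shear G).hom))
      infer_instance
    infer_instance

end Groth.Agent.S19473
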