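import Groth.Statements.S19475
import Mathlib

set_option autoImplicit false
universe u
open CAlg

namespace Groth.Agent.S19475

section
open IsLocalRing TensorProduct

section general
variable (A Ap Bq Ah : Type u) [CommRing A] [CommRing Ap] [CommRing Bq] [CommRing Ah]
  [Algebra A Ap] [Algebra A Bq] [Algebra Ap Bq] [IsScalarTower A Ap Bq]
  [Algebra Ap Ah] [Algebra A Ah] [IsScalarTower A Ap Ah]
  [IsLocalRing Ap] [IsLocalRing Bq] [IsLocalHom (algebraMap Ap Bq)]
  [TensorProduct.CompatibleSMul A Ap Bq Ah]

noncomputable def gMap (ev : Ah →+* ResidueField Ap)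
    (hev : ∀ x, ev (algebraMap Ap Ah x) = residue Ap x) : Ah →ₐ[A] ResidueField Bq :=
  { toRingHom := (ResidueField.map (algebraMap Ap Bq)).comp ev
    commutes' := fun a => by
      change (ResidueField.map (algebraMap Ap Bq)) (ev (algebraMap A Ah a)) = _
      rw [IsScalarTower.algebraMap_apply A Ap Ah, hev, ResidueField.map_residue,
        ← IsScalarTower.algebraMap_apply A Ap Bq, IsScalarTower.algebraMap_apply A Bq (ResidueField Bq),
        ResidueField.algebraMap_eq] }

noncomputable def phi (ev : Ah →+* ResidueField Ap)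
    (hev : ∀ x, ev (algebraMap Ap Ah x) = residue Ap x) : Bq ⊗[A] Ah →ₐ[A] ResidueField Bq :=
  Algebra.TensorProduct.lift (IsScalarTower.toAlgHom A Bq (ResidueField Bq))
    (gMap A Ap Bq Ah ev hev) (fun _ _ => Commute.all _ _)

theorem phi_tmul_one (ev : Ah →+* ResidueField Ap)
    (hev : ∀ x, ev (algebraMap Ap Ah x) = residue Ap x) (b : Bq) :
    phi A Ap Bq Ah ev hev (b ⊗ₜ 1) = residue Bq b := by
  unfold phi
  rw [Algebra.TensorProduct.lift_tmul, map_one, mul_one]
  rfl

theorem claim_b (z : Ah) (hz : z ∈ (maximalIdeal Ap).map (algebraMap Ap Ah)) (b : Bq) :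
    b ⊗ₜ[A] z ∈ (maximalIdeal Bq).map
      (Algebra.TensorProduct.includeLeftRingHom : Bq →+* Bq ⊗[A] Ah) := by
  unfold Ideal.map at hz
  induction hz using Submodule.span_induction generalizing b with
  | mem z hz =>
    obtain ⟨x, hx, rfl⟩ := hz
    have h1 : b ⊗ₜ[A] (algebraMap Ap Ah x) = (x • b) ⊗ₜ[A] (1 : Ah) := by
      rw [Algebra.algebraMap_eq_smul_one, TensorProduct.smul_tmul]
    rw [h1]
    apply Ideal.mem_map_of_mem
    rw [Algebra.smul_def]
    apply Ideal.mul_mem_right
    have : ¬ IsUnit x := hx
    exact fun h => this (IsLocalHom.map_nonunit x h)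
  | zero => rw [TensorProduct.tmul_zero]; exact Ideal.zero_mem _
  | add x y _ _ hx hy => rw [TensorProduct.tmul_add]; exact Ideal.add_mem _ (hx b) (hy b)
  | smul c z _ hz =>
    have h1 : b ⊗ₜ[A] (c • z) = ((1 : Bq) ⊗ₜ[A] c) * (b ⊗ₜ[A] z) := by
      rw [Algebra.TensorProduct.tmul_mul_tmul, one_mul, smul_eq_mul]
    rw [h1]
    exact Ideal.mul_mem_left _ _ (hz b)

theorem decomp (ev : Ah →+* ResidueField Ap)
    (hev : ∀ x, ev (algebraMap Ap Ah x) = residue Ap x)
    (hker : RingHom.ker ev = (maximalIdeal Ap).map (algebraMap Ap Ah)) (t : Bq ⊗[A] Ah) :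
    ∃ b : Bq, t - b ⊗ₜ[A] (1 : Ah) ∈ (maximalIdeal Bq).map
      (Algebra.TensorProduct.includeLeftRingHom : Bq →+* Bq ⊗[A] Ah) := by
  induction t using TensorProduct.induction_on with
  | zero => exact ⟨0, by simp⟩
  | tmul b y =>
    obtain ⟨x, hx⟩ := residue_surjective (ev y)
    have h1 : y - algebraMap Ap Ah x ∈ (maximalIdeal Ap).map (algebraMap Ap Ah) := by
      rw [← hker, RingHom.mem_ker, map_sub, hev, hx, sub_self]
    refine ⟨x • b, ?_⟩
    have h2 : (x • b) ⊗ₜ[A] (1 : Ah) = b ⊗ₜ[A] (algebraMap Ap Ah x) := by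
      rw [Algebra.algebraMap_eq_smul_one, TensorProduct.smul_tmul]
    rw [h2, ← TensorProduct.tmul_sub]
    exact claim_b A Ap Bq Ah _ h1 b
  | add x y hx hy =>
    obtain ⟨b1, h1⟩ := hx
    obtain ⟨b2, h2⟩ := hy
    refine ⟨b1 + b2, ?_⟩
    have : x + y - (b1 + b2) ⊗ₜ[A] (1 : Ah) = (x - b1 ⊗ₜ[A] (1 : Ah)) + (y - b2 ⊗ₜ[A] (1 : Ah)) := by
      rw [TensorProduct.add_tmul]; ring
    rw [this]
    exact Ideal.add_mem _ h1 h2

theorem general (ev : Ah →+* ResidueField Ap)
    (hev : ∀ x, ev (algebraMap Ap Ah x) = residue Ap x)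
    (hker : RingHom.ker ev = (maximalIdeal Ap).map (algebraMap Ap Ah)) :
    ((maximalIdeal Bq).map
      (Algebra.TensorProduct.includeLeftRingHom : Bq →+* Bq ⊗[A] Ah)).IsMaximal := by
  have hle : (maximalIdeal Bq).map
      (Algebra.TensorProduct.includeLeftRingHom : Bq →+* Bq ⊗[A] Ah) ≤
      RingHom.ker (phi A Ap Bq Ah ev hev).toRingHom := by
    rw [Ideal.map_le_iff_le_comap]
    intro b hb
    rw [Ideal.mem_comap, RingHom.mem_ker]
    change phi A Ap Bq Ah ev hev (b ⊗ₜ 1) = 0
    rw [phi_tmul_one]
    exact (residue_eq_zero_iff b).mpr hb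
  have heq : (maximalIdeal Bq).map
      (Algebra.TensorProduct.includeLeftRingHom : Bq →+* Bq ⊗[A] Ah) =
      RingHom.ker (phi A Ap Bq Ah ev hev).toRingHom := by
    apply le_antisymm hle
    intro t ht
    obtain ⟨b, hb⟩ := decomp A Ap Bq Ah ev hev hker t
    have h1 : phi A Ap Bq Ah ev hev (t - b ⊗ₜ[A] (1 : Ah)) = 0 := hle hb
    rw [map_sub, phi_tmul_one] at h1
    have h2 : phi A Ap Bq Ah ev hev t = 0 := ht
    rw [h2, zero_sub, neg_eq_zero] at h1
    have h3 : b ∈ maximalIdeal Bq := (residue_eq_zero_iff b).mp h1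
    have h4 : b ⊗ₜ[A] (1 : Ah) ∈ (maximalIdeal Bq).map
      (Algebra.TensorProduct.includeLeftRingHom : Bq →+* Bq ⊗[A] Ah) :=
      Ideal.mem_map_of_mem _ h3
    have := Ideal.add_mem _ hb h4
    simpa using this
  rw [heq]
  apply RingHom.ker_isMaximal_of_surjective
  intro r
  obtain ⟨b, rfl⟩ := residue_surjective r
  exact ⟨b ⊗ₜ 1, phi_tmul_one A Ap Bq Ah ev hev b⟩

end general


theorem main (A B : Type u) [CommRing A] [CommRing B]
    [Algebra A B] [IsNoetherianRing A] (q : Ideal B) [q.IsPrime] :
    ((maximalIdeal (Localization.AtPrime q)).map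
      (Algebra.TensorProduct.includeLeftRingHom :
        Localization.AtPrime q →+* TensorProduct A (Localization.AtPrime q)
          (AdicCompletion (maximalIdeal (Localization.AtPrime (q.under A)))
            (Localization.AtPrime (q.under A))))).IsMaximal := by
  letI : Algebra (Localization.AtPrime (q.under A)) (Localization.AtPrime q) :=
    (Localization.localRingHom (q.under A) q (algebraMap A B) rfl).toAlgebra
  haveI : IsScalarTower A (Localization.AtPrime (q.under A)) (Localization.AtPrime q) :=
    IsScalarTower.of_algebraMap_eq (fun a => by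
      change _ = (Localization.localRingHom (q.under A) q (algebraMap A B) rfl) (algebraMap _ _ a)
      rw [Localization.localRingHom_to_map,
        IsScalarTower.algebraMap_apply A B (Localization.AtPrime q)])
  haveI : IsLocalHom (algebraMap (Localization.AtPrime (q.under A)) (Localization.AtPrime q)) :=
    Localization.isLocalHom_localRingHom _ _ _ _
  haveI : IsNoetherianRing (Localization.AtPrime (q.under A)) :=
    IsLocalization.isNoetherianRing (q.under A).primeCompl _ inferInstance
  have fg : (maximalIdeal (Localization.AtPrime (q.under A))).FG :=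
    (isNoetherianRing_iff_ideal_fg _).mp inferInstance _
  exact general A (Localization.AtPrime (q.under A)) (Localization.AtPrime q)
    (AdicCompletion (maximalIdeal (Localization.AtPrime (q.under A)))
            (Localization.AtPrime (q.under A)))
    (AdicCompletion.evalOneₐ (maximalIdeal (Localization.AtPrime (q.under A)))).toRingHom
    (fun x => (AdicCompletion.evalOneₐ (maximalIdeal (Localization.AtPrime (q.under A)))).commutes x)
    (AdicCompletion.ker_evalOneₐ_eq_map _ fg)


end


open IsLocalRing in
/-- Let A be a Noetherian ring, B an A-algebra, q a prime ideal of B and p its preimage in A; let A_p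
and B_q be the local rings at p and q and Â_p the completion of A_p at its maximal ideal pA_p. Then
the ideal generated by qB_q in B_q ⊗ Â_p is maximal. (The tensor product is formed over A; since A_p
is a localization of A it agrees with the tensor product over A_p used in the published statement.) -/
theorem result (A B : Type u) [CommRing A] [CommRing B]
    [Algebra A B] [IsNoetherianRing A] (q : Ideal B) [q.IsPrime] :
    ((maximalIdeal (Localization.AtPrime q)).map
      (Algebra.TensorProduct.includeLeftRingHom :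
        Localization.AtPrime q →+* TensorProduct A (Localization.AtPrime q)
          (AdicCompletion (maximalIdeal (Localization.AtPrime (q.under A)))
            (Localization.AtPrime (q.under A))))).IsMaximal := by
  classical
  exact main A B q

end Groth.Agent.S19475
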