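import Groth.Statements.S19479
import Mathlib

set_option autoImplicit false
universe u v w
open HopfRep

namespace Groth.Agent.S19479

section
open TensorProduct

variable {K : Type u} {C : Type v} [Field K] [AddCommGroup C] [Module K C] [Coalgebra K C]
variable (V : Type w) [AddCommGroup V] [Module K V] [HopfRep.Comod K C V]

/-- the operator attached to a functional on C -/
noncomputable def T (φ : C →ₗ[K] K) : Module.End K V :=
  (TensorProduct.rid K V).toLinearMap ∘ₗ (φ.lTensor V) ∘ₗ (HopfRep.Comod.coact (k := K) (A := C))

theorem T_apply (φ : C →ₗ[K] K) (v : V) :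
    T V φ v = TensorProduct.rid K V (φ.lTensor V (HopfRep.Comod.coact (k := K) (A := C) v)) := rfl

variable {V}

theorem subcomod_iff (W : Submodule K V) :
    HopfRep.IsSubcomod (k := K) (A := C) W ↔ ∀ φ : C →ₗ[K] K, ∀ w ∈ W, T V φ w ∈ W := by
  classical
  constructor
  · intro h φ w hw
    obtain ⟨y, hy⟩ := h w hw
    rw [T_apply, ← hy]
    clear hy
    induction y using TensorProduct.induction_on with
    | zero => simp
    | tmul a c =>
      simp only [LinearMap.rTensor_tmul, Submodule.subtype_apply, LinearMap.lTensor_tmul,
        TensorProduct.rid_tmul]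
      exact W.smul_mem _ a.2
    | add a b ha hb =>
      simp only [map_add]
      exact W.add_mem ha hb
  · intro h w hw
    let b := Module.Basis.ofVectorSpace K C
    obtain ⟨x, hx⟩ : ∃ x, x = HopfRep.Comod.coact (k := K) (A := C) w := ⟨_, rfl⟩
    have hcoord : ∀ j, TensorProduct.equivFinsuppOfBasisRight b x j ∈ W := by
      intro j
      rw [TensorProduct.equivFinsuppOfBasisRight_apply, hx]
      exact h (b.coord j) w hw
    have hxe : x = (TensorProduct.equivFinsuppOfBasisRight b x).sum fun i m => m ⊗ₜ[K] b i := by
      rw [← TensorProduct.equivFinsuppOfBasisRight_symm_apply, LinearEquiv.symm_apply_apply]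
    rw [← hx, hxe]
    refine Submodule.sum_mem _ (fun j _ => ?_)
    exact ⟨(⟨_, hcoord j⟩ : W) ⊗ₜ[K] b j, rfl⟩

variable (V) in
/-- the operator algebra -/
noncomputable def R : Subalgebra K (Module.End K V) := Algebra.adjoin K (Set.range (T (K := K) (C := C) V))

theorem subcomod_restrict (a : Submodule (R (K := K) (C := C) V) V) :
    HopfRep.IsSubcomod (k := K) (A := C) (a.restrictScalars K) := by
  rw [subcomod_iff]
  intro φ w hw
  exact a.smul_mem (⟨T V φ, Algebra.subset_adjoin ⟨φ, rfl⟩⟩ : R (K := K) (C := C) V) hw

theorem exists_of_subcomod (W : Submodule K V) (hW : HopfRep.IsSubcomod (k := K) (A := C) W) :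
    ∃ a : Submodule (R (K := K) (C := C) V) V, a.restrictScalars K = W := by
  rw [subcomod_iff] at hW
  refine ⟨{ carrier := W, add_mem' := W.add_mem, zero_mem' := W.zero_mem, smul_mem' := ?_ }, ?_⟩
  · rintro ⟨r, hr⟩ w hw
    show r w ∈ W
    induction hr using Algebra.adjoin_induction generalizing w with
    | mem x hx => obtain ⟨φ, rfl⟩ := hx; exact hW φ w hw
    | algebraMap k => exact W.smul_mem k hw
    | add x y _ _ hx hy => exact W.add_mem (hx hw) (hy hw)
    | mul x y _ _ hx hy => exact hx (hy hw)
  · ext x; rfl

theorem rs_inj {a b : Submodule (R (K := K) (C := C) V) V}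
    (h : a.restrictScalars K = b.restrictScalars K) : a = b :=
  Submodule.restrictScalars_injective K _ _ h

theorem isCompl_rs_iff (a b : Submodule (R (K := K) (C := C) V) V) :
    IsCompl (a.restrictScalars K) (b.restrictScalars K) ↔ IsCompl a b := by
  rw [_root_.isCompl_iff, _root_.isCompl_iff, disjoint_iff, disjoint_iff, codisjoint_iff, codisjoint_iff,
    ← Submodule.restrictScalars_inf, ← Submodule.restrictScalars_sup]
  constructor
  · rintro ⟨h1, h2⟩
    refine ⟨rs_inj (h1.trans (Submodule.restrictScalars_bot _ _ _).symm),
      rs_inj (h2.trans (Submodule.restrictScalars_top _ _ _).symm)⟩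
  · rintro ⟨h1, h2⟩
    rw [h1, h2]
    exact ⟨Submodule.restrictScalars_bot _ _ _, Submodule.restrictScalars_top _ _ _⟩

theorem semisimple_iff :
    HopfRep.IsSemisimpleComod K C V ↔ IsSemisimpleModule (R (K := K) (C := C) V) V := by
  constructor
  · intro h
    refine @IsSemisimpleModule.mk _ _ _ _ _ ⟨fun a => ?_⟩
    obtain ⟨W', hW', hc⟩ := h _ (subcomod_restrict a)
    obtain ⟨b, rfl⟩ := exists_of_subcomod W' hW'
    exact ⟨b, (isCompl_rs_iff a b).1 hc⟩
  · intro h W hW
    obtain ⟨a, rfl⟩ := exists_of_subcomod W hW
    obtain ⟨b, hb⟩ := exists_isCompl a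
    exact ⟨_, subcomod_restrict b, (isCompl_rs_iff a b).2 hb⟩

theorem main {K : Type u} {C : Type v} [Field K]
    [AddCommGroup C] [Module K C] [Coalgebra K C] (V : Type w) [AddCommGroup V] [Module K V] [HopfRep.Comod K C V] :
    (∃ (ι : Type w) (W : ι → Submodule K V), iSupIndep W ∧ iSup W = ⊤ ∧ ∀ i,
        HopfRep.IsSubcomod (k := K) (A := C) (W i) ∧ W i ≠ ⊥ ∧
          ∀ W' : Submodule K V, HopfRep.IsSubcomod (k := K) (A := C) W' → W' ≤ W i → W' = ⊥ ∨ W' = W i) ↔
      HopfRep.IsSemisimpleComod K C V := by
  rw [semisimple_iff]
  constructor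
  · rintro ⟨ι, W, -, hsup, hW⟩
    have hex : ∀ i, ∃ a : Submodule (R (K := K) (C := C) V) V, a.restrictScalars K = W i :=
      fun i => exists_of_subcomod _ (hW i).1
    choose a ha using hex
    have hsimple : ∀ i, IsSimpleModule (R (K := K) (C := C) V) (a i) := by
      intro i
      rw [isSimpleModule_iff_isAtom]
      refine ⟨?_, ?_⟩
      · intro h
        apply (hW i).2.1
        rw [← ha i, h, Submodule.restrictScalars_bot]
      · intro b hb
        rcases (hW i).2.2 _ (subcomod_restrict b) (by rw [← ha i]; exact fun x hx => hb.le hx) with h | h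
        · exact rs_inj (h.trans (Submodule.restrictScalars_bot _ _ _).symm)
        · exact absurd (rs_inj (h.trans (ha i).symm)) hb.ne
    have htop : ⨆ i, a i = ⊤ := by
      apply rs_inj
      rw [Submodule.restrictScalars_iSup, Submodule.restrictScalars_top, ← hsup]
      exact iSup_congr ha
    rw [← sSup_simples_eq_top_iff_isSemisimpleModule, eq_top_iff, ← htop]
    exact iSup_le fun i => le_sSup (hsimple i)
  · intro h
    obtain ⟨s, hind, hsup, hsimple⟩ :=
      IsSemisimpleModule.exists_sSupIndep_sSup_simples_eq_top (R (K := K) (C := C) V) V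
    refine ⟨s, fun i => (i : Submodule (R (K := K) (C := C) V) V).restrictScalars K, ?_, ?_, ?_⟩
    · rw [sSupIndep_iff] at hind
      intro i
      have := hind i
      rw [disjoint_iff] at this ⊢
      have h2 := congrArg (Submodule.restrictScalars K) this
      rw [Submodule.restrictScalars_inf, Submodule.restrictScalars_iSup,
        Submodule.restrictScalars_bot] at h2
      rw [← h2]
      congr 1
      refine iSup_congr fun j => ?_
      rw [Submodule.restrictScalars_iSup]
    · rw [sSup_eq_iSup'] at hsup
      rw [← Submodule.restrictScalars_iSup, hsup, Submodule.restrictScalars_top]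
    · intro i
      have hatom := (isSimpleModule_iff_isAtom).1 (hsimple i i.2)
      refine ⟨subcomod_restrict _, ?_, ?_⟩
      · intro h0
        exact hatom.1 (rs_inj (h0.trans (Submodule.restrictScalars_bot _ _ _).symm))
      · intro W' hW' hle
        obtain ⟨b, rfl⟩ := exists_of_subcomod W' hW'
        have hle' : b ≤ i := fun x hx => hle hx
        rcases hatom.le_iff.1 hle' with h1 | h1
        · left; rw [h1, Submodule.restrictScalars_bot]
        · right; rw [h1]


end


open TensorProduct in
/-- Let K be a field, C a K-coalgebra and V a right C-comodule. The following are equivalent: (i) V is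
the internal direct sum of a family of simple subcomodules, i.e. there is an independent family of
subcomodules W_i with sum V, each W_i nonzero and having no subcomodules inside it other than 0 and
W_i; (ii) every subcomodule of V has a complementary subcomodule. A subcomodule is a subspace W
whose coaction lands in the image of W ⊗ C. (The source states this for left comodules; a left
comodule over C is a right comodule over the co-opposite coalgebra, so the statement is the same.) -/
theorem result {K : Type u} {C : Type v} [Field K]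
    [AddCommGroup C] [Module K C] [Coalgebra K C] (V : Type w) [AddCommGroup V] [Module K V] [HopfRep.Comod K C V] :
    (∃ (ι : Type w) (W : ι → Submodule K V), iSupIndep W ∧ iSup W = ⊤ ∧ ∀ i,
        HopfRep.IsSubcomod (k := K) (A := C) (W i) ∧ W i ≠ ⊥ ∧
          ∀ W' : Submodule K V, HopfRep.IsSubcomod (k := K) (A := C) W' → W' ≤ W i → W' = ⊥ ∨ W' = W i) ↔
      HopfRep.IsSemisimpleComod K C V := by
  classical
  exact main V

end Groth.Agent.S19479
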