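import Groth.Statements.S19484
import Mathlib
import Groth.Statements.S19484
import Groth.Agent.Lib.Helper9.FE.SuppSh3
import Groth.Agent.S0622
-- import your own Groth.Agent.* helpers here

set_option autoImplicit false
universe u
open CategoryTheory CategoryTheory.Limits AlgebraicGeometry
open Curves

namespace Groth.Agent.S19484

open CategoryTheory CategoryTheory.Limits AlgebraicGeometry
namespace Aux
universe w' v' u'
set_option backward.isDefEq.respectTransparency false
set_option linter.style.haveILetI false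
set_option linter.unusedSectionVars false
open Abelian

section ExtLES
variable {𝒜 : Type u'} [Category.{v'} 𝒜] [Abelian 𝒜] [HasExt.{w'} 𝒜] (Z : 𝒜)
  {S : ShortComplex 𝒜} (hS : S.ShortExact)

include hS in
/-- if the sub has no higher Ext, the quotient map is bijective on `Ext^n`, `n ≥ 1` -/
lemma bijective_g (h1 : ∀ n : ℕ, 1 ≤ n → Subsingleton (Ext.{w'} Z S.X₁ n)) (n : ℕ) (hn : 1 ≤ n) :
    Function.Bijective ((Ext.mk₀ S.g).postcomp Z (add_zero n)) := by
  constructor
  · rw [injective_iff_map_eq_zero]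
    intro x hx
    obtain ⟨x₁, hx₁⟩ := Ext.covariant_sequence_exact₂ Z hS x hx
    haveI := h1 n hn
    rw [Subsingleton.elim x₁ 0, Ext.zero_comp] at hx₁
    exact hx₁.symm
  · intro x₃
    haveI := h1 (n + 1) (by omega)
    exact Ext.covariant_sequence_exact₃ Z hS x₃ rfl (Subsingleton.elim _ _)

include hS in
/-- if the quotient has no higher Ext, the inclusion is bijective on `Ext^n`, `n ≥ 2` -/
lemma bijective_f (h3 : ∀ n : ℕ, 1 ≤ n → Subsingleton (Ext.{w'} Z S.X₃ n)) (n : ℕ) (hn : 2 ≤ n) :
    Function.Bijective ((Ext.mk₀ S.f).postcomp Z (add_zero n)) := by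
  constructor
  · rw [injective_iff_map_eq_zero]
    intro x hx
    obtain ⟨m, rfl⟩ : ∃ m, n = m + 1 := ⟨n - 1, by omega⟩
    obtain ⟨x₃, hx₃⟩ := Ext.covariant_sequence_exact₁ Z hS x hx rfl
    haveI := h3 m (by omega)
    rw [Subsingleton.elim x₃ 0, Ext.zero_comp] at hx₃
    exact hx₃.symm
  · intro x₂
    haveI := h3 n (by omega)
    exact Ext.covariant_sequence_exact₂ Z hS x₂ (Subsingleton.elim _ _)

end ExtLES

variable {C : Scheme.{u}}

lemma isIso_HF_of_bijective {A B : EtCoh.Ab C} (g : A ⟶ B) (q : ℕ)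
    (h : Function.Bijective ((Ext.mk₀ g).postcomp (H9FE.EtHColim.ZZ C) (add_zero q))) :
    IsIso ((EtCoh.HF C q).map g) := by
  rw [ConcreteCategory.isIso_iff_bijective]
  exact h

/-- stalk of the kernel vanishes where the stalk map is injective -/
lemma stalk_kernel_isZero {F G : EtCoh.Ab C} (φ : F ⟶ G) {Ω : Type u} [Field Ω] [IsSepClosed Ω]
    (ξ : Spec (CommRingCat.of Ω) ⟶ C) (h : IsIso ((EtCoh.stalk ξ).map φ)) :
    IsZero ((EtCoh.stalk ξ).obj (kernel φ)) := by
  have hm := ((Groth.Agent.S0622.result (ShortComplex.mk (0 : F ⟶ F) (0 : F ⟶ F) zero_comp)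
    (kernel.ι φ)).2.1.mp inferInstance) Ω ξ
  have hinj : Function.Injective ((EtCoh.stalk ξ).map φ) :=
    ((ConcreteCategory.isIso_iff_bijective _).mp h).1
  haveI : Subsingleton ((EtCoh.stalk ξ).obj (kernel φ)) := by
    refine ⟨fun a b => hm (hinj ?_)⟩
    have e : (EtCoh.stalk ξ).map (kernel.ι φ) ≫ (EtCoh.stalk ξ).map φ = 0 := by
      rw [← Functor.map_comp, kernel.condition, Functor.map_zero]
    have ea := ConcreteCategory.congr_hom e a
    have eb := ConcreteCategory.congr_hom e b
    simp only [ConcreteCategory.comp_apply] at ea eb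
    rw [ea, eb]
    rfl
  exact AddCommGrpCat.isZero_of_subsingleton _

/-- stalk of the cokernel vanishes where the stalk map is surjective -/
lemma stalk_cokernel_isZero {F G : EtCoh.Ab C} (φ : F ⟶ G) {Ω : Type u} [Field Ω] [IsSepClosed Ω]
    (ξ : Spec (CommRingCat.of Ω) ⟶ C) (h : IsIso ((EtCoh.stalk ξ).map φ)) :
    IsZero ((EtCoh.stalk ξ).obj (cokernel φ)) := by
  have hm := ((Groth.Agent.S0622.result (ShortComplex.mk (0 : F ⟶ F) (0 : F ⟶ F) zero_comp)
    (cokernel.π φ)).2.2.mp inferInstance) Ω ξ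
  have hsurj : Function.Surjective ((EtCoh.stalk ξ).map φ) :=
    ((ConcreteCategory.isIso_iff_bijective _).mp h).2
  have e : (EtCoh.stalk ξ).map φ ≫ (EtCoh.stalk ξ).map (cokernel.π φ) = 0 := by
    rw [← Functor.map_comp, cokernel.condition, Functor.map_zero]
  have key : ∀ a : (EtCoh.stalk ξ).obj (cokernel φ), a = 0 := by
    intro a
    obtain ⟨g, rfl⟩ := hm a
    obtain ⟨f', rfl⟩ := hsurj g
    have ea := ConcreteCategory.congr_hom e f'
    simp only [ConcreteCategory.comp_apply] at ea
    exact ea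
  haveI : Subsingleton ((EtCoh.stalk ξ).obj (cokernel φ)) :=
    ⟨fun a b => (key a).trans (key b).symm⟩
  exact AddCommGrpCat.isZero_of_subsingleton _


theorem main (k : Type u) [Field k] [IsSepClosed k] (C : Scheme.{u})
    (f : C ⟶ Spec (CommRingCat.of k)) [LocallyOfFiniteType f] [QuasiCompact f]
    (hdim : topologicalKrullDim C ≤ 1) (F G : EtCoh.Ab C) (φ : F ⟶ G)
    (hgen : ∀ (Ω : Type u) [Field Ω] [IsSepClosed Ω] (ξ : Spec (CommRingCat.of Ω) ⟶ C),
      (∀ x ∈ Set.range ξ.base, ∀ y : C, y ⤳ x → y = x) → IsIso ((EtCoh.stalk ξ).map φ)) :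
    (∀ q : ℕ, 1 < q → IsIso ((EtCoh.HF C q).map φ)) ∧ (Epi φ → IsIso ((EtCoh.HF C 1).map φ)) := by
  have hK : ∀ n : ℕ, 1 ≤ n → Subsingleton (Ext.{u + 1} (H9FE.EtHColim.ZZ C) (kernel φ) n) :=
    fun n hn => H9FE.SuppSh.vanish_curve k C f hdim (kernel φ)
      (fun Ω _ _ ξ hξ => stalk_kernel_isZero φ ξ (hgen Ω ξ hξ)) n hn
  have hQ : ∀ n : ℕ, 1 ≤ n → Subsingleton (Ext.{u + 1} (H9FE.EtHColim.ZZ C) (cokernel φ) n) :=
    fun n hn => H9FE.SuppSh.vanish_curve k C f hdim (cokernel φ)
      (fun Ω _ _ ξ hξ => stalk_cokernel_isZero φ ξ (hgen Ω ξ hξ)) n hn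
  let S₁ : ShortComplex (EtCoh.Ab C) :=
    ShortComplex.mk (kernel.ι φ) (Abelian.coimage.π φ) (cokernel.condition _)
  have hS₁ : S₁.ShortExact :=
    { exact := ShortComplex.exact_of_g_is_cokernel _ (cokernelIsCokernel (kernel.ι φ))
      mono_f := inferInstanceAs (Mono (kernel.ι φ))
      epi_g := inferInstanceAs (Epi (cokernel.π (kernel.ι φ))) }
  let S₂ : ShortComplex (EtCoh.Ab C) :=
    ShortComplex.mk (Abelian.image.ι φ) (cokernel.π φ) (kernel.condition _)
  have hS₂ : S₂.ShortExact :=
    { exact := ShortComplex.exact_of_f_is_kernel _ (kernelIsKernel (cokernel.π φ))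
      mono_f := inferInstanceAs (Mono (kernel.ι (cokernel.π φ)))
      epi_g := inferInstanceAs (Epi (cokernel.π φ)) }
  have b1 : ∀ n : ℕ, 1 ≤ n → IsIso ((EtCoh.HF C n).map (Abelian.coimage.π φ)) :=
    fun n hn => isIso_HF_of_bijective _ n (bijective_g (H9FE.EtHColim.ZZ C) hS₁ hK n hn)
  have b2 : ∀ n : ℕ, 2 ≤ n → IsIso ((EtCoh.HF C n).map (Abelian.image.ι φ)) :=
    fun n hn => isIso_HF_of_bijective _ n (bijective_f (H9FE.EtHColim.ZZ C) hS₂ hQ n hn)
  have hfac : ∀ n : ℕ, (EtCoh.HF C n).map φ =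
      (EtCoh.HF C n).map (Abelian.coimage.π φ) ≫
        (EtCoh.HF C n).map (Abelian.coimageImageComparison φ) ≫
          (EtCoh.HF C n).map (Abelian.image.ι φ) := by
    intro n
    rw [← Functor.map_comp, ← Functor.map_comp, Abelian.coimage_image_factorisation]
  constructor
  · intro q hq
    haveI := b1 q (by omega)
    haveI := b2 q (by omega)
    rw [hfac q]
    infer_instance
  · intro hepi
    haveI := b1 1 le_rfl
    haveI : Epi (Abelian.image.ι φ) := by
      have e : (Abelian.coimage.π φ ≫ Abelian.coimageImageComparison φ) ≫ Abelian.image.ι φ = φ := by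
        rw [Category.assoc, Abelian.coimage_image_factorisation]
      exact epi_of_epi_fac e
    haveI : IsIso (Abelian.image.ι φ) := isIso_of_mono_of_epi _
    rw [hfac 1]
    infer_instance

end Aux

/-- Let k be a separably closed field and C a curve over k, that is a scheme of finite type over k of
dimension at most one (no connectedness, smoothness, separatedness or properness assumed). Let φ : F
→ G be a morphism of torsion abelian sheaves on the small étale site of C which induces an
isomorphism on stalks at every geometric point of C lying over a generic point of an irreducible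
component (a point admitting no proper generalization). Then the induced map H^q(C_ét, F) →
H^q(C_ét, G) is an isomorphism for all q > 1; if moreover φ is an epimorphism, it is an isomorphism
for q = 1 as well. (The published statement fixes one geometric point over each generic point; the
dimension is taken at most one here.) -/
theorem result
    (k : Type u) [Field k] [IsSepClosed k] (C : Scheme.{u})
    (f : C ⟶ Spec (CommRingCat.of k)) [LocallyOfFiniteType f] [QuasiCompact f]
    (hdim : topologicalKrullDim C ≤ 1) (F G : EtCoh.Ab C) (hF : EtCoh.IsTorsion F) (hG : EtCoh.IsTorsion G)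
    (φ : F ⟶ G)
    (hgen : ∀ (Ω : Type u) [Field Ω] [IsSepClosed Ω] (ξ : Spec (CommRingCat.of Ω) ⟶ C),
      (∀ x ∈ Set.range ξ.base, ∀ y : C, y ⤳ x → y = x) → IsIso ((EtCoh.stalk ξ).map φ)) :
    (∀ q : ℕ, 1 < q → IsIso ((EtCoh.HF C q).map φ)) ∧ (Epi φ → IsIso ((EtCoh.HF C 1).map φ)) := by
  exact Aux.main k C f hdim F G φ hgen

end Groth.Agent.S19484
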