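import Groth.Statements.S19485
import Mathlib
import Groth.Prelude.Def_W4c1hurwitzcptBd
import Groth.Agent.Lib.Helper9.RootDisk
import Groth.Agent.Lib.Helper9.RootDiskB
-- import your own Groth.Agent.* helpers here

set_option autoImplicit false
universe u
open Crimp

namespace Groth.Agent.S19485

open W4c1hurwitzcpt
namespace Aux
open Groth.Agent.Helper9.RootDiskLib Groth.Agent.Helper9.RootDiskLibB

theorem main {k : Type u} [Field k]
    (m n : ℕ) (hm : ¬ 3 ∣ m) (x g : W4c1hurwitzcpt.RootDisk 3 k)
    (hx : W4c1hurwitzcpt.RootDisk.val x = PowerSeries.X) (hg : PowerSeries.order (W4c1hurwitzcpt.RootDisk.val g) = 0)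
    (M : Submodule (PowerSeries k) (W4c1hurwitzcpt.RootDisk 3 k))
    (hM : M = Submodule.span (PowerSeries k) {1, x ^ m * g} ⊔
      (Ideal.span {x ^ n} : Ideal (W4c1hurwitzcpt.RootDisk 3 k)).restrictScalars (PowerSeries k)) :
    (∀ a ∈ M, ∀ b ∈ M, a * b ∈ M) ↔ n ≤ 2 * m := by
  set u : RootDisk 3 k := x ^ m * g with hu
  set J : Ideal (RootDisk 3 k) := Ideal.span {x ^ n} with hJ
  have hog : o g = 0 := hg
  have hou : o u = (m : ℕ∞) := by
    rw [hu, o_mul, o_pow, o_x hx, hog, add_zero, nsmul_eq_mul, mul_one]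
  have hu0 : u ≠ 0 := by
    intro h
    rw [h, o_eq_top.2 rfl] at hou
    exact ENat.natCast_ne_top _ hou.symm
  have hmem : ∀ a, a ∈ M ↔ ∃ α β : PowerSeries k, ∃ j ∈ J,
      a = α • (1 : RootDisk 3 k) + β • u + j := by
    intro a
    rw [hM, Submodule.mem_sup]
    constructor
    · rintro ⟨y, hy, z, hz, rfl⟩
      obtain ⟨α, β, rfl⟩ := Submodule.mem_span_pair.1 hy
      exact ⟨α, β, z, hz, rfl⟩
    · rintro ⟨α, β, j, hj, rfl⟩
      exact ⟨_, Submodule.mem_span_pair.2 ⟨α, β, rfl⟩, j, hj, rfl⟩
  constructor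
  · intro hclosed
    by_contra hlt
    push Not at hlt
    have huM : u ∈ M := (hmem u).2 ⟨0, 1, 0, J.zero_mem, by simp⟩
    obtain ⟨α, β, j, hj, hEq⟩ := (hmem _).1 (hclosed u huM u huM)
    obtain ⟨c, rfl⟩ := Ideal.mem_span_singleton'.1 hj
    have houu : o (u * u) = ((2 * m : ℕ) : ℕ∞) := by
      rw [o_mul, hou]; push_cast; ring
    set A := o (α • (1 : RootDisk 3 k)) with hA
    set B := o (β • u) with hB
    have hA' : A = ⊤ ∨ ∃ a' : ℕ, A = ((3 * a' : ℕ) : ℕ∞) := by
      by_cases hα : α = 0
      · left; rw [hA, hα, zero_smul]; exact o_eq_top.2 rfl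
      · right
        refine ⟨(PowerSeries.order α).toNat, ?_⟩
        have h1o : o (1 : RootDisk 3 k) = 0 := by
          unfold o; rw [map_one, PowerSeries.order_one]
        have h10 : (1 : RootDisk 3 k) ≠ 0 := by
          intro h
          rw [h, o_eq_top.2 rfl] at h1o
          exact ENat.top_ne_zero h1o
        rw [hA, o_smul_of_ne hα h10, h1o]; simp
    have hB' : B = ⊤ ∨ ∃ b' : ℕ, B = ((3 * b' + m : ℕ) : ℕ∞) := by
      by_cases hβ : β = 0
      · left; rw [hB, hβ, zero_smul]; exact o_eq_top.2 rfl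
      · right
        refine ⟨(PowerSeries.order β).toNat, ?_⟩
        rw [hB, o_smul_of_ne hβ hu0, hou, ENat.toNat_natCast]
    have hA2 : A ≠ ((2 * m : ℕ) : ℕ∞) := by
      rcases hA' with h | ⟨a', h⟩
      · rw [h]; exact (ENat.natCast_ne_top _).symm
      · rw [h]; intro h2
        have : 3 * a' = 2 * m := by exact_mod_cast h2
        apply hm; omega
    have hB2 : B ≠ ((2 * m : ℕ) : ℕ∞) := by
      rcases hB' with h | ⟨b', h⟩
      · rw [h]; exact (ENat.natCast_ne_top _).symm
      · rw [h]; intro h2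
        have : 3 * b' + m = 2 * m := by exact_mod_cast h2
        apply hm; omega
    have hw : o (α • (1 : RootDisk 3 k) + β • u) ≠ ((2 * m : ℕ) : ℕ∞) := by
      by_cases hAB : A = B
      · have hAtop : A = ⊤ := by
          rcases hA' with h | ⟨a', h⟩
          · exact h
          · rcases hB' with h' | ⟨b', h'⟩
            · rw [hAB]; exact h'
            · exfalso
              rw [hAB, h'] at h
              have : 3 * b' + m = 3 * a' := by exact_mod_cast h
              apply hm; omega
        have hBtop : B = ⊤ := hAB ▸ hAtop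
        rw [o_eq_top.1 hAtop, o_eq_top.1 hBtop, add_zero, o_eq_top.2 rfl]
        exact (ENat.natCast_ne_top _).symm
      · rw [o_add_of_ne hAB]
        rcases min_choice A B with h | h
        · rw [h]; exact hA2
        · rw [h]; exact hB2
    have hsub : u * u - (α • (1 : RootDisk 3 k) + β • u) = c * x ^ n := by
      rw [hEq]; exact add_sub_cancel_left _ _
    have h1 : o (u * u - (α • (1 : RootDisk 3 k) + β • u)) ≤ ((2 * m : ℕ) : ℕ∞) := by
      rw [o_sub_of_ne (by rw [houu]; exact hw.symm), houu]
      exact min_le_left _ _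
    rw [hsub, o_mul, o_pow, o_x hx, nsmul_eq_mul, mul_one] at h1
    have h2 : (n : ℕ∞) ≤ ((2 * m : ℕ) : ℕ∞) := le_trans le_add_self h1
    have : n ≤ 2 * m := by exact_mod_cast h2
    omega
  · intro hle a ha b hb
    obtain ⟨α, β, j, hj, rfl⟩ := (hmem a).1 ha
    obtain ⟨γ, δ, j', hj', rfl⟩ := (hmem b).1 hb
    have huu : u * u ∈ J := by
      rw [hJ, Ideal.mem_span_singleton']
      refine ⟨x ^ (2 * m - n) * g * g, ?_⟩
      rw [hu]
      have : x ^ (2 * m) = x ^ (2 * m - n) * x ^ n := by
        rw [← pow_add]; congr 1; omega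
      calc x ^ (2 * m - n) * g * g * x ^ n = (x ^ (2 * m - n) * x ^ n) * g * g := by ring
        _ = x ^ (2 * m) * g * g := by rw [← this]
        _ = x ^ m * g * (x ^ m * g) := by ring
    rw [hmem]
    refine ⟨α * γ, α * δ + β * γ,
      algebraMap (PowerSeries k) (RootDisk 3 k) (β * δ) * (u * u) +
        j * (γ • (1 : RootDisk 3 k) + δ • u + j') + (α • (1 : RootDisk 3 k) + β • u) * j', ?_, ?_⟩
    · exact J.add_mem (J.add_mem (J.mul_mem_left _ huu) (J.mul_mem_right _ hj))
        (J.mul_mem_left _ hj')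
    · simp only [Algebra.smul_def, map_mul, map_add]
      ring

end Aux

/-- The criterion for closedness under multiplication on which the description of the stratum rests.
Over R = k⟦t⟧ with k an algebraically closed field of characteristic zero, let S̃ = k⟦x⟧ regarded as
an R-algebra through t ↦ x ^ 3, that is S̃ = R[x] / (x ^ 3 - t). Let m, n be natural numbers with m
not divisible by 3, and let g be a power series with nonzero constant term. Then the R-submodule of
S̃ spanned by 1 and x ^ m g together with the ideal x ^ n S̃ is closed under multiplication if and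
only if n ≤ 2m. (The published proposition goes on to describe the stratum of crimps with these
invariants as irreducible of dimension ⌊(n - m)/3⌋ with a normal form for g; only the closedness
criterion is stated here.) -/
theorem result {k : Type u} [Field k] [IsAlgClosed k] [CharZero k]
    (m n : ℕ) (hm : ¬ 3 ∣ m) (x g : W4c1hurwitzcpt.RootDisk 3 k)
    (hx : W4c1hurwitzcpt.RootDisk.val x = PowerSeries.X) (hg : PowerSeries.order (W4c1hurwitzcpt.RootDisk.val g) = 0)
    (M : Submodule (PowerSeries k) (W4c1hurwitzcpt.RootDisk 3 k))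
    (hM : M = Submodule.span (PowerSeries k) {1, x ^ m * g} ⊔
      (Ideal.span {x ^ n} : Ideal (W4c1hurwitzcpt.RootDisk 3 k)).restrictScalars (PowerSeries k)) :
    (∀ a ∈ M, ∀ b ∈ M, a * b ∈ M) ↔ n ≤ 2 * m := by
  exact Aux.main m n hm x g hx hg M hM

end Groth.Agent.S19485
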