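import Groth.Statements.S19486
import Mathlib
import Groth.Prelude.Def_W4c1hurwitzcptBd
import Groth.Agent.Lib.Helper9.RootDisk
import Groth.Agent.Lib.Helper9.RootDiskB
-- import your own Groth.Agent.* helpers here

set_option autoImplicit false
universe u
open Crimp

namespace Groth.Agent.S19486

open W4c1hurwitzcpt
namespace Aux
open Groth.Agent.Helper9.RootDiskLib Groth.Agent.Helper9.RootDiskLibB

theorem main {k : Type u} [Field k]
    (m n : ℕ) (hm : Odd m) (hmn : 2 * m < n) (x g : W4c1hurwitzcpt.RootDisk 2 k)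
    (hx : W4c1hurwitzcpt.RootDisk.val x = PowerSeries.X) (hg : PowerSeries.order (W4c1hurwitzcpt.RootDisk.val g) = 0)
    (M : Submodule (PowerSeries k) (W4c1hurwitzcpt.RootDisk 2 k × PowerSeries k))
    (hM : M = Submodule.span (PowerSeries k) {(1 : W4c1hurwitzcpt.RootDisk 2 k × PowerSeries k), (x ^ m * g, 0)} ⊔
      ((Ideal.span {x ^ n} : Ideal (W4c1hurwitzcpt.RootDisk 2 k)).restrictScalars (PowerSeries k)).prod ⊥) :
    ∃ a ∈ M, ∃ b ∈ M, a * b ∉ M := by
  set u : RootDisk 2 k := x ^ m * g with hu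
  set J : Ideal (RootDisk 2 k) := Ideal.span {x ^ n} with hJ
  have hog : o g = 0 := hg
  have hou : o u = (m : ℕ∞) := by
    rw [hu, o_mul, o_pow, o_x hx, hog, add_zero, nsmul_eq_mul, mul_one]
  have hu0 : u ≠ 0 := by
    intro h
    rw [h, o_eq_top.2 rfl] at hou
    exact ENat.natCast_ne_top _ hou.symm
  have hmem : ∀ a, a ∈ M ↔ ∃ α β : PowerSeries k, ∃ j ∈ J,
      a = α • (1 : RootDisk 2 k × PowerSeries k) + β • ((u, 0) : RootDisk 2 k × PowerSeries k)
        + ((j, 0) : RootDisk 2 k × PowerSeries k) := by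
    intro a
    rw [hM, Submodule.mem_sup]
    constructor
    · rintro ⟨y, hy, z, hz, rfl⟩
      obtain ⟨α, β, rfl⟩ := Submodule.mem_span_pair.1 hy
      rw [Submodule.mem_prod] at hz
      have hz2 : z.2 = 0 := (Submodule.mem_bot _).1 hz.2
      refine ⟨α, β, z.1, hz.1, ?_⟩
      congr 1
      exact Prod.ext rfl hz2
    · rintro ⟨α, β, j, hj, rfl⟩
      refine ⟨_, Submodule.mem_span_pair.2 ⟨α, β, rfl⟩, (j, 0), ?_, rfl⟩
      rw [Submodule.mem_prod]
      exact ⟨hj, (Submodule.mem_bot _).2 rfl⟩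
  have huM : ((u, 0) : RootDisk 2 k × PowerSeries k) ∈ M :=
    (hmem _).2 ⟨0, 1, 0, J.zero_mem, by simp⟩
  refine ⟨(u, 0), huM, (u, 0), huM, ?_⟩
  intro hcon
  obtain ⟨α, β, j, hj, hEq⟩ := (hmem _).1 hcon
  obtain ⟨c, rfl⟩ := Ideal.mem_span_singleton'.1 hj
  have h2 := congrArg Prod.snd hEq
  have h1 := congrArg Prod.fst hEq
  simp only [Prod.snd_mul, Prod.snd_add, Prod.smul_snd, Prod.snd_one, mul_zero, smul_zero,
    add_zero, smul_eq_mul, mul_one] at h2
  simp only [Prod.fst_mul, Prod.fst_add, Prod.smul_fst, Prod.fst_one] at h1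
  rw [← h2, zero_smul, zero_add] at h1
  have houu : o (u * u) = ((2 * m : ℕ) : ℕ∞) := by
    rw [o_mul, hou]; push_cast; ring
  set B := o (β • u) with hB
  have hB' : B = ⊤ ∨ ∃ b' : ℕ, B = ((2 * b' + m : ℕ) : ℕ∞) := by
    by_cases hβ : β = 0
    · left; rw [hB, hβ, zero_smul]; exact o_eq_top.2 rfl
    · right
      refine ⟨(PowerSeries.order β).toNat, ?_⟩
      rw [hB, o_smul_of_ne hβ hu0, hou, ENat.toNat_natCast]
  have hB2 : B ≠ ((2 * m : ℕ) : ℕ∞) := by
    rcases hB' with h | ⟨b', h⟩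
    · rw [h]; exact (ENat.natCast_ne_top _).symm
    · rw [h]; intro h3
      have : 2 * b' + m = 2 * m := by exact_mod_cast h3
      obtain ⟨q, hq⟩ := hm
      omega
  have hsub : u * u - β • u = c * x ^ n := by
    rw [h1]; exact add_sub_cancel_left _ _
  have h3 : o (u * u - β • u) ≤ ((2 * m : ℕ) : ℕ∞) := by
    rw [o_sub_of_ne (by rw [houu]; exact hB2.symm), houu]
    exact min_le_left _ _
  rw [hsub, o_mul, o_pow, o_x hx, nsmul_eq_mul, mul_one] at h3
  have h4 : (n : ℕ∞) ≤ ((2 * m : ℕ) : ℕ∞) := le_trans le_add_self h3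
  have : n ≤ 2 * m := by exact_mod_cast h4
  omega

end Aux

/-- The emptiness of the stratum rests on the following computation. Over R = k⟦t⟧ with k an
algebraically closed field of characteristic zero, let S̃ = S̃₁ × R where S̃₁ = k⟦x⟧ is regarded as
an R-algebra through t ↦ x ^ 2, that is S̃₁ = R[x] / (x ^ 2 - t), with R embedded diagonally in the
product. Let m be odd, n > 2m, and let g be a power series with nonzero constant term. Then the
R-submodule of S̃ spanned by 1 = (1, 1) and (x ^ m g, 0) together with the ideal x ^ n S̃₁ × 0 is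
not closed under multiplication. (The published item concludes that the corresponding stratum of
crimps is empty; only this computation is stated here, with the ideal read as x ^ n S̃₁ × 0.) -/
theorem result {k : Type u} [Field k] [IsAlgClosed k] [CharZero k]
    (m n : ℕ) (hm : Odd m) (hmn : 2 * m < n) (x g : W4c1hurwitzcpt.RootDisk 2 k)
    (hx : W4c1hurwitzcpt.RootDisk.val x = PowerSeries.X) (hg : PowerSeries.order (W4c1hurwitzcpt.RootDisk.val g) = 0)
    (M : Submodule (PowerSeries k) (W4c1hurwitzcpt.RootDisk 2 k × PowerSeries k))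
    (hM : M = Submodule.span (PowerSeries k) {(1 : W4c1hurwitzcpt.RootDisk 2 k × PowerSeries k), (x ^ m * g, 0)} ⊔
      ((Ideal.span {x ^ n} : Ideal (W4c1hurwitzcpt.RootDisk 2 k)).restrictScalars (PowerSeries k)).prod ⊥) :
    ∃ a ∈ M, ∃ b ∈ M, a * b ∉ M := by
  exact Aux.main m n hm hmn x g hx hg M hM

end Groth.Agent.S19486
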