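import Groth.Statements.S19487
import Mathlib
-- import your own Groth.Agent.* helpers here

set_option autoImplicit false
open W4c1frobunstiva

namespace Groth.Agent.S19487

namespace Aux

open Polynomial

/-- generating polynomial `x + x^2 + ... + x^(q-1)` -/
noncomputable def A (q : ℕ) : ℕ[X] := ∑ a ∈ Finset.Ico 1 q, X ^ a

theorem sum_fin_filter {M : Type*} [AddCommMonoid M] (q : ℕ) (f : ℕ → M) (P : ℕ → Prop)
    [DecidablePred P] :
    ∑ a ∈ Finset.filter (fun a : Fin q => P (a : ℕ)) Finset.univ, f (a : ℕ)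
      = ∑ a ∈ (Finset.range q).filter P, f a := by
  rw [Finset.sum_filter, Finset.sum_filter, Fin.sum_univ_eq_sum_range (fun a => if P a then f a else 0) q]

theorem N_eq (q m j : ℕ) :
    Fintype.card {e : Fin m → Fin q // (∀ i, 1 ≤ (e i : ℕ)) ∧ ∑ i, (e i : ℕ) = j}
      = ((A q) ^ m).coeff j := by
  classical
  rw [Fintype.card_subtype]
  have h1 : A q = ∑ a ∈ Finset.filter (fun a : Fin q => 1 ≤ (a : ℕ)) Finset.univ, (X : ℕ[X]) ^ (a : ℕ) := by
    rw [sum_fin_filter q (fun a => (X : ℕ[X]) ^ a) (fun a => 1 ≤ a)]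
    unfold A
    congr 1
    ext a
    simp only [Finset.mem_Ico, Finset.mem_filter, Finset.mem_range]
    omega
  have h2 : (A q) ^ m = ∏ _i : Fin m, ∑ a ∈ Finset.filter (fun a : Fin q => 1 ≤ (a : ℕ)) Finset.univ, (X : ℕ[X]) ^ (a : ℕ) := by
    rw [Finset.prod_const, Finset.card_univ, Fintype.card_fin, h1]
  rw [h2, Finset.prod_univ_sum, Polynomial.finset_sum_coeff]
  simp_rw [Finset.prod_pow_eq_pow_sum, Polynomial.coeff_X_pow]
  rw [Finset.sum_boole, Nat.cast_id]
  apply congrArg Finset.card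
  ext e
  simp only [Finset.mem_filter, Finset.mem_univ, true_and, Fintype.mem_piFinset]
  constructor
  · rintro ⟨h1, h2⟩; exact ⟨h1, h2.symm⟩
  · rintro ⟨h1, h2⟩; exact ⟨h1, h2.symm⟩


/-- small part -/
noncomputable def Asm (p : ℕ) : ℕ[X] :=
  ∑ a ∈ (Finset.range p).filter (fun a => 1 ≤ a ∧ 2 * a < p), X ^ a

/-- large part -/
noncomputable def Alg (p : ℕ) : ℕ[X] :=
  ∑ a ∈ (Finset.range p).filter (fun a => 1 ≤ a ∧ ¬ 2 * a < p), X ^ a

theorem L_eq (p n s D : ℕ) :
    Fintype.card {e : Fin n → Fin p // (∀ i, 1 ≤ (e i : ℕ)) ∧ ∑ i, (e i : ℕ) = s ∧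
        (Finset.univ.filter fun i => 2 * (e i : ℕ) < p).card = D}
      = (((C (Asm p) * X + C (Alg p)) ^ n : ℕ[X][X]).coeff D).coeff s := by
  classical
  rw [Fintype.card_subtype]
  set S : Finset (Fin p) := Finset.filter (fun a : Fin p => 1 ≤ (a : ℕ)) Finset.univ with hS
  set f : Fin p → ℕ[X][X] := fun a => C (X ^ (a : ℕ)) * X ^ (if 2 * (a : ℕ) < p then 1 else 0) with hf
  have h1 : (C (Asm p) * X + C (Alg p) : ℕ[X][X]) = ∑ a ∈ S, f a := by
    rw [← Finset.sum_filter_add_sum_filter_not S (fun a => 2 * (a : ℕ) < p) f]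
    congr 1
    · rw [hS, Finset.filter_filter]
      have : ∀ a ∈ Finset.filter (fun a : Fin p => 1 ≤ (a : ℕ) ∧ 2 * (a : ℕ) < p) Finset.univ,
          f a = C (X ^ (a : ℕ)) * X := by
        intro a ha
        simp only [hf, (Finset.mem_filter.mp ha).2.2, if_true, pow_one]
      rw [Finset.sum_congr rfl this, ← Finset.sum_mul, ← map_sum,
        sum_fin_filter p (fun a => (X : ℕ[X]) ^ a) (fun a => 1 ≤ a ∧ 2 * a < p)]
      rfl
    · rw [hS, Finset.filter_filter]
      have : ∀ a ∈ Finset.filter (fun a : Fin p => 1 ≤ (a : ℕ) ∧ ¬ 2 * (a : ℕ) < p) Finset.univ,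
          f a = C (X ^ (a : ℕ)) := by
        intro a ha
        simp only [hf, (Finset.mem_filter.mp ha).2.2, if_false, pow_zero, mul_one]
      rw [Finset.sum_congr rfl this, ← map_sum,
        sum_fin_filter p (fun a => (X : ℕ[X]) ^ a) (fun a => 1 ≤ a ∧ ¬ 2 * a < p)]
      rfl
  have h2 : (C (Asm p) * X + C (Alg p) : ℕ[X][X]) ^ n = ∏ _i : Fin n, ∑ a ∈ S, f a := by
    rw [Finset.prod_const, Finset.card_univ, Fintype.card_fin, h1]
  rw [h2, Finset.prod_univ_sum (fun _ : Fin n => S) (fun _ a => f a), Polynomial.finset_sum_coeff, Polynomial.finset_sum_coeff]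
  have h3 : ∀ e : Fin n → Fin p, ((∏ i, f (e i)).coeff D).coeff s
      = if (∑ i, (e i : ℕ) = s ∧ (Finset.univ.filter fun i => 2 * (e i : ℕ) < p).card = D) then 1 else 0 := by
    intro e
    simp only [hf]
    rw [Finset.prod_mul_distrib, ← map_prod, Finset.prod_pow_eq_pow_sum, Finset.prod_pow_eq_pow_sum,
      Polynomial.coeff_C_mul, Polynomial.coeff_X_pow, Finset.sum_boole, Nat.cast_id]
    by_cases hD : D = (Finset.univ.filter fun i => 2 * (e i : ℕ) < p).card
    · rw [if_pos hD, mul_one, Polynomial.coeff_X_pow]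
      by_cases hs : s = ∑ i, (e i : ℕ)
      · rw [if_pos hs, if_pos ⟨hs.symm, hD.symm⟩]
      · rw [if_neg hs, if_neg (fun h => hs h.1.symm)]
    · rw [if_neg hD, mul_zero, Polynomial.coeff_zero, if_neg (fun h => hD h.2.symm)]
  rw [Finset.sum_congr rfl (fun e _ => h3 e), Finset.sum_boole, Nat.cast_id]
  apply congrArg Finset.card
  ext e
  simp only [Finset.mem_filter, Finset.mem_univ, true_and, Fintype.mem_piFinset, hS]


theorem coeff_binom (a b : ℕ[X]) (n D : ℕ) :
    ((C a * X + C b : ℕ[X][X]) ^ n).coeff D = a ^ D * b ^ (n - D) * (n.choose D : ℕ[X]) := by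
  rw [_root_.add_pow (C a * X : ℕ[X][X]) (C b) n, Polynomial.finset_sum_coeff]
  have h : ∀ m ∈ Finset.range (n + 1),
      ((C a * X) ^ m * C b ^ (n - m) * ((n.choose m : ℕ) : ℕ[X][X])).coeff D
        = if D = m then a ^ m * b ^ (n - m) * (n.choose m : ℕ[X]) else 0 := by
    intro m _
    have : (C a * X) ^ m * C b ^ (n - m) * ((n.choose m : ℕ) : ℕ[X][X])
        = C (a ^ m * b ^ (n - m) * (n.choose m : ℕ[X])) * X ^ m := by
      rw [_root_.mul_pow (C a : ℕ[X][X]) X m, map_mul, map_mul, map_pow, map_pow, map_natCast]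
      ring
    rw [this, Polynomial.coeff_C_mul, Polynomial.coeff_X_pow]
    split_ifs <;> simp
  rw [Finset.sum_congr rfl h, Finset.sum_ite_eq]
  by_cases hD : D ∈ Finset.range (n + 1)
  · rw [if_pos hD]
  · rw [if_neg hD]
    rw [Finset.mem_range] at hD
    rw [Nat.choose_eq_zero_of_lt (by omega), Nat.cast_zero, mul_zero]


theorem Asm_eq (k : ℕ) : Asm (2 * k + 1) = A (k + 1) := by
  unfold Asm A
  congr 1
  ext a
  simp only [Finset.mem_Ico, Finset.mem_filter, Finset.mem_range]
  omega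

theorem Alg_eq (k : ℕ) : Alg (2 * k + 1) = X ^ k * A (k + 1) := by
  unfold Alg A
  have : (Finset.range (2 * k + 1)).filter (fun a => 1 ≤ a ∧ ¬ 2 * a < 2 * k + 1)
      = Finset.Ico (1 + k) (k + 1 + k) := by
    ext a
    simp only [Finset.mem_Ico, Finset.mem_filter, Finset.mem_range]
    omega
  rw [this, ← Finset.sum_Ico_add' (fun a => (X : ℕ[X]) ^ a) 1 (k + 1) k, Finset.mul_sum]
  apply Finset.sum_congr rfl
  intro a _
  rw [pow_add, mul_comm]

theorem A_pow_coeff_zero (q m : ℕ) (hm : 1 ≤ m) : ((A q) ^ m).coeff 0 = 0 := by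
  rw [Polynomial.coeff_zero_eq_eval_zero, Polynomial.eval_pow]
  have : (A q).eval 0 = 0 := by
    unfold A
    rw [Polynomial.eval_finset_sum]
    apply Finset.sum_eq_zero
    intro a ha
    rw [Finset.mem_Ico] at ha
    rw [Polynomial.eval_pow, Polynomial.eval_X, zero_pow (by omega)]
  rw [this, zero_pow (by omega)]

theorem main (p n s D : ℕ) (hp : Odd p) :
    Fintype.card {e : Fin n → Fin p // (∀ i, 1 ≤ (e i : ℕ)) ∧ ∑ i, (e i : ℕ) = s ∧
        (Finset.univ.filter fun i => 2 * (e i : ℕ) < p).card = D} =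
      n.choose D * ∑ j ∈ Finset.range (s + 1),
        Fintype.card {e : Fin D → Fin ((p + 1) / 2) // (∀ i, 1 ≤ (e i : ℕ)) ∧ ∑ i, (e i : ℕ) = j} *
          Fintype.card {e : Fin (n - D) → Fin ((p + 1) / 2) // (∀ i, 1 ≤ (e i : ℕ)) ∧ ∑ i, (e i : ℕ) = (s - j - (n - D) * ((p - 1) / 2))} := by
  obtain ⟨k, rfl⟩ := hp
  have e1 : (2 * k + 1 + 1) / 2 = k + 1 := by omega
  have e2 : (2 * k + 1 - 1) / 2 = k := by omega
  rw [L_eq, coeff_binom, e1, e2, Asm_eq, Alg_eq, Polynomial.coeff_mul_natCast, Nat.cast_id, mul_comm]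
  congr 1
  rw [Polynomial.coeff_mul, Finset.Nat.sum_antidiagonal_eq_sum_range_succ_mk]
  apply Finset.sum_congr rfl
  intro j _
  rw [N_eq, N_eq]
  congr 1
  rw [_root_.mul_pow (X ^ k : ℕ[X]) (A (k + 1)) (n - D), ← pow_mul, Polynomial.coeff_X_pow_mul']
  by_cases h : k * (n - D) ≤ s - j
  · rw [if_pos h, mul_comm (n - D) k]
  · rw [if_neg h]
    have h1 : 1 ≤ n - D := by
      by_contra h'
      have : n - D = 0 := by omega
      rw [this, mul_zero] at h
      exact h (Nat.zero_le _)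
    have h2 : s - j - (n - D) * k = 0 := by
      rw [mul_comm]; omega
    rw [h2, A_pow_coeff_zero _ _ h1]

end Aux

/-- The second formula. For p odd and natural numbers n, s, write N_p(n, s) for the number of monomials
of degree s in n variables in which every variable occurs with a positive exponent strictly less
than p, that is of exponent vectors (e_1, …, e_n) with sum s and 1 ≤ e_i ≤ p − 1, and N_p^D(n, s)
for the number of those in which exactly D variables occur with exponent less than p/2. Then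
N_p^D(n, s) = C(n, D) · Σ_j N_{(p+1)/2}(D, j) · N_{(p+1)/2}(n − D, s − j − (n − D)(p − 1)/2), the
sum running over 0 ≤ j ≤ s. (Natural-number subtraction is used in the last argument; when it
truncates and n > D the factor vanishes, as it should. The published setting has p an odd prime;
only p odd is used. The companion inclusion–exclusion expression for N_p(n, s) itself is a separate
statement.) -/
theorem result (p n s D : ℕ) (hp : Odd p) :
    Fintype.card {e : Fin n → Fin p // (∀ i, 1 ≤ (e i : ℕ)) ∧ ∑ i, (e i : ℕ) = s ∧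
        (Finset.univ.filter fun i => 2 * (e i : ℕ) < p).card = D} =
      n.choose D * ∑ j ∈ Finset.range (s + 1),
        Fintype.card {e : Fin D → Fin ((p + 1) / 2) // (∀ i, 1 ≤ (e i : ℕ)) ∧ ∑ i, (e i : ℕ) = j} *
          Fintype.card {e : Fin (n - D) → Fin ((p + 1) / 2) // (∀ i, 1 ≤ (e i : ℕ)) ∧ ∑ i, (e i : ℕ) = (s - j - (n - D) * ((p - 1) / 2))} := by
  exact Aux.main p n s D hp

end Groth.Agent.S19487
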