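import Groth.Statements.S19488
import Mathlib

set_option autoImplicit false
universe u
open CategoryTheory CategoryTheory.Limits AlgebraicGeometry
open W4c1frobunstiva

namespace Groth.Agent.S19488

section
open CategoryTheory CategoryTheory.Limits AlgebraicGeometry

section Cat
variable {C D : Type*} [Category C] [Category D] [Abelian C] [Abelian D]

theorem epi_kernelComparison (L : C ⥤ D) [L.PreservesZeroMorphisms] [PreservesFiniteColimits L]
    {G H : C} (ψ : G ⟶ H) [Epi ψ] : Epi (kernelComparison ψ L) := by
  let S₀ : ShortComplex C := ShortComplex.mk (kernel.ι ψ) ψ (kernel.condition ψ)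
  have hS₀ : S₀.Exact := ShortComplex.exact_of_f_is_kernel S₀ (kernelIsKernel ψ)
  haveI : Epi S₀.g := ‹Epi ψ›
  have hS₁ : (S₀.map L).Exact := hS₀.map_of_epi_of_preservesCokernel L inferInstance inferInstance
  exact (S₀.map L).exact_iff_epi_kernel_lift.1 hS₁

end Cat

theorem faithful_pushforward {S T : Scheme.{u}} (f : S ⟶ T) [IsClosedImmersion f] :
    (Scheme.Modules.pushforward f).Faithful := by
  constructor
  intro E E' α β hαβ
  ext U : 1
  obtain ⟨V, hV⟩ : ∃ V : T.Opens, f ⁻¹ᵁ V = U := by
    obtain ⟨V, hVo, hVU⟩ := (f.isClosedEmbedding.isEmbedding.isInducing.isOpen_iff).1 U.2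
    exact ⟨⟨V, hVo⟩, TopologicalSpace.Opens.ext hVU⟩
  subst hV
  exact congrArg (fun φ => Scheme.Modules.Hom.app φ V) hαβ

theorem main
    {S T : Scheme.{u}} (f : S ⟶ T) [IsClosedImmersion f] (G : T.Modules) (E : S.Modules)
    (ψ : G ⟶ (Scheme.Modules.pushforward f).obj E) [Epi ψ] :
    Epi (((Scheme.Modules.pullbackPushforwardAdjunction f).homEquiv G E).symm ψ) ∧
      Epi (kernelComparison ψ (Scheme.Modules.pullback f)) := by
  haveI : (Scheme.Modules.pullback f).IsLeftAdjoint :=
    (Scheme.Modules.pullbackPushforwardAdjunction f).isLeftAdjoint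
  constructor
  · rw [Adjunction.homEquiv_counit]
    haveI : Epi ((Scheme.Modules.pullback f).map ψ) := inferInstance
    haveI : Epi ((Scheme.Modules.pullbackPushforwardAdjunction f).counit.app E) := by
      haveI := faithful_pushforward f
      apply (Scheme.Modules.pushforward f).epi_of_epi_map
      have htri := (Scheme.Modules.pullbackPushforwardAdjunction f).right_triangle_components E
      exact SplitEpi.epi ⟨_, htri⟩
    exact epi_comp _ _
  · exact epi_kernelComparison _ ψ


end


/-- Fix a closed immersion of schemes f : S → T, an O_T-module G, an O_S-module E and an epimorphism ψ :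
G → f_*E. Then the morphism ψ′ : f^*G → E that corresponds to ψ under the adjunction between
pullback and pushforward (it is the pullback f^*ψ followed by the counit f^*f_*E → E, an isomorphism
for a closed immersion) is an epimorphism, and the canonical map f^*(ker ψ) → ker(f^*ψ) is an
epimorphism. (The published statement takes G and E locally free, which these two assertions do not
use.) -/
theorem result
    {S T : Scheme.{u}} (f : S ⟶ T) [IsClosedImmersion f] (G : T.Modules) (E : S.Modules)
    (ψ : G ⟶ (Scheme.Modules.pushforward f).obj E) [Epi ψ] :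
    Epi (((Scheme.Modules.pullbackPushforwardAdjunction f).homEquiv G E).symm ψ) ∧
      Epi (kernelComparison ψ (Scheme.Modules.pullback f)) := by
  classical
  exact main f G E ψ

end Groth.Agent.S19488
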