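import Groth.Statements.S19506
import Mathlib
import Groth.Prelude.Def_CAlgX
import Groth.Agent.S2453
import Groth.Agent.S2451
import Groth.Agent.Lib.Helper9.ArtLift.Basic
-- import your own Groth.Agent.* helpers here

set_option autoImplicit false
universe u
open CAlg

namespace Groth.Agent.S19506

namespace Aux
open IsLocalRing Groth.Agent.Helper9.ArtLift

variable (k : Type u) [Field k] (A : Type u) [CommRing A] [IsLocalRing A] [Algebra k A]

theorem geomRed (hres : Function.Surjective (algebraMap k (ResidueField A))) :
    Algebra.IsGeometricallyReduced k (ResidueField A) := by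
  have hbij : Function.Bijective (algebraMap k (ResidueField A)) :=
    ⟨(algebraMap k (ResidueField A)).injective, hres⟩
  let e : k ≃ₐ[k] ResidueField A := AlgEquiv.ofBijective (Algebra.ofId k _) hbij
  haveI : Algebra.FormallySmooth k (ResidueField A) := Algebra.FormallySmooth.of_equiv e
  exact (Groth.Agent.S2451.result (k := k) (K := ResidueField A)).1 inferInstance

theorem reg_iff [IsNoetherianRing A] (hres : Function.Surjective (algebraMap k (ResidueField A))) :
    IsRegularLocalRing A ↔ CAlgX.IsAdicFormallySmooth k A (maximalIdeal A) := by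
  haveI := geomRed k A hres
  exact ((Groth.Agent.S2453.result (k := k) (A := A)).out 3 0)

theorem hres_of_pi (π : A →ₐ[k] k) (hπ : RingHom.ker π = IsLocalRing.maximalIdeal A) :
    Function.Surjective (algebraMap k (ResidueField A)) := by
  intro x
  obtain ⟨a, rfl⟩ := IsLocalRing.residue_surjective x
  refine ⟨π a, ?_⟩
  rw [IsScalarTower.algebraMap_apply k A (ResidueField A), ← sub_eq_zero]
  change IsLocalRing.residue A _ - IsLocalRing.residue A a = 0
  rw [← map_sub, IsLocalRing.residue_eq_zero_iff, ← hπ, RingHom.mem_ker, map_sub]
  simp

theorem main [IsNoetherianRing A]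
    (π : A →ₐ[k] k) (hπ : RingHom.ker π = IsLocalRing.maximalIdeal A) :
    IsRegularLocalRing A ↔
      ∀ (R : Type u) [CommRing R] [Algebra k R] [IsArtinianRing R] [IsLocalRing R] (J : Ideal R),
        J ^ 2 = ⊥ → ∀ f : A →ₐ[k] R ⧸ J, IsLocalHom (f : A →+* R ⧸ J) →
          ∃ g : A →ₐ[k] R, (Ideal.Quotient.mkₐ k J).comp g = f := by
  have hres := hres_of_pi k A π hπ
  rw [reg_iff k A hres]
  constructor
  · intro hs R _ _ _ _ J hJ f hf
    apply hs R J hJ f
    obtain ⟨n, hn⟩ := IsArtinianRing.isNilpotent_jacobson_bot (R := R ⧸ J)
    refine ⟨n, fun x hx => ?_⟩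
    have h1 : (maximalIdeal A).map (f : A →+* R ⧸ J) ≤ Ideal.jacobson ⊥ := by
      rw [Ideal.map_le_iff_le_comap]
      intro a ha
      change f a ∈ Ideal.jacobson ⊥
      rw [Ideal.mem_jacobson_bot]
      intro y
      by_contra hu
      -- f a * y + 1 is not a unit; but f a is a nonunit...
      rcases subsingleton_or_nontrivial (R ⧸ J) with hsub | hnt
      · exact hu (isUnit_of_subsingleton _)
      · haveI : IsLocalRing (R ⧸ J) := IsLocalRing.of_surjective' (Ideal.Quotient.mk J) Ideal.Quotient.mk_surjective
        have hfa : f a ∈ maximalIdeal (R ⧸ J) := by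
          rw [IsLocalRing.mem_maximalIdeal, mem_nonunits_iff]
          intro hua
          have := hf.map_nonunit a hua
          exact ha this
        have : f a * y ∈ maximalIdeal (R ⧸ J) := Ideal.mul_mem_right _ _ hfa
        apply hu
        have h1 : IsUnit ((1 : R ⧸ J)) := isUnit_one
        by_contra hnu
        have : f a * y + 1 ∈ maximalIdeal (R ⧸ J) := by
          rw [IsLocalRing.mem_maximalIdeal, mem_nonunits_iff]; exact hnu
        have h2 : (1 : R ⧸ J) ∈ maximalIdeal (R ⧸ J) := by
          have := Ideal.sub_mem _ this ‹f a * y ∈ maximalIdeal (R ⧸ J)›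
          simpa using this
        exact (IsLocalRing.maximalIdeal.isMaximal (R ⧸ J)).ne_top ((Ideal.eq_top_iff_one _).2 h2)
    have h2 : f x ∈ ((maximalIdeal A) ^ n).map (f : A →+* R ⧸ J) := Ideal.mem_map_of_mem _ hx
    rw [Ideal.map_pow] at h2
    have h3 := Ideal.pow_right_mono h1 n h2
    rw [hn] at h3
    exact h3
  · intro H
    apply adic_of_lift k A hres
    intro B' _ _ _ _ J hJ f hf
    haveI : IsArtinianRing B' := IsArtinianRing.of_finite k B'
    exact H B' J hJ f hf

end Aux

/-- (i) ⇔ (iii): let k be a field and A a complete local Noetherian k-algebra with residue field k (a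
k-algebra map π : A → k with kernel the maximal ideal; A complete for the adic topology of its
maximal ideal). Then A is regular if and only if A satisfies the infinitesimal lifting criterion:
for every Artinian local k-algebra R and every ideal J of R of square zero, every local k-algebra
homomorphism A → R/J (one carrying non-units to non-units) lifts to a k-algebra homomorphism A → R.
(The test algebras R range over one universe, that of A. The published criterion is worded for
arbitrary k-algebra homomorphisms A → R/J; it is stated here for local ones, the case the argument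
establishes and the form in which the text itself restates the criterion afterwards. The published
statement lists a third equivalent condition, A ≅ k[[x_1, …, x_d]].) -/
theorem result (k A : Type u) [Field k]
    [CommRing A] [Algebra k A] [IsLocalRing A] [IsNoetherianRing A]
    [IsAdicComplete (IsLocalRing.maximalIdeal A) A]
    (π : A →ₐ[k] k) (hπ : RingHom.ker π = IsLocalRing.maximalIdeal A) :
    IsRegularLocalRing A ↔
      ∀ (R : Type u) [CommRing R] [Algebra k R] [IsArtinianRing R] [IsLocalRing R] (J : Ideal R),
        J ^ 2 = ⊥ → ∀ f : A →ₐ[k] R ⧸ J, IsLocalHom (f : A →+* R ⧸ J) →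
          ∃ g : A →ₐ[k] R, (Ideal.Quotient.mkₐ k J).comp g = f := by
  exact Aux.main k A π hπ

end Groth.Agent.S19506
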