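import Groth.Statements.S19512
import Mathlib

set_option autoImplicit false
universe u
open CategoryTheory CategoryTheory.Limits AlgebraicGeometry
open Variety

namespace Groth.Agent.S19512

namespace H19512

/-- A closed morphism inducing isomorphisms on all sections is surjective. -/
theorem surj_of_closed {X Y : Scheme.{u}} (f : X ⟶ Y) (hcl : IsClosedMap f)
    (hfib : ∀ V : Y.Opens, IsIso (f.app V)) : Function.Surjective f := by
  have hclosed : IsClosed (Set.range f) := hcl.isClosed_range
  let V : Y.Opens := ⟨(Set.range f)ᶜ, hclosed.isOpen_compl⟩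
  have hpre : f ⁻¹ᵁ V = ⊥ := by
    ext x
    constructor
    · intro h
      have h' : f x ∈ (Set.range f)ᶜ := h
      exact (h' ⟨x, rfl⟩).elim
    · intro h; exact (h : x ∈ (⊥ : X.Opens)).elim
  have hsub : Subsingleton Γ(X, f ⁻¹ᵁ V) := by
    rw [hpre]; infer_instance
  have hiso := hfib V
  have hsubY : Subsingleton Γ(Y, V) := by
    have e := (asIso (f.app V)).commRingCatIsoToRingEquiv
    exact e.toEquiv.subsingleton
  intro y
  by_contra hy
  have : Nonempty V := ⟨⟨y, hy⟩⟩
  have := Y.component_nontrivial V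
  exact not_subsingleton _ hsubY

theorem main (k : Type u) [Field k] (X Y : Scheme.{u})
    [X.Over (Spec (CommRingCat.of k))] [Y.Over (Spec (CommRingCat.of k))] [IsProper (X ↘ Spec (CommRingCat.of k))] [IsProper (Y ↘ Spec (CommRingCat.of k))]
    (f : X ⟶ Y) (hf : f ≫ (Y ↘ Spec (CommRingCat.of k)) = X ↘ Spec (CommRingCat.of k)) (hfib : ∀ V : Y.Opens, IsIso (f.app V)) :
    Surjective f := by
  haveI : IsProper (f ≫ (Y ↘ Spec (CommRingCat.of k))) := by rw [hf]; infer_instance
  haveI : IsProper f := IsProper.of_comp f (Y ↘ Spec (CommRingCat.of k))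
  exact ⟨surj_of_closed f f.isClosedMap hfib⟩



theorem integral_of_closed {X Y : Scheme.{u}} (f : X ⟶ Y) (hcl : IsClosedMap f)
    (hfib : ∀ V : Y.Opens, IsIso (f.app V)) [AlgebraicGeometry.IsIntegral X] :
    AlgebraicGeometry.IsIntegral Y := by
  have hs := surj_of_closed f hcl hfib
  have hne : Nonempty Y := ⟨f (Classical.arbitrary X)⟩
  refine { nonempty := hne, component_integral := fun U hU => ?_ }
  obtain ⟨⟨y, hy⟩⟩ := hU
  obtain ⟨x, rfl⟩ := hs y
  have : Nonempty (f ⁻¹ᵁ U) := ⟨⟨x, hy⟩⟩
  have hdom : IsDomain Γ(X, f ⁻¹ᵁ U) := inferInstance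
  have := hfib U
  have e := (asIso (f.app U)).commRingCatIsoToRingEquiv
  exact e.toMulEquiv.isDomain_iff.2 hdom |> fun h => h

theorem main2 (k : Type u) [Field k] (X Y : Scheme.{u})
    [X.Over (Spec (CommRingCat.of k))] [Y.Over (Spec (CommRingCat.of k))] [IsProper (X ↘ Spec (CommRingCat.of k))] [IsProper (Y ↘ Spec (CommRingCat.of k))]
    (f : X ⟶ Y) (hf : f ≫ (Y ↘ Spec (CommRingCat.of k)) = X ↘ Spec (CommRingCat.of k)) (hfib : ∀ V : Y.Opens, IsIso (f.app V))
    [AlgebraicGeometry.IsIntegral X] : AlgebraicGeometry.IsIntegral Y := by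
  haveI : IsProper (f ≫ (Y ↘ Spec (CommRingCat.of k))) := by rw [hf]; infer_instance
  haveI : IsProper f := IsProper.of_comp f (Y ↘ Spec (CommRingCat.of k))
  exact integral_of_closed f f.isClosedMap hfib

end H19512

/-- Let k be a field and f : X → Y a k-morphism between proper k-schemes which is a fibration, i.e. O_Y
→ f_*O_X is an isomorphism (Γ(V, O_Y) → Γ(f⁻¹V, O_X) bijective for every open V ⊆ Y). If X is
integral, then Y is integral. (The second assertion of (ii), generic flatness of f, is quoted from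
the literature and not stated.) -/
theorem result (k : Type u) [Field k] (X Y : Scheme.{u})
    [X.Over (Spec (CommRingCat.of k))] [Y.Over (Spec (CommRingCat.of k))] [IsProper (X ↘ Spec (CommRingCat.of k))] [IsProper (Y ↘ Spec (CommRingCat.of k))]
    (f : X ⟶ Y) (hf : f ≫ (Y ↘ Spec (CommRingCat.of k)) = X ↘ Spec (CommRingCat.of k)) (hfib : ∀ V : Y.Opens, IsIso (f.app V))
    [AlgebraicGeometry.IsIntegral X] : AlgebraicGeometry.IsIntegral Y := by
  exact H19512.main2 k X Y f hf hfib

end Groth.Agent.S19512
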