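import Groth.Statements.S19522
import Mathlib
-- import your own Groth.Agent.* helpers here

set_option autoImplicit false
universe u
open TensorProduct
open GLin

namespace Groth.Agent.S19522

namespace Aux
open TensorProduct

section
variable {k : Type u} [Field k] {A : Type u} [CommRing A] [Bialgebra k A]
  {R : Type u} [CommRing R] [Algebra k R]

/-- coefficient extraction on `R[t] ⊗ A` -/
noncomputable def c (r : ℕ) : Polynomial R ⊗[k] A →ₗ[k] R ⊗[k] A :=
  LinearMap.rTensor A ((Polynomial.lcoeff R r).restrictScalars k)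

lemma c_tmul (r : ℕ) (p : Polynomial R) (a : A) : c (k := k) r (p ⊗ₜ[k] a) = p.coeff r ⊗ₜ[k] a := by
  simp [c]

lemma c_mul (r s : ℕ) (u : R ⊗[k] A) (a : A) :
    c (k := k) r (Algebra.TensorProduct.map (Polynomial.CAlgHom : R →ₐ[k] Polynomial R)
      (AlgHom.id k A) u * ((Polynomial.X ^ s : Polynomial R) ⊗ₜ[k] a)) =
      if r = s then u * ((1 : R) ⊗ₜ[k] a) else 0 := by
  induction u using TensorProduct.induction_on with
  | zero => simp
  | tmul p b =>
    rw [Algebra.TensorProduct.map_tmul, Algebra.TensorProduct.tmul_mul_tmul, c_tmul]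
    show (Polynomial.C p * Polynomial.X ^ s).coeff r ⊗ₜ[k] (b * a) = _
    rw [Polynomial.coeff_C_mul_X_pow]
    split_ifs with h
    · rw [Algebra.TensorProduct.tmul_mul_tmul, mul_one]
    · rw [TensorProduct.zero_tmul]
  | add x y hx hy =>
    rw [map_add, add_mul, map_add, hx, hy]
    split_ifs with h
    · rw [add_mul]
    · rw [add_zero]

variable [HopfRep.Comod k A R] [GLin.IsCoactAlg k A R]
  [HopfRep.Comod k A (Polynomial R)] [GLin.IsCoactAlg k A (Polynomial R)]

lemma coact_monomial (χ' : A)
    (hC : ∀ r : R, HopfRep.Comod.coact (k := k) (A := A) (Polynomial.C r) =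
      Algebra.TensorProduct.map (Polynomial.CAlgHom : R →ₐ[k] Polynomial R) (AlgHom.id k A)
        (HopfRep.Comod.coact (k := k) (A := A) r))
    (hX : HopfRep.Comod.coact (k := k) (A := A) (Polynomial.X : Polynomial R) = Polynomial.X ⊗ₜ[k] χ')
    (a : R) (n : ℕ) :
    HopfRep.Comod.coact (k := k) (A := A) (Polynomial.C a * Polynomial.X ^ n : Polynomial R) =
      Algebra.TensorProduct.map (Polynomial.CAlgHom : R →ₐ[k] Polynomial R) (AlgHom.id k A)
        (HopfRep.Comod.coact (k := k) (A := A) a) * ((Polynomial.X ^ n : Polynomial R) ⊗ₜ[k] (χ' ^ n)) := by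
  rw [GLin.IsCoactAlg.coact_mul, hC]
  congr 1
  have h1 : HopfRep.Comod.coact (k := k) (A := A) (Polynomial.X ^ n : Polynomial R) =
      (HopfRep.Comod.coact (k := k) (A := A) (Polynomial.X : Polynomial R)) ^ n := by
    rw [← GLin.coactAlgHom_apply, ← GLin.coactAlgHom_apply, map_pow]
  rw [h1, hX, Algebra.TensorProduct.tmul_pow]

lemma key (χ' : A)
    (hC : ∀ r : R, HopfRep.Comod.coact (k := k) (A := A) (Polynomial.C r) =
      Algebra.TensorProduct.map (Polynomial.CAlgHom : R →ₐ[k] Polynomial R) (AlgHom.id k A)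
        (HopfRep.Comod.coact (k := k) (A := A) r))
    (hX : HopfRep.Comod.coact (k := k) (A := A) (Polynomial.X : Polynomial R) = Polynomial.X ⊗ₜ[k] χ')
    (g : Polynomial R) (r : ℕ) :
    c (k := k) r (HopfRep.Comod.coact (k := k) (A := A) g) =
      HopfRep.Comod.coact (k := k) (A := A) (g.coeff r) * ((1 : R) ⊗ₜ[k] (χ' ^ r)) := by
  induction g using Polynomial.induction_on' with
  | add p q hp hq => rw [map_add, map_add, hp, hq, Polynomial.coeff_add, map_add, add_mul]
  | monomial n a =>
    rw [← Polynomial.C_mul_X_pow_eq_monomial, coact_monomial χ' hC hX, c_mul,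
      Polynomial.coeff_C_mul_X_pow]
    split_ifs with h
    · rw [h]
    · rw [map_zero, zero_mul]

theorem main (χ χ' : A) (hχχ' : χ * χ' = 1)
    (hC : ∀ r : R, HopfRep.Comod.coact (k := k) (A := A) (Polynomial.C r) =
      Algebra.TensorProduct.map (Polynomial.CAlgHom : R →ₐ[k] Polynomial R) (AlgHom.id k A)
        (HopfRep.Comod.coact (k := k) (A := A) r))
    (hX : HopfRep.Comod.coact (k := k) (A := A) (Polynomial.X : Polynomial R) = Polynomial.X ⊗ₜ[k] χ')
    (g : Polynomial R) :
    g ∈ GLin.invariants k A (Polynomial R) ↔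
      ∀ r : ℕ, g.coeff r ∈ HopfRep.eigenspace k A R (χ ^ r) := by
  constructor
  · intro hg r
    have h1 : HopfRep.Comod.coact (k := k) (A := A) g = g ⊗ₜ[k] (1 : A) := hg
    have h2 := key χ' hC hX g r
    rw [h1, c_tmul] at h2
    show HopfRep.Comod.coact (k := k) (A := A) (g.coeff r) = g.coeff r ⊗ₜ[k] (χ ^ r)
    have h3 : g.coeff r ⊗ₜ[k] (1 : A) * ((1 : R) ⊗ₜ[k] (χ ^ r)) =
        HopfRep.Comod.coact (k := k) (A := A) (g.coeff r) * ((1 : R) ⊗ₜ[k] (χ' ^ r)) *
          ((1 : R) ⊗ₜ[k] (χ ^ r)) := by rw [h2]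
    rw [mul_assoc, Algebra.TensorProduct.tmul_mul_tmul, Algebra.TensorProduct.tmul_mul_tmul,
      mul_one, mul_one, one_mul, ← mul_pow, mul_comm χ' χ, hχχ', one_pow,
      ← Algebra.TensorProduct.one_def, mul_one] at h3
    exact h3.symm
  · intro hg
    show HopfRep.Comod.coact (k := k) (A := A) g = g ⊗ₜ[k] (1 : A)
    have hsum := g.as_sum_range_C_mul_X_pow
    have h1 : ∀ i, HopfRep.Comod.coact (k := k) (A := A)
        (Polynomial.C (g.coeff i) * Polynomial.X ^ i : Polynomial R) =
        (Polynomial.C (g.coeff i) * Polynomial.X ^ i : Polynomial R) ⊗ₜ[k] (1 : A) := by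
      intro i
      have h2 : HopfRep.Comod.coact (k := k) (A := A) (g.coeff i) = g.coeff i ⊗ₜ[k] (χ ^ i) := hg i
      rw [coact_monomial χ' hC hX, h2, Algebra.TensorProduct.map_tmul,
        Algebra.TensorProduct.tmul_mul_tmul, AlgHom.id_apply, ← mul_pow, hχχ', one_pow]
      rfl
    conv_lhs => rw [hsum]
    conv_rhs => rw [hsum]
    rw [map_sum, TensorProduct.sum_tmul]
    exact Finset.sum_congr rfl (fun i _ => h1 i)

end
end Aux

/-- Let k be a field, A a commutative k-bialgebra coacting multiplicatively on a commutative k-algebra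
R, and χ ∈ A a group-like element with an inverse χ' (χχ' = 1). Suppose the polynomial ring R[t]
carries a multiplicative coaction which restricts to the given one on constants and sends t to t ⊗
χ'. Then g ∈ R[t] is coinvariant if and only if, for every r, its r-th coefficient has coaction g_r
↦ g_r ⊗ χ^r; that is, the ring of invariants of R[t] is the sum over r ≥ 0 of the weight-χ^r
semi-invariants of R times t^r. (The published statement is phrased for an affine variety with an
action of a linear algebraic group over an algebraically closed field of characteristic zero and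
identifies the invariants of X × A¹ with the graded ring of invariant sections of the powers of the
linearised trivial bundle; this is its coordinate-ring content, valid over any field.) -/
theorem result (k : Type u) [Field k]
    (A : Type u) [CommRing A] [Bialgebra k A]
    (R : Type u) [CommRing R] [Algebra k R] [HopfRep.Comod k A R] [GLin.IsCoactAlg k A R]
    [HopfRep.Comod k A (Polynomial R)] [GLin.IsCoactAlg k A (Polynomial R)]
    (χ χ' : A) (hχ : CoalgebraStruct.comul (R := k) (A := A) χ = χ ⊗ₜ[k] χ)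
    (hχε : CoalgebraStruct.counit (R := k) (A := A) χ = 1) (hχχ' : χ * χ' = 1)
    (hC : ∀ r : R, HopfRep.Comod.coact (k := k) (A := A) (Polynomial.C r) =
      Algebra.TensorProduct.map (Polynomial.CAlgHom : R →ₐ[k] Polynomial R) (AlgHom.id k A)
        (HopfRep.Comod.coact (k := k) (A := A) r))
    (hX : HopfRep.Comod.coact (k := k) (A := A) (Polynomial.X : Polynomial R) = Polynomial.X ⊗ₜ[k] χ')
    (g : Polynomial R) :
    g ∈ GLin.invariants k A (Polynomial R) ↔
      ∀ r : ℕ, g.coeff r ∈ HopfRep.eigenspace k A R (χ ^ r) := by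
  exact Aux.main χ χ' hχχ' hC hX g

end Groth.Agent.S19522
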