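import Groth.Statements.S19523
import Groth.Agent.Lib.Helper2.Sch.OrbitSmooth


set_option autoImplicit false
universe u
open CategoryTheory MonoidalCategory CartesianMonoidalCategory MonObj GrpObj AlgebraicGeometry
open AlgGrp

namespace Groth.Agent.S19523

/-- Let k be a field, G a smooth k-group scheme of finite type acting on a k-scheme X of finite type,
and x a rational point of X. The orbit of x, the image of the orbit map G → X, is locally closed
(not restated here); if i : O → X is an immersion from a reduced scheme whose image is exactly the
orbit — the orbit with its reduced induced structure — then O is smooth over k. -/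
theorem result (k : Type u) [Field k]
    (G X : Over (Spec (CommRingCat.of k))) [GrpObj G] [Smooth G.hom] [QuasiCompact G.hom]
    [LocallyOfFiniteType X.hom] [QuasiCompact X.hom] (a : AlgGrp.Action G X)
    (x : 𝟙_ (Over (Spec (CommRingCat.of k))) ⟶ X)
    (O : Scheme.{u}) (i : O ⟶ X.left) [IsImmersion i] [IsReduced O]
    (hO : Set.range i.base = Set.range (a.orbitMap x).left.base) : Smooth (i ≫ X.hom) := by
  have hO' : Set.range i = Set.range (Groth.Agent.Helper2.Orbit.orbit a.act x).left := hO
  haveI : IsImmersion (Over.homMk (U := Over.mk (i ≫ X.hom)) (V := X) i rfl).left :=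
    ‹IsImmersion i›
  haveI : IsReduced (Over.mk (i ≫ X.hom)).left := ‹IsReduced O›
  exact Groth.Agent.Helper2.Orbit.smooth_of_range_eq_orbit (Ok := Over.mk (i ≫ X.hom)) a.act
    a.one_act a.mul_act x (Over.homMk i rfl) hO'

end Groth.Agent.S19523
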