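import Groth.Statements.S19546
import Mathlib
import Groth.Agent.Lib.Helper2.CommonZero
-- import your own Groth.Agent.* helpers here

set_option autoImplicit false
universe u v w
open scoped TensorProduct
open VBCurve

namespace Groth.Agent.S19546

open MvPolynomial Groth.Agent.Helper2.CommonZero
namespace Aux

variable (k : Type) [Field k] (a b : ℕ)

/-- the Segre generators `x_i y_j` -/
noncomputable def g (i : Fin a) (j : Fin b) : MvPolynomial (Fin (a + b)) k :=
  X (Fin.castAdd b i) * X (Fin.natAdd a j)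

/-- the Segre ring -/
noncomputable def R : Subalgebra k (MvPolynomial (Fin (a + b)) k) :=
  Algebra.adjoin k (Set.range (fun p : Fin a × Fin b => g k a b p.1 p.2))

theorem g_mem (i : Fin a) (j : Fin b) : g k a b i j ∈ R k a b :=
  Algebra.subset_adjoin ⟨(i, j), rfl⟩

/-- the generators as elements of the Segre ring -/
noncomputable def gR (i : Fin a) (j : Fin b) : R k a b := ⟨g k a b i j, g_mem k a b i j⟩

instance : Algebra.FiniteType k (R k a b) := by
  classical
  have h : (R k a b).FG := by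
    unfold R
    have : (Set.range (fun p : Fin a × Fin b => g k a b p.1 p.2)) =
        ((Finset.univ.image (fun p : Fin a × Fin b => g k a b p.1 p.2) : Finset _) : Set _) := by
      simp
    rw [this]
    exact Subalgebra.fg_adjoin_finset _
  exact (Subalgebra.fg_iff_finiteType _).1 h

instance : IsNoetherianRing (R k a b) := Algebra.FiniteType.isNoetherianRing k _

instance : IsJacobsonRing (R k a b) := isJacobsonRing_of_finiteType (A := k)

/-- the primes of the Segre ring cut out by coordinate subspaces -/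
noncomputable def Q (Z : Set (Fin (a + b))) : Ideal (R k a b) :=
  (P k (a + b) Z).comap (R k a b).val

instance (Z : Set (Fin (a + b))) : (Q k a b Z).IsPrime := by
  unfold Q
  exact Ideal.comap_isPrime _ _

theorem mem_Q {Z : Set (Fin (a + b))} (r : R k a b) :
    r ∈ Q k a b Z ↔ sub k (a + b) Z (r : MvPolynomial (Fin (a + b)) k) = 0 := by
  unfold Q
  rw [Ideal.mem_comap, mem_P]
  rfl

theorem Q_mono {Z Z' : Set (Fin (a + b))} (h : Z ⊆ Z') : Q k a b Z ≤ Q k a b Z' :=
  Ideal.comap_mono (P_mono k (a + b) h)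

theorem sub_g {Z : Set (Fin (a + b))} (i : Fin a) (j : Fin b) :
    sub k (a + b) Z (g k a b i j) =
      sub k (a + b) Z (X (Fin.castAdd b i)) * sub k (a + b) Z (X (Fin.natAdd a j)) := by
  unfold g
  rw [map_mul]

theorem Q_lt {Z Z' : Set (Fin (a + b))} (h : Z ⊆ Z') (i : Fin a) (j : Fin b)
    (hi : Fin.castAdd b i ∉ Z) (hj : Fin.natAdd a j ∉ Z)
    (h' : Fin.castAdd b i ∈ Z' ∨ Fin.natAdd a j ∈ Z') : Q k a b Z < Q k a b Z' := by
  refine lt_of_le_of_ne (Q_mono k a b h) ?_
  intro heq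
  have h1 : gR k a b i j ∈ Q k a b Z' := by
    rw [mem_Q]
    show sub k (a + b) Z' (g k a b i j) = 0
    rw [sub_g]
    rcases h' with h' | h'
    · rw [sub_X_of_mem k _ h', zero_mul]
    · rw [sub_X_of_mem k _ h', mul_zero]
  rw [← heq, mem_Q] at h1
  have h2 : sub k (a + b) Z (g k a b i j) = 0 := h1
  rw [sub_g, sub_X_of_not_mem k _ hi, sub_X_of_not_mem k _ hj] at h2
  rcases mul_eq_zero.mp h2 with h3 | h3
  · exact X_ne_zero _ h3
  · exact X_ne_zero _ h3


/-- the chain of coordinate subspaces -/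
def Z (t : ℕ) : Set (Fin (a + b)) :=
  {v | (v.val + 1 < a ∧ v.val < t) ∨ (a ≤ v.val ∧ v.val < t + 1 ∧ v.val + 1 < a + b)}

theorem mem_Z (t : ℕ) (v : Fin (a + b)) : v ∈ Z a b t ↔
    (v.val + 1 < a ∧ v.val < t) ∨ (a ≤ v.val ∧ v.val < t + 1 ∧ v.val + 1 < a + b) := Iff.rfl

theorem height_chain (ha : 1 ≤ a) (hb : 1 ≤ b) (t : ℕ) (ht : t + 2 ≤ a + b) :
    (t : ℕ∞) ≤ (Q k a b (Z a b t)).height := by
  induction t with
  | zero => simp
  | succ t ih =>
    have ih' := ih (by omega)
    have hsub : Z a b t ⊆ Z a b (t + 1) := by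
      intro v hv
      rw [mem_Z] at hv ⊢
      omega
    have hlt : Q k a b (Z a b t) < Q k a b (Z a b (t + 1)) := by
      by_cases hc : t + 1 < a
      · refine Q_lt k a b hsub ⟨t, by omega⟩ ⟨b - 1, by omega⟩ ?_ ?_ (Or.inl ?_)
        · rw [mem_Z]; simp only [Fin.val_castAdd]; omega
        · rw [mem_Z]; simp only [Fin.val_natAdd]; omega
        · rw [mem_Z]; simp only [Fin.val_castAdd]; omega
      · refine Q_lt k a b hsub ⟨a - 1, by omega⟩ ⟨t + 1 - a, by omega⟩ ?_ ?_ (Or.inr ?_)
        · rw [mem_Z]; simp only [Fin.val_castAdd]; omega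
        · rw [mem_Z]; simp only [Fin.val_natAdd]; omega
        · rw [mem_Z]; simp only [Fin.val_natAdd]; omega
    have := Ideal.height_add_one_le_of_lt_of_isPrime hlt
    calc ((t + 1 : ℕ) : ℕ∞) = (t : ℕ∞) + 1 := by push_cast; rfl
      _ ≤ (Q k a b (Z a b t)).height + 1 := by gcongr
      _ ≤ _ := this

theorem height_top (ha : 1 ≤ a) (hb : 1 ≤ b) :
    ((a + b - 1 : ℕ) : ℕ∞) ≤ (Q k a b Set.univ).height := by
  have h1 := height_chain k a b ha hb (a + b - 2) (by omega)
  have hlt : Q k a b (Z a b (a + b - 2)) < Q k a b Set.univ := by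
    refine Q_lt k a b (Set.subset_univ _) ⟨a - 1, by omega⟩ ⟨b - 1, by omega⟩ ?_ ?_
      (Or.inl (Set.mem_univ _))
    · rw [mem_Z]; simp only [Fin.val_castAdd]; omega
    · rw [mem_Z]; simp only [Fin.val_natAdd]; omega
  have := Ideal.height_add_one_le_of_lt_of_isPrime hlt
  calc ((a + b - 1 : ℕ) : ℕ∞) = ((a + b - 2 : ℕ) : ℕ∞) + 1 := by
        have : a + b - 1 = (a + b - 2) + 1 := by omega
        rw [this]; push_cast; rfl
    _ ≤ (Q k a b (Z a b (a + b - 2))).height + 1 := by gcongr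
    _ ≤ _ := this

theorem mem_Q_univ (r : R k a b) :
    r ∈ Q k a b Set.univ ↔ eval 0 (r : MvPolynomial (Fin (a + b)) k) = 0 := by
  rw [mem_Q, sub_univ]
  exact map_eq_zero_iff _ (C_injective _ _)

theorem eval_g (i : Fin a) (j : Fin b) : eval 0 (g k a b i j) = 0 := by
  unfold g
  simp

theorem gR_mem (i : Fin a) (j : Fin b) : gR k a b i j ∈ Q k a b Set.univ := by
  rw [mem_Q_univ]
  exact eval_g k a b i j

/-- the ideal generated by the Segre generators -/
noncomputable def G : Ideal (R k a b) :=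
  Ideal.span (Set.range (fun p : Fin a × Fin b => gR k a b p.1 p.2))

theorem sub_const_mem (r : R k a b) :
    r - algebraMap k (R k a b) (eval 0 (r : MvPolynomial (Fin (a + b)) k)) ∈ G k a b := by
  obtain ⟨x, hx⟩ := r
  show (⟨x, hx⟩ : R k a b) - algebraMap k (R k a b) (eval 0 x) ∈ G k a b
  induction hx using Algebra.adjoin_induction with
  | mem x hx =>
    obtain ⟨p, rfl⟩ := hx
    have : eval 0 (g k a b p.1 p.2) = 0 := eval_g k a b p.1 p.2
    simp only [this, map_zero, sub_zero]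
    exact Ideal.subset_span ⟨p, rfl⟩
  | algebraMap c =>
    have : (⟨algebraMap k _ c, Subalgebra.algebraMap_mem _ c⟩ : R k a b) =
        algebraMap k (R k a b) c := rfl
    have h2 : eval 0 (algebraMap k (MvPolynomial (Fin (a + b)) k) c) = c := by
      simp
    rw [h2, this, sub_self]
    exact zero_mem _
  | add x y hx hy ihx ihy =>
    have : (⟨x + y, Subalgebra.add_mem _ hx hy⟩ : R k a b) -
        algebraMap k (R k a b) (eval 0 (x + y)) =
        ((⟨x, hx⟩ : R k a b) - algebraMap k (R k a b) (eval 0 x)) +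
        ((⟨y, hy⟩ : R k a b) - algebraMap k (R k a b) (eval 0 y)) := by
      rw [map_add, map_add]
      have : (⟨x + y, Subalgebra.add_mem _ hx hy⟩ : R k a b) = ⟨x, hx⟩ + ⟨y, hy⟩ := rfl
      rw [this]
      ring
    rw [this]
    exact add_mem ihx ihy
  | mul x y hx hy ihx ihy =>
    have : (⟨x * y, Subalgebra.mul_mem _ hx hy⟩ : R k a b) -
        algebraMap k (R k a b) (eval 0 (x * y)) =
        ((⟨x, hx⟩ : R k a b) - algebraMap k (R k a b) (eval 0 x)) * ⟨y, hy⟩ +
        algebraMap k (R k a b) (eval 0 x) *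
        ((⟨y, hy⟩ : R k a b) - algebraMap k (R k a b) (eval 0 y)) := by
      rw [map_mul, map_mul]
      have : (⟨x * y, Subalgebra.mul_mem _ hx hy⟩ : R k a b) = ⟨x, hx⟩ * ⟨y, hy⟩ := rfl
      rw [this]
      ring
    rw [this]
    exact add_mem (Ideal.mul_mem_right _ _ ihx) (Ideal.mul_mem_left _ _ ihy)


variable [IsAlgClosed k]

theorem exists_point (ha : 1 ≤ a) (hb : 1 ≤ b) (s : Finset (R k a b)) (hs : s.card + 1 < a + b)
    (h0 : ∀ r ∈ s, r ∈ Q k a b Set.univ) :
    ∃ ψ : R k a b →ₐ[k] k, (∀ r ∈ s, ψ r = 0) ∧ ∃ i j, ψ (gR k a b i j) ≠ 0 := by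
  classical
  let I : Ideal (R k a b) := Ideal.span s
  let M : Ideal (R k a b) := Q k a b Set.univ
  have hIM : I ≤ M := by
    rw [Ideal.span_le]
    exact h0
  have hex : ∃ N : Ideal (R k a b), N.IsMaximal ∧ I ≤ N ∧ N ≠ M := by
    by_contra hcon
    push Not at hcon
    have hmin : M ∈ I.minimalPrimes := by
      refine ⟨⟨inferInstance, hIM⟩, ?_⟩
      rintro q ⟨hq, hIq⟩ -
      have : q = q.jacobson := by rw [← Ideal.radical_eq_jacobson, hq.radical]
      rw [this]
      refine le_sInf ?_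
      rintro J ⟨hqJ, hJ⟩
      rw [hcon J hJ (hIq.trans hqJ)]
    have h1 := Ideal.height_le_card_of_mem_minimalPrimes_span_finset hmin
    have h2 := height_top k a b ha hb
    have h4 : ((a + b - 1 : ℕ) : ℕ∞) ≤ (s.card : ℕ∞) := h2.trans h1
    have h5 : a + b - 1 ≤ s.card := by exact_mod_cast h4
    omega
  obtain ⟨N, hNmax, hIN, hNM⟩ := hex
  let _ : Field (R k a b ⧸ N) := Ideal.Quotient.field N
  have hfin : Module.Finite k (R k a b ⧸ N) :=
    finite_of_finite_type_of_isJacobsonRing k (R k a b ⧸ N)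
  have hint : Algebra.IsIntegral k (R k a b ⧸ N) := Algebra.IsIntegral.of_finite k _
  have hbij : Function.Bijective (algebraMap k (R k a b ⧸ N)) :=
    IsAlgClosed.algebraMap_bijective_of_isIntegral
  let e : k ≃ₐ[k] (R k a b ⧸ N) := AlgEquiv.ofBijective (Algebra.ofId k _) hbij
  let ψ : R k a b →ₐ[k] k := (e.symm.toAlgHom).comp (Ideal.Quotient.mkₐ k N)
  have hψ : ∀ r, ψ r = 0 ↔ r ∈ N := by
    intro r
    show e.symm (Ideal.Quotient.mk N r) = 0 ↔ r ∈ N
    rw [map_eq_zero_iff _ e.symm.injective, Ideal.Quotient.eq_zero_iff_mem]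
  refine ⟨ψ, fun r hr => (hψ r).2 (hIN (Ideal.subset_span hr)), ?_⟩
  by_contra hcon
  push Not at hcon
  apply hNM
  have hG : G k a b ≤ N := by
    rw [G, Ideal.span_le]
    rintro _ ⟨p, rfl⟩
    exact (hψ _).1 (hcon p.1 p.2)
  have hle : N ≤ M := by
    intro r hr
    show r ∈ Q k a b Set.univ
    rw [mem_Q_univ]
    by_contra hne
    have h1 := hG (sub_const_mem k a b r)
    have h2 : algebraMap k (R k a b) (eval 0 (r : MvPolynomial (Fin (a + b)) k)) ∈ N := by
      have := sub_mem hr h1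
      simpa using this
    have : (1 : R k a b) ∈ N := by
      have := Ideal.mul_mem_left N
        (algebraMap k (R k a b) (eval 0 (r : MvPolynomial (Fin (a + b)) k))⁻¹) h2
      rw [← map_mul, inv_mul_cancel₀ hne, map_one] at this
      exact this
    exact hNmax.ne_top ((Ideal.eq_top_iff_one _).2 this)
  exact hNmax.eq_of_le (Ideal.IsPrime.ne_top inferInstance) hle

omit [IsAlgClosed k] in
theorem gR_rel (i k' : Fin a) (j l : Fin b) :
    gR k a b i j * gR k a b k' l = gR k a b i l * gR k a b k' j := by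
  apply Subtype.ext
  show g k a b i j * g k a b k' l = g k a b i l * g k a b k' j
  unfold g
  ring


open scoped TensorProduct

theorem main
    (A : Type u) (B : Type v) (C : Type w) [AddCommGroup A] [Module ℂ A] [AddCommGroup B] [Module ℂ B]
    [AddCommGroup C] [Module ℂ C] [FiniteDimensional ℂ A] [FiniteDimensional ℂ B]
    [Nontrivial A] [Nontrivial B] (ν : A ⊗[ℂ] B →ₗ[ℂ] C)
    (hA : ∀ a : A, a ≠ 0 → Function.Injective (fun b : B => ν (a ⊗ₜ[ℂ] b)))
    (_hB : ∀ b : B, b ≠ 0 → Function.Injective (fun a : A => ν (a ⊗ₜ[ℂ] b))) :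
    Module.finrank ℂ A + Module.finrank ℂ B ≤ Module.finrank ℂ (LinearMap.range ν) + 1 := by
  classical
  by_contra hcon
  push Not at hcon
  have ha : 1 ≤ Module.finrank ℂ A := Module.finrank_pos
  have hb : 1 ≤ Module.finrank ℂ B := Module.finrank_pos
  generalize hadef : Module.finrank ℂ A = a at ha hcon
  generalize hbdef : Module.finrank ℂ B = b at hb hcon
  generalize hcdef : Module.finrank ℂ (LinearMap.range ν) = c at hcon
  let eA : Module.Basis (Fin a) ℂ A := (Module.finBasis ℂ A).reindex (finCongr hadef)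
  let eB : Module.Basis (Fin b) ℂ B := (Module.finBasis ℂ B).reindex (finCongr hbdef)
  let w : Module.Basis (Fin c) ℂ (LinearMap.range ν) :=
    (Module.finBasis ℂ (LinearMap.range ν)).reindex (finCongr hcdef)
  let T : A ⊗[ℂ] B →ₗ[ℂ] (Fin c → ℂ) := w.equivFun.toLinearMap.comp ν.rangeRestrict
  have hT : ∀ z, T z = 0 → ν z = 0 := by
    intro z hz
    have h1 : ν.rangeRestrict z = 0 := by
      apply w.equivFun.injective
      rw [map_zero]
      exact hz
    exact congrArg Subtype.val h1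
  let φ : Fin c → Fin a → Fin b → ℂ := fun k i j => T (eA i ⊗ₜ eB j) k
  let Φ : Fin c → R ℂ a b := fun k => ∑ i, ∑ j, φ k i j • gR ℂ a b i j
  have hΦ : ∀ k, Φ k ∈ Q ℂ a b Set.univ := fun k =>
    Ideal.sum_mem _ fun i _ => Ideal.sum_mem _ fun j _ =>
      Submodule.smul_of_tower_mem _ _ (gR_mem ℂ a b i j)
  let s : Finset (R ℂ a b) := Finset.univ.image Φ
  have hs : s.card + 1 < a + b := by
    have : s.card ≤ c := by
      calc s.card ≤ (Finset.univ : Finset (Fin c)).card := Finset.card_image_le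
        _ = c := by simp
    omega
  obtain ⟨ψ, hψs, i0, j0, hne⟩ := exists_point ℂ a b ha hb s hs (by
    intro r hr
    obtain ⟨k, -, rfl⟩ := Finset.mem_image.1 hr
    exact hΦ k)
  let m : Fin a → Fin b → ℂ := fun i j => ψ (gR ℂ a b i j)
  have hm : ∀ i k j l, m i j * m k l = m i l * m k j := by
    intro i k j l
    show ψ _ * ψ _ = ψ _ * ψ _
    rw [← map_mul, ← map_mul, gR_rel]
  have hψΦ : ∀ k, ∑ i, ∑ j, φ k i j * m i j = 0 := by
    intro k
    have := hψs (Φ k) (Finset.mem_image_of_mem _ (Finset.mem_univ _))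
    rw [show Φ k = ∑ i, ∑ j, φ k i j • gR ℂ a b i j from rfl] at this
    simp only [map_sum, map_smul, smul_eq_mul] at this
    exact this
  let x : A := ∑ i, m i j0 • eA i
  let y : B := ∑ j, (m i0 j / m i0 j0) • eB j
  have hx : x ≠ 0 := by
    intro hx0
    have h1 : eA.repr x i0 = m i0 j0 := by
      show eA.repr (∑ i, m i j0 • eA i) i0 = m i0 j0
      rw [eA.repr_sum_self]
    rw [hx0] at h1
    simp at h1
    exact hne h1.symm
  have hy : y ≠ 0 := by
    intro hy0
    have h1 : eB.repr y j0 = m i0 j0 / m i0 j0 := by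
      show eB.repr (∑ j, (m i0 j / m i0 j0) • eB j) j0 = _
      rw [eB.repr_sum_self]
    rw [hy0, div_self hne] at h1
    simp at h1
  have hxy : x ⊗ₜ[ℂ] y = ∑ i, ∑ j, m i j • (eA i ⊗ₜ[ℂ] eB j) := by
    show (∑ i, m i j0 • eA i) ⊗ₜ[ℂ] (∑ j, (m i0 j / m i0 j0) • eB j) = _
    rw [TensorProduct.sum_tmul]
    refine Finset.sum_congr rfl fun i _ => ?_
    rw [TensorProduct.tmul_sum]
    refine Finset.sum_congr rfl fun j _ => ?_
    rw [TensorProduct.smul_tmul_smul]
    congr 1
    have := hm i i0 j0 j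
    have hne' : m i0 j0 ≠ 0 := hne
    rw [← mul_div_assoc, this, mul_div_assoc, div_self hne', mul_one]
  have hTz : T (x ⊗ₜ y) = 0 := by
    ext k
    rw [hxy]
    simp only [map_sum, map_smul, Finset.sum_apply, Pi.smul_apply, smul_eq_mul, Pi.zero_apply]
    rw [← hψΦ k]
    refine Finset.sum_congr rfl fun i _ => Finset.sum_congr rfl fun j _ => ?_
    show m i j * T (eA i ⊗ₜ eB j) k = T (eA i ⊗ₜ eB j) k * m i j
    ring
  have h0 : ν (x ⊗ₜ y) = 0 := hT _ hTz
  have : y = 0 := hA x hx (by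
    show ν (x ⊗ₜ y) = ν (x ⊗ₜ 0)
    rw [h0, TensorProduct.tmul_zero, map_zero])
  exact hy this

end Aux

/-- Let A, B, C be complex vector spaces, A and B finite-dimensional, and ν : A ⊗ B → C a linear map
injective on each factor separately (b ↦ ν(a ⊗ b) is injective for every a ≠ 0 and a ↦ ν(a ⊗ b) is
injective for every b ≠ 0). Then the image of ν has dimension at least dim A + dim B - 1. (For A = 0
the separate-injectivity hypothesis is empty and the inequality fails as soon as dim B ≥ 2, so A and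
B are taken nonzero here, the case the inequality is about.) -/
theorem result
    (A : Type u) (B : Type v) (C : Type w) [AddCommGroup A] [Module ℂ A] [AddCommGroup B] [Module ℂ B]
    [AddCommGroup C] [Module ℂ C] [FiniteDimensional ℂ A] [FiniteDimensional ℂ B]
    [Nontrivial A] [Nontrivial B] (ν : A ⊗[ℂ] B →ₗ[ℂ] C)
    (hA : ∀ a : A, a ≠ 0 → Function.Injective (fun b : B => ν (a ⊗ₜ[ℂ] b)))
    (hB : ∀ b : B, b ≠ 0 → Function.Injective (fun a : A => ν (a ⊗ₜ[ℂ] b))) :
    Module.finrank ℂ A + Module.finrank ℂ B ≤ Module.finrank ℂ (LinearMap.range ν) + 1 := by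
  exact Aux.main A B C ν hA hB

end Groth.Agent.S19546
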