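import Groth.Statements.S19550
import Mathlib
import Groth.Prelude.Def_SchFin
import Groth.Prelude.Def_SchFin2
import Groth.Agent.S15610
-- import your own Groth.Agent.* helpers here

set_option autoImplicit false
universe u
open SchFin SchFin.RSpace

namespace Groth.Agent.S19550

namespace Aux
open SchFin Groth.Agent.Helper8

/-- algebra maps `R^F → R` over a connected ring are projections -/
theorem exists_proj {R : Type u} [CommRing R] (hR : ConnectedSpace (PrimeSpectrum R))
    (F : Type) [Finite F] (χ : (F → R) →ₐ[R] R) :
    ∃ i : F, ∀ g : F → R, χ g = g i := by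
  classical
  haveI := Fintype.ofFinite F
  obtain ⟨hnt, hid⟩ := (connectedSpace_primeSpectrum_iff R).mp hR
  have hidem : ∀ i : F, χ (Pi.single i 1) = 0 ∨ χ (Pi.single i 1) = 1 := by
    intro i
    apply hid
    show χ (Pi.single i 1) * χ (Pi.single i 1) = χ (Pi.single i 1)
    rw [← map_mul, ← Pi.single_mul, mul_one]
  have hsum : ∑ i : F, χ (Pi.single i 1) = 1 := by
    rw [← map_sum, Finset.univ_sum_single]
    exact map_one χ
  have hex : ∃ i : F, χ (Pi.single i 1) = 1 := by
    by_contra hno
    push Not at hno
    have : ∀ i : F, χ (Pi.single i 1) = 0 := fun i => (hidem i).resolve_right (hno i)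
    rw [Finset.sum_eq_zero (fun i _ => this i)] at hsum
    exact zero_ne_one hsum
  obtain ⟨i, hi⟩ := hex
  have hother : ∀ j : F, j ≠ i → χ (Pi.single j 1) = 0 := by
    intro j hj
    have : χ (Pi.single j 1) * χ (Pi.single i 1) = 0 := by
      rw [← map_mul]
      have : (Pi.single j (1 : R) * Pi.single i (1 : R) : F → R) = 0 := by
        funext k
        by_cases hk : k = j
        · subst hk; simp [hj]
        · simp [Pi.single_apply, hk]
      rw [this, map_zero]
    rw [hi, mul_one] at this
    exact this
  refine ⟨i, fun g => ?_⟩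
  have hg : g = ∑ j : F, g j • (Pi.single j 1 : F → R) := by
    funext k
    simp [Finset.sum_apply, Pi.single_apply]
  conv_lhs => rw [hg]
  rw [map_sum, Finset.sum_eq_single i]
  · rw [map_smul, hi, smul_eq_mul, mul_one]
  · intro j _ hj
    rw [map_smul, hother j hj, smul_zero]
  · intro h; exact absurd (Finset.mem_univ i) h


theorem main (X : RSpace.{u}) (hW : X.IsWellConnected) (F E : Type) [Finite F] [Finite E]
    (f : ∀ p : X.pt, (F → X.ring p) →ₐ[X.ring p] (E → X.ring p))
    (hf : ∀ (p q : X.pt) (h : p ≤ q) (g : F → X.ring p) (e : E),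
      X.res h (f p g e) = f q (fun i => X.res h (g i)) e) :
    ∃ φ : E → F, ∀ (p : X.pt) (g : F → X.ring p) (e : E), f p g e = g (φ e) := by
  classical
  have hpw : X.IsPwConnected := hW.2
  have htop : X.IsTopConnected := (Groth.Agent.S15610.Aux.conn_iff X hpw).mp hW.1
  have hnt : ∀ p : X.pt, Nontrivial (X.ring p) := fun p =>
    ((connectedSpace_primeSpectrum_iff _).mp (hpw p)).1
  have hex : ∀ (p : X.pt) (e : E), ∃ i : F, ∀ g : F → X.ring p, f p g e = g i := fun p e =>
    exists_proj (hpw p) F ((Pi.evalAlgHom (X.ring p) (fun _ : E => X.ring p) e).comp (f p))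
  choose φ hφ using hex
  have hcompat : ∀ (p q : X.pt), p ≤ q → φ p = φ q := by
    intro p q h
    funext e
    by_contra hne
    have h1 := hf p q h (Pi.single (M := fun _ : F => X.ring p) (φ p e) 1) e
    rw [hφ p, hφ q, Pi.single_eq_same, map_one] at h1
    have : (Pi.single (M := fun _ : F => X.ring p) (φ p e) (1 : X.ring p)) (φ q e) = 0 :=
      Pi.single_eq_of_ne (fun h' => hne h'.symm) _
    rw [this, map_zero] at h1
    exact one_ne_zero h1
  have hall : ∀ (p q : X.pt), Relation.EqvGen (fun a b : X.pt => a ≤ b) p q → φ p = φ q := by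
    intro p q hpq
    induction hpq with
    | rel a b h => exact hcompat a b h
    | refl a => rfl
    | symm a b _ ih => exact ih.symm
    | trans a b c _ _ ih1 ih2 => exact ih1.trans ih2
  obtain ⟨⟨p₀⟩, hconn⟩ := htop
  refine ⟨φ p₀, fun p g e => ?_⟩
  rw [hφ p, hall p p₀ (hconn p p₀)]

end Aux

open SchFin in
/-- Let X be a well-connected schematic finite space and f : A → B a morphism of quasi-coherent algebras
between trivial étale covers A ≅ O_X^F and B ≅ O_X^E, F and E finite sets. Then f is induced by a
map of finite sets φ : E → F. Here the trivial algebras are written out: f is a family of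
O_p-algebra maps (F → O_p) → (E → O_p), one for each point p, compatible with the restriction maps,
and the conclusion says f_p(g) = g ∘ φ for every p and g. (The published statement names a map F →
E; a map of algebras of functions O^F → O^E is composition with a map E → F, which is what this row
states.) -/
theorem result (X : RSpace.{u})
    (hX : X.IsSchematic) (hW : X.IsWellConnected) (F E : Type) [Finite F] [Finite E]
    (f : ∀ p : X.pt, (F → X.ring p) →ₐ[X.ring p] (E → X.ring p))
    (hf : ∀ (p q : X.pt) (h : p ≤ q) (g : F → X.ring p) (e : E),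
      X.res h (f p g e) = f q (fun i => X.res h (g i)) e) :
    ∃ φ : E → F, ∀ (p : X.pt) (g : F → X.ring p) (e : E), f p g e = g (φ e) := by
  exact Aux.main X hW F E f hf

end Groth.Agent.S19550
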