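import Groth.Statements.S19552
import Mathlib
import Groth.Agent.Lib.Helper9.BasicElt.Cancel
-- import your own Groth.Agent.* helpers here

set_option autoImplicit false
universe u
open CAlg

namespace Groth.Agent.S19552

namespace Aux
open Groth.Agent.Helper9.BasicElt

/-- `(ι → A × B) ≃ (ι → A) × (ι → B)` -/
def piProdEquiv (R : Type*) [CommRing R] (ι : Type*) (A B : Type*) [AddCommGroup A] [Module R A]
    [AddCommGroup B] [Module R B] : (ι → A × B) ≃ₗ[R] (ι → A) × (ι → B) where
  toFun f := (fun i => (f i).1, fun i => (f i).2)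
  invFun g := fun i => (g.1 i, g.2 i)
  map_add' _ _ := rfl
  map_smul' _ _ := rfl
  left_inv _ := rfl
  right_inv _ := rfl

theorem main (R : Type u) [CommRing R] [IsNoetherianRing R]
    (d n : ℕ) (hdim : ringKrullDim R = d)
    (P Q : Type u) [AddCommGroup P] [Module R P] [Module.Finite R P] [Module.Projective R P]
    [AddCommGroup Q] [Module R Q] [Module.Finite R Q] [Module.Projective R Q]
    (hrk : ∀ p : PrimeSpectrum R, Module.rankAtStalk (R := R) P p = n)
    (hrk' : ∀ p : PrimeSpectrum R, Module.rankAtStalk (R := R) Q p = n)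
    (m : ℕ) (e : (P × (Fin m → R)) ≃ₗ[R] (Q × (Fin m → R))) :
    ∃ N : ℕ, 1 ≤ N ∧ Nonempty ((Fin N → P) ≃ₗ[R] (Fin N → Q)) := by
  rcases Nat.eq_zero_or_pos n with hn | hn
  · subst hn
    have hP : Subsingleton P := by
      rw [← Module.rankAtStalk_eq_zero_iff_subsingleton (R := R)]
      funext p; exact hrk p
    have hQ : Subsingleton Q := by
      rw [← Module.rankAtStalk_eq_zero_iff_subsingleton (R := R)]
      funext p; exact hrk' p
    exact ⟨1, le_refl _, ⟨LinearEquiv.ofSubsingleton _ _⟩⟩
  · refine ⟨d + 1, Nat.le_add_left _ _, ?_⟩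
    have : Module.Projective R (Fin (d + 1) → P) :=
      Module.Projective.of_equiv (DirectSum.linearEquivFunOnFintype R (Fin (d + 1)) (fun _ => P))
    have hrkN : ∀ 𝔭 : PrimeSpectrum R, d < Module.rankAtStalk (Fin (d + 1) → P) 𝔭 := by
      intro 𝔭
      rw [Module.rankAtStalk_pi (fun _ : Fin (d + 1) => P) 𝔭, finsum_eq_sum_of_fintype]
      simp only [hrk 𝔭, Finset.sum_const, Finset.card_univ, Fintype.card_fin, smul_eq_mul]
      nlinarith
    let F := Fin (d + 1) → (Fin m → R)
    let E : ((Fin (d + 1) → P) × F) ≃ₗ[R] ((Fin (d + 1) → Q) × F) :=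
      (piProdEquiv R (Fin (d + 1)) P (Fin m → R)).symm ≪≫ₗ
        LinearEquiv.piCongrRight (fun _ : Fin (d + 1) => e) ≪≫ₗ
        piProdEquiv R (Fin (d + 1)) Q (Fin m → R)
    exact nonempty_linearEquiv_of_prod_free d hdim hrkN F E

end Aux

/-- Let R be a Noetherian ring of Krull dimension d and P, Q finitely generated projective R-modules of
constant rank at every prime which have the same class in the Grothendieck group, i.e. are stably
isomorphic: P ⊕ R^m ≅ Q ⊕ R^m for some m. Then there is a positive integer N with P^N ≅ Q^N. (The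
two exponents in the published display are read as the same integer N; for modules of positive rank
an isomorphism between direct powers forces equal exponents.) -/
theorem result (R : Type u) [CommRing R] [IsNoetherianRing R]
    (d n : ℕ) (hdim : ringKrullDim R = d)
    (P Q : Type u) [AddCommGroup P] [Module R P] [Module.Finite R P] [Module.Projective R P]
    [AddCommGroup Q] [Module R Q] [Module.Finite R Q] [Module.Projective R Q]
    (hrk : ∀ p : PrimeSpectrum R, Module.rankAtStalk (R := R) P p = n)
    (hrk' : ∀ p : PrimeSpectrum R, Module.rankAtStalk (R := R) Q p = n)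
    (m : ℕ) (e : (P × (Fin m → R)) ≃ₗ[R] (Q × (Fin m → R))) :
    ∃ N : ℕ, 1 ≤ N ∧ Nonempty ((Fin N → P) ≃ₗ[R] (Fin N → Q)) := by
  exact Aux.main R d n hdim P Q hrk hrk' m e

end Groth.Agent.S19552
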