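import Groth.Statements.S19554
import Mathlib
import Groth.Statements.S19554
import Groth.Agent.Lib.Helper9.FE.SetConstCrit
import Groth.Agent.Lib.Helper9.FE.FEtSplit
import Groth.Agent.Lib.Helper5.Misc.EtSiteBasic
-- import your own Groth.Agent.* helpers here

set_option autoImplicit false
universe u
open CategoryTheory AlgebraicGeometry
open CohProp

namespace Groth.Agent.S19554

open CategoryTheory AlgebraicGeometry
open CohProp
open CategoryTheory CategoryTheory.Limits AlgebraicGeometry Opposite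
namespace Aux
set_option autoImplicit false
set_option backward.isDefEq.respectTransparency false
set_option linter.style.haveILetI false
set_option linter.unusedSectionVars false
open H9FE.FEtSplit H9FE.SetConstCrit Groth.Agent.Lib.Helper5.EtSiteBasic

variable {S X : Scheme.{u}} (f : X ⟶ S) [Etale f]

/-- the presheaf represented by `X` on the small étale site of `S` -/
noncomputable abbrev P : S.Etaleᵒᵖ ⥤ Type (u + 1) :=
  yoneda.obj (Scheme.Etale.mk f) ⋙ uliftFunctor.{u + 1, u}

variable {U₀ : Scheme.{u}} (g : U₀ ⟶ S) [Etale g] {n : ℕ} (Sp : Split f g n)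

/-- the sections of a splitting as morphisms of the small étale site -/
noncomputable def σ (k : Fin n) : Scheme.Etale.mk g ⟶ Scheme.Etale.mk f :=
  MorphismProperty.Over.homMk (Sp.s k ≫ pullback.fst f g) (by
    change (Sp.s k ≫ pullback.fst f g) ≫ f = g
    rw [Category.assoc, pullback.condition, ← Category.assoc, Sp.hs, Category.id_comp])

lemma σ_left (k : Fin n) : (σ f g Sp k).left = Sp.s k ≫ pullback.fst f g := rfl

/-- the sections of `h_X` over `U₀` given by the splitting -/
noncomputable def γ (k : ULift.{u + 1} (Fin n)) :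
    (EtDesc.repSh (Scheme.Etale.mk f)).obj.obj (op (Scheme.Etale.mk g)) :=
  ts S.smallEtaleTopology (P f) (Scheme.Etale.mk g) (ULift.up (σ f g Sp k.down))

lemma map_γ {Z : S.Etale} (z : Z ⟶ Scheme.Etale.mk g) (k : ULift.{u + 1} (Fin n)) :
    (EtDesc.repSh (Scheme.Etale.mk f)).obj.map z.op (γ f g Sp k) =
      ts S.smallEtaleTopology (P f) Z (ULift.up (z ≫ σ f g Sp k.down)) :=
  ts_map S.smallEtaleTopology (P f) z _

/-- two of the sections agree at a point only if they are the same section -/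
lemma eq_of_comp_eq {A : Scheme.{u}} (ρ : A ⟶ U₀) (a : A) (k l : Fin n)
    (h : ρ ≫ Sp.s k ≫ pullback.fst f g = ρ ≫ Sp.s l ≫ pullback.fst f g) : k = l := by
  by_contra hkl
  have h2 : ρ ≫ Sp.s k = ρ ≫ Sp.s l := by
    apply pullback.hom_ext
    · simpa only [Category.assoc] using h
    · rw [Category.assoc, Category.assoc, Sp.hs, Sp.hs]
  have h3 : (Sp.s k) (ρ a) = (Sp.s l) (ρ a) := by
    rw [← Scheme.Hom.comp_apply, ← Scheme.Hom.comp_apply, h2]
  exact Set.disjoint_left.1 (Sp.disj k l hkl) ⟨ρ a, rfl⟩ ⟨ρ a, h3.symm⟩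

theorem hinj (Z : S.Etale) (z : Z ⟶ Scheme.Etale.mk g) (x y : ULift.{u + 1} (Fin n))
    (hxy : (EtDesc.repSh (Scheme.Etale.mk f)).obj.map z.op (γ f g Sp x) =
      (EtDesc.repSh (Scheme.Etale.mk f)).obj.map z.op (γ f g Sp y)) :
    x = y ∨ (⊥ : Sieve Z) ∈ S.smallEtaleTopology Z := by
  rw [map_γ, map_γ] at hxy
  have hmem := equalizerSieve_ts_mem S.smallEtaleTopology (P f) Z _ _ hxy
  by_cases h : x = y
  · exact Or.inl h
  · right
    rw [mem_smallEtale_iff]
    intro a
    exfalso
    obtain ⟨Z', r, y', hr, hy'⟩ := (mem_smallEtale_iff Z _).1 hmem a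
    have hr' : r ≫ z ≫ σ f g Sp x.down = r ≫ z ≫ σ f g Sp y.down := by
      have := congrArg ULift.down hr
      exact this
    have h4 := congrArg (fun m => m.left) hr'
    have h4' : r.left ≫ z.left ≫ (σ f g Sp x.down).left = r.left ≫ z.left ≫ (σ f g Sp y.down).left := h4
    rw [σ_left, σ_left] at h4'
    have h5 := eq_of_comp_eq f g Sp (r.left ≫ z.left) y' x.down y.down (by
      simpa only [Category.assoc] using h4')
    exact h (ULift.ext _ _ h5)


/-- the sieve of arrows along which a section becomes one of the split sections -/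
noncomputable def goodSieve (Z : S.Etale) (z : Z ⟶ Scheme.Etale.mk g)
    (s : (EtDesc.repSh (Scheme.Etale.mk f)).obj.obj (op Z)) : Sieve Z where
  arrows Z' k := ∃ x : ULift.{u + 1} (Fin n),
    (EtDesc.repSh (Scheme.Etale.mk f)).obj.map k.op s =
      (EtDesc.repSh (Scheme.Etale.mk f)).obj.map (k ≫ z).op (γ f g Sp x)
  downward_closed := by
    rintro Z' Z'' k ⟨x, hx⟩ j
    refine ⟨x, ?_⟩
    have e1 : (EtDesc.repSh (Scheme.Etale.mk f)).obj.map (j ≫ k).op s =
        (EtDesc.repSh (Scheme.Etale.mk f)).obj.map j.op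
          ((EtDesc.repSh (Scheme.Etale.mk f)).obj.map k.op s) := by
      rw [op_comp, Functor.map_comp]; rfl
    have e2 : (EtDesc.repSh (Scheme.Etale.mk f)).obj.map ((j ≫ k) ≫ z).op (γ f g Sp x) =
        (EtDesc.repSh (Scheme.Etale.mk f)).obj.map j.op
          ((EtDesc.repSh (Scheme.Etale.mk f)).obj.map (k ≫ z).op (γ f g Sp x)) := by
      rw [Category.assoc, op_comp, Functor.map_comp]; rfl
    rw [e1, e2, hx]

theorem goodSieve_mem (Z : S.Etale) (z : Z ⟶ Scheme.Etale.mk g)
    (s : (EtDesc.repSh (Scheme.Etale.mk f)).obj.obj (op Z)) :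
    goodSieve f g Sp Z z s ∈ S.smallEtaleTopology Z := by
  have hR := imageSieve_ts_mem S.smallEtaleTopology (P f) Z s
  refine S.smallEtaleTopology.transitive hR _ ?_
  intro Z' r hr
  obtain ⟨p, hp⟩ := hr
  rw [mem_smallEtale_iff]
  intro a
  -- the morphism to `X` and the induced morphism to the fibre product
  let q : Z' ⟶ Scheme.Etale.mk f := p.down
  have hq : q.left ≫ f = Z'.hom := MorphismProperty.Over.w q
  have hz : (r ≫ z).left ≫ g = Z'.hom := MorphismProperty.Over.w (r ≫ z)
  let h : Z'.left ⟶ pullback f g := pullback.lift q.left (r ≫ z).left (hq.trans hz.symm)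
  obtain ⟨k, hk⟩ := Sp.cov (h a)
  haveI := Sp.isOpen k
  let V : Z'.left.Opens := h ⁻¹ᵁ (Sp.s k).opensRange
  have haV : a ∈ V := hk
  haveI : Etale Z'.hom := Z'.prop
  let Z'' : S.Etale := Scheme.Etale.mk (V.ι ≫ Z'.hom)
  let ι : Z'' ⟶ Z' := MorphismProperty.Over.homMk V.ι rfl
  refine ⟨Z'', ι, ⟨a, haV⟩, ?_, rfl⟩
  refine ⟨ULift.up k, ?_⟩
  have e1 : (EtDesc.repSh (Scheme.Etale.mk f)).obj.map (ι ≫ r).op s =
      (EtDesc.repSh (Scheme.Etale.mk f)).obj.map ι.op
        ((EtDesc.repSh (Scheme.Etale.mk f)).obj.map r.op s) := by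
    rw [op_comp, Functor.map_comp]; rfl
  rw [e1, ← hp, map_γ]
  have e2 := ts_map S.smallEtaleTopology (P f) ι p
  refine e2.trans ?_
  congr 1
  apply ULift.ext
  change ι ≫ q = ((ι ≫ r) ≫ z) ≫ σ f g Sp k
  apply MorphismProperty.Over.Hom.ext
  change V.ι ≫ q.left = (V.ι ≫ (r ≫ z).left) ≫ Sp.s k ≫ pullback.fst f g
  have hrange : Set.range (V.ι ≫ h).base ⊆ Set.range (Sp.s k).base := by
    rintro _ ⟨v, rfl⟩
    exact v.2
  let l := IsOpenImmersion.lift (Sp.s k) (V.ι ≫ h) hrange
  have hl : l ≫ Sp.s k = V.ι ≫ h := IsOpenImmersion.lift_fac _ _ _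
  have hl' : l = V.ι ≫ (r ≫ z).left := by
    have := congrArg (fun m => m ≫ pullback.snd f g) hl
    simp only [Category.assoc] at this
    rw [Sp.hs, Category.comp_id, pullback.lift_snd] at this
    exact this
  have h3 : V.ι ≫ q.left = (V.ι ≫ h) ≫ pullback.fst f g := by
    rw [Category.assoc, pullback.lift_fst]
  rw [h3, ← hl, hl', Category.assoc]

theorem hsurj (Z : S.Etale) (z : Z ⟶ Scheme.Etale.mk g)
    (s : (EtDesc.repSh (Scheme.Etale.mk f)).obj.obj (op Z)) :
    ∃ T : Sieve Z, T ∈ S.smallEtaleTopology Z ∧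
      ∀ {Z' : S.Etale} (k : Z' ⟶ Z), T k → ∃ x : ULift.{u + 1} (Fin n),
        (EtDesc.repSh (Scheme.Etale.mk f)).obj.map k.op s =
          (EtDesc.repSh (Scheme.Etale.mk f)).obj.map (k ≫ z).op (γ f g Sp x) :=
  ⟨goodSieve f g Sp Z z s, goodSieve_mem f g Sp Z z s, fun _ hk => hk⟩

theorem main (S X : Scheme.{u}) (f : X ⟶ S) [Etale f] [IsFinite f] :
    CohProp.IsFinLocConstSet (EtDesc.repSh (Scheme.Etale.mk f)) := by
  have H := fun x : S => exists_split f x
  choose U₀ g hg u₀ hu₀ n hSp using H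
  haveI := hg
  refine ⟨S, fun x => Scheme.Etale.mk (g x), ?_, ?_⟩
  · intro x
    exact ⟨x, u₀ x, hu₀ x⟩
  · intro x
    obtain ⟨Sp⟩ := hSp x
    refine ⟨ULift.{u + 1} (Fin (n x)), inferInstance, ?_⟩
    exact nonempty_iso_over_const S.smallEtaleTopology (EtDesc.repSh (Scheme.Etale.mk f))
      (Scheme.Etale.mk (g x)) (γ f (g x) Sp) (hinj f (g x) Sp) (hsurj f (g x) Sp)

end Aux

/-- For any scheme S and any finite étale morphism f : X → S, the sheaf of sets h_X on the small étale
site of S attached to the étale S-scheme X is finite locally constant: S admits a jointly surjective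
family of étale S-schemes over each member of which h_X becomes isomorphic to a constant sheaf with
finite value. (This is the first assertion of the published result, that X ↦ h_X sends finite étale
S-schemes to finite locally constant sheaves of sets; the equivalence it goes on to assert is not
stated here.) -/
theorem result (S X : Scheme.{u}) (f : X ⟶ S) [Etale f] [IsFinite f] :
    CohProp.IsFinLocConstSet (EtDesc.repSh (Scheme.Etale.mk f)) := by
  exact Aux.main S X f

end Groth.Agent.S19554
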