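import Groth.Statements.S19557
import Mathlib

set_option autoImplicit false
universe u
open CategoryTheory CategoryTheory.Limits MonoidalCategory CartesianMonoidalCategory MonObj GrpObj AlgebraicGeometry
open NeronHD

namespace Groth.Agent.S19557

section
open CategoryTheory CategoryTheory.Limits MonoidalCategory CartesianMonoidalCategory MonObj GrpObj AlgebraicGeometry

universe v₁ u₁

/-- In a cartesian monoidal category, a morphism of group objects compatible with multiplication
is a monoid homomorphism. -/
theorem isMonHom_of_mul_hom {C : Type u₁} [Category.{v₁} C] [CartesianMonoidalCategory C]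
    {H G : C} [GrpObj H] [GrpObj G] (f : H ⟶ G) (hmul : μ[H] ≫ f = (f ⊗ₘ f) ≫ μ[G]) :
    IsMonHom f := by
  have hmul' : ∀ {X : C} (x y : X ⟶ H), (x * y) ≫ f = (x ≫ f) * (y ≫ f) := by
    intro X x y
    rw [Hom.mul_def, Hom.mul_def, Category.assoc, hmul, ← Category.assoc, lift_map]
  refine ⟨?_, hmul⟩
  have h1 : (1 : 𝟙_ C ⟶ H) = η[H] := by
    rw [Hom.one_def]
    have : toUnit (𝟙_ C) = 𝟙 _ := toUnit_unique _ _
    rw [this, Category.id_comp]
  have h1' : (1 : 𝟙_ C ⟶ G) = η[G] := by
    rw [Hom.one_def]
    have : toUnit (𝟙_ C) = 𝟙 _ := toUnit_unique _ _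
    rw [this, Category.id_comp]
  rw [← h1, ← h1']
  have h2 := hmul' (1 : 𝟙_ C ⟶ H) 1
  rw [_root_.mul_one] at h2
  exact (_root_.mul_eq_left.mp h2.symm)

/-- The structure morphism of a product of smooth `S`-schemes is smooth. -/
theorem smooth_tensor {S : Scheme.{u}} (A B : Over S) [Smooth A.hom] [Smooth B.hom] :
    Smooth (A ⊗ B).hom := by
  rw [Over.tensorObj_hom]
  infer_instance

theorem main {k : Type u} [Field k] [CharZero k] {S : Scheme.{u}} (σ : S ⟶ Spec (CommRingCat.of k)) [IsLocallyNoetherian S] (S₀ : S.Opens) (hS₀ : CInt.IsSchematicallyDense S₀)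
    (G H : Over S) [GrpObj G] [GrpObj H] [Smooth G.hom] [Smooth H.hom]
    (hG : ∀ Z : Over S, Smooth Z.hom → Function.Bijective (fun g : Z ⟶ G => (Over.pullback S₀.ι).map g))
    (f : H ⟶ G)
    (hf : (Over.pullback S₀.ι).map (μ[H] ≫ f) = (Over.pullback S₀.ι).map ((f ⊗ₘ f) ≫ μ[G])) :
    IsMonHom f := by
  apply isMonHom_of_mul_hom
  exact (hG (H ⊗ H) (smooth_tensor H H)).1 hf


end


/-- Let S be a locally Noetherian scheme over a field of characteristic 0 and S₀ ⊆ S a
scheme-theoretically dense open. Let G and H be smooth S-group schemes (group objects in the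
cartesian monoidal category of S-schemes), G having the Néron mapping property for S₀ ⊆ S (for every
smooth S-scheme Z, restriction to S₀ is a bijection from S-morphisms Z → G onto S₀-morphisms Z|S₀ →
G|S₀). Let f : H → G be an S-morphism whose restriction to S₀ is multiplicative, in the sense that
the restrictions to S₀ of μ_H ≫ f and of (f ⊗ f) ≫ μ_G : H ×_S H → G agree. Then f is a homomorphism
of group schemes over S. (So the extension to the Néron model of a homomorphism H|S₀ → G|S₀ is a
homomorphism. Case of schemes, with smooth test schemes, of a statement about group algebraic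
spaces.) -/
theorem result {k : Type u} [Field k] [CharZero k] {S : Scheme.{u}} (σ : S ⟶ Spec (CommRingCat.of k)) [IsLocallyNoetherian S] (S₀ : S.Opens) (hS₀ : CInt.IsSchematicallyDense S₀)
    (G H : Over S) [GrpObj G] [GrpObj H] [Smooth G.hom] [Smooth H.hom]
    (hG : ∀ Z : Over S, Smooth Z.hom → Function.Bijective (fun g : Z ⟶ G => (Over.pullback S₀.ι).map g))
    (f : H ⟶ G)
    (hf : (Over.pullback S₀.ι).map (μ[H] ≫ f) = (Over.pullback S₀.ι).map ((f ⊗ₘ f) ≫ μ[G])) :
    IsMonHom f := by
  classical
  exact main σ S₀ hS₀ G H hG f hf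

end Groth.Agent.S19557
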