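import Groth.Statements.S19560
import Mathlib
import Groth.Agent.Lib.Helper4.Pencil

set_option autoImplicit false
universe u
open W4c1limliniiii

namespace Groth.Agent.S19560

namespace H19560
open Polynomial W4c1limliniiii Groth.Agent.Lib.Helper4.Pencil

variable {k : Type*} [Field k]

theorem main (p : ℕ) [CharP k p] (d : ℕ) (F G : k[X])
    (hV : IsPencil d (Submodule.span k {F, G})) (hW : wronskian F G ≠ 0) (a : k) (e : ℕ)
    (he : (wronskian F G).rootMultiplicity a + 1 = e) (hp : p = 0 ∨ e - 1 < p) :
    HasRamIdx (Submodule.span k {F, G}) a e ∧ ¬ p ∣ e := by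
  obtain ⟨m, hm1, hram, hcase⟩ := key F G hV.2.1 a (hV.2.2.2 a) hW
  rcases hcase with ⟨hmk, hme⟩ | ⟨hmk, hle⟩
  · have : m = e := by omega
    subst this
    refine ⟨hram, ?_⟩
    rwa [← CharP.cast_eq_zero_iff k p]
  · exfalso
    rw [CharP.cast_eq_zero_iff k p] at hmk
    rcases hp with rfl | hlt
    · rw [zero_dvd_iff] at hmk; omega
    · have := Nat.le_of_dvd (by omega) hmk
      omega

end H19560

open Polynomial in
/-- Let k be an algebraically closed field of characteristic p (a prime or zero) and let F, G be
polynomials spanning a base-point-free pencil V of degree d (a two-dimensional space of polynomials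
of degree at most d containing one of degree d and with no common zero in k), so that V encodes a
degree-d self-map F/G of the projective line up to automorphisms of the target. Suppose the
Wronskian W = F′G − FG′ is non-zero and vanishes at the point a to order exactly e − 1 with e ≥ 1,
and that p = 0 or e − 1 < p. Then the map is tamely ramified at a with index e: the largest order of
vanishing at a of a non-zero member of V is e, and p does not divide e. (The hypothesis W ≠ 0 makes
the order of vanishing meaningful; for W = 0 the map is inseparable.) -/
theorem result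
    (k : Type u) [Field k] [IsAlgClosed k] (p : ℕ) [CharP k p]
    (d : ℕ) (F G : k[X]) (hV : W4c1limliniiii.IsPencil d (Submodule.span k {F, G}))
    (hW : Polynomial.wronskian F G ≠ 0) (a : k) (e : ℕ)
    (he : (Polynomial.wronskian F G).rootMultiplicity a + 1 = e) (hp : p = 0 ∨ e - 1 < p) :
    W4c1limliniiii.HasRamIdx (Submodule.span k {F, G}) a e ∧ ¬ p ∣ e := by
  exact H19560.main p d F G hV hW a e he hp

end Groth.Agent.S19560
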