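import Groth.Statements.S19561
import Mathlib

set_option autoImplicit false
universe u
open W4c1limliniiii

namespace Groth.Agent.S19561

namespace H19561
open Polynomial

variable {k : Type*} [Field k]

theorem ne_zero_right_of_finrank_span_pair (F G : k[X])
    (h : Module.finrank k (Submodule.span k {F, G}) = 2) : G ≠ 0 := by
  rintro rfl
  have h1 : Submodule.span k ({F, 0} : Set k[X]) = Submodule.span k {F} := by
    rw [Set.pair_comm, Submodule.span_insert_zero]
  rw [h1] at h
  have h2 := finrank_span_le_card (R := k) ({F} : Set k[X])
  simp at h2
  omega

theorem main (F G : k[X]) (hlt : G.natDegree < F.natDegree)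
    (hV : W4c1limliniiii.IsPencil F.natDegree (Submodule.span k {F, G})) :
    W4c1limliniiii.HasRamIdxInf F.natDegree (Submodule.span k {F, G}) (F.natDegree - G.natDegree) := by
  have hG0 := ne_zero_right_of_finrank_span_pair F G hV.2.1
  refine ⟨⟨G, Submodule.subset_span (by simp), hG0, by omega⟩, ?_⟩
  intro s hs hs0
  obtain ⟨α, β, rfl⟩ := Submodule.mem_span_pair.1 hs
  by_cases hα : α = 0
  · subst hα
    rw [zero_smul, zero_add] at hs0 ⊢
    have hβ : β ≠ 0 := by rintro rfl; exact hs0 (zero_smul _ _)
    rw [natDegree_smul _ hβ]
    omega
  · have h1 : (β • G).natDegree < (α • F).natDegree := by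
      rw [natDegree_smul _ hα]
      exact lt_of_le_of_lt (natDegree_smul_le _ _) hlt
    rw [natDegree_add_eq_left_of_natDegree_lt h1, natDegree_smul _ hα]
    omega

end H19561

open Polynomial in
/-- Let k be an algebraically closed field and F, G polynomials over k with deg G < deg F which span a
base-point-free pencil V of degree deg F (a two-dimensional space of polynomials of degree at most
deg F with no common zero in k), encoding the self-map F/G of the projective line. Then the
ramification index of the map at the point at infinity, namely the largest value of deg F − deg s
over the non-zero members s of V (orders of vanishing at infinity of the corresponding binary forms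
of degree deg F), is deg F − deg G. -/
theorem result
    (k : Type u) [Field k] [IsAlgClosed k] (F G : k[X]) (hlt : G.natDegree < F.natDegree)
    (hV : W4c1limliniiii.IsPencil F.natDegree (Submodule.span k {F, G})) :
    W4c1limliniiii.HasRamIdxInf F.natDegree (Submodule.span k {F, G}) (F.natDegree - G.natDegree) := by
  exact H19561.main F G hlt hV

end Groth.Agent.S19561
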