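import Groth.Statements.S19562
import Mathlib

set_option autoImplicit false
universe u
open W4c1limliniiii

namespace Groth.Agent.S19562

namespace H19562
open TensorProduct W4c1limliniiii

variable {k : Type*} [Field k]

theorem rn {M : Type*} [AddCommGroup M] [Module k M] [FiniteDimensional k M] (φ : M →ₗ[k] M)
    (A : Submodule k M) :
    Module.finrank k (A.map φ) + Module.finrank k ↥(LinearMap.ker φ ⊓ A) = Module.finrank k A := by
  have h := LinearMap.finrank_range_add_finrank_ker (φ.domRestrict A)
  rw [LinearMap.range_domRestrict, LinearMap.ker_domRestrict] at h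
  rw [← h]
  congr 1
  rw [← Submodule.finrank_map_subtype_eq A ((LinearMap.ker φ).comap A.subtype),
    Submodule.map_comap_subtype, inf_comm]

theorem abs_lemma {M : Type*} [AddCommGroup M] [Module k M] [FiniteDimensional k M]
    (φ ψ : M →ₗ[k] M) (hφψ : φ ∘ₗ ψ = 0) (hψφ : ψ ∘ₗ φ = 0) (A B : Submodule k M) (r : ℕ)
    (hA : Module.finrank k A = r) (hB : Module.finrank k B = r) (hAB : A.map φ ≤ B)
    (hBA : B.map ψ ≤ A) :
    (LinearMap.ker ψ ⊓ B ≤ A.map φ ∧ LinearMap.ker φ ⊓ A ≤ B.map ψ) ↔
      Module.finrank k (A.map φ) + Module.finrank k (B.map ψ) = r := by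
  have rn1 := rn φ A
  have rn2 := rn ψ B
  have incl1 : A.map φ ≤ LinearMap.ker ψ ⊓ B := by
    refine le_inf ?_ hAB
    rintro _ ⟨x, _, rfl⟩
    rw [LinearMap.mem_ker, ← LinearMap.comp_apply, hψφ, LinearMap.zero_apply]
  have incl2 : B.map ψ ≤ LinearMap.ker φ ⊓ A := by
    refine le_inf ?_ hBA
    rintro _ ⟨x, _, rfl⟩
    rw [LinearMap.mem_ker, ← LinearMap.comp_apply, hφψ, LinearMap.zero_apply]
  have m1 := Submodule.finrank_mono incl1
  have m2 := Submodule.finrank_mono incl2
  constructor
  · rintro ⟨h1, h2⟩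
    have e1 : A.map φ = LinearMap.ker ψ ⊓ B := le_antisymm incl1 h1
    have e2 : B.map ψ = LinearMap.ker φ ⊓ A := le_antisymm incl2 h2
    rw [← e1] at rn2
    rw [← e2] at rn1
    omega
  · intro h
    have e1 : A.map φ = LinearMap.ker ψ ⊓ B := Submodule.eq_of_le_of_finrank_eq incl1 (by omega)
    have e2 : B.map ψ = LinearMap.ker φ ⊓ A := Submodule.eq_of_le_of_finrank_eq incl2 (by omega)
    exact ⟨e1.symm.le, e2.symm.le⟩

theorem finrank_grass (d r : ℕ) (hrd : r < d)
    (N : Module.Grassmannian k (k ⊗[k] (Fin d → k)) (d - r)) :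
    Module.finrank k N.toSubmodule = r := by
  have h1 := N.rankAtStalk_eq ⟨⊥, Ideal.isPrime_bot⟩
  rw [Module.rankAtStalk_eq_finrank_of_free] at h1
  simp only [Pi.natCast_apply, Nat.cast_id] at h1
  have h2 := Submodule.finrank_quotient_add_finrank N.toSubmodule
  have h3 : Module.finrank k (k ⊗[k] (Fin d → k)) = d := by
    rw [Module.finrank_baseChange, Module.finrank_fin_fun]
  omega

theorem main (d r n : ℕ) (hrd : r < d) (f g : Fin n → ((Fin d → k) →ₗ[k] (Fin d → k)))
    (hI : ∀ i, (f i).comp (g i) = 0 ∧ (g i).comp (f i) = 0)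
    (V : Fin (n + 1) → Module.Grassmannian k (k ⊗[k] (Fin d → k)) (d - r))
    (hV : V ∈ W4c1limliniiii.LGPoints k d r n f g k) :
    W4c1limliniiii.IsExact k d r n f g k V ↔
      ∀ i : Fin n,
        Module.finrank k ↥(Submodule.map ((f i).baseChange k) (V i.castSucc).toSubmodule) +
          Module.finrank k ↥(Submodule.map ((g i).baseChange k) (V i.succ).toSubmodule) = r := by
  unfold W4c1limliniiii.IsExact
  refine forall_congr' (fun i => ?_)
  refine abs_lemma ((f i).baseChange k) ((g i).baseChange k) ?_ ?_ _ _ r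
    (finrank_grass d r hrd _) (finrank_grass d r hrd _) (hV i).1 (hV i).2
  · rw [← LinearMap.baseChange_comp, (hI i).1, LinearMap.baseChange_zero]
  · rw [← LinearMap.baseChange_comp, (hI i).2, LinearMap.baseChange_zero]

end H19562

open TensorProduct in
/-- Let k be a field, 0 < r < d, and f_i, g_i (i < n) linear maps forward and backward between
consecutive ones of n + 1 copies of k^d, forming a linked Grassmannian over Spec k whose scalar s is
zero: every composite f_i ∘ g_i and g_i ∘ f_i vanishes, rank f_i + rank g_i ≥ d, and for consecutive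
indices im f_i ∩ ker f_{i+1} = 0 and im g_{i+1} ∩ ker g_i = 0. Let (V_i) be a k-valued point of the
linked Grassmannian of rank-r sub-bundles (subspaces V_i of k ⊗ k^d with quotient of rank d − r,
with f_i(V_i) ⊆ V_{i+1} and g_i(V_{i+1}) ⊆ V_i). Then (V_i) is exact, meaning ker g_i ∩ V_{i+1} ⊆
f_i(V_i) and ker f_i ∩ V_i ⊆ g_i(V_{i+1}) for all i, if and only if dim f_i(V_i) + dim g_i(V_{i+1})
= r for all i. (The published assertion is for points with values in an arbitrary scheme and also
says that f_i(V_i) and g_i(V_{i+1}) are then sub-bundles; this row is the case of a field, where the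
last clause is empty.) -/
theorem result (k : Type u) [Field k]
    (d r n : ℕ) (hr : 0 < r) (hrd : r < d) (f g : Fin n → ((Fin d → k) →ₗ[k] (Fin d → k)))
    (hI : ∀ i, (f i).comp (g i) = 0 ∧ (g i).comp (f i) = 0)
    (hII : ∀ i, d ≤ Module.finrank k (LinearMap.range (f i)) + Module.finrank k (LinearMap.range (g i)))
    (hIII : ∀ i j : Fin n, i.val + 1 = j.val →
      LinearMap.range (f i) ⊓ LinearMap.ker (f j) = ⊥ ∧
        LinearMap.range (g j) ⊓ LinearMap.ker (g i) = ⊥)
    (V : Fin (n + 1) → Module.Grassmannian k (k ⊗[k] (Fin d → k)) (d - r))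
    (hV : V ∈ W4c1limliniiii.LGPoints k d r n f g k) :
    W4c1limliniiii.IsExact k d r n f g k V ↔
      ∀ i : Fin n,
        Module.finrank k ↥(Submodule.map ((f i).baseChange k) (V i.castSucc).toSubmodule) +
          Module.finrank k ↥(Submodule.map ((g i).baseChange k) (V i.succ).toSubmodule) = r := by
  exact H19562.main d r n hrd f g hI V hV

end Groth.Agent.S19562
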