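import Groth.Statements.S19564
import Groth.Agent.Lib.Helper6.NoLiftQuadric2
import Groth.Agent.Lib.Helper6.FrobLiftTheta

set_option autoImplicit false
universe u
open scoped BigOperators
open FrobAlg

namespace Groth.Agent.S19564

/-- Let k be a perfect field of characteristic p ≥ 3 and n ≥ 3. Then the ordinary double point k[x_1,
y_1, …, x_n, y_n]/(x_1y_1 + ⋯ + x_ny_n), the affine cone over the split quadric in 2n ≥ 6 variables,
admits no flat lifting over W₂(k) compatible with Frobenius (no flat W₂(k)-algebra reducing to it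
that carries a ring endomorphism which is σ₂-semilinear and reduces to the p-th power map). (The
published statement is for any number N ≥ 5 of variables and allows arbitrary terms of degree ≥ 3 to
be added to a non-degenerate quadratic form; this row is the case of the split form in an even
number of variables with nothing added, the case in which the argument is a pure comparison of
homogeneous components.) -/
theorem result
    (p : ℕ) [Fact p.Prime] (hp : 3 ≤ p) (k : Type u) [Field k] [CharP k p] [PerfectRing k p]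
    (n : ℕ) (hn : 3 ≤ n) :
    ¬ FrobAlg.IsFLiftable p k
      (MvPolynomial (Fin n × Fin 2) k ⧸ Ideal.span
        {(∑ i : Fin n, MvPolynomial.X (i, (0 : Fin 2)) * MvPolynomial.X (i, (1 : Fin 2)) : MvPolynomial (Fin n × Fin 2) k)}) := by
  rintro ⟨B, instB, ι, π, Φ, hΦ⟩
  have hB := hΦ.toIsLift
  have hsurj := hB.surj
  have hp2 : 2 ≤ p := (Fact.out : p.Prime).two_le
  have hpp := Groth.Agent.Lib.Helper6.W2Arith.pB_sq hB
  choose Xl hXl using fun v : Fin n × Fin 2 => hsurj (Ideal.Quotient.mk _ (MvPolynomial.X v))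
  let T : Fin n → B := fun i => Xl (i, 0) * Xl (i, 1)
  have hπT : ∀ i, π (T i) = Ideal.Quotient.mk _ (Groth.Agent.Lib.Helper6.NoLiftQuadric.tt n k i) := by
    intro i
    show π (Xl (i, 0) * Xl (i, 1)) = _
    rw [map_mul, hXl, hXl, ← map_mul]
    rfl
  obtain ⟨G, hG⟩ : ∃ G, ∑ i, T i = (p : B) * G :=
    Groth.Agent.Lib.Helper6.W2Arith.exists_p_mul_of_pi hB _ (by
      rw [map_sum]
      simp only [hπT]
      rw [← map_sum]
      exact Ideal.Quotient.eq_zero_iff_mem.2 (Ideal.subset_span rfl))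
  have hΦX : ∀ v, ∃ a, Φ (Xl v) - Xl v ^ p = (p : B) * a := fun v =>
    Groth.Agent.Lib.Helper6.W2Arith.exists_p_mul_of_pi hB _ (by
      rw [map_sub, hΦ.red, map_pow, sub_self])
  choose a ha using hΦX
  have hΦT : ∀ i, Φ (T i) = T i ^ p +
      (p : B) * (a (i, 0) * Xl (i, 1) ^ p + a (i, 1) * Xl (i, 0) ^ p) := by
    intro i
    show Φ (Xl (i, 0) * Xl (i, 1)) = (Xl (i, 0) * Xl (i, 1)) ^ p + _
    have h0 : Φ (Xl (i, 0)) = Xl (i, 0) ^ p + (p : B) * a (i, 0) := by rw [← ha]; ring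
    have h1 : Φ (Xl (i, 1)) = Xl (i, 1) ^ p + (p : B) * a (i, 1) := by rw [← ha]; ring
    rw [map_mul, h0, h1]
    linear_combination (a (i, 0) * a (i, 1)) * hpp
  have hQp : (∑ i, T i) ^ p = 0 := by
    rw [hG, mul_pow]
    have : (p : B) ^ p = 0 := by
      obtain ⟨m, hm⟩ : ∃ m, p = 2 + m := ⟨p - 2, by omega⟩
      rw [hm, pow_add, pow_two]
      rw [← hm, hpp, zero_mul]
    rw [this, zero_mul]
  have key := Groth.Agent.Lib.Helper6.NoLiftQuadric.sum_pow_eq p n T
  rw [hQp] at key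
  have h1 : Φ (∑ i, T i) = (p : B) * Φ G := by rw [hG, map_mul, map_natCast]
  rw [map_sum] at h1
  simp only [hΦT, Finset.sum_add_distrib, ← Finset.mul_sum] at h1
  have h2 : (p : B) * (Φ G + MvPolynomial.aeval T (Groth.Agent.Lib.Helper6.NoLiftQuadric.Phi p n)
      - ∑ i, (a (i, 0) * Xl (i, 1) ^ p + a (i, 1) * Xl (i, 0) ^ p)) = 0 := by
    rw [Finset.sum_add_distrib]
    linear_combination -h1 - key
  obtain ⟨H, hH⟩ := Groth.Agent.Lib.Helper6.W2Arith.exists_p_mul_of_p_mul hB _ h2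
  have h0 : π (Φ G + MvPolynomial.aeval T (Groth.Agent.Lib.Helper6.NoLiftQuadric.Phi p n)
      - ∑ i, (a (i, 0) * Xl (i, 1) ^ p + a (i, 1) * Xl (i, 0) ^ p)) = 0 := by
    rw [hH, map_mul, Groth.Agent.Lib.Helper6.W2Arith.pi_p hB, zero_mul]
  have h5 : π (MvPolynomial.aeval T (Groth.Agent.Lib.Helper6.NoLiftQuadric.Phi p n)) =
      Ideal.Quotient.mk _ (MvPolynomial.aeval (Groth.Agent.Lib.Helper6.NoLiftQuadric.tt n k)
        (Groth.Agent.Lib.Helper6.NoLiftQuadric.Phi p n)) := by
    have e1 := congrArg (fun f => f (Groth.Agent.Lib.Helper6.NoLiftQuadric.Phi p n))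
      (MvPolynomial.comp_aeval (R := ℤ) T π.toIntAlgHom)
    have e2 := congrArg (fun f => f (Groth.Agent.Lib.Helper6.NoLiftQuadric.Phi p n))
      (MvPolynomial.comp_aeval (R := ℤ) (Groth.Agent.Lib.Helper6.NoLiftQuadric.tt n k)
        (Ideal.Quotient.mk (Ideal.span
        {(∑ i : Fin n, MvPolynomial.X (i, (0 : Fin 2)) * MvPolynomial.X (i, (1 : Fin 2)) : MvPolynomial (Fin n × Fin 2) k)})).toIntAlgHom)
    simp only [AlgHom.comp_apply, RingHom.toIntAlgHom_apply] at e1 e2
    refine e1.trans (Eq.trans ?_ e2.symm)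
    congr 2
    funext i
    exact hπT i
  obtain ⟨g, hg⟩ := Ideal.Quotient.mk_surjective (π G)
  choose α hα using fun v => Ideal.Quotient.mk_surjective (π (a v))
  rw [map_sub, map_add, hΦ.red, h5, ← hg, map_sum] at h0
  simp only [map_add, map_mul, map_pow, hXl, ← hα] at h0
  simp only [← map_pow, ← map_mul, ← map_add, ← map_sum, ← map_sub] at h0
  have h6 := Ideal.Quotient.eq_zero_iff_mem.1 h0
  have hle : Ideal.span {(∑ i : Fin n, MvPolynomial.X (i, (0 : Fin 2)) * MvPolynomial.X (i, (1 : Fin 2)) : MvPolynomial (Fin n × Fin 2) k)} ≤ Ideal.span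
      (insert (∑ i : Fin n, MvPolynomial.X (i, (0 : Fin 2)) * MvPolynomial.X (i, (1 : Fin 2)))
        (Set.range fun v : Fin n × Fin 2 => (MvPolynomial.X v : MvPolynomial (Fin n × Fin 2) k) ^ p)) :=
    Ideal.span_mono (by intro x hx; exact Or.inl hx)
  have h7 := hle h6
  have h8 : ∑ i : Fin n, (α (i, 0) * (MvPolynomial.X (i, 1) : MvPolynomial (Fin n × Fin 2) k) ^ p
      + α (i, 1) * (MvPolynomial.X (i, 0) : MvPolynomial (Fin n × Fin 2) k) ^ p) ∈ Ideal.span
      (insert (∑ i : Fin n, MvPolynomial.X (i, (0 : Fin 2)) * MvPolynomial.X (i, (1 : Fin 2)))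
        (Set.range fun v : Fin n × Fin 2 => (MvPolynomial.X v : MvPolynomial (Fin n × Fin 2) k) ^ p)) := by
    refine Ideal.sum_mem _ fun i _ => Ideal.add_mem _ ?_ ?_
    · exact Ideal.mul_mem_left _ _ (Ideal.subset_span (Or.inr ⟨(i, 1), rfl⟩))
    · exact Ideal.mul_mem_left _ _ (Ideal.subset_span (Or.inr ⟨(i, 0), rfl⟩))
  have h9 := Ideal.add_mem _ h7 h8
  refine Groth.Agent.Lib.Helper6.NoLiftQuadric.aeval_Phi_add_pow_not_mem p n k hn g ?_
  convert h9 using 1
  ring

end Groth.Agent.S19564
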