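import Groth.Statements.S19569
-- import your own Groth.Agent.* helpers here
import Groth.Agent.Lib.Helper7.CAlg.EtaleModel
import Mathlib

set_option autoImplicit false
universe u
open CAlg

namespace Groth.Agent.S19569

open TensorProduct in
/-- Let A be the colimit of a directed system of rings (A_i), given by compatible ring maps A_i → A
which are jointly surjective and such that an element of some A_i mapping to zero in A already maps
to zero in some later A_j, and let B be an étale A-algebra. Then for some index i there is an étale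
A_i-algebra B_i such that B is isomorphic, as an A-algebra, to the base change A ⊗_{A_i} B_i
(existence of an isomorphism). (Stated for a system indexed by a directed preordered set.) -/
theorem result {ι : Type u} [Preorder ι] [IsDirected ι (· ≤ ·)] [Nonempty ι]
    (G : ι → Type u) [∀ i, CommRing (G i)] (f : ∀ i j, i ≤ j → (G i →+* G j))
    (A : Type u) [CommRing A] (g : ∀ i, G i →+* A) (hg : ∀ i j (h : i ≤ j), (g j).comp (f i j h) = g i)
    (hsurj : ∀ a : A, ∃ i, ∃ x : G i, g i x = a)
    (hker : ∀ i (x : G i), g i x = 0 → ∃ j, ∃ h : i ≤ j, f i j h x = 0)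
    (B : Type u) [CommRing B] [Algebra A B] [Algebra.Etale A B] :
    ∃ (i : ι) (Bi : Type u) (_ : CommRing Bi) (_ : Algebra (G i) Bi), Algebra.Etale (G i) Bi ∧
      letI : Algebra (G i) A := (g i).toAlgebra
      Nonempty (B ≃ₐ[A] A ⊗[G i] Bi) := by
  classical
  have h0 : Algebra.IsStandardSmoothOfRelativeDimension 0 A B :=
    Algebra.Etale.iff_isStandardSmoothOfRelativeDimension_zero.mp inferInstance
  obtain ⟨ι', σ, hσ, hι, P, hP⟩ := h0.out
  -- find a stage containing all the coefficients
  have hfin : P.coeffs.Finite := P.finite_coeffs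
  have hex : ∀ a : A, ∃ i : ι, a ∈ Set.range (g i) := fun a => by
    obtain ⟨i, x, hx⟩ := hsurj a
    exact ⟨i, x, hx⟩
  choose idx hidx using hex
  obtain ⟨i, hi⟩ := Finset.exists_le (hfin.toFinset.image idx)
  have hrange : P.coeffs ⊆ Set.range (g i) := by
    intro a ha
    have hle : idx a ≤ i := hi _ (Finset.mem_image_of_mem idx (hfin.mem_toFinset.mpr ha))
    obtain ⟨x, hx⟩ := hidx a
    refine ⟨f (idx a) i hle x, ?_⟩
    have := congrArg (fun φ => φ x) (hg (idx a) i hle)
    simp only [RingHom.comp_apply] at this
    rw [this, hx]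
  let _ : Algebra (G i) A := (g i).toAlgebra
  let _ : Algebra (G i) B := ((algebraMap A B).comp (g i)).toAlgebra
  have : IsScalarTower (G i) A B := IsScalarTower.of_algebraMap_eq (fun _ => rfl)
  have : P.HasCoeffs (G i) := ⟨hrange⟩
  obtain ⟨S, _, _, hS, ⟨e⟩⟩ := Groth.Agent.Helper7.EtaleModel.exists_etale_model (G i) A B P hP
  exact ⟨i, S, inferInstance, inferInstance, hS, ⟨e.symm⟩⟩

end Groth.Agent.S19569
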