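import Groth.Statements.S19571
import Mathlib

set_option autoImplicit false
universe u
open CategoryTheory AlgebraicGeometry
open EtaPt

namespace Groth.Agent.S19571

namespace H19571
open CategoryTheory AlgebraicGeometry TopologicalSpace

theorem main {X Y : Scheme.{u}} (f : Y ⟶ X) [Flat f] [Surjective f] [LocallyOfFinitePresentation f]
    (U : X.affineOpens) (x : X) (hx : x ∈ (U : X.Opens)) :
    ∃ V : X.affineOpens, x ∈ (V : X.Opens) ∧ (V : X.Opens) ≤ (U : X.Opens) ∧
      ∃ W : Y.affineOpens, f.base '' ((W : Y.Opens) : Set Y) = ((V : X.Opens) : Set X) := by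
  have hopen : IsOpenMap f := f.isOpenMap
  obtain ⟨y, rfl⟩ := f.surjective x
  -- affine nbhd of y in the preimage of U
  obtain ⟨_, ⟨W₀, hW₀, rfl⟩, hyW₀, hW₀U⟩ :=
    Y.isBasis_affineOpens.exists_subset_of_mem_open (show y ∈ ((f ⁻¹ᵁ (U : X.Opens) : Y.Opens) : Set Y) from hx)
      (f ⁻¹ᵁ (U : X.Opens)).2
  -- its image is open
  let I : X.Opens := ⟨f '' (W₀ : Set Y), hopen _ W₀.2⟩
  have hxI : f y ∈ I := ⟨y, hyW₀, rfl⟩
  obtain ⟨s, hsI, hxs⟩ := U.2.exists_basicOpen_le (V := I) ⟨f y, hxI⟩ hx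
  refine ⟨⟨X.basicOpen s, U.2.basicOpen s⟩, hxs, X.basicOpen_le s, ?_⟩
  -- W = W₀ ⊓ f⁻¹ D(s)
  let t : Γ(Y, W₀) := Y.presheaf.map (homOfLE hW₀U).op (f.app U s)
  have ht : Y.basicOpen t = W₀ ⊓ f ⁻¹ᵁ X.basicOpen s := by
    rw [Scheme.basicOpen_res, Scheme.preimage_basicOpen]
  refine ⟨⟨Y.basicOpen t, IsAffineOpen.basicOpen hW₀ t⟩, ?_⟩
  show f.base '' ((Y.basicOpen t : Y.Opens) : Set Y) = ((X.basicOpen s : X.Opens) : Set X)
  rw [ht]
  ext v
  constructor
  · rintro ⟨w, ⟨_, hw2⟩, rfl⟩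
    exact hw2
  · intro hv
    obtain ⟨w, hw, rfl⟩ := hsI hv
    exact ⟨w, ⟨hw, hv⟩, rfl⟩

end H19571

/-- Let f : Y → X be a morphism of schemes which is flat, surjective and locally of finite presentation.
Then every affine open U of X is covered by affine opens V each of which is the image f(W) of some
affine open W of Y; stated pointwise: for every x ∈ U there are an affine open V of X with x ∈ V ≤ U
and an affine open W of Y with f(W) = V as sets. (For such V and W the induced ring map Γ(V) → Γ(W)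
is then faithfully flat.) -/
theorem result
    {X Y : Scheme.{u}} (f : Y ⟶ X) [Flat f] [Surjective f] [LocallyOfFinitePresentation f]
    (U : X.affineOpens) (x : X) (hx : x ∈ (U : X.Opens)) :
    ∃ V : X.affineOpens, x ∈ (V : X.Opens) ∧ (V : X.Opens) ≤ (U : X.Opens) ∧
      ∃ W : Y.affineOpens, f.base '' ((W : Y.Opens) : Set Y) = ((V : X.Opens) : Set X) := by
  exact H19571.main f U x hx

end Groth.Agent.S19571
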