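import Groth.Statements.S19573
import Mathlib
-- import your own Groth.Agent.* helpers here

set_option autoImplicit false
universe u
open LocInt

namespace Groth.Agent.S19573

namespace Aux

open Module

section gen
variable {R : Type*} [CommRing R] {M N : Type*} [AddCommGroup M] [Module R M]
  [AddCommGroup N] [Module R N] {ι : Type*} [Fintype ι] [DecidableEq ι]

lemma alt_eq_det_smul (e : Basis ι R M) (g : M [⋀^ι]→ₗ[R] N) (v : ι → M) :
    g v = e.det v • g e := by
  have : g = (LinearMap.toSpanSingleton R N (g e)).compAlternatingMap e.det := by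
    refine Basis.ext_alternating e fun i h => ?_
    let σ : Equiv.Perm ι := Equiv.ofBijective i (Finite.injective_iff_bijective.1 h)
    change g (e ∘ σ) = ((LinearMap.toSpanSingleton R N (g e)).compAlternatingMap e.det) (e ∘ σ)
    simp [AlternatingMap.map_perm, Basis.det_self]
  conv_lhs => rw [this]
  simp
end gen

variable {R : Type u} [CommRing R] {n : ℕ} (a : Fin n → R)

/-- the alternating map v ↦ ιMulti (π ∘ v) -/
noncomputable def gmap : (Fin n → R) [⋀^Fin n]→ₗ[R] ⋀[R]^n ((Fin n → R) ⧸ Submodule.span R {a}) :=
  (exteriorPower.ιMulti R n).compLinearMap (Submodule.mkQ (Submodule.span R {a}))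

lemma det_update (i : Fin n) :
    (Pi.basisFun R (Fin n)).det (Function.update (fun j => Pi.single j (1:R)) i a) = a i := by
  rw [Pi.basisFun_det_apply]
  have : (Matrix.of (Function.update (fun j => Pi.single j (1:R)) i a) : Matrix (Fin n) (Fin n) R)
      = Matrix.updateRow 1 i a := by
    ext j k
    by_cases hj : j = i
    · subst hj; simp
    · simp [Matrix.updateRow_ne hj, Function.update_of_ne hj, Matrix.one_apply, Pi.single_apply, eq_comm]
  rw [this, ← Matrix.cramer_transpose_apply, Matrix.transpose_one, Matrix.cramer_one]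
  rfl

lemma smul_omega (i : Fin n) :
    a i • gmap a (fun j => Pi.single j (1:R)) = 0 := by
  have h1 := alt_eq_det_smul (Pi.basisFun R (Fin n)) (gmap a)
    (Function.update (fun j => Pi.single j (1:R)) i a)
  rw [det_update] at h1
  have h2 : (⇑(Pi.basisFun R (Fin n)) : Fin n → (Fin n → R)) = fun j => Pi.single j (1:R) := by
    ext j k; simp
  rw [h2] at h1
  rw [← h1]
  unfold gmap
  rw [AlternatingMap.compLinearMap_apply]
  apply (exteriorPower.ιMulti R n).map_coord_zero i
  simp only [Function.comp_apply, Function.update_self, Submodule.mkQ_apply]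
  rw [Submodule.Quotient.mk_eq_zero]
  exact Submodule.mem_span_singleton_self a

lemma ann_ge (i : Fin n) (x : ⋀[R]^n ((Fin n → R) ⧸ Submodule.span R {a})) : a i • x = 0 := by
  have hx : x ∈ (⊤ : Submodule R (⋀[R]^n ((Fin n → R) ⧸ Submodule.span R {a}))) := trivial
  rw [← exteriorPower.ιMulti_span R n] at hx
  induction hx using Submodule.span_induction with
  | mem y hy =>
    obtain ⟨f, rfl⟩ := hy
    have : ∃ v : Fin n → (Fin n → R), f = fun j => Submodule.mkQ (Submodule.span R {a}) (v j) := by
      choose v hv using fun j => Submodule.mkQ_surjective (Submodule.span R {a}) (f j)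
      exact ⟨v, funext fun j => (hv j).symm⟩
    obtain ⟨v, rfl⟩ := this
    have h1 := alt_eq_det_smul (Pi.basisFun R (Fin n)) (gmap a) v
    have h2 : (⇑(Pi.basisFun R (Fin n)) : Fin n → (Fin n → R)) = fun j => Pi.single j (1:R) := by
      ext j k; simp
    rw [h2] at h1
    have h3 : gmap a v = exteriorPower.ιMulti R n
        (fun j => Submodule.mkQ (Submodule.span R {a}) (v j)) := rfl
    rw [← h3, h1, smul_comm, smul_omega, smul_zero]
  | zero => simp
  | add y z _ _ hy hz => rw [smul_add, hy, hz, add_zero]
  | smul r y _ hy => rw [smul_comm, hy, smul_zero]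

/-- the map F → (R/I)^n -/
noncomputable def qmap : ((Fin n → R) ⧸ Submodule.span R {a}) →ₗ[R]
    (Fin n → R ⧸ Ideal.span (Set.range a)) :=
  Submodule.liftQ _ (LinearMap.pi fun j =>
    (Ideal.Quotient.mkₐ R (Ideal.span (Set.range a))).toLinearMap ∘ₗ LinearMap.proj j) (by
    rw [Submodule.span_le]
    rintro _ rfl
    rw [SetLike.mem_coe, LinearMap.mem_ker]
    ext j
    simp only [LinearMap.pi_apply, LinearMap.comp_apply, LinearMap.proj_apply, Pi.zero_apply,
      AlgHom.toLinearMap_apply, Ideal.Quotient.mkₐ_eq_mk]
    rw [Ideal.Quotient.eq_zero_iff_mem]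
    exact Ideal.subset_span ⟨j, rfl⟩)

lemma qmap_mk (v : Fin n → R) (j : Fin n) :
    qmap a (Submodule.Quotient.mk v) j = Ideal.Quotient.mk _ (v j) := rfl

noncomputable def detAlt : (Fin n → R ⧸ Ideal.span (Set.range a)) [⋀^Fin n]→ₗ[R]
    (R ⧸ Ideal.span (Set.range a)) :=
  { (Matrix.detRowAlternating (n := Fin n)
      (R := R ⧸ Ideal.span (Set.range a))).toMultilinearMap.restrictScalars R with
    map_eq_zero_of_eq' := fun v _ _ h hij =>
      (Matrix.detRowAlternating (n := Fin n)
        (R := R ⧸ Ideal.span (Set.range a))).map_eq_zero_of_eq v h hij }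

lemma detAlt_apply (v : Fin n → (Fin n → R ⧸ Ideal.span (Set.range a))) :
    detAlt a v = (Matrix.of v).det := rfl

noncomputable def Lmap : ⋀[R]^n ((Fin n → R) ⧸ Submodule.span R {a}) →ₗ[R]
    (R ⧸ Ideal.span (Set.range a)) :=
  exteriorPower.alternatingMapLinearEquiv ((detAlt a).compLinearMap (qmap a))

lemma Lmap_omega : Lmap a (gmap a (fun j => Pi.single j (1:R))) = 1 := by
  unfold Lmap gmap
  rw [AlternatingMap.compLinearMap_apply, exteriorPower.alternatingMapLinearEquiv_apply_ιMulti]
  rw [AlternatingMap.compLinearMap_apply, detAlt_apply]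
  have : (Matrix.of fun j : Fin n => qmap a ((Submodule.span R {a}).mkQ (Pi.single j (1:R))))
      = (1 : Matrix (Fin n) (Fin n) (R ⧸ Ideal.span (Set.range a))) := by
    ext j k
    simp only [Matrix.of_apply, Submodule.mkQ_apply, qmap_mk, Matrix.one_apply, Pi.single_apply]
    by_cases h : j = k
    · simp [h]
    · simp [h, Ne.symm h]
  rw [this, Matrix.det_one]

theorem part1 : (⋀[R]^n ((Fin n → R) ⧸ Submodule.span R {a})).annihilator
    = Ideal.span (Set.range a) := by
  apply le_antisymm
  · intro r hr
    rw [Module.mem_annihilator] at hr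
    have h := hr (gmap a (fun j => Pi.single j (1:R)))
    have h2 := congrArg (Lmap a) h
    rw [map_smul, Lmap_omega, map_zero] at h2
    have : r • (1 : R ⧸ Ideal.span (Set.range a)) = Ideal.Quotient.mk _ r := by
      rw [Algebra.smul_def, mul_one]; rfl
    rw [this, Ideal.Quotient.eq_zero_iff_mem] at h2
    exact h2
  · rw [Ideal.span_le]
    rintro _ ⟨i, rfl⟩
    rw [SetLike.mem_coe, Module.mem_annihilator]
    exact ann_ge a i


section loc
variable {S : Type*} [CommRing S] {n : ℕ} (b : Fin n → S) (i : Fin n)

noncomputable def gl (u : S) : (Fin n → S) →ₗ[S] ({j : Fin n // j ≠ i} → S) :=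
  LinearMap.pi fun j => LinearMap.proj (j : Fin n) - (u * b j) • LinearMap.proj i

lemma gl_apply (u : S) (v : Fin n → S) (j : {j : Fin n // j ≠ i}) :
    gl b i u v j = v j - u * b j * v i := by
  simp [gl]

lemma gl_ker (u : S) (hu : b i * u = 1) : LinearMap.ker (gl b i u) = Submodule.span S {b} := by
  apply le_antisymm
  · intro v hv
    rw [LinearMap.mem_ker] at hv
    rw [Submodule.mem_span_singleton]
    refine ⟨u * v i, ?_⟩
    ext j
    by_cases hj : j = i
    · subst hj
      simp only [Pi.smul_apply, smul_eq_mul]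
      calc u * v j * b j = (b j * u) * v j := by ring
        _ = v j := by rw [hu, one_mul]
    · have := congrFun hv ⟨j, hj⟩
      rw [gl_apply, Pi.zero_apply, sub_eq_zero] at this
      simp only [Pi.smul_apply, smul_eq_mul]
      rw [this]; ring
  · rw [Submodule.span_le]
    intro x hx
    rw [Set.mem_singleton_iff.mp hx]
    rw [SetLike.mem_coe, LinearMap.mem_ker]
    ext j
    rw [gl_apply, Pi.zero_apply]
    calc b j - u * b j * b i = b j * (1 - b i * u) := by ring
      _ = 0 := by rw [hu, sub_self, mul_zero]

lemma gl_surj (u : S) : Function.Surjective (gl b i u) := by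
  intro w
  refine ⟨fun j => if h : j ≠ i then w ⟨j, h⟩ else 0, ?_⟩
  ext j
  rw [gl_apply]
  simp [j.2]

noncomputable def quotEquiv (u : S) (hu : b i * u = 1) :
    ((Fin n → S) ⧸ Submodule.span S {b}) ≃ₗ[S] ({j : Fin n // j ≠ i} → S) :=
  (Submodule.quotEquivOfEq _ _ (gl_ker b i u hu).symm) ≪≫ₗ
    (gl b i u).quotKerEquivOfSurjective (gl_surj b i u)

lemma free_quot (u : S) (hu : b i * u = 1) :
    Module.Free S ((Fin n → S) ⧸ Submodule.span S {b}) :=
  Module.Free.of_equiv (quotEquiv b i u hu).symm

lemma finrank_quot [Nontrivial S] (u : S) (hu : b i * u = 1) :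
    Module.finrank S ((Fin n → S) ⧸ Submodule.span S {b}) = n - 1 := by
  rw [(quotEquiv b i u hu).finrank_eq, Module.finrank_fintype_fun_eq_card]
  simp
end loc

theorem part2 (p : PrimeSpectrum R) (hp : ¬ Ideal.span (Set.range a) ≤ p.asIdeal) :
    p ∈ Module.freeLocus R ((Fin n → R) ⧸ Submodule.span R {a}) ∧
      Module.rankAtStalk ((Fin n → R) ⧸ Submodule.span R {a}) p = n - 1 := by
  have : ∃ i, a i ∉ p.asIdeal := by
    by_contra h
    push Not at h
    apply hp
    rw [Ideal.span_le]
    rintro _ ⟨i, rfl⟩
    exact h i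
  obtain ⟨i, hi⟩ := this
  let S := Localization.AtPrime p.asIdeal
  let P := p.asIdeal.primeCompl
  let b : Fin n → S := fun j => algebraMap R S (a j)
  have hunit : IsUnit (b i) := IsLocalization.map_units S (⟨a i, hi⟩ : P)
  obtain ⟨u, hu⟩ := hunit.exists_right_inv
  let f : (Fin n → R) →ₗ[R] (Fin n → S) :=
    LinearMap.pi fun j => Algebra.linearMap R S ∘ₗ LinearMap.proj j
  have hf : IsLocalizedModule P f := IsLocalizedModule.pi P (fun _ => Algebra.linearMap R S)
  have hloc : (Submodule.span R {a}).localized' S P f = Submodule.span S {b} := by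
    rw [Submodule.localized'_span, Set.image_singleton]
    rfl
  let φ := (Submodule.span R {a}).toLocalizedQuotient' S P f
  have hφ : IsLocalizedModule P φ := inferInstance
  let e0 : ((Fin n → S) ⧸ (Submodule.span R {a}).localized' S P f) ≃ₗ[S]
      ((Fin n → S) ⧸ Submodule.span S {b}) := Submodule.quotEquivOfEq _ _ hloc
  constructor
  · rw [Module.mem_freeLocus_of_isLocalization p S _ φ]
    have := free_quot b i u hu
    exact Module.Free.of_equiv e0.symm
  · let e1 : LocalizedModule P ((Fin n → R) ⧸ Submodule.span R {a}) ≃ₗ[S]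
        ((Fin n → S) ⧸ (Submodule.span R {a}).localized' S P f) :=
      (IsLocalizedModule.linearEquiv P (LocalizedModule.mkLinearMap P _) φ).extendScalarsOfIsLocalization P S
    unfold Module.rankAtStalk
    rw [(e1 ≪≫ₗ e0).finrank_eq]
    exact finrank_quot b i u hu

end Aux

/-- The first sentence of the lemma together with the description of the closed subscheme Z given in its
proof, in the local model. Let R be a commutative ring, n ≥ 1, a ∈ R^n, and F = R^n / R·a the
cokernel of R → R^n, 1 ↦ a (the zeroth homology of the two-term complex R → R^n). Then the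
annihilator ideal of the top exterior power ⋀^n F is the ideal generated by the coordinates a_1, …,
a_n of a, and at every prime p of R off the closed set V(a_1, …, a_n) the module F is free of rank n
− 1 after localization at p. (The published statement is for a complex on a scheme which is locally
quasi-isomorphic to such a two-term complex L → E with L invertible and E locally free of rank n,
and says that H^0 restricted to the complement of the closed subscheme cut out by the annihilator of
its n-th exterior power is locally free of rank n − 1; this row is the local model.) -/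
theorem result (R : Type u) [CommRing R]
    (n : ℕ) (hn : 1 ≤ n) (a : Fin n → R) :
    (⋀[R]^n ((Fin n → R) ⧸ Submodule.span R {a})).annihilator = Ideal.span (Set.range a) ∧
    ∀ p : PrimeSpectrum R, ¬ Ideal.span (Set.range a) ≤ p.asIdeal →
      p ∈ Module.freeLocus R ((Fin n → R) ⧸ Submodule.span R {a}) ∧
      Module.rankAtStalk ((Fin n → R) ⧸ Submodule.span R {a}) p = n - 1 := by
  exact ⟨Aux.part1 a, fun p hp => Aux.part2 a p hp⟩

end Groth.Agent.S19573
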