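import Groth.Statements.S19574
-- import your own Groth.Agent.* helpers here
import Groth.Agent.Lib.Helper7.CAlg.FlatQuot

set_option autoImplicit false
universe u
open CategoryTheory MonoidalCategory
open Lie3Mod

namespace Groth.Agent.S19574

/-- Let R be a commutative ring and d ≥ 1. Let K be a chain complex of R-modules concentrated in degrees
0, …, d + 1, written … → 0 → P_{d+1} → P_d → … → P_1 → M with M = K_0, which is exact (so 0 →
P_{d+1} → … → P_1 → M → 0 is an exact sequence), such that P_1, …, P_d are flat R-modules and such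
that for every ideal I of R the complex obtained by applying (R/I) ⊗_R − termwise is again exact.
Then M is a flat R-module. (No flatness is assumed for P_{d+1}. The published lemma adds that for R
Noetherian it suffices to test prime ideals I; that refinement is not part of this statement.) -/
theorem result (R : Type u) [CommRing R]
    (d : ℕ) (hd : 1 ≤ d) (K : ChainComplex (ModuleCat.{u} R) ℕ)
    (hzero : ∀ i : ℕ, d + 1 < i → Limits.IsZero (K.X i))
    (hflat : ∀ i : ℕ, 1 ≤ i → i ≤ d → Module.Flat R (K.X i))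
    (hK : K.Acyclic)
    (hbc : ∀ I : Ideal R,
      (((tensorLeft (ModuleCat.of R (R ⧸ I))).mapHomologicalComplex (ComplexShape.down ℕ)).obj K).Acyclic) :
    Module.Flat R (K.X 0) := by
  have hflat1 : Module.Flat R (K.X 1) := hflat 1 le_rfl hd
  have hsurj : Function.Surjective (K.d 1 0).hom := by
    have h0 := hK 0
    rw [HomologicalComplex.exactAt_iff' K 1 0 0 (by simp) (by simp),
      ShortComplex.moduleCat_exact_iff] at h0
    intro x
    exact h0 x (by simp; rfl)
  have hex1 : ∀ x : K.X 1, (K.d 1 0).hom x = 0 → ∃ y : K.X 2, (K.d 2 1).hom y = x := by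
    have h1 := hK 1
    rw [HomologicalComplex.exactAt_iff' K 2 1 0 (by simp) (by simp),
      ShortComplex.moduleCat_exact_iff] at h1
    exact h1
  apply Groth.Agent.Helper7.FlatQuot.flat_of_surjective_of_inter_le (K.d 1 0).hom hsurj
  intro I f hfker hfI
  obtain ⟨k₂, rfl⟩ := hex1 f hfker
  have h2 := hbc I 2
  rw [HomologicalComplex.exactAt_iff' _ 3 2 1 (by simp) (by simp),
    ShortComplex.moduleCat_exact_iff] at h2
  have h3 := h2 (TensorProduct.tmul R (1 : R ⧸ I) k₂) (by
    simp
    erw [ModuleCat.MonoidalCategory.whiskerLeft_apply]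
    exact (Groth.Agent.Helper7.FlatQuot.one_tmul_eq_zero_iff I _).mpr hfI)
  obtain ⟨y, hy⟩ := h3
  obtain ⟨k₃, rfl⟩ := Groth.Agent.Helper7.FlatQuot.exists_one_tmul I y
  simp at hy
  erw [ModuleCat.MonoidalCategory.whiskerLeft_apply] at hy
  have h4 : (TensorProduct.tmul R (1 : R ⧸ I) (k₂ - (K.d 3 2).hom k₃) : TensorProduct R (R ⧸ I) (K.X 2)) = 0 := by
    rw [TensorProduct.tmul_sub, sub_eq_zero]
    exact hy.symm
  rw [Groth.Agent.Helper7.FlatQuot.one_tmul_eq_zero_iff] at h4
  have h5 : (K.d 2 1).hom k₂ = (K.d 2 1).hom (k₂ - (K.d 3 2).hom k₃) := by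
    rw [map_sub]
    have : (K.d 2 1).hom ((K.d 3 2).hom k₃) = 0 := by
      rw [← LinearMap.comp_apply, ← ModuleCat.hom_comp, K.d_comp_d]
      rfl
    rw [this, sub_zero]
  rw [h5]
  have h7 : (K.d 2 1).hom (k₂ - (K.d 3 2).hom k₃) ∈
      Submodule.map (K.d 2 1).hom (I • (⊤ : Submodule R (K.X 2))) := ⟨_, h4, rfl⟩
  rw [Submodule.map_smul''] at h7
  refine Submodule.smul_mono le_rfl ?_ h7
  rintro _ ⟨z, -, rfl⟩
  rw [LinearMap.mem_ker, ← LinearMap.comp_apply, ← ModuleCat.hom_comp, K.d_comp_d]
  rfl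

end Groth.Agent.S19574
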