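import Groth.Statements.S19575
import Mathlib
import Groth.Prelude.Def_W4c1chowmix47Eta
import Groth.Agent.Lib.Helper9.EtaPt8
import Groth.Agent.S13821
import Groth.Agent.S13829
-- import your own Groth.Agent.* helpers here

set_option autoImplicit false
universe u
open EtaPt

namespace Groth.Agent.S19575

open EtaPt Groth.Agent.Helper9.EtaPtLib
namespace Aux

open Groth.Agent.S13821.Aux in
theorem main (η : EtaPt.FieldEndo.{u}) {A B : Type u} [CommRing A] [CommRing B]
    (hA : (minimalPrimes A).Finite) (φ : A →+* B) (hs : Function.Surjective (PrimeSpectrum.comap φ))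
    (h : Function.Bijective (η.qRel φ)) (f : A) :
    Function.Bijective (η.qRel (Localization.awayMap φ f)) := by
  obtain ⟨hi, hsj⟩ := h
  rw [qRel_injective_iff] at hi
  rw [qRel_surjective_iff] at hsj
  have hcomm : (Localization.awayMap φ f).comp (algebraMap A (Localization.Away f)) =
      (algebraMap B (Localization.Away (φ f))).comp φ := IsLocalization.map_comp _
  have hcomm' : ∀ a, Localization.awayMap φ f (algebraMap A (Localization.Away f) a) =
      algebraMap B (Localization.Away (φ f)) (φ a) := fun a =>
    congrArg (fun ψ : A →+* Localization.Away (φ f) => ψ a) hcomm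
  refine ⟨(qRel_injective_iff η _).mpr ?_, (qRel_surjective_iff η _).mpr ?_⟩
  · rw [injective_iff_map_eq_zero]
    intro x hx
    obtain ⟨⟨a, ⟨_, n, rfl⟩⟩, hx'⟩ := IsLocalization.surj (Submonoid.powers f) x
    simp only at hx'
    have h1 : algebraMap B (Localization.Away (φ f)) (φ a) = 0 := by
      rw [← hcomm', ← hx', map_mul, hx, zero_mul]
    rw [IsLocalization.map_eq_zero_iff (Submonoid.powers (φ f))] at h1
    obtain ⟨⟨_, m, rfl⟩, hm⟩ := h1
    simp only at hm
    have h2 : f ^ m * a = 0 := by
      apply hi
      rw [map_mul, map_pow, hm, map_zero]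
    have h3 : algebraMap A (Localization.Away f) a = 0 := by
      rw [IsLocalization.map_eq_zero_iff (Submonoid.powers f)]
      exact ⟨⟨f ^ m, m, rfl⟩, h2⟩
    have hu : IsUnit (algebraMap A (Localization.Away f) (f ^ n)) :=
      IsLocalization.map_units _ (⟨f ^ n, n, rfl⟩ : Submonoid.powers f)
    rw [h3] at hx'
    exact (hu.mul_left_eq_zero).mp hx'
  · intro y hy
    obtain ⟨x, hx, n, hxn⟩ := (Groth.Agent.S13829.result η hA φ hs f).2 y hy
    obtain ⟨a, rfl⟩ := hsj x hx
    have hu : IsUnit (algebraMap B (Localization.Away (φ f)) (φ f) ^ n) :=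
      (IsLocalization.map_units _ (⟨φ f, 1, pow_one _⟩ : Submonoid.powers (φ f))).pow n
    refine ⟨IsLocalization.mk' (Localization.Away f) a (⟨f ^ n, n, rfl⟩ : Submonoid.powers f), ?_⟩
    apply hu.mul_left_injective
    simp only
    rw [hxn, ← hcomm', ← hcomm', ← map_pow, ← map_pow, ← map_mul, IsLocalization.mk'_spec]

end Aux

/-- Let η be the field-endofunctor datum of the pointwise construction, A a commutative ring with
finitely many minimal prime ideals and φ : A → B a ring map inducing a surjection on prime spectra.
If the canonical map A → (B/A)_η (the corestriction of φ onto the subring of B of elements whose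
image in ∏_q F(k(q)) comes from M_η(A)) is bijective, then for every f ∈ A the canonical map A_f →
(B_f/A_f)_η attached to the localized map A_f → B_{φ(f)} is bijective as well. -/
theorem result (η : EtaPt.FieldEndo.{u}) {A B : Type u} [CommRing A] [CommRing B]
    (hA : (minimalPrimes A).Finite) (φ : A →+* B) (hs : Function.Surjective (PrimeSpectrum.comap φ))
    (h : Function.Bijective (η.qRel φ)) (f : A) :
    Function.Bijective (η.qRel (Localization.awayMap φ f)) := by
  exact Aux.main η hA φ hs h f

end Groth.Agent.S19575
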