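import Groth.Statements.S19576
import Mathlib
import Groth.Prelude.Def_W4c1chowmix47Eta
import Groth.Agent.Lib.Helper9.EtaPt8
import Groth.Agent.S13821
import Groth.Agent.S13829
-- import your own Groth.Agent.* helpers here

set_option autoImplicit false
universe u
open EtaPt

namespace Groth.Agent.S19576

open EtaPt Groth.Agent.Helper9.EtaPtLib
namespace Aux

lemma ideal_eq_top_of_pow_mem {A : Type*} [CommRing A] (s : Finset A)
    (hspan : Ideal.span (s : Set A) = ⊤) (I : Ideal A) (h : ∀ f ∈ s, ∃ n : ℕ, f ^ n ∈ I) : I = ⊤ := by
  by_contra hne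
  obtain ⟨𝔪, hmax, hle⟩ := Ideal.exists_le_maximal I hne
  have hprime := hmax.isPrime
  have : Ideal.span (s : Set A) ≤ 𝔪 := by
    rw [Ideal.span_le]
    intro f hf
    obtain ⟨n, hn⟩ := h f hf
    exact hprime.mem_of_pow_mem n (hle hn)
  rw [hspan] at this
  exact hmax.ne_top (top_le_iff.mp this)

open Groth.Agent.S13821.Aux in
theorem main (η : EtaPt.FieldEndo.{u}) {A B : Type u} [CommRing A] [CommRing B]
    (hA : (minimalPrimes A).Finite) (φ : A →+* B) (hs : Function.Surjective (PrimeSpectrum.comap φ))
    (s : Finset A) (hspan : Ideal.span (s : Set A) = ⊤)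
    (h : ∀ f ∈ s, Function.Bijective (η.qRel (Localization.awayMap φ f))) :
    Function.Bijective (η.qRel φ) := by
  have hcomm : ∀ f, (Localization.awayMap φ f).comp (algebraMap A (Localization.Away f)) =
      (algebraMap B (Localization.Away (φ f))).comp φ := fun f => IsLocalization.map_comp _
  have hcomm' : ∀ f a, Localization.awayMap φ f (algebraMap A (Localization.Away f) a) =
      algebraMap B (Localization.Away (φ f)) (φ a) := fun f a =>
    congrArg (fun ψ : A →+* Localization.Away (φ f) => ψ a) (hcomm f)
  refine ⟨(qRel_injective_iff η _).mpr ?_, (qRel_surjective_iff η _).mpr ?_⟩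
  · rw [injective_iff_map_eq_zero]
    intro a ha
    let I : Ideal A := Ideal.span {a} |>.annihilator
    have hI : (Submodule.span A {a}).annihilator = ⊤ := by
      apply ideal_eq_top_of_pow_mem s hspan
      intro f hf
      have hfi := (qRel_injective_iff η _).mp (h f hf).1
      have h1 : algebraMap A (Localization.Away f) a = 0 := by
        apply hfi
        rw [hcomm', ha, map_zero, map_zero]
      rw [IsLocalization.map_eq_zero_iff (Submonoid.powers f)] at h1
      obtain ⟨⟨_, m, rfl⟩, hm⟩ := h1
      exact ⟨m, by
        rw [Submodule.mem_annihilator_span_singleton]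
        exact hm⟩
    have h1 : (1 : A) ∈ (Submodule.span A {a}).annihilator := by rw [hI]; exact Submodule.mem_top
    rw [Submodule.mem_annihilator_span_singleton, one_smul] at h1
    exact h1
  · intro b hb
    let I : Ideal A :=
      { carrier := {r | ∃ a, φ a = φ r * b}
        zero_mem' := ⟨0, by rw [map_zero, zero_mul]⟩
        add_mem' := by
          rintro r r' ⟨a, ha⟩ ⟨a', ha'⟩
          exact ⟨a + a', by rw [map_add, map_add, add_mul, ha, ha']⟩
        smul_mem' := by
          rintro c r ⟨a, ha⟩
          exact ⟨c * a, by rw [smul_eq_mul, map_mul, map_mul, mul_assoc, ha]⟩ }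
    have hI : I = ⊤ := by
      apply ideal_eq_top_of_pow_mem s hspan
      intro f hf
      have hfs := (qRel_surjective_iff η _).mp (h f hf).2
      have hb' : algebraMap B (Localization.Away (φ f)) b ∈ η.rel (Localization.awayMap φ f) :=
        (Groth.Agent.S13829.result η hA φ hs f).1 ⟨b, hb, rfl⟩
      obtain ⟨x, hx⟩ := hfs _ hb'
      obtain ⟨⟨a, ⟨_, n, rfl⟩⟩, hx'⟩ := IsLocalization.surj (Submonoid.powers f) x
      simp only at hx'
      have h1 : algebraMap B (Localization.Away (φ f)) (φ (f ^ n) * b) =
          algebraMap B (Localization.Away (φ f)) (φ a) := by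
        rw [← hcomm', ← hx', map_mul, map_mul, hx, hcomm', mul_comm]
      rw [IsLocalization.eq_iff_exists (Submonoid.powers (φ f))] at h1
      obtain ⟨⟨_, m, rfl⟩, hm⟩ := h1
      simp only at hm
      refine ⟨m + n, f ^ m * a, ?_⟩
      rw [map_mul, map_pow, ← hm, pow_add, map_mul, map_pow, map_pow, mul_assoc]
    have h1 : (1 : A) ∈ I := by rw [hI]; exact Submodule.mem_top
    obtain ⟨a, ha⟩ := h1
    exact ⟨a, by rw [ha, map_one, one_mul]⟩

end Aux

/-- Let η be the field-endofunctor datum of the pointwise construction, A a commutative ring with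
finitely many minimal prime ideals and φ : A → B a ring map inducing a surjection on prime spectra.
If finitely many elements f_1, …, f_n of A generate the unit ideal and, for each i, the canonical
map A_{f_i} → (B_{f_i}/A_{f_i})_η attached to the localized map A_{f_i} → B_{φ(f_i)} is bijective,
then the canonical map A → (B/A)_η is bijective. -/
theorem result (η : EtaPt.FieldEndo.{u}) {A B : Type u} [CommRing A] [CommRing B]
    (hA : (minimalPrimes A).Finite) (φ : A →+* B) (hs : Function.Surjective (PrimeSpectrum.comap φ))
    (s : Finset A) (hspan : Ideal.span (s : Set A) = ⊤)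
    (h : ∀ f ∈ s, Function.Bijective (η.qRel (Localization.awayMap φ f))) :
    Function.Bijective (η.qRel φ) := by
  exact Aux.main η hA φ hs s hspan h

end Groth.Agent.S19576
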