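import Groth.Statements.S19577
import Mathlib
import Groth.Prelude.Def_W4c1chowmix47Eta
import Groth.Agent.Lib.Helper9.EtaPt8
import Groth.Agent.S13802
import Groth.Agent.S13803
-- import your own Groth.Agent.* helpers here

set_option autoImplicit false
universe u
open EtaPt

namespace Groth.Agent.S19577

open EtaPt Groth.Agent.Helper9.EtaPtLib
namespace Aux

lemma square (η : EtaPt.FieldEndo.{u}) {A B : Type u} [CommRing A] [CommRing B] (f : A →+* B)
    (g : η.M A →+* η.M B) (hg : ∀ x : η.M A, ((g x : η.M B) : η.N B) = η.Nmap f (x : η.N A)) :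
    g.comp (η.q A) = (η.q B).comp f := by
  refine RingHom.ext fun a => Subtype.ext ?_
  rw [RingHom.comp_apply, hg]
  exact FieldEndo.Nmap_t_apply η f a

theorem main (η : EtaPt.FieldEndo.{u}) {A B : Type u} [CommRing A] [CommRing B]
    (hA : (minimalPrimes A).Finite) (hB : (minimalPrimes B).Finite) (f : A →+* B)
    (g : η.M A →+* η.M B) (hg : ∀ x : η.M A, ((g x : η.M B) : η.N B) = η.Nmap f (x : η.N A)) :
    (f.IsIntegral ↔ g.IsIntegral) ∧
      (Function.Surjective (PrimeSpectrum.comap f) ↔ Function.Surjective (PrimeSpectrum.comap g)) := by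
  have hsq := square η f g hg
  have hqA := Groth.Agent.S13802.result η A hA
  have hqB := Groth.Agent.S13802.result η B hB
  obtain ⟨hbA, -⟩ := Groth.Agent.S13803.result η A hA
  obtain ⟨hbB, -⟩ := Groth.Agent.S13803.result η B hB
  have hsp : PrimeSpectrum.comap (η.q A) ∘ PrimeSpectrum.comap g =
      PrimeSpectrum.comap f ∘ PrimeSpectrum.comap (η.q B) := by
    rw [← PrimeSpectrum.comap_comp, ← PrimeSpectrum.comap_comp, hsq]
  refine ⟨⟨fun hf => ?_, fun hgi => ?_⟩, ⟨fun hf => ?_, fun hgs => ?_⟩⟩
  · apply RingHom.IsIntegral.tower_top (η.q A) g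
    rw [hsq]
    exact RingHom.IsIntegral.trans _ _ hf hqB
  · intro b
    have h1 : ((η.q B).comp f).IsIntegral := by
      rw [← hsq]; exact RingHom.IsIntegral.trans _ _ hqA hgi
    obtain ⟨P, hPm, hP⟩ := h1 (η.q B b)
    rw [← Polynomial.hom_eval₂] at hP
    have h2 : η.t B (Polynomial.eval₂ f b P) = 0 := congrArg Subtype.val hP
    rw [t_eq_zero_iff] at h2
    obtain ⟨k, hk⟩ := h2
    refine ⟨P ^ k, hPm.pow k, ?_⟩
    rw [Polynomial.eval₂_pow]
    exact hk
  · intro P'
    obtain ⟨Q, hQ⟩ := hf (PrimeSpectrum.comap (η.q A) P')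
    obtain ⟨Q', rfl⟩ := hbB.2 Q
    refine ⟨Q', hbA.1 ?_⟩
    have := congrFun hsp Q'
    simp only [Function.comp_apply] at this
    rw [this, hQ]
  · have h1 : Function.Surjective (PrimeSpectrum.comap f ∘ PrimeSpectrum.comap (η.q B)) := by
      rw [← hsp]; exact hbA.2.comp hgs
    exact Function.Surjective.of_comp h1

end Aux

/-- Let f : A → B be a homomorphism of commutative rings, each with only finitely many minimal primes.
Then M_η(f) : M_η(A) → M_η(B) is integral exactly when f is integral, and Spec M_η(f) is surjective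
exactly when Spec f is. Here η is the field-endofunctor datum of the pointwise construction, M_η(A)
⊆ ∏_p F(k(p)) the subring attached to A with q_A : A → M_η(A), and M_η(f) : M_η(A) → M_η(B) the ring
map induced by N_η(f), pinned here as the ring map g compatible with N_η(f) under the two subring
inclusions. -/
theorem result (η : EtaPt.FieldEndo.{u}) {A B : Type u} [CommRing A] [CommRing B]
    (hA : (minimalPrimes A).Finite) (hB : (minimalPrimes B).Finite) (f : A →+* B)
    (g : η.M A →+* η.M B) (hg : ∀ x : η.M A, ((g x : η.M B) : η.N B) = η.Nmap f (x : η.N A)) :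
    (f.IsIntegral ↔ g.IsIntegral) ∧
      (Function.Surjective (PrimeSpectrum.comap f) ↔ Function.Surjective (PrimeSpectrum.comap g)) := by
  exact Aux.main η hA hB f g hg

end Groth.Agent.S19577
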