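import Groth.Statements.S19578
import Mathlib
import Groth.Prelude.Def_W4c1chowmix47Eta
import Groth.Agent.Lib.Helper9.EtaPt8
import Groth.Agent.S13803
import Groth.Agent.S19577
-- import your own Groth.Agent.* helpers here

set_option autoImplicit false
universe u
open EtaPt

namespace Groth.Agent.S19578

open EtaPt Groth.Agent.Helper9.EtaPtLib
namespace Aux

theorem main (η : EtaPt.FieldEndo.{u}) {A B : Type u} [CommRing A] [CommRing B]
    (hA : (minimalPrimes A).Finite) (hB : (minimalPrimes B).Finite) (f : A →+* B)
    (g : η.M A →+* η.M B) (hg : ∀ x : η.M A, ((g x : η.M B) : η.N B) = η.Nmap f (x : η.N A))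
    (hbij : Function.Bijective g) :
    Function.Bijective (PrimeSpectrum.comap f) ∧
      ∀ Q : PrimeSpectrum B,
        ∃ φ : Q.asIdeal.ResidueField →+* η.obj (PrimeSpectrum.comap f Q).asIdeal.ResidueField,
          φ.comp (Ideal.ResidueField.map (PrimeSpectrum.comap f Q).asIdeal Q.asIdeal f rfl) =
            η.eta (PrimeSpectrum.comap f Q).asIdeal.ResidueField := by
  have hsq := Groth.Agent.S19577.Aux.square η f g hg
  obtain ⟨hbA, -⟩ := Groth.Agent.S13803.result η A hA
  obtain ⟨hbB, -⟩ := Groth.Agent.S13803.result η B hB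
  have hsp : PrimeSpectrum.comap (η.q A) ∘ PrimeSpectrum.comap g =
      PrimeSpectrum.comap f ∘ PrimeSpectrum.comap (η.q B) := by
    rw [← PrimeSpectrum.comap_comp, ← PrimeSpectrum.comap_comp, hsq]
  let e : η.M A ≃+* η.M B := RingEquiv.ofBijective g hbij
  have he : ∀ x, e x = g x := fun x => rfl
  have hes : ∀ y, g (e.symm y) = y := fun y => e.apply_symm_apply y
  have hes' : ∀ x, e.symm (g x) = x := fun x => e.symm_apply_apply x
  have hgb : Function.Bijective (PrimeSpectrum.comap g) := by
    refine ⟨PrimeSpectrum.comap_injective_of_surjective g hbij.2, fun P => ?_⟩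
    refine ⟨PrimeSpectrum.comap (e.symm : η.M B →+* η.M A) P, ?_⟩
    rw [← PrimeSpectrum.comap_comp_apply]
    have : ((e.symm : η.M B →+* η.M A)).comp g = RingHom.id _ := RingHom.ext fun x => hes' x
    rw [this]
    rfl
  refine ⟨?_, fun Q => ?_⟩
  · have h1 : Function.Bijective (PrimeSpectrum.comap f ∘ PrimeSpectrum.comap (η.q B)) := by
      rw [← hsp]; exact hbA.comp hgb
    exact (Function.Bijective.of_comp_iff _ hbB).mp h1
  · obtain ⟨Q', hQ'⟩ := hbB.2 Q
    have hQ'' : Q.asIdeal = Ideal.comap (η.q B) Q'.asIdeal := by rw [← hQ']; rfl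
    have hP : (PrimeSpectrum.comap f Q).asIdeal =
        Ideal.comap (η.q A) (PrimeSpectrum.comap g Q').asIdeal := by
      have := congrFun hsp Q'
      simp only [Function.comp_apply] at this
      rw [hQ'] at this
      rw [← this]; rfl
    obtain ⟨φA, hφA⟩ := Groth.Agent.S13803.Aux.residue_factor η A (PrimeSpectrum.comap g Q')
      (PrimeSpectrum.comap f Q) hP (eq_QP_of_comap η hA _ _ hP)
    have hQP : Q'.asIdeal = Ideal.comap (e.symm : η.M B →+* η.M A)
        (PrimeSpectrum.comap g Q').asIdeal := by
      show Q'.asIdeal = Ideal.comap (e.symm : η.M B →+* η.M A) (Ideal.comap g Q'.asIdeal)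
      rw [Ideal.comap_comap]
      have : g.comp (e.symm : η.M B →+* η.M A) = RingHom.id _ := RingHom.ext fun y => hes y
      rw [this, Ideal.comap_id]
    refine ⟨(φA.comp (Ideal.ResidueField.map Q'.asIdeal (PrimeSpectrum.comap g Q').asIdeal
      (e.symm : η.M B →+* η.M A) hQP)).comp
      (Ideal.ResidueField.map Q.asIdeal Q'.asIdeal (η.q B) hQ''), ?_⟩
    generalize_proofs hrfl
    apply Ideal.ResidueField.ringHom_ext
    refine RingHom.ext fun a => ?_
    simp only [RingHom.comp_apply]
    rw [Ideal.ResidueField.map_algebraMap, Ideal.ResidueField.map_algebraMap,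
      Ideal.ResidueField.map_algebraMap]
    have h1 : (e.symm : η.M B →+* η.M A) (η.q B (f a)) = η.q A a := by
      have : η.q B (f a) = g (η.q A a) := (congrArg (fun ψ : A →+* η.M B => ψ a) hsq).symm
      rw [this]
      exact hes' _
    rw [h1]
    have h2 := congrArg (fun ψ => ψ (algebraMap A _ a)) hφA
    simp only [RingHom.comp_apply, Ideal.ResidueField.map_algebraMap] at h2
    exact h2

end Aux

/-- Let f : A → B be a homomorphism of commutative rings, each with only finitely many minimal primes,
and suppose the induced map M_η(f) : M_η(A) → M_η(B) is an isomorphism. Then Spec f is a bijection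
between the prime ideals of B and of A, and for every prime q of B, with p = f⁻¹(q), there is a ring
map φ : k(q) → F(k(p)) whose composite with the residue field map k(p) → k(q) equals η_{k(p)}. Here
η is the field-endofunctor datum of the pointwise construction, M_η(A) ⊆ ∏_p F(k(p)) the subring
attached to A with q_A : A → M_η(A), and M_η(f) : M_η(A) → M_η(B) the ring map induced by N_η(f),
pinned here as the ring map g compatible with N_η(f) under the two subring inclusions. -/
theorem result (η : EtaPt.FieldEndo.{u}) {A B : Type u} [CommRing A] [CommRing B]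
    (hA : (minimalPrimes A).Finite) (hB : (minimalPrimes B).Finite) (f : A →+* B)
    (g : η.M A →+* η.M B) (hg : ∀ x : η.M A, ((g x : η.M B) : η.N B) = η.Nmap f (x : η.N A))
    (hbij : Function.Bijective g) :
    Function.Bijective (PrimeSpectrum.comap f) ∧
      ∀ Q : PrimeSpectrum B,
        ∃ φ : Q.asIdeal.ResidueField →+* η.obj (PrimeSpectrum.comap f Q).asIdeal.ResidueField,
          φ.comp (Ideal.ResidueField.map (PrimeSpectrum.comap f Q).asIdeal Q.asIdeal f rfl) =
            η.eta (PrimeSpectrum.comap f Q).asIdeal.ResidueField := by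
  exact Aux.main η hA hB f g hg hbij

end Groth.Agent.S19578
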