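import Groth.Statements.S19591
-- import your own Groth.Agent.* helpers here
import Mathlib.LinearAlgebra.FiniteDimensional.Lemmas
import Mathlib.LinearAlgebra.Dimension.RankNullity
import Mathlib.LinearAlgebra.FiniteDimensional.Basic

set_option autoImplicit false
universe u v
open BddFin

namespace Groth.Agent.S19591

/-- Let K be a perfect field of characteristic 2, V a finite-dimensional K-vector space with dim V > 2
and q a quadratic form on V whose polar bilinear form is non-degenerate. Then q represents zero
non-trivially. (Non-degeneracy of the polar form, which is alternating in characteristic 2, forces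
dim V to be even, as the published lemma notes.) -/
theorem result
    (K : Type u) [Field K] [CharP K 2] [PerfectField K]
    (V : Type v) [AddCommGroup V] [Module K V] [FiniteDimensional K V]
    (hV : 2 < Module.finrank K V) (q : QuadraticForm K V)
    (hq : (QuadraticMap.polarBilin q).Nondegenerate) :
    ∃ v : V, v ≠ 0 ∧ q v = 0 := by
  have h2 : (2 : K) = 0 := CharP.ofNat_eq_zero K 2
  have hsq : ∀ x : K, ∃ y : K, y * y = x := by
    intro x
    have : ExpChar K 2 := ExpChar.prime Nat.prime_two
    have : PerfectRing K 2 := PerfectField.toPerfectRing 2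
    obtain ⟨y, hy⟩ := surjective_frobenius K 2 x
    exact ⟨y, by rw [← hy, frobenius_def, pow_two]⟩
  have hnt : Nontrivial V := Module.nontrivial_of_finrank_pos (R := K) (by omega)
  obtain ⟨v, hv⟩ := exists_ne (0 : V)
  by_cases hqv : q v = 0
  · exact ⟨v, hv, hqv⟩
  let φ : V →ₗ[K] K := QuadraticMap.polarBilin q v
  have hker : ¬ (LinearMap.ker φ ≤ Submodule.span K {v}) := by
    intro hle
    have h1 := Submodule.finrank_mono hle
    have h2' : Module.finrank K (Submodule.span K {v}) ≤ 1 := by
      have := finrank_span_singleton (K := K) hv
      omega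
    have h3 := LinearMap.finrank_range_add_finrank_ker φ
    have h4 : Module.finrank K (LinearMap.range φ) ≤ 1 := by
      have := Submodule.finrank_le (LinearMap.range φ)
      simpa using this
    omega
  obtain ⟨w, hwker, hwspan⟩ := Set.not_subset.mp hker
  have hvw : QuadraticMap.polar q v w = 0 := by
    have : φ w = 0 := hwker
    simpa [φ] using this
  obtain ⟨c, hc⟩ := hsq (q w / q v)
  refine ⟨c • v + w, ?_, ?_⟩
  · intro h0
    apply hwspan
    have : w = (-c) • v := by
      rw [neg_smul]; exact eq_neg_of_add_eq_zero_right h0
    rw [this]
    exact Submodule.smul_mem _ _ (Submodule.mem_span_singleton_self v)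
  · rw [QuadraticMap.map_add q, QuadraticMap.map_smul, QuadraticMap.polar_smul_left, hvw,
      smul_eq_mul, smul_eq_mul, hc, mul_zero, add_zero, div_mul_cancel₀ _ hqv]
    rw [← two_mul, h2, zero_mul]

end Groth.Agent.S19591
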