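import Groth.Statements.S19603
import Mathlib
import Groth.Agent.Lib.Helper9.OrbitLib
import Groth.Agent.Lib.Helper9.HilbertFin2

set_option autoImplicit false
universe u
open GIT

namespace Groth.Agent.S19603

namespace Aux

open TensorProduct Groth.Agent.Helper9 MvPolynomial

section
variable {k : Type u} [Field k] {A : Type u} [CommRing A] [HopfAlgebra k A]
variable {ι : Type u} [Fintype ι] [HopfRep.Comod k A (MvPolynomial ι k)]
  [GLin.IsCoactAlg k A (MvPolynomial ι k)]

lemma hlin' (hlin : GLin.IsLinear k A ι) (i : ι) :
    HopfRep.Comod.coact (k := k) (A := A) (MvPolynomial.X i : MvPolynomial ι k) ∈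
      LinearMap.range (TensorProduct.mapIncl
        (Submodule.span k (Set.range (MvPolynomial.X : ι → MvPolynomial ι k))) (⊤ : Submodule k A)) := by
  obtain ⟨m, hm⟩ := hlin i
  rw [hm]
  apply Submodule.sum_mem
  intro j _
  refine ⟨(⟨X j, Submodule.subset_span ⟨j, rfl⟩⟩ :
    Submodule.span k (Set.range (MvPolynomial.X : ι → MvPolynomial ι k))) ⊗ₜ[k]
    (⟨m j, trivial⟩ : (⊤ : Submodule k A)), ?_⟩
  simp [TensorProduct.mapIncl]

theorem main (hG : HopfRep.IsLinearlyReductive k A) (hlin : GLin.IsLinear k A ι) (v : ι → k) :
    GLin.IsSemistableVec k A v ↔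
      ¬ GLin.InOrbitClosure k A (GLin.vecPt k ι v) (GLin.vecPt k ι (fun _ => (0 : k))) := by
  classical
  have hA1 : (1 : A) ≠ 0 := by
    intro h
    have := congrArg (Coalgebra.counit (R := k) (A := A)) h
    rw [Bialgebra.counit_one, map_zero] at this
    exact one_ne_zero this
  have hU := HilbertFin.isSubcomod_homogeneousSubmodule (A := A) (hlin' hlin)
  constructor
  · intro hss hcl
    apply hss
    intro F hF d hd hFd
    have h1 : F - algebraMap k _ (GLin.vecPt k ι v F) ∈
        RingHom.ker (GLin.orbitHom k A (GLin.vecPt k ι v)) := by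
      rw [RingHom.mem_ker, map_sub, OrbitLib.orbitHom_of_mem_invariants _ _ hF, AlgHom.commutes,
        sub_self]
    have h2 := hcl h1
    rw [RingHom.mem_ker, map_sub, AlgHom.commutes, sub_eq_zero] at h2
    have h3 : GLin.vecPt k ι (fun _ => (0 : k)) F = 0 := by
      show MvPolynomial.aeval (fun _ => (0 : k)) F = 0
      rw [MvPolynomial.aeval_eq_eval, MvPolynomial.eval_zero']
      show MvPolynomial.coeff 0 F = 0
      apply hFd.coeff_eq_zero
      simp only [map_zero]
      omega
    rw [h3] at h2
    show MvPolynomial.eval v F = 0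
    exact h2.symm
  · intro hncl hnull
    apply hncl
    intro h hh
    by_contra hne
    have hne' : MvPolynomial.coeff 0 h ≠ 0 := by
      intro h0
      apply hne
      rw [RingHom.mem_ker]
      show MvPolynomial.aeval (fun _ => (0 : k)) h = 0
      rw [MvPolynomial.aeval_eq_eval, MvPolynomial.eval_zero']
      exact h0
    obtain ⟨E, hE₁, hE₂, hE₃⟩ := exists_reynolds hG (MvPolynomial ι k)
    have hfix : ∀ a, E a ∈ GLin.invariants k A (MvPolynomial ι k) := fun a =>
      (hE₃ (E a)).mp (LinearMap.congr_fun hE₂ a)
    have hE1 : E 1 = 1 := by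
      rw [hE₃]
      show HopfRep.Comod.coact (k := k) (A := A) (1 : MvPolynomial ι k) = 1 ⊗ₜ[k] (1 : A)
      rw [GLin.IsCoactAlg.coact_one (k := k) (A := A), Algebra.TensorProduct.one_def]
    have hEh := reynolds_mem_of_isSubcomod hG E hE₁ hE₂ hE₃ _
      (OrbitLib.isSubcomod_ker_orbitHom (GLin.vecPt k ι v)) h hh
    -- (E h)(v) = 0
    have hv0 : MvPolynomial.eval v (E h) = 0 := by
      have h2 : GLin.orbitHom k A (GLin.vecPt k ι v) (E h) = 0 := hEh
      rw [OrbitLib.orbitHom_of_mem_invariants _ _ (hfix h), Algebra.algebraMap_eq_smul_one] at h2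
      by_contra hne0
      exact hA1 ((smul_eq_zero.mp h2).resolve_left hne0)
    -- components
    have hcompE : ∀ d, homogeneousComponent d (E h) = E (homogeneousComponent d h) :=
      fun d => HilbertFin.homogeneousComponent_reynolds hG hU E hE₁ hE₂ hE₃ h d
    have hpos : ∀ d, 0 < d → MvPolynomial.eval v (homogeneousComponent d (E h)) = 0 := by
      intro d hd
      apply hnull _ _ d hd (homogeneousComponent_isHomogeneous d _)
      rw [hcompE]
      exact hfix _
    have h0 : homogeneousComponent 0 (E h) = C (MvPolynomial.coeff 0 h) := by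
      rw [hcompE, homogeneousComponent_zero, MvPolynomial.C_eq_smul_one, map_smul, hE1]
    rw [← MvPolynomial.sum_homogeneousComponent (E h), map_sum] at hv0
    rw [Finset.sum_eq_single 0] at hv0
    · rw [h0, MvPolynomial.eval_C] at hv0
      exact hne' hv0
    · intro d _ hd
      exact hpos d (Nat.pos_of_ne_zero hd)
    · intro h0'
      exact absurd (Finset.mem_range.mpr (Nat.succ_pos _)) h0'

end

end Aux

/-- For the whole projective space U = P(V), let k be an algebraically closed field of arbitrary
characteristic and G = Spec A a linearly reductive affine algebraic group acting linearly on affine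
ι-space, and let v be a vector. Then some invariant homogeneous polynomial of positive degree is
non-zero at v (the point of v is semistable) if and only if the origin is not in the closure of the
orbit of v. -/
theorem result (k : Type u) [Field k] [IsAlgClosed k]
    (A : Type u) [CommRing A] [HopfAlgebra k A] [Algebra.FiniteType k A] (hG : HopfRep.IsLinearlyReductive k A)
    (ι : Type u) [Fintype ι] [HopfRep.Comod k A (MvPolynomial ι k)] [GLin.IsCoactAlg k A (MvPolynomial ι k)]
    (hlin : GLin.IsLinear k A ι) (v : ι → k) :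
    GLin.IsSemistableVec k A v ↔
      ¬ GLin.InOrbitClosure k A (GLin.vecPt k ι v) (GLin.vecPt k ι (fun _ => (0 : k))) := by
  exact Aux.main hG hlin v

end Groth.Agent.S19603
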