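import Groth.Statements.S19609
import Mathlib.Tactic

set_option autoImplicit false
universe u
open CartMod

namespace Groth.Agent.S19609

/-- Let p be a prime and u : A → B a ring homomorphism between commutative rings which are complete and
separated for the p-adic topology and have no p-torsion (flat over the p-adic base). If u induces a
bijection A/pA → B/pB (injectivity: u a ∈ pB forces a ∈ pA; surjectivity: every b ∈ B is congruent
to some u a modulo pB), then u is bijective. (The published statement is for a morphism of flat
p-adic formal schemes over the Witt vectors of a perfect field: if its special fibre is an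
isomorphism, so is the morphism; this row is its affine, ring-level case.) -/
theorem result (p : ℕ) [Fact p.Prime]
    {A B : Type u} [CommRing A] [CommRing B]
    [IsAdicComplete (Ideal.span {(p : A)}) A] [IsAdicComplete (Ideal.span {(p : B)}) B]
    (hA : IsSMulRegular A (p : A)) (hB : IsSMulRegular B (p : B)) (u : A →+* B)
    (hinj : ∀ a : A, u a ∈ Ideal.span {(p : B)} → a ∈ Ideal.span {(p : A)})
    (hsurj : ∀ b : B, ∃ a : A, b - u a ∈ Ideal.span {(p : B)}) :
    Function.Bijective u := by
  -- membership in powers of the principal ideal (p) is divisibility by p ^ n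
  have memA : ∀ (n : ℕ) (x : A), x ∈ (Ideal.span {(p : A)} ^ n • ⊤ : Submodule A A) ↔ (p : A) ^ n ∣ x := by
    intro n x
    rw [smul_eq_mul, Ideal.mul_top, Ideal.span_singleton_pow, Ideal.mem_span_singleton]
  have memB : ∀ (n : ℕ) (x : B), x ∈ (Ideal.span {(p : B)} ^ n • ⊤ : Submodule B B) ↔ (p : B) ^ n ∣ x := by
    intro n x
    rw [smul_eq_mul, Ideal.mul_top, Ideal.span_singleton_pow, Ideal.mem_span_singleton]
  have hup : u (p : A) = (p : B) := map_natCast u p
  have hinj' : ∀ a : A, (p : B) ∣ u a → (p : A) ∣ a := by
    intro a ha
    exact Ideal.mem_span_singleton.mp (hinj a (Ideal.mem_span_singleton.mpr ha))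
  have hHA : IsHausdorff (Ideal.span {(p : A)}) A := inferInstance
  have hHB : IsHausdorff (Ideal.span {(p : B)}) B := inferInstance
  have hPA : IsPrecomplete (Ideal.span {(p : A)}) A := inferInstance
  constructor
  · rw [injective_iff_map_eq_zero]
    have key : ∀ n : ℕ, ∀ a : A, u a = 0 → (p : A) ^ n ∣ a := by
      intro n
      induction n with
      | zero => intro a _; simp
      | succ n ih =>
        intro a ha
        obtain ⟨a', rfl⟩ := hinj' a (by rw [ha]; exact dvd_zero _)
        have h1 : (p : B) * u a' = (p : B) * 0 := by
          rw [mul_zero, ← ha, map_mul, hup]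
        have h2 : u a' = 0 := hB h1
        obtain ⟨c, rfl⟩ := ih a' h2
        exact ⟨c, by ring⟩
    intro a ha
    apply hHA.haus a
    intro n
    rw [SModEq.zero, memA]
    exact key n a ha
  · intro b
    have hsurj' : ∀ b : B, ∃ a : A, ∃ b' : B, b - u a = (p : B) * b' := by
      intro b
      obtain ⟨a, ha⟩ := hsurj b
      obtain ⟨b', hb'⟩ := Ideal.mem_span_singleton.mp ha
      exact ⟨a, b', hb'⟩
    choose α β hαβ using hsurj'
    set bs : ℕ → B := fun n => β^[n] b with hbs
    set ss : ℕ → A := fun n => ∑ i ∈ Finset.range n, (p : A) ^ i * α (bs i) with hss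
    have hrec : ∀ n, b - u (ss n) = (p : B) ^ n * bs n := by
      intro n
      induction n with
      | zero => simp [hss, hbs]
      | succ n ih =>
        have e1 : ss (n + 1) = ss n + (p : A) ^ n * α (bs n) := by
          simp only [hss, Finset.sum_range_succ]
        have e2 : bs (n + 1) = β (bs n) := by
          simp only [hbs, Function.iterate_succ_apply']
        rw [e1, e2, map_add, map_mul, map_pow, hup]
        have := hαβ (bs n)
        linear_combination ih + (p : B) ^ n * this
    have hcauchy : ∀ {m n}, m ≤ n →
        ss m ≡ ss n [SMOD (Ideal.span {(p : A)} ^ m • ⊤ : Submodule A A)] := by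
      intro m n hmn
      rw [SModEq.sub_mem, memA]
      induction n, hmn using Nat.le_induction with
      | base => simp
      | succ n hmn ih =>
        have e1 : ss (n + 1) = ss n + (p : A) ^ n * α (bs n) := by
          simp only [hss, Finset.sum_range_succ]
        rw [e1]
        have : ss m - (ss n + (p : A) ^ n * α (bs n)) = (ss m - ss n) - (p : A) ^ n * α (bs n) := by ring
        rw [this]
        exact dvd_sub ih (Dvd.dvd.mul_right (pow_dvd_pow _ hmn) _)
    obtain ⟨L, hL⟩ := hPA.prec hcauchy
    refine ⟨L, ?_⟩
    have : b - u L = 0 := by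
      apply hHB.haus
      intro n
      rw [SModEq.zero, memB]
      have h1 := hL n
      rw [SModEq.sub_mem, memA] at h1
      obtain ⟨c, hc⟩ := h1
      have h2 : b - u L = (b - u (ss n)) + u (ss n - L) := by
        rw [map_sub]; ring
      rw [h2, hrec n, hc, map_mul, map_pow, hup]
      exact dvd_add (Dvd.intro _ rfl) (Dvd.intro _ rfl)
    exact (sub_eq_zero.mp this).symm

end Groth.Agent.S19609
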