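import Groth.Statements.S1961
-- import your own Groth.Agent.* helpers here
import Mathlib
import Groth.Agent.Lib.Helper7.Hens.Desc
import Groth.Agent.Lib.Helper7.Hens.Abstract2

set_option autoImplicit false
universe u
open EtAlg

namespace Groth.Agent.S1961

/-- A henselization S of a local ring R (characterized by its universal property) is formally étale over
R. -/
theorem result (R S : Type u) [CommRing R] [IsLocalRing R] [CommRing S] [IsLocalRing S]
    [Algebra R S] [IsLocalHom (algebraMap R S)] [Hensel.IsHenselization R S] : Algebra.FormallyEtale R S := by
  obtain ⟨e⟩ := Groth.Agent.Helper7.Hens.nonempty_algEquiv_H_of_isHenselization R S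
  have : Algebra.FormallyEtale R
      (Groth.Agent.Helper7.Hens.H R (IsLocalRing.maximalIdeal R)) :=
    Groth.Agent.Helper7.Hens.formallyEtale_H
  exact Algebra.FormallyEtale.of_equiv e.symm

end Groth.Agent.S1961
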