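import Groth.Statements.S19612
import Groth.Agent.Lib.Helper6.FlatModPow

set_option autoImplicit false
universe u
open scoped TensorProduct
open CartMod

namespace Groth.Agent.S19612

/-- Let k be a perfect field of characteristic p, W = W(k) the ring of Witt vectors of k, and A a
commutative W-algebra which is complete and separated for the p-adic topology (an adic W-algebra).
Then flatness of A over W is equivalent to flatness of A/p^nA = (W/p^nW) ⊗_W A over W/p^nW for every
n ≥ 1. -/
theorem result (p : ℕ) [Fact p.Prime] (k : Type u) [Field k]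
    [CharP k p] [PerfectRing k p] (A : Type u) [CommRing A] [Algebra (WittVector p k) A]
    [IsAdicComplete (Ideal.span {(p : WittVector p k)}) A] :
    Module.Flat (WittVector p k) A ↔
      ∀ n : ℕ, 1 ≤ n →
        Module.Flat (WittVector p k ⧸ (Ideal.span {(p : WittVector p k)} ^ n))
          ((WittVector p k ⧸ (Ideal.span {(p : WittVector p k)} ^ n)) ⊗[WittVector p k] A) := by
  constructor
  · intro hflat n _
    infer_instance
  · intro h
    rw [Module.Flat.flat_iff_torsion_eq_bot_of_isBezout, eq_bot_iff]
    rintro a ⟨⟨r, hr⟩, hra⟩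
    have hr0 : r ≠ 0 := nonZeroDivisors.ne_zero hr
    obtain ⟨m, u, hu⟩ := WittVector.exists_eq_pow_p_mul' r hr0
    have hp0 : (p : WittVector p k) ≠ 0 := WittVector.p_nonzero p k
    have h1 : (p : WittVector p k) ^ m • ((u : WittVector p k) • a) = 0 := by
      rw [smul_smul, ← hu]; exact hra
    have h2 := Groth.Agent.Lib.Helper6.FlatModPow.eq_zero_of_pow_smul_eq_zero
      (p : WittVector p k) hp0 h m _ h1
    have h3 : a = ((u⁻¹ : (WittVector p k)ˣ) : WittVector p k) • ((u : WittVector p k) • a) := by
      rw [smul_smul, Units.inv_mul, one_smul]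
    rw [Submodule.mem_bot, h3, h2, smul_zero]

end Groth.Agent.S19612
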