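import Groth.Statements.S19624
import Groth.Agent.Lib.Helper6.DetLenBasis

set_option autoImplicit false
universe u v
open IntTh

namespace Groth.Agent.S19624

/-- Let B be a discrete valuation ring with its normalised additive valuation v (so v(0) = ∞) and ω a
ring automorphism of B. For each i in a finite index set let M_i and N_i be free B-modules with
chosen bases indexed by one and the same finite type, and χ_i : M_i → N_i an additive map which is
ω-semilinear, χ_i(b·x) = ω(b)·χ_i(x); write A_i for the matrix of χ_i in the chosen bases. Then the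
length over B of the cokernel of the direct sum χ = ⊕_i χ_i : ⊕_i M_i → ⊕_i N_i (the quotient of ⊕_i
N_i by the submodule generated by the image of χ) equals v(∏_i det A_i); in particular both sides
are infinite exactly when some det A_i is zero. -/
theorem result {B : Type u} [CommRing B] [IsDomain B]
    [IsDiscreteValuationRing B] (ω : B ≃+* B) {n : ℕ} (r : Fin n → ℕ)
    (M N : Fin n → Type v) [∀ i, AddCommGroup (M i)] [∀ i, Module B (M i)]
    [∀ i, AddCommGroup (N i)] [∀ i, Module B (N i)]
    (bM : ∀ i, Module.Basis (Fin (r i)) B (M i)) (bN : ∀ i, Module.Basis (Fin (r i)) B (N i))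
    (χ : ∀ i, M i →+ N i) (hχ : ∀ i (b : B) (x : M i), χ i (b • x) = ω b • χ i x) :
    Module.length B ((∀ i, N i) ⧸ Submodule.span B (Set.range (fun (x : ∀ i, M i) (i : Fin n) => χ i (x i)))) =
      IsDiscreteValuationRing.addVal B (∏ i, Matrix.det
        (Matrix.of fun (a c : Fin (r i)) => (bN i).repr (χ i (bM i c)) a)) := by
  classical
  let Li : ∀ i, M i →ₗ[B] N i := fun i => (bM i).constr B (fun c => χ i (bM i c))
  have hχ_sum : ∀ i (x : M i), χ i x = ∑ c, ω ((bM i).repr x c) • χ i (bM i c) := by
    intro i x
    conv_lhs => rw [← (bM i).sum_repr x]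
    rw [map_sum]
    exact Finset.sum_congr rfl fun c _ => hχ i _ _
  have hLi : ∀ i (x : M i), Li i x = ∑ c, ((bM i).repr x c) • χ i (bM i c) := by
    intro i x
    simp only [Li, Module.Basis.constr_apply_fintype, Module.Basis.equivFun_apply]
  have hrepr : ∀ i (f : Fin (r i) → B) (c : Fin (r i)),
      (bM i).repr (∑ c', f c' • bM i c') c = f c := by
    intro i f c
    have := (bM i).repr_sum_self f
    exact congrFun this c
  have h1 : ∀ i (x : M i), χ i x = Li i (∑ c, ω ((bM i).repr x c) • bM i c) := by
    intro i x
    rw [hLi, hχ_sum]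
    refine Finset.sum_congr rfl fun c _ => ?_
    rw [hrepr]
  have h2 : ∀ i (x : M i), Li i x = χ i (∑ c, ω.symm ((bM i).repr x c) • bM i c) := by
    intro i x
    rw [hLi, hχ_sum]
    refine Finset.sum_congr rfl fun c _ => ?_
    rw [hrepr, RingEquiv.apply_symm_apply]
  have hspan : Submodule.span B (Set.range (fun (x : ∀ i, M i) (i : Fin n) => χ i (x i))) =
      Submodule.pi Set.univ (fun i => LinearMap.range (Li i)) := by
    have : Set.range (fun (x : ∀ i, M i) (i : Fin n) => χ i (x i)) =
        (Submodule.pi Set.univ (fun i => LinearMap.range (Li i)) : Set (∀ i, N i)) := by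
      ext y
      constructor
      · rintro ⟨x, rfl⟩
        intro i _
        exact ⟨∑ c, ω ((bM i).repr (x i) c) • bM i c, (h1 i (x i)).symm⟩
      · intro hy
        have hy' : ∀ i, ∃ xi : M i, Li i xi = y i := fun i => hy i (Set.mem_univ i)
        choose x hx using hy'
        refine ⟨fun i => ∑ c, ω.symm ((bM i).repr (x i) c) • bM i c, ?_⟩
        funext i
        rw [← hx i]
        exact (h2 i (x i)).symm
    rw [this, Submodule.span_eq]
  have hprod : ∀ (s : Finset (Fin n)) (f : Fin n → B),
      IsDiscreteValuationRing.addVal B (∏ i ∈ s, f i) =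
        ∑ i ∈ s, IsDiscreteValuationRing.addVal B (f i) := by
    intro s f
    induction s using Finset.induction_on with
    | empty => simp
    | insert a s ha ih =>
      rw [Finset.prod_insert ha, Finset.sum_insert ha, AddValuation.map_mul, ih]
  rw [hspan, (Submodule.quotientPi (fun i => LinearMap.range (Li i))).length_eq,
    Module.length_pi_of_fintype, hprod]
  refine Finset.sum_congr rfl fun i _ => ?_
  rw [Groth.Agent.Lib.Helper6.DetLen.length_coker_basis (bM i) (bN i) (Li i),
    Groth.Agent.Lib.Helper6.DetLen.cl_eq_addVal]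
  congr 2
  ext a c
  rw [LinearMap.toMatrix_apply, Matrix.of_apply]
  congr 2
  rw [hLi, Finset.sum_eq_single c]
  · simp
  · intro c' _ hc'
    simp [Finsupp.single_eq_of_ne hc']
  · intro h; exact absurd (Finset.mem_univ c) h

end Groth.Agent.S19624
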