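import Groth.Statements.S19626
import Mathlib
import Groth.Prelude.Def_EtBase
import Groth.Prelude.Def_EtCore
import Groth.Agent.S14452
-- import your own Groth.Agent.* helpers here

set_option autoImplicit false
universe u
open CategoryTheory CategoryTheory.Limits AlgebraicGeometry Opposite
open EtCore

namespace Groth.Agent.S19626

open CategoryTheory CategoryTheory.Limits AlgebraicGeometry Opposite Abelian
open EtCore
namespace Aux
set_option backward.isDefEq.respectTransparency false
set_option linter.style.haveILetI false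
set_option linter.unusedSectionVars false

open Groth.Agent.Helper3.EtMV1 Groth.Agent.Helper3.EtMV2 Groth.Agent.Helper3.EtMV3
open Groth.Agent.S14452.Aux

variable {X Y : Scheme.{u}}

/-- acyclic on every étale scheme -/
def Flq (F : EtCoh.Ab X) : Prop :=
  ∀ (W : X.Etale) (q : ℕ), 0 < q →
    Subsingleton (EtCoh.H W.left ((EtCoh.pull W.hom).obj F) q)

/-- the embedding into an injective sheaf, as a short complex -/
noncomputable def SES (F : EtCoh.Ab X) : ShortComplex (EtCoh.Ab X) :=
  ShortComplex.mk (Injective.ι F) (cokernel.π (Injective.ι F)) (cokernel.condition _)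

lemma SES_shortExact (F : EtCoh.Ab X) : (SES F).ShortExact :=
  { exact := ShortComplex.exact_cokernel _
    mono_f := inferInstanceAs (Mono (Injective.ι F))
    epi_g := inferInstanceAs (Epi (cokernel.π (Injective.ι F))) }

instance injective_SES (F : EtCoh.Ab X) : Injective (SES F).X₂ :=
  inferInstanceAs (Injective (Injective.under F))

lemma θ_injective (W : X.Etale) (G : EtCoh.Ab X) : Function.Injective (θ W G) :=
  (θhom_bijective W G).1.comp (ev W.left _).injective

/-- the quotient of an acyclic sheaf by ... is acyclic -/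
lemma flq_quot (F : EtCoh.Ab X) (hF : Flq F) : Flq (SES F).X₃ := by
  intro W q hq
  obtain ⟨n, rfl⟩ : ∃ n, q = n + 1 := ⟨q - 1, by omega⟩
  haveI : Etale W.hom := W.prop
  have hS' : ((SES F).map (EtCoh.pull W.hom)).ShortExact :=
    (SES_shortExact F).map_of_exact _
  haveI : Injective ((SES F).map (EtCoh.pull W.hom)).X₂ :=
    Groth.Agent.S0623.injective_pull W.hom (SES F).X₂
  have key : ∀ x : Ext (EtCoh.const W.left ℤ) ((SES F).map (EtCoh.pull W.hom)).X₃ (n + 1),
      x = 0 := by
    intro x
    obtain ⟨x₂, hx₂⟩ := Ext.covariant_sequence_exact₃ (EtCoh.const W.left ℤ) hS' x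
      (rfl : n + 1 + 1 = n + 1 + 1) ((hF W (n + 1 + 1) (Nat.succ_pos _)).elim _ _)
    rw [← hx₂, Ext.eq_zero_of_injective x₂, Ext.zero_comp]
  exact ⟨fun a b => (key a).trans (key b).symm⟩

instance pfl_push (f : X ⟶ Y) : PreservesFiniteLimits (EtCoh.push f) := by
  haveI : PreservesLimitsOfSize.{0, 0} (EtCoh.push f) :=
    (EtCoh.pullPushAdj f).rightAdjoint_preservesLimits
  exact PreservesLimitsOfSize.preservesFiniteLimits _

lemma push_shortExact (f : X ⟶ Y) (F : EtCoh.Ab X) (hF : Flq F) :
    ((SES F).map (EtCoh.push f)).ShortExact := by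
  have hS := SES_shortExact F
  haveI := hS.mono_f
  haveI : Mono ((SES F).map (EtCoh.push f)).f := by
    change Mono ((EtCoh.push f).map (SES F).f)
    infer_instance
  have hex : ((SES F).map (EtCoh.push f)).Exact :=
    hS.exact.map_of_mono_of_preservesKernel (EtCoh.push f) inferInstance inferInstance
  haveI : Epi ((SES F).map (EtCoh.push f)).g := by
    change Epi ((EtCoh.push f).map (SES F).g)
    rw [← Sheaf.isLocallySurjective_iff_epi']
    apply Presheaf.isLocallySurjective_of_surjective
    intro W'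
    exact surj_sections ((EtCoh.bc f).obj W'.unop) hS (hF _ 1 Nat.one_pos)
  exact { exact := hex }

theorem main_aux (f : X ⟶ Y) (W' : Y.Etale) : ∀ (n : ℕ) (F : EtCoh.Ab X), Flq F →
    Subsingleton (EtCoh.H W'.left ((EtCoh.pull W'.hom).obj ((EtCoh.push f).obj F)) (n + 1)) := by
  haveI : Etale W'.hom := W'.prop
  intro n
  induction n with
  | zero =>
    intro F hF
    have hS := SES_shortExact F
    have hT := push_shortExact f F hF
    have hT' : (((SES F).map (EtCoh.push f)).map (EtCoh.pull W'.hom)).ShortExact :=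
      hT.map_of_exact _
    haveI : Injective ((EtCoh.push f).obj (SES F).X₂) := inferInstance
    haveI : Injective (((SES F).map (EtCoh.push f)).map (EtCoh.pull W'.hom)).X₂ :=
      Groth.Agent.S0623.injective_pull W'.hom ((EtCoh.push f).obj (SES F).X₂)
    have key : ∀ x : Ext (EtCoh.const W'.left ℤ)
        (((SES F).map (EtCoh.push f)).map (EtCoh.pull W'.hom)).X₁ (0 + 1), x = 0 := by
      intro x
      obtain ⟨x₃, hx₃⟩ := Ext.covariant_sequence_exact₁ (EtCoh.const W'.left ℤ) hT' x
        (by rw [Ext.eq_zero_of_injective (x.comp _ _)]) (rfl : 0 + 1 = 0 + 1)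
      -- lift `x₃`
      obtain ⟨t, ht⟩ := surj_sections ((EtCoh.bc f).obj W') hS (hF _ 1 Nat.one_pos)
        (θ W' ((EtCoh.push f).obj (SES F).X₃) x₃)
      obtain ⟨x₂, hx₂⟩ := θ_surjective W' ((EtCoh.push f).obj (SES F).X₂) t
      have e : x₂.comp (Ext.mk₀ ((EtCoh.pull W'.hom).map ((EtCoh.push f).map (SES F).g)))
          (add_zero 0) = x₃ := by
        apply θ_injective W'
        rw [θ_naturality, hx₂]
        exact ht
      rw [← hx₃, ← e]
      have hz : (Ext.mk₀ ((EtCoh.pull W'.hom).map ((EtCoh.push f).map (SES F).g))).comp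
          hT'.extClass (zero_add 1) = 0 := hT'.comp_extClass
      exact (Ext.comp_assoc_of_second_deg_zero _ _ _ _).trans (by rw [hz, Ext.comp_zero])
    exact ⟨fun a b => (key a).trans (key b).symm⟩
  | succ n ih =>
    intro F hF
    have hT := push_shortExact f F hF
    have hT' : (((SES F).map (EtCoh.push f)).map (EtCoh.pull W'.hom)).ShortExact :=
      hT.map_of_exact _
    haveI : Injective ((EtCoh.push f).obj (SES F).X₂) := inferInstance
    haveI : Injective (((SES F).map (EtCoh.push f)).map (EtCoh.pull W'.hom)).X₂ :=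
      Groth.Agent.S0623.injective_pull W'.hom ((EtCoh.push f).obj (SES F).X₂)
    have hQ := ih (SES F).X₃ (flq_quot F hF)
    have key : ∀ x : Ext (EtCoh.const W'.left ℤ)
        (((SES F).map (EtCoh.push f)).map (EtCoh.pull W'.hom)).X₁ (n + 1 + 1), x = 0 := by
      intro x
      obtain ⟨x₃, hx₃⟩ := Ext.covariant_sequence_exact₁ (EtCoh.const W'.left ℤ) hT' x
        (by rw [Ext.eq_zero_of_injective (x.comp _ _)]) (rfl : n + 1 + 1 = n + 1 + 1)
      have h0 : x₃ = 0 := hQ.elim _ _
      rw [← hx₃, h0, Ext.zero_comp]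
    exact ⟨fun a b => (key a).trans (key b).symm⟩

theorem main (f : X ⟶ Y) (F : EtCoh.Ab X)
    (hF : ∀ (W : X.Etale) (q : ℕ), 0 < q →
      Subsingleton (EtCoh.H W.left ((EtCoh.pull W.hom).obj F) q))
    (W' : Y.Etale) (q : ℕ) (hq : 0 < q) :
    Subsingleton (EtCoh.H W'.left ((EtCoh.pull W'.hom).obj ((EtCoh.push f).obj F)) q) := by
  obtain ⟨n, rfl⟩ : ∃ n, q = n + 1 := ⟨q - 1, by omega⟩
  exact main_aux f W' n F hF

end Aux

/-- Let f : X → Y be a morphism of schemes and F an abelian sheaf on the small étale site of X which is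
flasque in the sense of étale cohomology: H^q(W, F|_W) = 0 for every étale X-scheme W and every q >
0, where F|_W is the pullback of F along the structure morphism of W. Then the direct image f_*F is
flasque on Y in the same sense: H^q(W', (f_*F)|_{W'}) = 0 for every étale Y-scheme W' and every q >
0. -/
theorem result {X Y : Scheme.{u}} (f : X ⟶ Y)
    (F : EtCoh.Ab X)
    (hF : ∀ (W : X.Etale) (q : ℕ), 0 < q → Subsingleton (EtCoh.H W.left ((EtCoh.pull W.hom).obj F) q))
    (W' : Y.Etale) (q : ℕ) (hq : 0 < q) :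
    Subsingleton (EtCoh.H W'.left ((EtCoh.pull W'.hom).obj ((EtCoh.push f).obj F)) q) := by
  exact Aux.main f F hF W' q hq

end Groth.Agent.S19626
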