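import Groth.Statements.S19630
import Mathlib
import Groth.Prelude.Def_DeRham
-- import your own Groth.Agent.* helpers here

set_option autoImplicit false
universe u
open DeRham

namespace Groth.Agent.S19630

open exteriorPower
namespace Aux

section

variable {R : Type u} {A : Type u} [CommRing R] [CommRing A] [Algebra R A]

/-- two additive maps agreeing on the generators `b₀ · db₁ ∧ … ∧ db_p` agree. -/
theorem addHom_ext_gen {N : Type*} [AddCommGroup N] (p : ℕ)
    (f g : ↥(⋀[A]^p (Ω[A⁄R])) →+ N)
    (h : ∀ (b₀ : A) (b : Fin p → A),
      f (DeRham.gen (KaehlerDifferential.D R A) p b₀ b) = g (DeRham.gen (KaehlerDifferential.D R A) p b₀ b)) :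
    f = g := by
  have hspan := exteriorPower.ιMulti_span_of_span A p (Ω[A⁄R])
    (KaehlerDifferential.span_range_derivation R A)
  ext x
  have hx : x ∈ Submodule.span A (ιMulti A p '' {a : Fin p → Ω[A⁄R] |
      Set.range a ⊆ Set.range (KaehlerDifferential.D R A)}) := by
    rw [hspan]; exact Submodule.mem_top
  induction hx using Submodule.closure_induction with
  | zero => rw [map_zero, map_zero]
  | add x y _ _ hx hy => rw [map_add, map_add, hx, hy]
  | smul_mem c x hx =>
    obtain ⟨a, ha, rfl⟩ := hx
    have : ∀ i, ∃ b, KaehlerDifferential.D R A b = a i := fun i => ha ⟨i, rfl⟩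
    choose b hb using this
    have : c • ιMulti A p a = DeRham.gen (KaehlerDifferential.D R A) p c b := by
      unfold DeRham.gen
      congr 2
      ext i
      rw [hb]
    rw [this, h]

end

section

variable (k K : Type u) [Field k] [Field K] [CharZero k] [Algebra k K] [Module.Finite k K]
    (B : Type u) [CommRing B] [Algebra K B] [Algebra k B] [IsScalarTower k K B]

theorem map_bijective : Function.Bijective (KaehlerDifferential.map k K B B) := by
  refine ⟨?_, KaehlerDifferential.map_surjective k K B⟩
  haveI : Algebra.IsSeparable k K := Algebra.IsAlgebraic.isSeparable_of_perfectField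
  haveI : Algebra.FormallyUnramified k K := Algebra.FormallyUnramified.of_isSeparable k K
  haveI : Subsingleton (Ω[K⁄k]) := inferInstance
  have hex := KaehlerDifferential.exact_mapBaseChange_map k K B
  rw [← LinearMap.ker_eq_bot, eq_bot_iff]
  intro x hx
  obtain ⟨y, rfl⟩ := (hex x).mp hx
  rw [Subsingleton.elim y 0, map_zero]
  exact Submodule.zero_mem _

theorem main
    (ψ : ∀ p : ℕ, ↥(⋀[B]^p (Ω[B⁄k])) →+ ↥(⋀[B]^p (Ω[B⁄K])))
    (hψ : DeRham.IsCxMap (KaehlerDifferential.D k B) (KaehlerDifferential.D K B) (RingHom.id B) ψ)
    (p : ℕ) :
    Function.Bijective (ψ p) := by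
  let e : Ω[B⁄k] ≃ₗ[B] Ω[B⁄K] := LinearEquiv.ofBijective _ (map_bijective k K B)
  have heq : ψ p = (exteriorPower.map p e.toLinearMap).toAddMonoidHom := by
    apply addHom_ext_gen
    intro b₀ b
    rw [hψ p b₀ b]
    unfold DeRham.gen
    simp only [RingHom.id_apply, LinearMap.toAddMonoidHom_coe, map_smul, exteriorPower.map_apply_ιMulti]
    congr 2
    ext i
    simp [e]
  rw [heq]
  have h1 : (exteriorPower.map p e.symm.toLinearMap) ∘ₗ (exteriorPower.map p e.toLinearMap) = LinearMap.id := by
    rw [← exteriorPower.map_comp]
    simp
  have h2 : (exteriorPower.map p e.toLinearMap) ∘ₗ (exteriorPower.map p e.symm.toLinearMap) = LinearMap.id := by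
    rw [← exteriorPower.map_comp]
    simp
  constructor
  · intro x y hxy
    have := congrArg (exteriorPower.map p e.symm.toLinearMap) hxy
    simpa [← LinearMap.comp_apply, h1] using this
  · intro y
    refine ⟨exteriorPower.map p e.symm.toLinearMap y, ?_⟩
    have := congrArg (fun φ => φ y) h2
    simpa using this

end

end Aux

open exteriorPower in
/-- In the affine case, at ring level, let k ⊆ K be a finite extension of fields of characteristic zero
and B a smooth K-algebra, so that Y = Spec B is a smooth affine variety over K which may also be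
regarded over k. Let ψ be the map of de Rham complexes from Ω•_{B/k} to Ω•_{B/K} induced by the
identity of B. Then ψ is bijective in every degree: the de Rham complex of Y over k and over K
coincide, and hence the natural map H^i_dR(Y/k) → H^i_dR(Y/K) is an isomorphism. (The source states
the isomorphism on de Rham cohomology for any smooth variety Y over K, through the equality of the
two de Rham complexes; this row is that equality for affine Y.) -/
theorem result
    (k K : Type u) [Field k] [Field K] [CharZero k] [Algebra k K] [Module.Finite k K]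
    (B : Type u) [CommRing B] [Algebra K B] [Algebra k B] [IsScalarTower k K B] [Algebra.Smooth K B]
    (ψ : ∀ p : ℕ, ↥(⋀[B]^p (Ω[B⁄k])) →+ ↥(⋀[B]^p (Ω[B⁄K])))
    (hψ : DeRham.IsCxMap (KaehlerDifferential.D k B) (KaehlerDifferential.D K B) (RingHom.id B) ψ)
    (p : ℕ) :
    Function.Bijective (ψ p) := by
  exact Aux.main k K B ψ hψ p

end Groth.Agent.S19630
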