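import Groth.Statements.S19632
import Mathlib.Tactic

set_option autoImplicit false
universe u
open DeRham

namespace Groth.Agent.S19632

/-- The linear map `T ^ n ↦ n T ^ n` on Laurent polynomials. -/
noncomputable def eulerLin (k : Type u) [Field k] : LaurentPolynomial k →ₗ[k] LaurentPolynomial k :=
  (AddMonoidAlgebra.coeffLinearEquiv k).symm.toLinearMap ∘ₗ
    (Finsupp.lsum k (fun n : ℤ => ((n : k) • (Finsupp.lsingle n : k →ₗ[k] (ℤ →₀ k))))) ∘ₗ
      (AddMonoidAlgebra.coeffLinearEquiv k).toLinearMap

theorem eulerLin_single (k : Type u) [Field k] (n : ℤ) (a : k) :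
    eulerLin k (AddMonoidAlgebra.single n a) = AddMonoidAlgebra.single n ((n : k) * a) := by
  unfold eulerLin
  apply AddMonoidAlgebra.coeff_injective
  change (Finsupp.lsum k (fun n : ℤ => ((n : k) • (Finsupp.lsingle n : k →ₗ[k] (ℤ →₀ k)))))
    (Finsupp.single n a) = Finsupp.single n ((n : k) * a)
  rw [Finsupp.lsum_single, LinearMap.smul_apply, Finsupp.lsingle_apply, Finsupp.smul_single,
    smul_eq_mul]

theorem eulerLin_apply (k : Type u) [Field k] (f : LaurentPolynomial k) (n : ℤ) :
    (eulerLin k f).coeff n = (n : k) * f.coeff n := by
  induction f using AddMonoidAlgebra.induction_linear with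
  | zero => simp
  | add f g hf hg =>
    rw [map_add, AddMonoidAlgebra.coeff_add, AddMonoidAlgebra.coeff_add, Finsupp.add_apply,
      Finsupp.add_apply, hf, hg, mul_add]
  | single m a =>
    rw [eulerLin_single, AddMonoidAlgebra.coeff_single, AddMonoidAlgebra.coeff_single]
    by_cases h : m = n
    · subst h; simp
    · simp [h]

theorem eulerLin_leibniz (k : Type u) [Field k] (f g : LaurentPolynomial k) :
    eulerLin k (f * g) = f • eulerLin k g + g • eulerLin k f := by
  induction f using AddMonoidAlgebra.induction_linear with
  | zero => simp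
  | add f₁ f₂ h₁ h₂ =>
    rw [add_mul, map_add, h₁, h₂, add_smul, map_add, smul_add]
    abel
  | single m a =>
    induction g using AddMonoidAlgebra.induction_linear with
    | zero => simp
    | add g₁ g₂ h₁ h₂ =>
      rw [mul_add, map_add, h₁, h₂, add_smul, map_add, smul_add]
      abel
    | single n b =>
      rw [eulerLin_single, eulerLin_single, smul_eq_mul, smul_eq_mul,
        AddMonoidAlgebra.single_mul_single, AddMonoidAlgebra.single_mul_single,
        AddMonoidAlgebra.single_mul_single, eulerLin_single, add_comm n m,
        ← AddMonoidAlgebra.single_add]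
      congr 1
      push_cast
      ring

/-- The Euler derivation `T d/dT` on Laurent polynomials. -/
noncomputable def eulerDer (k : Type u) [Field k] :
    Derivation k (LaurentPolynomial k) (LaurentPolynomial k) :=
  Derivation.mk' (eulerLin k) (eulerLin_leibniz k)

/-- Let k be a field of characteristic zero and G_m = Spec k[t, t⁻¹] the multiplicative group. The
kernel of the differential d : k[t, t⁻¹] → Ω¹ of the de Rham complex of G_m consists of the
constants: for a Laurent polynomial f, df = 0 if and only if f lies in the image of k. Equivalently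
H^0_dR(G_m/k) = k. (Characteristic zero is used: in characteristic p the element t^p is closed.) -/
theorem result (k : Type u) [Field k] [CharZero k]
    (f : LaurentPolynomial k) :
    KaehlerDifferential.D k (LaurentPolynomial k) f = 0 ↔ f ∈ Set.range (algebraMap k (LaurentPolynomial k)) := by
  constructor
  · intro h
    have h1 : eulerDer k f = 0 := by
      rw [← Derivation.liftKaehlerDifferential_comp_D (eulerDer k) f, h, map_zero]
    have h2 : ∀ n : ℤ, n ≠ 0 → f.coeff n = 0 := by
      intro n hn
      have e : (eulerDer k f).coeff n = (n : k) * f.coeff n := eulerLin_apply k f n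
      rw [h1] at e
      have hn' : (n : k) ≠ 0 := Int.cast_ne_zero.mpr hn
      have e' : (n : k) * f.coeff n = 0 := by rw [← e]; rfl
      exact (mul_eq_zero.mp e').resolve_left hn'
    refine ⟨f.coeff 0, ?_⟩
    apply LaurentPolynomial.ext
    intro n
    rw [← LaurentPolynomial.C_eq_algebraMap, LaurentPolynomial.C_apply]
    by_cases hn : n = 0
    · subst hn
      simp
    · rw [h2 n hn, if_neg hn]
  · rintro ⟨a, rfl⟩
    exact (KaehlerDifferential.D k (LaurentPolynomial k)).map_algebraMap a

end Groth.Agent.S19632
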