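import Groth.Statements.S19633
import Mathlib
import Groth.Prelude.Def_DeRham
-- import your own Groth.Agent.* helpers here

set_option autoImplicit false
universe u
open DeRham

namespace Groth.Agent.S19633

open exteriorPower
namespace Aux

open LaurentPolynomial

variable (k : Type u) [Field k]

/-- d/dT as a linear map -/
noncomputable def Lt : k[T;T⁻¹] →ₗ[k] k[T;T⁻¹] :=
  (Finsupp.lsum k fun n : ℤ => (n : k) • (AddMonoidAlgebra.lsingle (R := k) (S := k) (n - 1))) ∘ₗ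
    (AddMonoidAlgebra.coeffLinearEquiv k).toLinearMap

lemma Lt_single (n : ℤ) (a : k) :
    Lt k (AddMonoidAlgebra.single n a) = AddMonoidAlgebra.single (n - 1) ((n : k) * a) := by
  unfold Lt
  rw [LinearMap.comp_apply]
  change (Finsupp.lsum k _) (AddMonoidAlgebra.coeff (AddMonoidAlgebra.single n a)) = _
  rw [AddMonoidAlgebra.coeff_single, Finsupp.lsum_single, LinearMap.smul_apply,
    AddMonoidAlgebra.lsingle_apply, AddMonoidAlgebra.smul_single, smul_eq_mul]

lemma Lt_leibniz (a b : k[T;T⁻¹]) : Lt k (a * b) = a • Lt k b + b • Lt k a := by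
  induction a using AddMonoidAlgebra.induction_linear with
  | zero => simp
  | add x y hx hy => rw [add_mul, map_add, hx, hy, add_smul, map_add, smul_add]; abel
  | single m r =>
    induction b using AddMonoidAlgebra.induction_linear with
    | zero => simp
    | add x y hx hy => rw [mul_add, map_add, hx, hy, add_smul, map_add, smul_add]; abel
    | single n s =>
      rw [AddMonoidAlgebra.single_mul_single, Lt_single, Lt_single, Lt_single, smul_eq_mul,
        smul_eq_mul, AddMonoidAlgebra.single_mul_single, AddMonoidAlgebra.single_mul_single]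
      have e1 : m + (n - 1) = m + n - 1 := by ring
      have e2 : n + (m - 1) = m + n - 1 := by ring
      rw [e1, e2, ← AddMonoidAlgebra.single_add]
      congr 1
      push_cast
      ring

noncomputable def Dt : Derivation k k[T;T⁻¹] k[T;T⁻¹] :=
  Derivation.mk' (Lt k) (Lt_leibniz k)

lemma Dt_single (n : ℤ) (a : k) :
    Dt k (AddMonoidAlgebra.single n a) = AddMonoidAlgebra.single (n - 1) ((n : k) * a) :=
  Lt_single k n a

lemma Dt_T (n : ℤ) : Dt k (T n) = (n : k) • T (n - 1) := by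
  rw [T, Dt_single, mul_one, T, AddMonoidAlgebra.smul_single, smul_eq_mul, mul_one]

/-- antiderivative -/
noncomputable def Gt : k[T;T⁻¹] →ₗ[k] k[T;T⁻¹] :=
  (Finsupp.lsum k fun n : ℤ => ((n : k) + 1)⁻¹ • (AddMonoidAlgebra.lsingle (R := k) (S := k) (n + 1))) ∘ₗ
    (AddMonoidAlgebra.coeffLinearEquiv k).toLinearMap

lemma Gt_single (n : ℤ) (a : k) :
    Gt k (AddMonoidAlgebra.single n a) = AddMonoidAlgebra.single (n + 1) (((n : k) + 1)⁻¹ * a) := by
  unfold Gt
  rw [LinearMap.comp_apply]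
  change (Finsupp.lsum k _) (AddMonoidAlgebra.coeff (AddMonoidAlgebra.single n a)) = _
  rw [AddMonoidAlgebra.coeff_single, Finsupp.lsum_single, LinearMap.smul_apply,
    AddMonoidAlgebra.lsingle_apply, AddMonoidAlgebra.smul_single, smul_eq_mul]

/-- coefficient of T⁻¹ -/
noncomputable def resA : k[T;T⁻¹] →ₗ[k] k :=
  (Finsupp.lapply (-1 : ℤ)) ∘ₗ (AddMonoidAlgebra.coeffLinearEquiv k).toLinearMap

lemma resA_single (n : ℤ) (a : k) :
    resA k (AddMonoidAlgebra.single n a) = if n = -1 then a else 0 := by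
  unfold resA
  rw [LinearMap.comp_apply]
  change (Finsupp.lapply (-1 : ℤ)) (AddMonoidAlgebra.coeff (AddMonoidAlgebra.single n a)) = _
  rw [AddMonoidAlgebra.coeff_single, Finsupp.lapply_apply, Finsupp.single_apply]

lemma resA_Dt (b : k[T;T⁻¹]) : resA k (Dt k b) = 0 := by
  induction b using AddMonoidAlgebra.induction_linear with
  | zero => simp
  | add x y hx hy => rw [map_add, map_add, hx, hy, add_zero]
  | single n a =>
    rw [Dt_single, resA_single]
    split_ifs with h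
    · have : n = 0 := by omega
      rw [this]; simp
    · rfl

lemma Dt_Gt [CharZero k] (f : k[T;T⁻¹]) : Dt k (Gt k f) = f - resA k f • T (-1) := by
  induction f using AddMonoidAlgebra.induction_linear with
  | zero => simp
  | add x y hx hy => rw [map_add, map_add, hx, hy, map_add, add_smul]; abel
  | single n a =>
    rw [Gt_single, Dt_single, resA_single]
    have e : n + 1 - 1 = n := by ring
    rw [e]
    split_ifs with h
    · subst h
      rw [T, AddMonoidAlgebra.smul_single, smul_eq_mul, mul_one, sub_self]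
      simp
    · rw [zero_smul, sub_zero]
      congr 1
      have : ((n : k) + 1) ≠ 0 := by
        have : ((n + 1 : ℤ) : k) ≠ 0 := Int.cast_ne_zero.mpr (by omega)
        simpa using this
      push_cast
      field_simp


section Kaehler

local notation "δ" => KaehlerDifferential.D k k[T;T⁻¹]

lemma K_T_nat (m : ℕ) : δ (T (m : ℤ)) = Dt k (T (m : ℤ)) • δ (T 1) := by
  have hT : (T (m : ℤ) : k[T;T⁻¹]) = (T 1) ^ m := by rw [T_pow, mul_one]
  rw [Dt_T]
  cases m with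
  | zero =>
    rw [Nat.cast_zero, T_zero, Derivation.map_one_eq_zero]
    simp
  | succ m =>
    have e : ((m + 1 : ℕ) : ℤ) - 1 = (m : ℤ) := by push_cast; ring
    rw [hT, Derivation.leibniz_pow, ← Nat.cast_smul_eq_nsmul k, Nat.add_sub_cancel, T_pow, mul_one,
      smul_assoc, e, Int.cast_natCast]

lemma K_T_neg (m : ℕ) : δ (T (-(m : ℤ))) = Dt k (T (-(m : ℤ))) • δ (T 1) := by
  have h1 : (T (-(m : ℤ)) : k[T;T⁻¹]) * T (m : ℤ) = 1 := by
    rw [← T_add, neg_add_cancel, T_zero]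
  rw [Derivation.leibniz_of_mul_eq_one _ h1, K_T_nat, Dt_T, Dt_T, smul_smul]
  congr 1
  have e : ((2 : ℕ) : ℤ) * (-(m : ℤ)) + ((m : ℤ) - 1) = -(m : ℤ) - 1 := by push_cast; ring
  rw [T_pow, mul_smul_comm, neg_mul, ← T_add, e, Int.cast_neg, neg_smul, smul_neg]

lemma K_T (n : ℤ) : δ (T n) = Dt k (T n) • δ (T 1) := by
  obtain ⟨m, rfl | rfl⟩ := Int.eq_nat_or_neg n
  · exact K_T_nat k m
  · exact K_T_neg k m

lemma K_all (b : k[T;T⁻¹]) : δ b = Dt k b • δ (T 1) := by
  induction b using AddMonoidAlgebra.induction_linear with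
  | zero => simp
  | add x y hx hy => rw [map_add, map_add, hx, hy, add_smul]
  | single n a =>
    have : (AddMonoidAlgebra.single n a : k[T;T⁻¹]) = a • T n := by
      rw [T, AddMonoidAlgebra.smul_single, smul_eq_mul, mul_one]
    rw [this, Derivation.map_smul, Derivation.map_smul, K_T, smul_assoc]

/-- the A-linear map Ω → A with dT ↦ 1 -/
noncomputable def ell : Ω[k[T;T⁻¹]⁄k] →ₗ[k[T;T⁻¹]] k[T;T⁻¹] := (Dt k).liftKaehlerDifferential

lemma ell_D (b : k[T;T⁻¹]) : ell k (δ b) = Dt k b :=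
  Derivation.liftKaehlerDifferential_comp_D _ _

lemma omega_eq (ω : Ω[k[T;T⁻¹]⁄k]) : ω = ell k ω • δ (T 1) := by
  have hω : ω ∈ Submodule.span k[T;T⁻¹] (Set.range δ) := by
    rw [KaehlerDifferential.span_range_derivation]; exact Submodule.mem_top
  induction hω using Submodule.span_induction with
  | mem x hx =>
    obtain ⟨b, rfl⟩ := hx
    rw [ell_D, ← K_all]
  | zero => simp
  | add x y _ _ hx hy => rw [map_add, add_smul, ← hx, ← hy]
  | smul a x _ hx => rw [map_smul, smul_assoc, ← hx]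

lemma extPow_eq_zero (p : ℕ) (x : ⋀[k[T;T⁻¹]]^(p + 2) (Ω[k[T;T⁻¹]⁄k])) : x = 0 := by
  have hx : x ∈ Submodule.span k[T;T⁻¹] (Set.range (ιMulti k[T;T⁻¹] (p + 2) (M := Ω[k[T;T⁻¹]⁄k]))) := by
    rw [ιMulti_span]; exact Submodule.mem_top
  induction hx using Submodule.span_induction with
  | mem x hx =>
    obtain ⟨a, rfl⟩ := hx
    have : a = fun i => ell k (a i) • δ (T 1) := funext fun i => omega_eq k (a i)
    rw [this, AlternatingMap.map_smul_univ]
    have : ιMulti k[T;T⁻¹] (p + 2) (fun _ : Fin (p + 2) => δ (T 1 : k[T;T⁻¹])) = 0 :=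
      AlternatingMap.map_eq_zero_of_eq _ _ (i := 0) (j := 1) rfl (by simp)
    rw [this, smul_zero]
  | zero => rfl
  | add x y _ _ hx hy => rw [hx, hy, add_zero]
  | smul a x _ hx => rw [hx, smul_zero]


/-- the residue functional on 1-forms -/
noncomputable def res : ↥(⋀[k[T;T⁻¹]]^1 (Ω[k[T;T⁻¹]⁄k])) →ₗ[k] k :=
  resA k ∘ₗ (ell k).restrictScalars k ∘ₗ
    ((oneEquiv k[T;T⁻¹] (Ω[k[T;T⁻¹]⁄k])).restrictScalars k).toLinearMap

lemma res_apply (z : ↥(⋀[k[T;T⁻¹]]^1 (Ω[k[T;T⁻¹]⁄k]))) :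
    res k z = resA k (ell k (oneEquiv k[T;T⁻¹] (Ω[k[T;T⁻¹]⁄k]) z)) := rfl

variable {k}

lemma d0_formula
    (d : ∀ p : ℕ, ↥(⋀[k[T;T⁻¹]]^p (Ω[k[T;T⁻¹]⁄k])) →ₗ[k] ↥(⋀[k[T;T⁻¹]]^(p + 1) (Ω[k[T;T⁻¹]⁄k])))
    (hd : DeRham.IsDiff δ d) (x : ↥(⋀[k[T;T⁻¹]]^0 (Ω[k[T;T⁻¹]⁄k]))) :
    oneEquiv k[T;T⁻¹] (Ω[k[T;T⁻¹]⁄k]) (d 0 x) = δ (zeroEquiv k[T;T⁻¹] (Ω[k[T;T⁻¹]⁄k]) x) := by
  set b := zeroEquiv k[T;T⁻¹] (Ω[k[T;T⁻¹]⁄k]) x with hb
  have hx : x = DeRham.gen δ 0 b Fin.elim0 := by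
    apply (zeroEquiv k[T;T⁻¹] (Ω[k[T;T⁻¹]⁄k])).injective
    unfold DeRham.gen
    rw [map_smul, zeroEquiv_ιMulti, smul_eq_mul, mul_one]
  rw [hx, hd.1 0 b Fin.elim0, oneEquiv_ιMulti]
  rfl

lemma d0_gen
    (d : ∀ p : ℕ, ↥(⋀[k[T;T⁻¹]]^p (Ω[k[T;T⁻¹]⁄k])) →ₗ[k] ↥(⋀[k[T;T⁻¹]]^(p + 1) (Ω[k[T;T⁻¹]⁄k])))
    (hd : DeRham.IsDiff δ d) (g : k[T;T⁻¹]) :
    oneEquiv k[T;T⁻¹] (Ω[k[T;T⁻¹]⁄k])
      (d 0 ((zeroEquiv k[T;T⁻¹] (Ω[k[T;T⁻¹]⁄k])).symm g)) = δ g := by
  rw [d0_formula d hd, LinearEquiv.apply_symm_apply]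

variable (k)

/-- the form T⁻¹ dT -/
noncomputable def om0 : ↥(⋀[k[T;T⁻¹]]^1 (Ω[k[T;T⁻¹]⁄k])) :=
  DeRham.gen δ 1 (T (-1)) (fun _ => T 1)

lemma oneEquiv_om0 :
    oneEquiv k[T;T⁻¹] (Ω[k[T;T⁻¹]⁄k]) (om0 k) = (T (-1) : k[T;T⁻¹]) • δ (T 1) := by
  unfold om0 DeRham.gen
  rw [map_smul, oneEquiv_ιMulti]

lemma resA_T_neg_one : resA k (T (-1)) = 1 := by
  rw [T, resA_single, if_pos rfl]

lemma res_om0 : res k (om0 k) = 1 := by
  rw [res_apply, oneEquiv_om0, map_smul, ell_D, Dt_T, smul_eq_mul, mul_smul_comm, ← T_add]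
  norm_num
  exact resA_T_neg_one k


theorem main [CharZero k]
    (d : ∀ p : ℕ, ↥(⋀[k[T;T⁻¹]]^p (Ω[k[T;T⁻¹]⁄k])) →ₗ[k] ↥(⋀[k[T;T⁻¹]]^(p + 1) (Ω[k[T;T⁻¹]⁄k])))
    (hd : DeRham.IsDiff δ d) :
    DeRham.cocycles d 1 = ⊤ ∧
    IsCompl (DeRham.coboundaries d 1)
      (Submodule.span k {DeRham.gen δ 1 (T (-1)) (fun _ => T 1)}) ∧
    DeRham.gen δ 1 (T (-1)) (fun _ => T 1) ∉ DeRham.coboundaries d 1 ∧
    ∀ i : ℕ, DeRham.cocycles d (i + 2) ≤ DeRham.coboundaries d (i + 2) := by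
  have hres_range : ∀ x ∈ DeRham.coboundaries d 1, res k x = 0 := by
    intro x hx
    obtain ⟨y, rfl⟩ := hx
    rw [res_apply, d0_formula d hd, ell_D, resA_Dt]
  refine ⟨?_, ?_, ?_, ?_⟩
  · rw [eq_top_iff]
    intro x _
    exact extPow_eq_zero k 0 _
  · constructor
    · rw [Submodule.disjoint_def]
      intro x hx1 hx2
      rw [Submodule.mem_span_singleton] at hx2
      obtain ⟨c, rfl⟩ := hx2
      have h0 := hres_range _ hx1
      change res k (c • om0 k) = 0 at h0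
      rw [map_smul, res_om0, smul_eq_mul, mul_one] at h0
      rw [h0, zero_smul]
    · rw [Submodule.codisjoint_iff_exists_add_eq]
      intro z
      set ω := oneEquiv k[T;T⁻¹] (Ω[k[T;T⁻¹]⁄k]) z with hω
      set f := ell k ω with hf
      refine ⟨d 0 ((zeroEquiv k[T;T⁻¹] (Ω[k[T;T⁻¹]⁄k])).symm (Gt k f)), resA k f • om0 k,
        ⟨_, rfl⟩, Submodule.smul_mem _ _ (Submodule.mem_span_singleton_self _), ?_⟩
      apply (oneEquiv k[T;T⁻¹] (Ω[k[T;T⁻¹]⁄k])).injective
      rw [map_add, d0_gen d hd, K_all, Dt_Gt]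
      have : (oneEquiv k[T;T⁻¹] (Ω[k[T;T⁻¹]⁄k])) (resA k f • om0 k) =
          (resA k f • (T (-1) : k[T;T⁻¹])) • δ (T 1) := by
        rw [← algebraMap_smul k[T;T⁻¹] (resA k f) (om0 k), map_smul, oneEquiv_om0,
          algebraMap_smul, smul_assoc]
      rw [this, ← add_smul, sub_add_cancel, ← omega_eq]
  · intro h
    have := hres_range _ h
    change res k (om0 k) = 0 at this
    rw [res_om0] at this
    exact one_ne_zero this
  · intro i x _
    rw [extPow_eq_zero k i x]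
    exact Submodule.zero_mem _

end Kaehler

end Aux

open exteriorPower in
/-- Let k be a field of characteristic zero, G_m = Spec k[t, t⁻¹], and d the de Rham differential of
k[t, t⁻¹] over k. Then: every 1-form is closed; the exact 1-forms and the k-line spanned by t⁻¹ dt
are complementary subspaces of the 1-forms, and t⁻¹ dt is not exact — so H^1_dR(G_m/k) is
one-dimensional, generated by the class of dt/t (the isomorphism with k being the residue); and for
every i ≥ 2 the closed i-forms are exact, so H^i_dR(G_m/k) = 0 for i > 1. (Characteristic zero is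
used in the computation of the exact forms.) -/
theorem result (k : Type u) [Field k] [CharZero k]
    (d : ∀ p : ℕ, ↥(⋀[LaurentPolynomial k]^p (Ω[LaurentPolynomial k⁄k])) →ₗ[k] ↥(⋀[LaurentPolynomial k]^(p + 1) (Ω[LaurentPolynomial k⁄k])))
    (hd : DeRham.IsDiff (KaehlerDifferential.D k (LaurentPolynomial k)) d) :
    DeRham.cocycles d 1 = ⊤ ∧
    IsCompl (DeRham.coboundaries d 1)
      (Submodule.span k {DeRham.gen (KaehlerDifferential.D k (LaurentPolynomial k)) 1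
        (LaurentPolynomial.T (-1)) (fun _ => LaurentPolynomial.T 1)}) ∧
    DeRham.gen (KaehlerDifferential.D k (LaurentPolynomial k)) 1
        (LaurentPolynomial.T (-1)) (fun _ => LaurentPolynomial.T 1) ∉ DeRham.coboundaries d 1 ∧
    ∀ i : ℕ, DeRham.cocycles d (i + 2) ≤ DeRham.coboundaries d (i + 2) := by
  exact Aux.main k d hd

end Groth.Agent.S19633
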