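import Groth.Statements.S19634
import Mathlib
-- import your own Groth.Agent.* helpers here

set_option autoImplicit false
universe u
open DeRham

namespace Groth.Agent.S19634

open MvPolynomial
namespace Aux

variable (k : Type u) [Field k]

/-- restriction to the `i`-th axis -/
noncomputable def e (i : Fin 2) : MvPolynomial (Fin 2) k →ₐ[k] Polynomial k :=
  aeval (fun j => if j = i then Polynomial.X else 0)

/-- inclusion of the `i`-th axis -/
noncomputable def s (i : Fin 2) : Polynomial k →ₐ[k] MvPolynomial (Fin 2) k :=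
  Polynomial.aeval (X i)

@[simp] theorem e_zero_X_zero : e k 0 (X 0) = Polynomial.X := by simp [e]
@[simp] theorem e_zero_X_one : e k 0 (X 1) = 0 := by simp [e]
@[simp] theorem e_one_X_zero : e k 1 (X 0) = 0 := by simp [e]
@[simp] theorem e_one_X_one : e k 1 (X 1) = Polynomial.X := by simp [e]
@[simp] theorem e_C (i : Fin 2) (c : k) : e k i (C c) = Polynomial.C c := by simp [e]
@[simp] theorem s_X (i : Fin 2) : s k i Polynomial.X = X i := by simp [s]
@[simp] theorem s_C (i : Fin 2) (c : k) : s k i (Polynomial.C c) = C c := by simp [s]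

/-- the node ideal -/
noncomputable def I : Ideal (MvPolynomial (Fin 2) k) := Ideal.span {(X 0 * X 1 : MvPolynomial (Fin 2) k)}

/-- reconstruction from the restrictions to the two axes -/
noncomputable def Φ (p : MvPolynomial (Fin 2) k) : MvPolynomial (Fin 2) k :=
  s k 0 (e k 0 p) + s k 1 (e k 1 p) - C (constantCoeff p)

theorem Φ_add (p q : MvPolynomial (Fin 2) k) : Φ k (p + q) = Φ k p + Φ k q := by
  unfold Φ
  simp only [map_add]
  ring

theorem Φ_apply (p : MvPolynomial (Fin 2) k) :
    Φ k p = s k 0 (e k 0 p) + s k 1 (e k 1 p) - C (constantCoeff p) := rfl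

theorem key_mono (a b : ℕ) (c : k) :
    C c * X 0 ^ a * X 1 ^ b - Φ k (C c * X 0 ^ a * X 1 ^ b) ∈ I k := by
  rw [Φ_apply]
  simp only [map_mul, map_pow, e_C, e_zero_X_zero, e_zero_X_one, e_one_X_zero, e_one_X_one,
    s_C, s_X, constantCoeff_C, constantCoeff_X, map_zero]
  rcases Nat.eq_zero_or_pos a with rfl | ha
  · rcases Nat.eq_zero_or_pos b with rfl | hb
    · simp
    · rw [zero_pow (Nat.pos_iff_ne_zero.mp hb)]
      simp
  · rcases Nat.eq_zero_or_pos b with rfl | hb
    · rw [zero_pow (Nat.pos_iff_ne_zero.mp ha)]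
      simp
    · rw [zero_pow (Nat.pos_iff_ne_zero.mp ha), zero_pow (Nat.pos_iff_ne_zero.mp hb)]
      simp only [mul_zero, sub_zero]
      obtain ⟨a', rfl⟩ : ∃ a', a = a' + 1 := ⟨a - 1, by omega⟩
      obtain ⟨b', rfl⟩ : ∃ b', b = b' + 1 := ⟨b - 1, by omega⟩
      have : (C c * X 0 ^ (a' + 1) * X 1 ^ (b' + 1) : MvPolynomial (Fin 2) k) =
          (C c * X 0 ^ a' * X 1 ^ b') * (X 0 * X 1) := by ring
      rw [this]
      have h1 : (X 0 * X 1 : MvPolynomial (Fin 2) k) ∈ I k := by
        unfold I
        exact Ideal.subset_span (Set.mem_singleton _)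
      simp only [zero_mul, add_zero, sub_zero]
      exact (I k).mul_mem_left _ h1

theorem key (p : MvPolynomial (Fin 2) k) : p - Φ k p ∈ I k := by
  induction p using MvPolynomial.induction_on' with
  | monomial m c =>
    have : monomial m c = C c * X 0 ^ (m 0) * X 1 ^ (m 1) := by
      rw [monomial_eq, Finsupp.prod_fintype _ _ (fun _ => pow_zero _), Fin.prod_univ_two, mul_assoc]
    rw [this]
    exact key_mono k _ _ _
  | add p q hp hq =>
    rw [Φ_add]
    have : p + q - (Φ k p + Φ k q) = (p - Φ k p) + (q - Φ k q) := by ring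
    rw [this]
    exact add_mem hp hq


theorem e_I (i : Fin 2) (p : MvPolynomial (Fin 2) k) (hp : p ∈ I k) : e k i p = 0 := by
  have : I k ≤ RingHom.ker (e k i).toRingHom := by
    unfold I
    rw [Ideal.span_le, Set.singleton_subset_iff]
    show (e k i).toRingHom (X 0 * X 1) = 0
    show e k i (X 0 * X 1) = 0
    rw [map_mul]
    fin_cases i
    · show e k 0 (X 0) * e k 0 (X 1) = 0
      rw [e_zero_X_one, mul_zero]
    · show e k 1 (X 0) * e k 1 (X 1) = 0
      rw [e_one_X_zero, zero_mul]
  exact this hp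

theorem e_pderiv (i : Fin 2) (p : MvPolynomial (Fin 2) k) :
    e k i (pderiv i p) = Polynomial.derivative (e k i p) := by
  induction p using MvPolynomial.induction_on with
  | C a => simp
  | add p q hp hq => rw [map_add, map_add, map_add, map_add, hp, hq]
  | mul_X p j hp =>
    rw [Derivation.leibniz, pderiv_X, map_add, map_mul, Polynomial.derivative_mul, smul_eq_mul,
      smul_eq_mul, map_mul, map_mul, hp]
    fin_cases i <;> fin_cases j <;> simp <;> ring

/-- the Euler derivation `X_i ∂_i` -/
noncomputable def E (i : Fin 2) : Derivation k (MvPolynomial (Fin 2) k) (MvPolynomial (Fin 2) k) :=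
  (X i : MvPolynomial (Fin 2) k) • pderiv i

theorem E_apply (i : Fin 2) (p : MvPolynomial (Fin 2) k) : E k i p = X i * pderiv i p := rfl

theorem E_node (i : Fin 2) : E k i (X 0 * X 1) = X 0 * X 1 := by
  rw [E_apply, Derivation.leibniz, pderiv_X, pderiv_X]
  fin_cases i
  · simp
  · simp
    ring

theorem E_mem (i : Fin 2) (p : MvPolynomial (Fin 2) k) (hp : p ∈ I k) : E k i p ∈ I k := by
  unfold I at hp
  obtain ⟨r, rfl⟩ := Ideal.mem_span_singleton'.1 hp
  have h1 : (X 0 * X 1 : MvPolynomial (Fin 2) k) ∈ I k := by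
    unfold I
    exact Ideal.subset_span (Set.mem_singleton _)
  rw [Derivation.leibniz, E_node]
  refine add_mem ((I k).smul_mem _ h1) ?_
  rw [smul_eq_mul, mul_comm]
  exact (I k).mul_mem_left _ h1


theorem main [CharZero k]
    (P : MvPolynomial (Fin 2) k ⧸ Ideal.span {(MvPolynomial.X 0 * MvPolynomial.X 1 : MvPolynomial (Fin 2) k)}) :
    KaehlerDifferential.D k (MvPolynomial (Fin 2) k ⧸ Ideal.span {(MvPolynomial.X 0 * MvPolynomial.X 1 : MvPolynomial (Fin 2) k)}) P = 0 ↔
      P ∈ Set.range (algebraMap k (MvPolynomial (Fin 2) k ⧸ Ideal.span {(MvPolynomial.X 0 * MvPolynomial.X 1 : MvPolynomial (Fin 2) k)})) := by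
  constructor
  · intro h
    let f : MvPolynomial (Fin 2) k →ₐ[k] (MvPolynomial (Fin 2) k ⧸ I k) := Ideal.Quotient.mkₐ k (I k)
    have hf : Function.Surjective f := Ideal.Quotient.mkₐ_surjective k (I k)
    have hd : ∀ i, ∀ x, f x = 0 → f (E k i x) = 0 := by
      intro i x hx
      have hx' : Ideal.Quotient.mk (I k) x = 0 := hx
      rw [Ideal.Quotient.eq_zero_iff_mem] at hx'
      show Ideal.Quotient.mk (I k) (E k i x) = 0
      rw [Ideal.Quotient.eq_zero_iff_mem]
      exact E_mem k i x hx'
    obtain ⟨p, rfl⟩ := hf P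
    have hE : ∀ i, E k i p ∈ I k := by
      intro i
      let Ebar : Derivation k (MvPolynomial (Fin 2) k ⧸ I k) (MvPolynomial (Fin 2) k ⧸ I k) :=
        Derivation.liftOfSurjective hf (hd i)
      have h1 : Ebar (f p) = f (E k i p) := Derivation.liftOfSurjective_apply hf (hd i) p
      have h2 : Ebar.liftKaehlerDifferential (KaehlerDifferential.D k _ (f p)) = Ebar (f p) :=
        Derivation.liftKaehlerDifferential_comp_D Ebar (f p)
      have h' : KaehlerDifferential.D k (MvPolynomial (Fin 2) k ⧸ I k) (f p) = 0 := h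
      rw [h', map_zero, h1] at h2
      exact Ideal.Quotient.eq_zero_iff_mem.1 h2.symm
    have hc : ∀ i, ∃ c, e k i p = Polynomial.C c := by
      intro i
      have h1 := e_I k i _ (hE i)
      rw [E_apply, map_mul, e_pderiv] at h1
      have hX : e k i (X i) = Polynomial.X := by fin_cases i <;> simp
      rw [hX] at h1
      have h2 : Polynomial.derivative (e k i p) = 0 := by
        rcases mul_eq_zero.1 h1 with h | h
        · exact absurd h Polynomial.X_ne_zero
        · exact h
      have h3 := Polynomial.derivative_eq_zero.1 h2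
      exact ⟨_, Polynomial.eq_C_of_natDegree_eq_zero h3⟩
    obtain ⟨c0, hc0⟩ := hc 0
    obtain ⟨c1, hc1⟩ := hc 1
    refine ⟨c0 + c1 - constantCoeff p, ?_⟩
    have hk := key k p
    rw [Φ, hc0, hc1, s_C, s_C] at hk
    have h3 : f p = f (C c0 + C c1 - C (constantCoeff p)) := by
      rw [← sub_eq_zero, ← map_sub]
      exact Ideal.Quotient.eq_zero_iff_mem.2 hk
    rw [h3]
    rw [← map_add, ← map_sub]
    rfl
  · rintro ⟨c, rfl⟩
    exact Derivation.map_algebraMap _ c

end Aux

/-- Let k be a field of characteristic zero and A = k[X, Y]/(XY), the coordinate ring of two affine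
lines crossing in a point. In the naive de Rham complex A → Ω¹_{A/k} the kernel of d consists of the
constants: dP = 0 if and only if P is in the image of k. -/
theorem result (k : Type u) [Field k] [CharZero k]
    (P : MvPolynomial (Fin 2) k ⧸ Ideal.span {(MvPolynomial.X 0 * MvPolynomial.X 1 : MvPolynomial (Fin 2) k)}) :
    KaehlerDifferential.D k (MvPolynomial (Fin 2) k ⧸ Ideal.span {(MvPolynomial.X 0 * MvPolynomial.X 1 : MvPolynomial (Fin 2) k)}) P = 0 ↔
      P ∈ Set.range (algebraMap k (MvPolynomial (Fin 2) k ⧸ Ideal.span {(MvPolynomial.X 0 * MvPolynomial.X 1 : MvPolynomial (Fin 2) k)})) := by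
  exact Aux.main k P

end Groth.Agent.S19634
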