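import Groth.Statements.S19635
import Mathlib

set_option autoImplicit false
universe u
open DeRham

namespace Groth.Agent.S19635

section

open MvPolynomial

variable (k : Type u) [Field k]

noncomputable abbrev P := MvPolynomial (Fin 2) k
noncomputable abbrev I : Ideal (P k) := Ideal.span {(X 0 * X 1 : MvPolynomial (Fin 2) k)}
noncomputable abbrev A := P k ⧸ I k
abbrev T := TrivSqZeroExt k (k × k)

/-- the 1-jet map upstairs -/
noncomputable def J0 : P k →ₐ[k] T k :=
  aeval ![TrivSqZeroExt.inr ((1 : k), (0 : k)), TrivSqZeroExt.inr ((0 : k), (1 : k))]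

theorem J0_kills : ∀ q ∈ I k, J0 k q = 0 := by
  intro q hq
  have hle : I k ≤ RingHom.ker (J0 k).toRingHom := by
    rw [Ideal.span_le]
    intro q hq
    rw [Set.mem_singleton_iff] at hq
    subst hq
    rw [SetLike.mem_coe, RingHom.mem_ker]
    change J0 k (X 0 * X 1) = 0
    unfold J0
    rw [map_mul, aeval_X, aeval_X]
    simp
  exact hle hq

/-- the 1-jet map -/
noncomputable def J : A k →ₐ[k] T k := Ideal.Quotient.liftₐ (I k) (J0 k) (J0_kills k)

theorem J_mk (q : P k) : J k (Ideal.Quotient.mk _ q) = J0 k q := rfl

/-- the pairing -/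
noncomputable def phi (a b : A k) : k :=
  (J k a).snd.1 * (J k b).snd.2 - (J k a).snd.2 * (J k b).snd.1

theorem phi_add_left (a a' b : A k) : phi k (a + a') b = phi k a b + phi k a' b := by
  unfold phi
  simp only [map_add, TrivSqZeroExt.snd_add, Prod.fst_add, Prod.snd_add]
  ring

theorem phi_smul_left (c : k) (a b : A k) : phi k (c • a) b = c * phi k a b := by
  unfold phi
  simp only [map_smul, TrivSqZeroExt.snd_smul, Prod.smul_fst, Prod.smul_snd, smul_eq_mul]
  ring

theorem phi_add_right (a b b' : A k) : phi k a (b + b') = phi k a b + phi k a b' := by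
  unfold phi
  simp only [map_add, TrivSqZeroExt.snd_add, Prod.fst_add, Prod.snd_add]
  ring

theorem phi_leibniz (a x y : A k) : phi k a (x * y) = phi k (a * y) x + phi k (a * x) y := by
  unfold phi
  simp only [map_mul, TrivSqZeroExt.snd_mul, Prod.fst_add, Prod.snd_add, Prod.smul_fst, Prod.smul_snd,
    smul_eq_mul, MulOpposite.smul_eq_mul_unop, MulOpposite.unop_op, TrivSqZeroExt.fst_mul]
  ring

theorem phi_algebraMap (a : A k) (r : k) : phi k a (algebraMap k (A k) r) = 0 := by
  unfold phi
  rw [AlgHom.commutes]
  simp [TrivSqZeroExt.algebraMap_eq_inl]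

theorem phi_one_left (b : A k) : phi k 1 b = 0 := by
  unfold phi
  rw [map_one]
  simp

/-- `phi` as a linear map in the first variable -/
noncomputable def phiL (b : A k) : A k →ₗ[k] k where
  toFun a := phi k a b
  map_add' a a' := phi_add_left k a a' b
  map_smul' c a := phi_smul_left k c a b

/-- the functional on the free module -/
noncomputable def Lam : (A k →₀ A k) →ₗ[k] k := Finsupp.lsum k (fun b => phiL k b)

theorem Lam_single (a b : A k) : Lam k (Finsupp.single b a) = phi k a b := by
  unfold Lam
  rw [Finsupp.lsum_single]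
  rfl

theorem Lam_kerTotal : ∀ z ∈ KaehlerDifferential.kerTotal k (A k), ∀ s : A k, Lam k (s • z) = 0 := by
  intro z hz
  unfold KaehlerDifferential.kerTotal at hz
  induction hz using Submodule.span_induction with
  | mem z hz =>
    intro s
    rcases hz with (⟨⟨x, y⟩, rfl⟩ | ⟨⟨x, y⟩, rfl⟩) | ⟨r, rfl⟩
    · simp only [smul_sub, smul_add, Finsupp.smul_single, smul_eq_mul, mul_one, map_sub, map_add,
        Lam_single, phi_add_right]
      ring
    · simp only [smul_sub, smul_add, Finsupp.smul_single, smul_eq_mul, mul_one, map_sub, map_add,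
        Lam_single, phi_leibniz]
      ring
    · simp only [Finsupp.smul_single, smul_eq_mul, mul_one, Lam_single, phi_algebraMap]
  | zero => intro s; rw [smul_zero, map_zero]
  | add x y _ _ hx hy => intro s; rw [smul_add, map_add, hx, hy, add_zero]
  | smul t x _ hx => intro s; rw [smul_smul]; exact hx _

theorem main (k : Type u) [Field k] [CharZero k] :
    ¬ Function.Surjective (KaehlerDifferential.D k (MvPolynomial (Fin 2) k ⧸ Ideal.span {(MvPolynomial.X 0 * MvPolynomial.X 1 : MvPolynomial (Fin 2) k)})) := by
  intro hsurj
  set x0 : A k := Ideal.Quotient.mk _ (X 0) with hx0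
  set x1 : A k := Ideal.Quotient.mk _ (X 1) with hx1
  obtain ⟨w, hw⟩ := hsurj (x0 • KaehlerDifferential.D k (A k) x1)
  have hmem : Finsupp.single w (1 : A k) - Finsupp.single x1 x0 ∈ KaehlerDifferential.kerTotal k (A k) := by
    rw [← KaehlerDifferential.kerTotal_eq, LinearMap.mem_ker, map_sub,
      Finsupp.linearCombination_single, Finsupp.linearCombination_single, one_smul, hw, sub_self]
  have h0 := Lam_kerTotal k _ hmem 1
  rw [one_smul, map_sub, Lam_single, Lam_single, phi_one_left, zero_sub, neg_eq_zero] at h0
  have h1 : phi k x0 x1 = 1 := by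
    unfold phi
    rw [hx0, hx1, J_mk, J_mk]
    unfold J0
    rw [aeval_X, aeval_X]
    simp
  rw [h1] at h0
  exact one_ne_zero h0


end


/-- Let k be a field of characteristic zero and A = k[X, Y]/(XY), the coordinate ring of two affine
lines crossing in a point. The differential d : A → Ω¹_{A/k} of the naive de Rham complex is not
surjective, so the naive H^1 of this singular curve does not vanish although one expects trivial
cohomology; this is the example motivating the h-topology definition. -/
theorem result (k : Type u) [Field k] [CharZero k] :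
    ¬ Function.Surjective (KaehlerDifferential.D k (MvPolynomial (Fin 2) k ⧸ Ideal.span {(MvPolynomial.X 0 * MvPolynomial.X 1 : MvPolynomial (Fin 2) k)})) := by
  classical
  exact main k

end Groth.Agent.S19635
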