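import Groth.Statements.S19651
import Mathlib

set_option autoImplicit false
universe u v
open AbVar

namespace Groth.Agent.S19651

section
open Polynomial

variable {k : Type u} [Field k] {V : Type v} [AddCommGroup V] [Module k V]

theorem inv_pow (B : LinearMap.BilinForm k V) (M : V →ₗ[k] V) (c : k)
    (hM : ∀ x y : V, B (M x) (M y) = c * B x y) (i j : ℕ) (x y : V) :
    B ((M ^ i) x) ((M ^ (i + j)) y) = c ^ i * B x ((M ^ j) y) := by
  induction i with
  | zero => simp
  | succ i ih =>
    have e1 : (M ^ (i + 1)) x = M ((M ^ i) x) := by rw [pow_succ', Module.End.mul_apply]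
    have e2 : (M ^ (i + 1 + j)) y = M ((M ^ (i + j)) y) := by
      rw [show i + 1 + j = (i + j) + 1 by ring, pow_succ', Module.End.mul_apply]
    rw [e1, e2, hM, ih, pow_succ]
    ring

theorem lemA (B : LinearMap.BilinForm k V) (M : V →ₗ[k] V)
    (hM : ∀ x y : V, B (M x) (M y) = B x y) (Q : k[X]) (x y : V) :
    B (aeval M Q x) ((M ^ Q.natDegree) y) = B x (aeval M Q.reverse y) := by
  have hM' : ∀ x y : V, B (M x) (M y) = 1 * B x y := by
    intro x y; rw [hM, one_mul]
  rw [aeval_eq_sum_range,
    aeval_eq_sum_range' (lt_of_le_of_lt (reverse_natDegree_le Q) (Nat.lt_succ_self _))]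
  rw [LinearMap.sum_apply, LinearMap.sum_apply, map_sum, LinearMap.sum_apply, map_sum]
  rw [← Finset.sum_range_reflect]
  apply Finset.sum_congr rfl
  intro i hi
  have hi' : i ≤ Q.natDegree := by
    have := Finset.mem_range.mp hi
    omega
  have e0 : Q.natDegree + 1 - 1 - i = Q.natDegree - i := by omega
  rw [e0, LinearMap.smul_apply, LinearMap.smul_apply, map_smul, map_smul, LinearMap.smul_apply,
    coeff_reverse, revAt_le hi']
  have e1 : Q.natDegree = (Q.natDegree - i) + i := by omega
  have h1 := inv_pow B M 1 hM' (Q.natDegree - i) i x y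
  rw [← e1, one_pow, one_mul] at h1
  rw [h1]

theorem lemA' (B : LinearMap.BilinForm k V) (M : V →ₗ[k] V)
    (hM : ∀ x y : V, B (M x) (M y) = B x y) (Q : k[X]) (x y : V) :
    B ((M ^ Q.natDegree) x) (aeval M Q y) = B (aeval M Q.reverse x) y := by
  have := lemA B.flip M (fun x y => by
    show B (M y) (M x) = B y x
    exact hM y x) Q y x
  exact this

theorem commute_aux (M : V →ₗ[k] V) (R : k[X]) (m : ℕ) (y : V) :
    aeval M R ((M ^ m) y) = (M ^ m) (aeval M R y) := by
  have h1 : aeval M (R * X ^ m) = aeval M (X ^ m * R) := by rw [mul_comm]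
  rw [map_mul, map_mul, map_pow, aeval_X] at h1
  have h2 := congrArg (fun f : Module.End k V => f y) h1
  exact h2

theorem lemB (B : LinearMap.BilinForm k V) (M : V →ₗ[k] V)
    (hM : ∀ x y : V, B (M x) (M y) = B x y) (Q : k[X]) (n : ℕ) :
    ∀ x y : V, B ((aeval M Q ^ n) x) ((M ^ (Q.natDegree * n)) y) =
      B x ((aeval M Q.reverse ^ n) y) := by
  induction n with
  | zero => intro x y; simp
  | succ n ih =>
    intro x y
    have e1 : (aeval M Q ^ (n + 1)) x = aeval M Q ((aeval M Q ^ n) x) := by
      rw [pow_succ', Module.End.mul_apply]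
    have e2 : (M ^ (Q.natDegree * (n + 1))) y = (M ^ Q.natDegree) ((M ^ (Q.natDegree * n)) y) := by
      rw [show Q.natDegree * (n + 1) = Q.natDegree + Q.natDegree * n by ring, pow_add,
        Module.End.mul_apply]
    rw [e1, e2, lemA B M hM, commute_aux, ih, pow_succ, Module.End.mul_apply]

theorem lemB' (B : LinearMap.BilinForm k V) (M : V →ₗ[k] V)
    (hM : ∀ x y : V, B (M x) (M y) = B x y) (Q : k[X]) (n : ℕ) (x y : V) :
    B ((M ^ (Q.natDegree * n)) x) ((aeval M Q ^ n) y) =
      B ((aeval M Q.reverse ^ n) x) y := by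
  have := lemB B.flip M (fun x y => by
    show B (M y) (M x) = B y x
    exact hM y x) Q n y x
  exact this

theorem main
    (B : LinearMap.BilinForm k V) (M : V ≃ₗ[k] V)
    (hM : ∀ x y : V, B (M x) (M y) = B x y)
    (Q₁ Q₂ : k[X]) (h : IsCoprime Q₁.reverse Q₂)
    (x y : V)
    (hx : ∃ n : ℕ, (Polynomial.aeval (M : V →ₗ[k] V) Q₁ ^ n) x = 0)
    (hy : ∃ n : ℕ, (Polynomial.aeval (M : V →ₗ[k] V) Q₂ ^ n) y = 0) :
    B x y = 0 := by
  obtain ⟨n, hn⟩ := hx
  obtain ⟨m, hm⟩ := hy
  have hM' : ∀ x y : V, B ((M : V →ₗ[k] V) x) ((M : V →ₗ[k] V) y) = B x y := hM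
  have h1 : ∀ y' : V, B x ((aeval (M : V →ₗ[k] V) Q₁.reverse ^ n) y') = 0 := by
    intro y'
    rw [← lemB B (M : V →ₗ[k] V) hM' Q₁ n x y', hn, map_zero, LinearMap.zero_apply]
  obtain ⟨u, w, huw⟩ := (h.pow (m := n) (n := m))
  have h2 := congrArg (fun p => aeval (M : V →ₗ[k] V) p y) huw
  rw [mul_comm u, map_add, map_mul, map_mul, map_pow, map_pow, map_one, LinearMap.add_apply,
    Module.End.mul_apply, Module.End.mul_apply, hm, map_zero, add_zero, Module.End.one_apply] at h2
  rw [← h2]
  exact h1 _


end


open Polynomial in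
/-- Stated for an arbitrary invariant bilinear form, as the argument there allows. Let k be a field, V a
k-vector space with a bilinear form B and M a linear automorphism of V with B(Mx, My) = B(x, y) for
all x, y. If Q₁ and Q₂ are polynomials such that the reciprocal polynomial of Q₁ (its coefficient
list reversed) is coprime to Q₂, then every vector killed by a power of Q₁(M) is B-orthogonal to
every vector killed by a power of Q₂(M). With Q₁ = Q₂ = Q this says that the generalized kernel of
Q(M) is totally isotropic whenever Q is coprime to its reciprocal polynomial, which for an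
irreducible Q means that Q is not self-reciprocal. (The published statement takes M symplectic and
Q₁, Q₂ irreducible factors of the characteristic polynomial, with Q not self-reciprocal in the first
clause; its second clause asks Q₁ and Q₂ to be distinct and not reciprocal, which holds as proved
when this is read as saying that Q₂ is not the reciprocal of Q₁, but fails if it only means that
neither is self-reciprocal, as the diagonal matrix with entries 2 and 1/2 preserving the standard
alternating form on k² shows; the coprimality of the reciprocal of Q₁ with Q₂, which is what the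
published proof uses, is imposed here and covers both clauses.) -/
theorem result
    {k : Type u} [Field k] {V : Type v} [AddCommGroup V] [Module k V]
    (B : LinearMap.BilinForm k V) (M : V ≃ₗ[k] V)
    (hM : ∀ x y : V, B (M x) (M y) = B x y)
    (Q₁ Q₂ : k[X]) (h : IsCoprime Q₁.reverse Q₂)
    (x y : V)
    (hx : ∃ n : ℕ, (Polynomial.aeval (M : V →ₗ[k] V) Q₁ ^ n) x = 0)
    (hy : ∃ n : ℕ, (Polynomial.aeval (M : V →ₗ[k] V) Q₂ ^ n) y = 0) :
    B x y = 0 := by
  classical
  exact main B M hM Q₁ Q₂ h x y hx hy

end Groth.Agent.S19651
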