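import Groth.Statements.S19652
import Mathlib
import Groth.Agent.S19651

set_option autoImplicit false
universe u v
open AbVar

namespace Groth.Agent.S19652

section
open Polynomial
open Groth.Agent.S19651 (lemB lemB')

variable {k : Type u} [Field k] {V : Type v} [AddCommGroup V] [Module k V]

theorem main [FiniteDimensional k V]
    (B : LinearMap.BilinForm k V) (hB : B.Nondegenerate) (M : V ≃ₗ[k] V)
    (hM : ∀ x y : V, B (M x) (M y) = B x y)
    (Q : k[X]) (hQ : Associated Q Q.reverse) :
    (B.restrict (⨆ n : ℕ, LinearMap.ker (Polynomial.aeval (M : V →ₗ[k] V) Q ^ n))).Nondegenerate := by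
  obtain ⟨P, hP⟩ : ∃ P : Module.End k V, P = aeval (M : V →ₗ[k] V) Q := ⟨_, rfl⟩
  rw [← hP]
  have hM' : ∀ x y : V, B ((M : V →ₗ[k] V) x) ((M : V →ₗ[k] V) y) = B x y := hM
  obtain ⟨N, hN⟩ := Filter.eventually_atTop.mp
    (P.eventually_isCompl_ker_pow_range_pow.and P.eventually_iSup_ker_pow_eq)
  obtain ⟨hcompl, hsup⟩ := hN N (le_refl N)
  rw [hsup]
  -- reverse Q = c • Q
  obtain ⟨u, hu⟩ := hQ
  obtain ⟨c, hc, hcu⟩ := Polynomial.isUnit_iff.mp u.isUnit
  have hc0 : c ≠ 0 := hc.ne_zero
  have hR : aeval (M : V →ₗ[k] V) Q.reverse = c • P := by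
    rw [← hu, ← hcu, map_mul, aeval_C, ← hP, Algebra.algebraMap_eq_smul_one, mul_smul_comm, mul_one]
  have hRN : aeval (M : V →ₗ[k] V) Q.reverse ^ N = c ^ N • P ^ N := by
    rw [hR, _root_.smul_pow]
  have hcN : c ^ N ≠ 0 := pow_ne_zero N hc0
  -- orthogonality
  have orth1 : ∀ x ∈ LinearMap.ker (P ^ N), ∀ z ∈ LinearMap.range (P ^ N), B x z = 0 := by
    rintro x hx _ ⟨y', rfl⟩
    have h1 := lemB B (M : V →ₗ[k] V) hM' Q N x y'
    rw [← hP, LinearMap.mem_ker.mp hx, map_zero, LinearMap.zero_apply, hRN, LinearMap.smul_apply,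
      map_smul] at h1
    rcases smul_eq_zero.mp h1.symm with h | h
    · exact absurd h hcN
    · exact h
  have orth2 : ∀ y ∈ LinearMap.ker (P ^ N), ∀ z ∈ LinearMap.range (P ^ N), B z y = 0 := by
    rintro y hy _ ⟨x', rfl⟩
    have h1 := lemB' B (M : V →ₗ[k] V) hM' Q N x' y
    rw [← hP, LinearMap.mem_ker.mp hy, map_zero, hRN, LinearMap.smul_apply,
      map_smul, LinearMap.smul_apply] at h1
    rcases smul_eq_zero.mp h1.symm with h | h
    · exact absurd h hcN
    · exact h
  have hdecomp : ∀ v : V, ∃ v₁ ∈ LinearMap.ker (P ^ N), ∃ v₂ ∈ LinearMap.range (P ^ N),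
      v₁ + v₂ = v := by
    intro v
    have : v ∈ LinearMap.ker (P ^ N) ⊔ LinearMap.range (P ^ N) := by
      rw [hcompl.sup_eq_top]
      exact Submodule.mem_top
    exact Submodule.mem_sup.mp this
  constructor
  · rintro ⟨x, hx⟩ hxy
    have hx0 : x = 0 := by
      apply hB.1
      intro v
      obtain ⟨v₁, hv₁, v₂, hv₂, rfl⟩ := hdecomp v
      rw [map_add, orth1 x hx v₂ hv₂, add_zero]
      exact hxy ⟨v₁, hv₁⟩
    exact Subtype.ext hx0
  · rintro ⟨y, hy⟩ hxy
    have hy0 : y = 0 := by
      apply hB.2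
      intro v
      obtain ⟨v₁, hv₁, v₂, hv₂, rfl⟩ := hdecomp v
      rw [map_add, LinearMap.add_apply, orth2 y hy v₂ hv₂, add_zero]
      exact hxy ⟨v₁, hv₁⟩
    exact Subtype.ext hy0


end


open Polynomial in
/-- Stated for an arbitrary invariant nondegenerate bilinear form, as the argument there allows. Let k
be a field, V a finite-dimensional k-vector space with a nondegenerate bilinear form B and M a
linear automorphism of V with B(Mx, My) = B(x, y) for all x, y. If Q is a polynomial associated to
its own reciprocal polynomial (its coefficient list reversed), then B restricted to the generalized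
kernel of Q(M), the union of the kernels of the powers Q(M)^n, is nondegenerate. (The published
statement takes M symplectic and Q a self-reciprocal divisor of the characteristic polynomial;
divisibility plays no role and is not assumed.) -/
theorem result
    {k : Type u} [Field k] {V : Type v} [AddCommGroup V] [Module k V] [FiniteDimensional k V]
    (B : LinearMap.BilinForm k V) (hB : B.Nondegenerate) (M : V ≃ₗ[k] V)
    (hM : ∀ x y : V, B (M x) (M y) = B x y)
    (Q : k[X]) (hQ : Associated Q Q.reverse) :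
    (B.restrict (⨆ n : ℕ, LinearMap.ker (Polynomial.aeval (M : V →ₗ[k] V) Q ^ n))).Nondegenerate := by
  classical
  exact main B hB M hM Q hQ

end Groth.Agent.S19652
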