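import Groth.Statements.S1966
import Mathlib
-- import your own Groth.Agent.* helpers here

set_option autoImplicit false
universe u
open EtAlg

namespace Groth.Agent.S1966

open Polynomial
namespace Aux

section
variable {A : Type u} [CommRing A] {As : ℕ → Type u} [∀ k, CommRing (As k)]
    (t : ∀ k, As (k + 1) →+* As k)
    (hnil : ∀ k (x : As (k + 1)), t k x = 0 → IsNilpotent x)
    (p : ∀ k, A →+* As k) (hp : ∀ k, (t k).comp (p (k + 1)) = p k)
    (hinj : ∀ a b : A, (∀ k, p k a = p k b) → a = b)
    (hsurj : ∀ x : ∀ k, As k, (∀ k, t k (x (k + 1)) = x k) → ∃ a : A, ∀ k, p k a = x k)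
include hp
lemma compat (m : ℕ) (x : A) : t m (p (m + 1) x) = p m x := RingHom.congr_fun (hp m) x

include hnil
lemma nil_iff (m : ℕ) (x : A) : IsNilpotent (p m x) ↔ IsNilpotent (p (m + 1) x) := by
  constructor
  · rintro ⟨n, hn⟩
    have : t m ((p (m + 1) x) ^ n) = 0 := by rw [map_pow, compat t p hp, hn]
    obtain ⟨n', hn'⟩ := hnil m _ this
    exact ⟨n * n', by rw [pow_mul, hn']⟩
  · intro h
    rw [← compat t p hp]
    exact h.map (t m)

lemma nil_all (k : ℕ) (x : A) (hx : p k x = 0) (m : ℕ) : IsNilpotent (p m x) := by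
  have h0 : ∀ m, IsNilpotent (p 0 x) ↔ IsNilpotent (p m x) := by
    intro m
    induction m with
    | zero => rfl
    | succ m ih => exact ih.trans (nil_iff t hnil p hp m x)
  have hk : IsNilpotent (p k x) := by rw [hx]; exact IsNilpotent.zero
  exact (h0 m).mp ((h0 k).mpr hk)

omit hnil
include hinj hsurj
lemma isUnit_of_forall (z : A) (hz : ∀ m, IsUnit (p m z)) : IsUnit z := by
  have hc : ∀ m, t m (↑(hz (m + 1)).unit⁻¹) = ↑(hz m).unit⁻¹ := by
    intro m
    apply Units.eq_inv_of_mul_eq_one_left
    rw [IsUnit.unit_spec, ← compat t p hp, ← map_mul, IsUnit.mul_val_inv, map_one]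
  obtain ⟨u, hu⟩ := hsurj (fun m => ↑(hz m).unit⁻¹) hc
  refine IsUnit.of_mul_eq_one u ?_
  apply hinj
  intro m
  rw [map_mul, hu, map_one, IsUnit.mul_val_inv]

include hnil
theorem main (k : ℕ) : HenselianRing A (RingHom.ker (p k)) := by
  constructor
  · intro x hx
    rw [Ideal.mem_jacobson_bot]
    intro y
    apply isUnit_of_forall t p hp hinj hsurj
    intro m
    have hxy : p k (x * y) = 0 := by
      rw [map_mul, (RingHom.mem_ker).mp hx, zero_mul]
    have := nil_all t hnil p hp k (x * y) hxy m
    rw [map_add, map_one]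
    exact this.isUnit_add_one
  · intro f _ a₀ h1 h2
    -- inverse of derivative mod I
    obtain ⟨b, hb⟩ : ∃ b : A, (f.derivative.eval a₀) * b - 1 ∈ RingHom.ker (p k) := by
      obtain ⟨u, hu⟩ := h2
      obtain ⟨b, hb⟩ := Ideal.Quotient.mk_surjective (I := RingHom.ker (p k)) (↑u⁻¹ : A ⧸ RingHom.ker (p k))
      refine ⟨b, ?_⟩
      rw [← Ideal.Quotient.eq, map_mul, hb, ← hu, Units.mul_inv, map_one]
    have hnilf : ∀ m, IsNilpotent (aeval (p m a₀) (f.map (p m))) := by
      intro m
      rw [coe_aeval_eq_eval, eval_map_apply]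
      exact nil_all t hnil p hp k _ ((RingHom.mem_ker).mp h1) m
    have hunit : ∀ m, IsUnit (aeval (p m a₀) (derivative (f.map (p m)))) := by
      intro m
      rw [coe_aeval_eq_eval, derivative_map, eval_map_apply]
      have := nil_all t hnil p hp k _ ((RingHom.mem_ker).mp hb) m
      have h3 := this.isUnit_add_one
      rw [map_sub, map_one, sub_add_cancel, map_mul] at h3
      exact isUnit_of_mul_isUnit_left h3
    have hex := fun m => existsUnique_nilpotent_sub_and_aeval_eq_zero (hnilf m) (hunit m)
    choose r hr huniq using hex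
    have hc : ∀ m, t m (r (m + 1)) = r m := by
      intro m
      apply huniq m
      refine ⟨?_, ?_⟩
      · rw [← compat t p hp, ← map_sub]
        exact (hr (m + 1)).1.map (t m)
      · have h4 := (hr (m + 1)).2
        rw [coe_aeval_eq_eval] at h4 ⊢
        have : f.map (p m) = (f.map (p (m + 1))).map (t m) := by
          rw [Polynomial.map_map, hp m]
        rw [this, eval_map_apply, h4, map_zero]
    obtain ⟨a, ha⟩ := hsurj r hc
    refine ⟨a, ?_, ?_⟩
    · apply hinj
      intro m
      have h4 := (hr m).2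
      rw [coe_aeval_eq_eval, ← ha m, eval_map_apply] at h4
      rw [h4, map_zero]
    · rw [RingHom.mem_ker, map_sub, ha k, sub_eq_zero]
      symm
      apply huniq k
      refine ⟨by simp, ?_⟩
      rw [coe_aeval_eq_eval, eval_map_apply, (RingHom.mem_ker).mp h1]
end
end Aux

/-- Towers indexed by the natural numbers: let (A_k) be rings with surjective transition maps A_{k+1} ->
A_k whose kernels consist of nilpotent elements, and let A be a ring with compatible projections p_k
: A -> A_k identifying A with the set of compatible sequences (p is jointly injective and every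
compatible sequence comes from an element of A). Then for every k the pair (A, ker p_k) is
henselian. -/
theorem result (A : Type u) [CommRing A] (As : ℕ → Type u) [∀ k, CommRing (As k)]
    (t : ∀ k, As (k + 1) →+* As k) (ht : ∀ k, Function.Surjective (t k))
    (hnil : ∀ k (x : As (k + 1)), t k x = 0 → IsNilpotent x)
    (p : ∀ k, A →+* As k) (hp : ∀ k, (t k).comp (p (k + 1)) = p k)
    (hinj : ∀ a b : A, (∀ k, p k a = p k b) → a = b)
    (hsurj : ∀ x : ∀ k, As k, (∀ k, t k (x (k + 1)) = x k) → ∃ a : A, ∀ k, p k a = x k) (k : ℕ) :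
    HenselianRing A (RingHom.ker (p k)) := by
  exact Aux.main t hnil p hp hinj hsurj k

end Groth.Agent.S1966
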