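import Groth.Statements.S19660
import Mathlib

set_option autoImplicit false
universe u v
open AbVar

namespace Groth.Agent.S19660

section
open Polynomial

variable {k : Type u} [Field k] {V : Type v} [AddCommGroup V] [Module k V]

theorem step1 (B : LinearMap.BilinForm k V) (q : k) (M : Module.End k V)
    (hM : ∀ x y : V, B (M x) (M y) = q * B x y) (x y : V) :
    B ((M - (1 : k) • (1 : Module.End k V)) x) (M y) =
      - B x ((M - q • (1 : Module.End k V)) y) := by
  simp only [LinearMap.sub_apply, LinearMap.smul_apply, Module.End.one_apply, map_sub, map_smul,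
    hM, one_smul, smul_eq_mul]
  ring

theorem step2 (B : LinearMap.BilinForm k V) (q : k) (M : Module.End k V)
    (hM : ∀ x y : V, B (M x) (M y) = q * B x y) (x y : V) :
    B (M x) ((M - q • (1 : Module.End k V)) y) =
      -q * B ((M - (1 : k) • (1 : Module.End k V)) x) y := by
  simp only [LinearMap.sub_apply, LinearMap.smul_apply, Module.End.one_apply, map_sub, map_smul,
    hM, one_smul, smul_eq_mul]
  ring

theorem comm_pow (M : Module.End k V) (c : k) (n : ℕ) (y : V) :
    (M - c • (1 : Module.End k V)) ((M ^ n) y) = (M ^ n) ((M - c • (1 : Module.End k V)) y) := by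
  have h : Commute (M - c • (1 : Module.End k V)) (M ^ n) :=
    ((Commute.refl M).sub_left (Commute.smul_left (Commute.one_left M) c)).pow_right n
  have := congrArg (fun f : Module.End k V => f y) h.eq
  exact this

theorem iter1 (B : LinearMap.BilinForm k V) (q : k) (M : Module.End k V)
    (hM : ∀ x y : V, B (M x) (M y) = q * B x y) (n : ℕ) :
    ∀ x y : V, B (((M - (1 : k) • (1 : Module.End k V)) ^ n) x) ((M ^ n) y) =
      (-1) ^ n * B x (((M - q • (1 : Module.End k V)) ^ n) y) := by
  induction n with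
  | zero => intro x y; simp
  | succ n ih =>
    intro x y
    rw [pow_succ' (M - (1 : k) • (1 : Module.End k V)), Module.End.mul_apply, pow_succ' M,
      Module.End.mul_apply, step1 B q M hM, comm_pow, ih, pow_succ (M - q • (1 : Module.End k V)),
      Module.End.mul_apply, pow_succ]
    ring

theorem iter2 (B : LinearMap.BilinForm k V) (q : k) (M : Module.End k V)
    (hM : ∀ x y : V, B (M x) (M y) = q * B x y) (n : ℕ) :
    ∀ x y : V, B ((M ^ n) x) (((M - q • (1 : Module.End k V)) ^ n) y) =
      (-q) ^ n * B (((M - (1 : k) • (1 : Module.End k V)) ^ n) x) y := by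
  induction n with
  | zero => intro x y; simp
  | succ n ih =>
    intro x y
    rw [pow_succ' M, Module.End.mul_apply, pow_succ' (M - q • (1 : Module.End k V)),
      Module.End.mul_apply, step2 B q M hM, comm_pow, ih,
      pow_succ (M - (1 : k) • (1 : Module.End k V)), Module.End.mul_apply, pow_succ]
    ring

theorem ker_mono (T : Module.End k V) {n N : ℕ} (h : n ≤ N) (x : V) (hx : (T ^ n) x = 0) :
    (T ^ N) x = 0 := by
  obtain ⟨m, rfl⟩ := Nat.exists_eq_add_of_le h
  rw [add_comm, pow_add, Module.End.mul_apply, hx, map_zero]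

theorem range_of_coprime (M : Module.End k V) (a b : k) (hab : a ≠ b) (n m : ℕ) (x : V)
    (hx : ((M - a • (1 : Module.End k V)) ^ m) x = 0) :
    x ∈ LinearMap.range ((M - b • (1 : Module.End k V)) ^ n) := by
  have hcop : IsCoprime ((X - C b : k[X]) ^ n) ((X - C a : k[X]) ^ m) :=
    (isCoprime_X_sub_C_of_isUnit_sub (sub_ne_zero.mpr (Ne.symm hab)).isUnit).pow
  obtain ⟨u, w, huw⟩ := hcop
  have e : ∀ c : k, aeval M (X - C c : k[X]) = M - c • (1 : Module.End k V) := by
    intro c
    rw [map_sub, aeval_X, aeval_C, Algebra.algebraMap_eq_smul_one]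
  have h2 := congrArg (fun p => aeval M p x) huw
  rw [mul_comm u] at h2
  simp only [map_add, map_mul, map_pow, map_one, e, LinearMap.add_apply, Module.End.mul_apply,
    Module.End.one_apply, hx, map_zero, add_zero] at h2
  exact ⟨_, h2⟩

theorem main [FiniteDimensional k V]
    (B : LinearMap.BilinForm k V) (hB : B.Nondegenerate) (q : k) (hq : q ≠ 0)
    (M : V ≃ₗ[k] V) (hM : ∀ x y : V, B (M x) (M y) = q * B x y) :
    (∀ x ∈ Module.End.maxGenEigenspace (M : Module.End k V) 1,
        (∀ y ∈ Module.End.maxGenEigenspace (M : Module.End k V) q, B x y = 0) → x = 0) ∧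
      (∀ y ∈ Module.End.maxGenEigenspace (M : Module.End k V) q,
        (∀ x ∈ Module.End.maxGenEigenspace (M : Module.End k V) 1, B x y = 0) → y = 0) ∧
      (q ≠ 1 → ∀ x ∈ Module.End.maxGenEigenspace (M : Module.End k V) 1,
        ∀ x' ∈ Module.End.maxGenEigenspace (M : Module.End k V) 1, B x x' = 0) ∧
      (q ≠ 1 → ∀ y ∈ Module.End.maxGenEigenspace (M : Module.End k V) q,
        ∀ y' ∈ Module.End.maxGenEigenspace (M : Module.End k V) q, B y y' = 0) := by
  obtain ⟨Mℓ, hMℓ⟩ : ∃ Mℓ : Module.End k V, Mℓ = (M : Module.End k V) := ⟨_, rfl⟩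
  rw [← hMℓ]
  have hM' : ∀ x y : V, B (Mℓ x) (Mℓ y) = q * B x y := by
    intro x y
    rw [hMℓ]
    exact hM x y
  obtain ⟨T1, hT1⟩ : ∃ T : Module.End k V, T = Mℓ - (1 : k) • (1 : Module.End k V) := ⟨_, rfl⟩
  obtain ⟨Tq, hTq⟩ : ∃ T : Module.End k V, T = Mℓ - q • (1 : Module.End k V) := ⟨_, rfl⟩
  have orthL : ∀ n : ℕ, ∀ x : V, (T1 ^ n) x = 0 → ∀ z ∈ LinearMap.range (Tq ^ n), B x z = 0 := by
    rintro n x hx _ ⟨y, rfl⟩
    have h1 := iter1 B q Mℓ hM' n x y
    rw [← hT1, ← hTq, hx, map_zero, LinearMap.zero_apply] at h1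
    rcases mul_eq_zero.mp h1.symm with h | h
    · exact absurd h (pow_ne_zero n (neg_ne_zero.mpr one_ne_zero))
    · exact h
  have orthR : ∀ n : ℕ, ∀ y : V, (Tq ^ n) y = 0 → ∀ z ∈ LinearMap.range (T1 ^ n), B z y = 0 := by
    rintro n y hy _ ⟨x, rfl⟩
    have h1 := iter2 B q Mℓ hM' n x y
    rw [← hT1, ← hTq, hy, map_zero] at h1
    rcases mul_eq_zero.mp h1.symm with h | h
    · exact absurd h (pow_ne_zero n (neg_ne_zero.mpr hq))
    · exact h
  have mem1 : ∀ x : V, x ∈ Module.End.maxGenEigenspace Mℓ 1 ↔ ∃ n : ℕ, (T1 ^ n) x = 0 := by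
    intro x
    rw [Module.End.mem_maxGenEigenspace, hT1]
  have memq : ∀ x : V, x ∈ Module.End.maxGenEigenspace Mℓ q ↔ ∃ n : ℕ, (Tq ^ n) x = 0 := by
    intro x
    rw [Module.End.mem_maxGenEigenspace, hTq]
  refine ⟨?_, ?_, ?_, ?_⟩
  · intro x hx hxy
    obtain ⟨n, hn⟩ := (mem1 x).mp hx
    obtain ⟨N₀, hN₀⟩ := Filter.eventually_atTop.mp Tq.eventually_isCompl_ker_pow_range_pow
    have hcompl := hN₀ (max n N₀) (le_max_right _ _)
    have hxN := ker_mono T1 (le_max_left n N₀) x hn
    apply hB.1
    intro v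
    have hv : v ∈ LinearMap.ker (Tq ^ (max n N₀)) ⊔ LinearMap.range (Tq ^ (max n N₀)) := by
      rw [hcompl.sup_eq_top]
      exact Submodule.mem_top
    obtain ⟨v₁, hv₁, v₂, hv₂, rfl⟩ := Submodule.mem_sup.mp hv
    rw [map_add, orthL _ x hxN v₂ hv₂, add_zero]
    exact hxy v₁ ((memq v₁).mpr ⟨_, LinearMap.mem_ker.mp hv₁⟩)
  · intro y hy hxy
    obtain ⟨n, hn⟩ := (memq y).mp hy
    obtain ⟨N₀, hN₀⟩ := Filter.eventually_atTop.mp T1.eventually_isCompl_ker_pow_range_pow
    have hcompl := hN₀ (max n N₀) (le_max_right _ _)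
    have hyN := ker_mono Tq (le_max_left n N₀) y hn
    apply hB.2
    intro v
    have hv : v ∈ LinearMap.ker (T1 ^ (max n N₀)) ⊔ LinearMap.range (T1 ^ (max n N₀)) := by
      rw [hcompl.sup_eq_top]
      exact Submodule.mem_top
    obtain ⟨v₁, hv₁, v₂, hv₂, rfl⟩ := Submodule.mem_sup.mp hv
    rw [map_add, LinearMap.add_apply, orthR _ y hyN v₂ hv₂, add_zero]
    exact hxy v₁ ((mem1 v₁).mpr ⟨_, LinearMap.mem_ker.mp hv₁⟩)
  · intro hq1 x hx x' hx'
    obtain ⟨n, hn⟩ := (mem1 x).mp hx
    obtain ⟨m, hm⟩ := (mem1 x').mp hx'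
    rw [hT1] at hm
    have := range_of_coprime Mℓ 1 q (Ne.symm hq1) n m x' hm
    rw [← hTq] at this
    exact orthL n x hn x' this
  · intro hq1 y hy y' hy'
    obtain ⟨m, hm⟩ := (memq y).mp hy
    obtain ⟨n, hn⟩ := (memq y').mp hy'
    rw [hTq] at hm
    have := range_of_coprime Mℓ q 1 hq1 n m y hm
    rw [← hT1] at this
    exact orthR n y' hn y this


end


/-- The text applies this to the Frobenius acting on the points of prime order of a principally
polarised abelian variety over a finite field with q elements and to their Weil pairing. Let k be a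
field, V a finite-dimensional k-vector space with a nondegenerate bilinear form B, q a nonzero
element of k and M a linear automorphism of V with B(Mx, My) = q·B(x, y) for all x, y. Write V₁ and
V_q for the generalized eigenspaces of M at 1 and at q. Then every vector of V₁ that is B-orthogonal
to all of V_q is zero, every vector of V_q that is B-orthogonal (on the right) to all of V₁ is zero,
and when q ≠ 1 the form B vanishes identically on V₁ × V₁ and on V_q × V_q. (The text asserts this
as the evident adaptation, to a form scaled by q, of the orthogonality and nondegeneracy facts for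
generalized kernels of an automorphism preserving a form; the abstract statement is recorded here,
the application to the Weil pairing needing that pairing's formalism.) -/
theorem result
    {k : Type u} [Field k] {V : Type v} [AddCommGroup V] [Module k V] [FiniteDimensional k V]
    (B : LinearMap.BilinForm k V) (hB : B.Nondegenerate) (q : k) (hq : q ≠ 0)
    (M : V ≃ₗ[k] V) (hM : ∀ x y : V, B (M x) (M y) = q * B x y) :
    (∀ x ∈ Module.End.maxGenEigenspace (M : Module.End k V) 1,
        (∀ y ∈ Module.End.maxGenEigenspace (M : Module.End k V) q, B x y = 0) → x = 0) ∧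
      (∀ y ∈ Module.End.maxGenEigenspace (M : Module.End k V) q,
        (∀ x ∈ Module.End.maxGenEigenspace (M : Module.End k V) 1, B x y = 0) → y = 0) ∧
      (q ≠ 1 → ∀ x ∈ Module.End.maxGenEigenspace (M : Module.End k V) 1,
        ∀ x' ∈ Module.End.maxGenEigenspace (M : Module.End k V) 1, B x x' = 0) ∧
      (q ≠ 1 → ∀ y ∈ Module.End.maxGenEigenspace (M : Module.End k V) q,
        ∀ y' ∈ Module.End.maxGenEigenspace (M : Module.End k V) q, B y y' = 0) := by
  classical
  exact main B hB q hq M hM

end Groth.Agent.S19660
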