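import Groth.Statements.S1969
import Mathlib
-- import your own Groth.Agent.* helpers here

set_option autoImplicit false
universe u
open EtAlg

namespace Groth.Agent.S1969

open TensorProduct
namespace Aux

/-- (2) ⇒ (3) -/
lemma sub_flat {A : Type u} [CommRing A] (h2 : ∀ I : Ideal A, I.FG → Module.Flat A I)
    (M : Type u) [AddCommGroup M] [Module A M] (hM : Module.Flat A M) (N : Submodule A M) :
    Module.Flat A N := by
  rw [Module.Flat.iff_rTensor_injective]
  intro J hJ
  have hJf := h2 J hJ
  have h1 : Function.Injective (LinearMap.lTensor J N.subtype) :=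
    Module.Flat.lTensor_preserves_injective_linearMap _ N.injective_subtype
  have h3 : Function.Injective (LinearMap.rTensor M J.subtype) :=
    Module.Flat.rTensor_preserves_injective_linearMap _ J.injective_subtype
  have h4 : (LinearMap.lTensor A N.subtype) ∘ₗ (LinearMap.rTensor N J.subtype) =
      (LinearMap.rTensor M J.subtype) ∘ₗ (LinearMap.lTensor J N.subtype) := by
    rw [LinearMap.lTensor_comp_rTensor, LinearMap.rTensor_comp_lTensor]
  have h5 : Function.Injective ((LinearMap.lTensor A N.subtype) ∘ (LinearMap.rTensor N J.subtype)) := by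
    rw [← LinearMap.coe_comp, h4, LinearMap.coe_comp]
    exact h3.comp h1
  exact Function.Injective.of_comp h5

/-- In a local ring, if `span {x}` is flat and `x ≠ 0`, then `x` is a non-zero-divisor. -/
lemma nzd_of_flat {R : Type*} [CommRing R] [IsLocalRing R] (x : R)
    (hf : Module.Flat R (Ideal.span {x})) (hx : x ≠ 0) (r : R) (hr : r * x = 0) : r = 0 := by
  have hxm : x ∈ Ideal.span {x} := Ideal.subset_span rfl
  have hrel : ∑ i : Fin 1, (fun _ => r) i • (fun _ => (⟨x, hxm⟩ : Ideal.span {x})) i = 0 := by
    simp only [Finset.univ_unique, Finset.sum_singleton]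
    ext
    simpa using hr
  obtain ⟨k, a, y, h1, h2⟩ := Module.Flat.isTrivialRelation_of_sum_smul_eq_zero hrel
  by_cases hu : ∃ j, IsUnit (a 0 j)
  · obtain ⟨j, hj⟩ := hu
    have := h2 j
    simp only [Finset.univ_unique, Finset.sum_singleton] at this
    exact (hj.mul_left_eq_zero).mp this
  · push Not at hu
    exfalso
    have hd : ∀ j, ∃ d : R, ((y j : Ideal.span {x}) : R) = d * x := fun j =>
      Ideal.mem_span_singleton'.mp (y j).2 |>.imp fun d hd => hd.symm
    choose d hd using hd
    have h1' := congrArg (Subtype.val) (h1 0)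
    simp only [Submodule.coe_sum, Submodule.coe_smul, smul_eq_mul, hd] at h1'
    have he : (∑ j, a 0 j * d j) ∈ IsLocalRing.maximalIdeal R := by
      refine Ideal.sum_mem _ fun j _ => Ideal.mul_mem_right _ _ ?_
      exact (IsLocalRing.mem_maximalIdeal _).mpr (hu j)
    have hunit : IsUnit (1 - ∑ j, a 0 j * d j) := by
      by_contra hn
      have := (IsLocalRing.mem_maximalIdeal _).mpr hn
      have h1m : (1 : R) ∈ IsLocalRing.maximalIdeal R := by
        have := Ideal.add_mem _ this he
        simpa using this
      exact (Ideal.ne_top_iff_one _).mp (IsLocalRing.maximalIdeal.isMaximal R).ne_top h1m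
    have : (1 - ∑ j, a 0 j * d j) * x = 0 := by
      rw [sub_mul, one_mul, Finset.sum_mul]
      rw [sub_eq_zero]
      conv_lhs => rw [h1']
      refine Finset.sum_congr rfl fun j _ => by ring
    exact hx ((hunit.mul_right_eq_zero).mp this)

/-- In a local ring, if `span {a, b}` is flat then `a ∣ b ∨ b ∣ a`. -/
lemma dvd_total_of_flat {R : Type*} [CommRing R] [IsLocalRing R] (a b : R)
    (hf : Module.Flat R (Ideal.span {a, b})) : a ∣ b ∨ b ∣ a := by
  set J : Ideal R := Ideal.span {a, b} with hJ
  have ham : a ∈ J := Ideal.subset_span (by simp)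
  have hbm : b ∈ J := Ideal.subset_span (by simp)
  have hrel : ∑ i : Fin 2, (![b, -a]) i • (![(⟨a, ham⟩ : J), ⟨b, hbm⟩]) i = 0 := by
    simp only [Fin.sum_univ_two, Matrix.cons_val_zero, Matrix.cons_val_one]
    ext
    simp
    ring
  obtain ⟨k, c, y, h1, h2⟩ := Module.Flat.isTrivialRelation_of_sum_smul_eq_zero hrel
  have h2' : ∀ j, b * c 0 j = a * c 1 j := by
    intro j
    have := h2 j
    simp only [Fin.sum_univ_two, Matrix.cons_val_zero, Matrix.cons_val_one] at this
    linear_combination this
  by_cases hu0 : ∃ j, IsUnit (c 0 j)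
  · obtain ⟨j, hj⟩ := hu0
    left
    obtain ⟨u, hu⟩ := hj
    refine ⟨c 1 j * ↑u⁻¹, ?_⟩
    have := h2' j
    rw [← hu] at this
    calc b = b * u * ↑u⁻¹ := by rw [mul_assoc, Units.mul_inv, mul_one]
      _ = a * c 1 j * ↑u⁻¹ := by rw [this]
      _ = a * (c 1 j * ↑u⁻¹) := by ring
  by_cases hu1 : ∃ j, IsUnit (c 1 j)
  · obtain ⟨j, hj⟩ := hu1
    right
    obtain ⟨u, hu⟩ := hj
    refine ⟨c 0 j * ↑u⁻¹, ?_⟩
    have := h2' j
    rw [← hu] at this
    calc a = a * u * ↑u⁻¹ := by rw [mul_assoc, Units.mul_inv, mul_one]
      _ = b * c 0 j * ↑u⁻¹ := by rw [this]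
      _ = b * (c 0 j * ↑u⁻¹) := by ring
  push Not at hu0 hu1
  -- Nakayama
  have ha' : a ∈ IsLocalRing.maximalIdeal R • J := by
    have h1' := congrArg (Subtype.val) (h1 0)
    simp only [Matrix.cons_val_zero, Submodule.coe_sum, Submodule.coe_smul, smul_eq_mul] at h1'
    rw [h1']
    refine Ideal.sum_mem _ fun j _ => ?_
    rw [← smul_eq_mul]
    exact Submodule.smul_mem_smul ((IsLocalRing.mem_maximalIdeal _).mpr (hu0 j)) (y j).2
  have hb' : b ∈ IsLocalRing.maximalIdeal R • J := by
    have h1' := congrArg (Subtype.val) (h1 1)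
    simp only [Matrix.cons_val_one, Matrix.cons_val_zero, Submodule.coe_sum, Submodule.coe_smul, smul_eq_mul] at h1'
    rw [h1']
    refine Ideal.sum_mem _ fun j _ => ?_
    rw [← smul_eq_mul]
    exact Submodule.smul_mem_smul ((IsLocalRing.mem_maximalIdeal _).mpr (hu1 j)) (y j).2
  have hle : J ≤ IsLocalRing.maximalIdeal R • J := by
    have : Ideal.span {a, b} ≤ IsLocalRing.maximalIdeal R • J := by
      rw [Ideal.span_le]
      intro z hz
      simp only [Set.mem_insert_iff, Set.mem_singleton_iff] at hz
      rcases hz with h | h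
      · rw [h]; exact ha'
      · rw [h]; exact hb'
    exact this
  have hfg : J.FG := Submodule.fg_span (Set.toFinite _)
  have hbot : J = ⊥ := Submodule.eq_bot_of_le_smul_of_le_jacobson_bot _ _ hfg hle
    (IsLocalRing.maximalIdeal_le_jacobson _)
  have : a = 0 := by
    have := hbot ▸ ham
    simpa using this
  left
  rw [this]
  have : b = 0 := by
    have := hbot ▸ hbm
    simpa using this
  rw [this]

end Aux

namespace Aux
open IsLocalization

section loc
variable {A : Type u} [CommRing A] (p : Ideal A) [p.IsPrime]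

local notation "Lp" => Localization.AtPrime p

lemma loc_flat (I : Ideal A) (hI : Module.Flat A I) :
    Module.Flat Lp (I.localized' Lp p.primeCompl (Algebra.linearMap A Lp)) :=
  Module.Flat.of_isLocalizedModule (R := A) (M := I) (Rp := Lp) p.primeCompl
    (I.toLocalized' Lp p.primeCompl (Algebra.linearMap A Lp))

lemma loc_span (s : Set A) : (Ideal.span s).localized' Lp p.primeCompl (Algebra.linearMap A Lp) =
    Ideal.span ((algebraMap A Lp) '' s) :=
  Submodule.localized'_span _ _ _ s

lemma exists_assoc (x : Lp) : ∃ a : A, Associated x (algebraMap A Lp a) := by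
  obtain ⟨a, s, rfl⟩ := IsLocalization.exists_mk'_eq p.primeCompl x
  refine ⟨a, ?_⟩
  have hu : IsUnit (algebraMap A Lp s) := IsLocalization.map_units Lp s
  obtain ⟨u, hu⟩ := hu
  refine ⟨u, ?_⟩
  rw [hu, IsLocalization.mk'_spec]

theorem two_four (h2 : ∀ I : Ideal A, I.FG → Module.Flat A I) :
    ∃ _ : IsDomain Lp, ValuationRing Lp := by
  have hsing : ∀ a : A, Module.Flat Lp (Ideal.span {algebraMap A Lp a}) := by
    intro a
    have := loc_flat p (Ideal.span {a}) (h2 _ ⟨{a}, by simp⟩)
    rw [loc_span, Set.image_singleton] at this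
    exact this
  have hpair : ∀ a b : A, Module.Flat Lp (Ideal.span {algebraMap A Lp a, algebraMap A Lp b}) := by
    intro a b
    have := loc_flat p (Ideal.span {a, b}) (h2 _ (Submodule.fg_span (Set.toFinite _)))
    rw [loc_span, Set.image_pair] at this
    exact this
  have hdom : IsDomain Lp := by
    have : NoZeroDivisors Lp := by
      refine ⟨fun {x y} hxy => ?_⟩
      by_cases hy : y = 0
      · exact Or.inr hy
      left
      obtain ⟨b, hb⟩ := exists_assoc p y
      have hb0 : algebraMap A Lp b ≠ 0 := fun h => hy (by rw [h] at hb; exact hb.eq_zero_iff.mpr rfl)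
      obtain ⟨u, hu⟩ := hb
      refine nzd_of_flat _ (hsing b) hb0 x ?_
      rw [← hu, ← mul_assoc, hxy, zero_mul]
    exact NoZeroDivisors.to_isDomain Lp
  refine ⟨hdom, ?_⟩
  refine ValuationRing.iff_dvd_total.mpr ⟨fun x y => ?_⟩
  obtain ⟨a, ha⟩ := exists_assoc p x
  obtain ⟨b, hb⟩ := exists_assoc p y
  rcases dvd_total_of_flat _ _ (hpair a b) with h | h
  · left
    exact (ha.dvd_iff_dvd_left.trans hb.dvd_iff_dvd_right).mpr h
  · right
    exact (hb.dvd_iff_dvd_left.trans ha.dvd_iff_dvd_right).mpr h

end loc

end Aux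

namespace Aux

theorem four_one {A : Type u} [CommRing A]
    (h4 : ∀ (p : Ideal A) [p.IsPrime], ∃ _ : IsDomain (Localization.AtPrime p), ValuationRing (Localization.AtPrime p))
    (I : Ideal A) : Module.Flat A I := by
  refine Module.flat_of_isLocalized_maximal (R := A) (S := A) (M := I)
    (fun P _ => I.localized' (Localization.AtPrime P) P.primeCompl (Algebra.linearMap A (Localization.AtPrime P)))
    (fun P _ => I.toLocalized' (Localization.AtPrime P) P.primeCompl (Algebra.linearMap A (Localization.AtPrime P))) ?_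
  intro P hP
  obtain ⟨hd, hv⟩ := h4 P
  have : Module.Flat (Localization.AtPrime P)
      (I.localized' (Localization.AtPrime P) P.primeCompl (Algebra.linearMap A (Localization.AtPrime P))) := by
    rw [Module.Flat.flat_iff_torsion_eq_bot_of_isBezout, ← Submodule.isTorsionFree_iff_torsion_eq_bot]
    infer_instance
  exact Module.Flat.trans A (Localization.AtPrime P) _

theorem main (A : Type u) [CommRing A] :
    List.TFAE [∀ I : Ideal A, Module.Flat A I,
      ∀ I : Ideal A, I.FG → Module.Flat A I,
      ∀ (M : Type u) [AddCommGroup M] [Module A M], Module.Flat A M → ∀ N : Submodule A M, Module.Flat A N,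
      ∀ (p : Ideal A) [p.IsPrime], ∃ _ : IsDomain (Localization.AtPrime p), ValuationRing (Localization.AtPrime p)] := by
  tfae_have 1 → 2 := fun h I _ => h I
  tfae_have 2 → 3 := fun h M _ _ hM N => sub_flat h M hM N
  tfae_have 3 → 1 := fun h I => h A inferInstance I
  tfae_have 2 → 4 := fun h p _ => two_four p h
  tfae_have 4 → 1 := fun h I => four_one h I
  tfae_finish

end Aux

/-- For a commutative ring A these are equivalent — all ideals are flat A-modules; all finitely
generated ideals are flat; flatness passes to submodules of flat modules; each localization at a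
prime is a valuation ring (in particular a domain). Condition (1), weak dimension at most one, is
not stated. -/
theorem result (A : Type u) [CommRing A] :
    List.TFAE [∀ I : Ideal A, Module.Flat A I,
      ∀ I : Ideal A, I.FG → Module.Flat A I,
      ∀ (M : Type u) [AddCommGroup M] [Module A M], Module.Flat A M → ∀ N : Submodule A M, Module.Flat A N,
      ∀ (p : Ideal A) [p.IsPrime], ∃ _ : IsDomain (Localization.AtPrime p), ValuationRing (Localization.AtPrime p)] := by
  exact Aux.main A

end Groth.Agent.S1969
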