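import Groth.Statements.S1968
import Mathlib
import Groth.Agent.S1969
-- import your own Groth.Agent.* helpers here

set_option autoImplicit false
universe u
open EtAlg

namespace Groth.Agent.S1968

open TensorProduct
namespace Aux

section
variable {J : Type u} (A : J → Type u) [∀ j, CommRing (A j)] [∀ j, IsDomain (A j)]

lemma nzd_pi : nonZeroDivisors (∀ j, A j) = Submonoid.pi Set.univ (fun j => nonZeroDivisors (A j)) := by
  classical
  ext a
  simp only [Submonoid.mem_pi, Set.mem_univ, true_implies]
  constructor
  · intro ha j
    rw [mem_nonZeroDivisors_iff_ne_zero]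
    intro h0
    have := (mem_nonZeroDivisors_iff.mp ha).1 (Pi.single j 1) (by
      ext i
      by_cases hij : i = j
      · subst hij; simp [h0]
      · simp [Pi.single_eq_of_ne hij])
    have := congrFun this j
    simp at this
  · intro ha
    rw [mem_nonZeroDivisors_iff]
    constructor
    · intro x hx
      ext j
      have := congrFun hx j
      simp only [Pi.mul_apply, Pi.zero_apply] at this
      exact (mul_eq_zero.mp this).resolve_left (nonZeroDivisors.ne_zero (ha j))
    · intro x hx
      ext j
      have := congrFun hx j
      simp only [Pi.mul_apply, Pi.zero_apply] at this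
      exact (mul_eq_zero.mp this).resolve_right (nonZeroDivisors.ne_zero (ha j))

variable [∀ j, ValuationRing (A j)]

/-- idempotent associated to `g`: 1 where g_j = 0 -/
noncomputable def idem (g : ∀ j, A j) : ∀ j, A j := by
  classical
  exact fun j => if g j = 0 then 1 else 0

lemma idem_mul (g : ∀ j, A j) : idem A g * g = 0 := by
  classical
  ext j
  simp only [idem, Pi.mul_apply, Pi.zero_apply]
  split_ifs with h <;> simp [h]

lemma idem_sq (g : ∀ j, A j) : idem A g * idem A g = idem A g := by
  classical
  ext j
  simp only [idem, Pi.mul_apply]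
  split_ifs with h <;> simp

lemma eq_zero_of_mul (g a : ∀ j, A j) (h : a * g = 0) : a * (1 - idem A g) = 0 := by
  classical
  ext j
  have hj := congrFun h j
  simp only [idem, Pi.mul_apply, Pi.zero_apply, Pi.sub_apply, Pi.one_apply] at hj ⊢
  split_ifs with h0
  · simp
  · rcases mul_eq_zero.mp hj with h1 | h1
    · simp [h1]
    · exact absurd h1 h0

lemma flat_span_singleton (g : ∀ j, A j) : Module.Flat (∀ j, A j) (Ideal.span {g}) := by
  set e := idem A g with he
  -- the ideal generated by `1 - e` is a retract of the ring
  have hf : Module.Flat (∀ j, A j) (Ideal.span {1 - e}) := by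
    refine Module.Flat.of_retract (R := ∀ j, A j) (M := ∀ j, A j) (Ideal.span {1 - e}).subtype
      ((LinearMap.toSpanSingleton (∀ j, A j) (∀ j, A j) (1 - e)).codRestrict _ (fun a => by
        rw [LinearMap.toSpanSingleton_apply, smul_eq_mul]
        exact Ideal.mul_mem_left _ _ (Ideal.subset_span rfl))) ?_
    ext ⟨x, hx⟩
    obtain ⟨c, rfl⟩ := Ideal.mem_span_singleton'.mp hx
    simp only [LinearMap.coe_comp, Submodule.coe_subtype, Function.comp_apply,
      LinearMap.codRestrict_apply, LinearMap.toSpanSingleton_apply, smul_eq_mul, LinearMap.id_coe,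
      id_eq]
    have : (1 - e) * (1 - e) = 1 - e := by
      have := idem_sq A g
      rw [← he] at this
      ring_nf
      rw [sq, this]
      ring
    rw [mul_assoc, this]
  -- equivalence
  let φ : Ideal.span {1 - e} →ₗ[∀ j, A j] Ideal.span {g} :=
    ((LinearMap.toSpanSingleton (∀ j, A j) (∀ j, A j) g).codRestrict _ (fun a => by
        rw [LinearMap.toSpanSingleton_apply, smul_eq_mul]
        exact Ideal.mul_mem_left _ _ (Ideal.subset_span rfl))).comp (Ideal.span {1 - e}).subtype
  have hφ : Function.Bijective φ := by
    constructor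
    · rw [injective_iff_map_eq_zero]
      rintro ⟨x, hx⟩ h
      obtain ⟨c, rfl⟩ := Ideal.mem_span_singleton'.mp hx
      have h' := congrArg Subtype.val h
      simp only [φ, LinearMap.coe_comp, Submodule.coe_subtype, Function.comp_apply,
        LinearMap.codRestrict_apply, LinearMap.toSpanSingleton_apply, smul_eq_mul,
        ZeroMemClass.coe_zero] at h'
      have := eq_zero_of_mul A g _ h'
      rw [← he] at this
      have h2 : (1 - e) * (1 - e) = 1 - e := by
        have := idem_sq A g
        rw [← he] at this
        ring_nf
        rw [sq, this]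
        ring
      ext1
      simp only [ZeroMemClass.coe_zero]
      rw [mul_assoc, h2] at this
      exact this
    · rintro ⟨y, hy⟩
      obtain ⟨c, rfl⟩ := Ideal.mem_span_singleton'.mp hy
      refine ⟨⟨c * (1 - e), Ideal.mul_mem_left _ _ (Ideal.subset_span rfl)⟩, ?_⟩
      ext1
      simp only [φ, LinearMap.coe_comp, Submodule.coe_subtype, Function.comp_apply,
        LinearMap.codRestrict_apply, LinearMap.toSpanSingleton_apply, smul_eq_mul]
      have := idem_mul A g
      rw [← he] at this
      rw [mul_assoc, sub_mul, one_mul, this, sub_zero]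
  exact Module.Flat.of_linearEquiv (LinearEquiv.ofBijective φ hφ).symm

/-- every finitely generated ideal is principal -/
lemma fg_principal (I : Ideal (∀ j, A j)) (hI : I.FG) : ∃ g, I = Ideal.span {g} := by
  classical
  obtain ⟨s, rfl⟩ := hI
  -- componentwise generator
  have h1 : ∀ j, ∃ gj : A j, Ideal.span ((fun x : ∀ j, A j => x j) '' (s : Set (∀ j, A j))) = Ideal.span {gj} := by
    intro j
    have hfg : (Ideal.span ((fun x : ∀ j, A j => x j) '' (s : Set (∀ j, A j)))).FG :=
      Submodule.fg_span ((s.finite_toSet).image _)
    have := IsBezout.isPrincipal_of_FG _ hfg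
    exact ⟨_, (Submodule.IsPrincipal.span_singleton_generator _).symm⟩
  choose g hg using h1
  refine ⟨g, ?_⟩
  apply le_antisymm
  · rw [Ideal.span_le]
    intro x hx
    have : ∀ j, ∃ c : A j, c * g j = x j := by
      intro j
      have : x j ∈ Ideal.span {g j} := by
        rw [← hg j]
        exact Ideal.subset_span ⟨x, hx, rfl⟩
      exact Ideal.mem_span_singleton'.mp this
    choose c hc using this
    exact Ideal.mem_span_singleton'.mpr ⟨c, funext hc⟩
  · rw [Ideal.span_le, Set.singleton_subset_iff]
    -- g_j = Σ_x d x j * x j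
    have : ∀ j, ∃ d : (∀ j, A j) → A j, g j = ∑ x ∈ s, d x * x j := by
      intro j
      have hgj : g j ∈ Ideal.span ((fun x : ∀ j, A j => x j) '' (s : Set (∀ j, A j))) := by
        rw [hg j]; exact Ideal.subset_span rfl
      have hmap : Ideal.span ((fun x : ∀ j, A j => x j) '' (s : Set (∀ j, A j))) =
          Ideal.map (Pi.evalRingHom A j) (Ideal.span (s : Set (∀ j, A j))) := by
        rw [Ideal.map_span]; rfl
      rw [hmap, Ideal.mem_map_iff_of_surjective _ (Function.surjective_eval j)] at hgj
      obtain ⟨y, hy, hyj⟩ := hgj
      obtain ⟨f, -, hf⟩ := (Submodule.mem_span_finset).mp hy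
      refine ⟨fun x => f x j, ?_⟩
      rw [← hyj, ← hf]
      simp
    choose d hd using this
    have : g = ∑ x ∈ s, (fun j => d j x) * x := by
      ext j
      rw [Finset.sum_apply]
      simp only [Pi.mul_apply]
      exact hd j
    rw [this]
    exact Ideal.sum_mem _ fun x hx => Ideal.mul_mem_left _ _ (Ideal.subset_span hx)


theorem main (K : J → Type u) [∀ j, Field (K j)] [∀ j, Algebra (A j) (K j)]
    [∀ j, IsFractionRing (A j) (K j)] :
    (∀ I : Ideal (∀ j, A j), Module.Flat (∀ j, A j) I) ∧
      IsLocalization (nonZeroDivisors (∀ j, A j)) (∀ j, K j) := by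
  constructor
  · refine ((Groth.Agent.S1969.result (∀ j, A j)).out 1 0).mp ?_
    intro I hI
    obtain ⟨g, rfl⟩ := fg_principal A I hI
    exact flat_span_singleton A g
  · rw [nzd_pi]
    infer_instance

end
end Aux

/-- Let (A_j) be a family of valuation rings with fraction fields K_j. Then every ideal of the product
ring Π A_j is a flat Π A_j-module (that is, Π A_j has weak dimension at most 1), and Π K_j is the
localization of Π A_j at its non-zero-divisors. -/
theorem result {J : Type u} (A : J → Type u) [∀ j, CommRing (A j)] [∀ j, IsDomain (A j)]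
    [∀ j, ValuationRing (A j)] (K : J → Type u) [∀ j, Field (K j)] [∀ j, Algebra (A j) (K j)]
    [∀ j, IsFractionRing (A j) (K j)] :
    (∀ I : Ideal (∀ j, A j), Module.Flat (∀ j, A j) I) ∧
      IsLocalization (nonZeroDivisors (∀ j, A j)) (∀ j, K j) := by
  exact Aux.main A K

end Groth.Agent.S1968
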