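import Groth.Statements.S19693
import Mathlib
import Groth.Agent.Lib.Lead.FLF5
import Groth.Agent.S19692
import Groth.Agent.S8255

set_option autoImplicit false
universe u
open CategoryTheory CategoryTheory.Limits AlgebraicGeometry Opposite
open FinCov

namespace Groth.Agent.S19693

section
open CategoryTheory CategoryTheory.Limits AlgebraicGeometry Opposite

open Groth.Agent.Lead.FLF RelSpec

variable {X : Scheme.{u}} (A : RelSpec.QCAlg X)

/-- the comparison map `π_* O ⟶ A` as a map of modules -/
noncomputable def pushToModule :
    (Scheme.Modules.pushforward A.π).obj (Coh.structureModule A.spec) ⟶ A.toModule :=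
  ⟨letI := A.moduleSect
   PresheafOfModules.homMk
    { app := fun U => AddCommGrpCat.ofHom (A.gammaMap.app U).hom.toAddMonoidHom
      naturality := fun U V i => by
        ext m
        exact (CommRingCat.comp_apply _ _ _).symm.trans
          ((congr_arg (fun f => f.hom m) (A.gammaMap.naturality i)).trans
            (CommRingCat.comp_apply _ _ _)) }
    fun U r m => by
      have h : (A.gammaMap.app U).hom ((A.π.c.app U).hom r) = (A.str.app U).hom r := by
        have h0 := NatTrans.congr_app A.π_c_gammaMap U
        rw [NatTrans.comp_app] at h0
        rw [← h0]; rfl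
      exact (map_mul (A.gammaMap.app U).hom _ _).trans (congr_arg (· * _) h)⟩


instance isIso_pushToModule : IsIso (pushToModule A) := by
  rw [Scheme.Modules.Hom.isIso_iff_isIso_app]
  intro U
  rw [ConcreteCategory.isIso_iff_bijective]
  haveI : IsIso A.gammaMap := Groth.Agent.S8255.result A
  haveI : IsIso (A.gammaMap.app (op U)) := inferInstance
  exact ConcreteCategory.bijective_of_isIso (A.gammaMap.app (op U))

theorem isFinLocFreeOfRank_of_iso {M M' : X.Modules} (e : M ≅ M') (d : ℕ)
    (h : FlatMod.IsFinLocFreeOfRank d M) : FlatMod.IsFinLocFreeOfRank d M' := by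
  intro x
  obtain ⟨U, hx, ⟨i⟩⟩ := h x
  exact ⟨U, hx, ⟨(Scheme.Modules.restrictFunctor U.ι).mapIso e.symm ≪≫ i⟩⟩

theorem main (d : ℕ) (hA : FlatMod.IsFinLocFreeOfRank d A.toModule) : FinCov.IsCover A.π d := by
  rw [Groth.Agent.S19692.result]
  exact ⟨inferInstance, isFinLocFreeOfRank_of_iso (asIso (pushToModule A)).symm d hA⟩


end


/-- Let X be a scheme and A a quasi-coherent O_X-algebra whose underlying O_X-module is locally free of
rank d. Then the structure morphism Spec(A) → X of the relative spectrum of A is a cover of degree
d: finite, flat, locally of finite presentation and of rank d at every point of X. (This is the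
quasi-inverse direction of the equivalence between degree-d covers of X and O_X-algebras locally
free of rank d; the other direction and the identification of the direct-image algebra of Spec(A)
with A are separate statements.) -/
theorem result {X : Scheme.{u}} (A : RelSpec.QCAlg X) (d : ℕ)
    (hA : FlatMod.IsFinLocFreeOfRank d A.toModule) : FinCov.IsCover A.π d := by
  classical
  exact main A d hA

end Groth.Agent.S19693
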