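import Groth.Statements.S1970
import Mathlib
import Groth.Agent.Lib.Helper9.WEtField.Main
-- import your own Groth.Agent.* helpers here

set_option autoImplicit false
universe u
open EtAlg

namespace Groth.Agent.S1970

namespace Aux
open Groth.Agent.Helper9.WEtField

theorem main (K : Type u) [Field K] (B : Type u) [CommRing B] [Algebra K B]
    [Algebra.WeaklyEtale K B] :
    (∀ S : Subalgebra K B, Algebra.WeaklyEtale K S) ∧ ∀ I : Ideal B, Algebra.WeaklyEtale K (B ⧸ I) := by
  refine ⟨fun S => ?_, fun I => ?_⟩
  · refine weaklyEtale_of_forall_sep K S fun x => ?_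
    exact IsSepElem.of_map S.val Subtype.val_injective (isSepElem_of_weaklyEtale K B x)
  · refine weaklyEtale_of_forall_sep K (B ⧸ I) fun y => ?_
    obtain ⟨b, rfl⟩ := Ideal.Quotient.mk_surjective y
    exact (isSepElem_of_weaklyEtale K B b).map (Ideal.Quotient.mkₐ K I)

end Aux

/-- Over a field K, every K-subalgebra and every quotient K-algebra of a weakly etale K-algebra is again
weakly etale over K. -/
theorem result (K : Type u) [Field K] (B : Type u) [CommRing B] [Algebra K B]
    [Algebra.WeaklyEtale K B] :
    (∀ S : Subalgebra K B, Algebra.WeaklyEtale K S) ∧ ∀ I : Ideal B, Algebra.WeaklyEtale K (B ⧸ I) := by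
  exact Aux.main K B

end Groth.Agent.S1970
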