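import Groth.Statements.S1971
-- import your own Groth.Agent.* helpers here
import Mathlib
import Groth.Agent.Lib.Helper7.Hens.Abstract

set_option autoImplicit false
universe u
open EtAlg

namespace Groth.Agent.S1971

/-- Let A be a ring with ideals I and J having the same zero locus in Spec A. Then an A-algebra is a
henselization of the pair (A, I) if and only if it is a henselization of the pair (A, J). -/
theorem result (A : Type u) [CommRing A] (I J : Ideal A)
    (h : PrimeSpectrum.zeroLocus (I : Set A) = PrimeSpectrum.zeroLocus (J : Set A)) (B : Type u) [CommRing B] [Algebra A B] :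
    Hens2.IsPairHenselization A I B ↔ Hens2.IsPairHenselization A J B := by
  have hrad : I.radical = J.radical := by
    rw [← PrimeSpectrum.vanishingIdeal_zeroLocus_eq_radical,
      ← PrimeSpectrum.vanishingIdeal_zeroLocus_eq_radical, h]
  exact ⟨Groth.Agent.Helper7.Hens.isPairHenselization_of_radical_eq hrad,
    Groth.Agent.Helper7.Hens.isPairHenselization_of_radical_eq hrad.symm⟩

end Groth.Agent.S1971
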