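import Groth.Statements.S19711
import Mathlib
import Groth.Agent.Lib.Helper8.GenFree

set_option autoImplicit false
universe u
open CategoryTheory
open Coh

namespace Groth.Agent.S19711

/-- Let A be a Noetherian integral domain and F an A-linear additive functor from A-modules to A-modules
with F(A) a finitely generated A-module. Call such a functor generically injective when there is a
dense open subset U of Spec A such that for every point u of U whose residue field κ(u) is a
finitely generated A-algebra the comparison map F(A) ⊗_A κ(u) → F(κ(u)) is injective; since F is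
A-linear this injectivity says: every m in F(A) whose image under F(A → κ(u)) vanishes satisfies s·m
∈ u·F(A) for some s outside u. If F is generically injective then so is every A-linear additive
subfunctor K ⊆ F (a natural transformation K → F with injective components). (The published
statement is over a reduced Noetherian affine scheme, for additive functors on quasi-coherent
sheaves with values in abelian groups and the induced A-action, assumes F weakly bounded (F(A/p)
finitely generated for every prime ideal p) and also records that K is again weakly bounded; only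
the finite generation of F(A), which its argument uses, is assumed here, and the integral case with
A-linear functors stated here is the one its argument by generic flatness treats.) -/
theorem result {A : Type u} [CommRing A] [IsNoetherianRing A] [IsDomain A]
    (F K : ModuleCat.{u} A ⥤ ModuleCat.{u} A) [F.Additive] [F.Linear A] [K.Additive] [K.Linear A]
    (ι : K ⟶ F) (hι : ∀ X : ModuleCat.{u} A, Function.Injective (ι.app X).hom)
    (hfin : Module.Finite A (F.obj (ModuleCat.of A A)))
    (hGI : ∃ U : Set (PrimeSpectrum A), IsOpen U ∧ Dense U ∧ ∀ u ∈ U, Algebra.FiniteType A u.asIdeal.ResidueField →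
        ∀ m : F.obj (ModuleCat.of A A),
          (F.map (ModuleCat.ofHom (Algebra.linearMap A u.asIdeal.ResidueField))).hom m = 0 →
            ∃ s ∉ u.asIdeal, s • m ∈ u.asIdeal • (⊤ : Submodule A (F.obj (ModuleCat.of A A)))) :
    ∃ U : Set (PrimeSpectrum A), IsOpen U ∧ Dense U ∧ ∀ u ∈ U, Algebra.FiniteType A u.asIdeal.ResidueField →
        ∀ m : K.obj (ModuleCat.of A A),
          (K.map (ModuleCat.ofHom (Algebra.linearMap A u.asIdeal.ResidueField))).hom m = 0 →
            ∃ s ∉ u.asIdeal, s • m ∈ u.asIdeal • (⊤ : Submodule A (K.obj (ModuleCat.of A A))) := by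
  classical
  obtain ⟨U, hUo, hUd, hU⟩ := hGI
  haveI := hfin
  obtain ⟨f, hf0, hf⟩ := Groth.Agent.Helper8.GenFree.core (A := A)
    (M := F.obj (ModuleCat.of A A)) (N := K.obj (ModuleCat.of A A))
    (ι.app (ModuleCat.of A A)).hom (hι _)
  refine ⟨U ∩ (PrimeSpectrum.basicOpen f : Set (PrimeSpectrum A)), ?_, ?_, ?_⟩
  · exact hUo.inter (PrimeSpectrum.basicOpen f).isOpen
  · -- density: the spectrum of a domain is irreducible
    have hne : ((PrimeSpectrum.basicOpen f : TopologicalSpace.Opens (PrimeSpectrum A)) :
        Set (PrimeSpectrum A)).Nonempty := by
      refine ⟨⟨⊥, Ideal.isPrime_bot⟩, ?_⟩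
      simp only [SetLike.mem_coe, PrimeSpectrum.mem_basicOpen]
      simpa using hf0
    have hd2 : Dense ((PrimeSpectrum.basicOpen f : TopologicalSpace.Opens (PrimeSpectrum A)) :
        Set (PrimeSpectrum A)) :=
      (PrimeSpectrum.basicOpen f).isOpen.dense hne
    exact hUd.inter_of_isOpen_right hd2 (PrimeSpectrum.basicOpen f).isOpen
  · rintro u ⟨huU, huf⟩ hft m hm
    have hnat := ι.naturality (ModuleCat.ofHom (Algebra.linearMap A u.asIdeal.ResidueField))
    have h1 : (F.map (ModuleCat.ofHom (Algebra.linearMap A u.asIdeal.ResidueField))).hom
        ((ι.app (ModuleCat.of A A)).hom m) = 0 := by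
      have h2 := congrArg (fun φ => φ.hom m) hnat
      simp only [ModuleCat.hom_comp, LinearMap.comp_apply] at h2
      rw [← h2, hm, map_zero]
    obtain ⟨s, hs, hsm⟩ := hU u huU hft _ h1
    have hfu : f ∉ u.asIdeal := by
      simpa [PrimeSpectrum.mem_basicOpen] using huf
    exact hf u.asIdeal u.isPrime hfu m s hs hsm

end Groth.Agent.S19711
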