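import Groth.Statements.S1973
import Mathlib
-- import your own Groth.Agent.* helpers here

set_option autoImplicit false
universe u
open EtAlg

namespace Groth.Agent.S1973

open IsLocalRing
namespace Aux

/-- A noetherian local ring whose maximal ideal is generated by a regular element is a DVR. -/
lemma dvr_of_principal (R : Type u) [CommRing R] [IsLocalRing R] [IsNoetherianRing R] (ϖ : R)
    (hreg : IsSMulRegular R ϖ) (hmax : maximalIdeal R = Ideal.span {ϖ}) :
    ∃ _ : IsDomain R, IsDiscreteValuationRing R := by
  have hϖm : ϖ ∈ maximalIdeal R := by rw [hmax]; exact Ideal.mem_span_singleton_self ϖ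
  have hpow : ∀ n : ℕ, maximalIdeal R ^ n = Ideal.span {ϖ ^ n} := by
    intro n; rw [hmax, Ideal.span_singleton_pow]
  have hkrull : ⨅ i : ℕ, maximalIdeal R ^ i = ⊥ :=
    Ideal.iInf_pow_eq_bot_of_isLocalRing _ (maximalIdeal.isMaximal R).ne_top
  -- every nonzero element is ϖ^n * unit
  have hrep : ∀ x : R, x ≠ 0 → ∃ (n : ℕ) (w : R), IsUnit w ∧ x = ϖ ^ n * w := by
    intro x hx
    have h1 : ∃ i : ℕ, x ∉ maximalIdeal R ^ i := by
      by_contra hcon
      push Not at hcon
      have : x ∈ ⨅ i : ℕ, maximalIdeal R ^ i := by
        rw [Ideal.mem_iInf]; exact hcon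
      rw [hkrull] at this
      exact hx this
    classical
    let i := Nat.find h1
    have hi : x ∉ maximalIdeal R ^ i := Nat.find_spec h1
    have hi0 : i ≠ 0 := by
      intro h0
      rw [h0, pow_zero, Ideal.one_eq_top] at hi
      exact hi Submodule.mem_top
    obtain ⟨j, hj⟩ : ∃ j, i = j + 1 := ⟨i - 1, by omega⟩
    have hjmem : x ∈ maximalIdeal R ^ j := by
      by_contra hcon
      have := Nat.find_min' h1 hcon
      omega
    rw [hpow, Ideal.mem_span_singleton'] at hjmem
    obtain ⟨w, hw⟩ := hjmem
    refine ⟨j, w, ?_, by rw [← hw, mul_comm]⟩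
    by_contra hwu
    have hwm : w ∈ maximalIdeal R := (mem_maximalIdeal w).mpr hwu
    rw [hmax, Ideal.mem_span_singleton'] at hwm
    obtain ⟨v, hv⟩ := hwm
    apply hi
    rw [hj, hpow, Ideal.mem_span_singleton']
    exact ⟨v, by rw [← hw, ← hv, pow_succ]; ring⟩
  have hregpow : ∀ n : ℕ, ∀ y : R, ϖ ^ n * y = 0 → y = 0 := by
    intro n
    induction n with
    | zero => intro y hy; simpa using hy
    | succ n ih =>
      intro y hy
      apply ih
      have : ϖ • (ϖ ^ n * y) = ϖ • (0 : R) := by
        rw [smul_eq_mul, smul_zero, ← hy, pow_succ]; ring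
      exact hreg this
  have hdom : IsDomain R := by
    refine @NoZeroDivisors.to_isDomain R _ _ ⟨?_⟩
    intro x y hxy
    by_contra hcon
    push Not at hcon
    obtain ⟨a, u, hu, rfl⟩ := hrep x hcon.1
    obtain ⟨b, v, hv, rfl⟩ := hrep y hcon.2
    have h1 : ϖ ^ (a + b) * (u * v) = 0 := by rw [← hxy, pow_add]; ring
    have h2 := hregpow _ _ h1
    exact (hu.mul hv).ne_zero h2
  refine ⟨hdom, ?_⟩
  have hϖ0 : ϖ ≠ 0 := by
    intro h0
    have : (1 : R) = 0 := by
      apply hreg
      show ϖ • (1 : R) = ϖ • (0 : R)
      rw [h0, zero_smul, zero_smul]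
    exact one_ne_zero this
  have hnf : ¬ IsField R := by
    rw [isField_iff_maximalIdeal_eq]
    intro h0
    rw [h0] at hϖm
    exact hϖ0 hϖm
  have hprinc : (maximalIdeal R).IsPrincipal := ⟨⟨ϖ, hmax⟩⟩
  exact ((IsDiscreteValuationRing.TFAE R hnf).out 0 4).mpr hprinc

/-- Local structure of an étale algebra over a Dedekind domain. -/
lemma local_structure (A D : Type u) [CommRing A] [IsDedekindDomain A] [CommRing D] [Algebra A D]
    [Algebra.Etale A D] (P : Ideal D) [P.IsPrime] :
    maximalIdeal (Localization.AtPrime P) = ⊥ ∨
      ∃ _ : IsDomain (Localization.AtPrime P), IsDiscreteValuationRing (Localization.AtPrime P) := by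
  have hnoeth : IsNoetherianRing D := Algebra.FiniteType.isNoetherianRing A D
  let p := P.under A
  let _ := Localization.AtPrime.algebraOfLiesOver p P
  have hunr : Algebra.IsUnramifiedAt A P :=
    Algebra.FormallyUnramified.comp A D (Localization.AtPrime P)
  have h := ((Algebra.isUnramifiedAt_iff_map_eq A p P).mp hunr).2
  by_cases hp : p = ⊥
  · left
    rw [← h, hp, Ideal.map_bot]
  · right
    have hdvr : IsDiscreteValuationRing (Localization.AtPrime p) :=
      IsLocalization.AtPrime.isDiscreteValuationRing_of_dedekind_domain A hp (Localization.AtPrime p)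
    obtain ⟨ϖ, hϖ⟩ := IsDiscreteValuationRing.exists_irreducible (Localization.AtPrime p)
    have h1 : maximalIdeal (Localization.AtPrime P) =
        Ideal.span {algebraMap (Localization.AtPrime p) (Localization.AtPrime P) ϖ} := by
      rw [← h, IsScalarTower.algebraMap_eq A (Localization.AtPrime p) (Localization.AtPrime P),
        ← Ideal.map_map, Localization.AtPrime.map_eq_maximalIdeal, hϖ.maximalIdeal_eq, Ideal.map_span,
        Set.image_singleton]
    have hreg : IsSMulRegular (Localization.AtPrime P)
        (algebraMap (Localization.AtPrime p) (Localization.AtPrime P) ϖ) := by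
      apply IsSMulRegular.of_flat
      exact (IsRegular.of_ne_zero hϖ.ne_zero).left.isSMulRegular
    exact dvr_of_principal _ _ hreg h1

lemma isDomain_local (A D : Type u) [CommRing A] [IsDedekindDomain A] [CommRing D] [Algebra A D]
    [Algebra.Etale A D] (P : Ideal D) [P.IsPrime] : IsDomain (Localization.AtPrime P) := by
  rcases local_structure A D P with h | ⟨h, -⟩
  · exact (isField_iff_maximalIdeal_eq.mpr h).isDomain
  · exact h

/-- An étale algebra over a Dedekind domain which is a domain is a Dedekind domain. -/
lemma dedekind_of_domain (A D : Type u) [CommRing A] [IsDedekindDomain A] [CommRing D] [Algebra A D]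
    [Algebra.Etale A D] [IsDomain D] : IsDedekindDomain D := by
  have hnoeth : IsNoetherianRing D := Algebra.FiniteType.isNoetherianRing A D
  have : IsDedekindDomainDvr D := by
    refine { toIsNoetherian := hnoeth, is_dvr_at_nonzero_prime := ?_ }
    intro P hP hPp
    rcases local_structure A D P with h | ⟨hd, h⟩
    · exfalso
      apply hP
      have h1 := Localization.AtPrime.map_eq_maximalIdeal (I := P)
      rw [h] at h1
      have hinj : Function.Injective (algebraMap D (Localization.AtPrime P)) :=
        IsLocalization.injective _ P.primeCompl_le_nonZeroDivisors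
      exact (Ideal.map_eq_bot_iff_of_injective hinj).mp h1
    · exact h
  infer_instance

theorem main (A B : Type u) [CommRing A] [IsDedekindDomain A] [CommRing B] [Algebra A B]
    [Algebra.Etale A B] :
    (∃ (n : ℕ) (D : Fin n → Type u) (_ : ∀ i, CommRing (D i)) (_ : ∀ i, IsDedekindDomain (D i)),
      Nonempty (B ≃+* ∀ i, D i)) ∧
    ∀ (q : Ideal B) [q.IsMaximal], ¬ IsField (Localization.AtPrime q) →
      ∃ _ : IsDomain (Localization.AtPrime q), IsDiscreteValuationRing (Localization.AtPrime q) := by
  have hnoeth : IsNoetherianRing B := Algebra.FiniteType.isNoetherianRing A B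
  constructor
  · -- decomposition
    have hfin : (minimalPrimes B).Finite := minimalPrimes.finite_of_isNoetherianRing B
    have hred : IsReduced B := by
      refine ⟨fun x hx => ?_⟩
      apply eq_zero_of_localization
      intro J hJ
      have := isDomain_local A B J
      obtain ⟨k, hk⟩ := hx
      have : (algebraMap B (Localization.AtPrime J) x) ^ k = 0 := by rw [← map_pow, hk, map_zero]
      exact pow_eq_zero_iff (n := k) (by
        intro h0; rw [h0, pow_zero] at hk
        have : (1 : Localization.AtPrime J) = 0 := by rw [← map_one (algebraMap B _), hk, map_zero]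
        exact one_ne_zero this) |>.mp this
    let ι := hfin.toFinset
    have : Fintype (minimalPrimes B) := hfin.fintype
    let f : minimalPrimes B → Ideal B := fun p => p.1
    have hprime : ∀ p : minimalPrimes B, (f p).IsPrime := fun p => p.2.1.1
    have hcop : Pairwise (Function.onFun IsCoprime f) := by
      intro p₁ p₂ hne
      change IsCoprime (f p₁) (f p₂)
      rw [Ideal.isCoprime_iff_sup_eq]
      by_contra hsup
      obtain ⟨M, hM, hle⟩ := Ideal.exists_le_maximal _ hsup
      have := isDomain_local A B M
      have hp₁M : p₁.1 ≤ M := le_trans le_sup_left hle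
      have hp₂M : p₂.1 ≤ M := le_trans le_sup_right hle
      let P₀ : Ideal B := (⊥ : Ideal (Localization.AtPrime M)).comap (algebraMap B (Localization.AtPrime M))
      have hP₀ : P₀.IsPrime := Ideal.comap_isPrime _ _
      have key : ∀ p : minimalPrimes B, p.1 ≤ M → p.1 = P₀ := by
        intro p hpM
        have hpp : p.1.IsPrime := p.2.1.1
        have hdisj : Disjoint (M.primeCompl : Set B) p.1 := by
          rw [Set.disjoint_left]
          intro x hx hxp
          exact hx (hpM hxp)
        have h1 := IsLocalization.under_map_of_isPrime_disjoint M.primeCompl (Localization.AtPrime M)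
          hpp hdisj
        have h2 : P₀ ≤ p.1 := by
          rw [← h1]
          exact Ideal.comap_mono bot_le
        exact le_antisymm (p.2.2 ⟨hP₀, bot_le⟩ h2) h2
      apply hne
      apply Subtype.ext
      rw [key p₁ hp₁M, key p₂ hp₂M]
    have hinf : ⨅ p, f p = ⊥ := by
      have h1 : sInf (minimalPrimes B) = (⊥ : Ideal B).radical := Ideal.sInf_minimalPrimes
      have h2 : (⊥ : Ideal B).radical = ⊥ := by
        rw [← Ideal.zero_eq_bot]
        exact nilradical_eq_zero B
      rw [← h2, ← h1, sInf_eq_iInf']
    let e1 : B ≃+* (B ⧸ ⨅ p, f p) :=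
      (RingEquiv.quotientBot B).symm.trans (Ideal.quotEquivOfEq hinf.symm)
    let e2 := Ideal.quotientInfRingEquivPiQuotient f hcop
    let e : B ≃+* ∀ p : minimalPrimes B, B ⧸ f p := e1.trans e2
    -- A-algebra structure
    let ea : B ≃ₐ[A] ∀ p : minimalPrimes B, B ⧸ f p :=
      AlgEquiv.ofRingEquiv (f := e) (fun a => by
        ext p
        rfl)
    have hfe : Algebra.FormallyEtale A (∀ p : minimalPrimes B, B ⧸ f p) :=
      (Algebra.FormallyEtale.iff_of_equiv ea).mp inferInstance
    rw [Algebra.FormallyEtale.pi_iff] at hfe
    have hded : ∀ p : minimalPrimes B, IsDedekindDomain (B ⧸ f p) := by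
      intro p
      have : (f p).IsPrime := hprime p
      have hfp : Algebra.FinitePresentation A (B ⧸ f p) :=
        Algebra.FinitePresentation.quotient ((isNoetherianRing_iff_ideal_fg B).mp hnoeth _)
      have : Algebra.FormallyEtale A (B ⧸ f p) := hfe p
      have : Algebra.Etale A (B ⧸ f p) := ⟨hfe p, hfp⟩
      exact dedekind_of_domain A (B ⧸ f p)
    -- reindex by Fin n
    let n := Fintype.card (minimalPrimes B)
    let σ : Fin n ≃ minimalPrimes B := (Fintype.equivFin (minimalPrimes B)).symm
    refine ⟨n, fun i => B ⧸ f (σ i), fun i => inferInstance, fun i => hded (σ i), ⟨?_⟩⟩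
    exact e.trans (RingEquiv.piCongrLeft' (fun p : minimalPrimes B => B ⧸ f p) σ.symm)
  · intro q hq hnf
    rcases local_structure A B q with h | h
    · exact absurd (isField_iff_maximalIdeal_eq.mpr h) hnf
    · exact h

end Aux

/-- Let A be a Dedekind domain and B an etale A-algebra. Then B is isomorphic as a ring to a finite
product of Dedekind domains, and for every maximal ideal q of B whose localization is not a field,
the localization B_q is a discrete valuation ring. (The source states the last claim for all maximal
ideals; it fails for field factors, e.g. A a DVR with uniformizer π and B = A[1/π], so the guard is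
needed.) -/
theorem result (A B : Type u) [CommRing A] [IsDedekindDomain A] [CommRing B] [Algebra A B]
    [Algebra.Etale A B] :
    (∃ (n : ℕ) (D : Fin n → Type u) (_ : ∀ i, CommRing (D i)) (_ : ∀ i, IsDedekindDomain (D i)),
      Nonempty (B ≃+* ∀ i, D i)) ∧
    ∀ (q : Ideal B) [q.IsMaximal], ¬ IsField (Localization.AtPrime q) →
      ∃ _ : IsDomain (Localization.AtPrime q), IsDiscreteValuationRing (Localization.AtPrime q) := by
  exact Aux.main A B

end Groth.Agent.S1973
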