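import Groth.Statements.S1974
import Mathlib
import Groth.Agent.Lib.Helper5.WEt.AbsFlat
import Groth.Agent.Lib.Helper2.WeaklyEtaleField
-- import your own Groth.Agent.* helpers here

set_option autoImplicit false
universe u
open EtAlg

namespace Groth.Agent.S1974

open TensorProduct
namespace Aux

open IsLocalRing in
theorem local_case (R S : Type u) [CommRing R] [CommRing S] [IsLocalRing R] [IsLocalRing S]
    [Algebra R S] [IsLocalHom (algebraMap R S)] [Algebra.WeaklyEtale R S] :
    Algebra.IsSeparable (ResidueField R) (ResidueField S) := by
  haveI : IsScalarTower R (ResidueField R) (ResidueField S) := inferInstance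
  haveI : IsScalarTower R S (ResidueField S) := inferInstance
  -- C = k ⊗[R] S is weakly étale over the field k, hence absolutely flat
  have habs : ∀ (N : Type u) [AddCommGroup N] [Module (ResidueField R ⊗[R] S) N],
      Module.Flat (ResidueField R ⊗[R] S) N := by
    intro N _ _
    letI : Module (ResidueField R) N :=
      Module.compHom N (algebraMap (ResidueField R) (ResidueField R ⊗[R] S))
    haveI : IsScalarTower (ResidueField R) (ResidueField R ⊗[R] S) N :=
      IsScalarTower.of_compHom (ResidueField R) (ResidueField R ⊗[R] S) N
    exact Helper5.WEt.flat_of_flat_lmul' (ResidueField R) (ResidueField R ⊗[R] S)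
      (Algebra.WeaklyEtale.flat_lmul' (ResidueField R) (ResidueField R ⊗[R] S)) N
  let φ : ResidueField R ⊗[R] S →ₐ[ResidueField R] ResidueField S :=
    Algebra.TensorProduct.lift (Algebra.ofId (ResidueField R) (ResidueField S))
      (IsScalarTower.toAlgHom R S (ResidueField S)) (fun _ _ => Commute.all _ _)
  have hφ : Function.Surjective φ := by
    intro y
    obtain ⟨s, rfl⟩ := IsLocalRing.residue_surjective y
    exact ⟨1 ⊗ₜ s, by simp [φ]⟩
  letI : Algebra (ResidueField R ⊗[R] S) (ResidueField S) := φ.toRingHom.toAlgebra
  haveI : IsScalarTower (ResidueField R) (ResidueField R ⊗[R] S) (ResidueField S) :=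
    IsScalarTower.of_algebraMap_eq' φ.comp_algebraMap.symm
  haveI : Module.Flat (ResidueField R ⊗[R] S) (ResidueField S) := habs _
  haveI : Algebra.IsEpi (ResidueField R ⊗[R] S) (ResidueField S) :=
    Algebra.isEpi_of_surjective_algebraMap _ _ hφ
  haveI : Algebra.WeaklyEtale (ResidueField R ⊗[R] S) (ResidueField S) :=
    Helper5.WEt.weaklyEtale_of_isEpi_of_flat _ _
  haveI : Algebra.WeaklyEtale (ResidueField R) (ResidueField S) :=
    Algebra.WeaklyEtale.trans (ResidueField R) (ResidueField R ⊗[R] S) (ResidueField S)
  exact Groth.Agent.Helper2.WE.isSeparable_of_weaklyEtale (ResidueField R) (ResidueField S)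

theorem main (A B : Type u) [CommRing A] [CommRing B] [Algebra A B]
    [Algebra.WeaklyEtale A B] (p : Ideal A) [p.IsPrime] (q : Ideal B) [q.IsPrime] [q.LiesOver p]
    [Algebra (Localization.AtPrime p) (Localization.AtPrime q)]
    [Localization.AtPrime.IsLiesOverAlgebra p q] :
    Algebra.IsSeparable p.ResidueField q.ResidueField := by
  haveI : Algebra.WeaklyEtale B (Localization.AtPrime q) :=
    Helper5.WEt.weaklyEtale_of_isLocalization q.primeCompl _
  haveI : Algebra.WeaklyEtale A (Localization.AtPrime q) :=
    Algebra.WeaklyEtale.trans A B (Localization.AtPrime q)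
  haveI : Algebra.WeaklyEtale A (Localization.AtPrime p) :=
    Helper5.WEt.weaklyEtale_of_isLocalization p.primeCompl _
  haveI : IsScalarTower A (Localization.AtPrime p) (Localization.AtPrime q) := inferInstance
  haveI : Algebra.WeaklyEtale (Localization.AtPrime p) (Localization.AtPrime q) :=
    Helper5.WEt.weaklyEtale_of_algHom A (Localization.AtPrime p) (Localization.AtPrime q)
  exact local_case (Localization.AtPrime p) (Localization.AtPrime q)

end Aux

/-- Let A -> B be weakly etale and q a prime of B lying over the prime p of A. Then the residue field of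
q is a separable algebraic extension of the residue field of p. -/
theorem result (A B : Type u) [CommRing A] [CommRing B] [Algebra A B]
    [Algebra.WeaklyEtale A B] (p : Ideal A) [p.IsPrime] (q : Ideal B) [q.IsPrime] [q.LiesOver p]
    [Algebra (Localization.AtPrime p) (Localization.AtPrime q)] [Localization.AtPrime.IsLiesOverAlgebra p q] :
    Algebra.IsSeparable p.ResidueField q.ResidueField := by
  exact Aux.main A B p q

end Groth.Agent.S1974
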