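import Groth.Statements.S19748
import Mathlib
import Groth.Prelude.Def_GrSeg
import Groth.Prelude.Def_GrLC
import Groth.Agent.Lib.Helper9.Segre.Basic
-- import your own Groth.Agent.* helpers here

set_option autoImplicit false
universe u
open scoped TensorProduct
open GrSegre

namespace Groth.Agent.S19748

open scoped TensorProduct
open DirectSum
namespace Aux
open Groth.Agent.Helper9.GrLCLib Groth.Agent.Helper9.SegreLib

lemma bij_pow {R M : Type u} [CommRing R] [AddCommGroup M] [Module R M] (f : R)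
    (hf : Function.Bijective (fun x : M => f • x)) (e : ℕ) :
    Function.Bijective (fun x : M => f ^ e • x) := by
  induction e with
  | zero => simp only [pow_zero, one_smul]; exact Function.bijective_id
  | succ e ih =>
    have : (fun x : M => f ^ (e + 1) • x) = (fun x : M => f ^ e • x) ∘ (fun x : M => f • x) := by
      funext x
      simp only [Function.comp_apply]
      rw [pow_succ, mul_smul]
    rw [this]
    exact ih.comp hf

/-- preimages of homogeneous elements under an injective homogeneous multiplication -/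
lemma preimage_homog {R M : Type u} [CommRing R] [AddCommGroup M] [Module R M]
    (𝒜 : ℤ → AddSubgroup R) [GradedRing 𝒜] (ℳ : ℤ → AddSubgroup M) [DirectSum.Decomposition ℳ]
    [SetLike.GradedSMul 𝒜 ℳ] {c : ℤ} {r : R} (hr : r ∈ 𝒜 c)
    (hinj : Function.Injective (fun x : M => r • x)) {n : ℤ} {x' : M} (hx : r • x' ∈ ℳ n) :
    x' ∈ ℳ (n - c) := by
  have h1 := proj_smul_of_mem' 𝒜 ℳ hr x' n
  rw [proj_of_mem_same ℳ hx] at h1
  have h2 : x' = proj ℳ (n - c) x' := hinj h1
  rw [h2]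
  exact proj_mem ℳ _ _

theorem main (k : Type u) [Field k] (R : Type u) [CommRing R] [Algebra k R] (𝒜 : ℤ → Submodule k R) [GradedAlgebra 𝒜] (hposR : ∀ n : ℤ, n < 0 → 𝒜 n = ⊥) (h0R : 𝒜 0 = Submodule.span k {(1 : R)}) [Algebra.FiniteType k R] (S : Type u) [CommRing S] [Algebra k S] (ℬ : ℤ → Submodule k S) [GradedAlgebra ℬ] (hposS : ∀ n : ℤ, n < 0 → ℬ n = ⊥) (h0S : ℬ 0 = Submodule.span k {(1 : S)}) [Algebra.FiniteType k S] (T : Type u) [CommRing T] [Algebra k T] (𝒯 : ℤ → Submodule k T) [GradedAlgebra 𝒯] (ψ : T →ₐ[k] TensorProduct k R S) (hT : GrSeg.IsSegreRing 𝒜 ℬ 𝒯 ψ) (M : Type u) [AddCommGroup M] [Module R M] [Module k M] [IsScalarTower k R M] (ℳ : ℤ → AddSubgroup M) [DirectSum.Decomposition ℳ] [SetLike.GradedSMul 𝒜 ℳ] (N : Type u) [AddCommGroup N] [Module S N] [Module k N] [IsScalarTower k S N] (𝒩 : ℤ → AddSubgroup N) [DirectSum.Decomposition 𝒩] [SetLike.GradedSMul ℬ 𝒩] (P : Type u) [AddCommGroup P] [Module T P] [Module k P] [IsScalarTower k T P] (𝒬 :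 ℤ → AddSubgroup P) [DirectSum.Decomposition 𝒬] (φ : P →ₗ[k] TensorProduct k M N) (hP : GrSeg.IsSegreMod ψ ℳ 𝒩 𝒬 φ) (d : ℕ) (hd : 0 < d) (f : R) (hf : f ∈ 𝒜 (d : ℤ)) (hfM : Function.Bijective (fun x : M => f • x)) (e : ℕ) (he : 0 < e) (g : S) (hg : g ∈ ℬ (e : ℤ)) (hgN : Function.Bijective (fun y : N => g • y)) : ∃ (c : ℤ) (t : T), 0 < c ∧ t ∈ 𝒯 c ∧ Function.Bijective (fun p : P => t • p) := by
  classical
  have hgsM := Trans.gsmulToAG' 𝒜 ℳ
  have hgsN := Trans.gsmulToAG' ℬ 𝒩
  have hfe : f ^ e ∈ 𝒜 ((d : ℤ) * e) := by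
    have := SetLike.pow_mem_graded e hf
    rw [nsmul_eq_mul, mul_comm] at this
    exact this
  have hgd : g ^ d ∈ ℬ ((d : ℤ) * e) := by
    have := SetLike.pow_mem_graded d hg
    rw [nsmul_eq_mul] at this
    exact this
  have hfeb := bij_pow f hfM e
  have hgdb := bij_pow g hgN d
  obtain ⟨t, ht, hψt⟩ := exists_ring_of_tmul hT hfe hgd
  refine ⟨(d : ℤ) * e, t, by positivity, ht, ?_, ?_⟩
  · -- injectivity
    let Lf : M ≃ₗ[k] M := LinearEquiv.ofBijective (Algebra.lsmul k k M (f ^ e)) hfeb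
    let Lg : N ≃ₗ[k] N := LinearEquiv.ofBijective (Algebra.lsmul k k N (g ^ d)) hgdb
    have hact : ∀ z : M ⊗[k] N, GrSeg.act k R S M N ((f ^ e) ⊗ₜ[k] (g ^ d)) z =
        TensorProduct.congr Lf Lg z := by
      intro z
      induction z using TensorProduct.induction_on with
      | zero => simp
      | tmul x y => rw [GrSeg.act_tmul, TensorProduct.congr_tmul]; rfl
      | add z z' hz hz' => rw [map_add, map_add, hz, hz']
    intro p p' hpp'
    have h1 : φ (t • p) = φ (t • p') := congrArg φ hpp'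
    rw [hP.map_smul, hP.map_smul, hψt, hact, hact] at h1
    exact hP.injective ((TensorProduct.congr Lf Lg).injective h1)
  · -- surjectivity
    have key : ∀ (n : ℤ) (z : M ⊗[k] N), z ∈ GrSeg.segrePiece k ℳ 𝒩 n → ∃ p' : P, φ (t • p') = z := by
      intro n z hz
      refine Submodule.span_induction (p := fun z _ => ∃ p' : P, φ (t • p') = z) ?_ ?_ ?_ ?_ hz
      · rintro _ ⟨x, hx, y, hy, rfl⟩
        obtain ⟨x', rfl⟩ := hfeb.2 x
        obtain ⟨y', rfl⟩ := hgdb.2 y
        have hx' : x' ∈ ℳ (n - (d : ℤ) * e) :=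
          preimage_homog (Trans.toAG 𝒜) ℳ (show f ^ e ∈ Trans.toAG 𝒜 _ from hfe) hfeb.1 hx
        have hy' : y' ∈ 𝒩 (n - (d : ℤ) * e) :=
          preimage_homog (Trans.toAG ℬ) 𝒩 (show g ^ d ∈ Trans.toAG ℬ _ from hgd) hgdb.1 hy
        obtain ⟨p', _, hp'⟩ := exists_of_tmul hP hx' hy'
        exact ⟨p', by rw [hP.map_smul, hψt, hp', GrSeg.act_tmul]⟩
      · exact ⟨0, by simp⟩
      · rintro z z' _ _ ⟨p₁, h₁⟩ ⟨p₂, h₂⟩
        exact ⟨p₁ + p₂, by rw [smul_add, map_add, h₁, h₂]⟩
      · rintro c z _ ⟨p₁, h₁⟩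
        exact ⟨c • p₁, by rw [smul_comm, map_smul, h₁]⟩
    intro p
    induction p using DirectSum.Decomposition.inductionOn 𝒬 with
    | zero => exact ⟨0, smul_zero t⟩
    | @homogeneous n p =>
      obtain ⟨p', hp'⟩ := key n (φ p) ((mem_piece_iff hP n p).mp p.2)
      exact ⟨p', hP.injective hp'⟩
    | add p p' hp hp' =>
      obtain ⟨q, hq⟩ := hp
      obtain ⟨q', hq'⟩ := hp'
      exact ⟨q + q', by simp only [smul_add]; rw [← hq, ← hq']⟩

end Aux

/-- Let R and S be graded rings defined over a field k with Segre product T = R # S, M a graded R-module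
and N a graded S-module. Suppose that multiplication by some homogeneous element f ∈ R_d of positive
degree d is bijective on M and multiplication by some homogeneous g ∈ S_e of positive degree e is
bijective on N. Then multiplication by some homogeneous element of T of positive degree is bijective
on M # N. Here a graded ring defined over k is a commutative k-algebra of finite type, graded in
nonnegative degrees by k-subspaces with degree-zero part k·1; the Segre product T = R # S = ⊕_n R_n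
⊗_k S_n is presented abstractly as a graded k-algebra T with an injective k-algebra homomorphism ψ :
T → R ⊗_k S carrying T_n onto the k-span of the elementary tensors a ⊗ b with a ∈ R_n, b ∈ S_n; the
Segre product M # N = ⊕_n M_n ⊗_k N_n of a graded R-module M and a graded S-module N is presented
abstractly as a graded T-module P with an injective k-linear map φ : P → M ⊗_k N carrying P_n onto
the k-span of the tensors x ⊗ y with x ∈ M_n, y ∈ N_n and turning the action of t ∈ T into that of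
ψ(t) (acting factorwise on M ⊗_k N). -/
theorem result (k : Type u) [Field k] (R : Type u) [CommRing R] [Algebra k R] (𝒜 : ℤ → Submodule k R) [GradedAlgebra 𝒜] (hposR : ∀ n : ℤ, n < 0 → 𝒜 n = ⊥) (h0R : 𝒜 0 = Submodule.span k {(1 : R)}) [Algebra.FiniteType k R] (S : Type u) [CommRing S] [Algebra k S] (ℬ : ℤ → Submodule k S) [GradedAlgebra ℬ] (hposS : ∀ n : ℤ, n < 0 → ℬ n = ⊥) (h0S : ℬ 0 = Submodule.span k {(1 : S)}) [Algebra.FiniteType k S] (T : Type u) [CommRing T] [Algebra k T] (𝒯 : ℤ → Submodule k T) [GradedAlgebra 𝒯] (ψ : T →ₐ[k] TensorProduct k R S) (hT : GrSeg.IsSegreRing 𝒜 ℬ 𝒯 ψ) (M : Type u) [AddCommGroup M] [Module R M] [Module k M] [IsScalarTower k R M] (ℳ : ℤ → AddSubgroup M) [DirectSum.Decomposition ℳ] [SetLike.GradedSMul 𝒜 ℳ] (N : Type u) [AddCommGroup N] [Module S N] [Module k N] [IsScalarTower k S N] (𝒩 : ℤ → AddSubgroup N) [DirectSum.Decomposition 𝒩] [SetLike.GradedSMul ℬ 𝒩] (P : Type u) [AddCommGroup P] [Module T P] [Module k P] [IsScalarTower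 k T P] (𝒬 : ℤ → AddSubgroup P) [DirectSum.Decomposition 𝒬] (φ : P →ₗ[k] TensorProduct k M N) (hP : GrSeg.IsSegreMod ψ ℳ 𝒩 𝒬 φ) (d : ℕ) (hd : 0 < d) (f : R) (hf : f ∈ 𝒜 (d : ℤ)) (hfM : Function.Bijective (fun x : M => f • x)) (e : ℕ) (he : 0 < e) (g : S) (hg : g ∈ ℬ (e : ℤ)) (hgN : Function.Bijective (fun y : N => g • y)) : ∃ (c : ℤ) (t : T), 0 < c ∧ t ∈ 𝒯 c ∧ Function.Bijective (fun p : P => t • p) := by
  exact Aux.main k R 𝒜 hposR h0R S ℬ hposS h0S T 𝒯 ψ hT M ℳ N 𝒩 P 𝒬 φ hP d hd f hf hfM e he g hg hgN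

end Groth.Agent.S19748
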