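import Groth.Statements.S19749
import Mathlib
import Groth.Prelude.Def_GrSeg
import Groth.Prelude.Def_GrLC
import Groth.Agent.Lib.Helper9.Segre.Basic
-- import your own Groth.Agent.* helpers here

set_option autoImplicit false
universe u
open scoped TensorProduct
open GrSegre

namespace Groth.Agent.S19749

open scoped TensorProduct
open DirectSum
namespace Aux
open Groth.Agent.Helper9.GrLCLib Groth.Agent.Helper9.SegreLib

theorem main (k : Type u) [Field k] (R : Type u) [CommRing R] [Algebra k R] (𝒜 : ℤ → Submodule k R) [GradedAlgebra 𝒜] (hposR : ∀ n : ℤ, n < 0 → 𝒜 n = ⊥) (h0R : 𝒜 0 = Submodule.span k {(1 : R)}) [Algebra.FiniteType k R] (S : Type u) [CommRing S] [Algebra k S] (ℬ : ℤ → Submodule k S) [GradedAlgebra ℬ] (hposS : ∀ n : ℤ, n < 0 → ℬ n = ⊥) (h0S : ℬ 0 = Submodule.span k {(1 : S)}) [Algebra.FiniteType k S] (T : Type u) [CommRing T] [Algebra k T] (𝒯 : ℤ → Submodule k T) [GradedAlgebra 𝒯] (ψ : T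 →ₐ[k] TensorProduct k R S) (hT : GrSeg.IsSegreRing 𝒜 ℬ 𝒯 ψ) (hstdR : Ideal.span (⋃ n ∈ Set.Ioi (0 : ℤ), (𝒜 n : Set R)) = Ideal.span ((𝒜 1 : Submodule k R) : Set R)) (hstdS : Ideal.span (⋃ n ∈ Set.Ioi (0 : ℤ), (ℬ n : Set S)) = Ideal.span ((ℬ 1 : Submodule k S) : Set S)) (hr1 : 1 ≤ ringKrullDim R) (hs1 : 1 ≤ ringKrullDim S) (M : Type u) [AddCommGroup M] [Module R M] [Module k M] [IsScalarTower k R M] (ℳ : ℤ → AddSubgroup M) [DirectSum.Decomposition ℳ] [SetLike.GradedSMul 𝒜 ℳ] (N : Type u) [AddCommGroup N] [Module S N] [Module k N] [IsScalarTower k S N] (𝒩 : ℤ → AddSubgroup N) [DirectSum.Decomposition 𝒩] [SetLike.GradedSMul ℬ 𝒩] (P : Type u) [AddCommGroup P] [Module T P] [Module k P] [IsScalarTower k T P] (𝒬 : ℤ → AddSubgroup P) [DirectSum.Decomposition 𝒬] (φ : P →ₗ[k] TensorProduct k M N) (hP : GrSeg.IsSegreMod ψ ℳ 𝒩 𝒬 φ) (n : ℤ) (hNn : ∀ m : ℤ, n ≤ m → 𝒩 m ≠ ⊥) (x : M) (hx : x ∈ ℳ n) (y : N) (hy : y ∈ 𝒩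 n) (p : P) (hp : φ p = x ⊗ₜ[k] y) (hgen : Submodule.span T {p} = ⊤) (d : ℤ) (hd : 0 ≤ d) (z : M) (hz : z ∈ ℳ (n + d)) : ∃ r ∈ 𝒜 d, r • x = z := by
  classical
  have hM : ∀ (i j : ℤ) (r : R) (x : M), r ∈ 𝒜 i → x ∈ ℳ j → r • x ∈ ℳ (i + j) := by
    intro i j r x hr hx
    have := SetLike.GradedSMul.smul_mem (A := 𝒜) (B := ℳ) hr hx
    rwa [vadd_eq_add] at this
  have hN : ∀ (i j : ℤ) (s : S) (y : N), s ∈ ℬ i → y ∈ 𝒩 j → s • y ∈ 𝒩 (i + j) := by
    intro i j r x hr hx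
    have := SetLike.GradedSMul.smul_mem (A := ℬ) (B := 𝒩) hr hx
    rwa [vadd_eq_add] at this
  have hgs : SetLike.GradedSMul (Trans.toAG 𝒯) 𝒬 := gradedSMul hP hT hM hN
  -- a nonzero element of `N_{n+d}` and a functional
  obtain ⟨w, hw, hw0⟩ : ∃ w ∈ 𝒩 (n + d), w ≠ 0 := by
    by_contra hcon
    apply hNn (n + d) (by omega)
    rw [eq_bot_iff]
    intro w hw
    by_contra hw0
    exact hcon ⟨w, hw, fun h => hw0 (by rw [h]; exact AddSubgroup.zero_mem _)⟩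
  obtain ⟨lam, hlam⟩ : ∃ lam : N →ₗ[k] k, lam w = 1 := by
    obtain ⟨f, hf⟩ : ∃ f : Module.Dual k N, f w ≠ 0 := by
      by_contra hcon
      apply hw0
      rw [← Module.forall_dual_apply_eq_zero_iff k w]
      intro f
      by_contra hf
      exact hcon ⟨f, hf⟩
    refine ⟨(f w)⁻¹ • f, ?_⟩
    rw [LinearMap.smul_apply, smul_eq_mul, inv_mul_cancel₀ hf]
  let Lam : M ⊗[k] N →ₗ[k] M :=
    (TensorProduct.rid k M).toLinearMap ∘ₗ TensorProduct.map LinearMap.id lam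
  have hLam : ∀ (m : M) (n' : N), Lam (m ⊗ₜ[k] n') = lam n' • m := by
    intro m n'
    simp [Lam]
  -- the element of `P`
  have hpn : p ∈ 𝒬 n := by
    rw [mem_piece_iff hP, hp]
    exact tmul_mem_segrePiece ℳ 𝒩 hx hy
  obtain ⟨p'', hp''mem, hp''⟩ := exists_of_tmul hP hz hw
  have hp''span : p'' ∈ Submodule.span T {p} := by rw [hgen]; exact Submodule.mem_top
  obtain ⟨t, rfl⟩ := Submodule.mem_span_singleton.mp hp''span
  have h1 := proj_smul_of_mem_right' (Trans.toAG 𝒯) 𝒬 hpn t (n + d)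
  rw [proj_of_mem_same 𝒬 hp''mem, add_sub_cancel_left] at h1
  have htd : ((decompose (Trans.toAG 𝒯) t d : Trans.toAG 𝒯 d) : T) ∈ 𝒯 d :=
    (decompose (Trans.toAG 𝒯) t d).2
  have hψtd := map_mem_segrePiece hT htd
  let V : Submodule k M := (𝒜 d).map ((LinearMap.toSpanSingleton R M x).restrictScalars k)
  have hclaim : GrSeg.segrePiece k 𝒜 ℬ d ≤
      V.comap (Lam ∘ₗ (GrSeg.act k R S M N).flip (x ⊗ₜ[k] y)) := by
    apply segrePiece_le
    intro r hr s _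
    rw [Submodule.mem_comap, LinearMap.comp_apply, LinearMap.flip_apply, GrSeg.act_tmul, hLam]
    refine Submodule.mem_map.mpr ⟨lam (s • y) • r, Submodule.smul_mem _ _ hr, ?_⟩
    simp [LinearMap.toSpanSingleton_apply]
  have h2 := hclaim hψtd
  rw [Submodule.mem_comap, LinearMap.comp_apply, LinearMap.flip_apply, ← hp, ← hP.map_smul,
    ← h1, hp'', hLam, hlam, one_smul] at h2
  obtain ⟨r, hr, hrz⟩ := Submodule.mem_map.mp h2
  exact ⟨r, hr, hrz⟩

end Aux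

/-- Let R and S be graded rings defined over a field k, both generated over k by their degree-one parts
and of positive Krull dimension, T = R # S, M a graded R-module and N a graded S-module, n an
integer with N_m ≠ 0 for every m ≥ n, and x ∈ M_n, y ∈ N_n. If x # y generates M # N as a T-module,
then R_d x = M_{n+d} for every d ≥ 0 (every element of M_{n+d} is r x for some r ∈ R_d). Here a
graded ring defined over k is a commutative k-algebra of finite type, graded in nonnegative degrees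
by k-subspaces with degree-zero part k·1; the Segre product T = R # S = ⊕_n R_n ⊗_k S_n is presented
abstractly as a graded k-algebra T with an injective k-algebra homomorphism ψ : T → R ⊗_k S carrying
T_n onto the k-span of the elementary tensors a ⊗ b with a ∈ R_n, b ∈ S_n; the Segre product M # N =
⊕_n M_n ⊗_k N_n of a graded R-module M and a graded S-module N is presented abstractly as a graded
T-module P with an injective k-linear map φ : P → M ⊗_k N carrying P_n onto the k-span of the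
tensors x ⊗ y with x ∈ M_n, y ∈ N_n and turning the action of t ∈ T into that of ψ(t) (acting
factorwise on M ⊗_k N), and x # y is the element of P mapped to x ⊗ y. -/
theorem result (k : Type u) [Field k] (R : Type u) [CommRing R] [Algebra k R] (𝒜 : ℤ → Submodule k R) [GradedAlgebra 𝒜] (hposR : ∀ n : ℤ, n < 0 → 𝒜 n = ⊥) (h0R : 𝒜 0 = Submodule.span k {(1 : R)}) [Algebra.FiniteType k R] (S : Type u) [CommRing S] [Algebra k S] (ℬ : ℤ → Submodule k S) [GradedAlgebra ℬ] (hposS : ∀ n : ℤ, n < 0 → ℬ n = ⊥) (h0S : ℬ 0 = Submodule.span k {(1 : S)}) [Algebra.FiniteType k S] (T : Type u) [CommRing T] [Algebra k T] (𝒯 : ℤ → Submodule k T) [GradedAlgebra 𝒯] (ψ : T →ₐ[k] TensorProduct k R S) (hT : GrSeg.IsSegreRing 𝒜 ℬ 𝒯 ψ) (hstdR : Ideal.span (⋃ n ∈ Set.Ioi (0 : ℤ), (𝒜 n : Set R)) = Ideal.span ((𝒜 1 : Submodule k R) : Set R)) (hstdS : Ideal.span (⋃ n ∈ Set.Ioi (0 : ℤ), (ℬ n : Set S)) = Ideal.span ((ℬ 1 : Submodule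 k S) : Set S)) (hr1 : 1 ≤ ringKrullDim R) (hs1 : 1 ≤ ringKrullDim S) (M : Type u) [AddCommGroup M] [Module R M] [Module k M] [IsScalarTower k R M] (ℳ : ℤ → AddSubgroup M) [DirectSum.Decomposition ℳ] [SetLike.GradedSMul 𝒜 ℳ] (N : Type u) [AddCommGroup N] [Module S N] [Module k N] [IsScalarTower k S N] (𝒩 : ℤ → AddSubgroup N) [DirectSum.Decomposition 𝒩] [SetLike.GradedSMul ℬ 𝒩] (P : Type u) [AddCommGroup P] [Module T P] [Module k P] [IsScalarTower k T P] (𝒬 : ℤ → AddSubgroup P) [DirectSum.Decomposition 𝒬] (φ : P →ₗ[k] TensorProduct k M N) (hP : GrSeg.IsSegreMod ψ ℳ 𝒩 𝒬 φ) (n : ℤ) (hNn : ∀ m : ℤ, n ≤ m → 𝒩 m ≠ ⊥) (x : M) (hx : x ∈ ℳ n) (y : N) (hy : y ∈ 𝒩 n) (p : P) (hp : φ p = x ⊗ₜ[k] y) (hgen : Submodule.span T {p} = ⊤) (d : ℤ) (hd : 0 ≤ d) (z : M) (hz : z ∈ ℳ (n + d)) : ∃ r ∈ 𝒜 d, r • x = z := by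
  exact Aux.main k R 𝒜 hposR h0R S ℬ hposS h0S T 𝒯 ψ hT hstdR hstdS hr1 hs1 M ℳ N 𝒩 P 𝒬 φ hP n hNn x hx y hy p hp hgen d hd z hz

end Groth.Agent.S19749
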