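import Groth.Statements.S19750
import Mathlib
import Groth.Prelude.Def_GrSeg
import Groth.Prelude.Def_GrLC
import Groth.Agent.Lib.Helper9.Segre.Basic
-- import your own Groth.Agent.* helpers here

set_option autoImplicit false
universe u
open scoped TensorProduct
open GrSegre

namespace Groth.Agent.S19750

open scoped TensorProduct
open DirectSum
namespace Aux
open Groth.Agent.Helper9.GrLCLib Groth.Agent.Helper9.SegreLib

/-- standard graded: elements of degree `j + 1` are sums of products of elements of degrees `j`, `1` -/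
lemma exists_sum_mul {k R : Type u} [Field k] [CommRing R] [Algebra k R] (𝒜 : ℤ → Submodule k R)
    [GradedAlgebra 𝒜]
    (hstd : Ideal.span (⋃ n ∈ Set.Ioi (0 : ℤ), (𝒜 n : Set R)) =
      Ideal.span ((𝒜 1 : Submodule k R) : Set R))
    (j : ℤ) (hj : 0 ≤ j) (r : R) (hr : r ∈ 𝒜 (j + 1)) :
    ∃ (n : ℕ) (f g : Fin n → R), (∀ i, f i ∈ 𝒜 j) ∧ (∀ i, g i ∈ 𝒜 1) ∧ r = ∑ i, f i * g i := by
  have hra : r ∈ Ideal.span ((𝒜 1 : Submodule k R) : Set R) := by
    rw [← hstd]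
    exact Ideal.subset_span (Set.mem_biUnion (Set.mem_Ioi.mpr (by omega)) hr)
  obtain ⟨n, f, g, rfl⟩ := Submodule.mem_span_set'.mp hra
  refine ⟨n, fun i => proj (Trans.toAG 𝒜) j (f i), fun i => (g i : R),
    fun i => proj_mem (Trans.toAG 𝒜) j (f i), fun i => (g i).2, ?_⟩
  have hr' : (∑ i, f i • (g i : R)) ∈ Trans.toAG 𝒜 (j + 1) := hr
  have h1 := proj_of_mem_same (Trans.toAG 𝒜) hr'
  rw [map_sum] at h1
  rw [← h1]
  refine Finset.sum_congr rfl (fun i _ => ?_)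
  have hg : (g i : R) ∈ Trans.toAG 𝒜 1 := (g i).2
  rw [proj_smul_of_mem_right' (Trans.toAG 𝒜) (Trans.toAG 𝒜) hg (f i) (j + 1), add_sub_cancel_right]
  rfl

section

variable {k : Type u} [Field k] {R : Type u} [CommRing R] [Algebra k R] (𝒜 : ℤ → Submodule k R)
  [GradedAlgebra 𝒜] {S : Type u} [CommRing S] [Algebra k S] (ℬ : ℤ → Submodule k S)
  [GradedAlgebra ℬ] {T : Type u} [CommRing T] [Algebra k T] (𝒯 : ℤ → Submodule k T)
  [GradedAlgebra 𝒯] (ψ : T →ₐ[k] TensorProduct k R S) (hT : GrSeg.IsSegreRing 𝒜 ℬ 𝒯 ψ)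
  (a b : ℤ) {P : Type u} [AddCommGroup P] [Module T P] [Module k P] [IsScalarTower k T P]
  (𝒬 : ℤ → AddSubgroup P) [DirectSum.Decomposition 𝒬] (φ : P →ₗ[k] TensorProduct k R S)
  (hP : GrSeg.IsSegreMod ψ (fun n : ℤ => 𝒜 (n + a)) (fun n : ℤ => ℬ (n + b)) 𝒬 φ)

lemma hM_shift (i j : ℤ) (r : R) (x : R) (hr : r ∈ 𝒜 i) (hx : x ∈ (fun n : ℤ => 𝒜 (n + a)) j) :
    r • x ∈ (fun n : ℤ => 𝒜 (n + a)) (i + j) := by
  have := SetLike.GradedMul.mul_mem (A := 𝒜) hr hx
  rw [smul_eq_mul]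
  change r * x ∈ 𝒜 (i + j + a)
  rw [add_assoc]
  exact this

include hT in
lemma posT (hposR : ∀ n : ℤ, n < 0 → 𝒜 n = ⊥) (n : ℤ) (hn : n < 0) : Trans.toAG 𝒯 n = ⊥ := by
  rw [eq_bot_iff]
  intro t ht
  have h1 := map_mem_segrePiece hT (show t ∈ 𝒯 n from ht)
  have h2 : GrSeg.segrePiece k 𝒜 ℬ n ≤ ⊥ := by
    apply segrePiece_le
    intro x hx y _
    rw [hposR n hn, Submodule.mem_bot] at hx
    rw [hx, TensorProduct.zero_tmul]
    exact Submodule.zero_mem _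
  have h3 := h2 h1
  rw [Submodule.mem_bot] at h3
  have h4 : t = 0 := hT.1 (h3.trans (map_zero ψ).symm)
  rw [h4]
  exact AddSubgroup.zero_mem _

include hP in
lemma low (hposS : ∀ n : ℤ, n < 0 → ℬ n = ⊥) (j : ℤ) (hj : j < -b) (p : P) (hp : p ∈ 𝒬 j) :
    p = 0 := by
  have h1 := (mem_piece_iff hP j p).mp hp
  have h2 : GrSeg.segrePiece k (fun n : ℤ => 𝒜 (n + a)) (fun n : ℤ => ℬ (n + b)) j ≤ ⊥ := by
    apply segrePiece_le
    intro x _ y hy
    have hy' : y ∈ ℬ (j + b) := hy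
    rw [hposS (j + b) (by omega), Submodule.mem_bot] at hy'
    rw [hy', TensorProduct.tmul_zero]
    exact Submodule.zero_mem _
  have h3 := h2 h1
  rw [Submodule.mem_bot] at h3
  exact hP.injective (h3.trans (map_zero φ).symm)

include hT hP in
lemma high (hstdR : Ideal.span (⋃ n ∈ Set.Ioi (0 : ℤ), (𝒜 n : Set R)) =
      Ideal.span ((𝒜 1 : Submodule k R) : Set R))
    (hstdS : Ideal.span (⋃ n ∈ Set.Ioi (0 : ℤ), (ℬ n : Set S)) =
      Ideal.span ((ℬ 1 : Submodule k S) : Set S))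
    (mT : Ideal T) (hmT : mT = Ideal.span (⋃ n ∈ Set.Ioi (0 : ℤ), (𝒯 n : Set T)))
    (hab : b ≤ a) (j : ℤ) (hj : -b < j) (p : P) (hp : p ∈ 𝒬 j) :
    p ∈ mT • (⊤ : Submodule T P) := by
  have h1 := (mem_piece_iff hP j p).mp hp
  have h2 : GrSeg.segrePiece k (fun n : ℤ => 𝒜 (n + a)) (fun n : ℤ => ℬ (n + b)) j ≤
      ((mT • (⊤ : Submodule T P)).restrictScalars k).map φ := by
    apply segrePiece_le
    intro x hx y hy
    have hx' : x ∈ 𝒜 ((j + a - 1) + 1) := by rw [sub_add_cancel]; exact hx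
    have hy' : y ∈ ℬ ((j + b - 1) + 1) := by rw [sub_add_cancel]; exact hy
    obtain ⟨n₁, f₁, g₁, hf₁, hg₁, rfl⟩ := exists_sum_mul 𝒜 hstdR (j + a - 1) (by omega) x hx'
    obtain ⟨n₂, f₂, g₂, hf₂, hg₂, rfl⟩ := exists_sum_mul ℬ hstdS (j + b - 1) (by omega) y hy'
    rw [TensorProduct.sum_tmul]
    refine Submodule.sum_mem _ (fun i₁ _ => ?_)
    rw [TensorProduct.tmul_sum]
    refine Submodule.sum_mem _ (fun i₂ _ => ?_)
    obtain ⟨t, ht, hψt⟩ := exists_ring_of_tmul hT (hg₁ i₁) (hg₂ i₂)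
    have hf₁' : f₁ i₁ ∈ (fun n : ℤ => 𝒜 (n + a)) (j - 1) := by
      change f₁ i₁ ∈ 𝒜 (j - 1 + a)
      have : j - 1 + a = j + a - 1 := by ring
      rw [this]; exact hf₁ i₁
    have hf₂' : f₂ i₂ ∈ (fun n : ℤ => ℬ (n + b)) (j - 1) := by
      change f₂ i₂ ∈ ℬ (j - 1 + b)
      have : j - 1 + b = j + b - 1 := by ring
      rw [this]; exact hf₂ i₂
    obtain ⟨p', _, hφp'⟩ := exists_of_tmul hP hf₁' hf₂'
    have htm : t ∈ mT := by
      rw [hmT]
      exact Ideal.subset_span (Set.mem_biUnion (Set.mem_Ioi.mpr one_pos) ht)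
    have hmem : t • p' ∈ mT • (⊤ : Submodule T P) :=
      Submodule.smul_mem_smul htm Submodule.mem_top
    have he : φ (t • p') = (f₁ i₁ * g₁ i₁) ⊗ₜ[k] (f₂ i₂ * g₂ i₂) := by
      rw [hP.map_smul, hψt, hφp', GrSeg.act_tmul, smul_eq_mul, smul_eq_mul, mul_comm (g₁ i₁),
        mul_comm (g₂ i₂)]
    exact Submodule.mem_map.mpr ⟨t • p', (Submodule.restrictScalars_mem k _ _).mpr hmem, he⟩
  obtain ⟨p', hp', he⟩ := h2 h1
  rw [← hP.injective he]
  exact hp'

include hP in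
lemma image_low (h0S : ℬ 0 = Submodule.span k {(1 : S)}) (Q₀ : Submodule k P)
    (hQ₀ : (Q₀ : Set P) = (𝒬 (-b) : Set P)) :
    Q₀.map φ = (𝒜 (a - b)).map
      (Algebra.TensorProduct.includeLeft : R →ₐ[k] R ⊗[k] S).toLinearMap := by
  have h1 : Q₀.map φ =
      GrSeg.segrePiece k (fun n : ℤ => 𝒜 (n + a)) (fun n : ℤ => ℬ (n + b)) (-b) := by
    apply SetLike.coe_injective
    rw [Submodule.map_coe, hQ₀]
    exact hP.image_piece (-b)
  rw [h1]
  apply le_antisymm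
  · apply segrePiece_le
    intro x hx y hy
    have hx' : x ∈ 𝒜 (a - b) := by
      have : (-b + a) = a - b := by ring
      rw [← this]; exact hx
    have hy' : y ∈ ℬ 0 := by
      have : (-b + b) = 0 := by ring
      rw [← this]; exact hy
    rw [h0S, Submodule.mem_span_singleton] at hy'
    obtain ⟨c, rfl⟩ := hy'
    refine Submodule.mem_map.mpr ⟨c • x, Submodule.smul_mem _ c hx', ?_⟩
    change (c • x) ⊗ₜ[k] (1 : S) = x ⊗ₜ[k] (c • (1 : S))
    rw [TensorProduct.smul_tmul]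
  · rw [Submodule.map_le_iff_le_comap]
    intro x hx
    rw [Submodule.mem_comap]
    change x ⊗ₜ[k] (1 : S) ∈ _
    apply tmul_mem_segrePiece
    · change x ∈ 𝒜 (-b + a)
      have : (-b + a) = a - b := by ring
      rw [this]; exact hx
    · change (1 : S) ∈ ℬ (-b + b)
      have : (-b + b) = 0 := by ring
      rw [this]
      exact SetLike.GradedOne.one_mem (A := ℬ)

end

theorem main (k : Type u) [Field k] (R : Type u) [CommRing R] [Algebra k R] (𝒜 : ℤ → Submodule k R) [GradedAlgebra 𝒜] (hposR : ∀ n : ℤ, n < 0 → 𝒜 n = ⊥) (h0R : 𝒜 0 = Submodule.span k {(1 : R)}) [Algebra.FiniteType k R] (S : Type u) [CommRing S] [Algebra k S] (ℬ : ℤ → Submodule k S) [GradedAlgebra ℬ] (hposS : ∀ n : ℤ, n < 0 → ℬ n = ⊥) (h0S : ℬ 0 = Submodule.span k {(1 : S)}) [Algebra.FiniteType k S] (T : Type u) [CommRing T] [Algebra k T] (𝒯 : ℤ → Submodule k T) [GradedAlgebra 𝒯] (ψ : T →ₐ[k] TensorProduct k R S) (hT : GrSeg.IsSegreRing 𝒜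 ℬ 𝒯 ψ) (hstdR : Ideal.span (⋃ n ∈ Set.Ioi (0 : ℤ), (𝒜 n : Set R)) = Ideal.span ((𝒜 1 : Submodule k R) : Set R)) (hstdS : Ideal.span (⋃ n ∈ Set.Ioi (0 : ℤ), (ℬ n : Set S)) = Ideal.span ((ℬ 1 : Submodule k S) : Set S)) (hr1 : 1 ≤ ringKrullDim R) (hs1 : 1 ≤ ringKrullDim S) (mT : HomogeneousIdeal 𝒯) (hmT : mT.toIdeal = Ideal.span (⋃ n ∈ Set.Ioi (0 : ℤ), (𝒯 n : Set T))) (a b : ℤ) (hab : b ≤ a) (P : Type u) [AddCommGroup P] [Module T P] [Module k P] [IsScalarTower k T P] (𝒬 : ℤ → AddSubgroup P) [DirectSum.Decomposition 𝒬] (φ : P →ₗ[k] TensorProduct k R S) (hP : GrSeg.IsSegreMod ψ (fun n : ℤ => 𝒜 (n + a)) (fun n : ℤ => ℬ (n + b)) 𝒬 φ) : Module.finrank k (P ⧸ (mT.toIdeal • (⊤ : Submodule T P))) = Module.finrank k (𝒜 (a - b)) := by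
  classical
  have hgs : SetLike.GradedSMul (Trans.toAG 𝒯) 𝒬 :=
    gradedSMul hP hT (hM_shift 𝒜 a) (hM_shift ℬ b)
  have hposT := posT 𝒜 ℬ 𝒯 ψ hT hposR
  have hlow := low 𝒜 ℬ ψ a b 𝒬 φ hP hposS
  have hhigh := high 𝒜 ℬ 𝒯 ψ hT a b 𝒬 φ hP hstdR hstdS mT.toIdeal hmT hab
  -- `N` lives in degrees `> -b`
  have htop : (⊤ : Submodule T P) ≤ Pos.geS (Trans.toAG 𝒯) 𝒬 hposT (-b) := by
    intro p _ j hj
    exact hlow j hj _ (proj_mem 𝒬 j p)
  have hNge : mT.toIdeal • (⊤ : Submodule T P) ≤ Pos.geS (Trans.toAG 𝒯) 𝒬 hposT (-b + 1) := by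
    refine le_trans (Submodule.smul_mono le_rfl htop) ?_
    exact Pos.smul_geS_le (Trans.toAG 𝒯) 𝒬 hposT mT.toIdeal hmT (-b)
  -- the piece of degree `-b` as a subspace
  let Q₀ : Submodule k P :=
    { carrier := 𝒬 (-b)
      zero_mem' := (𝒬 (-b)).zero_mem
      add_mem' := (𝒬 (-b)).add_mem
      smul_mem' := fun c p hp => smul_mem_piece hP c hp }
  have hcompl : IsCompl ((mT.toIdeal • (⊤ : Submodule T P)).restrictScalars k) Q₀ := by
    constructor
    · rw [disjoint_iff, eq_bot_iff]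
      rintro p ⟨hp1, hp2⟩
      have h1 := hNge hp1 (-b) (by omega)
      rw [proj_of_mem_same 𝒬 (show p ∈ 𝒬 (-b) from hp2)] at h1
      exact (Submodule.mem_bot k).mpr h1
    · rw [codisjoint_iff, eq_top_iff]
      intro p _
      induction p using DirectSum.Decomposition.inductionOn 𝒬 with
      | zero => exact Submodule.zero_mem _
      | @homogeneous j p =>
        rcases lt_trichotomy j (-b) with hj | hj | hj
        · rw [hlow j hj p p.2]; exact Submodule.zero_mem _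
        · subst hj
          exact Submodule.mem_sup_right p.2
        · exact Submodule.mem_sup_left (hhigh j hj p p.2)
      | add p p' hp hp' => exact Submodule.add_mem _ (hp trivial) (hp' trivial)
  -- the chain of linear equivalences
  have e1 : (P ⧸ (mT.toIdeal • (⊤ : Submodule T P))) ≃ₗ[k] Q₀ :=
    (Submodule.Quotient.restrictScalarsEquiv k _).symm.trans
      (Submodule.quotientEquivOfIsCompl _ Q₀ hcompl)
  have e2 : Q₀ ≃ₗ[k] Q₀.map φ := Submodule.equivMapOfInjective φ hP.injective Q₀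
  have hSnt : Nontrivial S := by
    by_contra hcon
    rw [not_nontrivial_iff_subsingleton] at hcon
    rw [ringKrullDim_eq_bot_of_subsingleton] at hs1
    simp at hs1
  have hinj : Function.Injective
      (Algebra.TensorProduct.includeLeft : R →ₐ[k] R ⊗[k] S).toLinearMap :=
    Algebra.TensorProduct.includeLeft_injective (R := k) (S := k) (A := R) (B := S)
      (algebraMap k S).injective
  have himg := image_low 𝒜 ℬ ψ a b 𝒬 φ hP h0S Q₀ rfl
  have e3 : (𝒜 (a - b)) ≃ₗ[k] (𝒜 (a - b)).map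
      (Algebra.TensorProduct.includeLeft : R →ₐ[k] R ⊗[k] S).toLinearMap :=
    Submodule.equivMapOfInjective _ hinj (𝒜 (a - b))
  rw [LinearEquiv.finrank_eq e1, LinearEquiv.finrank_eq e2, himg, ← LinearEquiv.finrank_eq e3]

end Aux

/-- Let R and S be graded rings defined over a field k, both generated over k by their degree-one parts
and of positive Krull dimension, T = R # S with irrelevant ideal T_+, and let a ≥ b be integers.
Then the number of generators ν_T(R(a) # S(b)) = dim_k (R(a) # S(b)) / T_+ (R(a) # S(b)) equals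
dim_k R_{a−b}. Here a graded ring defined over k is a commutative k-algebra of finite type, graded
in nonnegative degrees by k-subspaces with degree-zero part k·1; the Segre product T = R # S = ⊕_n
R_n ⊗_k S_n is presented abstractly as a graded k-algebra T with an injective k-algebra homomorphism
ψ : T → R ⊗_k S carrying T_n onto the k-span of the elementary tensors a ⊗ b with a ∈ R_n, b ∈ S_n;
the Segre product R(a) # S(b) = ⊕_n R_{n+a} ⊗_k S_{n+b} of the shifted modules is presented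
abstractly as a graded T-module P with an injective k-linear map φ : P → R ⊗_k S carrying P_n onto
the k-span of the tensors x ⊗ y with x ∈ R_{n+a}, y ∈ S_{n+b} and turning the action of t ∈ T into
that of ψ(t); T_+ is the ideal spanned by the T_n with n > 0. -/
theorem result (k : Type u) [Field k] (R : Type u) [CommRing R] [Algebra k R] (𝒜 : ℤ → Submodule k R) [GradedAlgebra 𝒜] (hposR : ∀ n : ℤ, n < 0 → 𝒜 n = ⊥) (h0R : 𝒜 0 = Submodule.span k {(1 : R)}) [Algebra.FiniteType k R] (S : Type u) [CommRing S] [Algebra k S] (ℬ : ℤ → Submodule k S) [GradedAlgebra ℬ] (hposS : ∀ n : ℤ, n < 0 → ℬ n = ⊥) (h0S : ℬ 0 = Submodule.span k {(1 : S)}) [Algebra.FiniteType k S] (T : Type u) [CommRing T] [Algebra k T] (𝒯 : ℤ → Submodule k T) [GradedAlgebra 𝒯] (ψ : T →ₐ[k] TensorProduct k R S) (hT : GrSeg.IsSegreRing 𝒜 ℬ 𝒯 ψ) (hstdR : Ideal.span (⋃ n ∈ Set.Ioi (0 : ℤ), (𝒜 n : Set R)) = Ideal.span ((𝒜 1 : Submodule k R) : Set R)) (hstdS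 : Ideal.span (⋃ n ∈ Set.Ioi (0 : ℤ), (ℬ n : Set S)) = Ideal.span ((ℬ 1 : Submodule k S) : Set S)) (hr1 : 1 ≤ ringKrullDim R) (hs1 : 1 ≤ ringKrullDim S) (mT : HomogeneousIdeal 𝒯) (hmT : mT.toIdeal = Ideal.span (⋃ n ∈ Set.Ioi (0 : ℤ), (𝒯 n : Set T))) (a b : ℤ) (hab : b ≤ a) (P : Type u) [AddCommGroup P] [Module T P] [Module k P] [IsScalarTower k T P] (𝒬 : ℤ → AddSubgroup P) [DirectSum.Decomposition 𝒬] (φ : P →ₗ[k] TensorProduct k R S) (hP : GrSeg.IsSegreMod ψ (fun n : ℤ => 𝒜 (n + a)) (fun n : ℤ => ℬ (n + b)) 𝒬 φ) : Module.finrank k (P ⧸ (mT.toIdeal • (⊤ : Submodule T P))) = Module.finrank k (𝒜 (a - b)) := by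
  exact Aux.main k R 𝒜 hposR h0R S ℬ hposS h0S T 𝒯 ψ hT hstdR hstdS hr1 hs1 mT hmT a b hab P 𝒬 φ hP

end Groth.Agent.S19750
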