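import Groth.Statements.S19751
import Mathlib
import Groth.Prelude.Def_GrSeg
import Groth.Prelude.Def_GrLC
import Groth.Agent.Lib.Helper9.GDual.Basic
import Groth.Agent.Lib.Helper9.GDual.Socle
-- import your own Groth.Agent.* helpers here

set_option autoImplicit false
universe u
open GrDual

namespace Groth.Agent.S19751

open DirectSum
namespace Aux
open Groth.Agent.Helper9.GrLCLib Groth.Agent.Helper9.GDualLib

section Core

variable {k : Type u} [Field k] {R : Type u} [CommRing R] [Algebra k R]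
  (𝒜 : ℤ → AddSubgroup R) [GradedRing 𝒜]
  {F : Type u} [AddCommGroup F] [Module R F] [Module k F] [IsScalarTower k R F]
  (ℱ : ℤ → AddSubgroup F) [DirectSum.Decomposition ℱ] [SetLike.GradedSMul 𝒜 ℱ]
  {M : Type u} [AddCommGroup M] [Module R M] [Module k M] [IsScalarTower k R M]
  (ℳ : ℤ → AddSubgroup M) [DirectSum.Decomposition ℳ] [SetLike.GradedSMul 𝒜 ℳ]
  (f : F →ₗ[R] M) (hf : Function.Surjective f) (hfgr : GrLC.IsGrHom ℱ ℳ f)
  {DM : Type u} [AddCommGroup DM] [Module R DM] [Module k DM] [IsScalarTower k R DM]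
  (𝒟M : ℤ → AddSubgroup DM) [DirectSum.Decomposition 𝒟M] [SetLike.GradedSMul 𝒜 𝒟M]
  (βM : DM →ₗ[k] M →ₗ[k] k) (hDM : GrSeg.IsGDual R ℳ 𝒟M βM)
  {DF : Type u} [AddCommGroup DF] [Module R DF] [Module k DF] [IsScalarTower k R DF]
  (𝒟F : ℤ → AddSubgroup DF) [DirectSum.Decomposition 𝒟F] [SetLike.GradedSMul 𝒜 𝒟F]
  (βF : DF →ₗ[k] F →ₗ[k] k) (hDF : GrSeg.IsGDual R ℱ 𝒟F βF)
  (g : DM →ₗ[R] DF) (hg : GrSeg.IsGDualMap βM βF f g)

include hf hDM hg in
lemma g_injective : Function.Injective g := by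
  rw [injective_iff_map_eq_zero]
  intro d hd
  apply sepD ℳ 𝒟M βM hDM
  intro y
  obtain ⟨x, rfl⟩ := hf y
  rw [← hg d x, hd, map_zero, LinearMap.zero_apply]

omit [SetLike.GradedSMul 𝒜 ℱ] in
lemma mem_of_proj_ne_eq_zero {n : ℤ} {x : F} (h : ∀ m, m ≠ n → proj ℱ m x = 0) : x ∈ ℱ n := by
  have : x - proj ℱ n x = 0 := by
    apply Pos.eq_zero_of_proj_eq_zero ℱ
    intro m
    rw [map_sub]
    by_cases hm : m = n
    · subst hm
      rw [proj_of_mem_same ℱ (proj_mem ℱ m x), sub_self]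
    · rw [h m hm, proj_of_mem_ne ℱ (proj_mem ℱ n x) (Ne.symm hm), sub_zero]
  rw [sub_eq_zero.mp this]
  exact proj_mem ℱ n x

include hfgr hDM hDF hg in
lemma g_isGrHom : GrLC.IsGrHom 𝒟M 𝒟F g := by
  intro n d hd
  apply mem_of_proj_ne_eq_zero 𝒟F
  intro m hm
  apply hDF.eq_zero m _ (proj_mem 𝒟F m (g d))
  intro x hx
  have h1 := pair_eq_proj_left ℱ 𝒟F βF hDF hx (g d)
  rw [neg_neg] at h1
  rw [← h1, hg d x]
  exact hDM.vanish n d hd (-m) (fun h => hm (by omega)) (f x) (hfgr _ x hx)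

include hf hfgr hDM hDF hg in
/-- homogeneous elements of `F^*` vanishing on `ker f` are in the range of `f^*` -/
lemma mem_range_of_vanish {n : ℤ} {e : DF} (he : e ∈ 𝒟F n)
    (hv : ∀ x ∈ LinearMap.ker f, βF e x = 0) : e ∈ LinearMap.range g := by
  obtain ⟨s, hs⟩ := (f.restrictScalars k).exists_rightInverse_of_surjective
    (by rw [LinearMap.range_eq_top]; exact hf)
  have hs' : ∀ y, f (s y) = y := fun y => LinearMap.congr_fun hs y
  obtain ⟨d, hd, hdψ⟩ := hDM.exists_eq n ((βF e).comp s)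
  refine ⟨d, ?_⟩
  rw [← sub_eq_zero]
  apply sepD ℱ 𝒟F βF hDF
  intro x
  rw [map_sub, LinearMap.sub_apply, sub_eq_zero, hg d x]
  induction x using DirectSum.Decomposition.inductionOn ℱ with
  | zero => simp
  | @homogeneous m x =>
    by_cases hm : m = -n
    · subst hm
      rw [hdψ _ (hfgr _ _ x.2)]
      change βF e (s (f x)) = βF e x
      rw [← sub_eq_zero, ← map_sub]
      apply hv
      rw [LinearMap.mem_ker, map_sub, hs', sub_self]
    · rw [hDM.vanish n d hd m hm _ (hfgr _ _ x.2), hDF.vanish n e he m hm _ x.2]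
  | add x y hx hy => rw [map_add, map_add, map_add, hx, hy]

include hf hfgr hDM hDF hg in
theorem core (h : IsConn k 𝒜) [Module.Finite R F] (a : Ideal R)
    (ha : a = Ideal.span (⋃ n ∈ Set.Ioi (0 : ℤ), (𝒜 n : Set R))) :
    LinearMap.ker f ≤ a • (⊤ : Submodule R F) ↔ GrLC.IsStarEss 𝒟M 𝒟F g := by
  have hginj := g_injective ℳ f hf 𝒟M βM hDM βF g hg
  have hggr := g_isGrHom ℱ ℳ f hfgr 𝒟M βM hDM 𝒟F βF hDF g hg
  constructor
  · intro hker
    refine ⟨hginj, hggr, fun P hP hne => ?_⟩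
    obtain ⟨k₀, hk₀⟩ := exists_bdd_of_finite 𝒜 ℱ h
    have htors := isTorsion_dual 𝒜 ℱ 𝒟F βF hDF a ha h k₀ hk₀
    have h1 := inf_soc_ne_bot a htors P hne
    have hhom : (P ⊓ Submodule.torsionBySet R DF (a : Set R)).IsHomogeneous 𝒟F :=
      inf_isHomogeneous 𝒟F hP (soc_isHomogeneous 𝒜 ℱ 𝒟F βF hDF a ha)
    obtain ⟨n, e, heP, hen, he0⟩ := exists_homog_mem_ne_zero 𝒟F hhom h1
    have hsoc := (mem_soc_iff ℱ 𝒟F βF hDF a e).mp heP.2
    have her : e ∈ LinearMap.range g :=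
      mem_range_of_vanish ℱ ℳ f hf hfgr 𝒟M βM hDM 𝒟F βF hDF g hg hen
        (fun x hx => hsoc x (hker hx))
    intro hbot
    have : e ∈ P ⊓ LinearMap.range g := ⟨heP.1, her⟩
    rw [hbot, Submodule.mem_bot] at this
    exact he0 this
  · intro hess
    -- reduce to homogeneous elements
    have hKhom := ker_isHomogeneous ℱ ℳ hfgr
    have haFhom := smul_top_isHomogeneous 𝒜 ℱ a ha
    intro x hx
    classical
    have hsum : x = ∑ i ∈ (decompose ℱ x).support, (decompose ℱ x i : F) :=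
      (DirectSum.sum_support_decompose ℱ x).symm
    rw [hsum]
    refine Submodule.sum_mem _ (fun n _ => ?_)
    have hxn : proj ℱ n x ∈ LinearMap.ker f := hKhom n hx
    change proj ℱ n x ∈ _
    by_contra hnot
    -- a functional vanishing on `a F` and not at `proj n x`
    obtain ⟨ψ, hψx, hψ⟩ := Submodule.exists_dual_map_eq_bot_of_notMem
      (p := (a • (⊤ : Submodule R F)).restrictScalars k) (x := proj ℱ n x) hnot inferInstance
    have hψ0 : ∀ y ∈ a • (⊤ : Submodule R F), ψ y = 0 := by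
      intro y hy
      have : ψ y ∈ Submodule.map ψ ((a • (⊤ : Submodule R F)).restrictScalars k) := ⟨y, hy, rfl⟩
      rw [hψ] at this
      exact (Submodule.mem_bot k).mp this
    obtain ⟨e, he, heψ⟩ := hDF.exists_eq (-n) ψ
    have heψ' : ∀ y ∈ ℱ n, βF e y = ψ y := fun y hy => heψ y (by rw [neg_neg]; exact hy)
    have hex : βF e (proj ℱ n x) ≠ 0 := by rw [heψ' _ (proj_mem ℱ n x)]; exact hψx
    have he0 : e ≠ 0 := by
      intro h0
      rw [h0, map_zero, LinearMap.zero_apply] at hex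
      exact hex rfl
    have hesoc : e ∈ Submodule.torsionBySet R DF (a : Set R) := by
      rw [mem_soc_iff ℱ 𝒟F βF hDF a]
      intro y hy
      have h1 := pair_eq_proj_right ℱ 𝒟F βF hDF he y
      rw [neg_neg] at h1
      rw [h1, heψ' _ (proj_mem ℱ n y)]
      exact hψ0 _ (haFhom n hy)
    have hPne : Submodule.span R {e} ≠ ⊥ := by
      intro hb
      have : e ∈ Submodule.span R {e} := Submodule.mem_span_singleton_self e
      rw [hb, Submodule.mem_bot] at this
      exact he0 this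
    have hmeet := hess.essential (Submodule.span R {e})
      (span_singleton_isHomogeneous 𝒜 𝒟F he) hPne
    obtain ⟨q, hq, hq0⟩ := Submodule.exists_mem_ne_zero_of_ne_bot hmeet
    obtain ⟨r, hrq⟩ := Submodule.mem_span_singleton.mp hq.1
    obtain ⟨d, hdq⟩ := hq.2
    obtain ⟨c, hc⟩ := exists_sub_algebraMap_mem 𝒜 a ha h r
    have h1 : (r - algebraMap k R c) • e = 0 :=
      (Submodule.mem_torsionBySet_iff _ _).mp hesoc ⟨_, hc⟩
    have h2 : q = c • e := by
      rw [← hrq, ← algebraMap_smul R c e]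
      rw [sub_smul, sub_eq_zero] at h1
      exact h1
    have h3 : βF q (proj ℱ n x) = 0 := by
      rw [← hdq, hg d, LinearMap.mem_ker.mp hxn, map_zero]
    rw [h2, LinearMap.map_smul, LinearMap.smul_apply, smul_eq_mul] at h3
    rcases mul_eq_zero.mp h3 with h4 | h4
    · apply hq0
      rw [h2, h4, zero_smul]
    · exact hex h4

end Core

theorem main (k : Type u) [Field k] (R : Type u) [CommRing R] [Algebra k R] (𝒜 : ℤ → Submodule k R) [GradedAlgebra 𝒜] (hposR : ∀ n : ℤ, n < 0 → 𝒜 n = ⊥) (h0R : 𝒜 0 = Submodule.span k {(1 : R)}) [Algebra.FiniteType k R] (mR : HomogeneousIdeal 𝒜) (hmR : mR.toIdeal = Ideal.span (⋃ n ∈ Set.Ioi (0 : ℤ), (𝒜 n : Set R))) (F : Type u) [AddCommGroup F] [Module R F] [Module k F] [IsScalarTower k R F] (ℱ : ℤ → AddSubgroup F) [DirectSum.Decomposition ℱ] [SetLike.GradedSMul 𝒜 ℱ] [Module.Finite R F] (M : Type u) [AddCommGroup M] [Module R M] [Module k M] [IsScalarTower k R M] (ℳ : ℤ → AddSubgroup M) [DirectSum.Decomposition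 ℳ] [SetLike.GradedSMul 𝒜 ℳ] [Module.Finite R M] (f : F →ₗ[R] M) (hf : Function.Surjective f) (hfgr : GrLC.IsGrHom ℱ ℳ f) (DM : Type u) [AddCommGroup DM] [Module R DM] [Module k DM] [IsScalarTower k R DM] (𝒟M : ℤ → AddSubgroup DM) [DirectSum.Decomposition 𝒟M] [SetLike.GradedSMul 𝒜 𝒟M] (βM : DM →ₗ[k] M →ₗ[k] k) (hDM : GrSeg.IsGDual R ℳ 𝒟M βM) (DF : Type u) [AddCommGroup DF] [Module R DF] [Module k DF] [IsScalarTower k R DF] (𝒟F : ℤ → AddSubgroup DF) [DirectSum.Decomposition 𝒟F] [SetLike.GradedSMul 𝒜 𝒟F] (βF : DF →ₗ[k] F →ₗ[k] k) (hDF : GrSeg.IsGDual R ℱ 𝒟F βF) (g : DM →ₗ[R] DF) (hg : GrSeg.IsGDualMap βM βF f g) : LinearMap.ker f ≤ mR.toIdeal • (⊤ : Submodule R F) ↔ GrLC.IsStarEss 𝒟M 𝒟F g := by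
  have hc := isConn_toAG 𝒜 hposR h0R
  have := Trans.gsmulToAG' 𝒜 ℳ
  have := Trans.gsmulToAG' 𝒜 ℱ
  have := Trans.gsmulToAG' 𝒜 𝒟M
  have := Trans.gsmulToAG' 𝒜 𝒟F
  exact core (Trans.toAG 𝒜) ℱ ℳ f hf hfgr 𝒟M βM hDM 𝒟F βF hDF g hg hc mR.toIdeal hmR

end Aux

/-- Let R be a graded ring defined over a field k with m = R_+, let F and M be finitely generated graded
R-modules and f : F → M a surjective homomorphism of graded R-modules, with dual f^* : M^* → F^* on
graded k-duals. Then f is minimal, that is Ker f ⊆ m F, if and only if f^* is essential: an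
injective homomorphism of graded modules such that every nonzero graded submodule of F^* meets its
image. Here a graded ring defined over k is a commutative k-algebra of finite type, graded in
nonnegative degrees by k-subspaces with degree-zero part k·1, and R_+ is the ideal spanned by the
R_n with n > 0; the graded k-dual M^* = ⊕_n Hom_k(M_{−n}, k) of a graded R-module M (with r ∈ R
acting by (r f)(x) = f(r x)) is presented abstractly as a graded R-module D with a k-bilinear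
pairing β : D × M → k compatible with the R-actions, under which D_n pairs to zero with M_m for m ≠
−n and is identified with the full dual space of M_{−n}; f^* is presented as the R-linear map g :
M^* → F^* with β_F(g d, x) = β_M(d, f x). -/
theorem result (k : Type u) [Field k] (R : Type u) [CommRing R] [Algebra k R] (𝒜 : ℤ → Submodule k R) [GradedAlgebra 𝒜] (hposR : ∀ n : ℤ, n < 0 → 𝒜 n = ⊥) (h0R : 𝒜 0 = Submodule.span k {(1 : R)}) [Algebra.FiniteType k R] (mR : HomogeneousIdeal 𝒜) (hmR : mR.toIdeal = Ideal.span (⋃ n ∈ Set.Ioi (0 : ℤ), (𝒜 n : Set R))) (F : Type u) [AddCommGroup F] [Module R F] [Module k F] [IsScalarTower k R F] (ℱ : ℤ → AddSubgroup F) [DirectSum.Decomposition ℱ] [SetLike.GradedSMul 𝒜 ℱ] [Module.Finite R F] (M : Type u) [AddCommGroup M] [Module R M] [Module k M] [IsScalarTower k R M] (ℳ : ℤ → AddSubgroup M) [DirectSum.Decomposition ℳ] [SetLike.GradedSMul 𝒜 ℳ] [Module.Finite R M] (f : F →ₗ[R] M) (hf : Function.Surjective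 f) (hfgr : GrLC.IsGrHom ℱ ℳ f) (DM : Type u) [AddCommGroup DM] [Module R DM] [Module k DM] [IsScalarTower k R DM] (𝒟M : ℤ → AddSubgroup DM) [DirectSum.Decomposition 𝒟M] [SetLike.GradedSMul 𝒜 𝒟M] (βM : DM →ₗ[k] M →ₗ[k] k) (hDM : GrSeg.IsGDual R ℳ 𝒟M βM) (DF : Type u) [AddCommGroup DF] [Module R DF] [Module k DF] [IsScalarTower k R DF] (𝒟F : ℤ → AddSubgroup DF) [DirectSum.Decomposition 𝒟F] [SetLike.GradedSMul 𝒜 𝒟F] (βF : DF →ₗ[k] F →ₗ[k] k) (hDF : GrSeg.IsGDual R ℱ 𝒟F βF) (g : DM →ₗ[R] DF) (hg : GrSeg.IsGDualMap βM βF f g) : LinearMap.ker f ≤ mR.toIdeal • (⊤ : Submodule R F) ↔ GrLC.IsStarEss 𝒟M 𝒟F g := by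
  exact Aux.main k R 𝒜 hposR h0R mR hmR F ℱ M ℳ f hf hfgr DM 𝒟M βM hDM DF 𝒟F βF hDF g hg

end Groth.Agent.S19751
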