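import Groth.Statements.S19752
import Mathlib
import Groth.Prelude.Def_GrSeg
import Groth.Prelude.Def_GrLC
import Groth.Agent.Lib.Helper9.GDual.Basic
import Groth.Agent.Lib.Helper9.GDual.SelfDual
-- import your own Groth.Agent.* helpers here

set_option autoImplicit false
universe u
open GrDual

namespace Groth.Agent.S19752

open DirectSum
namespace Aux
open Groth.Agent.Helper9.GrLCLib Groth.Agent.Helper9.GDualLib

theorem main (k : Type u) [Field k] (R : Type u) [CommRing R] [Algebra k R] (𝒜 : ℤ → Submodule k R) [GradedAlgebra 𝒜] (hposR : ∀ n : ℤ, n < 0 → 𝒜 n = ⊥) (h0R : 𝒜 0 = Submodule.span k {(1 : R)}) [Algebra.FiniteType k R] (mR : HomogeneousIdeal 𝒜) (hmR : mR.toIdeal = Ideal.span (⋃ n ∈ Set.Ioi (0 : ℤ), (𝒜 n : Set R))) (D : Type u) [AddCommGroup D] [Module R D] [Module k D] [IsScalarTower k R D] (𝒟 : ℤ → AddSubgroup D) [DirectSum.Decomposition 𝒟] [SetLike.GradedSMul 𝒜 𝒟] (β : D →ₗ[k] R →ₗ[k] k) (hD : GrSeg.IsGDual R 𝒜 𝒟 β) (e : (R ⧸ mR.toIdeal) →ₗ[R] D)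 (he : Function.Injective e) (hegr : GrLC.IsGrHom (GrLC.quotGr 𝒜 mR) 𝒟 e) : GrLC.IsStarInjHull 𝒜 (GrLC.quotGr 𝒜 mR) 𝒟 e := by
  have hc := isConn_toAG 𝒜 hposR h0R
  have hsm := Trans.gsmulToAG' 𝒜 𝒟
  have hD' : GrSeg.IsGDual R (Trans.toAG 𝒜) 𝒟 β := ⟨hD.map_smul, hD.vanish, hD.eq_zero, hD.exists_eq⟩
  refine { injective := he, grHom := hegr, essential := ?_, starInj := ?_ }
  · intro P hP hne
    have hDnt : Nontrivial D := by
      obtain ⟨x, _, hx0⟩ := Submodule.exists_mem_ne_zero_of_ne_bot hne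
      exact ⟨⟨x, 0, hx0⟩⟩
    have hRnt : Nontrivial R := by
      by_contra hcon
      rw [not_nontrivial_iff_subsingleton] at hcon
      have := Module.subsingleton R D
      exact not_subsingleton D this
    have h1 : (1 : R) ∉ mR.toIdeal :=
      one_notMem_irrel (Trans.toAG 𝒜) hc mR.toIdeal hmR
    have hε : e (Ideal.Quotient.mk mR.toIdeal 1) ∈ 𝒟 0 :=
      hegr 0 _ ⟨1, SetLike.GradedOne.one_mem (A := 𝒜), rfl⟩
    have hε0 : e (Ideal.Quotient.mk mR.toIdeal 1) ≠ 0 := by
      intro h0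
      have := he (h0.trans (map_zero e).symm)
      rw [Ideal.Quotient.eq_zero_iff_mem] at this
      exact h1 this
    obtain ⟨c, hc0, hcP⟩ := essential_selfDual (Trans.toAG 𝒜) 𝒟 β hD' hc hε hε0 P hP hne
    intro hbot
    have hmem : c • e (Ideal.Quotient.mk mR.toIdeal 1) ∈ P ⊓ LinearMap.range e := by
      refine ⟨hcP, ⟨algebraMap k R c • Ideal.Quotient.mk mR.toIdeal 1, ?_⟩⟩
      rw [map_smul, algebraMap_smul]
    rw [hbot, Submodule.mem_bot, smul_eq_zero] at hmem
    rcases hmem with h | h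
    · exact hc0 h
    · exact hε0 h
  · exact Trans.isStarInj_ofAG 𝒜 𝒟 (isStarInj_selfDual (Trans.toAG 𝒜) 𝒟 β hD' hc)

end Aux

/-- Let R = ⊕_{n ≥ 0} R_n be a Noetherian graded ring with R_0 = k a field, m = R_+ and k = R/m. Then
the graded k-dual R^* = ⊕_n Hom_k(R_{−n}, k) is the injective envelope of R/m in the category of
graded R-modules: for every injective homomorphism of graded R-modules e : R/m → R^*, the module R^*
is an injective object of the graded category and every nonzero graded submodule of R^* meets the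
image of e. Here a graded ring defined over k is a commutative k-algebra of finite type, graded in
nonnegative degrees by k-subspaces with degree-zero part k·1, and R_+ is the ideal spanned by the
R_n with n > 0 (a Noetherian such ring is the same as one of finite type over k); the graded k-dual
M^* = ⊕_n Hom_k(M_{−n}, k) of a graded R-module M (with r ∈ R acting by (r f)(x) = f(r x)) is
presented abstractly as a graded R-module D with a k-bilinear pairing β : D × M → k compatible with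
the R-actions, under which D_n pairs to zero with M_m for m ≠ −n and is identified with the full
dual space of M_{−n}. -/
theorem result (k : Type u) [Field k] (R : Type u) [CommRing R] [Algebra k R] (𝒜 : ℤ → Submodule k R) [GradedAlgebra 𝒜] (hposR : ∀ n : ℤ, n < 0 → 𝒜 n = ⊥) (h0R : 𝒜 0 = Submodule.span k {(1 : R)}) [Algebra.FiniteType k R] (mR : HomogeneousIdeal 𝒜) (hmR : mR.toIdeal = Ideal.span (⋃ n ∈ Set.Ioi (0 : ℤ), (𝒜 n : Set R))) (D : Type u) [AddCommGroup D] [Module R D] [Module k D] [IsScalarTower k R D] (𝒟 : ℤ → AddSubgroup D) [DirectSum.Decomposition 𝒟] [SetLike.GradedSMul 𝒜 𝒟] (β : D →ₗ[k] R →ₗ[k] k) (hD : GrSeg.IsGDual R 𝒜 𝒟 β) (e : (R ⧸ mR.toIdeal) →ₗ[R] D) (he : Function.Injective e) (hegr : GrLC.IsGrHom (GrLC.quotGr 𝒜 mR) 𝒟 e) : GrLC.IsStarInjHull 𝒜 (GrLC.quotGr 𝒜 mR) 𝒟 e := by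
  exact Aux.main k R 𝒜 hposR h0R mR hmR D 𝒟 β hD e he hegr

end Groth.Agent.S19752
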