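import Groth.Statements.S19759
import Mathlib
import Groth.Prelude.Def_GrSeg
import Groth.Prelude.Def_GrLC
import Groth.Agent.Lib.Helper9.GDual.Basic
import Groth.Agent.Lib.Helper9.GDual.TopDual
import Groth.Agent.Lib.Helper9.GrLC.Watts
import Groth.Agent.Lib.Helper9.GrLC.Trans
import Groth.Agent.Lib.Helper9.GrLC.Hom
import Groth.Agent.Lib.Helper8.LC18
-- import your own Groth.Agent.* helpers here

set_option autoImplicit false
universe u
open GrDual

namespace Groth.Agent.S19759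

open DirectSum
namespace Aux
open Groth.Agent.Helper9.GrLCLib Groth.Agent.Helper9.GDualLib Groth.Agent.Helper8.LC

lemma mu_add {R : Type u} [CommRing R] {M : Type u} [AddCommGroup M] [Module R M] (x y : M) :
    Watts.mu (R := R) (x + y) = Watts.mu x + Watts.mu y := by
  apply LinearMap.ext
  intro r
  simp [LinearMap.toSpanSingleton_apply]

lemma mu_smul {R : Type u} [CommRing R] {M : Type u} [AddCommGroup M] [Module R M] (r : R) (x : M) :
    Watts.mu (R := R) (r • x) = Watts.mu x ∘ₗ (r • (LinearMap.id : R →ₗ[R] R)) := by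
  apply LinearMap.ext
  intro s
  simp only [LinearMap.toSpanSingleton_apply, LinearMap.comp_apply, LinearMap.smul_apply,
    LinearMap.id_apply, smul_eq_mul]
  rw [smul_smul, mul_comm]

theorem main (k : Type u) [Field k] (R : Type u) [CommRing R] [Algebra k R] (𝒜 : ℤ → Submodule k R) [GradedAlgebra 𝒜] (hposR : ∀ n : ℤ, n < 0 → 𝒜 n = ⊥) (h0R : 𝒜 0 = Submodule.span k {(1 : R)}) [Algebra.FiniteType k R] (mR : HomogeneousIdeal 𝒜) (hmR : mR.toIdeal = Ideal.span (⋃ n ∈ Set.Ioi (0 : ℤ), (𝒜 n : Set R))) (n : ℕ) (hn : ringKrullDim R = n) (I : GrLC.StarInjRes 𝒜 𝒜) [Module k (I.H mR n)] [IsScalarTower k R (I.H mR n)] [DirectSum.Decomposition (I.Hgr mR n)] (K : Type u) [AddCommGroup K] [Module R K] [Module k K] [IsScalarTower k R K] (𝒦 : ℤ → AddSubgroup K) [DirectSum.Decomposition 𝒦] [SetLike.GradedSMul 𝒜 𝒦] (βK : K →ₗ[k] I.H mR n →ₗ[k] k) (hK : GrSeg.IsGDual R (I.Hgr mR n) 𝒦 βK) (M : Type u) [AddCommGroup M] [Module R M]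 [Module k M] [IsScalarTower k R M] (ℳ : ℤ → AddSubgroup M) [DirectSum.Decomposition ℳ] [SetLike.GradedSMul 𝒜 ℳ] [Module.Finite R M] (EM : GrLC.StarInjRes 𝒜 ℳ) [Module k (EM.H mR n)] [IsScalarTower k R (EM.H mR n)] [DirectSum.Decomposition (EM.Hgr mR n)] (D : Type u) [AddCommGroup D] [Module R D] [Module k D] [IsScalarTower k R D] (𝒟 : ℤ → AddSubgroup D) [DirectSum.Decomposition 𝒟] [SetLike.GradedSMul 𝒜 𝒟] (βD : D →ₗ[k] EM.H mR n →ₗ[k] k) (hD : GrSeg.IsGDual R (EM.Hgr mR n) 𝒟 βD) : ∃ ε : D ≃ₗ[R] (M →ₗ[R] K), GrLC.IsGrHom 𝒟 (fun d : ℤ => (GrLC.homDeg 𝒜 ℳ 𝒦 d).toAddSubgroup) ε.toLinearMap := by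
  classical
  have : IsNoetherianRing R := Algebra.FiniteType.isNoetherianRing k R
  have hcd : LocCoh.CdLE R mR.toIdeal n := cdLE_of_ringKrullDim_le mR.toIdeal n (le_of_eq hn)
  obtain ⟨ΘR0, hΘR0⟩ := exists_theta_LCgr (Trans.toAG 𝒜) (Trans.toAG 𝒜) (Trans.idealToAG 𝒜 mR)
    (Trans.resToAG 𝒜 𝒜 I) n
  obtain ⟨ΘM0, hΘM0⟩ := exists_theta_LCgr (Trans.toAG 𝒜) (Trans.toAG ℳ) (Trans.idealToAG 𝒜 mR)
    (Trans.resToAG 𝒜 ℳ EM) n
  -- retyping
  obtain ⟨ΘR, hΘR⟩ : ∃ Θ : I.H mR n ≃ₗ[R] LocCoh.H mR.toIdeal n R, ∀ (g : ℤ) (x : I.H mR n),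
      x ∈ I.Hgr mR n g ↔ Θ x ∈ LCgr (Trans.toAG 𝒜) (Trans.toAG 𝒜) mR.toIdeal n g := ⟨ΘR0, hΘR0⟩
  obtain ⟨ΘM, hΘM⟩ : ∃ Θ : EM.H mR n ≃ₗ[R] LocCoh.H mR.toIdeal n M, ∀ (g : ℤ) (x : EM.H mR n),
      x ∈ EM.Hgr mR n g ↔ Θ x ∈ LCgr (Trans.toAG 𝒜) (Trans.toAG ℳ) mR.toIdeal n g := ⟨ΘM0, hΘM0⟩
  clear hΘR0 hΘM0 ΘR0 ΘM0
  -- the maps `τ`
  let τ : M → (I.H mR n →ₗ[R] EM.H mR n) := fun x =>
    ΘM.symm.toLinearMap ∘ₗ Watts.Tmap mR.toIdeal n (Watts.mu x) ∘ₗ ΘR.toLinearMap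
  have hτ : ∀ x h, τ x h = ΘM.symm (Watts.Tmap mR.toIdeal n (Watts.mu x) (ΘR h)) := fun x h => rfl
  have t_add : ∀ (x y : M) (h : I.H mR n), τ (x + y) h = τ x h + τ y h := by
    intro x y h
    rw [hτ, hτ, hτ, mu_add, Watts.Tmap_add, map_add]
  have t_smul : ∀ (r : R) (x : M) (h : I.H mR n), τ (r • x) h = τ x (r • h) := by
    intro r x h
    rw [hτ, hτ, mu_smul, Watts.Tmap_comp, Watts.Tmap_smul_id, ΘR.map_smul]
  have t_gr : ∀ (g : ℤ) (x : M), x ∈ ℳ g → ∀ (j : ℤ) (h : I.H mR n), h ∈ I.Hgr mR n j →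
      τ x h ∈ EM.Hgr mR n (j + g) := by
    intro g x hx j h hh
    rw [hΘM, hτ, LinearEquiv.apply_symm_apply]
    have hdeg : GrLC.IsGrHomDeg (Trans.toAG 𝒜) (Trans.toAG ℳ) (Watts.mu (R := R) x) g := by
      intro i r hr
      have := SetLike.GradedSMul.smul_mem (A := 𝒜) (B := ℳ) hr hx
      rw [vadd_eq_add] at this
      exact this
    exact LCgr_map (Trans.toAG 𝒜) (Trans.toAG 𝒜) (Trans.toAG ℳ) mR.toIdeal n j g _ hdeg _
      ((hΘR j h).mp hh)
  -- homogeneous generators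
  obtain ⟨T, hT, hspan⟩ := exists_homog_generators (R := R) ℳ ⊤
    (fun k x _ => Submodule.mem_top) Module.Finite.fg_top
  choose! deg hdeg using hT
  let m : Fin T.card → M := fun i => (T.equivFin.symm i : M)
  have hmT : ∀ i, m i ∈ T := fun i => (T.equivFin.symm i).2
  have hm : Function.Surjective (Fintype.linearCombination R m) := by
    rw [← LinearMap.range_eq_top, Fintype.range_linearCombination, eq_top_iff, ← hspan]
    apply Submodule.span_mono
    intro x hx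
    exact ⟨T.equivFin ⟨x, hx⟩, by simp [m]⟩
  have t_gen : ∀ u : EM.H mR n, ∃ h : Fin T.card → I.H mR n, u = ∑ i, τ (m i) (h i) := by
    intro u
    obtain ⟨h, hh⟩ := Watts.exists_gen mR.toIdeal n hcd m hm (ΘM u)
    refine ⟨fun i => ΘR.symm (h i), ?_⟩
    apply ΘM.injective
    rw [hh, map_sum]
    refine Finset.sum_congr rfl (fun i _ => ?_)
    rw [hτ, LinearEquiv.apply_symm_apply, LinearEquiv.apply_symm_apply]
  have t_rel : ∀ h : Fin T.card → I.H mR n, ∑ i, τ (m i) (h i) = 0 →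
      ∃ (s : ℕ) (z : Fin s → Fin T.card → R) (h' : Fin s → I.H mR n),
        (∀ j, ∑ i, z j i • m i = 0) ∧ ∀ i, h i = ∑ j, z j i • h' j := by
    intro h h0
    have h0' : ∑ i, Watts.Tmap mR.toIdeal n (Watts.mu (m i)) (ΘR (h i)) = 0 := by
      have := congrArg ΘM h0
      rw [map_sum, map_zero] at this
      rw [← this]
      refine Finset.sum_congr rfl (fun i _ => ?_)
      rw [hτ, LinearEquiv.apply_symm_apply]
    obtain ⟨s, z, h', hz, hh'⟩ := Watts.exists_rel mR.toIdeal n hcd m hm (fun i => ΘR (h i)) h0'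
    refine ⟨s, z, fun j => ΘR.symm (h' j), hz, fun i => ?_⟩
    apply ΘR.injective
    rw [hh' i, map_sum]
    refine Finset.sum_congr rfl (fun j _ => ?_)
    rw [map_smul, LinearEquiv.apply_symm_apply]
  obtain ⟨ε, hε⟩ := TopDual.duality ℳ (I.Hgr mR n) (EM.Hgr mR n) 𝒦 βK hK 𝒟 βD hD τ t_add t_smul t_gr
    m (fun i => deg (m i)) (fun i => hdeg (m i) (hmT i)) hm t_gen t_rel
  refine ⟨ε, fun e d hd => ?_⟩
  intro g x hx
  exact hε e d hd g x hx

end Aux

/-- Let R be a graded ring defined over a field k with m = R_+ and n = dim R, K_R = (H^n_m(R))^* its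
canonical module, and M a finitely generated graded R-module. Then (H^n_m(M))^* ≅ Hom_R(M, K_R) as
graded R-modules. Stated here as the existence of an R-linear isomorphism carrying the degree-d
piece of (H^n_m(M))^* into the maps M → K_R homogeneous of degree d (existence of an isomorphism
only; the published one is natural in M). Here a graded ring defined over k is a commutative
k-algebra of finite type, graded in nonnegative degrees by k-subspaces with degree-zero part k·1,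
and R_+ is the ideal spanned by the R_n with n > 0; the graded k-dual M^* = ⊕_n Hom_k(M_{−n}, k) of
a graded R-module M (with r ∈ R acting by (r f)(x) = f(r x)) is presented abstractly as a graded
R-module D with a k-bilinear pairing β : D × M → k compatible with the R-actions, under which D_n
pairs to zero with M_m for m ≠ −n and is identified with the full dual space of M_{−n}; graded local
cohomology with its homogeneous pieces is computed from *injective resolutions in the graded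
category and carries the k-vector space structures given. -/
theorem result (k : Type u) [Field k] (R : Type u) [CommRing R] [Algebra k R] (𝒜 : ℤ → Submodule k R) [GradedAlgebra 𝒜] (hposR : ∀ n : ℤ, n < 0 → 𝒜 n = ⊥) (h0R : 𝒜 0 = Submodule.span k {(1 : R)}) [Algebra.FiniteType k R] (mR : HomogeneousIdeal 𝒜) (hmR : mR.toIdeal = Ideal.span (⋃ n ∈ Set.Ioi (0 : ℤ), (𝒜 n : Set R))) (n : ℕ) (hn : ringKrullDim R = n) (I : GrLC.StarInjRes 𝒜 𝒜) [Module k (I.H mR n)] [IsScalarTower k R (I.H mR n)] [DirectSum.Decomposition (I.Hgr mR n)] (K : Type u) [AddCommGroup K] [Module R K] [Module k K] [IsScalarTower k R K] (𝒦 : ℤ → AddSubgroup K) [DirectSum.Decomposition 𝒦] [SetLike.GradedSMul 𝒜 𝒦] (βK : K →ₗ[k] I.H mR n →ₗ[k] k) (hK : GrSeg.IsGDual R (I.Hgr mR n) 𝒦 βK) (M : Type u) [AddCommGroup M] [Module R M] [Module k M] [IsScalarTower k R M] (ℳ : ℤ → AddSubgroup M) [DirectSum.Decomposition ℳ] [SetLike.GradedSMul 𝒜 ℳ] [Module.Finite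 R M] (EM : GrLC.StarInjRes 𝒜 ℳ) [Module k (EM.H mR n)] [IsScalarTower k R (EM.H mR n)] [DirectSum.Decomposition (EM.Hgr mR n)] (D : Type u) [AddCommGroup D] [Module R D] [Module k D] [IsScalarTower k R D] (𝒟 : ℤ → AddSubgroup D) [DirectSum.Decomposition 𝒟] [SetLike.GradedSMul 𝒜 𝒟] (βD : D →ₗ[k] EM.H mR n →ₗ[k] k) (hD : GrSeg.IsGDual R (EM.Hgr mR n) 𝒟 βD) : ∃ ε : D ≃ₗ[R] (M →ₗ[R] K), GrLC.IsGrHom 𝒟 (fun d : ℤ => (GrLC.homDeg 𝒜 ℳ 𝒦 d).toAddSubgroup) ε.toLinearMap := by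
  exact Aux.main k R 𝒜 hposR h0R mR hmR n hn I K 𝒦 βK hK M ℳ EM D 𝒟 βD hD

end Groth.Agent.S19759
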