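import Groth.Statements.S1976
import Mathlib
import Groth.Prelude.Def_PBC
import Groth.Agent.Lib.Helper9.WEtField.Main
import Groth.Agent.Lib.Helper7.RelFGSub
import Groth.Agent.Lib.Helper6.IndEtWeakly
-- import your own Groth.Agent.* helpers here

set_option autoImplicit false
universe u
open CategoryTheory
open EtAlg

namespace Groth.Agent.S1976

open CategoryTheory CategoryTheory.Limits
namespace Aux
open Groth.Agent.Helper9.WEtField Groth.Agent.Helper7.RelFGSub

variable (K B : Type u) [Field K] [CommRing B] [Algebra K B]

theorem etale_of_fg [Algebra.WeaklyEtale K B] (S : Subalgebra K B) (hS : S.FG) :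
    Algebra.Etale K S := by
  obtain ⟨t, rfl⟩ := hS
  have hs' : Algebra.adjoin K ((Subtype.val : Algebra.adjoin K (t : Set B) → B) ⁻¹' (t : Set B)) = ⊤ :=
    Algebra.adjoin_adjoin_coe_preimage
  have hfin' : ((Subtype.val : Algebra.adjoin K (t : Set B) → B) ⁻¹' (t : Set B)).Finite :=
    t.finite_toSet.preimage Subtype.val_injective.injOn
  exact etale_of_adjoin_sep _ hfin' hs'
    (fun x _ => IsSepElem.of_map (Algebra.adjoin K (t : Set B)).val Subtype.val_injective
      (isSepElem_of_weaklyEtale K B x))

noncomputable def underDiag : Idx K B ⥤ Under (CommRingCat.of K) where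
  obj S := Under.mk (CommRingCat.ofHom (algebraMap K S.1))
  map {X Y} f := Under.homMk (CommRingCat.ofHom (Subalgebra.inclusion (leOfHom f)).toRingHom)
    (by ext a; rfl)
  map_id X := by ext x; rfl
  map_comp f g := by ext x; rfl

noncomputable def underCocone : Cocone (underDiag K B) where
  pt := Under.mk (CommRingCat.ofHom (algebraMap K B))
  ι := { app := fun S => Under.homMk (CommRingCat.ofHom (algebraMap S.1 B)) (by ext a; rfl)
         naturality := fun X Y f => by ext x; rfl }

noncomputable def underCoconeForgetIsColimit :
    IsColimit ((Under.forget (CommRingCat.of K)).mapCocone (underCocone K B)) :=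
  (isColimit_ringCocone K B).some

attribute [local instance] IsFiltered.isConnected in
noncomputable def underCoconeIsColimit : IsColimit (underCocone K B) :=
  isColimitOfReflects (Under.forget (CommRingCat.of K)) (underCoconeForgetIsColimit K B)

theorem isIndEtale_of_weaklyEtale [Algebra.WeaklyEtale K B] : EtPBC.IsIndEtale K B := by
  refine ⟨Idx K B, inferInstance, inferInstance, underDiag K B, underCocone K B,
    underCoconeIsColimit K B, ?_, ⟨Iso.refl _⟩⟩
  intro S
  have h : (algebraMap K S.1).toAlgebra = (inferInstance : Algebra K S.1) :=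
    Algebra.algebra_ext _ _ (fun r => rfl)
  show @Algebra.Etale K S.1 _ _ (algebraMap K S.1).toAlgebra
  rw [h]
  exact etale_of_fg K B S.1 S.2

theorem main :
    (Algebra.WeaklyEtale K B ↔ EtPBC.IsIndEtale K B) ∧
    (Algebra.WeaklyEtale K B → ∀ S : Subalgebra K B, S.FG → Algebra.Etale K S) :=
  ⟨⟨fun _ => isIndEtale_of_weaklyEtale K B,
    fun h => Groth.Agent.Lib.Helper6.IndEt.weaklyEtale_of_isIndEtale K B h⟩,
   fun _ S hS => etale_of_fg K B S hS⟩

end Aux

/-- (2) ⇔ (3): a K-algebra B over a field K is weakly etale exactly when it can be written as a filtered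
colimit of etale K-algebras, and in that case its finitely generated K-subalgebras are etale. -/
theorem result (K : Type u) [Field K] (B : Type u) [CommRing B] [Algebra K B] :
    (Algebra.WeaklyEtale K B ↔ EtPBC.IsIndEtale K B) ∧
    (Algebra.WeaklyEtale K B → ∀ S : Subalgebra K B, S.FG → Algebra.Etale K S) := by
  exact Aux.main K B

end Groth.Agent.S1976
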