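import Groth.Statements.S19760
import Mathlib
import Groth.Prelude.Def_GrSeg
import Groth.Prelude.Def_GrLC
import Groth.Agent.Lib.Helper9.GDual.Basic
import Groth.Agent.Lib.Helper9.GDual.Refl
import Groth.Agent.Lib.Helper9.GDual.Cogen
-- import your own Groth.Agent.* helpers here

set_option autoImplicit false
universe u
open GrDual

namespace Groth.Agent.S19760

open DirectSum
namespace Aux
open Groth.Agent.Helper9.GrLCLib Groth.Agent.Helper9.GDualLib

section Core

variable {R : Type u} [CommRing R]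
  {M : Type u} [AddCommGroup M] [Module R M] (ℳ : ℤ → AddSubgroup M)
  {D : Type u} [AddCommGroup D] [Module R D] (𝒟 : ℤ → AddSubgroup D)

/-- the kernels of finite tuples of shifted graded maps to `D` -/
def IsKer (K : Submodule R M) : Prop :=
  ∃ (t : ℕ) (sh : Fin t → ℤ) (f : M →ₗ[R] (Fin t → D)),
    (∀ (i : Fin t) (g : ℤ) (x : M), x ∈ ℳ g → f x i ∈ 𝒟 (g + sh i)) ∧ K = LinearMap.ker f

lemma isKer_top : IsKer ℳ 𝒟 (⊤ : Submodule R M) :=
  ⟨0, fun i => i.elim0, 0, fun i => i.elim0, by rw [LinearMap.ker_zero]⟩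

lemma isKer_inf {K : Submodule R M} (hK : IsKer ℳ 𝒟 K) (φ : M →ₗ[R] D) (s : ℤ)
    (hφ : ∀ (g : ℤ) (y : M), y ∈ ℳ g → φ y ∈ 𝒟 (g + s)) :
    IsKer ℳ 𝒟 (K ⊓ LinearMap.ker φ) := by
  obtain ⟨t, sh, f, hf, rfl⟩ := hK
  refine ⟨t + 1, Fin.cons s sh,
    LinearMap.pi (Fin.cons φ (fun j => (LinearMap.proj j).comp f)), ?_, ?_⟩
  · intro i g x hx
    rw [LinearMap.pi_apply]
    refine Fin.cases ?_ (fun j => ?_) i
    · rw [Fin.cons_zero, Fin.cons_zero]
      exact hφ g x hx
    · rw [Fin.cons_succ, Fin.cons_succ]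
      exact hf j g x hx
  · ext x
    rw [Submodule.mem_inf, LinearMap.mem_ker, LinearMap.mem_ker, LinearMap.mem_ker]
    constructor
    · rintro ⟨h1, h2⟩
      funext i
      rw [LinearMap.pi_apply]
      refine Fin.cases ?_ (fun j => ?_) i
      · rw [Fin.cons_zero]; exact h2
      · rw [Fin.cons_succ]; exact congrFun h1 j
    · intro h
      constructor
      · funext j
        have := congrFun h j.succ
        rw [LinearMap.pi_apply, Fin.cons_succ] at this
        exact this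
      · have := congrFun h 0
        rw [LinearMap.pi_apply, Fin.cons_zero] at this
        exact this

end Core

theorem main (k : Type u) [Field k] (R : Type u) [CommRing R] [Algebra k R] (𝒜 : ℤ → Submodule k R) [GradedAlgebra 𝒜] (hposR : ∀ n : ℤ, n < 0 → 𝒜 n = ⊥) (h0R : 𝒜 0 = Submodule.span k {(1 : R)}) [Algebra.FiniteType k R] (D : Type u) [AddCommGroup D] [Module R D] [Module k D] [IsScalarTower k R D] (𝒟 : ℤ → AddSubgroup D) [DirectSum.Decomposition 𝒟] [SetLike.GradedSMul 𝒜 𝒟] (β : D →ₗ[k] R →ₗ[k] k) (hD : GrSeg.IsGDual R 𝒜 𝒟 β) (M : Type u) [AddCommGroup M] [Module R M] [Module k M] [IsScalarTower k R M] (ℳ : ℤ → AddSubgroup M) [DirectSum.Decomposition ℳ] [SetLike.GradedSMul 𝒜 ℳ] : IsArtinian R M ↔ ∃ (t : ℕ) (sh : Fin t → ℤ) (f : M →ₗ[R] (Fin t → D)), Function.Injective f ∧ ∀ (i : Fin t) (g : ℤ) (x : M), x ∈ ℳ g → f x i ∈ 𝒟 (g + sh i) := by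
  have hc := isConn_toAG 𝒜 hposR h0R
  have : IsNoetherianRing R := Algebra.FiniteType.isNoetherianRing k R
  have := Trans.gsmulToAG' 𝒜 ℳ
  have := Trans.gsmulToAG' 𝒜 𝒟
  have hD' : GrSeg.IsGDual R (Trans.toAG 𝒜) 𝒟 β := ⟨hD.map_smul, hD.vanish, hD.eq_zero, hD.exists_eq⟩
  constructor
  · intro hart
    obtain ⟨_, ⟨t, sh, f, hf, rfl⟩, hmin⟩ := IsArtinian.set_has_minimal
      {K : Submodule R M | IsKer ℳ 𝒟 K} ⟨⊤, isKer_top ℳ 𝒟⟩
    refine ⟨t, sh, f, ?_, hf⟩
    rw [← LinearMap.ker_eq_bot, eq_bot_iff]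
    intro x hx
    rw [Submodule.mem_bot]
    by_contra hx0
    obtain ⟨n, φ, hφx, hφgr⟩ := exists_map_ne_zero (Trans.toAG 𝒜) 𝒟 β hD' ℳ hc hx0
    have hK := isKer_inf ℳ 𝒟 ⟨t, sh, f, hf, rfl⟩ φ (-n)
      (fun g y hy => by rw [← sub_eq_add_neg]; exact hφgr g y hy)
    apply hmin _ hK
    refine lt_of_le_of_ne inf_le_left (fun heq => ?_)
    have : x ∈ LinearMap.ker f ⊓ LinearMap.ker φ := by rw [heq]; exact hx
    exact hφx (LinearMap.mem_ker.mp this.2)
  · rintro ⟨t, sh, f, hf, _⟩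
    have : IsArtinian R D := isArtinian_dual (Trans.toAG 𝒜) (Trans.toAG 𝒜) 𝒟 β hD' _ rfl hc
    exact isArtinian_of_injective f hf

end Aux

/-- Let R = ⊕_{n ≥ 0} R_n be a Noetherian graded ring with R_0 = k a field and R^* = ⊕_n Hom_k(R_{−n},
k) its graded k-dual. A graded R-module M is Artinian exactly when, for some t and some integer
shifts n_1, …, n_t, it embeds as a graded module into the direct sum of the shifted duals R^*(n_1),
…, R^*(n_t), that is, when there is an injective R-linear map M → (R^*)^t whose i-th component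
carries M_g into R^*_{g+n_i} for every g. Here a graded ring defined over k is a commutative
k-algebra of finite type, graded in nonnegative degrees by k-subspaces with degree-zero part k·1,
and R_+ is the ideal spanned by the R_n with n > 0 (a Noetherian such ring is the same as one of
finite type over k); the graded k-dual M^* = ⊕_n Hom_k(M_{−n}, k) of a graded R-module M (with r ∈ R
acting by (r f)(x) = f(r x)) is presented abstractly as a graded R-module D with a k-bilinear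
pairing β : D × M → k compatible with the R-actions, under which D_n pairs to zero with M_m for m ≠
−n and is identified with the full dual space of M_{−n}. -/
theorem result (k : Type u) [Field k] (R : Type u) [CommRing R] [Algebra k R] (𝒜 : ℤ → Submodule k R) [GradedAlgebra 𝒜] (hposR : ∀ n : ℤ, n < 0 → 𝒜 n = ⊥) (h0R : 𝒜 0 = Submodule.span k {(1 : R)}) [Algebra.FiniteType k R] (D : Type u) [AddCommGroup D] [Module R D] [Module k D] [IsScalarTower k R D] (𝒟 : ℤ → AddSubgroup D) [DirectSum.Decomposition 𝒟] [SetLike.GradedSMul 𝒜 𝒟] (β : D →ₗ[k] R →ₗ[k] k) (hD : GrSeg.IsGDual R 𝒜 𝒟 β) (M : Type u) [AddCommGroup M] [Module R M] [Module k M] [IsScalarTower k R M] (ℳ : ℤ → AddSubgroup M) [DirectSum.Decomposition ℳ] [SetLike.GradedSMul 𝒜 ℳ] : IsArtinian R M ↔ ∃ (t : ℕ) (sh : Fin t → ℤ) (f : M →ₗ[R] (Fin t → D)), Function.Injective f ∧ ∀ (i : Fin t) (g : ℤ) (x : M), x ∈ ℳ g → f x i ∈ 𝒟 (g + sh i) := by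
  exact Aux.main k R 𝒜 hposR h0R D 𝒟 β hD M ℳ

end Groth.Agent.S19760
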