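import Groth.Statements.S1977
import Mathlib
import Groth.Prelude.Def_EtAlgD
import Groth.Agent.Lib.Helper9.WEtField.Main
-- import your own Groth.Agent.* helpers here

set_option autoImplicit false
universe u
open EtAlg

namespace Groth.Agent.S1977

namespace Aux
open Groth.Agent.Helper9.WEtField

theorem maxWeaklyEtale_eq (K : Type u) [Field K] (A : Type u) [CommRing A] [Algebra K A] :
    EtAlgD.maxWeaklyEtale K A = sepSub K A := by
  apply le_antisymm
  · refine sSup_le fun S hS => ?_
    intro x hx
    haveI : Algebra.WeaklyEtale K S := hS
    exact (isSepElem_of_weaklyEtale K S ⟨x, hx⟩).map S.val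
  · refine le_sSup ?_
    refine weaklyEtale_of_forall_sep K (sepSub K A) fun x => ?_
    exact IsSepElem.of_map (sepSub K A).val Subtype.val_injective x.2

theorem main (K : Type u) [Field K] (A : Type u) [CommRing A] [Algebra K A] :
    Algebra.WeaklyEtale K ↥(EtAlgD.maxWeaklyEtale K A) := by
  refine weaklyEtale_of_forall_sep K _ fun x => ?_
  have hx : (x : A) ∈ sepSub K A := by
    rw [← maxWeaklyEtale_eq]; exact x.2
  exact IsSepElem.of_map (EtAlgD.maxWeaklyEtale K A).val Subtype.val_injective hx

end Aux

/-- Let K be a field and A a K-algebra. The supremum of the weakly etale K-subalgebras of A is itself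
weakly etale over K; it is therefore the largest weakly etale K-subalgebra of A. -/
theorem result (K : Type u) [Field K] (A : Type u) [CommRing A] [Algebra K A] :
    Algebra.WeaklyEtale K ↥(EtAlgD.maxWeaklyEtale K A) := by
  exact Aux.main K A

end Groth.Agent.S1977
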