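import Groth.Statements.S19778
import Mathlib
import Groth.Agent.Lib.Helper9.Hor.Approx
import Groth.Agent.Lib.Helper9.Hor.AdicHyp
import Groth.Agent.Lib.Helper9.HI.Descent
-- import your own Groth.Agent.* helpers here

set_option autoImplicit false
universe u
open TensorProduct
open CAlg

namespace Groth.Agent.S19778

open TensorProduct
namespace Aux
open H9Hor.Approx H9Hor.AdicHyp H9HI

theorem exists_eq_pow_mul {A : Type*} [CommRing A] (t : A) (x : A) (m : ℕ) (z : Ah t)
    (h : algebraMap A (Ah t) x = algebraMap A (Ah t) t ^ m * z) : ∃ a : A, x = t ^ m * a := by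
  have h1 := congrArg (AdicCompletion.evalₐ (Ideal.span {t}) m) h
  rw [map_mul, map_pow, AdicCompletion.algebraMap_apply, AdicCompletion.algebraMap_apply,
    Algebra.algebraMap_self_apply, Algebra.algebraMap_self_apply, AdicCompletion.evalₐ_of,
    AdicCompletion.evalₐ_of] at h1
  have h2 : (Ideal.Quotient.mk (Ideal.span {t} ^ m)) t ^ m = 0 := by
    rw [← map_pow, Ideal.Quotient.eq_zero_iff_mem]
    exact Ideal.pow_mem_pow (Ideal.mem_span_singleton_self t) m
  rw [h2, zero_mul, Ideal.Quotient.eq_zero_iff_mem, Ideal.span_singleton_pow,
    Ideal.mem_span_singleton] at h1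
  obtain ⟨a, ha⟩ := h1
  exact ⟨a, ha⟩

theorem main' (A : Type u) [CommRing A] (t : A) [hA : HenselianRing A (Ideal.span {t})]
    (C : Type u) [CommRing C] [Algebra A C] [IsLocalization.Away t C]
    (K : Type u) [CommRing K] [Algebra (Ah t) K] [IsLocalization.Away (algebraMap A (Ah t) t) K]
    [Algebra C K]
    (halg : ∀ a : A, algebraMap C K (algebraMap A C a) = algebraMap (Ah t) K (algebraMap A (Ah t) a))
    (M' : Type u) [AddCommGroup M'] [Module K M'] [Module.Finite K M'] [Module.Projective K M'] :
    ∃ (M : Type u) (_ : AddCommGroup M) (_ : Module C M), Module.Finite C M ∧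
      Module.Projective C M ∧ Nonempty (K ⊗[C] M ≃ₗ[K] M') := by
  have ht : t ∈ (⊥ : Ideal A).jacobson := hA.jac (Ideal.mem_span_singleton_self t)
  have h : Hyp (algebraMap A (Ah t) t)
      (((RingEquiv.refl K : K ≃+* K) : K →+* K).comp (algebraMap C K)) :=
    hyp t _ ht (fun a => halg a)
  have hh : HensHyp (algebraMap A (Ah t) t)
      (((RingEquiv.refl K : K ≃+* K) : K →+* K).comp (algebraMap C K)) (algebraMap A C) t := by
    refine ⟨hA, halg t, IsLocalization.Away.algebraMap_isUnit t, fun a => ⟨_, halg a⟩, ?_⟩
    intro y c z hy
    obtain ⟨r, a₀, ha₀⟩ := IsLocalization.Away.surj t y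
    have hy' : algebraMap C K y = algebraMap (Ah t) K (algebraMap A (Ah t) t ^ c * z) := hy
    have h1 : algebraMap (Ah t) K (algebraMap A (Ah t) a₀) =
        algebraMap (Ah t) K (algebraMap A (Ah t) t ^ (c + r) * z) := by
      calc algebraMap (Ah t) K (algebraMap A (Ah t) a₀)
          = algebraMap C K (algebraMap A C a₀) := (halg a₀).symm
        _ = algebraMap C K y * (algebraMap C K (algebraMap A C t)) ^ r := by
            rw [← ha₀, map_mul, map_pow]
        _ = algebraMap (Ah t) K (algebraMap A (Ah t) t ^ c * z) *
              (algebraMap (Ah t) K (algebraMap A (Ah t) t)) ^ r := by rw [hy', halg t]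
        _ = algebraMap (Ah t) K (algebraMap A (Ah t) t ^ (c + r) * z) := by
            simp only [map_mul, map_pow]; ring
    obtain ⟨⟨_, s, rfl⟩, hs⟩ := (IsLocalization.eq_iff_exists
      (Submonoid.powers (algebraMap A (Ah t) t)) K).mp h1
    simp only at hs
    have h2 : algebraMap A (Ah t) (t ^ s * a₀) = algebraMap A (Ah t) t ^ (s + c + r) * z := by
      rw [map_mul, map_pow, hs]; ring
    obtain ⟨a, ha⟩ := exists_eq_pow_mul t _ _ z h2
    refine ⟨a, ?_⟩
    have hu : IsUnit (algebraMap A C t ^ (s + r)) :=
      (IsLocalization.Away.algebraMap_isUnit t).pow _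
    apply hu.mul_left_injective
    show y * algebraMap A C t ^ (s + r) = algebraMap A C (t ^ c * a) * algebraMap A C t ^ (s + r)
    calc y * algebraMap A C t ^ (s + r) = algebraMap A C t ^ s * (y * algebraMap A C t ^ r) := by
          ring
      _ = algebraMap A C (t ^ s * a₀) := by rw [ha₀, map_mul, map_pow]
      _ = algebraMap A C (t ^ c * a) * algebraMap A C t ^ (s + r) := by
          rw [ha, ← map_pow, ← map_mul]; congr 1; ring
  exact exists_projective_descent (RingEquiv.refl K) h hh M'

theorem main (A : Type u) [CommRing A]
    (t : A) [HenselianRing A (Ideal.span {t})]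
    [Algebra (Localization.Away t) (Localization.Away (algebraMap A (AdicCompletion (Ideal.span {t}) A) t))]
    (halg : algebraMap (Localization.Away t) (Localization.Away (algebraMap A (AdicCompletion (Ideal.span {t}) A) t)) = Localization.awayMap (algebraMap A (AdicCompletion (Ideal.span {t}) A)) t)
    (M' : Type u) [AddCommGroup M'] [Module (Localization.Away (algebraMap A (AdicCompletion (Ideal.span {t}) A) t)) M']
    [Module.Finite (Localization.Away (algebraMap A (AdicCompletion (Ideal.span {t}) A) t)) M'] [Module.Projective (Localization.Away (algebraMap A (AdicCompletion (Ideal.span {t}) A) t)) M'] :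
    ∃ (M : Type u) (_ : AddCommGroup M) (_ : Module (Localization.Away t) M),
      Module.Finite (Localization.Away t) M ∧ Module.Projective (Localization.Away t) M ∧
      Nonempty ((Localization.Away (algebraMap A (AdicCompletion (Ideal.span {t}) A) t)) ⊗[Localization.Away t] M ≃ₗ[Localization.Away (algebraMap A (AdicCompletion (Ideal.span {t}) A) t)] M') := by
  refine main' A t (Localization.Away t)
    (Localization.Away (algebraMap A (AdicCompletion (Ideal.span {t}) A) t)) ?_ M'
  intro a
  rw [halg]
  exact IsLocalization.map_eq _ a

end Aux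

/-- For general linear groups, in the case A[1/t] → Â[1/t], let A be a commutative ring and t ∈ A with
(A, tA) a Henselian pair and the t-power torsion of A bounded, let Â be the t-adic completion and
give Â[1/t] the A[1/t]-algebra structure of the canonical map. Then every finitely generated
projective Â[1/t]-module is the base change of a finitely generated projective A[1/t]-module. (The
published statement is the bijection H¹(A[1/t], G) ≅ H¹(Â[1/t], G) for every quasi-affine smooth
group G; this row is the case of the general linear groups, stated as essential surjectivity of base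
change on finitely generated projective modules of arbitrary rank.) -/
theorem result (A : Type u) [CommRing A]
    (t : A) [HenselianRing A (Ideal.span {t})]
    (hbd : ∃ N : ℕ, ∀ a : A, (∃ m : ℕ, t ^ m * a = 0) → t ^ N * a = 0)
    [Algebra (Localization.Away t) (Localization.Away (algebraMap A (AdicCompletion (Ideal.span {t}) A) t))]
    (halg : algebraMap (Localization.Away t) (Localization.Away (algebraMap A (AdicCompletion (Ideal.span {t}) A) t)) = Localization.awayMap (algebraMap A (AdicCompletion (Ideal.span {t}) A)) t)
    (M' : Type u) [AddCommGroup M'] [Module (Localization.Away (algebraMap A (AdicCompletion (Ideal.span {t}) A) t)) M']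
    [Module.Finite (Localization.Away (algebraMap A (AdicCompletion (Ideal.span {t}) A) t)) M'] [Module.Projective (Localization.Away (algebraMap A (AdicCompletion (Ideal.span {t}) A) t)) M'] :
    ∃ (M : Type u) (_ : AddCommGroup M) (_ : Module (Localization.Away t) M),
      Module.Finite (Localization.Away t) M ∧ Module.Projective (Localization.Away t) M ∧
      Nonempty ((Localization.Away (algebraMap A (AdicCompletion (Ideal.span {t}) A) t)) ⊗[Localization.Away t] M ≃ₗ[Localization.Away (algebraMap A (AdicCompletion (Ideal.span {t}) A) t)] M') := by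
  exact Aux.main A t halg M'

end Groth.Agent.S19778
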