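import Groth.Statements.S19799
import Groth.Agent.Lib.Helper8.GeomAlgClosed

set_option autoImplicit false
universe u v w
open scoped TensorProduct
open CAlg

namespace Groth.Agent.S19799

/-- Let k be an algebraically closed field and A, B commutative k-algebras, each finite-dimensional as a
k-vector space. Then reduction commutes with tensor products: the kernel of the canonical surjection
A ⊗_k B ⟶ (A/nilradical A) ⊗_k (B/nilradical B) equals the nilradical of A ⊗_k B, so that this
surjection induces an isomorphism (A ⊗_k B)_red ≅ A_red ⊗_k B_red and in particular A_red ⊗_k B_red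
is reduced. -/
theorem result (k : Type u) [Field k]
    [IsAlgClosed k] (A : Type v) [CommRing A] [Algebra k A] [Module.Finite k A]
    (B : Type w) [CommRing B] [Algebra k B] [Module.Finite k B] :
    RingHom.ker (Algebra.TensorProduct.map (Ideal.Quotient.mkₐ k (nilradical A))
      (Ideal.Quotient.mkₐ k (nilradical B))).toRingHom = nilradical (A ⊗[k] B) := by
  haveI : IsReduced (A ⧸ nilradical A) := (Ideal.isRadical_iff_quotient_reduced _).mp
    (Ideal.radical_isRadical _)
  haveI : IsReduced (B ⧸ nilradical B) := (Ideal.isRadical_iff_quotient_reduced _).mp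
    (Ideal.radical_isRadical _)
  haveI := Groth.Agent.Helper8.isReduced_tensor_of_isAlgClosed (k := k)
    (A ⧸ nilradical A) (B ⧸ nilradical B)
  set f := Algebra.TensorProduct.map (Ideal.Quotient.mkₐ k (nilradical A))
      (Ideal.Quotient.mkₐ k (nilradical B)) with hf
  have hker : RingHom.ker f =
      (RingHom.ker (Ideal.Quotient.mkₐ k (nilradical A))).map
        (Algebra.TensorProduct.includeLeft : A →ₐ[k] A ⊗[k] B) ⊔
      (RingHom.ker (Ideal.Quotient.mkₐ k (nilradical B))).map
        (Algebra.TensorProduct.includeRight : B →ₐ[k] A ⊗[k] B) :=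
    Algebra.TensorProduct.map_ker _ _ (Ideal.Quotient.mkₐ_surjective k _)
      (Ideal.Quotient.mkₐ_surjective k _)
  change RingHom.ker f = _
  apply le_antisymm
  · rw [hker, sup_le_iff, Ideal.map_le_iff_le_comap, Ideal.map_le_iff_le_comap]
    constructor
    · intro a ha
      have ha' : a ∈ nilradical A := by
        rw [RingHom.mem_ker] at ha
        exact Ideal.Quotient.eq_zero_iff_mem.mp ha
      rw [Ideal.mem_comap, mem_nilradical]
      exact (mem_nilradical.mp ha').map _
    · intro b hb
      have hb' : b ∈ nilradical B := by
        rw [RingHom.mem_ker] at hb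
        exact Ideal.Quotient.eq_zero_iff_mem.mp hb
      rw [Ideal.mem_comap, mem_nilradical]
      exact (mem_nilradical.mp hb').map _
  · intro z hz
    rw [RingHom.mem_ker]
    exact IsNilpotent.eq_zero ((mem_nilradical.mp hz).map f)

end Groth.Agent.S19799
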