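import Groth.Statements.S19801
import Mathlib
import Groth.Agent.Lib.Helper1.Big1

set_option autoImplicit false
universe u
open CategoryTheory CategoryTheory.Limits AlgebraicGeometry Asymptotics
open Variety

namespace Groth.Agent.S19801

/-- Let X be a projective variety of dimension d over a field k, i.e. a geometrically integral scheme
proper over k admitting an ample invertible module, with dim X = d; let L be an invertible
O_X-module and F a coherent O_X-module. Then dim_k H^0(X, F ⊗ L^m) = O(m^d) as m → ∞. -/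
theorem result (k : Type u) [Field k] (X : Scheme.{u})
    [X.Over (Spec (CommRingCat.of k))] [IsIntegral X] [GeometricallyIntegral (X ↘ Spec (CommRingCat.of k))]
    [IsProper (X ↘ Spec (CommRingCat.of k))] (hproj : ∃ A : X.Modules, CohB1.IsAmple A)
    (d : ℕ) (hd : topologicalKrullDim X = d) (L : X.Modules) (hL : PicF.IsInvertible L)
    (F : X.Modules) (hF : Coh.IsCoh F) :
    (fun m : ℕ => (Module.finrank k (Coh.HH X (CohB1.tensorMod F (CohB1.tensorPow L m)) 0) : ℝ)) =O[Filter.atTop]
      (fun m : ℕ => (m : ℝ) ^ d) := by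
  obtain ⟨A, hA⟩ := hproj
  have hdF : topologicalKrullDim ↥(CohB1.support F) ≤ ((d : ℕ) : WithBot ℕ∞) :=
    (topologicalKrullDim_subspace_le X _).trans (le_of_eq hd)
  obtain ⟨C, hC⟩ := Groth.Agent.Helper1.Big.growth_le k X A hA L hL d F hF hdF
  have hC' : ∀ m : ℕ, Module.finrank k (Coh.HH X (CohB1.tensorMod F (CohB1.tensorPow L m)) 0) ≤
      C * (m + 1) ^ d := by
    intro m
    rw [(Groth.Agent.Lib.Helper4.HHFin1.HHequiv k
      (Groth.Agent.Helper1.TildeTens.tensorModComm F (CohB1.tensorPow L m)) 0).finrank_eq]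
    exact hC m
  refine Asymptotics.IsBigO.of_bound ((C : ℝ) * 2 ^ d) ?_
  filter_upwards [Filter.eventually_ge_atTop 1] with m hm
  rw [Real.norm_of_nonneg (by positivity), Real.norm_of_nonneg (by positivity)]
  have h1 : (Module.finrank k (Coh.HH X (CohB1.tensorMod F (CohB1.tensorPow L m)) 0) : ℝ) ≤
      (C : ℝ) * ((m : ℝ) + 1) ^ d := by exact_mod_cast hC' m
  have hm' : (1 : ℝ) ≤ (m : ℝ) := by exact_mod_cast hm
  have h2 : ((m : ℝ) + 1) ^ d ≤ (2 * (m : ℝ)) ^ d :=
    pow_le_pow_left₀ (by positivity) (by linarith) d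
  calc (Module.finrank k (Coh.HH X (CohB1.tensorMod F (CohB1.tensorPow L m)) 0) : ℝ)
      ≤ (C : ℝ) * ((m : ℝ) + 1) ^ d := h1
    _ ≤ (C : ℝ) * (2 * (m : ℝ)) ^ d := mul_le_mul_of_nonneg_left h2 (by positivity)
    _ = (C : ℝ) * 2 ^ d * (m : ℝ) ^ d := by rw [mul_pow]; ring

end Groth.Agent.S19801
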