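import Groth.Statements.S19804
import Mathlib
-- import your own Groth.Agent.* helpers here

set_option autoImplicit false
open scoped TensorProduct
universe u v w
open Brauer

namespace Groth.Agent.S19804

open scoped TensorProduct
namespace Aux

variable {R : Type u} [CommRing R] {A : Type v} [Ring A] [Algebra R A]

/-- the right ideal `eA` as an `R`-submodule -/
noncomputable def eA (e : A) : Submodule R A := LinearMap.range (LinearMap.mulLeft R e)

lemma mem_eA {e : A} (he : IsIdempotentElem e) (x : A) : x ∈ eA (R := R) e ↔ e * x = x := by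
  constructor
  · rintro ⟨y, rfl⟩
    simp only [LinearMap.mulLeft_apply]
    rw [← mul_assoc, he.eq]
  · intro h
    exact ⟨x, h⟩

noncomputable def sE (e : A) : A →ₗ[R] eA (R := R) e := (LinearMap.mulLeft R e).rangeRestrict

lemma sE_subtype {e : A} (he : IsIdempotentElem e) (n : eA (R := R) e) :
    sE e (n : A) = n := by
  apply Subtype.ext
  change e * (n : A) = n
  exact (mem_eA he _).mp n.2

theorem first [ConnectedSpace (PrimeSpectrum R)] [Module.Projective R A] [Module.Finite R A]
    (e : A) (he : IsIdempotentElem e) (R' : Type w) [CommRing R'] [Nontrivial R'] [Algebra R R']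
    (h0 : (1 : R') ⊗ₜ[R] e = (0 : R' ⊗[R] A)) : e = 0 := by
  have hproj : Module.Projective R (eA (R := R) e) :=
    Module.Projective.of_split (eA (R := R) e).subtype (sE e)
      (LinearMap.ext fun n => sE_subtype he n)
  have hfin : Module.Finite R (eA (R := R) e) := Module.Finite.range _
  -- base change is zero
  have hsub : Subsingleton (R' ⊗[R] eA (R := R) e) := by
    refine ⟨fun x y => ?_⟩
    have h2 : ∀ z : R' ⊗[R] eA (R := R) e,
        LinearMap.lTensor R' (eA (R := R) e).subtype z = 0 := by
      intro z
      induction z using TensorProduct.induction_on with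
      | zero => simp
      | tmul r n =>
        rw [LinearMap.lTensor_tmul, Submodule.subtype_apply]
        have h3 : r ⊗ₜ[R] (n : A) = ((1 : R') ⊗ₜ[R] e) * (r ⊗ₜ[R] (n : A)) := by
          rw [Algebra.TensorProduct.tmul_mul_tmul, one_mul, (mem_eA he _).mp n.2]
        rw [h3, h0, zero_mul]
      | add x y hx hy => rw [map_add, hx, hy, add_zero]
    have key : ∀ z : R' ⊗[R] eA (R := R) e, z = 0 := by
      intro z
      have h1 : (LinearMap.lTensor R' (sE (R := R) e)) (LinearMap.lTensor R' (eA (R := R) e).subtype z)
          = z := by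
        rw [← LinearMap.comp_apply, ← LinearMap.lTensor_comp]
        have : sE (R := R) e ∘ₗ (eA (R := R) e).subtype = LinearMap.id :=
          LinearMap.ext fun n => sE_subtype he n
        rw [this, LinearMap.lTensor_id, LinearMap.id_apply]
      rw [← h1, h2, map_zero]
    rw [key x, key y]
  obtain ⟨p'⟩ : Nonempty (PrimeSpectrum R') := inferInstance
  have h1 : Module.rankAtStalk (R' ⊗[R] eA (R := R) e) p' = 0 := by
    rw [Module.rankAtStalk_eq_zero_of_subsingleton]; rfl
  rw [Module.rankAtStalk_baseChange] at h1
  have hfp : Module.FinitePresentation R (eA (R := R) e) :=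
    Module.finitePresentation_of_projective R _
  have hlc : IsLocallyConstant (Module.rankAtStalk (R := R) (eA (R := R) e)) :=
    Module.isLocallyConstant_rankAtStalk
  have h2 : Module.rankAtStalk (R := R) (eA (R := R) e) = 0 := by
    ext q
    rw [hlc.apply_eq_of_preconnectedSpace q (p'.comap (algebraMap R R')), h1]; rfl
  have h3 : Subsingleton (eA (R := R) e) := Module.rankAtStalk_eq_zero_iff_subsingleton.mp h2
  have h4 : (⟨e, (mem_eA he e).mpr he.eq⟩ : eA (R := R) e) = 0 := Subsingleton.elim _ _
  exact congrArg Subtype.val h4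

theorem main [ConnectedSpace (PrimeSpectrum R)] [IsAzumaya R A]
    (e : A) (he : IsIdempotentElem e) (R' : Type w) [CommRing R'] [Nontrivial R'] [Algebra R R'] :
    ((1 : R') ⊗ₜ[R] e = (0 : R' ⊗[R] A) → e = 0) ∧
      ((1 : R') ⊗ₜ[R] e = (1 : R' ⊗[R] A) → e = 1) := by
  refine ⟨first e he R', fun h1 => ?_⟩
  have h2 : (1 : R') ⊗ₜ[R] (1 - e) = (0 : R' ⊗[R] A) := by
    rw [TensorProduct.tmul_sub, h1, ← Algebra.TensorProduct.one_def, sub_self]
  have := first (1 - e) he.one_sub R' h2
  exact (sub_eq_zero.mp this).symm

end Aux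

/-- Let R be a commutative ring with Spec R connected, A an Azumaya R-algebra and e an idempotent
element of A. If for some nonzero commutative R-algebra R' the element 1 ⊗ e of R' ⊗_R A is 0, then
e = 0; and if 1 ⊗ e = 1 in R' ⊗_R A, then e = 1. (The published statement is for an Azumaya algebra
over a connected scheme S and base change to an arbitrary nonempty S-scheme T; this row takes S and
T affine.) -/
theorem result {R : Type u} [CommRing R]
    [ConnectedSpace (PrimeSpectrum R)] {A : Type v} [Ring A] [Algebra R A] [IsAzumaya R A]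
    (e : A) (he : IsIdempotentElem e) (R' : Type w) [CommRing R'] [Nontrivial R'] [Algebra R R'] :
    ((1 : R') ⊗ₜ[R] e = (0 : R' ⊗[R] A) → e = 0) ∧ ((1 : R') ⊗ₜ[R] e = (1 : R' ⊗[R] A) → e = 1) := by
  exact Aux.main e he R'

end Groth.Agent.S19804
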