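import Groth.Statements.S1983
import Mathlib
import Groth.Prelude.Def_EtRam
import Groth.Agent.Lib.Helper9.EtRam.Dom8
-- import your own Groth.Agent.* helpers here

set_option autoImplicit false
universe u
open EtAlg

namespace Groth.Agent.S1983

namespace Aux
open IsLocalRing EtRam TensorProduct Groth.Agent.Helper9.EtRamLib

theorem main (A B K L : Type u) [CommRing A] [IsDomain A] [IsDiscreteValuationRing A]
    [CommRing B] [IsDomain B] [IsDiscreteValuationRing B] [Algebra A B] [IsLocalHom (algebraMap A B)]
    (hinj : Function.Injective (algebraMap A B))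
    [Field K] [Field L] [Algebra A K] [IsFractionRing A K] [Algebra B L] [IsFractionRing B L]
    [Algebra K L] [Algebra A L] [IsScalarTower A K L] [IsScalarTower A B L]
    (hw : EtRam.IsWeaklyUnramified A B) [Algebra.IsGeometricallyReduced (IsLocalRing.ResidueField A) (IsLocalRing.ResidueField B)]
    (K₁ : Type u) [Field K₁] [Algebra K K₁] [FiniteDimensional K K₁] : EtRam.IsSolution B K L K₁ := by
  intro M _ _ _ _ _ _ hadj W hW
  set f := algebraMap K₁ M with hf
  set g₁ := (algebraMap L M).comp (algebraMap B L) with hg₁
  set gK₁ := (algebraMap K K₁).comp (algebraMap A K) with hgK₁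
  set V₁ := W.comap f with hV₁
  have hcompat0 : f.comp gK₁ = g₁.comp (algebraMap A B) := by
    ext a
    simp only [f, gK₁, g₁, RingHom.comp_apply]
    rw [← IsScalarTower.algebraMap_apply K K₁ M, ← IsScalarTower.algebraMap_apply A B L,
      IsScalarTower.algebraMap_apply A K L, ← IsScalarTower.algebraMap_apply K L M]
  have hWA : Dominates A (f.comp gK₁) W := hcompat0 ▸ dom_comp_local hW
  have hV₁dom : Dominates A gK₁ V₁ := dom_comap hWA
  haveI : IsDiscreteValuationRing V₁ :=
    isDVR_of_dominates (A := A) (K := K) (g := gK₁) (fun a => rfl) hV₁dom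
  haveI : FiniteDimensional L M := finite_of_adjoin_eq_top (K := K) hadj
  haveI : IsDiscreteValuationRing W :=
    isDVR_of_dominates (A := B) (K := L) (g := g₁) (fun a => rfl) hW
  letI algAV₁ : Algebra A V₁ := (RingHom.codRestrict gK₁ V₁ hV₁dom.1).toAlgebra
  haveI : IsLocalHom (algebraMap A V₁) := dom_isLocalHom hV₁dom
  haveI hfin : Module.Finite (ResidueField A) (ResidueField V₁) :=
    finite_residue_of_dominates (A := A) (K := K) (g := gK₁) (fun a => rfl) hV₁dom
  set g₂ := f.comp V₁.subtype with hg₂
  have hV₁W : Dominates V₁ g₂ W := dom_self_comap W f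
  have hcompat : g₁.comp (algebraMap A B) = g₂.comp (algebraMap A V₁) := by
    rw [← hcompat0]; rfl
  have hVNR : IsVNR (ResidueField B ⊗[ResidueField A] ResidueField V₁) :=
    (tensor_finite_geomReduced _ _ _).2.2
  obtain ⟨ϖ₁, hϖ₁⟩ := IsDiscreteValuationRing.exists_irreducible V₁
  have hinj₂ : Function.Injective g₂ := fun a b hab => Subtype.ext (f.injective hab)
  have hgen := closure_eq_top_of_adjoin (B := B) hadj V₁
  have hwu := lemmaU_wu hcompat hw hVNR hW hV₁W hϖ₁ hinj₂ hgen
  refine ⟨hwu, ?_⟩
  -- geometric reducedness
  letI algres : Algebra (ResidueField V₁) (ResidueField W) :=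
    (ResidueField.map (inclOfComap W f)).toAlgebra
  letI algres' : Algebra (ResidueField A) (ResidueField W) :=
    ((algebraMap (ResidueField V₁) (ResidueField W)).comp
      (algebraMap (ResidueField A) (ResidueField V₁))).toAlgebra
  haveI : IsScalarTower (ResidueField A) (ResidueField V₁) (ResidueField W) :=
    IsScalarTower.of_algebraMap_eq (fun _ => rfl)
  haveI : IsLocalHom (RingHom.codRestrict g₁ W hW.1) := dom_isLocalHom hW
  let ι : ResidueField B →ₐ[ResidueField A] ResidueField W :=
    { ResidueField.map (RingHom.codRestrict g₁ W hW.1) with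
      commutes' := fun r => by
        obtain ⟨a, rfl⟩ := residue_surjective r
        show ResidueField.map (RingHom.codRestrict g₁ W hW.1)
            (algebraMap (ResidueField A) (ResidueField B) (residue A a)) =
          ResidueField.map (inclOfComap W f)
            (algebraMap (ResidueField A) (ResidueField V₁) (residue A a))
        rw [ResidueField.algebraMap_residue, ResidueField.algebraMap_residue,
          ResidueField.map_residue, ResidueField.map_residue]
        congr 1
        apply Subtype.ext
        exact (RingHom.congr_fun hcompat a) }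
  apply geomReduced_of_tensor_surj (ResidueField A) (ResidueField V₁) (ResidueField B)
    (ResidueField W) ι
  set Φ := Algebra.TensorProduct.lift (Algebra.ofId (ResidueField V₁) (ResidueField W)) ι
    (fun _ _ => Commute.all _ _) with hΦ
  have key : ∀ r ∈ genRing g₁ g₂, ∀ hrW : r ∈ W, residue W ⟨r, hrW⟩ ∈ Φ.range := by
    intro r hr
    induction hr using Subring.closure_induction with
    | mem x hx =>
      rcases hx with ⟨b, rfl⟩ | ⟨v, rfl⟩
      · intro hrW
        refine ⟨1 ⊗ₜ residue B b, ?_⟩
        show Φ (1 ⊗ₜ residue B b) = _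
        rw [hΦ, Algebra.TensorProduct.lift_tmul, map_one, one_mul]
        rfl
      · intro hrW
        refine ⟨residue V₁ v ⊗ₜ 1, ?_⟩
        show Φ (residue V₁ v ⊗ₜ 1) = _
        rw [hΦ, Algebra.TensorProduct.lift_tmul, map_one, mul_one]
        rfl
    | zero =>
      intro hrW
      have : residue W ⟨0, hrW⟩ = 0 := map_zero _
      rw [this]; exact zero_mem _
    | one =>
      intro hrW
      have : residue W ⟨1, hrW⟩ = 1 := map_one _
      rw [this]; exact one_mem _
    | add x y hx hy ihx ihy =>
      intro hrW
      have hxW := genRing_le hW hV₁W hx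
      have hyW := genRing_le hW hV₁W hy
      have : residue W ⟨x + y, hrW⟩ = residue W ⟨x, hxW⟩ + residue W ⟨y, hyW⟩ := by
        rw [← map_add]; rfl
      rw [this]; exact add_mem (ihx hxW) (ihy hyW)
    | neg x hx ihx =>
      intro hrW
      have hxW := genRing_le hW hV₁W hx
      have : residue W ⟨-x, hrW⟩ = - residue W ⟨x, hxW⟩ := by
        rw [← map_neg]; rfl
      rw [this]; exact neg_mem (ihx hxW)
    | mul x y hx hy ihx ihy =>
      intro hrW
      have hxW := genRing_le hW hV₁W hx
      have hyW := genRing_le hW hV₁W hy
      have : residue W ⟨x * y, hrW⟩ = residue W ⟨x, hxW⟩ * residue W ⟨y, hyW⟩ := by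
        rw [← map_mul]; rfl
      rw [this]; exact mul_mem (ihx hxW) (ihy hyW)
  intro x
  obtain ⟨r, hr, rfl⟩ := lemmaU_res hcompat hw hVNR hW hV₁W hϖ₁ hinj₂ hgen x
  exact key r hr _

end Aux

/-- Suppose A -> B makes the discrete valuation ring B an extension of the discrete valuation ring A,
with fraction fields K ⊂ L, and that this extension is weakly unramified with separable, i.e.
geometrically reduced and possibly transcendental, residue field extension (formally smooth for the
adic topology). Then every finite extension K₁/K is a solution for A -> B. -/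
theorem result (A B K L : Type u) [CommRing A] [IsDomain A] [IsDiscreteValuationRing A]
    [CommRing B] [IsDomain B] [IsDiscreteValuationRing B] [Algebra A B] [IsLocalHom (algebraMap A B)]
    (hinj : Function.Injective (algebraMap A B))
    [Field K] [Field L] [Algebra A K] [IsFractionRing A K] [Algebra B L] [IsFractionRing B L]
    [Algebra K L] [Algebra A L] [IsScalarTower A K L] [IsScalarTower A B L]
    (hw : EtRam.IsWeaklyUnramified A B) [Algebra.IsGeometricallyReduced (IsLocalRing.ResidueField A) (IsLocalRing.ResidueField B)]
    (K₁ : Type u) [Field K₁] [Algebra K K₁] [FiniteDimensional K K₁] : EtRam.IsSolution B K L K₁ := by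
  exact Aux.main A B K L hinj hw K₁

end Groth.Agent.S1983
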