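import Groth.Statements.S19856
import Mathlib
-- import your own Groth.Agent.* helpers here

set_option autoImplicit false
universe u v
open CAlg

namespace Groth.Agent.S19856

open IsLocalRing
namespace Aux

section
variable {O : Type u} [CommRing O] [IsDomain O] [IsDiscreteValuationRing O]
    {G : Type v} [Group G] [MulSemiringAction G O]
    (htriv : ∀ (g : G) (a : O), g • a - a ∈ maximalIdeal O)
    (π : O) (hπ : maximalIdeal O = Ideal.span {π})

include htriv hπ in
/-- key step -/
lemma step (g : G) (w : O) (hw : g • π = w * π) (hw1 : w - 1 ∈ maximalIdeal O)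
    (i : ℕ) (y : O) (hy : y ∈ maximalIdeal O ^ i) : g • y - y ∈ maximalIdeal O ^ (i + 1) := by
  rw [hπ, Ideal.span_singleton_pow, Ideal.mem_span_singleton'] at hy
  obtain ⟨d, rfl⟩ := hy
  have h1 : g • (d * π ^ i) - d * π ^ i = π ^ i * ((w ^ i - 1) * g • d + (g • d - d)) := by
    rw [smul_mul', smul_pow', hw]
    ring
  rw [h1, pow_succ]
  refine Ideal.mul_mem_mul ?_ ?_
  · rw [hπ, Ideal.span_singleton_pow]
    exact Ideal.mem_span_singleton_self _
  · refine Ideal.add_mem _ (Ideal.mul_mem_right _ _ ?_) (htriv g d)
    have : w - 1 ∣ w ^ i - 1 := by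
      simpa using sub_dvd_pow_sub_pow w 1 i
    exact Ideal.mem_of_dvd _ this hw1

include htriv hπ in
lemma pow_step [Finite G] (g : G) (w : O) (hw : g • π = w * π) (hw1 : w - 1 ∈ maximalIdeal O)
    (i : ℕ) (hP : ∀ a : O, g • a - a ∈ maximalIdeal O ^ i) (j : ℕ) (a : O) :
    (g ^ j) • a - a - j * (g • a - a) ∈ maximalIdeal O ^ (i + 1) := by
  induction j with
  | zero => simp
  | succ j ih =>
    set y := (g ^ j) • a - a with hy
    have hy_mem : y ∈ maximalIdeal O ^ i := by
      have h2 : y = ((g ^ j) • a - a - j * (g • a - a)) + j * (g • a - a) := by ring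
      rw [h2]
      refine Ideal.add_mem _ (Ideal.pow_le_pow_right (Nat.le_succ i) ih) (Ideal.mul_mem_left _ _ (hP a))
    have h3 := step htriv π hπ g w hw hw1 i y hy_mem
    have h4 : (g ^ (j + 1)) • a - a - ((j + 1 : ℕ) : O) * (g • a - a) =
        (g • y - y) + ((g ^ j) • a - a - j * (g • a - a)) := by
      rw [pow_succ', mul_smul, hy, smul_sub]
      push_cast
      ring
    rw [h4]
    exact Ideal.add_mem _ h3 ih

include htriv hπ in
lemma all_pow [Finite G] (hcard : ((Nat.card G : ℕ) : ResidueField O) ≠ 0)
    (g : G) (w : O) (hw : g • π = w * π) (hw1 : w - 1 ∈ maximalIdeal O)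
    (i : ℕ) : ∀ a : O, g • a - a ∈ maximalIdeal O ^ (i + 1) := by
  induction i with
  | zero => intro a; simpa using htriv g a
  | succ i ih =>
    intro a
    have h1 := pow_step htriv π hπ g w hw hw1 (i + 1) ih (Nat.card G) a
    rw [pow_card_eq_one', one_smul, sub_self, zero_sub, neg_mem_iff] at h1
    have hunit : IsUnit ((Nat.card G : ℕ) : O) := by
      by_contra hn
      have := (mem_maximalIdeal _).mpr hn
      rw [← residue_eq_zero_iff, map_natCast] at this
      exact hcard this
    exact (Ideal.unit_mul_mem_iff_mem _ hunit).mp h1

end

theorem main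
    (O : Type u) [CommRing O] [IsDomain O] [IsDiscreteValuationRing O]
    (G : Type v) [Group G] [Finite G] [MulSemiringAction G O] [FaithfulSMul G O]
    (htriv : ∀ (g : G) (a : O), g • a - a ∈ IsLocalRing.maximalIdeal O)
    (hcard : ((Nat.card G : ℕ) : IsLocalRing.ResidueField O) ≠ 0) :
    IsCyclic G := by
  obtain ⟨π, hirr⟩ := IsDiscreteValuationRing.exists_irreducible O
  have hπ : maximalIdeal O = Ideal.span {π} := (IsDiscreteValuationRing.irreducible_iff_uniformizer π).mp hirr
  have hπ0 : π ≠ 0 := hirr.ne_zero
  have hπm : π ∈ maximalIdeal O := by rw [hπ]; exact Ideal.mem_span_singleton_self _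
  -- w g
  have hw : ∀ g : G, ∃ w : O, g • π = w * π := by
    intro g
    have : g • π ∈ maximalIdeal O := by
      have h1 := htriv g π
      have : g • π = (g • π - π) + π := by ring
      rw [this]
      exact Ideal.add_mem _ h1 hπm
    rw [hπ, Ideal.mem_span_singleton'] at this
    obtain ⟨w, hw⟩ := this
    exact ⟨w, hw.symm⟩
  choose w hw using hw
  have hw_one : w 1 = 1 := by
    have := hw 1
    rw [one_smul] at this
    have h2 : (1 : O) * π = w 1 * π := by rw [one_mul]; exact this
    exact (mul_right_cancel₀ hπ0 h2).symm
  have hw_mul : ∀ g h : G, w (g * h) = g • (w h) * w g := by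
    intro g h
    have h1 := hw (g * h)
    rw [mul_smul, hw h, smul_mul', hw g] at h1
    have h2 : (g • w h * w g) * π = w (g * h) * π := by rw [← h1]; ring
    exact (mul_right_cancel₀ hπ0 h2).symm
  let χ : G →* ResidueField O :=
    { toFun := fun g => residue O (w g)
      map_one' := by rw [hw_one, map_one]
      map_mul' := by
        intro g h
        rw [hw_mul, map_mul]
        have : residue O (g • w h) = residue O (w h) := by
          rw [← sub_eq_zero, ← map_sub, residue_eq_zero_iff]
          exact htriv g (w h)
        rw [this, mul_comm] }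
  -- kernel trivial
  have hker : ∀ g : G, χ g = 1 → g = 1 := by
    intro g hg
    have hw1 : w g - 1 ∈ maximalIdeal O := by
      rw [← residue_eq_zero_iff, map_sub, map_one, sub_eq_zero]
      exact hg
    apply FaithfulSMul.eq_of_smul_eq_smul (α := O)
    intro a
    rw [one_smul, ← sub_eq_zero]
    have hall := fun i => all_pow htriv π hπ hcard g (w g) (hw g) hw1 i a
    have hbot : (⨅ i : ℕ, maximalIdeal O ^ i) = ⊥ :=
      Ideal.iInf_pow_eq_bot_of_isLocalRing _ (Ideal.IsPrime.ne_top inferInstance)
    have : g • a - a ∈ (⨅ i : ℕ, maximalIdeal O ^ i) := by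
      rw [Ideal.mem_iInf]
      intro i
      exact Ideal.pow_le_pow_right (Nat.le_succ i) (hall i)
    rw [hbot] at this
    exact this
  have hinj : Function.Injective χ := by
    intro g h hgh
    have h1 : χ (h⁻¹ * g) = 1 := by
      rw [map_mul, hgh, ← map_mul, inv_mul_cancel, map_one]
    have := hker _ h1
    rw [inv_mul_eq_one] at this
    exact this.symm
  exact isCyclic_of_injective_ringHom χ hinj

end Aux

/-- Ring-level form: let O be a discrete valuation ring and G a finite group acting faithfully on O by
ring automorphisms, such that every element of G acts trivially on the residue field of O (that is,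
g • a - a lies in the maximal ideal for all a) and such that the order of G is nonzero in the
residue field of O. Then G is cyclic. (The source states this for a finite group of order invertible
in an algebraically closed field k acting faithfully on a smooth connected k-variety and the
subgroup of elements fixing pointwise a codimension-one irreducible component of the ramification
locus, applied to the local ring at the generic point of that component; it is stated here for an
arbitrary discrete valuation ring with a faithful action. The source also shows that this subgroup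
is nontrivial; that geometric part is not stated.) -/
theorem result
    (O : Type u) [CommRing O] [IsDomain O] [IsDiscreteValuationRing O]
    (G : Type v) [Group G] [Finite G] [MulSemiringAction G O] [FaithfulSMul G O]
    (htriv : ∀ (g : G) (a : O), g • a - a ∈ IsLocalRing.maximalIdeal O)
    (hcard : ((Nat.card G : ℕ) : IsLocalRing.ResidueField O) ≠ 0) :
    IsCyclic G := by
  exact Aux.main O G htriv hcard

end Groth.Agent.S19856
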