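import Groth.Statements.S1988
import Mathlib
import Groth.Prelude.Def_EtRam
import Groth.Agent.Lib.Helper9.EtRam.Dom17
-- import your own Groth.Agent.* helpers here

set_option autoImplicit false
universe u
open EtAlg

namespace Groth.Agent.S1988

namespace Aux
open IsLocalRing EtRam TensorProduct Groth.Agent.Helper9.EtRamLib

section
variable (A B C K L M₀ K₁ : Type u) [CommRing A] [IsDomain A] [IsDiscreteValuationRing A]
    [CommRing B] [IsDomain B] [IsDiscreteValuationRing B] [Algebra A B] [IsLocalHom (algebraMap A B)]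
    (hinjA : Function.Injective (algebraMap A B))
    [CommRing C] [IsDomain C] [IsDiscreteValuationRing C] [Algebra B C] [IsLocalHom (algebraMap B C)]
    (hinj : Function.Injective (algebraMap B C))
    [Field K] [Field L] [Field M₀] [Field K₁] [Algebra K L] [Algebra K M₀] [Algebra L M₀] [IsScalarTower K L M₀]
    [Algebra K K₁] [FiniteDimensional K K₁] [Algebra A K] [IsFractionRing A K]
    [Algebra B L] [IsFractionRing B L] [Algebra A L] [IsScalarTower A K L] [IsScalarTower A B L]
    [Algebra C M₀] [IsFractionRing C M₀] [Algebra B M₀]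
    [IsScalarTower B C M₀] [IsScalarTower B L M₀]

include hinjA hinj in
theorem core (P : ∀ (M : Type u) [Field M], ValuationSubring M → (K₁ →+* M) → Prop)
    (hP : ∀ (M M' : Type u) [Field M] [Field M'] (f : K₁ →+* M) (φ : M →+* M')
      (W' : ValuationSubring M'), IsDiscreteValuationRing ((W'.comap φ).comap f) →
      IsDiscreteValuationRing (W'.comap φ) → IsDiscreteValuationRing W' →
      P M' W' (φ.comp f) → P M (W'.comap φ) f) :
    ForallLocalExt C K M₀ K₁ P → ForallLocalExt B K L K₁ P := by
  intro hC M _ _ _ _ _ _ hadj W hW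
  set f := algebraMap K₁ M with hf
  set g₁ := (algebraMap L M).comp (algebraMap B L) with hg₁
  set gK₁ := (algebraMap K K₁).comp (algebraMap A K) with hgK₁
  have hcompat0 : f.comp gK₁ = g₁.comp (algebraMap A B) := by
    ext a
    simp only [f, gK₁, g₁, RingHom.comp_apply]
    rw [← IsScalarTower.algebraMap_apply K K₁ M, ← IsScalarTower.algebraMap_apply A B L,
      IsScalarTower.algebraMap_apply A K L, ← IsScalarTower.algebraMap_apply K L M]
  have hWA : Dominates A (f.comp gK₁) W := hcompat0 ▸ dom_comp_local hW
  have hV₁dom : Dominates A gK₁ (W.comap f) := dom_comap hWA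
  haveI hV₁dvr : IsDiscreteValuationRing (W.comap f) :=
    isDVR_of_dominates (A := A) (K := K) (g := gK₁) (fun a => rfl) hV₁dom
  haveI : FiniteDimensional L M := finite_of_adjoin_eq_top (K := K) hadj
  haveI hWdvr : IsDiscreteValuationRing W :=
    isDVR_of_dominates (A := B) (K := L) (g := g₁) (fun a => rfl) hW
  letI algBW : Algebra B W := (RingHom.codRestrict g₁ W hW.1).toAlgebra
  haveI : IsLocalHom (algebraMap B W) := dom_isLocalHom hW
  have hg₁inj : Function.Injective g₁ :=
    (algebraMap L M).injective.comp (IsFractionRing.injective B L)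
  have hinjBW : Function.Injective (algebraMap B W) := codRestrict_injective hg₁inj hW.1
  obtain ⟨M', _, φ, φ₀, W', hcompat, hWW', hCW', hgen⟩ :=
    amalgam (B := B) (W := W) (C := C) hinjBW hinj M M₀
  have hcomm : φ.comp (algebraMap L M) = φ₀.comp (algebraMap L M₀) := by
    apply IsLocalization.ringHom_ext (nonZeroDivisors B)
    ext b
    show φ (algebraMap L M (algebraMap B L b)) = φ₀ (algebraMap L M₀ (algebraMap B L b))
    have h1 := hcompat b
    rw [← IsScalarTower.algebraMap_apply B C M₀, IsScalarTower.algebraMap_apply B L M₀] at h1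
    rw [← h1]
    rfl
  letI algM₀M' : Algebra M₀ M' := φ₀.toAlgebra
  letI algK₁M' : Algebra K₁ M' := (φ.comp f).toAlgebra
  letI algKM' : Algebra K M' := (φ₀.comp (algebraMap K M₀)).toAlgebra
  haveI : IsScalarTower K M₀ M' := IsScalarTower.of_algebraMap_eq (fun _ => rfl)
  haveI : IsScalarTower K K₁ M' := IsScalarTower.of_algebraMap_eq (fun c => by
    show φ₀ (algebraMap K M₀ c) = φ (f (algebraMap K K₁ c))
    rw [IsScalarTower.algebraMap_apply K L M₀, hf, ← IsScalarTower.algebraMap_apply K K₁ M,
      IsScalarTower.algebraMap_apply K L M]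
    exact (RingHom.congr_fun hcomm (algebraMap K L c)).symm)
  have hadj' : Algebra.adjoin M₀ (Set.range (algebraMap K₁ M')) = ⊤ :=
    adjoin_top_of_amalgam K hadj φ φ₀ hcomm hgen
  have hW'C : Dominates C ((algebraMap M₀ M').comp (algebraMap C M₀)) W' := hCW'
  have hsol := hC M' hadj' W' hW'C
  have hcomap : W'.comap φ = W := comap_eq_of_dom hWW'
  haveI : FiniteDimensional M₀ M' := finite_of_adjoin_eq_top (K := K) hadj'
  have hW'dvr : IsDiscreteValuationRing W' :=
    isDVR_of_dominates (A := C) (K := M₀) (g := (algebraMap M₀ M').comp (algebraMap C M₀))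
      (fun a => rfl) hW'C
  have h2 : IsDiscreteValuationRing (W'.comap φ) := hcomap.symm ▸ hWdvr
  have h1 : IsDiscreteValuationRing ((W'.comap φ).comap f) := hcomap.symm ▸ hV₁dvr
  exact hcomap ▸ hP M M' f φ W' h1 h2 hW'dvr hsol

end

theorem main (A B C K L M₀ K₁ : Type u) [CommRing A] [IsDomain A] [IsDiscreteValuationRing A]
    [CommRing B] [IsDomain B] [IsDiscreteValuationRing B] [Algebra A B] [IsLocalHom (algebraMap A B)]
    (hinjA : Function.Injective (algebraMap A B))
    [CommRing C] [IsDomain C] [IsDiscreteValuationRing C] [Algebra B C] [IsLocalHom (algebraMap B C)]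
    (hinj : Function.Injective (algebraMap B C))
    [Field K] [Field L] [Field M₀] [Field K₁] [Algebra K L] [Algebra K M₀] [Algebra L M₀] [IsScalarTower K L M₀]
    [Algebra K K₁] [FiniteDimensional K K₁] [Algebra A K] [IsFractionRing A K]
    [Algebra B L] [IsFractionRing B L] [Algebra A L] [IsScalarTower A K L] [IsScalarTower A B L]
    [Algebra C M₀] [IsFractionRing C M₀] [Algebra B M₀]
    [IsScalarTower B C M₀] [IsScalarTower B L M₀] :
    (EtRam.IsWeakSolution C K M₀ K₁ → EtRam.IsWeakSolution B K L K₁) ∧
    (EtRam.IsSolution C K M₀ K₁ → EtRam.IsSolution B K L K₁) := by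
  constructor
  · exact core A B C K L M₀ K₁ hinjA hinj _ (fun M M' _ _ f φ W' h1 h2 h3 h => descend_wu f φ W' h1 h2 h3 h)
  · exact core A B C K L M₀ K₁ hinjA hinj _ (fun M M' _ _ f φ W' h1 h2 h3 h =>
      ⟨descend_wu f φ W' h1 h2 h3 h.1, descend_geomRed f φ W' h.2⟩)

end Aux

/-- Let A -> B -> C be extensions of discrete valuation rings (local injective maps) with fraction
fields K ⊂ L ⊂ M₀ and K₁/K a finite extension. (The solution predicates mention only B, C and the
fields: in them the bottom ring is recovered as B ∩ K, which the hypotheses on A force to be A.) If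
K₁ is a weak solution (resp. a solution) for A -> C then it is a weak solution (resp. a solution)
for A -> B. -/
theorem result (A B C K L M₀ K₁ : Type u) [CommRing A] [IsDomain A] [IsDiscreteValuationRing A]
    [CommRing B] [IsDomain B] [IsDiscreteValuationRing B] [Algebra A B] [IsLocalHom (algebraMap A B)]
    (hinjA : Function.Injective (algebraMap A B))
    [CommRing C] [IsDomain C] [IsDiscreteValuationRing C] [Algebra B C] [IsLocalHom (algebraMap B C)]
    (hinj : Function.Injective (algebraMap B C))
    [Field K] [Field L] [Field M₀] [Field K₁] [Algebra K L] [Algebra K M₀] [Algebra L M₀] [IsScalarTower K L M₀]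
    [Algebra K K₁] [FiniteDimensional K K₁] [Algebra A K] [IsFractionRing A K]
    [Algebra B L] [IsFractionRing B L] [Algebra A L] [IsScalarTower A K L] [IsScalarTower A B L]
    [Algebra C M₀] [IsFractionRing C M₀] [Algebra B M₀]
    [IsScalarTower B C M₀] [IsScalarTower B L M₀] :
    (EtRam.IsWeakSolution C K M₀ K₁ → EtRam.IsWeakSolution B K L K₁) ∧
    (EtRam.IsSolution C K M₀ K₁ → EtRam.IsSolution B K L K₁) := by
  exact Aux.main A B C K L M₀ K₁ hinjA hinj

end Groth.Agent.S1988
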