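import Groth.Statements.S19907
import Mathlib
-- import your own Groth.Agent.* helpers here

set_option autoImplicit false
universe u
open CategoryTheory TensorProduct
open ArtFun

namespace Groth.Agent.S19907

open TensorProduct Algebra Algebra.Extension Polynomial IntermediateField
namespace Aux

attribute [local instance] SMulCommClass.of_commMonoid


section
variable {R S T : Type u} [CommRing R] [CommRing S] [CommRing T]
variable [Algebra R S] [Algebra R T] [Algebra S T] [IsScalarTower R S T]

set_option backward.isDefEq.respectTransparency.types false in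
set_option backward.defeqAttrib.useBackward true in
theorem inj_ext {P : Extension.{u} R S} {Q : Extension.{u} R T} (f : P.Hom Q)
    [alg : Algebra P.Ring Q.Ring] (halg : algebraMap P.Ring Q.Ring = f.toRingHom)
    [Module.Flat S T]
    (H₂ : Function.Bijective ((f.mapKer halg).liftBaseChange Q.Ring)) :
    Function.Injective ((Extension.H1Cotangent.map f).liftBaseChange T) := by
  rw [injective_iff_map_eq_zero]
  intro x hx
  apply Module.Flat.lTensor_preserves_injective_linearMap _ h1Cotangentι_injective
  apply (Extension.tensorCotangent f halg H₂).injective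
  simp only [map_zero]
  rw [← h1Cotangentι.map_zero, ← hx]
  change ((Cotangent.map f).liftBaseChange T ∘ₗ h1Cotangentι.baseChange T) x =
    (h1Cotangentι ∘ₗ _) x
  congr 1
  ext x
  simp

set_option backward.isDefEq.respectTransparency false in
/-- hom from the standard presentation to any extension -/
noncomputable def homOfSelf (Q : Extension.{u} R T) : (Generators.self R T).toExtension.Hom Q :=
  { toRingHom := (MvPolynomial.aeval Q.σ).toRingHom
    toRingHom_algebraMap := (MvPolynomial.aeval Q.σ).commutes
    algebraMap_toRingHom := by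
      intro x
      induction x using MvPolynomial.induction_on with
      | C a =>
        change (algebraMap Q.Ring T) (MvPolynomial.aeval Q.σ (MvPolynomial.C a)) =
          MvPolynomial.aeval (Generators.self R T).val (MvPolynomial.C a)
        simp only [MvPolynomial.aeval_C]
        exact (IsScalarTower.algebraMap_apply R Q.Ring T a).symm
      | add p q hp hq => simp only [map_add, hp, hq]
      | mul_X p i hp =>
        simp only [map_mul, hp]
        congr 1
        change (algebraMap Q.Ring T) (MvPolynomial.aeval Q.σ (MvPolynomial.X i)) =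
          MvPolynomial.aeval (Generators.self R T).val (MvPolynomial.X i)
        simp [Generators.self] }

theorem inj_alg {Q : Extension.{u} R T} (f : (Generators.self R S).toExtension.Hom Q)
    [alg : Algebra (Generators.self R S).toExtension.Ring Q.Ring]
    (halg : algebraMap (Generators.self R S).toExtension.Ring Q.Ring = f.toRingHom)
    [Module.Flat S T]
    (H₂ : Function.Bijective ((f.mapKer halg).liftBaseChange Q.Ring)) :
    Function.Injective ((Algebra.H1Cotangent.map R R S T).liftBaseChange T) := by
  have h1 := inj_ext f halg H₂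
  have h2 : (Extension.H1Cotangent.map f).liftBaseChange T =
      (Extension.H1Cotangent.map (homOfSelf Q)) ∘ₗ
        (Algebra.H1Cotangent.map R R S T).liftBaseChange T := by
    ext x
    simp only [AlgebraTensorModule.curry_apply, curry_apply, LinearMap.coe_restrictScalars,
      LinearMap.liftBaseChange_tmul, one_smul, LinearMap.coe_comp, Function.comp_apply]
    let f₀ : (Generators.self R S).toExtension.Hom (Generators.self R T).toExtension :=
      (Generators.defaultHom (Generators.self R S) (Generators.self R T)).toExtensionHom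
    have h3 := Extension.H1Cotangent.map_comp_apply f₀ (homOfSelf Q) x
    rw [Algebra.H1Cotangent.map, ← h3]
    rw [DFunLike.congr_fun (Extension.H1Cotangent.map_eq f ((homOfSelf Q).comp f₀)) x]
  intro x y hxy
  apply h1
  rw [h2, LinearMap.comp_apply, LinearMap.comp_apply, hxy]

end


section
variable {R S T : Type u} [CommRing R] [CommRing S] [CommRing T]
variable [Algebra R S] [Algebra R T] [Algebra S T] [IsScalarTower R S T]
variable (P : Extension.{u} R S) (G : P.Ring[X]) (φ : AdjoinRoot G →ₐ[R] T)
  (hφ : Function.Surjective φ)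

/-- the extension `AdjoinRoot G → T` -/
noncomputable def QQ : Extension.{u} R T := Extension.ofSurjective φ hφ

noncomputable instance : Algebra P.Ring (QQ P G φ hφ).Ring :=
  inferInstanceAs (Algebra P.Ring (AdjoinRoot G))

theorem QQ_algebraMap (e : AdjoinRoot G) : algebraMap (QQ P G φ hφ).Ring T e = φ e := rfl

variable (hcomp : ∀ a, φ (AdjoinRoot.of G a) = algebraMap S T (algebraMap P.Ring S a))

/-- the hom of extensions -/
noncomputable def ff : P.Hom (QQ P G φ hφ) :=
  { toRingHom := AdjoinRoot.of G
    toRingHom_algebraMap := by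
      intro x
      exact (AdjoinRoot.algebraMap_eq' (S := R) G ▸ rfl)
    algebraMap_toRingHom := by
      intro a
      exact hcomp a }

theorem halg : algebraMap P.Ring (QQ P G φ hφ).Ring = (ff P G φ hφ hcomp).toRingHom :=
  AdjoinRoot.algebraMap_eq G


theorem lbc_val (x : (QQ P G φ hφ).Ring ⊗[P.Ring] P.ker) :
    (((ff P G φ hφ hcomp).mapKer (halg P G φ hφ hcomp)).liftBaseChange (QQ P G φ hφ).Ring x).1 =
      TensorProduct.rid P.Ring (QQ P G φ hφ).Ring
        (LinearMap.lTensor (QQ P G φ hφ).Ring (Submodule.subtype P.ker) x) := by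
  induction x with
  | zero => simp
  | add x y hx hy => 
    simp only [map_add, Submodule.coe_add, hx, hy]
  | tmul e a =>
    simp only [LinearMap.liftBaseChange_tmul, LinearMap.lTensor_tmul, Submodule.subtype_apply,
      TensorProduct.rid_tmul]
    rw [Algebra.smul_def, halg P G φ hφ hcomp, mul_comm]
    rfl

theorem H2 (hG : G.Monic)
    (hker : ∀ y : AdjoinRoot G, φ y = 0 →
      ∃ r : P.Ring[X], (∀ j, r.coeff j ∈ P.ker) ∧ AdjoinRoot.mk G r = y) :
    Function.Bijective (((ff P G φ hφ hcomp).mapKer
      (halg P G φ hφ hcomp)).liftBaseChange (QQ P G φ hφ).Ring) := by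
  haveI : Module.Free P.Ring (AdjoinRoot G) := hG.free_adjoinRoot
  haveI : Module.Flat P.Ring (QQ P G φ hφ).Ring :=
    inferInstanceAs (Module.Flat P.Ring (AdjoinRoot G))
  constructor
  · intro x y hxy
    have h1 := lbc_val P G φ hφ hcomp x
    have h2 := lbc_val P G φ hφ hcomp y
    rw [hxy, h2] at h1
    have := (TensorProduct.rid _ _).injective h1
    exact Module.Flat.lTensor_preserves_injective_linearMap _ (Submodule.injective_subtype _)
      this.symm
  · intro y
    obtain ⟨r, hr, hry⟩ := hker y.1 (by
      have := y.2
      rw [RingHom.mem_ker] at this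
      exact this)
    let ρ : (QQ P G φ hφ).Ring := AdjoinRoot.root G
    refine ⟨∑ j ∈ r.support, (ρ ^ j) ⊗ₜ[P.Ring] (⟨r.coeff j, hr j⟩ : P.ker), ?_⟩
    apply Subtype.ext
    rw [lbc_val, map_sum, map_sum]
    simp only [LinearMap.lTensor_tmul, Submodule.subtype_apply, TensorProduct.rid_tmul]
    rw [← hry]
    conv_rhs => rw [r.as_sum_support]
    rw [map_sum]
    refine Finset.sum_congr rfl fun j _ => ?_
    rw [← C_mul_X_pow_eq_monomial, map_mul, map_pow, AdjoinRoot.mk_C, AdjoinRoot.mk_X,
      Algebra.smul_def]
    rfl

end

section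
variable {R K k : Type u} [CommRing R] [Field K] [Field k]
variable [Algebra R K] [Algebra R k] [Algebra K k] [IsScalarTower R K k]

theorem surj [Algebra.IsSeparable K k] :
    Function.Surjective ((Algebra.H1Cotangent.map R R K k).liftBaseChange k) := by
  haveI : Algebra.FormallyEtale K k := Algebra.FormallyEtale.of_isSeparable K k
  haveI : Subsingleton (Algebra.H1Cotangent K k) :=
    Algebra.FormallySmooth.subsingleton_h1Cotangent
  intro y
  exact (Algebra.H1Cotangent.exact_liftBaseChange_map_of_flat R K k y).mp (Subsingleton.elim _ _)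


theorem inj_of_primitive (α : k) (hα : K⟮α⟯ = ⊤) (hint : IsIntegral K α) :
    Function.Injective ((Algebra.H1Cotangent.map R R K k).liftBaseChange k) := by
  let P : Extension.{u} R K := (Generators.self R K).toExtension
  have hAK : Function.Surjective (algebraMap P.Ring K) := P.algebraMap_surjective
  haveI : Nontrivial P.Ring := (algebraMap P.Ring K).domain_nontrivial
  let g : K[X] := minpoly K α
  have hg : g.Monic := minpoly.monic hint
  obtain ⟨G, hGg, hGdeg, hG⟩ := Polynomial.lifts_and_degree_eq_and_monic
    (f := algebraMap P.Ring K) (p := g)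
    ((Polynomial.mem_lifts _).mpr (Polynomial.map_surjective _ hAK g)) hg
  let i : P.Ring →ₐ[R] k := (IsScalarTower.toAlgHom R K k).comp (IsScalarTower.toAlgHom R P.Ring K)
  have hi : ∀ p : P.Ring[X], p.eval₂ (i : P.Ring →+* k) α =
      aeval α (p.map (algebraMap P.Ring K)) := by
    intro p
    rw [aeval_def, Polynomial.eval₂_map]
    rfl
  have hroot : G.eval₂ (i : P.Ring →+* k) α = 0 := by
    rw [hi, hGg]; exact minpoly.aeval K α
  let φ : AdjoinRoot G →ₐ[R] k := AdjoinRoot.liftAlgHom G i α hroot
  have hφmk : ∀ p : P.Ring[X], φ (AdjoinRoot.mk G p) =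
      aeval α (p.map (algebraMap P.Ring K)) := by
    intro p
    rw [AdjoinRoot.liftAlgHom_mk, ← hi]
  have hφsurj : Function.Surjective φ := by
    intro y
    have hy : y ∈ (K⟮α⟯).toSubalgebra := by rw [hα]; trivial
    rw [IntermediateField.adjoin_simple_toSubalgebra_of_isAlgebraic hint.isAlgebraic,
      Algebra.adjoin_singleton_eq_range_aeval] at hy
    obtain ⟨p, rfl⟩ := hy
    obtain ⟨p', rfl⟩ := Polynomial.map_surjective _ hAK p
    exact ⟨AdjoinRoot.mk G p', hφmk p'⟩
  have hcomp : ∀ a, φ (AdjoinRoot.of G a) = algebraMap K k (algebraMap P.Ring K a) := by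
    intro a
    rw [AdjoinRoot.liftAlgHom_of]
    rfl
  have hker : ∀ y : AdjoinRoot G, φ y = 0 →
      ∃ r : P.Ring[X], (∀ j, r.coeff j ∈ P.ker) ∧ AdjoinRoot.mk G r = y := by
    intro y hy
    obtain ⟨p, rfl⟩ := AdjoinRoot.mk_surjective y
    refine ⟨p %ₘ G, ?_, ?_⟩
    · have h1 : AdjoinRoot.mk G (p %ₘ G) = AdjoinRoot.mk G p := by
        rw [← AdjoinRoot.modByMonicHom_mk hG]
        exact AdjoinRoot.mk_leftInverse hG _
      have h2 : aeval α ((p %ₘ G).map (algebraMap P.Ring K)) = 0 := by
        rw [← hφmk, h1, hy]
      have h3 : (p %ₘ G).map (algebraMap P.Ring K) = 0 := by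
        by_contra hne
        have h4 := minpoly.degree_le_of_ne_zero K α hne h2
        have h5 : ((p %ₘ G).map (algebraMap P.Ring K)).degree < (minpoly K α).degree := by
          calc ((p %ₘ G).map (algebraMap P.Ring K)).degree ≤ (p %ₘ G).degree :=
                Polynomial.degree_map_le
            _ < G.degree := Polynomial.degree_modByMonic_lt _ hG
            _ = (minpoly K α).degree := hGdeg
        exact absurd h4 (not_le.mpr h5)
      intro j
      rw [RingHom.mem_ker, ← Polynomial.coeff_map, h3, Polynomial.coeff_zero]
    · rw [← AdjoinRoot.modByMonicHom_mk hG]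
      exact AdjoinRoot.mk_leftInverse hG _
  exact inj_alg (ff P G φ hφsurj hcomp) (halg P G φ hφsurj hcomp) (H2 P G φ hφsurj hcomp hG hker)

theorem bij [Module.Finite K k] [Algebra.IsSeparable K k] :
    Function.Bijective ((Algebra.H1Cotangent.map R R K k).liftBaseChange k) := by
  obtain ⟨α, hα⟩ := Field.exists_primitive_element K k
  exact ⟨inj_of_primitive α hα (Algebra.IsIntegral.isIntegral α), surj⟩

end

theorem main {Λ : Type u} {k : Type u} [CommRing Λ] [Field k] [Algebra Λ k]
    [IsNoetherianRing Λ] [Module.Finite Λ k]
    [Algebra.IsSeparable (↥(algebraMap Λ k).range) k] :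
    letI : Algebra Λ (↥(algebraMap Λ k).range) := (algebraMap Λ k).rangeRestrict.toAlgebra
    letI : IsScalarTower Λ (↥(algebraMap Λ k).range) k :=
      IsScalarTower.of_algebraMap_eq (fun _ ↦ rfl)
    Function.Bijective
      ((Algebra.H1Cotangent.map Λ Λ (↥(algebraMap Λ k).range) k).liftBaseChange k) := by
  letI i1 : Algebra Λ (↥(algebraMap Λ k).range) := (algebraMap Λ k).rangeRestrict.toAlgebra
  haveI i2 : IsScalarTower Λ (↥(algebraMap Λ k).range) k :=
    IsScalarTower.of_algebraMap_eq (fun _ ↦ rfl)
  haveI : Module.Finite (↥(algebraMap Λ k).range) k :=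
    Module.Finite.of_restrictScalars_finite Λ _ _
  haveI : Algebra.IsIntegral (↥(algebraMap Λ k).range) k := Algebra.IsIntegral.of_finite _ _
  have hfield : IsField ↥(algebraMap Λ k).range :=
    isField_of_isIntegral_of_isField (S := k) Subtype.val_injective (Field.toIsField k)
  classical
  letI : Field ↥(algebraMap Λ k).range :=
    { (inferInstance : CommRing ↥(algebraMap Λ k).range) with
      inv := fun x => if h : x = 0 then 0 else (hfield.mul_inv_cancel h).choose
      exists_pair_ne := hfield.exists_pair_ne
      mul_inv_cancel := fun x hx => by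
        simp only [dif_neg hx]
        exact (hfield.mul_inv_cancel hx).choose_spec
      inv_zero := by simp
      nnqsmul := _
      qsmul := _ }
  exact bij

end Aux

/-- Let Λ be a Noetherian ring with a finite ring map to a field k, let k' ⊂ k be the image of Λ and m_Λ
the kernel, so that m_Λ/m_Λ² = H₁(L_{k'/Λ}) (Λ → k' being surjective with kernel m_Λ). If k is
separable over k', the canonical map m_Λ/m_Λ² ⊗_{k'} k → H₁(L_{k/Λ}) is an isomorphism. Stated for
H₁(L_{k'/Λ}) in place of m_Λ/m_Λ²: the k-linear base change of the functoriality map H₁(L_{k'/Λ}) →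
H₁(L_{k/Λ}) is bijective. (The general construction of the map and the case k = k' are the other
assertions of the source; only the separable case is stated here.) -/
theorem result {Λ : Type u} {k : Type u} [CommRing Λ] [Field k] [Algebra Λ k]
    [IsNoetherianRing Λ] [Module.Finite Λ k]
    [Algebra.IsSeparable (↥(algebraMap Λ k).range) k] :
    letI : Algebra Λ (↥(algebraMap Λ k).range) := (algebraMap Λ k).rangeRestrict.toAlgebra
    letI : IsScalarTower Λ (↥(algebraMap Λ k).range) k := IsScalarTower.of_algebraMap_eq (fun _ ↦ rfl)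
    Function.Bijective ((Algebra.H1Cotangent.map Λ Λ (↥(algebraMap Λ k).range) k).liftBaseChange k) := by
  exact Aux.main

end Groth.Agent.S19907
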