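import Groth.Statements.S19914
import Mathlib
import Groth.Agent.Lib.Helper2.AlgSt.FpAlg

set_option autoImplicit false
open CategoryTheory AlgebraicGeometry
universe u
open AlgSt

namespace Groth.Agent.S19914

/-- Let S be a scheme and let 𝒳, 𝒴, 𝒵 be algebraic stacks over (Sch/S) for the etale topology (stacks in
groupoids for the big etale topology whose diagonal is representable by algebraic spaces, with a
smooth surjective atlas from a scheme representable by algebraic spaces), with functors f : 𝒳 → 𝒵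
and g : 𝒴 → 𝒵 over (Sch/S). Then the 2-fibre product 𝒳 ×_𝒵 𝒴 over (Sch/S) is an algebraic stack for
the etale topology. -/
theorem result (S : Scheme.{u}) (𝒳 𝒴 𝒵 : AlgSt.Cat S)
    (h𝒳 : AlgSt.IsAlgStack Scheme.etalePrecoverage 𝒳) (h𝒴 : AlgSt.IsAlgStack Scheme.etalePrecoverage 𝒴)
    (h𝒵 : AlgSt.IsAlgStack Scheme.etalePrecoverage 𝒵)
    (f : 𝒳 ⥤ᵇ 𝒵) (g : 𝒴 ⥤ᵇ 𝒵) :
    AlgSt.IsAlgStack Scheme.etalePrecoverage (FibCat.fp f g) := by
  refine ⟨Groth.Agent.S12792.result _ f g h𝒳.isStack h𝒴.isStack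
    (Groth.Agent.Helper2.AlgStLib.isPrestack_of_isStack h𝒵.isStack), ?_, ?_⟩
  · exact Groth.Agent.Helper2.AlgStLib.repByAlgSp1_diag_fp h𝒳.isStack.1 h𝒴.isStack.1 h𝒵.isStack.1
      f g h𝒳.diag h𝒴.diag h𝒵.diag
  · exact Groth.Agent.Helper2.AlgStLib.hasAtlas_smooth_fp h𝒳.isStack.1 h𝒴.isStack.1 h𝒵.isStack.1
      h𝒵.diag f g h𝒳.atlas h𝒴.atlas

end Groth.Agent.S19914
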