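import Groth.Statements.S19919
import Mathlib
-- import your own Groth.Agent.* helpers here

set_option autoImplicit false
universe u v w
open DPow

namespace Groth.Agent.S19919

namespace Aux

section
variable {R : Type u} [CommRing R] {N : ℕ} {P : Type v} [CommRing P] [Algebra R P]
    (x : Fin N → ℕ → P)
    (hx0 : ∀ i, x i 0 = 1)
    (hxmul : ∀ i n m, x i n * x i m = ((n + m).choose n : P) * x i (n + m))
    (b : Module.Basis (Fin N →₀ ℕ) R P) (hb : ∀ e : Fin N →₀ ℕ, b e = e.prod (fun i k => x i k))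
    {S : Type w} [CommRing S] [Algebra R S] {J : Ideal S} (δ : DividedPowers J)
    (s : Fin N → S) (hs : ∀ i, s i ∈ J)

/-- the multinomial coefficient -/
def cc (e e' : Fin N →₀ ℕ) : ℕ := ∏ i, (e i + e' i).choose (e i)

/-- monomials in S -/
def mon (e : Fin N →₀ ℕ) : S := ∏ i, δ.dpow (e i) (s i)

include hx0 hb in
theorem b_eq (e : Fin N →₀ ℕ) : b e = ∏ i, x i (e i) := by
  rw [hb, Finsupp.prod_fintype _ _ (fun i => hx0 i)]

include hx0 hb hxmul in
theorem b_mul (e e' : Fin N →₀ ℕ) : b e * b e' = cc e e' • b (e + e') := by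
  rw [b_eq x hx0 b hb, b_eq x hx0 b hb, b_eq x hx0 b hb, ← Finset.prod_mul_distrib, nsmul_eq_mul, cc,
    Nat.cast_prod, ← Finset.prod_mul_distrib]
  apply Finset.prod_congr rfl
  intro i _
  rw [hxmul]
  rfl

include hs in
theorem mon_mul (e e' : Fin N →₀ ℕ) : mon δ s e * mon δ s e' = cc e e' • mon δ s (e + e') := by
  rw [mon, mon, mon, ← Finset.prod_mul_distrib, nsmul_eq_mul, cc,
    Nat.cast_prod, ← Finset.prod_mul_distrib]
  apply Finset.prod_congr rfl
  intro i _
  rw [δ.mul_dpow (hs i)]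
  rfl

/-- the linear map -/
noncomputable def φl : P →ₗ[R] S := b.constr R (mon δ s)

theorem φl_b (e : Fin N →₀ ℕ) : φl b δ s (b e) = mon δ s e := by
  rw [φl, Module.Basis.constr_basis]

include hx0 hb hs in
theorem φl_one : φl b δ s 1 = 1 := by
  have h1 : (1 : P) = b 0 := by rw [hb, Finsupp.prod_zero_index]
  rw [h1, φl_b]
  simp [mon, δ.dpow_zero (hs _)]

include hx0 hb hxmul hs in
theorem φl_mul (p q : P) : φl b δ s (p * q) = φl b δ s p * φl b δ s q := by
  have h : (LinearMap.mul R P).compr₂ (φl b δ s) =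
      (LinearMap.mul R S).compl₁₂ (φl b δ s) (φl b δ s) := by
    apply b.ext
    intro e
    apply b.ext
    intro e'
    simp only [LinearMap.compr₂_apply, LinearMap.mul_apply', LinearMap.compl₁₂_apply, φl_b]
    rw [b_mul x hx0 hxmul b hb, map_nsmul, φl_b, mon_mul δ s hs]
  have := LinearMap.congr_fun₂ h p q
  simpa using this

/-- the algebra hom -/
noncomputable def φ : P →ₐ[R] S :=
  AlgHom.ofLinearMap (φl b δ s) (φl_one x hx0 b hb δ s hs) (φl_mul x hx0 hxmul b hb δ s hs)

include hx0 hb in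
theorem x_eq_b (i : Fin N) (n : ℕ) : x i n = b (Finsupp.single i n) := by
  rw [hb, Finsupp.prod_single_index (hx0 i)]

theorem φ_x (i : Fin N) (n : ℕ) : φ x hx0 hxmul b hb δ s hs (x i n) = δ.dpow n (s i) := by
  rw [x_eq_b x hx0 b hb]
  show φl b δ s _ = _
  rw [φl_b, mon]
  rw [Finset.prod_eq_single i]
  · simp
  · intro j _ hj
    rw [Finsupp.single_eq_of_ne hj, δ.dpow_zero (hs j)]
  · simp

end

theorem main (R : Type u) [CommRing R] (N : ℕ)
    (P : Type v) [CommRing P] [Algebra R P] (x : Fin N → ℕ → P)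
    (hx0 : ∀ i, x i 0 = 1)
    (hxmul : ∀ i n m, x i n * x i m = ((n + m).choose n : P) * x i (n + m))
    (b : Module.Basis (Fin N →₀ ℕ) R P) (hb : ∀ e : Fin N →₀ ℕ, b e = e.prod (fun i k => x i k))
    (γ : DividedPowers (Ideal.span {y : P | ∃ (i : Fin N) (n : ℕ), 1 ≤ n ∧ y = x i n}))
    (hγ : ∀ (i : Fin N) (n : ℕ), γ.dpow n (x i 1) = x i n)
    (S : Type w) [CommRing S] [Algebra R S] (J : Ideal S) (δ : DividedPowers J)
    (s : Fin N → S) (hs : ∀ i, s i ∈ J) :
    ∃! φ : P →ₐ[R] S, γ.IsDPMorphism δ φ.toRingHom ∧ ∀ i, φ (x i 1) = s i := by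
  have hx1 : ∀ i, x i 1 ∈ Ideal.span {y : P | ∃ (i : Fin N) (n : ℕ), 1 ≤ n ∧ y = x i n} :=
    fun i => Ideal.subset_span ⟨i, 1, le_refl _, rfl⟩
  refine ⟨φ x hx0 hxmul b hb δ s hs, ⟨?_, ?_⟩, ?_⟩
  · apply DividedPowers.IsDPMorphism.on_span γ δ rfl
    · rintro _ ⟨i, n, hn, rfl⟩
      show φ x hx0 hxmul b hb δ s hs (x i n) ∈ J
      rw [φ_x]
      exact δ.dpow_mem (by omega) (hs i)
    · rintro m _ ⟨i, n, hn, rfl⟩
      show φ x hx0 hxmul b hb δ s hs (γ.dpow m (x i n)) =
        δ.dpow m (φ x hx0 hxmul b hb δ s hs (x i n))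
      rw [φ_x, ← hγ i n, γ.dpow_comp (by omega) (hx1 i), δ.dpow_comp (by omega) (hs i), hγ,
        map_mul, map_natCast, φ_x]
  · intro i
    rw [φ_x, δ.dpow_one (hs i)]
  · rintro ψ ⟨hψ, hψs⟩
    have h1 : ∀ i n, ψ (x i n) = δ.dpow n (s i) := by
      intro i n
      rw [← hγ i n]
      have := hψ.dpow_comp (n := n) (x i 1) (hx1 i)
      rw [← hψs i]
      exact this.symm
    apply AlgHom.toLinearMap_injective
    apply b.ext
    intro e
    show ψ (b e) = φ x hx0 hxmul b hb δ s hs (b e)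
    rw [b_eq x hx0 b hb, map_prod, map_prod]
    apply Finset.prod_congr rfl
    intro i _
    rw [h1, φ_x]

end Aux

/-- Let R be a commutative ring and P = R⟨X_1, …, X_N⟩ the divided power polynomial algebra over R,
presented concretely as an R-algebra P with elements x i n = X_i^[n] (i < N, n ≥ 0) such that
X_i^[0] = 1, X_i^[n] · X_i^[m] = C(n+m, n) X_i^[n+m], and the monomials ∏_i X_i^[e_i] form an
R-basis of P; let P_+ be the ideal generated by the X_i^[n] with n ≥ 1 and γ the divided power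
structure on P_+ with γ_n(X_i^[1]) = X_i^[n]. Then (P, P_+, γ) is the free divided power R-algebra
on N variables: for every commutative R-algebra S, every ideal J of S with a divided power structure
δ and every family s_1, …, s_N of elements of J there is exactly one R-algebra homomorphism φ : P →
S that is a divided power morphism from (P_+, γ) to (J, δ) and satisfies φ(X_i^[1]) = s_i for all i. -/
theorem result (R : Type u) [CommRing R] (N : ℕ)
    (P : Type v) [CommRing P] [Algebra R P] (x : Fin N → ℕ → P)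
    (hx0 : ∀ i, x i 0 = 1)
    (hxmul : ∀ i n m, x i n * x i m = ((n + m).choose n : P) * x i (n + m))
    (b : Module.Basis (Fin N →₀ ℕ) R P) (hb : ∀ e : Fin N →₀ ℕ, b e = e.prod (fun i k => x i k))
    (γ : DividedPowers (Ideal.span {y : P | ∃ (i : Fin N) (n : ℕ), 1 ≤ n ∧ y = x i n}))
    (hγ : ∀ (i : Fin N) (n : ℕ), γ.dpow n (x i 1) = x i n)
    (S : Type w) [CommRing S] [Algebra R S] (J : Ideal S) (δ : DividedPowers J)
    (s : Fin N → S) (hs : ∀ i, s i ∈ J) :
    ∃! φ : P →ₐ[R] S, γ.IsDPMorphism δ φ.toRingHom ∧ ∀ i, φ (x i 1) = s i := by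
  exact Aux.main R N P x hx0 hxmul b hb γ hγ S J δ s hs

end Groth.Agent.S19919
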