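import Groth.Statements.S1992
import Mathlib
import Groth.Prelude.Def_EtBase
-- import your own Groth.Agent.* helpers here

set_option autoImplicit false
universe u
open Polynomial
open EtAlg

namespace Groth.Agent.S1992

open Polynomial
namespace Aux

/-- Key lemma: a monic polynomial over `A_p` has "all its roots" in `A_p` up to scaling. -/
lemma key (A : Type u) [CommRing A]
    (hA : ∀ f : A[X], f.Monic → ∃ s : Multiset A, f = (s.map fun a => X - C a).prod)
    (p : Ideal A) [p.IsPrime] (f : (Localization.AtPrime p)[X]) (hf : f.Monic) :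
    ∃ (b : Localization.AtPrime p) (_ : IsUnit b) (s : Multiset (Localization.AtPrime p)),
      Multiset.card s = f.natDegree ∧
      ∀ x, b ^ f.natDegree * f.eval x = (s.map fun β => b * x - β).prod := by
  classical
  obtain ⟨d, hd⟩ := IsLocalization.exist_integer_multiples_of_finset p.primeCompl
    (f.support.image f.coeff)
  set b : Localization.AtPrime p := algebraMap A _ (d : A) with hb
  have hbu : IsUnit b := IsLocalization.map_units _ d
  have hlift : f.scaleRoots b ∈ Polynomial.lifts (algebraMap A (Localization.AtPrime p)) := by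
    rw [Polynomial.lifts_iff_coeff_lifts]
    intro i
    rw [coeff_scaleRoots]
    by_cases hi : f.coeff i = 0
    · rw [hi, zero_mul]; exact ⟨0, map_zero _⟩
    · have hisupp : i ∈ f.support := mem_support_iff.2 hi
      have hile : i ≤ f.natDegree := le_natDegree_of_ne_zero hi
      rcases Nat.eq_or_lt_of_le hile with h | h
      · rw [h, hf.coeff_natDegree, Nat.sub_self, pow_zero, one_mul]
        exact ⟨1, map_one _⟩
      · obtain ⟨c, hc⟩ := hd (f.coeff i) (Finset.mem_image_of_mem _ hisupp)
        have : f.natDegree - i = (f.natDegree - i - 1) + 1 := by omega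
        rw [this, pow_succ, ← mul_assoc, mul_comm (f.coeff i), mul_assoc]
        refine ⟨(d : A) ^ (f.natDegree - i - 1) * c, ?_⟩
        rw [map_mul, map_pow, hc, Algebra.smul_def, mul_comm (algebraMap A _ (d : A)) (f.coeff i)]
  obtain ⟨g, hg, hgdeg, hgm⟩ := Polynomial.lifts_and_natDegree_eq_and_monic hlift
    ((monic_scaleRoots_iff b).2 hf)
  obtain ⟨s, hs⟩ := hA g hgm
  refine ⟨b, hbu, s.map (algebraMap A (Localization.AtPrime p)), ?_, ?_⟩
  · rw [Multiset.card_map]
    have hnt : Nontrivial A := RingHom.domain_nontrivial (algebraMap A (Localization.AtPrime p))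
    have : g.natDegree = Multiset.card s := by
      rw [hs]
      rw [natDegree_multiset_prod_of_monic]
      · simp
      · intro q hq
        rw [Multiset.mem_map] at hq
        obtain ⟨a, -, rfl⟩ := hq
        exact monic_X_sub_C a
    rw [← this, hgdeg, natDegree_scaleRoots]
  · intro x
    rw [← scaleRoots_eval_mul, ← hg, hs, Polynomial.map_multiset_prod, eval_multiset_prod]
    simp [Multiset.map_map]

theorem main (A : Type u) [CommRing A]
    (hA : ∀ f : A[X], f.Monic → ∃ s : Multiset A, f = (s.map fun a => X - C a).prod)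
    (p : Ideal A) [p.IsPrime] :
    EtCoh.IsStrictlyHenselianLocalRing (Localization.AtPrime p) := by
  have hH : HenselianLocalRing (Localization.AtPrime p) := by
    refine ⟨fun f hf a₀ h₁ _ => ?_⟩
    obtain ⟨b, hbu, s, -, hs⟩ := key A hA p f hf
    have hmem : (s.map fun β => b * a₀ - β).prod ∈ IsLocalRing.maximalIdeal (Localization.AtPrime p) := by
      rw [← hs a₀]
      exact Ideal.mul_mem_left _ _ h₁
    rw [Ideal.IsPrime.multiset_prod_mem_iff_exists_mem (IsLocalRing.maximalIdeal.isMaximal _).isPrime] at hmem
    obtain ⟨y, hy, hym⟩ := hmem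
    rw [Multiset.mem_map] at hy
    obtain ⟨β, hβ, rfl⟩ := hy
    obtain ⟨u, rfl⟩ := hbu
    refine ⟨↑u⁻¹ * β, ?_, ?_⟩
    · have h0 : (u : Localization.AtPrime p) ^ f.natDegree * f.eval (↑u⁻¹ * β) = 0 := by
        rw [hs]
        apply Multiset.prod_eq_zero
        rw [Multiset.mem_map]
        exact ⟨β, hβ, by rw [← mul_assoc, Units.mul_inv, one_mul, sub_self]⟩
      exact (IsUnit.mul_right_eq_zero ((u.isUnit).pow _)).1 h0
    · have : (↑u⁻¹ * β - a₀ : Localization.AtPrime p) = - (↑u⁻¹ * (↑u * a₀ - β)) := by
        rw [mul_sub, ← mul_assoc, Units.inv_mul, one_mul]; ring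
      rw [this]
      exact neg_mem (Ideal.mul_mem_left _ _ hym)
  refine ⟨hH, ?_⟩
  apply IsSepClosed.of_exists_root
  intro q hqm hqirr _
  have hsurj : Function.Surjective (IsLocalRing.residue (Localization.AtPrime p)) :=
    IsLocalRing.residue_surjective
  have hlift : q ∈ Polynomial.lifts (IsLocalRing.residue (Localization.AtPrime p)) := by
    rw [Polynomial.lifts_iff_coeff_lifts]
    intro i
    exact hsurj _
  obtain ⟨f, hfq, hfdeg, hfm⟩ := Polynomial.lifts_and_natDegree_eq_and_monic hlift hqm
  obtain ⟨b, hbu, s, hcard, hs⟩ := key A hA p f hfm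
  have hpos : 0 < f.natDegree := by
    rw [hfdeg]
    exact natDegree_pos_iff_degree_pos.2 (degree_pos_of_irreducible hqirr)
  have hne : s ≠ 0 := by
    intro h
    rw [h, Multiset.card_zero] at hcard
    omega
  obtain ⟨β, hβ⟩ := Multiset.exists_mem_of_ne_zero hne
  obtain ⟨u, rfl⟩ := hbu
  have h0 : (u : Localization.AtPrime p) ^ f.natDegree * f.eval (↑u⁻¹ * β) = 0 := by
    rw [hs]
    apply Multiset.prod_eq_zero
    rw [Multiset.mem_map]
    exact ⟨β, hβ, by rw [← mul_assoc, Units.mul_inv, one_mul, sub_self]⟩
  have h1 : f.eval (↑u⁻¹ * β) = 0 := (IsUnit.mul_right_eq_zero ((u.isUnit).pow _)).1 h0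
  refine ⟨IsLocalRing.residue _ (↑u⁻¹ * β), ?_⟩
  rw [← hfq, eval_map, eval₂_at_apply, h1, map_zero]

end Aux

/-- Let A be an absolutely integrally closed ring, i.e. every monic polynomial over A is a product of
linear factors X - a. Then for every prime p of A the localization A_p is a strictly henselian local
ring (henselian with separably closed residue field). -/
theorem result (A : Type u) [CommRing A]
    (hA : ∀ f : A[X], f.Monic → ∃ s : Multiset A, f = (s.map fun a => X - C a).prod)
    (p : Ideal A) [p.IsPrime] :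
    EtCoh.IsStrictlyHenselianLocalRing (Localization.AtPrime p) := by
  exact Aux.main A hA p

end Groth.Agent.S1992
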