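import Groth.Statements.S19924
import Mathlib
import Groth.Agent.Lib.Helper1.PicV8
import Groth.Agent.S2209
import Groth.Agent.Lib.Helper1.SpFib7
import Groth.Agent.Lib.Helper7.GeomConn.ModelConn

set_option autoImplicit false
universe u
open CategoryTheory CategoryTheory.Limits AlgebraicGeometry
open Models

namespace Groth.Agent.S19924

/-- Let R be a discrete valuation ring with fraction field K, C a smooth proper curve over K with H^0(C,
O_C) = K, X a regular proper model of C with generic-fibre inclusion g : C → X, Γ_1, …, Γ_n the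
irreducible components of the closed fibre with multiplicities m_1, …, m_n, and L_i invertible
O_X-modules with L_i ⊗ I(Γ_i) ≅ O_X. Let h ≥ 1, let N be an invertible O_C-module with N^{⊗h} ≅ O_C,
let M be an invertible O_X-module whose pullback to C is N, and let a, b be exponent vectors with
M^{⊗h} ⊗ L_1^{a_1} ⊗ ⋯ ⊗ L_n^{a_n} ≅ L_1^{b_1} ⊗ ⋯ ⊗ L_n^{b_n}, i.e. M^{⊗h} ≅ O_X(Σ (b_i − a_i)
Γ_i). Then N is the pullback of some invertible O_X-module M' with M'^{⊗h} ≅ O_X if and only if
there are integers c_1, …, c_n and e with b_i − a_i = h c_i + e m_i for all i: the class of Σ (b_i −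
a_i) Γ_i modulo h ℤ^n + ℤ·(m_1, …, m_n) is the obstruction to lifting the h-torsion class N to an
h-torsion class on X. -/
theorem result (R : Type u) [CommRing R] [IsDomain R] [IsDiscreteValuationRing R]
    (C X : Scheme.{u}) (f : C ⟶ Spec (CommRingCat.of (FractionRing R))) (p : X ⟶ Spec (CommRingCat.of R))
    (hC : Curve.IsSmoothProperCurve (FractionRing R) C f) (hH0 : IsIso f.appTop)
    (hX : Models.IsRegularProperModel R X p C f)
    {n : ℕ} (Γ : Fin n → ArSurf.VertComp R (Over.mk p)) (hΓ : Models.IsComponentList R (Over.mk p) Γ)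
    (g : C ⟶ X) (hg : IsPullback g f p (Spec.map (CommRingCat.ofHom (algebraMap R (FractionRing R)))))
    (L : Fin n → X.Modules) (hL : ∀ i, ClSub.IsInverseOf (L i) (ClSub.idealMod (Γ i).ι.ker))
    (h : ℕ) (hh : 0 < h)
    (N : C.Modules) (hN : PicF.IsInvertible N) (hNt : Nonempty (CohB1.tensorPow N h ≅ Coh.structureModule C))
    (M : X.Modules) (hM : PicF.IsInvertible M) (hMN : Nonempty ((Scheme.Modules.pullback g).obj M ≅ N))
    (a b : Fin n → ℕ)
    (hab : Nonempty (CohB1.tensorMod (CohB1.tensorPow M h) (FGA.multiTwist L a) ≅ FGA.multiTwist L b)) :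
    (∃ M' : X.Modules, PicF.IsInvertible M' ∧ Nonempty (CohB1.tensorPow M' h ≅ Coh.structureModule X) ∧
        Nonempty ((Scheme.Modules.pullback g).obj M' ≅ N)) ↔
      ∃ (c : Fin n → ℤ) (e : ℤ), ∀ i, ((b i : ℤ) - (a i : ℤ)) = (h : ℤ) * c i + e * (Models.mult R (Over.mk p) (Γ i) : ℤ) := by
  haveI : ConnectedSpace ↥(Models.specialFibre R X p) :=
    Groth.Agent.S2209.result R C X f p hC hH0 hX
  obtain ⟨⟨hflat, hlft, hqc, g', H⟩, hp, hreg⟩ := hX
  haveI := hlft
  haveI := hp
  haveI : Flat p := hflat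
  haveI : IsLocallyNoetherian (Over.mk p).left :=
    LocallyOfFiniteType.isLocallyNoetherian (Y := Spec (CommRingCat.of R)) p
  haveI : Flat (Over.mk p).hom := hflat
  haveI : CompactSpace (Over.mk p).left := QuasiCompact.compactSpace_of_compactSpace p
  have hconn := Groth.Agent.Helper1.SpFib.isConnected_fibre R X p
  have hcov := Groth.Agent.Helper1.SpFib.cover_of_isComponentList R (Over.mk p) Γ hΓ
  have hbij := Groth.Agent.Helper7.GeomConn.ZC.appTop_bijective_of_model R (FractionRing R) p f g' H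
    (Groth.Agent.Lib.Helper4.ProperPush1.isIntegral_app_of_isProper p ⊤ (isAffineOpen_top _)) hH0
  have hsurj : ∀ h : Γ((Over.mk p).left, ⊤), ∃ r : R,
      (show Γ((Over.mk p).left, ⊤) from Coh.toGlobal (Over.mk p).hom r) = h := by
    intro h
    obtain ⟨r', hr'⟩ := hbij.2 h
    refine ⟨(Scheme.ΓSpecIso (CommRingCat.of R)).hom.hom r', ?_⟩
    show p.appTop.hom ((Scheme.ΓSpecIso (CommRingCat.of R)).inv.hom
      ((Scheme.ΓSpecIso (CommRingCat.of R)).hom.hom r')) = h
    rw [← RingHom.comp_apply ((Scheme.ΓSpecIso (CommRingCat.of R)).inv.hom), ← CommRingCat.hom_comp,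
      Iso.hom_inv_id]
    exact hr'
  exact Groth.Agent.Helper1.PicV.torsion_lift_iff R (Over.mk p) hreg Γ hΓ.1 hcov hp hconn hsurj
    f g hg L hL h N M hM hMN a b hab

end Groth.Agent.S19924
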