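import Groth.Statements.S1996
import Mathlib
-- import your own Groth.Agent.* helpers here

set_option autoImplicit false
universe u
open EtAlg

namespace Groth.Agent.S1996

open TensorProduct
namespace Aux

lemma flat_of_comp (R S T : Type*) [CommRing R] [CommRing S] [CommRing T] [Algebra R S]
    [Algebra S T] [Algebra R T] [IsScalarTower R S T] [Module.FaithfullyFlat S T]
    [Module.Flat R T] : Module.Flat R S := by
  rw [Module.Flat.iff_lTensor_preserves_injective_linearMap]
  intro N P _ _ _ _ f hf
  let fS : S ⊗[R] N →ₗ[S] S ⊗[R] P := AlgebraTensorModule.map LinearMap.id f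
  have h1 : Function.Injective fS := by
    rw [← Module.FaithfullyFlat.lTensor_injective_iff_injective S T]
    have h2 : LinearMap.lTensor T fS =
        (AlgebraTensorModule.cancelBaseChange R S S T P).symm.toLinearMap ∘ₗ
          (AlgebraTensorModule.map (LinearMap.id : T →ₗ[S] T) f) ∘ₗ
          (AlgebraTensorModule.cancelBaseChange R S S T N).toLinearMap := by
      ext t n
      simp [fS]
    rw [h2]
    simp only [LinearMap.coe_comp, LinearEquiv.coe_coe, EmbeddingLike.comp_injective,
      EquivLike.injective_comp]
    exact Module.Flat.lTensor_preserves_injective_linearMap (M := T) f hf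
  exact h1

lemma ringHom_flat_of_comp {R S T : Type*} [CommRing R] [CommRing S] [CommRing T]
    (f : R →+* S) (g : S →+* T) (hg : g.FaithfullyFlat) (h : (g.comp f).Flat) : f.Flat := by
  algebraize [f, g, g.comp f]
  exact flat_of_comp R S T

theorem main (A B C : Type u) [CommRing A] [CommRing B] [CommRing C] [Algebra A B]
    [Algebra B C] [Algebra A C] [IsScalarTower A B C] [Module.FaithfullyFlat B C] [Algebra.WeaklyEtale A C] :
    Algebra.WeaklyEtale A B := by
  have hAB : Module.Flat A B := flat_of_comp A B C
  refine ⟨hAB, ?_⟩
  have hg : (algebraMap B C).FaithfullyFlat := RingHom.faithfullyFlat_algebraMap_iff.mpr inferInstance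
  apply ringHom_flat_of_comp _ (algebraMap B C) hg
  have e : (algebraMap B C).comp (Algebra.TensorProduct.lmul' A (S := B)).toRingHom =
      (Algebra.TensorProduct.lmul' A (S := C)).toRingHom.comp
        (Algebra.TensorProduct.map (IsScalarTower.toAlgHom A B C) (IsScalarTower.toAlgHom A B C)).toRingHom := by
    refine RingHom.ext fun z => ?_
    induction z using TensorProduct.induction_on with
    | zero => simp
    | tmul x y => simp
    | add x y hx hy => simp only [map_add, hx, hy]
  change ((algebraMap B C).comp (Algebra.TensorProduct.lmul' A (S := B)).toRingHom).Flat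
  rw [e]
  refine RingHom.Flat.comp ?_ (Algebra.WeaklyEtale.flat_lmul' A C)
  have hBC : (IsScalarTower.toAlgHom A B C).Flat := by
    change (algebraMap B C).Flat
    exact RingHom.flat_algebraMap_iff.mpr inferInstance
  exact RingHom.Flat.tensorProductMap hBC hBC

end Aux

/-- Let A -> B -> C be ring maps with B -> C faithfully flat. Weak etaleness of A -> C then implies weak
etaleness of A -> B. -/
theorem result (A B C : Type u) [CommRing A] [CommRing B] [CommRing C] [Algebra A B]
    [Algebra B C] [Algebra A C] [IsScalarTower A B C] [Module.FaithfullyFlat B C] [Algebra.WeaklyEtale A C] :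
    Algebra.WeaklyEtale A B := by
  exact Aux.main A B C

end Groth.Agent.S1996
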