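import Groth.Statements.S19962
import Groth.Agent.Lib.Helper2.BE.Back
import Groth.Agent.Lib.Helper2.BE.AltSum


set_option autoImplicit false
universe u
open CAlg

namespace Groth.Agent.S19962

/-- Let R be a Noetherian commutative ring, not assumed local, and 0 → R^(n_e) → ⋯ → R^(n_1) → R^(n_0) a
complex of finite free modules with 1 ≤ e, the map R^(n_(i+1)) → R^(n_i) being given by the matrix A
i. Suppose that for every 1 ≤ j ≤ e the matrix of R^(n_j) → R^(n_(j-1)) has rank n_j - n_(j+1) + ⋯ ±
n_e, the rank of a matrix being the largest size of a nonzero minor, and that its ideal of minors of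
that size is either the unit ideal or contains an R-regular sequence of length j. Then the complex
is exact at R^(n_e), …, R^(n_1). -/
theorem result {R : Type u} [CommRing R] [IsNoetherianRing R]
    (e : ℕ) (he : 1 ≤ e) (n : ℕ → ℕ) (A : (i : ℕ) → Matrix (Fin (n i)) (Fin (n (i + 1))) R)
    (hA : ∀ i, i + 2 ≤ e → A i * A (i + 1) = 0)
    (hrank : ∀ j, 1 ≤ j → j ≤ e →
      (CAlgX.matrixRank (A (j - 1)) : ℤ) = ∑ t ∈ Finset.Icc j e, (-1 : ℤ) ^ (t - j) * (n t : ℤ))
    (hdet : ∀ j, 1 ≤ j → j ≤ e →
      CAlgX.detIdeal (A (j - 1)) = ⊤ ∨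
        ∃ rs : List R, rs.length = j ∧ (∀ r ∈ rs, r ∈ CAlgX.detIdeal (A (j - 1))) ∧
          RingTheory.Sequence.IsRegular R rs) :
    LinearMap.ker (A (e - 1)).mulVecLin = ⊥ ∧
      ∀ i, i + 2 ≤ e → LinearMap.ker (A i).mulVecLin = LinearMap.range (A (i + 1)).mulVecLin := by
  classical
  rcases subsingleton_or_nontrivial R with hR | hR
  · refine ⟨?_, fun i _ => ?_⟩
    · rw [eq_bot_iff]
      intro x _
      rw [Submodule.mem_bot]
      exact Subsingleton.elim _ _
    · apply le_antisymm
      · intro x _
        rw [Subsingleton.elim x 0]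
        exact Submodule.zero_mem _
      · intro x _
        rw [Subsingleton.elim x 0]
        exact Submodule.zero_mem _
  · refine Groth.Agent.Helper2.BE.be_back e n A he hA (fun i => CAlgX.matrixRank (A i)) ?_ ?_ ?_ ?_
    · intro i hi
      have h1 : (CAlgX.matrixRank (A i) : ℤ) = _ := hrank (i + 1) (by omega) (by omega)
      have h2 : (CAlgX.matrixRank (A (i + 1)) : ℤ) = _ := hrank (i + 2) (by omega) (by omega)
      rw [Groth.Agent.Helper2.BE.altSum_succ n (i + 1) e (by omega)] at h1
      rw [← h2] at h1
      have : ((CAlgX.matrixRank (A i) + CAlgX.matrixRank (A (i + 1)) : ℕ) : ℤ) = (n (i + 1) : ℤ) := by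
        push_cast
        linarith
      exact_mod_cast this
    · have h1 := hrank e he le_rfl
      rw [Groth.Agent.Helper2.BE.altSum_self] at h1
      have h2 : CAlgX.matrixRank (A (e - 1)) = n e := by exact_mod_cast h1
      have h3 : e - 1 + 1 = e := by omega
      exact h2.trans (congrArg n h3).symm
    · intro i _
      exact (Groth.Agent.Helper2.BE.matrixRank_spec (A i)).2
    · intro i hi
      exact hdet (i + 1) (by omega) (by omega)

end Groth.Agent.S19962
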