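import Groth.Statements.S19968
import Mathlib
import Groth.Agent.Lib.Helper1.RatPt1
import Groth.Agent.Lib.Helper1.PtDeg2

set_option autoImplicit false
universe u
open CategoryTheory AlgebraicGeometry Opposite
open LinSer

namespace Groth.Agent.S19968

/-- Rational points impose at most one condition each on a complete linear system. Let k be a field, X a
scheme over k, L an invertible O_X-module, and p_1, …, p_n morphisms Spec k → X over k (k-rational
points). Suppose there are n + 1 global sections of L, given as morphisms t_0, …, t_n : O_X → L,
whose values in Γ(X, L) are linearly independent over k. Then there is a nonzero morphism s : O_X →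
L such that no p_i lands in the open X_s where s generates L; that is, s vanishes at every p_i and
the p_i lie on a common member of the complete linear system of L. (The source has X an irreducible
projective variety over the complex numbers, L base-point-free and the points closed, and phrases
this as surjectivity of the incidence correspondence onto X^n for n at most the dimension of the
linear system; only rationality of the points and the dimension count are used, and
base-point-freeness plays no part in this item.) -/
theorem result
    (k : Type u) [Field k] (X : Scheme.{u}) [X.Over (Spec (CommRingCat.of k))]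
    (L : X.Modules) (hL : PicF.IsInvertible L)
    (n : ℕ) (p : Fin n → (Spec (CommRingCat.of k) ⟶ X))
    (hp : ∀ i, p i ≫ (X ↘ Spec (CommRingCat.of k)) = 𝟙 _)
    (t : Fin (n + 1) → (Coh.structureModule X ⟶ L))
    (ht : LinSer.LinIndep k X L (fun j => (L.unitHomEquiv (t j)).val (op ⊤))) :
    ∃ s : Coh.structureModule X ⟶ L, s ≠ 0 ∧
      ∀ i, (p i) (IsLocalRing.closedPoint k) ∉ CohB1.genLocus L s := by
  obtain ⟨c, hc0, hc⟩ := Groth.Agent.Helper1.RatPt.exists_ne_zero_not_genAt k n
    (fun i => (p i) (IsLocalRing.closedPoint k))
    (fun i => (Groth.Agent.Helper1.PtDeg.resMap_bijective_of_section k (p i) (hp i) _).2)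
    (fun j => Groth.Agent.Helper1.LGen.secVal (t j) ⊤)
  refine ⟨Groth.Agent.Helper1.TwistAmple.homOfSec L (∑ j, (show Γ(X, ⊤) from
    Coh.toGlobal (X ↘ Spec (CommRingCat.of k)) (c j)) • Groth.Agent.Helper1.LGen.secVal (t j) ⊤), ?_, ?_⟩
  · intro h0
    apply hc0
    apply ht
    have h1 := Groth.Agent.Helper1.AmpleLib.secVal_homOfSec L (∑ j, (show Γ(X, ⊤) from
      Coh.toGlobal (X ↘ Spec (CommRingCat.of k)) (c j)) • Groth.Agent.Helper1.LGen.secVal (t j) ⊤) ⊤
    rw [h0, Groth.Agent.Helper1.QcCech.res_self] at h1
    rw [Groth.Agent.Helper1.SecOps.secVal_zero] at h1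
    exact h1.symm
  · intro i hmem
    rw [Groth.Agent.Helper1.AmpleLib.mem_genLocus_iff_isGen] at hmem
    obtain ⟨W, hxW, hW⟩ := hmem
    apply hc i
    refine ⟨W, hxW, ?_⟩
    rw [Groth.Agent.Helper1.AmpleLib.secVal_homOfSec] at hW
    exact hW

end Groth.Agent.S19968
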