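import Groth.Statements.S1997
import Mathlib
-- import your own Groth.Agent.* helpers here

set_option autoImplicit false
universe u
open CategoryTheory
open EtAlg

namespace Groth.Agent.S1997

open CategoryTheory
open TensorProduct
namespace Aux

/-- Over a ring all of whose ideals are flat, a submodule of a flat module is flat. -/
theorem flat_of_injective {A : Type u} [CommRing A] (hA : ∀ I : Ideal A, Module.Flat A I)
    {N M : Type u} [AddCommGroup N] [AddCommGroup M] [Module A N] [Module A M] [Module.Flat A M]
    (ι : N →ₗ[A] M) (hι : Function.Injective ι) : Module.Flat A N := by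
  rw [Module.Flat.iff_rTensor_injective']
  intro I
  have h1 : Function.Injective (LinearMap.lTensor I ι) :=
    (hA I).lTensor_preserves_injective_linearMap ι hι
  have h2 : Function.Injective (LinearMap.rTensor M I.subtype) :=
    Module.Flat.iff_rTensor_injective'.1 inferInstance I
  have h3 : (LinearMap.lTensor A ι) ∘ₗ (LinearMap.rTensor N I.subtype) =
      (LinearMap.rTensor M I.subtype) ∘ₗ (LinearMap.lTensor I ι) := by
    ext x n
    simp
  have h4 : Function.Injective ((LinearMap.lTensor A ι) ∘ₗ (LinearMap.rTensor N I.subtype)) := by
    rw [h3]
    exact h2.comp h1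
  exact Function.Injective.of_comp (f := LinearMap.lTensor A ι) h4

theorem main (A B : Type u) [CommRing A] [CommRing B] [Algebra A B]
    (hA : ∀ I : Ideal A, Module.Flat A I) [Module.Flat A B] (hinj : Function.Injective (algebraMap A B))
    (hepi : Epi (CommRingCat.ofHom (algebraMap A B))) : IsIntegrallyClosedIn A B := by
  have hepi' : Algebra.IsEpi A B := CommRingCat.epi_iff_epi.1 hepi
  rw [isIntegrallyClosedIn_iff]
  refine ⟨hinj, fun {x} hx => ?_⟩
  -- A' = A[x]
  let A' : Subalgebra A B := Algebra.adjoin A {x}
  have hfin : Module.Finite A A' := by
    have := hx.fg_adjoin_singleton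
    exact Module.Finite.iff_fg.2 this
  have hflat : Module.Flat A A' := flat_of_injective hA A'.val.toLinearMap Subtype.val_injective
  -- A → A' is an epimorphism
  have hepi2 : Algebra.IsEpi A A' := by
    rw [Algebra.isEpi_iff_forall_one_tmul_eq]
    intro a
    have hB := (Algebra.isEpi_iff_forall_one_tmul_eq A B).1 hepi' (a : B)
    -- injectivity of A' ⊗ A' → B ⊗ B
    have hinj1 : Function.Injective (TensorProduct.map A'.val.toLinearMap A'.val.toLinearMap) := by
      have e : TensorProduct.map A'.val.toLinearMap A'.val.toLinearMap =
          (LinearMap.rTensor B A'.val.toLinearMap) ∘ₗ (LinearMap.lTensor A' A'.val.toLinearMap) := by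
        ext u v
        simp
      rw [e, LinearMap.coe_comp]
      have i1 : Function.Injective (LinearMap.rTensor B A'.val.toLinearMap) :=
        Module.Flat.rTensor_preserves_injective_linearMap A'.val.toLinearMap Subtype.val_injective
      have i2 : Function.Injective (LinearMap.lTensor A' A'.val.toLinearMap) :=
        Module.Flat.lTensor_preserves_injective_linearMap A'.val.toLinearMap Subtype.val_injective
      exact i1.comp i2
    apply hinj1
    simpa using hB
  have hsurj : Function.Surjective (algebraMap A A') := by
    rwa [Algebra.isEpi_iff_surjective_algebraMap_of_finite] at hepi2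
  obtain ⟨a, ha⟩ := hsurj ⟨x, Algebra.subset_adjoin (Set.mem_singleton x)⟩
  refine ⟨a, ?_⟩
  have := congrArg (fun z : A' => (z : B)) ha
  simpa using this

end Aux

/-- Let A be a ring all of whose ideals are flat (weak dimension at most one) and A -> B a flat,
injective ring map which is an epimorphism in the category of commutative rings. Then A is
integrally closed in B. -/
theorem result (A B : Type u) [CommRing A] [CommRing B] [Algebra A B]
    (hA : ∀ I : Ideal A, Module.Flat A I) [Module.Flat A B] (hinj : Function.Injective (algebraMap A B))
    (hepi : Epi (CommRingCat.ofHom (algebraMap A B))) : IsIntegrallyClosedIn A B := by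
  exact Aux.main A B hA hinj hepi

end Groth.Agent.S1997
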