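import Groth.Statements.S19975
import Mathlib
import Groth.Prelude.Def_EtBase
import Groth.Agent.Lib.Helper9.FE.EtTorsH
import Groth.Agent.Lib.Helper9.FE.ExtLocKer
-- import your own Groth.Agent.* helpers here

set_option autoImplicit false
universe u
open CategoryTheory Opposite AlgebraicGeometry
open EtCoh

namespace Groth.Agent.S19975

open CategoryTheory Opposite AlgebraicGeometry
namespace Aux

set_option backward.isDefEq.respectTransparency false
set_option linter.style.haveILetI false
set_option linter.unusedSectionVars false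

open CategoryTheory.Limits Abelian H9FE.SiteSectColim H9FE.SiteHUColim H9FE.SiteTorsColim
  H9FE.ExtFilteredColim H9FE.EtQcClass H9FE.EtHColim H9FE.EtTorsH Groth.Agent.Lib.Helper5

variable {X : Scheme.{u}}

/-- every point of an étale `X`-scheme has an affine open neighbourhood, as an object of the
small étale site -/
lemma exists_affine_nbhd (V : X.Etale) (v : V.left) :
    ∃ (V' : X.Etale) (j : V' ⟶ V), IsAffine V'.left ∧ v ∈ Set.range j.left := by
  have h0 : ∃ U : V.left.Opens, IsAffineOpen U ∧ v ∈ U := by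
    obtain ⟨_, ⟨U, hU, rfl⟩, hvU, -⟩ := V.left.isBasis_affineOpens.exists_subset_of_mem_open
      (Set.mem_univ v) isOpen_univ
    exact ⟨U, hU, hvU⟩
  obtain ⟨U, hU, hvU⟩ := h0
  haveI : Etale V.hom := V.prop
  refine ⟨EtSiteBasic.ofEtale (U.ι ≫ V.hom), MorphismProperty.Over.homMk U.ι rfl trivial, hU, ?_⟩
  exact ⟨⟨v, hvU⟩, rfl⟩

/-- the absolute values of the members of a submonoid of `ℤ` -/
def absM (S : Submonoid ℤ) : Submonoid ℕ := S.map Int.natAbsHom

lemma mem_absM {S : Submonoid ℤ} {s : ℤ} (hs : s ∈ S) : s.natAbs ∈ absM S :=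
  ⟨s, hs, rfl⟩

lemma natAbs_nsmul_eq_zero {A : Type*} [AddCommGroup A] (s : ℤ) (a : A) (h : s • a = 0) :
    s.natAbs • a = 0 := by
  rcases Int.natAbs_eq s with h1 | h1
  · rw [h1, natCast_zsmul] at h
    exact h
  · rw [h1, neg_smul, natCast_zsmul, neg_eq_zero] at h
    exact h

lemma exists_zsmul_of_mem_absM {A : Type*} [AddCommGroup A] {S : Submonoid ℤ} {m : ℕ}
    (hm : m ∈ absM S) : ∃ s ∈ S, ∀ a : A, s • a = m • a ∨ s • a = -(m • a) := by
  obtain ⟨s, hs, rfl⟩ := hm
  refine ⟨s, hs, fun a => ?_⟩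
  change s • a = s.natAbs • a ∨ s • a = -(s.natAbs • a)
  rcases Int.natAbs_eq s with h1 | h1
  · left
    conv_lhs => rw [h1]
    rw [natCast_zsmul]
  · right
    conv_lhs => rw [h1]
    rw [neg_smul, natCast_zsmul]


lemma app_injective_of_mono {A B : EtCoh.Ab X} (f : A ⟶ B) [Mono f] (V : X.Etale) :
    Function.Injective (f.hom.app (op V)).hom := by
  haveI : Mono f.hom := (Sheaf.Hom.mono_iff_presheaf_mono _ _ f).1 inferInstance
  haveI : Mono (f.hom.app (op V)) := inferInstance
  exact (AddCommGrpCat.mono_iff_injective _).1 inferInstance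

variable (S : Submonoid ℤ) {F G : EtCoh.Ab X} (φ : F ⟶ G)
  (hφ : ∀ U : X.Etale, IsAffine U.left →
    IsLocalizedModule S (φ.hom.app (op U)).hom.toIntLinearMap)

include hφ in
lemma locKilled_kernel : LocKilled (absM S) (kernel φ) := by
  apply locKilled_of_pointwise
  intro U s x
  obtain ⟨V', j, hV', v, hv⟩ := exists_affine_nbhd U x
  let s' : (kernel φ).obj.obj (op V') := (kernel φ).obj.map j.op s
  let t : F.obj.obj (op V') := ((kernel.ι φ).hom.app (op V')).hom s'
  have ht : (φ.hom.app (op V')).hom t = 0 := by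
    have h1 : (kernel.ι φ ≫ φ).hom.app (op V') = 0 := by
      rw [kernel.condition]; rfl
    exact ConcreteCategory.congr_hom h1 s'
  have h2 := (hφ V' hV').exists_of_eq (x₁ := t) (x₂ := 0)
    (by change (φ.hom.app (op V')).hom t = (φ.hom.app (op V')).hom 0; rw [ht, map_zero])
  obtain ⟨c, hc⟩ := h2
  rw [smul_zero] at hc
  have hc' : (c : ℤ) • t = 0 := hc
  refine ⟨V', j, (c : ℤ).natAbs, ⟨v, hv⟩, mem_absM c.2, ?_⟩
  apply app_injective_of_mono (kernel.ι φ) V'
  rw [map_nsmul, map_zero]
  exact natAbs_nsmul_eq_zero _ _ hc'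

include hφ in
lemma locKilled_cokernel : LocKilled (absM S) (cokernel φ) := by
  apply locKilled_of_pointwise
  intro U q x
  haveI : Sheaf.IsLocallySurjective (cokernel.π φ) :=
    (Sheaf.isLocallySurjective_iff_epi' (φ := cokernel.π φ)).2 inferInstance
  have h1 := Presheaf.imageSieve_mem X.smallEtaleTopology (cokernel.π φ).hom q
  rw [EtSiteBasic.mem_smallEtale_iff] at h1
  obtain ⟨W, g, y, ⟨t, ht⟩, hy⟩ := h1 x
  obtain ⟨V', j, hV', v, hv⟩ := exists_affine_nbhd W y
  let t' : G.obj.obj (op V') := G.obj.map j.op t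
  obtain ⟨⟨a, c⟩, hac⟩ := (hφ V' hV').surj t'
  have hac' : (c : ℤ) • t' = (φ.hom.app (op V')).hom a := hac
  have h2 : ((cokernel.π φ).hom.app (op V')).hom t' = (cokernel φ).obj.map (j ≫ g).op q := by
    have h3 := ConcreteCategory.congr_hom ((cokernel.π φ).hom.naturality j.op) t
    have h4 : ((cokernel.π φ).hom.app (op W)).hom t = (cokernel φ).obj.map g.op q := ht
    rw [op_comp, Functor.map_comp]
    exact h3.trans (congrArg ((cokernel φ).obj.map j.op) h4)
  have h5 : (c : ℤ) • (cokernel φ).obj.map (j ≫ g).op q = 0 := by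
    rw [← h2, ← map_zsmul, hac']
    have h6 : (φ ≫ cokernel.π φ).hom.app (op V') = 0 := by
      rw [cokernel.condition]; rfl
    exact ConcreteCategory.congr_hom h6 a
  refine ⟨V', j ≫ g, (c : ℤ).natAbs, ⟨v, ?_⟩, mem_absM c.2, natAbs_nsmul_eq_zero _ _ h5⟩
  change (j ≫ g).left v = x
  rw [← hy, ← hv]
  rfl


omit hφ in
/-- a morphism of abelian étale sheaves which is bijective on sections over affine objects is an
isomorphism -/
lemma isIso_of_affine_bijective {A B : EtCoh.Ab X} (ψ : A ⟶ B)
    (h : ∀ U : X.Etale, IsAffine U.left → Function.Bijective (ψ.hom.app (op U)).hom) :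
    IsIso ψ := by
  haveI : Mono ψ := by
    rw [Sheaf.Hom.mono_iff_presheaf_mono, NatTrans.mono_iff_mono_app]
    intro U
    rw [AddCommGrpCat.mono_iff_injective, injective_iff_map_eq_zero]
    intro a ha
    have hsh : Presieve.IsSheaf X.smallEtaleTopology (A.obj ⋙ forget AddCommGrpCat.{u + 1}) :=
      (isSheaf_iff_isSheaf_of_type _ _).1
        ((sheafCompose X.smallEtaleTopology (forget AddCommGrpCat.{u + 1})).obj A).2
    let T : Sieve U.unop :=
      { arrows := fun W g => A.obj.map g.op a = 0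
        downward_closed := by
          intro W W' g hg k
          rw [op_comp, Functor.map_comp]
          change A.obj.map k.op (A.obj.map g.op a) = 0
          rw [hg, map_zero] }
    have hT : T ∈ X.smallEtaleTopology U.unop := by
      rw [EtSiteBasic.mem_smallEtale_iff]
      intro x
      obtain ⟨V', j, hV', v, hv⟩ := exists_affine_nbhd U.unop x
      refine ⟨V', j, v, ?_, hv⟩
      apply (h V' hV').1
      rw [map_zero]
      have h3 := ConcreteCategory.congr_hom (ψ.hom.naturality j.op) a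
      refine h3.trans ?_
      change B.obj.map j.op ((ψ.hom.app U).hom a) = 0
      have ha' : (ψ.hom.app U).hom a = 0 := ha
      rw [ha', map_zero]
    refine (hsh _ hT).isSeparatedFor.ext ?_
    intro W g hg
    change A.obj.map g.op a = A.obj.map g.op 0
    rw [map_zero]
    exact hg
  haveI : Sheaf.IsLocallySurjective ψ := by
    constructor
    intro U b
    rw [EtSiteBasic.mem_smallEtale_iff]
    intro x
    obtain ⟨V', j, hV', v, hv⟩ := exists_affine_nbhd U x
    obtain ⟨t, ht⟩ := (h V' hV').2 (B.obj.map j.op b)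
    exact ⟨V', j, v, ⟨t, ht⟩, hv⟩
  haveI : Epi ψ := (Sheaf.isLocallySurjective_iff_epi' (φ := ψ)).1 inferInstance
  exact isIso_of_mono_of_epi ψ


omit hφ in
lemma push_hom_neg {A A' : EtCoh.Ab X} (ψ : A ⟶ A') {n : ℕ} (y : Ext.{u + 1} (ZZ X) A n) :
    push (-ψ) y = -push ψ y := by
  have h := push_hom_add ψ (-ψ) y
  rw [add_neg_cancel, push_hom_zero] at h
  exact (neg_eq_of_add_eq_zero_right h.symm).symm

omit hφ in
lemma push_hom_zsmul {A A' : EtCoh.Ab X} (c : ℤ) (ψ : A ⟶ A') {n : ℕ}
    (y : Ext.{u + 1} (ZZ X) A n) : push (c • ψ) y = c • push ψ y := by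
  cases c with
  | ofNat m =>
    rw [Int.ofNat_eq_natCast, natCast_zsmul, natCast_zsmul, push_hom_nsmul]
  | negSucc m =>
    rw [negSucc_zsmul, negSucc_zsmul, push_hom_neg, push_hom_nsmul]

omit hφ in
lemma HF_map_hom {A B : EtCoh.Ab X} (ψ : A ⟶ B) (i : ℕ) (y : EtCoh.H X A i) :
    ((EtCoh.HF X i).map ψ).hom y = push ψ y := rfl

include hφ in
theorem main [CompactSpace X] [QuasiSeparatedSpace X] (i : ℕ) :
    IsLocalizedModule S ((EtCoh.HF X i).map φ).hom.toIntLinearMap := by
  have hK : ∀ (n : ℕ) (ξ : Ext.{u + 1} (ZZ X) (kernel φ) n), ∃ m ∈ absM S, m • ξ = 0 :=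
    fun n ξ => ext_killed.{u + 1} (qcClass X) (fun e h => qcB_iso X e h) (absM S)
      (reprZZ X) (top_mem X) _ (locKilled_kernel S φ hφ) n ξ
  have hQ : ∀ (n : ℕ) (ξ : Ext.{u + 1} (ZZ X) (cokernel φ) n), ∃ m ∈ absM S, m • ξ = 0 :=
    fun n ξ => ext_killed.{u + 1} (qcClass X) (fun e h => qcB_iso X e h) (absM S)
      (reprZZ X) (top_mem X) _ (locKilled_cokernel S φ hφ) n ξ
  refine ⟨?_, ?_, ?_⟩
  · -- members of `S` act invertibly
    intro c
    rw [Module.End.isUnit_iff]
    haveI : IsIso ((c : ℤ) • 𝟙 G) := by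
      apply isIso_of_affine_bijective
      intro U hU
      have h1 := (hφ U hU).map_units c
      rw [Module.End.isUnit_iff] at h1
      have h2 : ⇑((((c : ℤ) • 𝟙 G : G ⟶ G)).hom.app (op U)).hom =
          ⇑((algebraMap ℤ (Module.End ℤ (G.obj.obj (op U)))) (c : ℤ)) := by
        funext y
        rfl
      rw [h2]
      exact h1
    have hbij : Function.Bijective
        (fun y : Ext.{u + 1} (ZZ X) G i => push ((c : ℤ) • 𝟙 G) y) := by
      constructor
      · intro y y' hyy'
        have := congrArg (push (inv ((c : ℤ) • 𝟙 G))) hyy'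
        simpa only [← push_comp, IsIso.hom_inv_id, push_id] using this
      · intro y
        refine ⟨push (inv ((c : ℤ) • 𝟙 G)) y, ?_⟩
        change push ((c : ℤ) • 𝟙 G) (push (inv ((c : ℤ) • 𝟙 G)) y) = y
        rw [← push_comp, IsIso.inv_hom_id, push_id]
    have e : ⇑((algebraMap ℤ (Module.End ℤ ↑((EtCoh.HF X i).obj G))) (c : ℤ)) =
        fun y : Ext.{u + 1} (ZZ X) G i => push ((c : ℤ) • 𝟙 G) y := by
      funext y
      have h4 : push ((c : ℤ) • 𝟙 G) y = (c : ℤ) • y := by
        rw [push_hom_zsmul, push_id]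
      exact h4.symm
    rw [e]
    exact hbij
  · -- surjectivity up to `S`
    intro y
    obtain ⟨m, hm, ξ, hξ⟩ := H9FE.ExtLocKer.exists_push_eq_nsmul φ (absM S) hK hQ
      (y : Ext.{u + 1} (ZZ X) G i)
    obtain ⟨s, hs, hsm⟩ := exists_zsmul_of_mem_absM (A := EtCoh.H X G i) hm
    rcases hsm y with h1 | h1
    · refine ⟨(ξ, ⟨s, hs⟩), ?_⟩
      change s • y = push φ ξ
      rw [h1, hξ]
    · refine ⟨(-ξ, ⟨s, hs⟩), ?_⟩
      change s • y = push φ (-ξ)
      rw [h1, push_neg, hξ]
  · -- injectivity up to `S`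
    intro x₁ x₂ h
    have h' : push φ (x₁ : Ext.{u + 1} (ZZ X) F i) = push φ x₂ := h
    have h0 : push φ ((x₁ : Ext.{u + 1} (ZZ X) F i) - x₂) = 0 := by
      rw [push_sub, h', sub_self]
    obtain ⟨m, hm, hmξ⟩ := H9FE.ExtLocKer.killed_of_push_eq_zero φ (absM S) hK hQ _ h0
    obtain ⟨s, hs, hsm⟩ := exists_zsmul_of_mem_absM (A := EtCoh.H X F i) hm
    refine ⟨⟨s, hs⟩, ?_⟩
    change s • x₁ = s • x₂
    have h2 : s • ((x₁ : Ext.{u + 1} (ZZ X) F i) - x₂) = 0 := by
      rcases hsm (x₁ - x₂) with h1 | h1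
      · rw [h1]; exact hmξ
      · rw [h1]
        have : m • ((x₁ : Ext.{u + 1} (ZZ X) F i) - x₂) = 0 := hmξ
        rw [this, neg_zero]
    rw [smul_sub, sub_eq_zero] at h2
    exact h2

end Aux

/-- In the case of the small etale topos of a quasi-compact quasi-separated scheme X (X is then a
coherent object of it), let R = S⁻¹ℤ be a localization of the ring of integers at a multiplicative
subset S, and let φ : F ⟶ G be a morphism of abelian etale sheaves on X which exhibits G as F ⊗ R:
over every affine scheme U etale over X, the map on sections F(U) → G(U) is a localization of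
ℤ-modules at S. Then for every i the induced map on etale cohomology Hⁱ(X, F) → Hⁱ(X, G) is a
localization at S, i.e. the natural map Hⁱ(X, F) ⊗ R → Hⁱ(X, F ⊗ R) is invertible. (The source
states this for a coherent object of an arbitrary topos; the tensor product F ⊗ R is rendered
through its characterisation on affine etale schemes over X.) -/
theorem result (X : Scheme.{u})
    [CompactSpace X] [QuasiSeparatedSpace X] (S : Submonoid ℤ)
    (F G : EtCoh.Ab X) (φ : F ⟶ G)
    (hφ : ∀ U : X.Etale, IsAffine U.left →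
      IsLocalizedModule S (φ.hom.app (op U)).hom.toIntLinearMap)
    (i : ℕ) : IsLocalizedModule S ((EtCoh.HF X i).map φ).hom.toIntLinearMap := by
  exact Aux.main S φ hφ i

end Groth.Agent.S19975
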