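import Groth.Statements.S1998
import Mathlib
-- import your own Groth.Agent.* helpers here

set_option autoImplicit false
universe u
open EtAlg

namespace Groth.Agent.S1998

open Polynomial
namespace Aux

variable {ι : Type u} [Preorder ι] [IsDirected ι (· ≤ ·)] [Nonempty ι]
    (G : ι → Type u) [∀ i, CommRing (G i)] (f : ∀ i j, i ≤ j → G i →+* G j)
    [DirectedSystem G fun i j h => f i j h] (I : ∀ i, Ideal (G i))

local notation "R" => Ring.DirectLimit G fun i j h => f i j h
local notation "φ" => Ring.DirectLimit.of G (fun i j h => f i j h)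

include I in
omit [IsDirected ι (· ≤ ·)] [Nonempty ι] in
lemma mem_mono (hI : ∀ i j (h : i ≤ j), (I i).map (f i j h) ≤ I j) {i j : ι} (h : i ≤ j) {x : G i}
    (hx : x ∈ I i) : f i j h x ∈ I j :=
  hI i j h (Ideal.mem_map_of_mem _ hx)

omit [IsDirected ι (· ≤ ·)] [Nonempty ι] in
lemma ff {i j k : ι} (h : i ≤ j) (h' : j ≤ k) (x : G i) : f j k h' (f i j h x) = f i k (h.trans h') x :=
  DirectedSystem.map_map (f := fun i j h => f i j h) h h' x

/-- The explicit description of the ideal `J`. -/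
lemma mem_J (hI : ∀ i j (h : i ≤ j), (I i).map (f i j h) ≤ I j) (x : R) :
    x ∈ (⨆ i, (I i).map (φ i)) ↔ ∃ i, ∃ y ∈ I i, φ i y = x := by
  constructor
  · intro hx
    let S : Ideal R :=
      { carrier := {x | ∃ i, ∃ y ∈ I i, φ i y = x}
        add_mem' := by
          rintro _ _ ⟨i, y, hy, rfl⟩ ⟨j, z, hz, rfl⟩
          obtain ⟨k, hik, hjk⟩ := exists_ge_ge i j
          refine ⟨k, f i k hik y + f j k hjk z,
            add_mem (mem_mono G f I hI hik hy) (mem_mono G f I hI hjk hz), ?_⟩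
          rw [map_add, Ring.DirectLimit.of_f, Ring.DirectLimit.of_f]
        zero_mem' := ⟨Classical.arbitrary ι, 0, zero_mem _, map_zero _⟩
        smul_mem' := by
          rintro c _ ⟨i, y, hy, rfl⟩
          obtain ⟨j, z, rfl⟩ := Ring.DirectLimit.exists_of c
          obtain ⟨k, hik, hjk⟩ := exists_ge_ge i j
          refine ⟨k, f j k hjk z * f i k hik y,
            Ideal.mul_mem_left _ _ (mem_mono G f I hI hik hy), ?_⟩
          rw [map_mul, Ring.DirectLimit.of_f, Ring.DirectLimit.of_f, smul_eq_mul] }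
    have : (⨆ i, (I i).map (φ i)) ≤ S := by
      refine iSup_le fun i => ?_
      rw [Ideal.map_le_iff_le_comap]
      intro y hy
      exact ⟨i, y, hy, rfl⟩
    exact this hx
  · rintro ⟨i, y, hy, rfl⟩
    exact (le_iSup (fun i => (I i).map (φ i)) i) (Ideal.mem_map_of_mem _ hy)

/-- If the image of `z` lies in `J` then `z` lies in `I` at a later stage. -/
lemma exists_stage (hI : ∀ i j (h : i ≤ j), (I i).map (f i j h) ≤ I j) {N : ι} (z : G N)
    (hz : φ N z ∈ (⨆ i, (I i).map (φ i))) : ∃ M, ∃ h : N ≤ M, f N M h z ∈ I M := by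
  rw [mem_J G f I hI] at hz
  obtain ⟨k, y, hy, hyz⟩ := hz
  obtain ⟨M₀, hN, hk⟩ := exists_ge_ge N k
  have h0 : φ M₀ (f N M₀ hN z - f k M₀ hk y) = 0 := by
    rw [map_sub, Ring.DirectLimit.of_f, Ring.DirectLimit.of_f, hyz, sub_self]
  obtain ⟨M, hM, h1⟩ := Ring.DirectLimit.of.zero_exact h0
  refine ⟨M, hN.trans hM, ?_⟩
  rw [map_sub, sub_eq_zero, ff, ff] at h1
  rw [h1]
  exact mem_mono G f I hI _ hy

theorem main (hI : ∀ i j (h : i ≤ j), (I i).map (f i j h) ≤ I j)
    (hh : ∀ i, HenselianRing (G i) (I i)) :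
    HenselianRing (Ring.DirectLimit G fun i j h => f i j h)
      (⨆ i, (I i).map (Ring.DirectLimit.of G (fun i j h => f i j h) i)) := by
  constructor
  · intro x hx
    rw [mem_J G f I hI] at hx
    obtain ⟨i, a, ha, rfl⟩ := hx
    rw [Ideal.mem_jacobson_bot]
    intro y
    obtain ⟨j, z, rfl⟩ := Ring.DirectLimit.exists_of y
    obtain ⟨k, hik, hjk⟩ := exists_ge_ge i j
    have hu : IsUnit (f i k hik a * f j k hjk z + 1) :=
      Ideal.mem_jacobson_bot.1 ((hh k).jac (mem_mono G f I hI hik ha)) _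
    have := hu.map (φ k)
    rwa [map_add, map_mul, map_one, Ring.DirectLimit.of_f, Ring.DirectLimit.of_f] at this
  · intro F hF a₀ h₁ h₂
    -- lift everything to a common stage
    obtain ⟨i₁, p, hp⟩ := Ring.DirectLimit.Polynomial.exists_of F
    have hlift : F ∈ Polynomial.lifts (φ i₁) := by
      rw [Polynomial.mem_lifts]; exact ⟨p, hp⟩
    obtain ⟨q, hq, -, hqm⟩ := Polynomial.lifts_and_natDegree_eq_and_monic hlift hF
    obtain ⟨i₂, a, rfl⟩ := Ring.DirectLimit.exists_of a₀
    obtain ⟨c₀, hc₀⟩ := h₂.exists_right_inv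
    obtain ⟨c₀, rfl⟩ := Ideal.Quotient.mk_surjective c₀
    obtain ⟨i₃, c, rfl⟩ := Ring.DirectLimit.exists_of c₀
    obtain ⟨i₄, h14, h24⟩ := exists_ge_ge i₁ i₂
    obtain ⟨N, h4N, h3N⟩ := exists_ge_ge i₄ i₃
    have h1N : i₁ ≤ N := h14.trans h4N
    have h2N : i₂ ≤ N := h24.trans h4N
    obtain ⟨qN, hqN⟩ : ∃ qN : (G N)[X], qN = q.map (f i₁ N h1N) := ⟨_, rfl⟩
    obtain ⟨aN, haN⟩ : ∃ aN : G N, aN = f i₂ N h2N a := ⟨_, rfl⟩
    obtain ⟨cN, hcN⟩ : ∃ cN : G N, cN = f i₃ N h3N c := ⟨_, rfl⟩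
    have hFN : F = qN.map (φ N) := by
      rw [hqN, Polynomial.map_map, ← hq]
      congr 1
      ext x
      simp
    have haN' : φ N aN = φ i₂ a := by rw [haN, Ring.DirectLimit.of_f]
    have hcN' : φ N cN = φ i₃ c := by rw [hcN, Ring.DirectLimit.of_f]
    have e1 : φ N (qN.eval aN) = F.eval (φ i₂ a) := by
      rw [hFN, ← haN', Polynomial.eval_map_apply]
    have e2 : φ N ((derivative qN).eval aN * cN - 1) =
        (derivative F).eval (φ i₂ a) * φ i₃ c - 1 := by
      rw [map_sub, map_mul, map_one, hFN, Polynomial.derivative_map, ← haN',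
        Polynomial.eval_map_apply, hcN']
    have m1 : φ N (qN.eval aN) ∈ (⨆ i, (I i).map (φ i)) := by rw [e1]; exact h₁
    have m2 : φ N ((derivative qN).eval aN * cN - 1) ∈ (⨆ i, (I i).map (φ i)) := by
      rw [e2]
      rw [← map_mul, ← map_one (Ideal.Quotient.mk _), ← sub_eq_zero, ← map_sub,
        Ideal.Quotient.eq_zero_iff_mem] at hc₀
      exact hc₀
    obtain ⟨M₁, hM₁, n1⟩ := exists_stage G f I hI _ m1
    obtain ⟨M₂, hM₂, n2⟩ := exists_stage G f I hI _ m2
    obtain ⟨M, h1M, h2M⟩ := exists_ge_ge M₁ M₂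
    have hNM : N ≤ M := hM₁.trans h1M
    have n1' : f N M hNM (qN.eval aN) ∈ I M := by
      have := mem_mono G f I hI h1M n1
      rwa [ff] at this
    have n2' : f N M hNM ((derivative qN).eval aN * cN - 1) ∈ I M := by
      have := mem_mono G f I hI h2M n2
      rwa [ff] at this
    obtain ⟨qM, hqM⟩ : ∃ qM : (G M)[X], qM = qN.map (f N M hNM) := ⟨_, rfl⟩
    have hqMm : qM.Monic := by rw [hqM, hqN]; exact (hqm.map _).map _
    have k1 : qM.eval (f N M hNM aN) ∈ I M := by
      rw [hqM, Polynomial.eval_map_apply]; exact n1'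
    have k2 : IsUnit (Ideal.Quotient.mk (I M) ((derivative qM).eval (f N M hNM aN))) := by
      refine IsUnit.of_mul_eq_one (Ideal.Quotient.mk (I M) (f N M hNM cN)) ?_
      rw [← map_mul, ← map_one (Ideal.Quotient.mk (I M)), ← sub_eq_zero, ← map_sub,
        Ideal.Quotient.eq_zero_iff_mem, hqM, Polynomial.derivative_map,
        Polynomial.eval_map_apply]
      rw [map_sub, map_mul, map_one] at n2'
      exact n2'
    obtain ⟨α, hα, hα'⟩ := (hh M).is_henselian qM hqMm _ k1 k2
    refine ⟨φ M α, ?_, ?_⟩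
    · have hFM : F = qM.map (φ M) := by
        rw [hFN, hqM, Polynomial.map_map]
        congr 1
        ext x
        simp
      rw [Polynomial.IsRoot.def, hFM, Polynomial.eval_map_apply, hα.eq_zero, map_zero]
    · rw [mem_J G f I hI]
      refine ⟨M, α - f N M hNM aN, hα', ?_⟩
      rw [map_sub, Ring.DirectLimit.of_f, haN']

end Aux

/-- Let (A_j, I_j) be a directed system of henselian pairs (ring maps A_j -> A_k for j ≤ k carrying I_j
into I_k). Then the direct limit A of the A_j together with the ideal generated by the images of the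
I_j is a henselian pair. -/
theorem result {ι : Type u} [Preorder ι] [IsDirected ι (· ≤ ·)] [Nonempty ι]
    (G : ι → Type u) [∀ i, CommRing (G i)] (f : ∀ i j, i ≤ j → G i →+* G j)
    [DirectedSystem G fun i j h => f i j h] (I : ∀ i, Ideal (G i))
    (hI : ∀ i j (h : i ≤ j), (I i).map (f i j h) ≤ I j) (hh : ∀ i, HenselianRing (G i) (I i)) :
    HenselianRing (Ring.DirectLimit G fun i j h => f i j h)
      (⨆ i, (I i).map (Ring.DirectLimit.of G (fun i j h => f i j h) i)) := by
  exact Aux.main G f I hI hh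

end Groth.Agent.S1998
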