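import Groth.Statements.S19996
import Mathlib
import Groth.Agent.Lib.Helper9.WildAut
-- import your own Groth.Agent.* helpers here

set_option autoImplicit false
universe u
open WildQuot

namespace Groth.Agent.S19996

open PowerSeries
namespace Aux

open Groth.Agent.S15813.Aux Groth.Agent.Helper9.WildAut

lemma toLinearMap_pow_apply {k : Type u} [Field k] (σ : PowerSeries k ≃ₐ[k] PowerSeries k) (n : ℕ)
    (g : PowerSeries k) : ((σ.toLinearMap : Module.End k (PowerSeries k)) ^ n) g = (σ ^ n) g := by
  induction n generalizing g with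
  | zero => simp
  | succ n ih =>
    rw [pow_succ', Module.End.mul_apply, ih, pow_succ', AlgEquiv.mul_apply]
    rfl

theorem main
    (p : ℕ) [Fact p.Prime] (k : Type u) [Field k] [CharP k p]
    (σ : PowerSeries k ≃ₐ[k] PowerSeries k) (hσp : σ ^ p = 1) (hσ1 : σ ≠ 1)
    (m : ℕ) (hm : (σ PowerSeries.X - PowerSeries.X).order = ((m + 1 : ℕ) : ℕ∞)) :
    p ∣ m + 1 ↔
      ∃ s a : PowerSeries k, s.order = 1 ∧ σ a = a ∧ σ s = s + a := by
  have hp : p.Prime := Fact.out
  have hp2 : 2 ≤ p := hp.two_le
  constructor
  · -- construction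
    rintro ⟨l, hl⟩
    obtain ⟨hσx, E, hE, hxE⟩ := norm_spec p σ hσp m hm
    set x := ∏ i ∈ Finset.range p, (σ ^ i) (X : PowerSeries k) with hxdef
    -- the operator δ = σ - 1
    let δ : Module.End k (PowerSeries k) := σ.toLinearMap - 1
    have hδ : ∀ g, δ g = σ g - g := fun g => rfl
    have hδp : δ ^ p = 0 := by
      have hchar : CharP (Module.End k (PowerSeries k)) p :=
        charP_of_injective_algebraMap (algebraMap k (Module.End k (PowerSeries k))).injective p
      have h1 : δ ^ p = (σ.toLinearMap : Module.End k (PowerSeries k)) ^ p - 1 ^ p :=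
        sub_pow_char_of_commute p (Commute.one_right _)
      rw [h1, one_pow]
      ext g : 1
      rw [LinearMap.sub_apply, toLinearMap_pow_apply, hσp]
      simp
    -- orders of iterates
    have key : ∀ i : ℕ, i ≤ p - 1 → ∃ w : PowerSeries k, IsUnit w ∧
        (δ ^ i) (X ^ (p - 1)) = X ^ (p - 1 + i * m) * w := by
      intro i
      induction i with
      | zero => intro _; exact ⟨1, isUnit_one, by simp⟩
      | succ i ih =>
        intro hi
        obtain ⟨w, hw, hw2⟩ := ih (by omega)
        have hnd : ¬ p ∣ p - 1 + i * m := by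
          intro hdvd
          have h1 : p ∣ (p - 1 + i * m) + (i + 1) := by
            have : (p - 1 + i * m) + (i + 1) = p * (1 + i * l) := by
              have : i * m + i = i * (p * l) := by rw [← hl]; ring
              have h3 : (p - 1 + i * m) + (i + 1) = p + (i * m + i) := by omega
              rw [h3, this]; ring
            rw [this]; exact dvd_mul_right _ _
          have h2 : p ∣ i + 1 := (Nat.dvd_add_right hdvd).mp h1
          have := Nat.le_of_dvd (by omega) h2
          omega
        obtain ⟨w', hw', hw'2⟩ := order_lemma p σ hσp m hm _ hnd w hw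
        refine ⟨w', hw', ?_⟩
        rw [pow_succ', Module.End.mul_apply, hw2, hδ, hw'2]
        congr 1; ring
    obtain ⟨w₁, hw₁, hs'⟩ := key (p - 2) (by omega)
    obtain ⟨w₂, hw₂, ha'⟩ := key (p - 1) le_rfl
    set s' := (δ ^ (p - 2)) (X ^ (p - 1)) with hs'def
    set a' := (δ ^ (p - 1)) (X ^ (p - 1)) with ha'def
    have hδs' : σ s' = s' + a' := by
      have : a' = δ s' := by
        rw [ha'def, hs'def, ← Module.End.mul_apply, ← pow_succ']
        congr 2; omega
      rw [this, hδ]; ring
    have hσa' : σ a' = a' := by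
      have : δ a' = 0 := by
        rw [ha'def, ← Module.End.mul_apply, ← pow_succ', show p - 1 + 1 = p by omega, hδp]
        rfl
      rw [hδ] at this
      exact sub_eq_zero.mp this
    -- exponents
    set j := (p - 2) * l with hj
    have e1 : p - 1 + (p - 2) * m = p * j + 1 := by
      obtain ⟨q, rfl⟩ : ∃ q, p = q + 2 := ⟨p - 2, by omega⟩
      have hm' : m = (q + 2) * l - 1 := by omega
      have hpos : 1 ≤ (q + 2) * l := by
        rcases Nat.eq_zero_or_pos l with h | h
        · rw [h] at hl; omega
        · exact Nat.mul_pos (by omega) h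
      simp only [Nat.add_sub_cancel, hj]
      have : q * m + q = q * ((q + 2) * l) := by rw [← hl]; ring
      have h2 : q + 2 - 1 + q * m = (q * m + q) + 1 := by omega
      rw [h2, this]; ring
    have e2 : p - 1 + (p - 1) * m = p * j + (m + 1) := by
      have : p - 1 + (p - 1) * m = (p - 1 + (p - 2) * m) + m := by
        obtain ⟨q, rfl⟩ : ∃ q, p = q + 2 := ⟨p - 2, by omega⟩
        simp only [Nat.add_sub_cancel]
        have : q + 2 - 1 = q + 1 := by omega
        rw [this]; ring
      rw [this, e1]; ring
    obtain ⟨Ei, hEi⟩ := hE.exists_right_inv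
    have hEiu : IsUnit Ei := IsUnit.of_mul_eq_one _ (by rw [mul_comm]; exact hEi)
    have hxj : x ^ j * Ei ^ j = X ^ (p * j) := by
      rw [hxE, mul_pow, ← pow_mul, mul_assoc, ← mul_pow, hEi, one_pow, mul_one]
    have hx0 : x ≠ 0 := by
      rw [hxE]; exact mul_ne_zero (pow_ne_zero _ X_ne_zero) hE.ne_zero
    -- define s and a
    refine ⟨X * (Ei ^ j * w₁), X ^ (m + 1) * (Ei ^ j * w₂), ?_, ?_, ?_⟩
    · have := order_X_pow_mul_unit 1 (Ei ^ j * w₁) ((hEiu.pow j).mul hw₁)
      rw [pow_one] at this
      rw [this]; rfl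
    · -- invariance of a
      have h1 : x ^ j * (X ^ (m + 1) * (Ei ^ j * w₂)) = a' := by
        rw [ha', e2, pow_add (X : PowerSeries k) (p * j) (m + 1), ← hxj]; ring
      have h2 := congrArg σ h1
      rw [map_mul, map_pow, hσx, hσa', ← h1] at h2
      exact mul_left_cancel₀ (pow_ne_zero _ hx0) h2
    · have h1 : x ^ j * (X ^ (m + 1) * (Ei ^ j * w₂)) = a' := by
        rw [ha', e2, pow_add (X : PowerSeries k) (p * j) (m + 1), ← hxj]; ring
      have h3 : x ^ j * (X * (Ei ^ j * w₁)) = s' := by
        rw [hs', e1, pow_add (X : PowerSeries k) (p * j) 1, ← hxj]; ring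
      have h2 := congrArg σ h3
      rw [map_mul, map_pow, hσx, hδs', ← h1, ← h3, ← mul_add] at h2
      exact mul_left_cancel₀ (pow_ne_zero _ hx0) h2
  · rintro ⟨s, a, hs, hσa, hσs⟩
    have hs0 : s ≠ 0 := by
      intro h0; rw [h0, order_zero] at hs; exact absurd hs (by simp)
    obtain ⟨e, w, hw, hsw⟩ := exists_unit_mul s hs0
    have he : e = 1 := by
      have := order_X_pow_mul_unit e w hw
      rw [← hsw, hs] at this
      exact_mod_cast this.symm
    subst he
    have hp1 : ¬ p ∣ 1 := by
      intro h; have := Nat.le_of_dvd one_pos h; omega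
    obtain ⟨w', hw', h1⟩ := order_lemma p σ hσp m hm 1 hp1 w hw
    rw [← hsw, hσs, add_sub_cancel_left] at h1
    by_contra hnd
    rw [add_comm] at hnd
    obtain ⟨w'', hw'', h2⟩ := order_lemma p σ hσp m hm (1 + m) hnd w' hw'
    rw [← h1, hσa, sub_self] at h2
    exact (mul_ne_zero (pow_ne_zero _ X_ne_zero) hw''.ne_zero) h2.symm

end Aux

/-- Let `k` be a field of characteristic `p > 0`, `A = k[[u]]`, and `σ` a `k`-algebra automorphism of
`A` of order exactly `p` with ramification break `m`, i.e. `σ u - u` has order `m + 1`. Then `p`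
divides `m + 1` if and only if there are a uniformizer `s` of `A` (a power series of order `1`) and
a `σ`-invariant power series `a` with `σ s = s + a`. (The published statement has a third equivalent
condition, that `Spec A` is a torsor under the effective model of the action; this row omits it.) -/
theorem result
    (p : ℕ) [Fact p.Prime] (k : Type u) [Field k] [CharP k p]
    (σ : PowerSeries k ≃ₐ[k] PowerSeries k) (hσp : σ ^ p = 1) (hσ1 : σ ≠ 1)
    (m : ℕ) (hm : (σ PowerSeries.X - PowerSeries.X).order = ((m + 1 : ℕ) : ℕ∞)) :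
    p ∣ m + 1 ↔
      ∃ s a : PowerSeries k, s.order = 1 ∧ σ a = a ∧ σ s = s + a := by
  exact Aux.main p k σ hσp hσ1 m hm

end Groth.Agent.S19996
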