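import Groth.Statements.S20018
import Mathlib

set_option autoImplicit false
open CAlg

namespace Groth.Agent.S20018

open PowerSeries

section
variable {R : Type*} [CommRing R]

/-- partial products, built recursively -/
noncomputable def PP (x : PowerSeries R) : ℕ → PowerSeries R
  | 0 => 1
  | (N + 1) => PP x N * (1 - PowerSeries.C (PowerSeries.coeff (N + 1) (PP x N) - PowerSeries.coeff (N + 1) x) *
      PowerSeries.X ^ (N + 1))

noncomputable def al (x : PowerSeries R) (N : ℕ) : R :=
  PowerSeries.coeff (N + 1) (PP x N) - PowerSeries.coeff (N + 1) x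

theorem PP_succ (x : PowerSeries R) (N : ℕ) :
    PP x (N + 1) = PP x N * (1 - PowerSeries.C (al x N) * PowerSeries.X ^ (N + 1)) := rfl

theorem PP_eq_prod (x : PowerSeries R) (N : ℕ) :
    PP x N = ∏ i ∈ Finset.range N, (1 - PowerSeries.C (al x i) * PowerSeries.X ^ (i + 1) : PowerSeries R) := by
  induction N with
  | zero => simp [PP]
  | succ N ih => rw [Finset.prod_range_succ, ← ih, PP_succ]

theorem coeff_step (Q : PowerSeries R) (a : R) (N k : ℕ) :
    PowerSeries.coeff k (Q * (1 - PowerSeries.C a * PowerSeries.X ^ (N + 1))) =
      PowerSeries.coeff k Q - if N + 1 ≤ k then a * PowerSeries.coeff (k - (N + 1)) Q else 0 := by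
  rw [mul_sub, mul_one, map_sub]
  congr 1
  rw [mul_comm Q, mul_assoc, PowerSeries.coeff_C_mul, PowerSeries.coeff_X_pow_mul']
  split_ifs <;> simp

theorem PP_coeff (x : PowerSeries R) (hx : PowerSeries.constantCoeff x = 1) (N : ℕ) :
    ∀ k ≤ N, PowerSeries.coeff k (PP x N) = PowerSeries.coeff k x := by
  induction N with
  | zero =>
    intro k hk
    have : k = 0 := by omega
    subst this
    simp [PP, hx]
  | succ N ih =>
    intro k hk
    rw [PP_succ, coeff_step]
    rcases Nat.lt_or_ge k (N + 1) with h | h
    · rw [if_neg (by omega), sub_zero]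
      exact ih k (by omega)
    · have hk' : k = N + 1 := by omega
      subst hk'
      rw [if_pos le_rfl, Nat.sub_self, ih 0 (by omega)]
      have : PowerSeries.coeff 0 x = 1 := by simpa using hx
      rw [this, mul_one, al]
      ring

end

open PowerSeries in
/-- Product expansion of big Witt vectors: let R be a commutative ring and x ∈ 1 + tR[[t]] a formal
power series with constant term 1. Then x can be written uniquely as an infinite product ∏_{i ≥ 1}
(1 - α_i t^i) with α_i ∈ R. The infinite product is expressed through its truncations: there is a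
unique sequence α : ℕ → R (α i standing for the coefficient attached to t^{i+1}) such that for every
N the series x and the finite product ∏_{i=0}^{N} (1 - α_i t^{i+1}) agree modulo t^{N+2}. -/
theorem result
    (R : Type*) [CommRing R] (x : PowerSeries R) (hx : PowerSeries.constantCoeff x = 1) :
    ∃! α : ℕ → R, ∀ N : ℕ,
      PowerSeries.trunc (N + 2) x =
        PowerSeries.trunc (N + 2) (∏ i ∈ Finset.range (N + 1),
          (1 - PowerSeries.C (α i) * PowerSeries.X ^ (i + 1) : PowerSeries R)) := by
  classical
  have h0 : PowerSeries.coeff 0 x = 1 := by simpa using hx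
  refine ⟨al x, ?_, ?_⟩
  · intro N
    rw [← PP_eq_prod]
    ext k
    rw [PowerSeries.coeff_trunc, PowerSeries.coeff_trunc]
    split_ifs with h
    · exact (PP_coeff x hx (N + 1) k (by omega)).symm
    · rfl
  · intro β hβ
    funext N
    induction N using Nat.strong_induction_on with
    | _ N ih =>
      have hprod : ∏ i ∈ Finset.range N, (1 - PowerSeries.C (β i) * PowerSeries.X ^ (i + 1) : PowerSeries R) =
          PP x N := by
        rw [PP_eq_prod]
        refine Finset.prod_congr rfl (fun i hi => ?_)
        rw [ih i (Finset.mem_range.1 hi)]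
      have h1 := hβ N
      rw [Finset.prod_range_succ, hprod] at h1
      have h2 := congrArg (fun q => Polynomial.coeff q (N + 1)) h1
      simp only [PowerSeries.coeff_trunc] at h2
      rw [if_pos (by omega), if_pos (by omega), coeff_step, if_pos le_rfl, Nat.sub_self,
        PP_coeff x hx N 0 (by omega), h0, mul_one] at h2
      rw [al, h2]
      ring

end Groth.Agent.S20018
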