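import Groth.Statements.S20022
import Mathlib

set_option autoImplicit false
universe u
open GrLC

namespace Groth.Agent.S20022

section
open DirectSum

theorem proj_smul {R : Type u} [CommRing R] (𝒜 : ℤ → AddSubgroup R) [GradedRing 𝒜]
    {M : Type u} [AddCommGroup M] [Module R M] (ℳ : ℤ → AddSubgroup M)
    [DirectSum.Decomposition ℳ] [SetLike.GradedSMul 𝒜 ℳ]
    (r : R) (j : ℤ) (c : M) (hc : c ∈ ℳ j) (m : ℤ) :
    (decompose ℳ (r • c) m : M) = (decompose 𝒜 r (m - j) : R) • c := by
  induction r using DirectSum.Decomposition.inductionOn 𝒜 with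
  | zero => simp
  | @homogeneous l r =>
    have h1 : (r : R) • c ∈ ℳ (l + j) := SetLike.GradedSMul.smul_mem r.2 hc
    by_cases hl : l = m - j
    · have h2 : (r : R) • c ∈ ℳ m := by
        have h3 : l + j = m := by omega
        rw [← h3]; exact h1
      have h4 : (r : R) ∈ 𝒜 (m - j) := hl ▸ r.2
      rw [decompose_of_mem_same ℳ h2, decompose_of_mem_same 𝒜 h4]
    · rw [decompose_of_mem_ne ℳ h1 (by omega), decompose_of_mem_ne 𝒜 r.2 hl, zero_smul]
  | add r r' h h' =>
    rw [add_smul, decompose_add, decompose_add, DirectSum.add_apply, DirectSum.add_apply,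
      AddSubgroup.coe_add, AddSubgroup.coe_add, h, h', add_smul]

theorem main (R : Type u) [CommRing R]
    (𝒜 : ℤ → AddSubgroup R) [GradedRing 𝒜] (h0 : IsField (GrLC.deg0 𝒜))
    (d : ℤ) (hd : 0 < d) (T : Rˣ) (hT : (T : R) ∈ 𝒜 d)
    (hA : ∀ (n : ℤ) (x : R), x ∈ 𝒜 n → x ≠ 0 →
      ∃ j : ℤ, ∃ a ∈ 𝒜 0, j * d = n ∧ x = a * ((T ^ j : Rˣ) : R))
    (M : Type u) [AddCommGroup M] [Module R M] (ℳ : ℤ → AddSubgroup M)
    [DirectSum.Decomposition ℳ] [SetLike.GradedSMul 𝒜 ℳ] :
    ∃ (κ : Type u) (b : Module.Basis κ R M), ∀ i : κ, SetLike.IsHomogeneousElem ℳ (b i) := by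
  classical
  let H : Type u := {x : M // SetLike.IsHomogeneousElem ℳ x}
  let v : H → M := Subtype.val
  obtain ⟨s, hs, hmax⟩ := exists_maximal_linearIndepOn R v
  obtain ⟨N, hN⟩ : ∃ N : Submodule R M, N = Submodule.span R (v '' s) := ⟨_, rfl⟩
  -- N is homogeneous
  have hNhom : ∀ y ∈ N, ∀ m : ℤ, (decompose ℳ y m : M) ∈ N := by
    intro y hy
    rw [hN] at hy
    induction hy using Submodule.closure_induction with
    | zero => intro m; simp
    | add x y hx hy hx' hy' =>
      intro m
      rw [decompose_add, DirectSum.add_apply, AddSubgroup.coe_add]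
      exact N.add_mem (hx' m) (hy' m)
    | smul_mem r c hc =>
      intro m
      obtain ⟨c', hc's, rfl⟩ := hc
      obtain ⟨j, hj⟩ := c'.2
      rw [proj_smul 𝒜 ℳ r j _ hj m]
      refine N.smul_mem _ ?_
      rw [hN]
      exact Submodule.subset_span ⟨c', hc's, rfl⟩
  -- nonzero homogeneous elements of R are units
  have hunit : ∀ (n : ℤ) (a : R), a ∈ 𝒜 n → a ≠ 0 → IsUnit a := by
    intro n a ha ha0
    obtain ⟨j, α, hα, -, rfl⟩ := hA n a ha ha0
    have hα0 : (⟨α, hα⟩ : GrLC.deg0 𝒜) ≠ 0 := by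
      intro h
      apply ha0
      have : α = 0 := congrArg Subtype.val h
      rw [this, zero_mul]
    obtain ⟨β, hβ⟩ := h0.mul_inv_cancel hα0
    have hαu : IsUnit α := by
      refine IsUnit.of_mul_eq_one (β : R) ?_
      exact congrArg Subtype.val hβ
    exact hαu.mul (T ^ j).isUnit
  -- every homogeneous element lies in N
  have hhom : ∀ x : M, SetLike.IsHomogeneousElem ℳ x → x ∈ N := by
    intro x hx
    by_cases hxs : (⟨x, hx⟩ : H) ∈ s
    · rw [hN]
      exact Submodule.subset_span ⟨⟨x, hx⟩, hxs, rfl⟩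
    · obtain ⟨a, ha0, ha⟩ := hmax ⟨x, hx⟩ hxs
      rw [← hN] at ha
      change a • x ∈ N at ha
      obtain ⟨i, hi⟩ := hx
      have hex : ∃ n : ℤ, (decompose 𝒜 a n : R) ≠ 0 := by
        by_contra hcon
        apply ha0
        have h1 : ∀ n : ℤ, (decompose 𝒜 a n : R) = 0 := by
          intro n
          by_contra h
          exact hcon ⟨n, h⟩
        have h2 : decompose 𝒜 a = 0 := by
          ext n
          rw [h1 n]
          rfl
        have h3 := congrArg (decompose 𝒜).symm h2
        simpa using h3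
      obtain ⟨n, hn⟩ := hex
      have h1 := hNhom _ ha (n + i)
      rw [proj_smul 𝒜 ℳ a i x hi (n + i)] at h1
      have h2 : n + i - i = n := by omega
      rw [h2] at h1
      obtain ⟨u, hu⟩ := hunit n _ (decompose 𝒜 a n).2 hn
      have h3 : x = ((u⁻¹ : Rˣ) : R) • ((decompose 𝒜 a n : R) • x) := by
        rw [← hu, smul_smul, Units.inv_mul, one_smul]
      rw [h3]
      exact N.smul_mem _ h1
  have htop : N = ⊤ := by
    rw [eq_top_iff]
    intro y _
    rw [← DirectSum.sum_support_decompose ℳ y]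
    refine N.sum_mem (fun m _ => hhom _ ⟨m, (decompose ℳ y m).2⟩)
  have hli : LinearIndependent R (fun c : ↥s => v c) := hs
  have hsp : ⊤ ≤ Submodule.span R (Set.range (fun c : ↥s => v c)) := by
    rw [← htop, hN]
    refine Submodule.span_mono ?_
    rintro _ ⟨c, hc, rfl⟩
    exact ⟨⟨c, hc⟩, rfl⟩
  refine ⟨↥s, Module.Basis.mk hli hsp, ?_⟩
  intro c
  rw [Module.Basis.mk_apply]
  exact c.1.2


end


/-- Let R be a commutative ℤ-graded ring whose degree-zero subring R_0 is a field k and which is the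
Laurent polynomial ring k[T, T⁻¹] on a homogeneous invertible element T of positive degree d, in the
following intrinsic sense: T is a unit lying in R_d, and every nonzero homogeneous element of degree
n equals a·T^j for some a ∈ R_0 and some integer j with j·d = n (so R_n = 0 unless d divides n, and
R_{jd} = k·T^j). Then every graded R-module M is free in the graded sense: M has an R-basis
consisting of homogeneous elements. (The other case of condition (2), R = k concentrated in degree
zero, is not included.) -/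
theorem result (R : Type u) [CommRing R]
    (𝒜 : ℤ → AddSubgroup R) [GradedRing 𝒜] (h0 : IsField (GrLC.deg0 𝒜))
    (d : ℤ) (hd : 0 < d) (T : Rˣ) (hT : (T : R) ∈ 𝒜 d)
    (hA : ∀ (n : ℤ) (x : R), x ∈ 𝒜 n → x ≠ 0 →
      ∃ j : ℤ, ∃ a ∈ 𝒜 0, j * d = n ∧ x = a * ((T ^ j : Rˣ) : R))
    (M : Type u) [AddCommGroup M] [Module R M] (ℳ : ℤ → AddSubgroup M)
    [DirectSum.Decomposition ℳ] [SetLike.GradedSMul 𝒜 ℳ] :
    ∃ (κ : Type u) (b : Module.Basis κ R M), ∀ i : κ, SetLike.IsHomogeneousElem ℳ (b i) := by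
  classical
  exact main R 𝒜 h0 d hd T hT hA M ℳ

end Groth.Agent.S20022
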