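import Groth.Statements.S20024
import Mathlib

set_option autoImplicit false
universe u
open WittFil

namespace Groth.Agent.S20024

namespace H20024
open WittVector

theorem frob_teich (p : ℕ) [Fact p.Prime] {B : Type u} [CommRing B] [CharP B p] (a : B) :
    frobenius (teichmuller p a) = teichmuller p (a ^ p) := by
  rw [frobenius_eq_map_frobenius, map_teichmuller]
  rfl

theorem frob_iter_teich (p : ℕ) [Fact p.Prime] {B : Type u} [CommRing B] [CharP B p] (a : B) (s : ℕ) :
    frobenius^[s] (teichmuller p a) = teichmuller p (a ^ (p ^ s)) := by
  induction s with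
  | zero => simp
  | succ s ih =>
    rw [Function.iterate_succ_apply', ih, frob_teich, ← pow_mul, ← pow_succ]

theorem main (p : ℕ) [Fact p.Prime] {S B : Type u}
    [CommRing S] [CharP S p] [CommRing B] [Algebra S B] (m s : ℕ) (u : Bˣ) (i l : ℤ)
    (c : WittVector p S) :
    WittVector.truncate m (WittVector.teichmuller p ((u ^ l : Bˣ) : B)) *
        WittFil.vShiftTeich p m s ((u ^ i : Bˣ) : B) c =
      WittFil.vShiftTeich p m s ((u ^ (i + (p : ℤ) ^ s * l) : Bˣ) : B) c := by
  by_cases hB : Nontrivial B
  · have hp0 : ((p : ℕ) : B) = 0 := by
      have h1 : ((p : ℕ) : S) = 0 := CharP.cast_eq_zero S p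
      rw [← map_natCast (algebraMap S B), h1, map_zero]
    have : CharP B p := (CharP.charP_iff_prime_eq_zero (Fact.out : p.Prime)).2 hp0
    unfold WittFil.vShiftTeich
    rw [← map_mul, mul_comm, iterate_verschiebung_mul_left, frob_iter_teich, mul_assoc,
      ← map_mul (teichmuller p)]
    congr 4
    rw [← Units.val_pow_eq_pow_val, ← Units.val_mul, ← zpow_natCast, ← zpow_mul, ← zpow_add]
    congr 2
    push_cast
    ring
  · rw [not_nontrivial_iff_subsingleton] at hB
    have : Subsingleton (TruncatedWittVector p m B) := by
      refine ⟨fun a b => ?_⟩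
      ext j
      exact Subsingleton.elim _ _
    exact Subsingleton.elim _ _

end H20024

/-- Case q = 0: let p be a prime, S a commutative ring of characteristic p and B a commutative S-algebra
(in the source B = S[[π]][1/π]), u a unit of B (the uniformizer π), m, s natural numbers, i, l
integers and c a p-typical Witt vector over S. Write Φ_v(c) for the length-m truncation of V^s(c ·
[v]), where c is mapped to the Witt vectors of B, [v] is the Teichmüller representative of v ∈ B and
V is the Verschiebung; for n = p^(m−1−s) · i the degree-zero piece F_n^{m,0}(S) is the set of all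
Φ_{u^i}(c). Then multiplication by the truncated Teichmüller representative [u^l] satisfies [u^l] ·
Φ_{u^i}(c) = Φ_{u^(i + p^s l)}(c); consequently [u^l] · F_n^{m,0}(S) = F_{n + p^(m−1) l}^{m,0}(S).
(Only the part of the lemma in differential degree q = 0 is stated; the source's S is a regular
local F-finite F_p-algebra, and the identity holds for any S-algebra B of characteristic p.) -/
theorem result (p : ℕ) [Fact p.Prime] {S B : Type u}
    [CommRing S] [CharP S p] [CommRing B] [Algebra S B] (m s : ℕ) (u : Bˣ) (i l : ℤ)
    (c : WittVector p S) :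
    WittVector.truncate m (WittVector.teichmuller p ((u ^ l : Bˣ) : B)) *
        WittFil.vShiftTeich p m s ((u ^ i : Bˣ) : B) c =
      WittFil.vShiftTeich p m s ((u ^ (i + (p : ℤ) ^ s * l) : Bˣ) : B) c := by
  exact H20024.main p m s u i l c

end Groth.Agent.S20024
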