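import Groth.Statements.S20025
import Mathlib

set_option autoImplicit false
universe u
open InvQ

namespace Groth.Agent.S20025

section
open MvPolynomial
open W4c6intromoduli

variable {k : Type u} [Field k]

theorem subst_X (M : Matrix (Fin 2) (Fin 2) k) (i : Fin 2) :
    subst M (X i) = C (M i 0) * X 0 + C (M i 1) * X 1 := by
  simp [subst, Fin.sum_univ_two]

theorem subst_comp (M N : Matrix (Fin 2) (Fin 2) k) (F : MvPolynomial (Fin 2) k) :
    subst N (subst M F) = subst (M * N) F := by
  have : (subst N).comp (subst M) = subst (M * N) := by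
    apply MvPolynomial.algHom_ext
    intro i
    rw [AlgHom.comp_apply, subst_X, subst_X, map_add, map_mul, map_mul, subst_X, subst_X]
    simp only [algHom_C, Matrix.mul_apply, Fin.sum_univ_two, map_add, map_mul,
      MvPolynomial.algebraMap_eq]
    ring
  exact AlgHom.congr_fun this F

theorem subst_one (F : MvPolynomial (Fin 2) k) :
    subst (1 : Matrix (Fin 2) (Fin 2) k) F = F := by
  have : subst (1 : Matrix (Fin 2) (Fin 2) k) = AlgHom.id k _ := by
    apply MvPolynomial.algHom_ext
    intro i
    rw [subst_X]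
    fin_cases i <;> simp [Matrix.one_apply]
  rw [this]; rfl

theorem subst_A (M : Matrix (Fin 2) (Fin 2) k) :
    subst M (X 0 ^ 2 * X 1 * (X 0 - X 1)) =
      (C (M 0 0) * X 0 + C (M 0 1) * X 1) ^ 2 * (C (M 1 0) * X 0 + C (M 1 1) * X 1) *
        ((C (M 0 0) * X 0 + C (M 0 1) * X 1) - (C (M 1 0) * X 0 + C (M 1 1) * X 1)) := by
  rw [map_mul, map_mul, map_pow, map_sub, subst_X, subst_X]

theorem subst_B (M : Matrix (Fin 2) (Fin 2) k) :
    subst M (X 0 ^ 2 * X 1 ^ 2) =
      (C (M 0 0) * X 0 + C (M 0 1) * X 1) ^ 2 * (C (M 1 0) * X 0 + C (M 1 1) * X 1) ^ 2 := by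
  rw [map_mul, map_pow, map_pow, subst_X, subst_X]

theorem not_both (M1 M2 : Matrix (Fin 2) (Fin 2) k) (c1 c2 : k) (h1 : IsUnit M1.det)
    (hc1 : c1 ≠ 0)
    (h : C c1 * subst M1 (X 0 ^ 2 * X 1 * (X 0 - X 1)) =
      C c2 * subst M2 (X 0 ^ 2 * X 1 ^ 2)) : False := by
  have h' := congrArg (subst M1⁻¹) h
  rw [_root_.map_mul (subst M1⁻¹) (C c1) _, _root_.map_mul (subst M1⁻¹) (C c2) _,
    subst_comp, subst_comp, Matrix.mul_nonsing_inv M1 h1, subst_one,
    algHom_C, algHom_C] at h'
  obtain ⟨N, hN⟩ : ∃ N, N = M2 * M1⁻¹ := ⟨_, rfl⟩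
  rw [← hN] at h'
  rw [subst_B, MvPolynomial.algebraMap_eq] at h'
  have h'' := congrArg (aeval (![Polynomial.X, 1] : Fin 2 → Polynomial k)) h'
  simp only [map_mul, map_pow, map_sub, map_add, aeval_X, aeval_C,
    Matrix.cons_val_zero, Matrix.cons_val_one, mul_one, Polynomial.algebraMap_eq] at h''
  have hdeg := congrArg Polynomial.natDegree h''
  have hL : (Polynomial.C c1 * (Polynomial.X ^ 2 * (Polynomial.X - 1) : Polynomial k)).natDegree
      = 3 := by
    have e : (Polynomial.X - 1 : Polynomial k) = Polynomial.X - Polynomial.C 1 := by simp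
    rw [Polynomial.natDegree_C_mul hc1, e,
      Polynomial.natDegree_mul (pow_ne_zero _ Polynomial.X_ne_zero)
      (Polynomial.X_sub_C_ne_zero 1), Polynomial.natDegree_X_pow, Polynomial.natDegree_X_sub_C]
  rw [hL] at hdeg
  by_cases hc2 : c2 = 0
  · rw [hc2] at hdeg
    simp at hdeg
  · rw [Polynomial.natDegree_C_mul hc2, ← mul_pow, Polynomial.natDegree_pow] at hdeg
    omega

theorem prop_scalar (a b a' b' : k) (h : a * b' = a' * b) (hne : a ≠ 0 ∨ b ≠ 0)
    (hne' : a' ≠ 0 ∨ b' ≠ 0) : ∃ t : k, t ≠ 0 ∧ a' = t * a ∧ b' = t * b := by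
  by_cases ha : a = 0
  · have hb : b ≠ 0 := by
      rcases hne with h1 | h1
      · exact absurd ha h1
      · exact h1
    have ha' : a' = 0 := by
      rw [ha, zero_mul] at h
      rcases mul_eq_zero.mp h.symm with h2 | h2
      · exact h2
      · exact absurd h2 hb
    have hb' : b' ≠ 0 := by
      rcases hne' with h1 | h1
      · exact absurd ha' h1
      · exact h1
    refine ⟨b' / b, div_ne_zero hb' hb, ?_, ?_⟩
    · rw [ha, ha', mul_zero]
    · field_simp
  · have h2 : b' = a' * b / a := by field_simp; linear_combination h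
    have ha' : a' ≠ 0 := by
      intro h3
      rw [h3] at h2
      rcases hne' with h1 | h1
      · exact h1 h3
      · apply h1; rw [h2]; simp
    refine ⟨a' / a, div_ne_zero ha' ha, ?_, ?_⟩
    · field_simp
    · rw [h2]; ring

theorem idx : ∀ i j : Fin 4, i ≠ j → ∃ k l : Fin 4, k ≠ l ∧ k ≠ i ∧ k ≠ j ∧ l ≠ i ∧ l ≠ j ∧
    (Finset.univ : Finset (Fin 4)) = {i, j, k, l} := by decide

/-- the linear factor -/
noncomputable def ell (la mu : Fin 4 → k) (x : Fin 4) : MvPolynomial (Fin 2) k :=
  C (mu x) * X 0 - C (la x) * X 1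

theorem binForm_eq (la mu : Fin 4 → k) (i j k' l : Fin 4) (hij : i ≠ j) (hkl : k' ≠ l)
    (hki : k' ≠ i) (hkj : k' ≠ j) (hli : l ≠ i) (hlj : l ≠ j)
    (hu : (Finset.univ : Finset (Fin 4)) = {i, j, k', l}) :
    binForm la mu = ell la mu i * ell la mu j * ell la mu k' * ell la mu l := by
  unfold binForm
  rw [hu, Finset.prod_insert, Finset.prod_insert, Finset.prod_insert, Finset.prod_singleton]
  · simp only [ell]; ring
  · simp only [Finset.mem_singleton]; exact hkl
  · simp only [Finset.mem_insert, Finset.mem_singleton, not_or]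
    exact ⟨fun h => hkj h.symm, fun h => hlj h.symm⟩
  · simp only [Finset.mem_insert, Finset.mem_singleton, not_or]
    exact ⟨hij, fun h => hki h.symm, fun h => hli h.symm⟩

theorem ell_scalar (la mu : Fin 4 → k) (i j : Fin 4) (t : k) (h1 : la j = t * la i)
    (h2 : mu j = t * mu i) : ell la mu j = C t * ell la mu i := by
  simp only [ell, h1, h2, C_mul]; ring

theorem main (k : Type u) [Field k]
    (h2 : (2 : k) ≠ 0) (h3 : (3 : k) ≠ 0) (la mu : Fin 4 → k)
    (hne : ∀ i, la i ≠ 0 ∨ mu i ≠ 0) (hd : W4c6intromoduli.disc la mu = 0)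
    (h3z : ∀ i j l : Fin 4, i ≠ j → j ≠ l → i ≠ l →
      ¬ (la i * mu j = la j * mu i ∧ la j * mu l = la l * mu j)) :
    Xor
      (∃ (M : Matrix (Fin 2) (Fin 2) k) (c : k), IsUnit M.det ∧ c ≠ 0 ∧
        W4c6intromoduli.binForm la mu =
          MvPolynomial.C c * W4c6intromoduli.subst M
            (MvPolynomial.X 0 ^ 2 * MvPolynomial.X 1 * (MvPolynomial.X 0 - MvPolynomial.X 1)))
      (∃ (M : Matrix (Fin 2) (Fin 2) k) (c : k), IsUnit M.det ∧ c ≠ 0 ∧
        W4c6intromoduli.binForm la mu =
          MvPolynomial.C c * W4c6intromoduli.subst M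
            (MvPolynomial.X 0 ^ 2 * MvPolynomial.X 1 ^ 2)) := by
  have hnb : ¬ ((∃ (M : Matrix (Fin 2) (Fin 2) k) (c : k), IsUnit M.det ∧ c ≠ 0 ∧
        W4c6intromoduli.binForm la mu =
          MvPolynomial.C c * W4c6intromoduli.subst M
            (MvPolynomial.X 0 ^ 2 * MvPolynomial.X 1 * (MvPolynomial.X 0 - MvPolynomial.X 1))) ∧
      (∃ (M : Matrix (Fin 2) (Fin 2) k) (c : k), IsUnit M.det ∧ c ≠ 0 ∧
        W4c6intromoduli.binForm la mu =
          MvPolynomial.C c * W4c6intromoduli.subst M
            (MvPolynomial.X 0 ^ 2 * MvPolynomial.X 1 ^ 2))) := by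
    rintro ⟨⟨M1, c1, hM1, hc1, e1⟩, ⟨M2, c2, _, _, e2⟩⟩
    exact not_both M1 M2 c1 c2 hM1 hc1 (e1.symm.trans e2)
  -- find the proportional pair
  unfold W4c6intromoduli.disc at hd
  obtain ⟨⟨i, j⟩, hmem, hz⟩ := Finset.prod_eq_zero_iff.mp hd
  have hlt : i < j := (Finset.mem_filter.mp hmem).2
  have hij : i ≠ j := ne_of_lt hlt
  have hpij : la i * mu j = la j * mu i := by
    have := pow_eq_zero_iff (two_ne_zero) |>.mp hz
    simp only at this
    linear_combination -this
  obtain ⟨k', l, hkl, hki, hkj, hli, hlj, hu⟩ := idx i j hij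
  have hform := binForm_eq la mu i j k' l hij hkl hki hkj hli hlj hu
  have njk : ¬ (la j * mu k' = la k' * mu j) := fun h =>
    h3z i j k' hij (Ne.symm hkj) (Ne.symm hki) ⟨hpij, h⟩
  have njl : ¬ (la j * mu l = la l * mu j) := fun h =>
    h3z i j l hij (Ne.symm hlj) (Ne.symm hli) ⟨hpij, h⟩
  have nik : ¬ (la i * mu k' = la k' * mu i) := fun h =>
    h3z j i k' (Ne.symm hij) (Ne.symm hki) (Ne.symm hkj) ⟨hpij.symm, h⟩
  have nil : ¬ (la i * mu l = la l * mu i) := fun h =>
    h3z j i l (Ne.symm hij) (Ne.symm hli) (Ne.symm hlj) ⟨hpij.symm, h⟩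
  obtain ⟨t, ht0, htla, htmu⟩ := prop_scalar (la i) (mu i) (la j) (mu j) hpij (hne i) (hne j)
  have hellj := ell_scalar la mu i j t htla htmu
  by_cases hpkl : la k' * mu l = la l * mu k'
  · -- type (2,2)
    obtain ⟨t', ht'0, htla', htmu'⟩ :=
      prop_scalar (la k') (mu k') (la l) (mu l) hpkl (hne k') (hne l)
    have helll := ell_scalar la mu k' l t' htla' htmu'
    have hsecond : ∃ (M : Matrix (Fin 2) (Fin 2) k) (c : k), IsUnit M.det ∧ c ≠ 0 ∧
        W4c6intromoduli.binForm la mu =
          MvPolynomial.C c * W4c6intromoduli.subst M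
            (MvPolynomial.X 0 ^ 2 * MvPolynomial.X 1 ^ 2) := by
      refine ⟨!![mu i, -la i; mu k', -la k'], t * t', ?_, mul_ne_zero ht0 ht'0, ?_⟩
      · rw [Matrix.det_fin_two_of, isUnit_iff_ne_zero]
        intro h
        apply nik
        linear_combination h
      · rw [hform, hellj, helll, subst_B]
        simp only [ell, Matrix.of_apply, Matrix.cons_val', Matrix.cons_val_zero,
          Matrix.cons_val_one, Matrix.empty_val', Matrix.cons_val_fin_one, C_neg, C_mul]
        ring
    exact Or.inr ⟨hsecond, fun hfirst => hnb ⟨hfirst, hsecond⟩⟩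
  · -- type (2,1,1)
    obtain ⟨Δ, hΔ⟩ : ∃ Δ, Δ = mu k' * la l - mu l * la k' := ⟨_, rfl⟩
    have hΔ0 : Δ ≠ 0 := by
      intro h
      apply hpkl
      rw [hΔ] at h
      linear_combination -h
    obtain ⟨α, hα⟩ : ∃ α, α = (mu i * la l - mu l * la i) / Δ := ⟨_, rfl⟩
    obtain ⟨β, hβ⟩ : ∃ β, β = (mu k' * la i - mu i * la k') / Δ := ⟨_, rfl⟩
    have hα0 : α ≠ 0 := by
      rw [hα]
      apply div_ne_zero _ hΔ0
      intro h
      apply nil
      linear_combination -h
    have hβ0 : β ≠ 0 := by
      rw [hβ]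
      apply div_ne_zero _ hΔ0
      intro h
      apply nik
      linear_combination h
    have e1 : mu i - α * mu k' = β * mu l := by
      rw [hα, hβ]; field_simp; rw [hΔ]; ring
    have e2 : la i - α * la k' = β * la l := by
      rw [hα, hβ]; field_simp; rw [hΔ]; ring
    have hdiff : ell la mu i - C α * ell la mu k' = C β * ell la mu l := by
      have : ell la mu i - C α * ell la mu k' =
          C (mu i - α * mu k') * X 0 - C (la i - α * la k') * X 1 := by
        simp only [ell, C_sub, C_mul]; ring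
      rw [this, e1, e2]
      simp only [ell, C_mul]; ring
    have hfirst : ∃ (M : Matrix (Fin 2) (Fin 2) k) (c : k), IsUnit M.det ∧ c ≠ 0 ∧
        W4c6intromoduli.binForm la mu =
          MvPolynomial.C c * W4c6intromoduli.subst M
            (MvPolynomial.X 0 ^ 2 * MvPolynomial.X 1 * (MvPolynomial.X 0 - MvPolynomial.X 1)) := by
      refine ⟨!![mu i, -la i; α * mu k', -(α * la k')], t / (α * β), ?_,
        div_ne_zero ht0 (mul_ne_zero hα0 hβ0), ?_⟩
      · rw [Matrix.det_fin_two_of, isUnit_iff_ne_zero]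
        intro h
        apply nik
        have h' : α * (la i * mu k' - la k' * mu i) = 0 := by linear_combination h
        rcases mul_eq_zero.mp h' with h'' | h''
        · exact absurd h'' hα0
        · linear_combination h''
      · have hm0 : C (mu i) * X 0 + C (-la i) * X 1 = ell la mu i := by
          simp only [ell, C_neg]; ring
        have hm1 : C (α * mu k') * X 0 + C (-(α * la k')) * X 1 = C α * ell la mu k' := by
          simp only [ell, C_neg, C_mul]; ring
        rw [hform, hellj, subst_A]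
        simp only [Matrix.of_apply, Matrix.cons_val', Matrix.cons_val_zero,
          Matrix.cons_val_one, Matrix.empty_val', Matrix.cons_val_fin_one]
        rw [hm0, hm1, hdiff]
        have hc : C (t / (α * β)) * C α * C β = (C t : MvPolynomial (Fin 2) k) := by
          rw [← C_mul, ← C_mul]
          congr 1
          field_simp
        calc ell la mu i * (C t * ell la mu i) * ell la mu k' * ell la mu l
            = C t * (ell la mu i ^ 2 * ell la mu k' * ell la mu l) := by ring
          _ = (C (t / (α * β)) * C α * C β) * (ell la mu i ^ 2 * ell la mu k' * ell la mu l) := by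
              rw [hc]
          _ = _ := by ring
    exact Or.inl ⟨hfirst, fun hsecond => hnb ⟨hfirst, hsecond⟩⟩


end


/-- For the special fibre of the invariant map, over a field in which 2 and 3 are nonzero, consider a
split binary quartic f = ∏_i (μ_i X₀ − λ_i X₁) given by four root points (λ_i, μ_i) ≠ (0, 0), with a
double zero (vanishing discriminant ∏_{i<j} (λ_j μ_i − λ_i μ_j)²) and no triple zero (no three root
points pairwise proportional); these are the forms of the fibre over the special point P³/Q² = 6 of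
the invariant map. Then exactly one of the two alternatives holds: f is a nonzero constant times the
form X₀² X₁ (X₀ − X₁) after an invertible linear substitution of the variables, or f is a nonzero
constant times X₀² X₁² after such a substitution. So this fibre consists of exactly two classes
under substitutions and scalars (one double zero and two simple zeros; two double zeros). (The
dimensions of the two orbits and which of them is open or closed in the fibre are not part of this
row; stated for split forms over any such field.) -/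
theorem result (k : Type u) [Field k]
    (h2 : (2 : k) ≠ 0) (h3 : (3 : k) ≠ 0) (la mu : Fin 4 → k)
    (hne : ∀ i, la i ≠ 0 ∨ mu i ≠ 0) (hd : W4c6intromoduli.disc la mu = 0)
    (h3z : ∀ i j l : Fin 4, i ≠ j → j ≠ l → i ≠ l →
      ¬ (la i * mu j = la j * mu i ∧ la j * mu l = la l * mu j)) :
    Xor
      (∃ (M : Matrix (Fin 2) (Fin 2) k) (c : k), IsUnit M.det ∧ c ≠ 0 ∧
        W4c6intromoduli.binForm la mu =
          MvPolynomial.C c * W4c6intromoduli.subst M
            (MvPolynomial.X 0 ^ 2 * MvPolynomial.X 1 * (MvPolynomial.X 0 - MvPolynomial.X 1)))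
      (∃ (M : Matrix (Fin 2) (Fin 2) k) (c : k), IsUnit M.det ∧ c ≠ 0 ∧
        W4c6intromoduli.binForm la mu =
          MvPolynomial.C c * W4c6intromoduli.subst M
            (MvPolynomial.X 0 ^ 2 * MvPolynomial.X 1 ^ 2)) := by
  classical
  exact main k h2 h3 la mu hne hd h3z

end Groth.Agent.S20025
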