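import Groth.Statements.S2008
import Mathlib

set_option autoImplicit false
universe u
open TensorProduct
open EtAlg

namespace Groth.Agent.S2008

section
open TensorProduct
variable (R S : Type u) [CommRing R] [CommRing S] [Algebra R S] (I : Ideal R)

/-- condition C -/
def CondC : Prop := ∀ m : Ideal R, m.IsMaximal → I ≤ m → m.map (algebraMap R S) ≠ ⊤

theorem flat_quot [Module.Flat R S] : Module.Flat (R ⧸ I) (S ⧸ I.map (algebraMap R S)) :=
  Module.Flat.of_linearEquiv
    (Algebra.TensorProduct.quotIdealMapEquivQuotTensor S I).toLinearEquiv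

theorem condC_of_surj
    (h : Function.Surjective (PrimeSpectrum.comap (algebraMap (R ⧸ I) (S ⧸ I.map (algebraMap R S))))) :
    CondC R S I := by
  intro m hm hIm
  have hmbar : (m.map (Ideal.Quotient.mk I)).IsMaximal := by
    have := hm
    apply Ideal.IsMaximal.map_of_surjective_of_ker_le Ideal.Quotient.mk_surjective
    rw [Ideal.mk_ker]; exact hIm
  have hmbar' : (m.map (Ideal.Quotient.mk I)).IsPrime := hmbar.isPrime
  obtain ⟨q, hq⟩ := h ⟨m.map (Ideal.Quotient.mk I), hmbar'⟩
  have hq' : q.asIdeal.comap (algebraMap (R ⧸ I) (S ⧸ I.map (algebraMap R S))) = m.map (Ideal.Quotient.mk I) :=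
    congrArg PrimeSpectrum.asIdeal hq
  intro htop
  have h1 : (1 : S ⧸ I.map (algebraMap R S)) ∈ q.asIdeal := by
    have : m.map (algebraMap R S) ≤ q.asIdeal.comap (Ideal.Quotient.mk (I.map (algebraMap R S))) := by
      rw [Ideal.map_le_iff_le_comap]
      intro r hr
      have : Ideal.Quotient.mk I r ∈ q.asIdeal.comap (algebraMap (R ⧸ I) (S ⧸ I.map (algebraMap R S))) := by
        rw [hq']; exact Ideal.mem_map_of_mem _ hr
      exact this
    rw [htop] at this
    have h1 := this (Submodule.mem_top : (1 : S) ∈ ⊤)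
    simpa using h1
  exact q.isPrime.ne_top ((Ideal.eq_top_iff_one _).mpr h1)

theorem ff_of_condC [Module.Flat R S] (hC : CondC R S I) :
    Module.FaithfullyFlat (R ⧸ I) (S ⧸ I.map (algebraMap R S)) := by
  have := flat_quot R S I
  refine ⟨?_⟩
  intro mbar hmbar htop
  let m : Ideal R := mbar.comap (Ideal.Quotient.mk I)
  have hm : m.IsMaximal := Ideal.comap_isMaximal_of_surjective _ Ideal.Quotient.mk_surjective
  have hIm : I ≤ m := by
    intro x hx
    show Ideal.Quotient.mk I x ∈ mbar
    rw [(Ideal.Quotient.eq_zero_iff_mem (I := I)).mpr hx]; exact zero_mem _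
  apply hC m hm hIm
  rw [Ideal.smul_top_eq_map] at htop
  have htop' : mbar.map (algebraMap (R ⧸ I) (S ⧸ I.map (algebraMap R S))) = ⊤ := by
    rw [← Submodule.restrictScalars_eq_top_iff (R ⧸ I)]; exact htop
  have hle : mbar.map (algebraMap (R ⧸ I) (S ⧸ I.map (algebraMap R S))) ≤
      (m.map (algebraMap R S)).map (Ideal.Quotient.mk (I.map (algebraMap R S))) := by
    rw [Ideal.map_le_iff_le_comap]
    intro x hx
    obtain ⟨r, rfl⟩ := Ideal.Quotient.mk_surjective x
    have hr : r ∈ m := hx
    show Ideal.Quotient.mk (I.map (algebraMap R S)) (algebraMap R S r) ∈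
      (m.map (algebraMap R S)).map (Ideal.Quotient.mk (I.map (algebraMap R S)))
    exact Ideal.mem_map_of_mem _ (Ideal.mem_map_of_mem _ hr)
  rw [htop', top_le_iff] at hle
  have h1 : (1 : S ⧸ I.map (algebraMap R S)) ∈ (m.map (algebraMap R S)).map (Ideal.Quotient.mk (I.map (algebraMap R S))) := by
    rw [hle]; trivial
  rw [Ideal.mem_map_iff_of_surjective _ Ideal.Quotient.mk_surjective] at h1
  obtain ⟨s, hs, hs1⟩ := h1
  have : s - 1 ∈ I.map (algebraMap R S) := by
    rw [← Ideal.Quotient.eq_zero_iff_mem, map_sub, hs1, map_one, sub_self]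
  have h2 : s - 1 ∈ m.map (algebraMap R S) := Ideal.map_mono hIm this
  rw [Ideal.eq_top_iff_one]
  have : (1 : S) = s - (s - 1) := by ring
  rw [this]
  exact Ideal.sub_mem _ hs h2

theorem condC_of_three
    (h3 : ∀ (M : Type u) [AddCommGroup M] [Module R M], (∀ (a : R) (m : M), a ∈ I → a • m = 0) →
        Nontrivial M → Nontrivial (S ⊗[R] M)) : CondC R S I := by
  intro m hm hIm htop
  have hnt : Nontrivial (R ⧸ m) := Ideal.Quotient.nontrivial_iff.mpr hm.ne_top
  have := h3 (R ⧸ m) (by
    intro a x ha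
    obtain ⟨r, rfl⟩ := Ideal.Quotient.mk_surjective x
    rw [← Ideal.Quotient.mk_eq_mk, ← Submodule.Quotient.mk_smul, Submodule.Quotient.mk_eq_zero]
    exact Ideal.mul_mem_right _ _ (hIm ha)) hnt
  have e := (Algebra.TensorProduct.quotIdealMapEquivTensorQuot S m).toLinearEquiv
  have hsub : Subsingleton (S ⧸ m.map (algebraMap R S)) := by
    rw [htop]; exact Ideal.Quotient.subsingleton_iff.mpr rfl
  have : Subsingleton (S ⊗[R] (R ⧸ m)) := e.symm.toEquiv.subsingleton
  exact not_subsingleton _ this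

theorem four_of_condC [Module.Flat R S] (hC : CondC R S I)
    (M : Type u) [AddCommGroup M] [Module R M] (hM : ∀ m : M, ∃ n : ℕ, ∀ a ∈ I ^ n, a • m = 0)
    (hnt : Nontrivial M) : Nontrivial (S ⊗[R] M) := by
  obtain ⟨x, hx⟩ := exists_ne (0 : M)
  obtain ⟨n, hn⟩ := hM x
  let J : Ideal R := LinearMap.ker (LinearMap.toSpanSingleton R M x)
  have hJ : J ≠ ⊤ := by
    intro h
    have : (1 : R) ∈ J := by rw [h]; trivial
    rw [LinearMap.mem_ker, LinearMap.toSpanSingleton_apply, one_smul] at this
    exact hx this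
  obtain ⟨m, hm, hJm⟩ := Ideal.exists_le_maximal J hJ
  have hIn : I ^ n ≤ J := by
    intro a ha
    rw [LinearMap.mem_ker, LinearMap.toSpanSingleton_apply]
    exact hn a ha
  have hIm : I ≤ m := hm.isPrime.le_of_pow_le (hIn.trans hJm)
  have hmS := hC m hm hIm
  have hJS : J.map (algebraMap R S) ≠ ⊤ := by
    intro h
    apply hmS
    rw [eq_top_iff, ← h]
    exact Ideal.map_mono hJm
  have hnt1 : Nontrivial (S ⧸ J.map (algebraMap R S)) := Ideal.Quotient.nontrivial_iff.mpr hJS
  have e := (Algebra.TensorProduct.quotIdealMapEquivTensorQuot S J).toLinearEquiv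
  have hnt2 : Nontrivial (S ⊗[R] (R ⧸ J)) := e.toEquiv.symm.nontrivial
  let g : (R ⧸ J) →ₗ[R] M := Submodule.liftQ J (LinearMap.toSpanSingleton R M x) le_rfl
  have hg : Function.Injective g := by
    rw [← LinearMap.ker_eq_bot]
    exact Submodule.ker_liftQ_eq_bot _ _ _ le_rfl
  have hinj := Module.Flat.lTensor_preserves_injective_linearMap (M := S) g hg
  exact hinj.nontrivial

theorem main :
    List.TFAE [
      Module.Flat R S ∧ Module.FaithfullyFlat (R ⧸ I) (S ⧸ I.map (algebraMap R S)),
      Module.Flat R S ∧ Function.Surjective (PrimeSpectrum.comap (Ideal.quotientMap (I.map (algebraMap R S)) (algebraMap R S) Ideal.le_comap_map)),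
      Module.Flat R S ∧ ∀ (M : Type u) [AddCommGroup M] [Module R M], (∀ (a : R) (m : M), a ∈ I → a • m = 0) →
        Nontrivial M → Nontrivial (S ⊗[R] M),
      Module.Flat R S ∧ ∀ (M : Type u) [AddCommGroup M] [Module R M], (∀ m : M, ∃ n : ℕ, ∀ a ∈ I ^ n, a • m = 0) →
        Nontrivial M → Nontrivial (S ⊗[R] M)] := by
  tfae_have 1 → 2 := by
    rintro ⟨hfl, hff⟩
    exact ⟨hfl, PrimeSpectrum.comap_surjective_of_faithfullyFlat (A := R ⧸ I) (B := S ⧸ I.map (algebraMap R S))⟩
  tfae_have 2 → 4 := by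
    rintro ⟨hfl, hs⟩
    refine ⟨hfl, ?_⟩
    intro M _ _ hM hnt
    exact four_of_condC R S I (condC_of_surj R S I hs) M hM hnt
  tfae_have 4 → 3 := by
    rintro ⟨hfl, h4⟩
    refine ⟨hfl, ?_⟩
    intro M _ _ hM hnt
    apply h4 M _ hnt
    intro m
    exact ⟨1, fun a ha => hM a m (by simpa using ha)⟩
  tfae_have 3 → 1 := by
    rintro ⟨hfl, h3⟩
    exact ⟨hfl, ff_of_condC R S I (condC_of_three R S I h3)⟩
  tfae_finish

end


/-- For a ring map R -> S and an ideal I of R the following are equivalent: (1) S is flat over R and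
S/IS is faithfully flat over R/I; (2) S is flat over R and Spec(S/IS) -> Spec(R/I) is surjective;
(3) S is flat over R and S ⊗_R M is nonzero for every nonzero R-module M killed by I; (4) S is flat
over R and S ⊗_R M is nonzero for every nonzero I-power torsion R-module M. (Faithfulness of base
change on these subcategories is stated as detection of nonzero objects, which is equivalent for an
exact functor.) -/
theorem result (R S : Type u) [CommRing R] [CommRing S] [Algebra R S] (I : Ideal R) :
    List.TFAE [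
      Module.Flat R S ∧ Module.FaithfullyFlat (R ⧸ I) (S ⧸ I.map (algebraMap R S)),
      Module.Flat R S ∧ Function.Surjective (PrimeSpectrum.comap (Ideal.quotientMap (I.map (algebraMap R S)) (algebraMap R S) Ideal.le_comap_map)),
      Module.Flat R S ∧ ∀ (M : Type u) [AddCommGroup M] [Module R M], (∀ (a : R) (m : M), a ∈ I → a • m = 0) →
        Nontrivial M → Nontrivial (S ⊗[R] M),
      Module.Flat R S ∧ ∀ (M : Type u) [AddCommGroup M] [Module R M], (∀ m : M, ∃ n : ℕ, ∀ a ∈ I ^ n, a • m = 0) →
        Nontrivial M → Nontrivial (S ⊗[R] M)] := by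
  classical
  exact main R S I

end Groth.Agent.S2008
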