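import Groth.Statements.S2113
import Mathlib

set_option autoImplicit false
universe u
open CAlg

namespace Groth.Agent.S2113

section
variable {R : Type u} [CommRing R] [IsNoetherianRing R]

theorem no_prime_between (P : Ideal R) [P.IsPrime] (y : R) (q m : Ideal R)
    (hq : q ∈ (P ⊔ Ideal.span {y}).minimalPrimes) [m.IsPrime] (hPm : P < m) (hmq : m ≤ q) : m = q := by
  by_contra hne
  have hlt : m < q := lt_of_le_of_ne hmq hne
  have hq' : q.IsPrime := hq.1.1
  have h1 := Ideal.map_height_le_one_of_mem_minimalPrimes hq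
  have hkerm : RingHom.ker (Ideal.Quotient.mk P) ≤ m := by rw [Ideal.mk_ker]; exact hPm.le
  have hkerq : RingHom.ker (Ideal.Quotient.mk P) ≤ q := hkerm.trans hmq
  have hm' : (m.map (Ideal.Quotient.mk P)).IsPrime :=
    Ideal.map_isPrime_of_surjective Ideal.Quotient.mk_surjective hkerm
  have hq'' : (q.map (Ideal.Quotient.mk P)).IsPrime :=
    Ideal.map_isPrime_of_surjective Ideal.Quotient.mk_surjective hkerq
  have cm : (m.map (Ideal.Quotient.mk P)).comap (Ideal.Quotient.mk P) = m := by
    rw [Ideal.comap_map_of_surjective _ Ideal.Quotient.mk_surjective, ← RingHom.ker_eq_comap_bot]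
    exact sup_eq_left.2 hkerm
  have cq : (q.map (Ideal.Quotient.mk P)).comap (Ideal.Quotient.mk P) = q := by
    rw [Ideal.comap_map_of_surjective _ Ideal.Quotient.mk_surjective, ← RingHom.ker_eq_comap_bot]
    exact sup_eq_left.2 hkerq
  have hlt1 : (⊥ : Ideal (R ⧸ P)) < m.map (Ideal.Quotient.mk P) := by
    refine lt_of_le_of_ne bot_le ?_
    intro h0
    have : m ≤ P := by
      rw [← cm, ← h0, ← RingHom.ker_eq_comap_bot, Ideal.mk_ker]
    exact absurd (lt_of_lt_of_le hPm this) (lt_irrefl _)
  have hlt2 : m.map (Ideal.Quotient.mk P) < q.map (Ideal.Quotient.mk P) := by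
    refine lt_of_le_of_ne (Ideal.map_mono hmq) ?_
    intro h0
    apply hne
    rw [← cm, ← cq, h0]
  have hbot : (⊥ : Ideal (R ⧸ P)).IsPrime := Ideal.isPrime_bot
  have a1 := Ideal.height_strict_mono_of_isPrime_of_isPrime hlt1
  have a2 := Ideal.height_strict_mono_of_isPrime_of_isPrime hlt2
  have a3 : (m.map (Ideal.Quotient.mk P)).height < 1 := lt_of_lt_of_le a2 h1
  rw [Order.lt_one_iff] at a3
  rw [a3] at a1
  exact absurd a1 (not_lt_zero)

end

/-- A Noetherian ring in which each prime is maximal or else lies below infinitely many primes is a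
Jacobson ring. -/
theorem result {R : Type u} [CommRing R] [IsNoetherianRing R]
    (h : ∀ (p : Ideal R) [p.IsPrime], p.IsMaximal ∨ {q : PrimeSpectrum R | p ≤ q.asIdeal}.Infinite) :
    IsJacobsonRing R := by
  classical
  rw [isJacobsonRing_iff_prime_eq]
  intro P
  induction P using WellFoundedGT.induction with
  | ind P ih =>
  intro hP
  rcases h P with hmax | hinf
  · exact Ideal.jacobson_eq_self_of_isMaximal
  · by_contra hne
    have hlt : P < P.jacobson := lt_of_le_of_ne Ideal.le_jacobson (Ne.symm hne)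
    obtain ⟨x, hxJ, hxP⟩ := SetLike.exists_of_lt hlt
    have hx : ∀ Q : Ideal R, Q.IsPrime → P < Q → x ∈ Q := by
      intro Q hQ hPQ
      rw [← ih Q hPQ hQ]
      exact Ideal.jacobson_mono hPQ.le hxJ
    have hfin : (P ⊔ Ideal.span {x}).minimalPrimes.Finite :=
      Ideal.finite_minimalPrimes_of_isNoetherianRing R _
    have claim : ∀ Q : Ideal R, Q.IsPrime → P < Q → Q ∈ (P ⊔ Ideal.span {x}).minimalPrimes := by
      intro Q hQ hPQ
      have hJQ : P ⊔ Ideal.span {x} ≤ Q :=
        sup_le hPQ.le ((Ideal.span_singleton_le_iff_mem _).2 (hx Q hQ hPQ))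
      obtain ⟨m, hm, hmQ⟩ := Ideal.exists_minimalPrimes_le hJQ
      by_contra hQm
      have hnot : ¬ ((Q : Set R) ⊆ ⋃ i ∈ (hfin.toFinset : Set (Ideal R)), ((id i : Ideal R) : Set R)) := by
        intro hsub
        obtain ⟨m', hm's, hQm'⟩ := (Ideal.subset_union_prime (f := id) m m
          (fun i hi _ _ => (hfin.mem_toFinset.1 hi).1.1)).1 hsub
        have hm' := hfin.mem_toFinset.1 hm's
        have h1 : m' ≤ m := hm'.2 hm.1 (hmQ.trans hQm')
        have : Q = m' := le_antisymm hQm' (h1.trans hmQ)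
        exact hQm (this ▸ hm')
      obtain ⟨y, hyQ, hynot⟩ := Set.not_subset.1 hnot
      have hy : ∀ m' ∈ (P ⊔ Ideal.span {x}).minimalPrimes, y ∉ m' := by
        intro m' hm' hym'
        apply hynot
        simp only [Set.mem_iUnion]
        exact ⟨m', by simpa using hm', hym'⟩
      have hJ'Q : P ⊔ Ideal.span {y} ≤ Q := sup_le hPQ.le ((Ideal.span_singleton_le_iff_mem _).2 hyQ)
      obtain ⟨q', hq', hq'Q⟩ := Ideal.exists_minimalPrimes_le hJ'Q
      have hq'prime : q'.IsPrime := hq'.1.1
      have hyq' : y ∈ q' := hq'.1.2 (Ideal.mem_sup_right (Ideal.mem_span_singleton_self y))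
      have hPm : P ≤ m := le_sup_left.trans hm.1.2
      have hyP : y ∉ P := fun hyP => hy m hm (hPm hyP)
      have hPq' : P < q' := by
        refine lt_of_le_of_ne (le_sup_left.trans hq'.1.2) ?_
        intro h0
        exact hyP (h0 ▸ hyq')
      have hxq' : x ∈ q' := hx q' hq'prime hPq'
      have hJq' : P ⊔ Ideal.span {x} ≤ q' := sup_le hPq'.le ((Ideal.span_singleton_le_iff_mem _).2 hxq')
      obtain ⟨m'', hm'', hm''q'⟩ := Ideal.exists_minimalPrimes_le hJq'
      have hm''prime : m''.IsPrime := hm''.1.1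
      have hxm'' : x ∈ m'' := hm''.1.2 (Ideal.mem_sup_right (Ideal.mem_span_singleton_self x))
      have hPm'' : P < m'' := by
        refine lt_of_le_of_ne (le_sup_left.trans hm''.1.2) ?_
        intro h0
        exact hxP (h0 ▸ hxm'')
      have := no_prime_between P y q' m'' hq' hPm'' hm''q'
      exact hy m'' hm'' (this ▸ hyq')
    apply hinf
    have hsub : {q : PrimeSpectrum R | P ≤ q.asIdeal} ⊆
        {⟨P, hP⟩} ∪ (PrimeSpectrum.asIdeal ⁻¹' (P ⊔ Ideal.span {x}).minimalPrimes) := by
      intro q hq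
      by_cases hqP : q.asIdeal = P
      · left
        exact PrimeSpectrum.ext hqP
      · right
        exact claim q.asIdeal q.2 (lt_of_le_of_ne hq (Ne.symm hqP))
    refine Set.Finite.subset ?_ hsub
    refine (Set.finite_singleton _).union ?_
    exact hfin.preimage (fun a _ b _ hab => PrimeSpectrum.ext hab)

end Groth.Agent.S2113
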