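import Groth.Statements.S2011
import Mathlib
import Groth.Agent.S2113

set_option autoImplicit false
universe u
open EtAlg

namespace Groth.Agent.S2011

section
variable {A : Type u} [CommRing A] [IsNoetherianRing A]

open Groth.Agent.S2113 in
theorem infinite_between (p q m : Ideal A) [p.IsPrime] [q.IsPrime] [m.IsPrime] (hpq : p < q) (hqm : q < m)
    (f : A) (hfm : f ∈ m) (hfq : f ∉ q) :
    ¬ {q' : Ideal A | q'.IsPrime ∧ p ≤ q' ∧ f ∉ q'}.Finite := by
  intro hfin
  have hfp : f ∉ p := fun h => hfq (hpq.le h)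
  have hT : (p ⊔ Ideal.span {f}).minimalPrimes.Finite := Ideal.finite_minimalPrimes_of_isNoetherianRing A _
  -- the finite family
  have hFfin : (({q' : Ideal A | q'.IsPrime ∧ p ≤ q' ∧ f ∉ q'} \ {p}) ∪ (p ⊔ Ideal.span {f}).minimalPrimes).Finite :=
    (hfin.subset Set.sdiff_subset).union hT
  have hFprime : ∀ i ∈ hFfin.toFinset, (i : Ideal A).IsPrime := by
    intro i hi
    rcases (hFfin.mem_toFinset.1 hi) with h | h
    · exact h.1.1
    · exact h.1.1
  have hnot : ¬ ((m : Set A) ⊆ ⋃ i ∈ (hFfin.toFinset : Set (Ideal A)), ((id i : Ideal A) : Set A)) := by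
    intro hsub
    obtain ⟨t, hts, hmt⟩ := (Ideal.subset_union_prime (f := id) m m
      (fun i hi _ _ => hFprime i hi)).1 hsub
    rcases (hFfin.mem_toFinset.1 hts) with h | h
    · exact h.1.2.2 (hmt hfm)
    · have hft : f ∈ t := h.1.2 (Ideal.mem_sup_right (Ideal.mem_span_singleton_self f))
      have := no_prime_between p f t q h hpq (hqm.le.trans hmt)
      exact hfq (this ▸ hft)
  obtain ⟨y, hym, hynot⟩ := Set.not_subset.1 hnot
  have hy : ∀ t ∈ (({q' : Ideal A | q'.IsPrime ∧ p ≤ q' ∧ f ∉ q'} \ {p}) ∪ (p ⊔ Ideal.span {f}).minimalPrimes),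
      y ∉ t := by
    intro t ht hyt
    apply hynot
    simp only [Set.mem_iUnion]
    exact ⟨t, by simpa using ht, hyt⟩
  have hqF : q ∈ (({q' : Ideal A | q'.IsPrime ∧ p ≤ q' ∧ f ∉ q'} \ {p}) ∪ (p ⊔ Ideal.span {f}).minimalPrimes) := by
    left
    exact ⟨⟨inferInstance, hpq.le, hfq⟩, fun h => (ne_of_gt hpq) h⟩
  have hyp : y ∉ p := fun h => hy q hqF (hpq.le h)
  have hJm : p ⊔ Ideal.span {y} ≤ m :=
    sup_le (hpq.le.trans hqm.le) ((Ideal.span_singleton_le_iff_mem _).2 hym)
  obtain ⟨q', hq', hq'm⟩ := Ideal.exists_minimalPrimes_le hJm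
  have hq'prime : q'.IsPrime := hq'.1.1
  have hyq' : y ∈ q' := hq'.1.2 (Ideal.mem_sup_right (Ideal.mem_span_singleton_self y))
  have hpq' : p ≤ q' := le_sup_left.trans hq'.1.2
  have hfq' : f ∉ q' := by
    intro hfq'
    have hJq' : p ⊔ Ideal.span {f} ≤ q' := sup_le hpq' ((Ideal.span_singleton_le_iff_mem _).2 hfq')
    obtain ⟨t, ht, htq'⟩ := Ideal.exists_minimalPrimes_le hJq'
    have htprime : t.IsPrime := ht.1.1
    have hft : f ∈ t := ht.1.2 (Ideal.mem_sup_right (Ideal.mem_span_singleton_self f))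
    have hpt : p < t := by
      refine lt_of_le_of_ne (le_sup_left.trans ht.1.2) ?_
      intro h0
      exact hfp (h0 ▸ hft)
    have := no_prime_between p y q' t hq' hpt htq'
    exact hy t (Or.inr ht) (this ▸ hyq')
  have hq'F : q' ∈ (({q' : Ideal A | q'.IsPrime ∧ p ≤ q' ∧ f ∉ q'} \ {p}) ∪ (p ⊔ Ideal.span {f}).minimalPrimes) := by
    left
    refine ⟨⟨hq'prime, hpq', hfq'⟩, ?_⟩
    intro h0
    exact hyp ((Set.mem_singleton_iff.1 h0) ▸ hyq')
  exact hy q' hq'F hyq'

end

/-- Let A be a Noetherian ring and I an ideal contained in the Jacobson radical of A (a Zariski pair).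
Then for every f in I the localization A_f is a Jacobson ring. -/
theorem result (A : Type u) [CommRing A] [IsNoetherianRing A] (I : Ideal A)
    (hI : I ≤ (⊥ : Ideal A).jacobson) (f : A) (hf : f ∈ I) : IsJacobsonRing (Localization.Away f) := by
  classical
  have hnoeth : IsNoetherianRing (Localization.Away f) :=
    IsLocalization.isNoetherianRing (Submonoid.powers f) _ inferInstance
  apply Groth.Agent.S2113.result
  intro P' hP'
  by_cases hmax : P'.IsMaximal
  · exact Or.inl hmax
  right
  obtain ⟨N', hN'max, hPN'⟩ := Ideal.exists_le_maximal P' hP'.ne_top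
  have hne : P' ≠ N' := fun h => hmax (h ▸ hN'max)
  have hN'prime : N'.IsPrime := hN'max.isPrime
  -- contractions
  have hp := (IsLocalization.isPrime_iff_isPrime_disjoint (Submonoid.powers f) (Localization.Away f) P').1 hP'
  have hq := (IsLocalization.isPrime_iff_isPrime_disjoint (Submonoid.powers f) (Localization.Away f) N').1 hN'prime
  have hpprime : (P'.under A).IsPrime := hp.1
  have hqprime : (N'.under A).IsPrime := hq.1
  have hfq : f ∉ N'.under A := (Ideal.disjoint_powers_iff_notMem_of_isPrime f).1 hq.2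
  have hpq : P'.under A < N'.under A := by
    refine lt_of_le_of_ne (Ideal.comap_mono hPN') ?_
    intro h0
    apply hne
    rw [← IsLocalization.map_under (Submonoid.powers f) (Localization.Away f) P',
      ← IsLocalization.map_under (Submonoid.powers f) (Localization.Away f) N', h0]
  obtain ⟨m, hmmax, hqm⟩ := Ideal.exists_le_maximal (N'.under A) hqprime.ne_top
  have hfm : f ∈ m := by
    have h1 : f ∈ (⊥ : Ideal A).jacobson := hI hf
    rw [Ideal.jacobson, Ideal.mem_sInf] at h1
    exact h1 ⟨bot_le, hmmax⟩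
  have hqm' : N'.under A < m := by
    refine lt_of_le_of_ne hqm ?_
    intro h0
    exact hfq (h0 ▸ hfm)
  have hmprime : m.IsPrime := hmmax.isPrime
  have hinf := infinite_between (P'.under A) (N'.under A) m hpq hqm' f hfm hfq
  intro hfinS
  apply hinf
  refine (hfinS.image (fun Q' : PrimeSpectrum (Localization.Away f) => Q'.asIdeal.under A)).subset ?_
  intro q' hq'
  obtain ⟨hq'prime, hpq', hfq'⟩ := hq'
  have hdisj : Disjoint (Submonoid.powers f : Set A) q' := (Ideal.disjoint_powers_iff_notMem_of_isPrime f).2 hfq'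
  refine ⟨⟨q'.map (algebraMap A (Localization.Away f)),
    IsLocalization.isPrime_of_isPrime_disjoint (Submonoid.powers f) _ q' hq'prime hdisj⟩, ?_, ?_⟩
  · show P' ≤ q'.map (algebraMap A (Localization.Away f))
    rw [← IsLocalization.map_under (Submonoid.powers f) (Localization.Away f) P']
    exact Ideal.map_mono hpq'
  · exact IsLocalization.under_map_of_isPrime_disjoint (Submonoid.powers f) _ hq'prime hdisj

end Groth.Agent.S2011
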