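import Groth.Statements.S2012
import Mathlib

set_option autoImplicit false
universe u
open EtAlg

namespace Groth.Agent.S2012

/-- Let A be a ring and I an ideal contained in its Jacobson radical. Let B be an A-algebra which is
flat, integral and of finite presentation over A and such that A/I -> B/IB is bijective. Then A -> B
is bijective. -/
theorem result (A B : Type u) [CommRing A] [CommRing B] [Algebra A B]
    (I : Ideal A) (hI : I ≤ (⊥ : Ideal A).jacobson) [Module.Flat A B] [Algebra.IsIntegral A B] [Algebra.FinitePresentation A B]
    (hq : Function.Bijective (Ideal.quotientMap (I.map (algebraMap A B)) (algebraMap A B) Ideal.le_comap_map)) :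
    Function.Bijective (algebraMap A B) := by
  classical
  haveI hfin : Module.Finite A B := Algebra.IsIntegral.finite
  haveI hfp : Module.FinitePresentation A B :=
    Module.FinitePresentation.of_finite_of_finitePresentation A B
  haveI hproj : Module.Projective A B := Module.Flat.projective_of_finitePresentation
  -- surjectivity by Nakayama
  have hsurj : Function.Surjective (algebraMap A B) := by
    have hle : (⊤ : Submodule A B) ≤ LinearMap.range (Algebra.linearMap A B) := by
      apply Submodule.le_of_le_smul_of_le_jacobson_bot (I := I) Module.Finite.fg_top hI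
      intro b _
      obtain ⟨q, hq'⟩ := hq.2 (Ideal.Quotient.mk _ b)
      obtain ⟨a, rfl⟩ := Ideal.Quotient.mk_surjective q
      rw [Ideal.quotientMap_mk, Ideal.Quotient.eq] at hq'
      have hmem : b - algebraMap A B a ∈ I • (⊤ : Submodule A B) := by
        rw [Ideal.smul_top_eq_map]
        have := (I.map (algebraMap A B)).neg_mem hq'
        rwa [neg_sub] at this
      have : b = algebraMap A B a + (b - algebraMap A B a) := by ring
      rw [this]
      exact Submodule.add_mem_sup ⟨a, rfl⟩ hmem
    intro b
    obtain ⟨a, ha⟩ := hle (Submodule.mem_top : b ∈ ⊤)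
    exact ⟨a, ha⟩
  refine ⟨?_, hsurj⟩
  -- injectivity via a splitting
  obtain ⟨s, hs⟩ := LinearMap.exists_rightInverse_of_surjective (Algebra.linearMap A B)
    (LinearMap.range_eq_top.mpr hsurj)
  have hs' : ∀ b, algebraMap A B (s b) = b := fun b => LinearMap.congr_fun hs b
  obtain ⟨e, he⟩ : ∃ e, e = s 1 := ⟨_, rfl⟩
  have hse : ∀ a : A, s (algebraMap A B a) = a * e := by
    intro a
    rw [Algebra.algebraMap_eq_smul_one, map_smul, smul_eq_mul, he]
  have hφe : algebraMap A B e = 1 := by rw [he]; exact hs' 1
  have hidem : e * e = e := by
    have := hse e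
    rw [hφe, ← he] at this
    exact this.symm
  -- 1 - e maps to zero, so lies in I, hence in the Jacobson radical
  have h1e : (1 - e) ∈ I := by
    have h0 : algebraMap A B (1 - e) = 0 := by rw [map_sub, map_one, hφe, sub_self]
    have h1 : Ideal.quotientMap (I.map (algebraMap A B)) (algebraMap A B) Ideal.le_comap_map
        (Ideal.Quotient.mk I (1 - e)) = 0 := by
      rw [Ideal.quotientMap_mk, h0, map_zero]
    have h2 := hq.1 (h1.trans (map_zero _).symm)
    exact Ideal.Quotient.eq_zero_iff_mem.mp h2
  have hjac : (1 - e) ∈ (⊥ : Ideal A).jacobson := hI h1e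
  have hunit : IsUnit e := by
    have := (Ideal.mem_jacobson_bot.mp hjac) (-1)
    have h3 : (1 - e) * (-1) + 1 = e := by ring
    rwa [h3] at this
  have he1 : e = 1 := by
    have : e * e = e * 1 := by rw [hidem, mul_one]
    exact hunit.mul_left_cancel this
  rw [injective_iff_map_eq_zero]
  intro a ha
  have := hse a
  rw [ha, map_zero, he1, mul_one] at this
  exact this.symm

end Groth.Agent.S2012
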