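import Groth.Statements.S2014
import Mathlib

set_option autoImplicit false
universe u
open EtAlg

namespace Groth.Agent.S2014



section
variable {R : Type u} [CommRing R] [IsNoetherianRing R] [IsLocalRing R]
  (x : R) (hx : x ∈ IsLocalRing.maximalIdeal R) (hmin : ∀ p ∈ minimalPrimes R, x ∉ p)
  {n : ℕ} (e : Fin n ≃ minimalPrimes R)

/-- the intersection of the first `j` minimal primes -/
noncomputable def II (j : ℕ) : Ideal R :=
  (Finset.univ.filter (fun i : Fin n => i.val < j)).inf (fun i => (e i).1)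

theorem II_anti {j k : ℕ} (h : j ≤ k) : II e k ≤ II e j := by
  unfold II
  apply Finset.inf_mono
  intro i hi
  simp only [Finset.mem_filter, Finset.mem_univ, true_and] at hi ⊢
  omega

theorem mem_II {j : ℕ} {a : R} : a ∈ II e j ↔ ∀ i : Fin n, i.val < j → a ∈ (e i).1 := by
  unfold II
  rw [Submodule.mem_finsetInf]
  simp

include hmin in
theorem mem_II_of_mul {j : ℕ} {r : R} (h : x * r ∈ II e j) : r ∈ II e j := by
  rw [mem_II] at h ⊢
  intro i hi
  have hp : (e i).1.IsPrime := (e i).2.1.1
  exact (hp.mem_or_mem (h i hi)).resolve_left (hmin _ (e i).2)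

theorem not_II_le {j : ℕ} (hj : j < n) : ¬ II e j ≤ II e (j + 1) := by
  intro hle
  have h1 : II e (j + 1) ≤ (e ⟨j, hj⟩).1 := by
    intro a ha
    rw [mem_II] at ha
    exact ha ⟨j, hj⟩ (by simp)
  have h2 : II e j ≤ (e ⟨j, hj⟩).1 := hle.trans h1
  have hp : (e ⟨j, hj⟩).1.IsPrime := (e ⟨j, hj⟩).2.1.1
  unfold II at h2
  rw [Ideal.IsPrime.inf_le' hp] at h2
  obtain ⟨i, hi, hle'⟩ := h2
  simp only [Finset.mem_filter, Finset.mem_univ, true_and] at hi
  have hmi : (e ⟨j, hj⟩).1 ≤ (e i).1 := (e ⟨j, hj⟩).2.2 (e i).2.1 hle'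
  have heq : e i = e ⟨j, hj⟩ := Subtype.ext (le_antisymm hle' hmi)
  have := e.injective heq
  rw [Fin.ext_iff] at this
  simp at this
  omega

/-- image in the quotient -/
noncomputable def JJ (j : ℕ) : Submodule R (R ⧸ Ideal.span {x}) :=
  Submodule.map (Ideal.span {x}).mkQ (II e j)

theorem JJ_anti {j k : ℕ} (h : j ≤ k) : JJ x e k ≤ JJ x e j :=
  Submodule.map_mono (II_anti e h)

include hx hmin in
theorem JJ_step {j : ℕ} (hj : j < n) : JJ x e (j + 1) < JJ x e j := by
  refine lt_of_le_of_ne (JJ_anti x e (Nat.le_succ j)) ?_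
  intro heq
  apply not_II_le e hj
  have hfg : (II e j : Submodule R R).FG := IsNoetherian.noetherian _
  have hjac : Ideal.span {x} ≤ Ideal.jacobson (⊥ : Ideal R) := by
    rw [IsLocalRing.jacobson_eq_maximalIdeal ⊥ bot_ne_top]
    rw [Ideal.span_le]
    intro y hy
    rw [Set.mem_singleton_iff] at hy
    rw [hy]; exact hx
  refine Submodule.le_of_le_smul_of_le_jacobson_bot (N := II e (j+1)) (N' := II e j) hfg hjac ?_
  intro a ha
  have h1 : (Ideal.span {x}).mkQ a ∈ JJ x e (j + 1) := by
    rw [heq]; exact Submodule.mem_map_of_mem ha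
  obtain ⟨b, hb, hba⟩ := h1
  have h2 : a - b ∈ Ideal.span {x} := by
    have : (Ideal.span {x}).mkQ (a - b) = 0 := by rw [map_sub, hba, sub_self]
    rw [Submodule.mkQ_apply, Submodule.Quotient.mk_eq_zero] at this
    exact this
  obtain ⟨r, hr⟩ := Ideal.mem_span_singleton'.1 h2
  have hr' : x * r ∈ II e j := by
    rw [mul_comm, hr]
    exact sub_mem ha (II_anti e (Nat.le_succ j) hb)
  have hr2 : r ∈ II e j := mem_II_of_mul x hmin e hr'
  have h3 : a = b + x • r := by
    rw [smul_eq_mul, mul_comm, hr]; ring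
  rw [h3]
  refine Submodule.add_mem_sup hb ?_
  exact Submodule.smul_mem_smul (Ideal.mem_span_singleton_self x) hr2

include hx hmin in
theorem JJ_lt {j k : ℕ} (hjk : j < k) (hk : k ≤ n) : JJ x e k < JJ x e j :=
  lt_of_le_of_lt (JJ_anti x e hjk) (JJ_step x hx hmin e (by omega))

include hx hmin e in
theorem main : (n : ℕ∞) ≤ Module.length R (R ⧸ Ideal.span {x}) := by
  let p : LTSeries (Submodule R (R ⧸ Ideal.span {x})) :=
    { length := n
      toFun := fun i => JJ x e (n - i.val)
      step := by
        intro i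
        apply JJ_lt x hx hmin e
        · simp only [Fin.val_castSucc, Fin.val_succ]
          have := i.2
          omega
        · exact Nat.sub_le _ _ }
  have h := Order.LTSeries.length_le_krullDim p
  rw [← Module.coe_length] at h
  have h' : ((n : ℕ∞) : WithBot ℕ∞) ≤ (Module.length R (R ⧸ Ideal.span {x}) : WithBot ℕ∞) := by
    exact_mod_cast h
  exact_mod_cast h'

end

theorem final (R : Type u) [CommRing R] [IsNoetherianRing R] [IsLocalRing R]
    (x : R) (hx : x ∈ IsLocalRing.maximalIdeal R) (hmin : ∀ p ∈ minimalPrimes R, x ∉ p) :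
    (Set.ncard (minimalPrimes R) : ℕ∞) ≤ Module.length R (R ⧸ Ideal.span {x}) := by
  have hfin : (minimalPrimes R).Finite := minimalPrimes.finite_of_isNoetherianRing R
  haveI : Finite (minimalPrimes R) := hfin
  haveI : Fintype (minimalPrimes R) := Fintype.ofFinite _
  have e : Fin (Set.ncard (minimalPrimes R)) ≃ minimalPrimes R := by
    rw [Set.ncard_eq_toFinset_card' (minimalPrimes R), Set.toFinset_card]
    exact (Fintype.equivFin _).symm
  exact main x hx hmin e



/-- Let R be a Noetherian local ring of Krull dimension 1 and x an element of the maximal ideal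
contained in no minimal prime of R. Then the number of minimal prime ideals of R is at most the
length of R/xR as an R-module. -/
theorem result (R : Type u) [CommRing R] [IsNoetherianRing R] [IsLocalRing R]
    (hdim : ringKrullDim R = 1) (x : R) (hx : x ∈ IsLocalRing.maximalIdeal R) (hmin : ∀ p ∈ minimalPrimes R, x ∉ p) :
    (Set.ncard (minimalPrimes R) : ℕ∞) ≤ Module.length R (R ⧸ Ideal.span {x}) := by
  classical
  exact final R x hx hmin

end Groth.Agent.S2014
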