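import Groth.Statements.S2015
import Mathlib

set_option autoImplicit false
universe u
open EtAlg

namespace Groth.Agent.S2015

section

variable {R : Type u} [CommRing R]

theorem exists_dvd_all (h : ∀ a b : R, a ∣ b ∨ b ∣ a) (T : Finset R) (hT : T.Nonempty) :
    ∃ d ∈ T, ∀ t ∈ T, d ∣ t := by
  classical
  induction hT using Finset.Nonempty.cons_induction with
  | singleton a => exact ⟨a, by simp, by simp⟩
  | cons a s ha hs ih =>
    obtain ⟨d, hd, hdt⟩ := ih
    rcases h a d with h1 | h1
    · refine ⟨a, by simp, ?_⟩
      intro t ht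
      rcases Finset.mem_cons.mp ht with rfl | ht
      · exact dvd_rfl
      · exact h1.trans (hdt t ht)
    · refine ⟨d, by simp [hd], ?_⟩
      intro t ht
      rcases Finset.mem_cons.mp ht with rfl | ht
      · exact h1
      · exact hdt t ht

theorem key (h : ∀ a b : R, a ∣ b ∨ b ∣ a) : ∀ (n : ℕ) (M : Type u) [AddCommGroup M] [Module R M]
    [Module.FinitePresentation R M] (x : Fin n → M), Submodule.span R (Set.range x) = ⊤ →
    ∃ f : Fin n → R, Nonempty (M ≃ₗ[R] ((i : Fin n) → R ⧸ Ideal.span {f i})) := by
  classical
  intro n
  induction n with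
  | zero =>
    intro M _ _ _ x hx
    have : Subsingleton M := by
      have h0 : (⊤ : Submodule R M) = ⊥ := by
        rw [← hx]
        have : Set.range x = ∅ := Set.range_eq_empty x
        rw [this, Submodule.span_empty]
      exact (Submodule.subsingleton_iff R).mp (subsingleton_of_bot_eq_top h0.symm)
    exact ⟨fun _ => 0, ⟨LinearEquiv.ofSubsingleton _ _⟩⟩
  | succ n ih =>
    intro M _ _ _ x hx
    let φ : (Fin (n+1) → R) →ₗ[R] M := Fintype.linearCombination R x
    have hφ_apply : ∀ w, φ w = ∑ i, w i • x i := fun w => Fintype.linearCombination_apply R x w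
    have hφsurj : Function.Surjective φ := by
      rw [← LinearMap.range_eq_top]
      show LinearMap.range (Fintype.linearCombination R x) = ⊤
      rw [Fintype.range_linearCombination, hx]
    have hKfg : (LinearMap.ker φ).FG := Module.FinitePresentation.fg_ker φ hφsurj
    obtain ⟨S, hS⟩ := hKfg
    let S' : Finset (Fin (n+1) → R) := insert 0 S
    have hS' : Submodule.span R (S' : Set (Fin (n+1) → R)) = LinearMap.ker φ := by
      simp only [S', Finset.coe_insert]
      rw [Submodule.span_insert_zero, hS]
    let T : Finset R := S'.biUnion (fun s => Finset.univ.image s)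
    have hTne : T.Nonempty := ⟨(0 : Fin (n+1) → R) 0, by
      simp only [T, Finset.mem_biUnion, Finset.mem_image, Finset.mem_univ, true_and]
      exact ⟨0, by simp [S'], 0, rfl⟩⟩
    obtain ⟨d, hdT, hdall⟩ := exists_dvd_all h T hTne
    simp only [T, Finset.mem_biUnion, Finset.mem_image, Finset.mem_univ, true_and] at hdT
    obtain ⟨k₀, hk₀S, j₀, hk₀j₀⟩ := hdT
    have hk₀K : k₀ ∈ LinearMap.ker φ := by
      rw [← hS']; exact Submodule.subset_span hk₀S
    -- every element of K has all coordinates divisible by d
    have hdivK : ∀ k ∈ LinearMap.ker φ, ∀ i, d ∣ k i := by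
      intro k hk
      rw [← hS'] at hk
      induction hk using Submodule.span_induction with
      | mem s hs =>
        intro i
        apply hdall
        simp only [T, Finset.mem_biUnion, Finset.mem_image, Finset.mem_univ, true_and]
        exact ⟨s, hs, i, rfl⟩
      | zero => intro i; exact dvd_zero _
      | add a b _ _ ha hb => intro i; exact dvd_add (ha i) (hb i)
      | smul r a _ ha => intro i; exact Dvd.dvd.mul_left (ha i) r
    choose c hc using fun i => hdivK k₀ hk₀K i
    let v : Fin (n+1) → R := Function.update c j₀ 1
    have hvj : v j₀ = 1 := Function.update_self ..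
    have hdv : d • v = k₀ := by
      ext i
      by_cases hi : i = j₀
      · subst hi; simp [hvj, hk₀j₀]
      · simp [v, Function.update_of_ne hi, hc i]
    let y : M := φ v
    have hdy : d • y = 0 := by
      show d • φ v = 0
      rw [← map_smul, hdv]; exact hk₀K
    have star : ∀ (r : R) (w : Fin (n+1) → R), w j₀ = 0 → r • y + φ w = 0 → d ∣ r := by
      intro r w hw hrw
      have hmem : r • v + w ∈ LinearMap.ker φ := by
        rw [LinearMap.mem_ker, map_add, map_smul]; exact hrw
      have := hdivK _ hmem j₀
      simpa [hvj, hw] using this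
    have hry : ∀ r : R, d ∣ r → r • y = 0 := by
      rintro r ⟨q, rfl⟩
      rw [mul_comm, mul_smul, hdy, smul_zero]
    let z : Fin n → M := x ∘ j₀.succAbove
    let N : Submodule R M := Submodule.span R {y}
    let M' : Submodule R M := Submodule.span R (Set.range z)
    have hφins : ∀ a : Fin n → R, φ (Fin.insertNth j₀ (0:R) a) = ∑ i, a i • z i := by
      intro a
      rw [hφ_apply, Fin.sum_univ_succAbove _ j₀]
      simp [z]
    have hM'mem : ∀ m ∈ M', ∃ a : Fin n → R, m = ∑ i, a i • z i := by
      intro m hm
      obtain ⟨a, rfl⟩ := (Submodule.mem_span_range_iff_exists_fun R).mp hm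
      exact ⟨a, rfl⟩
    have hcompl : IsCompl N M' := by
      constructor
      · rw [Submodule.disjoint_def]
        intro m hmN hmM'
        obtain ⟨r, rfl⟩ := Submodule.mem_span_singleton.mp hmN
        obtain ⟨a, ha⟩ := hM'mem _ hmM'
        apply hry
        apply star r (Fin.insertNth j₀ (0:R) (-a)) (by simp)
        rw [hφins, ha]
        simp
      · rw [codisjoint_iff, eq_top_iff, ← hx, Submodule.span_le]
        rintro _ ⟨i, rfl⟩
        by_cases hi : i = j₀
        · subst hi
          have hy : y = x i + ∑ l, v (i.succAbove l) • z l := by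
            show φ v = _
            rw [hφ_apply, Fin.sum_univ_succAbove _ i, hvj, one_smul]
            rfl
          have : x i = y - ∑ l, v (i.succAbove l) • z l := by rw [hy]; abel
          rw [this]
          apply Submodule.sub_mem
          · exact Submodule.mem_sup_left (Submodule.subset_span rfl)
          · apply Submodule.mem_sup_right
            apply Submodule.sum_mem
            intro l _
            exact Submodule.smul_mem _ _ (Submodule.subset_span ⟨l, rfl⟩)
        · obtain ⟨l, rfl⟩ := Fin.exists_succAbove_eq hi
          exact Submodule.mem_sup_right (Submodule.subset_span ⟨l, rfl⟩)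
    -- N ≃ R/d
    have hker : LinearMap.ker (LinearMap.toSpanSingleton R M y) = Ideal.span {d} := by
      ext r
      rw [LinearMap.mem_ker, LinearMap.toSpanSingleton_apply, Ideal.mem_span_singleton]
      constructor
      · intro hr
        apply star r 0 rfl
        rw [map_zero, add_zero]; exact hr
      · exact hry r
    have hrange : LinearMap.range (LinearMap.toSpanSingleton R M y) = N := by
      rw [LinearMap.range_toSpanSingleton]
    let eN : (R ⧸ Ideal.span {d}) ≃ₗ[R] N :=
      (Submodule.quotEquivOfEq _ _ hker.symm) ≪≫ₗ
        (LinearMap.toSpanSingleton R M y).quotKerEquivRange ≪≫ₗ LinearEquiv.ofEq _ _ hrange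
    -- M' finitely presented
    have hquot : Module.FinitePresentation R (M ⧸ N) :=
      Module.finitePresentation_of_surjective N.mkQ (Submodule.mkQ_surjective N)
        (by rw [Submodule.ker_mkQ]; exact Submodule.fg_span_singleton y)
    let eQ : (M ⧸ N) ≃ₗ[R] M' := Submodule.quotientEquivOfIsCompl N M' hcompl
    have hM'fp : Module.FinitePresentation R M' :=
      Module.finitePresentation_of_surjective eQ.toLinearMap eQ.surjective
        (by rw [LinearEquiv.ker]; exact Submodule.fg_bot)
    let x' : Fin n → M' := fun i => ⟨z i, Submodule.subset_span ⟨i, rfl⟩⟩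
    have hx' : Submodule.span R (Set.range x') = ⊤ := by
      apply Submodule.map_injective_of_injective M'.injective_subtype
      rw [Submodule.map_span, Submodule.map_subtype_top, ← Set.range_comp]
      rfl
    obtain ⟨f', ⟨e'⟩⟩ := ih M' x' hx'
    refine ⟨Fin.cons d f', ⟨?_⟩⟩
    exact (Submodule.prodEquivOfIsCompl N M' hcompl).symm ≪≫ₗ (LinearEquiv.prodCongr eN.symm e') ≪≫ₗ
      (Fin.consLinearEquiv R (fun i => R ⧸ Ideal.span {(Fin.cons d f' : Fin (n+1) → R) i}))

theorem main (R : Type u) [CommRing R] [Nontrivial R] (h : ∀ a b : R, a ∣ b ∨ b ∣ a)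
    (M : Type u) [AddCommGroup M] [Module R M] [Module.FinitePresentation R M] :
    ∃ (n : ℕ) (f : Fin n → R), Nonempty (M ≃ₗ[R] ((i : Fin n) → R ⧸ Ideal.span {f i})) := by
  obtain ⟨n, x, hx⟩ := (Module.Finite.exists_fin (R := R) (M := M))
  obtain ⟨f, hf⟩ := key h n M x hx
  exact ⟨n, f, hf⟩

end


/-- Let R be a nonzero ring such that for all a, b in R either a divides b or b divides a. Then each
finitely presented R-module decomposes as a direct sum of finitely many cyclic modules R/fR. -/
theorem result (R : Type u) [CommRing R] [Nontrivial R] (h : ∀ a b : R, a ∣ b ∨ b ∣ a)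
    (M : Type u) [AddCommGroup M] [Module R M] [Module.FinitePresentation R M] :
    ∃ (n : ℕ) (f : Fin n → R), Nonempty (M ≃ₗ[R] ((i : Fin n) → R ⧸ Ideal.span {f i})) := by
  classical
  exact main R h M

end Groth.Agent.S2015
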