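import Groth.Statements.S2017
import Mathlib

set_option autoImplicit false
universe u
open EtAlg

namespace Groth.Agent.S2017

/-- Let R be a Noetherian ring, A, B, C R-algebras of finite type, f : A -> B a surjective R-algebra map
and g : C -> B an R-algebra map making B a finite C-module. Then the fibre product A ×_B C (the
equalizer of f ∘ pr₁ and g ∘ pr₂ in A × C) is an R-algebra of finite type. -/
theorem result (R A B C : Type u) [CommRing R] [IsNoetherianRing R] [CommRing A] [CommRing B]
    [CommRing C] [Algebra R A] [Algebra R B] [Algebra R C] [Algebra.FiniteType R A] [Algebra.FiniteType R B]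
    [Algebra.FiniteType R C] (f : A →ₐ[R] B) (hf : Function.Surjective f) (g : C →ₐ[R] B)
    (hg : (g.toRingHom).Finite) :
    Algebra.FiniteType R ↥(AlgHom.equalizer (f.comp (AlgHom.fst R A C)) (g.comp (AlgHom.snd R A C))) := by
  classical
  have hmemE : ∀ x : A × C, x ∈ AlgHom.equalizer (f.comp (AlgHom.fst R A C)) (g.comp (AlgHom.snd R A C)) ↔
      f x.1 = g x.2 := fun x => Iff.rfl
  letI : Algebra C B := g.toRingHom.toAlgebra
  have hfin : Module.Finite C B := hg
  obtain ⟨T, hT⟩ := hfin.fg_top
  choose lift hlift using hf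
  let gens : Set (A × C) :=
    (fun b => ((lift b, 0) : A × C)) '' (T : Set B) ∪ {((1 : A), (0 : C)), ((0 : A), (1 : C))}
  have hgens_fin : gens.Finite := ((T.finite_toSet).image _).union (by simp)
  have hker : ∀ a : A, f a = 0 → ((a, 0) : A × C) ∈
      Submodule.span (AlgHom.equalizer (f.comp (AlgHom.fst R A C)) (g.comp (AlgHom.snd R A C))) gens := by
    intro a ha
    have hmem : ((a, 0) : A × C) ∈
        AlgHom.equalizer (f.comp (AlgHom.fst R A C)) (g.comp (AlgHom.snd R A C)) := by
      rw [hmemE]; simp [ha]
    have : ((a, 0) : A × C) = (⟨(a, 0), hmem⟩ :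
        AlgHom.equalizer (f.comp (AlgHom.fst R A C)) (g.comp (AlgHom.snd R A C))) • ((1, 0) : A × C) := by
      ext <;> simp [Subalgebra.smul_def]
    rw [this]
    exact Submodule.smul_mem _ _ (Submodule.subset_span (Or.inr (by simp)))
  have hP : ∀ b : B, b ∈ Submodule.span C (T : Set B) → ∀ a : A, f a = b → ((a, 0) : A × C) ∈
      Submodule.span (AlgHom.equalizer (f.comp (AlgHom.fst R A C)) (g.comp (AlgHom.snd R A C))) gens := by
    intro b hb
    induction hb using Submodule.span_induction with
    | mem b hbT =>
      intro a ha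
      have h1 : ((lift b, 0) : A × C) ∈ Submodule.span
          (AlgHom.equalizer (f.comp (AlgHom.fst R A C)) (g.comp (AlgHom.snd R A C))) gens :=
        Submodule.subset_span (Or.inl ⟨b, hbT, rfl⟩)
      have h2 := hker (a - lift b) (by rw [map_sub, ha, hlift, sub_self])
      have : ((a, 0) : A × C) = (lift b, 0) + (a - lift b, 0) := by ext <;> simp
      rw [this]; exact Submodule.add_mem _ h1 h2
    | zero => intro a ha; exact hker a ha
    | add b b' _ _ ih ih' =>
      intro a ha
      have h1 := ih (lift b) (hlift b)
      have h2 := ih' (a - lift b) (by rw [map_sub, ha, hlift]; abel)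
      have : ((a, 0) : A × C) = (lift b, 0) + (a - lift b, 0) := by ext <;> simp
      rw [this]; exact Submodule.add_mem _ h1 h2
    | smul c b _ ih =>
      intro a ha
      have hcb : c • b = g c * b := by rw [Algebra.smul_def]; rfl
      have h1 := ih (lift b) (hlift b)
      have hαE : ((lift (g c), c) : A × C) ∈
          AlgHom.equalizer (f.comp (AlgHom.fst R A C)) (g.comp (AlgHom.snd R A C)) := by
        rw [hmemE]; exact hlift (g c)
      have h3 : ((lift (g c) * lift b, 0) : A × C) ∈ Submodule.span
          (AlgHom.equalizer (f.comp (AlgHom.fst R A C)) (g.comp (AlgHom.snd R A C))) gens := by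
        have : ((lift (g c) * lift b, 0) : A × C) = (⟨(lift (g c), c), hαE⟩ :
            AlgHom.equalizer (f.comp (AlgHom.fst R A C)) (g.comp (AlgHom.snd R A C))) •
            ((lift b, 0) : A × C) := by
          ext <;> simp [Subalgebra.smul_def]
        rw [this]; exact Submodule.smul_mem _ _ h1
      have h4 := hker (a - lift (g c) * lift b)
        (by rw [map_sub, map_mul, ha, hlift, hlift, hcb, sub_self])
      have : ((a, 0) : A × C) = (lift (g c) * lift b, 0) + (a - lift (g c) * lift b, 0) := by
        ext <;> simp
      rw [this]; exact Submodule.add_mem _ h3 h4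
  have htop : Submodule.span
      (AlgHom.equalizer (f.comp (AlgHom.fst R A C)) (g.comp (AlgHom.snd R A C))) gens = ⊤ := by
    rw [eq_top_iff]
    rintro ⟨a, c⟩ -
    have h1 := hP (f a) (by rw [hT]; trivial) a rfl
    have h2 : ((0, c) : A × C) ∈ Submodule.span
        (AlgHom.equalizer (f.comp (AlgHom.fst R A C)) (g.comp (AlgHom.snd R A C))) gens := by
      have hαE : ((lift (g c), c) : A × C) ∈
          AlgHom.equalizer (f.comp (AlgHom.fst R A C)) (g.comp (AlgHom.snd R A C)) := by
        rw [hmemE]; exact hlift (g c)
      have : ((0, c) : A × C) = (⟨(lift (g c), c), hαE⟩ :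
          AlgHom.equalizer (f.comp (AlgHom.fst R A C)) (g.comp (AlgHom.snd R A C))) •
          ((0, 1) : A × C) := by
        ext <;> simp [Subalgebra.smul_def]
      rw [this]; exact Submodule.smul_mem _ _ (Submodule.subset_span (Or.inr (by simp)))
    have : ((a, c) : A × C) = (a, 0) + (0, c) := by ext <;> simp
    rw [this]; exact Submodule.add_mem _ h1 h2
  have hBC : (⊤ : Submodule
      (AlgHom.equalizer (f.comp (AlgHom.fst R A C)) (g.comp (AlgHom.snd R A C))) (A × C)).FG := by
    rw [← htop]; exact Submodule.fg_span hgens_fin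
  exact ⟨fg_of_fg_of_fg R _ (A × C) Algebra.FiniteType.out hBC Subtype.coe_injective⟩

end Groth.Agent.S2017
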