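import Groth.Statements.S2018
import Mathlib.Tactic

set_option autoImplicit false
universe u
open EtAlg

namespace Groth.Agent.S2018

/-- Let g : A' -> A be a surjective ring map and f : B -> A an integral ring map. Then the projection
from the fibre product B ×_A A' (the equalizer of f ∘ pr₁ and g ∘ pr₂ in B × A') to A' is integral. -/
theorem result (A A' B : Type u) [CommRing A] [CommRing A'] [CommRing B] (g : A' →+* A)
    (hg : Function.Surjective g) (f : B →+* A) (hf : f.IsIntegral) :
    ((RingHom.snd B A').comp ((f.comp (RingHom.fst B A')).eqLocus (g.comp (RingHom.snd B A'))).subtype).IsIntegral := by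
  intro a'
  let φ : ((f.comp (RingHom.fst B A')).eqLocus (g.comp (RingHom.snd B A'))) →+* A' :=
    (RingHom.snd B A').comp ((f.comp (RingHom.fst B A')).eqLocus (g.comp (RingHom.snd B A'))).subtype
  let π : ((f.comp (RingHom.fst B A')).eqLocus (g.comp (RingHom.snd B A'))) →+* B :=
    (RingHom.fst B A').comp ((f.comp (RingHom.fst B A')).eqLocus (g.comp (RingHom.snd B A'))).subtype
  have hcomm : g.comp φ = f.comp π := by
    ext x
    exact x.2.symm
  have hπ : Function.Surjective π := by
    intro b
    obtain ⟨a1, ha1⟩ := hg (f b)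
    exact ⟨⟨(b, a1), by
      rw [RingHom.mem_eqLocus]
      simp [ha1]⟩, rfl⟩
  obtain ⟨p, hpm, hp⟩ := hf (g a')
  obtain ⟨q, hq, -, hqm⟩ := Polynomial.lifts_and_natDegree_eq_and_monic
    (Polynomial.mem_lifts_of_surjective hπ p) hpm
  set c := Polynomial.eval₂ φ a' q with hc
  have hgc : g c = 0 := by
    rw [hc, Polynomial.hom_eval₂, hcomm, ← Polynomial.eval₂_map, hq]
    exact hp
  let e : ((f.comp (RingHom.fst B A')).eqLocus (g.comp (RingHom.snd B A'))) :=
    ⟨(0, a' * c), by
      rw [RingHom.mem_eqLocus]
      simp [hgc]⟩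
  have he : φ e = a' * c := rfl
  refine ⟨Polynomial.X * q - Polynomial.C e, ?_, ?_⟩
  · rcases subsingleton_or_nontrivial ((f.comp (RingHom.fst B A')).eqLocus (g.comp (RingHom.snd B A'))) with hs | hn
    · exact Subsingleton.elim _ _
    · apply Polynomial.Monic.sub_of_left (Polynomial.monic_X.mul hqm)
      have hmon := Polynomial.monic_X.mul hqm
      have hnd : (Polynomial.X * q).natDegree = 1 + q.natDegree := by
        rw [Polynomial.Monic.natDegree_mul Polynomial.monic_X hqm, Polynomial.natDegree_X]
      refine lt_of_le_of_lt Polynomial.degree_C_le ?_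
      rw [Polynomial.degree_eq_natDegree hmon.ne_zero, hnd]
      exact_mod_cast (by omega : 0 < 1 + q.natDegree)
  · rw [Polynomial.eval₂_sub, Polynomial.eval₂_mul, Polynomial.eval₂_X, Polynomial.eval₂_C, he, ← hc]
    ring

end Groth.Agent.S2018
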