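import Groth.Statements.S6916
import Mathlib
import Groth.Agent.Lib.Helper4.Milnor

set_option autoImplicit false
universe u
open TensorProduct
open EtAlg

namespace Groth.Agent.S6916

/-- Let `B' = B ×_A A'` be a fibre square of rings with `A' → A` surjective and `L'` any `B'`-module.
Then the canonical map from `L'` to the glueing of `(L' ⊗_{B'} B, L' ⊗_{B'} A')` is surjective:
every pair `(x, y) ∈ (B ⊗_{B'} L') × (A' ⊗_{B'} L')` with equal images in `A ⊗_{B'} L'` is of the
form `(1 ⊗ l, 1 ⊗ l)`. (It is in general not injective.) -/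
theorem result (B' B A' A : Type u) [CommRing B'] [CommRing B] [CommRing A'] [CommRing A]
    [Algebra B' B] [Algebra B' A'] [Algebra B A] [Algebra A' A] [Algebra B' A] [IsScalarTower B' B A] [IsScalarTower B' A' A]
    (hsq : EtMil.IsFibreSquare B' B A' A)
    (L' : Type u) [AddCommGroup L'] [Module B' L'] (x : B ⊗[B'] L') (y : A' ⊗[B'] L')
    (hxy : (IsScalarTower.toAlgHom B' B A).toLinearMap.rTensor L' x = (IsScalarTower.toAlgHom B' A' A).toLinearMap.rTensor L' y) :
    ∃ l : L', (1 : B) ⊗ₜ[B'] l = x ∧ (1 : A') ⊗ₜ[B'] l = y := by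
  obtain ⟨l₀, rfl⟩ := Groth.Agent.Helper4.Milnor.exists_one_tmul L' hsq x
  set g : A' →ₗ[B'] A := (IsScalarTower.toAlgHom B' A' A).toLinearMap with hg
  have hgapp : ∀ a', g a' = algebraMap A' A a' := fun a' => rfl
  set f : LinearMap.ker g →ₗ[B'] A' := (LinearMap.ker g).subtype with hf
  have hfg : Function.Exact f g := LinearMap.exact_subtype_ker_map g
  have hgs : Function.Surjective g := hsq.1
  have hex := rTensor_exact L' hfg hgs
  have hy' : LinearMap.rTensor L' g (y - (1 : A') ⊗ₜ[B'] l₀) = 0 := by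
    rw [map_sub, ← hxy]
    simp [g]
  obtain ⟨z, hz⟩ := (hex _).mp hy'
  have key : ∀ z : (LinearMap.ker g) ⊗[B'] L', ∃ m : L',
      ((1 : A') ⊗ₜ[B'] m : A' ⊗[B'] L') = LinearMap.rTensor L' f z ∧
      ((1 : B) ⊗ₜ[B'] m : B ⊗[B'] L') = 0 := by
    intro z
    induction z using TensorProduct.induction_on with
    | zero => exact ⟨0, by simp, by simp⟩
    | tmul i l =>
      have hi : algebraMap A' A i.1 = 0 := by
        have := i.2
        rwa [LinearMap.mem_ker, hgapp] at this
      obtain ⟨j, hj1, hj2⟩ := Groth.Agent.Helper4.Milnor.exists_ker hsq i.1 hi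
      refine ⟨j • l, ?_, ?_⟩
      · rw [LinearMap.rTensor_tmul, ← TensorProduct.smul_tmul, Algebra.smul_def, mul_one, hj2]
        rfl
      · rw [← TensorProduct.smul_tmul, Algebra.smul_def, hj1, zero_mul, TensorProduct.zero_tmul]
    | add a b ha hb =>
      obtain ⟨m1, h11, h12⟩ := ha
      obtain ⟨m2, h21, h22⟩ := hb
      refine ⟨m1 + m2, ?_, ?_⟩
      · rw [TensorProduct.tmul_add, h11, h21, map_add]
      · rw [TensorProduct.tmul_add, h12, h22, add_zero]
  obtain ⟨m, hm1, hm2⟩ := key z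
  refine ⟨l₀ + m, ?_, ?_⟩
  · rw [TensorProduct.tmul_add, hm2, add_zero]
  · rw [TensorProduct.tmul_add, hm1, hz]
    abel

end Groth.Agent.S6916
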