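import Groth.Statements.S2026
import Groth.Agent.Lib.Helper8.ElemStd1
import Groth.Agent.S2108
import Groth.Agent.S2030

set_option autoImplicit false
universe u
open Smoothing

namespace Groth.Agent.S2026

/-- For a finitely presented `R`-algebra `A`, the singular ideal (functions vanishing on the non-smooth
locus) coincides with the radical of the ideal spanned by all strictly standard elements, and
equally with the radical of the ideal spanned by all elementary standard elements. -/
theorem result {R A : Type u} [CommRing R] [CommRing A]
    [Algebra R A] [Algebra.FinitePresentation R A] :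
    Smoothing.singularIdeal R A = (Ideal.span {a : A | Smoothing.IsStrictlyStandard R A a}).radical ∧
      Smoothing.singularIdeal R A =
        (Ideal.span {a : A | Smoothing.IsElementaryStandard R A a}).radical := by
  -- elementary standard implies strictly standard
  have hES_SS : ∀ a : A, Smoothing.IsElementaryStandard R A a → Smoothing.IsStrictlyStandard R A a := by
    rintro a ⟨P, ⟨a', ha'⟩, hkill⟩
    refine ⟨P, ?_, hkill⟩
    rw [ha']
    exact Ideal.mul_mem_left _ _ (Ideal.subset_span ⟨fun k => Fin.castLE P.hcn k, rfl⟩)
  -- strictly standard elements lie in the singular ideal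
  have hSS_sing : ∀ a : A, Smoothing.IsStrictlyStandard R A a → a ∈ Smoothing.singularIdeal R A := by
    intro a ha
    have hsm := (Groth.Agent.S2030.result a ha).1
    have hsub := Algebra.basicOpen_subset_smoothLocus_iff_smooth.mpr hsm
    rw [Smoothing.singularIdeal, PrimeSpectrum.mem_vanishingIdeal]
    intro p hp
    by_contra hap
    exact hp (hsub hap)
  -- the singular ideal is contained in the radical of the elementary standard elements
  have hsing_ES : Smoothing.singularIdeal R A ≤
      (Ideal.span {a : A | Smoothing.IsElementaryStandard R A a}).radical := by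
    obtain ⟨n, φ, hφ, hfg⟩ := Algebra.FinitePresentation.out (R := R) (A := A)
    obtain ⟨m, f, hf⟩ := Submodule.fg_iff_exists_fin_generating_family.mp hfg
    have hker : RingHom.ker φ.toRingHom = Ideal.span (Set.range f) := hf.symm
    intro x hx
    rw [Ideal.radical_eq_sInf, Ideal.mem_sInf]
    rintro p ⟨hp, hpprime⟩
    haveI := hpprime
    rw [Smoothing.singularIdeal, PrimeSpectrum.mem_vanishingIdeal] at hx
    refine hx ⟨p, hpprime⟩ ?_
    intro hsm
    haveI : Algebra.IsSmoothAt R p := hsm
    obtain ⟨a, hap, c, rows, cols, a', ha, hkill⟩ := Groth.Agent.S2108.result f φ hφ hker p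
    have hES := Groth.Agent.Helper8.ElemStd.isElementaryStandard_of_rows_cols f φ hφ hker rows cols
      a a' ha hkill
    exact hap (hp (Ideal.subset_span hES))
  have h1 : (Ideal.span {a : A | Smoothing.IsElementaryStandard R A a}).radical ≤
      (Ideal.span {a : A | Smoothing.IsStrictlyStandard R A a}).radical :=
    Ideal.radical_mono (Ideal.span_mono fun a ha => hES_SS a ha)
  have h2 : (Ideal.span {a : A | Smoothing.IsStrictlyStandard R A a}).radical ≤
      Smoothing.singularIdeal R A := by
    have hrad : (Smoothing.singularIdeal R A).IsRadical :=
      PrimeSpectrum.isRadical_vanishingIdeal _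
    rw [hrad.radical_le_iff, Ideal.span_le]
    exact fun a ha => hSS_sing a ha
  exact ⟨le_antisymm (hsing_ES.trans h1) h2, le_antisymm hsing_ES (h1.trans h2)⟩

end Groth.Agent.S2026
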