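import Groth.Statements.S2029
import Groth.Agent.Lib.Helper8.DelB5

set_option autoImplicit false
universe u
open Smoothing

namespace Groth.Agent.S2029

open TensorProduct in
/-- Let `R → A → Λ` with `A` finitely presented over `R`, `S ⊆ R` a multiplicative subset and `R_S` the
localization. If `R_S ⊗ A → R_S ⊗ Λ` factors through a smooth `R_S`-algebra, then `A → Λ` factors
through an `R`-algebra `B` in which some element of `S` is elementary standard over `R`. -/
theorem result {R A Λ Rₛ B' : Type u} [CommRing R] [CommRing A] [Algebra R A]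
    [Algebra.FinitePresentation R A] [CommRing Λ] [Algebra R Λ] (φ : A →ₐ[R] Λ) (S : Submonoid R)
    [CommRing Rₛ] [Algebra R Rₛ] [IsLocalization S Rₛ] [CommRing B'] [Algebra Rₛ B']
    [Algebra.Smooth Rₛ B'] (g : Rₛ ⊗[R] A →ₐ[Rₛ] B') (h : B' →ₐ[Rₛ] Rₛ ⊗[R] Λ)
    (hgh : h.comp g = Algebra.TensorProduct.map (AlgHom.id Rₛ Rₛ) φ) :
    ∃ (B : Type u) (_ : CommRing B) (_ : Algebra R B) (α : A →ₐ[R] B) (β : B →ₐ[R] Λ),
      β.comp α = φ ∧ ∃ s ∈ S, Smoothing.IsElementaryStandard R B (algebraMap R B s) := by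
  classical
  letI algΛT : Algebra Λ (Rₛ ⊗[R] Λ) := Algebra.TensorProduct.rightAlgebra
  haveI hloc : IsLocalization (Algebra.algebraMapSubmonoid Λ S) (Rₛ ⊗[R] Λ) :=
    IsLocalization.tensorRight Rₛ S
  letI algRB' : Algebra R B' := ((algebraMap Rₛ B').comp (algebraMap R Rₛ)).toAlgebra
  haveI towRRₛB' : IsScalarTower R Rₛ B' := IsScalarTower.of_algebraMap_eq (fun _ => rfl)
  let g₀ : A →ₐ[R] B' := (g.restrictScalars R).comp Algebra.TensorProduct.includeRight
  have hg₀ : ∀ x : A, g₀ x = g (1 ⊗ₜ[R] x) := fun x => rfl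
  have halgΛ : ∀ l : Λ, algebraMap Λ (Rₛ ⊗[R] Λ) l = 1 ⊗ₜ[R] l := fun l => rfl
  refine Groth.Agent.Helper8.DelB.delocalize_base' (Rₛ := Rₛ) (Λₛ := Rₛ ⊗[R] Λ) φ S g₀
    h.toRingHom ?_ ?_
  · intro r
    change h (algebraMap Rₛ B' (algebraMap R Rₛ r)) = _
    rw [h.commutes, halgΛ, Algebra.TensorProduct.algebraMap_apply, Algebra.algebraMap_self,
      RingHom.id_apply, Algebra.algebraMap_eq_smul_one, Algebra.algebraMap_eq_smul_one,
      TensorProduct.smul_tmul]
  · intro x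
    change h (g₀ x) = _
    rw [hg₀, ← AlgHom.comp_apply, hgh, Algebra.TensorProduct.map_tmul, halgΛ]
    rfl

end Groth.Agent.S2029
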