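import Groth.Statements.S2033
import Groth.Agent.Lib.Helper8.LocTr4

set_option autoImplicit false
universe u
open Smoothing

namespace Groth.Agent.S2033

open TensorProduct in
/-- Let `R` be Noetherian, `A → Λ` an `R`-algebra map with `A` finitely presented, `𝔮 ⊆ Λ` a prime
minimal over the radical of the extended singular ideal of `A`, and `𝔭` its contraction to `R`. If
the localized problem `R_𝔭 → R_𝔭 ⊗ A → Λ_𝔮` can be resolved at `𝔮Λ_𝔮`, then `A → Λ` factors through
a finitely presented `R`-algebra `C` whose singular ideal over `R` does not extend into `𝔮`. -/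
theorem result {R A Λ Rₚ Λq : Type u} [CommRing R] [IsNoetherianRing R] [CommRing A]
    [Algebra R A] [Algebra.FinitePresentation R A] [CommRing Λ] [Algebra R Λ] (φ : A →ₐ[R] Λ)
    (𝔮 : Ideal Λ) [𝔮.IsPrime] (hmin : 𝔮 ∈ (Smoothing.singRad R φ).minimalPrimes)
    [CommRing Rₚ] [Algebra R Rₚ] [IsLocalization.AtPrime Rₚ (𝔮.comap (algebraMap R Λ))]
    [CommRing Λq] [Algebra Λ Λq] [IsLocalization.AtPrime Λq 𝔮] [Algebra R Λq] [IsScalarTower R Λ Λq]
    [Algebra Rₚ Λq] [IsScalarTower R Rₚ Λq]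
    (hres : Smoothing.Resolvable Rₚ
      (Algebra.TensorProduct.lift (Algebra.ofId Rₚ Λq) ((IsScalarTower.toAlgHom R Λ Λq).comp φ)
        (fun _ _ => Commute.all _ _) : Rₚ ⊗[R] A →ₐ[Rₚ] Λq) (𝔮.map (algebraMap Λ Λq))) :
    ∃ (C : Type u) (_ : CommRing C) (_ : Algebra R C), Algebra.FinitePresentation R C ∧
      ∃ (g : A →ₐ[R] C) (h : C →ₐ[R] Λ), h.comp g = φ ∧
        ¬ (Smoothing.singularIdeal R C).map h ≤ 𝔮 := by
  classical
  obtain ⟨B', instB', algB', hfp, g', h', hgh, -, hnot⟩ := hres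
  haveI := hfp
  set M : Submonoid R := (𝔮.comap (algebraMap R Λ)).primeCompl with hMdef
  haveI : IsLocalization M Rₚ := (inferInstance : IsLocalization.AtPrime Rₚ (𝔮.comap (algebraMap R Λ)))
  haveI : IsLocalRing Λq := IsLocalization.AtPrime.isLocalRing Λq 𝔮
  have hmax : 𝔮.map (algebraMap Λ Λq) = IsLocalRing.maximalIdeal Λq :=
    IsLocalization.AtPrime.map_eq_maximalIdeal 𝔮 Λq
  have hprime : (𝔮.map (algebraMap Λ Λq)).IsPrime := by
    rw [hmax]
    infer_instance
  -- an element of the singular ideal mapping to a unit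
  have hnot' : ¬ (Smoothing.singularIdeal Rₚ B').map h' ≤ 𝔮.map (algebraMap Λ Λq) := by
    intro hle
    apply hnot
    unfold Smoothing.singRad
    exact (hprime.radical_le_iff).mpr hle
  obtain ⟨b, hb, hbq⟩ : ∃ b ∈ Smoothing.singularIdeal Rₚ B', h' b ∉ 𝔮.map (algebraMap Λ Λq) := by
    by_contra hcon
    push Not at hcon
    apply hnot'
    rw [Ideal.map_le_iff_le_comap]
    intro x hx
    exact hcon x hx
  have hbunit : IsUnit (h' b) := by
    rw [hmax] at hbq
    exact IsLocalRing.notMem_maximalIdeal.mp hbq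
  have hsmB : Algebra.Smooth Rₚ (Localization.Away b) := by
    refine Algebra.basicOpen_subset_smoothLocus_iff_smooth.mp fun P hP => ?_
    by_contra hPn
    rw [Smoothing.singularIdeal, PrimeSpectrum.mem_vanishingIdeal] at hb
    exact hP (hb P hPn)
  -- the `R`-algebra structures
  letI algRB' : Algebra R B' := Algebra.compHom B' (algebraMap R Rₚ)
  haveI : IsScalarTower R Rₚ B' := IsScalarTower.of_algebraMap_eq fun _ => rfl
  let B := Localization.Away b
  haveI : IsScalarTower R Rₚ B := IsScalarTower.of_algebraMap_eq fun x => by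
    rw [IsScalarTower.algebraMap_apply R B' B, IsScalarTower.algebraMap_apply R Rₚ B',
      ← IsScalarTower.algebraMap_apply Rₚ B' B]
  haveI : Algebra.FormallySmooth R Rₚ := Algebra.FormallySmooth.of_isLocalization M
  haveI : Algebra.FormallySmooth Rₚ B := hsmB.1
  haveI : Algebra.FinitePresentation Rₚ B := hsmB.2
  haveI : Algebra.FormallySmooth R B := Algebra.FormallySmooth.comp R Rₚ B
  let h'' : B →ₐ[Rₚ] Λq := IsLocalization.Away.liftAlgHom b (f := h') hbunit
  have hh'' : ∀ x : B', h'' (algebraMap B' B x) = h' x := fun x =>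
    IsLocalization.Away.lift_eq _ hbunit x
  let g'' : Rₚ ⊗[R] A →ₐ[Rₚ] B := (IsScalarTower.toAlgHom Rₚ B' B).comp g'
  -- `A' = Rₚ ⊗ A` as a localization of `A`
  letI algAA' : Algebra A (Rₚ ⊗[R] A) := Algebra.TensorProduct.rightAlgebra
  haveI : IsLocalization (Algebra.algebraMapSubmonoid A M) (Rₚ ⊗[R] A) :=
    IsLocalization.tensorRight (S := A) Rₚ M
  letI algA'B : Algebra (Rₚ ⊗[R] A) B := g''.toRingHom.toAlgebra
  letI algAB : Algebra A B := (g''.toRingHom.comp (algebraMap A (Rₚ ⊗[R] A))).toAlgebra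
  haveI : IsScalarTower A (Rₚ ⊗[R] A) B := IsScalarTower.of_algebraMap_eq fun _ => rfl
  haveI : IsScalarTower Rₚ (Rₚ ⊗[R] A) B :=
    IsScalarTower.of_algebraMap_eq fun x => (g''.commutes x).symm
  haveI : Algebra.FinitePresentation (Rₚ ⊗[R] A) B :=
    Algebra.FinitePresentation.of_restrict_scalars_finitePresentation (R := Rₚ)
      (A := Rₚ ⊗[R] A) (B := B)
  have hAB : ∀ x : A, algebraMap A B x = g'' ((1 : Rₚ) ⊗ₜ[R] x) := fun x => rfl
  haveI : IsScalarTower R A B := IsScalarTower.of_algebraMap_eq fun x => by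
    have e1 : (1 : Rₚ) ⊗ₜ[R] (algebraMap R A x) =
        algebraMap Rₚ (Rₚ ⊗[R] A) (algebraMap R Rₚ x) := by
      rw [Algebra.TensorProduct.algebraMap_apply, Algebra.algebraMap_self, RingHom.id_apply,
        Algebra.algebraMap_eq_smul_one (A := A), Algebra.algebraMap_eq_smul_one (A := Rₚ),
        TensorProduct.smul_tmul]
    rw [hAB, e1, g''.commutes, ← IsScalarTower.algebraMap_apply]
  have hhA : ∀ x : A, h''.toRingHom (algebraMap A B x) = algebraMap Λ Λq (φ x) := by
    intro x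
    rw [hAB]
    change h'' (algebraMap B' B (g' (1 ⊗ₜ[R] x))) = _
    rw [hh'']
    have := congr($hgh (1 ⊗ₜ[R] x))
    rw [AlgHom.comp_apply] at this
    rw [this, Algebra.TensorProduct.lift_tmul, map_one, one_mul]
    rfl
  have hMq : ∀ s ∈ M, algebraMap R Λ s ∉ 𝔮 := fun s hs => hs
  obtain ⟨C, instC, algC, hfpC, g, hC, hcomp, c, hfs, hcq⟩ :=
    Groth.Agent.Helper8.LocTr.exists_factorization (A' := Rₚ ⊗[R] A) (B := B) φ 𝔮 (Λq := Λq) M hMq
      h''.toRingHom hhA
  refine ⟨C, instC, algC, hfpC, g, hC, hcomp, fun hle => hcq (hle (Ideal.mem_map_of_mem _ ?_))⟩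
  haveI := hfpC
  have hsub := Algebra.basicOpen_subset_smoothLocus_iff.mpr hfs
  rw [Smoothing.singularIdeal, PrimeSpectrum.mem_vanishingIdeal]
  intro P hP
  by_contra hcP
  exact hP (hsub hcP)

end Groth.Agent.S2033
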