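import Groth.Statements.S2040
import Groth.Agent.Lib.Helper8.AdicFS10
import Groth.Agent.S4514

set_option autoImplicit false
universe u
open CAlg TensorProduct

namespace Groth.Agent.S2040

/-- For a complete Noetherian local ring `A` with residue field `k`, and a complete Noetherian local
`k`-algebra `B` which is formally smooth over `k` for the adic topology of its maximal ideal, there
is a Noetherian complete local ring `C` with a local homomorphism `A → C`, formally smooth for the
adic topology of the maximal ideal of `C`, whose special fibre `C ⊗ k` is isomorphic to `B` over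
`k`. -/
theorem result {A B : Type u} [CommRing A] [IsLocalRing A]
    [IsNoetherianRing A] [IsAdicComplete (IsLocalRing.maximalIdeal A) A] [CommRing B] [IsLocalRing B]
    [IsNoetherianRing B] [IsAdicComplete (IsLocalRing.maximalIdeal B) B]
    [Algebra (IsLocalRing.maximalIdeal A).ResidueField B]
    (hB : CAlgX.IsAdicFormallySmooth (IsLocalRing.maximalIdeal A).ResidueField B (IsLocalRing.maximalIdeal B)) :
    ∃ (C : Type u) (_ : CommRing C) (_ : IsLocalRing C) (_ : Algebra A C),
      IsNoetherianRing C ∧ IsAdicComplete (IsLocalRing.maximalIdeal C) C ∧ IsLocalHom (algebraMap A C) ∧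
        CAlgX.IsAdicFormallySmooth A C (IsLocalRing.maximalIdeal C) ∧
        Nonempty ((IsLocalRing.maximalIdeal A).Fiber C ≃ₐ[(IsLocalRing.maximalIdeal A).ResidueField] B) := by
  classical
  let ι : (A ⧸ IsLocalRing.maximalIdeal A) ≃+* (IsLocalRing.maximalIdeal A).ResidueField :=
    RingEquiv.ofBijective (algebraMap (A ⧸ IsLocalRing.maximalIdeal A)
      (IsLocalRing.maximalIdeal A).ResidueField)
      (Ideal.bijective_algebraMap_quotient_residueField _)
  letI algk'B : Algebra (IsLocalRing.ResidueField A) B :=
    ((algebraMap (IsLocalRing.maximalIdeal A).ResidueField B).comp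
      (ι : (A ⧸ IsLocalRing.maximalIdeal A) →+* _)).toAlgebra
  letI algk'B2 : Algebra (A ⧸ IsLocalRing.maximalIdeal A) B := algk'B
  have hB' : CAlgX.IsAdicFormallySmooth (IsLocalRing.ResidueField A) B
      (IsLocalRing.maximalIdeal B) :=
    Groth.Agent.Helper8.AdicFS.of_ringEquiv_base ι (fun _ => rfl) hB
  haveI : IsRegularLocalRing B := (Groth.Agent.Helper8.AdicFS.regular_and_ringEquiv hB').1
  obtain ⟨C, iC, iCl, iCn, iCa, hloc, hcomp, hflat, ⟨e⟩⟩ := Groth.Agent.S4514.result (A := A) B
  refine ⟨C, iC, iCl, iCa, iCn, hcomp, hloc, ?_, ?_⟩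
  · haveI := hflat
    haveI := hloc
    have hle : (IsLocalRing.maximalIdeal A).map (algebraMap A C) ≤ IsLocalRing.maximalIdeal C := by
      rw [Ideal.map_le_iff_le_comap]
      intro a ha
      rw [Ideal.mem_comap, IsLocalRing.mem_maximalIdeal, mem_nonunits_iff]
      rw [IsLocalRing.mem_maximalIdeal, mem_nonunits_iff] at ha
      exact fun hu => ha (isUnit_of_map_unit (algebraMap A C) a hu)
    refine Groth.Agent.Helper8.AdicFS.of_flat_of_tensor_fibre (IsLocalRing.maximalIdeal A)
      (IsLocalRing.maximalIdeal C) hle hB' e ?_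
    intro x hx
    obtain ⟨c, hc⟩ := Algebra.TensorProduct.includeRight_surjective
      (R := A) (S := IsLocalRing.ResidueField A) C IsLocalRing.residue_surjective (e.symm x)
    refine ⟨c, ?_, hc.symm⟩
    rw [IsLocalRing.mem_maximalIdeal, mem_nonunits_iff]
    intro hu
    rw [IsLocalRing.mem_maximalIdeal, mem_nonunits_iff] at hx
    apply hx
    have h1 : IsUnit (e.symm x) := by
      rw [← hc]
      exact hu.map (Algebra.TensorProduct.includeRight :
        C →ₐ[A] IsLocalRing.ResidueField A ⊗[A] C)
    have h2 := h1.map e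
    rwa [e.apply_symm_apply] at h2
  · let ιA : IsLocalRing.ResidueField A ≃ₐ[A] (IsLocalRing.maximalIdeal A).ResidueField :=
      AlgEquiv.ofBijective (IsScalarTower.toAlgHom A (A ⧸ IsLocalRing.maximalIdeal A)
        (IsLocalRing.maximalIdeal A).ResidueField)
        (Ideal.bijective_algebraMap_quotient_residueField _)
    let g : (IsLocalRing.maximalIdeal A).ResidueField ⊗[A] C ≃ₐ[A]
        IsLocalRing.ResidueField A ⊗[A] C :=
      Algebra.TensorProduct.congr ιA.symm AlgEquiv.refl
    let f : (IsLocalRing.maximalIdeal A).ResidueField ⊗[A] C ≃+* B :=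
      g.toRingEquiv.trans e.toRingEquiv
    refine ⟨AlgEquiv.ofRingEquiv (f := f) (fun z => ?_)⟩
    show e (g (z ⊗ₜ[A] (1 : C))) = _
    have h1 : g (z ⊗ₜ[A] (1 : C)) = algebraMap (IsLocalRing.ResidueField A)
        (IsLocalRing.ResidueField A ⊗[A] C) (ιA.symm z) := rfl
    rw [h1, e.commutes]
    show algebraMap (IsLocalRing.maximalIdeal A).ResidueField B (ι (ιA.symm z)) = _
    congr 1
    exact ιA.apply_symm_apply z

end Groth.Agent.S2040
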