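import Groth.Statements.S2044
-- import your own Groth.Agent.* helpers here
import Mathlib
import Groth.Agent.Lib.Helper7.Hensel.ProjectiveLift
import Groth.Agent.Lib.Helper7.CAlg.MonicFactorLift

set_option autoImplicit false
universe u
open CAlg

namespace Groth.Agent.S2044

open TensorProduct in
/-- Let `I ⊆ A` be an ideal and `P` a finite projective `A/I`-module. Then there is an étale `A`-algebra
`A'` with `A/I → A'/IA'` bijective and a finite projective `A'`-module whose reduction modulo `IA'`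
is the base change of `P`. -/
theorem result {A : Type u} [CommRing A] (I : Ideal A) (P : Type u)
    [AddCommGroup P] [Module (A ⧸ I) P] [Module.Finite (A ⧸ I) P] [Module.Projective (A ⧸ I) P] :
    ∃ (A' : Type u) (_ : CommRing A') (_ : Algebra A A'), Algebra.Etale A A' ∧
      Function.Bijective (algebraMap (A ⧸ I) (A' ⧸ I.map (algebraMap A A'))) ∧
      ∃ (P' : Type u) (_ : AddCommGroup P') (_ : Module A' P'), Module.Finite A' P' ∧
        Module.Projective A' P' ∧
        Nonempty (((A' ⧸ I.map (algebraMap A A')) ⊗[A'] P') ≃ₗ[A' ⧸ I.map (algebraMap A A')]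
          ((A' ⧸ I.map (algebraMap A A')) ⊗[A ⧸ I] P)) := by
  classical
  obtain ⟨n, f, g, -, -, hfg⟩ := Module.Finite.exists_comp_eq_id_of_projective (A ⧸ I) P
  have hEbar := Groth.Agent.Helper7.Hensel.isIdempotentElem_toMatrix' f g hfg
  obtain ⟨E₀, hE₀⟩ := Groth.Agent.Helper7.Hensel.exists_matrix_lift I
    (LinearMap.toMatrix' (g ∘ₗ f))
  have hc : (E₀ * E₀ - E₀).map (Ideal.Quotient.mk I) = 0 := by
    rw [Matrix.map_sub (Ideal.Quotient.mk I) (fun a b => map_sub _ a b), Matrix.map_mul, hE₀,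
      hEbar.eq, sub_self]
  obtain ⟨F, hF, hF0, hFmap⟩ :=
    Groth.Agent.Helper7.Hensel.exists_monic_annihilator (Ideal.Quotient.mk I) E₀ hc
  have hmon : ((Polynomial.X - 1 : Polynomial (A ⧸ I)) ^ (Fintype.card (Fin n) + 1)).Monic := by
    have := (Polynomial.monic_X_sub_C (1 : A ⧸ I)).pow (Fintype.card (Fin n) + 1)
    simpa using this
  obtain ⟨A', _, _, hetale, hbij, g', h', -, -, ⟨u, v, huv⟩, hfac, hg', hh'⟩ :=
    Groth.Agent.Helper7.MonicFactorLift.exists_etale_lift_factorization I F hF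
      (Polynomial.X ^ (Fintype.card (Fin n) + 1))
      ((Polynomial.X - 1) ^ (Fintype.card (Fin n) + 1)) (Polynomial.monic_X_pow _) hmon
      (Groth.Agent.Helper7.Hensel.isCoprime_X_pow_X_sub_one_pow _ _ _) hFmap
  refine ⟨A', inferInstance, inferInstance, hetale, hbij, ?_⟩
  -- the matrix over `A'`
  have hF0' : Polynomial.aeval (E₀.map (algebraMap A A')) (F.map (algebraMap A A')) = 0 := by
    rw [← Groth.Agent.Helper7.Hensel.map_aeval_matrix, hF0]
    ext i j; simp
  have hmapE : (E₀.map (algebraMap A A')).map (Ideal.Quotient.mk (I.map (algebraMap A A')))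
      = (LinearMap.toMatrix' (g ∘ₗ f)).map
        (algebraMap (A ⧸ I) (A' ⧸ I.map (algebraMap A A'))) := by
    rw [← hE₀]
    ext i j
    rfl
  have hEbar' : IsIdempotentElem ((LinearMap.toMatrix' (g ∘ₗ f)).map
      (algebraMap (A ⧸ I) (A' ⧸ I.map (algebraMap A A')))) := by
    show _ * _ = _
    rw [← Matrix.map_mul, hEbar.eq]
  have hg'' : g'.map (Ideal.Quotient.mk (I.map (algebraMap A A')))
      = Polynomial.X ^ (Fintype.card (Fin n) + 1) := by
    rw [hg']; simp
  have hh'' : h'.map (Ideal.Quotient.mk (I.map (algebraMap A A')))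
      = (Polynomial.X - 1) ^ (Fintype.card (Fin n) + 1) := by
    rw [hh']; simp
  have hE' := Groth.Agent.Helper7.Hensel.isIdempotentElem_aeval_of_factorization
    (E₀.map (algebraMap A A')) _ g' h' u v hF0' hfac huv
  have hE'map := Groth.Agent.Helper7.Hensel.map_aeval_eq_of_idempotent
    (Ideal.Quotient.mk (I.map (algebraMap A A'))) (E₀.map (algebraMap A A'))
    (Fintype.card (Fin n)) g' h' u v (by rw [hmapE]; exact hEbar') hg'' hh'' huv
  rw [hmapE] at hE'map
  refine ⟨Groth.Agent.Helper7.Hensel.idemRange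
      (Polynomial.aeval (E₀.map (algebraMap A A')) (u * g')),
    inferInstance, inferInstance, inferInstance,
    Groth.Agent.Helper7.Hensel.idemRange_projective _ hE', ?_⟩
  have e1 := Groth.Agent.Helper7.Hensel.idemRangeBaseChange
    (A' ⧸ I.map (algebraMap A A')) _ hE'
  have hmap1 : (Polynomial.aeval (E₀.map (algebraMap A A')) (u * g')).map
      (algebraMap A' (A' ⧸ I.map (algebraMap A A')))
      = (LinearMap.toMatrix' (g ∘ₗ f)).map
        (algebraMap (A ⧸ I) (A' ⧸ I.map (algebraMap A A'))) := hE'map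
  rw [hmap1] at e1
  have e2 := Groth.Agent.Helper7.Hensel.idemRangeBaseChange
    (A' ⧸ I.map (algebraMap A A')) _ hEbar
  have e3 : (A' ⧸ I.map (algebraMap A A')) ⊗[A ⧸ I] P ≃ₗ[A' ⧸ I.map (algebraMap A A')]
      (A' ⧸ I.map (algebraMap A A')) ⊗[A ⧸ I]
        Groth.Agent.Helper7.Hensel.idemRange (LinearMap.toMatrix' (g ∘ₗ f)) :=
    LinearEquiv.baseChange _ _ _ _ (Groth.Agent.Helper7.Hensel.linearEquivIdemRange f g hfg)
  exact ⟨e1.trans (e3.trans e2).symm⟩

end Groth.Agent.S2044
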