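import Groth.Statements.S2046
import Groth.Agent.Lib.Helper8.Andre11
import Groth.Agent.S0511
import Groth.Agent.S0540
import Groth.Agent.Lib.Helper7.Hens.Unique
import Groth.Agent.Lib.Helper7.Hens.Desc
import Groth.Agent.Lib.Helper7.SHens.Abstract

set_option autoImplicit false
universe u
open CAlg

namespace Groth.Agent.S2046

/-- If `R` is a Noetherian local G-ring then its strict henselization is a G-ring. -/
theorem result {R S : Type u} [CommRing R] [IsLocalRing R] [IsNoetherianRing R]
    (hR : CAlg.IsGRing R) [CommRing S] [IsLocalRing S] [Algebra R S] [IsLocalHom (algebraMap R S)]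
    [Hensel.IsStrictHenselization R S] : CAlg.IsGRing S := by
  haveI : IsNoetherianRing S := (Groth.Agent.S0540.result R S).1 inferInstance
  haveI : Algebra.FormallyEtale R S :=
    Groth.Agent.Helper7.SHens.formallyEtale_of_isStrictHenselization R S
  exact Groth.Agent.Helper8.Andre.isGRing_of_formallyEtale R S hR

end Groth.Agent.S2046
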