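import Groth.Statements.S2055
import Mathlib
import Groth.Agent.S2009

set_option autoImplicit false
universe u
open CAlg

namespace Groth.Agent.S2055

section
open TensorProduct

section
variable {R S : Type u} [CommRing R] [CommRing S] [Algebra R S] (I : Ideal R)

/-- the `I`-power torsion submodule -/
def tors (N : Type u) [AddCommGroup N] [Module R N] : Submodule R N where
  carrier := {y | ∃ n : ℕ, ∀ a ∈ I ^ n, a • y = 0}
  add_mem' := by
    rintro y z ⟨n, hn⟩ ⟨m, hm⟩
    refine ⟨n + m, fun a ha => ?_⟩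
    rw [smul_add, hn a (Ideal.pow_le_pow_right (Nat.le_add_right n m) ha),
      hm a (Ideal.pow_le_pow_right (Nat.le_add_left m n) ha), add_zero]
  zero_mem' := ⟨0, fun a _ => smul_zero a⟩
  smul_mem' := by
    rintro r y ⟨n, hn⟩
    exact ⟨n, fun a ha => by rw [smul_comm, hn a ha, smul_zero]⟩

theorem mem_tors {N : Type u} [AddCommGroup N] [Module R N] (y : N) :
    y ∈ tors I N ↔ ∃ n : ℕ, ∀ a ∈ I ^ n, a • y = 0 := Iff.rfl

theorem tors_isTorsion (N : Type u) [AddCommGroup N] [Module R N] (y : tors I N) :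
    ∃ n : ℕ, ∀ a ∈ I ^ n, a • y = 0 := by
  obtain ⟨n, hn⟩ := y.2
  exact ⟨n, fun a ha => Subtype.ext (hn a ha)⟩

/-- on the torsion part `y ↦ 1 ⊗ y` is injective -/
theorem mk_injOn_tors [Module.Flat R S]
    (hφ : Function.Bijective (Ideal.quotientMap (I.map (algebraMap R S)) (algebraMap R S) Ideal.le_comap_map))
    (N : Type u) [AddCommGroup N] [Module R N] :
    Function.Injective ((LinearMap.lTensor S (tors I N).subtype) ∘ₗ (TensorProduct.mk R S (tors I N) 1)) := by
  have h1 := Groth.Agent.S2009.step3 I hφ (tors I N) (tors_isTorsion I N)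
  have h2 : Function.Injective (LinearMap.lTensor S (tors I N).subtype) :=
    Module.Flat.lTensor_preserves_injective_linearMap _ (Submodule.injective_subtype _)
  exact h2.comp h1.1

/-- if finitely many generators of `J` send `y` into the torsion then `J • y` is uniformly torsion -/
theorem quot_torsionFree (hI : I.FG) (N : Type u) [AddCommGroup N] [Module R N] (y : N) (n : ℕ)
    (hy : ∀ a ∈ I ^ n, a • y ∈ tors I N) : y ∈ tors I N := by
  classical
  have hfg : (I ^ n).FG := Ideal.FG.pow hI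
  obtain ⟨s, hs⟩ := hfg
  have hex : ∀ a ∈ s, ∃ m : ℕ, ∀ b ∈ I ^ m, b • (a • y) = 0 := by
    intro a ha
    exact hy a (hs ▸ Ideal.subset_span ha)
  choose! mf hmf using hex
  let m := s.sup mf
  -- K: elements killed by I^m
  let K : Submodule R N :=
    { carrier := {w | ∀ b ∈ I ^ m, b • w = 0}
      add_mem' := fun {w w'} hw hw' b hb => by rw [smul_add, hw b hb, hw' b hb, add_zero]
      zero_mem' := fun b _ => smul_zero b
      smul_mem' := fun r w hw b hb => by rw [smul_comm, hw b hb, smul_zero] }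
  have hK : ∀ d ∈ I ^ n, d • y ∈ K := by
    intro d hd
    rw [← hs] at hd
    induction hd using Submodule.span_induction with
    | mem a ha =>
      intro b hb
      exact hmf a ha b (Ideal.pow_le_pow_right (Finset.le_sup (f := mf) ha) hb)
    | zero => rw [zero_smul]; exact K.zero_mem
    | add d d' _ _ h h' => rw [add_smul]; exact K.add_mem h h'
    | smul r d _ h => rw [smul_assoc]; exact K.smul_mem r h
  refine ⟨m + n, fun c hc => ?_⟩
  rw [pow_add] at hc
  refine Submodule.mul_induction_on hc ?_ ?_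
  · intro b hb d hd
    rw [mul_smul]
    exact hK d hd b hb
  · intro c c' h h'
    rw [add_smul, h, h', add_zero]

theorem tensor_quot_torsionFree [Module.Flat R S] (hI : I.FG) (N : Type u) [AddCommGroup N]
    [Module R N] (w : S ⊗[R] (N ⧸ tors I N)) (n : ℕ) (hw : ∀ a ∈ I ^ n, a • w = 0) : w = 0 := by
  classical
  have hfg : (I ^ n).FG := Ideal.FG.pow hI
  obtain ⟨s, hs⟩ := hfg
  let δ : (N ⧸ tors I N) →ₗ[R] (s → (N ⧸ tors I N)) :=
    LinearMap.pi fun a => LinearMap.lsmul R (N ⧸ tors I N) (a : R)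
  have hδ : Function.Injective δ := by
    rw [injective_iff_map_eq_zero]
    intro z hz
    obtain ⟨y, rfl⟩ := Submodule.mkQ_surjective _ z
    rw [Submodule.mkQ_apply, Submodule.Quotient.mk_eq_zero]
    apply quot_torsionFree I hI N y n
    intro d hd
    rw [← hs] at hd
    induction hd using Submodule.span_induction with
    | mem a ha =>
      have := congrFun hz ⟨a, ha⟩
      rw [← Submodule.Quotient.mk_eq_zero, Submodule.Quotient.mk_smul]
      exact this
    | zero => rw [zero_smul]; exact Submodule.zero_mem _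
    | add d d' _ _ h h' => rw [add_smul]; exact Submodule.add_mem _ h h'
    | smul r d _ h => rw [smul_assoc]; exact Submodule.smul_mem _ r h
  let Ψ : S ⊗[R] (N ⧸ tors I N) →ₗ[R] (s → S ⊗[R] (N ⧸ tors I N)) :=
    (TensorProduct.piRight R R S (fun _ : s => (N ⧸ tors I N))).toLinearMap ∘ₗ LinearMap.lTensor S δ
  let Θ : S ⊗[R] (N ⧸ tors I N) →ₗ[R] (s → S ⊗[R] (N ⧸ tors I N)) :=
    LinearMap.pi fun a => LinearMap.lsmul R (S ⊗[R] (N ⧸ tors I N)) (a : R)
  have hΨΘ : Ψ = Θ := by
    apply TensorProduct.ext'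
    intro t z
    funext a
    show t ⊗ₜ[R] ((a : R) • z) = (a : R) • (t ⊗ₜ[R] z)
    rw [TensorProduct.tmul_smul]
  have hΨ : Function.Injective Ψ := by
    have h1 : Function.Injective (LinearMap.lTensor S δ) :=
      Module.Flat.lTensor_preserves_injective_linearMap _ hδ
    exact (TensorProduct.piRight R R S (fun _ : s => (N ⧸ tors I N))).injective.comp h1
  apply hΨ
  rw [map_zero, hΨΘ]
  funext a
  exact hw a (hs ▸ Ideal.subset_span a.2)

theorem baseChange_eq_of_forall {M N : Type u} [AddCommGroup M] [Module R M] [AddCommGroup N]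
    [Module R N] (f : M →ₗ[R] N) (g : S ⊗[R] M →ₗ[S] S ⊗[R] N)
    (h : ∀ x, g (1 ⊗ₜ x) = 1 ⊗ₜ f x) : f.baseChange S = g := by
  apply TensorProduct.AlgebraTensorModule.ext
  intro t x
  rw [LinearMap.baseChange_tmul]
  have h1 : t ⊗ₜ[R] x = t • ((1 : S) ⊗ₜ[R] x) := by
    rw [TensorProduct.smul_tmul', smul_eq_mul, mul_one]
  rw [h1, map_smul, h, TensorProduct.smul_tmul', smul_eq_mul, mul_one]

theorem caseN [Module.Flat R S]
    (hφ : Function.Bijective (Ideal.quotientMap (I.map (algebraMap R S)) (algebraMap R S) Ideal.le_comap_map))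
    (M N : Type u) [AddCommGroup M] [Module R M] [AddCommGroup N] [Module R N]
    (hN : ∀ y : N, ∃ n : ℕ, ∀ a ∈ I ^ n, a • y = 0) :
    Function.Bijective (fun f : M →ₗ[R] N => LinearMap.baseChange S f) := by
  have hb := Groth.Agent.S2009.step3 I hφ N hN
  constructor
  · intro f g hfg
    ext x
    apply hb.1
    have := congrArg (fun k : S ⊗[R] M →ₗ[S] S ⊗[R] N => k (1 ⊗ₜ x)) hfg
    simp only [LinearMap.baseChange_tmul] at this
    exact this
  · intro g
    let eN : N ≃ₗ[R] S ⊗[R] N := LinearEquiv.ofBijective (TensorProduct.mk R S N 1) hb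
    let f : M →ₗ[R] N := eN.symm.toLinearMap ∘ₗ (g.restrictScalars R) ∘ₗ (TensorProduct.mk R S M 1)
    refine ⟨f, baseChange_eq_of_forall f g ?_⟩
    intro x
    have : (1 : S) ⊗ₜ[R] f x = eN (f x) := rfl
    rw [this]
    show _ = eN (eN.symm (g (1 ⊗ₜ x)))
    rw [eN.apply_symm_apply]

theorem caseM [Module.Flat R S] (hI : I.FG)
    (hφ : Function.Bijective (Ideal.quotientMap (I.map (algebraMap R S)) (algebraMap R S) Ideal.le_comap_map))
    (M N : Type u) [AddCommGroup M] [Module R M] [AddCommGroup N] [Module R N]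
    (hM : ∀ x : M, ∃ n : ℕ, ∀ a ∈ I ^ n, a • x = 0) :
    Function.Bijective (fun f : M →ₗ[R] N => LinearMap.baseChange S f) := by
  let T := tors I N
  let j : T →ₗ[R] S ⊗[R] N := (LinearMap.lTensor S T.subtype) ∘ₗ (TensorProduct.mk R S T 1)
  have hj : Function.Injective j := mk_injOn_tors I hφ N
  have hjv : ∀ t : T, j t = (1 : S) ⊗ₜ[R] (t : N) := fun t => rfl
  have hfT : ∀ (f : M →ₗ[R] N) (x : M), f x ∈ T := by
    intro f x
    obtain ⟨n, hn⟩ := hM x
    exact ⟨n, fun a ha => by rw [← map_smul, hn a ha, map_zero]⟩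
  constructor
  · intro f g hfg
    ext x
    have := congrArg (fun k : S ⊗[R] M →ₗ[S] S ⊗[R] N => k (1 ⊗ₜ x)) hfg
    simp only [LinearMap.baseChange_tmul] at this
    have h2 : j ⟨f x, hfT f x⟩ = j ⟨g x, hfT g x⟩ := this
    exact congrArg Subtype.val (hj h2)
  · intro g
    -- the image of `1 ⊗ x` lies in the range of `j`
    have hrange : ∀ x : M, g (1 ⊗ₜ x) ∈ LinearMap.range j := by
      intro x
      obtain ⟨n, hn⟩ := hM x
      have h0 : LinearMap.lTensor S T.mkQ (g (1 ⊗ₜ x)) = 0 := by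
        apply tensor_quot_torsionFree I hI N _ n
        intro a ha
        rw [← map_smul]
        have : a • g ((1 : S) ⊗ₜ[R] x) = g ((1 : S) ⊗ₜ[R] (a • x)) := by
          rw [TensorProduct.tmul_smul]
          exact (LinearMap.map_smul (g.restrictScalars R) a _).symm
        rw [this, hn a ha, TensorProduct.tmul_zero, map_zero, map_zero]
      have hex : Function.Exact (LinearMap.lTensor S T.subtype) (LinearMap.lTensor S T.mkQ) :=
        lTensor_exact S (LinearMap.exact_subtype_mkQ T) (Submodule.mkQ_surjective T)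
      obtain ⟨u, hu⟩ := (hex _).1 h0
      obtain ⟨t, ht⟩ := (Groth.Agent.S2009.step3 I hφ T (tors_isTorsion I N)).2 u
      exact ⟨t, by show LinearMap.lTensor S T.subtype (TensorProduct.mk R S T 1 t) = _; rw [ht, hu]⟩
    let e : T ≃ₗ[R] LinearMap.range j := LinearEquiv.ofInjective j hj
    let h : M →ₗ[R] LinearMap.range j :=
      ((g.restrictScalars R) ∘ₗ (TensorProduct.mk R S M 1)).codRestrict (LinearMap.range j) hrange
    let f : M →ₗ[R] N := T.subtype ∘ₗ e.symm.toLinearMap ∘ₗ h
    refine ⟨f, baseChange_eq_of_forall f g ?_⟩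
    intro x
    have h1 : (1 : S) ⊗ₜ[R] f x = j (e.symm (h x)) := (hjv _).symm
    have h2 : j (e.symm (h x)) = (e (e.symm (h x)) : S ⊗[R] N) := rfl
    rw [h1, h2, e.apply_symm_apply]
    rfl

theorem main' [Module.Flat R S] (hI : I.FG)
    (hφ : Function.Bijective (Ideal.quotientMap (I.map (algebraMap R S)) (algebraMap R S) Ideal.le_comap_map))
    (M N : Type u) [AddCommGroup M] [Module R M] [AddCommGroup N] [Module R N]
    (hMN : (∀ x : M, ∃ n : ℕ, ∀ a ∈ I ^ n, a • x = 0) ∨ (∀ y : N, ∃ n : ℕ, ∀ a ∈ I ^ n, a • y = 0)) :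
    Function.Bijective (fun f : M →ₗ[R] N => LinearMap.baseChange S f) := by
  rcases hMN with h | h
  · exact caseM I hI hφ M N h
  · exact caseN I hφ M N h

end

theorem main {R S M N : Type u} [CommRing R] [CommRing S]
    [Algebra R S] [Module.Flat R S] (I : Ideal R) (hI : I.FG)
    (hq : Function.Bijective (algebraMap (R ⧸ I) (S ⧸ I.map (algebraMap R S))))
    [AddCommGroup M] [Module R M] [AddCommGroup N] [Module R N]
    (hMN : (∀ x : M, ∃ n : ℕ, ∀ a ∈ I ^ n, a • x = 0) ∨ (∀ y : N, ∃ n : ℕ, ∀ a ∈ I ^ n, a • y = 0)) :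
    Function.Bijective (fun f : M →ₗ[R] N => LinearMap.baseChange S f) :=
  main' I hI hq M N hMN


end


open TensorProduct in
/-- Let `R → S` be flat and `I ⊆ R` a finitely generated ideal with `R/I → S/IS` bijective. If one of
the `R`-modules `M`, `N` has every element killed by a power of `I`, then base change of linear maps
`Hom_R(M, N) → Hom_S(S ⊗ M, S ⊗ N)` is bijective. -/
theorem result {R S M N : Type u} [CommRing R] [CommRing S]
    [Algebra R S] [Module.Flat R S] (I : Ideal R) (hI : I.FG)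
    (hq : Function.Bijective (algebraMap (R ⧸ I) (S ⧸ I.map (algebraMap R S))))
    [AddCommGroup M] [Module R M] [AddCommGroup N] [Module R N]
    (hMN : (∀ x : M, ∃ n : ℕ, ∀ a ∈ I ^ n, a • x = 0) ∨ (∀ y : N, ∃ n : ℕ, ∀ a ∈ I ^ n, a • y = 0)) :
    Function.Bijective (fun f : M →ₗ[R] N => LinearMap.baseChange S f) := by
  classical
  exact main I hI hq hMN

end Groth.Agent.S2055
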