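import Groth.Statements.S2058
import Mathlib
import Groth.Prelude.Def_CAlg
-- import your own Groth.Agent.* helpers here

set_option autoImplicit false
universe u
open CAlg

namespace Groth.Agent.S2058

namespace Aux

open IsLocalRing
open scoped Pointwise

section general

variable {R : Type u} [CommRing R] [IsLocalRing R] [IsNoetherianRing R]

/-- If every element of `m` is a zero divisor on the finite nonzero module `M`, then some nonzero
element of `M` is killed by `m`. -/
theorem exists_ne_zero_smul_eq_zero (M : Type u) [AddCommGroup M] [Module R M] [Module.Finite R M]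
    [Nontrivial M] (h : ∀ r ∈ maximalIdeal R, ¬ IsSMulRegular M r) :
    ∃ z : M, z ≠ 0 ∧ ∀ a ∈ maximalIdeal R, a • z = 0 := by
  have hexist : ∃ p ∈ associatedPrimes R M, maximalIdeal R ≤ p := by
    rcases associatedPrimes.nonempty R M with ⟨Ia, hIa⟩
    apply (Ideal.subset_union_prime_finite (associatedPrimes.finite R M) Ia Ia _).mp
    · rw [biUnion_associatedPrimes_eq_compl_regular R M]
      exact fun r hr ↦ h r hr
    · exact fun I hin _ _ ↦ IsAssociatedPrime.isPrime hin
  obtain ⟨p, hp, hmp⟩ := hexist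
  have hp' := (isAssociatedPrime_iff.mp hp)
  obtain ⟨hprime, z, hz⟩ := hp'
  have hpm : p = maximalIdeal R :=
    le_antisymm (IsLocalRing.le_maximalIdeal hprime.ne_top) hmp
  refine ⟨z, ?_, fun a ha => ?_⟩
  · rintro rfl
    apply hprime.ne_top
    rw [hz, Ideal.eq_top_iff_one, Submodule.mem_colon_singleton]
    simp
  · have : a ∈ p := hpm ▸ ha
    rw [hz, Submodule.mem_colon_singleton] at this
    simpa using this

/-- depth ≤ 1 forbids weakly regular sequences of length two in `m`. -/
theorem not_isWeaklyRegular_pair (h3 : LocCoh.depth R R ≤ 1) (x y : R) (hx : x ∈ maximalIdeal R)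
    (hy : y ∈ maximalIdeal R) : ¬ RingTheory.Sequence.IsWeaklyRegular R [x, y] := by
  intro hreg
  have hne : ¬ (maximalIdeal R • (⊤ : Submodule R R) = ⊤) := by
    rw [smul_eq_mul, Ideal.mul_top]
    exact Ideal.IsPrime.ne_top'
  have : (2 : ℕ∞) ≤ LocCoh.depth R R := by
    unfold LocCoh.depth LocCoh.idealDepth
    rw [if_neg hne]
    refine le_trans ?_ (le_iSup₂ (f := fun (rs : List R)
      (_ : RingTheory.Sequence.IsWeaklyRegular R rs ∧ ∀ r ∈ rs, r ∈ maximalIdeal R) =>
        (rs.length : ℕ∞)) [x, y] ⟨hreg, ?_⟩)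
    · simp
    · intro r hr
      simp at hr
      rcases hr with rfl | rfl
      exacts [hx, hy]
  have h21 : (2 : ℕ∞) ≤ 1 := this.trans h3
  exact absurd h21 (by decide)

end general

section caseB

variable {R : Type u} [CommRing R] [IsLocalRing R] [IsNoetherianRing R]

/-- the chain of annihilators of powers of `m`. -/
def annPow (R : Type u) [CommRing R] [IsLocalRing R] : ℕ →o Ideal R where
  toFun n := (maximalIdeal R ^ n).annihilator
  monotone' := fun _ _ hab => Submodule.annihilator_mono (Ideal.pow_le_pow_right hab)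

omit [IsNoetherianRing R] in
theorem mem_annPow {n : ℕ} {r : R} : r ∈ annPow R n ↔ ∀ a ∈ maximalIdeal R ^ n, a * r = 0 := by
  show r ∈ (maximalIdeal R ^ n).annihilator ↔ _
  rw [Submodule.mem_annihilator]
  constructor
  · intro h a ha
    rw [mul_comm]; exact h a ha
  · intro h a ha
    rw [smul_eq_mul, mul_comm]; exact h a ha

theorem caseB (h1 : ¬ IsArtinianRing R) (z : R) (hz : z ≠ 0) (hmz : ∀ a ∈ maximalIdeal R, a * z = 0) :
    ∃ (R' : Type u) (_ : CommRing R') (_ : Algebra R R'), Nontrivial R' ∧ Module.Finite R R' ∧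
      ¬ Function.Bijective (algebraMap R R') ∧
      (∃ n : ℕ, (∀ x : R, algebraMap R R' x = 0 → ∀ a ∈ IsLocalRing.maximalIdeal R ^ n, a * x = 0) ∧
        (∀ y : R', ∀ a ∈ IsLocalRing.maximalIdeal R ^ n, a • y ∈ Set.range (algebraMap R R'))) ∧
      IsLocalRing.maximalIdeal R ∉ associatedPrimes R R' := by
  obtain ⟨N, hN⟩ := (monotone_stabilizes_iff_noetherian (R := R) (M := R)).mpr inferInstance (annPow R)
  obtain ⟨H, hH⟩ : ∃ H : Ideal R, H = annPow R N := ⟨_, rfl⟩
  rw [← hH] at hN
  have hHne : H ≠ ⊤ := by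
    intro htop
    have h1H : (1 : R) ∈ H := htop ▸ Submodule.mem_top
    rw [hH, mem_annPow] at h1H
    apply h1
    rw [isArtinianRing_iff_isNilpotent_maximalIdeal]
    refine ⟨N, ?_⟩
    rw [Ideal.zero_eq_bot, eq_bot_iff]
    intro a ha
    have := h1H a ha
    rw [mul_one] at this
    rw [this]; exact Submodule.zero_mem _
  have hzH : z ∈ H := by
    have h1 : z ∈ annPow R 1 := by
      rw [mem_annPow]
      intro a ha
      rw [pow_one] at ha
      exact hmz a ha
    have h2 : annPow R 1 ≤ annPow R (max N 1) := (annPow R).monotone (le_max_right _ _)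
    rw [hN (max N 1) (le_max_left _ _)]
    exact h2 h1
  refine ⟨R ⧸ H, inferInstance, inferInstance, Ideal.Quotient.nontrivial_iff.mpr hHne, inferInstance, ?_,
    ⟨N, ?_, ?_⟩, ?_⟩
  · intro hbij
    apply hz
    apply hbij.1
    rw [map_zero]
    exact Ideal.Quotient.eq_zero_iff_mem.mpr hzH
  · intro x hx a ha
    have hxH : x ∈ H := Ideal.Quotient.eq_zero_iff_mem.mp hx
    rw [hH, mem_annPow] at hxH
    exact hxH a ha
  · intro y a _
    obtain ⟨r, rfl⟩ := Ideal.Quotient.mk_surjective y
    exact ⟨a * r, by rw [Algebra.smul_def, map_mul]; rfl⟩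
  · intro hass
    obtain ⟨hprime, y, hy⟩ := isAssociatedPrime_iff.mp hass
    obtain ⟨r, rfl⟩ := Ideal.Quotient.mk_surjective y
    have hr : r ∈ annPow R (N + 1) := by
      rw [mem_annPow]
      intro a ha
      rw [pow_succ] at ha
      refine Submodule.mul_induction_on ha ?_ ?_
      · intro b hb c hc
        have hc' : c ∈ Submodule.colon (⊥ : Submodule R (R ⧸ H)) {Ideal.Quotient.mk H r} := hy ▸ hc
        rw [Submodule.mem_colon_singleton, Submodule.mem_bot] at hc'
        have hcr : c * r ∈ H := by
          apply Ideal.Quotient.eq_zero_iff_mem.mp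
          rw [← hc', Algebra.smul_def, map_mul]; rfl
        rw [hH, mem_annPow] at hcr
        rw [mul_assoc]
        exact hcr b hb
      · intro b c hb hc
        rw [add_mul, hb, hc, add_zero]
    have hrH : r ∈ H := by
      rw [hN (N + 1) (Nat.le_succ N)]; exact hr
    apply hprime.ne_top
    rw [hy, Ideal.eq_top_iff_one, Submodule.mem_colon_singleton, Ideal.Quotient.eq_zero_iff_mem.mpr hrH]
    simp

end caseB

section caseA1

variable {R : Type u} [CommRing R] [IsLocalRing R] [IsNoetherianRing R]

theorem regular_of_principal (h1 : ¬ IsArtinianRing R) (b : R)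
    (hb : maximalIdeal R = Ideal.span {b}) : IsRegularLocalRing R ∧ ringKrullDim R = 1 := by
  have hle : ((maximalIdeal R).spanFinrank : WithBot ℕ∞) ≤ 1 := by
    rw [hb]
    have : (Ideal.span {b}).spanFinrank ≤ ({b} : Set R).ncard :=
      Submodule.spanFinrank_span_le_ncard_of_finite (Set.finite_singleton b)
    rw [Set.ncard_singleton] at this
    exact_mod_cast this
  have hdim1 : ringKrullDim R ≤ 1 := (ringKrullDim_le_spanFinrank_maximalIdeal R).trans hle
  have hdim0 : ¬ ringKrullDim R ≤ 0 := by
    intro h0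
    apply h1
    rw [isArtinianRing_iff_krullDimLE_zero]
    exact Ring.krullDimLE_iff.mpr (by exact_mod_cast h0)
  have hdim : ringKrullDim R = 1 := by
    refine le_antisymm hdim1 ?_
    rcases h : ringKrullDim R with _ | n
    · exact absurd (h ▸ bot_le) hdim0
    · rw [h] at hdim0
      have hn : n ≠ 0 := by
        rintro rfl
        exact hdim0 le_rfl
      have : (1 : ℕ∞) ≤ n := Order.one_le_iff_ne_zero.mpr hn
      exact WithBot.coe_le_coe.mpr this
  refine ⟨IsRegularLocalRing.of_spanFinrank_maximalIdeal_le R ?_, hdim⟩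
  rw [hdim]; exact hle

end caseA1

section caseA2

variable {R : Type u} [CommRing R] [IsLocalRing R]

theorem end_key (f : Module.End R (maximalIdeal R)) (b c : maximalIdeal R) :
    (c : R) * (f b : R) = (b : R) * (f c : R) := by
  have h1 : (c : R) • b = (b : R) • c := by
    apply Subtype.ext
    simp [mul_comm]
  have h2 := congrArg (fun z => ((f z : maximalIdeal R) : R)) h1
  simpa using h2

theorem end_comm (x : R) (hx : x ∈ maximalIdeal R) (hreg : IsSMulRegular R x)
    (f g : Module.End R (maximalIdeal R)) : f * g = g * f := by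
  apply LinearMap.ext
  intro b
  apply Subtype.ext
  apply hreg
  apply hreg
  show x • x • ((f (g b) : maximalIdeal R) : R) = x • x • ((g (f b) : maximalIdeal R) : R)
  have e1 := end_key f (g b) ⟨x, hx⟩
  have e2 := end_key g b ⟨x, hx⟩
  have e3 := end_key g (f b) ⟨x, hx⟩
  have e4 := end_key f b ⟨x, hx⟩
  simp only [smul_eq_mul] at *
  calc x * (x * (f (g b) : R)) = x * ((g b : R) * (f ⟨x, hx⟩ : R)) := by rw [e1]
    _ = (x * (g b : R)) * (f ⟨x, hx⟩ : R) := by ring
    _ = ((b : R) * (g ⟨x, hx⟩ : R)) * (f ⟨x, hx⟩ : R) := by rw [e2]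
    _ = ((b : R) * (f ⟨x, hx⟩ : R)) * (g ⟨x, hx⟩ : R) := by ring
    _ = (x * (f b : R)) * (g ⟨x, hx⟩ : R) := by rw [e4]
    _ = x * ((f b : R) * (g ⟨x, hx⟩ : R)) := by ring
    _ = x * (x * (g (f b) : R)) := by rw [e3]

theorem caseA2 [IsNoetherianRing R] (x : R) (hx : x ∈ maximalIdeal R) (hreg : IsSMulRegular R x)
    (φ : Module.End R (maximalIdeal R))
    (hφ : φ ∉ Set.range (algebraMap R (Module.End R (maximalIdeal R)))) :
    ∃ (R' : Type u) (_ : CommRing R') (_ : Algebra R R'), Nontrivial R' ∧ Module.Finite R R' ∧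
      ¬ Function.Bijective (algebraMap R R') ∧
      (∃ n : ℕ, (∀ x : R, algebraMap R R' x = 0 → ∀ a ∈ IsLocalRing.maximalIdeal R ^ n, a * x = 0) ∧
        (∀ y : R', ∀ a ∈ IsLocalRing.maximalIdeal R ^ n, a • y ∈ Set.range (algebraMap R R'))) ∧
      IsLocalRing.maximalIdeal R ∉ associatedPrimes R R' := by
  have hx0 : (⟨x, hx⟩ : maximalIdeal R) ≠ 0 := by
    intro h0
    have hx0 : x = 0 := congrArg Subtype.val h0
    have : (1 : R) = 0 := hreg (by simp [hx0])
    exact one_ne_zero this
  have hann : ∀ ψ : Module.End R (maximalIdeal R), x • ψ = 0 → ψ = 0 := by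
    intro ψ hψ
    apply LinearMap.ext
    intro b
    apply Subtype.ext
    apply hreg
    have := congrArg (fun z : Module.End R (maximalIdeal R) => ((z b : maximalIdeal R) : R)) hψ
    simpa using this
  let inst : CommRing (Module.End R (maximalIdeal R)) :=
    { (inferInstance : Ring (Module.End R (maximalIdeal R))) with mul_comm := end_comm x hx hreg }
  refine ⟨Module.End R (maximalIdeal R), inst, Module.End.instAlgebra R R (maximalIdeal R), ?_, ?_, ?_,
    ⟨1, ?_, ?_⟩, ?_⟩
  · refine ⟨⟨0, 1, fun h => hx0 ?_⟩⟩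
    have := congrArg (fun z : Module.End R (maximalIdeal R) => z ⟨x, hx⟩) h
    simpa using this.symm
  · exact Module.IsNoetherian.finite R (Module.End R (maximalIdeal R))
  · intro hbij
    exact hφ (hbij.2 φ)
  · intro r hr a _
    have hr0 : r = 0 := by
      apply hreg
      have := congrArg (fun z : Module.End R (maximalIdeal R) => ((z ⟨x, hx⟩ : maximalIdeal R) : R)) hr
      simp only [Module.algebraMap_end_apply] at this
      simpa [mul_comm] using this
    rw [hr0, mul_zero]
  · intro ψ a ha
    rw [pow_one] at ha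
    refine ⟨(ψ ⟨a, ha⟩ : R), ?_⟩
    apply LinearMap.ext
    intro b
    apply Subtype.ext
    have := end_key ψ b ⟨a, ha⟩
    simp only [Module.algebraMap_end_apply]
    simpa [mul_comm] using this.symm
  · intro hass
    obtain ⟨hprime, ψ, hψ⟩ := isAssociatedPrime_iff.mp hass
    have hxψ : x ∈ Submodule.colon (⊥ : Submodule R (Module.End R (maximalIdeal R))) {ψ} := hψ ▸ hx
    rw [Submodule.mem_colon_singleton, Submodule.mem_bot] at hxψ
    have hψ0 := hann ψ hxψ
    apply hprime.ne_top
    rw [hψ, Ideal.eq_top_iff_one, Submodule.mem_colon_singleton, hψ0]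
    simp

end caseA2

section main

variable {R : Type u} [CommRing R] [IsLocalRing R] [IsNoetherianRing R]

/-- the map `b ↦ b y / x` -/
noncomputable def phi0 (x y : R) (hreg : IsSMulRegular R x)
    (hxy : ∀ a ∈ maximalIdeal R, ∃ c, a * y = x * c) : maximalIdeal R →ₗ[R] R where
  toFun b := (hxy b b.2).choose
  map_add' b b' := by
    apply hreg
    simp only [smul_eq_mul, mul_add]
    rw [← (hxy b b.2).choose_spec, ← (hxy b' b'.2).choose_spec, ← (hxy _ (b + b').2).choose_spec]
    simp [add_mul]
  map_smul' r b := by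
    apply hreg
    simp only [smul_eq_mul, RingHom.id_apply]
    rw [← (hxy _ (r • b).2).choose_spec, mul_left_comm, ← (hxy b b.2).choose_spec]
    simp [mul_assoc]

omit [IsNoetherianRing R] in
theorem phi0_spec (x y : R) (hreg : IsSMulRegular R x)
    (hxy : ∀ a ∈ maximalIdeal R, ∃ c, a * y = x * c) (b : maximalIdeal R) :
    (b : R) * y = x * phi0 x y hreg hxy b :=
  (hxy b b.2).choose_spec

theorem main (h1 : ¬ IsArtinianRing R) (h2 : ¬ (IsRegularLocalRing R ∧ ringKrullDim R = 1))
    (h3 : LocCoh.depth R R ≤ 1) :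
    ∃ (R' : Type u) (_ : CommRing R') (_ : Algebra R R'), Nontrivial R' ∧ Module.Finite R R' ∧
      ¬ Function.Bijective (algebraMap R R') ∧
      (∃ n : ℕ, (∀ x : R, algebraMap R R' x = 0 → ∀ a ∈ IsLocalRing.maximalIdeal R ^ n, a * x = 0) ∧
        (∀ y : R', ∀ a ∈ IsLocalRing.maximalIdeal R ^ n, a • y ∈ Set.range (algebraMap R R'))) ∧
      IsLocalRing.maximalIdeal R ∉ associatedPrimes R R' := by
  by_cases hex : ∃ x ∈ maximalIdeal R, IsSMulRegular R x
  · obtain ⟨x, hx, hreg⟩ := hex
    have hnr : ∀ y ∈ maximalIdeal R, ¬ IsSMulRegular (QuotSMulTop x R) y := by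
      intro y hy hyreg
      refine not_isWeaklyRegular_pair h3 x y hx hy ?_
      rw [RingTheory.Sequence.isWeaklyRegular_cons_iff]
      refine ⟨hreg, ?_⟩
      rw [RingTheory.Sequence.isWeaklyRegular_cons_iff]
      exact ⟨hyreg, RingTheory.Sequence.IsWeaklyRegular.nil _ _⟩
    have hmem : ∀ r : R, r ∈ x • (⊤ : Submodule R R) ↔ ∃ c, r = x * c := by
      intro r
      rw [Submodule.mem_smul_pointwise_iff_exists]
      constructor
      · rintro ⟨c, _, rfl⟩; exact ⟨c, rfl⟩
      · rintro ⟨c, rfl⟩; exact ⟨c, Submodule.mem_top, rfl⟩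
    haveI : Nontrivial (QuotSMulTop x R) := by
      apply Submodule.Quotient.nontrivial_iff.mpr
      intro htop
      have h1 : (1 : R) ∈ x • (⊤ : Submodule R R) := by rw [htop]; exact Submodule.mem_top
      obtain ⟨c, hc⟩ := (hmem 1).mp h1
      exact (IsLocalRing.mem_maximalIdeal x).mp hx (IsUnit.of_mul_eq_one c hc.symm)
    obtain ⟨z, hz0, hmz⟩ := exists_ne_zero_smul_eq_zero (QuotSMulTop x R) hnr
    obtain ⟨y, rfl⟩ := Submodule.Quotient.mk_surjective _ z
    have hy : ∀ c, y ≠ x * c := by
      intro c hc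
      apply hz0
      rw [Submodule.Quotient.mk_eq_zero]
      exact (hmem y).mpr ⟨c, hc⟩
    have hxy : ∀ a ∈ maximalIdeal R, ∃ c, a * y = x * c := by
      intro a ha
      have := hmz a ha
      rw [← Submodule.Quotient.mk_smul, Submodule.Quotient.mk_eq_zero] at this
      exact (hmem _).mp this
    by_cases hu : ∃ b : maximalIdeal R, IsUnit (phi0 x y hreg hxy b)
    · exfalso
      obtain ⟨b, hb⟩ := hu
      apply h2
      apply regular_of_principal h1 b
      apply le_antisymm
      · intro c hc
        rw [Ideal.mem_span_singleton]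
        obtain ⟨u, hu⟩ := hb
        refine ⟨phi0 x y hreg hxy ⟨c, hc⟩ * (↑u⁻¹ : R), ?_⟩
        have e1 := phi0_spec x y hreg hxy b
        have e2 := phi0_spec x y hreg hxy ⟨c, hc⟩
        have e3 : c * phi0 x y hreg hxy b = b * phi0 x y hreg hxy ⟨c, hc⟩ := by
          apply hreg
          simp only [smul_eq_mul]
          calc x * (c * phi0 x y hreg hxy b) = c * (x * phi0 x y hreg hxy b) := by ring
            _ = c * ((b : R) * y) := by rw [e1]
            _ = (b : R) * (c * y) := by ring
            _ = (b : R) * (x * phi0 x y hreg hxy ⟨c, hc⟩) := by rw [← e2]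
            _ = x * (b * phi0 x y hreg hxy ⟨c, hc⟩) := by ring
        rw [← hu] at e3
        calc c = c * (u : R) * (↑u⁻¹ : R) := by rw [mul_assoc, Units.mul_inv, mul_one]
          _ = (b : R) * phi0 x y hreg hxy ⟨c, hc⟩ * (↑u⁻¹ : R) := by rw [e3]
          _ = (b : R) * (phi0 x y hreg hxy ⟨c, hc⟩ * (↑u⁻¹ : R)) := by ring
      · rw [Ideal.span_le]
        intro c hc
        rw [Set.mem_singleton_iff] at hc
        rw [hc]; exact b.2
    · push Not at hu
      have hmem' : ∀ b, phi0 x y hreg hxy b ∈ maximalIdeal R := fun b =>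
        (IsLocalRing.mem_maximalIdeal _).mpr (hu b)
      refine caseA2 x hx hreg ((phi0 x y hreg hxy).codRestrict (maximalIdeal R) hmem') ?_
      rintro ⟨r, hr⟩
      have := congrArg (fun z : Module.End R (maximalIdeal R) => ((z ⟨x, hx⟩ : maximalIdeal R) : R)) hr
      simp only [Module.algebraMap_end_apply, LinearMap.codRestrict_apply] at this
      have hthis : r * x = phi0 x y hreg hxy ⟨x, hx⟩ := by simpa using this
      have e1 : x * y = x * phi0 x y hreg hxy ⟨x, hx⟩ := phi0_spec x y hreg hxy ⟨x, hx⟩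
      apply hy r
      apply hreg
      simp only [smul_eq_mul]
      rw [e1, ← hthis]
      ring
  · push Not at hex
    obtain ⟨z, hz0, hmz⟩ := exists_ne_zero_smul_eq_zero R hex
    exact caseB h1 z hz0 hmz

end main

end Aux

/-- Let R be a Noetherian local ring which is not Artinian, is not a regular local ring of dimension
one, and has depth at most one. Then there is a finite ring map R → R' with R' ≠ 0, not bijective,
whose kernel and cokernel are killed by a power of the maximal ideal of R, such that the maximal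
ideal of R is not an associated prime of the R-module R'. (This says that the four cases for a
Noetherian local ring — Artinian, regular of dimension one, depth at least two, or admitting such a
map — cover everything; that they are mutually exclusive is not asserted.) -/
theorem result {R : Type u} [CommRing R] [IsLocalRing R] [IsNoetherianRing R]
    (h1 : ¬ IsArtinianRing R) (h2 : ¬ (IsRegularLocalRing R ∧ ringKrullDim R = 1))
    (h3 : LocCoh.depth R R ≤ 1) :
    ∃ (R' : Type u) (_ : CommRing R') (_ : Algebra R R'), Nontrivial R' ∧ Module.Finite R R' ∧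
      ¬ Function.Bijective (algebraMap R R') ∧
      (∃ n : ℕ, (∀ x : R, algebraMap R R' x = 0 → ∀ a ∈ IsLocalRing.maximalIdeal R ^ n, a * x = 0) ∧
        (∀ y : R', ∀ a ∈ IsLocalRing.maximalIdeal R ^ n, a • y ∈ Set.range (algebraMap R R'))) ∧
      IsLocalRing.maximalIdeal R ∉ associatedPrimes R R' := by
  exact Aux.main h1 h2 h3

end Groth.Agent.S2058
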