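import Groth.Statements.S2059
import Mathlib

set_option autoImplicit false
universe u
open CAlg

namespace Groth.Agent.S2059


open Cardinal

/-- Lemma A -/
theorem lemA {k T : Type u} [Field k] [CommRing T] [Algebra k T]
    (hr : Module.rank k T < #k) (M : Ideal T) [hM : M.IsMaximal] :
    Algebra.IsAlgebraic k (T ⧸ M) := by
  letI : Field (T ⧸ M) := Ideal.Quotient.field M
  by_contra hna
  rw [← Algebra.transcendental_iff_not_isAlgebraic] at hna
  have h1 : Module.rank k (T ⧸ M) = #(T ⧸ M) := Algebra.Transcendental.rank_eq_cardinalMk k (T ⧸ M)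
  have h2 : #k ≤ #(T ⧸ M) := Cardinal.mk_le_of_injective (algebraMap k (T ⧸ M)).injective
  have h3 : Module.rank k (T ⧸ M) ≤ Module.rank k T :=
    LinearMap.rank_le_of_surjective (Ideal.Quotient.mkₐ k M).toLinearMap
      (Ideal.Quotient.mkₐ_surjective k M)
  rw [h1] at h3
  exact absurd (lt_of_le_of_lt (h2.trans h3) hr) (lt_irrefl _)

theorem rank_le {k S : Type u} [Field k] [CommRing S] [Algebra k S]
    (s : Set S) (hs : Algebra.adjoin k s = ⊤) [Nonempty s] : Module.rank k S ≤ max #s ℵ₀ := by
  have hsurj : Function.Surjective (MvPolynomial.aeval (R := k) (Subtype.val : s → S)) := by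
    rw [← AlgHom.range_eq_top, ← Algebra.adjoin_range_eq_range_aeval, Subtype.range_coe, hs]
  have h := LinearMap.rank_le_of_surjective
    (MvPolynomial.aeval (R := k) (Subtype.val : s → S)).toLinearMap hsurj
  rw [MvPolynomial.rank_eq, mk_finsupp_nat] at h
  exact h

theorem rank_away_le {k S : Type u} [Field k] [CommRing S] [Algebra k S] (f : S) :
    Module.rank k (Localization.Away f) ≤ ℵ₀ * Module.rank k S := by
  let g : (ℕ →₀ S) →ₗ[k] Localization.Away f :=
    Finsupp.lsum k (fun n : ℕ =>
      ((LinearMap.mulLeft k (IsLocalization.Away.invSelf (S := Localization.Away f) f ^ n)).comp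
        (IsScalarTower.toAlgHom k S (Localization.Away f)).toLinearMap))
  have hsurj : Function.Surjective g := by
    intro y
    obtain ⟨a, ⟨_, ⟨n, rfl⟩⟩, rfl⟩ := IsLocalization.exists_mk'_eq (Submonoid.powers f) y
    refine ⟨Finsupp.single n a, ?_⟩
    simp only [g, Finsupp.lsum_single, LinearMap.comp_apply, LinearMap.mulLeft_apply]
    rw [IsLocalization.eq_mk'_iff_mul_eq]
    simp only [AlgHom.toLinearMap_apply, IsScalarTower.coe_toAlgHom']
    have h1 : IsLocalization.Away.invSelf (S := Localization.Away f) f *
        algebraMap S (Localization.Away f) f = 1 := by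
      rw [mul_comm]; exact IsLocalization.Away.mul_invSelf f
    rw [map_pow]
    calc IsLocalization.Away.invSelf f ^ n * (algebraMap S (Localization.Away f)) a *
          (algebraMap S (Localization.Away f)) f ^ n
        = (IsLocalization.Away.invSelf f * (algebraMap S (Localization.Away f)) f) ^ n *
          (algebraMap S (Localization.Away f)) a := by rw [mul_pow]; ring
      _ = _ := by rw [h1, one_pow, one_mul]
  have h := LinearMap.rank_le_of_surjective g hsurj
  rw [rank_finsupp] at h
  simpa using h

theorem main {k S : Type u} [Field k] [CommRing S] [Algebra k S]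
    (s : Set S) (hs : Algebra.adjoin k s = ⊤) (hcard : Cardinal.mk s < Cardinal.mk k) :
    (∀ (m : Ideal S) [m.IsMaximal], Algebra.IsAlgebraic k (S ⧸ m)) ∧ IsJacobsonRing S := by
  by_cases hfin : s.Finite
  · haveI : Algebra.FiniteType k S := ⟨⟨hfin.toFinset, by simpa using hs⟩⟩
    refine ⟨?_, isJacobsonRing_of_finiteType (A := k)⟩
    intro m hm
    letI : Field (S ⧸ m) := Ideal.Quotient.field m
    haveI : Module.Finite k (S ⧸ m) := finite_of_finite_type_of_isJacobsonRing k (S ⧸ m)
    exact Algebra.IsAlgebraic.of_finite k (S ⧸ m)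
  · have hinf : s.Infinite := hfin
    haveI : Infinite s := hinf.to_subtype
    have hs0 : ℵ₀ ≤ #s := Cardinal.aleph0_le_mk s
    have hk0 : ℵ₀ < #k := lt_of_le_of_lt hs0 hcard
    have hrS : Module.rank k S < #k := by
      refine lt_of_le_of_lt (rank_le s hs) ?_
      rw [max_eq_left hs0]; exact hcard
    refine ⟨fun m hm => lemA hrS m, ?_⟩
    rw [isJacobsonRing_iff_prime_eq]
    intro P hP
    refine le_antisymm ?_ Ideal.le_jacobson
    intro f hf
    by_contra hfP
    -- localize at f
    have hrT : Module.rank k (Localization.Away f) < #k :=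
      lt_of_le_of_lt (rank_away_le f) (Cardinal.mul_lt_of_lt hk0.le hk0 hrS)
    have hdisj : Disjoint (Submonoid.powers f : Set S) (P : Set S) := by
      rw [Set.disjoint_left]
      rintro _ ⟨n, rfl⟩ hn
      exact hfP (hP.mem_of_pow_mem n hn)
    have hPT : (Ideal.map (algebraMap S (Localization.Away f)) P) ≠ ⊤ := by
      have := (IsLocalization.isPrime_of_isPrime_disjoint (Submonoid.powers f)
        (Localization.Away f) P hP hdisj)
      exact this.ne_top
    obtain ⟨M, hM, hPM⟩ := Ideal.exists_le_maximal _ hPT
    have halg : Algebra.IsAlgebraic k (Localization.Away f ⧸ M) := lemA hrT M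
    set m : Ideal S := Ideal.comap (algebraMap S (Localization.Away f)) M with hm
    have hPm : P ≤ m := by
      rw [hm, ← Ideal.map_le_iff_le_comap]; exact hPM
    have hfm : f ∉ m := by
      intro h
      rw [hm, Ideal.mem_comap] at h
      exact hM.ne_top (Ideal.eq_top_of_isUnit_mem _ h (IsLocalization.Away.algebraMap_isUnit f))
    have hmmax : m.IsMaximal := by
      haveI : m.IsPrime := Ideal.comap_isPrime _ _
      rw [Ideal.Quotient.maximal_ideal_iff_isField_quotient]
      -- S ⧸ m embeds in T ⧸ M
      let φ : S ⧸ m →ₐ[k] Localization.Away f ⧸ M :=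
        Ideal.quotientMapₐ M (IsScalarTower.toAlgHom k S (Localization.Away f)) (le_refl _)
      have hφ : Function.Injective φ := by
        exact Ideal.quotientMap_injective' (H := le_refl _) (fun z hz => hz)
      haveI : Algebra.IsAlgebraic k (S ⧸ m) := Algebra.IsAlgebraic.of_injective φ hφ
      haveI : Algebra.IsIntegral k (S ⧸ m) := Algebra.IsAlgebraic.isIntegral
      exact isField_of_isIntegral_of_isField' (Field.toIsField k)
    rw [Ideal.jacobson, Ideal.mem_sInf] at hf
    exact hfm (hf ⟨hPm, hmmax⟩)



/-- Let `k` be a field and `S` a `k`-algebra generated by a set of cardinality smaller than that of `k`.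
Then for every maximal ideal `𝔪` of `S` the residue field `S/𝔪` is algebraic over `k`, and `S` is a
Jacobson ring. -/
theorem result {k S : Type u} [Field k] [CommRing S] [Algebra k S]
    (s : Set S) (hs : Algebra.adjoin k s = ⊤) (hcard : Cardinal.mk s < Cardinal.mk k) :
    (∀ (m : Ideal S) [m.IsMaximal], Algebra.IsAlgebraic k (S ⧸ m)) ∧ IsJacobsonRing S := by
  classical
  exact main s hs hcard

end Groth.Agent.S2059
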