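import Groth.Statements.S2060
import Groth.Agent.Lib.Helper8.SmallExt7

set_option autoImplicit false
universe u
open CAlg

namespace Groth.Agent.S2060

/-- Let `R` be Noetherian, `S` of finite type over `R` and `𝔮` a prime of `S`. Then `R → S` is smooth at
`𝔮` if and only if for every surjection `B' → B` of Artinian local `R`-algebras whose kernel is
principal and killed by the maximal ideal of `B'`, every `R`-algebra map `S → B` under which the
maximal ideal pulls back to `𝔮` lifts to `B'`. -/
theorem result {R S : Type u} [CommRing R] [IsNoetherianRing R]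
    [CommRing S] [Algebra R S] [Algebra.FiniteType R S] (q : Ideal S) [q.IsPrime] :
    Algebra.IsSmoothAt R q ↔
      ∀ (B' B : Type u) [CommRing B'] [CommRing B] [IsLocalRing B'] [IsLocalRing B]
        [IsArtinianRing B'] [IsArtinianRing B] [Algebra R B'] [Algebra R B] (π : B' →ₐ[R] B),
        Function.Surjective π →
        (∃ t : B', RingHom.ker π.toRingHom = Ideal.span {t} ∧
          ∀ a ∈ IsLocalRing.maximalIdeal B', a * t = 0) →
        ∀ g : S →ₐ[R] B, (IsLocalRing.maximalIdeal B).comap g = q →
          ∃ g' : S →ₐ[R] B', π.comp g' = g := by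
  constructor
  · intro hsm B' B _ _ _ _ _ _ _ _ π hπ ht g hg
    obtain ⟨t, hker, hkill⟩ := ht
    refine Groth.Agent.Helper8.SmallExt.exists_lift_of_isSmoothAt q hsm B' B π hπ ?_ g hg
    have htm : t ∈ IsLocalRing.maximalIdeal B' := by
      rw [IsLocalRing.mem_maximalIdeal]
      intro hu
      have h1 : RingHom.ker π.toRingHom = ⊤ := by
        rw [hker]
        exact Ideal.span_singleton_eq_top.2 hu
      have h2 : (1 : B') ∈ RingHom.ker π.toRingHom := h1 ▸ Submodule.mem_top
      rw [RingHom.mem_ker, map_one] at h2
      exact one_ne_zero h2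
    have htt : t * t = 0 := hkill t htm
    refine ⟨2, ?_⟩
    have h3 : RingHom.ker (π : B' →+* B) = Ideal.span {t} := hker
    rw [h3, Ideal.span_singleton_pow, pow_two, htt, Ideal.zero_eq_bot]
    exact Ideal.span_singleton_eq_bot.2 rfl
  · intro h
    exact Groth.Agent.Helper8.SmallExt.isSmoothAt_of_forall_lift q h

end Groth.Agent.S2060
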