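import Groth.Statements.S2065
import Groth.Agent.Lib.Helper2.BE.Forward
import Groth.Agent.S19962


set_option autoImplicit false
universe u
open CAlg

namespace Groth.Agent.S2065

/-- Let `R` be a Noetherian local ring and `0 → R^{n_e} → … → R^{n_1} → R^{n_0}` a complex of finite
free modules, the map `R^{n_{i+1}} → R^{n_i}` being given by the matrix `A i`. The complex is exact
at `R^{n_e}, …, R^{n_1}` if and only if for each `1 ≤ j ≤ e` the matrix of `R^{n_j} → R^{n_{j-1}}`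
has rank `n_j - n_{j+1} + … ± n_e` and its ideal of minors of that size is the unit ideal or
contains a regular sequence of length `j`. -/
theorem result {R : Type u} [CommRing R] [IsLocalRing R] [IsNoetherianRing R]
    (e : ℕ) (he : 1 ≤ e) (n : ℕ → ℕ) (A : (i : ℕ) → Matrix (Fin (n i)) (Fin (n (i + 1))) R)
    (hA : ∀ i, i + 2 ≤ e → A i * A (i + 1) = 0) :
    (LinearMap.ker (A (e - 1)).mulVecLin = ⊥ ∧
        ∀ i, i + 2 ≤ e → LinearMap.ker (A i).mulVecLin = LinearMap.range (A (i + 1)).mulVecLin) ↔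
      ∀ j, 1 ≤ j → j ≤ e →
        (CAlgX.matrixRank (A (j - 1)) : ℤ) = ∑ t ∈ Finset.Icc j e, (-1 : ℤ) ^ (t - j) * (n t : ℤ) ∧
          (CAlgX.detIdeal (A (j - 1)) = ⊤ ∨
            ∃ rs : List R, rs.length = j ∧ (∀ r ∈ rs, r ∈ CAlgX.detIdeal (A (j - 1))) ∧
              RingTheory.Sequence.IsRegular R rs) := by
  classical
  constructor
  · rintro ⟨hlast, hex⟩ j hj1 hj2
    obtain ⟨i, rfl⟩ : ∃ i, j = i + 1 := ⟨j - 1, by omega⟩
    show (CAlgX.matrixRank (A i) : ℤ) = _ ∧ (CAlgX.detIdeal (A i) = ⊤ ∨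
      ∃ rs : List R, rs.length = i + 1 ∧ (∀ r ∈ rs, r ∈ CAlgX.detIdeal (A i)) ∧
        RingTheory.Sequence.IsRegular R rs)
    obtain ⟨ρ, hρ, ⟨x, hxJ, hx⟩, hbot⟩ :=
      Groth.Agent.Helper2.BE.exact_minors e n A hex hlast i (by omega)
    have hne : CAlgX.minorIdeal (A i) ρ ≠ ⊥ := by
      intro h
      rw [h, Ideal.mem_bot] at hxJ
      exact nonZeroDivisors.ne_zero hx hxJ
    have hrank : CAlgX.matrixRank (A i) = ρ :=
      Groth.Agent.Helper2.BE.matrixRank_eq_of (A i) ρ hne hbot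
    have hdet : CAlgX.detIdeal (A i) = CAlgX.minorIdeal (A i) ρ := by
      unfold CAlgX.detIdeal
      rw [hrank]
    refine ⟨by rw [hrank, hρ], ?_⟩
    rw [hdet]
    exact Groth.Agent.Helper2.BE.exists_regular_of_exact e n A hA hex hlast i (by omega) ρ x hxJ hx
  · intro h
    exact Groth.Agent.S19962.result e he n A hA (fun j h1 h2 => (h j h1 h2).1)
      (fun j h1 h2 => (h j h1 h2).2)

end Groth.Agent.S2065
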