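import Groth.Statements.S2069
import Mathlib
-- import your own Groth.Agent.* helpers here

set_option autoImplicit false
universe u
open CAlg

namespace Groth.Agent.S2069

open TensorProduct
namespace Aux

variable {R S M N : Type u} [CommRing R] [CommRing S] [Algebra R S] [AddCommGroup M] [Module R M]
  [AddCommGroup N] [Module S N] [Module R N] [IsScalarTower R S N]

/-- `n ↦ n ⊗ 1` descends to the quotient, `S`-linearly. -/
noncomputable def gMap (q : Ideal R) :
    (N ⧸ (q.map (algebraMap R S) • (⊤ : Submodule S N))) →ₗ[S] N ⊗[R] (R ⧸ q) :=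
  Submodule.liftQ _ ((TensorProduct.AlgebraTensorModule.mk R S N (R ⧸ q)).flip (1 : R ⧸ q)) (by
    rw [Submodule.smul_le]
    intro s hs n _
    rw [LinearMap.mem_ker]
    induction hs using Submodule.span_induction with
    | mem x hx =>
      obtain ⟨a, ha, rfl⟩ := hx
      show (algebraMap R S a • n) ⊗ₜ[R] (1 : R ⧸ q) = 0
      rw [algebraMap_smul, TensorProduct.smul_tmul]
      have : a • (1 : R ⧸ q) = 0 := by
        rw [Algebra.smul_def, mul_one]
        exact Ideal.Quotient.eq_zero_iff_mem.2 ha
      rw [this, tmul_zero]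
    | zero => simp
    | add x y _ _ hx hy => rw [add_smul, map_add, hx, hy, add_zero]
    | smul c x _ hx =>
      rw [smul_eq_mul, mul_smul, map_smul, hx, smul_zero])

lemma gMap_mk (q : Ideal R) (n : N) :
    gMap (S := S) q (Submodule.Quotient.mk n) = n ⊗ₜ[R] (1 : R ⧸ q) := rfl

/-- `R`-linear inverse. -/
noncomputable def fMap (q : Ideal R) :
    N ⊗[R] (R ⧸ q) →ₗ[R] (N ⧸ (q.map (algebraMap R S) • (⊤ : Submodule S N))) :=
  (Submodule.liftQ (q • (⊤ : Submodule R N))
    ((Submodule.mkQ (q.map (algebraMap R S) • (⊤ : Submodule S N))).restrictScalars R) (by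
      rw [Submodule.smul_le]
      intro a ha n _
      rw [LinearMap.mem_ker]
      simp only [LinearMap.coe_restrictScalars, Submodule.mkQ_apply]
      rw [Submodule.Quotient.mk_eq_zero, ← algebraMap_smul S a n]
      exact Submodule.smul_mem_smul (Ideal.mem_map_of_mem _ ha) Submodule.mem_top)) ∘ₗ
    (TensorProduct.tensorQuotEquivQuotSMul N q).toLinearMap

lemma fMap_tmul (q : Ideal R) (n : N) (r : R) :
    fMap (S := S) q (n ⊗ₜ[R] Ideal.Quotient.mk q r) = Submodule.Quotient.mk (r • n) := by
  simp only [fMap, LinearMap.comp_apply, LinearEquiv.coe_coe,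
    TensorProduct.tensorQuotEquivQuotSMul_tmul_mk]
  rfl

lemma fMap_gMap (q : Ideal R) (x : N ⧸ (q.map (algebraMap R S) • (⊤ : Submodule S N))) :
    fMap q (gMap q x) = x := by
  obtain ⟨n, rfl⟩ := Submodule.Quotient.mk_surjective _ x
  rw [gMap_mk, ← map_one (Ideal.Quotient.mk q), fMap_tmul, one_smul]

lemma gMap_fMap (q : Ideal R) (x : N ⊗[R] (R ⧸ q)) : gMap (S := S) q (fMap q x) = x := by
  induction x with
  | zero => simp
  | add x y hx hy => rw [map_add, map_add, hx, hy]
  | tmul n r =>
    obtain ⟨r, rfl⟩ := Ideal.Quotient.mk_surjective r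
    rw [fMap_tmul, gMap_mk, TensorProduct.smul_tmul]
    congr 1
    rw [Algebra.smul_def, mul_one]; rfl

/-- the `S`-linear equivalence `N/qN ≃ N ⊗ R/q`. -/
noncomputable def quotEquiv (q : Ideal R) :
    (N ⧸ (q.map (algebraMap R S) • (⊤ : Submodule S N))) ≃ₗ[S] N ⊗[R] (R ⧸ q) :=
  LinearEquiv.ofBijective (gMap q)
    ⟨Function.LeftInverse.injective (fMap_gMap q), Function.RightInverse.surjective (gMap_fMap q)⟩


section flat
variable [Module.Flat R N]

/-- `a ∉ q` acts injectively on `N ⊗ R/q`. -/
lemma smul_injective_of_not_mem (q : Ideal R) [q.IsPrime] (a : R) (ha : a ∉ q)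
    (η : N ⊗[R] (R ⧸ q)) (h : a • η = 0) : η = 0 := by
  have hinj : Function.Injective (LinearMap.lsmul R (R ⧸ q) a) := by
    intro x y hxy
    simp only [LinearMap.lsmul_apply] at hxy
    rw [Algebra.smul_def, Algebra.smul_def] at hxy
    have hne : algebraMap R (R ⧸ q) a ≠ 0 := by
      rw [Ideal.Quotient.algebraMap_eq, Ne, Ideal.Quotient.eq_zero_iff_mem]; exact ha
    exact mul_left_cancel₀ hne hxy
  have h2 := Module.Flat.lTensor_preserves_injective_linearMap (M := N) _ hinj
  apply h2
  rw [map_zero]
  have : (LinearMap.lsmul R (R ⧸ q) a).lTensor N = LinearMap.lsmul R (N ⊗[R] (R ⧸ q)) a := by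
    apply TensorProduct.ext'
    intro n x
    simp [TensorProduct.tmul_smul]
  rw [this]
  exact h

lemma smul_eq_zero_of_mem (q : Ideal R) (a : R) (ha : a ∈ q)
    (η : N ⊗[R] (R ⧸ q)) : a • η = 0 := by
  induction η with
  | zero => simp
  | add x y hx hy => rw [smul_add, hx, hy, add_zero]
  | tmul n r =>
    rw [← TensorProduct.tmul_smul]
    obtain ⟨r, rfl⟩ := Ideal.Quotient.mk_surjective r
    have : a • (Ideal.Quotient.mk q r) = 0 := by
      rw [Algebra.smul_def, Ideal.Quotient.algebraMap_eq, ← map_mul]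
      exact Ideal.Quotient.eq_zero_iff_mem.2 (q.mul_mem_right _ ha)
    rw [this, tmul_zero]

lemma comap_eq_of_mem_ass (q : Ideal R) [q.IsPrime] (Q : Ideal S)
    (hQ : Q ∈ associatedPrimes S (N ⊗[R] (R ⧸ q))) : Q.comap (algebraMap R S) = q := by
  obtain ⟨hQp, η, hη⟩ := hQ
  ext a
  rw [Ideal.mem_comap]
  constructor
  · intro ha
    by_contra hna
    rw [hη] at ha
    obtain ⟨k, hk⟩ := ha
    rw [Submodule.mem_colon_singleton, Submodule.mem_bot, ← map_pow, algebraMap_smul] at hk
    have h0 := smul_injective_of_not_mem q (a ^ k) (fun h => hna (Ideal.IsPrime.mem_of_pow_mem ‹_› k h)) η hk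
    apply hQp.ne_top
    rw [hη, h0]
    rw [Ideal.radical_eq_top, Ideal.eq_top_iff_one, Submodule.mem_colon_singleton]
    simp
  · intro ha
    rw [hη]
    apply Ideal.le_radical
    rw [Submodule.mem_colon_singleton, Submodule.mem_bot, algebraMap_smul]
    exact smul_eq_zero_of_mem q a ha η


variable [IsNoetherianRing R]

/-- (B') -/
lemma ass_quot_subset (p : Ideal R) (hp : p ∈ associatedPrimes R M) :
    associatedPrimes S (N ⊗[R] (R ⧸ p)) ⊆ associatedPrimes S (N ⊗[R] M) := by
  obtain ⟨_, f, hf⟩ := (isAssociatedPrime_iff_exists_injective_linearMap p M).1 hp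
  apply associatedPrimes.subset_of_injective (f := TensorProduct.AlgebraTensorModule.lTensor S N f)
  rw [TensorProduct.AlgebraTensorModule.coe_lTensor]
  exact Module.Flat.lTensor_preserves_injective_linearMap f hf

omit [IsNoetherianRing R] in
lemma exists_smul_eq_zero (p : Ideal R) [p.IsPrime] (hp : ∀ m : M, p ≠ Submodule.colon ⊥ {m})
    (W : Submodule R M) (hW : ∀ m ∈ W, ∀ a ∈ p, a • m = 0) (η : N ⊗[R] W) :
    ∃ a, a ∉ p ∧ a • η = 0 := by
  induction η with
  | zero => exact ⟨1, fun h => (Ideal.IsPrime.ne_top ‹_›) ((Ideal.eq_top_iff_one _).2 h), by simp⟩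
  | add x y hx hy =>
    obtain ⟨a, ha, hax⟩ := hx
    obtain ⟨b, hb, hby⟩ := hy
    refine ⟨a * b, fun h => (Ideal.IsPrime.mem_or_mem ‹_› h).elim ha hb, ?_⟩
    rw [smul_add, mul_smul a b y, hby, smul_zero, mul_comm, mul_smul b a x, hax, smul_zero, add_zero]
  | tmul n m =>
    by_cases h : ∀ a : R, a • (m : M) = 0 → a ∈ p
    · exfalso
      apply hp m
      ext a
      rw [Submodule.mem_colon_singleton, Submodule.mem_bot]
      exact ⟨fun ha => hW m m.2 a ha, h a⟩
    · push Not at h
      obtain ⟨a, ha, hap⟩ := h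
      refine ⟨a, hap, ?_⟩
      rw [← TensorProduct.tmul_smul]
      have : a • m = 0 := Subtype.ext (by simpa using ha)
      rw [this, tmul_zero]

lemma mem_range_lTensor_torsion (p : Ideal R) (η : N ⊗[R] M) (h : ∀ a ∈ p, a • η = 0) :
    η ∈ LinearMap.range ((Submodule.torsionBySet R M (p : Set R)).subtype.lTensor N) := by
  obtain ⟨T, hT⟩ := (isNoetherianRing_iff_ideal_fg R).1 ‹_› p
  let φ : M →ₗ[R] (T → M) := LinearMap.pi (fun t => LinearMap.lsmul R M (t : R))
  have hex : Function.Exact (Submodule.torsionBySet R M (p : Set R)).subtype φ := by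
    intro m
    constructor
    · intro hm
      refine ⟨⟨m, ?_⟩, rfl⟩
      rw [Submodule.mem_torsionBySet_iff]
      have hall : ∀ a ∈ Ideal.span (T : Set R), a • m = 0 := by
        intro a ha'
        induction ha' using Submodule.span_induction with
        | mem x hx => exact congrFun hm ⟨x, hx⟩
        | zero => simp
        | add x y _ _ hx hy => rw [add_smul, hx, hy, add_zero]
        | smul c x _ hx => rw [smul_eq_mul, mul_smul, hx, smul_zero]
      rintro ⟨a, ha⟩
      exact hall a (by rw [hT]; exact ha)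
    · rintro ⟨w, rfl⟩
      funext t
      have := (Submodule.mem_torsionBySet_iff _ _).1 w.2 ⟨(t : R), by
        show (t : R) ∈ p
        rw [← hT]; exact Ideal.subset_span t.2⟩
      simpa [φ] using this
  have hex2 := Module.Flat.lTensor_exact N hex
  rw [LinearMap.mem_range]
  apply (hex2 η).1
  classical
  have hinj := (TensorProduct.piRight R R N (fun _ : T => M)).injective
  apply hinj
  rw [map_zero]
  funext t
  have key : ∀ ζ : N ⊗[R] M, (TensorProduct.piRight R R N (fun _ : T => M))
      ((φ.lTensor N) ζ) t = (t : R) • ζ := by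
    intro ζ
    induction ζ with
    | zero => simp
    | add x y hx hy => simp only [map_add, Pi.add_apply, hx, hy, smul_add]
    | tmul n m => simp [φ, TensorProduct.tmul_smul]
  rw [key]
  exact h _ (by rw [← hT]; exact Ideal.subset_span t.2)

/-- (C1) -/
lemma ass_tensor_subset : associatedPrimes R (N ⊗[R] M) ⊆ associatedPrimes R M := by
  intro p hp
  obtain ⟨hpp, η, hη⟩ := (isAssociatedPrime_iff (M := N ⊗[R] M)).1 hp
  by_contra hcon
  have hne : ∀ m : M, p ≠ Submodule.colon ⊥ {m} := fun m hm =>
    hcon ((isAssociatedPrime_iff (M := M)).2 ⟨hpp, m, hm⟩)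
  have hk : ∀ a ∈ p, a • η = 0 := by
    intro a ha
    rw [hη, Submodule.mem_colon_singleton, Submodule.mem_bot] at ha
    exact ha
  obtain ⟨η', rfl⟩ := mem_range_lTensor_torsion p η hk
  obtain ⟨a, hap, ha⟩ := exists_smul_eq_zero (N := N) p hne _ (fun m hm a ha =>
    (Submodule.mem_torsionBySet_iff _ _).1 hm ⟨a, ha⟩) η'
  apply hap
  rw [hη, Submodule.mem_colon_singleton, Submodule.mem_bot, ← map_smul, ha, map_zero]


/-- (C2) -/
lemma exists_prime_of_finite (X : Type u) [AddCommGroup X] [Module R X] [hX : Module.Finite R X] :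
    ∀ P ∈ associatedPrimes S (N ⊗[R] X), ∃ q : PrimeSpectrum R,
      P ∈ associatedPrimes S (N ⊗[R] (R ⧸ q.1)) := by
  induction hX using IsNoetherianRing.induction_on_isQuotientEquivQuotientPrime (A := R) with
  | subsingleton X =>
    intro P hP
    rw [associatedPrimes.eq_empty_of_subsingleton] at hP
    exact hP.elim
  | quotient X q e =>
    intro P hP
    refine ⟨q, ?_⟩
    rw [← LinearEquiv.AssociatedPrimes.eq
      (TensorProduct.AlgebraTensorModule.congr (LinearEquiv.refl S N) e)]
    exact hP
  | exact X₁ X₂ X₃ f g hf hg hfg h₁ h₃ =>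
    intro P hP
    have hinj : Function.Injective (TensorProduct.AlgebraTensorModule.lTensor S N f) := by
      rw [TensorProduct.AlgebraTensorModule.coe_lTensor]
      exact Module.Flat.lTensor_preserves_injective_linearMap f hf
    have hex : Function.Exact (TensorProduct.AlgebraTensorModule.lTensor S N f)
        (TensorProduct.AlgebraTensorModule.lTensor S N g) := by
      rw [TensorProduct.AlgebraTensorModule.coe_lTensor, TensorProduct.AlgebraTensorModule.coe_lTensor]
      exact Module.Flat.lTensor_exact N hfg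
    rcases associatedPrimes.subset_union_of_exact hinj hex hP with h | h
    · exact h₁ P h
    · exact h₃ P h

theorem main :
    associatedPrimes S (N ⊗[R] M) =
      ⋃ p ∈ associatedPrimes R M,
        associatedPrimes S (N ⧸ p.map (algebraMap R S) • (⊤ : Submodule S N)) := by
  ext P
  simp only [Set.mem_iUnion, exists_prop]
  constructor
  · intro hP
    have hPp : P.IsPrime := hP.1
    -- finite submodule
    obtain ⟨hPp', ξ, hξ⟩ := hP
    obtain ⟨M₁, hM₁, hsub⟩ := TensorProduct.exists_finite_submodule_right_of_setFinite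
      (M := N) ({ξ} : Set (N ⊗[R] M)) (Set.finite_singleton ξ)
    obtain ⟨ξ₁, hξ₁⟩ := hsub (Set.mem_singleton ξ)
    have hinj : Function.Injective (TensorProduct.AlgebraTensorModule.lTensor S N M₁.subtype) := by
      rw [TensorProduct.AlgebraTensorModule.coe_lTensor]
      exact Module.Flat.lTensor_preserves_injective_linearMap _ M₁.injective_subtype
    have hP₁ : P ∈ associatedPrimes S (N ⊗[R] M₁) := by
      refine ⟨hPp, ξ₁, ?_⟩
      rw [hξ]
      congr 1
      ext s
      rw [Submodule.mem_colon_singleton, Submodule.mem_bot, Submodule.mem_colon_singleton,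
        Submodule.mem_bot, ← hξ₁]
      have : s • (LinearMap.lTensor N M₁.subtype) ξ₁ =
          (TensorProduct.AlgebraTensorModule.lTensor S N M₁.subtype) (s • ξ₁) := by
        rw [map_smul]; rfl
      rw [this]
      constructor
      · intro h; exact hinj (by rw [h, map_zero])
      · intro h; rw [h, map_zero]
    obtain ⟨q, hq⟩ := exists_prime_of_finite (S := S) (N := N) M₁ P hP₁
    have hcomap := comap_eq_of_mem_ass q.1 P hq
    refine ⟨q.1, ?_, ?_⟩
    · -- q ∈ Ass_R(M)
      apply ass_tensor_subset (N := N)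
      refine ⟨q.2, ξ, ?_⟩
      rw [← hcomap, hξ]
      ext a
      rw [Ideal.mem_comap]
      constructor
      · rintro ⟨k, hk⟩
        refine ⟨k, ?_⟩
        rw [Submodule.mem_colon_singleton, Submodule.mem_bot] at hk ⊢
        rw [← map_pow, algebraMap_smul] at hk
        exact hk
      · rintro ⟨k, hk⟩
        refine ⟨k, ?_⟩
        rw [Submodule.mem_colon_singleton, Submodule.mem_bot] at hk ⊢
        rw [← map_pow, algebraMap_smul]
        exact hk
    · rw [LinearEquiv.AssociatedPrimes.eq (quotEquiv (S := S) (N := N) q.1)]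
      exact hq
  · rintro ⟨p, hp, hP⟩
    rw [LinearEquiv.AssociatedPrimes.eq (quotEquiv (S := S) (N := N) p)] at hP
    exact ass_quot_subset p hp hP

end flat

end Aux

open TensorProduct in
/-- Let `R → S` be a ring map, `M` an `R`-module and `N` an `S`-module flat over `R`. Then a prime of
`S` is associated to `N ⊗_R M` if and only if it is associated to `N/𝔭N` for some prime `𝔭` of `R`
associated to `M`. -/
theorem result {R S M N : Type u} [CommRing R] [IsNoetherianRing R] [CommRing S]
    [Algebra R S] [AddCommGroup M] [Module R M] [AddCommGroup N] [Module S N] [Module R N]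
    [IsScalarTower R S N] [Module.Flat R N] :
    associatedPrimes S (N ⊗[R] M) =
      ⋃ p ∈ associatedPrimes R M, associatedPrimes S (N ⧸ p.map (algebraMap R S) • (⊤ : Submodule S N)) := by
  exact Aux.main

end Groth.Agent.S2069
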