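import Groth.Statements.S2071
import Mathlib

set_option autoImplicit false
universe u
open CAlg

namespace Groth.Agent.S2071

section
open Polynomial

lemma alg_of_pow_eq_one {P M : Type*} [Field P] [Field M] [Algebra P M] (ζ : M) (n : ℕ) (hn : 0 < n)
    (h : ζ ^ n = 1) : IsAlgebraic P ζ :=
  ⟨X ^ n - C 1, X_pow_sub_C_ne_zero hn 1, by simp [h]⟩

lemma core {P M : Type*} [Field P] [Field M] [Algebra P M] (U U' : M) (hne : U ≠ U')
    (T : Set M) (h0 : (0 : M) ∈ T) (h1 : (1 : M) ∈ T)
    (hT : ∀ t ∈ T, U + t ≠ 0 ∧ ∃ n : ℕ, 0 < n ∧ (U' + t) ^ n = (U + t) ^ n) :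
    IsAlgebraic P U ∧ IsAlgebraic P U' ∧ ∀ t ∈ T, IsAlgebraic P t := by
  -- ζ_t
  have hζ : ∀ t ∈ T, IsAlgebraic P ((U' + t) / (U + t)) ∧ (U' + t) / (U + t) - 1 ≠ 0 ∧
      U + t = (U' - U) / ((U' + t) / (U + t) - 1) := by
    intro t ht
    obtain ⟨hnz, n, hn, hpow⟩ := hT t ht
    have h1 : ((U' + t) / (U + t)) ^ n = 1 := by
      rw [div_pow, hpow, div_self (pow_ne_zero n hnz)]
    have h2 : (U' + t) / (U + t) - 1 ≠ 0 := by
      intro h
      rw [sub_eq_zero, div_eq_one_iff_eq hnz] at h
      exact hne (add_right_cancel h).symm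
    refine ⟨alg_of_pow_eq_one _ n hn h1, h2, ?_⟩
    rw [eq_div_iff h2]
    field_simp
    ring
  obtain ⟨a0, b0, c0⟩ := hζ 0 h0
  obtain ⟨a1, b1, c1⟩ := hζ 1 h1
  set w := U' - U with hw
  set z0 := (U' + 0) / (U + 0) - 1 with hz0
  set z1 := (U' + 1) / (U + 1) - 1 with hz1
  have hz0a : IsAlgebraic P z0 := a0.sub isAlgebraic_one
  have hz1a : IsAlgebraic P z1 := a1.sub isAlgebraic_one
  have hw1 : w * (1 / z1 - 1 / z0) = 1 := by
    have : (U + 1) - (U + 0) = 1 := by ring
    rw [c0, c1] at this
    calc w * (1 / z1 - 1 / z0) = w / z1 - w / z0 := by ring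
      _ = 1 := this
  have hwa : IsAlgebraic P w := by
    have : w = (1 / z1 - 1 / z0)⁻¹ := eq_inv_of_mul_eq_one_left hw1
    rw [this]
    have hx : IsAlgebraic P (1 / z1 - 1 / z0) := by
      rw [one_div, one_div]; exact hz1a.inv.sub hz0a.inv
    exact hx.inv
  have hUa : IsAlgebraic P U := by
    have : U = w / z0 := by rw [← c0]; ring
    rw [this, div_eq_mul_inv]
    exact hwa.mul hz0a.inv
  refine ⟨hUa, ?_, ?_⟩
  · have : U' = U + w := by rw [hw]; ring
    rw [this]; exact hUa.add hwa
  · intro t ht
    obtain ⟨at_, bt, ct⟩ := hζ t ht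
    have : t = w / ((U' + t) / (U + t) - 1) - U := by rw [← ct]; ring
    rw [this, div_eq_mul_inv]
    exact (hwa.mul (at_.sub isAlgebraic_one).inv).sub hUa

lemma char0_contra {M : Type*} [Field M] [CharZero M] (U U' : M) (hne : U ≠ U')
    (hT : ∀ a : ℚ, U + (a : M) ≠ 0 ∧ ∃ n : ℕ, 0 < n ∧ (U' + a) ^ n = (U + a) ^ n) : False := by
  have hcore := core (P := ℚ) U U' hne (Set.range ((↑) : ℚ → M)) ⟨0, by simp⟩ ⟨1, by simp⟩
    (by rintro _ ⟨a, rfl⟩; exact hT a)
  obtain ⟨hU, hU', -⟩ := hcore
  let F : IntermediateField ℚ M := IntermediateField.adjoin ℚ {U, U'}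
  haveI : FiniteDimensional ℚ F := by
    apply IntermediateField.finiteDimensional_adjoin
    intro x hx
    rcases hx with rfl | rfl
    · exact hU.isIntegral
    · exact hU'.isIntegral
  haveI : NumberField F := ⟨⟩
  have hUF : U ∈ F := IntermediateField.subset_adjoin ℚ _ (by simp)
  have hU'F : U' ∈ F := IntermediateField.subset_adjoin ℚ _ (by simp)
  let ζ : ℚ → F := fun a => (⟨U', hU'F⟩ + (a : F)) / (⟨U, hUF⟩ + (a : F))
  have hζval : ∀ a : ℚ, ((ζ a : F) : M) = (U' + a) / (U + a) := by
    intro a; simp [ζ]
  have hζinj : Function.Injective ζ := by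
    intro a b hab
    have h := congrArg (fun x : F => (x : M)) hab
    simp only [hζval] at h
    rw [div_eq_div_iff (hT a).1 (hT b).1] at h
    have h2 : (U' - U) * ((b : M) - a) = 0 := by linear_combination h
    rcases mul_eq_zero.mp h2 with h3 | h3
    · exact absurd (sub_eq_zero.mp h3).symm hne
    · exact (Rat.cast_injective (sub_eq_zero.mp h3)).symm
  have hfin := NumberField.Embeddings.finite_of_norm_le F ℂ 1
  have hmem : ∀ a : ℚ, ζ a ∈ {x : F | IsIntegral ℤ x ∧ ∀ φ : F →+* ℂ, ‖φ x‖ ≤ 1} := by
    intro a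
    obtain ⟨hnz, n, hn, hpow⟩ := hT a
    have h1 : (ζ a) ^ n = 1 := by
      apply Subtype.ext
      push_cast
      rw [hζval, div_pow, hpow, div_self (pow_ne_zero n hnz)]
    refine ⟨⟨X ^ n - C 1, monic_X_pow_sub_C 1 hn.ne', by simp [h1]⟩, fun φ => ?_⟩
    have : (φ (ζ a)) ^ n = 1 := by rw [← map_pow, h1, map_one]
    exact (Complex.norm_eq_one_of_pow_eq_one this hn.ne').le
  exact (Set.infinite_of_injective_forall_mem hζinj hmem).not_finite hfin

/-- existence of a second root and transfer of power relations -/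
lemma second_root {k k' : Type u} [Field k] [Field k'] [Algebra k k'] (u : k')
    (hsep : IsSeparable k u) (hint : IsIntegral k u) (hu : u ∉ (algebraMap k k').range) :
    ∃ U' : AlgebraicClosure k', U' ≠ algebraMap k' (AlgebraicClosure k') u ∧
      ∀ (a c : k) (n : ℕ), (u + algebraMap k k' a) ^ n = algebraMap k k' c →
        (U' + algebraMap k (AlgebraicClosure k') a) ^ n = algebraMap k (AlgebraicClosure k') c := by
  classical
  have hdeg : 2 ≤ (minpoly k u).natDegree := (minpoly.two_le_natDegree_iff hint).mpr hu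
  have hsplit : Splits ((minpoly k u).map (algebraMap k (AlgebraicClosure k'))) :=
    IsAlgClosed.splits _
  have hcard := card_rootSet_eq_natDegree (K := AlgebraicClosure k') hsep hsplit
  have hUmem : algebraMap k' (AlgebraicClosure k') u ∈ (minpoly k u).rootSet (AlgebraicClosure k') := by
    rw [mem_rootSet]
    refine ⟨minpoly.ne_zero hint, ?_⟩
    rw [aeval_algebraMap_apply, minpoly.aeval, map_zero]
  have h2 : 1 < Fintype.card ((minpoly k u).rootSet (AlgebraicClosure k')) := by
    rw [hcard]; omega
  obtain ⟨⟨U', hU'mem⟩, hU'ne⟩ := Fintype.exists_ne_of_one_lt_card h2 ⟨_, hUmem⟩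
  refine ⟨U', fun h => hU'ne (Subtype.ext h), ?_⟩
  intro a c n hn
  have h0 : aeval u ((X + C a) ^ n - C c : k[X]) = 0 := by
    simp [hn]
  obtain ⟨h, hh⟩ := minpoly.dvd k u h0
  have h1 : aeval U' ((X + C a) ^ n - C c : k[X]) = 0 := by
    rw [hh, map_mul, (mem_rootSet.mp hU'mem).2, zero_mul]
  simpa [sub_eq_zero] using h1

theorem main {k k' : Type u} [Field k] [Field k'] [Algebra k k'] :
    (∀ x : k', ∃ n : ℕ, 0 < n ∧ x ^ n ∈ Set.range (algebraMap k k')) ↔
      Function.Surjective (algebraMap k k') ∨
        ∃ p : ℕ, p.Prime ∧ CharP k' p ∧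
          (IsPurelyInseparable k k' ∨ Algebra.IsAlgebraic (⊥ : Subfield k') k') := by
  constructor
  · intro H
    by_cases hsurj : Function.Surjective (algebraMap k k')
    · exact Or.inl hsurj
    right
    haveI halg : Algebra.IsAlgebraic k k' := ⟨fun x => by
      obtain ⟨n, hn, a, ha⟩ := H x
      exact ⟨X ^ n - C a, X_pow_sub_C_ne_zero hn a, by simp [ha]⟩⟩
    obtain ⟨p, hp⟩ := ExpChar.exists k
    by_cases hpi : IsPurelyInseparable k k'
    · cases hp with
      | zero =>
        exfalso
        haveI : Algebra.IsSeparable k k' := inferInstance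
        exact hsurj (IsPurelyInseparable.surjective_algebraMap_of_isSeparable k k')
      | prime hprime =>
        haveI : CharP k' p := charP_of_injective_algebraMap (algebraMap k k').injective p
        exact ⟨p, hprime, inferInstance, Or.inl hpi⟩
    · rw [isPurelyInseparable_iff] at hpi
      simp only [not_forall, not_and] at hpi
      obtain ⟨u, hu⟩ := hpi
      have hint : IsIntegral k u := (halg.isAlgebraic u).isIntegral
      have hu' := hu hint
      obtain ⟨hsep, hnot⟩ := hu'
      obtain ⟨U', hU'ne, htrans⟩ := second_root u hsep hint hnot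
      -- common facts
      have hT : ∀ a : k, algebraMap k' (AlgebraicClosure k') u + algebraMap k (AlgebraicClosure k') a ≠ 0 ∧
          ∃ n : ℕ, 0 < n ∧ (U' + algebraMap k (AlgebraicClosure k') a) ^ n =
            (algebraMap k' (AlgebraicClosure k') u + algebraMap k (AlgebraicClosure k') a) ^ n := by
        intro a
        constructor
        · intro h0
          rw [IsScalarTower.algebraMap_apply k k' (AlgebraicClosure k'), ← map_add] at h0
          have := (algebraMap k' (AlgebraicClosure k')).injective (h0.trans (map_zero _).symm)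
          apply hnot
          exact ⟨-a, by rw [map_neg]; exact (eq_neg_of_add_eq_zero_left this).symm⟩
        · obtain ⟨n, hn, c, hc⟩ := H (u + algebraMap k k' a)
          refine ⟨n, hn, ?_⟩
          rw [htrans a c n hc.symm, IsScalarTower.algebraMap_apply k k' (AlgebraicClosure k') a,
            ← map_add, ← map_pow, ← hc, ← IsScalarTower.algebraMap_apply]
      cases hp with
      | zero =>
        exfalso
        haveI : CharZero k' := charZero_of_injective_algebraMap (algebraMap k k').injective
        haveI : CharZero (AlgebraicClosure k') :=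
          charZero_of_injective_algebraMap (algebraMap k' (AlgebraicClosure k')).injective
        refine char0_contra (algebraMap k' (AlgebraicClosure k') u) U' (Ne.symm hU'ne) ?_
        intro a
        have := hT (a : k)
        rwa [map_ratCast] at this
      | prime hprime =>
        haveI : CharP k' p := charP_of_injective_algebraMap (algebraMap k k').injective p
        refine ⟨p, hprime, inferInstance, Or.inr ?_⟩
        haveI : IsScalarTower (⊥ : Subfield k') k' (AlgebraicClosure k') := inferInstance
        have hcore := core (P := (⊥ : Subfield k')) (algebraMap k' (AlgebraicClosure k') u) U'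
          (Ne.symm hU'ne) (Set.range (algebraMap k (AlgebraicClosure k'))) ⟨0, by simp⟩ ⟨1, by simp⟩
          (by rintro _ ⟨a, rfl⟩; exact hT a)
        obtain ⟨-, -, hTalg⟩ := hcore
        refine ⟨fun x => ?_⟩
        obtain ⟨n, hn, a, ha⟩ := H x
        have h1 : IsAlgebraic (⊥ : Subfield k') (algebraMap k (AlgebraicClosure k') a) :=
          hTalg _ ⟨a, rfl⟩
        rw [IsScalarTower.algebraMap_apply k k' (AlgebraicClosure k'),
          isAlgebraic_algebraMap_iff (algebraMap k' (AlgebraicClosure k')).injective, ha] at h1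
        exact h1.of_pow hn
  · rintro (hsurj | ⟨p, hp, hchar, hpi | halg⟩)
    · intro x
      obtain ⟨a, rfl⟩ := hsurj x
      exact ⟨1, one_pos, a, by simp⟩
    · intro x
      haveI : CharP k p := (RingHom.charP_iff (algebraMap k k') (algebraMap k k').injective p).mpr hchar
      haveI : ExpChar k p := ExpChar.prime hp
      obtain ⟨n, a, ha⟩ := IsPurelyInseparable.pow_mem k p x
      exact ⟨p ^ n, pow_pos hp.pos n, a, ha⟩
    · intro x
      by_cases hx0 : x = 0
      · exact ⟨1, one_pos, 0, by simp [hx0]⟩
      haveI : Fact p.Prime := ⟨hp⟩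
      letI := Subfield.fintypeBot k' p
      have hx : IsAlgebraic (⊥ : Subfield k') x := halg.isAlgebraic x
      let L := IntermediateField.adjoin (⊥ : Subfield k') {x}
      haveI : FiniteDimensional (⊥ : Subfield k') L :=
        IntermediateField.adjoin.finiteDimensional hx.isIntegral
      haveI : Finite L := Module.finite_of_finite (⊥ : Subfield k')
      letI : Fintype L := Fintype.ofFinite L
      let xL : L := ⟨x, IntermediateField.mem_adjoin_simple_self _ x⟩
      have hxL : xL ≠ 0 := fun h => hx0 (congrArg Subtype.val h)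
      have h1 := FiniteField.pow_card_sub_one_eq_one xL hxL
      have h2 : x ^ (Fintype.card L - 1) = 1 := by
        have := congrArg (fun y : L => (y : k')) h1
        simpa [xL] using this
      refine ⟨Fintype.card L - 1, ?_, 1, by rw [map_one, h2]⟩
      have := Fintype.one_lt_card (α := L)
      omega


end


/-- For a field extension `k'/k`, every element of `k'` has a positive power in `k` if and only if
either `k' = k`, or the characteristic is a prime `p` and either `k'/k` is purely inseparable or
`k'` is algebraic over its prime field. -/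
theorem result {k k' : Type u} [Field k] [Field k'] [Algebra k k'] :
    (∀ x : k', ∃ n : ℕ, 0 < n ∧ x ^ n ∈ Set.range (algebraMap k k')) ↔
      Function.Surjective (algebraMap k k') ∨
        ∃ p : ℕ, p.Prime ∧ CharP k' p ∧
          (IsPurelyInseparable k k' ∨ Algebra.IsAlgebraic (⊥ : Subfield k') k') := by
  classical
  exact main

end Groth.Agent.S2071
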