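import Groth.Statements.S2073
import Mathlib

set_option autoImplicit false
universe u
open CAlg

namespace Groth.Agent.S2073

section
open TensorProduct MvPolynomial

/-- scaling automorphism of a polynomial ring over a field -/
theorem scale_bijective {K : Type*} [Field K] {d : ℕ} (c : Fin d → K) (hc : ∀ i, c i ≠ 0) :
    Function.Bijective (aeval (R := K) (fun i => C (c i) * X i) :
      MvPolynomial (Fin d) K →ₐ[K] MvPolynomial (Fin d) K) := by
  set θ : MvPolynomial (Fin d) K →ₐ[K] MvPolynomial (Fin d) K := aeval (fun i => C (c i) * X i)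
  set θ' : MvPolynomial (Fin d) K →ₐ[K] MvPolynomial (Fin d) K := aeval (fun i => C (c i)⁻¹ * X i)
  have h1 : θ'.comp θ = AlgHom.id K _ := by
    apply MvPolynomial.algHom_ext
    intro i
    simp only [θ, θ', AlgHom.comp_apply, aeval_X, map_mul, aeval_C, AlgHom.id_apply]
    rw [algebraMap_eq, ← mul_assoc, ← C_mul, mul_inv_cancel₀ (hc i), C_1, one_mul]
  have h2 : θ.comp θ' = AlgHom.id K _ := by
    apply MvPolynomial.algHom_ext
    intro i
    simp only [θ, θ', AlgHom.comp_apply, aeval_X, map_mul, aeval_C, AlgHom.id_apply]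
    rw [algebraMap_eq, ← mul_assoc, ← C_mul, inv_mul_cancel₀ (hc i), C_1, one_mul]
  constructor
  · intro a b hab
    have := congrArg θ' hab
    rwa [← AlgHom.comp_apply, ← AlgHom.comp_apply, h1] at this
  · intro b
    exact ⟨θ' b, by rw [← AlgHom.comp_apply, h2]; rfl⟩



theorem setup {R S : Type u} [CommRing R] [IsDomain R] [CommRing S] [Algebra R S]
    [Algebra.FiniteType R S] (hinj : Function.Injective (algebraMap R S)) :
    ∃ (d : ℕ) (y : Fin d → S) (g : MvPolynomial (Fin d) (FractionRing R) →ₐ[FractionRing R]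
      (FractionRing R) ⊗[R] S),
      Function.Injective g ∧ g.IsIntegral ∧
      ∀ i, g (X i) = (Algebra.TensorProduct.includeRight : S →ₐ[R] (FractionRing R) ⊗[R] S) (y i) := by
  classical
  let K := FractionRing R
  let T := K ⊗[R] S
  let ι : S →ₐ[R] T := Algebra.TensorProduct.includeRight
  have hloc : IsLocalizedModule (nonZeroDivisors R) (TensorProduct.mk R K S 1) := inferInstance
  have hker : ∀ s : S, ι s = 0 → ∃ r : R, r ≠ 0 ∧ r • s = 0 := by
    intro s hs
    have hs' : TensorProduct.mk R K S 1 s = TensorProduct.mk R K S 1 0 := by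
      rw [map_zero]; exact hs
    obtain ⟨c, hc⟩ := IsLocalizedModule.exists_of_eq (S := nonZeroDivisors R) hs'
    exact ⟨c, nonZeroDivisors.coe_ne_zero c, by simpa [Submonoid.smul_def] using hc⟩
  have hsurjT : ∀ t : T, ∃ (s : S) (c : R), c ≠ 0 ∧ (algebraMap R K c) • t = ι s := by
    intro t
    obtain ⟨⟨s, c⟩, hsc⟩ := IsLocalizedModule.surj (nonZeroDivisors R) (TensorProduct.mk R K S 1) t
    refine ⟨s, c, nonZeroDivisors.coe_ne_zero c, ?_⟩
    rw [algebraMap_smul]
    exact hsc
  have : Nontrivial T := by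
    refine ⟨⟨1, 0, fun h => ?_⟩⟩
    have : ι 1 = 0 := by rw [map_one]; exact h
    obtain ⟨r, hr, hr0⟩ := hker 1 this
    rw [Algebra.smul_def, mul_one] at hr0
    exact hr (hinj (by rw [hr0, map_zero]))
  obtain ⟨d, g, hginj, hgint⟩ := exists_integral_inj_algHom_of_fg K T
  choose y c hc hy using fun i : Fin d => hsurjT (g (X i))
  have hcK : ∀ i, algebraMap R K (c i) ≠ 0 := fun i h =>
    hc i (IsFractionRing.injective R K (by rw [h, map_zero]))
  let θ : MvPolynomial (Fin d) K →ₐ[K] MvPolynomial (Fin d) K :=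
    aeval (fun i => C (algebraMap R K (c i)) * X i)
  have hθ : Function.Bijective θ := scale_bijective _ hcK
  refine ⟨d, y, g.comp θ, ?_, ?_, ?_⟩
  · rw [AlgHom.coe_comp]
    exact hginj.comp hθ.1
  · have : (g.comp θ).toRingHom = g.toRingHom.comp θ.toRingHom := rfl
    show (g.comp θ).toRingHom.IsIntegral
    rw [this]
    exact RingHom.IsIntegral.trans _ _ (RingHom.isIntegral_of_surjective _ hθ.2) hgint
  · intro i
    rw [AlgHom.comp_apply]
    show g (aeval _ (X i)) = _
    rw [aeval_X, map_mul, ← hy i, ← algebraMap_eq, AlgHom.commutes, ← Algebra.smul_def]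


theorem integral_multiple {R S : Type u} [CommRing R] [IsDomain R] [CommRing S] [Algebra R S]
    (d : ℕ) (y : Fin d → S)
    (g : MvPolynomial (Fin d) (FractionRing R) →ₐ[FractionRing R] (FractionRing R) ⊗[R] S)
    (hgint : g.IsIntegral)
    (hgy : ∀ i, g (X i) =
      (Algebra.TensorProduct.includeRight : S →ₐ[R] (FractionRing R) ⊗[R] S) (y i))
    (hker : ∀ s : S, (Algebra.TensorProduct.includeRight : S →ₐ[R] (FractionRing R) ⊗[R] S) s = 0 →
      ∃ r : R, r ≠ 0 ∧ r • s = 0)
    (s : S) : ∃ f : R, f ≠ 0 ∧ IsIntegral (Algebra.adjoin R (Set.range y)) (f • s) := by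
  classical
  let K := FractionRing R
  let T := K ⊗[R] S
  let ι : S →ₐ[R] T := Algebra.TensorProduct.includeRight
  let A := MvPolynomial (Fin d) R
  let AK := MvPolynomial (Fin d) K
  let _ : Algebra A AK := MvPolynomial.algebraMvPolynomial
  have : IsLocalization ((nonZeroDivisors R).map (C (σ := Fin d))) AK :=
    MvPolynomial.isLocalization (nonZeroDivisors R) K
  let _ : Algebra AK T := g.toRingHom.toAlgebra
  let _ : Algebra A T := (g.toRingHom.comp (algebraMap A AK)).toAlgebra
  have : IsScalarTower A AK T := IsScalarTower.of_algebraMap_eq (fun _ => rfl)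
  have hx : IsIntegral AK (ι s) := hgint (ι s)
  obtain ⟨⟨m, c, hc, rfl⟩, hm⟩ := IsIntegral.exists_multiple_integral_of_isLocalization
    ((nonZeroDivisors R).map (C (σ := Fin d))) (ι s) hx
  let φ : A →+* S := (aeval y : A →ₐ[R] S).toRingHom
  have hφ : algebraMap A T = ι.toRingHom.comp φ := by
    apply MvPolynomial.ringHom_ext
    · intro r
      show g (MvPolynomial.map (algebraMap R K) (C r)) = ι (aeval y (C r))
      rw [map_C, ← algebraMap_eq, AlgHom.commutes, aeval_C, AlgHom.commutes]
      exact (IsScalarTower.algebraMap_apply R K T r).symm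
    · intro i
      show g (MvPolynomial.map (algebraMap R K) (X i)) = ι (aeval y (X i))
      rw [map_X, aeval_X, hgy]
  have hms : (⟨C (c : R), ⟨c, hc, rfl⟩⟩ : (nonZeroDivisors R).map (C (σ := Fin d))) • ι s
      = ι (c • s) := by
    show algebraMap A T (C c) * ι s = _
    rw [hφ]
    show ι (aeval y (C c)) * ι s = _
    rw [aeval_C, ← map_mul, Algebra.smul_def]
  rw [hms] at hm
  obtain ⟨q, hq_monic, hq⟩ := hm
  rw [hφ] at hq
  have hq' : ι (Polynomial.eval₂ φ (c • s) q) = 0 := by
    have := Polynomial.hom_eval₂ q φ ι.toRingHom (c • s)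
    rw [← hq]
    exact this
  obtain ⟨r, hr, hr0⟩ := hker _ hq'
  refine ⟨r * c, mul_ne_zero hr (nonZeroDivisors.ne_zero hc), ?_⟩
  set B := Algebra.adjoin R (Set.range y) with hB
  have hmem : ∀ p : A, aeval y p ∈ B := by
    intro p
    rw [hB, Algebra.adjoin_range_eq_range_aeval]
    exact ⟨p, rfl⟩
  let φB : A →ₐ[R] B := (aeval y).codRestrict B hmem
  let q' : Polynomial A := (q * Polynomial.X).scaleRoots (C r)
  have hq'monic : q'.Monic := by
    have : (q * Polynomial.X).Monic := hq_monic.mul Polynomial.monic_X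
    exact (Polynomial.monic_scaleRoots_iff _).mpr this
  refine ⟨q'.map φB.toRingHom, hq'monic.map _, ?_⟩
  rw [Polynomial.eval₂_map]
  have hcomp : (algebraMap B S).comp φB.toRingHom = φ := rfl
  rw [hcomp]
  have hrs : (r * c) • s = φ (C r) * (c • s) := by
    show _ = aeval y (C r) * _
    rw [aeval_C, mul_smul, Algebra.smul_def]
  rw [hrs, Polynomial.scaleRoots_eval₂_mul, Polynomial.eval₂_mul, Polynomial.eval₂_X]
  have hdeg : (q * Polynomial.X).natDegree = q.natDegree + 1 := by
    rw [Polynomial.natDegree_mul_X hq_monic.ne_zero]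
  have hr0' : φ (C r) * Polynomial.eval₂ φ (c • s) q = 0 := by
    show aeval y (C r) * _ = 0
    rw [aeval_C, ← Algebra.smul_def]
    exact hr0
  rw [hdeg, pow_succ]
  calc φ (C r) ^ q.natDegree * φ (C r) * (Polynomial.eval₂ φ (c • s) q * (c • s))
      = φ (C r) ^ q.natDegree * (c • s) * (φ (C r) * Polynomial.eval₂ φ (c • s) q) := by ring
    _ = 0 := by rw [hr0', mul_zero]


theorem ker_lemma {R S : Type u} [CommRing R] [IsDomain R] [CommRing S] [Algebra R S]
    (s : S) (hs : (Algebra.TensorProduct.includeRight : S →ₐ[R] (FractionRing R) ⊗[R] S) s = 0) :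
    ∃ r : R, r ≠ 0 ∧ r • s = 0 := by
  have hloc : IsLocalizedModule (nonZeroDivisors R) (TensorProduct.mk R (FractionRing R) S 1) :=
    inferInstance
  have hs' : TensorProduct.mk R (FractionRing R) S 1 s = TensorProduct.mk R (FractionRing R) S 1 0 := by
    rw [map_zero]; exact hs
  obtain ⟨c, hc⟩ := IsLocalizedModule.exists_of_eq (S := nonZeroDivisors R) hs'
  exact ⟨c, nonZeroDivisors.coe_ne_zero c, by simpa [Submonoid.smul_def] using hc⟩

theorem comm_lemma {R S : Type u} [CommRing R] [IsDomain R] [CommRing S] [Algebra R S]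
    (d : ℕ) (y : Fin d → S)
    (g : MvPolynomial (Fin d) (FractionRing R) →ₐ[FractionRing R] (FractionRing R) ⊗[R] S)
    (hgy : ∀ i, g (X i) =
      (Algebra.TensorProduct.includeRight : S →ₐ[R] (FractionRing R) ⊗[R] S) (y i))
    (p : MvPolynomial (Fin d) R) :
    g (MvPolynomial.map (algebraMap R (FractionRing R)) p) =
      (Algebra.TensorProduct.includeRight : S →ₐ[R] (FractionRing R) ⊗[R] S) (aeval y p) := by
  let K := FractionRing R
  let T := K ⊗[R] S
  let ι : S →ₐ[R] T := Algebra.TensorProduct.includeRight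
  have : g.toRingHom.comp (MvPolynomial.map (algebraMap R K)) =
      ι.toRingHom.comp (aeval y : MvPolynomial (Fin d) R →ₐ[R] S).toRingHom := by
    apply MvPolynomial.ringHom_ext
    · intro r
      show g (MvPolynomial.map (algebraMap R K) (C r)) = ι (aeval y (C r))
      rw [map_C, ← algebraMap_eq, AlgHom.commutes, aeval_C, AlgHom.commutes]
      exact (IsScalarTower.algebraMap_apply R K T r).symm
    · intro i
      show g (MvPolynomial.map (algebraMap R K) (X i)) = ι (aeval y (X i))
      rw [map_X, aeval_X, hgy]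
  exact congrArg (fun h : MvPolynomial (Fin d) R →+* T => h p) this

theorem main {R S : Type u} [CommRing R] [IsDomain R] [CommRing S] [Algebra R S]
    [Algebra.FiniteType R S] (hinj : Function.Injective (algebraMap R S)) :
    ∃ (d : ℕ) (y : Fin d → S) (S' : Subalgebra R S), AlgebraicIndependent R y ∧ (∀ i, y i ∈ S') ∧ S'.FG ∧
      (∀ s ∈ S', IsIntegral (Algebra.adjoin R (Set.range y)) s) ∧
      ∃ f : R, f ≠ 0 ∧ ∀ s : S, ∃ n : ℕ, (f ^ n) • s ∈ S' := by
  classical
  obtain ⟨d, y, g, hginj, hgint, hgy⟩ := setup hinj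
  have hindep : AlgebraicIndependent R y := by
    rw [algebraicIndependent_iff_injective_aeval]
    intro p p' hpp
    have : g (MvPolynomial.map (algebraMap R (FractionRing R)) p) =
        g (MvPolynomial.map (algebraMap R (FractionRing R)) p') := by
      rw [comm_lemma d y g hgy, comm_lemma d y g hgy, hpp]
    exact MvPolynomial.map_injective _ (IsFractionRing.injective R (FractionRing R)) (hginj this)
  obtain ⟨T₀, hT₀⟩ := (Algebra.FiniteType.out : (⊤ : Subalgebra R S).FG)
  choose f hf0 hfint using fun s : S => integral_multiple d y g hgint hgy ker_lemma s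
  set B := Algebra.adjoin R (Set.range y) with hB
  let gens : Set S := Set.range y ∪ (fun t => f t • t) '' (T₀ : Set S)
  have hgens_fin : gens.Finite := (Set.finite_range y).union (T₀.finite_toSet.image _)
  refine ⟨d, y, Algebra.adjoin R gens, hindep, ?_, ?_, ?_, ∏ t ∈ T₀, f t, ?_, ?_⟩
  · intro i; exact Algebra.subset_adjoin (Or.inl ⟨i, rfl⟩)
  · exact Subalgebra.fg_def.mpr ⟨gens, hgens_fin, rfl⟩
  · have hle : Algebra.adjoin R gens ≤ (integralClosure B S).restrictScalars R := by
      apply Algebra.adjoin_le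
      rintro x (⟨i, rfl⟩ | ⟨t, _, rfl⟩)
      · have hyB : y i ∈ B := Algebra.subset_adjoin ⟨i, rfl⟩
        show IsIntegral B (y i)
        have h := isIntegral_algebraMap (R := ↥B) (A := S) (x := (⟨y i, hyB⟩ : ↥B))
        exact h
      · show IsIntegral B (f t • t)
        exact hfint t
    intro s hs
    exact hle hs
  · exact Finset.prod_ne_zero_iff.mpr (fun t _ => hf0 t)
  · intro s
    have hs : s ∈ Algebra.adjoin R (T₀ : Set S) := by rw [hT₀]; trivial
    induction hs using Algebra.adjoin_induction with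
    | mem t ht =>
      refine ⟨1, ?_⟩
      rw [pow_one, ← Finset.mul_prod_erase T₀ f ht, mul_comm, mul_smul]
      have hmem : f t • t ∈ gens := Or.inr ⟨t, ht, rfl⟩
      exact Subalgebra.smul_mem _ (Algebra.subset_adjoin hmem) _
    | algebraMap r =>
      exact ⟨0, by rw [pow_zero, one_smul]; exact Subalgebra.algebraMap_mem _ r⟩
    | add a b _ _ ha hb =>
      obtain ⟨n, hn⟩ := ha
      obtain ⟨m, hm⟩ := hb
      refine ⟨n + m, ?_⟩
      rw [smul_add]
      refine Subalgebra.add_mem _ ?_ ?_
      · rw [pow_add, mul_comm, mul_smul]; exact Subalgebra.smul_mem _ hn _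
      · rw [pow_add, mul_smul]; exact Subalgebra.smul_mem _ hm _
    | mul a b _ _ ha hb =>
      obtain ⟨n, hn⟩ := ha
      obtain ⟨m, hm⟩ := hb
      refine ⟨n + m, ?_⟩
      have : ((∏ t ∈ T₀, f t) ^ (n + m)) • (a * b) =
          (((∏ t ∈ T₀, f t) ^ n) • a) * (((∏ t ∈ T₀, f t) ^ m) • b) := by
        rw [pow_add, smul_mul_smul_comm]
      rw [this]
      exact Subalgebra.mul_mem _ hn hm


end


/-- Let `R` be a domain and `R → S` an injective ring map of finite type. Then there are elements `y_1,
…, y_d` of `S` algebraically independent over `R`, a finitely generated `R`-subalgebra `S'` of `S`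
containing them and integral over `R[y_1, …, y_d]`, and a nonzero `f ∈ R` such that every element of
`S` lands in `S'` after multiplication by a power of `f`. -/
theorem result {R S : Type u} [CommRing R] [IsDomain R] [CommRing S] [Algebra R S]
    [Algebra.FiniteType R S] (hinj : Function.Injective (algebraMap R S)) :
    ∃ (d : ℕ) (y : Fin d → S) (S' : Subalgebra R S), AlgebraicIndependent R y ∧ (∀ i, y i ∈ S') ∧ S'.FG ∧
      (∀ s ∈ S', IsIntegral (Algebra.adjoin R (Set.range y)) s) ∧
      ∃ f : R, f ≠ 0 ∧ ∀ s : S, ∃ n : ℕ, (f ^ n) • s ∈ S' := by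
  classical
  exact main hinj

end Groth.Agent.S2073
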