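import Groth.Statements.S2080
import Groth.Agent.Lib.Helper6.GenFin.Fiber
import Groth.Agent.Lib.Helper6.LocIso.QFGeneric

set_option autoImplicit false
universe u
open CategoryTheory AlgebraicGeometry
open Mor

namespace Groth.Agent.S2080

/-- Let `f : X → Y` be locally of finite type, quasi-compact and quasi-separated, and `η` a generic
point of an irreducible component of `Y`. Then `f⁻¹{η}` is finite if and only if there is an affine
open `V ∋ η` such that `f⁻¹(V) → V` is finite. -/
theorem result {X Y : Scheme.{u}} (f : X ⟶ Y) [LocallyOfFiniteType f]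
    [QuasiCompact f] [QuasiSeparated f] (η : Y) (hη : closure {η} ∈ irreducibleComponents (Y : Type u)) :
    (f.base ⁻¹' {η}).Finite ↔ ∃ V : Y.Opens, IsAffineOpen V ∧ η ∈ V ∧ IsFinite (f ∣_ V) := by
  constructor
  · intro hfin
    exact Groth.Agent.Lib.Helper6.GenFin.exists_isFinite_morphismRestrict_of_qcqs f η
      (fun y hy => Groth.Agent.Lib.Helper6.LocIso.eq_of_specializes_of_closure_mem hη hy) hfin
  · rintro ⟨V, hV, hηV, hfinV⟩
    have h1 := (f ∣_ V).finite_preimage_singleton ⟨η, hηV⟩
    refine (h1.image (fun x : ↥(f ⁻¹ᵁ V) => (x.1 : X))).subset ?_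
    intro x hx
    have hx' : f x = η := hx
    have hxV : x ∈ f ⁻¹ᵁ V := by
      show f x ∈ V
      rw [hx']; exact hηV
    refine ⟨⟨x, hxV⟩, ?_, rfl⟩
    show (f ∣_ V) ⟨x, hxV⟩ = ⟨η, hηV⟩
    apply Subtype.ext
    exact (morphismRestrict_base_coe f V ⟨x, hxV⟩).trans hx'

end Groth.Agent.S2080
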