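import Groth.Statements.S2088
import Groth.Agent.Lib.Helper8.ResExtW4

set_option autoImplicit false
universe u
open CAlg

namespace Groth.Agent.S2088

/-- Let `(R, 𝔪, k)` be a local ring and `K/k` a field extension. Then there is a flat local homomorphism
of local rings `R → R'` with `𝔪R' = 𝔪_{R'}` whose residue field is isomorphic to `K` over `k`. -/
theorem result {R K : Type u} [CommRing R] [IsLocalRing R] [Field K]
    [Algebra (IsLocalRing.ResidueField R) K] :
    ∃ (R' : Type u) (_ : CommRing R') (_ : IsLocalRing R') (_ : Algebra R R') (_ : IsLocalHom (algebraMap R R')),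
      Module.Flat R R' ∧ (IsLocalRing.maximalIdeal R).map (algebraMap R R') = IsLocalRing.maximalIdeal R' ∧
      Nonempty (IsLocalRing.ResidueField R' ≃ₐ[IsLocalRing.ResidueField R] K) := by
  classical
  let ψ : R →+* K := (algebraMap (IsLocalRing.ResidueField R) K).comp (IsLocalRing.residue R)
  have hψ : RingHom.ker ψ = IsLocalRing.maximalIdeal R := by
    ext a
    rw [RingHom.mem_ker, RingHom.comp_apply,
      map_eq_zero_iff _ (algebraMap (IsLocalRing.ResidueField R) K).injective,
      IsLocalRing.residue_eq_zero_iff]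
  have hA : Groth.Agent.Helper8.SimpExt.GoodRingW (K := K) R ψ := ⟨inferInstance, hψ⟩
  obtain ⟨R', hR', f, φ, hcomp, ⟨hL, hker⟩, ⟨_, _, hflat, hloc, hmax⟩, hsurj⟩ :=
    Groth.Agent.Helper8.ResExtW.exists_flat_local ψ hA
  letI : Algebra R R' := f.toAlgebra
  haveI : IsLocalHom (algebraMap R R') := hloc
  refine ⟨R', hR', hL, inferInstance, hloc, hflat, hmax, ?_⟩
  let e : IsLocalRing.ResidueField R' ≃+* K :=
    (Ideal.quotEquivOfEq hker.symm).trans (RingHom.quotientKerEquivOfSurjective hsurj)
  have he : ∀ b : R', e (IsLocalRing.residue R' b) = φ b := fun b => rfl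
  refine ⟨AlgEquiv.ofRingEquiv (f := e) ?_⟩
  intro x
  obtain ⟨r, rfl⟩ := IsLocalRing.residue_surjective x
  have h1 : algebraMap (IsLocalRing.ResidueField R) (IsLocalRing.ResidueField R')
      (IsLocalRing.residue R r) = IsLocalRing.residue R' (f r) := rfl
  rw [h1, he]
  have h2 : φ (f r) = ψ r := by rw [← hcomp]; rfl
  exact h2

end Groth.Agent.S2088
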