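import Groth.Statements.S2093
import Groth.Agent.Lib.Helper8.Nag7
import Groth.Agent.Lib.Helper8.CplQuot1
import Groth.Agent.Lib.Helper8.RegularLocal

set_option autoImplicit false
universe u
open CAlg

namespace Groth.Agent.S2093

/-- Let `(R, 𝔪)` be a Noetherian local domain and `x ∈ 𝔪` nonzero such that `R/xR` has no embedded
associated primes, and for every associated prime `𝔭` of `R/xR` the local ring `R_𝔭` is regular and
the completion of `R/𝔭` is reduced. Then the completion of `R` is reduced. -/
theorem result {R : Type u} [CommRing R] [IsDomain R] [IsLocalRing R]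
    [IsNoetherianRing R] (x : R) (hx : x ≠ 0) (hxm : x ∈ IsLocalRing.maximalIdeal R)
    (hemb : ∀ p ∈ associatedPrimes R (R ⧸ Ideal.span {x}), p ∈ (Ideal.span {x}).minimalPrimes)
    (hreg : ∀ p ∈ associatedPrimes R (R ⧸ Ideal.span {x}), ∀ (_ : p.IsPrime),
      IsRegularLocalRing (Localization.AtPrime p) ∧
        IsReduced (AdicCompletion ((IsLocalRing.maximalIdeal R).map (Ideal.Quotient.mk p)) (R ⧸ p))) :
    IsReduced (AdicCompletion (IsLocalRing.maximalIdeal R) R) := by
  haveI : IsNoetherianRing (EGA4.Cpl R) := Groth.Agent.Helper8.AdicReg.isNoetherianRing R _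
  have hann : Module.annihilator R (R ⧸ Ideal.span {x}) = Ideal.span {x} :=
    Ideal.annihilator_quotient
  have hminass : ∀ q ∈ (Ideal.span {x}).minimalPrimes,
      q ∈ associatedPrimes R (R ⧸ Ideal.span {x}) := by
    intro q hq
    apply Module.associatedPrimes.minimalPrimes_annihilator_subset_associatedPrimes R
      (R ⧸ Ideal.span {x})
    rw [hann]
    exact hq
  refine Groth.Agent.Helper8.Nag.isReduced_of_flat_of_dvr (A := R) (B := EGA4.Cpl R) x
    (mem_nonZeroDivisors_of_ne_zero hx) ?_ (fun p hp => hemb p hp) ?_ ?_
  · rw [IsLocalRing.jacobson_eq_maximalIdeal ⊥ bot_ne_top,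
      AdicCompletion.maximalIdeal_eq_map (R := R)]
    exact Ideal.mem_map_of_mem _ hxm
  · intro q hqprime hq
    have hregq : IsRegularLocalRing (Localization.AtPrime q) :=
      (hreg q (hminass q hq) hqprime).1
    haveI hdom : IsDomain (Localization.AtPrime q) := Groth.Agent.Helper8.RLR.isDomain _
    refine ⟨hdom, ?_⟩
    have hht : q.height ≤ 1 :=
      Ideal.height_le_one_of_isPrincipal_of_mem_minimalPrimes (Ideal.span {x}) q hq
    have hdim : ringKrullDim (Localization.AtPrime q) ≤ 1 := by
      rw [IsLocalization.AtPrime.ringKrullDim_eq_height q (Localization.AtPrime q)]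
      exact_mod_cast hht
    have hfr : Module.finrank (IsLocalRing.ResidueField (Localization.AtPrime q))
        (IsLocalRing.CotangentSpace (Localization.AtPrime q)) ≤ 1 := by
      have h1 := (IsRegularLocalRing.iff_finrank_cotangentSpace (Localization.AtPrime q)).mp hregq
      rw [← h1] at hdim
      exact_mod_cast hdim
    haveI : IsPrincipalIdealRing (Localization.AtPrime q) :=
      ((tfae_of_isNoetherianRing_of_isLocalRing_of_isDomain
        (Localization.AtPrime q)).out 5 0).mp hfr
    refine { not_a_field' := ?_ }
    intro hbot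
    have hxq : x ∈ q := hq.1.2 (Ideal.mem_span_singleton_self x)
    have h1 : algebraMap R (Localization.AtPrime q) x ∈
        IsLocalRing.maximalIdeal (Localization.AtPrime q) := by
      rw [← Localization.AtPrime.map_eq_maximalIdeal]
      exact Ideal.mem_map_of_mem _ hxq
    rw [hbot, Ideal.mem_bot] at h1
    have h2 := (IsLocalization.injective (Localization.AtPrime q)
      q.primeCompl_le_nonZeroDivisors) (h1.trans (map_zero _).symm)
    exact hx h2
  · intro q hqprime hq
    have hred := (hreg q (hminass q hq) hqprime).2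
    haveI : Nontrivial (R ⧸ q) := Ideal.Quotient.nontrivial_iff.mpr hqprime.ne_top
    rw [Groth.Agent.Helper8.CplQuot.map_maximalIdeal_mk R q] at hred
    have hsurj := Groth.Agent.Helper8.CplQuot.psi_surjective R q
    have hker := Groth.Agent.Helper8.CplQuot.ker_psi R q
    rw [← hker]
    haveI : IsReduced (EGA4.Cpl (R ⧸ q)) := hred
    exact (RingHom.ker_isRadical_iff_reduced_of_surjective
      (f := (Groth.Agent.Helper8.CplQuot.psi R q).toRingHom) hsurj).mpr inferInstance

end Groth.Agent.S2093
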