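import Groth.Statements.S2094
import Mathlib
-- import your own Groth.Agent.* helpers here

set_option autoImplicit false
universe u
open CAlg

namespace Groth.Agent.S2094

namespace Aux
open TrivSqZeroExt

variable {A M : Type u} [CommRing A] [AddCommGroup M] [Module A M]

/-- the right action on a module over a commutative ring -/
@[reducible] def opModule (A N : Type u) [CommRing A] [AddCommGroup N] [Module A N] :
    Module Aᵐᵒᵖ N :=
  Module.compHom N ((RingHom.id A).fromOpposite fun _ _ => mul_comm _ _)

theorem opModule_central (A N : Type u) [CommRing A] [AddCommGroup N] [Module A N] :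
    @IsCentralScalar A N _ (opModule A N).toSMul :=
  @IsCentralScalar.mk A N _ (opModule A N).toSMul fun _ _ => rfl

/-- the algebra map `Sym M → A ⊕ N` attached to a linear map `M → N` -/
noncomputable def toTsze {N : Type u} [AddCommGroup N] [Module A N] [Module Aᵐᵒᵖ N]
    [IsCentralScalar A N] (l : M →ₗ[A] N) :
    SymmetricAlgebra A M →ₐ[A] TrivSqZeroExt A N :=
  SymmetricAlgebra.lift ((inrHom A N) ∘ₗ l)

theorem toTsze_ι {N : Type u} [AddCommGroup N] [Module A N] [Module Aᵐᵒᵖ N]
    [IsCentralScalar A N] (l : M →ₗ[A] N) (m : M) :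
    toTsze l (SymmetricAlgebra.ι A M m) = inr (l m) := by
  simp [toTsze]

theorem projective_of_formallySmooth [Algebra.FormallySmooth A (SymmetricAlgebra A M)] :
    Module.Projective A M := by
  apply Module.Projective.of_lifting_property''
  intro π hπ
  let _ : Module Aᵐᵒᵖ M := opModule A M
  have _ : IsCentralScalar A M := opModule_central A M
  let g : TrivSqZeroExt A (M →₀ A) →ₐ[A] TrivSqZeroExt A M := TrivSqZeroExt.map π
  have hg : Function.Surjective g := by
    intro x
    obtain ⟨n, hn⟩ := hπ x.snd
    refine ⟨inl x.fst + inr n, ?_⟩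
    apply TrivSqZeroExt.ext
    · simp [g, fst_map]
    · simp [g, snd_map, hn]
  have hker : IsNilpotent (RingHom.ker (g : TrivSqZeroExt A (M →₀ A) →+* TrivSqZeroExt A M)) := by
    refine ⟨2, ?_⟩
    rw [Ideal.zero_eq_bot, eq_bot_iff]
    have h2 : RingHom.ker (g : TrivSqZeroExt A (M →₀ A) →+* TrivSqZeroExt A M) ^ 2 =
      RingHom.ker (g : TrivSqZeroExt A (M →₀ A) →+* TrivSqZeroExt A M) *
      RingHom.ker (g : TrivSqZeroExt A (M →₀ A) →+* TrivSqZeroExt A M) := pow_two _
    rw [h2, Ideal.mul_le]
    intro x hx y hy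
    rw [RingHom.mem_ker] at hx hy
    have hx1 : x.fst = 0 := by
      have := congrArg TrivSqZeroExt.fst hx
      simpa [g, fst_map] using this
    have hy1 : y.fst = 0 := by
      have := congrArg TrivSqZeroExt.fst hy
      simpa [g, fst_map] using this
    rw [Ideal.mem_bot]
    apply TrivSqZeroExt.ext
    · simp [hx1]
    · simp [hx1, hy1]
  let f : SymmetricAlgebra A M →ₐ[A] TrivSqZeroExt A M := toTsze LinearMap.id
  let L := Algebra.FormallySmooth.liftOfSurjective f g hg hker
  have hL : ∀ x, g (L x) = f x := Algebra.FormallySmooth.liftOfSurjective_apply f g hg hker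
  refine ⟨(sndHom A (M →₀ A)) ∘ₗ L.toLinearMap ∘ₗ SymmetricAlgebra.ι A M, ?_⟩
  apply LinearMap.ext
  intro m
  have h1 := hL (SymmetricAlgebra.ι A M m)
  have h2 := congrArg TrivSqZeroExt.snd h1
  simp only [g, snd_map, f, toTsze_ι, LinearMap.id_apply, snd_inr] at h2
  simpa using h2

theorem exists_finset_adjoin (x : SymmetricAlgebra A M) :
    ∃ T : Finset M, x ∈ Algebra.adjoin A ((SymmetricAlgebra.ι A M) '' (T : Set M)) := by
  classical
  induction x using SymmetricAlgebra.induction with
  | algebraMap r => exact ⟨∅, Subalgebra.algebraMap_mem _ r⟩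
  | ι m => exact ⟨{m}, Algebra.subset_adjoin ⟨m, by simp, rfl⟩⟩
  | mul a b ha hb =>
    obtain ⟨T₁, h₁⟩ := ha
    obtain ⟨T₂, h₂⟩ := hb
    refine ⟨T₁ ∪ T₂, Subalgebra.mul_mem _ ?_ ?_⟩
    · exact Algebra.adjoin_mono (Set.image_mono (by simp)) h₁
    · exact Algebra.adjoin_mono (Set.image_mono (by simp)) h₂
  | add a b ha hb =>
    obtain ⟨T₁, h₁⟩ := ha
    obtain ⟨T₂, h₂⟩ := hb
    refine ⟨T₁ ∪ T₂, Subalgebra.add_mem _ ?_ ?_⟩
    · exact Algebra.adjoin_mono (Set.image_mono (by simp)) h₁
    · exact Algebra.adjoin_mono (Set.image_mono (by simp)) h₂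

theorem finite_of_finiteType [Algebra.FiniteType A (SymmetricAlgebra A M)] :
    Module.Finite A M := by
  classical
  obtain ⟨S, hS⟩ := (Algebra.FiniteType.out : (⊤ : Subalgebra A (SymmetricAlgebra A M)).FG)
  choose T hT using fun x : SymmetricAlgebra A M => exists_finset_adjoin x
  let T₀ : Finset M := S.biUnion T
  have htop : Algebra.adjoin A ((SymmetricAlgebra.ι A M) '' (T₀ : Set M)) = ⊤ := by
    rw [eq_top_iff, ← hS]
    apply Algebra.adjoin_le
    intro x hx
    refine Algebra.adjoin_mono (Set.image_mono ?_) (hT x)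
    intro m hm
    exact Finset.mem_biUnion.mpr ⟨x, hx, hm⟩
  refine ⟨⟨T₀, ?_⟩⟩
  rw [eq_top_iff]
  intro m _
  set M' := Submodule.span A (T₀ : Set M) with hM'
  let _ : Module Aᵐᵒᵖ (M ⧸ M') := opModule A (M ⧸ M')
  have _ : IsCentralScalar A (M ⧸ M') := opModule_central A (M ⧸ M')
  let φ : SymmetricAlgebra A M →ₐ[A] TrivSqZeroExt A (M ⧸ M') := toTsze M'.mkQ
  let S₀ : Subalgebra A (TrivSqZeroExt A (M ⧸ M')) := (inlAlgHom A A (M ⧸ M')).range
  have hle : Algebra.adjoin A ((SymmetricAlgebra.ι A M) '' (T₀ : Set M)) ≤ S₀.comap φ := by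
    apply Algebra.adjoin_le
    rintro _ ⟨t, ht, rfl⟩
    show φ (SymmetricAlgebra.ι A M t) ∈ S₀
    rw [toTsze_ι]
    have : M'.mkQ t = 0 := by
      rw [Submodule.mkQ_apply, Submodule.Quotient.mk_eq_zero]
      exact Submodule.subset_span ht
    rw [this]
    exact ⟨0, by simp⟩
  have hm : SymmetricAlgebra.ι A M m ∈ S₀.comap φ := hle (by rw [htop]; trivial)
  obtain ⟨a, ha⟩ := hm
  have h2 : (inl a : TrivSqZeroExt A (M ⧸ M')).snd
      = (toTsze M'.mkQ (SymmetricAlgebra.ι A M m)).snd := congrArg TrivSqZeroExt.snd ha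
  rw [toTsze_ι] at h2
  simp only [snd_inl, snd_inr] at h2
  rw [← Submodule.Quotient.mk_eq_zero, ← Submodule.mkQ_apply]
  exact h2.symm

theorem formallySmooth_of_projective [Module.Projective A M] :
    Algebra.FormallySmooth A (SymmetricAlgebra A M) := by
  rw [Algebra.FormallySmooth.iff_comp_surjective]
  intro B _ _ I hI f
  obtain ⟨h, hh⟩ := Module.projective_lifting_property
    (Ideal.Quotient.mkₐ A I).toLinearMap (f.toLinearMap ∘ₗ SymmetricAlgebra.ι A M)
    (Ideal.Quotient.mkₐ_surjective A I)
  refine ⟨SymmetricAlgebra.lift h, ?_⟩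
  apply SymmetricAlgebra.algHom_ext
  apply LinearMap.ext
  intro m
  have := LinearMap.congr_fun hh m
  simpa using this

/-- a retract of a finitely presented algebra is finitely presented -/
theorem finitePresentation_of_retract {B C : Type u} [CommRing B] [CommRing C] [Algebra A B]
    [Algebra A C] [Algebra.FinitePresentation A C] (r : C →ₐ[A] B) (j : B →ₐ[A] C)
    (hrj : r.comp j = AlgHom.id A B) : Algebra.FinitePresentation A B := by
  classical
  have hsurj : Function.Surjective r := fun b => ⟨j b, by
    have := AlgHom.congr_fun hrj b; simpa using this⟩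
  apply Algebra.FinitePresentation.of_surjective hsurj
  obtain ⟨S, hS⟩ := (Algebra.FiniteType.out : (⊤ : Subalgebra A C).FG)
  refine ⟨S.image (fun x => x - j (r x)), ?_⟩
  set I : Ideal C := Ideal.span ((S.image (fun x => x - j (r x)) : Finset C) : Set C) with hI
  apply le_antisymm
  · rw [Ideal.span_le]
    intro y hy
    rw [Finset.coe_image] at hy
    obtain ⟨x, -, rfl⟩ := hy
    show r (x - j (r x)) = 0
    have := AlgHom.congr_fun hrj (r x)
    simp only [AlgHom.coe_comp, Function.comp_apply, AlgHom.coe_id, id_eq] at this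
    rw [map_sub, this, sub_self]
  · -- every element is congruent to `j (r c)` modulo `I`
    have key : ∀ c : C, c - j (r c) ∈ I := by
      intro c
      have hc : c ∈ Algebra.adjoin A (S : Set C) := by rw [hS]; trivial
      induction hc using Algebra.adjoin_induction with
      | mem x hx =>
        exact Ideal.subset_span (by rw [Finset.coe_image]; exact ⟨x, hx, rfl⟩)
      | algebraMap a => simp
      | add x y _ _ hx hy =>
        have : x + y - j (r (x + y)) = (x - j (r x)) + (y - j (r y)) := by
          rw [map_add, map_add]; ring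
        rw [this]; exact I.add_mem hx hy
      | mul x y _ _ hx hy =>
        have : x * y - j (r (x * y)) = (x - j (r x)) * y + j (r x) * (y - j (r y)) := by
          rw [map_mul, map_mul]; ring
        rw [this]
        exact I.add_mem (I.mul_mem_right _ hx) (I.mul_mem_left _ hy)
    intro c hc
    have hc' : r c = 0 := hc
    have := key c
    rwa [hc', map_zero, sub_zero] at this

theorem finitePresentation_of_finite_projective [Module.Finite A M] [Module.Projective A M] :
    Algebra.FinitePresentation A (SymmetricAlgebra A M) := by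
  obtain ⟨n, f, g, -, -, hfg⟩ := Module.Finite.exists_comp_eq_id_of_projective A M
  let Sf : SymmetricAlgebra A (Fin n → A) →ₐ[A] SymmetricAlgebra A M :=
    SymmetricAlgebra.lift (SymmetricAlgebra.ι A M ∘ₗ f)
  let Sg : SymmetricAlgebra A M →ₐ[A] SymmetricAlgebra A (Fin n → A) :=
    SymmetricAlgebra.lift (SymmetricAlgebra.ι A (Fin n → A) ∘ₗ g)
  have hcomp : Sf.comp Sg = AlgHom.id A _ := by
    apply SymmetricAlgebra.algHom_ext
    apply LinearMap.ext
    intro m
    have := LinearMap.congr_fun hfg m
    simp only [LinearMap.coe_comp, Function.comp_apply, LinearMap.id_coe, id_eq] at this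
    simp [Sf, Sg, this]
  have : Algebra.FinitePresentation A (SymmetricAlgebra A (Fin n → A)) :=
    Algebra.FinitePresentation.equiv
      (SymmetricAlgebra.equivMvPolynomial (Pi.basisFun A (Fin n))).symm
  exact finitePresentation_of_retract Sf Sg hcomp

theorem main : Algebra.Smooth A (SymmetricAlgebra A M) ↔
    Module.Finite A M ∧ Module.Projective A M := by
  constructor
  · intro h
    have h1 := h.formallySmooth
    have h2 := h.finitePresentation
    exact ⟨finite_of_finiteType, projective_of_formallySmooth⟩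
  · rintro ⟨h1, h2⟩
    exact ⟨formallySmooth_of_projective, finitePresentation_of_finite_projective⟩

end Aux

/-- The symmetric algebra of an `A`-module is a smooth `A`-algebra exactly when the module is finite
projective. -/
theorem result {A M : Type u} [CommRing A] [AddCommGroup M] [Module A M] :
    Algebra.Smooth A (SymmetricAlgebra A M) ↔ Module.Finite A M ∧ Module.Projective A M := by
  exact Aux.main

end Groth.Agent.S2094
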