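import Groth.Statements.S2095
import Mathlib

set_option autoImplicit false
universe u
open CAlg

namespace Groth.Agent.S2095

section
open TensorProduct

variable {R S R' : Type u} [CommRing R] [CommRing S] [Algebra R S] [CommRing R'] [Algebra R R']

section pi
variable (ρ : R' →ₗ[R] R) (A : Type u) [CommRing A] [Algebra R A]

/-- the retraction `R' ⊗ A → A` -/
noncomputable def π : R' ⊗[R] A →ₗ[R] A :=
  (TensorProduct.lid R A).toLinearMap ∘ₗ (LinearMap.rTensor A ρ)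

@[simp] theorem π_tmul (r' : R') (a : A) : π ρ A (r' ⊗ₜ a) = ρ r' • a := by
  simp [π]

theorem π_mul (a : A) (x : R' ⊗[R] A) : π ρ A ((1 ⊗ₜ a) * x) = a * π ρ A x := by
  induction x using TensorProduct.induction_on with
  | zero => simp
  | tmul r' b =>
    rw [Algebra.TensorProduct.tmul_mul_tmul, one_mul, π_tmul, π_tmul]
    rw [mul_smul_comm]
  | add x y hx hy =>
    rw [mul_add, map_add, hx, hy, map_add, mul_add]

end pi

section main
variable (ρ : R' →ₗ[R] R) (hρ : ∀ r : R, ρ (algebraMap R R' r) = r)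
  (A : Type u) [CommRing A] [Algebra R A] (J : Ideal A)

/-- the extended ideal -/
noncomputable abbrev J' : Ideal (R' ⊗[R] A) :=
  J.map (Algebra.TensorProduct.includeRight : A →ₐ[R] R' ⊗[R] A)

theorem J'_sq (hJ : J ^ 2 = ⊥) : (J' (R := R) (R' := R') A J) ^ 2 = ⊥ := by
  rw [J', ← Ideal.map_pow, hJ, Ideal.map_bot]

theorem π_J' (x : R' ⊗[R] A) (hx : x ∈ J' (R := R) (R' := R') A J) : π ρ A x ∈ J := by
  have h1 : x ∈ (J' (R := R) (R' := R') A J).restrictScalars R := hx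
  rw [J', Ideal.map_includeRight_eq] at h1
  obtain ⟨y, rfl⟩ := h1
  clear hx
  induction y using TensorProduct.induction_on with
  | zero => simp
  | tmul r' j =>
    rw [LinearMap.lTensor_tmul, π_tmul]
    exact Submodule.smul_of_tower_mem J (ρ r') j.2
  | add y z hy hz =>
    rw [map_add, map_add]
    exact J.add_mem hy hz

end main

section main2
variable (ρ : R' →ₗ[R] R) (hρ : ∀ r : R, ρ (algebraMap R R' r) = r)
  (A : Type u) [CommRing A] [Algebra R A] (J : Ideal A)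

include hρ in
theorem π_one_tmul (a : A) : π ρ A (1 ⊗ₜ a) = a := by
  rw [π_tmul]
  have : ρ 1 = 1 := by
    have := hρ 1
    rwa [map_one] at this
  rw [this, one_smul]

include hρ in
theorem π_mul_of (hJ : J ^ 2 = ⊥) (u v : R' ⊗[R] A) (a b : A)
    (hu : u - 1 ⊗ₜ a ∈ J' (R := R) (R' := R') A J) (hv : v - 1 ⊗ₜ b ∈ J' (R := R) (R' := R') A J) :
    π ρ A (u * v) = π ρ A u * π ρ A v := by
  obtain ⟨e, he⟩ : ∃ e, e = u - 1 ⊗ₜ a := ⟨_, rfl⟩
  obtain ⟨f, hf⟩ : ∃ f, f = v - 1 ⊗ₜ b := ⟨_, rfl⟩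
  rw [← he] at hu
  rw [← hf] at hv
  have hu' : u = 1 ⊗ₜ a + e := by rw [he]; ring
  have hv' : v = 1 ⊗ₜ b + f := by rw [hf]; ring
  have hef : e * f = 0 := by
    have : e * f ∈ (J' (R := R) (R' := R') A J) ^ 2 := by
      rw [pow_two]
      exact Ideal.mul_mem_mul hu hv
    rw [J'_sq A J hJ] at this
    exact this
  have hπef : π ρ A e * π ρ A f = 0 := by
    have : π ρ A e * π ρ A f ∈ J ^ 2 := by
      rw [pow_two]
      exact Ideal.mul_mem_mul (π_J' ρ A J e hu) (π_J' ρ A J f hv)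
    rw [hJ] at this
    exact this
  have h1 : u * v = (1 ⊗ₜ a) * (1 ⊗ₜ b) + (1 ⊗ₜ a) * f + (1 ⊗ₜ b) * e + e * f := by
    rw [hu', hv']; ring
  rw [h1, hef, add_zero, map_add, map_add, π_mul, π_mul, π_mul, π_one_tmul ρ hρ]
  rw [hu', hv', map_add, map_add, π_one_tmul ρ hρ, π_one_tmul ρ hρ]
  have : (a + π ρ A e) * (b + π ρ A f) = a * b + a * π ρ A f + b * π ρ A e + π ρ A e * π ρ A f := by
    ring
  rw [this, hπef, add_zero]

end main2

section fin
variable (𝔫 : Ideal S) (ρ : R' →ₗ[R] R) (hρ : ∀ r : R, ρ (algebraMap R R' r) = r)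

include hρ in
theorem main
    (h : CAlgX.IsAdicFormallySmooth R' (R' ⊗[R] S)
      (𝔫.map (Algebra.TensorProduct.includeRight : S →ₐ[R] R' ⊗[R] S))) :
    CAlgX.IsAdicFormallySmooth R S 𝔫 := by
  intro A _ _ J hJ ψ hk
  obtain ⟨k, hk⟩ := hk
  let incl : A →ₐ[R] R' ⊗[R] A := Algebra.TensorProduct.includeRight
  let q' : A →ₐ[R] (R' ⊗[R] A) ⧸ J' (R := R) (R' := R') A J :=
    ((Ideal.Quotient.mkₐ R' (J' (R := R) (R' := R') A J)).restrictScalars R).comp incl
  have hq' : ∀ a ∈ J, q' a = 0 := fun a ha =>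
    Ideal.Quotient.eq_zero_iff_mem.2 (Ideal.mem_map_of_mem _ ha)
  let q : A ⧸ J →ₐ[R] (R' ⊗[R] A) ⧸ J' (R := R) (R' := R') A J := Ideal.Quotient.liftₐ J q' hq'
  let g : S →ₐ[R] (R' ⊗[R] A) ⧸ J' (R := R) (R' := R') A J := q.comp ψ
  let ψ' : R' ⊗[R] S →ₐ[R'] (R' ⊗[R] A) ⧸ J' (R := R) (R' := R') A J :=
    Algebra.TensorProduct.lift (Algebra.ofId R' _) g (fun _ _ => Commute.all _ _)
  have hψ' : ∀ s, ψ' (1 ⊗ₜ s) = g s := by
    intro s
    simp [ψ']
  have hkill : ∀ x ∈ (𝔫.map (Algebra.TensorProduct.includeRight : S →ₐ[R] R' ⊗[R] S)) ^ k,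
      ψ' x = 0 := by
    intro x hx
    rw [← Ideal.map_pow] at hx
    have hle : (𝔫 ^ k).map (Algebra.TensorProduct.includeRight : S →ₐ[R] R' ⊗[R] S) ≤
        RingHom.ker ψ'.toRingHom := by
      rw [Ideal.map_le_iff_le_comap]
      intro y hy
      show ψ' (1 ⊗ₜ y) = 0
      rw [hψ']
      show q (ψ y) = 0
      rw [hk y hy, map_zero]
    exact hle hx
  obtain ⟨χ', hχ'⟩ := h (R' ⊗[R] A) (J' (R := R) (R' := R') A J) (J'_sq A J hJ) ψ' ⟨k, hkill⟩
  -- the approximating lifts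
  have hap : ∀ s : S, ∃ a : A, Ideal.Quotient.mk J a = ψ s ∧
      χ' (1 ⊗ₜ s) - 1 ⊗ₜ a ∈ J' (R := R) (R' := R') A J := by
    intro s
    obtain ⟨a, ha⟩ := Ideal.Quotient.mk_surjective (ψ s)
    refine ⟨a, ha, ?_⟩
    rw [← Ideal.Quotient.eq]
    have h1 : Ideal.Quotient.mk _ (χ' (1 ⊗ₜ s)) = ψ' (1 ⊗ₜ s) := by
      rw [← hχ']
      rfl
    rw [h1, hψ']
    show q (ψ s) = _
    rw [← ha]
    rfl
  have hred : ∀ s : S, Ideal.Quotient.mk J (π ρ A (χ' (1 ⊗ₜ s))) = ψ s := by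
    intro s
    obtain ⟨a, ha, hmem⟩ := hap s
    rw [← ha, Ideal.Quotient.eq]
    have := π_J' ρ A J _ hmem
    rwa [map_sub, π_one_tmul ρ hρ] at this
  let χ : S →ₐ[R] A :=
    { toFun := fun s => π ρ A (χ' (1 ⊗ₜ s))
      map_one' := by
        show π ρ A (χ' (1 ⊗ₜ (1 : S))) = 1
        rw [← Algebra.TensorProduct.one_def, map_one, Algebra.TensorProduct.one_def,
          π_one_tmul ρ hρ]
      map_mul' := by
        intro s t
        show π ρ A (χ' (1 ⊗ₜ (s * t))) = π ρ A (χ' (1 ⊗ₜ s)) * π ρ A (χ' (1 ⊗ₜ t))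
        obtain ⟨a, -, ha⟩ := hap s
        obtain ⟨b, -, hb⟩ := hap t
        have : (1 : R') ⊗ₜ[R] (s * t) = (1 ⊗ₜ s) * (1 ⊗ₜ t) := by
          rw [Algebra.TensorProduct.tmul_mul_tmul, one_mul]
        rw [this, map_mul]
        exact π_mul_of ρ hρ A J hJ _ _ a b ha hb
      map_zero' := by
        show π ρ A (χ' (1 ⊗ₜ (0 : S))) = 0
        rw [tmul_zero, map_zero, map_zero]
      map_add' := by
        intro s t
        show π ρ A (χ' (1 ⊗ₜ (s + t))) = π ρ A (χ' (1 ⊗ₜ s)) + π ρ A (χ' (1 ⊗ₜ t))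
        rw [tmul_add, map_add, map_add]
      commutes' := by
        intro r
        show π ρ A (χ' (1 ⊗ₜ (algebraMap R S r))) = algebraMap R A r
        have h1 : (1 : R') ⊗ₜ[R] (algebraMap R S r) = algebraMap R' (R' ⊗[R] S) (algebraMap R R' r) := by
          rw [Algebra.TensorProduct.algebraMap_apply, Algebra.algebraMap_eq_smul_one r,
            Algebra.algebraMap_eq_smul_one r, Algebra.algebraMap_self, RingHom.id_apply,
            TensorProduct.smul_tmul]
        rw [h1, AlgHom.commutes, Algebra.TensorProduct.algebraMap_apply, π_tmul,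
          Algebra.algebraMap_self, RingHom.id_apply, hρ, Algebra.algebraMap_eq_smul_one] }
  refine ⟨χ, ?_⟩
  ext s
  exact hred s

end fin


end


open TensorProduct in
/-- Let `R → S` be a ring map, `𝔫 ⊆ S` an ideal and `R → R'` a ring map admitting an `R`-linear
retraction. If `R' → R' ⊗ S` is formally smooth for the adic topology of the extension of `𝔫`, then
`R → S` is formally smooth for the `𝔫`-adic topology. -/
theorem result {R S R' : Type u} [CommRing R] [CommRing S] [Algebra R S]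
    (𝔫 : Ideal S) [CommRing R'] [Algebra R R'] (ρ : R' →ₗ[R] R) (hρ : ∀ r : R, ρ (algebraMap R R' r) = r)
    (h : CAlgX.IsAdicFormallySmooth R' (R' ⊗[R] S)
      (𝔫.map (Algebra.TensorProduct.includeRight : S →ₐ[R] R' ⊗[R] S))) :
    CAlgX.IsAdicFormallySmooth R S 𝔫 := by
  classical
  exact main 𝔫 ρ hρ h

end Groth.Agent.S2095
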