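import Groth.Statements.S2097
import Mathlib

set_option autoImplicit false
universe u
open CAlg

namespace Groth.Agent.S2097

/-- Let `R → S` be smooth, `A` an `R`-algebra and `I ⊆ A` an ideal all of whose elements are nilpotent.
Every `R`-algebra map `S → A/I` lifts to an `R`-algebra map `S → A`. -/
theorem result {R S A : Type u} [CommRing R] [CommRing S] [Algebra R S] [Algebra.Smooth R S]
    [CommRing A] [Algebra R A] (I : Ideal A) (hI : ∀ x ∈ I, IsNilpotent x) (g : S →ₐ[R] A ⧸ I) :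
    ∃ f : S →ₐ[R] A, (Ideal.Quotient.mkₐ R I).comp f = g := by
  classical
  obtain ⟨n, φ, hφ, hkerFG⟩ := Algebra.FinitePresentation.out (R := R) (A := S)
  have hmk : Function.Surjective (Ideal.Quotient.mk I) := Ideal.Quotient.mk_surjective
  choose a ha using fun i : Fin n => hmk (g (φ (MvPolynomial.X i)))
  let ψ : MvPolynomial (Fin n) R →ₐ[R] A := MvPolynomial.aeval a
  have hψ : (Ideal.Quotient.mkₐ R I).comp ψ = g.comp φ := by
    apply MvPolynomial.algHom_ext
    intro i
    simp [ψ, ha]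
  let J : Ideal A := Ideal.map ψ.toRingHom (RingHom.ker φ.toRingHom)
  have hJI : J ≤ I := by
    rw [Ideal.map_le_iff_le_comap]
    intro p hp
    rw [Ideal.mem_comap, ← Ideal.Quotient.eq_zero_iff_mem]
    have h1 := AlgHom.congr_fun hψ p
    have h2 : φ p = 0 := hp
    simp only [AlgHom.comp_apply, Ideal.Quotient.mkₐ_eq_mk, h2, map_zero] at h1
    exact h1
  have hJfg : J.FG := hkerFG.map _
  have hJnil : IsNilpotent J :=
    hJfg.isNilpotent_iff_le_nilradical.mpr (fun x hx => hI x (hJI hx))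
  have hle : ∀ p : MvPolynomial (Fin n) R, p ∈ RingHom.ker φ →
      ((Ideal.Quotient.mkₐ R J).comp ψ) p = 0 := by
    intro p hp
    simp only [AlgHom.comp_apply, Ideal.Quotient.mkₐ_eq_mk]
    rw [Ideal.Quotient.eq_zero_iff_mem]
    exact Ideal.mem_map_of_mem _ hp
  let g' : S →ₐ[R] A ⧸ J :=
    (Ideal.Quotient.liftₐ (RingHom.ker φ) ((Ideal.Quotient.mkₐ R J).comp ψ) hle).comp
      (Ideal.quotientKerAlgEquivOfSurjective hφ).symm.toAlgHom
  have hg' : g'.comp φ = (Ideal.Quotient.mkₐ R J).comp ψ := by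
    apply AlgHom.ext
    intro p
    have : (Ideal.quotientKerAlgEquivOfSurjective hφ).symm (φ p) =
        Ideal.Quotient.mk (RingHom.ker φ) p := by
      rw [AlgEquiv.symm_apply_eq]
      rfl
    simp only [g', AlgHom.comp_apply]
    have h5 : ((Ideal.quotientKerAlgEquivOfSurjective hφ).symm :
        S →ₐ[R] (MvPolynomial (Fin n) R ⧸ RingHom.ker φ)) (φ p) =
        Ideal.Quotient.mk (RingHom.ker φ) p := this
    rw [h5]
    rfl
  let f := Algebra.FormallySmooth.lift J hJnil g'
  have hf : (Ideal.Quotient.mkₐ R J).comp f = g' := Algebra.FormallySmooth.comp_lift J hJnil g'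
  refine ⟨f, ?_⟩
  have hcancel : ∀ h1 h2 : S →ₐ[R] A ⧸ I, h1.comp φ = h2.comp φ → h1 = h2 := by
    intro h1 h2 h
    apply AlgHom.ext
    intro s
    obtain ⟨p, rfl⟩ := hφ s
    exact AlgHom.congr_fun h p
  apply hcancel
  rw [← hψ]
  apply AlgHom.ext
  intro p
  have h3 := AlgHom.congr_fun hf (φ p)
  have h4 := AlgHom.congr_fun hg' p
  simp only [AlgHom.comp_apply, Ideal.Quotient.mkₐ_eq_mk] at h3 h4 ⊢
  rw [h4] at h3
  rw [Ideal.Quotient.eq] at h3 ⊢
  exact hJI h3

end Groth.Agent.S2097
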