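import Groth.Statements.S2098
import Mathlib

set_option autoImplicit false
universe u
open CAlg

namespace Groth.Agent.S2098

section
variable {R : Type*} [CommRing R]

/-- the map `y ↦ (Σ_i (g e_j)_i y_i)_j` -/
noncomputable def phi {a b : ℕ} (N : Type*) [AddCommGroup N] [Module R N]
    (g : (Fin a → R) →ₗ[R] (Fin b → R)) : (Fin b → N) →ₗ[R] (Fin a → N) :=
  LinearMap.pi (fun j => ∑ i, (g (Pi.single j 1) i) • (LinearMap.proj i : (Fin b → N) →ₗ[R] N))

theorem phi_apply {a b : ℕ} (N : Type*) [AddCommGroup N] [Module R N]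
    (g : (Fin a → R) →ₗ[R] (Fin b → R)) (y : Fin b → N) (j : Fin a) :
    phi N g y j = ∑ i, (g (Pi.single j 1) i) • y i := by
  simp [phi, LinearMap.sum_apply]

theorem sum_g_apply {a b : ℕ} {N : Type*} [AddCommGroup N] [Module R N]
    (g : (Fin a → R) →ₗ[R] (Fin b → R)) (y : Fin b → N) (w : Fin a → R) :
    ∑ i, (g w i) • y i = ∑ j, w j • phi N g y j := by
  have hw : g w = ∑ j, w j • g (Pi.single j 1) := by
    conv_lhs => rw [pi_eq_sum_univ' w]
    simp only [map_sum, map_smul]
  simp only [hw, phi_apply, Finset.sum_apply, Pi.smul_apply, smul_eq_mul, Finset.sum_smul,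
    Finset.smul_sum, mul_smul]
  rw [Finset.sum_comm]

theorem descend {a b : ℕ} {M N : Type*} [AddCommGroup M] [Module R M] [AddCommGroup N] [Module R N]
    (g : (Fin a → R) →ₗ[R] (Fin b → R)) (π : (Fin b → R) →ₗ[R] M) (hπ : Function.Surjective π)
    (hex : Function.Exact g π) (y : Fin b → N) (hy : phi N g y = 0) :
    ∃ t : M →ₗ[R] N, ∀ v : Fin b → R, t (π v) = ∑ i, v i • y i := by
  let ℓ : (Fin b → R) →ₗ[R] N := Fintype.linearCombination R y
  have hℓ : ∀ v, ℓ v = ∑ i, v i • y i := fun v => Fintype.linearCombination_apply R y v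
  have hle : LinearMap.ker π ≤ LinearMap.ker ℓ := by
    intro v hv
    obtain ⟨w, rfl⟩ := (hex v).1 hv
    rw [LinearMap.mem_ker, hℓ, sum_g_apply, hy]
    simp
  refine ⟨((LinearMap.ker π).liftQ ℓ hle) ∘ₗ (π.quotKerEquivOfSurjective hπ).symm.toLinearMap, ?_⟩
  intro v
  rw [LinearMap.comp_apply, LinearEquiv.coe_coe, LinearMap.quotKerEquivOfSurjective_symm_apply,
    Submodule.liftQ_apply, hℓ]

theorem pi_mem_smul_top {a : ℕ} {N : Type*} [AddCommGroup N] [Module R N] (J : Ideal R)
    (v : Fin a → N) (hv : ∀ j, v j ∈ J • (⊤ : Submodule R N)) :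
    v ∈ J • (⊤ : Submodule R (Fin a → N)) := by
  have : v = ∑ j, LinearMap.single R (fun _ => N) j (v j) := by
    funext k
    simp [Finset.sum_apply, Pi.single_apply]
  rw [this]
  refine Submodule.sum_mem _ (fun j _ => ?_)
  have h1 : (J • (⊤ : Submodule R N)).map (LinearMap.single R (fun _ => N) j) ≤
      J • (⊤ : Submodule R (Fin a → N)) := by
    rw [Submodule.map_smul'']
    exact Submodule.smul_mono le_rfl le_top
  exact h1 ⟨_, hv j, rfl⟩

theorem proj_mem_smul_top {a : ℕ} {N : Type*} [AddCommGroup N] [Module R N] (J : Ideal R)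
    (v : Fin a → N) (hv : v ∈ J • (⊤ : Submodule R (Fin a → N))) (j : Fin a) :
    v j ∈ J • (⊤ : Submodule R N) := by
  have h1 : (J • (⊤ : Submodule R (Fin a → N))).map (LinearMap.proj j : (Fin a → N) →ₗ[R] N) ≤
      J • (⊤ : Submodule R N) := by
    rw [Submodule.map_smul'']
    exact Submodule.smul_mono le_rfl le_top
  exact h1 ⟨_, hv, rfl⟩

end

/-- Let `R` be Noetherian, `I` an ideal inside the Jacobson radical and `u : N → M` a map of finite
`R`-modules. If for arbitrarily large `n` the induced map `N/IⁿN → M/IⁿM` has a left inverse, then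
`u` has a left inverse. -/
theorem result {R M N : Type u} [CommRing R] [IsNoetherianRing R] (I : Ideal R)
    (hI : I ≤ (⊥ : Ideal R).jacobson) [AddCommGroup M] [Module R M] [Module.Finite R M] [AddCommGroup N] [Module R N]
    [Module.Finite R N] (u : N →ₗ[R] M)
    (h : ∀ n₀ : ℕ, ∃ n, n₀ ≤ n ∧ ∃ s : (M ⧸ (I ^ n) • (⊤ : Submodule R M)) →ₗ[R] (N ⧸ (I ^ n) • (⊤ : Submodule R N)),
      ∀ x : N, s (Submodule.Quotient.mk (u x)) = Submodule.Quotient.mk x) :
    ∃ s : M →ₗ[R] N, s.comp u = LinearMap.id := by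
  classical
  have hfp : Module.FinitePresentation R M := Module.finitePresentation_of_finite R M
  obtain ⟨b, a, π, g, hπ, hex⟩ := Module.FinitePresentation.exists_fin' R M
  obtain ⟨k, hk⟩ := Ideal.exists_pow_inf_eq_pow_smul I (LinearMap.range (phi N g))
  obtain ⟨n, hn, s, hs⟩ := h (k + 1)
  have hy : ∀ i : Fin b, ∃ y : N, (Submodule.Quotient.mk y : N ⧸ (I ^ n) • (⊤ : Submodule R N)) =
      s (Submodule.Quotient.mk (π (Pi.single i 1))) := fun i =>
    Submodule.Quotient.mk_surjective _ _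
  choose y hy using hy
  have hA : ∀ v : Fin b → R, s (Submodule.Quotient.mk (π v)) =
      Submodule.Quotient.mk (∑ i, v i • y i) := by
    intro v
    have h1 : π v = ∑ i, v i • π (Pi.single i 1) := by
      conv_lhs => rw [pi_eq_sum_univ' v]
      simp only [map_sum, map_smul]
    rw [h1, ← Submodule.mkQ_apply, ← Submodule.mkQ_apply, map_sum, map_sum, map_sum]
    refine Finset.sum_congr rfl (fun i _ => ?_)
    rw [map_smul, map_smul, map_smul, Submodule.mkQ_apply, Submodule.mkQ_apply, hy i]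
  have hB : phi N g y ∈ (I ^ n) • (⊤ : Submodule R (Fin a → N)) := by
    apply pi_mem_smul_top
    intro j
    rw [phi_apply, ← Submodule.Quotient.mk_eq_zero, ← hA]
    have : π (g (Pi.single j 1)) = 0 := (hex _).2 ⟨_, rfl⟩
    rw [this, Submodule.Quotient.mk_zero, map_zero]
  have hnk : k ≤ n := by omega
  have hmem : phi N g y ∈ (I ^ n) • (⊤ : Submodule R (Fin a → N)) ⊓ LinearMap.range (phi N g) :=
    ⟨hB, ⟨y, rfl⟩⟩
  rw [hk n hnk] at hmem
  have hmem2 : phi N g y ∈ (I ^ (n - k)) • LinearMap.range (phi N g) :=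
    Submodule.smul_mono le_rfl inf_le_right hmem
  rw [← Submodule.map_top, ← Submodule.map_smul''] at hmem2
  obtain ⟨y', hy', hy'eq⟩ := hmem2
  have hz : phi N g (y - y') = 0 := by rw [map_sub, hy'eq, sub_self]
  obtain ⟨t, ht⟩ := descend g π hπ hex (y - y') hz
  have hIn : I ^ n ≤ I := Ideal.pow_le_self (by omega)
  have hInk : I ^ (n - k) ≤ I := Ideal.pow_le_self (by omega)
  have hC : ∀ x : N, t (u x) - x ∈ I • (⊤ : Submodule R N) := by
    intro x
    obtain ⟨v, hv⟩ := hπ (u x)
    have h1 : (∑ i, v i • y i) - x ∈ (I ^ n) • (⊤ : Submodule R N) := by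
      rw [← Submodule.Quotient.mk_eq_zero, Submodule.Quotient.mk_sub, ← hA, hv, hs, sub_self]
    have h2 : ∑ i, v i • y' i ∈ (I ^ (n - k)) • (⊤ : Submodule R N) :=
      Submodule.sum_mem _ (fun i _ => Submodule.smul_mem _ _ (proj_mem_smul_top _ y' hy' i))
    have h3 : t (u x) - x = ((∑ i, v i • y i) - x) - ∑ i, v i • y' i := by
      rw [← hv, ht]
      simp only [Pi.sub_apply, smul_sub, Finset.sum_sub_distrib]
      abel
    rw [h3]
    exact Submodule.sub_mem _ (Submodule.smul_mono_left hIn h1) (Submodule.smul_mono_left hInk h2)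
  have hsurj : Function.Surjective (t ∘ₗ u) := by
    rw [← LinearMap.range_eq_top, eq_top_iff]
    apply Submodule.le_of_le_smul_of_le_jacobson_bot (Module.Finite.fg_top) hI
    intro x _
    have : x = (t ∘ₗ u) x + (-(t (u x) - x)) := by
      rw [LinearMap.comp_apply]; abel
    rw [this]
    exact Submodule.add_mem_sup ⟨x, rfl⟩ (Submodule.neg_mem _ (hC x))
  have hinj : Function.Injective (t ∘ₗ u) :=
    OrzechProperty.injective_of_surjective_endomorphism _ hsurj
  let e : N ≃ₗ[R] N := LinearEquiv.ofBijective (t ∘ₗ u) ⟨hinj, hsurj⟩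
  refine ⟨e.symm.toLinearMap ∘ₗ t, ?_⟩
  ext x
  simp only [LinearMap.comp_apply, LinearEquiv.coe_coe, LinearMap.id_apply]
  rw [LinearEquiv.symm_apply_eq]
  rfl

end Groth.Agent.S2098
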