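import Groth.Statements.S2105
import Mathlib

set_option autoImplicit false
universe u
open CAlg

namespace Groth.Agent.S2105

section
variable {A : Type u} [CommRing A]

/-- the span of the Koszul relations -/
def Kos {c : ℕ} (f : Fin c → A) : Submodule A (Fin c → A) :=
  Submodule.span A {v : Fin c → A | ∃ i j : Fin c, v = Pi.single i (f j) - Pi.single j (f i)}

theorem kos_mem {c : ℕ} (f : Fin c → A) (i j : Fin c) :
    Pi.single i (f j) - Pi.single j (f i) ∈ Kos f :=
  Submodule.subset_span ⟨i, j, rfl⟩

theorem kos_rel {c : ℕ} (f : Fin c → A) (v : Fin c → A) (hv : v ∈ Kos f) : ∑ i, v i * f i = 0 := by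
  induction hv using Submodule.span_induction with
  | mem x hx =>
    obtain ⟨i, j, rfl⟩ := hx
    simp only [Pi.sub_apply, sub_mul, Finset.sum_sub_distrib]
    rw [Finset.sum_eq_single i, Finset.sum_eq_single j]
    · simp only [Pi.single_eq_same]
      ring
    · intro b _ hb
      rw [Pi.single_eq_of_ne hb, zero_mul]
    · intro h; exact absurd (Finset.mem_univ _) h
    · intro b _ hb
      rw [Pi.single_eq_of_ne hb, zero_mul]
    · intro h; exact absurd (Finset.mem_univ _) h
  | zero => simp
  | add x y _ _ hx hy =>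
    simp only [Pi.add_apply, add_mul, Finset.sum_add_distrib, hx, hy, add_zero]
  | smul r x _ hx =>
    simp only [Pi.smul_apply, smul_eq_mul, mul_assoc]
    rw [← Finset.mul_sum, hx, mul_zero]

/-- push forward of vectors along an injection of index sets -/
noncomputable def iota {c c' : ℕ} (e : Fin c → Fin c') : (Fin c → A) →ₗ[A] (Fin c' → A) :=
  ∑ i, (LinearMap.single A (fun _ : Fin c' => A) (e i)) ∘ₗ (LinearMap.proj i)

theorem iota_apply {c c' : ℕ} (e : Fin c → Fin c') (v : Fin c → A) (k : Fin c') :
    iota e v k = ∑ i, (Pi.single (e i) (v i) : Fin c' → A) k := by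
  simp [iota, LinearMap.sum_apply, Finset.sum_apply]

theorem iota_apply_same {c c' : ℕ} (e : Fin c → Fin c') (he : Function.Injective e) (v : Fin c → A) (i : Fin c) :
    iota e v (e i) = v i := by
  rw [iota_apply, Finset.sum_eq_single i]
  · rw [Pi.single_eq_same]
  · intro b _ hb
    rw [Pi.single_eq_of_ne (fun h => hb (he h).symm)]
  · intro h; exact absurd (Finset.mem_univ _) h

theorem iota_apply_other {c c' : ℕ} (e : Fin c → Fin c') (v : Fin c → A) (k : Fin c')
    (hk : ∀ i, e i ≠ k) : iota e v k = 0 := by
  rw [iota_apply]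
  apply Finset.sum_eq_zero
  intro i _
  rw [Pi.single_eq_of_ne (fun h => hk i h.symm)]

theorem iota_single {c c' : ℕ} (e : Fin c → Fin c') (i : Fin c) (x : A) :
    iota e (Pi.single i x) = Pi.single (e i) x := by
  funext k
  rw [iota_apply, Finset.sum_eq_single i]
  · rw [Pi.single_eq_same]
  · intro b _ hb
    rw [Pi.single_eq_of_ne hb, Pi.single_zero, Pi.zero_apply]
  · intro h; exact absurd (Finset.mem_univ _) h

theorem iota_kos {c c' : ℕ} (e : Fin c → Fin c') (f : Fin c → A) (F : Fin c' → A) (hF : ∀ i, F (e i) = f i)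
    (v : Fin c → A) (hv : v ∈ Kos f) : iota e v ∈ Kos F := by
  induction hv using Submodule.span_induction with
  | mem x hx =>
    obtain ⟨i, j, rfl⟩ := hx
    rw [map_sub, iota_single, iota_single, ← hF j, ← hF i]
    exact kos_mem F (e i) (e j)
  | zero => rw [map_zero]; exact zero_mem _
  | add x y _ _ hx hy => rw [map_add]; exact add_mem hx hy
  | smul r x _ hx => rw [map_smul]; exact Submodule.smul_mem _ _ hx

/-- lifting Koszul relations from a quotient -/
theorem kos_lift {c : ℕ} (I : Ideal A) (g : Fin c → A) (v : Fin c → A ⧸ I)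
    (hv : v ∈ Kos (fun j => Ideal.Quotient.mk I (g j))) :
    ∃ w ∈ Kos g, ∀ j, Ideal.Quotient.mk I (w j) = v j := by
  induction hv using Submodule.span_induction with
  | mem x hx =>
    obtain ⟨i, j, rfl⟩ := hx
    refine ⟨_, kos_mem g i j, ?_⟩
    intro k
    simp only [Pi.sub_apply, map_sub]
    congr 1
    · by_cases h : k = i
      · subst h; simp
      · rw [Pi.single_eq_of_ne h, Pi.single_eq_of_ne h, map_zero]
    · by_cases h : k = j
      · subst h; simp
      · rw [Pi.single_eq_of_ne h, Pi.single_eq_of_ne h, map_zero]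
  | zero => exact ⟨0, zero_mem _, fun j => by simp⟩
  | add x y _ _ hx hy =>
    obtain ⟨w1, h1, h1'⟩ := hx
    obtain ⟨w2, h2, h2'⟩ := hy
    exact ⟨w1 + w2, add_mem h1 h2, fun j => by simp [h1', h2']⟩
  | smul r x _ hx =>
    obtain ⟨w1, h1, h1'⟩ := hx
    obtain ⟨r', rfl⟩ := Ideal.Quotient.mk_surjective r
    exact ⟨r' • w1, Submodule.smul_mem _ _ h1, fun j => by simp [h1']⟩

end

/-- Appending to an `H_1`-regular sequence `f` a sequence `g` whose image modulo the ideal `(f)` is
`H_1`-regular yields an `H_1`-regular sequence. -/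
theorem result {A : Type u} [CommRing A] {n m : ℕ} (f : Fin n → A)
    (g : Fin m → A) (hf : CAlgX.IsH1Regular f)
    (hg : CAlgX.IsH1Regular (fun j => Ideal.Quotient.mk (Ideal.span (Set.range f)) (g j))) :
    CAlgX.IsH1Regular (Fin.append f g) := by
  classical
  intro a ha
  change a ∈ Kos (Fin.append f g)
  rw [Fin.sum_univ_add] at ha
  simp only [Fin.append_left, Fin.append_right] at ha
  -- the g-part modulo J
  have hbar : ∑ j, Ideal.Quotient.mk (Ideal.span (Set.range f)) (a (Fin.natAdd n j)) *
      Ideal.Quotient.mk (Ideal.span (Set.range f)) (g j) = 0 := by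
    simp_rw [← map_mul]
    rw [← map_sum, Ideal.Quotient.eq_zero_iff_mem]
    have h1 : ∑ j, a (Fin.natAdd n j) * g j = - ∑ i, a (Fin.castAdd m i) * f i := by
      linear_combination ha
    rw [h1]
    apply neg_mem
    apply Ideal.sum_mem
    intro i _
    exact Ideal.mul_mem_left _ _ (Ideal.subset_span ⟨i, rfl⟩)
  have hk := hg (fun j => Ideal.Quotient.mk (Ideal.span (Set.range f)) (a (Fin.natAdd n j))) hbar
  obtain ⟨w, hw, hw'⟩ := kos_lift (Ideal.span (Set.range f)) g _ hk
  have hd : ∀ j, ∃ d : Fin n → A, ∑ i, d i * f i = a (Fin.natAdd n j) - w j := by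
    intro j
    have : a (Fin.natAdd n j) - w j ∈ Ideal.span (Set.range f) := by
      rw [← Ideal.Quotient.eq_zero_iff_mem, map_sub, hw' j, sub_self]
    exact (Ideal.mem_span_range_iff_exists_fun).1 this
  choose d hd using hd
  -- the corrected f-part
  have hrel : ∑ i, (a (Fin.castAdd m i) + ∑ j, d j i * g j) * f i = 0 := by
    have hwrel := kos_rel g w hw
    simp only [add_mul, Finset.sum_add_distrib, Finset.sum_mul]
    rw [Finset.sum_comm]
    have h2 : ∑ j, ∑ i, d j i * g j * f i = ∑ j, (a (Fin.natAdd n j) - w j) * g j := by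
      apply Finset.sum_congr rfl
      intro j _
      rw [← hd j, Finset.sum_mul]
      apply Finset.sum_congr rfl
      intro i _
      ring
    rw [h2]
    simp only [sub_mul, Finset.sum_sub_distrib]
    rw [hwrel]
    linear_combination ha
  have ha'' := hf (fun i => a (Fin.castAdd m i) + ∑ j, d j i * g j) hrel
  change (fun i => a (Fin.castAdd m i) + ∑ j, d j i * g j) ∈ Kos f at ha''
  have e1 := iota_kos (Fin.castAdd m) f (Fin.append f g) (fun i => Fin.append_left f g i) _ ha''
  have e2 := iota_kos (Fin.natAdd n) g (Fin.append f g) (fun j => Fin.append_right f g j) _ hw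
  have e3 : ∑ j, ∑ i, d j i • ((Pi.single (Fin.natAdd n j) (Fin.append f g (Fin.castAdd m i)) : Fin (n + m) → A) -
      Pi.single (Fin.castAdd m i) (Fin.append f g (Fin.natAdd n j))) ∈ Kos (Fin.append f g) := by
    apply Submodule.sum_mem
    intro j _
    apply Submodule.sum_mem
    intro i _
    exact Submodule.smul_mem _ _ (kos_mem _ _ _)
  have hsum : a = iota (Fin.castAdd m) (fun i => a (Fin.castAdd m i) + ∑ j, d j i * g j) +
      iota (Fin.natAdd n) w +
      ∑ j, ∑ i, d j i • ((Pi.single (Fin.natAdd n j) (Fin.append f g (Fin.castAdd m i)) : Fin (n + m) → A) -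
      Pi.single (Fin.castAdd m i) (Fin.append f g (Fin.natAdd n j))) := by
    funext k
    induction k using Fin.addCases with
    | left i₀ =>
      have hne : ∀ j, Fin.natAdd n j ≠ Fin.castAdd m i₀ := by
        intro j h
        have := congrArg Fin.val h
        simp at this
        omega
      rw [Pi.add_apply, Pi.add_apply, iota_apply_same _ (Fin.castAdd_injective n m),
        iota_apply_other _ _ _ hne, Finset.sum_apply]
      simp only [Finset.sum_apply, Pi.smul_apply, Pi.sub_apply, smul_eq_mul, Fin.append_left, Fin.append_right]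
      have h3 : ∀ j, ∑ i, d j i * ((Pi.single (Fin.natAdd n j) (f i) : Fin (n + m) → A) (Fin.castAdd m i₀) -
          (Pi.single (Fin.castAdd m i) (g j) : Fin (n + m) → A) (Fin.castAdd m i₀)) = - (d j i₀ * g j) := by
        intro j
        rw [Finset.sum_eq_single i₀]
        · rw [Pi.single_eq_of_ne (hne j).symm, Pi.single_eq_same]
          ring
        · intro b _ hb
          rw [Pi.single_eq_of_ne (hne j).symm, Pi.single_eq_of_ne
            (fun h => hb ((Fin.castAdd_injective n m) h).symm)]
          ring
        · intro h; exact absurd (Finset.mem_univ _) h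
      simp_rw [h3]
      rw [Finset.sum_neg_distrib]
      ring
    | right j₀ =>
      have hne : ∀ i, Fin.castAdd m i ≠ Fin.natAdd n j₀ := by
        intro i h
        have := congrArg Fin.val h
        simp at this
        omega
      rw [Pi.add_apply, Pi.add_apply, iota_apply_same _ (Fin.natAdd_injective m n),
        iota_apply_other _ _ _ hne, Finset.sum_apply]
      simp only [Finset.sum_apply, Pi.smul_apply, Pi.sub_apply, smul_eq_mul, Fin.append_left, Fin.append_right]
      rw [Finset.sum_eq_single j₀]
      · have h4 : ∑ i, d j₀ i * ((Pi.single (Fin.natAdd n j₀) (f i) : Fin (n + m) → A) (Fin.natAdd n j₀) -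
            (Pi.single (Fin.castAdd m i) (g j₀) : Fin (n + m) → A) (Fin.natAdd n j₀)) = ∑ i, d j₀ i * f i := by
          apply Finset.sum_congr rfl
          intro i _
          rw [Pi.single_eq_same, Pi.single_eq_of_ne (hne i).symm, sub_zero]
        rw [h4, hd j₀]
        ring
      · intro b _ hb
        apply Finset.sum_eq_zero
        intro i _
        rw [Pi.single_eq_of_ne (fun h => hb ((Fin.natAdd_injective m n) h).symm),
          Pi.single_eq_of_ne (hne i).symm]
        ring
      · intro h; exact absurd (Finset.mem_univ _) h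
  rw [hsum]
  exact add_mem (add_mem e1 e2) e3

end Groth.Agent.S2105
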