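import Groth.Statements.S2111
import Mathlib

set_option autoImplicit false
universe u
open CAlg

namespace Groth.Agent.S2111



section
variable {R : Type u} [CommRing R] [IsDomain R] [IsNoetherianRing R] [IsIntegrallyClosed R]

local notation "K" => FractionRing R

/-- key claim: if `P = (b : z)` is prime with `b ≠ 0`, then `P` has height one. -/
theorem height_eq_one (P : Ideal R) [hP : P.IsPrime] (b z : R) (hb : b ≠ 0)
    (hPz : ∀ r : R, r ∈ P ↔ r * z ∈ Ideal.span {b}) : P.height = 1 := by
  let A := Localization.AtPrime P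
  haveI : IsIntegrallyClosed A :=
    isIntegrallyClosed_of_isLocalization A P.primeCompl P.primeCompl_le_nonZeroDivisors
  let ι : A →+* K := algebraMap A K
  have hι : Function.Injective ι := IsFractionRing.injective A K
  have hRK : Function.Injective (algebraMap R K) := IsFractionRing.injective R K
  have htower : ∀ r : R, ι (algebraMap R A r) = algebraMap R K r := fun r =>
    (IsScalarTower.algebraMap_apply R A K r).symm
  have hbP : b ∈ P := by
    rw [hPz]; exact Ideal.mem_span_singleton'.2 ⟨z, mul_comm z b⟩
  have hb0 : algebraMap R K b ≠ 0 := fun h => hb (hRK (by rw [h, map_zero]))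
  set y : K := algebraMap R K z / algebraMap R K b with hy
  -- multiplication by y sends the maximal ideal into A
  have hmul : ∀ t ∈ IsLocalRing.maximalIdeal A, ∃ u : A, y * ι t = ι u := by
    intro t ht
    obtain ⟨r, s, rfl⟩ := IsLocalization.exists_mk'_eq P.primeCompl t
    rw [IsLocalization.AtPrime.mk'_mem_maximal_iff A P] at ht
    obtain ⟨c, hc⟩ := Ideal.mem_span_singleton'.1 ((hPz r).1 ht)
    refine ⟨IsLocalization.mk' A c s, ?_⟩
    have hs0 : ι (algebraMap R A s) ≠ 0 := by
      rw [htower]
      intro h
      have : (s : R) = 0 := hRK (by rw [h, map_zero])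
      exact s.2 (this ▸ P.zero_mem)
    apply mul_right_cancel₀ hs0
    have e1 : ι (IsLocalization.mk' A r s) * ι (algebraMap R A s) = ι (algebraMap R A r) := by
      rw [← map_mul, IsLocalization.mk'_spec]
    have e2 : ι (IsLocalization.mk' A c s) * ι (algebraMap R A s) = ι (algebraMap R A c) := by
      rw [← map_mul, IsLocalization.mk'_spec]
    rw [mul_assoc, e1, e2, htower, htower, hy, div_mul_eq_mul_div, ← map_mul, mul_comm z r, ← hc,
      map_mul, mul_div_assoc, div_self hb0, mul_one]
  -- y is not in A
  have hyA : ∀ w : A, ι w ≠ y := by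
    intro w hw
    obtain ⟨r, s, rfl⟩ := IsLocalization.exists_mk'_eq P.primeCompl w
    have e1 : ι (IsLocalization.mk' A r s) * ι (algebraMap R A s) = ι (algebraMap R A r) := by
      rw [← map_mul, IsLocalization.mk'_spec]
    rw [hw, htower, htower, hy, div_mul_eq_mul_div, div_eq_iff hb0, ← map_mul, ← map_mul] at e1
    have e2 : z * s = r * b := hRK e1
    have : (s : R) ∈ P := by
      rw [hPz]; exact Ideal.mem_span_singleton'.2 ⟨r, by rw [← e2]; ring⟩
    exact s.2 this
  -- the maximal ideal as a submodule of K
  let N : Submodule A K := Submodule.map (Algebra.linearMap A K) (IsLocalRing.maximalIdeal A)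
  have hNfg : N.FG := Submodule.FG.map _ (IsNoetherian.noetherian _)
  have hbm : algebraMap R A b ∈ IsLocalRing.maximalIdeal A :=
    (IsLocalization.AtPrime.to_map_mem_maximal_iff A P b).2 hbP
  have hN0 : N ≠ ⊥ := by
    intro h
    have : ι (algebraMap R A b) ∈ N := Submodule.mem_map_of_mem hbm
    rw [h, Submodule.mem_bot, htower] at this
    exact hb0 this
  have hnot : ¬ ∀ n ∈ N, y • n ∈ N := by
    intro h
    have hint : IsIntegral A y := isIntegral_of_smul_mem_submodule N hN0 hNfg y h
    obtain ⟨w, hw⟩ := IsIntegrallyClosed.isIntegral_iff.1 hint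
    exact hyA w hw
  -- find t in the maximal ideal with y * t a unit
  have hex : ∃ t ∈ IsLocalRing.maximalIdeal A, ∃ u : A, IsUnit u ∧ y * ι t = ι u := by
    by_contra hcon
    apply hnot
    rintro _ ⟨t, ht, rfl⟩
    obtain ⟨u, hu⟩ := hmul t ht
    have hum : u ∈ IsLocalRing.maximalIdeal A := by
      by_contra hum
      have : IsUnit u := by
        by_contra hnu
        exact hum ((IsLocalRing.mem_maximalIdeal u).2 hnu)
      exact hcon ⟨t, ht, u, this, hu⟩
    refine ⟨u, hum, ?_⟩
    simp only [Algebra.linearMap_apply, smul_eq_mul]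
    exact hu.symm
  obtain ⟨t, ht, u, hu, htu⟩ := hex
  have hspan : IsLocalRing.maximalIdeal A = Ideal.span {t} := by
    apply le_antisymm
    · intro t' ht'
      obtain ⟨u', hu'⟩ := hmul t' ht'
      have e : t' * u = u' * t := by
        apply hι
        rw [map_mul, map_mul, ← htu, ← hu']; ring
      obtain ⟨v, hv⟩ := hu.exists_right_inv
      rw [Ideal.mem_span_singleton']
      refine ⟨u' * v, ?_⟩
      calc u' * v * t = (u' * t) * v := by ring
        _ = t' * (u * v) := by rw [← e]; ring
        _ = t' := by rw [hv, mul_one]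
    · rw [Ideal.span_le]
      intro w hw
      rw [Set.mem_singleton_iff] at hw
      rw [hw]; exact ht
  have hminp : IsLocalRing.maximalIdeal A ∈ (Ideal.span {t}).minimalPrimes := by
    refine ⟨⟨inferInstance, hspan.ge⟩, ?_⟩
    intro q hq _
    rw [hspan]; exact hq.2
  have hle : (IsLocalRing.maximalIdeal A).height ≤ 1 :=
    Ideal.height_le_one_of_isPrincipal_of_mem_minimalPrimes (Ideal.span {t}) _ hminp
  have hne : (IsLocalRing.maximalIdeal A).height ≠ 0 := by
    rw [Ne, Ideal.height_eq_zero_iff_eq_bot]
    intro h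
    rw [h, Ideal.mem_bot] at hbm
    have := htower b
    rw [hbm, map_zero] at this
    exact hb0 this.symm
  have h1 : (IsLocalRing.maximalIdeal A).height = 1 :=
    le_antisymm hle (Order.one_le_iff_ne_zero.2 hne)
  have h2 : ringKrullDim A = P.height := IsLocalization.AtPrime.ringKrullDim_eq_height P A
  have h3 := IsLocalRing.maximalIdeal_height_eq_ringKrullDim (R := A)
  rw [h2, h1] at h3
  exact (WithBot.coe_injective h3).symm

theorem main (x : K)
    (hx : ∀ (p : Ideal R) [p.IsPrime], p.height = 1 →
      x ∈ Set.range (algebraMap (Localization.AtPrime p) K)) :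
    x ∈ Set.range (algebraMap R K) := by
  have hRK : Function.Injective (algebraMap R K) := IsFractionRing.injective R K
  obtain ⟨a, ⟨b, hbmem⟩, rfl⟩ := IsLocalization.exists_mk'_eq (nonZeroDivisors R) x
  have hb : b ≠ 0 := nonZeroDivisors.ne_zero hbmem
  have hb0 : algebraMap R K b ≠ 0 := fun h => hb (hRK (by rw [h, map_zero]))
  set x : K := IsLocalization.mk' K a ⟨b, hbmem⟩ with hxdef
  have hxab : x * algebraMap R K b = algebraMap R K a := IsLocalization.mk'_spec K a ⟨b, hbmem⟩
  by_contra hcon
  have ha : (Ideal.Quotient.mk (Ideal.span {b}) a) ≠ 0 := by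
    intro h
    rw [Ideal.Quotient.eq_zero_iff_mem, Ideal.mem_span_singleton'] at h
    obtain ⟨c, hc⟩ := h
    apply hcon
    refine ⟨c, ?_⟩
    apply mul_right_cancel₀ hb0
    rw [hxab, ← map_mul, hc]
  obtain ⟨P, hP, hle⟩ := exists_le_isAssociatedPrime_of_isNoetherianRing R
    (Ideal.Quotient.mk (Ideal.span {b}) a) ha
  obtain ⟨hPprime, zb, hPz⟩ := isAssociatedPrime_iff.1 hP
  obtain ⟨z, rfl⟩ := Ideal.Quotient.mk_surjective zb
  have hPz' : ∀ r : R, r ∈ P ↔ r * z ∈ Ideal.span {b} := by
    intro r
    rw [hPz, Submodule.mem_colon_singleton, Submodule.mem_bot]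
    have : r • (Ideal.Quotient.mk (Ideal.span {b})) z = Ideal.Quotient.mk (Ideal.span {b}) (r * z) := by
      rw [map_mul]; rfl
    rw [this, Ideal.Quotient.eq_zero_iff_mem]
  haveI := hPprime
  have hh : P.height = 1 := height_eq_one P b z hb hPz'
  obtain ⟨w, hw⟩ := hx P hh
  obtain ⟨r, s, rfl⟩ := IsLocalization.exists_mk'_eq P.primeCompl w
  have e1 : algebraMap (Localization.AtPrime P) K (IsLocalization.mk' (Localization.AtPrime P) r s) *
      algebraMap (Localization.AtPrime P) K (algebraMap R (Localization.AtPrime P) s) =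
      algebraMap (Localization.AtPrime P) K (algebraMap R (Localization.AtPrime P) r) := by
    rw [← map_mul, IsLocalization.mk'_spec]
  rw [hw, ← IsScalarTower.algebraMap_apply, ← IsScalarTower.algebraMap_apply] at e1
  have e2 : algebraMap R K (a * s) = algebraMap R K (r * b) := by
    rw [map_mul, map_mul, ← hxab, ← e1]; ring
  have e3 : a * s = r * b := hRK e2
  have hsP : (s : R) ∈ P := by
    apply hle
    rw [Submodule.mem_colon_singleton, Submodule.mem_bot]
    have : (s : R) • (Ideal.Quotient.mk (Ideal.span {b})) a =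
        Ideal.Quotient.mk (Ideal.span {b}) (s * a) := by
      rw [map_mul]; rfl
    rw [this, Ideal.Quotient.eq_zero_iff_mem, Ideal.mem_span_singleton']
    exact ⟨r, by rw [← e3]; ring⟩
  exact s.2 hsP

end


/-- Let `R` be a Noetherian normal domain with fraction field `K`. An element of `K` which lies in `R_𝔭`
for every prime `𝔭` of height one lies in `R`. -/
theorem result {R : Type u} [CommRing R] [IsDomain R] [IsNoetherianRing R]
    [IsIntegrallyClosed R] (x : FractionRing R)
    (hx : ∀ (p : Ideal R) [p.IsPrime], p.height = 1 →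
      x ∈ Set.range (algebraMap (Localization.AtPrime p) (FractionRing R))) :
    x ∈ Set.range (algebraMap R (FractionRing R)) := by
  classical
  exact main x hx

end Groth.Agent.S2111
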