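import Groth.Statements.S2118
import Mathlib

set_option autoImplicit false
universe u
open CategoryTheory
open CAlg

namespace Groth.Agent.S2118

section
open CategoryTheory Limits

section lazard
variable (R : Type u) [CommRing R] (M : Type u) [AddCommGroup M] [Module R M]

/-- the index category -/
structure Obj : Type u where
  n : ℕ
  x : (Fin n →₀ R) →ₗ[R] M

variable {R M}

/-- morphisms of the index category -/
def Hm (a b : Obj R M) : Type u :=
  {φ : (Fin a.n →₀ R) →ₗ[R] (Fin b.n →₀ R) // b.x ∘ₗ φ = a.x}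

noncomputable instance : Category.{u} (Obj R M) where
  Hom a b := Hm a b
  id a := ⟨LinearMap.id, by simp⟩
  comp {a b c} f g := ⟨g.1 ∘ₗ f.1, by rw [← LinearMap.comp_assoc, g.2, f.2]⟩
  id_comp f := Subtype.ext (by simp)
  comp_id f := Subtype.ext (by simp)
  assoc f g h := Subtype.ext (by simp [LinearMap.comp_assoc])

theorem comp_val {a b c : Obj R M} (f : a ⟶ b) (g : b ⟶ c) : (f ≫ g).1 = g.1 ∘ₗ f.1 := rfl
theorem id_val (a : Obj R M) : (𝟙 a : a ⟶ a).1 = LinearMap.id := rfl

theorem hom_ext' {a b : Obj R M} (f g : a ⟶ b) (h : f.1 = g.1) : f = g := Subtype.ext h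

variable (R M)
/-- the diagram -/
noncomputable def G : Obj R M ⥤ ModuleCat.{u} R where
  obj a := ModuleCat.of R (Fin a.n →₀ R)
  map f := ModuleCat.ofHom f.1
  map_id _ := rfl
  map_comp _ _ := rfl

variable {R M}

theorem isFiltered [Module.Flat R M] : IsFiltered (Obj R M) := by
  have h1 : IsFilteredOrEmpty (Obj R M) := by
    constructor
    · intro a b
      let N := (Fin a.n →₀ R) × (Fin b.n →₀ R)
      let e : N ≃ₗ[R] (Fin _ →₀ R) :=
        ((Module.Free.chooseBasis R N).reindex (Fintype.equivFin _)).repr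
      let c : Obj R M := ⟨_, (a.x.coprod b.x) ∘ₗ e.symm.toLinearMap⟩
      refine ⟨c, ⟨e.toLinearMap ∘ₗ LinearMap.inl R _ _, ?_⟩, ⟨e.toLinearMap ∘ₗ LinearMap.inr R _ _, ?_⟩,
        trivial⟩
      · refine LinearMap.ext fun v => ?_
        show (a.x.coprod b.x) (e.symm (e (v, 0))) = a.x v
        rw [e.symm_apply_apply, LinearMap.coprod_apply, map_zero, add_zero]
      · refine LinearMap.ext fun v => ?_
        show (a.x.coprod b.x) (e.symm (e (0, v))) = b.x v
        rw [e.symm_apply_apply, LinearMap.coprod_apply, map_zero, zero_add]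
    · intro a b f g
      have h0 : b.x ∘ₗ (f.1 - g.1) = 0 := by
        rw [LinearMap.comp_sub, f.2, g.2, sub_self]
      obtain ⟨k, c, y, hy, hc⟩ := Module.Flat.exists_factorization_of_comp_eq_zero_of_free h0
      let d : Obj R M := ⟨k, y⟩
      let h : b ⟶ d := ⟨c, hy.symm⟩
      refine ⟨d, h, ?_⟩
      apply hom_ext'
      rw [comp_val, comp_val]
      rw [LinearMap.comp_sub] at hc
      exact sub_eq_zero.1 hc
  have h2 : Nonempty (Obj R M) := ⟨⟨0, 0⟩⟩
  exact IsFiltered.mk

variable (R M) in
/-- the tautological cocone -/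
noncomputable def cc : Cocone (G R M) where
  pt := ModuleCat.of R M
  ι :=
    { app := fun a => ModuleCat.ofHom a.x
      naturality := fun a b f => by
        refine Eq.trans ?_ (Category.comp_id _).symm
        show ModuleCat.ofHom f.1 ≫ ModuleCat.ofHom b.x = ModuleCat.ofHom a.x
        rw [← ModuleCat.ofHom_comp, f.2] }

theorem desc_bijective [Module.Flat R M] :
    Function.Bijective (colimit.desc (G R M) (cc R M)).hom := by
  have hF : IsFiltered (Obj R M) := isFiltered
  have hι : ∀ (a : Obj R M) (v : Fin a.n →₀ R),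
      (colimit.desc (G R M) (cc R M)).hom ((colimit.ι (G R M) a).hom v) = a.x v := by
    intro a v
    have := colimit.ι_desc (cc R M) a
    exact congrArg (fun k => k.hom v) this
  constructor
  · rw [injective_iff_map_eq_zero]
    intro z hz
    obtain ⟨a, v, rfl⟩ := Concrete.colimit_exists_rep (G R M) z
    have h1 : a.x v = 0 := (hι a v).symm.trans hz
    obtain ⟨k, c, y, hy, hc⟩ := Module.Flat.exists_factorization_of_apply_eq_zero_of_free h1
    let d : Obj R M := ⟨k, y⟩
    let h : a ⟶ d := ⟨c, hy.symm⟩
    have h2 := colimit.w (G R M) h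
    have h3 := congrArg (fun k => k.hom v) h2
    have h4 : (colimit.ι (G R M) d).hom (c v) = (colimit.ι (G R M) a).hom v := h3
    rw [hc] at h4
    exact h4.symm.trans (map_zero (colimit.ι (G R M) d).hom)
  · intro m
    let a : Obj R M := ⟨1, Finsupp.linearCombination R (fun _ => m)⟩
    refine ⟨(colimit.ι (G R M) a).hom (Finsupp.single 0 1), ?_⟩
    rw [hι]
    show Finsupp.linearCombination R (fun _ => m) (Finsupp.single 0 1) = m
    rw [Finsupp.linearCombination_single, one_smul]

theorem forward [Module.Flat R M] :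
    ∃ (J : Type u) (_ : Preorder J) (_ : IsDirected J (fun a b => a ≤ b)) (_ : Nonempty J)
      (F : J ⥤ ModuleCat.{u} R), (∀ j, Module.Finite R (F.obj j) ∧ Module.Free R (F.obj j)) ∧
      Nonempty (Limits.colimit F ≅ ModuleCat.of R M) := by
  have hF : IsFiltered (Obj R M) := isFiltered
  obtain ⟨α, instPO, hdir, hne, F, hfinal⟩ := IsFiltered.exists_directed (Obj R M)
  refine ⟨α, instPO.toPreorder, hdir, hne, F ⋙ G R M, ?_, ?_⟩
  · intro j
    constructor
    · show Module.Finite R (Fin (F.obj j).n →₀ R)
      infer_instance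
    · show Module.Free R (Fin (F.obj j).n →₀ R)
      infer_instance
  · have e1 : colimit (G R M) ≅ ModuleCat.of R M :=
      (LinearEquiv.ofBijective (colimit.desc (G R M) (cc R M)).hom desc_bijective).toModuleIso
    exact ⟨Functor.Final.colimitIso F (G R M) ≪≫ e1⟩

end lazard

section backward
variable {R : Type u} [CommRing R]

theorem flat_colimit (J : Type u) [Preorder J] [IsDirected J (fun a b => a ≤ b)] [Nonempty J]
    (F : J ⥤ ModuleCat.{u} R) (hF : ∀ j, Module.Finite R (F.obj j) ∧ Module.Free R (F.obj j)) :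
    Module.Flat R (colimit F : ModuleCat.{u} R) := by
  have hfil : IsFiltered J := isFiltered_of_directed_le_nonempty J
  apply Module.Flat.of_forall_exists_factorization
  intro l f x hx
  -- step 1: factor through a stage
  have h1 : ∀ i : Fin l, ∃ (j : J) (y : F.obj j), (colimit.ι F j).hom y = x (Finsupp.single i 1) :=
    fun i => Concrete.colimit_exists_rep F (x (Finsupp.single i 1))
  choose js ys hys using h1
  obtain ⟨j, hj⟩ := Finite.exists_le js
  let y' : Fin l → F.obj j := fun i => (F.map (homOfLE (hj i))).hom (ys i)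
  have hy' : ∀ i, (colimit.ι F j).hom (y' i) = x (Finsupp.single i 1) := by
    intro i
    have h2 := colimit.w F (homOfLE (hj i))
    have h3 := congrArg (fun k => k.hom (ys i)) h2
    exact h3.trans (hys i)
  let xj : (Fin l →₀ R) →ₗ[R] F.obj j := Finsupp.linearCombination R y'
  have hxj : (colimit.ι F j).hom ∘ₗ xj = x := by
    apply Finsupp.lhom_ext
    intro i r
    rw [LinearMap.comp_apply]
    show (colimit.ι F j).hom (Finsupp.linearCombination R y' (Finsupp.single i r)) = _
    rw [Finsupp.linearCombination_single, map_smul, hy', ← map_smul, Finsupp.smul_single,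
      smul_eq_mul, mul_one]
  -- step 2: kill the image of f
  have h4 : (colimit.ι F j).hom (xj f) = (colimit.ι F j).hom 0 := by
    rw [map_zero, ← hx, ← hxj]
    rfl
  obtain ⟨k, g, g', hgg'⟩ := (Concrete.colimit_rep_eq_iff_exists F (xj f) (0 : F.obj j)).1 h4
  have h5 : (F.map g).hom (xj f) = 0 := hgg'.trans (map_zero (F.map g').hom)
  -- step 3
  have hfin : Module.Finite R (F.obj k) := (hF k).1
  have hfree : Module.Free R (F.obj k) := (hF k).2
  let e : F.obj k ≃ₗ[R] (Fin _ →₀ R) :=
    ((Module.Free.chooseBasis R (F.obj k)).reindex (Fintype.equivFin _)).repr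
  refine ⟨_, e.toLinearMap ∘ₗ (F.map g).hom ∘ₗ xj, (colimit.ι F k).hom ∘ₗ e.symm.toLinearMap, ?_, ?_⟩
  · rw [← hxj]
    refine LinearMap.ext fun v => ?_
    show (colimit.ι F j).hom (xj v) = (colimit.ι F k).hom (e.symm (e ((F.map g).hom (xj v))))
    rw [e.symm_apply_apply]
    have h2 := colimit.w F g
    exact (congrArg (fun k => k.hom (xj v)) h2).symm
  · show e ((F.map g).hom (xj f)) = 0
    rw [h5, map_zero]

theorem backward (M : Type u) [AddCommGroup M] [Module R M]
    (h : ∃ (J : Type u) (_ : Preorder J) (_ : IsDirected J (fun a b => a ≤ b)) (_ : Nonempty J)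
      (F : J ⥤ ModuleCat.{u} R), (∀ j, Module.Finite R (F.obj j) ∧ Module.Free R (F.obj j)) ∧
      Nonempty (Limits.colimit F ≅ ModuleCat.of R M)) : Module.Flat R M := by
  obtain ⟨J, i1, i2, i3, F, hF, ⟨e⟩⟩ := h
  have := flat_colimit J F hF
  exact Module.Flat.of_linearEquiv e.toLinearEquiv.symm

end backward

theorem main {R : Type u} [CommRing R] (M : Type u) [AddCommGroup M] [Module R M] :
    Module.Flat R M ↔
      ∃ (J : Type u) (_ : Preorder J) (_ : IsDirected J (fun a b => a ≤ b)) (_ : Nonempty J)
        (F : J ⥤ ModuleCat.{u} R), (∀ j, Module.Finite R (F.obj j) ∧ Module.Free R (F.obj j)) ∧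
        Nonempty (Limits.colimit F ≅ ModuleCat.of R M) :=
  ⟨fun _ => forward, backward M⟩


end


/-- An `R`-module `M` is flat if and only if it is isomorphic to the colimit of a diagram of finite free
`R`-modules indexed by a nonempty directed preorder (in the same universe). -/
theorem result {R : Type u} [CommRing R] (M : Type u) [AddCommGroup M] [Module R M] :
    Module.Flat R M ↔
      ∃ (J : Type u) (_ : Preorder J) (_ : IsDirected J (fun a b => a ≤ b)) (_ : Nonempty J)
        (F : J ⥤ ModuleCat.{u} R), (∀ j, Module.Finite R (F.obj j) ∧ Module.Free R (F.obj j)) ∧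
        Nonempty (Limits.colimit F ≅ ModuleCat.of R M) := by
  classical
  exact main M

end Groth.Agent.S2118
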