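import Groth.Statements.S2119
import Mathlib

set_option autoImplicit false
universe u
open CAlg

namespace Groth.Agent.S2119



section
variable {A : Type u} [CommRing A] [IsDomain A] (P : Set A) (hP : ∀ p ∈ P, Prime p)
include hP

theorem ne_zero_of_mem {s : A} (hs : s ∈ Submonoid.closure P) : s ≠ 0 := by
  induction hs using Submonoid.closure_induction with
  | mem x hx => exact (hP x hx).ne_zero
  | one => exact one_ne_zero
  | mul x y _ _ hx hy => exact mul_ne_zero hx hy

/-- L1 -/
theorem dvd_of_dvd_mul {a : A} (ha : ∀ p ∈ P, ¬ p ∣ a) {s : A} (hs : s ∈ Submonoid.closure P) :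
    ∀ d : A, s ∣ a * d → s ∣ d := by
  induction hs using Submonoid.closure_induction with
  | mem x hx =>
    intro d hd
    exact ((hP x hx).dvd_or_dvd hd).resolve_left (ha x hx)
  | one => intro d _; exact one_dvd d
  | mul x y hx' hy' hx hy =>
    intro d hd
    obtain ⟨d₁, rfl⟩ := hx d (dvd_trans (dvd_mul_right x y) hd)
    have hx0 : x ≠ 0 := ne_zero_of_mem P hP hx'
    have h2 : y ∣ a * d₁ := by
      have : x * y ∣ x * (a * d₁) := by
        have e : a * (x * d₁) = x * (a * d₁) := by ring
        rwa [e] at hd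
      exact (mul_dvd_mul_iff_left hx0).1 this
    exact mul_dvd_mul_left x (hy d₁ h2)

/-- L2 -/
theorem split_dvd {s : A} (hs : s ∈ Submonoid.closure P) :
    ∀ b c : A, s ∣ b * c → ∃ s₁ s₂ : A, s₁ ∈ Submonoid.closure P ∧ s₂ ∈ Submonoid.closure P ∧
      s = s₁ * s₂ ∧ s₁ ∣ b ∧ s₂ ∣ c := by
  induction hs using Submonoid.closure_induction with
  | mem x hx =>
    intro b c h
    rcases (hP x hx).dvd_or_dvd h with h1 | h1
    · exact ⟨x, 1, Submonoid.subset_closure hx, Submonoid.one_mem _, (mul_one x).symm, h1, one_dvd c⟩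
    · exact ⟨1, x, Submonoid.one_mem _, Submonoid.subset_closure hx, (one_mul x).symm, one_dvd b, h1⟩
  | one =>
    intro b c _
    exact ⟨1, 1, Submonoid.one_mem _, Submonoid.one_mem _, (mul_one 1).symm, one_dvd b, one_dvd c⟩
  | mul x y hx' hy' hx hy =>
    intro b c h
    obtain ⟨s₁, s₂, hs₁, hs₂, rfl, ⟨b₁, rfl⟩, ⟨c₁, rfl⟩⟩ := hx b c (dvd_trans (dvd_mul_right x y) h)
    have hx0 : s₁ * s₂ ≠ 0 := ne_zero_of_mem P hP hx'
    have h2 : y ∣ b₁ * c₁ := by
      have : (s₁ * s₂) * y ∣ (s₁ * s₂) * (b₁ * c₁) := by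
        have e : s₁ * b₁ * (s₂ * c₁) = (s₁ * s₂) * (b₁ * c₁) := by ring
        rwa [e] at h
      exact (mul_dvd_mul_iff_left hx0).1 this
    obtain ⟨t₁, t₂, ht₁, ht₂, rfl, hb, hc⟩ := hy b₁ c₁ h2
    refine ⟨s₁ * t₁, s₂ * t₂, Submonoid.mul_mem _ hs₁ ht₁, Submonoid.mul_mem _ hs₂ ht₂, by ring,
      mul_dvd_mul_left s₁ hb, mul_dvd_mul_left s₂ hc⟩

end
section
variable {A : Type u} [CommRing A] [IsDomain A] (P : Set A) (hP : ∀ p ∈ P, Prime p)
include hP

theorem le_nzd : Submonoid.closure P ≤ nonZeroDivisors A := by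
  intro s hs
  exact mem_nonZeroDivisors_of_ne_zero (ne_zero_of_mem P hP hs)

theorem algMap_inj : Function.Injective (algebraMap A (Localization (Submonoid.closure P))) :=
  IsLocalization.injective _ (le_nzd P hP)

theorem isUnit_of_mem {s : A} (hs : s ∈ Submonoid.closure P) :
    IsUnit (algebraMap A (Localization (Submonoid.closure P)) s) :=
  IsLocalization.map_units _ (⟨s, hs⟩ : Submonoid.closure P)

theorem not_isUnit_map {a : A} (hirr : Irreducible a) (ha : ∀ p ∈ P, ¬ p ∣ a) :
    ¬ IsUnit (algebraMap A (Localization (Submonoid.closure P)) a) := by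
  intro hu
  obtain ⟨y, hy⟩ := hu.exists_right_inv
  obtain ⟨b, s, rfl⟩ := IsLocalization.exists_mk'_eq (Submonoid.closure P) y
  have h1 : algebraMap A (Localization (Submonoid.closure P)) (a * b) =
      algebraMap A (Localization (Submonoid.closure P)) s := by
    have := congrArg (fun z => z * algebraMap A (Localization (Submonoid.closure P)) s) hy
    simp only [one_mul, mul_assoc, IsLocalization.mk'_spec] at this
    rw [map_mul]; exact this
  have h2 : a * b = s := algMap_inj P hP h1
  obtain ⟨b', hb'⟩ := dvd_of_dvd_mul P hP ha s.2 b ⟨1, by rw [mul_one]; exact h2⟩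
  have hs0 : (s : A) ≠ 0 := ne_zero_of_mem P hP s.2
  have h3 : (s : A) * (a * b') = s * 1 := by
    rw [mul_one]; rw [hb'] at h2; nth_rewrite 2 [← h2]; ring
  have h4 := mul_left_cancel₀ hs0 h3
  exact hirr.not_isUnit (IsUnit.of_mul_eq_one _ h4)

theorem irreducible_map {a : A} (hirr : Irreducible a) (ha : ∀ p ∈ P, ¬ p ∣ a) :
    Irreducible (algebraMap A (Localization (Submonoid.closure P)) a) := by
  refine ⟨not_isUnit_map P hP hirr ha, ?_⟩
  intro x y hxy
  obtain ⟨b, s, rfl⟩ := IsLocalization.exists_mk'_eq (Submonoid.closure P) x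
  obtain ⟨c, t, rfl⟩ := IsLocalization.exists_mk'_eq (Submonoid.closure P) y
  have h1 : algebraMap A (Localization (Submonoid.closure P)) (a * (s * t)) =
      algebraMap A (Localization (Submonoid.closure P)) (b * c) := by
    have := congrArg (fun z => z * (algebraMap A (Localization (Submonoid.closure P)) s *
      algebraMap A (Localization (Submonoid.closure P)) t)) hxy
    rw [map_mul, map_mul, map_mul, this]
    have e1 := IsLocalization.mk'_spec (Localization (Submonoid.closure P)) b s
    have e2 := IsLocalization.mk'_spec (Localization (Submonoid.closure P)) c t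
    rw [← e1, ← e2]; ring
  have h2 : a * (s * t) = b * c := algMap_inj P hP h1
  obtain ⟨s₁, s₂, hs₁, hs₂, hst, ⟨b', rfl⟩, ⟨c', rfl⟩⟩ :=
    split_dvd P hP (Submonoid.mul_mem _ s.2 t.2) b c ⟨a, by rw [← h2]; ring⟩
  have hst0 : (s : A) * t ≠ 0 := ne_zero_of_mem P hP (Submonoid.mul_mem _ s.2 t.2)
  have h3 : ((s : A) * t) * a = (s * t) * (b' * c') := by
    rw [mul_comm _ a, h2]; rw [hst]; ring
  have h4 : a = b' * c' := mul_left_cancel₀ hst0 h3
  rcases hirr.isUnit_or_isUnit h4 with hb | hc
  · left
    have e1 := IsLocalization.mk'_spec (Localization (Submonoid.closure P)) (s₁ * b') s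
    have hu : IsUnit (algebraMap A (Localization (Submonoid.closure P)) (s₁ * b')) := by
      rw [map_mul]
      exact (isUnit_of_mem P hP hs₁).mul (hb.map _)
    rw [← e1] at hu
    exact isUnit_of_mul_isUnit_left hu
  · right
    have e1 := IsLocalization.mk'_spec (Localization (Submonoid.closure P)) (s₂ * c') t
    have hu : IsUnit (algebraMap A (Localization (Submonoid.closure P)) (s₂ * c')) := by
      rw [map_mul]
      exact (isUnit_of_mem P hP hs₂).mul (hc.map _)
    rw [← e1] at hu
    exact isUnit_of_mul_isUnit_left hu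

theorem dvd_of_map_dvd {a : A} (ha : ∀ p ∈ P, ¬ p ∣ a) {b : A}
    (h : algebraMap A (Localization (Submonoid.closure P)) a ∣
      algebraMap A (Localization (Submonoid.closure P)) b) : a ∣ b := by
  obtain ⟨y, hy⟩ := h
  obtain ⟨d, s, rfl⟩ := IsLocalization.exists_mk'_eq (Submonoid.closure P) y
  have h1 : algebraMap A (Localization (Submonoid.closure P)) (b * s) =
      algebraMap A (Localization (Submonoid.closure P)) (a * d) := by
    rw [map_mul, hy, mul_assoc, IsLocalization.mk'_spec, map_mul]
  have h2 : b * s = a * d := algMap_inj P hP h1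
  obtain ⟨d', rfl⟩ := dvd_of_dvd_mul P hP ha s.2 d ⟨b, by rw [← h2]; ring⟩
  have hs0 : (s : A) ≠ 0 := ne_zero_of_mem P hP s.2
  have h3 : (s : A) * b = s * (a * d') := by rw [mul_comm _ b, h2]; ring
  exact ⟨d', mul_left_cancel₀ hs0 h3⟩

theorem prime_of_irreducible [IsDomain (Localization (Submonoid.closure P))]
    (hS : UniqueFactorizationMonoid (Localization (Submonoid.closure P)))
    {a : A} (hirr : Irreducible a) : Prime a := by
  by_cases hex : ∃ p ∈ P, p ∣ a
  · obtain ⟨p, hp, c, rfl⟩ := hex
    rcases hirr.isUnit_or_isUnit rfl with h | h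
    · exact absurd h (hP p hp).not_isUnit
    · exact (associated_mul_unit_right p c h).prime (hP p hp)
  · have ha : ∀ p ∈ P, ¬ p ∣ a := fun p hp hpa => hex ⟨p, hp, hpa⟩
    have hpr : Prime (algebraMap A (Localization (Submonoid.closure P)) a) :=
      UniqueFactorizationMonoid.irreducible_iff_prime.1 (irreducible_map P hP hirr ha)
    refine ⟨hirr.ne_zero, hirr.not_isUnit, ?_⟩
    intro b c hbc
    have h1 : algebraMap A (Localization (Submonoid.closure P)) a ∣
        algebraMap A (Localization (Submonoid.closure P)) b *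
        algebraMap A (Localization (Submonoid.closure P)) c := by
      rw [← map_mul]; exact map_dvd _ hbc
    rcases hpr.dvd_or_dvd h1 with h | h
    · exact Or.inl (dvd_of_map_dvd P hP ha h)
    · exact Or.inr (dvd_of_map_dvd P hP ha h)

theorem main [IsDomain (Localization (Submonoid.closure P))]
    (hfac : ∀ a : A, a ≠ 0 → ¬ IsUnit a → ∃ f : Multiset A, (∀ b ∈ f, Irreducible b) ∧ Associated f.prod a)
    (hS : UniqueFactorizationMonoid (Localization (Submonoid.closure P))) :
    UniqueFactorizationMonoid A := by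
  refine UniqueFactorizationMonoid.of_exists_prime_factors ?_
  intro a ha0
  by_cases hu : IsUnit a
  · exact ⟨0, by simp, by simpa using (associated_one_iff_isUnit.2 hu).symm⟩
  · obtain ⟨f, hf, hfa⟩ := hfac a ha0 hu
    exact ⟨f, fun b hb => prime_of_irreducible P hP hS (hf b hb), hfa⟩

end


/-- Nagata's criterion for factoriality, final assertion: let `A` be a domain in which every nonzero
nonunit factors into irreducibles, and `S` the multiplicative subset generated by a set of prime
elements. If the localization `S⁻¹A` is a unique factorization domain, then so is `A`. -/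
theorem result {A : Type u} [CommRing A] [IsDomain A]
    (hfac : ∀ a : A, a ≠ 0 → ¬ IsUnit a → ∃ f : Multiset A, (∀ b ∈ f, Irreducible b) ∧ Associated f.prod a) (P : Set A)
    (hP : ∀ p ∈ P, Prime p) [IsDomain (Localization (Submonoid.closure P))]
    (hS : UniqueFactorizationMonoid (Localization (Submonoid.closure P))) : UniqueFactorizationMonoid A := by
  classical
  exact main P hP hfac hS

end Groth.Agent.S2119
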