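import Groth.Statements.S2120
import Mathlib

set_option autoImplicit false
universe u
open CategoryTheory AlgebraicGeometry
open Mor

namespace Groth.Agent.S2120

section
open CategoryTheory AlgebraicGeometry Limits

theorem isSeparated_of_comp {X Y S : Scheme.{u}} (f : X ⟶ Y) (g : Y ⟶ S) [Surjective f]
    [UniversallyClosed f] [IsSeparated (f ≫ g)] : IsSeparated g := by
  let F : pullback (f ≫ g) (f ≫ g) ⟶ pullback g g :=
    pullback.map (f ≫ g) (f ≫ g) g g f f (𝟙 S) ((Category.comp_id _).trans rfl)
      ((Category.comp_id _).trans rfl)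
  have hF : UniversallyClosed F :=
    MorphismProperty.pullbackMap (P := @UniversallyClosed) ‹UniversallyClosed f›
      ‹UniversallyClosed f› rfl rfl
  have hcomm : pullback.diagonal (f ≫ g) ≫ F = f ≫ pullback.diagonal g := by
    apply pullback.hom_ext
    · simp only [F, Category.assoc, pullback.lift_fst, pullback.diagonal_fst_assoc,
        pullback.diagonal_fst, Category.comp_id]
    · simp only [F, Category.assoc, pullback.lift_snd, pullback.diagonal_snd_assoc,
        pullback.diagonal_snd, Category.comp_id]
  have hrange : Set.range (pullback.diagonal g).base =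
      F.base '' Set.range (pullback.diagonal (f ≫ g)).base := by
    ext y
    constructor
    · rintro ⟨y', rfl⟩
      obtain ⟨x, rfl⟩ := f.surjective y'
      refine ⟨pullback.diagonal (f ≫ g) x, ⟨x, rfl⟩, ?_⟩
      rw [← Scheme.Hom.comp_apply, hcomm, Scheme.Hom.comp_apply]
    · rintro ⟨_, ⟨x, rfl⟩, rfl⟩
      refine ⟨f x, ?_⟩
      rw [← Scheme.Hom.comp_apply, ← hcomm, Scheme.Hom.comp_apply]
  have hclosed : IsClosed (Set.range (pullback.diagonal g).base) := by
    rw [hrange]
    exact F.isClosedMap _ (pullback.diagonal (f ≫ g)).isClosedEmbedding.isClosed_range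
  exact ⟨IsClosedImmersion.of_isPreimmersion _ hclosed⟩

theorem main {X Y : Scheme.{u}} (f : X ⟶ Y) [Surjective f] [UniversallyClosed f] :
    (QuasiSeparatedSpace X → QuasiSeparatedSpace Y) ∧ (X.IsSeparated → Y.IsSeparated) := by
  constructor
  · intro hX
    rw [quasiSeparatedSpace_iff]
    intro U V hU hUc hV hVc
    have h1 : IsCompact (f.base ⁻¹' U) := QuasiCompact.isCompact_preimage (f := f) U hU hUc
    have h2 : IsCompact (f.base ⁻¹' V) := QuasiCompact.isCompact_preimage (f := f) V hV hVc
    have h3 := QuasiSeparatedSpace.inter_isCompact (f.base ⁻¹' U) (f.base ⁻¹' V)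
      (hU.preimage f.continuous) h1 (hV.preimage f.continuous) h2
    have h4 := h3.image f.continuous
    rwa [← Set.preimage_inter, Set.image_preimage_eq _ f.surjective] at h4
  · intro hX
    have h1 : IsSeparated (f ≫ terminal.from Y) := by
      rw [terminal.comp_from]; infer_instance
    exact ⟨isSeparated_of_comp f (terminal.from Y)⟩


end


/-- Let `f : X → Y` be surjective and universally closed. If `X` is quasi-separated then so is `Y`; if
`X` is separated then so is `Y`. -/
theorem result {X Y : Scheme.{u}} (f : X ⟶ Y) [Surjective f] [UniversallyClosed f] :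
    (QuasiSeparatedSpace X → QuasiSeparatedSpace Y) ∧ (X.IsSeparated → Y.IsSeparated) := by
  classical
  exact main f

end Groth.Agent.S2120
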