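import Groth.Statements.S2123
import Mathlib

set_option autoImplicit false
universe u
open CategoryTheory AlgebraicGeometry
open Mor

namespace Groth.Agent.S2123

section
open CategoryTheory AlgebraicGeometry

theorem main (X : Scheme.{u}) [IsIntegral X] [X.IsSeparated] (x y : X)
    (h : ¬ closure ({x} : Set X) ⊆ closure {y}) :
    ¬ Set.range (X.presheaf.stalkSpecializes (genericPoint_specializes x)) ⊆
        Set.range (X.presheaf.stalkSpecializes (genericPoint_specializes y)) := by
  intro hsub
  apply h
  set ιx := X.presheaf.stalkSpecializes (genericPoint_specializes x) with hιx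
  set ιy := X.presheaf.stalkSpecializes (genericPoint_specializes y) with hιy
  have hinjy : Function.Injective ιy.hom :=
    IsFractionRing.injective (X.presheaf.stalk y) X.functionField
  have hsub' : ∀ a, ιx.hom a ∈ ιy.hom.range := fun a => hsub ⟨a, rfl⟩
  let e : X.presheaf.stalk y ≃+* ιy.hom.range := RingEquiv.ofBijective ιy.hom.rangeRestrict
    ⟨fun a b hab => hinjy (congrArg Subtype.val hab), ιy.hom.rangeRestrict_surjective⟩
  let θ : X.presheaf.stalk x →+* X.presheaf.stalk y :=
    e.symm.toRingHom.comp (ιx.hom.codRestrict ιy.hom.range hsub')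
  have hθ : ∀ a, ιy.hom (θ a) = ιx.hom a := by
    intro a
    have : e (θ a) = ιx.hom.codRestrict ιy.hom.range hsub' a := e.apply_symm_apply _
    exact congrArg Subtype.val this
  let Θ : X.presheaf.stalk x ⟶ X.presheaf.stalk y := CommRingCat.ofHom θ
  have hΘ : Θ ≫ ιy = ιx := by
    ext a
    exact hθ a
  have hdom : IsDominant (Spec.map ιy) := by
    rw [isDominant_iff]
    show DenseRange (PrimeSpectrum.comap ιy.hom)
    rw [PrimeSpectrum.denseRange_comap_iff_ker_le_nilRadical,
      (RingHom.injective_iff_ker_eq_bot _).mp hinjy]
    exact bot_le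
  have heq : X.fromSpecStalk y = Spec.map Θ ≫ X.fromSpecStalk x := by
    apply ext_of_isDominant (Spec.map ιy)
    rw [Scheme.SpecMap_stalkSpecializes_fromSpecStalk, ← Spec.map_comp_assoc, hΘ,
      Scheme.SpecMap_stalkSpecializes_fromSpecStalk]
  have hy : y ∈ Set.range (X.fromSpecStalk x).base := by
    let c : ↥(Spec (X.presheaf.stalk y)) := IsLocalRing.closedPoint (X.presheaf.stalk y)
    refine ⟨Spec.map Θ c, ?_⟩
    have h1 : (X.fromSpecStalk x) (Spec.map Θ c) = (Spec.map Θ ≫ X.fromSpecStalk x) c := rfl
    rw [h1, ← heq]
    exact Scheme.fromSpecStalk_closedPoint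
  rw [Scheme.range_fromSpecStalk] at hy
  exact closure_minimal (Set.singleton_subset_iff.mpr hy.mem_closure) isClosed_closure


end


/-- Let `X` be an integral separated scheme and `x, y` points such that the closure of `x` is not
contained in the closure of `y`. Then, inside the function field of `X`, the local ring at `x` is
not contained in the local ring at `y`. -/
theorem result (X : Scheme.{u}) [IsIntegral X] [X.IsSeparated] (x y : X)
    (h : ¬ closure ({x} : Set X) ⊆ closure {y}) :
    ¬ Set.range (X.presheaf.stalkSpecializes (genericPoint_specializes x)) ⊆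
        Set.range (X.presheaf.stalkSpecializes (genericPoint_specializes y)) := by
  classical
  exact main X x y h

end Groth.Agent.S2123
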