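import Groth.Statements.S2126
import Mathlib
import Groth.Agent.Lib.Helper1.AmpleLib2

set_option autoImplicit false
universe u
open CategoryTheory AlgebraicGeometry
open Mor

namespace Groth.Agent.S2126

/-- Let `X` be a quasi-compact scheme and `L` an invertible `O_X`-module. Then `L` is ample if and only
if the opens `X_s`, for `s` a global section of some positive tensor power of `L`, form a basis for
the topology of `X`. -/
theorem result {X : Scheme.{u}} [CompactSpace X] (L : X.Modules) (hL : PicF.IsInvertible L) :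
    CohB1.IsAmple L ↔
      TopologicalSpace.Opens.IsBasis
        {U : X.Opens | ∃ (n : ℕ) (s : Coh.structureModule X ⟶ CohB1.tensorPow L (n + 1)), U = CohB1.genLocus _ s} := by
  constructor
  · intro hA
    rw [TopologicalSpace.Opens.isBasis_iff_nbhd]
    intro U x hx
    obtain ⟨N, s, hxs, hsU, -⟩ := Groth.Agent.Helper1.AmpleLib.exists_genLocus_nbhd hA U x hx
    exact ⟨_, ⟨N, s, rfl⟩, hxs, hsU⟩
  · intro hB
    rw [TopologicalSpace.Opens.isBasis_iff_nbhd] at hB
    refine ⟨hL, inferInstance, fun x => ?_⟩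
    obtain ⟨_, ⟨V, hV, rfl⟩, hxV, -⟩ :=
      X.isBasis_affineOpens.exists_subset_of_mem_open (Set.mem_univ x) isOpen_univ
    obtain ⟨U', ⟨n, s, rfl⟩, hxU', hU'V⟩ := hB (U := V) hxV
    exact ⟨n, s, hxU', Groth.Agent.Helper1.AmpleLib.isAffineOpen_genLocus_of_le
      (Groth.Agent.Helper1.TwForm.isInvertible_tensorPow hL (n + 1)) s hV hU'V⟩

end Groth.Agent.S2126
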