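import Groth.Statements.S2131
import Mathlib

set_option autoImplicit false
universe u
open CAlg

namespace Groth.Agent.S2131

section
variable {R M N : Type u} [CommRing R] [AddCommGroup M] [Module R M] [AddCommGroup N] [Module R N]

theorem mk_eq_zero_iff' (S : Submonoid R) (m : M) (s : S) :
    (LocalizedModule.mk m s = 0) ↔ ∃ u : S, (u : R) • m = 0 := by
  rw [← LocalizedModule.zero_mk 1, LocalizedModule.mk_eq]
  constructor
  · rintro ⟨u, hu⟩
    refine ⟨u, ?_⟩
    simpa [Submonoid.smul_def] using hu
  · rintro ⟨u, hu⟩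
    refine ⟨u, ?_⟩
    simp [Submonoid.smul_def, hu]

theorem bij_of_le (S₀ S : Submonoid R) (h : S₀ ≤ S) (φ : M →ₗ[R] N)
    (hb : Function.Bijective (LocalizedModule.map S₀ φ)) :
    Function.Bijective (LocalizedModule.map S φ) := by
  constructor
  · rw [injective_iff_map_eq_zero]
    intro x hx
    induction x using LocalizedModule.induction_on with
    | h m s =>
    rw [LocalizedModule.map_mk, mk_eq_zero_iff'] at hx
    obtain ⟨u, hu⟩ := hx
    have h1 : LocalizedModule.map S₀ φ (LocalizedModule.mk ((u : R) • m) 1) = 0 := by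
      rw [LocalizedModule.map_mk, map_smul, hu, LocalizedModule.zero_mk]
    have h2 := (injective_iff_map_eq_zero _).1 hb.1 _ h1
    rw [mk_eq_zero_iff'] at h2
    obtain ⟨v, hv⟩ := h2
    rw [mk_eq_zero_iff']
    refine ⟨⟨(v : R) * u, S.mul_mem (h v.2) u.2⟩, ?_⟩
    show ((v : R) * u) • m = 0
    rw [mul_smul]
    exact hv
  · intro y
    induction y using LocalizedModule.induction_on with
    | h n s =>
    obtain ⟨x, hx⟩ := hb.2 (LocalizedModule.mk n 1)
    induction x using LocalizedModule.induction_on with
    | h m t =>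
    rw [LocalizedModule.map_mk, LocalizedModule.mk_eq] at hx
    obtain ⟨w, hw⟩ := hx
    refine ⟨LocalizedModule.mk ((w : R) • m) (⟨(w : R) * t, S.mul_mem (h w.2) (h t.2)⟩ * s), ?_⟩
    rw [LocalizedModule.map_mk, LocalizedModule.mk_eq]
    refine ⟨1, ?_⟩
    simp only [Submonoid.smul_def, one_smul, Submonoid.coe_mul, Submonoid.coe_one] at hw ⊢
    rw [map_smul, hw, mul_smul, mul_smul, smul_comm (s : R)]
    rw [smul_comm (s : R)]

end

/-- For an `R`-linear map from a finite module to a finitely presented module, the primes at which its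
localization is bijective form an open subset of `Spec R`. -/
theorem result {R M N : Type u} [CommRing R] [AddCommGroup M] [Module R M] [Module.Finite R M]
    [AddCommGroup N] [Module R N] [Module.FinitePresentation R N] (φ : M →ₗ[R] N) :
    IsOpen {p : PrimeSpectrum R | Function.Bijective (LocalizedModule.map p.asIdeal.primeCompl φ)} := by
  classical
  rw [isOpen_iff_forall_mem_open]
  intro p hp
  have hp' : Function.Bijective (IsLocalizedModule.map p.asIdeal.primeCompl
      (LocalizedModule.mkLinearMap p.asIdeal.primeCompl M) (LocalizedModule.mkLinearMap p.asIdeal.primeCompl N) φ) := hp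
  obtain ⟨g, hg, hbij⟩ := Module.FinitePresentation.exists_notMem_bijective φ p.asIdeal
    (LocalizedModule.mkLinearMap p.asIdeal.primeCompl M) (LocalizedModule.mkLinearMap p.asIdeal.primeCompl N) hp'
  refine ⟨PrimeSpectrum.basicOpen g, ?_, (PrimeSpectrum.basicOpen g).2, hg⟩
  intro q hq
  have hgq : g ∉ q.asIdeal := hq
  have hle : Submonoid.powers g ≤ q.asIdeal.primeCompl := by
    rintro _ ⟨n, rfl⟩
    exact fun h => hgq (q.2.mem_of_pow_mem n h)
  exact bij_of_le _ _ hle φ hbij

end Groth.Agent.S2131
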