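import Groth.Statements.S2132
import Mathlib

set_option autoImplicit false
universe u
open CategoryTheory
open CAlg

namespace Groth.Agent.S2132

section
open CategoryTheory Limits Polynomial

variable {J : Type u} [SmallCategory J] [IsFiltered J] (F : J ⥤ CommRingCat.{u})
  (c : Limits.Cocone F) (hc : Limits.IsColimit c)

/-- structure maps with the expected target type -/
def ιh (j : J) : F.obj j →+* c.pt := (c.ι.app j).hom

include hc in
theorem exists_rep (x : c.pt) : ∃ j y, (ιh F c j) y = x :=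
  (Concrete.isColimit_exists_rep F hc x : ∃ j y, (c.ι.app j).hom y = x)

include hc in
theorem rep_eq {i j : J} (x : F.obj i) (y : F.obj j)
    (h : (ιh F c i) x = (ιh F c j) y) :
    ∃ k, ∃ (f : i ⟶ k) (g : j ⟶ k), (F.map f).hom x = (F.map g).hom y :=
  (Concrete.isColimit_rep_eq_iff_exists F hc x y).1
    (h : (c.ι.app i).hom x = (c.ι.app j).hom y)

omit [IsFiltered J] in
theorem ι_map {i j : J} (f : i ⟶ j) (x : F.obj i) :
    (ιh F c j) ((F.map f).hom x) = (ιh F c i) x := by
  have := c.w f
  exact congrArg (fun k => k.hom x) this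

include hc in
theorem finset_rep (s : Finset c.pt) : ∃ j, ∀ x ∈ s, x ∈ Set.range (ιh F c j) := by
  classical
  induction s using Finset.induction_on with
  | empty => exact ⟨IsFiltered.nonempty.some, fun x hx => absurd hx (Finset.notMem_empty x)⟩
  | insert a s _ ih =>
    obtain ⟨j, hj⟩ := ih
    obtain ⟨i, y, hy⟩ := exists_rep F c hc a
    refine ⟨IsFiltered.max i j, ?_⟩
    intro x hx
    rcases Finset.mem_insert.1 hx with rfl | hx
    · exact ⟨(F.map (IsFiltered.leftToMax i j)).hom y, (ι_map F c (IsFiltered.leftToMax i j) y).trans hy⟩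
    · obtain ⟨z, hz⟩ := hj x hx
      exact ⟨(F.map (IsFiltered.rightToMax i j)).hom z, (ι_map F c (IsFiltered.rightToMax i j) z).trans hz⟩

variable (hloc : ∀ (i j : J) (a : i ⟶ j), IsLocalHom (F.map a).hom)

include hc hloc in
theorem isUnit_of_ι {j : J} (y : F.obj j) (h : IsUnit ((ιh F c j) y)) : IsUnit y := by
  obtain ⟨z, hz⟩ := h.exists_right_inv
  obtain ⟨i, w, rfl⟩ := exists_rep F c hc z
  let k := IsFiltered.max j i
  let f : j ⟶ k := IsFiltered.leftToMax j i
  let g : i ⟶ k := IsFiltered.rightToMax j i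
  have h1 : (ιh F c k) ((F.map f).hom y * (F.map g).hom w) = (ιh F c k) 1 := by
    rw [map_mul, ι_map, ι_map, hz, map_one]
  obtain ⟨k', h, h', hh⟩ := rep_eq F c hc _ _ h1
  rw [map_mul, map_one] at hh
  have h2 : IsUnit ((F.map h).hom ((F.map f).hom y)) := IsUnit.of_mul_eq_one _ hh
  have h3 : IsUnit ((F.map f).hom y) := (hloc _ _ h).map_nonunit _ h2
  exact (hloc _ _ f).map_nonunit _ h3

include hc in
theorem isLocalRing (hF : ∀ j, IsLocalRing (F.obj j)) : IsLocalRing c.pt := by
  have j₀ : J := IsFiltered.nonempty.some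
  have hnt : Nontrivial c.pt := by
    refine ⟨⟨0, 1, ?_⟩⟩
    intro h01
    have h1 : (c.ι.app j₀).hom 0 = (c.ι.app j₀).hom 1 := by rw [map_zero, map_one]; exact h01
    obtain ⟨k, f, g, hfg⟩ := rep_eq F c hc _ _ h1
    rw [map_zero, map_one] at hfg
    have := hF k
    exact zero_ne_one hfg
  apply IsLocalRing.of_isUnit_or_isUnit_one_sub_self
  intro a
  obtain ⟨j, y, rfl⟩ := exists_rep F c hc a
  have := hF j
  rcases IsLocalRing.isUnit_or_isUnit_one_sub_self y with h | h
  · exact Or.inl (h.map _)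
  · right
    have := h.map (ιh F c j)
    rwa [map_sub, map_one] at this

include hc hloc in
theorem main (hF : ∀ j, HenselianLocalRing (F.obj j)) : HenselianLocalRing c.pt := by
  have hloc' : ∀ j, IsLocalRing (F.obj j) := fun j => (hF j).toIsLocalRing
  have hL : IsLocalRing c.pt := isLocalRing F c hc hloc'
  refine { toIsLocalRing := hL, is_henselian := ?_ }
  intro f hf a₀ h₁ h₂
  classical
  obtain ⟨j, hj⟩ := finset_rep F c hc (insert a₀ (f.support.image f.coeff))
  have hfl : f ∈ Polynomial.lifts (ιh F c j) := by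
    rw [Polynomial.lifts_iff_coeff_lifts]
    intro n
    by_cases hn : n ∈ f.support
    · exact hj _ (Finset.mem_insert_of_mem (Finset.mem_image_of_mem _ hn))
    · rw [Polynomial.notMem_support_iff.1 hn]
      exact ⟨0, map_zero _⟩
  obtain ⟨q, hq, -, hqm⟩ := Polynomial.lifts_and_natDegree_eq_and_monic hfl hf
  obtain ⟨y₀, hy₀⟩ := hj a₀ (Finset.mem_insert_self _ _)
  have := hloc' j
  have hev : ∀ (p : (F.obj j)[X]) (y : F.obj j),
      (p.map (ιh F c j)).eval ((ιh F c j) y) = (ιh F c j) (p.eval y) := by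
    intro p y
    rw [Polynomial.eval_map, Polynomial.eval₂_at_apply]
  have hnu : ∀ z : F.obj j, z ∈ IsLocalRing.maximalIdeal (F.obj j) →
      (ιh F c j) z ∈ IsLocalRing.maximalIdeal c.pt := by
    intro z hz
    rw [IsLocalRing.mem_maximalIdeal, mem_nonunits_iff] at hz ⊢
    exact fun h => hz (isUnit_of_ι F c hc hloc z h)
  have h₁' : q.eval y₀ ∈ IsLocalRing.maximalIdeal (F.obj j) := by
    rw [IsLocalRing.mem_maximalIdeal, mem_nonunits_iff]
    intro hu
    have h3 := hu.map (ιh F c j)
    rw [← hev, hq, hy₀] at h3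
    rw [IsLocalRing.mem_maximalIdeal, mem_nonunits_iff] at h₁
    exact h₁ h3
  have h₂' : IsUnit (q.derivative.eval y₀) := by
    apply isUnit_of_ι F c hc hloc
    rw [← hev, ← Polynomial.derivative_map, hq, hy₀]
    exact h₂
  obtain ⟨y, hy, hyy₀⟩ := (hF j).is_henselian q hqm y₀ h₁' h₂'
  refine ⟨(ιh F c j) y, ?_, ?_⟩
  · rw [Polynomial.IsRoot.def, ← hq, hev, hy, map_zero]
  · have := hnu _ hyy₀
    rwa [map_sub, hy₀] at this


end


/-- Let `F : J ⥤ CommRingCat` be a filtered diagram of henselian local rings with local transition maps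
and `c` a colimit cocone. Then the colimit is a henselian local ring. -/
theorem result {J : Type u} [SmallCategory J] [IsFiltered J] (F : J ⥤ CommRingCat.{u})
    (hF : ∀ j, HenselianLocalRing (F.obj j)) (hloc : ∀ (i j : J) (a : i ⟶ j), IsLocalHom (F.map a).hom)
    (c : Limits.Cocone F) (hc : Limits.IsColimit c) : HenselianLocalRing c.pt := by
  classical
  exact main F c hc hloc hF

end Groth.Agent.S2132
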