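import Groth.Statements.S2133
import Mathlib

set_option autoImplicit false
universe u
open CAlg

namespace Groth.Agent.S2133

section

open KaehlerDifferential

theorem exists_derivation_extension {R S : Type*} [CommRing R] [CommRing S] [Algebra R S]
    (M : Submonoid R) [IsLocalization M S] (D : Derivation ℤ R R) :
    ∃ D' : Derivation ℤ S S, ∀ r, D' (algebraMap R S r) = algebraMap R S (D r) := by
  let ℓ : Ω[R⁄ℤ] →ₗ[R] R := D.liftKaehlerDifferential
  let g : Ω[R⁄ℤ] →ₗ[R] S := (Algebra.linearMap R S) ∘ₗ ℓ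
  let f : Ω[R⁄ℤ] →ₗ[R] Ω[S⁄ℤ] := KaehlerDifferential.map ℤ ℤ R S
  have hloc : IsLocalizedModule M f := KaehlerDifferential.isLocalizedModule_map ℤ R S M
  have h : ∀ x : M, IsUnit ((algebraMap R (Module.End R S)) x) := by
    intro x
    rw [Module.End.isUnit_iff]
    have hu : IsUnit (algebraMap R S x) := IsLocalization.map_units S x
    obtain ⟨u, hu⟩ := hu
    constructor
    · intro a b hab
      simp only [Module.algebraMap_end_apply, Algebra.smul_def, ← hu] at hab
      exact (Units.mul_right_inj u).mp hab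
    · intro b
      refine ⟨(↑u⁻¹ : S) * b, ?_⟩
      simp only [Module.algebraMap_end_apply, Algebra.smul_def, ← hu]
      rw [← mul_assoc, Units.mul_inv, one_mul]
  let ℓ' : Ω[S⁄ℤ] →ₗ[R] S := IsLocalizedModule.lift M f g h
  let ℓ'' : Ω[S⁄ℤ] →ₗ[S] S := ℓ'.extendScalarsOfIsLocalization M S
  refine ⟨ℓ''.compDer (KaehlerDifferential.D ℤ S), ?_⟩
  intro r
  show ℓ' (KaehlerDifferential.D ℤ S (algebraMap R S r)) = _
  rw [← KaehlerDifferential.map_D ℤ ℤ R S]
  show ℓ' (f (KaehlerDifferential.D ℤ R r)) = _
  rw [IsLocalizedModule.lift_apply]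
  show algebraMap R S (D.liftKaehlerDifferential (KaehlerDifferential.D ℤ R r)) = _
  rw [Derivation.liftKaehlerDifferential_comp_D]


theorem core {R R' S : Type*} [CommRing R] [CommRing R'] [Algebra R R'] [Algebra.FiniteType R R']
    [CommRing S] [Algebra R' S] [Algebra R S] [IsScalarTower R R' S]
    (hinj : Function.Injective (algebraMap R R')) (g : R) (g' : R') (hg'def : g' = algebraMap R R' g)
    [IsLocalization.Away g' S]
    (hg : IsSMulRegular R' g')
    (hloc : ∀ x : R', ∃ n : ℕ, g' ^ n * x ∈ Set.range (algebraMap R R')) (D : Derivation ℤ R R) :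
    ∃ (N : ℕ) (D' : Derivation ℤ R' R'), ∀ r : R, D' (algebraMap R R' r) = algebraMap R R' (g ^ N * D r) := by
  classical
  have hg'nzd : g' ∈ nonZeroDivisors R' := by
    rw [mem_nonZeroDivisors_iff_right]
    intro x hx
    apply hg
    simp only [smul_eq_mul, mul_zero]
    rw [mul_comm]; exact hx
  have hιinj : Function.Injective (algebraMap R' S) :=
    IsLocalization.injective S (M := Submonoid.powers g') (Submonoid.powers_le.mpr hg'nzd)
  have hmap : ∀ r : R, algebraMap R S r = algebraMap R' S (algebraMap R R' r) :=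
    fun r => IsScalarTower.algebraMap_apply R R' S r
  have hsurj : ∀ z : S, ∃ (k : ℕ) (x : R'), z * algebraMap R' S g' ^ k = algebraMap R' S x := by
    intro z
    obtain ⟨⟨x, ⟨y, hy⟩⟩, hz⟩ := IsLocalization.surj (Submonoid.powers g') z
    obtain ⟨k, rfl⟩ := hy
    exact ⟨k, x, by rw [← hz, map_pow]⟩
  -- S is the localization of R at g
  have hSloc : IsLocalization (Submonoid.powers g) S := by
    rw [isLocalization_iff]
    refine ⟨?_, ?_, ?_⟩
    · rintro ⟨_, n, rfl⟩
      rw [hmap, map_pow, ← hg'def, map_pow]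
      exact (IsLocalization.Away.algebraMap_isUnit g').pow n
    · intro z
      obtain ⟨k, x, hz⟩ := hsurj z
      obtain ⟨n, r, hr⟩ := hloc x
      refine ⟨(r, ⟨g ^ (k + n), ⟨k + n, rfl⟩⟩), ?_⟩
      simp only
      rw [hmap, hmap, hr, map_pow, ← hg'def, map_pow, pow_add, ← mul_assoc, hz, ← map_pow, ← map_mul,
        mul_comm]
    · intro x y hxy
      rw [hmap, hmap] at hxy
      exact ⟨1, by rw [hinj (hιinj hxy)]⟩
  obtain ⟨Dt, hDt⟩ := exists_derivation_extension (R := R) (S := S) (Submonoid.powers g) D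
  -- finite generation
  obtain ⟨T, hT⟩ := (Algebra.FiniteType.out : (⊤ : Subalgebra R R').FG)
  have hexp : ∀ t : R', ∃ n : ℕ, ∃ y : R', algebraMap R' S y = algebraMap R' S g' ^ n * Dt (algebraMap R' S t) := by
    intro t
    obtain ⟨k, x, hz⟩ := hsurj (Dt (algebraMap R' S t))
    exact ⟨k, x, by rw [← hz, mul_comm]⟩
  choose nexp yexp hyexp using hexp
  let N := T.sup nexp
  have hleib : ∀ a b : S, Dt (a * b) = a * Dt b + b * Dt a := by
    intro a b
    rw [Derivation.leibniz]; rfl
  -- the subalgebra of good elements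
  let A : Subalgebra R R' :=
    { carrier := {x | ∃ y : R', algebraMap R' S y = algebraMap R' S g' ^ N * Dt (algebraMap R' S x)}
      mul_mem' := by
        rintro a b ⟨ya, hya⟩ ⟨yb, hyb⟩
        refine ⟨a * yb + b * ya, ?_⟩
        rw [map_add, map_mul (algebraMap R' S), map_mul (algebraMap R' S), hya, hyb,
          map_mul (algebraMap R' S), hleib]
        ring
      add_mem' := by
        rintro a b ⟨ya, hya⟩ ⟨yb, hyb⟩
        exact ⟨ya + yb, by rw [map_add, hya, hyb, map_add, map_add, mul_add]⟩
      algebraMap_mem' := by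
        intro r
        refine ⟨algebraMap R R' (g ^ N * D r), ?_⟩
        rw [← hmap, ← hmap, hDt, map_mul, map_pow, hmap g, ← hg'def] }
  have hA : A = ⊤ := by
    rw [eq_top_iff, ← hT, Algebra.adjoin_le_iff]
    intro t ht
    have hle : nexp t ≤ N := Finset.le_sup (f := nexp) ht
    refine ⟨g' ^ (N - nexp t) * yexp t, ?_⟩
    rw [map_mul, hyexp, map_pow, ← mul_assoc, ← pow_add, Nat.sub_add_cancel hle]
  have hall : ∀ x : R', ∃ y : R', algebraMap R' S y = algebraMap R' S g' ^ N * Dt (algebraMap R' S x) := by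
    intro x
    have : x ∈ A := by rw [hA]; trivial
    exact this
  choose d hd using hall
  have hd_add : ∀ a b, d (a + b) = d a + d b := by
    intro a b
    apply hιinj
    rw [hd, map_add, map_add, map_add, hd, hd, mul_add]
  have hd_mul : ∀ a b, d (a * b) = a * d b + b * d a := by
    intro a b
    apply hιinj
    rw [hd, map_add, map_mul (algebraMap R' S), map_mul (algebraMap R' S), map_mul (algebraMap R' S),
      hd, hd, hleib]
    ring
  let dAdd : R' →+ R' := AddMonoidHom.mk' d hd_add
  let D' : Derivation ℤ R' R' := Derivation.mk' dAdd.toIntLinearMap (by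
    intro a b
    show d (a * b) = a • d b + b • d a
    rw [hd_mul]; rfl)
  refine ⟨N, D', ?_⟩
  intro r
  show d (algebraMap R R' r) = _
  apply hιinj
  rw [hd, ← hmap, ← hmap, hDt, map_mul, map_pow, hmap g, ← hg'def]

theorem main {R R' : Type*} [CommRing R] [CommRing R'] [Algebra R R'] [Algebra.FiniteType R R']
    (hinj : Function.Injective (algebraMap R R')) (g : R) (hg : IsSMulRegular R' (algebraMap R R' g))
    (hloc : ∀ x : R', ∃ n : ℕ, (algebraMap R R' g) ^ n * x ∈ Set.range (algebraMap R R')) (D : Derivation ℤ R R) :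
    ∃ (N : ℕ) (D' : Derivation ℤ R' R'), ∀ r : R, D' (algebraMap R R' r) = algebraMap R R' (g ^ N * D r) :=
  core (S := Localization.Away (algebraMap R R' g)) hinj g (algebraMap R R' g) rfl hg hloc D

end


/-- Let `R → R'` be an injective ring map of finite type and `g ∈ R` a nonzerodivisor on `R'` such that
every element of `R'` lands in `R` after multiplication by a power of `g` (so `R_g = R'_g`). Then
for every derivation `D` of `R` there is `N` such that `g^N D` extends to a derivation of `R'`. -/
theorem result {R R' : Type u} [CommRing R] [CommRing R'] [Algebra R R'] [Algebra.FiniteType R R']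
    (hinj : Function.Injective (algebraMap R R')) (g : R) (hg : IsSMulRegular R' (algebraMap R R' g))
    (hloc : ∀ x : R', ∃ n : ℕ, (algebraMap R R' g) ^ n * x ∈ Set.range (algebraMap R R')) (D : Derivation ℤ R R) :
    ∃ (N : ℕ) (D' : Derivation ℤ R' R'), ∀ r : R, D' (algebraMap R R' r) = algebraMap R R' (g ^ N * D r) := by
  classical
  exact main hinj g hg hloc D

end Groth.Agent.S2133
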