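import Groth.Statements.S2134
import Mathlib

set_option autoImplicit false
universe u
open CAlg

namespace Groth.Agent.S2134

section
variable {k K : Type*} [Field k] [Field K] [Algebra k K]

/-- coordinatewise application of an `L`-linear retraction -/
theorem retract_mem_span (L : IntermediateField k K) (φ : K →ₗ[L] L) {n : ℕ}
    (W : Set (Fin n → K)) (hW : ∀ w ∈ W, ∀ i, w i ∈ L) (x : Fin n → K)
    (hx : x ∈ Submodule.span K W) :
    (fun i => ((φ (x i) : L) : K)) ∈ Submodule.span K W := by
  have key : ∀ x ∈ Submodule.span K W, ∀ c : K,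
      (fun i => ((φ ((c • x) i) : L) : K)) ∈ Submodule.span K W := by
    intro x hx
    induction hx using Submodule.span_induction with
    | mem w hw =>
      intro c
      have : (fun i => ((φ ((c • w) i) : L) : K)) = ((φ c : L) : K) • w := by
        funext i
        have h1 : (c • w) i = (⟨w i, hW w hw i⟩ : L) • c := by
          rw [Pi.smul_apply, smul_eq_mul, IntermediateField.smul_def, smul_eq_mul, mul_comm]
        rw [h1, map_smul, Pi.smul_apply, smul_eq_mul, smul_eq_mul]
        push_cast
        rw [mul_comm]
      rw [this]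
      exact Submodule.smul_mem _ _ (Submodule.subset_span hw)
    | zero =>
      intro c
      have : (fun i => ((φ ((c • (0 : Fin n → K)) i) : L) : K)) = 0 := by
        funext i; simp
      rw [this]; exact Submodule.zero_mem _
    | add x y _ _ hx hy =>
      intro c
      have : (fun i => ((φ ((c • (x + y)) i) : L) : K)) =
          (fun i => ((φ ((c • x) i) : L) : K)) + (fun i => ((φ ((c • y) i) : L) : K)) := by
        funext i; simp [mul_add]
      rw [this]; exact Submodule.add_mem _ (hx c) (hy c)
    | smul a x _ hx =>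
      intro c
      have := hx (c * a)
      rwa [mul_smul] at this
  have := key x hx 1
  rwa [one_smul] at this

end

/-- Let `K/k` be a field extension and `(K_α)` a nonempty family of intermediate fields, directed
downwards, with intersection `k`. For a `K`-subspace `V` of `K^n` (`n ≥ 1`), `V` contains a nonzero
vector with all coordinates in `k` if and only if for every `α` it contains a nonzero vector with
all coordinates in `K_α`. -/
theorem result {k K : Type u} [Field k] [Field K] [Algebra k K] {ι : Type u} [Nonempty ι]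
    (F : ι → IntermediateField k K) (hdir : ∀ a b : ι, ∃ c, F c ≤ F a ⊓ F b) (hinf : ⨅ a, F a = ⊥) (n : ℕ) (hn : 1 ≤ n)
    (V : Submodule K (Fin n → K)) :
    (∃ v ∈ V, v ≠ 0 ∧ ∀ i, v i ∈ Set.range (algebraMap k K)) ↔
      ∀ a, ∃ v ∈ V, v ≠ 0 ∧ ∀ i, v i ∈ F a := by
  classical
  constructor
  · rintro ⟨v, hv, hv0, hvk⟩ a
    refine ⟨v, hv, hv0, fun i => ?_⟩
    obtain ⟨x, hx⟩ := hvk i
    rw [← hx]
    exact (F a).algebraMap_mem x
  · intro h
    let W : ι → Set (Fin n → K) := fun a => {w | w ∈ V ∧ ∀ i, w i ∈ F a}
    let U : ι → Submodule K (Fin n → K) := fun a => Submodule.span K (W a)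
    have hmono : ∀ a b, F b ≤ F a → U b ≤ U a := by
      intro a b hab
      apply Submodule.span_mono
      rintro w ⟨hw, hwF⟩
      exact ⟨hw, fun i => hab (hwF i)⟩
    have hUV : ∀ a, U a ≤ V := fun a => Submodule.span_le.2 (fun w hw => hw.1)
    obtain ⟨a₀, ha₀⟩ : ∃ a₀, ∀ a, Module.finrank K (U a₀) ≤ Module.finrank K (U a) :=
      ⟨Function.argmin (fun a => Module.finrank K (U a)),
        fun a => Function.argmin_le (fun a => Module.finrank K (U a)) a⟩
    have hUeq : ∀ b, F b ≤ F a₀ → U b = U a₀ := fun b hb =>
      Submodule.eq_of_le_of_finrank_le (hmono a₀ b hb) (ha₀ b)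
    -- nonzero vectors of U a₀
    obtain ⟨v₀, hv₀V, hv₀0, hv₀F⟩ := h a₀
    have hv₀U : v₀ ∈ U a₀ := Submodule.subset_span ⟨hv₀V, hv₀F⟩
    let supp : (Fin n → K) → ℕ := fun u => (Finset.univ.filter (fun i => u i ≠ 0)).card
    let T := {u : Fin n → K // u ∈ U a₀ ∧ u ≠ 0}
    have hTne : Nonempty T := ⟨⟨v₀, hv₀U, hv₀0⟩⟩
    let u₀ : T := Function.argmin (fun u : T => supp u.1)
    have hmin : ∀ w : Fin n → K, w ∈ U a₀ → w ≠ 0 → supp u₀.1 ≤ supp w := fun w hw hw0 =>
      Function.argmin_le (fun u : T => supp u.1) ⟨w, hw, hw0⟩
    obtain ⟨i₀, hi₀⟩ : ∃ i₀, u₀.1 i₀ ≠ 0 := by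
      by_contra hcon
      apply u₀.2.2
      funext i
      by_contra hi
      exact hcon ⟨i, hi⟩
    let u : Fin n → K := (u₀.1 i₀)⁻¹ • u₀.1
    have huU : u ∈ U a₀ := Submodule.smul_mem _ _ u₀.2.1
    have hui₀ : u i₀ = 1 := by
      simp only [u, Pi.smul_apply, smul_eq_mul]
      exact inv_mul_cancel₀ hi₀
    have hsuppu : ∀ i, u i = 0 ↔ u₀.1 i = 0 := by
      intro i
      simp only [u, Pi.smul_apply, smul_eq_mul, mul_eq_zero, inv_eq_zero]
      constructor
      · rintro (h1 | h1)
        · exact absurd h1 hi₀
        · exact h1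
      · intro h1; exact Or.inr h1
    -- key: coordinates in every F b with F b ≤ F a₀
    have hkey : ∀ b, F b ≤ F a₀ → ∀ i, u i ∈ F b := by
      intro b hb
      obtain ⟨φ, hφ⟩ := LinearMap.exists_leftInverse_of_injective
        (Algebra.linearMap (F b) K) (LinearMap.ker_eq_bot.2 (algebraMap (F b) K).injective)
      have hφ1 : φ 1 = 1 := by
        have := congrArg (fun g => g 1) hφ
        simpa using this
      have huUb : u ∈ Submodule.span K (W b) := by
        change u ∈ U b
        rw [hUeq b hb]; exact huU
      have hΦ := retract_mem_span (F b) φ (W b) (fun w hw i => hw.2 i) u huUb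
      change (fun i => ((φ (u i) : F b) : K)) ∈ U b at hΦ
      rw [hUeq b hb] at hΦ
      set Φu : Fin n → K := fun i => ((φ (u i) : F b) : K) with hΦu
      have hw0 : u - Φu = 0 := by
        by_contra hne
        have h1 := hmin (u - Φu) (Submodule.sub_mem _ huU hΦ) hne
        have h2 : supp (u - Φu) < supp u₀.1 := by
          apply Finset.card_lt_card
          refine ⟨?_, ?_⟩
          · intro i hi
            simp only [Finset.mem_filter, Finset.mem_univ, true_and] at hi ⊢
            intro hu0
            apply hi
            have : u i = 0 := (hsuppu i).2 hu0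
            simp [hΦu, this]
          · intro hsub
            have hmem : i₀ ∈ Finset.univ.filter (fun i => u₀.1 i ≠ 0) := by
              simp only [Finset.mem_filter, Finset.mem_univ, true_and]; exact hi₀
            have := hsub hmem
            simp only [Finset.mem_filter, Finset.mem_univ, true_and] at this
            apply this
            simp [hΦu, hui₀, hφ1]
        omega
      intro i
      have : u i = Φu i := by
        have := congrFun hw0 i
        simpa [sub_eq_zero] using this
      rw [this]
      exact (φ (u i)).2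
    refine ⟨u, hUV a₀ huU, ?_, ?_⟩
    · intro hu0
      have := congrFun hu0 i₀
      rw [hui₀] at this
      exact one_ne_zero this
    · intro i
      have hall : ∀ a, u i ∈ F a := by
        intro a
        obtain ⟨c, hc⟩ := hdir a₀ a
        exact (le_inf_iff.1 hc).2 (hkey c (le_inf_iff.1 hc).1 i)
      have : u i ∈ ⨅ a, F a := by
        rw [← SetLike.mem_coe, IntermediateField.coe_iInf, Set.mem_iInter]
        exact hall
      rw [hinf, IntermediateField.mem_bot] at this
      exact this

end Groth.Agent.S2134
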