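import Groth.Statements.S2138
import Mathlib

set_option autoImplicit false
universe u
open CAlg

namespace Groth.Agent.S2138

open TensorProduct


/-- membership in a "symbolic" contraction -/
theorem mem_symb_iff {A : Type*} [CommRing A] (P : Ideal A) [P.IsPrime] (J : Ideal A) (x : A) :
    x ∈ (J.map (algebraMap A (Localization.AtPrime P))).comap (algebraMap A (Localization.AtPrime P)) ↔
      ∃ s, s ∉ P ∧ s * x ∈ J := by
  rw [Ideal.mem_comap, IsLocalization.mem_map_algebraMap_iff P.primeCompl]
  constructor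
  · rintro ⟨⟨a, s⟩, h⟩
    rw [← map_mul] at h
    obtain ⟨c, hc⟩ := (IsLocalization.eq_iff_exists P.primeCompl _).1 h
    refine ⟨c * s, ?_, ?_⟩
    · exact (P.primeCompl.mul_mem c.2 s.2)
    · have : (c : A) * s * x = c * a := by rw [← hc]; ring
      rw [this]
      exact J.mul_mem_left _ a.2
  · rintro ⟨s, hs, hsx⟩
    refine ⟨⟨⟨s * x, hsx⟩, ⟨s, hs⟩⟩, ?_⟩
    simp only
    rw [← map_mul, mul_comm]

section
variable {R S : Type u} [CommRing R] [CommRing S] [Algebra R S] [Module.Flat R S]

/-- kernel of `S → S ⊗ W` for flat `S` -/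
theorem mem_map_of_tmul_eq_zero {W : Type*} [AddCommGroup W] [Module R W] (ρ : R →ₗ[R] W)
    (u : S) (hu : u ⊗ₜ[R] (ρ 1) = 0) : u ∈ Ideal.map (algebraMap R S) (LinearMap.ker ρ : Ideal R) := by
  set Q : Ideal R := LinearMap.ker ρ with hQ
  have hex : Function.Exact (Q.subtype : Q →ₗ[R] R) ρ := by
    intro x
    constructor
    · intro hx; exact ⟨⟨x, hx⟩, rfl⟩
    · rintro ⟨y, rfl⟩; exact y.2
  have hex' := Module.Flat.lTensor_exact S hex
  have h1 : (ρ.lTensor S) (u ⊗ₜ[R] (1 : R)) = 0 := by
    rw [LinearMap.lTensor_tmul]; exact hu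
  obtain ⟨w, hw⟩ := (hex' _).1 h1
  have h2 : ∀ w : S ⊗[R] Q, TensorProduct.rid R S ((Q.subtype.lTensor S) w) ∈
      Q.map (algebraMap R S) := by
    intro w
    induction w using TensorProduct.induction_on with
    | zero => simp
    | tmul s a =>
      rw [LinearMap.lTensor_tmul, TensorProduct.rid_tmul, Algebra.smul_def]
      exact Ideal.mul_mem_right _ _ (Ideal.mem_map_of_mem _ a.2)
    | add x y hx hy =>
      rw [map_add, map_add]; exact Ideal.add_mem _ hx hy
  have h3 := h2 w
  rw [hw, TensorProduct.rid_tmul, one_smul] at h3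
  exact h3

omit [Module.Flat R S] in
theorem tmul_eq_zero_of_mem_map {W : Type*} [AddCommGroup W] [Module R W] (w : W)
    (Q : Ideal R) (hQ : ∀ a ∈ Q, a • w = 0) (u : S) (hu : u ∈ Q.map (algebraMap R S)) :
    u ⊗ₜ[R] w = 0 := by
  have : ∀ u ∈ Q.map (algebraMap R S), u ⊗ₜ[R] w = 0 := by
    intro u hu
    refine Submodule.span_induction ?_ ?_ ?_ ?_ hu
    · rintro _ ⟨a, ha, rfl⟩
      rw [Algebra.algebraMap_eq_smul_one, TensorProduct.smul_tmul, hQ a ha, tmul_zero]
    · rw [zero_tmul]
    · intro x y _ _ hx hy; rw [add_tmul, hx, hy, add_zero]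
    · intro c x _ hx
      rw [smul_eq_mul, ← smul_eq_mul, ← TensorProduct.smul_tmul', hx, smul_zero]
  exact this u hu

end
section
variable {R S : Type u} [CommRing R] [CommRing S] [Algebra R S]
  (p : Ideal R) [p.IsPrime]

theorem exists_denominator (z : S ⊗[R] p.ResidueField) :
    ∃ (r : R) (s : S), r ∉ p ∧ r • z = s ⊗ₜ[R] (1 : p.ResidueField) := by
  induction z using TensorProduct.induction_on with
  | zero => exact ⟨1, 0, p.primeCompl.one_mem, by simp⟩
  | tmul s c =>
    obtain ⟨x, rfl⟩ := IsLocalRing.residue_surjective c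
    obtain ⟨a, r, rfl⟩ := IsLocalization.exists_mk'_eq p.primeCompl x
    refine ⟨r, a • s, r.2, ?_⟩
    have h1 : (r : R) • IsLocalRing.residue (Localization.AtPrime p) (IsLocalization.mk' _ a r) =
        a • (1 : p.ResidueField) := by
      rw [Algebra.smul_def, Algebra.smul_def, mul_one,
        IsScalarTower.algebraMap_apply R (Localization.AtPrime p) p.ResidueField,
        IsScalarTower.algebraMap_apply R (Localization.AtPrime p) p.ResidueField]
      change IsLocalRing.residue _ _ * IsLocalRing.residue _ _ = IsLocalRing.residue _ _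
      rw [← map_mul, mul_comm, IsLocalization.mk'_spec]
    rw [TensorProduct.smul_tmul', TensorProduct.smul_tmul, h1, ← TensorProduct.smul_tmul]
  | add z₁ z₂ h₁ h₂ =>
    obtain ⟨r₁, s₁, hr₁, e₁⟩ := h₁
    obtain ⟨r₂, s₂, hr₂, e₂⟩ := h₂
    refine ⟨r₁ * r₂, r₂ • s₁ + r₁ • s₂, p.primeCompl.mul_mem hr₁ hr₂, ?_⟩
    rw [smul_add, mul_comm r₁ r₂, mul_smul, e₁, mul_comm r₂ r₁, mul_smul, e₂, add_tmul,
      TensorProduct.smul_tmul', TensorProduct.smul_tmul']

theorem smul_injective_of_notMem (r : R) (hr : r ∉ p) (z : S ⊗[R] p.ResidueField)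
    (h : r • z = 0) : z = 0 := by
  set c : p.ResidueField := algebraMap R p.ResidueField r with hc
  have hc0 : c ≠ 0 := by
    rw [hc, Ne, Ideal.algebraMap_residueField_eq_zero]; exact hr
  have key : ((1 : S) ⊗ₜ[R] c⁻¹ : S ⊗[R] p.ResidueField) * (r • z) = z := by
    rw [Algebra.smul_def, Algebra.TensorProduct.algebraMap_apply, ← mul_assoc,
      Algebra.TensorProduct.tmul_mul_tmul, one_mul, mul_one, Algebra.algebraMap_eq_smul_one,
      TensorProduct.smul_tmul, Algebra.smul_def, ← hc, mul_inv_cancel₀ hc0,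
      ← Algebra.TensorProduct.one_def, one_mul]
  rw [← key, h, mul_zero]


variable [Module.Flat R S] [hq : (p.map (algebraMap R S)).IsPrime]

theorem t_inj_kappa (t : S) (ht : t ∉ p.map (algebraMap R S)) (z : S ⊗[R] p.ResidueField)
    (h : t • z = 0) : z = 0 := by
  obtain ⟨r, s, hr, hrs⟩ := exists_denominator p z
  have h1 : (t * s) ⊗ₜ[R] (1 : p.ResidueField) = 0 := by
    have h0 : t • (r • z) = 0 := by rw [smul_comm, h, smul_zero]
    rw [hrs, TensorProduct.smul_tmul', smul_eq_mul] at h0
    exact h0
  have hker : (LinearMap.ker (Algebra.linearMap R p.ResidueField) : Ideal R) = p := by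
    ext x
    rw [LinearMap.mem_ker, Algebra.linearMap_apply, Ideal.algebraMap_residueField_eq_zero]
  have h2 : t * s ∈ p.map (algebraMap R S) := by
    have := mem_map_of_tmul_eq_zero (S := S) (Algebra.linearMap R p.ResidueField) (t * s)
      (by rw [Algebra.linearMap_apply, map_one]; exact h1)
    rwa [hker] at this
  have h3 : s ∈ p.map (algebraMap R S) := (hq.mem_or_mem h2).resolve_left ht
  have h4 : s ⊗ₜ[R] (1 : p.ResidueField) = 0 := by
    refine tmul_eq_zero_of_mem_map 1 p (fun a ha => ?_) s h3
    rw [Algebra.smul_def, mul_one, Ideal.algebraMap_residueField_eq_zero]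
    exact ha
  exact smul_injective_of_notMem p r hr z (by rw [hrs, h4])

/-- Lemma V -/
theorem t_inj_vec (t : S) (ht : t ∉ p.map (algebraMap R S)) (V : Type u) [AddCommGroup V]
    [Module p.ResidueField V] [Module R V] [IsScalarTower R p.ResidueField V]
    (x : S ⊗[R] V) (h : t • x = 0) : x = 0 := by
  let b := Module.Free.chooseBasis p.ResidueField V
  let e : V ≃ₗ[R] (Module.Free.ChooseBasisIndex p.ResidueField V →₀ p.ResidueField) :=
    b.repr.restrictScalars R
  let Ψ : S ⊗[R] V ≃ₗ[S] (Module.Free.ChooseBasisIndex p.ResidueField V →₀ S ⊗[R] p.ResidueField) :=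
    (TensorProduct.AlgebraTensorModule.congr (LinearEquiv.refl S S) e) ≪≫ₗ
      (TensorProduct.finsuppRight R S S p.ResidueField _)
  have h1 : t • Ψ x = 0 := by rw [← map_smul, h, map_zero]
  have h2 : Ψ x = 0 := by
    ext j
    have := congrArg (fun f => f j) h1
    simp only [Finsupp.smul_apply, Finsupp.zero_apply] at this
    exact t_inj_kappa p t ht _ this
  exact (LinearEquiv.map_eq_zero_iff Ψ).1 h2


omit [Module.Flat R S] hq in
theorem lTensor_smul' {A B : Type*} [AddCommGroup A] [Module R A] [AddCommGroup B] [Module R B]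
    (f : A →ₗ[R] B) (t : S) (y : S ⊗[R] A) : (f.lTensor S) (t • y) = t • (f.lTensor S) y := by
  induction y using TensorProduct.induction_on with
  | zero => simp
  | tmul s a => simp [TensorProduct.smul_tmul']
  | add y₁ y₂ h₁ h₂ => simp only [smul_add, map_add, h₁, h₂]

local notation "mW(" W ")" => (IsLocalRing.maximalIdeal (Localization.AtPrime p)) • (⊤ : Submodule (Localization.AtPrime p) W)

omit [Module.Flat R S] hq in
noncomputable instance instModQuot (W : Type u) [AddCommGroup W] [Module (Localization.AtPrime p) W] :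
    Module p.ResidueField (W ⧸ mW(W)) :=
  inferInstanceAs (Module (Localization.AtPrime p ⧸ IsLocalRing.maximalIdeal (Localization.AtPrime p))
    (W ⧸ (IsLocalRing.maximalIdeal (Localization.AtPrime p)) • (⊤ : Submodule (Localization.AtPrime p) W)))

omit [Module.Flat R S] hq in
instance instTowerQuot (W : Type u) [AddCommGroup W] [Module (Localization.AtPrime p) W] [Module R W]
    [IsScalarTower R (Localization.AtPrime p) W] : IsScalarTower R p.ResidueField (W ⧸ mW(W)) := by
  refine IsScalarTower.of_algebraMap_smul (fun r v => ?_)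
  obtain ⟨w, rfl⟩ := Submodule.Quotient.mk_surjective _ v
  rw [IsScalarTower.algebraMap_apply R (Localization.AtPrime p) p.ResidueField]
  change (Submodule.Quotient.mk (algebraMap R (Localization.AtPrime p) r • w) : W ⧸ mW(W)) = _
  rw [algebraMap_smul]
  rfl

/-- Lemma T -/
theorem t_inj_W (t : S) (ht : t ∉ p.map (algebraMap R S)) (n : ℕ) :
    ∀ (W : Type u) [AddCommGroup W] [Module (Localization.AtPrime p) W] [Module R W]
      [IsScalarTower R (Localization.AtPrime p) W],
      (∀ a ∈ (IsLocalRing.maximalIdeal (Localization.AtPrime p)) ^ n, ∀ w : W, a • w = 0) →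
      ∀ x : S ⊗[R] W, t • x = 0 → x = 0 := by
  induction n with
  | zero =>
    intro W _ _ _ _ hW x _
    have : Subsingleton W := ⟨fun a b => by
      have ha := hW 1 (by simp) a
      have hb := hW 1 (by simp) b
      rw [one_smul] at ha hb; rw [ha, hb]⟩
    exact Subsingleton.elim _ _
  | succ n ih =>
    intro W _ _ _ _ hW x hx
    let ι : ↥(mW(W)) →ₗ[R] W := mW(W).subtype.restrictScalars R
    let π : W →ₗ[R] (W ⧸ mW(W)) := mW(W).mkQ.restrictScalars R
    have hι : Function.Injective ι := Subtype.val_injective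
    have hπ : Function.Surjective π := mW(W).mkQ_surjective
    have hex : Function.Exact ι π := by
      intro w
      constructor
      · intro hw
        exact ⟨⟨w, (Submodule.Quotient.mk_eq_zero _).1 hw⟩, rfl⟩
      · rintro ⟨w', rfl⟩
        exact (Submodule.Quotient.mk_eq_zero _).2 w'.2
    have hex' := lTensor_exact S hex hπ
    have hinj := Module.Flat.lTensor_preserves_injective_linearMap (M := S) ι hι
    have h1 : (π.lTensor S) x = 0 := by
      apply t_inj_vec p t ht (W ⧸ mW(W))
      rw [← lTensor_smul', hx, map_zero]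
    obtain ⟨x', rfl⟩ := (hex' x).1 h1
    have h2 : t • x' = 0 := by
      apply hinj
      rw [lTensor_smul', hx, map_zero]
    have h3 : x' = 0 := by
      refine ih ↥(mW(W)) (fun a ha w' => ?_) x' h2
      apply Subtype.ext
      rw [Submodule.coe_smul, Submodule.coe_zero]
      have hw' : (w' : W) ∈ mW(W) := w'.2
      refine Submodule.smul_induction_on hw' (fun b hb w _ => ?_) (fun w₁ w₂ h₁ h₂ => ?_)
      · rw [← mul_smul]
        exact hW _ (by rw [pow_succ]; exact Ideal.mul_mem_mul ha hb) w
      · rw [smul_add, h₁, h₂, add_zero]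
    rw [h3, map_zero]


theorem main (n : ℕ) :
    (((p ^ n).map (algebraMap R (Localization.AtPrime p))).comap (algebraMap R (Localization.AtPrime p))).map
        (algebraMap R S) =
      (((p.map (algebraMap R S)) ^ n).map (algebraMap S (Localization.AtPrime (p.map (algebraMap R S))))).comap
        (algebraMap S (Localization.AtPrime (p.map (algebraMap R S)))) := by
  have hker : (LinearMap.ker (Algebra.linearMap R p.ResidueField) : Ideal R) = p := by
    ext x
    rw [LinearMap.mem_ker, Algebra.linearMap_apply, Ideal.algebraMap_residueField_eq_zero]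
  have hnot : ∀ s : R, s ∉ p → algebraMap R S s ∉ p.map (algebraMap R S) := by
    intro s hs hsq
    have h1 : (algebraMap R S s) ⊗ₜ[R] (1 : p.ResidueField) = 0 :=
      tmul_eq_zero_of_mem_map 1 p (fun a ha => by
        rw [Algebra.smul_def, mul_one, Ideal.algebraMap_residueField_eq_zero]; exact ha) _ hsq
    have h2 : s • ((1 : S) ⊗ₜ[R] (1 : p.ResidueField)) = 0 := by
      rw [TensorProduct.smul_tmul', Algebra.smul_def, mul_one]; exact h1
    have h3 := smul_injective_of_notMem p s hs _ h2
    have h4 : (1 : S) ∈ p.map (algebraMap R S) := by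
      have := mem_map_of_tmul_eq_zero (S := S) (Algebra.linearMap R p.ResidueField) 1
        (by rw [Algebra.linearMap_apply, map_one]; exact h3)
      rwa [hker] at this
    exact hq.ne_top ((Ideal.eq_top_iff_one _).2 h4)
  apply le_antisymm
  · rw [Ideal.map_le_iff_le_comap]
    intro x hx
    rw [mem_symb_iff] at hx
    obtain ⟨s, hs, hsx⟩ := hx
    rw [Ideal.mem_comap, mem_symb_iff]
    refine ⟨algebraMap R S s, hnot s hs, ?_⟩
    rw [← map_mul, ← Ideal.map_pow]
    exact Ideal.mem_map_of_mem _ hsx
  · intro y hy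
    rw [mem_symb_iff] at hy
    obtain ⟨t, ht, hty⟩ := hy
    rw [← Ideal.map_pow] at hty
    let ρ : R →ₗ[R] (Localization.AtPrime p ⧸ (IsLocalRing.maximalIdeal (Localization.AtPrime p)) ^ n) :=
      (Ideal.Quotient.mkₐ R ((IsLocalRing.maximalIdeal (Localization.AtPrime p)) ^ n)).toLinearMap ∘ₗ
        (Algebra.linearMap R (Localization.AtPrime p))
    have hkerρ : (LinearMap.ker ρ : Ideal R) =
        ((p ^ n).map (algebraMap R (Localization.AtPrime p))).comap
          (algebraMap R (Localization.AtPrime p)) := by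
      ext x
      rw [LinearMap.mem_ker, Ideal.mem_comap, Ideal.map_pow, Localization.AtPrime.map_eq_maximalIdeal]
      exact Ideal.Quotient.eq_zero_iff_mem
    have h1 : t • (y ⊗ₜ[R] (ρ 1)) = 0 := by
      rw [TensorProduct.smul_tmul', smul_eq_mul]
      refine tmul_eq_zero_of_mem_map (ρ 1) (p ^ n) (fun a ha => ?_) _ hty
      rw [← map_smul, smul_eq_mul, mul_one, ← LinearMap.mem_ker]
      change a ∈ (LinearMap.ker ρ : Ideal R)
      rw [hkerρ]
      exact Ideal.le_comap_map ha
    have h2 : y ⊗ₜ[R] (ρ 1) = 0 := by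
      refine t_inj_W p t ht n _ (fun a ha w => ?_) _ h1
      obtain ⟨x, rfl⟩ := Ideal.Quotient.mk_surjective w
      rw [Algebra.smul_def, Ideal.Quotient.algebraMap_eq, ← map_mul, Ideal.Quotient.eq_zero_iff_mem]
      exact Ideal.mul_mem_right _ _ ha
    have := mem_map_of_tmul_eq_zero (S := S) ρ y h2
    rwa [hkerρ] at this

end


/-- Let `R → S` be flat and `𝔭` a prime of `R` whose extension `𝔮 = 𝔭S` is prime. Then for every `n` the
extension to `S` of the symbolic power `𝔭^{(n)}` (the contraction of `𝔭ⁿR_𝔭`) equals the symbolic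
power `𝔮^{(n)}`. -/
theorem result {R S : Type u} [CommRing R] [CommRing S] [Algebra R S] [Module.Flat R S]
    (p : Ideal R) [p.IsPrime] [(p.map (algebraMap R S)).IsPrime] (n : ℕ) :
    (((p ^ n).map (algebraMap R (Localization.AtPrime p))).comap (algebraMap R (Localization.AtPrime p))).map
        (algebraMap R S) =
      (((p.map (algebraMap R S)) ^ n).map (algebraMap S (Localization.AtPrime (p.map (algebraMap R S))))).comap
        (algebraMap S (Localization.AtPrime (p.map (algebraMap R S)))) := by
  classical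
  exact main p n

end Groth.Agent.S2138
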