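import Groth.Statements.S2139
import Mathlib

set_option autoImplicit false
universe u
open CAlg

namespace Groth.Agent.S2139

section
open Polynomial

variable {R : Type u} [CommRing R]

/-- direction 1 : all local rings integrally closed domains ⇒ integrally closed in the total ring
of fractions -/
theorem dir1
    (h : ∀ (p : Ideal R) [p.IsPrime], IsDomain (Localization.AtPrime p) ∧
      IsIntegrallyClosed (Localization.AtPrime p)) :
    IsIntegrallyClosedIn R (FractionRing R) := by
  rw [isIntegrallyClosedIn_iff]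
  refine ⟨IsLocalization.injective (FractionRing R) (le_refl (nonZeroDivisors R)), ?_⟩
  intro x hx
  -- the ideal of denominators
  let D : Ideal R :=
    { carrier := {d | ∃ r, algebraMap R (FractionRing R) d * x = algebraMap R (FractionRing R) r}
      add_mem' := by
        rintro d d' ⟨r, hr⟩ ⟨r', hr'⟩
        exact ⟨r + r', by rw [map_add, add_mul, hr, hr', map_add]⟩
      zero_mem' := ⟨0, by simp⟩
      smul_mem' := by
        rintro c d ⟨r, hr⟩
        exact ⟨c * r, by rw [smul_eq_mul, map_mul, mul_assoc, hr, map_mul]⟩ }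
  by_cases hD : D = ⊤
  · have h1 : (1 : R) ∈ D := by rw [hD]; exact Submodule.mem_top
    obtain ⟨r, hr⟩ := h1
    exact ⟨r, by rw [← hr, map_one, one_mul]⟩
  exfalso
  obtain ⟨M, hM, hDM⟩ := Ideal.exists_le_maximal D hD
  have hMp : M.IsPrime := hM.isPrime
  obtain ⟨hdom, hic⟩ := h M
  let Rp := Localization.AtPrime M
  let Kp := FractionRing Rp
  let g : R →+* Kp := (algebraMap Rp Kp).comp (algebraMap R Rp)
  have hinjK : Function.Injective (algebraMap Rp Kp) := IsFractionRing.injective Rp Kp
  have hg : ∀ s : nonZeroDivisors R, IsUnit (g s) := by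
    intro s
    rw [isUnit_iff_ne_zero]
    intro h0
    have h1 : algebraMap R Rp (s : R) = 0 := by
      apply hinjK
      rw [map_zero]
      exact h0
    rw [IsLocalization.map_eq_zero_iff M.primeCompl] at h1
    obtain ⟨t, ht⟩ := h1
    have : (t : R) = 0 := by
      have := s.2
      rw [mem_nonZeroDivisors_iff] at this
      exact this.2 _ ht
    exact t.2 (by rw [this]; exact M.zero_mem)
  let φ : FractionRing R →+* Kp := IsLocalization.lift hg
  have hφ : ∀ r : R, φ (algebraMap R (FractionRing R) r) = g r := fun r => IsLocalization.lift_eq hg r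
  -- φ x is integral over Rp
  have hint : IsIntegral Rp (φ x) := by
    obtain ⟨f, hmonic, hf⟩ := hx
    refine ⟨f.map (algebraMap R Rp), hmonic.map _, ?_⟩
    rw [Polynomial.eval₂_map]
    have := congrArg φ hf
    rw [Polynomial.hom_eval₂, map_zero] at this
    have hcomp : φ.comp (algebraMap R (FractionRing R)) = (algebraMap Rp Kp).comp (algebraMap R Rp) := by
      ext r
      exact hφ r
    rw [hcomp] at this
    exact this
  obtain ⟨y, hy⟩ := (isIntegrallyClosed_iff Kp).mp hic hint
  obtain ⟨r, t, rfl⟩ := IsLocalization.exists_mk'_eq M.primeCompl y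
  obtain ⟨a, s, rfl⟩ := IsLocalization.exists_mk'_eq (nonZeroDivisors R) x
  have e1 : φ (IsLocalization.mk' (FractionRing R) a s) * g s = g a := by
    rw [← hφ, ← hφ, ← map_mul, IsLocalization.mk'_spec]
  have e2 : algebraMap Rp Kp (IsLocalization.mk' Rp r t) * g t = g r := by
    change _ * algebraMap Rp Kp (algebraMap R Rp t) = algebraMap Rp Kp (algebraMap R Rp r)
    rw [← map_mul, IsLocalization.mk'_spec]
  have e3 : g (a * t) = g (r * s) := by
    rw [map_mul, map_mul, ← e1, ← e2, hy]
    ring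
  have e4 : algebraMap R Rp (a * t) = algebraMap R Rp (r * s) := hinjK e3
  rw [IsLocalization.eq_iff_exists M.primeCompl] at e4
  obtain ⟨u, hu⟩ := e4
  have hmem : (u : R) * t ∈ D := by
    refine ⟨u * r, ?_⟩
    have hs : IsUnit (algebraMap R (FractionRing R) (s : R)) :=
      IsLocalization.map_units (FractionRing R) s
    apply hs.mul_right_cancel
    have e5 : IsLocalization.mk' (FractionRing R) a s * algebraMap R (FractionRing R) (s : R)
        = algebraMap R (FractionRing R) a := IsLocalization.mk'_spec _ _ _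
    calc algebraMap R (FractionRing R) (↑u * ↑t) * IsLocalization.mk' (FractionRing R) a s
          * algebraMap R (FractionRing R) (s : R)
        = algebraMap R (FractionRing R) (↑u * ↑t) * (IsLocalization.mk' (FractionRing R) a s
          * algebraMap R (FractionRing R) (s : R)) := by ring
      _ = algebraMap R (FractionRing R) (↑u * ↑t) * algebraMap R (FractionRing R) a := by rw [e5]
      _ = algebraMap R (FractionRing R) (↑u * (a * ↑t)) := by rw [← map_mul]; congr 1; ring
      _ = algebraMap R (FractionRing R) (↑u * (r * ↑s)) := by rw [hu]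
      _ = algebraMap R (FractionRing R) (↑u * r) * algebraMap R (FractionRing R) (s : R) := by
          rw [← map_mul]; congr 1; ring
  have hmemM : (u : R) * t ∈ M := hDM hmem
  rcases hMp.mem_or_mem hmemM with h1 | h1
  · exact u.2 h1
  · exact t.2 h1


theorem eq_zero_of_forall_mem [IsReduced R] (x : R) (h : ∀ q ∈ minimalPrimes R, x ∈ q) : x = 0 := by
  have h1 : x ∈ sInf (minimalPrimes R) := by
    rw [Ideal.mem_sInf]
    intro q hq
    exact h q hq
  rw [minimalPrimes, Ideal.sInf_minimalPrimes] at h1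
  have h2 : (⊥ : Ideal R).radical = nilradical R := rfl
  rw [h2, nilradical_eq_zero] at h1
  exact h1

theorem nzd_of_forall_not_mem [IsReduced R] (s : R) (h : ∀ q ∈ minimalPrimes R, s ∉ q) :
    s ∈ nonZeroDivisors R := by
  have key : ∀ x, x * s = 0 → x = 0 := by
    intro x hx
    apply eq_zero_of_forall_mem
    intro q hq
    have hqp : q.IsPrime := hq.1.1
    have : x * s ∈ q := by rw [hx]; exact q.zero_mem
    rcases hqp.mem_or_mem this with h1 | h1
    · exact h1
    · exact absurd h1 (h q hq)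
  rw [mem_nonZeroDivisors_iff]
  exact ⟨fun x hx => key x (by rw [mul_comm]; exact hx), key⟩

theorem minimal_eq_of_le {p1 q : Ideal R} (hp1 : p1 ∈ minimalPrimes R) (hq : q ∈ minimalPrimes R)
    (h : p1 ≤ q) : q = p1 :=
  le_antisymm (hq.2 ⟨hp1.1.1, bot_le⟩ h) h

theorem exists_b (hfin : (minimalPrimes R).Finite) {p1 : Ideal R} (hp1 : p1 ∈ minimalPrimes R) :
    ∃ b ∈ p1, ∀ q ∈ minimalPrimes R, q ≠ p1 → b ∉ q := by
  classical
  let mp : Finset (Ideal R) := hfin.toFinset.erase p1
  by_contra hcon
  simp only [not_exists, not_and, not_forall, not_not] at hcon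
  have hsub : ((p1 : Ideal R) : Set R) ⊆ ⋃ q ∈ (↑mp : Set (Ideal R)), (q : Set R) := by
    intro b hb
    obtain ⟨q, hq, hne, hbq⟩ := hcon b hb
    simp only [Set.mem_iUnion]
    refine ⟨q, ?_, hbq⟩
    simp only [mp, Finset.coe_erase, Set.mem_diff, Finset.mem_coe, Set.Finite.mem_toFinset,
      Set.mem_singleton_iff]
    exact ⟨hq, hne⟩
  have := (Ideal.subset_union_prime (R := R) (s := mp) (f := fun q => q) p1 p1 (by
    intro q hq _ _
    have : q ∈ minimalPrimes R := by
      have := Finset.mem_of_mem_erase hq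
      exact (Set.Finite.mem_toFinset hfin).mp this
    exact this.1.1)).mp hsub
  obtain ⟨q, hq, hle⟩ := this
  have hqmin : q ∈ minimalPrimes R :=
    (Set.Finite.mem_toFinset hfin).mp (Finset.mem_of_mem_erase hq)
  have hne : q ≠ p1 := Finset.ne_of_mem_erase hq
  exact hne (minimal_eq_of_le hp1 hqmin hle)

theorem exists_c (hfin : (minimalPrimes R).Finite) (p1 P : Ideal R) [hP : P.IsPrime]
    (hno : ∀ q ∈ minimalPrimes R, q ≠ p1 → ¬ q ≤ P) :
    ∃ c, (∀ q ∈ minimalPrimes R, q ≠ p1 → c ∈ q) ∧ c ∉ P := by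
  classical
  let mp : Finset (Ideal R) := hfin.toFinset.erase p1
  have h1 : ¬ (mp.inf (fun q => q) ≤ P) := by
    rw [Ideal.IsPrime.inf_le' hP]
    rintro ⟨q, hq, hle⟩
    have hqmin : q ∈ minimalPrimes R :=
      (Set.Finite.mem_toFinset hfin).mp (Finset.mem_of_mem_erase hq)
    exact hno q hqmin (Finset.ne_of_mem_erase hq) hle
  obtain ⟨c, hc, hcP⟩ := SetLike.not_le_iff_exists.mp h1
  refine ⟨c, ?_, hcP⟩
  intro q hq hne
  have hqmp : q ∈ mp := Finset.mem_erase.mpr ⟨hne, (Set.Finite.mem_toFinset hfin).mpr hq⟩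
  exact (Finset.inf_le (f := fun q : Ideal R => q) hqmp) hc

/-- uniqueness of the minimal prime below a prime -/
theorem unique_min [IsReduced R] (hfin : (minimalPrimes R).Finite)
    (hIC : IsIntegrallyClosedIn R (FractionRing R)) (p : Ideal R) [hp : p.IsPrime]
    {p1 p2 : Ideal R} (hp1 : p1 ∈ minimalPrimes R) (hp2 : p2 ∈ minimalPrimes R)
    (h1 : p1 ≤ p) (h2 : p2 ≤ p) : p2 = p1 := by
  by_contra hne
  have hp1prime : p1.IsPrime := hp1.1.1
  have hp2prime : p2.IsPrime := hp2.1.1
  obtain ⟨b, hb1, hb⟩ := exists_b hfin hp1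
  obtain ⟨a, ha, ha1⟩ := exists_c hfin p1 p1 (by
    intro q hq hqne hle
    exact hqne (le_antisymm hle (hp1.2 ⟨hq.1.1, bot_le⟩ hle)))
  have hab : a * b = 0 := by
    apply eq_zero_of_forall_mem
    intro q hq
    by_cases hq1 : q = p1
    · rw [hq1]; exact p1.mul_mem_left _ hb1
    · exact q.mul_mem_right _ (ha q hq hq1)
  have hs : a + b ∈ nonZeroDivisors R := by
    apply nzd_of_forall_not_mem
    intro q hq hmem
    by_cases hq1 : q = p1
    · rw [hq1] at hmem
      exact ha1 ((Ideal.add_mem_iff_left p1 hb1).mp hmem)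
    · exact hb q hq hq1 ((Ideal.add_mem_iff_right q (ha q hq hq1)).mp hmem)
  let Q := FractionRing R
  let e : Q := IsLocalization.mk' Q a (⟨a + b, hs⟩ : nonZeroDivisors R)
  have hsu : IsUnit (algebraMap R Q (a + b)) :=
    IsLocalization.map_units Q (⟨a + b, hs⟩ : nonZeroDivisors R)
  have he : e * algebraMap R Q (a + b) = algebraMap R Q a := IsLocalization.mk'_spec _ _ _
  have hee : e * e = e := by
    apply hsu.mul_right_cancel
    apply hsu.mul_right_cancel
    calc e * e * algebraMap R Q (a + b) * algebraMap R Q (a + b)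
        = (e * algebraMap R Q (a + b)) * (e * algebraMap R Q (a + b)) := by ring
      _ = algebraMap R Q a * algebraMap R Q a := by rw [he]
      _ = algebraMap R Q (a * (a + b)) := by
          rw [← map_mul]
          congr 1
          linear_combination (-1 : R) * hab
      _ = algebraMap R Q a * algebraMap R Q (a + b) := by rw [map_mul]
      _ = e * algebraMap R Q (a + b) * algebraMap R Q (a + b) := by rw [he]
  have hnontriv : Nontrivial R :=
    ⟨⟨0, 1, fun h => hp.ne_top ((Ideal.eq_top_iff_one p).mpr (h ▸ p.zero_mem))⟩⟩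
  have hint : IsIntegral R e := by
    refine ⟨X ^ 2 - X, ?_, ?_⟩
    · exact monic_X_pow_sub (by rw [degree_X]; norm_num)
    · rw [eval₂_sub, eval₂_pow, eval₂_X, pow_two, hee, sub_self]
  obtain ⟨hinj, hcl⟩ := isIntegrallyClosedIn_iff.mp hIC
  obtain ⟨r, hr⟩ := hcl hint
  have hrs : r * (a + b) = a := by
    apply hinj
    rw [map_mul, hr, he]
  have hr1 : r - 1 ∈ p1 := by
    have : (r - 1) * a ∈ p1 := by
      have : (r - 1) * a = - (r * b) := by linear_combination hrs
      rw [this]
      exact p1.neg_mem (p1.mul_mem_left _ hb1)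
    rcases hp1prime.mem_or_mem this with h | h
    · exact h
    · exact absurd h ha1
  have hr2 : r ∈ p2 := by
    have : r * b ∈ p2 := by
      have : r * b = (1 - r) * a := by linear_combination hrs
      rw [this]
      exact p2.mul_mem_left _ (ha p2 hp2 hne)
    rcases hp2prime.mem_or_mem this with h | h
    · exact h
    · exact absurd h (hb p2 hp2 hne)
  have : (1 : R) ∈ p := by
    have : (1 : R) = r - (r - 1) := by ring
    rw [this]
    exact p.sub_mem (h2 hr2) (h1 hr1)
  exact hp.ne_top ((Ideal.eq_top_iff_one p).mpr this)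


theorem c_mul_pow (c b' d : R) (hcd : c * d = 0) (m : ℕ) :
    c * (c * b' + d) ^ m = c ^ (m + 1) * b' ^ m := by
  induction m with
  | zero => simp
  | succ m ih =>
    rw [pow_succ, ← mul_assoc, ih]
    have : c ^ (m + 1) * b' ^ m * (c * b' + d) = c ^ (m + 1 + 1) * b' ^ (m + 1)
        + c ^ m * b' ^ m * (c * d) := by ring
    rw [this, hcd, mul_zero, add_zero]

theorem ic_core [IsReduced R] (hfin : (minimalPrimes R).Finite)
    (hIC : IsIntegrallyClosedIn R (FractionRing R)) (p : Ideal R) [hp : p.IsPrime]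
    {Rp K : Type u} [CommRing Rp] [IsDomain Rp] [Algebra R Rp] [IsLocalization.AtPrime Rp p]
    [Field K] [Algebra Rp K] [IsFractionRing Rp K] [Algebra R K] [IsScalarTower R Rp K]
    (p1 : Ideal R) (hp1 : p1 ∈ minimalPrimes R) (hp1le : p1 ≤ p) (c : R)
    (hc : ∀ q ∈ minimalPrimes R, q ≠ p1 → c ∈ q) (hcp : c ∉ p)
    (hF : ∀ x ∈ p1, c * x = 0)
    (hzero : ∀ x : R, algebraMap R Rp x = 0 ↔ x ∈ p1)
    (y : K) (hy : IsIntegral Rp y) : ∃ x : Rp, algebraMap Rp K x = y := by
  have hp1prime : p1.IsPrime := hp1.1.1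
  have hinjK : Function.Injective (algebraMap Rp K) := IsFractionRing.injective _ _
  obtain ⟨ι, hιdef⟩ : ∃ ι : R →+* K, ι = algebraMap R K := ⟨_, rfl⟩
  have hι : ∀ x : R, ι x = algebraMap Rp K (algebraMap R Rp x) := fun x => by
    rw [hιdef]; exact IsScalarTower.algebraMap_apply R Rp K x
  have hι0 : ∀ x : R, ι x = 0 ↔ x ∈ p1 := by
    intro x
    rw [hι, ← hzero x]
    constructor
    · intro h
      apply hinjK
      rw [h, map_zero]
    · intro h
      rw [h, map_zero]
  have hιne : ∀ x : R, x ∉ p → ι x ≠ 0 := by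
    intro x hx h0
    exact hx (hp1le ((hι0 x).mp h0))
  obtain ⟨u, hu⟩ := IsIntegral.exists_multiple_integral_of_isLocalization p.primeCompl
    (Rₘ := Rp) y hy
  obtain ⟨g, hgm, hg⟩ := hu
  rw [Submonoid.smul_def, Algebra.smul_def, ← hιdef] at hg
  obtain ⟨α, β, hyαβ⟩ := IsLocalization.exists_mk'_eq (nonZeroDivisors Rp) y
  obtain ⟨a1, s1, hα⟩ := IsLocalization.exists_mk'_eq p.primeCompl α
  obtain ⟨b1, t1, hβ⟩ := IsLocalization.exists_mk'_eq p.primeCompl (β : Rp)
  have e1 : y * algebraMap Rp K (β : Rp) = algebraMap Rp K α := by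
    rw [← hyαβ]; exact IsLocalization.mk'_spec _ _ _
  have e2 : algebraMap Rp K α * ι s1 = ι a1 := by
    rw [← hα, hι, hι, ← map_mul, IsLocalization.mk'_spec]
  have e3 : algebraMap Rp K (β : Rp) * ι t1 = ι b1 := by
    rw [← hβ, hι, hι, ← map_mul, IsLocalization.mk'_spec]
  have hβne : algebraMap Rp K (β : Rp) ≠ 0 := by
    intro h0
    have : (β : Rp) = 0 := hinjK (by rw [h0, map_zero])
    exact nonZeroDivisors.ne_zero β.2 this
  have hyb : y * ι (b1 * s1) = ι (a1 * t1) := by
    rw [map_mul, map_mul, ← e2, ← e3, ← e1]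
    ring
  have hb'ne : ι (b1 * s1) ≠ 0 := by
    rw [map_mul, ← e3]
    exact mul_ne_zero (mul_ne_zero hβne (hιne _ t1.2)) (hιne _ s1.2)
  have hb'p1 : b1 * s1 ∉ p1 := fun h => hb'ne ((hι0 _).mpr h)
  have hzb : ι (u : R) * y * ι (b1 * s1) = ι ((u : R) * (a1 * t1)) := by
    rw [map_mul ι (u : R) (a1 * t1), ← hyb]
    ring
  generalize b1 * s1 = b' at hzb hb'ne hb'p1
  generalize (u : R) * (a1 * t1) = a'' at hzb
  generalize hz : ι (u : R) * y = z at hzb hg
  obtain ⟨n, hn⟩ : ∃ n, n = g.natDegree := ⟨_, rfl⟩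
  obtain ⟨E, hEdef⟩ : ∃ E : R, E = ∑ k ∈ Finset.range (n + 1), g.coeff k * a'' ^ k * b' ^ (n - k) :=
    ⟨_, rfl⟩
  have hE : ι E = 0 := by
    have h1 : ι E = ι b' ^ n * Polynomial.eval₂ ι z g := by
      rw [Polynomial.eval₂_eq_sum_range, ← hn, Finset.mul_sum, hEdef, map_sum]
      refine Finset.sum_congr rfl (fun k hk => ?_)
      have hk' : k ≤ n := Nat.lt_succ_iff.mp (Finset.mem_range.mp hk)
      rw [map_mul, map_mul, map_pow, map_pow, ← hzb]
      have : ι b' ^ n = ι b' ^ k * ι b' ^ (n - k) := by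
        rw [← pow_add]; congr 1; omega
      rw [this]
      ring
    rw [h1, hg, mul_zero]
  have hcE : c * E = 0 := hF E ((hι0 E).mp hE)
  obtain ⟨d, hd1, hd⟩ := exists_b hfin hp1
  have hcd : c * d = 0 := hF d hd1
  have hcp1 : c ∉ p1 := fun h => hcp (hp1le h)
  have hβ₀ : c * b' + d ∈ nonZeroDivisors R := by
    apply nzd_of_forall_not_mem
    intro q hq hmem
    by_cases hq1 : q = p1
    · rw [hq1] at hmem
      have := (Ideal.add_mem_iff_left p1 hd1).mp hmem
      rcases hp1prime.mem_or_mem this with h | h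
      · exact hcp1 h
      · exact hb'p1 h
    · exact hd q hq hq1 ((Ideal.add_mem_iff_right q (q.mul_mem_right _ (hc q hq hq1))).mp hmem)
  obtain ⟨w, hwdef⟩ : ∃ w : FractionRing R, w = IsLocalization.mk' (FractionRing R) (c * a'')
    (⟨c * b' + d, hβ₀⟩ : nonZeroDivisors R) := ⟨_, rfl⟩
  have hβu : IsUnit (algebraMap R (FractionRing R) (c * b' + d)) :=
    IsLocalization.map_units (FractionRing R) (⟨c * b' + d, hβ₀⟩ : nonZeroDivisors R)
  have hw : w * algebraMap R (FractionRing R) (c * b' + d) = algebraMap R (FractionRing R) (c * a'') := by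
    rw [hwdef]; exact IsLocalization.mk'_spec _ _ _
  have hring : c * a'' * ∑ k ∈ Finset.range (n + 1), g.coeff k * (c * a'') ^ k
      * (c * b' + d) ^ (n - k) = 0 := by
    have h1 : ∀ k ∈ Finset.range (n + 1), c * a'' * (g.coeff k * (c * a'') ^ k
        * (c * b' + d) ^ (n - k)) = c ^ n * a'' * (c * (g.coeff k * a'' ^ k * b' ^ (n - k))) := by
      intro k hk
      have hk' : k ≤ n := Nat.lt_succ_iff.mp (Finset.mem_range.mp hk)
      have h2 := c_mul_pow c b' d hcd (n - k)
      calc c * a'' * (g.coeff k * (c * a'') ^ k * (c * b' + d) ^ (n - k))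
          = a'' * g.coeff k * (c * a'') ^ k * (c * (c * b' + d) ^ (n - k)) := by ring
        _ = a'' * g.coeff k * (c * a'') ^ k * (c ^ (n - k + 1) * b' ^ (n - k)) := by rw [h2]
        _ = c ^ (k + (n - k + 1)) * (a'' * g.coeff k * a'' ^ k * b' ^ (n - k)) := by
            rw [mul_pow, pow_add]; ring
        _ = c ^ (n + 1) * (a'' * g.coeff k * a'' ^ k * b' ^ (n - k)) := by
            congr 2; omega
        _ = c ^ n * a'' * (c * (g.coeff k * a'' ^ k * b' ^ (n - k))) := by
            rw [pow_succ]; ring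
    rw [Finset.mul_sum, Finset.sum_congr rfl h1, ← Finset.mul_sum, ← Finset.mul_sum, ← hEdef,
      hcE, mul_zero]
  have hwint : IsIntegral R w := by
    refine ⟨X * g, monic_X.mul hgm, ?_⟩
    rw [eval₂_mul, eval₂_X]
    have hu' : IsUnit (algebraMap R (FractionRing R) (c * b' + d) ^ (n + 1)) := hβu.pow _
    apply hu'.mul_left_cancel
    rw [mul_zero]
    have h1 : algebraMap R (FractionRing R) (c * b' + d) ^ (n + 1)
          * (w * Polynomial.eval₂ (algebraMap R (FractionRing R)) w g)
        = algebraMap R (FractionRing R) (c * a'' * ∑ k ∈ Finset.range (n + 1),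
          g.coeff k * (c * a'') ^ k * (c * b' + d) ^ (n - k)) := by
      rw [Polynomial.eval₂_eq_sum_range, ← hn, map_mul, map_sum, ← hw]
      rw [Finset.mul_sum, Finset.mul_sum, Finset.mul_sum]
      refine Finset.sum_congr rfl (fun k hk => ?_)
      have hk' : k ≤ n := Nat.lt_succ_iff.mp (Finset.mem_range.mp hk)
      rw [map_mul, map_mul, map_pow, map_pow, ← hw]
      have : algebraMap R (FractionRing R) (c * b' + d) ^ (n + 1)
          = algebraMap R (FractionRing R) (c * b' + d) * (algebraMap R (FractionRing R) (c * b' + d) ^ k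
            * algebraMap R (FractionRing R) (c * b' + d) ^ (n - k)) := by
        rw [← pow_add, ← pow_succ']; congr 1; omega
      rw [this]
      ring
    rw [h1, hring, map_zero]
  obtain ⟨hinj, hcl⟩ := isIntegrallyClosedIn_iff.mp hIC
  obtain ⟨ρ, hρ⟩ := hcl hwint
  have hρβ : ρ * (c * b' + d) = c * a'' := by
    apply hinj
    rw [map_mul, hρ, hw]
  have hιd : ι d = 0 := (hι0 d).mpr hd1
  have hιc : ι c ≠ 0 := hιne c hcp
  have hρz : ι ρ = z := by
    have h1 : ι ρ * (ι c * ι b' + ι d) = ι c * ι a'' := by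
      rw [← map_mul, ← map_add, ← map_mul, ← map_mul, hρβ]
    rw [hιd, add_zero, ← hzb] at h1
    have h2 : ι c * ι b' * (ι ρ - z) = 0 := by linear_combination h1
    have h3 : ι c * ι b' ≠ 0 := mul_ne_zero hιc hb'ne
    have := (mul_eq_zero.mp h2).resolve_left h3
    exact sub_eq_zero.mp this
  refine ⟨IsLocalization.mk' Rp ρ u, ?_⟩
  have hιu : ι (u : R) ≠ 0 := hιne _ u.2
  apply mul_right_cancel₀ hιu
  have h4 : algebraMap Rp K (IsLocalization.mk' Rp ρ u) * ι (u : R) = ι ρ := by
    rw [hι, hι, ← map_mul, IsLocalization.mk'_spec]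
  rw [h4, hρz, ← hz]
  ring

theorem dir2 [IsReduced R] (hfin : (minimalPrimes R).Finite)
    (hIC : IsIntegrallyClosedIn R (FractionRing R)) (p : Ideal R) [hp : p.IsPrime] :
    IsDomain (Localization.AtPrime p) ∧ IsIntegrallyClosed (Localization.AtPrime p) := by
  obtain ⟨p1, hp1, hp1le⟩ := Ideal.exists_minimalPrimes_le (bot_le : (⊥ : Ideal R) ≤ p)
  have hp1prime : p1.IsPrime := hp1.1.1
  obtain ⟨c, hc, hcp⟩ := exists_c hfin p1 p (by
    intro q hq hqne hle
    exact hqne (unique_min hfin hIC p hp1 hq hp1le hle))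
  have hF : ∀ x ∈ p1, c * x = 0 := by
    intro x hx
    apply eq_zero_of_forall_mem
    intro q hq
    by_cases hq1 : q = p1
    · rw [hq1]; exact p1.mul_mem_left _ hx
    · exact q.mul_mem_right _ (hc q hq hq1)
  have hzero : ∀ x : R, algebraMap R (Localization.AtPrime p) x = 0 ↔ x ∈ p1 := by
    intro x
    rw [IsLocalization.map_eq_zero_iff p.primeCompl]
    constructor
    · rintro ⟨u, hu⟩
      have : (u : R) * x ∈ p1 := by rw [hu]; exact p1.zero_mem
      rcases hp1prime.mem_or_mem this with h | h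
      · exact absurd (hp1le h) u.2
      · exact h
    · intro hx
      exact ⟨⟨c, hcp⟩, hF x hx⟩
  have hdom : IsDomain (Localization.AtPrime p) := by
    have hnz : NoZeroDivisors (Localization.AtPrime p) := by
      constructor
      intro x y hxy
      obtain ⟨a, s, rfl⟩ := IsLocalization.exists_mk'_eq p.primeCompl x
      obtain ⟨b, t, rfl⟩ := IsLocalization.exists_mk'_eq p.primeCompl y
      rw [← IsLocalization.mk'_mul, IsLocalization.mk'_eq_zero_iff] at hxy
      obtain ⟨u, hu⟩ := hxy
      have hmem : (u : R) * (a * b) ∈ p1 := by rw [hu]; exact p1.zero_mem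
      have hab : a ∈ p1 ∨ b ∈ p1 := by
        rcases hp1prime.mem_or_mem hmem with h | h
        · exact absurd (hp1le h) u.2
        · exact hp1prime.mem_or_mem h
      rcases hab with h | h
      · left
        rw [IsLocalization.mk'_eq_zero_iff]
        exact ⟨⟨c, hcp⟩, hF a h⟩
      · right
        rw [IsLocalization.mk'_eq_zero_iff]
        exact ⟨⟨c, hcp⟩, hF b h⟩
    exact NoZeroDivisors.to_isDomain _
  refine ⟨hdom, ?_⟩
  rw [isIntegrallyClosed_iff (FractionRing (Localization.AtPrime p))]
  intro y hy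
  exact ic_core hfin hIC p p1 hp1 hp1le c hc hcp hF hzero y hy

theorem main {R : Type u} [CommRing R] [IsReduced R] (hfin : (minimalPrimes R).Finite) :
    (∀ (p : Ideal R) [p.IsPrime], IsDomain (Localization.AtPrime p) ∧ IsIntegrallyClosed (Localization.AtPrime p)) ↔
      IsIntegrallyClosedIn R (FractionRing R) := by
  constructor
  · intro h
    exact dir1 h
  · intro hIC p hp
    exact dir2 hfin hIC p


end


/-- Let `R` be a reduced ring with finitely many minimal primes. Then every localization of `R` at a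
prime is an integrally closed domain if and only if `R` is integrally closed in its total ring of
fractions. -/
theorem result {R : Type u} [CommRing R] [IsReduced R] (hfin : (minimalPrimes R).Finite) :
    (∀ (p : Ideal R) [p.IsPrime], IsDomain (Localization.AtPrime p) ∧ IsIntegrallyClosed (Localization.AtPrime p)) ↔
      IsIntegrallyClosedIn R (FractionRing R) := by
  classical
  exact main hfin

end Groth.Agent.S2139
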