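import Groth.Statements.S2140
import Mathlib

set_option autoImplicit false
universe u
open CAlg

namespace Groth.Agent.S2140

section
open Polynomial

section onegen
variable {R : Type u} [CommRing R] [IsDomain R]

/-- pseudo-division: elements of an ideal `q` whose nonzero elements have degree `≥ natDegree h`
are killed by a power of the leading coefficient modulo `h` -/
theorem pseudo_div (q : Ideal R[X]) (h : R[X]) (hq : h ∈ q) (h0 : h ≠ 0)
    (hmin : ∀ P ∈ q, P ≠ 0 → h.natDegree ≤ P.natDegree) :
    ∀ (n : ℕ), ∀ P ∈ q, P.natDegree = n → ∃ k : ℕ, C (h.leadingCoeff ^ k) * P ∈ Ideal.span {h} := by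
  intro n
  induction n using Nat.strong_induction_on with
  | _ n ih =>
    intro P hP hdeg
    by_cases hP0 : P = 0
    · exact ⟨0, by simp [hP0]⟩
    have h1 := hmin P hP hP0
    have ha : h.leadingCoeff ≠ 0 := leadingCoeff_ne_zero.2 h0
    have hlcP : P.leadingCoeff ≠ 0 := leadingCoeff_ne_zero.2 hP0
    set T : R[X] := C P.leadingCoeff * X ^ (P.natDegree - h.natDegree) * h with hT
    have hTq : T ∈ q := q.mul_mem_left _ hq
    have hTspan : T ∈ Ideal.span {h} := Ideal.mul_mem_left _ _ (Ideal.mem_span_singleton_self h)
    have hdegT : T.degree = P.degree := by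
      rw [hT, degree_mul, degree_mul, degree_C hlcP, degree_X_pow, zero_add,
        degree_eq_natDegree h0, degree_eq_natDegree hP0, ← Nat.cast_add,
        Nat.sub_add_cancel h1]
    have hlcT : T.leadingCoeff = P.leadingCoeff * h.leadingCoeff := by
      rw [hT, leadingCoeff_mul, leadingCoeff_mul, leadingCoeff_C, leadingCoeff_X_pow, mul_one]
    have haP0 : C h.leadingCoeff * P ≠ 0 := mul_ne_zero (C_ne_zero.2 ha) hP0
    have hdegaP : (C h.leadingCoeff * P).degree = T.degree := by
      rw [degree_mul, degree_C ha, zero_add, hdegT]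
    have hlcaP : (C h.leadingCoeff * P).leadingCoeff = T.leadingCoeff := by
      rw [leadingCoeff_mul, leadingCoeff_C, hlcT, mul_comm]
    have hlt := degree_sub_lt hdegaP haP0 hlcaP
    set P' := C h.leadingCoeff * P - T with hP'
    have hP'q : P' ∈ q := q.sub_mem (q.mul_mem_left _ hP) hTq
    by_cases hP'0 : P' = 0
    · refine ⟨1, ?_⟩
      rw [pow_one]
      have : C h.leadingCoeff * P = T := sub_eq_zero.1 hP'0
      rw [this]
      exact hTspan
    · have hnat : P'.natDegree < n := by
        rw [← hdeg]
        have h2 : P'.degree < P.degree := by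
          rw [degree_mul, degree_C ha, zero_add] at hlt
          exact hlt
        exact natDegree_lt_natDegree hP'0 h2
      obtain ⟨k', hk'⟩ := ih _ hnat P' hP'q rfl
      refine ⟨k' + 1, ?_⟩
      have : C (h.leadingCoeff ^ (k' + 1)) * P = C (h.leadingCoeff ^ k') * P' +
          C (h.leadingCoeff ^ k') * T := by
        rw [hP', pow_succ, C_mul]
        ring
      rw [this]
      exact Ideal.add_mem _ hk' (Ideal.mul_mem_left _ _ hTspan)


theorem one_gen {S : Type u} [CommRing S] [IsDomain S] [Algebra R S]
    (hinj : Function.Injective (algebraMap R S)) (x : S) (hx : Algebra.adjoin R {x} = ⊤) :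
    ∃ g : S, g ≠ 0 ∧ Algebra.FinitePresentation R (Localization.Away g) := by
  classical
  let φ : R[X] →ₐ[R] S := aeval x
  have hφ : Function.Surjective φ := by
    rw [← AlgHom.range_eq_top, ← Algebra.adjoin_singleton_eq_range_aeval, hx]
  by_cases hq : RingHom.ker φ.toRingHom = ⊥
  · have hb : Function.Bijective φ := ⟨(RingHom.injective_iff_ker_eq_bot _).2 hq, hφ⟩
    have : Algebra.FinitePresentation R S :=
      Algebra.FinitePresentation.equiv (AlgEquiv.ofBijective φ hb)
    exact ⟨1, one_ne_zero, inferInstance⟩
  · obtain ⟨P₀, hP₀q, hP₀0⟩ := Submodule.exists_mem_ne_zero_of_ne_bot hq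
    have hex : ∃ n : ℕ, ∃ P ∈ RingHom.ker φ.toRingHom, P ≠ 0 ∧ P.natDegree = n :=
      ⟨_, P₀, hP₀q, hP₀0, rfl⟩
    obtain ⟨h, hhq, hh0, hhdeg⟩ := Nat.find_spec hex
    have hmin : ∀ P ∈ RingHom.ker φ.toRingHom, P ≠ 0 → h.natDegree ≤ P.natDegree := by
      intro P hP hP0
      rw [hhdeg]
      exact Nat.find_min' hex ⟨P, hP, hP0, rfl⟩
    have ha : h.leadingCoeff ≠ 0 := leadingCoeff_ne_zero.2 hh0
    have hga : algebraMap R S h.leadingCoeff ≠ 0 := by
      intro h1
      exact ha (hinj (by rw [h1, map_zero]))
    refine ⟨algebraMap R S h.leadingCoeff, hga, ?_⟩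
    -- the quotient `B = R[X]/(h)`
    have hle : Ideal.span {h} ≤ RingHom.ker φ.toRingHom := by
      rw [Ideal.span_singleton_le_iff_mem]
      exact hhq
    let ψ : (R[X] ⧸ Ideal.span {h}) →ₐ[R] S :=
      Ideal.Quotient.liftₐ (Ideal.span {h}) φ (fun p hp => hle hp)
    have hψ : ∀ p : R[X], ψ (Ideal.Quotient.mk _ p) = φ p := fun p => rfl
    have hFPB : Algebra.FinitePresentation R (R[X] ⧸ Ideal.span {h}) :=
      Algebra.FinitePresentation.quotient ⟨{h}, by simp⟩
    let _ : Algebra (R[X] ⧸ Ideal.span {h}) (Localization.Away (algebraMap R S h.leadingCoeff)) :=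
      ((algebraMap S (Localization.Away (algebraMap R S h.leadingCoeff))).comp
        ψ.toRingHom).toAlgebra
    have hamap : ∀ b : R[X] ⧸ Ideal.span {h},
        algebraMap (R[X] ⧸ Ideal.span {h}) (Localization.Away (algebraMap R S h.leadingCoeff)) b =
          algebraMap S _ (ψ b) := fun b => rfl
    have htower : IsScalarTower R (R[X] ⧸ Ideal.span {h})
        (Localization.Away (algebraMap R S h.leadingCoeff)) := by
      refine ⟨fun r b t => ?_⟩
      rw [Algebra.smul_def, Algebra.smul_def, Algebra.smul_def, hamap, map_smul, Algebra.smul_def,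
        map_mul, ← hamap, mul_assoc, ← IsScalarTower.algebraMap_apply]
    have hloc : IsLocalization.Away (algebraMap R (R[X] ⧸ Ideal.span {h}) h.leadingCoeff)
        (Localization.Away (algebraMap R S h.leadingCoeff)) := by
      have hψa : ψ (algebraMap R (R[X] ⧸ Ideal.span {h}) h.leadingCoeff) =
          algebraMap R S h.leadingCoeff := AlgHom.commutes _ _
      rw [IsLocalization.Away, isLocalization_iff]
      refine ⟨?_, ?_, ?_⟩
      · rintro ⟨_, n, rfl⟩
        rw [hamap, map_pow, hψa, map_pow]
        exact (IsLocalization.Away.algebraMap_isUnit _).pow n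
      · intro z
        obtain ⟨⟨s₀, ⟨_, n, rfl⟩⟩, hz⟩ :=
          IsLocalization.surj (Submonoid.powers (algebraMap R S h.leadingCoeff)) z
        obtain ⟨p, rfl⟩ := hφ s₀
        refine ⟨(Ideal.Quotient.mk _ p,
          ⟨_, n, rfl⟩), ?_⟩
        rw [hamap, hamap, map_pow, hψa, hψ]
        exact hz
      · intro b₁ b₂ hb
        rw [hamap, hamap] at hb
        obtain ⟨⟨_, n, rfl⟩, hc⟩ :=
          (IsLocalization.eq_iff_exists (Submonoid.powers (algebraMap R S h.leadingCoeff)) _).1 hb
        have h3 : ψ b₁ = ψ b₂ := mul_left_cancel₀ (pow_ne_zero n hga) hc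
        obtain ⟨p₁, rfl⟩ := Ideal.Quotient.mk_surjective b₁
        obtain ⟨p₂, rfl⟩ := Ideal.Quotient.mk_surjective b₂
        rw [hψ, hψ] at h3
        have h4 : p₁ - p₂ ∈ RingHom.ker φ.toRingHom := by
          rw [RingHom.mem_ker, map_sub]
          exact sub_eq_zero.2 h3
        obtain ⟨k, hk⟩ := pseudo_div _ h hhq hh0 hmin _ (p₁ - p₂) h4 rfl
        refine ⟨⟨_, k, rfl⟩, ?_⟩
        change (algebraMap R (R[X] ⧸ Ideal.span {h}) h.leadingCoeff) ^ k * Ideal.Quotient.mk _ p₁ =
          (algebraMap R (R[X] ⧸ Ideal.span {h}) h.leadingCoeff) ^ k * Ideal.Quotient.mk _ p₂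
        rw [← sub_eq_zero, ← mul_sub, ← map_sub, ← map_pow]
        have h5 : algebraMap R (R[X] ⧸ Ideal.span {h}) (h.leadingCoeff ^ k) =
            Ideal.Quotient.mk _ (C (h.leadingCoeff ^ k)) := rfl
        rw [h5, ← map_mul, Ideal.Quotient.eq_zero_iff_mem]
        exact hk
    exact Algebra.FinitePresentation.of_isLocalizationAway
      (algebraMap R (R[X] ⧸ Ideal.span {h}) h.leadingCoeff)

end onegen

section comb

theorem fp_transfer {R S T T' : Type u} [CommRing R] [CommRing S] [CommRing T] [CommRing T']
    [Algebra R S] [Algebra S T] [Algebra R T] [IsScalarTower R S T]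
    [Algebra S T'] [Algebra R T'] [IsScalarTower R S T'] (g : S)
    [IsLocalization.Away g T] [IsLocalization.Away g T'] (h : Algebra.FinitePresentation R T) :
    Algebra.FinitePresentation R T' :=
  Algebra.FinitePresentation.equiv
    ((IsLocalization.algEquiv (Submonoid.powers g) T T').restrictScalars R)

theorem combine {R A B : Type u} [CommRing R] [CommRing A] [CommRing B] [Algebra R A] [Algebra A B]
    [Algebra R B] [IsScalarTower R A B] (a : A) (b : B)
    (h1 : Algebra.FinitePresentation R (Localization.Away a))
    (h2 : Algebra.FinitePresentation A (Localization.Away b)) :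
    Algebra.FinitePresentation R (Localization.Away (algebraMap A B a * b)) := by
  have hloc : IsLocalization.Away (algebraMap A B a * b)
      (Localization.Away (algebraMap B (Localization.Away b) (algebraMap A B a))) := inferInstance
  have hFP1 : Algebra.FinitePresentation A
      (Localization.Away (algebraMap B (Localization.Away b) (algebraMap A B a))) := inferInstance
  have hu : IsUnit (algebraMap A
      (Localization.Away (algebraMap B (Localization.Away b) (algebraMap A B a))) a) := by
    rw [IsScalarTower.algebraMap_apply A B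
      (Localization.Away (algebraMap B (Localization.Away b) (algebraMap A B a))),
      IsScalarTower.algebraMap_apply B (Localization.Away b)
      (Localization.Away (algebraMap B (Localization.Away b) (algebraMap A B a)))]
    exact IsLocalization.Away.algebraMap_isUnit _
  let _ : Algebra (Localization.Away a)
      (Localization.Away (algebraMap B (Localization.Away b) (algebraMap A B a))) :=
    (IsLocalization.Away.lift a hu).toAlgebra
  have ht1 : IsScalarTower A (Localization.Away a)
      (Localization.Away (algebraMap B (Localization.Away b) (algebraMap A B a))) :=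
    IsScalarTower.of_algebraMap_eq (fun x => (IsLocalization.Away.lift_eq a hu x).symm)
  have hFP2 : Algebra.FinitePresentation (Localization.Away a)
      (Localization.Away (algebraMap B (Localization.Away b) (algebraMap A B a))) :=
    Algebra.FinitePresentation.of_restrict_scalars_finitePresentation A _ _
  have ht2 : IsScalarTower R (Localization.Away a)
      (Localization.Away (algebraMap B (Localization.Away b) (algebraMap A B a))) := by
    refine IsScalarTower.of_algebraMap_eq (fun r => ?_)
    rw [IsScalarTower.algebraMap_apply R A (Localization.Away a),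
      ← IsScalarTower.algebraMap_apply A (Localization.Away a),
      ← IsScalarTower.algebraMap_apply R A]
  have hFP3 : Algebra.FinitePresentation R
      (Localization.Away (algebraMap B (Localization.Away b) (algebraMap A B a))) :=
    Algebra.FinitePresentation.trans R (Localization.Away a) _
  exact fp_transfer (algebraMap A B a * b) hFP3

end comb

theorem gen_ind : ∀ (n : ℕ) (R S : Type u) [CommRing R] [IsDomain R] [CommRing S] [IsDomain S]
    [Algebra R S], Function.Injective (algebraMap R S) →
    (∃ s : Fin n → S, Algebra.adjoin R (Set.range s) = ⊤) →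
    ∃ g : S, g ≠ 0 ∧ Algebra.FinitePresentation R (Localization.Away g) := by
  intro n
  induction n with
  | zero =>
    intro R S _ _ _ _ _ hinj hs
    obtain ⟨s, hs⟩ := hs
    have h1 : (⊤ : Subalgebra R S) = ⊥ := by
      rw [← hs]
      have : Set.range s = ∅ := Set.range_eq_empty s
      rw [this, Algebra.adjoin_empty]
    have hsurj : Function.Surjective (algebraMap R S) := Algebra.surjective_algebraMap_iff.2 h1
    have hb : Function.Bijective (Algebra.ofId R S) := ⟨hinj, hsurj⟩
    have : Algebra.FinitePresentation R S :=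
      Algebra.FinitePresentation.equiv (AlgEquiv.ofBijective (Algebra.ofId R S) hb)
    exact ⟨1, one_ne_zero, inferInstance⟩
  | succ n ih =>
    intro R S _ _ _ _ _ hinj hs
    obtain ⟨s, hs⟩ := hs
    let S' : Subalgebra R S := Algebra.adjoin R (Set.range (fun i : Fin n => s i.castSucc))
    have hinj' : Function.Injective (algebraMap R S') := by
      intro a b hab
      apply hinj
      exact congrArg Subtype.val hab
    have hgen' : ∃ s' : Fin n → S', Algebra.adjoin R (Set.range s') = ⊤ := by
      refine ⟨fun i => ⟨s i.castSucc, Algebra.subset_adjoin ⟨i, rfl⟩⟩, ?_⟩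
      have h2 := Algebra.adjoin_adjoin_coe_preimage (R := R)
        (s := Set.range (fun i : Fin n => s i.castSucc))
      convert h2 using 2
      ext x
      obtain ⟨x, hx⟩ := x
      simp [Subtype.ext_iff]
    obtain ⟨g', hg'0, hFP'⟩ := ih R S' hinj' hgen'
    have hgen'' : Algebra.adjoin S' {s (Fin.last n)} = ⊤ := by
      apply Subalgebra.restrictScalars_injective R
      rw [Subalgebra.restrictScalars_top, ← Algebra.adjoin_union_eq_adjoin_adjoin, eq_top_iff, ← hs]
      apply Algebra.adjoin_mono
      rintro _ ⟨i, rfl⟩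
      induction i using Fin.lastCases with
      | last => exact Or.inr rfl
      | cast j => exact Or.inl ⟨j, rfl⟩
    obtain ⟨g'', hg''0, hFP''⟩ := one_gen (R := S') (S := S) Subtype.val_injective
      (s (Fin.last n)) hgen''
    refine ⟨algebraMap S' S g' * g'', mul_ne_zero ?_ hg''0, combine g' g'' hFP' hFP''⟩
    intro h0
    exact hg'0 (Subtype.ext h0)

theorem main {R S : Type u} [CommRing R] [IsDomain R] [CommRing S] [IsDomain S]
    [Algebra R S] [Algebra.FiniteType R S] (hinj : Function.Injective (algebraMap R S)) :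
    ∃ (f : R) (g : S), f ≠ 0 ∧ g ≠ 0 ∧
      ∀ (Rf Sfg : Type u) [CommRing Rf] [CommRing Sfg] [Algebra R Rf] [IsLocalization.Away f Rf]
        [Algebra S Sfg] [IsLocalization.Away (algebraMap R S f * g) Sfg] [Algebra Rf Sfg] [Algebra R Sfg]
        [IsScalarTower R S Sfg] [IsScalarTower R Rf Sfg], Algebra.FinitePresentation Rf Sfg := by
  obtain ⟨t, ht⟩ := (Algebra.FiniteType.out : (⊤ : Subalgebra R S).FG)
  have hgen : ∃ s : Fin t.card → S, Algebra.adjoin R (Set.range s) = ⊤ := by
    refine ⟨fun i => (t.equivFin.symm i : S), ?_⟩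
    have h1 : Set.range (fun i => (t.equivFin.symm i : S)) = (t : Set S) := by
      ext x
      constructor
      · rintro ⟨i, rfl⟩
        exact (t.equivFin.symm i).2
      · intro hx
        exact ⟨t.equivFin ⟨x, hx⟩, by simp⟩
    rw [h1, ht]
  obtain ⟨g, hg0, hFP⟩ := gen_ind _ R S hinj hgen
  refine ⟨1, g, one_ne_zero, hg0, ?_⟩
  intro Rf Sfg _ _ _ _ _ hloc _ _ _ _
  have hloc' : IsLocalization.Away g Sfg := by simpa using hloc
  have hFP1 : Algebra.FinitePresentation R Sfg := fp_transfer g hFP
  have : Algebra.FinitePresentation R Rf := IsLocalization.Away.finitePresentation (1 : R)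
  exact Algebra.FinitePresentation.of_restrict_scalars_finitePresentation R Rf Sfg


end


/-- Let `R → S` be an injective ring map of finite type between domains. Then there are nonzero `f ∈ R`
and `g ∈ S` such that `S_{fg}` is a finitely presented `R_f`-algebra. -/
theorem result {R S : Type u} [CommRing R] [IsDomain R] [CommRing S] [IsDomain S]
    [Algebra R S] [Algebra.FiniteType R S] (hinj : Function.Injective (algebraMap R S)) :
    ∃ (f : R) (g : S), f ≠ 0 ∧ g ≠ 0 ∧
      ∀ (Rf Sfg : Type u) [CommRing Rf] [CommRing Sfg] [Algebra R Rf] [IsLocalization.Away f Rf]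
        [Algebra S Sfg] [IsLocalization.Away (algebraMap R S f * g) Sfg] [Algebra Rf Sfg] [Algebra R Sfg]
        [IsScalarTower R S Sfg] [IsScalarTower R Rf Sfg], Algebra.FinitePresentation Rf Sfg := by
  classical
  exact main hinj

end Groth.Agent.S2140
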