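import Groth.Statements.S2145
import Mathlib

set_option autoImplicit false
universe u
open CAlg

namespace Groth.Agent.S2145

section


section infra
variable (R : Type u) [CommRing R] {B : Type u} [CommRing B] [Algebra R B]

/-- canonical map to the localization away from `x` -/
noncomputable def can (x : B) : B →ₐ[R] Localization.Away x :=
  IsScalarTower.toAlgHom R B (Localization.Away x)

theorem can_apply (x b : B) : can R x b = algebraMap B (Localization.Away x) b := rfl

theorem isUnit_can_self (x : B) : IsUnit (can R x x) :=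
  IsLocalization.map_units (Localization.Away x) (⟨x, Submonoid.mem_powers x⟩ : Submonoid.powers x)

variable {R}

/-- lift of an algebra map to a localization away from `x` -/
noncomputable def L {P : Type u} [CommRing P] [Algebra R P] (h : B →ₐ[R] P) (x : B)
    (hx : IsUnit (h x)) : Localization.Away x →ₐ[R] P :=
  IsLocalization.liftAlgHom (M := Submonoid.powers x) (f := h) (by
    rintro ⟨y, k, rfl⟩
    rw [map_pow]
    exact hx.pow k)

theorem L_can {P : Type u} [CommRing P] [Algebra R P] (h : B →ₐ[R] P) (x : B)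
    (hx : IsUnit (h x)) (b : B) : L h x hx (can R x b) = h b := by
  unfold L
  rw [IsLocalization.liftAlgHom_apply, can_apply, IsLocalization.lift_eq]
  rfl

theorem L_comp_can {P : Type u} [CommRing P] [Algebra R P] (h : B →ₐ[R] P) (x : B)
    (hx : IsUnit (h x)) : (L h x hx).comp (can R x) = h :=
  AlgHom.ext (L_can h x hx)

/-- algebra maps out of a localization are determined on `B` -/
theorem ext_loc {P : Type u} [CommRing P] [Algebra R P] (x : B)
    (α β : Localization.Away x →ₐ[R] P) (h : α.comp (can R x) = β.comp (can R x)) : α = β := by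
  apply AlgHom.coe_ringHom_injective
  apply IsLocalization.ringHom_ext (Submonoid.powers x)
  ext b
  exact congrArg (fun k : B →ₐ[R] P => k b) h

variable (R) in
theorem exists_rep (x : B) (z : Localization.Away x) :
    ∃ (c : B) (k : ℕ), z * can R x x ^ k = can R x c := by
  obtain ⟨⟨c, ⟨_, k, rfl⟩⟩, rfl⟩ := IsLocalization.mk'_surjective (Submonoid.powers x) z
  refine ⟨c, k, ?_⟩
  rw [can_apply, can_apply, ← map_pow]
  exact IsLocalization.mk'_spec _ _ _

end infra

section prime
variable (R : Type u) [CommRing R] {B : Type u} [CommRing B] [Algebra R B] (q : Ideal B) [q.IsPrime]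

/-- canonical map to the localization at a prime -/
noncomputable def canq : B →ₐ[R] Localization.AtPrime q :=
  IsScalarTower.toAlgHom R B (Localization.AtPrime q)

theorem canq_apply (b : B) : canq R q b = algebraMap B (Localization.AtPrime q) b := rfl

theorem isUnit_canq {x : B} (hx : x ∉ q) : IsUnit (canq R q x) :=
  IsLocalization.map_units (Localization.AtPrime q) (⟨x, hx⟩ : q.primeCompl)

theorem isUnit_canq_iff {x : B} : IsUnit (canq R q x) ↔ x ∉ q := by
  rw [canq_apply, IsLocalization.AtPrime.isUnit_to_map_iff (Localization.AtPrime q) q]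
  rfl

/-- the map `B_x → B_q` for `x ∉ q` -/
noncomputable def κ (x : B) (hx : x ∉ q) : Localization.Away x →ₐ[R] Localization.AtPrime q :=
  L (canq R q) x (isUnit_canq R q hx)

theorem κ_can (x : B) (hx : x ∉ q) (b : B) : κ R q x hx (can R x b) = canq R q b :=
  L_can _ _ _ _

theorem unit_rep (t : B) (ht : t ∉ q) (z : Localization.Away t) (hz : IsUnit (κ R q t ht z)) :
    ∃ (b : B) (k : ℕ), b ∉ q ∧ z * can R t t ^ k = can R t b := by
  obtain ⟨c, k, hc⟩ := exists_rep R t z
  refine ⟨c, k, ?_, hc⟩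
  rw [← isUnit_canq_iff R q, ← κ_can R q t ht, ← hc, map_mul, map_pow, κ_can]
  exact hz.mul ((isUnit_canq R q ht).pow k)

theorem ker_rep (t : B) (ht : t ∉ q) (z : Localization.Away t) (hz : κ R q t ht z = 0) :
    ∃ u : B, u ∉ q ∧ can R t u * z = 0 := by
  obtain ⟨c, k, hc⟩ := exists_rep R t z
  have h1 : canq R q c = 0 := by
    rw [← κ_can R q t ht, ← hc, map_mul, hz, zero_mul]
  rw [canq_apply, IsLocalization.map_eq_zero_iff q.primeCompl] at h1
  obtain ⟨⟨u, hu⟩, huc⟩ := h1
  refine ⟨u, hu, ?_⟩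
  have h2 : (can R t u * z) * can R t t ^ k = 0 := by
    rw [mul_assoc, hc, ← map_mul]
    show can R t (u * c) = 0
    rw [show u * c = 0 from huc, map_zero]
  exact ((isUnit_can_self R t).pow k).mul_left_eq_zero.1 h2

theorem isUnit_can_of_dvd {x y : B} (h : x ∣ y) : IsUnit (can R y x) := by
  obtain ⟨w, rfl⟩ := h
  have := isUnit_can_self R (x * w)
  rw [map_mul] at this
  exact isUnit_of_mul_isUnit_left this

/-- the map `B_t → B_{t u}` -/
noncomputable def ι (t u : B) : Localization.Away t →ₐ[R] Localization.Away (t * u) :=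
  L (can R (t * u)) t (isUnit_can_of_dvd R (Dvd.intro u rfl))

theorem ι_can (t u b : B) : ι R t u (can R t b) = can R (t * u) b := L_can _ _ _ _

theorem κ_ι (t u : B) (ht : t ∉ q) (hu : u ∉ q) (z : Localization.Away t) :
    κ R q (t * u) (fun h => (Ideal.IsPrime.mem_or_mem inferInstance h).elim ht hu) (ι R t u z) =
      κ R q t ht z := by
  have : (κ R q (t * u) (fun h => (Ideal.IsPrime.mem_or_mem inferInstance h).elim ht hu)).comp
      (ι R t u) = κ R q t ht := by
    apply ext_loc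
    ext b
    simp only [AlgHom.comp_apply, ι_can, κ_can]
  exact congrArg (fun k => k z) this

theorem ker_finset {σ : Type*} (s : Finset σ) (t : B) (ht : t ∉ q) (z : σ → Localization.Away t)
    (hz : ∀ i ∈ s, κ R q t ht (z i) = 0) :
    ∃ u : B, u ∉ q ∧ ∀ i ∈ s, ι R t u (z i) = 0 := by
  classical
  have hex : ∀ i ∈ s, ∃ u : B, u ∉ q ∧ can R t u * z i = 0 := fun i hi => ker_rep R q t ht _ (hz i hi)
  choose! uf huf using hex
  refine ⟨∏ i ∈ s, uf i, ?_, ?_⟩
  · intro hmem
    obtain ⟨i, hi, hiq⟩ := (Ideal.IsPrime.prod_mem_iff (hp := inferInstance)).1 hmem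
    exact (huf i hi).1 hiq
  · intro i hi
    have h1 : can R t (∏ j ∈ s, uf j) * z i = 0 := by
      rw [← Finset.mul_prod_erase s uf hi, map_mul, mul_comm (can R t (uf i)), mul_assoc,
        (huf i hi).2, mul_zero]
    have h2 := congrArg (ι R t (∏ j ∈ s, uf j)) h1
    rw [map_mul, map_zero, ι_can] at h2
    have h3 : IsUnit (can R (t * ∏ j ∈ s, uf j) (∏ j ∈ s, uf j)) :=
      isUnit_can_of_dvd R (Dvd.intro_left t rfl)
    exact h3.mul_right_eq_zero.1 h2

theorem eq_after_loc {A : Type u} [CommRing A] [Algebra R A] [Algebra.FiniteType R A]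
    (t : B) (ht : t ∉ q) (α β : A →ₐ[R] Localization.Away t)
    (h : (κ R q t ht).comp α = (κ R q t ht).comp β) :
    ∃ u : B, u ∉ q ∧ (ι R t u).comp α = (ι R t u).comp β := by
  obtain ⟨s, hs⟩ := (Algebra.FiniteType.out : (⊤ : Subalgebra R A).FG)
  obtain ⟨u, hu, hu'⟩ := ker_finset R q s t ht (fun a => α a - β a) (by
    intro a _
    rw [map_sub, sub_eq_zero]
    exact congrArg (fun k => k a) h)
  refine ⟨u, hu, ?_⟩
  apply AlgHom.ext_of_adjoin_eq_top hs
  intro a ha
  have := hu' a ha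
  rw [map_sub, sub_eq_zero] at this
  exact this

theorem spread {A : Type u} [CommRing A] [Algebra R A] [Algebra.FinitePresentation R A]
    (ψ : A →ₐ[R] Localization.AtPrime q) :
    ∃ (t : B) (ht : t ∉ q) (φ₀ : A →ₐ[R] Localization.Away t), (κ R q t ht).comp φ₀ = ψ := by
  classical
  obtain ⟨n, f, hf, hker⟩ := (Algebra.FinitePresentation.out : ∃ (n : ℕ)
    (f : MvPolynomial (Fin n) R →ₐ[R] A), Function.Surjective f ∧ (RingHom.ker f.toRingHom).FG)
  -- common denominator
  obtain ⟨⟨t, ht0⟩, hb⟩ := IsLocalization.exist_integer_multiples_of_finite q.primeCompl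
    (fun i : Fin n => ψ (f (MvPolynomial.X i)))
  have ht : t ∉ q := ht0
  choose b hb using hb
  have hb' : ∀ i, canq R q (b i) = canq R q t * ψ (f (MvPolynomial.X i)) := by
    intro i
    rw [canq_apply, hb i, Algebra.smul_def]
    rfl
  -- first approximation
  let y : Fin n → Localization.Away t := fun i =>
    IsLocalization.mk' (Localization.Away t) (b i) (⟨t, Submonoid.mem_powers t⟩ : Submonoid.powers t)
  have hy : ∀ i, y i * can R t t = can R t (b i) := fun i => IsLocalization.mk'_spec _ _ _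
  let π₁ : MvPolynomial (Fin n) R →ₐ[R] Localization.Away t := MvPolynomial.aeval y
  have hπ₁ : (κ R q t ht).comp π₁ = ψ.comp f := by
    apply MvPolynomial.algHom_ext
    intro i
    simp only [AlgHom.comp_apply]
    have h1 : π₁ (MvPolynomial.X i) = y i := MvPolynomial.aeval_X _ _
    rw [h1]
    have h2 := congrArg (κ R q t ht) (hy i)
    rw [map_mul, κ_can, κ_can, hb' i, mul_comm] at h2
    exact (isUnit_canq R q ht).mul_left_cancel h2
  -- kill the relations
  obtain ⟨s, hs⟩ := hker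
  obtain ⟨u, hu, hu'⟩ := ker_finset R q s t ht (fun p => π₁ p) (by
    intro p hp
    have h1 : κ R q t ht (π₁ p) = ψ (f p) := congrArg (fun k => k p) hπ₁
    rw [h1]
    have : p ∈ RingHom.ker f.toRingHom := hs ▸ Ideal.subset_span hp
    have h2 : f p = 0 := this
    rw [h2, map_zero])
  let π₂ : MvPolynomial (Fin n) R →ₐ[R] Localization.Away (t * u) := (ι R t u).comp π₁
  have hπ₂ : ∀ p ∈ RingHom.ker f.toRingHom, π₂ p = 0 := by
    intro p hp
    have h1 : RingHom.ker f.toRingHom ≤ RingHom.ker π₂.toRingHom := by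
      rw [← hs, Ideal.span_le]
      intro p hp
      exact hu' p hp
    exact h1 hp
  have htu : t * u ∉ q := fun h => (Ideal.IsPrime.mem_or_mem inferInstance h).elim ht hu
  let e : (MvPolynomial (Fin n) R ⧸ RingHom.ker f.toRingHom) ≃ₐ[R] A :=
    Ideal.quotientKerAlgEquivOfSurjective hf
  let φ₀ : A →ₐ[R] Localization.Away (t * u) :=
    (Ideal.Quotient.liftₐ (RingHom.ker f.toRingHom) π₂ hπ₂).comp e.symm.toAlgHom
  refine ⟨t * u, htu, φ₀, ?_⟩
  ext a
  obtain ⟨p, rfl⟩ := hf a
  have h1 : e.symm (f p) = Ideal.Quotient.mk _ p := by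
    rw [AlgEquiv.symm_apply_eq]
    rfl
  have h2 : φ₀ (f p) = π₂ p := by
    show (Ideal.Quotient.liftₐ (RingHom.ker f.toRingHom) π₂ hπ₂) (e.symm (f p)) = π₂ p
    rw [h1]
    rfl
  rw [AlgHom.comp_apply, h2]
  show κ R q (t * u) htu (ι R t u (π₁ p)) = ψ (f p)
  rw [κ_ι R q t u ht hu]
  exact congrArg (fun k => k p) hπ₁

end prime

section main
variable {R A B : Type u} [CommRing R] [CommRing A] [CommRing B] [Algebra R A] [Algebra R B]

theorem mul_not_mem (q : Ideal A) [q.IsPrime] {x y : A} (hx : x ∉ q) (hy : y ∉ q) : x * y ∉ q :=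
  fun h => (Ideal.IsPrime.mem_or_mem inferInstance h).elim hx hy

/-- compatibility of `κ` with `ι` as maps -/
theorem κ_comp_ι (q : Ideal A) [q.IsPrime] (t u : A) (ht : t ∉ q) (hu : u ∉ q) :
    (κ R q (t * u) (mul_not_mem q ht hu)).comp (ι R t u) = κ R q t ht :=
  AlgHom.ext (κ_ι R q t u ht hu)

theorem ι_comp_can (t u : A) : (ι R t u).comp (can R t) = can R (t * u) :=
  AlgHom.ext (ι_can R t u)

theorem κ_comp_can (q : Ideal A) [q.IsPrime] (t : A) (ht : t ∉ q) :
    (κ R q t ht).comp (can R t) = canq R q :=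
  AlgHom.ext (κ_can R q t ht)

theorem stage3 [Algebra.FiniteType R B] (q : Ideal A) [q.IsPrime] (q' : Ideal B) [q'.IsPrime]
    (e : Localization.AtPrime q ≃ₐ[R] Localization.AtPrime q')
    (g : A) (hg : g ∉ q) (g' : B) (hg' : g' ∉ q')
    (φ : Localization.Away g →ₐ[R] Localization.Away g')
    (ψ : Localization.Away g' →ₐ[R] Localization.Away g)
    (hφ : ∀ z, κ R q' g' hg' (φ z) = e (κ R q g hg z))
    (hψ : ∀ z, κ R q g hg (ψ z) = e.symm (κ R q' g' hg' z))
    (hψφ : ∀ z, ψ (φ z) = z) :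
    ∃ (w : A) (v : B), w ∉ q ∧ v ∉ q' ∧
      Nonempty (Localization.Away (g * w) ≃ₐ[R] Localization.Away (g' * v)) := by
  -- step 8
  have hθ : (κ R q' g' hg').comp ((φ.comp ψ).comp (can R g')) =
      (κ R q' g' hg').comp (can R g') := by
    ext b
    simp only [AlgHom.comp_apply]
    rw [hφ, hψ, e.apply_symm_apply]
  obtain ⟨v, hv, hv'⟩ := eq_after_loc R q' g' hg' _ _ hθ
  have hθv : ∀ b : B, ι R g' v (φ (ψ (can R g' b))) = can R (g' * v) b := by
    intro b
    have := congrArg (fun k => k b) hv'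
    simp only [AlgHom.comp_apply, ι_can] at this
    exact this
  -- step 9
  have hω : IsUnit (κ R q g hg (ψ (can R g' v))) := by
    rw [hψ, κ_can]
    exact (isUnit_canq R q' hv).map e.symm
  obtain ⟨w, k, hw, hwk⟩ := unit_rep R q g hg _ hω
  refine ⟨w, v, hw, hv, ?_⟩
  -- step 10
  have hgu : IsUnit (ι R g' v (φ (can R g g))) := ((isUnit_can_self R g).map φ).map (ι R g' v)
  have hu1 : IsUnit (((ι R g' v).comp (φ.comp (can R g))) (g * w)) := by
    simp only [AlgHom.comp_apply]
    rw [map_mul, map_mul, map_mul]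
    refine hgu.mul ?_
    have h1 : ι R g' v (φ (can R g w)) = can R (g' * v) v * ι R g' v (φ (can R g g)) ^ k := by
      rw [← hwk, map_mul, map_mul, map_pow, map_pow, hθv]
    rw [h1]
    exact (isUnit_can_of_dvd R (Dvd.intro_left g' rfl)).mul (hgu.pow k)
  let φ₂ : Localization.Away (g * w) →ₐ[R] Localization.Away (g' * v) :=
    L ((ι R g' v).comp (φ.comp (can R g))) (g * w) hu1
  -- step 11
  have hu2 : IsUnit (((ι R g w).comp (ψ.comp (can R g'))) (g' * v)) := by
    simp only [AlgHom.comp_apply]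
    rw [map_mul, map_mul, map_mul]
    refine IsUnit.mul (((isUnit_can_self R g').map ψ).map (ι R g w)) ?_
    have h1 : ι R g w (ψ (can R g' v)) * ι R g w (can R g g) ^ k = can R (g * w) w := by
      rw [← map_pow, ← map_mul, hwk, ι_can]
    have h2 : IsUnit (can R (g * w) w) := isUnit_can_of_dvd R (Dvd.intro_left g rfl)
    rw [← h1] at h2
    exact isUnit_of_mul_isUnit_left h2
  let ψ₄ : Localization.Away (g' * v) →ₐ[R] Localization.Away (g * w) :=
    L ((ι R g w).comp (ψ.comp (can R g'))) (g' * v) hu2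
  -- compatibilities
  have hψ₄ι : ∀ z, ψ₄ (ι R g' v z) = ι R g w (ψ z) := by
    intro z
    have : ψ₄.comp (ι R g' v) = (ι R g w).comp ψ := by
      apply ext_loc
      ext b
      simp only [AlgHom.comp_apply, ι_can]
      exact L_can _ _ _ _
    exact congrArg (fun k => k z) this
  have hφ₂ι : ∀ z, φ₂ (ι R g w z) = ι R g' v (φ z) := by
    intro z
    have : φ₂.comp (ι R g w) = (ι R g' v).comp φ := by
      apply ext_loc
      ext a
      simp only [AlgHom.comp_apply, ι_can]
      exact L_can _ _ _ _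
    exact congrArg (fun k => k z) this
  -- steps 12, 13
  have h12 : ψ₄.comp φ₂ = AlgHom.id R _ := by
    apply ext_loc
    ext a
    simp only [AlgHom.comp_apply, AlgHom.id_apply]
    have h1 : φ₂ (can R (g * w) a) = ι R g' v (φ (can R g a)) := L_can _ _ _ _
    rw [h1, hψ₄ι, hψφ, ι_can]
  have h13 : φ₂.comp ψ₄ = AlgHom.id R _ := by
    apply ext_loc
    ext b
    simp only [AlgHom.comp_apply, AlgHom.id_apply]
    have h1 : ψ₄ (can R (g' * v) b) = ι R g w (ψ (can R g' b)) := L_can _ _ _ _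
    rw [h1, hφ₂ι, hθv]
  exact ⟨AlgEquiv.ofAlgHom φ₂ ψ₄ h13 h12⟩

theorem stage1 [Algebra.FinitePresentation R A] [Algebra.FinitePresentation R B]
    (q : Ideal A) [q.IsPrime] (q' : Ideal B) [q'.IsPrime]
    (e : Localization.AtPrime q ≃ₐ[R] Localization.AtPrime q') :
    ∃ (t : B) (ht : t ∉ q') (g : A) (hg : g ∉ q) (φ₀ : A →ₐ[R] Localization.Away t)
      (ψ₂ : Localization.Away t →ₐ[R] Localization.Away g),
      (∀ a, κ R q' t ht (φ₀ a) = e (canq R q a)) ∧
      (∀ z, κ R q g hg (ψ₂ z) = e.symm (κ R q' t ht z)) ∧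
      (∀ a, ψ₂ (φ₀ a) = can R g a) := by
  have hftA : Algebra.FiniteType R A := inferInstance
  -- steps 1, 2
  obtain ⟨t, ht, φ₀, hφ₀⟩ := spread R q' (e.toAlgHom.comp (canq R q))
  obtain ⟨s, hs, ψ₀, hψ₀⟩ := spread R q (e.symm.toAlgHom.comp (canq R q'))
  have hφ₀' : ∀ a, κ R q' t ht (φ₀ a) = e (canq R q a) := fun a => congrArg (fun k => k a) hφ₀
  have hψ₀' : ∀ b, κ R q s hs (ψ₀ b) = e.symm (canq R q' b) := fun b => congrArg (fun k => k b) hψ₀
  -- step 3
  have hz : IsUnit (κ R q s hs (ψ₀ t)) := by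
    rw [hψ₀']
    exact (isUnit_canq R q' ht).map e.symm
  obtain ⟨a, k, ha, hak⟩ := unit_rep R q s hs _ hz
  have hsa : s * a ∉ q := mul_not_mem q hs ha
  have hu : IsUnit (((ι R s a).comp ψ₀) t) := by
    simp only [AlgHom.comp_apply]
    have h1 : ι R s a (ψ₀ t) * ι R s a (can R s s) ^ k = can R (s * a) a := by
      rw [← map_pow, ← map_mul, hak, ι_can]
    have h2 : IsUnit (can R (s * a) a) := isUnit_can_of_dvd R (Dvd.intro_left s rfl)
    rw [← h1] at h2
    exact isUnit_of_mul_isUnit_left h2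
  let ψ₁ : Localization.Away t →ₐ[R] Localization.Away (s * a) := L ((ι R s a).comp ψ₀) t hu
  have hψ₁ : ∀ z, κ R q (s * a) hsa (ψ₁ z) = e.symm (κ R q' t ht z) := by
    intro z
    have : (κ R q (s * a) hsa).comp ψ₁ = e.symm.toAlgHom.comp (κ R q' t ht) := by
      apply ext_loc
      ext b
      simp only [AlgHom.comp_apply]
      have h1 : ψ₁ (can R t b) = ι R s a (ψ₀ b) := L_can _ _ _ _
      rw [h1, κ_ι R q s a hs ha, hψ₀', κ_can]
      rfl
    exact congrArg (fun k => k z) this
  -- step 4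
  have h4 : (κ R q (s * a) hsa).comp (ψ₁.comp φ₀) = (κ R q (s * a) hsa).comp (can R (s * a)) := by
    ext x
    simp only [AlgHom.comp_apply]
    rw [hψ₁, hφ₀', e.symm_apply_apply, κ_can]
  obtain ⟨u, hu', hu''⟩ := eq_after_loc R q (s * a) hsa _ _ h4
  have hg : s * a * u ∉ q := mul_not_mem q hsa hu'
  refine ⟨t, ht, s * a * u, hg, φ₀, (ι R (s * a) u).comp ψ₁, hφ₀', ?_, ?_⟩
  · intro z
    simp only [AlgHom.comp_apply]
    rw [κ_ι R q (s * a) u hsa hu', hψ₁]
  · intro x
    have := congrArg (fun k => k x) hu''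
    simp only [AlgHom.comp_apply, ι_can] at this
    exact this

theorem stage2 (q : Ideal A) [q.IsPrime] (q' : Ideal B) [q'.IsPrime]
    (e : Localization.AtPrime q ≃ₐ[R] Localization.AtPrime q')
    (t : B) (ht : t ∉ q') (g : A) (hg : g ∉ q) (φ₀ : A →ₐ[R] Localization.Away t)
    (ψ₂ : Localization.Away t →ₐ[R] Localization.Away g)
    (h1 : ∀ a, κ R q' t ht (φ₀ a) = e (canq R q a))
    (h2 : ∀ z, κ R q g hg (ψ₂ z) = e.symm (κ R q' t ht z))
    (h3 : ∀ a, ψ₂ (φ₀ a) = can R g a) :
    ∃ (g' : B) (hg' : g' ∉ q') (φ : Localization.Away g →ₐ[R] Localization.Away g')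
      (ψ : Localization.Away g' →ₐ[R] Localization.Away g),
      (∀ z, κ R q' g' hg' (φ z) = e (κ R q g hg z)) ∧
      (∀ z, κ R q g hg (ψ z) = e.symm (κ R q' g' hg' z)) ∧
      (∀ z, ψ (φ z) = z) := by
  -- step 5
  have hγ : IsUnit (κ R q' t ht (φ₀ g)) := by
    rw [h1]
    exact (isUnit_canq R q hg).map e
  obtain ⟨b, k, hb, hbk⟩ := unit_rep R q' t ht _ hγ
  have htb : t * b ∉ q' := mul_not_mem q' ht hb
  have hu1 : IsUnit (((ι R t b).comp φ₀) g) := by
    simp only [AlgHom.comp_apply]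
    have h4 : ι R t b (φ₀ g) * ι R t b (can R t t) ^ k = can R (t * b) b := by
      rw [← map_pow, ← map_mul, hbk, ι_can]
    have h5 : IsUnit (can R (t * b) b) := isUnit_can_of_dvd R (Dvd.intro_left t rfl)
    rw [← h4] at h5
    exact isUnit_of_mul_isUnit_left h5
  let φ₁ : Localization.Away g →ₐ[R] Localization.Away (t * b) := L ((ι R t b).comp φ₀) g hu1
  -- step 6
  have hu2 : IsUnit ((ψ₂.comp (can R t)) (t * b)) := by
    simp only [AlgHom.comp_apply]
    rw [map_mul, map_mul]
    have hut : IsUnit (ψ₂ (can R t t)) := (isUnit_can_self R t).map ψ₂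
    refine hut.mul ?_
    rw [← hbk, map_mul, map_pow, h3]
    exact (isUnit_can_self R g).mul (hut.pow k)
  let ψ₃ : Localization.Away (t * b) →ₐ[R] Localization.Away g := L (ψ₂.comp (can R t)) (t * b) hu2
  have hψ₃ι : ∀ z, ψ₃ (ι R t b z) = ψ₂ z := by
    intro z
    have : ψ₃.comp (ι R t b) = ψ₂ := by
      apply ext_loc
      ext x
      simp only [AlgHom.comp_apply, ι_can]
      exact L_can _ _ _ _
    exact congrArg (fun k => k z) this
  refine ⟨t * b, htb, φ₁, ψ₃, ?_, ?_, ?_⟩
  · intro z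
    have : (κ R q' (t * b) htb).comp φ₁ = e.toAlgHom.comp (κ R q g hg) := by
      apply ext_loc
      ext a
      simp only [AlgHom.comp_apply]
      have h4 : φ₁ (can R g a) = ι R t b (φ₀ a) := L_can _ _ _ _
      rw [h4, κ_ι R q' t b ht hb, h1, κ_can]
      rfl
    exact congrArg (fun k => k z) this
  · intro z
    have : (κ R q g hg).comp ψ₃ = e.symm.toAlgHom.comp (κ R q' (t * b) htb) := by
      apply ext_loc
      ext x
      simp only [AlgHom.comp_apply]
      have h4 : ψ₃ (can R (t * b) x) = ψ₂ (can R t x) := L_can _ _ _ _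
      rw [h4, h2, κ_can, κ_can]
      rfl
    exact congrArg (fun k => k z) this
  · intro z
    have : ψ₃.comp φ₁ = AlgHom.id R _ := by
      apply ext_loc
      ext a
      simp only [AlgHom.comp_apply, AlgHom.id_apply]
      have h4 : φ₁ (can R g a) = ι R t b (φ₀ a) := L_can _ _ _ _
      rw [h4, hψ₃ι, h3]
    exact congrArg (fun k => k z) this

end main

theorem main {R S S' : Type u} [CommRing R] [CommRing S] [CommRing S'] [Algebra R S]
    [Algebra R S'] [Algebra.FinitePresentation R S] [Algebra.FinitePresentation R S'] (q : Ideal S) [q.IsPrime]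
    (q' : Ideal S') [q'.IsPrime] (e : Localization.AtPrime q ≃ₐ[R] Localization.AtPrime q') :
    ∃ (g : S) (g' : S'), g ∉ q ∧ g' ∉ q' ∧ Nonempty (Localization.Away g ≃ₐ[R] Localization.Away g') := by
  obtain ⟨t, ht, g, hg, φ₀, ψ₂, h1, h2, h3⟩ := stage1 q q' e
  obtain ⟨g', hg', φ, ψ, h4, h5, h6⟩ := stage2 q q' e t ht g hg φ₀ ψ₂ h1 h2 h3
  have : Algebra.FiniteType R S' := inferInstance
  obtain ⟨w, v, hw, hv, hne⟩ := stage3 q q' e g hg g' hg' φ ψ h4 h5 h6
  exact ⟨g * w, g' * v, mul_not_mem q hg hw, mul_not_mem q' hg' hv, hne⟩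


end


/-- Let `S`, `S'` be finitely presented `R`-algebras and `𝔮 ⊆ S`, `𝔮' ⊆ S'` primes with `S_𝔮 ≅ S'_{𝔮'}`
as `R`-algebras. Then `S_g ≅ S'_{g'}` as `R`-algebras for some `g ∉ 𝔮`, `g' ∉ 𝔮'`. -/
theorem result {R S S' : Type u} [CommRing R] [CommRing S] [CommRing S'] [Algebra R S]
    [Algebra R S'] [Algebra.FinitePresentation R S] [Algebra.FinitePresentation R S'] (q : Ideal S) [q.IsPrime]
    (q' : Ideal S') [q'.IsPrime] (e : Localization.AtPrime q ≃ₐ[R] Localization.AtPrime q') :
    ∃ (g : S) (g' : S'), g ∉ q ∧ g' ∉ q' ∧ Nonempty (Localization.Away g ≃ₐ[R] Localization.Away g') := by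
  classical
  exact main q q' e

end Groth.Agent.S2145
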