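import Groth.Statements.S2146
import Mathlib
import Groth.Agent.S2145

set_option autoImplicit false
universe u
open CAlg

namespace Groth.Agent.S2146

section

open Groth.Agent.S2145

section idem
variable {Rf Sf : Type u} [CommRing Rf] [CommRing Sf] [Algebra Rf Sf]

/-- splitting off a factor from a retraction whose kernel is generated by `1 - ε`, `ε` killing the kernel -/
theorem split_of_retraction (π : Sf →ₐ[Rf] Rf) (ε : Sf) (hπε : π ε = 1)
    (hker : ∀ x, π x = 0 → ε * x = 0) :
    ∃ (C : Type u) (_ : CommRing C) (_ : Algebra Rf C), Nonempty (Sf ≃ₐ[Rf] (Rf × C)) := by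
  let J : Ideal Sf := Ideal.span {ε}
  let Φ : Sf →ₐ[Rf] (Rf × (Sf ⧸ J)) := AlgHom.prod π (Ideal.Quotient.mkₐ Rf J)
  have h1ε : π (1 - ε) = 0 := by rw [map_sub, map_one, hπε, sub_self]
  have hεε : ε * (1 - ε) = 0 := hker _ h1ε
  refine ⟨Sf ⧸ J, inferInstance, inferInstance, ⟨AlgEquiv.ofBijective Φ ⟨?_, ?_⟩⟩⟩
  · rw [injective_iff_map_eq_zero]
    intro x hx
    have hx1 : π x = 0 := congrArg Prod.fst hx
    have hx2 : Ideal.Quotient.mk J x = 0 := congrArg Prod.snd hx
    rw [Ideal.Quotient.eq_zero_iff_mem, Ideal.mem_span_singleton'] at hx2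
    obtain ⟨z, rfl⟩ := hx2
    have h3 := hker _ hx1
    have h6 : ε * ε = ε := by
      have : ε * (1 - ε) = ε - ε * ε := by ring
      rw [this, sub_eq_zero] at hεε
      exact hεε.symm
    calc z * ε = z * (ε * ε) := by rw [h6]
      _ = ε * (z * ε) := by ring
      _ = 0 := h3
  · rintro ⟨r, c'⟩
    obtain ⟨c, rfl⟩ := Ideal.Quotient.mk_surjective c'
    refine ⟨ε * algebraMap Rf Sf r + (1 - ε) * c, ?_⟩
    apply Prod.ext
    · show π (ε * algebraMap Rf Sf r + (1 - ε) * c) = r
      rw [map_add, map_mul, map_mul, h1ε, hπε, zero_mul, add_zero, one_mul, AlgHom.commutes]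
      rfl
    · show Ideal.Quotient.mk J (ε * algebraMap Rf Sf r + (1 - ε) * c) = Ideal.Quotient.mk J c
      rw [← sub_eq_zero, ← map_sub, Ideal.Quotient.eq_zero_iff_mem, Ideal.mem_span_singleton']
      exact ⟨algebraMap Rf Sf r - c, by ring⟩

end idem

section main
variable {R S : Type u} [CommRing R] [CommRing S] [Algebra R S]

theorem fp_loc [Algebra.FinitePresentation R S] (f : R) (Rf Sf : Type u) [CommRing Rf] [CommRing Sf]
    [Algebra R Rf] [IsLocalization.Away f Rf]
    [Algebra S Sf] [IsLocalization.Away (algebraMap R S f) Sf] [Algebra Rf Sf] [Algebra R Sf]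
    [IsScalarTower R S Sf] [IsScalarTower R Rf Sf] : Algebra.FinitePresentation Rf Sf := by
  have h0 : (algebraMap R S).FinitePresentation :=
    RingHom.finitePresentation_algebraMap.2 inferInstance
  have h1 := RingHom.finitePresentation_localizationPreserves.away (algebraMap R S) f Rf Sf h0
  have h2 : IsLocalization.Away.map Rf Sf (algebraMap R S) f = algebraMap Rf Sf := by
    apply IsLocalization.ringHom_ext (Submonoid.powers f)
    ext x
    simp only [RingHom.comp_apply]
    rw [IsLocalization.Away.map, IsLocalization.map_eq, ← IsScalarTower.algebraMap_apply,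
      ← IsScalarTower.algebraMap_apply]
  rw [h2] at h1
  exact RingHom.finitePresentation_algebraMap.1 h1

theorem model [Algebra.FinitePresentation R S] (f : R) (g : S)
    (εi : Localization.Away g ≃ₐ[R] Localization.Away f)
    (Rf Sf : Type u) [CommRing Rf] [CommRing Sf]
    [Algebra R Rf] [IsLocalization.Away f Rf]
    [Algebra S Sf] [IsLocalization.Away (algebraMap R S f) Sf] [Algebra Rf Sf] [Algebra R Sf]
    [IsScalarTower R S Sf] [IsScalarTower R Rf Sf] :
    ∃ (C : Type u) (_ : CommRing C) (_ : Algebra Rf C), Nonempty (Sf ≃ₐ[Rf] (Rf × C)) := by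
  classical
  let lam : Localization.Away f ≃ₐ[R] Rf := IsLocalization.algEquiv (Submonoid.powers f) _ _
  let σ : S →ₐ[R] Rf := lam.toAlgHom.comp (εi.toAlgHom.comp (can R g))
  have hσf : IsUnit (σ.toRingHom (algebraMap R S f)) := by
    have : σ.toRingHom (algebraMap R S f) = algebraMap R Rf f := σ.commutes f
    rw [this]
    exact IsLocalization.Away.algebraMap_isUnit f
  let π₀ : Sf →+* Rf := IsLocalization.Away.lift (algebraMap R S f) hσf
  have hπ₀ : ∀ s : S, π₀ (algebraMap S Sf s) = σ s := fun s => IsLocalization.Away.lift_eq _ hσf s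
  have hcomm : ∀ r : Rf, π₀ (algebraMap Rf Sf r) = r := by
    have : π₀.comp (algebraMap Rf Sf) = RingHom.id Rf := by
      apply IsLocalization.ringHom_ext (Submonoid.powers f)
      ext x
      simp only [RingHom.comp_apply, RingHom.id_apply]
      rw [← IsScalarTower.algebraMap_apply R Rf Sf, IsScalarTower.algebraMap_apply R S Sf, hπ₀]
      exact σ.commutes x
    exact fun r => congrArg (fun k : Rf →+* Rf => k r) this
  let π : Sf →ₐ[Rf] Rf := { π₀ with commutes' := hcomm }
  have hπ : ∀ x, π x = π₀ x := fun x => rfl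
  have hsurj : Function.Surjective π := fun r => ⟨algebraMap Rf Sf r, hcomm r⟩
  -- kernel elements are killed by powers of g
  let gb : Sf := algebraMap S Sf g
  have hkill : ∀ x : Sf, π x = 0 → ∃ m : ℕ, gb ^ m * x = 0 := by
    intro x hx
    obtain ⟨⟨s', ⟨_, k, rfl⟩⟩, rfl⟩ := IsLocalization.mk'_surjective
      (Submonoid.powers (algebraMap R S f)) x
    have h1 : IsLocalization.mk' Sf s' (⟨(algebraMap R S f) ^ k, k, rfl⟩ :
        Submonoid.powers (algebraMap R S f)) * algebraMap S Sf ((algebraMap R S f) ^ k) =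
        algebraMap S Sf s' := IsLocalization.mk'_spec _ _ _
    have h2 : σ s' = 0 := by
      rw [← hπ₀, ← h1, map_mul, ← hπ, hx, zero_mul]
    have h3 : can R g s' = 0 := by
      have : lam (εi (can R g s')) = 0 := h2
      rw [map_eq_zero_iff _ lam.injective, map_eq_zero_iff _ εi.injective] at this
      exact this
    rw [can_apply, IsLocalization.map_eq_zero_iff (Submonoid.powers g)] at h3
    obtain ⟨⟨_, m, rfl⟩, hm⟩ := h3
    refine ⟨m, ?_⟩
    have hu : IsUnit (algebraMap S Sf ((algebraMap R S f) ^ k)) :=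
      IsLocalization.map_units Sf (⟨(algebraMap R S f) ^ k, k, rfl⟩ :
        Submonoid.powers (algebraMap R S f))
    apply hu.mul_left_eq_zero.1
    rw [mul_assoc, h1]
    show algebraMap S Sf g ^ m * algebraMap S Sf s' = 0
    rw [← map_pow, ← map_mul]
    have : g ^ m * s' = 0 := hm
    rw [this, map_zero]
  -- kernel finitely generated
  have hfp : Algebra.FinitePresentation Rf Sf := fp_loc (R := R) (S := S) f Rf Sf
  have hfg : (RingHom.ker π.toRingHom).FG := Algebra.FinitePresentation.ker_fG_of_surjective π hsurj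
  obtain ⟨t, ht⟩ := hfg
  have hex : ∀ x ∈ t, ∃ m : ℕ, gb ^ m * x = 0 := by
    intro x hx
    apply hkill
    have : x ∈ RingHom.ker π.toRingHom := ht ▸ Ideal.subset_span hx
    exact this
  choose! mf hmf using hex
  let m := t.sup mf
  have hm0 : ∀ x ∈ Ideal.span (t : Set Sf), gb ^ m * x = 0 := by
    intro x hxk
    induction hxk using Submodule.span_induction with
    | mem y hy =>
      have hle : mf y ≤ m := Finset.le_sup (f := mf) hy
      obtain ⟨d, hd⟩ := Nat.exists_eq_add_of_le hle
      rw [hd, pow_add, mul_comm (gb ^ mf y), mul_assoc, hmf y hy, mul_zero]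
    | zero => rw [mul_zero]
    | add y z _ _ hy hz => rw [mul_add, hy, hz, add_zero]
    | smul c y _ hy => rw [smul_eq_mul, mul_left_comm, hy, mul_zero]
  have hm : ∀ x, π x = 0 → gb ^ m * x = 0 := by
    intro x hx
    have hxk : x ∈ RingHom.ker π.toRingHom := hx
    rw [← ht] at hxk
    exact hm0 x hxk
  -- the idempotent
  have hgu : IsUnit (π gb) := by
    rw [hπ, hπ₀]
    exact ((isUnit_can_self R g).map εi).map lam
  obtain ⟨r, hr⟩ := (hgu.pow m).exists_right_inv
  refine split_of_retraction π (gb ^ m * algebraMap Rf Sf r) ?_ ?_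
  · rw [map_mul, map_pow, AlgHom.commutes]
    exact hr
  · intro x hx
    rw [mul_right_comm, hm x hx, zero_mul]

end main

theorem main {R S : Type u} [CommRing R] [CommRing S] [Algebra R S]
    [Algebra.FinitePresentation R S] (q : Ideal S) [q.IsPrime] (p : Ideal R) [p.IsPrime] [q.LiesOver p]
    (h : Function.Bijective (Localization.localRingHom p q (algebraMap R S) (q.over_def p))) :
    ∃ f : R, f ∉ p ∧ ∀ (Rf Sf : Type u) [CommRing Rf] [CommRing Sf] [Algebra R Rf] [IsLocalization.Away f Rf]
      [Algebra S Sf] [IsLocalization.Away (algebraMap R S f) Sf] [Algebra Rf Sf] [Algebra R Sf] [IsScalarTower R S Sf]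
      [IsScalarTower R Rf Sf],
      ∃ (C : Type u) (_ : CommRing C) (_ : Algebra Rf C), Nonempty (Sf ≃ₐ[Rf] (Rf × C)) := by
  let lrh : Localization.AtPrime p →ₐ[R] Localization.AtPrime q :=
    { Localization.localRingHom p q (algebraMap R S) (q.over_def p) with
      commutes' := by
        intro r
        show Localization.localRingHom p q (algebraMap R S) (q.over_def p)
          (algebraMap R (Localization.AtPrime p) r) = algebraMap R (Localization.AtPrime q) r
        rw [Localization.localRingHom_to_map]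
        exact (IsScalarTower.algebraMap_apply R S (Localization.AtPrime q) r).symm }
  let e₀ : Localization.AtPrime p ≃ₐ[R] Localization.AtPrime q := AlgEquiv.ofBijective lrh h
  obtain ⟨g, f, hg, hf, ⟨εi⟩⟩ := Groth.Agent.S2145.result q p e₀.symm
  refine ⟨f, hf, ?_⟩
  intro Rf Sf _ _ _ _ _ _ _ _ _ _
  exact model f g εi Rf Sf


end


/-- Let `S` be a finitely presented `R`-algebra and `𝔮` a prime of `S` over `𝔭` such that the induced
map `R_𝔭 → S_𝔮` is bijective. Then for some `f ∉ 𝔭` there is an `R_f`-algebra `C` with `S_f ≅ R_f ×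
C` as `R_f`-algebras. -/
theorem result {R S : Type u} [CommRing R] [CommRing S] [Algebra R S]
    [Algebra.FinitePresentation R S] (q : Ideal S) [q.IsPrime] (p : Ideal R) [p.IsPrime] [q.LiesOver p]
    (h : Function.Bijective (Localization.localRingHom p q (algebraMap R S) (q.over_def p))) :
    ∃ f : R, f ∉ p ∧ ∀ (Rf Sf : Type u) [CommRing Rf] [CommRing Sf] [Algebra R Rf] [IsLocalization.Away f Rf]
      [Algebra S Sf] [IsLocalization.Away (algebraMap R S f) Sf] [Algebra Rf Sf] [Algebra R Sf] [IsScalarTower R S Sf]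
      [IsScalarTower R Rf Sf],
      ∃ (C : Type u) (_ : CommRing C) (_ : Algebra Rf C), Nonempty (Sf ≃ₐ[Rf] (Rf × C)) := by
  classical
  exact main q p h

end Groth.Agent.S2146
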