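import Groth.Statements.S2149
import Mathlib

set_option autoImplicit false
universe u
open CAlg

namespace Groth.Agent.S2149

open TensorProduct

theorem key {R S M M' : Type u} [CommRing R] [CommRing S] [Algebra R S]
    [AddCommGroup M] [Module S M] [Module R M] [IsScalarTower R S M] [AddCommGroup M'] [Module S M']
    [Module R M'] [IsScalarTower R S M'] (u : M →ₗ[S] M') (m : Ideal S) [m.IsMaximal]
    (Q : Type u) [AddCommGroup Q] [Module R Q] :
    IsLocalizedModule.map m.primeCompl
      (AlgebraTensorModule.rTensor R Q (LocalizedModule.mkLinearMap m.primeCompl M))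
      (AlgebraTensorModule.rTensor R Q (LocalizedModule.mkLinearMap m.primeCompl M'))
      (AlgebraTensorModule.rTensor R Q u) =
    AlgebraTensorModule.rTensor R Q (LocalizedModule.map m.primeCompl u) := by
  apply IsLocalizedModule.linearMap_ext m.primeCompl
    (AlgebraTensorModule.rTensor R Q (LocalizedModule.mkLinearMap m.primeCompl M))
    (AlgebraTensorModule.rTensor R Q (LocalizedModule.mkLinearMap m.primeCompl M'))
  rw [IsLocalizedModule.map_comp]
  ext x q
  simp [LocalizedModule.map_mk]

/-- Let `R → S` be a ring map and `u : M → M'` a map of `S`-modules. Then `u`, viewed as an `R`-linear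
map, is universally injective exactly when, for every maximal ideal `𝔪` of `S`, the localized map
`M_𝔪 → M'_𝔪` is also universally injective as an `R`-linear map. -/
theorem result {R S M M' : Type u} [CommRing R] [CommRing S] [Algebra R S]
    [AddCommGroup M] [Module S M] [Module R M] [IsScalarTower R S M] [AddCommGroup M'] [Module S M'] [Module R M']
    [IsScalarTower R S M'] (u : M →ₗ[S] M') :
    CAlgX.UniversallyInjective R (u.restrictScalars R) ↔
      ∀ (m : Ideal S) [m.IsMaximal],
        CAlgX.UniversallyInjective R ((LocalizedModule.map m.primeCompl u).restrictScalars R) := by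
  classical
  constructor
  · intro h m _ Q _ _
    have h1 : Function.Injective (AlgebraTensorModule.rTensor R Q u) := h Q
    have h2 := IsLocalizedModule.map_injective m.primeCompl
      (AlgebraTensorModule.rTensor R Q (LocalizedModule.mkLinearMap m.primeCompl M))
      (AlgebraTensorModule.rTensor R Q (LocalizedModule.mkLinearMap m.primeCompl M'))
      (AlgebraTensorModule.rTensor R Q u) h1
    rw [key] at h2
    exact h2
  · intro h Q _ _
    have h1 : Function.Injective (AlgebraTensorModule.rTensor R Q u) := by
      refine injective_of_isLocalized_maximal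
        (fun (P : Ideal S) [P.IsMaximal] => LocalizedModule P.primeCompl M ⊗[R] Q)
        (fun (P : Ideal S) [P.IsMaximal] =>
          AlgebraTensorModule.rTensor R Q (LocalizedModule.mkLinearMap P.primeCompl M))
        (fun (P : Ideal S) [P.IsMaximal] => LocalizedModule P.primeCompl M' ⊗[R] Q)
        (fun (P : Ideal S) [P.IsMaximal] =>
          AlgebraTensorModule.rTensor R Q (LocalizedModule.mkLinearMap P.primeCompl M'))
        (AlgebraTensorModule.rTensor R Q u) ?_
      intro P _
      rw [key]
      exact h P Q
    exact h1

end Groth.Agent.S2149
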