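import Groth.Statements.S2154
-- import your own Groth.Agent.* helpers here
import Groth.Agent.Lib.Helper7.LimMor

set_option autoImplicit false
universe u
open CategoryTheory AlgebraicGeometry
open Lim

namespace Groth.Agent.S2154

/-- Let `S` be quasi-compact and quasi-separated and `X = lim X_i` a cofiltered limit of quasi-compact
quasi-separated `S`-schemes locally of finite type over `S`, with finite transition morphisms. If `X
→ S` is integral then `X_i → S` is finite for all `i` beyond some index. -/
theorem result {I : Type u} [SmallCategory I] [IsCofiltered I] (S : Scheme.{u}) [CompactSpace S]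
    [QuasiSeparatedSpace S] (D : I ⥤ Over S) (c : Limits.Cone D) (hc : Limits.IsLimit c)
    [∀ (i j : I) (f : i ⟶ j), IsFinite (D.map f).left] [∀ i, CompactSpace (D.obj i).left]
    [∀ i, QuasiSeparatedSpace (D.obj i).left] [∀ i, LocallyOfFiniteType (D.obj i).hom] [IsIntegralHom c.pt.hom] :
    ∃ i₀ : I, ∀ (i : I) (_ : i ⟶ i₀), IsFinite (D.obj i).hom := by
  have hI0 : IsIntegralHom c.pt.hom := inferInstance
  have hconn := IsCofiltered.isConnected I
  obtain ⟨i₀⟩ := IsCofiltered.nonempty (C := I)
  let D' : I ⥤ Scheme.{u} := D ⋙ Over.forget S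
  let t' : D' ⟶ (Functor.const I).obj S :=
    { app := fun i => (D.obj i).hom
      naturality := fun i j f => by
        simp only [Functor.const_obj_obj, Functor.const_obj_map, Category.comp_id]
        exact Over.w (D.map f) }
  let c' : Limits.Cone D' := (Over.forget S).mapCone c
  have hc' : Limits.IsLimit c' := Limits.isLimitOfPreserves (Over.forget S) hc
  have h1 : ∀ {i j : I} (f : i ⟶ j), IsFinite (D'.map f) := fun {i j} f =>
    inferInstanceAs (IsFinite (D.map f).left)
  have h2 : ∀ {i j : I} (f : i ⟶ j), IsAffineHom (D'.map f) := fun f => inferInstance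
  have h3 : ∀ i, CompactSpace (D'.obj i) := fun i => inferInstanceAs (CompactSpace (D.obj i).left)
  have h4 : ∀ i, QuasiSeparatedSpace (D'.obj i) := fun i =>
    inferInstanceAs (QuasiSeparatedSpace (D.obj i).left)
  have h5 : ∀ i, LocallyOfFiniteType (t'.app i) := fun i =>
    inferInstanceAs (LocallyOfFiniteType (D.obj i).hom)
  have hI : IsIntegralHom (c'.π.app i₀ ≫ t'.app i₀) := by
    have e : c'.π.app i₀ ≫ t'.app i₀ = c.pt.hom := Over.w (c.π.app i₀)
    rw [e]; exact hI0
  obtain ⟨i₁, hi₁⟩ := Groth.Agent.Helper7.LimMor.eventually_isFinite D' c' hc' S t'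
    (fun f => inferInstance) i₀
  exact ⟨i₁, hi₁⟩

end Groth.Agent.S2154
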