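import Groth.Statements.S2157
import Mathlib
import Groth.Agent.Lib.Lead.IdM3
import Groth.Agent.Lib.Lead.KaeAlg

set_option autoImplicit false
universe u
open CategoryTheory AlgebraicGeometry
open Mor

namespace Groth.Agent.S2157

section
open CategoryTheory AlgebraicGeometry

open Groth.Agent.Lead.IdM Groth.Agent.Lead.KaeAlg TensorProduct CategoryTheory.Limits

attribute [local instance] mulAlgebra

theorem diag_eq (R A : Type u) [CommRing R] [CommRing A] [Algebra R A] :
    Spec.map (CommRingCat.ofHom (algebraMap (A ⊗[R] A) A)) ≫ (pullbackSpecIso R A A).inv =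
      pullback.diagonal (Spec.map (CommRingCat.ofHom (algebraMap R A))) := by
  apply pullback.hom_ext
  · rw [Category.assoc, pullbackSpecIso_inv_fst, pullback.diagonal_fst, ← Spec.map_comp,
      ← Spec.map_id]
    congr 1
    ext a
    change Algebra.TensorProduct.lmul' R (a ⊗ₜ[R] (1 : A)) = a
    simp
  · rw [Category.assoc, pullbackSpecIso_inv_snd, pullback.diagonal_snd, ← Spec.map_comp,
      ← Spec.map_id]
    congr 1
    ext a
    change Algebra.TensorProduct.lmul' R ((1 : A) ⊗ₜ[R] a) = a
    simp

theorem main (R A : Type u) [CommRing R] [CommRing A] [Algebra R A] :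
    Nonempty (Omega.sheaf (Spec.map (CommRingCat.ofHom (algebraMap R A))) ≅
      tilde (R := CommRingCat.of A) (ModuleCat.of A (Ω[A⁄R]))) := by
  obtain ⟨e⟩ := conormal_spec (B := A ⊗[R] A) (A := A)
  refine ⟨conormalIsoOfIso (pullback.diagonal (Spec.map (CommRingCat.ofHom (algebraMap R A))))
    (Spec.map (CommRingCat.ofHom (algebraMap (A ⊗[R] A) A))) (pullbackSpecIso R A A).inv
    (diag_eq R A) ≪≫ e ≪≫ (tilde.functor (CommRingCat.of A)).mapIso ?_⟩
  exact (kaehlerEquiv R A).toModuleIso


end


/-- For a ring map `R → A`, the sheaf of differentials of `Spec A → Spec R`, defined as the conormal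
sheaf of the diagonal, is isomorphic as an `O_{Spec A}`-module to the sheaf associated with the
module of Kähler differentials `Ω_{A/R}` (the source also pins the isomorphism down by compatibility
with the universal derivations, which is not restated here). -/
theorem result (R A : Type u) [CommRing R] [CommRing A] [Algebra R A] :
    Nonempty (Omega.sheaf (Spec.map (CommRingCat.ofHom (algebraMap R A))) ≅
      tilde (R := CommRingCat.of A) (ModuleCat.of A (Ω[A⁄R]))) := by
  classical
  exact main R A

end Groth.Agent.S2157
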