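import Groth.Statements.S2158
import Mathlib
import Groth.Agent.Lib.Lead.IdM6

set_option autoImplicit false
universe u
open CategoryTheory AlgebraicGeometry
open Mor

namespace Groth.Agent.S2158

section
open CategoryTheory AlgebraicGeometry

open Groth.Agent.Lead.IdM Groth.Agent.Lead.TilT CategoryTheory.Limits IsLocalRing

/-- the local criterion, in the scheme language -/
theorem local_crit {X S : Scheme.{u}} (f : X ⟶ S) [LocallyOfFiniteType f] (x : X) :
    (f.stalkMap x).hom.FormallyUnramified ↔
      ((IsLocalRing.maximalIdeal (S.presheaf.stalk (f.base x))).map (f.stalkMap x).hom =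
          IsLocalRing.maximalIdeal (X.presheaf.stalk x) ∧
        (f.residueFieldMap x).hom.Finite ∧
        @Algebra.IsSeparable (S.residueField (f.base x)) (X.residueField x) _ _
          (f.residueFieldMap x).hom.toAlgebra) := by
  algebraize [(f.stalkMap x).hom]
  have : IsLocalHom (algebraMap (S.presheaf.stalk (f x)) (X.presheaf.stalk x)) :=
    inferInstanceAs <| IsLocalHom (f.stalkMap x).hom
  have hess : Algebra.EssFiniteType (S.presheaf.stalk (f x)) (X.presheaf.stalk x) := by
    rw [← RingHom.essFiniteType_algebraMap, RingHom.algebraMap_toAlgebra]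
    exact LocallyOfFiniteType.stalkMap f x
  have hal : (f.residueFieldMap x).hom.toAlgebra =
      (inferInstance : Algebra (IsLocalRing.ResidueField (S.presheaf.stalk (f x)))
        (IsLocalRing.ResidueField (X.presheaf.stalk x))) := by
    refine Algebra.algebra_ext _ _ fun y ↦ ?_
    obtain ⟨y, rfl⟩ := IsLocalRing.residue_surjective y
    rfl
  rw [RingHom.FormallyUnramified, RingHom.Finite, hal]
  constructor
  · intro h
    have h2 : Module.Finite (IsLocalRing.ResidueField (S.presheaf.stalk (f x)))
        (IsLocalRing.ResidueField (X.presheaf.stalk x)) := inferInstance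
    have h3 : Algebra.IsSeparable (IsLocalRing.ResidueField (S.presheaf.stalk (f x)))
        (IsLocalRing.ResidueField (X.presheaf.stalk x)) := inferInstance
    exact ⟨Algebra.FormallyUnramified.map_maximalIdeal, h2, h3⟩
  · rintro ⟨h1, -, h3⟩
    have h3' : Algebra.IsSeparable (IsLocalRing.ResidueField (S.presheaf.stalk (f x)))
        (IsLocalRing.ResidueField (X.presheaf.stalk x)) := h3
    exact Algebra.FormallyUnramified.of_map_maximalIdeal h1

/-- unramifiedness of a local homomorphism between localizations -/
theorem localRingHom_formallyUnramified_iff {A B : Type u} [CommRing A] [CommRing B] [Algebra A B]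
    (p : Ideal A) [p.IsPrime] (q : Ideal B) [q.IsPrime] (h : p = q.comap (algebraMap A B)) :
    (Localization.localRingHom p q (algebraMap A B) h).FormallyUnramified ↔
      Algebra.IsUnramifiedAt A q := by
  letI := (Localization.localRingHom p q (algebraMap A B) h).toAlgebra
  have ht : IsScalarTower A (Localization.AtPrime p) (Localization.AtPrime q) := by
    apply IsScalarTower.of_algebraMap_eq
    intro a
    rw [RingHom.algebraMap_toAlgebra, IsScalarTower.algebraMap_apply A B (Localization.AtPrime q)]
    exact (Localization.localRingHom_to_map p q (algebraMap A B) h a).symm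
  change Algebra.FormallyUnramified (Localization.AtPrime p) (Localization.AtPrime q) ↔
    Algebra.FormallyUnramified A (Localization.AtPrime q)
  constructor
  · intro h1
    have : Algebra.FormallyUnramified A (Localization.AtPrime p) :=
      Algebra.FormallyUnramified.of_isLocalization p.primeCompl
    exact Algebra.FormallyUnramified.comp A (Localization.AtPrime p) (Localization.AtPrime q)
  · intro h1
    exact Algebra.FormallyUnramified.of_restrictScalars A _ _

theorem stalk_crit {X S : Scheme.{u}} (f : X ⟶ S) {U : S.Opens} (hU : IsAffineOpen U)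
    {V : X.Opens} (hV : IsAffineOpen V) (e : V ≤ f ⁻¹ᵁ U) (x : X) (hx : x ∈ V) :
    letI := (f.appLE U V e).hom.toAlgebra
    (f.stalkMap x).hom.FormallyUnramified ↔
      hV.primeIdealOf ⟨x, hx⟩ ∈ Algebra.unramifiedLocus Γ(S, U) Γ(X, V) := by
  letI := (f.appLE U V e).hom.toAlgebra
  have e1 := IsAffineOpen.arrowStalkMapIso f U hU V hV e hx
  have := RingHom.toMorphismProperty_respectsIso_iff.mp RingHom.FormallyUnramified.respectsIso
  have h1 := (RingHom.toMorphismProperty RingHom.FormallyUnramified).arrow_mk_iso_iff e1
  change (f.stalkMap x).hom.FormallyUnramified ↔ _ at h1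
  rw [h1]
  exact localRingHom_formallyUnramified_iff (hU.primeIdealOf ⟨f x, e hx⟩).asIdeal
    (hV.primeIdealOf ⟨x, hx⟩).asIdeal
    congr($(IsAffineOpen.comap_primeIdealOf_appLE U hU V hV e hx).1).symm

theorem main {X S : Scheme.{u}} (f : X ⟶ S) [LocallyOfFiniteType f] [QuasiSeparated f] (x : X) :
    Subsingleton ((Omega.sheaf f).presheaf.stalk x) ↔
      ((IsLocalRing.maximalIdeal (S.presheaf.stalk (f.base x))).map (f.stalkMap x).hom =
          IsLocalRing.maximalIdeal (X.presheaf.stalk x) ∧
        (f.residueFieldMap x).hom.Finite ∧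
        @Algebra.IsSeparable (S.residueField (f.base x)) (X.residueField x) _ _
          (f.residueFieldMap x).hom.toAlgebra) := by
  haveI : QuasiCompact (pullback.diagonal f) := QuasiSeparated.quasiCompact_diagonal
  rw [← local_crit]
  obtain ⟨_, ⟨U, hU, rfl⟩, hxU, -⟩ := S.isBasis_affineOpens.exists_subset_of_mem_open
    (Set.mem_univ (f.base x)) isOpen_univ
  obtain ⟨_, ⟨V, hV, rfl⟩, hxV, e0⟩ := X.isBasis_affineOpens.exists_subset_of_mem_open
    (show x ∈ (f ⁻¹ᵁ U : X.Opens) from hxU) (f ⁻¹ᵁ U).2
  have hU' : IsAffineOpen U := hU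
  have hV' : IsAffineOpen V := hV
  have e : V ≤ f ⁻¹ᵁ U := e0
  letI := (f.appLE U V e).hom.toAlgebra
  have h1 := stalk_crit f hU' hV' e x hxV
  have h2 := mem_support_omega_iff f hU' hV' e (hV'.primeIdealOf ⟨x, hxV⟩)
  have hpt : hV'.fromSpec.base (hV'.primeIdealOf ⟨x, hxV⟩) = x :=
    hV'.fromSpec_primeIdealOf ⟨x, hxV⟩
  rw [hpt] at h2
  rw [h1, Algebra.unramifiedLocus_eq_compl_support, Set.mem_compl_iff]
  constructor
  · intro hs hq
    exact (h2.2 hq) hs
  · intro hn
    by_contra hs
    exact hn (h2.1 hs)


end


/-- Let `f : X → S` be locally of finite type and quasi-separated (so that the diagonal is quasi-compact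
and the prelude's sheaf of differentials is the conormal sheaf of the diagonal near every point), `x
∈ X`, `s = f(x)`. Then the stalk `Ω_{X/S,x}` vanishes if and only if `𝔪_s O_{X,x} = 𝔪_x` and
`κ(x)/κ(s)` is a finite separable extension. -/
theorem result {X S : Scheme.{u}} (f : X ⟶ S) [LocallyOfFiniteType f] [QuasiSeparated f] (x : X) :
    Subsingleton ((Omega.sheaf f).presheaf.stalk x) ↔
      ((IsLocalRing.maximalIdeal (S.presheaf.stalk (f.base x))).map (f.stalkMap x).hom =
          IsLocalRing.maximalIdeal (X.presheaf.stalk x) ∧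
        (f.residueFieldMap x).hom.Finite ∧
        @Algebra.IsSeparable (S.residueField (f.base x)) (X.residueField x) _ _ (f.residueFieldMap x).hom.toAlgebra) := by
  classical
  exact main f x

end Groth.Agent.S2158
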