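import Groth.Statements.S2159
import Mathlib.Tactic

set_option autoImplicit false
universe u
open CAlg

namespace Groth.Agent.S2159

/-- Given surjections `p₁ : P₁ → M` and `p₂ : P₂ → M` from projective modules, with kernels `K` and `L`,
there is an isomorphism `K ⊕ P₂ ≅ L ⊕ P₁`. -/
theorem result {R M P₁ P₂ : Type u} [CommRing R] [AddCommGroup M] [Module R M] [AddCommGroup P₁] [Module R P₁]
    [Module.Projective R P₁] [AddCommGroup P₂] [Module R P₂] [Module.Projective R P₂] (p₁ : P₁ →ₗ[R] M) (p₂ : P₂ →ₗ[R] M)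
    (h₁ : Function.Surjective p₁) (h₂ : Function.Surjective p₂) :
    Nonempty ((LinearMap.ker p₁ × P₂) ≃ₗ[R] (LinearMap.ker p₂ × P₁)) := by
  obtain ⟨s₁, hs₁⟩ := Module.projective_lifting_property p₂ p₁ h₂
  obtain ⟨s₂, hs₂⟩ := Module.projective_lifting_property p₁ p₂ h₁
  have e₁ : ∀ a, p₂ (s₁ a) = p₁ a := fun a => LinearMap.congr_fun hs₁ a
  have e₂ : ∀ b, p₁ (s₂ b) = p₂ b := fun b => LinearMap.congr_fun hs₂ b
  let ψ : (LinearMap.ker p₁ × P₂) →ₗ[R] P₁ := (LinearMap.ker p₁).subtype.coprod s₂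
  let φ : (LinearMap.ker p₁ × P₂) →ₗ[R] P₂ := LinearMap.snd R _ _ - s₁ ∘ₗ ψ
  have hφ : ∀ x, φ x ∈ LinearMap.ker p₂ := by
    rintro ⟨k, b⟩
    have hk : p₁ k = 0 := k.2
    simp [φ, ψ, e₁, e₂, map_sub, hk]
  let ψ' : (LinearMap.ker p₂ × P₁) →ₗ[R] P₂ := (LinearMap.ker p₂).subtype.coprod s₁
  let φ' : (LinearMap.ker p₂ × P₁) →ₗ[R] P₁ := LinearMap.snd R _ _ - s₂ ∘ₗ ψ'
  have hφ' : ∀ x, φ' x ∈ LinearMap.ker p₁ := by
    rintro ⟨l, a⟩
    have hl : p₂ l = 0 := l.2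
    simp [φ', ψ', e₁, e₂, map_sub, hl]
  let F : (LinearMap.ker p₁ × P₂) →ₗ[R] (LinearMap.ker p₂ × P₁) :=
    LinearMap.prod (LinearMap.codRestrict _ φ hφ) ψ
  let G : (LinearMap.ker p₂ × P₁) →ₗ[R] (LinearMap.ker p₁ × P₂) :=
    LinearMap.prod (LinearMap.codRestrict _ φ' hφ') ψ'
  refine ⟨LinearEquiv.ofLinear F G ?_ ?_⟩
  · apply LinearMap.ext
    rintro ⟨l, a⟩
    apply Prod.ext
    · apply Subtype.ext
      simp [F, G, φ, ψ, φ', ψ']
    · simp [F, G, φ, ψ, φ', ψ']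
  · apply LinearMap.ext
    rintro ⟨k, b⟩
    apply Prod.ext
    · apply Subtype.ext
      simp [F, G, φ, ψ, φ', ψ']
    · simp [F, G, φ, ψ, φ', ψ']

end Groth.Agent.S2159
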