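import Groth.Statements.S2160
import Mathlib
import Groth.Agent.S2113

set_option autoImplicit false
universe u
open CAlg

namespace Groth.Agent.S2160

section
variable {A : Type u} [CommRing A] [IsNoetherianRing A]

open Groth.Agent.S2113 in
theorem infinite_between' (p q m : Ideal A) [p.IsPrime] [q.IsPrime] [m.IsPrime] (hpq : p < q) (hqm : q < m)
    (f : A) (hfm : f ∈ m) (hfp : f ∉ p) :
    ¬ {q' : Ideal A | q'.IsPrime ∧ p ≤ q' ∧ f ∉ q'}.Finite := by
  intro hfin
  have hT : (p ⊔ Ideal.span {f}).minimalPrimes.Finite := Ideal.finite_minimalPrimes_of_isNoetherianRing A _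
  have hFfin : ({q' : Ideal A | q'.IsPrime ∧ p ≤ q' ∧ f ∉ q'} ∪ (p ⊔ Ideal.span {f}).minimalPrimes).Finite :=
    hfin.union hT
  have hFprime : ∀ i ∈ hFfin.toFinset, (i : Ideal A).IsPrime := by
    intro i hi
    rcases (hFfin.mem_toFinset.1 hi) with h | h
    · exact h.1
    · exact h.1.1
  have hnot : ¬ ((m : Set A) ⊆ ⋃ i ∈ (hFfin.toFinset : Set (Ideal A)), ((id i : Ideal A) : Set A)) := by
    intro hsub
    obtain ⟨t, hts, hmt⟩ := (Ideal.subset_union_prime (f := id) m m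
      (fun i hi _ _ => hFprime i hi)).1 hsub
    rcases (hFfin.mem_toFinset.1 hts) with h | h
    · exact h.2.2 (hmt hfm)
    · have := no_prime_between p f t q h hpq (hqm.le.trans hmt)
      have h2 : q < t := lt_of_lt_of_le hqm hmt
      exact absurd this (ne_of_lt h2)
  obtain ⟨y, hym, hynot⟩ := Set.not_subset.1 hnot
  have hy : ∀ t ∈ ({q' : Ideal A | q'.IsPrime ∧ p ≤ q' ∧ f ∉ q'} ∪ (p ⊔ Ideal.span {f}).minimalPrimes),
      y ∉ t := by
    intro t ht hyt
    apply hynot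
    simp only [Set.mem_iUnion]
    exact ⟨t, by simpa using ht, hyt⟩
  have hyp : y ∉ p := hy p (Or.inl ⟨inferInstance, le_rfl, hfp⟩)
  have hJm : p ⊔ Ideal.span {y} ≤ m :=
    sup_le (hpq.le.trans hqm.le) ((Ideal.span_singleton_le_iff_mem _).2 hym)
  obtain ⟨q', hq', hq'm⟩ := Ideal.exists_minimalPrimes_le hJm
  have hq'prime : q'.IsPrime := hq'.1.1
  have hyq' : y ∈ q' := hq'.1.2 (Ideal.mem_sup_right (Ideal.mem_span_singleton_self y))
  have hpq' : p ≤ q' := le_sup_left.trans hq'.1.2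
  have hfq' : f ∉ q' := by
    intro hfq'
    have hJq' : p ⊔ Ideal.span {f} ≤ q' := sup_le hpq' ((Ideal.span_singleton_le_iff_mem _).2 hfq')
    obtain ⟨t, ht, htq'⟩ := Ideal.exists_minimalPrimes_le hJq'
    have htprime : t.IsPrime := ht.1.1
    have hft : f ∈ t := ht.1.2 (Ideal.mem_sup_right (Ideal.mem_span_singleton_self f))
    have hpt : p < t := by
      refine lt_of_le_of_ne (le_sup_left.trans ht.1.2) ?_
      intro h0
      exact hfp (h0 ▸ hft)
    have := no_prime_between p y q' t hq' hpt htq'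
    exact hy t (Or.inr ht) (this ▸ hyq')
  exact hy q' (Or.inl ⟨hq'prime, hpq', hfq'⟩) hyq'

end

/-- Let `R` be a Noetherian local domain of Krull dimension at least `2`. Then every nonempty open
subset of `Spec R` is infinite. -/
theorem result {R : Type u} [CommRing R] [IsDomain R] [IsLocalRing R] [IsNoetherianRing R]
    (hdim : 2 ≤ ringKrullDim R) (U : Set (PrimeSpectrum R)) (hU : IsOpen U) (hne : U.Nonempty) : U.Infinite := by
  classical
  obtain ⟨x, hxU⟩ := hne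
  obtain ⟨V, ⟨f, rfl⟩, hxV, hVU⟩ :=
    (PrimeSpectrum.isTopologicalBasis_basic_opens (R := R)).exists_subset_of_mem_open hxU hU
  have hfx : f ∉ x.asIdeal := hxV
  have hf0 : f ≠ 0 := fun h => hfx (h ▸ zero_mem _)
  obtain ⟨l, hl⟩ := (Order.le_krullDim_iff (n := 2)).1 hdim
  have i0 : 0 < l.length + 1 := by omega
  have i1 : 1 < l.length + 1 := by omega
  have i2 : 2 < l.length + 1 := by omega
  have h01 : l ⟨0, i0⟩ < l ⟨1, i1⟩ := l.strictMono (by simp [Fin.lt_def])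
  have h12 : l ⟨1, i1⟩ < l ⟨2, i2⟩ := l.strictMono (by simp [Fin.lt_def])
  have hbotprime : (⊥ : Ideal R).IsPrime := Ideal.isPrime_bot
  have hp1prime : (l ⟨1, i1⟩).asIdeal.IsPrime := (l ⟨1, i1⟩).2
  have hmprime : (IsLocalRing.maximalIdeal R).IsPrime := (IsLocalRing.maximalIdeal.isMaximal R).isPrime
  have hb1 : (⊥ : Ideal R) < (l ⟨1, i1⟩).asIdeal := lt_of_le_of_lt bot_le h01
  have h1m : (l ⟨1, i1⟩).asIdeal < IsLocalRing.maximalIdeal R :=
    lt_of_lt_of_le h12 (IsLocalRing.le_maximalIdeal (l ⟨2, i2⟩).2.ne_top)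
  obtain ⟨g, hg1, hg0⟩ := SetLike.exists_of_lt hb1
  have hg0' : g ≠ 0 := fun h => hg0 (h ▸ zero_mem _)
  have hfgm : f * g ∈ IsLocalRing.maximalIdeal R := Ideal.mul_mem_left _ _ (h1m.le hg1)
  have hfg0 : f * g ∉ (⊥ : Ideal R) := by
    rw [Ideal.mem_bot]
    exact mul_ne_zero hf0 hg0'
  have hinf := infinite_between' (⊥ : Ideal R) (l ⟨1, i1⟩).asIdeal (IsLocalRing.maximalIdeal R)
    hb1 h1m (f * g) hfgm hfg0
  intro hUfin
  apply hinf
  refine (hUfin.image (fun Q : PrimeSpectrum R => Q.asIdeal)).subset ?_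
  rintro q' ⟨hq'prime, _, hfq'⟩
  refine ⟨⟨q', hq'prime⟩, hVU ?_, rfl⟩
  show f ∉ q'
  intro hf
  exact hfq' (Ideal.mul_mem_right _ _ hf)

end Groth.Agent.S2160
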