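import Groth.Statements.S2161
import Mathlib

set_option autoImplicit false
universe u
open CAlg

namespace Groth.Agent.S2161

section
open Polynomial

variable {R S : Type u} [CommRing R] [CommRing S] [Algebra R S]

/-- A monic lift of `(X - C x)^n`. -/
theorem monic_lift (x : S) (n : ℕ) (P : R[X])
    (hP : P.map (algebraMap R S) = (X - C x) ^ n) :
    ∃ P₁ : R[X], P₁.Monic ∧ P₁.map (algebraMap R S) = (X - C x) ^ n := by
  rcases subsingleton_or_nontrivial S with hS | hS
  · exact ⟨X ^ n, monic_X_pow n, Subsingleton.elim _ _⟩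
  have hm : ((X - C x) ^ n : S[X]).Monic := (monic_X_sub_C x).pow n
  have hl : ((X - C x) ^ n : S[X]) ∈ lifts (algebraMap R S) := ⟨P, hP⟩
  obtain ⟨q, hq1, -, hq2⟩ := lifts_and_degree_eq_and_monic hl hm
  exact ⟨q, hq2, hq1⟩

theorem isIntegral_of (G : Set S) (hG : Algebra.adjoin R G = ⊤)
    (hpow : ∀ x ∈ G, ∃ (n : ℕ) (P : Polynomial R), 0 < n ∧
      Polynomial.map (algebraMap R S) P = (Polynomial.X - Polynomial.C x) ^ n) :
    Algebra.IsIntegral R S := by
  have h1 : ∀ x ∈ G, IsIntegral R x := by
    intro x hx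
    obtain ⟨n, P, hn, hP⟩ := hpow x hx
    obtain ⟨P₁, hP₁, hP₁'⟩ := monic_lift x n P hP
    refine ⟨P₁, hP₁, ?_⟩
    rw [← eval_map, hP₁']
    simp [hn.ne']
  have h2 : Algebra.adjoin R G ≤ integralClosure R S := Algebra.adjoin_le h1
  rw [hG] at h2
  exact ⟨fun x => h2 (Algebra.mem_top)⟩

theorem pinsep (G : Set S) (hG : Algebra.adjoin R G = ⊤)
    (hpow : ∀ x ∈ G, ∃ (n : ℕ) (P : Polynomial R), 0 < n ∧
      Polynomial.map (algebraMap R S) P = (Polynomial.X - Polynomial.C x) ^ n)
    (q : Ideal S) [q.IsPrime] (p : Ideal R) [p.IsPrime] [q.LiesOver p] :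
    @IsPurelyInseparable p.ResidueField q.ResidueField _ _
      (Ideal.ResidueField.mapₐ p q (Algebra.ofId R S) (q.over_def p)).toRingHom.toAlgebra := by
  let inst : Algebra p.ResidueField q.ResidueField :=
    (Ideal.ResidueField.mapₐ p q (Algebra.ofId R S) (q.over_def p)).toRingHom.toAlgebra
  have htower : ∀ r : R, algebraMap p.ResidueField q.ResidueField (algebraMap R p.ResidueField r) =
      algebraMap S q.ResidueField (algebraMap R S r) := by
    intro r
    show (Ideal.ResidueField.mapₐ p q (Algebra.ofId R S) (q.over_def p)) _ = _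
    rw [AlgHom.commutes]
    exact IsScalarTower.algebraMap_apply R S q.ResidueField r
  rw [isPurelyInseparable_iff_natSepDegree_eq_one]
  simp_rw [← mem_perfectClosure_iff_natSepDegree_eq_one]
  -- generators
  have hgen : ∀ g ∈ G, algebraMap S q.ResidueField g ∈ perfectClosure p.ResidueField q.ResidueField := by
    intro g hg
    obtain ⟨n, P, hn, hP⟩ := hpow g hg
    set x := algebraMap S q.ResidueField g with hx
    let Pbar : p.ResidueField[X] := P.map (algebraMap R p.ResidueField)
    have hmap : Pbar.map (algebraMap p.ResidueField q.ResidueField) = (X - C x) ^ n := by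
      have h1 : Pbar.map (algebraMap p.ResidueField q.ResidueField) =
          (P.map (algebraMap R S)).map (algebraMap S q.ResidueField) := by
        simp only [Pbar, Polynomial.map_map]
        congr 1
        ext r
        exact htower r
      rw [h1, hP]
      simp [hx]
    have hne : Pbar ≠ 0 := by
      intro h0
      rw [h0, Polynomial.map_zero] at hmap
      exact ((monic_X_sub_C x).pow n).ne_zero hmap.symm
    have hroot : aeval x Pbar = 0 := by
      rw [aeval_def, ← eval_map, hmap]
      simp [hn.ne']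
    have hint : IsIntegral p.ResidueField x := (isAlgebraic_iff_isIntegral).1 ⟨Pbar, hne, hroot⟩
    rw [mem_perfectClosure_iff_natSepDegree_eq_one]
    have hdvd : minpoly p.ResidueField x ∣ Pbar := minpoly.dvd _ _ hroot
    have hle := natSepDegree_le_of_dvd _ _ hdvd hne
    have h1 : Pbar.natSepDegree = 1 := by
      rw [← natSepDegree_map (f := Pbar) (i := algebraMap p.ResidueField q.ResidueField), hmap,
        natSepDegree_X_sub_C_pow, if_neg hn.ne']
    have h2 : (minpoly p.ResidueField x).natSepDegree ≠ 0 :=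
      natSepDegree_ne_zero _ (minpoly.natDegree_pos hint).ne'
    omega
  have hall : ∀ s : S, algebraMap S q.ResidueField s ∈
      perfectClosure p.ResidueField q.ResidueField := by
    intro s
    have hs : s ∈ Algebra.adjoin R G := by rw [hG]; exact Algebra.mem_top
    induction hs using Algebra.adjoin_induction with
    | mem x hx => exact hgen x hx
    | algebraMap r =>
      rw [← htower]
      exact (perfectClosure p.ResidueField q.ResidueField).algebraMap_mem _
    | add x y _ _ hx hy => rw [map_add]; exact add_mem hx hy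
    | mul x y _ _ hx hy => rw [map_mul]; exact mul_mem hx hy
  intro y
  obtain ⟨a, b, hb, rfl⟩ := IsFractionRing.div_surjective (A := S ⧸ q) y
  obtain ⟨a, rfl⟩ := Ideal.Quotient.mk_surjective a
  obtain ⟨b, rfl⟩ := Ideal.Quotient.mk_surjective b
  refine div_mem ?_ ?_
  · have := hall a
    rwa [IsScalarTower.algebraMap_apply S (S ⧸ q) q.ResidueField] at this
  · have := hall b
    rwa [IsScalarTower.algebraMap_apply S (S ⧸ q) q.ResidueField] at this

open TensorProduct in
theorem inj (G : Set S) (hG : Algebra.adjoin R G = ⊤)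
    (hpow : ∀ x ∈ G, ∃ (n : ℕ) (P : Polynomial R), 0 < n ∧
      Polynomial.map (algebraMap R S) P = (Polynomial.X - Polynomial.C x) ^ n)
    (q₁ q₂ : Ideal S) [q₁.IsPrime] [q₂.IsPrime]
    (h : q₁.comap (algebraMap R S) = q₂.comap (algebraMap R S)) : q₁ = q₂ := by
  let p : Ideal R := q₁.comap (algebraMap R S)
  have hp : p.IsPrime := inferInstance
  have l₁ : q₁.LiesOver p := ⟨rfl⟩
  have l₂ : q₂.LiesOver p := ⟨h⟩
  let a₁ : Algebra p.ResidueField q₁.ResidueField :=
    (Ideal.ResidueField.mapₐ p q₁ (Algebra.ofId R S) (q₁.over_def p)).toRingHom.toAlgebra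
  let a₂ : Algebra p.ResidueField q₂.ResidueField :=
    (Ideal.ResidueField.mapₐ p q₂ (Algebra.ofId R S) (q₂.over_def p)).toRingHom.toAlgebra
  have t₁ : ∀ r : R, algebraMap p.ResidueField q₁.ResidueField (algebraMap R p.ResidueField r) =
      algebraMap S q₁.ResidueField (algebraMap R S r) := by
    intro r
    show (Ideal.ResidueField.mapₐ p q₁ (Algebra.ofId R S) (q₁.over_def p)) _ = _
    rw [AlgHom.commutes]
    exact IsScalarTower.algebraMap_apply R S q₁.ResidueField r
  have t₂ : ∀ r : R, algebraMap p.ResidueField q₂.ResidueField (algebraMap R p.ResidueField r) =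
      algebraMap S q₂.ResidueField (algebraMap R S r) := by
    intro r
    show (Ideal.ResidueField.mapₐ p q₂ (Algebra.ofId R S) (q₂.over_def p)) _ = _
    rw [AlgHom.commutes]
    exact IsScalarTower.algebraMap_apply R S q₂.ResidueField r
  have hnt : Nontrivial (q₁.ResidueField ⊗[p.ResidueField] q₂.ResidueField) :=
    Module.FaithfullyFlat.lTensor_nontrivial _ _ _
  obtain ⟨m, hm⟩ := Ideal.exists_maximal (q₁.ResidueField ⊗[p.ResidueField] q₂.ResidueField)
  let fld : Field ((q₁.ResidueField ⊗[p.ResidueField] q₂.ResidueField) ⧸ m) := Ideal.Quotient.field m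
  let j₁ : q₁.ResidueField →+* (q₁.ResidueField ⊗[p.ResidueField] q₂.ResidueField) ⧸ m :=
    (Ideal.Quotient.mk m).comp
      (Algebra.TensorProduct.includeLeft (R := p.ResidueField) (S := p.ResidueField)
        (A := q₁.ResidueField) (B := q₂.ResidueField)).toRingHom
  let j₂ : q₂.ResidueField →+* (q₁.ResidueField ⊗[p.ResidueField] q₂.ResidueField) ⧸ m :=
    (Ideal.Quotient.mk m).comp
      (Algebra.TensorProduct.includeRight (R := p.ResidueField)
        (A := q₁.ResidueField) (B := q₂.ResidueField)).toRingHom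
  let f₁ := j₁.comp (algebraMap S q₁.ResidueField)
  let f₂ := j₂.comp (algebraMap S q₂.ResidueField)
  have hR : ∀ r : R, f₁ (algebraMap R S r) = f₂ (algebraMap R S r) := by
    intro r
    show j₁ (algebraMap S q₁.ResidueField (algebraMap R S r)) =
      j₂ (algebraMap S q₂.ResidueField (algebraMap R S r))
    rw [← t₁, ← t₂]
    show Ideal.Quotient.mk m (Algebra.TensorProduct.includeLeft _) =
      Ideal.Quotient.mk m (Algebra.TensorProduct.includeRight _)
    rw [AlgHom.commutes, AlgHom.commutes]
  have hGG : ∀ g ∈ G, f₁ g = f₂ g := by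
    intro g hg
    obtain ⟨n, P, hn, hP⟩ := hpow g hg
    have e1 : (P.map (algebraMap R S)).map f₁ = (X - C (f₁ g)) ^ n := by
      rw [hP]; simp
    have e2 : (P.map (algebraMap R S)).map f₂ = (X - C (f₂ g)) ^ n := by
      rw [hP]; simp
    have e3 : (P.map (algebraMap R S)).map f₁ = (P.map (algebraMap R S)).map f₂ := by
      rw [Polynomial.map_map, Polynomial.map_map]
      congr 1
      ext r
      exact hR r
    have e4 : (X - C (f₁ g)) ^ n = (X - C (f₂ g)) ^ n := by rw [← e1, ← e2, e3]
    have e5 := congrArg (eval (f₁ g)) e4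
    simp only [eval_pow, eval_sub, eval_X, eval_C, sub_self, zero_pow hn.ne'] at e5
    exact sub_eq_zero.1 (pow_eq_zero_iff hn.ne' |>.1 e5.symm)
  have hall : ∀ s : S, f₁ s = f₂ s := by
    intro s
    have hs : s ∈ Algebra.adjoin R G := by rw [hG]; exact Algebra.mem_top
    induction hs using Algebra.adjoin_induction with
    | mem x hx => exact hGG x hx
    | algebraMap r => exact hR r
    | add x y _ _ hx hy => rw [map_add, map_add, hx, hy]
    | mul x y _ _ hx hy => rw [map_mul, map_mul, hx, hy]
  have k₁ : ∀ s : S, f₁ s = 0 ↔ s ∈ q₁ := by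
    intro s
    show j₁ (algebraMap S q₁.ResidueField s) = 0 ↔ _
    rw [map_eq_zero_iff j₁ j₁.injective, ← RingHom.mem_ker, Ideal.ker_algebraMap_residueField]
  have k₂ : ∀ s : S, f₂ s = 0 ↔ s ∈ q₂ := by
    intro s
    show j₂ (algebraMap S q₂.ResidueField s) = 0 ↔ _
    rw [map_eq_zero_iff j₂ j₂.injective, ← RingHom.mem_ker, Ideal.ker_algebraMap_residueField]
  ext s
  rw [← k₁, ← k₂, hall]

theorem main
    (hker : ∀ r : R, algebraMap R S r = 0 → IsNilpotent r) (G : Set S) (hG : Algebra.adjoin R G = ⊤)
    (hpow : ∀ x ∈ G, ∃ (n : ℕ) (P : Polynomial R), 0 < n ∧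
      Polynomial.map (algebraMap R S) P = (Polynomial.X - Polynomial.C x) ^ n) :
    IsHomeomorph (PrimeSpectrum.comap (algebraMap R S)) ∧
      ∀ (q : Ideal S) [q.IsPrime] (p : Ideal R) [p.IsPrime] [q.LiesOver p],
        @IsPurelyInseparable p.ResidueField q.ResidueField _ _
          (Ideal.ResidueField.mapₐ p q (Algebra.ofId R S) (q.over_def p)).toRingHom.toAlgebra := by
  refine ⟨?_, fun q _ p _ _ => pinsep G hG hpow q p⟩
  have hint : Algebra.IsIntegral R S := isIntegral_of G hG hpow
  rw [isHomeomorph_iff_continuous_isClosedMap_bijective]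
  refine ⟨PrimeSpectrum.continuous_comap _,
    PrimeSpectrum.isClosedMap_comap_of_isIntegral _ (algebraMap_isIntegral_iff.2 hint), ?_, ?_⟩
  · intro x y hxy
    have h1 := congrArg PrimeSpectrum.asIdeal hxy
    simp only [PrimeSpectrum.comap_asIdeal] at h1
    exact PrimeSpectrum.ext (inj G hG hpow x.asIdeal y.asIdeal h1)
  · intro x
    obtain ⟨Q, -, hQ, hQx⟩ := Ideal.exists_ideal_over_prime_of_isIntegral x.asIdeal (⊥ : Ideal S) (by
      intro r hr
      have hr0 : algebraMap R S r = 0 := by simpa using hr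
      obtain ⟨n, hn⟩ := hker r hr0
      exact x.isPrime.mem_of_pow_mem n (hn ▸ x.asIdeal.zero_mem))
    exact ⟨⟨Q, hQ⟩, PrimeSpectrum.ext (by simpa using hQx)⟩


end


/-- Let R → S be a ring map whose kernel consists of nilpotent elements, and suppose S is generated as
an R-algebra by elements x for which some power (T − x)ⁿ, n > 0, is the image of a polynomial over
R. Then Spec S → Spec R is a homeomorphism, and for every prime 𝔮 of S over 𝔭 the extension
κ(𝔮)/κ(𝔭) is purely inseparable. -/
theorem result {R S : Type u} [CommRing R] [CommRing S] [Algebra R S]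
    (hker : ∀ r : R, algebraMap R S r = 0 → IsNilpotent r) (G : Set S) (hG : Algebra.adjoin R G = ⊤)
    (hpow : ∀ x ∈ G, ∃ (n : ℕ) (P : Polynomial R), 0 < n ∧
      Polynomial.map (algebraMap R S) P = (Polynomial.X - Polynomial.C x) ^ n) :
    IsHomeomorph (PrimeSpectrum.comap (algebraMap R S)) ∧
      ∀ (q : Ideal S) [q.IsPrime] (p : Ideal R) [p.IsPrime] [q.LiesOver p],
        @IsPurelyInseparable p.ResidueField q.ResidueField _ _
          (Ideal.ResidueField.mapₐ p q (Algebra.ofId R S) (q.over_def p)).toRingHom.toAlgebra := by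
  classical
  exact main hker G hG hpow

end Groth.Agent.S2161
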