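import Groth.Statements.S2163
import Mathlib

set_option autoImplicit false
universe u
open CAlg

namespace Groth.Agent.S2163

section
variable {R : Type u} [CommRing R]

/-- the linear map `c ↦ ∑ c i * f i` -/
noncomputable def piMap {l : ℕ} (f : Fin l → R) : (Fin l → R) →ₗ[R] R :=
  Fintype.linearCombination R f

theorem piMap_apply {l : ℕ} (f : Fin l → R) (c : Fin l → R) : piMap f c = ∑ i, c i * f i := by
  simp [piMap, Fintype.linearCombination_apply]

theorem range_piMap {l : ℕ} (f : Fin l → R) : LinearMap.range (piMap f) = Ideal.span (Set.range f) := by
  rw [piMap, Fintype.range_linearCombination]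

end

/-- A ring `R` is coherent — every finitely generated ideal is a finitely presented module — if and only
if for every index set `A` (in the same universe) the product module `R^A` is flat. -/
theorem result {R : Type u} [CommRing R] :
    (∀ I : Ideal R, I.FG → Module.FinitePresentation R I) ↔ ∀ (A : Type u), Module.Flat R (A → R) := by
  classical
  constructor
  · intro hcoh A
    rw [Module.Flat.iff_forall_isTrivialRelation]
    intro l f x hfx
    have hfg : (LinearMap.range (piMap f) : Ideal R).FG := by
      rw [range_piMap]
      exact ⟨(Finset.univ.image f), by simp⟩
    have hfp : Module.FinitePresentation R (LinearMap.range (piMap f)) := hcoh _ hfg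
    have hK : (LinearMap.ker (LinearMap.rangeRestrict (piMap f))).FG :=
      Module.FinitePresentation.fg_ker _ (LinearMap.surjective_rangeRestrict _)
    rw [LinearMap.ker_rangeRestrict] at hK
    obtain ⟨k, b, hb⟩ := Submodule.fg_iff_exists_fin_generating_family.1 hK
    have hmem : ∀ α : A, (fun i => x i α) ∈ Submodule.span R (Set.range b) := by
      intro α
      rw [hb, LinearMap.mem_ker, piMap_apply]
      have := congrFun hfx α
      simp only [Finset.sum_apply, Pi.smul_apply, smul_eq_mul, Pi.zero_apply] at this
      rw [← this]
      apply Finset.sum_congr rfl
      intro i _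
      ring
    have hch : ∀ α : A, ∃ y : Fin k → R, ∑ j, y j • b j = (fun i => x i α) := by
      intro α
      exact (Submodule.mem_span_range_iff_exists_fun R).1 (hmem α)
    choose y hy using hch
    refine ⟨k, fun i j => b j i, fun j α => y α j, ?_, ?_⟩
    · intro i
      funext α
      have := congrFun (hy α) i
      simp only [Finset.sum_apply, Pi.smul_apply, smul_eq_mul] at this ⊢
      rw [← this]
      apply Finset.sum_congr rfl
      intro j _
      ring
    · intro j
      have hbj : b j ∈ LinearMap.ker (piMap f) := by
        rw [← hb]
        exact Submodule.subset_span ⟨j, rfl⟩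
      rw [LinearMap.mem_ker, piMap_apply] at hbj
      rw [← hbj]
      apply Finset.sum_congr rfl
      intro i _
      ring
  · intro hflat I hI
    obtain ⟨l, f, hf⟩ := Submodule.fg_iff_exists_fin_generating_family.1 hI
    have hr : LinearMap.range (piMap f) = I := by
      rw [range_piMap]
      exact hf
    subst hr
    have hflatK := hflat (LinearMap.ker (piMap f))
    rw [Module.Flat.iff_forall_isTrivialRelation] at hflatK
    have hrel : ∑ i, f i • (fun κ : LinearMap.ker (piMap f) => (κ : Fin l → R) i) = 0 := by
      funext κ
      have := κ.2
      rw [LinearMap.mem_ker, piMap_apply] at this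
      simp only [Finset.sum_apply, Pi.smul_apply, smul_eq_mul, Pi.zero_apply]
      rw [← this]
      apply Finset.sum_congr rfl
      intro i _
      ring
    obtain ⟨k, a, y, hxy, ha⟩ := hflatK hrel
    have hKfg : (LinearMap.ker (piMap f)).FG := by
      refine ⟨Finset.univ.image (fun j : Fin k => (fun i => a i j)), ?_⟩
      apply le_antisymm
      · rw [Submodule.span_le]
        intro c hc
        simp only [Finset.coe_image, Finset.coe_univ, Set.image_univ, Set.mem_range] at hc
        obtain ⟨j, rfl⟩ := hc
        show _ ∈ LinearMap.ker (piMap f)
        rw [LinearMap.mem_ker, piMap_apply, ← ha j]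
        apply Finset.sum_congr rfl
        intro i _
        ring
      · intro c hc
        have hc' : c = ∑ j, (y j ⟨c, hc⟩) • (fun i => a i j) := by
          funext i
          have := congrFun (hxy i) ⟨c, hc⟩
          simp only [Finset.sum_apply, Pi.smul_apply, smul_eq_mul] at this ⊢
          rw [this]
          apply Finset.sum_congr rfl
          intro j _
          ring
        rw [hc']
        apply Submodule.sum_mem
        intro j _
        apply Submodule.smul_mem
        apply Submodule.subset_span
        simp
    have hK' : (LinearMap.ker (LinearMap.rangeRestrict (piMap f))).FG := by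
      rw [LinearMap.ker_rangeRestrict]
      exact hKfg
    exact Module.finitePresentation_of_surjective _ (LinearMap.surjective_rangeRestrict _) hK'

end Groth.Agent.S2163
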