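import Groth.Statements.S2165
import Groth.Agent.Lib.Helper8.CplQuot1
import Groth.Agent.Lib.Helper8.AdicReg1


set_option autoImplicit false
universe u
open LCI

namespace Groth.Agent.S2165

/-- Let R be a regular ring, p a prime ideal of R and f_1, ..., f_r a regular sequence of R contained in
p. Then the local ring R_p/(f_1, ..., f_r) is a complete intersection: its completion is a regular
local ring modulo a regular sequence. The instance hypothesis that the quotient is local always
holds. -/
theorem result {R : Type u} [CommRing R] [IsRegularRing R]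
    (p : Ideal R) [p.IsPrime] (rs : List R) (hmem : ∀ r ∈ rs, r ∈ p)
    (hreg : RingTheory.Sequence.IsRegular R rs)
    [IsLocalRing (Localization.AtPrime p ⧸
      Ideal.map (algebraMap R (Localization.AtPrime p)) (Ideal.ofList rs))] :
    Pi1.IsCompleteIntersection (Localization.AtPrime p ⧸
      Ideal.map (algebraMap R (Localization.AtPrime p)) (Ideal.ofList rs)) := by
  classical
  haveI : IsNoetherianRing R := inferInstance
  haveI hA'reg : IsRegularLocalRing (Localization.AtPrime p) :=
    IsRegularRing.isRegularLocalRing_localization p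
  haveI : IsNoetherianRing (Localization.AtPrime p) := inferInstance
  have hfg : (IsLocalRing.maximalIdeal (Localization.AtPrime p)).FG :=
    IsNoetherian.noetherian _
  have hne : IsLocalRing.maximalIdeal (Localization.AtPrime p) ≠ ⊤ :=
    (IsLocalRing.maximalIdeal.isMaximal _).ne_top
  haveI hBloc : IsLocalRing (EGA4.Cpl (Localization.AtPrime p)) :=
    Groth.Agent.Helper8.AdicReg.isLocalRing _ _ hfg hne
  haveI hBhom : IsLocalHom (algebraMap (Localization.AtPrime p)
      (EGA4.Cpl (Localization.AtPrime p))) :=
    Groth.Agent.Helper8.AdicReg.isLocalHom _ _ hfg hne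
  haveI hBreg : IsRegularLocalRing (EGA4.Cpl (Localization.AtPrime p)) :=
    (Groth.Agent.Helper8.AdicReg.isRegularLocalRing_iff _ _ hne).mp hA'reg
  haveI : Nontrivial (Localization.AtPrime p ⧸
      Ideal.map (algebraMap R (Localization.AtPrime p)) (Ideal.ofList rs)) := inferInstance
  set J := Ideal.map (algebraMap R (Localization.AtPrime p)) (Ideal.ofList rs) with hJ
  set rsB : List (EGA4.Cpl (Localization.AtPrime p)) :=
    (rs.map (algebraMap R (Localization.AtPrime p))).map
      (algebraMap (Localization.AtPrime p) (EGA4.Cpl (Localization.AtPrime p))) with hrsB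
  have hmemB : ∀ r ∈ rsB, r ∈ IsLocalRing.maximalIdeal (EGA4.Cpl (Localization.AtPrime p)) := by
    intro r hr
    obtain ⟨r1, hr1, rfl⟩ := List.mem_map.mp hr
    obtain ⟨r0, hr0, rfl⟩ := List.mem_map.mp hr1
    have h1 : algebraMap R (Localization.AtPrime p) r0 ∈
        IsLocalRing.maximalIdeal (Localization.AtPrime p) :=
      (IsLocalization.AtPrime.to_map_mem_maximal_iff (Localization.AtPrime p) p r0).mpr
        (hmem r0 hr0)
    rw [IsLocalRing.mem_maximalIdeal, mem_nonunits_iff] at h1 ⊢
    exact fun h => h1 (IsLocalHom.map_nonunit _ h)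
  have hwreg : RingTheory.Sequence.IsWeaklyRegular (EGA4.Cpl (Localization.AtPrime p)) rsB :=
    (hreg.toIsWeaklyRegular.of_flat (S := Localization.AtPrime p)).of_flat
  have hle : Ideal.ofList rsB ≤ IsLocalRing.maximalIdeal (EGA4.Cpl (Localization.AtPrime p)) := by
    rw [Ideal.ofList, Ideal.span_le]
    exact fun r hr => hmemB r hr
  have hregB : RingTheory.Sequence.IsRegular (EGA4.Cpl (Localization.AtPrime p)) rsB := by
    refine ⟨hwreg, ?_⟩
    intro htop
    rw [smul_eq_mul, Ideal.mul_top] at htop
    exact (IsLocalRing.maximalIdeal.isMaximal _).ne_top (top_le_iff.mp (htop ▸ hle))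
  refine ⟨EGA4.Cpl (Localization.AtPrime p), inferInstance, hBreg, rsB, hmemB, hregB, ?_⟩
  have hker := Groth.Agent.Helper8.CplQuot.ker_psi (Localization.AtPrime p) J
  have hsurj := Groth.Agent.Helper8.CplQuot.psi_surjective (Localization.AtPrime p) J
  have hspan : Ideal.span {r | r ∈ rsB} =
      RingHom.ker (Groth.Agent.Helper8.CplQuot.psi (Localization.AtPrime p) J).toRingHom := by
    rw [hker, hJ, Ideal.map_ofList, Ideal.map_ofList]
  exact ⟨((Ideal.quotEquivOfEq hspan).trans
    (RingHom.quotientKerEquivOfSurjective hsurj)).symm⟩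

end Groth.Agent.S2165
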