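import Groth.Statements.S2170
import Mathlib

set_option autoImplicit false
open Finset
open Models

namespace Groth.Agent.S2170

/-- Let A be a symmetric real n × n matrix with non-negative off-diagonal entries and m a vector with
positive entries such that for every i, ∑_{j ≠ i} A_{ij} m_j ≤ −A_{ii} m_i. Then the kernel of A is
the span of the vectors equal to m on an index set I and zero off I, for those I such that A_{ij} =
0 whenever i ∈ I and j ∉ I and such that equality holds in the above inequality for every i ∈ I. The
published statement omits the symmetry of A (without which it fails) and applies it only to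
symmetric matrices; stated here with A symmetric. -/
theorem result {n : ℕ} (A : Matrix (Fin n) (Fin n) ℝ) (m : Fin n → ℝ)
    (hsymm : A.IsSymm) (hA : ∀ i j, i ≠ j → 0 ≤ A i j) (hm : ∀ i, 0 < m i)
    (hle : ∀ i, ∑ j ∈ univ.erase i, A i j * m j ≤ -(A i i * m i)) :
    LinearMap.ker (Matrix.mulVecLin A) = Submodule.span ℝ
      {x : Fin n → ℝ | ∃ I : Finset (Fin n), (∀ i ∈ I, ∀ j ∉ I, A i j = 0) ∧
        (∀ i ∈ I, ∑ j ∈ univ.erase i, A i j * m j = -(A i i * m i)) ∧
        x = fun i => if i ∈ I then m i else 0} := by
  classical
  have hmne : ∀ i, m i ≠ 0 := fun i => (hm i).ne'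
  set r : Fin n → ℝ := fun i => ∑ j, A i j * m j with hr
  have hr_le : ∀ i, r i ≤ 0 := by
    intro i
    have h1 : r i = A i i * m i + ∑ j ∈ univ.erase i, A i j * m j := by
      simp only [hr]
      exact (Finset.add_sum_erase univ (fun j => A i j * m j) (Finset.mem_univ i)).symm
    have := hle i
    linarith
  have hr_eq : ∀ i, (∑ j ∈ univ.erase i, A i j * m j = -(A i i * m i)) ↔ r i = 0 := by
    intro i
    have h1 : r i = A i i * m i + ∑ j ∈ univ.erase i, A i j * m j := by
      simp only [hr]
      exact (Finset.add_sum_erase univ (fun j => A i j * m j) (Finset.mem_univ i)).symm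
    constructor
    · intro h; linarith
    · intro h; linarith
  apply le_antisymm
  · -- kernel ⊆ span
    intro x hxker
    have hAx : A.mulVec x = 0 := by simpa using hxker
    set y : Fin n → ℝ := fun i => x i / m i with hy
    have hx : ∀ i, x i = m i * y i := fun i => by
      simp only [hy]
      field_simp [hmne i]
    have hcol : ∀ j, ∑ i, A i j * m i = r j := by
      intro j
      simp only [hr]
      refine Finset.sum_congr rfl fun i _ => ?_
      rw [hsymm.apply i j]
    have e1 : dotProduct x (A.mulVec x) = ∑ i, ∑ j, A i j * m i * m j * (y i * y j) := by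
      simp only [dotProduct, Matrix.mulVec, Finset.mul_sum]
      refine Finset.sum_congr rfl fun i _ => Finset.sum_congr rfl fun j _ => ?_
      rw [hx i, hx j]
      ring
    have e2 : ∑ i, ∑ j, A i j * m i * m j * (y i) ^ 2 = ∑ i, m i * (y i) ^ 2 * r i := by
      refine Finset.sum_congr rfl fun i _ => ?_
      simp only [hr]
      rw [Finset.mul_sum]
      refine Finset.sum_congr rfl fun j _ => by ring
    have e3 : ∑ i, ∑ j, A i j * m i * m j * (y j) ^ 2 = ∑ j, m j * (y j) ^ 2 * r j := by
      rw [Finset.sum_comm]
      refine Finset.sum_congr rfl fun j _ => ?_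
      rw [← hcol j, Finset.mul_sum]
      refine Finset.sum_congr rfl fun i _ => by ring
    have e4 : ∑ i, ∑ j, A i j * m i * m j * (y i - y j) ^ 2 =
        ∑ i, ∑ j, A i j * m i * m j * (y i) ^ 2 + ∑ i, ∑ j, A i j * m i * m j * (y j) ^ 2 -
          2 * ∑ i, ∑ j, A i j * m i * m j * (y i * y j) := by
      simp only [← Finset.sum_add_distrib, Finset.mul_sum, ← Finset.sum_sub_distrib]
      refine Finset.sum_congr rfl fun i _ => Finset.sum_congr rfl fun j _ => by ring
    have key : dotProduct x (A.mulVec x) =
        ∑ i, m i * (y i) ^ 2 * r i -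
          (1 / 2) * ∑ i, ∑ j, A i j * m i * m j * (y i - y j) ^ 2 := by
      rw [e1, e4, e2, e3]
      ring
    have hterm : ∀ i j, 0 ≤ A i j * m i * m j * (y i - y j) ^ 2 := by
      intro i j
      by_cases hij : i = j
      · subst hij
        simp
      · have := hA i j hij
        have := (hm i).le
        have := (hm j).le
        positivity
    have hterm2 : ∀ i, 0 ≤ -(m i * (y i) ^ 2 * r i) := by
      intro i
      have h1 := hr_le i
      have h2 : 0 ≤ m i * (y i) ^ 2 := by
        have := (hm i).le
        positivity
      nlinarith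
    have hsum_nonneg : 0 ≤ ∑ i, ∑ j, A i j * m i * m j * (y i - y j) ^ 2 :=
      Finset.sum_nonneg fun i _ => Finset.sum_nonneg fun j _ => hterm i j
    have hsum2_nonneg : 0 ≤ ∑ i, -(m i * (y i) ^ 2 * r i) :=
      Finset.sum_nonneg fun i _ => hterm2 i
    have h0 : dotProduct x (A.mulVec x) = 0 := by rw [hAx, dotProduct_zero]
    rw [key] at h0
    have hs2 : ∑ i, -(m i * (y i) ^ 2 * r i) = -∑ i, m i * (y i) ^ 2 * r i := by
      rw [Finset.sum_neg_distrib]
    have hsum0 : ∑ i, ∑ j, A i j * m i * m j * (y i - y j) ^ 2 = 0 := by linarith
    have hsum20 : ∑ i, -(m i * (y i) ^ 2 * r i) = 0 := by linarith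
    have hall : ∀ i j, A i j * m i * m j * (y i - y j) ^ 2 = 0 := by
      intro i j
      have h1 := (Finset.sum_eq_zero_iff_of_nonneg
        (fun i _ => Finset.sum_nonneg fun j _ => hterm i j)).mp hsum0 i (Finset.mem_univ i)
      exact (Finset.sum_eq_zero_iff_of_nonneg (fun j _ => hterm i j)).mp h1 j (Finset.mem_univ j)
    have hall2 : ∀ i, m i * (y i) ^ 2 * r i = 0 := by
      intro i
      have := (Finset.sum_eq_zero_iff_of_nonneg (fun i _ => hterm2 i)).mp hsum20 i (Finset.mem_univ i)
      linarith
    have hadj : ∀ i j, A i j ≠ 0 → y i = y j := by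
      intro i j hAij
      have := hall i j
      have h2 : (y i - y j) ^ 2 = 0 := by
        rcases mul_eq_zero.mp this with h | h
        · exfalso
          rcases mul_eq_zero.mp h with h | h
          · rcases mul_eq_zero.mp h with h | h
            · exact hAij h
            · exact hmne i h
          · exact hmne j h
        · exact h
      have := pow_eq_zero_iff (two_ne_zero) |>.mp h2
      linarith
    have hr0 : ∀ i, y i ≠ 0 → r i = 0 := by
      intro i hyi
      rcases mul_eq_zero.mp (hall2 i) with h | h
      · exfalso
        rcases mul_eq_zero.mp h with h | h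
        · exact hmne i h
        · exact hyi (pow_eq_zero_iff (two_ne_zero) |>.mp h)
      · exact h
    have hdecomp : x = ∑ c ∈ Finset.image y univ, c • (fun i => if y i = c then m i else 0) := by
      funext i
      rw [Finset.sum_apply]
      simp only [Pi.smul_apply, smul_eq_mul]
      rw [Finset.sum_eq_single (y i)]
      · simp [hx i, mul_comm]
      · intro c _ hc
        simp [Ne.symm hc]
      · intro h
        exact absurd (Finset.mem_image_of_mem y (Finset.mem_univ i)) h
    rw [hdecomp]
    refine Submodule.sum_mem _ fun c _ => ?_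
    by_cases hc : c = 0
    · rw [hc, zero_smul]
      exact Submodule.zero_mem _
    · refine Submodule.smul_mem _ c (Submodule.subset_span ?_)
      refine ⟨Finset.univ.filter fun i => y i = c, ?_, ?_, ?_⟩
      · intro i hi j hj
        by_contra hAij
        have hyi : y i = c := by simpa using hi
        have := hadj i j hAij
        exact hj (by simp [← this, hyi])
      · intro i hi
        have hyi : y i = c := by simpa using hi
        exact (hr_eq i).mpr (hr0 i (by rw [hyi]; exact hc))
      · funext i
        simp
  · -- span ⊆ kernel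
    rw [Submodule.span_le]
    rintro x ⟨I, h1, h2, rfl⟩
    rw [SetLike.mem_coe, LinearMap.mem_ker, Matrix.mulVecLin_apply]
    funext i
    simp only [Matrix.mulVec, dotProduct, Pi.zero_apply]
    by_cases hi : i ∈ I
    · have hri : r i = 0 := (hr_eq i).mp (h2 i hi)
      rw [← hri]
      simp only [hr]
      refine Finset.sum_congr rfl fun j _ => ?_
      by_cases hj : j ∈ I
      · simp [hj]
      · simp [hj, h1 i hi j hj]
    · refine Finset.sum_eq_zero fun j _ => ?_
      by_cases hj : j ∈ I
      · have : A i j = 0 := by rw [hsymm.apply j i]; exact h1 j hj i hi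
        simp [this]
      · simp [hj]

end Groth.Agent.S2170
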