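import Groth.Statements.S2172
import Mathlib

set_option autoImplicit false
open Finset
open Models

namespace Groth.Agent.S2172

section
open Finset

/-- integer kernel lemma -/
theorem ker_lemma {n : ℕ} (A : Matrix (Fin n) (Fin n) ℤ) (m : Fin n → ℤ)
    (hA : ∀ i j, i ≠ j → 0 ≤ A i j) (hm : ∀ i, 0 < m i) (hAm : A.mulVec m = 0)
    (hconn : ∀ I : Finset (Fin n), I.Nonempty → I ≠ univ → ∃ i ∈ I, ∃ j ∉ I, A i j ≠ 0)
    (v : Fin n → ℤ) (hv : A.mulVec v = 0) (i0 : Fin n) (hmax : ∀ i, v i * m i0 ≤ v i0 * m i) :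
    ∀ i, v i0 * m i = m i0 * v i := by
  let u : Fin n → ℤ := fun i => v i0 * m i - m i0 * v i
  have hu0 : ∀ i, 0 ≤ u i := by
    intro i
    have := hmax i
    change 0 ≤ v i0 * m i - m i0 * v i
    nlinarith
  have hAu : ∀ i, ∑ k, A i k * u k = 0 := by
    intro i
    have h1 : ∑ k, A i k * m k = 0 := congrFun hAm i
    have h2 : ∑ k, A i k * v k = 0 := congrFun hv i
    have : ∑ k, A i k * u k = v i0 * ∑ k, A i k * m k - m i0 * ∑ k, A i k * v k := by
      rw [Finset.mul_sum, Finset.mul_sum, ← Finset.sum_sub_distrib]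
      refine Finset.sum_congr rfl (fun k _ => ?_)
      change A i k * (v i0 * m k - m i0 * v k) = _
      ring
    rw [this, h1, h2]; ring
  let I : Finset (Fin n) := univ.filter (fun i => u i = 0)
  have hi0 : i0 ∈ I := by
    simp only [I, mem_filter, mem_univ, true_and]
    change v i0 * m i0 - m i0 * v i0 = 0
    ring
  have hI : I = univ := by
    by_contra hne
    obtain ⟨i, hiI, j, hjI, hij⟩ := hconn I ⟨i0, hi0⟩ hne
    have hui : u i = 0 := by
      have := hiI
      simp only [I, mem_filter, mem_univ, true_and] at this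
      exact this
    have huj : 0 < u j := by
      have h1 : u j ≠ 0 := by
        intro h
        apply hjI
        simp only [I, mem_filter, mem_univ, true_and]
        exact h
      exact lt_of_le_of_ne (hu0 j) (Ne.symm h1)
    have hne : i ≠ j := by
      rintro rfl
      exact hjI hiI
    have hAij : 0 < A i j := lt_of_le_of_ne (hA i j hne) (Ne.symm hij)
    have hnonneg : ∀ k ∈ (univ : Finset (Fin n)), 0 ≤ A i k * u k := by
      intro k _
      by_cases hk : k = i
      · rw [hk, hui, mul_zero]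
      · exact mul_nonneg (hA i k (Ne.symm hk)) (hu0 k)
    have h1 : A i j * u j ≤ ∑ k, A i k * u k :=
      Finset.single_le_sum hnonneg (mem_univ j)
    rw [hAu i] at h1
    have : 0 < A i j * u j := mul_pos hAij huj
    omega
  intro i
  have : i ∈ I := by rw [hI]; exact mem_univ i
  simp only [I, mem_filter, mem_univ, true_and] at this
  change v i0 * m i - m i0 * v i = 0 at this
  linarith

theorem exists_max {n : ℕ} (hn : 0 < n) (m v : Fin n → ℤ) (hm : ∀ i, 0 < m i) :
    ∃ i0, ∀ i, v i * m i0 ≤ v i0 * m i := by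
  have hne : (univ : Finset (Fin n)).Nonempty := ⟨⟨0, hn⟩, mem_univ _⟩
  obtain ⟨i0, -, h⟩ := Finset.exists_max_image univ (fun i => (v i : ℚ) / (m i : ℚ)) hne
  refine ⟨i0, fun i => ?_⟩
  have h1 := h i (mem_univ i)
  have hmi : (0 : ℚ) < m i := by exact_mod_cast hm i
  have hm0 : (0 : ℚ) < m i0 := by exact_mod_cast hm i0
  rw [div_le_div_iff₀ hmi hm0] at h1
  exact_mod_cast h1


theorem sum_identity {F : Type} [CommRing F] {n : ℕ} (c : Fin n → Fin n → F)
    (hc : ∀ i j, c i j = c j i) (hrow : ∀ i, ∑ j, c i j = 0) (w w' : Fin n → F) :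
    ∑ p ∈ univ.filter (fun p : Fin n × Fin n => p.1 < p.2),
        c p.1 p.2 * (w p.1 - w p.2) * (w' p.1 - w' p.2)
      = - ∑ i, ∑ j, c i j * w i * w' j := by
  let H : Fin n → Fin n → F := fun i j => c i j * (w i * w' i - w i * w' j)
  have h1 : ∀ p : Fin n × Fin n, c p.1 p.2 * (w p.1 - w p.2) * (w' p.1 - w' p.2)
      = H p.1 p.2 + H p.2 p.1 := by
    intro p
    change _ = c p.1 p.2 * (w p.1 * w' p.1 - w p.1 * w' p.2)
      + c p.2 p.1 * (w p.2 * w' p.2 - w p.2 * w' p.1)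
    rw [hc p.2 p.1]
    ring
  rw [Finset.sum_congr rfl (fun p _ => h1 p), Finset.sum_add_distrib, Finset.sum_filter,
    Finset.sum_filter]
  have h2 : ∑ p : Fin n × Fin n, (if p.1 < p.2 then H p.2 p.1 else 0)
      = ∑ p : Fin n × Fin n, (if p.2 < p.1 then H p.1 p.2 else 0) := by
    rw [← Equiv.sum_comp (Equiv.prodComm (Fin n) (Fin n))]
    rfl
  rw [h2, ← Finset.sum_add_distrib]
  have h3 : ∀ p : Fin n × Fin n, ((if p.1 < p.2 then H p.1 p.2 else 0)
      + (if p.2 < p.1 then H p.1 p.2 else 0)) = H p.1 p.2 := by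
    intro p
    rcases lt_trichotomy p.1 p.2 with h | h | h
    · rw [if_pos h, if_neg (not_lt.mpr (le_of_lt h)), add_zero]
    · rw [if_neg (by rw [h]; exact lt_irrefl _), if_neg (by rw [h]; exact lt_irrefl _), add_zero]
      change 0 = c p.1 p.2 * (w p.1 * w' p.1 - w p.1 * w' p.2)
      rw [h]; ring
    · rw [if_neg (not_lt.mpr (le_of_lt h)), if_pos h, zero_add]
  rw [Finset.sum_congr rfl (fun p _ => h3 p), Fintype.sum_prod_type]
  have h4 : ∀ i, ∑ j, H i j = - ∑ j, c i j * w i * w' j := by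
    intro i
    have : ∑ j, H i j = w i * w' i * ∑ j, c i j - ∑ j, c i j * w i * w' j := by
      rw [Finset.mul_sum, ← Finset.sum_sub_distrib]
      refine Finset.sum_congr rfl (fun j _ => ?_)
      change c i j * (w i * w' i - w i * w' j) = _
      ring
    rw [this, hrow i, mul_zero, zero_sub]
  rw [Finset.sum_congr rfl (fun i _ => h4 i), Finset.sum_neg_distrib]


section modl
variable {n : ℕ} (A : Matrix (Fin n) (Fin n) ℤ) (m : Fin n → ℤ) (ℓ : ℕ)

abbrev E : Type := {p : Fin n × Fin n // p.1 < p.2 ∧ 0 < A p.1 p.2}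

noncomputable def cc (i j : Fin n) : ZMod ℓ :=
  (A i j : ZMod ℓ) * (m i : ZMod ℓ) * (m j : ZMod ℓ)

noncomputable def dmap : (Fin n → ZMod ℓ) →ₗ[ZMod ℓ] (E A → ZMod ℓ) where
  toFun w := fun p => w p.1.1 - w p.1.2
  map_add' := by
    intro a b
    funext p
    simp only [Pi.add_apply]
    ring
  map_smul' := by
    intro c a
    funext p
    simp only [Pi.smul_apply, smul_eq_mul, RingHom.id_apply]
    ring

noncomputable def Bf : LinearMap.BilinForm (ZMod ℓ) (E A → ZMod ℓ) :=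
  LinearMap.mk₂ (ZMod ℓ) (fun f g => ∑ p : E A, cc A m ℓ p.1.1 p.1.2 * f p * g p)
    (by
      intro f f' g
      rw [← Finset.sum_add_distrib]
      refine Finset.sum_congr rfl (fun p _ => ?_)
      simp only [Pi.add_apply]
      ring)
    (by
      intro c f g
      rw [smul_eq_mul, Finset.mul_sum]
      refine Finset.sum_congr rfl (fun p _ => ?_)
      simp only [Pi.smul_apply, smul_eq_mul]
      ring)
    (by
      intro f g g'
      rw [← Finset.sum_add_distrib]
      refine Finset.sum_congr rfl (fun p _ => ?_)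
      simp only [Pi.add_apply]
      ring)
    (by
      intro c f g
      rw [smul_eq_mul, Finset.mul_sum]
      refine Finset.sum_congr rfl (fun p _ => ?_)
      simp only [Pi.smul_apply, smul_eq_mul]
      ring)

theorem Bf_apply (f g : E A → ZMod ℓ) :
    Bf A m ℓ f g = ∑ p : E A, cc A m ℓ p.1.1 p.1.2 * f p * g p := rfl

theorem Bf_dmap (hsymm : A.IsSymm) (hA : ∀ i j, i ≠ j → 0 ≤ A i j) (hAm : A.mulVec m = 0)
    (w w' : Fin n → ZMod ℓ) :
    Bf A m ℓ (dmap A ℓ w) (dmap A ℓ w') = - ∑ i, ∑ j, cc A m ℓ i j * w i * w' j := by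
  rw [Bf_apply]
  have hc : ∀ i j, cc A m ℓ i j = cc A m ℓ j i := by
    intro i j
    unfold cc
    rw [hsymm.apply i j]
    ring
  have hrow : ∀ i, ∑ j, cc A m ℓ i j = 0 := by
    intro i
    have h1 : ∑ k, A i k * m k = 0 := congrFun hAm i
    have h2 : ∑ j, cc A m ℓ i j = (m i : ZMod ℓ) * ((∑ k, A i k * m k : ℤ) : ZMod ℓ) := by
      rw [Int.cast_sum, Finset.mul_sum]
      refine Finset.sum_congr rfl (fun j _ => ?_)
      unfold cc
      rw [Int.cast_mul]
      ring
    rw [h2, h1, Int.cast_zero, mul_zero]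
  rw [← sum_identity (cc A m ℓ) hc hrow w w']
  have h1 : ∑ p : E A, cc A m ℓ p.1.1 p.1.2 * (dmap A ℓ w) p * (dmap A ℓ w') p
      = ∑ p ∈ univ.filter (fun p : Fin n × Fin n => p.1 < p.2 ∧ 0 < A p.1 p.2),
        cc A m ℓ p.1 p.2 * (w p.1 - w p.2) * (w' p.1 - w' p.2) := by
    rw [Finset.sum_subtype (p := fun p : Fin n × Fin n => p.1 < p.2 ∧ 0 < A p.1 p.2)
      (univ.filter (fun p : Fin n × Fin n => p.1 < p.2 ∧ 0 < A p.1 p.2))
      (fun x => by simp)
      (fun p => cc A m ℓ p.1 p.2 * (w p.1 - w p.2) * (w' p.1 - w' p.2))]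
    rfl
  rw [h1]
  apply Finset.sum_subset
  · intro p hp
    simp only [mem_filter, mem_univ, true_and] at hp ⊢
    exact hp.1
  · intro p hp hp'
    simp only [mem_filter, mem_univ, true_and] at hp hp'
    have h0 : A p.1 p.2 = 0 := by
      have h1 := hA p.1 p.2 (ne_of_lt hp)
      have h2 : ¬ 0 < A p.1 p.2 := fun h => hp' ⟨hp, h⟩
      omega
    unfold cc
    rw [h0, Int.cast_zero]
    ring


theorem cc_ne_zero [Fact ℓ.Prime] (hℓA : ∀ i j, A i j ≠ 0 → ¬ ((ℓ : ℤ) ∣ A i j))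
    (hℓm : ∀ i, ¬ ((ℓ : ℤ) ∣ m i)) (p : E A) : cc A m ℓ p.1.1 p.1.2 ≠ 0 := by
  unfold cc
  have h1 : (A p.1.1 p.1.2 : ZMod ℓ) ≠ 0 := by
    rw [Ne, ZMod.intCast_zmod_eq_zero_iff_dvd]
    exact hℓA _ _ (ne_of_gt p.2.2)
  have h2 : ∀ i, (m i : ZMod ℓ) ≠ 0 := by
    intro i
    rw [Ne, ZMod.intCast_zmod_eq_zero_iff_dvd]
    exact hℓm i
  exact mul_ne_zero (mul_ne_zero h1 (h2 _)) (h2 _)

theorem Bf_nondeg [Fact ℓ.Prime] (hℓA : ∀ i j, A i j ≠ 0 → ¬ ((ℓ : ℤ) ∣ A i j))
    (hℓm : ∀ i, ¬ ((ℓ : ℤ) ∣ m i)) : (Bf A m ℓ).Nondegenerate := by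
  classical
  have key : ∀ (f g : E A → ZMod ℓ) (p : E A), g = Pi.single p 1 →
      ∑ q : E A, cc A m ℓ q.1.1 q.1.2 * f q * g q = cc A m ℓ p.1.1 p.1.2 * f p := by
    intro f g p hg
    rw [Finset.sum_eq_single p]
    · rw [hg, Pi.single_eq_same, mul_one]
    · intro q _ hq
      rw [hg, Pi.single_eq_of_ne hq, mul_zero]
    · intro h
      exact absurd (mem_univ p) h
  constructor
  · intro f hf
    funext p
    have h1 := hf (Pi.single p 1)
    rw [Bf_apply, key f _ p rfl] at h1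
    exact (mul_eq_zero.mp h1).resolve_left (cc_ne_zero A m ℓ hℓA hℓm p)
  · intro g hg
    funext p
    have h1 := hg (Pi.single p 1)
    rw [Bf_apply] at h1
    have h2 : ∑ q : E A, cc A m ℓ q.1.1 q.1.2 * (Pi.single p 1 : E A → ZMod ℓ) q * g q
        = ∑ q : E A, cc A m ℓ q.1.1 q.1.2 * g q * (Pi.single p 1 : E A → ZMod ℓ) q := by
      refine Finset.sum_congr rfl (fun q _ => ?_)
      ring
    rw [h2, key g _ p rfl] at h1
    exact (mul_eq_zero.mp h1).resolve_left (cc_ne_zero A m ℓ hℓA hℓm p)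

theorem ker_dmap (hsymm : A.IsSymm) (hA : ∀ i j, i ≠ j → 0 ≤ A i j)
    (hconn : ∀ I : Finset (Fin n), I.Nonempty → I ≠ univ → ∃ i ∈ I, ∃ j ∉ I, A i j ≠ 0)
    (w : Fin n → ZMod ℓ) (hw : dmap A ℓ w = 0) (i0 : Fin n) : ∀ i, w i = w i0 := by
  classical
  let I : Finset (Fin n) := univ.filter (fun i => w i = w i0)
  have hi0 : i0 ∈ I := by simp [I]
  have hI : I = univ := by
    by_contra hne
    obtain ⟨i, hiI, j, hjI, hij⟩ := hconn I ⟨i0, hi0⟩ hne
    have hwi : w i = w i0 := by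
      have := hiI
      simp only [I, mem_filter, mem_univ, true_and] at this
      exact this
    have hne' : i ≠ j := by
      rintro rfl
      exact hjI hiI
    have hAij : 0 < A i j := lt_of_le_of_ne (hA i j hne') (Ne.symm hij)
    have hwij : w i = w j := by
      rcases lt_or_gt_of_ne hne' with h | h
      · have := congrFun hw (⟨(i, j), h, hAij⟩ : E A)
        change w i - w j = 0 at this
        exact sub_eq_zero.mp this
      · have hAji : 0 < A j i := by rw [hsymm.apply i j]; exact hAij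
        have := congrFun hw (⟨(j, i), h, hAji⟩ : E A)
        change w j - w i = 0 at this
        exact (sub_eq_zero.mp this).symm
    apply hjI
    simp only [I, mem_filter, mem_univ, true_and]
    rw [← hwij, hwi]
  intro i
  have : i ∈ I := by rw [hI]; exact mem_univ i
  simp only [I, mem_filter, mem_univ, true_and] at this
  exact this

theorem finrank_range_dmap [Fact ℓ.Prime] (hn : 0 < n) (hsymm : A.IsSymm)
    (hA : ∀ i j, i ≠ j → 0 ≤ A i j)
    (hconn : ∀ I : Finset (Fin n), I.Nonempty → I ≠ univ → ∃ i ∈ I, ∃ j ∉ I, A i j ≠ 0) :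
    Module.finrank (ZMod ℓ) (LinearMap.range (dmap A ℓ)) = n - 1 := by
  have h1 := LinearMap.finrank_range_add_finrank_ker (dmap A ℓ)
  rw [Module.finrank_fin_fun] at h1
  have hker : LinearMap.ker (dmap A ℓ) = Submodule.span (ZMod ℓ) {fun _ => (1 : ZMod ℓ)} := by
    apply le_antisymm
    · intro w hw
      rw [LinearMap.mem_ker] at hw
      rw [Submodule.mem_span_singleton]
      refine ⟨w ⟨0, hn⟩, ?_⟩
      funext i
      simp only [Pi.smul_apply, smul_eq_mul, mul_one]
      exact (ker_dmap A ℓ hsymm hA hconn w hw ⟨0, hn⟩ i).symm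
    · rw [Submodule.span_le]
      intro w hw
      rw [Set.mem_singleton_iff] at hw
      rw [hw, SetLike.mem_coe, LinearMap.mem_ker]
      funext p
      change (1 : ZMod ℓ) - 1 = 0
      ring
  have hone : (fun _ : Fin n => (1 : ZMod ℓ)) ≠ 0 := by
    intro h
    have := congrFun h ⟨0, hn⟩
    simp at this
  rw [hker, finrank_span_singleton hone] at h1
  omega

end modl


theorem main {n : ℕ} (A : Matrix (Fin n) (Fin n) ℤ)
    (m : Fin n → ℤ) (hsymm : A.IsSymm) (hA : ∀ i j, i ≠ j → 0 ≤ A i j) (hm : ∀ i, 0 < m i)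
    (hAm : A.mulVec m = 0)
    (hconn : ∀ I : Finset (Fin n), I.Nonempty → I ≠ univ → ∃ i ∈ I, ∃ j ∉ I, A i j ≠ 0)
    (ℓ : ℕ) (hℓ : ℓ.Prime) (hℓA : ∀ i j, A i j ≠ 0 → ¬ ((ℓ : ℤ) ∣ A i j))
    (hℓm : ∀ i, ¬ ((ℓ : ℤ) ∣ m i)) :
    Nat.card (Submodule.torsionBy ℤ ((Fin n → ℤ) ⧸ LinearMap.range (Matrix.mulVecLin A)) (ℓ : ℤ))
      ≤ ℓ ^ ((univ.filter fun p : Fin n × Fin n => p.1 < p.2 ∧ 0 < A p.1 p.2).card + 1 - n) := by
  classical
  have hfact : Fact ℓ.Prime := ⟨hℓ⟩
  rcases Nat.eq_zero_or_pos n with hn | hn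
  · subst hn
    have h1 : Subsingleton ((Fin 0 → ℤ) ⧸ LinearMap.range (Matrix.mulVecLin A)) := by
      constructor
      intro a b
      obtain ⟨x, rfl⟩ := Submodule.Quotient.mk_surjective _ a
      obtain ⟨y, rfl⟩ := Submodule.Quotient.mk_surjective _ b
      rw [Subsingleton.elim x y]
    have h2 : Subsingleton (Submodule.torsionBy ℤ
        ((Fin 0 → ℤ) ⧸ LinearMap.range (Matrix.mulVecLin A)) (ℓ : ℤ)) := inferInstance
    rw [Nat.card_of_subsingleton (0 : Submodule.torsionBy ℤ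
        ((Fin 0 → ℤ) ⧸ LinearMap.range (Matrix.mulVecLin A)) (ℓ : ℤ))]
    exact Nat.one_le_pow _ _ hℓ.pos
  have hmb : ∀ i, (m i : ZMod ℓ) ≠ 0 := by
    intro i
    rw [Ne, ZMod.intCast_zmod_eq_zero_iff_dvd]
    exact hℓm i
  have hrep : ∀ c : Submodule.torsionBy ℤ
      ((Fin n → ℤ) ⧸ LinearMap.range (Matrix.mulVecLin A)) (ℓ : ℤ),
      ∃ x y : Fin n → ℤ, (Submodule.Quotient.mk x : (Fin n → ℤ) ⧸ LinearMap.range
        (Matrix.mulVecLin A)) = c.1 ∧ A.mulVec y = (ℓ : ℤ) • x := by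
    intro c
    obtain ⟨x, hx⟩ := Submodule.Quotient.mk_surjective _ c.1
    have hc := c.2
    rw [Submodule.mem_torsionBy_iff, ← hx, ← Submodule.Quotient.mk_smul,
      Submodule.Quotient.mk_eq_zero] at hc
    obtain ⟨y, hy⟩ := hc
    exact ⟨x, y, hx, hy⟩
  choose xf yf hxf hyf using hrep
  let wf : Submodule.torsionBy ℤ ((Fin n → ℤ) ⧸ LinearMap.range (Matrix.mulVecLin A)) (ℓ : ℤ)
      → (Fin n → ZMod ℓ) := fun c i => (yf c i : ZMod ℓ) * ((m i : ZMod ℓ))⁻¹
  have horth : ∀ c, dmap A ℓ (wf c) ∈ (Bf A m ℓ).orthogonal (LinearMap.range (dmap A ℓ)) := by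
    intro c
    rw [LinearMap.BilinForm.mem_orthogonal_iff]
    rintro _ ⟨w', rfl⟩
    rw [Bf_dmap A m ℓ hsymm hA hAm, neg_eq_zero]
    apply Finset.sum_eq_zero
    intro i _
    have h1 : ∑ j, A i j * yf c j = (ℓ : ℤ) * xf c i := by
      have := congrFun (hyf c) i
      simpa [Matrix.mulVec, dotProduct] using this
    have h2 : ∑ j, cc A m ℓ i j * w' i * wf c j
        = (m i : ZMod ℓ) * w' i * ((∑ j, A i j * yf c j : ℤ) : ZMod ℓ) := by
      rw [Int.cast_sum, Finset.mul_sum]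
      refine Finset.sum_congr rfl (fun j _ => ?_)
      change cc A m ℓ i j * w' i * ((yf c j : ZMod ℓ) * ((m j : ZMod ℓ))⁻¹) = _
      unfold cc
      rw [Int.cast_mul]
      field_simp [hmb j]
    rw [h2, h1, Int.cast_mul]
    have : ((ℓ : ℤ) : ZMod ℓ) = 0 := by
      rw [Int.cast_natCast]; exact ZMod.natCast_self ℓ
    rw [this, zero_mul, mul_zero]
  let Ψ : Submodule.torsionBy ℤ ((Fin n → ℤ) ⧸ LinearMap.range (Matrix.mulVecLin A)) (ℓ : ℤ)
      → (Bf A m ℓ).orthogonal (LinearMap.range (dmap A ℓ)) := fun c => ⟨dmap A ℓ (wf c), horth c⟩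
  have hΨ : Function.Injective Ψ := by
    intro c c' hcc
    have h1 : dmap A ℓ (wf c) = dmap A ℓ (wf c') := congrArg Subtype.val hcc
    have h2 : dmap A ℓ (wf c - wf c') = 0 := by rw [map_sub, h1, sub_self]
    have h3 := ker_dmap A ℓ hsymm hA hconn _ h2 ⟨0, hn⟩
    obtain ⟨t, ht⟩ := ZMod.intCast_surjective ((wf c - wf c') ⟨0, hn⟩)
    have h4 : ∀ i, (ℓ : ℤ) ∣ yf c i - yf c' i - t * m i := by
      intro i
      rw [← ZMod.intCast_zmod_eq_zero_iff_dvd]
      push_cast
      have := h3 i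
      rw [← ht] at this
      change (yf c i : ZMod ℓ) * ((m i : ZMod ℓ))⁻¹ - (yf c' i : ZMod ℓ) * ((m i : ZMod ℓ))⁻¹
        = (t : ZMod ℓ) at this
      have hmi := hmb i
      field_simp at this
      linear_combination this
    choose z hz using h4
    have h5 : ∀ i, xf c i - xf c' i = ∑ j, A i j * z j := by
      intro i
      have e1 : ∑ j, A i j * yf c j = (ℓ : ℤ) * xf c i := by
        have := congrFun (hyf c) i
        simpa [Matrix.mulVec, dotProduct] using this
      have e2 : ∑ j, A i j * yf c' j = (ℓ : ℤ) * xf c' i := by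
        have := congrFun (hyf c') i
        simpa [Matrix.mulVec, dotProduct] using this
      have e3 : ∑ j, A i j * m j = 0 := congrFun hAm i
      have e4 : ∑ j, A i j * (yf c j - yf c' j) = t * ∑ j, A i j * m j
          + (ℓ : ℤ) * ∑ j, A i j * z j := by
        rw [Finset.mul_sum, Finset.mul_sum, ← Finset.sum_add_distrib]
        refine Finset.sum_congr rfl (fun j _ => ?_)
        have := hz j
        have h' : yf c j - yf c' j = t * m j + (ℓ : ℤ) * z j := by linarith
        rw [h']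
        ring
      have e5 : ∑ j, A i j * (yf c j - yf c' j) = (ℓ : ℤ) * xf c i - (ℓ : ℤ) * xf c' i := by
        rw [← e1, ← e2, ← Finset.sum_sub_distrib]
        refine Finset.sum_congr rfl (fun j _ => ?_)
        ring
      rw [e5, e3, mul_zero, zero_add] at e4
      have hℓ0 : (ℓ : ℤ) ≠ 0 := by exact_mod_cast hℓ.ne_zero
      have : (ℓ : ℤ) * (xf c i - xf c' i) = (ℓ : ℤ) * ∑ j, A i j * z j := by
        rw [← e4]; ring
      exact mul_left_cancel₀ hℓ0 this
    apply Subtype.ext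
    rw [← hxf c, ← hxf c', Submodule.Quotient.eq]
    refine ⟨z, ?_⟩
    funext i
    rw [Matrix.mulVecLin_apply]
    simp only [Matrix.mulVec, dotProduct, Pi.sub_apply]
    exact (h5 i).symm
  have hfin : Finite ((Bf A m ℓ).orthogonal (LinearMap.range (dmap A ℓ))) := inferInstance
  refine (Nat.card_le_card_of_injective Ψ hΨ).trans ?_
  have hFt : Fintype ((Bf A m ℓ).orthogonal (LinearMap.range (dmap A ℓ))) := Fintype.ofFinite _
  rw [Nat.card_eq_fintype_card, Module.card_eq_pow_finrank (K := ZMod ℓ), ZMod.card,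
    LinearMap.BilinForm.finrank_orthogonal (Bf_nondeg A m ℓ hℓA hℓm),
    finrank_range_dmap A ℓ hn hsymm hA hconn, Module.finrank_fintype_fun_eq_card,
    Fintype.card_subtype]
  apply Nat.pow_le_pow_right hℓ.pos
  omega


end


/-- Let A be a symmetric integer n by n matrix with non-negative off-diagonal entries killing an integer
vector m with positive entries, such that no proper non-empty index set is orthogonal to its
complement. Write e for the number of index pairs i < j where A i j > 0, and let l be a prime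
dividing none of the nonzero entries of A and none of the m i. Then the l-torsion subgroup of the
cokernel of A on Z^n has at most l^(1 - n + e) elements, i.e. F_l-dimension at most 1 - n + e (the
exponent is written with truncated subtraction; e + 1 is never smaller than n here). -/
theorem result {n : ℕ} (A : Matrix (Fin n) (Fin n) ℤ)
    (m : Fin n → ℤ) (hsymm : A.IsSymm) (hA : ∀ i j, i ≠ j → 0 ≤ A i j) (hm : ∀ i, 0 < m i)
    (hAm : A.mulVec m = 0)
    (hconn : ∀ I : Finset (Fin n), I.Nonempty → I ≠ univ → ∃ i ∈ I, ∃ j ∉ I, A i j ≠ 0)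
    (ℓ : ℕ) (hℓ : ℓ.Prime) (hℓA : ∀ i j, A i j ≠ 0 → ¬ ((ℓ : ℤ) ∣ A i j))
    (hℓm : ∀ i, ¬ ((ℓ : ℤ) ∣ m i)) :
    Nat.card (Submodule.torsionBy ℤ ((Fin n → ℤ) ⧸ LinearMap.range (Matrix.mulVecLin A)) (ℓ : ℤ))
      ≤ ℓ ^ ((univ.filter fun p : Fin n × Fin n => p.1 < p.2 ∧ 0 < A p.1 p.2).card + 1 - n) := by
  classical
  exact main A m hsymm hA hm hAm hconn ℓ hℓ hℓA hℓm

end Groth.Agent.S2172
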