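import Groth.Statements.S2173
import Mathlib

set_option autoImplicit false
open Finset
open Models Models.NumericalType

namespace Groth.Agent.S2173

theorem sum_symm_offdiag {n : ℕ} (f : Fin n → Fin n → ℤ) (hf : ∀ i j, f i j = f j i) :
    ∑ i, ∑ j, f i j = 2 * (∑ i, ∑ j, if i < j then f i j else 0) + ∑ i, f i i := by
  have h1 : ∀ i j, f i j = (if i < j then f i j else 0) + (if j < i then f i j else 0) +
      (if i = j then f i j else 0) := by
    intro i j
    rcases lt_trichotomy i j with h | h | h
    · simp [h, h.ne, not_lt_of_gt h]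
    · subst h; simp
    · simp [h, h.ne', not_lt_of_gt h]
  have h2 : ∑ i, ∑ j, (if j < i then f i j else 0) = ∑ i, ∑ j, (if i < j then f i j else 0) := by
    rw [Finset.sum_comm]
    refine Finset.sum_congr rfl fun i _ => Finset.sum_congr rfl fun j _ => ?_
    rw [hf j i]
  calc ∑ i, ∑ j, f i j
      = ∑ i, ∑ j, ((if i < j then f i j else 0) + (if j < i then f i j else 0) +
          (if i = j then f i j else 0)) :=
        Finset.sum_congr rfl fun i _ => Finset.sum_congr rfl fun j _ => h1 i j
    _ = (∑ i, ∑ j, (if i < j then f i j else 0)) + (∑ i, ∑ j, (if j < i then f i j else 0)) +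
          ∑ i, ∑ j, (if i = j then f i j else 0) := by
        simp only [Finset.sum_add_distrib]
    _ = 2 * (∑ i, ∑ j, if i < j then f i j else 0) + ∑ i, f i i := by
        rw [h2]
        have : ∀ i : Fin n, ∑ j, (if i = j then f i j else 0) = f i i := by
          intro i
          rw [Finset.sum_ite_eq]
          simp
        rw [Finset.sum_congr rfl fun i _ => this i]
        ring

/-- For a numerical type the sum over i of m i * a i i is even; equivalently the rational number 1 + sum
m_i (w_i (g_i - 1) - a_ii / 2) defining the genus is an integer. -/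
theorem result {n : ℕ} (T : Models.NumericalType n) : (2 : ℤ) ∣ ∑ i, T.m i * T.a i i := by
  classical
have hrow : ∀ i, ∑ j, T.a i j * T.m j = 0 := by
  intro i
  have := congrFun T.mulVec_m i
  simpa [Matrix.mulVec, dotProduct] using this
have h0 : ∑ i, ∑ j, T.m i * T.a i j * T.m j = 0 := by
  refine Finset.sum_eq_zero fun i _ => ?_
  have : ∑ j, T.m i * T.a i j * T.m j = T.m i * ∑ j, T.a i j * T.m j := by
    rw [Finset.mul_sum]
    exact Finset.sum_congr rfl fun j _ => by ring
  rw [this, hrow i, mul_zero]
have hs := sum_symm_offdiag (fun i j => T.m i * T.a i j * T.m j) (by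
  intro i j
  have := T.symm.apply i j
  show T.m i * T.a i j * T.m j = T.m j * T.a j i * T.m i
  rw [this]; ring)
rw [h0] at hs
have hsq : (2 : ℤ) ∣ ∑ i, T.m i * T.a i i * T.m i := by
  refine ⟨-(∑ i, ∑ j, if i < j then T.m i * T.a i j * T.m j else 0), ?_⟩
  have hs' : (0 : ℤ) = 2 * (∑ i, ∑ j, if i < j then T.m i * T.a i j * T.m j else 0) +
      ∑ i, T.m i * T.a i i * T.m i := hs
  linarith
have hdiff : (2 : ℤ) ∣ ∑ i, (T.m i * T.a i i * T.m i - T.m i * T.a i i) := by
  refine Finset.dvd_sum fun i _ => ?_
  have h2 : (2 : ℤ) ∣ T.m i * (T.m i - 1) := by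
    have := Int.even_mul_pred_self (T.m i)
    exact even_iff_two_dvd.mp this
  have : T.m i * T.a i i * T.m i - T.m i * T.a i i = T.a i i * (T.m i * (T.m i - 1)) := by ring
  rw [this]
  exact Dvd.dvd.mul_left h2 _
rw [Finset.sum_sub_distrib] at hdiff
have := (Int.dvd_sub hsq hdiff)
simpa using this

end Groth.Agent.S2173
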