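import Groth.Statements.S2175
import Mathlib
import Groth.Prelude.Def_Models
-- import your own Groth.Agent.* helpers here

set_option autoImplicit false
open Finset
open Models Models.NumericalType

namespace Groth.Agent.S2175

open Finset
namespace Aux

open Models Models.NumericalType

/-- per-index arithmetic -/
lemma per_index (W w b g : ℤ) (hW : 0 < W) (hw : 0 < w) (hb : 0 ≤ b) (hWb : W ∣ b) (hwb : w ∣ b)
    (hg : 0 ≤ g) (w' g' : ℤ)
    (hw' : w' = if 2 ∣ b / W ∧ ¬ 2 ∣ b / w then w / 2 else w)
    (hg' : g' = w / w' * (g - 1) + 1 + (b ^ 2 - W * b) / (2 * w' * W)) :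
    0 < w' ∧ w' ∣ w ∧ 0 ≤ g' ∧ 2 * (w' * (g' - 1)) = 2 * (w * (g - 1)) + b * (b / W - 1) := by
  obtain ⟨c, hc⟩ := hWb
  obtain ⟨d, hd⟩ := hwb
  have hcW : b / W = c := by rw [hc]; exact Int.mul_ediv_cancel_left c hW.ne'
  have hdw : b / w = d := by rw [hd]; exact Int.mul_ediv_cancel_left d hw.ne'
  rw [hcW] at hw' ⊢
  rw [hdw] at hw'
  have hc0 : 0 ≤ c := by
    by_contra h
    push Not at h
    have : W * c < 0 := mul_neg_of_pos_of_neg hW h
    omega
  have hd0 : 0 ≤ d := by
    by_contra h
    push Not at h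
    have : w * d < 0 := mul_neg_of_pos_of_neg hw h
    omega
  have hwd : w * d = W * c := by rw [← hd, ← hc]
  by_cases hcase : 2 ∣ c ∧ ¬ 2 ∣ d
  · rw [if_pos hcase] at hw'
    obtain ⟨⟨c2, hc2⟩, hdodd⟩ := hcase
    -- w is even
    have hweven : (2 : ℤ) ∣ w := by
      have h2 : (2 : ℤ) ∣ w * d := by rw [hwd, hc2]; exact ⟨W * c2, by ring⟩
      rcases Int.prime_two.dvd_or_dvd h2 with h | h
      · exact h
      · exact absurd h hdodd
    obtain ⟨w2, hw2⟩ := hweven
    have hw'2 : w' = w2 := by rw [hw', hw2]; exact Int.mul_ediv_cancel_left w2 (by norm_num)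
    have hw2pos : 0 < w2 := by omega
    have hquot : w / w' = 2 := by
      rw [hw'2, hw2, mul_comm]; exact Int.mul_ediv_cancel_left 2 hw2pos.ne'
    have hnum : b ^ 2 - W * b = (2 * w' * W) * (d * (c - 1)) := by
      rw [hw'2]
      have : b = 2 * w2 * d := by rw [hd, hw2]
      calc b ^ 2 - W * b = b * (b - W) := by ring
        _ = (2 * w2 * d) * (W * c - W) := by rw [← hc, ← this]
        _ = (2 * w2 * W) * (d * (c - 1)) := by ring
    have hdiv : (b ^ 2 - W * b) / (2 * w' * W) = d * (c - 1) := by
      rw [hnum]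
      apply Int.mul_ediv_cancel_left
      have : 0 < 2 * w' * W := by rw [hw'2]; positivity
      exact this.ne'
    rw [hquot, hdiv] at hg'
    have hd1 : 1 ≤ d := by
      rcases eq_or_lt_of_le hd0 with h | h
      · exfalso; apply hdodd; rw [← h]; exact dvd_zero _
      · omega
    have hc2' : 2 ≤ c := by
      have hbpos : 0 < b := by rw [hd]; positivity
      have : 0 < c := by
        rcases eq_or_lt_of_le hc0 with h | h
        · rw [← h, mul_zero] at hc; omega
        · exact h
      omega
    have hprod : 1 ≤ d * (c - 1) := by nlinarith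
    refine ⟨by omega, ⟨2, by rw [hw'2, hw2]; ring⟩, by omega, ?_⟩
    rw [hg', hw'2, hd, hw2]
    ring
  · rw [if_neg hcase] at hw'
    have hquot : w / w' = 1 := by rw [hw']; exact Int.ediv_self hw.ne'
    have heven : (2 : ℤ) ∣ d * (c - 1) := by
      by_cases h2c : (2 : ℤ) ∣ c
      · have : (2 : ℤ) ∣ d := by
          by_contra h
          exact hcase ⟨h2c, h⟩
        exact Dvd.dvd.mul_right this _
      · have : (2 : ℤ) ∣ c - 1 := by omega
        exact Dvd.dvd.mul_left this _
    obtain ⟨e, he⟩ := heven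
    have hnum : b ^ 2 - W * b = (2 * w' * W) * e := by
      rw [hw']
      calc b ^ 2 - W * b = b * (b - W) := by ring
        _ = (w * d) * (W * c - W) := by rw [← hc, ← hd]
        _ = (w * W) * (d * (c - 1)) := by ring
        _ = (w * W) * (2 * e) := by rw [he]
        _ = (2 * w * W) * e := by ring
    have hdiv : (b ^ 2 - W * b) / (2 * w' * W) = e := by
      rw [hnum]
      apply Int.mul_ediv_cancel_left
      have : 0 < 2 * w' * W := by rw [hw']; positivity
      exact this.ne'
    rw [hquot, hdiv] at hg'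
    have he0 : 0 ≤ e := by
      have : 0 ≤ d * (c - 1) := by
        rcases eq_or_lt_of_le hc0 with h | h
        · have hb0 : b = 0 := by rw [hc, ← h, mul_zero]
          have : d = 0 := by
            rw [hb0] at hd
            rcases mul_eq_zero.mp hd.symm with h' | h'
            · omega
            · exact h'
          rw [this, zero_mul]
        · apply mul_nonneg hd0; omega
      omega
    refine ⟨by omega, ⟨1, by rw [hw']; ring⟩, by omega, ?_⟩
    rw [hg', hw']
    have : b * (c - 1) = w * (2 * e) := by rw [← he, hd]; ring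
    rw [this]
    ring


section
variable {n : ℕ} (T : Models.NumericalType (n + 1))

lemma b_nonneg (i : Fin n) : 0 ≤ T.a i.castSucc (Fin.last n) :=
  T.offDiag_nonneg _ _ (Fin.castSucc_lt_last i).ne

lemma W_dvd_b (i : Fin n) : T.w (Fin.last n) ∣ T.a i.castSucc (Fin.last n) := by
  have := T.w_dvd (Fin.last n) i.castSucc
  rwa [T.symm.apply] at this

lemma sum_l : ∑ i : Fin n, T.a i.castSucc (Fin.last n) * T.m i.castSucc =
    - T.a (Fin.last n) (Fin.last n) * T.m (Fin.last n) := by
  have h := congrFun T.mulVec_m (Fin.last n)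
  simp only [Matrix.mulVec, dotProduct, Pi.zero_apply] at h
  rw [Fin.sum_univ_castSucc] at h
  have h2 : ∀ i : Fin n, T.a (Fin.last n) i.castSucc = T.a i.castSucc (Fin.last n) :=
    fun i => T.symm.apply _ _
  simp only [h2] at h
  linarith

lemma sum_i (i : Fin n) : ∑ j : Fin n, T.a i.castSucc j.castSucc * T.m j.castSucc =
    - T.a i.castSucc (Fin.last n) * T.m (Fin.last n) := by
  have h := congrFun T.mulVec_m i.castSucc
  simp only [Matrix.mulVec, dotProduct, Pi.zero_apply] at h
  rw [Fin.sum_univ_castSucc] at h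
  linarith

lemma n_pos (h : T.IsMinusOne (Fin.last n)) : 0 < n := by
  rcases Nat.eq_zero_or_pos n with rfl | hn
  · exfalso
    have h1 := sum_l T
    simp only [univ_eq_empty, sum_empty] at h1
    rw [h.2] at h1
    have hW := T.w_pos (Fin.last 0)
    have hM := T.m_pos (Fin.last 0)
    have : 0 < T.w (Fin.last 0) * T.m (Fin.last 0) := mul_pos hW hM
    simp only [neg_neg] at h1
    omega
  · exact hn

/-- the contracted intersection numbers -/
lemma a'_eq (h : T.IsMinusOne (Fin.last n)) (i j : Fin n) :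
    T.a i.castSucc j.castSucc -
      T.a i.castSucc (Fin.last n) * T.a j.castSucc (Fin.last n) / T.a (Fin.last n) (Fin.last n) =
    T.a i.castSucc j.castSucc +
      T.a i.castSucc (Fin.last n) / T.w (Fin.last n) * T.a j.castSucc (Fin.last n) := by
  have hW := T.w_pos (Fin.last n)
  obtain ⟨c, hc⟩ := W_dvd_b T i
  rw [h.2, Int.ediv_neg, hc, Int.mul_ediv_cancel_left c hW.ne', mul_assoc,
    Int.mul_ediv_cancel_left _ hW.ne']
  ring

end

section
variable {n : ℕ} (T : Models.NumericalType (n + 1))

/-- contracted weights -/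
noncomputable def w' (i : Fin n) : ℤ :=
  if 2 ∣ T.a i.castSucc (Fin.last n) / T.w (Fin.last n) ∧
      ¬ 2 ∣ T.a i.castSucc (Fin.last n) / T.w i.castSucc
  then T.w i.castSucc / 2 else T.w i.castSucc

/-- contracted genera -/
noncomputable def g' (i : Fin n) : ℤ :=
  T.w i.castSucc / w' T i * (T.g i.castSucc - 1) + 1 +
      (T.a i.castSucc (Fin.last n) ^ 2 - T.w (Fin.last n) * T.a i.castSucc (Fin.last n)) /
        (2 * w' T i * T.w (Fin.last n))

lemma per (i : Fin n) :
    0 < w' T i ∧ w' T i ∣ T.w i.castSucc ∧ 0 ≤ g' T i ∧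
      2 * (w' T i * (g' T i - 1)) = 2 * (T.w i.castSucc * (T.g i.castSucc - 1)) +
        T.a i.castSucc (Fin.last n) * (T.a i.castSucc (Fin.last n) / T.w (Fin.last n) - 1) :=
  per_index (T.w (Fin.last n)) (T.w i.castSucc) (T.a i.castSucc (Fin.last n)) (T.g i.castSucc)
    (T.w_pos _) (T.w_pos _) (b_nonneg T i) (W_dvd_b T i) (T.w_dvd _ _) (T.g_nonneg _)
    (w' T i) (g' T i) rfl rfl

lemma c_nonneg (i : Fin n) : 0 ≤ T.a i.castSucc (Fin.last n) / T.w (Fin.last n) :=
  Int.ediv_nonneg (b_nonneg T i) (T.w_pos _).le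

lemma c_pos_of_b_ne (i : Fin n) (hb : T.a i.castSucc (Fin.last n) ≠ 0) :
    0 < T.a i.castSucc (Fin.last n) / T.w (Fin.last n) := by
  obtain ⟨c, hc⟩ := W_dvd_b T i
  have hW := T.w_pos (Fin.last n)
  rw [hc, Int.mul_ediv_cancel_left c hW.ne']
  have h0 := b_nonneg T i
  rw [hc] at hb h0
  rcases lt_trichotomy c 0 with h | h | h
  · have := mul_neg_of_pos_of_neg hW h; omega
  · rw [h, mul_zero] at hb; exact absurd rfl hb
  · exact h

theorem exists_T' (h : T.IsMinusOne (Fin.last n)) :
    ∃ T' : Models.NumericalType n, T.IsContraction T' := by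
  have hW := T.w_pos (Fin.last n)
  let a'' : Matrix (Fin n) (Fin n) ℤ := fun i j =>
    T.a i.castSucc j.castSucc -
      T.a i.castSucc (Fin.last n) * T.a j.castSucc (Fin.last n) / T.a (Fin.last n) (Fin.last n)
  have ha'' : ∀ i j, a'' i j = T.a i.castSucc j.castSucc +
      T.a i.castSucc (Fin.last n) / T.w (Fin.last n) * T.a j.castSucc (Fin.last n) :=
    fun i j => a'_eq T h i j
  have hge : ∀ i j, i ≠ j → T.a i.castSucc j.castSucc ≤ a'' i j := by
    intro i j _
    rw [ha'']
    have := mul_nonneg (c_nonneg T i) (b_nonneg T j)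
    linarith
  have hoff : ∀ i j : Fin n, i ≠ j → 0 ≤ T.a i.castSucc j.castSucc := fun i j hij =>
    T.offDiag_nonneg _ _ (fun h => hij (Fin.castSucc_injective _ h))
  refine ⟨{ m := fun i => T.m i.castSucc
            a := a''
            w := w' T
            g := g' T
            pos := n_pos T h
            m_pos := fun i => T.m_pos _
            w_pos := fun i => (per T i).1
            g_nonneg := fun i => (per T i).2.2.1
            symm := ?_
            offDiag_nonneg := ?_
            connected := ?_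
            mulVec_m := ?_
            w_dvd := ?_ }, ?_⟩
  · -- symm
    apply Matrix.IsSymm.ext
    intro i j
    show a'' j i = a'' i j
    simp only [a'']
    rw [T.symm.apply j.castSucc i.castSucc, mul_comm]
  · -- offdiag
    intro i j hij
    exact le_trans (hoff i j hij) (hge i j hij)
  · -- connected
    intro I hI hIne
    classical
    -- first application
    let I1 : Finset (Fin (n + 1)) := I.map Fin.castSuccEmb
    have hI1 : I1.Nonempty := hI.map
    have hlast1 : Fin.last n ∉ I1 := by
      intro hmem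
      obtain ⟨i, _, hi⟩ := Finset.mem_map.mp hmem
      exact (Fin.castSucc_lt_last i).ne hi
    have hI1ne : I1 ≠ univ := fun h => hlast1 (h ▸ Finset.mem_univ _)
    obtain ⟨x, hx, y, hy, hxy⟩ := T.connected I1 hI1 hI1ne
    obtain ⟨i, hiI, rfl⟩ := Finset.mem_map.mp hx
    have key : ∀ i ∈ I, ∀ j ∉ I, T.a (Fin.castSucc i) (Fin.castSucc j) ≠ 0 → a'' i j ≠ 0 := by
      intro i hi j hj hne
      have hij : i ≠ j := fun h => hj (h ▸ hi)
      have h1 := hoff i j hij
      have h2 := hge i j hij
      intro h0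
      omega
    rcases Fin.eq_castSucc_or_eq_last y with ⟨j, rfl⟩ | rfl
    · have hjI : j ∉ I := fun hj => hy (Finset.mem_map.mpr ⟨j, hj, rfl⟩)
      exact ⟨i, hiI, j, hjI, key i hiI j hjI hxy⟩
    · -- b i ≠ 0
      have hbi : T.a (Fin.castSucc i) (Fin.last n) ≠ 0 := hxy
      have hci := c_pos_of_b_ne T i hbi
      let I2 : Finset (Fin (n + 1)) := insert (Fin.last n) I1
      have hI2 : I2.Nonempty := Finset.insert_nonempty _ _
      obtain ⟨j0, hj0⟩ : ∃ j0, j0 ∉ I := by
        by_contra hall
        push Not at hall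
        exact hIne (Finset.eq_univ_iff_forall.mpr hall)
      have hI2ne : I2 ≠ univ := by
        intro h
        have : Fin.castSucc j0 ∈ I2 := h ▸ Finset.mem_univ _
        rcases Finset.mem_insert.mp this with h' | h'
        · exact (Fin.castSucc_lt_last j0).ne h'
        · obtain ⟨j, hj, hjeq⟩ := Finset.mem_map.mp h'
          exact hj0 (Fin.castSucc_injective _ hjeq ▸ hj)
      obtain ⟨x', hx', y', hy', hxy'⟩ := T.connected I2 hI2 hI2ne
      have hy'last : y' ≠ Fin.last n := fun h => hy' (h ▸ Finset.mem_insert_self _ _)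
      rcases Fin.eq_castSucc_or_eq_last y' with ⟨j', rfl⟩ | rfl
      swap
      · exact absurd rfl hy'last
      have hj'I : j' ∉ I := fun hj =>
        hy' (Finset.mem_insert_of_mem (Finset.mem_map.mpr ⟨j', hj, rfl⟩))
      rcases Finset.mem_insert.mp hx' with rfl | hx''
      · -- x' = last
        have hbj' : T.a (Fin.castSucc j') (Fin.last n) ≠ 0 := by
          rw [T.symm.apply]; exact hxy'
        have hbj'pos : 0 < T.a (Fin.castSucc j') (Fin.last n) :=
          lt_of_le_of_ne (b_nonneg T j') (Ne.symm hbj')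
        refine ⟨i, hiI, j', hj'I, ?_⟩
        rw [ha'']
        have hij : i ≠ j' := fun h => hj'I (h ▸ hiI)
        have h1 := hoff i j' hij
        have h2 := mul_pos hci hbj'pos
        intro h0
        omega
      · obtain ⟨i', hi'I, rfl⟩ := Finset.mem_map.mp hx''
        exact ⟨i', hi'I, j', hj'I, key i' hi'I j' hj'I hxy'⟩
  · -- mulVec
    funext i
    simp only [Matrix.mulVec, dotProduct, Pi.zero_apply]
    have h1 : ∀ j, a'' i j * T.m j.castSucc = T.a i.castSucc j.castSucc * T.m j.castSucc +
        T.a i.castSucc (Fin.last n) / T.w (Fin.last n) *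
          (T.a j.castSucc (Fin.last n) * T.m j.castSucc) := by
      intro j; rw [ha'']; ring
    simp only [h1]
    rw [Finset.sum_add_distrib, ← Finset.mul_sum, sum_i, sum_l, h.2]
    obtain ⟨c, hc⟩ := W_dvd_b T i
    rw [hc, Int.mul_ediv_cancel_left c hW.ne']
    ring
  · -- w_dvd
    intro i j
    show w' T i ∣ a'' i j
    apply dvd_trans (per T i).2.1
    rw [ha'']
    apply dvd_add (T.w_dvd _ _)
    -- w_i ∣ c_i * b_j = b_i * c_j
    obtain ⟨c, hc⟩ := W_dvd_b T i
    obtain ⟨c2, hc2⟩ := W_dvd_b T j
    rw [hc, Int.mul_ediv_cancel_left c hW.ne', hc2]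
    have : c * (T.w (Fin.last n) * c2) = T.a i.castSucc (Fin.last n) * c2 := by rw [hc]; ring
    rw [this]
    exact Dvd.dvd.mul_right (T.w_dvd _ _) _
  · -- IsContraction
    exact ⟨fun i => rfl, fun i j => rfl, fun i => rfl, fun i => rfl⟩

end

section
variable {n : ℕ} (T : Models.NumericalType (n + 1))

theorem genus_eq (h : T.IsMinusOne (Fin.last n)) (T' : Models.NumericalType n)
    (hT' : T.IsContraction T') : T'.genus = T.genus := by
  have hW := T.w_pos (Fin.last n)
  obtain ⟨hm, ha, hw, hg⟩ := hT'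
  have hw2 : ∀ i, T'.w i = w' T i := hw
  have hg2 : ∀ i, T'.g i = g' T i := by
    intro i
    rw [hg i, hw2 i]
    rfl
  have ha2 : ∀ i, T'.a i i = T.a i.castSucc i.castSucc +
      T.a i.castSucc (Fin.last n) / T.w (Fin.last n) * T.a i.castSucc (Fin.last n) := by
    intro i
    rw [ha i i, a'_eq T h i i]
  unfold Models.NumericalType.genus
  rw [Fin.sum_univ_castSucc (f := fun i => T.m i * T.w i * (T.g i - 1)),
    Fin.sum_univ_castSucc (f := fun i => T.m i * T.a i i), h.1, h.2]
  simp only [hm, hw2, hg2, ha2]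
  -- name the sums
  set P0 := ∑ i : Fin n, T.m i.castSucc * T.w i.castSucc * (T.g i.castSucc - 1) with hP0
  set Q0 := ∑ i : Fin n, T.m i.castSucc * T.a i.castSucc i.castSucc with hQ0
  set S := ∑ i : Fin n, T.m i.castSucc *
    (T.a i.castSucc (Fin.last n) / T.w (Fin.last n) * T.a i.castSucc (Fin.last n)) with hS
  set P' := ∑ i : Fin n, T.m i.castSucc * w' T i * (g' T i - 1) with hP'
  have hQ' : ∑ i : Fin n, T.m i.castSucc * (T.a i.castSucc i.castSucc +
      T.a i.castSucc (Fin.last n) / T.w (Fin.last n) * T.a i.castSucc (Fin.last n)) = Q0 + S := by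
    rw [hQ0, hS, ← Finset.sum_add_distrib]
    apply Finset.sum_congr rfl
    intro i _
    ring
  rw [hQ']
  have hsl := sum_l T
  rw [h.2, neg_neg] at hsl
  have hP'2 : 2 * P' = 2 * P0 + S - T.w (Fin.last n) * T.m (Fin.last n) := by
    rw [← hsl, hP', hP0, hS, Finset.mul_sum, Finset.mul_sum, ← Finset.sum_add_distrib,
      ← Finset.sum_sub_distrib]
    apply Finset.sum_congr rfl
    intro i _
    have := (per T i).2.2.2
    have e1 : 2 * (T.m i.castSucc * w' T i * (g' T i - 1)) =
        T.m i.castSucc * (2 * (w' T i * (g' T i - 1))) := by ring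
    rw [e1, this]
    ring
  have e2 : T.m (Fin.last n) * T.w (Fin.last n) * (0 - 1) =
      - (T.w (Fin.last n) * T.m (Fin.last n)) := by ring
  have e3 : T.m (Fin.last n) * -T.w (Fin.last n) =
      - (T.w (Fin.last n) * T.m (Fin.last n)) := by ring
  rw [e2, e3]
  generalize T.w (Fin.last n) * T.m (Fin.last n) = WM at *
  omega

end

end Aux

/-- Let T be a numerical type on n + 1 indices whose last index is a (-1)-index. Then the contracted
data (same multiplicities, a i j - a i l a j l / a l l, the halved-or-not w i, and the adjusted g i,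
l the last index) is again a numerical type on n indices, and any such contraction has the same
genus as T. -/
theorem result {n : ℕ} (T : Models.NumericalType (n + 1)) (h : T.IsMinusOne (Fin.last n)) :
    (∃ T' : Models.NumericalType n, T.IsContraction T') ∧
      ∀ T' : Models.NumericalType n, T.IsContraction T' → T'.genus = T.genus := by
  exact ⟨Aux.exists_T' T h, fun T' hT' => Aux.genus_eq T h T' hT'⟩

end Groth.Agent.S2175
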