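import Groth.Statements.S2179
import Mathlib
import Groth.Agent.Lib.Lead.NumType3

set_option autoImplicit false
open Finset
open Models Models.NumericalType

namespace Groth.Agent.S2179

/-- For a numerical type T, the map Z^n -> Z^n multiplying the i-th coordinate by w i induces a
well-defined injective homomorphism from Pic(T), the cokernel of (a i j / w i), to the cokernel of
the matrix a. -/
theorem result {n : ℕ} (T : Models.NumericalType n) :
    ∃ f : T.Pic →+ T.CokerA, Function.Injective f ∧
      ∀ x : Fin n → ℤ, f (Submodule.Quotient.mk x) = Submodule.Quotient.mk (fun i => T.w i * x i) := by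
  classical
let D : (Fin n → ℤ) →ₗ[ℤ] (Fin n → ℤ) :=
  { toFun := fun x i => T.w i * x i
    map_add' := by intro x y; funext i; simp [mul_add]
    map_smul' := by intro c x; funext i; simp; ring }
have hkey : ∀ y : Fin n → ℤ, D (T.picMatrix.mulVec y) = T.a.mulVec y := by
  intro y
  funext i
  show T.w i * (T.picMatrix.mulVec y) i = (T.a.mulVec y) i
  simp only [Matrix.mulVec, dotProduct, Finset.mul_sum]
  refine Finset.sum_congr rfl fun j _ => ?_
  unfold Models.NumericalType.picMatrix
  rw [← mul_assoc, Int.mul_ediv_cancel' (T.w_dvd i j)]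
have hle : LinearMap.range (Matrix.mulVecLin T.picMatrix) ≤
    (LinearMap.range (Matrix.mulVecLin T.a)).comap D := by
  rintro _ ⟨y, rfl⟩
  rw [Submodule.mem_comap, Matrix.mulVecLin_apply, hkey]
  exact ⟨y, rfl⟩
refine ⟨(Submodule.mapQ _ _ D hle).toAddMonoidHom, ?_, ?_⟩
· rw [← AddMonoidHom.ker_eq_bot_iff, AddSubgroup.eq_bot_iff_forall]
  intro x hx
  induction x using Submodule.Quotient.induction_on with
  | H x =>
    rw [AddMonoidHom.mem_ker] at hx
    have hx' : Submodule.Quotient.mk (D x) =
        (0 : (Fin n → ℤ) ⧸ LinearMap.range (Matrix.mulVecLin T.a)) := hx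
    rw [Submodule.Quotient.mk_eq_zero] at hx'
    obtain ⟨y, hy⟩ := hx'
    rw [Submodule.Quotient.mk_eq_zero]
    refine ⟨y, ?_⟩
    rw [Matrix.mulVecLin_apply] at hy ⊢
    rw [← hkey] at hy
    funext i
    have := congrFun hy i
    have hw := T.w_pos i
    have h2 : T.w i * (T.picMatrix.mulVec y) i = T.w i * x i := this
    exact mul_left_cancel₀ hw.ne' h2
· intro x
  rfl

end Groth.Agent.S2179
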