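import Groth.Statements.S2180
import Mathlib
import Groth.Prelude.Def_Models
-- import your own Groth.Agent.* helpers here

set_option autoImplicit false
open Finset
open Models Models.NumericalType

namespace Groth.Agent.S2180

open Finset
namespace Aux

open Models Models.NumericalType

section
variable {n : ℕ} (T : Models.NumericalType (n + 1))

lemma b_nonneg (i : Fin n) : 0 ≤ T.a i.castSucc (Fin.last n) :=
  T.offDiag_nonneg _ _ (Fin.castSucc_lt_last i).ne

lemma W_dvd_b (i : Fin n) : T.w (Fin.last n) ∣ T.a i.castSucc (Fin.last n) := by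
  have := T.w_dvd (Fin.last n) i.castSucc
  rwa [T.symm.apply] at this

lemma a'_eq (h : T.IsMinusOne (Fin.last n)) (i j : Fin n) :
    T.a i.castSucc j.castSucc -
      T.a i.castSucc (Fin.last n) * T.a j.castSucc (Fin.last n) / T.a (Fin.last n) (Fin.last n) =
    T.a i.castSucc j.castSucc +
      T.a i.castSucc (Fin.last n) * (T.a j.castSucc (Fin.last n) / T.w (Fin.last n)) := by
  have hW := T.w_pos (Fin.last n)
  obtain ⟨c, hc⟩ := W_dvd_b T j
  rw [h.2, Int.ediv_neg, hc, Int.mul_ediv_cancel_left c hW.ne',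
    show T.a i.castSucc (Fin.last n) * (T.w (Fin.last n) * c) =
      T.w (Fin.last n) * (T.a i.castSucc (Fin.last n) * c) by ring,
    Int.mul_ediv_cancel_left _ hW.ne']
  ring

/-- the contracted weight is `w` or `w / 2` (with `w` even) -/
lemma w'_cases (i : Fin n) (w' : ℤ)
    (hw' : w' = if 2 ∣ T.a i.castSucc (Fin.last n) / T.w (Fin.last n) ∧
      ¬ 2 ∣ T.a i.castSucc (Fin.last n) / T.w i.castSucc
      then T.w i.castSucc / 2 else T.w i.castSucc) :
    w' = T.w i.castSucc ∨ T.w i.castSucc = 2 * w' := by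
  have hW := T.w_pos (Fin.last n)
  have hw := T.w_pos i.castSucc
  by_cases hcase : 2 ∣ T.a i.castSucc (Fin.last n) / T.w (Fin.last n) ∧
      ¬ 2 ∣ T.a i.castSucc (Fin.last n) / T.w i.castSucc
  · right
    rw [if_pos hcase] at hw'
    obtain ⟨c, hc⟩ := W_dvd_b T i
    obtain ⟨d, hd⟩ := T.w_dvd i.castSucc (Fin.last n)
    have hcW : T.a i.castSucc (Fin.last n) / T.w (Fin.last n) = c := by
      rw [hc]; exact Int.mul_ediv_cancel_left c hW.ne'
    have hdw : T.a i.castSucc (Fin.last n) / T.w i.castSucc = d := by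
      rw [hd]; exact Int.mul_ediv_cancel_left d hw.ne'
    rw [hcW, hdw] at hcase
    obtain ⟨⟨c2, hc2⟩, hdodd⟩ := hcase
    have hweven : (2 : ℤ) ∣ T.w i.castSucc := by
      have h2 : (2 : ℤ) ∣ T.w i.castSucc * d := by
        rw [← hd, hc, hc2]; exact ⟨T.w (Fin.last n) * c2, by ring⟩
      rcases Int.prime_two.dvd_or_dvd h2 with h | h
      · exact h
      · exact absurd h hdodd
    obtain ⟨w2, hw2⟩ := hweven
    rw [hw', hw2, Int.mul_ediv_cancel_left w2 (by norm_num)]
  · left
    rw [if_neg hcase] at hw'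
    exact hw'

/-- the map on degree vectors -/
noncomputable def phi (T' : Models.NumericalType n) : (Fin (n + 1) → ℤ) →ₗ[ℤ] (Fin n → ℤ) where
  toFun v i := T.w i.castSucc / T'.w i *
    (v i.castSucc + T.a i.castSucc (Fin.last n) / T.w i.castSucc * v (Fin.last n))
  map_add' u v := by
    funext i
    simp only [Pi.add_apply]
    ring
  map_smul' c v := by
    funext i
    simp only [Pi.smul_apply, smul_eq_mul, RingHom.id_apply]
    ring

variable {T}

theorem main (h : T.IsMinusOne (Fin.last n))
    (T' : Models.NumericalType n) (hT' : T.IsContraction T') :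
    ∃ f : T.Pic →+ T'.Pic, Function.Injective f ∧ ∀ y : T'.Pic, ∃ x : T.Pic, 2 • y = f x := by
  have hW := T.w_pos (Fin.last n)
  obtain ⟨hm, ha, hw, hg⟩ := hT'
  -- r_i
  have hr : ∀ i, T.w i.castSucc / T'.w i = 1 ∧ T'.w i = T.w i.castSucc ∨
      T.w i.castSucc / T'.w i = 2 ∧ T.w i.castSucc = 2 * T'.w i := by
    intro i
    have hpos := T'.w_pos i
    rcases w'_cases T i (T'.w i) (hw i) with h1 | h1
    · left
      exact ⟨by rw [h1]; exact Int.ediv_self (T.w_pos _).ne', h1⟩
    · right
      refine ⟨?_, h1⟩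
      rw [h1, mul_comm]
      exact Int.mul_ediv_cancel_left 2 hpos.ne'
  have hwr : ∀ i, T.w i.castSucc = T'.w i * (T.w i.castSucc / T'.w i) := by
    intro i
    rcases hr i with ⟨h1, h2⟩ | ⟨h1, h2⟩
    · rw [h1, h2, mul_one]
    · rw [h1, h2]; ring
  -- entries of the Picard matrices
  have hP' : ∀ i j, T'.picMatrix i j = T.w i.castSucc / T'.w i *
      (T.picMatrix i.castSucc j.castSucc +
        T.a i.castSucc (Fin.last n) / T.w i.castSucc * T.picMatrix (Fin.last n) j.castSucc) := by
    intro i j
    unfold Models.NumericalType.picMatrix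
    rw [ha i j, a'_eq T h i j]
    obtain ⟨P, hPe⟩ := T.w_dvd i.castSucc j.castSucc
    obtain ⟨d, hd⟩ := T.w_dvd i.castSucc (Fin.last n)
    have hw0 := (T.w_pos i.castSucc).ne'
    rw [T.symm.apply j.castSucc (Fin.last n)]
    rw [hPe, Int.mul_ediv_cancel_left P hw0]
    have e1 : T.a i.castSucc (Fin.last n) / T.w i.castSucc = d := by
      rw [hd]; exact Int.mul_ediv_cancel_left d hw0
    rw [e1]
    have e2 : T.w i.castSucc * P + T.a i.castSucc (Fin.last n) *
        (T.a j.castSucc (Fin.last n) / T.w (Fin.last n)) =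
        T'.w i * (T.w i.castSucc / T'.w i *
          (P + d * (T.a j.castSucc (Fin.last n) / T.w (Fin.last n)))) := by
      rw [hd]
      conv_lhs => rw [hwr i]
      ring
    rw [e2, Int.mul_ediv_cancel_left _ (T'.w_pos i).ne']
  have hPil : ∀ i : Fin n, T.picMatrix i.castSucc (Fin.last n) =
      T.a i.castSucc (Fin.last n) / T.w i.castSucc := fun i => rfl
  have hPll : T.picMatrix (Fin.last n) (Fin.last n) = -1 := by
    unfold Models.NumericalType.picMatrix
    rw [h.2, Int.neg_ediv_of_dvd (dvd_refl _), Int.ediv_self hW.ne']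
  -- φ ∘ P = P' ∘ restriction
  have hcomm : ∀ z : Fin (n + 1) → ℤ,
      phi T T' (T.picMatrix.mulVec z) = T'.picMatrix.mulVec (fun j => z j.castSucc) := by
    intro z
    funext i
    simp only [phi, LinearMap.coe_mk, AddHom.coe_mk, Matrix.mulVec, dotProduct]
    rw [Fin.sum_univ_castSucc (f := fun j => T.picMatrix i.castSucc j * z j),
      Fin.sum_univ_castSucc (f := fun j => T.picMatrix (Fin.last n) j * z j), hPil, hPll]
    simp only [hP']
    have hrhs : ∑ x : Fin n, T.w i.castSucc / T'.w i *
          (T.picMatrix i.castSucc x.castSucc +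
            T.a i.castSucc (Fin.last n) / T.w i.castSucc * T.picMatrix (Fin.last n) x.castSucc) *
        z x.castSucc =
        T.w i.castSucc / T'.w i * (∑ x : Fin n, T.picMatrix i.castSucc x.castSucc * z x.castSucc) +
        T.w i.castSucc / T'.w i * (T.a i.castSucc (Fin.last n) / T.w i.castSucc) *
          (∑ x : Fin n, T.picMatrix (Fin.last n) x.castSucc * z x.castSucc) := by
      rw [Finset.mul_sum, Finset.mul_sum, ← Finset.sum_add_distrib]
      apply Finset.sum_congr rfl
      intro x _
      ring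
    rw [hrhs]
    ring
  have hle : LinearMap.range (Matrix.mulVecLin T.picMatrix) ≤
      Submodule.comap (phi T T') (LinearMap.range (Matrix.mulVecLin T'.picMatrix)) := by
    rintro _ ⟨z, rfl⟩
    rw [Submodule.mem_comap, Matrix.mulVecLin_apply, hcomm]
    exact ⟨_, rfl⟩
  refine ⟨(Submodule.mapQ _ _ (phi T T') hle).toAddMonoidHom, ?_, ?_⟩
  · -- injective
    rw [injective_iff_map_eq_zero]
    intro x hx
    obtain ⟨v, rfl⟩ := Submodule.Quotient.mk_surjective _ x
    rw [LinearMap.toAddMonoidHom_coe, Submodule.mapQ_apply, Submodule.Quotient.mk_eq_zero] at hx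
    rw [Submodule.Quotient.mk_eq_zero]
    obtain ⟨z', hz'⟩ := hx
    -- extend z' by zero
    let z : Fin (n + 1) → ℤ := Fin.snoc z' 0
    have hzc : (fun j : Fin n => z j.castSucc) = z' := by
      funext j; simp [z]
    have h1 : phi T T' (v - T.picMatrix.mulVec z) = 0 := by
      rw [map_sub, hcomm, hzc, ← hz']
      simp
    -- so u := v - P z is a multiple of the last column
    set u := v - T.picMatrix.mulVec z with hu
    have h2 : ∀ i : Fin n, u i.castSucc =
        - (T.a i.castSucc (Fin.last n) / T.w i.castSucc) * u (Fin.last n) := by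
      intro i
      have := congrFun h1 i
      simp only [phi, LinearMap.coe_mk, AddHom.coe_mk, Pi.zero_apply] at this
      have hr0 : T.w i.castSucc / T'.w i ≠ 0 := by
        rcases hr i with ⟨h1, _⟩ | ⟨h1, _⟩ <;> rw [h1] <;> norm_num
      rcases mul_eq_zero.mp this with h' | h'
      · exact absurd h' hr0
      · linarith
    have h3 : u = T.picMatrix.mulVec (fun j => if j = Fin.last n then - u (Fin.last n) else 0) := by
      funext x
      simp only [Matrix.mulVec, dotProduct]
      rw [Finset.sum_eq_single (Fin.last n)]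
      · simp only [if_true]
        rcases Fin.eq_castSucc_or_eq_last x with ⟨i, rfl⟩ | rfl
        · rw [hPil, h2 i]; ring
        · rw [hPll]; ring
      · intro b _ hb
        rw [if_neg hb, mul_zero]
      · intro hh; exact absurd (Finset.mem_univ _) hh
    have h4 : v = u + T.picMatrix.mulVec z := by rw [hu]; abel
    rw [h4, h3, ← Matrix.mulVec_add]
    exact ⟨_, rfl⟩
  · -- cokernel killed by 2
    intro y
    obtain ⟨y', rfl⟩ := Submodule.Quotient.mk_surjective _ y
    let x : Fin (n + 1) → ℤ := Fin.snoc (fun i => 2 / (T.w i.castSucc / T'.w i) * y' i) 0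
    refine ⟨Submodule.Quotient.mk x, ?_⟩
    rw [LinearMap.toAddMonoidHom_coe, Submodule.mapQ_apply, ← Submodule.Quotient.mk_smul]
    congr 1
    funext i
    simp only [phi, LinearMap.coe_mk, AddHom.coe_mk, Pi.smul_apply, smul_eq_mul, x,
      Fin.snoc_castSucc, Fin.snoc_last, mul_zero, add_zero]
    rcases hr i with ⟨h1, _⟩ | ⟨h1, _⟩ <;> rw [h1] <;> norm_num

end

end Aux

/-- Let T be a numerical type on n + 1 indices whose last index is a (-1)-index and T' a contraction of
it. Then there is an injective homomorphism Pic(T) -> Pic(T') whose cokernel is annihilated by 2. -/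
theorem result {n : ℕ} (T : Models.NumericalType (n + 1)) (h : T.IsMinusOne (Fin.last n))
    (T' : Models.NumericalType n) (hT' : T.IsContraction T') :
    ∃ f : T.Pic →+ T'.Pic, Function.Injective f ∧ ∀ y : T'.Pic, ∃ x : T.Pic, 2 • y = f x := by
  exact Aux.main h T' hT'

end Groth.Agent.S2180
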