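import Groth.Statements.S2181
import Mathlib
import Groth.Prelude.Def_Models
import Groth.Agent.S2175
import Groth.Agent.S2180
-- import your own Groth.Agent.* helpers here

set_option autoImplicit false
open Finset
open Models Models.NumericalType

namespace Groth.Agent.S2181

open Finset
namespace Aux

open Models Models.NumericalType

section
variable {n : ℕ} (T : Models.NumericalType n)

lemma row (i : Fin n) : T.a i i * T.m i + ∑ j ∈ univ.erase i, T.a i j * T.m j = 0 := by
  have h := congrFun T.mulVec_m i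
  simp only [Matrix.mulVec, dotProduct, Pi.zero_apply] at h
  rw [← Finset.add_sum_erase univ _ (Finset.mem_univ i)] at h
  exact h

lemma diag_neg (hn : 2 ≤ n) (i : Fin n) : T.a i i < 0 := by
  classical
  have hne : ({i} : Finset (Fin n)) ≠ univ := by
    intro h
    have := congrArg Finset.card h
    rw [Finset.card_singleton, Finset.card_univ, Fintype.card_fin] at this
    omega
  obtain ⟨x, hx, j, hj, hxj⟩ := T.connected {i} (Finset.singleton_nonempty i) hne
  rw [Finset.mem_singleton] at hx hj
  subst hx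
  have hji : j ≠ x := hj
  have hpos : 0 < T.a x j := lt_of_le_of_ne (T.offDiag_nonneg x j (Ne.symm hji)) (Ne.symm hxj)
  have hsum : 0 < ∑ k ∈ univ.erase x, T.a x k * T.m k := by
    have hmem : j ∈ univ.erase x := Finset.mem_erase.mpr ⟨hji, Finset.mem_univ _⟩
    have h1 : T.a x j * T.m j ≤ ∑ k ∈ univ.erase x, T.a x k * T.m k := by
      apply Finset.single_le_sum (f := fun k => T.a x k * T.m k) _ hmem
      intro k hk
      exact mul_nonneg (T.offDiag_nonneg x k (Ne.symm (Finset.ne_of_mem_erase hk)))
        (T.m_pos k).le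
    have h2 : 0 < T.a x j * T.m j := mul_pos hpos (T.m_pos j)
    omega
  have hrow := row T x
  have hm := T.m_pos x
  by_contra hcon
  push Not at hcon
  have : 0 ≤ T.a x x * T.m x := mul_nonneg hcon hm.le
  omega

lemma exists_minusOne (hn : 2 ≤ n) (hg : T.genus ≤ 0) : ∃ i, T.IsMinusOne i := by
  by_contra hcon
  push Not at hcon
  have hterm : ∀ i, 0 ≤ T.m i * (2 * (T.w i * (T.g i - 1)) - T.a i i) := by
    intro i
    apply mul_nonneg (T.m_pos i).le
    have hneg := diag_neg T hn i
    obtain ⟨k, hk⟩ := T.w_dvd i i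
    have hw := T.w_pos i
    have hg0 := T.g_nonneg i
    have hk1 : k ≤ -1 := by
      by_contra h
      push Not at h
      have : 0 ≤ T.w i * k := mul_nonneg hw.le (by omega)
      omega
    rcases eq_or_lt_of_le hg0 with h0 | h0
    · -- g = 0
      have hk2 : k ≤ -2 := by
        by_contra h
        push Not at h
        have hk' : k = -1 := by omega
        apply hcon i
        exact ⟨h0.symm, by rw [hk, hk']; ring⟩
      rw [← h0, hk]
      nlinarith
    · rw [hk]
      nlinarith
  have hsum : 0 ≤ ∑ i, T.m i * (2 * (T.w i * (T.g i - 1)) - T.a i i) :=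
    Finset.sum_nonneg fun i _ => hterm i
  have e : ∑ i, T.m i * (2 * (T.w i * (T.g i - 1)) - T.a i i) =
      2 * (∑ i, T.m i * T.w i * (T.g i - 1)) - ∑ i, T.m i * T.a i i := by
    rw [Finset.mul_sum, ← Finset.sum_sub_distrib]
    apply Finset.sum_congr rfl
    intro i _
    ring
  rw [e] at hsum
  unfold Models.NumericalType.genus at hg
  omega

end

section perm
variable {n : ℕ} (T : Models.NumericalType n) (σ : Equiv.Perm (Fin n))

/-- permuted numerical type -/
def perm : Models.NumericalType n where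
  m i := T.m (σ i)
  a := fun i j => T.a (σ i) (σ j)
  w i := T.w (σ i)
  g i := T.g (σ i)
  pos := T.pos
  m_pos i := T.m_pos _
  w_pos i := T.w_pos _
  g_nonneg i := T.g_nonneg _
  symm := Matrix.IsSymm.ext fun i j => T.symm.apply _ _
  offDiag_nonneg i j hij := T.offDiag_nonneg _ _ (σ.injective.ne hij)
  connected := by
    intro I hI hne
    classical
    have h1 : (I.map σ.toEmbedding).Nonempty := hI.map
    have h2 : I.map σ.toEmbedding ≠ univ := by
      intro h
      apply hne
      rw [Finset.eq_univ_iff_forall] at h ⊢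
      intro x
      have := h (σ x)
      rw [Finset.mem_map] at this
      obtain ⟨y, hy, hyx⟩ := this
      have : y = x := σ.injective hyx
      rwa [← this]
    obtain ⟨x, hx, y, hy, hxy⟩ := T.connected _ h1 h2
    obtain ⟨i, hi, rfl⟩ := Finset.mem_map.mp hx
    refine ⟨i, hi, σ.symm y, ?_, ?_⟩
    · intro hmem
      apply hy
      rw [Finset.mem_map]
      exact ⟨σ.symm y, hmem, by simp⟩
    · simpa using hxy
  mulVec_m := by
    funext i
    simp only [Matrix.mulVec, dotProduct, Pi.zero_apply]
    rw [Equiv.sum_comp σ (fun y => T.a (σ i) y * T.m y)]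
    have h := congrFun T.mulVec_m (σ i)
    simpa [Matrix.mulVec, dotProduct] using h
  w_dvd i j := T.w_dvd _ _

lemma genus_perm : (perm T σ).genus = T.genus := by
  unfold Models.NumericalType.genus
  show 1 + ∑ i, T.m (σ i) * T.w (σ i) * (T.g (σ i) - 1) - (∑ i, T.m (σ i) * T.a (σ i) (σ i)) / 2 = _
  rw [Equiv.sum_comp σ (fun y => T.m y * T.w y * (T.g y - 1)),
    Equiv.sum_comp σ (fun y => T.m y * T.a y y)]

lemma pic_perm : ∃ f : T.Pic →+ (perm T σ).Pic, Function.Injective f := by
  let e : (Fin n → ℤ) ≃ₗ[ℤ] (Fin n → ℤ) := LinearEquiv.funCongrLeft ℤ ℤ σ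
  have he : ∀ (v : Fin n → ℤ) i, e v i = v (σ i) := fun v i => rfl
  have hmap : ∀ z : Fin n → ℤ, e (T.picMatrix.mulVec z) = (perm T σ).picMatrix.mulVec (e z) := by
    intro z
    funext i
    rw [he]
    simp only [Matrix.mulVec, dotProduct]
    rw [← Equiv.sum_comp σ (fun y => T.picMatrix (σ i) y * z y)]
    rfl
  have hle : LinearMap.range (Matrix.mulVecLin T.picMatrix) ≤
      Submodule.comap e.toLinearMap (LinearMap.range (Matrix.mulVecLin (perm T σ).picMatrix)) := by
    rintro _ ⟨z, rfl⟩
    rw [Submodule.mem_comap, Matrix.mulVecLin_apply, LinearEquiv.coe_coe, hmap]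
    exact ⟨_, rfl⟩
  refine ⟨(Submodule.mapQ _ _ e.toLinearMap hle).toAddMonoidHom, ?_⟩
  rw [injective_iff_map_eq_zero]
  intro x hx
  obtain ⟨v, rfl⟩ := Submodule.Quotient.mk_surjective _ x
  rw [LinearMap.toAddMonoidHom_coe, Submodule.mapQ_apply, Submodule.Quotient.mk_eq_zero] at hx
  rw [Submodule.Quotient.mk_eq_zero]
  obtain ⟨z', hz'⟩ := hx
  refine ⟨e.symm z', ?_⟩
  apply e.injective
  rw [Matrix.mulVecLin_apply, hmap, e.apply_symm_apply]
  exact hz'

end perm

section final
variable {n : ℕ} (T : Models.NumericalType n)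

lemma pic_nontrivial : Nontrivial T.Pic := by
  -- the functional v ↦ Σ m_i w_i v_i
  let lam : (Fin n → ℤ) →ₗ[ℤ] ℤ :=
    { toFun := fun v => ∑ i, T.m i * T.w i * v i
      map_add' := by
        intro u v
        simp only [Pi.add_apply, mul_add, Finset.sum_add_distrib]
      map_smul' := by
        intro c v
        simp only [Pi.smul_apply, smul_eq_mul, RingHom.id_apply, Finset.mul_sum]
        apply Finset.sum_congr rfl
        intro i _
        ring }
  have hkill : LinearMap.range (Matrix.mulVecLin T.picMatrix) ≤ LinearMap.ker lam := by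
    rintro _ ⟨z, rfl⟩
    rw [LinearMap.mem_ker, Matrix.mulVecLin_apply]
    show ∑ i, T.m i * T.w i * (T.picMatrix.mulVec z i) = 0
    simp only [Matrix.mulVec, dotProduct, Finset.mul_sum]
    rw [Finset.sum_comm]
    apply Finset.sum_eq_zero
    intro j _
    have h1 : ∀ i, T.m i * T.w i * (T.picMatrix i j * z j) = (T.a j i * T.m i) * z j := by
      intro i
      unfold Models.NumericalType.picMatrix
      obtain ⟨k, hk⟩ := T.w_dvd i j
      rw [hk, Int.mul_ediv_cancel_left k (T.w_pos i).ne', T.symm.apply i j, hk]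
      ring
    simp only [h1]
    rw [← Finset.sum_mul]
    have h := congrFun T.mulVec_m j
    simp only [Matrix.mulVec, dotProduct, Pi.zero_apply] at h
    rw [h, zero_mul]
  let lbar : T.Pic →ₗ[ℤ] ℤ := Submodule.liftQ _ lam hkill
  let i0 : Fin n := ⟨0, T.pos⟩
  have hne : lbar (Submodule.Quotient.mk (Pi.single i0 1)) ≠ 0 := by
    show lam (Pi.single i0 1) ≠ 0
    show ∑ i, T.m i * T.w i * (Pi.single i0 (1 : ℤ) : Fin n → ℤ) i ≠ 0
    rw [Finset.sum_eq_single i0]
    · simp only [Pi.single_eq_same, mul_one]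
      exact (mul_pos (T.m_pos i0) (T.w_pos i0)).ne'
    · intro b _ hb
      rw [Pi.single_eq_of_ne hb, mul_zero]
    · intro h; exact absurd (Finset.mem_univ _) h
  refine ⟨⟨Submodule.Quotient.mk (Pi.single i0 1), 0, ?_⟩⟩
  intro h
  apply hne
  rw [h, map_zero]

lemma equiv_int_of_injective {G : Type*} [AddCommGroup G] [Nontrivial G] (f : G →+ ℤ)
    (hf : Function.Injective f) : Nonempty (G ≃+ ℤ) := by
  obtain ⟨k, hk⟩ := Int.subgroup_cyclic f.range
  have hkmem : k ∈ f.range := by rw [hk]; exact AddSubgroup.subset_closure rfl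
  obtain ⟨x₀, hx₀⟩ := hkmem
  have hk0 : k ≠ 0 := by
    intro h0
    obtain ⟨y, hy⟩ := exists_ne (0 : G)
    apply hy
    apply hf
    rw [map_zero]
    have : f y ∈ f.range := ⟨y, rfl⟩
    rw [hk, h0, AddSubgroup.mem_closure_singleton] at this
    obtain ⟨m, hm⟩ := this
    rw [← hm, smul_zero]
  let g : ℤ →+ G := zmultiplesHom G x₀
  have hg : ∀ m : ℤ, g m = m • x₀ := fun m => rfl
  have hbij : Function.Bijective g := by
    constructor
    · rw [injective_iff_map_eq_zero]
      intro m hm
      have := congrArg f hm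
      rw [hg, map_zsmul, hx₀, map_zero, smul_eq_mul] at this
      rcases mul_eq_zero.mp this with h | h
      · exact h
      · exact absurd h hk0
    · intro y
      have : f y ∈ f.range := ⟨y, rfl⟩
      rw [hk, AddSubgroup.mem_closure_singleton] at this
      obtain ⟨m, hm⟩ := this
      refine ⟨m, hf ?_⟩
      rw [hg, map_zsmul, hx₀, hm]
  exact ⟨(AddEquiv.ofBijective g hbij).symm⟩

end final

theorem base_one (T : Models.NumericalType 1) : ∃ f : T.Pic →+ ℤ, Function.Injective f := by
  have hrow := row T 0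
  have hers : (univ.erase (0 : Fin 1)) = ∅ := by decide
  rw [hers, Finset.sum_empty, add_zero] at hrow
  have ha0 : T.a 0 0 = 0 := by
    rcases mul_eq_zero.mp hrow with h | h
    · exact h
    · exact absurd h (T.m_pos 0).ne'
  have hP : ∀ z : Fin 1 → ℤ, T.picMatrix.mulVec z = 0 := by
    intro z
    funext i
    have hi : i = 0 := Subsingleton.elim _ _
    subst hi
    simp only [Matrix.mulVec, dotProduct, Fin.sum_univ_one, Pi.zero_apply]
    unfold Models.NumericalType.picMatrix
    rw [ha0, Int.zero_ediv, zero_mul]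
  have hle : LinearMap.range (Matrix.mulVecLin T.picMatrix) ≤
      LinearMap.ker (LinearMap.proj (R := ℤ) (φ := fun _ : Fin 1 => ℤ) 0) := by
    rintro _ ⟨z, rfl⟩
    rw [Matrix.mulVecLin_apply, hP]
    exact Submodule.zero_mem _
  refine ⟨(Submodule.liftQ _ (LinearMap.proj (R := ℤ) (φ := fun _ : Fin 1 => ℤ) 0)
    hle).toAddMonoidHom, ?_⟩
  rw [injective_iff_map_eq_zero]
  intro x hx
  obtain ⟨v, rfl⟩ := Submodule.Quotient.mk_surjective _ x
  rw [Submodule.Quotient.mk_eq_zero]
  have hv : v = 0 := by
    funext i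
    have hi : i = 0 := Subsingleton.elim _ _
    subst hi
    exact hx
  rw [hv]
  exact Submodule.zero_mem _

theorem inj_int : ∀ (n : ℕ) (T : Models.NumericalType n), T.genus ≤ 0 →
    ∃ f : T.Pic →+ ℤ, Function.Injective f := by
  intro n
  induction n with
  | zero => intro T _; exact absurd T.pos (lt_irrefl 0)
  | succ n ih =>
    intro T hg
    rcases Nat.eq_zero_or_pos n with rfl | hn
    · exact base_one T
    · obtain ⟨i0, hi0⟩ := exists_minusOne T (by omega) hg
      let σ : Equiv.Perm (Fin (n + 1)) := Equiv.swap (Fin.last n) i0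
      have hσ : σ (Fin.last n) = i0 := Equiv.swap_apply_left _ _
      have hminus : (perm T σ).IsMinusOne (Fin.last n) := by
        constructor
        · show T.g (σ (Fin.last n)) = 0
          rw [hσ]; exact hi0.1
        · show T.a (σ (Fin.last n)) (σ (Fin.last n)) = - T.w (σ (Fin.last n))
          rw [hσ]; exact hi0.2
      obtain ⟨⟨T', hT'⟩, hgen⟩ := Groth.Agent.S2175.result (perm T σ) hminus
      have hg' : T'.genus ≤ 0 := by
        rw [hgen T' hT', genus_perm]; exact hg
      obtain ⟨f3, hf3⟩ := ih T' hg'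
      obtain ⟨f2, hf2, _⟩ := Groth.Agent.S2180.result (perm T σ) hminus T' hT'
      obtain ⟨f1, hf1⟩ := pic_perm T σ
      exact ⟨(f3.comp f2).comp f1, (hf3.comp hf2).comp hf1⟩

theorem main {n : ℕ} (T : Models.NumericalType n) (hg : T.genus ≤ 0) :
    Nonempty (T.Pic ≃+ ℤ) := by
  obtain ⟨f, hf⟩ := inj_int n T hg
  have := pic_nontrivial T
  exact equiv_int_of_injective f hf

end Aux

/-- If the genus of a numerical type is at most 0 then its Picard group is infinite cyclic. -/
theorem result {n : ℕ} (T : Models.NumericalType n) (hg : T.genus ≤ 0) : Nonempty (T.Pic ≃+ ℤ) := by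
  exact Aux.main T hg

end Groth.Agent.S2181
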