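import Groth.Statements.S2182
import Mathlib
import Groth.Agent.Lib.Lead.NumType

set_option autoImplicit false
open Finset
open Models Models.NumericalType

namespace Groth.Agent.S2182

/-- In a numerical type, whenever a i j > 0 one has m i * a i j at most m j * |a j j| and m i * w i at
most m j * |a j j|. -/
theorem result {n : ℕ} (T : Models.NumericalType n) (i j : Fin n) (hij : 0 < T.a i j) :
    T.m i * T.a i j ≤ T.m j * |T.a j j| ∧ T.m i * T.w i ≤ T.m j * |T.a j j| := by
  classical
have hne : i ≠ j := by
  rintro rfl
  have := Groth.Agent.Lead.NumType.diag_nonpos T i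
  omega
have h1 := Groth.Agent.Lead.NumType.off_le_diag T i j hne
have hsym : T.a j i = T.a i j := T.symm.apply i j
have hjj := Groth.Agent.Lead.NumType.diag_nonpos T j
have habs : |T.a j j| = - T.a j j := abs_of_nonpos hjj
have hA : T.m i * T.a i j ≤ T.m j * |T.a j j| := by
  rw [habs, ← hsym]
  linarith
refine ⟨hA, le_trans ?_ hA⟩
have hw : T.w i ≤ T.a i j := Int.le_of_dvd hij (T.w_dvd i j)
exact mul_le_mul_of_nonneg_left hw (T.m_pos i).le

end Groth.Agent.S2182
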