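import Groth.Statements.S2183
import Mathlib
import Groth.Agent.Lib.Lead.NumType5

set_option autoImplicit false
open Finset
open Models Models.NumericalType

namespace Groth.Agent.S2183

open Classical in
/-- Let T be a minimal numerical type with n > 1 indices and genus g at least 2, and let J be the set of
indices which are not (-2)-indices. Then J has at most 2g - 2 elements, and for j in J one has g j <
g, m j * |a j j| at most 6g - 6, and m i * a i j at most 6g - 6 for every index i. -/
theorem result {n : ℕ} (T : Models.NumericalType n) (hmin : T.IsMinimal) (hn : 1 < n) (hg : 2 ≤ T.genus) :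
    ((univ.filter fun j => ¬T.IsMinusTwo j).card : ℤ) ≤ 2 * T.genus - 2 ∧
      ∀ j, ¬T.IsMinusTwo j →
        T.g j < T.genus ∧ T.m j * |T.a j j| ≤ 6 * T.genus - 6 ∧
          ∀ i, T.m i * T.a i j ≤ 6 * T.genus - 6 := by
  classical
have htot := Groth.Agent.Lead.NumType.two_genus_tau T
constructor
· -- card bound
  have h1 : ∑ j ∈ univ.filter (fun j => ¬T.IsMinusTwo j), (1 : ℤ) ≤
      ∑ j ∈ univ.filter (fun j => ¬T.IsMinusTwo j), Groth.Agent.Lead.NumType.tau T j := by
    refine Finset.sum_le_sum fun j hj => ?_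
    have hj' : ¬ T.IsMinusTwo j := (Finset.mem_filter.mp hj).2
    exact (Groth.Agent.Lead.NumType.nonMinusTwo_bounds T hmin hn j hj').1
  have h2 : ∑ j ∈ univ.filter (fun j => ¬T.IsMinusTwo j), Groth.Agent.Lead.NumType.tau T j ≤
      ∑ j, Groth.Agent.Lead.NumType.tau T j :=
    Finset.sum_le_sum_of_subset_of_nonneg (Finset.filter_subset _ _)
      (fun j _ _ => Groth.Agent.Lead.NumType.tau_nonneg T hmin hn j)
  rw [Finset.sum_const, nsmul_eq_mul, mul_one] at h1
  linarith
· intro j hj
  obtain ⟨h1, h2, h3⟩ := Groth.Agent.Lead.NumType.nonMinusTwo_bounds T hmin hn j hj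
  have hle := Groth.Agent.Lead.NumType.tau_le T hmin hn j
  have hdiag : T.m j * |T.a j j| ≤ 6 * T.genus - 6 := by linarith
  refine ⟨by omega, hdiag, ?_⟩
  intro i
  by_cases hij : i = j
  · subst hij
    have := Groth.Agent.Lead.NumType.diag_nonpos T i
    have hm := T.m_pos i
    have : T.m i * T.a i i ≤ 0 := mul_nonpos_of_nonneg_of_nonpos hm.le this
    have habs : 0 ≤ T.m i * |T.a i i| := mul_nonneg hm.le (abs_nonneg _)
    linarith
  · have h4 := Groth.Agent.Lead.NumType.off_le_diag T i j hij
    have hsym : T.a j i = T.a i j := T.symm.apply i j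
    have habs : |T.a j j| = - T.a j j := abs_of_nonpos (Groth.Agent.Lead.NumType.diag_nonpos T j)
    rw [habs] at hdiag
    rw [hsym] at h4
    linarith

end Groth.Agent.S2183
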