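import Groth.Statements.S2190
import Mathlib
import Groth.Agent.Lib.Lead.NumType3

set_option autoImplicit false
open Finset
open Models Models.NumericalType

namespace Groth.Agent.S2190

/-- A minimal numerical type of genus zero has a single index, with m = 1, a = 0, w = 1 and g = 0. -/
theorem result {n : ℕ} (T : Models.NumericalType n) (hmin : T.IsMinimal) (hg : T.genus = 0) :
    n = 1 ∧ ∀ i, T.m i = 1 ∧ T.a i i = 0 ∧ T.w i = 1 ∧ T.g i = 0 := by
  classical
have hn1 : n = 1 := by
  by_contra hne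
  have hpos := T.pos
  have hn : 1 < n := by omega
  have := Groth.Agent.Lead.NumType.genus_ge_one T hmin hn
  omega
subst hn1
refine ⟨rfl, fun i => ?_⟩
have hi : i = 0 := Subsingleton.elim i 0
subst hi
have hrow := Groth.Agent.Lead.NumType.row_eq T 0
rw [Fin.sum_univ_one] at hrow
have hm := T.m_pos 0
have hw := T.w_pos 0
have hgn := T.g_nonneg 0
have ha : T.a 0 0 = 0 := by
  rcases mul_eq_zero.mp hrow with h | h
  · exact h
  · omega
have h2 := Groth.Agent.Lead.NumType.two_genus T
rw [hg, Fin.sum_univ_one, ha] at h2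
have h3 : T.m 0 * (T.w 0 * (1 - T.g 0)) = 1 := by
  have : T.m 0 * (2 * T.w 0 * (T.g 0 - 1) - 0) = -2 := by linarith
  nlinarith
have hm1 : T.m 0 = 1 := by
  have hdvd : T.m 0 ∣ 1 := ⟨_, h3.symm⟩
  have := Int.le_of_dvd one_pos hdvd
  omega
rw [hm1, one_mul] at h3
have hw1 : T.w 0 = 1 := by
  have hdvd : T.w 0 ∣ 1 := ⟨_, h3.symm⟩
  have := Int.le_of_dvd one_pos hdvd
  omega
rw [hw1, one_mul] at h3
refine ⟨hm1, ha, hw1, by omega⟩

end Groth.Agent.S2190
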