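import Groth.Statements.S2196
import Mathlib

set_option autoImplicit false
universe u v
open Disc

namespace Groth.Agent.S2196

section
open TensorProduct

variable {A : Type u} {B : Type v} [CommRing A] [CommRing B] [Algebra A B]

theorem smul_toCotangent (b : B) (y : KaehlerDifferential.ideal A B) :
    b • KaehlerDifferential.fromIdeal A B y =
      KaehlerDifferential.fromIdeal A B ((b ⊗ₜ[A] (1 : B)) • y) := by
  rw [map_smul, ← algebraMap_smul (B ⊗[A] B) b, Algebra.TensorProduct.algebraMap_apply]
  rfl

theorem fromIdeal_eq_zero (y : KaehlerDifferential.ideal A B) :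
    KaehlerDifferential.fromIdeal A B y = 0 ↔ (y : B ⊗[A] B) ∈ KaehlerDifferential.ideal A B ^ 2 := by
  change (KaehlerDifferential.ideal A B).toCotangent y = 0 ↔ _
  exact Ideal.toCotangent_eq_zero _ _

theorem different_le_ann :
    Disc.noetherDifferent A B ≤ Module.annihilator B (Ω[B⁄A]) := by
  unfold Disc.noetherDifferent
  rw [Ideal.map_le_iff_le_comap]
  intro x hx
  rw [Ideal.mem_comap, Module.mem_annihilator]
  intro ω
  obtain ⟨⟨y, hy⟩, rfl⟩ := KaehlerDifferential.fromIdeal_surjective A B ω
  rw [smul_toCotangent, fromIdeal_eq_zero]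
  have hxy : x * y = 0 := by
    have := (Submodule.mem_annihilator.mp hx) y hy
    simpa using this
  have hmem : (Algebra.TensorProduct.lmul' (S := B) A x) ⊗ₜ[A] (1 : B) - x ∈
      KaehlerDifferential.ideal A B := by
    rw [KaehlerDifferential.ideal, RingHom.mem_ker, map_sub]
    simp
  have : (((Algebra.TensorProduct.lmul' (S := B) A x) ⊗ₜ[A] (1 : B)) •
      (⟨y, hy⟩ : KaehlerDifferential.ideal A B) : KaehlerDifferential.ideal A B).val =
      ((Algebra.TensorProduct.lmul' (S := B) A x) ⊗ₜ[A] (1 : B) - x) * y := by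
    rw [sub_mul, hxy, sub_zero]; rfl
  rw [this, pow_two]
  exact Ideal.mul_mem_mul hmem hy

theorem ann_le_of_different_le [Algebra.FiniteType A B] (q : Ideal B) [q.IsPrime]
    (hD : Disc.noetherDifferent A B ≤ q) :
    Module.annihilator B (Ω[B⁄A]) ≤ q := by
  intro b hb
  rw [Module.mem_annihilator] at hb
  obtain ⟨I, hI⟩ : ∃ I, I = KaehlerDifferential.ideal A B := ⟨_, rfl⟩
  have hfin : Module.Finite (B ⊗[A] B) (KaehlerDifferential.ideal A B) :=
    Module.Finite.iff_fg.mpr (KaehlerDifferential.ideal_fg A B)
  let f : Module.End (B ⊗[A] B) (KaehlerDifferential.ideal A B) :=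
    Algebra.lsmul (B ⊗[A] B) (B ⊗[A] B) (KaehlerDifferential.ideal A B) (b ⊗ₜ[A] (1 : B))
  have hrange : LinearMap.range f ≤
      (KaehlerDifferential.ideal A B) • (⊤ : Submodule (B ⊗[A] B) (KaehlerDifferential.ideal A B)) := by
    rintro _ ⟨y, rfl⟩
    have h1 := hb (KaehlerDifferential.fromIdeal A B y)
    rw [smul_toCotangent] at h1
    have h2 := (fromIdeal_eq_zero _).mp h1
    show (b ⊗ₜ[A] (1 : B)) • y ∈ _
    rw [Submodule.mem_smul_top_iff, smul_eq_mul, ← pow_two]
    exact h2
  obtain ⟨p, hmonic, -, hcoeff, haeval⟩ :=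
    LinearMap.exists_monic_and_natDegree_eq_and_coeff_mem_pow_and_aeval_eq_zero (B ⊗[A] B) f
      (KaehlerDifferential.ideal A B) hrange
  obtain ⟨s, hs⟩ : ∃ s, s = Polynomial.aeval (b ⊗ₜ[A] (1 : B)) p := ⟨_, rfl⟩
  have hsann : s ∈ Submodule.annihilator (KaehlerDifferential.ideal A B) := by
    rw [Submodule.mem_annihilator]
    intro y hy
    have h1 : Polynomial.aeval f p =
        Algebra.lsmul (B ⊗[A] B) (B ⊗[A] B) (KaehlerDifferential.ideal A B) s := by
      rw [hs]
      exact Polynomial.aeval_algHom_apply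
        (Algebra.lsmul (B ⊗[A] B) (B ⊗[A] B) (KaehlerDifferential.ideal A B)) _ p
    rw [h1] at haeval
    have h2 := LinearMap.congr_fun haeval ⟨y, hy⟩
    have h3 := congrArg Subtype.val h2
    simpa using h3
  have hμs : Algebra.TensorProduct.lmul' (S := B) A s = b ^ p.natDegree := by
    rw [hs, Polynomial.aeval_def, Polynomial.eval₂_eq_sum_range, map_sum]
    rw [Finset.sum_range_succ]
    have hz : ∀ k ∈ Finset.range p.natDegree,
        Algebra.TensorProduct.lmul' (S := B) A
          ((algebraMap (B ⊗[A] B) (B ⊗[A] B)) (p.coeff k) * (b ⊗ₜ[A] (1 : B)) ^ k) = 0 := by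
      intro k hk
      have hk' : k < p.natDegree := Finset.mem_range.mp hk
      have h1 : p.coeff k ∈ KaehlerDifferential.ideal A B := by
        have := hcoeff k
        exact Ideal.pow_le_self (by omega) this
      rw [KaehlerDifferential.ideal, RingHom.mem_ker] at h1
      rw [map_mul]
      have : Algebra.TensorProduct.lmul' (S := B) A
          ((algebraMap (B ⊗[A] B) (B ⊗[A] B)) (p.coeff k)) = 0 := h1
      rw [this, zero_mul]
    rw [Finset.sum_eq_zero hz, zero_add, map_mul, map_pow]
    have : p.coeff p.natDegree = 1 := hmonic.coeff_natDegree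
    rw [this]
    simp
  have hmem : b ^ p.natDegree ∈ q := by
    apply hD
    unfold Disc.noetherDifferent
    rw [← hμs]
    exact Ideal.mem_map_of_mem _ hsann
  exact Ideal.IsPrime.mem_of_pow_mem inferInstance _ hmem

theorem main [Algebra.FiniteType A B] :
    {q : PrimeSpectrum B | Disc.noetherDifferent A B ≤ q.asIdeal} =
      (Algebra.unramifiedLocus A B)ᶜ := by
  rw [Algebra.unramifiedLocus_eq_compl_support, compl_compl, Module.support_eq_zeroLocus]
  ext q
  simp only [Set.mem_setOf_eq, PrimeSpectrum.mem_zeroLocus, SetLike.coe_subset_coe]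
  constructor
  · intro hD
    exact ann_le_of_different_le q.asIdeal hD
  · intro hann
    exact le_trans different_le_ann hann


end


/-- Let A -> B be a ring map of finite type and D its Noether different (the image in B of the
annihilator of the kernel of B tensor_A B -> B). Then a prime q of B contains D exactly when A -> B
is not unramified at q. -/
theorem result {A : Type u} {B : Type v}
    [CommRing A] [CommRing B] [Algebra A B] [Algebra.FiniteType A B] :
    {q : PrimeSpectrum B | Disc.noetherDifferent A B ≤ q.asIdeal} =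
      (Algebra.unramifiedLocus A B)ᶜ := by
  classical
  exact main

end Groth.Agent.S2196
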