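import Groth.Statements.S2204
import Mathlib

set_option autoImplicit false
universe u
open CategoryTheory CategoryTheory.Limits TensorProduct
open QCohCat

namespace Groth.Agent.S2204

section
open CategoryTheory CategoryTheory.Limits TensorProduct

variable {A B : Type u} [CommRing A] [CommRing B] (F : ModuleCat.{u} A ⥤ ModuleCat.{u} B) [F.Additive]

/-- The bimodule `F(A)` -/
abbrev KK : Type u := F.obj (ModuleCat.of A A)

/-- ring hom giving the A-action -/
noncomputable def ρA : A →+* Module.End B (KK F) where
  toFun a := (F.map (a • 𝟙 (ModuleCat.of A A))).hom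
  map_one' := by
    rw [one_smul, CategoryTheory.Functor.map_id]
    rfl
  map_mul' a b := by
    have : (a * b) • 𝟙 (ModuleCat.of A A) = (b • 𝟙 _) ≫ (a • 𝟙 _) := by
      rw [Linear.smul_comp, Linear.comp_smul, Category.id_comp, smul_smul, mul_comm]
    rw [this, F.map_comp]
    rfl
  map_zero' := by
    rw [zero_smul, F.map_zero]
    rfl
  map_add' a b := by
    rw [add_smul, F.map_add]
    rfl

noncomputable instance : Module A (KK F) := Module.compHom (KK F) (ρA F)

theorem smulA_def (a : A) (y : KK F) :
    a • y = (F.map (a • 𝟙 (ModuleCat.of A A))).hom y := rfl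

instance : SMulCommClass A B (KK F) := ⟨fun a b y => by
  rw [smulA_def, smulA_def]
  exact (map_smul (F.map (a • 𝟙 (ModuleCat.of A A))).hom b y)⟩

/-- the morphism `A → M` determined by `x`. -/
noncomputable def sp (M : ModuleCat.{u} A) (x : M) : ModuleCat.of A A ⟶ M :=
  ModuleCat.ofHom (LinearMap.toSpanSingleton A M x)

theorem sp_apply (M : ModuleCat.{u} A) (x : M) (r : A) : (sp M x).hom r = r • x := rfl

theorem sp_add (M : ModuleCat.{u} A) (x x' : M) : sp M (x + x') = sp M x + sp M x' := by
  apply ModuleCat.hom_ext
  apply LinearMap.ext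
  intro r
  show r • (x + x') = r • x + r • x'
  rw [smul_add]

theorem sp_zero (M : ModuleCat.{u} A) : sp M (0 : M) = 0 := by
  apply ModuleCat.hom_ext
  apply LinearMap.ext
  intro r
  show r • (0 : M) = 0
  rw [smul_zero]

theorem sp_smul (M : ModuleCat.{u} A) (a : A) (x : M) :
    sp M (a • x) = (a • 𝟙 (ModuleCat.of A A)) ≫ sp M x := by
  apply ModuleCat.hom_ext
  apply LinearMap.ext
  intro r
  show r • (a • x) = (a • r) • x
  rw [smul_smul, smul_eq_mul, mul_comm]

theorem sp_comp {M M' : ModuleCat.{u} A} (g : M ⟶ M') (x : M) :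
    sp M x ≫ g = sp M' (g.hom x) := by
  apply ModuleCat.hom_ext
  apply LinearMap.ext
  intro r
  show g.hom (r • x) = r • g.hom x
  rw [map_smul]

/-- the canonical map, additive version -/
noncomputable def tLadd (M : ModuleCat.{u} A) : KK F ⊗[A] M →+ F.obj M :=
  TensorProduct.liftAddHom
    { toFun := fun y =>
        { toFun := fun x => (F.map (sp M x)).hom y
          map_zero' := by
            rw [sp_zero, F.map_zero]
            rfl
          map_add' := fun x x' => by
            rw [sp_add, F.map_add]
            rfl }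
      map_zero' := by
        ext x
        exact map_zero (F.map (sp M x)).hom
      map_add' := fun y y' => by
        ext x
        exact map_add (F.map (sp M x)).hom y y' }
    (fun a y x => by
      show (F.map (sp M x)).hom (a • y) = (F.map (sp M (a • x))).hom y
      rw [sp_smul, F.map_comp, smulA_def]
      rfl)

/-- the canonical map -/
noncomputable def tL (M : ModuleCat.{u} A) : KK F ⊗[A] M →ₗ[B] F.obj M where
  toFun := tLadd F M
  map_add' := map_add _
  map_smul' := fun b t => by
    induction t using TensorProduct.induction_on with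
    | zero => simp
    | tmul y x =>
      rw [TensorProduct.smul_tmul']
      show (F.map (sp M x)).hom (b • y) = b • (F.map (sp M x)).hom y
      exact map_smul (F.map (sp M x)).hom b y
    | add t1 t2 h1 h2 =>
      rw [smul_add, map_add, map_add, h1, h2, smul_add]

theorem tL_tmul (M : ModuleCat.{u} A) (y : KK F) (x : M) :
    tL F M (y ⊗ₜ x) = (F.map (sp M x)).hom y := rfl

theorem tL_natural (M M' : ModuleCat.{u} A) (g : M ⟶ M') (t : KK F ⊗[A] M) :
    tL F M' (LinearMap.lTensor (KK F) g.hom t) = (F.map g).hom (tL F M t) := by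
  induction t using TensorProduct.induction_on with
  | zero => simp
  | tmul y x =>
    rw [LinearMap.lTensor_tmul, tL_tmul, tL_tmul, ← sp_comp, F.map_comp]
    rfl
  | add t1 t2 h1 h2 => rw [map_add, map_add, map_add, h1, h2, map_add]


/-- the basis cofan is a colimit -/
noncomputable def basisCofanIsColimit (L : ModuleCat.{u} A) {J : Type u} (b : Module.Basis J A L) :
    IsColimit (Cofan.mk L (fun j : J => sp L (b j)) :
      Cofan (fun _ : J => ModuleCat.of A A)) :=
  Cofan.IsColimit.mk _ (fun t => ModuleCat.ofHom (b.constr A (fun j => (t.inj j).hom (1 : A))))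
    (fun t j => by
      apply ModuleCat.hom_ext
      apply LinearMap.ext_ring
      show (b.constr A (fun j => (t.inj j).hom (1 : A))) ((1 : A) • b j) = (t.inj j).hom 1
      rw [one_smul, Module.Basis.constr_basis])
    (fun t m hm => by
      apply ModuleCat.hom_ext
      apply b.ext
      intro j
      rw [ModuleCat.hom_ofHom, Module.Basis.constr_basis]
      have := congrArg (fun f => f.hom (1 : A)) (hm j)
      simp only [ModuleCat.hom_comp, LinearMap.comp_apply] at this
      rw [← this]
      show m.hom (b j) = m.hom ((1 : A) • b j)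
      rw [one_smul])

/-- `y ↦ y ⊗ x` as a `B`-linear map -/
noncomputable def tmulRight (L : ModuleCat.{u} A) (x : L) : KK F →ₗ[B] KK F ⊗[A] L where
  toFun y := y ⊗ₜ[A] x
  map_add' y y' := TensorProduct.add_tmul y y' x
  map_smul' b y := rfl

open DirectSum in
theorem bij_free
    [∀ J : Type u, PreservesColimitsOfShape (Discrete J) F] (L : ModuleCat.{u} A) [Module.Free A L] :
    Function.Bijective (tL F L) := by
  classical
  let J := Module.Free.ChooseBasisIndex A L
  let b : Module.Basis J A L := Module.Free.chooseBasis A L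
  have hT : IsColimit (Cofan.mk (F.obj L)
      (fun j : J => F.map (sp L (b j))) :
      Cofan (fun _ : J => F.obj (ModuleCat.of A A))) :=
    isColimitCofanMkObjOfIsColimit F _ _ (basisCofanIsColimit L b)
  let Z' : J → ModuleCat.{u} B := fun _ => F.obj (ModuleCat.of A A)
  let iso := IsColimit.coconePointUniqueUpToIso (ModuleCat.coproductCoconeIsColimit Z') hT
  let σ : (⨁ j : J, Z' j) →ₗ[B] F.obj L := iso.hom.hom
  have hiso : ∀ (j : J) (y : F.obj (ModuleCat.of A A)),
      σ (DirectSum.lof B J (fun j => Z' j) j y) = (F.map (sp L (b j))).hom y := by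
    intro j y
    have := IsColimit.comp_coconePointUniqueUpToIso_hom
      (ModuleCat.coproductCoconeIsColimit Z') hT ⟨j⟩
    exact congrArg (fun f => f.hom y) this
  have hσ : Function.Bijective σ :=
    ConcreteCategory.bijective_of_isIso iso.hom
  let ρ : (⨁ j : J, Z' j) →ₗ[B] KK F ⊗[A] L :=
    DirectSum.toModule B J _ (fun j => tmulRight F L (b j))
  have hρ_lof : ∀ (j : J) (y : F.obj (ModuleCat.of A A)),
      ρ (DirectSum.lof B J (fun j => Z' j) j y) = y ⊗ₜ[A] (b j) := by
    intro j y
    simp only [ρ, DirectSum.toModule_lof]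
    rfl
  have hcomp : ∀ d : (⨁ j : J, Z' j), tL F L (ρ d) = σ d := by
    intro d
    induction d using DirectSum.induction_on with
    | zero => rw [map_zero, map_zero, map_zero]
    | of j y =>
      have e : DirectSum.of (fun j => Z' j) j y = DirectSum.lof B J (fun j => Z' j) j y := rfl
      rw [e, hρ_lof, hiso, tL_tmul]
    | add d1 d2 h1 h2 => rw [map_add, map_add, map_add, h1, h2]
  have hρ_surj : Function.Surjective ρ := by
    rw [← LinearMap.range_eq_top, eq_top_iff]
    rintro t -
    induction t using TensorProduct.induction_on with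
    | zero => exact Submodule.zero_mem _
    | tmul y x =>
      have hx : x ∈ Submodule.span A (Set.range b) := by rw [b.span_eq]; trivial
      have key : ∀ x ∈ Submodule.span A (Set.range b), ∀ y : KK F,
          y ⊗ₜ[A] x ∈ LinearMap.range ρ := by
        intro x hx
        induction hx using Submodule.span_induction with
        | mem x hx =>
          obtain ⟨j, rfl⟩ := hx
          intro y
          exact ⟨_, hρ_lof j y⟩
        | zero => intro y; rw [TensorProduct.tmul_zero]; exact Submodule.zero_mem _
        | add x1 x2 _ _ h1 h2 =>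
          intro y; rw [TensorProduct.tmul_add]; exact Submodule.add_mem _ (h1 y) (h2 y)
        | smul a x _ h1 =>
          intro y
          rw [← TensorProduct.smul_tmul]
          exact h1 (a • y)
      exact key x hx y
    | add t1 t2 h1 h2 => exact Submodule.add_mem _ h1 h2
  constructor
  · intro t1 t2 h
    obtain ⟨d1, rfl⟩ := hρ_surj t1
    obtain ⟨d2, rfl⟩ := hρ_surj t2
    rw [hcomp, hcomp] at h
    rw [hσ.1 h]
  · intro z
    obtain ⟨d, rfl⟩ := hσ.2 z
    exact ⟨ρ d, hcomp d⟩

theorem bij_all [∀ J : Type u, PreservesColimitsOfShape (Discrete J) F] [PreservesFiniteColimits F]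
    (M : ModuleCat.{u} A) : Function.Bijective (tL F M) := by
  let p₀l : (M →₀ A) →ₗ[A] M := Finsupp.linearCombination A id
  have hp₀ : Function.Surjective p₀l := Finsupp.linearCombination_id_surjective A M
  let K : Submodule A (M →₀ A) := LinearMap.ker p₀l
  let p₁l : (K →₀ A) →ₗ[A] K := Finsupp.linearCombination A id
  have hp₁ : Function.Surjective p₁l := Finsupp.linearCombination_id_surjective A K
  let dl : (K →₀ A) →ₗ[A] (M →₀ A) := K.subtype ∘ₗ p₁l
  have hex : Function.Exact dl p₀l := by
    intro y
    constructor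
    · intro hy
      obtain ⟨z, hz⟩ := hp₁ ⟨y, hy⟩
      exact ⟨z, by simp [dl, hz]⟩
    · rintro ⟨z, rfl⟩
      exact (p₁l z).2
  let F₀ : ModuleCat.{u} A := ModuleCat.of A (M →₀ A)
  let F₁ : ModuleCat.{u} A := ModuleCat.of A (K →₀ A)
  let p₀ : F₀ ⟶ M := ModuleCat.ofHom p₀l
  let d : F₁ ⟶ F₀ := ModuleCat.ofHom dl
  have hzero : d ≫ p₀ = 0 := by
    apply ModuleCat.hom_ext
    apply LinearMap.ext
    intro z
    exact hex.apply_apply_eq_zero z
  let S : ShortComplex (ModuleCat.{u} A) := ShortComplex.mk d p₀ hzero
  have hS : S.Exact ∧ Epi S.g := by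
    constructor
    · rw [ShortComplex.ShortExact.moduleCat_exact_iff_function_exact]
      exact hex
    · rw [ModuleCat.epi_iff_surjective]
      exact hp₀
  have htfae : PreservesFiniteColimits F →
      ∀ (S : ShortComplex (ModuleCat.{u} A)), S.Exact ∧ Epi S.g → (S.map F).Exact ∧ Epi (F.map S.g) :=
    ((Functor.preservesFiniteColimits_tfae F).out 3 1).mp
  have hTS := htfae ‹PreservesFiniteColimits F› S hS
  have hTex : Function.Exact (F.map d).hom (F.map p₀).hom := by
    have := hTS.1
    rw [ShortComplex.ShortExact.moduleCat_exact_iff_function_exact] at this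
    exact this
  have hTsurj : Function.Surjective (F.map p₀).hom := by
    have := hTS.2
    rw [ModuleCat.epi_iff_surjective] at this
    exact this
  have hNex : Function.Exact (LinearMap.lTensor (KK F) dl)
      (LinearMap.lTensor (KK F) p₀l) := lTensor_exact (KK F) (f := dl) (g := p₀l) hex hp₀
  have hNsurj : Function.Surjective (LinearMap.lTensor (KK F) p₀l) :=
    LinearMap.lTensor_surjective (KK F) (g := p₀l) hp₀
  have hb₀ : Function.Bijective (tL F F₀) := bij_free F F₀
  have hb₁ : Function.Bijective (tL F F₁) := bij_free F F₁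
  have hn₀ := tL_natural F F₀ M p₀
  have hn₁ := tL_natural F F₁ F₀ d
  constructor
  · rw [injective_iff_map_eq_zero]
    intro x hx
    obtain ⟨w, rfl⟩ := hNsurj x
    have h1 : (F.map p₀).hom (tL F F₀ w) = 0 := by
      rw [← hn₀]; exact hx
    obtain ⟨v, hv⟩ := (hTex _).mp h1
    obtain ⟨w', rfl⟩ := hb₁.2 v
    have h2 : tL F F₀ (LinearMap.lTensor _ dl w') = tL F F₀ w := by
      rw [← hv]; exact hn₁ w'
    have h3 := hb₀.1 h2
    rw [← h3]
    exact hNex.apply_apply_eq_zero w'
  · intro z
    obtain ⟨w, rfl⟩ := hTsurj z
    obtain ⟨w', rfl⟩ := hb₀.2 w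
    exact ⟨_, hn₀ w'⟩


theorem main (A B : Type u) [CommRing A]
    [CommRing B] (F : ModuleCat.{u} A ⥤ ModuleCat.{u} B) [PreservesFiniteColimits F]
    (hsum : ∀ J : Type u, PreservesColimitsOfShape (Discrete J) F) :
    ∃ (K : Type u) (_ : AddCommGroup K) (_ : Module A K) (_ : Module B K) (_ : SMulCommClass A B K)
      (η : ∀ M : ModuleCat.{u} A, (K ⊗[A] M) ≃ₗ[B] F.obj M),
      ∀ (M N : ModuleCat.{u} A) (f : M ⟶ N) (x : K ⊗[A] M),
        η N (LinearMap.lTensor K f.hom x) = F.map f (η M x) := by
  haveI := preservesBinaryBiproducts_of_preservesBinaryCoproducts F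
  haveI : F.Additive := Functor.additive_of_preservesBinaryBiproducts F
  haveI := hsum
  refine ⟨KK F, inferInstance, inferInstance, inferInstance, inferInstance,
    fun M => LinearEquiv.ofBijective (tL F M) (bij_all F M), ?_⟩
  intro M N f x
  exact tL_natural F M N f x


end


/-- The implication (2) to (1): for commutative rings A and B, any functor from A-modules to B-modules
preserving finite colimits and arbitrary direct sums is given by tensoring: there is a module K over
both A and B with commuting actions and B-linear isomorphisms K tensor_A M = F(M), natural in the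
A-module M. -/
theorem result (A B : Type u) [CommRing A]
    [CommRing B] (F : ModuleCat.{u} A ⥤ ModuleCat.{u} B) [PreservesFiniteColimits F]
    (hsum : ∀ J : Type u, PreservesColimitsOfShape (Discrete J) F) :
    ∃ (K : Type u) (_ : AddCommGroup K) (_ : Module A K) (_ : Module B K) (_ : SMulCommClass A B K)
      (η : ∀ M : ModuleCat.{u} A, (K ⊗[A] M) ≃ₗ[B] F.obj M),
      ∀ (M N : ModuleCat.{u} A) (f : M ⟶ N) (x : K ⊗[A] M),
        η N (LinearMap.lTensor K f.hom x) = F.map f (η M x) := by
  classical
  exact main A B F hsum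

end Groth.Agent.S2204
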