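import Groth.Statements.S2218
import Mathlib
import Groth.Prelude.Def_Disc
-- import your own Groth.Agent.* helpers here

set_option autoImplicit false
universe u v
open Disc

namespace Groth.Agent.S2218

namespace Aux

open Module Submodule

lemma exists_functional {A' D : Type*} [CommRing A'] [IsDomain A'] [CommRing D] [IsDomain D]
    [Algebra A' D] [Module.Finite A' D] (hinj : Function.Injective (algebraMap A' D)) :
    ∃ μ : D →ₗ[A'] A', μ ≠ 0 := by
  classical
  let K := FractionRing A'
  let L := FractionRing D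
  haveI : FaithfulSMul A' L := by
    rw [faithfulSMul_iff_algebraMap_injective]
    rw [IsScalarTower.algebraMap_eq A' D L]
    exact (IsFractionRing.injective D L).comp hinj
  letI : Algebra K L := FractionRing.liftAlgebra A' L
  haveI : IsScalarTower A' K L := FractionRing.isScalarTower_liftAlgebra A' L
  obtain ⟨lam, hlam⟩ := Module.Projective.exists_dual_ne_zero K (one_ne_zero : (1 : L) ≠ 0)
  let g : D →ₗ[A'] K := (lam.restrictScalars A') ∘ₗ (IsScalarTower.toAlgHom A' D L).toLinearMap
  have hg1 : g 1 ≠ 0 := by simpa [g] using hlam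
  obtain ⟨s, hs⟩ := (Module.Finite.fg_top : (⊤ : Submodule A' D).FG)
  obtain ⟨c, hc⟩ := IsLocalization.exist_integer_multiples_of_finset (nonZeroDivisors A') (s.image g)
  have hall : ∀ d : D, ((c : A') • g) d ∈ LinearMap.range (Algebra.linearMap A' K) := by
    intro d
    have hd : d ∈ Submodule.span A' (s : Set D) := by rw [hs]; trivial
    rw [LinearMap.smul_apply]
    induction hd using Submodule.span_induction with
    | mem y hy => obtain ⟨a, ha⟩ := hc (g y) (Finset.mem_image_of_mem g hy); exact ⟨a, ha⟩
    | zero => simp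
    | add y z _ _ hy hz => rw [map_add, smul_add]; exact add_mem hy hz
    | smul r y _ hy => rw [map_smul, smul_comm]; exact Submodule.smul_mem _ _ hy
  let e := LinearEquiv.ofInjective (Algebra.linearMap A' K) (IsFractionRing.injective A' K)
  let μ : D →ₗ[A'] A' := e.symm.toLinearMap ∘ₗ (((c : A') • g).codRestrict _ hall)
  refine ⟨μ, fun h => ?_⟩
  have h1 : μ 1 = 0 := by rw [h]; rfl
  have h2 : (((c : A') • g).codRestrict _ hall) 1 = 0 := by
    have : e.symm ((((c : A') • g).codRestrict _ hall) 1) = 0 := h1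
    exact (LinearEquiv.map_eq_zero_iff e.symm).mp this
  have h3 : (c : A') • g 1 = 0 := by
    have := congrArg Subtype.val h2
    simpa using this
  rcases smul_eq_zero.mp h3 with h4 | h4
  · exact nonZeroDivisors.coe_ne_zero c h4
  · exact hg1 h4


variable {A : Type u} {B : Type v} [CommRing A] [CommRing B] [Algebra A B]

lemma smul_eq_zero_iff (b : B) (φ : Disc.Omega A B) :
    b • φ = 0 ↔ ∀ y : B, φ.toLinearMap (b * y) = 0 := by
  constructor
  · intro h y
    have := congrArg (fun ψ : Disc.Omega A B => ψ.toLinearMap y) h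
    simpa using this
  · intro h
    apply Disc.Omega.ext
    ext y
    simpa using h y

section
variable [IsNoetherianRing A] [IsNoetherianRing B] [Module.Finite A B]

theorem fwd (q : Ideal B) (hq : q ∈ associatedPrimes B (Disc.Omega A B)) :
    q.IsPrime ∧ q.comap (algebraMap A B) ∈ associatedPrimes A A := by
  classical
  rw [AssociatedPrimes.mem_iff, isAssociatedPrime_iff] at hq
  obtain ⟨hqp, φ, hφ⟩ := hq
  refine ⟨hqp, ?_⟩
  rw [AssociatedPrimes.mem_iff, isAssociatedPrime_iff]
  have hpp : (q.comap (algebraMap A B)).IsPrime := Ideal.comap_isPrime _ _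
  refine ⟨hpp, ?_⟩
  have hmem : ∀ a : A, a ∈ q.comap (algebraMap A B) ↔ ∀ y : B, a * φ.toLinearMap y = 0 := by
    intro a
    rw [Ideal.mem_comap, hφ, mem_colon_singleton, mem_bot, smul_eq_zero_iff]
    refine forall_congr' fun y => ?_
    rw [← Algebra.smul_def, map_smul, smul_eq_mul]
  obtain ⟨s, hs⟩ := (Module.Finite.fg_top : (⊤ : Submodule A B).FG)
  have hmem2 : ∀ a : A, a ∈ q.comap (algebraMap A B) ↔ ∀ y ∈ s, a * φ.toLinearMap y = 0 := by
    intro a
    rw [hmem]
    refine ⟨fun h y _ => h y, fun h y => ?_⟩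
    have hy : y ∈ Submodule.span A (s : Set B) := by rw [hs]; trivial
    induction hy using Submodule.span_induction with
    | mem z hz => exact h z hz
    | zero => simp
    | add z w _ _ hz hw => rw [map_add, mul_add, hz, hw, add_zero]
    | smul r z _ hz => rw [map_smul, smul_eq_mul, mul_left_comm, hz, mul_zero]
  have hinf : s.inf (fun y => (⊥ : Submodule A A).colon {φ.toLinearMap y})
      ≤ q.comap (algebraMap A B) := by
    intro a ha
    rw [hmem2]
    intro y hy
    have := (Finset.inf_le hy : s.inf (fun y => (⊥ : Submodule A A).colon {φ.toLinearMap y}) ≤ _) ha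
    rwa [mem_colon_singleton, mem_bot, smul_eq_mul] at this
  rw [Ideal.IsPrime.inf_le' hpp] at hinf
  obtain ⟨y, hy, hle⟩ := hinf
  refine ⟨φ.toLinearMap y, le_antisymm ?_ hle⟩
  intro a ha
  rw [mem_colon_singleton, mem_bot, smul_eq_mul]
  exact (hmem a).mp ha y


theorem bwd (q : Ideal B) (hqp : q.IsPrime)
    (hq : q.comap (algebraMap A B) ∈ associatedPrimes A A) :
    q ∈ associatedPrimes B (Disc.Omega A B) := by
  classical
  rw [AssociatedPrimes.mem_iff, isAssociatedPrime_iff] at hq
  obtain ⟨hpp, x, hx⟩ := hq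
  have hxmem : ∀ a : A, a ∈ q.comap (algebraMap A B) ↔ a * x = 0 := by
    intro a
    conv_lhs => rw [hx]
    rw [mem_colon_singleton, mem_bot, smul_eq_mul]
  -- the domains
  haveI : IsDomain (A ⧸ q.comap (algebraMap A B)) := Ideal.Quotient.isDomain _
  haveI : IsDomain (B ⧸ q) := Ideal.Quotient.isDomain _
  haveI : Module.Finite (A ⧸ q.comap (algebraMap A B)) (B ⧸ q) :=
    Module.Finite.of_restrictScalars_finite A _ _
  obtain ⟨μ, hμ⟩ := exists_functional (A' := A ⧸ q.comap (algebraMap A B)) (D := B ⧸ q)
    (Ideal.algebraMap_quotient_injective)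
  -- χ : A/p → A
  let χ : (A ⧸ q.comap (algebraMap A B)) →ₗ[A] A :=
    Submodule.liftQ (q.comap (algebraMap A B)) (LinearMap.toSpanSingleton A A x) (by
      intro a ha
      rw [LinearMap.mem_ker, LinearMap.toSpanSingleton_apply, smul_eq_mul]
      exact (hxmem a).mp ha)
  have hχ : ∀ a : A, χ (Ideal.Quotient.mk _ a) = a * x := fun a => rfl
  have hχinj : ∀ z, χ z = 0 → z = 0 := by
    intro z hz
    obtain ⟨a, rfl⟩ := Ideal.Quotient.mk_surjective z
    rw [hχ] at hz
    rw [Ideal.Quotient.eq_zero_iff_mem]
    exact (hxmem a).mpr hz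
  let φl : B →ₗ[A] A := χ ∘ₗ (μ.restrictScalars A) ∘ₗ (Ideal.Quotient.mkₐ A q).toLinearMap
  have hφl : ∀ y : B, φl y = χ (μ (Ideal.Quotient.mk q y)) := fun y => rfl
  rw [AssociatedPrimes.mem_iff, isAssociatedPrime_iff]
  refine ⟨hqp, ⟨φl⟩, ?_⟩
  ext b
  rw [mem_colon_singleton, mem_bot, smul_eq_zero_iff]
  constructor
  · intro hb y
    change φl (b * y) = 0
    rw [hφl, map_mul, Ideal.Quotient.eq_zero_iff_mem.mpr hb, zero_mul, map_zero, map_zero]
  · intro h
    by_contra hb
    have hb0 : Ideal.Quotient.mk q b ≠ 0 := by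
      rwa [Ne, Ideal.Quotient.eq_zero_iff_mem]
    have h1 : ∀ d : B ⧸ q, μ (Ideal.Quotient.mk q b * d) = 0 := by
      intro d
      obtain ⟨y, rfl⟩ := Ideal.Quotient.mk_surjective d
      apply hχinj
      have := h y
      change φl (b * y) = 0 at this
      rwa [hφl, map_mul] at this
    have hint : IsIntegral (A ⧸ q.comap (algebraMap A B)) (Ideal.Quotient.mk q b) :=
      Algebra.IsIntegral.isIntegral _
    have hne := Ideal.comap_ne_bot_of_integral_mem (I := Ideal.span {Ideal.Quotient.mk q b})
      hb0 (Ideal.mem_span_singleton_self _) hint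
    obtain ⟨c, hc, hc0⟩ := Submodule.exists_mem_ne_zero_of_ne_bot hne
    rw [Ideal.mem_comap, Ideal.mem_span_singleton'] at hc
    obtain ⟨d', hd'⟩ := hc
    apply hμ
    refine LinearMap.ext fun d => ?_
    have h2 := h1 (d' * d)
    rw [← mul_assoc, mul_comm _ d', hd', ← Algebra.smul_def, map_smul, smul_eq_mul] at h2
    rcases mul_eq_zero.mp h2 with h3 | h3
    · exact absurd h3 hc0
    · simpa using h3

end

end Aux

/-- Special case: A -> B finite (the source allows quasi-finite maps). For a finite map of Noetherian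
rings and omega = Hom_A(B, A) with its B-module structure through the argument, the associated
primes of the B-module omega are exactly the primes of B whose contraction to A is an associated
prime of A. -/
theorem result {A : Type u} {B : Type v} [CommRing A] [CommRing B]
    [Algebra A B] [IsNoetherianRing A] [IsNoetherianRing B] [Module.Finite A B] :
    associatedPrimes B (Disc.Omega A B) =
      {q : Ideal B | q.IsPrime ∧ q.comap (algebraMap A B) ∈ associatedPrimes A A} := by
  exact Set.ext fun q => ⟨fun h => Aux.fwd q h, fun h => Aux.bwd q h.1 h.2⟩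

end Groth.Agent.S2218
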