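import Groth.Statements.S2327
import Mathlib
import Groth.Agent.Lib.Helper1.AmpleLib2

set_option autoImplicit false
universe u
open CategoryTheory CategoryTheory.Limits AlgebraicGeometry
open EGA2

namespace Groth.Agent.S2327

/-- Let X be a quasi-compact separated scheme, L an invertible module and n > 0. Then L is ample if and
only if L^{⊗n} is ample. -/
theorem result (X : Scheme.{u}) [CompactSpace X] [X.IsSeparated] (L : X.Modules) (hL : PicF.IsInvertible L) (n : ℕ) (hn : 0 < n) :
    CohB1.IsAmple L ↔ CohB1.IsAmple (CohB1.tensorPow L n) := by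
  obtain ⟨n', rfl⟩ : ∃ n', n = n' + 1 := ⟨n - 1, by omega⟩
  have hloc := Groth.Agent.Helper1.TwForm.locFrame_of_isInvertible hL hL
  constructor
  · intro hA
    refine ⟨Groth.Agent.Helper1.TwForm.isInvertible_tensorPow hL _, inferInstance, fun x => ?_⟩
    obtain ⟨k, s, hxs, haff⟩ := hA.2.2 x
    have hAk := Groth.Agent.Helper1.TwForm.isInvertible_tensorPow hL (k + 1)
    have h1 := Groth.Agent.Helper1.AmpleLib.genLocus_powHom hAk s n'
    let e := Groth.Agent.Helper1.TwForm.Tw.iso
      (((Groth.Agent.Helper1.TwForm.Tw.fst L L).pow (k + 1)).pow (n' + 1))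
      ((((Groth.Agent.Helper1.TwForm.Tw.fst L L).pow (n' + 1)).pow (k + 1)).cast
        (by push_cast; ring) (by simp)) hloc
    refine ⟨k, SecTwist.powHom s (n' + 1) ≫ e.hom, ?_, ?_⟩
    · rw [Groth.Agent.Helper1.TwistAmple.genLocus_comp_iso, h1]; exact hxs
    · rw [Groth.Agent.Helper1.TwistAmple.genLocus_comp_iso, h1]; exact haff
  · intro hA
    refine ⟨hL, inferInstance, fun x => ?_⟩
    obtain ⟨k, s, hxs, haff⟩ := hA.2.2 x
    obtain ⟨s', hs'⟩ := Groth.Agent.Helper1.AmpleLib.exists_section_tensorPow hL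
      (n' * (k + 1) + k)
      ((((Groth.Agent.Helper1.TwForm.Tw.fst L L).pow (n' + 1)).pow (k + 1)).cast
        (by push_cast; ring) (by simp)) s
    refine ⟨n' * (k + 1) + k, s', ?_, ?_⟩
    · rw [hs']; exact hxs
    · rw [hs']; exact haff

end Groth.Agent.S2327
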