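import Groth.Statements.S2328
import Mathlib
import Groth.Agent.Lib.Helper1.AmpleLib2

set_option autoImplicit false
universe u
open CategoryTheory CategoryTheory.Limits AlgebraicGeometry
open EGA2

namespace Groth.Agent.S2328

/-- Let X be a quasi-compact separated scheme, L an ample invertible module and L' an invertible module
such that every point of X lies in the generating locus X_{s'} of some global section s' of some
positive power of L'. Then L ⊗ L' is ample. -/
theorem result (X : Scheme.{u}) [CompactSpace X] [X.IsSeparated] (L L' : X.Modules) (hL : CohB1.IsAmple L) (hL' : PicF.IsInvertible L')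
    (h : ∀ x : X, ∃ (n : ℕ) (s' : Coh.structureModule X ⟶ CohB1.tensorPow L' (n + 1)), x ∈ CohB1.genLocus _ s') :
    CohB1.IsAmple (CohB1.tensorMod L L') := by
  have hloc := Groth.Agent.Helper1.TwForm.locFrame_of_isInvertible hL.1 hL'
  refine ⟨Groth.Agent.Helper1.TwForm.isInvertible_tensorMod hL.1 hL', inferInstance, fun x => ?_⟩
  obtain ⟨m, s', hxs'⟩ := h x
  obtain ⟨k, s, hxs, hss', haff⟩ :=
    Groth.Agent.Helper1.AmpleLib.exists_genLocus_nbhd hL (CohB1.genLocus _ s') x hxs'
  have hAk := Groth.Agent.Helper1.TwForm.isInvertible_tensorPow hL.1 (k + 1)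
  have hAm := Groth.Agent.Helper1.TwForm.isInvertible_tensorPow hL' (m + 1)
  have h1 := Groth.Agent.Helper1.AmpleLib.genLocus_powHom hAk s m
  have h2 := Groth.Agent.Helper1.AmpleLib.genLocus_powHom hAm s' k
  have h3 := Groth.Agent.Helper1.TensGen.genLocus_tmulHom
    (Groth.Agent.Helper1.TwForm.isInvertible_tensorPow hAk (m + 1))
    (Groth.Agent.Helper1.TwForm.isInvertible_tensorPow hAm (k + 1))
    (SecTwist.powHom s (m + 1)) (SecTwist.powHom s' (k + 1))
  rw [h1, h2, inf_eq_left.mpr hss'] at h3
  let e := Groth.Agent.Helper1.TwForm.Tw.iso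
    ((((Groth.Agent.Helper1.TwForm.Tw.fst L L').pow (k + 1)).pow (m + 1)).tensorR
      (((Groth.Agent.Helper1.TwForm.Tw.snd L L').pow (m + 1)).pow (k + 1)))
    ((((Groth.Agent.Helper1.TwForm.Tw.fst L L').tensorR
      (Groth.Agent.Helper1.TwForm.Tw.snd L L')).pow (k * (m + 1) + m + 1)).cast
        (by push_cast; ring) (by push_cast; ring)) hloc
  refine ⟨k * (m + 1) + m,
    SecTwist.tmulHom (SecTwist.powHom s (m + 1)) (SecTwist.powHom s' (k + 1)) ≫ e.hom, ?_, ?_⟩
  · rw [Groth.Agent.Helper1.TwistAmple.genLocus_comp_iso, h3]; exact hxs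
  · rw [Groth.Agent.Helper1.TwistAmple.genLocus_comp_iso, h3]; exact haff

end Groth.Agent.S2328
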