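import Groth.Statements.S2343
-- import your own Groth.Agent.* helpers here
import Groth.Agent.Lib.Helper7.QFSplit.Local
import Groth.Agent.Lib.Helper7.QFCodim.Main

set_option autoImplicit false
universe u
open CategoryTheory CategoryTheory.Limits AlgebraicGeometry
open EGA2

namespace Groth.Agent.S2343

/-- Let A be a complete Noetherian local ring, X a separated scheme locally of finite type over Spec A,
and x a point of X over the closed point which is isolated in its fibre. Then the local ring of X at
x is a finite A-module and the canonical morphism Spec O_{X,x} → X is both an open and a closed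
immersion (X is the disjoint sum of Spec O_{X,x} and another open subscheme). -/
theorem result (A : Type u) [CommRing A] [IsLocalRing A] [IsNoetherianRing A]
    [IsAdicComplete (IsLocalRing.maximalIdeal A) A] (X : Scheme.{u}) (f : X ⟶ Spec (CommRingCat.of A)) [LocallyOfFiniteType f] [IsSeparated f]
    (x : X) (hx : f.base x = IsLocalRing.closedPoint A)
    (hisol : IsOpen ((Subtype.val : (f.base ⁻¹' {IsLocalRing.closedPoint A}) → X) ⁻¹' {x})) :
    ((Scheme.ΓSpecIso (CommRingCat.of A)).inv ≫ f.appTop ≫ X.presheaf.germ ⊤ x trivial).hom.Finite ∧ IsOpenImmersion (X.fromSpecStalk x) ∧ IsClosedImmersion (X.fromSpecStalk x) := by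
  haveI : HenselianLocalRing A := Groth.Agent.Helper7.QFSplit.henselianLocalRing_of_isAdicComplete A
  haveI : HenselianLocalRing Γ(Spec (CommRingCat.of A), ⊤) :=
    Groth.Agent.Helper7.QFSplit.henselianLocalRing_Γ_Spec A
  have hcl : IsClosed ({f.base x} : Set (Spec (CommRingCat.of A))) := by
    rw [hx]; exact IsLocalRing.isClosed_singleton_closedPoint A
  have hqf : f.QuasiFiniteAt x := by
    rw [Groth.Agent.Helper7.QFCodim.quasiFiniteAt_iff_isolated]
    obtain ⟨O, hO, hOeq⟩ := isOpen_induced_iff.1 hisol
    refine ⟨O, hO, ?_⟩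
    ext z
    constructor
    · rintro ⟨hzO, hzf⟩
      have hz : f.base z = IsLocalRing.closedPoint A := by
        have : f.base z = f.base x := hzf
        rw [this, hx]
      have h1 : (⟨z, hz⟩ : (f.base ⁻¹' {IsLocalRing.closedPoint A})) ∈
          (Subtype.val ⁻¹' O : Set (f.base ⁻¹' {IsLocalRing.closedPoint A})) := hzO
      rw [hOeq] at h1
      exact h1
    · intro hz
      have hz' : z = x := hz
      subst hz'
      refine ⟨?_, rfl⟩
      have h1 : (⟨z, hx⟩ : (f.base ⁻¹' {IsLocalRing.closedPoint A})) ∈
          (Subtype.val ⁻¹' {z} : Set (f.base ⁻¹' {IsLocalRing.closedPoint A})) := rfl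
      rw [← hOeq] at h1
      exact h1
  obtain ⟨h1, h2, h3⟩ := Groth.Agent.Helper7.QFSplit.fromSpecStalk_clopen f x hcl hqf
  refine ⟨?_, h1, h2⟩
  have key : Spec.map ((Scheme.ΓSpecIso (CommRingCat.of A)).inv ≫ f.appTop ≫
      X.presheaf.germ ⊤ x trivial) = X.fromSpecStalk x ≫ f := by
    rw [Spec.map_comp, Spec.map_comp, ← Scheme.fromSpecStalk_toSpecΓ, Category.assoc,
      Category.assoc, ← Scheme.toSpecΓ_naturality_assoc, toSpecΓ_SpecMap_ΓSpecIso_inv,
      Category.comp_id]
  rw [← IsFinite.SpecMap_iff, key]
  exact h3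

end Groth.Agent.S2343
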