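import Groth.Statements.S2353
import Mathlib
import Groth.Agent.S4433
import Groth.Agent.Lib.Helper9.ValCritL
-- import your own Groth.Agent.* helpers here

set_option autoImplicit false
universe u
open CategoryTheory CategoryTheory.Limits AlgebraicGeometry
open EGA2

namespace Groth.Agent.S2353

open CategoryTheory CategoryTheory.Limits AlgebraicGeometry
namespace Aux

theorem dvr_of_local {O L : Type u} [CommRing O] [IsDomain O] [IsNoetherianRing O] [IsLocalRing O]
    [Field L] (ι : O →+* L) (hinj : Function.Injective ι) (hA : ¬ IsField O)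
    (S : Finset L) (hS : ∀ z : L, z ∈ Subfield.closure (Set.range ι ∪ (S : Set L))) :
    ∃ R' : ValuationSubring L, IsDiscreteValuationRing R' ∧ (∀ a, ι a ∈ R') ∧
      ∀ a ∈ IsLocalRing.maximalIdeal O, R'.valuation (ι a) < 1 := by
  letI : Algebra O L := ι.toAlgebra
  have hinj' : Function.Injective (algebraMap O L) := hinj
  letI : Algebra (FractionRing O) L := (IsFractionRing.lift hinj').toAlgebra
  haveI : IsScalarTower O (FractionRing O) L :=
    IsScalarTower.of_algebraMap_eq (fun x => (IsFractionRing.lift_algebraMap hinj' x).symm)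
  have hfg : (⊤ : IntermediateField (FractionRing O) L).FG := by
    refine ⟨S, ?_⟩
    rw [eq_top_iff]
    intro z _
    have h1 : Subfield.closure (Set.range ι ∪ (S : Set L)) ≤
        (IntermediateField.adjoin (FractionRing O) (S : Set L)).toSubfield := by
      rw [Subfield.closure_le]
      rintro w (⟨a, rfl⟩ | hw)
      · have : ι a = algebraMap (FractionRing O) L (algebraMap O (FractionRing O) a) :=
          (IsFractionRing.lift_algebraMap hinj' a).symm
        change ι a ∈ IntermediateField.adjoin (FractionRing O) (S : Set L)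
        rw [this]
        exact IntermediateField.algebraMap_mem _ _
      · exact IntermediateField.subset_adjoin _ _ hw
    exact h1 (hS z)
  obtain ⟨R', h1, h2, h3⟩ := Groth.Agent.S4433.result O hA (FractionRing O) L hfg
  exact ⟨R', h1, h2, h3⟩

theorem exists_dvr_refine {C L : Type u} [CommRing C] [IsNoetherianRing C] [Field L]
    (g : C →+* L) (R : ValuationSubring L) (hg : ∀ c, g c ∈ R)
    (T : Finset L) (hT : ∀ t ∈ T, R.valuation t < 1) (t₀ : L) (ht₀ : t₀ ∈ T) (ht₀0 : t₀ ≠ 0)
    (S : Finset L) (hS : ∀ z : L, z ∈ Subfield.closure (Set.range g ∪ (S : Set L))) :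
    ∃ R' : ValuationSubring L, IsDiscreteValuationRing R' ∧ (∀ c, g c ∈ R') ∧
      (∀ c, R.valuation (g c) < 1 → R'.valuation (g c) < 1) ∧
      (∀ c, R.valuation (g c) = 1 → R'.valuation (g c) = 1) ∧
      (∀ t ∈ T, R'.valuation t < 1) := by
  classical
  letI : Algebra C L := g.toAlgebra
  let C' : Subalgebra C L := Algebra.adjoin C (T : Set L)
  let RA : Subalgebra C L := { R.toSubring with algebraMap_mem' := hg }
  have hC'R : C' ≤ RA := by
    apply Algebra.adjoin_le
    intro t ht
    exact (R.valuation_le_one_iff t).mp (le_of_lt (hT t ht))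
  haveI : Algebra.FiniteType C C' := (Subalgebra.fg_iff_finiteType _).mp (Subalgebra.fg_adjoin_finset T)
  haveI : IsNoetherianRing C' := Algebra.FiniteType.isNoetherianRing C C'
  let inc : C' →+* R := (C'.val.toRingHom).codRestrict R.toSubring (fun z => hC'R z.2)
  let p' : Ideal C' := (IsLocalRing.maximalIdeal R).comap inc
  haveI : p'.IsPrime := Ideal.comap_isPrime inc _
  have hunits : ∀ y : p'.primeCompl, IsUnit (inc y) := by
    intro y
    by_contra hy
    exact y.2 ((IsLocalRing.mem_maximalIdeal _).mpr hy)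
  let ιR : Localization.AtPrime p' →+* R := IsLocalization.lift hunits
  let ι : Localization.AtPrime p' →+* L := R.subtype.comp ιR
  have hι : ∀ z : C', ι (algebraMap C' (Localization.AtPrime p') z) = (z : L) := by
    intro z
    change ((ιR (algebraMap C' (Localization.AtPrime p') z) : R) : L) = _
    rw [IsLocalization.lift_eq]
    rfl
  have hinj : Function.Injective ι := by
    rw [injective_iff_map_eq_zero]
    intro z hz
    obtain ⟨a, s, rfl⟩ := IsLocalization.exists_mk'_eq p'.primeCompl z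
    have h1 : ι (IsLocalization.mk' (Localization.AtPrime p') a s) *
        ι (algebraMap C' (Localization.AtPrime p') s) =
        ι (algebraMap C' (Localization.AtPrime p') a) := by
      rw [← map_mul, IsLocalization.mk'_spec]
    rw [hz, zero_mul, hι] at h1
    have ha : a = 0 := Subtype.ext h1.symm
    rw [ha, IsLocalization.mk'_zero]
  have ht₀C' : t₀ ∈ C' := Algebra.subset_adjoin ht₀
  have hmemp' : ∀ z : C', R.valuation (z : L) < 1 → z ∈ p' := by
    intro z hz
    change inc z ∈ IsLocalRing.maximalIdeal R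
    rw [ValuationSubring.valuation_lt_one_iff]
    exact hz
  have hA : ¬ IsField (Localization.AtPrime p') := by
    intro hf
    have h1 : algebraMap C' (Localization.AtPrime p') ⟨t₀, ht₀C'⟩ ∈
        IsLocalRing.maximalIdeal (Localization.AtPrime p') :=
      (IsLocalization.AtPrime.to_map_mem_maximal_iff _ p' _).mpr (hmemp' ⟨t₀, ht₀C'⟩ (hT t₀ ht₀))
    rw [IsLocalRing.isField_iff_maximalIdeal_eq.mp hf, Ideal.mem_bot] at h1
    have h2 := hι ⟨t₀, ht₀C'⟩
    rw [h1, map_zero] at h2
    exact ht₀0 h2.symm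
  haveI : IsNoetherianRing (Localization.AtPrime p') :=
    IsLocalization.isNoetherianRing p'.primeCompl _ inferInstance
  have hS' : ∀ z : L, z ∈ Subfield.closure (Set.range ι ∪ (S : Set L)) := by
    intro z
    have h1 : Subfield.closure (Set.range g ∪ (S : Set L)) ≤
        Subfield.closure (Set.range ι ∪ (S : Set L)) := by
      apply Subfield.closure_mono
      apply Set.union_subset_union_left
      rintro _ ⟨c, rfl⟩
      exact ⟨algebraMap C' (Localization.AtPrime p') (algebraMap C C' c), hι _⟩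
    exact h1 (hS z)
  obtain ⟨R', hdvr, hmem, hdom⟩ := dvr_of_local ι hinj hA S hS'
  have hC'mem : ∀ z : C', (z : L) ∈ R' := fun z => hι z ▸ hmem _
  have hC'lt : ∀ z : C', R.valuation (z : L) < 1 → R'.valuation (z : L) < 1 := by
    intro z hz
    have := hdom _ ((IsLocalization.AtPrime.to_map_mem_maximal_iff _ p' _).mpr (hmemp' z hz))
    rwa [hι] at this
  have hC'one : ∀ z : C', R.valuation (z : L) = 1 → R'.valuation (z : L) = 1 := by
    intro z hz
    have hzp : z ∉ p' := by
      intro hzp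
      have : R.valuation ((inc z : R) : L) < 1 :=
        (ValuationSubring.valuation_lt_one_iff R (inc z)).mp hzp
      exact absurd hz (ne_of_lt this)
    have hu : IsUnit (algebraMap C' (Localization.AtPrime p') z) :=
      IsLocalization.map_units _ (⟨z, hzp⟩ : p'.primeCompl)
    obtain ⟨u, hu⟩ := hu
    have h1 : ι (u : Localization.AtPrime p') * ι ((u⁻¹ : (Localization.AtPrime p')ˣ)) = 1 := by
      rw [← map_mul, Units.mul_inv, map_one]
    rw [hu, hι] at h1
    have h2 : R'.valuation (z : L) ≤ 1 := (R'.valuation_le_one_iff _).mpr (hC'mem z)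
    have h3 : R'.valuation (ι ((u⁻¹ : (Localization.AtPrime p')ˣ))) ≤ 1 :=
      (R'.valuation_le_one_iff _).mpr (hmem _)
    have h4 := congrArg R'.valuation h1
    rw [map_mul, map_one] at h4
    by_contra hne
    have hlt : R'.valuation (z : L) < 1 := lt_of_le_of_ne h2 hne
    have : R'.valuation (z : L) * R'.valuation (ι ((u⁻¹ : (Localization.AtPrime p')ˣ))) < 1 :=
      mul_lt_one_of_lt_of_le hlt h3
    rw [h4] at this
    exact lt_irrefl _ this
  have hgC' : ∀ c, g c ∈ C' := fun c => C'.algebraMap_mem c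
  refine ⟨R', hdvr, fun c => hC'mem ⟨g c, hgC' c⟩, fun c hc => hC'lt ⟨g c, hgC' c⟩ hc,
    fun c hc => hC'one ⟨g c, hgC' c⟩ hc, fun t ht => ?_⟩
  exact hC'lt ⟨t, Algebra.subset_adjoin ht⟩ (hT t ht)

theorem val_unit_eq_one {P L : Type u} [CommRing P] [Field L] (θ : P →+* L)
    (R : ValuationSubring L) (hθR : ∀ a, θ a ∈ R) (a : P) (ha : IsUnit a) :
    R.valuation (θ a) = 1 := by
  obtain ⟨u, rfl⟩ := ha
  have h1 : θ (u : P) * θ ((u⁻¹ : Pˣ) : P) = 1 := by rw [← map_mul, Units.mul_inv, map_one]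
  have h2 : R.valuation (θ (u : P)) ≤ 1 := (R.valuation_le_one_iff _).mpr (hθR _)
  have h3 : R.valuation (θ ((u⁻¹ : Pˣ) : P)) ≤ 1 := (R.valuation_le_one_iff _).mpr (hθR _)
  have h4 := congrArg R.valuation h1
  rw [map_mul, map_one] at h4
  by_contra hne
  have hlt : R.valuation (θ (u : P)) < 1 := lt_of_le_of_ne h2 hne
  have : R.valuation (θ (u : P)) * R.valuation (θ ((u⁻¹ : Pˣ) : P)) < 1 :=
    mul_lt_one_of_lt_of_le hlt h3
  rw [h4] at this
  exact lt_irrefl _ this

theorem dominance_transfer {C P L : Type u} [CommRing C] [CommRing P] [IsLocalRing P] [Field L]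
    (γ : C →+* P) (hγ : ∀ a : P, ∃ c s : C, IsUnit (γ s) ∧ a * γ s = γ c)
    (θ : P →+* L) (R R' : ValuationSubring L)
    (hθR : ∀ a, θ a ∈ R) (hθm : ∀ a ∈ IsLocalRing.maximalIdeal P, R.valuation (θ a) < 1)
    (h1 : ∀ c, θ (γ c) ∈ R') (h2 : ∀ c, R.valuation (θ (γ c)) < 1 → R'.valuation (θ (γ c)) < 1)
    (h3 : ∀ c, R.valuation (θ (γ c)) = 1 → R'.valuation (θ (γ c)) = 1) :
    (∀ a, θ a ∈ R') ∧ ∀ a ∈ IsLocalRing.maximalIdeal P, R'.valuation (θ a) < 1 := by
  have key : ∀ a : P, ∃ c : C, R'.valuation (θ a) = R'.valuation (θ (γ c)) ∧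
      (a ∈ IsLocalRing.maximalIdeal P → γ c ∈ IsLocalRing.maximalIdeal P) := by
    intro a
    obtain ⟨c, s, hs, hcs⟩ := hγ a
    refine ⟨c, ?_, ?_⟩
    · have hs1 : R'.valuation (θ (γ s)) = 1 := h3 s (val_unit_eq_one θ R hθR _ hs)
      have := congrArg (fun z => R'.valuation (θ z)) hcs
      simp only [map_mul, hs1, mul_one] at this
      exact this
    · intro ha
      rw [← hcs]
      exact Ideal.mul_mem_right _ _ ha
  constructor
  · intro a
    obtain ⟨c, hc, -⟩ := key a
    rw [← R'.valuation_le_one_iff, hc, R'.valuation_le_one_iff]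
    exact h1 c
  · intro a ha
    obtain ⟨c, hc, hcm⟩ := key a
    rw [hc]
    exact h2 c (hθm _ (hcm ha))

theorem val_inv_lt_one {L : Type u} [Field L] (R : ValuationSubring L) (t : L) (ht : t ∉ R) :
    R.valuation t⁻¹ < 1 := by
  have h1 : ¬ R.valuation t ≤ 1 := fun h => ht ((R.valuation_le_one_iff t).mp h)
  rw [not_le] at h1
  rw [map_inv₀]
  exact inv_lt_one_of_one_lt₀ h1

section sch

open Groth.Agent.Lib.Helper9.ValCritL

variable {X Y : Scheme.{u}} [IsIntegral X] (f : X ⟶ Y)

theorem spec_closedPoint_L (R : ValuationSubring X.functionField)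
    (φ : Spec (CommRingCat.of ↥R) ⟶ Y)
    (hφ : Spec.map (CommRingCat.ofHom R.subtype) ≫ φ = X.fromSpecStalk (genericPoint X) ≫ f) :
    f.base (genericPoint X) ⤳ φ (IsLocalRing.closedPoint ↥R) := by
  let pt : ↥(Spec X.functionField) := IsLocalRing.closedPoint X.functionField
  have h1 : (Spec.map (CommRingCat.ofHom R.subtype) ≫ φ) pt = f (genericPoint X) := by
    rw [hφ]
    change f (X.fromSpecStalk (genericPoint X) pt) = _
    rw [Scheme.fromSpecStalk_closedPoint]
  have h2 : Spec.map (CommRingCat.ofHom R.subtype) pt ⤳ IsLocalRing.closedPoint ↥R :=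
    IsLocalRing.specializes_closedPoint _
  have h3 := h2.map φ.continuous
  rw [← h1]
  exact h3

theorem key_eq_L (R : ValuationSubring X.functionField)
    (φ : Spec (CommRingCat.of ↥R) ⟶ Y)
    (hφ : Spec.map (CommRingCat.ofHom R.subtype) ≫ φ = X.fromSpecStalk (genericPoint X) ≫ f)
    (hy : f.base (genericPoint X) ⤳ φ (IsLocalRing.closedPoint ↥R)) :
    Scheme.stalkClosedPointTo φ ≫ CommRingCat.ofHom R.subtype =
      Y.presheaf.stalkSpecializes hy ≫ f.stalkMap (genericPoint X) := by
  apply Spec.map_injective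
  rw [← cancel_mono (Y.fromSpecStalk (φ (IsLocalRing.closedPoint ↥R)))]
  rw [Spec.map_comp, Category.assoc, Scheme.Spec_stalkClosedPointTo_fromSpecStalk, hφ,
    Spec.map_comp, Category.assoc, Scheme.SpecMap_stalkSpecializes_fromSpecStalk,
    Scheme.SpecMap_stalkMap_fromSpecStalk]

theorem lift_of_affine (R : ValuationSubring X.functionField) (U : X.Opens) (hU : IsAffineOpen U)
    (hξ : genericPoint X ∈ U)
    (h : ∀ b : Γ(X, U), (X.presheaf.germ U (genericPoint X) hξ).hom b ∈ R) :
    ∃ l : Spec (CommRingCat.of ↥R) ⟶ X,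
      Spec.map (CommRingCat.ofHom R.subtype) ≫ l = X.fromSpecStalk (genericPoint X) := by
  let ψ : Γ(X, U) →+* ↥R := (X.presheaf.germ U _ hξ).hom.codRestrict R.toSubring h
  have hψ : CommRingCat.ofHom ψ ≫ CommRingCat.ofHom R.subtype = X.presheaf.germ U _ hξ := by
    ext; rfl
  refine ⟨Spec.map (CommRingCat.ofHom ψ) ≫ hU.fromSpec, ?_⟩
  rw [← Category.assoc, ← Spec.map_comp, hψ]
  exact hU.fromSpecStalk_eq_fromSpecStalk hξ

theorem lift_of_top (R : ValuationSubring X.functionField) (hR : ∀ k : X.functionField, k ∈ R) :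
    ∃ l : Spec (CommRingCat.of ↥R) ⟶ X,
      Spec.map (CommRingCat.ofHom R.subtype) ≫ l = X.fromSpecStalk (genericPoint X) := by
  let inv : X.functionField →+* ↥R := (RingHom.id _).codRestrict R.toSubring hR
  have h1 : CommRingCat.ofHom inv ≫ CommRingCat.ofHom R.subtype = 𝟙 _ := by
    ext x; rfl
  refine ⟨Spec.map (CommRingCat.ofHom inv) ≫ X.fromSpecStalk (genericPoint X), ?_⟩
  rw [← Category.assoc, ← Spec.map_comp, h1, Spec.map_id, Category.id_comp]

theorem center_over [Y.IsSeparated] (R' : ValuationSubring X.functionField) (y₀ : Y)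
    (hy : f.base (genericPoint X) ⤳ y₀)
    (hθR' : ∀ a : Y.presheaf.stalk y₀,
      (Y.presheaf.stalkSpecializes hy ≫ f.stalkMap (genericPoint X)).hom a ∈ R')
    (x : X)
    (hx1 : ∀ a : X.presheaf.stalk x, algebraMap (X.presheaf.stalk x) X.functionField a ∈ R')
    (hx2 : ∀ a ∈ IsLocalRing.maximalIdeal (X.presheaf.stalk x),
      R'.valuation (algebraMap (X.presheaf.stalk x) X.functionField a) < 1) :
    f.base x ⤳ y₀ := by
  let ψx : X.presheaf.stalk x →+* ↥R' :=
    (algebraMap (X.presheaf.stalk x) X.functionField).codRestrict R'.toSubring hx1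
  haveI : IsLocalRing (CommRingCat.of ↥R') := inferInstanceAs (IsLocalRing ↥R')
  haveI hloc : IsLocalHom (CommRingCat.ofHom ψx).hom := by
    constructor
    intro a ha
    by_contra hna
    have ham : a ∈ IsLocalRing.maximalIdeal (X.presheaf.stalk x) :=
      (IsLocalRing.mem_maximalIdeal _).mpr hna
    have h1 := hx2 a ham
    have h2 : ψx a ∈ IsLocalRing.maximalIdeal ↥R' :=
      (ValuationSubring.valuation_lt_one_iff R' (ψx a)).mpr h1
    exact (IsLocalRing.mem_maximalIdeal _).mp h2 ha
  let ψy : Y.presheaf.stalk y₀ →+* ↥R' :=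
    ((Y.presheaf.stalkSpecializes hy ≫ f.stalkMap (genericPoint X)).hom).codRestrict
      R'.toSubring hθR'
  let l' : Spec (CommRingCat.of ↥R') ⟶ X := Spec.map (CommRingCat.ofHom ψx) ≫ X.fromSpecStalk x
  let φ' : Spec (CommRingCat.of ↥R') ⟶ Y := Spec.map (CommRingCat.ofHom ψy) ≫ Y.fromSpecStalk y₀
  have hψx : CommRingCat.ofHom ψx ≫ CommRingCat.ofHom R'.subtype =
      X.presheaf.stalkSpecializes ((genericPoint_spec X).specializes trivial) := by
    ext a; rfl
  have hψy : CommRingCat.ofHom ψy ≫ CommRingCat.ofHom R'.subtype =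
      Y.presheaf.stalkSpecializes hy ≫ f.stalkMap (genericPoint X) := by
    ext a; rfl
  have h1 : Spec.map (CommRingCat.ofHom R'.subtype) ≫ l' = X.fromSpecStalk (genericPoint X) := by
    change Spec.map (CommRingCat.ofHom R'.subtype) ≫ Spec.map (CommRingCat.ofHom ψx) ≫
      X.fromSpecStalk x = _
    rw [← Category.assoc, ← Spec.map_comp, hψx, Scheme.SpecMap_stalkSpecializes_fromSpecStalk]
  have h2 : Spec.map (CommRingCat.ofHom R'.subtype) ≫ φ' =
      X.fromSpecStalk (genericPoint X) ≫ f := by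
    change Spec.map (CommRingCat.ofHom R'.subtype) ≫ Spec.map (CommRingCat.ofHom ψy) ≫
      Y.fromSpecStalk y₀ = _
    rw [← Category.assoc, ← Spec.map_comp, hψy, Spec.map_comp, Category.assoc,
      Scheme.SpecMap_stalkSpecializes_fromSpecStalk, Scheme.SpecMap_stalkMap_fromSpecStalk]
  have h3 : l' ≫ f = φ' := by
    haveI := isDominant_spec_subtype R'
    haveI : _root_.IsReduced (CommRingCat.of ↥R') := inferInstanceAs (_root_.IsReduced ↥R')
    apply ext_of_isDominant (Spec.map (CommRingCat.ofHom R'.subtype))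
    rw [← Category.assoc, h1, h2]
  let cp : ↥(Spec (CommRingCat.of ↥R')) := IsLocalRing.closedPoint ↥R'
  have h4 : l' cp = x := by
    have e1 : l' cp = X.fromSpecStalk x (Spec.map (CommRingCat.ofHom ψx) cp) :=
      Scheme.Hom.comp_apply _ _ _
    have e2 : Spec.map (CommRingCat.ofHom ψx) cp = IsLocalRing.closedPoint (X.presheaf.stalk x) :=
      Spec_closedPoint
    rw [e1, e2]
    exact Scheme.fromSpecStalk_closedPoint
  have h5 : f x = φ' cp := by
    have e1 : (l' ≫ f) cp = f (l' cp) := Scheme.Hom.comp_apply _ _ _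
    rw [← h3, e1, h4]
  have h6 : φ' cp ∈ Set.range (Y.fromSpecStalk y₀) :=
    ⟨Spec.map (CommRingCat.ofHom ψy) cp, (Scheme.Hom.comp_apply _ _ _).symm⟩
  rw [Scheme.range_fromSpecStalk] at h6
  rw [h5]
  exact h6

theorem appLE_germ (V : Y.Opens) (W : X.Opens) (e : W ≤ f ⁻¹ᵁ V) (x : X) (hx : x ∈ W)
    (hfx : f x ∈ V) :
    f.appLE V W e ≫ X.presheaf.germ W x hx =
      Y.presheaf.germ V (f x) hfx ≫ f.stalkMap x := by
  rw [Scheme.Hom.appLE, Category.assoc, X.presheaf.germ_res']
  exact (Scheme.Hom.germ_stalkMap f V x hfx).symm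

theorem fg_input [LocallyOfFiniteType f] (V : Y.Opens) (hV : IsAffineOpen V) (W : X.Opens)
    (hW : IsAffineOpen W) (e : W ≤ f ⁻¹ᵁ V) (hξ : genericPoint X ∈ W)
    (hfξ : f (genericPoint X) ∈ V) :
    ∃ S : Finset X.functionField, ∀ z : X.functionField, z ∈ Subfield.closure
      (Set.range (Y.presheaf.germ V (f (genericPoint X)) hfξ ≫
        f.stalkMap (genericPoint X)).hom ∪ (S : Set X.functionField)) := by
  classical
  have ft := f.finiteType_appLE hV hW e
  letI : Algebra Γ(Y, V) Γ(X, W) := (f.appLE V W e).hom.toAlgebra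
  have ft' : Algebra.FiniteType Γ(Y, V) Γ(X, W) := ft
  obtain ⟨S₀, hS₀⟩ := ft'.out
  haveI : Nonempty W := ⟨⟨genericPoint X, hξ⟩⟩
  haveI := functionField_isFractionRing_of_isAffineOpen X W hW
  refine ⟨S₀.image (X.presheaf.germ W (genericPoint X) hξ).hom, fun z => ?_⟩
  set F := Subfield.closure
      (Set.range (Y.presheaf.germ V (f (genericPoint X)) hfξ ≫
        f.stalkMap (genericPoint X)).hom ∪
        ((S₀.image (X.presheaf.germ W (genericPoint X) hξ).hom : Finset X.functionField) :
          Set X.functionField)) with hF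
  have hgerm : ∀ a : Γ(X, W), (X.presheaf.germ W (genericPoint X) hξ).hom a ∈ F := by
    intro a
    have ha : a ∈ Algebra.adjoin Γ(Y, V) (S₀ : Set Γ(X, W)) := by rw [hS₀]; trivial
    induction ha using Algebra.adjoin_induction with
    | mem x hx =>
      apply Subfield.subset_closure
      right
      exact Finset.mem_coe.mpr (Finset.mem_image_of_mem _ hx)
    | algebraMap c =>
      apply Subfield.subset_closure
      left
      refine ⟨c, ?_⟩
      have := congrArg (fun h => h.hom c) (appLE_germ f V W e (genericPoint X) hξ hfξ)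
      exact this.symm
    | add x y _ _ hx hy => rw [map_add]; exact F.add_mem hx hy
    | mul x y _ _ hx hy => rw [map_mul]; exact F.mul_mem hx hy
  obtain ⟨a, b, -, rfl⟩ := IsFractionRing.div_surjective (A := Γ(X, W)) z
  exact F.div_mem (hgerm a) (hgerm b)

theorem HL_main [IsIntegral Y] [Y.IsSeparated] [IsLocallyNoetherian Y] [LocallyOfFiniteType f]
    [QuasiCompact f]
    (h : ∀ (R : ValuationSubring X.functionField), IsDiscreteValuationRing R →
      ∀ (y : Y) (hy : f.base (genericPoint X) ⤳ y), ((∀ a : (Y.presheaf.stalk y), (Y.presheaf.stalkSpecializes hy ≫ f.stalkMap (genericPoint X)).hom a ∈ R) ∧ ∀ a ∈ IsLocalRing.maximalIdeal (Y.presheaf.stalk y), R.valuation ((Y.presheaf.stalkSpecializes hy ≫ f.stalkMap (genericPoint X)).hom a) < 1) →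
        ∃ x : X, ((∀ a : (X.presheaf.stalk x), algebraMap (X.presheaf.stalk x) X.functionField a ∈ R) ∧ ∀ a ∈ IsLocalRing.maximalIdeal (X.presheaf.stalk x), R.valuation (algebraMap (X.presheaf.stalk x) X.functionField a) < 1))
    (R : ValuationSubring X.functionField) (φ : Spec (CommRingCat.of ↥R) ⟶ Y)
    (hφ : Spec.map (CommRingCat.ofHom R.subtype) ≫ φ = X.fromSpecStalk (genericPoint X) ≫ f) :
    ∃ l : Spec (CommRingCat.of ↥R) ⟶ X,
      Spec.map (CommRingCat.ofHom R.subtype) ≫ l = X.fromSpecStalk (genericPoint X) := by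
  classical
  by_cases hR : ∀ k : X.functionField, k ∈ R
  · exact lift_of_top R hR
  push Not at hR
  obtain ⟨t, ht⟩ := hR
  have ht0 : t ≠ 0 := fun h0 => ht (h0 ▸ R.zero_mem)
  have hy := spec_closedPoint_L f R φ hφ
  have hkey := key_eq_L f R φ hφ hy
  have hθ : ∀ a, (Y.presheaf.stalkSpecializes hy ≫ f.stalkMap (genericPoint X)).hom a =
      (((Scheme.stalkClosedPointTo φ).hom a : ↥R) : X.functionField) := by
    intro a
    have := congrArg (fun g => g.hom a) hkey
    exact this.symm
  have hθR : ∀ a, (Y.presheaf.stalkSpecializes hy ≫ f.stalkMap (genericPoint X)).hom a ∈ R := by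
    intro a
    rw [hθ]
    exact ((Scheme.stalkClosedPointTo φ).hom a).2
  have hθm : ∀ a ∈ IsLocalRing.maximalIdeal (Y.presheaf.stalk (φ (IsLocalRing.closedPoint ↥R))),
      R.valuation ((Y.presheaf.stalkSpecializes hy ≫ f.stalkMap (genericPoint X)).hom a) < 1 := by
    intro a ha
    rw [hθ, ← ValuationSubring.valuation_lt_one_iff]
    rw [IsLocalRing.mem_maximalIdeal, mem_nonunits_iff] at ha ⊢
    rwa [isUnit_map_iff]
  by_contra hno
  have H0 : ∀ (U : X.Opens) (hU : IsAffineOpen U) (hξ : genericPoint X ∈ U),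
      ∃ b : Γ(X, U), (X.presheaf.germ U (genericPoint X) hξ).hom b ∉ R := by
    intro U hU hξ
    by_contra hall
    push Not at hall
    exact hno (lift_of_affine R U hU hξ hall)
  -- affine neighbourhood of y₀
  obtain ⟨_, ⟨V, hV, rfl⟩, hy₀V, -⟩ := Y.isBasis_affineOpens.exists_subset_of_mem_open
    (Set.mem_univ (φ (IsLocalRing.closedPoint ↥R))) isOpen_univ
  have hV' : IsAffineOpen V := hV
  have hfξV : f (genericPoint X) ∈ V := hy.mem_open V.2 hy₀V
  haveI : IsNoetherianRing Γ(Y, V) := IsLocallyNoetherian.component_noetherian ⟨V, hV'⟩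
  -- finite affine cover of the preimage
  have hcpt : IsCompact (f ⁻¹ᵁ V : Set X) := f.isCompact_preimage hV'.isCompact
  obtain ⟨s, hsfin, hs⟩ := isCompact_iff_finite_and_eq_biUnion_affineOpens.mp hcpt
  -- choice of the elements
  let βfun : X.affineOpens → X.functionField := fun W =>
    if hξ : genericPoint X ∈ W.1 then
      (X.presheaf.germ W.1 (genericPoint X) hξ).hom (Classical.choose (H0 W.1 W.2 hξ))
    else t
  have hβ : ∀ W, βfun W ∉ R := by
    intro W
    by_cases hξ : genericPoint X ∈ W.1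
    · simp only [βfun, dif_pos hξ]
      exact Classical.choose_spec (H0 W.1 W.2 hξ)
    · simp only [βfun, dif_neg hξ]
      exact ht
  have hβgerm : ∀ (W : X.affineOpens) (hξ : genericPoint X ∈ W.1),
      ∃ b : Γ(X, W.1), βfun W = (X.presheaf.germ W.1 (genericPoint X) hξ).hom b := by
    intro W hξ
    exact ⟨Classical.choose (H0 W.1 W.2 hξ), by simp only [βfun, dif_pos hξ]⟩
  let T : Finset X.functionField := insert t⁻¹ (hsfin.toFinset.image (fun W => (βfun W)⁻¹))
  have hT : ∀ τ ∈ T, R.valuation τ < 1 := by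
    intro τ hτ
    rcases Finset.mem_insert.mp hτ with rfl | hτ
    · exact val_inv_lt_one R t ht
    · obtain ⟨W, -, rfl⟩ := Finset.mem_image.mp hτ
      exact val_inv_lt_one R _ (hβ W)
  -- membership in the cover
  have hcover : ∀ x : X, x ∈ f ⁻¹ᵁ V → ∃ W ∈ s, x ∈ W.1 := by
    intro x hx
    rw [hs] at hx
    simp only [TopologicalSpace.Opens.mem_iSup] at hx
    obtain ⟨W, hW, hxW⟩ := hx
    exact ⟨W, hW, hxW⟩
  have hle : ∀ W ∈ s, W.1 ≤ f ⁻¹ᵁ V := by
    intro W hW
    rw [hs]
    exact le_iSup₂ (f := fun (i : X.affineOpens) (_ : i ∈ s) => (i : X.Opens)) W hW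
  obtain ⟨W₁, hW₁s, hξW₁⟩ := hcover (genericPoint X) hfξV
  obtain ⟨S, hS⟩ := fg_input f V hV' W₁.1 W₁.2 (hle W₁ hW₁s) hξW₁ hfξV
  -- the ring maps
  let γ : Γ(Y, V) →+* Y.presheaf.stalk (φ (IsLocalRing.closedPoint ↥R)) :=
    (Y.presheaf.germ V _ hy₀V).hom
  let θ : Y.presheaf.stalk (φ (IsLocalRing.closedPoint ↥R)) →+* X.functionField :=
    (Y.presheaf.stalkSpecializes hy ≫ f.stalkMap (genericPoint X)).hom
  have hg : θ.comp γ = (Y.presheaf.germ V (f (genericPoint X)) hfξV ≫
      f.stalkMap (genericPoint X)).hom := by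
    have : Y.presheaf.germ V _ hy₀V ≫ Y.presheaf.stalkSpecializes hy ≫
        f.stalkMap (genericPoint X) =
        Y.presheaf.germ V (f (genericPoint X)) hfξV ≫ f.stalkMap (genericPoint X) := by
      rw [← Category.assoc, Y.presheaf.germ_stalkSpecializes]
    rw [← this]
    rfl
  rw [← hg] at hS
  obtain ⟨R', hdvr, h1, h2, h3, h4⟩ := exists_dvr_refine (θ.comp γ) R (fun c => hθR (γ c)) T hT
    t⁻¹ (Finset.mem_insert_self _ _) (inv_ne_zero ht0) S hS
  -- dominance of the local ring of y₀
  have hγ : ∀ a : Y.presheaf.stalk (φ (IsLocalRing.closedPoint ↥R)),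
      ∃ c s : Γ(Y, V), IsUnit (γ s) ∧ a * γ s = γ c := by
    intro a
    letI := Y.presheaf.algebra_section_stalk ⟨φ (IsLocalRing.closedPoint ↥R), hy₀V⟩
    haveI := hV'.isLocalization_stalk ⟨φ (IsLocalRing.closedPoint ↥R), hy₀V⟩
    obtain ⟨⟨c, s⟩, hcs⟩ := IsLocalization.surj
      (hV'.primeIdealOf ⟨φ (IsLocalRing.closedPoint ↥R), hy₀V⟩).asIdeal.primeCompl a
    exact ⟨c, s.1, IsLocalization.map_units _ s, hcs⟩
  obtain ⟨hθR', hθm'⟩ := dominance_transfer γ hγ θ R R' hθR hθm h1 h2 h3
  obtain ⟨x, hx1, hx2⟩ := h R' hdvr _ hy ⟨hθR', hθm'⟩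
  have hfx : f.base x ⤳ φ (IsLocalRing.closedPoint ↥R) :=
    center_over f R' _ hy hθR' x hx1 hx2
  have hxV : x ∈ f ⁻¹ᵁ V := hfx.mem_open V.2 hy₀V
  obtain ⟨W, hWs, hxW⟩ := hcover x hxV
  have hξW : genericPoint X ∈ W.1 :=
    ((genericPoint_spec X).specializes (Set.mem_univ x)).mem_open W.1.2 hxW
  obtain ⟨b, hb⟩ := hβgerm W hξW
  have hβR' : βfun W ∈ R' := by
    rw [hb]
    have : (X.presheaf.germ W.1 (genericPoint X) hξW).hom b =
        algebraMap (X.presheaf.stalk x) X.functionField ((X.presheaf.germ W.1 x hxW).hom b) := by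
      have h5 := X.presheaf.germ_stalkSpecializes hxW
        ((genericPoint_spec X).specializes (Set.mem_univ x))
      have h6 := congrArg (fun g => g.hom b) h5
      exact h6.symm
    rw [this]
    exact hx1 _
  have hβinv : R'.valuation (βfun W)⁻¹ < 1 :=
    h4 _ (Finset.mem_insert_of_mem (Finset.mem_image.mpr ⟨W, hsfin.mem_toFinset.mpr hWs, rfl⟩))
  have hβ0 : βfun W ≠ 0 := fun h0 => hβ W (h0 ▸ R.zero_mem)
  have hβle : R'.valuation (βfun W) ≤ 1 := (R'.valuation_le_one_iff _).mpr hβR'
  rw [map_inv₀] at hβinv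
  have hpos : 0 < R'.valuation (βfun W) := zero_lt_iff.mpr ((Valuation.ne_zero_iff _).mpr hβ0)
  have : 1 ≤ (R'.valuation (βfun W))⁻¹ := (one_le_inv₀ hpos).mpr hβle
  exact absurd hβinv (not_lt.mpr this)

theorem main [IsIntegral Y] [X.IsSeparated] [Y.IsSeparated] [IsLocallyNoetherian Y]
    [LocallyOfFiniteType f] [QuasiCompact f]
    (h : ∀ (R : ValuationSubring X.functionField), IsDiscreteValuationRing R →
      ∀ (y : Y) (hy : f.base (genericPoint X) ⤳ y), ((∀ a : (Y.presheaf.stalk y), (Y.presheaf.stalkSpecializes hy ≫ f.stalkMap (genericPoint X)).hom a ∈ R) ∧ ∀ a ∈ IsLocalRing.maximalIdeal (Y.presheaf.stalk y), R.valuation ((Y.presheaf.stalkSpecializes hy ≫ f.stalkMap (genericPoint X)).hom a) < 1) →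
        ∃ x : X, ((∀ a : (X.presheaf.stalk x), algebraMap (X.presheaf.stalk x) X.functionField a ∈ R) ∧ ∀ a ∈ IsLocalRing.maximalIdeal (X.presheaf.stalk x), R.valuation (algebraMap (X.presheaf.stalk x) X.functionField a) < 1)) :
    IsProper f :=
  proper_of_L f (fun R φ hφ => HL_main f h R φ hφ)

end sch

end Aux

/-- Let Y be an integral separated locally Noetherian scheme, X an integral separated scheme and f : X →
Y dominant and of finite type, with generic point ξ of X. Suppose that for every discrete valuation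
subring R of the function field K(X) and every point y of Y such that R dominates the local ring
O_{Y,y} (through O_{Y,y} → O_{Y,f(ξ)} → K(X): the image lies in R and the maximal ideal maps into
the maximal ideal of R), there is a point x of X whose local ring is dominated by R (through O_{X,x}
→ K(X)). Then f is proper. -/
theorem result {X Y : Scheme.{u}} [IsIntegral X] [IsIntegral Y] [X.IsSeparated] [Y.IsSeparated]
    [IsLocallyNoetherian Y] (f : X ⟶ Y) [IsDominant f] [LocallyOfFiniteType f] [QuasiCompact f]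
    (h : ∀ (R : ValuationSubring X.functionField), IsDiscreteValuationRing R →
      ∀ (y : Y) (hy : f.base (genericPoint X) ⤳ y), ((∀ a : (Y.presheaf.stalk y), (Y.presheaf.stalkSpecializes hy ≫ f.stalkMap (genericPoint X)).hom a ∈ R) ∧ ∀ a ∈ IsLocalRing.maximalIdeal (Y.presheaf.stalk y), R.valuation ((Y.presheaf.stalkSpecializes hy ≫ f.stalkMap (genericPoint X)).hom a) < 1) →
        ∃ x : X, ((∀ a : (X.presheaf.stalk x), algebraMap (X.presheaf.stalk x) X.functionField a ∈ R) ∧ ∀ a ∈ IsLocalRing.maximalIdeal (X.presheaf.stalk x), R.valuation (algebraMap (X.presheaf.stalk x) X.functionField a) < 1)) :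
    IsProper f := by
  exact Aux.main f h

end Groth.Agent.S2353
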