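import Groth.Statements.S2357
import Mathlib
import Groth.Agent.Lib.Helper1.ProjNoeth

set_option autoImplicit false
universe u
open CategoryTheory CategoryTheory.Limits AlgebraicGeometry
open EGA2

namespace Groth.Agent.S2357

/-- If A is a graded ring which is Noetherian, then Proj A is a Noetherian scheme. -/
theorem result {R A : Type u} [CommRing R] [CommRing A] [Algebra R A] (𝒜 : ℕ → Submodule R A) [GradedAlgebra 𝒜] [IsNoetherianRing A] :
    IsNoetherian (Proj 𝒜) := by
  exact Groth.Agent.Helper1.ProjNoeth.isNoetherian_proj 𝒜

end Groth.Agent.S2357
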