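import Groth.Statements.S2454
import Groth.Agent.Lib.Helper8.CohenSm2
import Groth.Agent.S2451

set_option autoImplicit false
universe u
open EGA41

namespace Groth.Agent.S2454

open IsLocalRing in
/-- Let A → B be a local homomorphism of Noetherian local rings making B a Cohen A-algebra. Then B, with
its adic topology, is formally smooth over A with its adic topology. -/
theorem result {A B : Type u} [CommRing A] [IsLocalRing A] [CommRing B] [IsLocalRing B]
    [Algebra A B] [IsLocalHom (algebraMap A B)] (h : EGA41.IsCohenAlgebra A B) :
    EGA41.IsFormallySmoothAdic A (maximalIdeal A) B (maximalIdeal B) := by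
  obtain ⟨hNA, hNB, hcompl, hflat, hmax, hgr⟩ := h
  letI : Algebra (A ⧸ IsLocalRing.maximalIdeal A) (IsLocalRing.ResidueField B) :=
    inferInstanceAs (Algebra (IsLocalRing.ResidueField A) (IsLocalRing.ResidueField B))
  haveI : IsScalarTower A (A ⧸ IsLocalRing.maximalIdeal A) (IsLocalRing.ResidueField B) :=
    inferInstanceAs (IsScalarTower A (IsLocalRing.ResidueField A) (IsLocalRing.ResidueField B))
  haveI : Algebra.FormallySmooth (A ⧸ IsLocalRing.maximalIdeal A) (IsLocalRing.ResidueField B) :=
    (Groth.Agent.S2451.result (k := IsLocalRing.ResidueField A)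
      (K := IsLocalRing.ResidueField B)).2 hgr
  let ρ : B →ₐ[A] IsLocalRing.ResidueField B :=
    IsScalarTower.toAlgHom A B (IsLocalRing.ResidueField B)
  have hρ : Function.Surjective ρ := IsLocalRing.residue_surjective
  have hker : RingHom.ker ρ = (IsLocalRing.maximalIdeal A).map (algebraMap A B) := by
    rw [hmax]
    exact IsLocalRing.ker_residue (R := B)
  intro C _ _ J hJ hk u _
  exact Groth.Agent.Helper8.CohenSm.exists_lift (IsLocalRing.maximalIdeal A) ρ hρ hker J hJ hk u

end Groth.Agent.S2454
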