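import Groth.Statements.S2456
import Groth.Agent.Lib.Helper8.CohenLift4

set_option autoImplicit false
universe u
open EGA41

namespace Groth.Agent.S2456

open IsLocalRing in
/-- Let W be a Cohen ring (a field of characteristic zero, or a complete discrete valuation ring with
maximal ideal generated by the residue characteristic), C a complete Noetherian local ring and J ≠ C
an ideal of C. Then every local homomorphism u : W → C/J is induced by a local homomorphism v : W →
C. -/
theorem result {W C : Type u} [CommRing W] [IsLocalRing W] (hW : EGA41.IsCohenRingEGA W)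
    [CommRing C] [IsLocalRing C] [IsNoetherianRing C] [IsAdicComplete (maximalIdeal C) C]
    (J : Ideal C) (hJ : J ≠ ⊤) [IsLocalRing (C ⧸ J)] (u : W →+* C ⧸ J) [IsLocalHom u] :
    ∃ v : W →+* C, IsLocalHom v ∧ (Ideal.Quotient.mk J).comp v = u := by
  classical
  have hLP : Groth.Agent.Helper8.CohenLift.LiftProp W (IsLocalRing.maximalIdeal C) := by
    rcases hW with ⟨hF, hC⟩ | ⟨hd, hv, hc, p, hp, hm⟩
    · letI := hF.toField
      exact Groth.Agent.Helper8.CohenLift.liftProp_of_charZero W _
    · refine Groth.Agent.Helper8.CohenLift.liftProp_of_cohen W p hp hm _ ?_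
      -- `p` lies in the maximal ideal of `C`
      have h1 : (p : W) ∈ IsLocalRing.maximalIdeal W := by
        rw [hm]; exact Ideal.mem_span_singleton_self _
      have h2 : ¬ IsUnit (u (p : W)) := fun h =>
        (IsLocalRing.mem_maximalIdeal _).1 h1 (IsUnit.of_map u _ h)
      rw [IsLocalRing.mem_maximalIdeal]
      intro h3
      apply h2
      rw [map_natCast, ← map_natCast (Ideal.Quotient.mk J)]
      exact h3.map _
  obtain ⟨v, hv⟩ := Groth.Agent.Helper8.CohenLift.exists_lift_quotient J hJ u hLP
  refine ⟨v, ⟨fun a ha => ?_⟩, hv⟩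
  have h4 : IsUnit (u a) := by
    rw [← hv]
    exact ha.map (Ideal.Quotient.mk J)
  exact IsUnit.of_map u a h4

end Groth.Agent.S2456
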