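import Groth.Statements.S2457
import Groth.Agent.Lib.Helper8.CohenIso

set_option autoImplicit false
universe u
open EGA41

namespace Groth.Agent.S2457

open IsLocalRing in
/-- Let W and W' be Cohen rings with residue fields K and K' and u : K ≅ K' an isomorphism. Then u is
induced by some isomorphism v : W ≅ W'. -/
theorem result {W W' : Type u} [CommRing W] [IsLocalRing W] [CommRing W'] [IsLocalRing W']
    (hW : EGA41.IsCohenRingEGA W) (hW' : EGA41.IsCohenRingEGA W') (u : ResidueField W ≃+* ResidueField W') :
    ∃ v : W ≃+* W', ∀ x : W, residue W' (v x) = u (residue W x) := by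
  classical
  -- residue characteristic facts
  have key : ∀ (V : Type u) [CommRing V] [IsLocalRing V] (q : ℕ),
      IsLocalRing.maximalIdeal V = Ideal.span {(q : V)} → (q : IsLocalRing.ResidueField V) = 0 := by
    intro V _ _ q hq
    rw [← map_natCast (IsLocalRing.residue V), IsLocalRing.residue_eq_zero_iff, hq]
    exact Ideal.mem_span_singleton_self _
  rcases hW with ⟨hF, hC⟩ | ⟨hd, hv, hc, p, hp, hm⟩
  · rcases hW' with ⟨hF', hC'⟩ | ⟨hd', hv', hc', p', hp', hm'⟩
    · -- both fields
      let e1 : W ≃+* IsLocalRing.ResidueField W :=
        RingEquiv.ofBijective _ (Groth.Agent.Helper8.CohenIso.residue_bijective_of_isField W hF)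
      let e2 : W' ≃+* IsLocalRing.ResidueField W' :=
        RingEquiv.ofBijective _ (Groth.Agent.Helper8.CohenIso.residue_bijective_of_isField W' hF')
      refine ⟨(e1.trans u).trans e2.symm, fun x => ?_⟩
      show e2 (e2.symm (u (e1 x))) = u (IsLocalRing.residue W x)
      rw [RingEquiv.apply_symm_apply]
      rfl
    · -- field of characteristic zero versus residue characteristic p'
      exfalso
      have h1 := key W' p' hm'
      have h2 : (p' : IsLocalRing.ResidueField W) = 0 := by
        apply u.injective
        rw [map_natCast, h1, map_zero]
      have h3 : (p' : W) = 0 := by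
        apply (Groth.Agent.Helper8.CohenIso.residue_bijective_of_isField W hF).1
        rw [map_natCast, h2, map_zero]
      exact hp'.ne_zero (by exact_mod_cast h3)
  · rcases hW' with ⟨hF', hC'⟩ | ⟨hd', hv', hc', p', hp', hm'⟩
    · exfalso
      have h1 := key W p hm
      have h2 : (p : IsLocalRing.ResidueField W') = 0 := by
        rw [← map_natCast u, h1, map_zero]
      have h3 : (p : W') = 0 := by
        apply (Groth.Agent.Helper8.CohenIso.residue_bijective_of_isField W' hF').1
        rw [map_natCast, h2, map_zero]
      exact hp.ne_zero (by exact_mod_cast h3)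
    · -- both Cohen rings; the primes agree
      have h1 := key W p hm
      have h1' := key W' p' hm'
      have h2 : (p' : IsLocalRing.ResidueField W) = 0 := by
        apply u.injective
        rw [map_natCast, h1', map_zero]
      have hpp : p = p' := by
        haveI : Fact p.Prime := ⟨hp⟩
        haveI : CharP (IsLocalRing.ResidueField W) p := by
          obtain ⟨c, hc⟩ := CharP.exists (IsLocalRing.ResidueField W)
          have hcp : c ∣ p := (CharP.cast_eq_zero_iff _ c p).1 h1
          rcases (Nat.dvd_prime hp).1 hcp with h | h
          · subst h
            exfalso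
            have : (1 : IsLocalRing.ResidueField W) = 0 := by
              have := CharP.cast_eq_zero (IsLocalRing.ResidueField W) 1
              rw [Nat.cast_one] at this
              exact this
            exact one_ne_zero this
          · subst h; exact hc
        have hdvd : p ∣ p' := (CharP.cast_eq_zero_iff _ p p').1 h2
        exact ((Nat.prime_dvd_prime_iff_eq hp hp').1 hdvd)
      subst hpp
      exact Groth.Agent.Helper8.CohenIso.exists_ringEquiv_of_residue W p hp hm W' hm' u

end Groth.Agent.S2457
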