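import Groth.Statements.S2458
import Groth.Agent.Lib.Helper8.CatCM2
import Groth.Agent.Lib.Helper8.RegularLocal

set_option autoImplicit false
universe u
open EGA41

namespace Groth.Agent.S2458


open IsLocalRing in
theorem aux {A : Type u} [CommRing A] [IsLocalRing A] (h : maximalIdeal A ^ 2 = ⊥) (n : ℕ) :
    ∀ (S : Type u) [CommRing S] [IsRegularLocalRing S] (f : S →+* A), Function.Surjective f →
      ringKrullDim S = n →
      ∃ (B : Type u) (_ : CommRing B) (_ : IsRegularLocalRing B),
        Nonempty (A ≃+* B ⧸ IsLocalRing.maximalIdeal B ^ 2) := by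
  induction n with
  | zero =>
    intro S _ _ f hf hd
    have hle : maximalIdeal S ^ 2 ≤ RingHom.ker f := by
      intro x hx
      rw [RingHom.mem_ker, ← Ideal.mem_bot, ← h, ← map_maximalIdeal_of_surjective f hf,
        ← Ideal.map_pow]
      exact Ideal.mem_map_of_mem f hx
    by_cases hk : RingHom.ker f ≤ maximalIdeal S ^ 2
    · have heq : RingHom.ker f = maximalIdeal S ^ 2 := le_antisymm hk hle
      exact ⟨S, inferInstance, inferInstance,
        ⟨(RingHom.quotientKerEquivOfSurjective hf).symm.trans (Ideal.quotEquivOfEq heq)⟩⟩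
    · exfalso
      obtain ⟨x, hxk, hx2⟩ := Set.not_subset.mp hk
      have hxm : x ∈ maximalIdeal S := by
        have := IsLocalHom.of_surjective f hf
        rw [← maximalIdeal_comap f]
        rw [Ideal.mem_comap, (RingHom.mem_ker).mp hxk]
        exact zero_mem _
      obtain ⟨_, hd'⟩ := Groth.Agent.Helper8.RLR.quotient_singleton hxm hx2
      rw [hd] at hd'
      have h0 : (0 : WithBot ℕ∞) ≤ ringKrullDim (S ⧸ Ideal.span ({x} : Set S)) := by
        haveI := Groth.Agent.Helper8.RLR.isLocalRing_quotient
          (J := Ideal.span ({x} : Set S)) ((Ideal.span_singleton_le_iff_mem _).mpr hxm)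
        exact ringKrullDim_nonneg_of_nontrivial
      have : (1 : WithBot ℕ∞) ≤ ((0 : ℕ) : WithBot ℕ∞) := by
        rw [← hd']
        calc (1 : WithBot ℕ∞) = 0 + 1 := by simp
          _ ≤ _ := add_le_add h0 le_rfl
      norm_num at this
  | succ n ih =>
    intro S _ _ f hf hd
    have hle : maximalIdeal S ^ 2 ≤ RingHom.ker f := by
      intro x hx
      rw [RingHom.mem_ker, ← Ideal.mem_bot, ← h, ← map_maximalIdeal_of_surjective f hf,
        ← Ideal.map_pow]
      exact Ideal.mem_map_of_mem f hx
    by_cases hk : RingHom.ker f ≤ maximalIdeal S ^ 2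
    · have heq : RingHom.ker f = maximalIdeal S ^ 2 := le_antisymm hk hle
      exact ⟨S, inferInstance, inferInstance,
        ⟨(RingHom.quotientKerEquivOfSurjective hf).symm.trans (Ideal.quotEquivOfEq heq)⟩⟩
    · obtain ⟨x, hxk, hx2⟩ := Set.not_subset.mp hk
      have hxm : x ∈ maximalIdeal S := by
        have := IsLocalHom.of_surjective f hf
        rw [← maximalIdeal_comap f]
        rw [Ideal.mem_comap, (RingHom.mem_ker).mp hxk]
        exact zero_mem _
      obtain ⟨hreg, hd'⟩ := Groth.Agent.Helper8.RLR.quotient_singleton hxm hx2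
      rw [hd] at hd'
      have hspan : Ideal.span ({x} : Set S) ≤ RingHom.ker f :=
        (Ideal.span_singleton_le_iff_mem _).mpr hxk
      refine ih (S ⧸ Ideal.span ({x} : Set S)) (Ideal.Quotient.lift _ f hspan) ?_ ?_
      · exact Ideal.Quotient.lift_surjective_of_surjective _ hspan hf
      · have h0 : (0 : WithBot ℕ∞) ≤ ringKrullDim (S ⧸ Ideal.span ({x} : Set S)) := by
          haveI := Groth.Agent.Helper8.RLR.isLocalRing_quotient
            (J := Ideal.span ({x} : Set S)) ((Ideal.span_singleton_le_iff_mem _).mpr hxm)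
          exact ringKrullDim_nonneg_of_nontrivial
        have hle' : ringKrullDim (S ⧸ Ideal.span ({x} : Set S)) ≤ ((n + 1 : ℕ) : WithBot ℕ∞) := by
          rw [← hd]; exact ringKrullDim_quotient_le _
        obtain ⟨e, he, -⟩ := Groth.Agent.Helper8.RLR.exists_nat_eq h0 hle'
        rw [he] at hd' ⊢
        have : e + 1 = n + 1 := by exact_mod_cast hd'
        have : e = n := by omega
        rw [this]

open IsLocalRing in
/-- Let A be an Artinian local ring whose maximal ideal 𝔪 satisfies 𝔪² = 0. Then there is a regular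
local ring B with maximal ideal 𝔫 such that A ≅ B/𝔫². -/
theorem result {A : Type u} [CommRing A] [IsLocalRing A] [IsArtinianRing A]
    (h : maximalIdeal A ^ 2 = ⊥) :
    ∃ (B : Type u) (_ : CommRing B) (_ : IsRegularLocalRing B), Nonempty (A ≃+* B ⧸ IsLocalRing.maximalIdeal B ^ 2) := by
  obtain ⟨S, hS, hreg, f, hf⟩ := Groth.Agent.Helper8.CatCM.exists_surjective_of_complete A
  have hfin : ringKrullDim S < ⊤ := ringKrullDim_lt_top
  have h0 : (0 : WithBot ℕ∞) ≤ ringKrullDim S := ringKrullDim_nonneg_of_nontrivial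
  obtain ⟨n, hn⟩ : ∃ n : ℕ, ringKrullDim S = n := by
    cases hd : ringKrullDim S with
    | bot => rw [hd] at h0; simp at h0
    | coe a =>
      cases ha : a with
      | top => rw [hd, ha] at hfin; exact absurd hfin (lt_irrefl _)
      | coe m => exact ⟨m, rfl⟩
  exact aux h n S f hf hn

end Groth.Agent.S2458
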