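import Groth.Statements.S2459
import Groth.Agent.Lib.Helper8.CohenArt

set_option autoImplicit false
universe u
open EGA41

namespace Groth.Agent.S2459

open IsLocalRing in
/-- Let A be an Artinian local ring with maximal ideal 𝔪 and residue field of characteristic p (p = 0
allowed). Then A is isomorphic to a quotient of a Cohen ring if and only if 𝔪 is generated by p·1. -/
theorem result {A : Type u} [CommRing A] [IsLocalRing A] [IsArtinianRing A]
    (p : ℕ) [CharP (ResidueField A) p] :
    (∃ (W : Type u) (_ : CommRing W) (I : Ideal W), EGA41.IsCohenRingEGA W ∧ Nonempty (A ≃+* W ⧸ I)) ↔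
      maximalIdeal A = Ideal.span {(p : A)} := by
  classical
  -- a prime generating the maximal ideal of a local ring is the residue characteristic
  have hchar : ∀ (q : ℕ), q.Prime → (q : A) ∈ maximalIdeal A → p = q := by
    intro q hq hqm
    have h1 : (q : ResidueField A) = 0 := by
      rw [← map_natCast (residue A), residue_eq_zero_iff]; exact hqm
    have hdvd : p ∣ q := (CharP.cast_eq_zero_iff _ p q).1 h1
    rcases (Nat.dvd_prime hq).1 hdvd with h | h
    · exfalso
      subst h
      have := CharP.cast_eq_zero (ResidueField A) 1
      rw [Nat.cast_one] at this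
      exact one_ne_zero this
    · exact h
  constructor
  · rintro ⟨W, hW, I, hCoh, ⟨e⟩⟩
    have hI : I ≠ ⊤ := by
      intro hI
      haveI : Subsingleton (W ⧸ I) := Ideal.Quotient.subsingleton_iff.2 hI
      exact not_subsingleton A e.toEquiv.subsingleton
    rcases hCoh with ⟨hF, hC⟩ | ⟨hd, hv, hc, q, hq, hm⟩
    · -- a field of characteristic zero
      letI := hF.toField
      have hIbot : I = ⊥ := (Ideal.eq_bot_or_top I).resolve_right hI
      subst hIbot
      let e' : A ≃+* W := e.trans (RingEquiv.quotientBot W)
      have hAF : IsField A := MulEquiv.isField hF e'.toMulEquiv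
      have hmbot : maximalIdeal A = ⊥ := isField_iff_maximalIdeal_eq.1 hAF
      have hp0 : p = 0 := by
        have h1 : (p : ResidueField A) = 0 := CharP.cast_eq_zero _ p
        rw [← map_natCast (residue A), residue_eq_zero_iff, hmbot, Ideal.mem_bot] at h1
        have h2 : (p : W) = 0 := by rw [← map_natCast e', h1, map_zero]
        exact_mod_cast h2
      rw [hmbot, hp0, Nat.cast_zero]
      exact (Ideal.span_singleton_eq_bot.2 rfl).symm
    · -- a Cohen ring
      haveI hLW : IsLocalRing W := inferInstance
      have hmem : ∀ a : A, a ∈ maximalIdeal A ↔ a ∈ Ideal.span {(q : A)} := by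
        intro a
        rw [Ideal.mem_span_singleton']
        constructor
        · intro ha
          obtain ⟨w, hw⟩ := Ideal.Quotient.mk_surjective (e a)
          have hwm : w ∈ maximalIdeal W := by
            rw [mem_maximalIdeal]
            intro hu
            have h1 : IsUnit (e a) := hw ▸ hu.map (Ideal.Quotient.mk I)
            have h2 : IsUnit a := by
              have := h1.map e.symm
              rwa [RingEquiv.symm_apply_apply] at this
            exact (mem_maximalIdeal a).1 ha h2
          rw [hm, Ideal.mem_span_singleton'] at hwm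
          obtain ⟨c, hc'⟩ := hwm
          refine ⟨e.symm (Ideal.Quotient.mk I c), ?_⟩
          apply e.injective
          rw [map_mul, RingEquiv.apply_symm_apply, map_natCast, ← hw, ← hc', map_mul, map_natCast]
        · rintro ⟨c, rfl⟩
          rw [mem_maximalIdeal]
          intro hu
          have h1 : IsUnit (e (c * (q : A))) := hu.map e
          rw [map_mul, map_natCast] at h1
          have h2 : IsUnit ((q : W ⧸ I)) := isUnit_of_mul_isUnit_right h1
          obtain ⟨b, hb⟩ := h2.exists_right_inv
          obtain ⟨b', rfl⟩ := Ideal.Quotient.mk_surjective b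
          have h3 : (q : W) * b' - 1 ∈ I := by
            rw [← Ideal.Quotient.eq_zero_iff_mem, map_sub, map_mul, map_natCast, hb, map_one,
              sub_self]
          have h4 : (q : W) * b' - 1 ∈ maximalIdeal W := IsLocalRing.le_maximalIdeal hI h3
          have h5 : (q : W) * b' ∈ maximalIdeal W := by
            rw [hm]; exact Ideal.mul_mem_right _ _ (Ideal.mem_span_singleton_self _)
          have h6 : (1 : W) ∈ maximalIdeal W := by
            have := (maximalIdeal W).sub_mem h5 h4
            rwa [sub_sub_cancel] at this
          exact (Ideal.ne_top_iff_one _).1 (Ideal.IsPrime.ne_top inferInstance) h6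
      have hmq : maximalIdeal A = Ideal.span {(q : A)} := Ideal.ext hmem
      have hpq : p = q := hchar q hq (by rw [hmq]; exact Ideal.mem_span_singleton_self _)
      rw [hpq]
      exact hmq
  · intro hmA
    by_cases hp0 : p = 0
    · subst hp0
      rw [Nat.cast_zero, Ideal.span_singleton_eq_bot.2 rfl] at hmA
      have hAF : IsField A := isField_iff_maximalIdeal_eq.2 hmA
      have hcz : CharZero A := by
        refine charZero_of_inj_zero fun n hn => ?_
        have h1 : (n : ResidueField A) = 0 := by
          rw [← map_natCast (residue A), hn, map_zero]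
        exact (CharP.cast_eq_zero_iff (ResidueField A) 0 n).1 h1 |> Nat.eq_zero_of_zero_dvd
      exact ⟨A, inferInstance, ⊥, Or.inl ⟨hAF, hcz⟩, ⟨(RingEquiv.quotientBot A).symm⟩⟩
    · have hpp : p.Prime := (CharP.char_is_prime_or_zero (ResidueField A) p).resolve_right hp0
      haveI : Fact p.Prime := ⟨hpp⟩
      obtain ⟨Λ, hΛ, hL, ⟨hd, hv, hc, q, hq, hm⟩, ⟨e⟩⟩ :=
        Groth.Agent.Helper8.Cohen.exists_cohenRing p (ResidueField A)
      -- `q = p`
      have hqΛ : (q : ResidueField Λ) = 0 := by
        rw [← map_natCast (residue Λ), residue_eq_zero_iff, hm]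
        exact Ideal.mem_span_singleton_self _
      have hqk : (q : ResidueField A) = 0 := by rw [← map_natCast e, hqΛ, map_zero]
      have hqm : (q : A) ∈ maximalIdeal A := by
        rw [← residue_eq_zero_iff, map_natCast]; exact hqk
      have hpq : p = q := hchar q hq hqm
      subst hpq
      have hnil : IsNilpotent (maximalIdeal A) := by
        rw [← IsLocalRing.jacobson_eq_maximalIdeal (⊥ : Ideal A) bot_ne_top]
        exact IsArtinianRing.isNilpotent_jacobson_bot
      obtain ⟨φ, hφ⟩ := Groth.Agent.Helper8.CohenArt.exists_surjective_of_nilpotent Λ p hq hm A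
        hnil hmA e
      exact ⟨Λ, hΛ, RingHom.ker φ, Or.inr ⟨hd, hv, hc, p, hq, hm⟩,
        ⟨(RingHom.quotientKerEquivOfSurjective hφ).symm⟩⟩

end Groth.Agent.S2459
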