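import Groth.Statements.S2460
import Groth.Agent.Lib.Helper8.FinPS1
import Groth.Agent.Lib.Helper8.CoeffField3

set_option autoImplicit false
universe u
open EGA41

namespace Groth.Agent.S2460

open IsLocalRing in
/-- Let A be a complete Noetherian local domain containing a field k₀ such that the residue field of A
is a finite extension of k₀. Then there are n and an injective local k₀-algebra homomorphism from
the power series ring k₀[[T_1, …, T_n]] into A making A a finite module over it. -/
theorem result {k₀ A : Type u} [Field k₀] [CommRing A] [IsDomain A] [IsLocalRing A] [IsNoetherianRing A]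
    [IsAdicComplete (maximalIdeal A) A] [Algebra k₀ A] [Module.Finite k₀ (ResidueField A)] :
    ∃ (n : ℕ) (w : MvPowerSeries (Fin n) k₀ →ₐ[k₀] A), Function.Injective w ∧ IsLocalHom w.toRingHom ∧ w.toRingHom.Finite := by
  classical
  obtain ⟨s, hs, hcard⟩ :=
    Ideal.exists_finset_card_eq_height_of_isNoetherianRing (IsLocalRing.maximalIdeal A)
  let x : Fin s.card → A := fun i => (s.equivFin.symm i : A)
  have hrange : Set.range x = (s : Set A) := by
    ext a
    constructor
    · rintro ⟨i, rfl⟩
      exact (s.equivFin.symm i).2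
    · intro ha
      refine ⟨s.equivFin ⟨a, ha⟩, ?_⟩
      show ((s.equivFin.symm (s.equivFin ⟨a, ha⟩) : s) : A) = a
      rw [Equiv.symm_apply_apply]
  have hsm : Ideal.span (s : Set A) ≤ IsLocalRing.maximalIdeal A := hs.1.2
  have hx : ∀ i, x i ∈ IsLocalRing.maximalIdeal A :=
    fun i => hsm (Ideal.subset_span (s.equivFin.symm i).2)
  obtain ⟨w, hw⟩ := Groth.Agent.Helper8.CohenStr.exists_algHom k₀ A s.card x hx
  have hmap : (IsLocalRing.maximalIdeal (MvPowerSeries (Fin s.card) k₀)).map w.toRingHom =
      Ideal.span (s : Set A) := by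
    rw [Groth.Agent.Helper8.mvPowerSeries_maximalIdeal_eq, Ideal.map_span, ← Set.range_comp]
    have : (⇑w.toRingHom ∘ fun i : Fin s.card =>
        (MvPowerSeries.X i : MvPowerSeries (Fin s.card) k₀)) = x := by
      funext i; exact hw i
    rw [this, hrange]
  letI : Algebra (MvPowerSeries (Fin s.card) k₀) A := w.toRingHom.toAlgebra
  haveI : IsScalarTower k₀ (MvPowerSeries (Fin s.card) k₀) A :=
    IsScalarTower.of_algebraMap_eq (fun c => (w.commutes c).symm)
  haveI : Module.Finite (MvPowerSeries (Fin s.card) k₀) (IsLocalRing.ResidueField A) :=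
    Module.Finite.of_restrictScalars_finite k₀ _ _
  have hfin : Module.Finite (MvPowerSeries (Fin s.card) k₀) A := by
    apply Groth.Agent.Helper8.FinPS.finite_of_complete
    show IsLocalRing.maximalIdeal A ∈
      ((IsLocalRing.maximalIdeal (MvPowerSeries (Fin s.card) k₀)).map w.toRingHom).minimalPrimes
    rw [hmap]
    exact hs
  refine ⟨s.card, w, ?_, ?_, hfin⟩
  · -- injectivity
    haveI := hfin
    haveI : IsDomain (MvPowerSeries (Fin s.card) k₀) := NoZeroDivisors.to_isDomain _
    refine Groth.Agent.Helper8.FinPS.injective_of_finite_of_dim (MvPowerSeries (Fin s.card) k₀) A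
      s.card (Groth.Agent.Helper8.CoeffField.ringKrullDim_mvPowerSeries_le _ _) ?_
    rw [← IsLocalRing.maximalIdeal_height_eq_ringKrullDim, ← hcard]
    exact le_rfl
  · -- locality
    refine ⟨fun f hf => ?_⟩
    by_contra hnu
    have h1 : f ∈ IsLocalRing.maximalIdeal (MvPowerSeries (Fin s.card) k₀) :=
      (IsLocalRing.mem_maximalIdeal _).2 hnu
    have h2 : w.toRingHom f ∈ IsLocalRing.maximalIdeal A := by
      apply hsm
      rw [← hmap]
      exact Ideal.mem_map_of_mem _ h1
    exact (IsLocalRing.mem_maximalIdeal _).1 h2 hf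

end Groth.Agent.S2460
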