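import Groth.Statements.S2462
import Mathlib
import Groth.Agent.Lib.Helper2.AdicLift

set_option autoImplicit false
universe u
open EGA41

namespace Groth.Agent.S2462

open IsLocalRing in
/-- Let A carry the 𝔞-adic and B the 𝔟-adic topology with B formally smooth over A; let C be a complete
Noetherian local A-algebra with 𝔞C inside the maximal ideal (continuity of A → C) and J ≠ C an
ideal. Then every A-algebra homomorphism u : B → C/J sending 𝔟 into the maximal ideal of C/J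
(continuity) is induced by an A-algebra homomorphism v : B → C sending 𝔟 into the maximal ideal of
C. -/
theorem result {A B C : Type u} [CommRing A] (𝔞 : Ideal A) [CommRing B] [Algebra A B] (𝔟 : Ideal B)
    (hB : EGA41.IsFormallySmoothAdic A 𝔞 B 𝔟)
    [CommRing C] [IsLocalRing C] [IsNoetherianRing C] [IsAdicComplete (maximalIdeal C) C] [Algebra A C]
    (hA : 𝔞.map (algebraMap A C) ≤ maximalIdeal C) (J : Ideal C) (hJ : J ≠ ⊤)
    (u : B →ₐ[A] C ⧸ J) (hu : 𝔟.map u.toRingHom ≤ (maximalIdeal C).map (Ideal.Quotient.mk J)) :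
    ∃ v : B →ₐ[A] C, 𝔟.map v.toRingHom ≤ maximalIdeal C ∧ (Ideal.Quotient.mkₐ A J).comp v = u := by
  have hJle : J ≤ IsLocalRing.maximalIdeal C := IsLocalRing.le_maximalIdeal hJ
  haveI : Nontrivial (C ⧸ J) := Ideal.Quotient.nontrivial_iff.mpr hJ
  haveI : IsLocalRing (C ⧸ J) :=
    IsLocalRing.of_surjective' (Ideal.Quotient.mk J) Ideal.Quotient.mk_surjective
  have hne : (IsLocalRing.maximalIdeal C).map (Ideal.Quotient.mk J) ≠ ⊤ := by
    intro htop
    have h1 : (1 : C ⧸ J) ∈ (IsLocalRing.maximalIdeal C).map (Ideal.Quotient.mk J) := by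
      rw [htop]; trivial
    obtain ⟨c, hc, hc1⟩ := (Ideal.mem_map_iff_of_surjective _ Ideal.Quotient.mk_surjective).mp h1
    have h2 : c - 1 ∈ J := by
      rw [← Ideal.Quotient.eq, hc1, map_one]
    have h3 : (1 : C) ∈ IsLocalRing.maximalIdeal C := by
      have : (1 : C) = c - (c - 1) := by ring
      rw [this]
      exact Ideal.sub_mem _ hc (hJle h2)
    exact (IsLocalRing.maximalIdeal.isMaximal C).ne_top ((Ideal.eq_top_iff_one _).mpr h3)
  haveI : IsHausdorff ((IsLocalRing.maximalIdeal C).map (Ideal.Quotient.mk J)) (C ⧸ J) :=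
    IsHausdorff.of_isLocalRing _ _ hne
  have hAC : ∃ k : ℕ, (𝔞 ^ k).map (algebraMap A C) ≤ IsLocalRing.maximalIdeal C :=
    ⟨1, by rw [pow_one]; exact hA⟩
  have hJ' : ∃ t : ℕ, J ^ t ≤ IsLocalRing.maximalIdeal C := ⟨1, by rw [pow_one]; exact hJle⟩
  have hu' : ∃ k : ℕ, ∀ x ∈ 𝔟 ^ k, u x ∈ (IsLocalRing.maximalIdeal C).map (Ideal.Quotient.mk J) :=
    ⟨1, fun x hx => hu (Ideal.mem_map_of_mem _ (by rwa [pow_one] at hx))⟩
  obtain ⟨v, ⟨m, hm⟩, hv⟩ := Groth.Agent.Helper2.AdicFS.exists_lift_complete 𝔞 𝔟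
    (IsLocalRing.maximalIdeal C) hB hAC J hJ' u hu'
  refine ⟨v, ?_, hv⟩
  rw [Ideal.map_le_iff_le_comap]
  intro x hx
  rw [Ideal.mem_comap]
  have h1 : v (x ^ m) ∈ IsLocalRing.maximalIdeal C := hm _ (Ideal.pow_mem_pow hx m)
  rw [map_pow] at h1
  exact (IsLocalRing.maximalIdeal.isMaximal C).isPrime.mem_of_pow_mem m h1

end Groth.Agent.S2462
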