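import Groth.Statements.S2464
import Mathlib
import Groth.Agent.Lib.Helper2.PBasis4

set_option autoImplicit false
universe u
open EGA41

namespace Groth.Agent.S2464

/-- Let p be a prime, B a ring of characteristic p and A → B an injective ring map whose image contains
every p-th power, and (x_α) a p-basis of B over A. Let E be an A-algebra and q : E → B a surjective
A-algebra homomorphism whose kernel K has K^p = 0. (i) q admits an A-algebra right inverse if and
only if, for all z ∈ E and a ∈ A with a ↦ q(z)^p in B, the image of a in E is z^p. (ii) When this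
holds, for every family (z_α) in E with q(z_α) = x_α there is a unique A-algebra homomorphism v : B
→ E with v(x_α) = z_α for all α, and q ∘ v is the identity. -/
theorem result (p : ℕ) [Fact p.Prime] {A B : Type u} [CommRing A] [CommRing B] [Algebra A B] [CharP B p]
    (hinj : Function.Injective (algebraMap A B)) (hpow : ∀ b : B, b ^ p ∈ Set.range (algebraMap A B))
    {ι : Type u} (x : ι → B) (hx : EGA41.IsPBasis p A x)
    {E : Type u} [CommRing E] [Algebra A E] (q : E →ₐ[A] B) (hq : Function.Surjective q) (hK : RingHom.ker q.toRingHom ^ p = ⊥) :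
    ((∃ v : B →ₐ[A] E, q.comp v = AlgHom.id A B) ↔ ∀ (z : E) (a : A), algebraMap A B a = q z ^ p → algebraMap A E a = z ^ p) ∧
    ((∀ (z : E) (a : A), algebraMap A B a = q z ^ p → algebraMap A E a = z ^ p) →
      ∀ z : ι → E, (∀ i, q (z i) = x i) →
        (∃! v : B →ₐ[A] E, ∀ i, v (x i) = z i) ∧ ∀ v : B →ₐ[A] E, (∀ i, v (x i) = z i) → q.comp v = AlgHom.id A B) := by
  have hp : p.Prime := Fact.out
  have h := Groth.Agent.Helper2.PBasis.isRedBasis_base p hx hinj hpow
  choose c hc using fun i => hpow (x i)
  have part2 : (∀ (z : E) (a : A), algebraMap A B a = q z ^ p → algebraMap A E a = z ^ p) →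
      ∀ z : ι → E, (∀ i, q (z i) = x i) →
        (∃! v : B →ₐ[A] E, ∀ i, v (x i) = z i) ∧
          ∀ v : B →ₐ[A] E, (∀ i, v (x i) = z i) → q.comp v = AlgHom.id A B := by
    intro H z hz
    have hz' : ∀ i, z i ^ p = algebraMap A E (c i) := fun i =>
      (H (z i) (c i) (by rw [hc i, hz i])).symm
    refine ⟨⟨h.algHom hp.pos c (fun i => (hc i).symm) z hz',
      h.algHom_apply hp.one_lt c (fun i => (hc i).symm) z hz', ?_⟩, ?_⟩
    · intro v hv
      apply h.algHom_ext
      intro i
      rw [hv i, h.algHom_apply hp.one_lt c (fun i => (hc i).symm) z hz']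
    · intro v hv
      apply h.algHom_ext
      intro i
      rw [AlgHom.comp_apply, hv i, hz i, AlgHom.id_apply]
  refine ⟨⟨?_, ?_⟩, part2⟩
  · rintro ⟨v, hv⟩ z a ha
    have hpA : (p : A) = 0 := by
      apply hinj
      rw [map_natCast, map_zero, CharP.cast_eq_zero B p]
    have hpE : (p : E) = 0 := by
      rw [← map_natCast (algebraMap A E), hpA, map_zero]
    set z' : E := v (q z) with hz'
    have hk : z - z' ∈ RingHom.ker q.toRingHom := by
      rw [RingHom.mem_ker]
      change q (z - z') = 0
      rw [map_sub, hz']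
      have := AlgHom.congr_fun hv (q z)
      rw [AlgHom.comp_apply, AlgHom.id_apply] at this
      rw [this, sub_self]
    have hkp : (z - z') ^ p = 0 := by
      have := Ideal.pow_mem_pow hk p
      rw [hK] at this
      exact this
    obtain ⟨r, hr⟩ := exists_add_pow_prime_eq hp z' (z - z')
    have hzz : z = z' + (z - z') := by ring
    rw [hzz, hr, hkp, hpE, hz', ← map_pow, ← ha, AlgHom.commutes]
    ring
  · intro H
    choose z hz using fun i => hq (x i)
    obtain ⟨⟨v, hv, -⟩, h2⟩ := part2 H z hz
    exact ⟨v, h2 v hv⟩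

end Groth.Agent.S2464
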