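import Groth.Statements.S2465
import Mathlib
import Groth.Agent.Lib.Helper2.PBasis4

set_option autoImplicit false
universe u
open EGA41

namespace Groth.Agent.S2465

/-- Let p be a prime, B a ring of characteristic p, A → B injective with image containing all p-th
powers, (x_α) a p-basis of B over A, and L a B-module. (i) An additive derivation D : A → L extends
to a derivation of B if and only if D vanishes on the elements of A mapping to p-th powers. (ii) In
that case, for every family (y_α) in L there is a unique derivation D' of B into L extending D with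
D'(x_α) = y_α for all α. -/
theorem result (p : ℕ) [Fact p.Prime] {A B : Type u} [CommRing A] [CommRing B] [Algebra A B] [CharP B p]
    (hinj : Function.Injective (algebraMap A B)) (hpow : ∀ b : B, b ^ p ∈ Set.range (algebraMap A B))
    {ι : Type u} (x : ι → B) (hx : EGA41.IsPBasis p A x)
    (L : Type u) [AddCommGroup L] [Module B L] [Module A L] [IsScalarTower A B L] (D : Derivation ℤ A L) :
    ((∃ D' : Derivation ℤ B L, ∀ a : A, D' (algebraMap A B a) = D a) ↔ ∀ (a : A) (b : B), algebraMap A B a = b ^ p → D a = 0) ∧
    ((∀ (a : A) (b : B), algebraMap A B a = b ^ p → D a = 0) →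
      ∀ y : ι → L, ∃! D' : Derivation ℤ B L, (∀ a : A, D' (algebraMap A B a) = D a) ∧ ∀ i, D' (x i) = y i) := by
  have hp : p.Prime := Fact.out
  have h := Groth.Agent.Helper2.PBasis.isRedBasis_base p hx hinj hpow
  choose c hc using fun i => hpow (x i)
  have part2 : (∀ (a : A) (b : B), algebraMap A B a = b ^ p → D a = 0) →
      ∀ y : ι → L, ∃! D' : Derivation ℤ B L, (∀ a : A, D' (algebraMap A B a) = D a) ∧
        ∀ i, D' (x i) = y i := by
    intro H y
    exact h.existsUnique_derivation hp c (fun i => (hc i).symm) D (fun i => H (c i) (x i) (hc i)) y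
  refine ⟨⟨?_, ?_⟩, part2⟩
  · rintro ⟨D', hD'⟩ a b hab
    rw [← hD', hab, Derivation.leibniz_pow, ← Nat.cast_smul_eq_nsmul B, CharP.cast_eq_zero B p,
      zero_smul]
  · intro H
    obtain ⟨D', ⟨hD', -⟩, -⟩ := part2 H 0
    exact ⟨D', hD'⟩

end Groth.Agent.S2465
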