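import Groth.Statements.S2467
import Mathlib
import Groth.Agent.Lib.Helper2.PBasisField2

set_option autoImplicit false
universe u
open EGA41

namespace Groth.Agent.S2467

/-- Let k ⊆ K be fields of characteristic p > 0, S ⊆ K a system of p-generators of K over k and L ⊆ S a
subset which is p-free over k. Then there is a p-basis B of K over k with L ⊆ B ⊆ S. In particular
every extension of k has a p-basis over k. -/
theorem result (p : ℕ) [Fact p.Prime] {k K : Type u} [Field k] [Field K] [Algebra k K] [CharP K p]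
    (S L : Set K) (hLS : L ⊆ S) (hS : EGA41.IsPGenerating p k (Subtype.val : S → K)) (hL : EGA41.IsPIndependent p k (Subtype.val : L → K)) :
    ∃ B : Set K, L ⊆ B ∧ B ⊆ S ∧ EGA41.IsPBasis p k (Subtype.val : B → K) := by
  classical
  have hp : p.Prime := Fact.out
  have hpow := Groth.Agent.Helper2.PBasis.pow_mem_range_Cf (k := k) (K := K) p
  -- the family `S → K` and the starting subfamily `L`
  let T₀ : Set S := {s | (s : K) ∈ L}
  have hT₀ : Groth.Agent.Helper2.PBasis.PInd (Groth.Agent.Helper2.PBasis.Cf p (k := k) (K := K)) p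
      (fun t : T₀ => ((t : S) : K)) := by
    have h1 := (Groth.Agent.Helper2.PBasis.isPIndependent_iff p (Subtype.val : L → K)).mp hL
    let f : T₀ → L := fun t => ⟨(t : S), t.2⟩
    have hf : Function.Injective f := by
      intro t t' htt'
      apply Subtype.ext
      apply Subtype.ext
      exact congrArg (fun l : L => (l : K)) htt'
    exact h1.comp hp.pos f hf
  obtain ⟨T, hT₀T, hTind, hTgen⟩ := Groth.Agent.Helper2.PBasis.exists_maximal_pInd hpow
    (Subtype.val : S → K) T₀ hT₀
  refine ⟨Subtype.val '' (T : Set S), ?_, ?_, ?_, ?_⟩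
  · intro l hl
    exact ⟨⟨l, hLS hl⟩, hT₀T hl, rfl⟩
  · rintro _ ⟨s, _, rfl⟩
    exact s.2
  · -- independence
    rw [Groth.Agent.Helper2.PBasis.isPIndependent_iff]
    let f : ↥(Subtype.val '' (T : Set S)) → T := fun b =>
      ⟨⟨b.1, by obtain ⟨s, _, hs⟩ := b.2; rw [← hs]; exact s.2⟩, by
        obtain ⟨s, hsT, hs⟩ := b.2
        have : s = ⟨b.1, by rw [← hs]; exact s.2⟩ := Subtype.ext hs
        rw [← this]; exact hsT⟩
    have hf : Function.Injective f := by
      intro b b' hbb'
      apply Subtype.ext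
      exact congrArg (fun t : T => ((t : S) : K)) hbb'
    exact hTind.comp hp.pos f hf
  · -- generation
    rw [Groth.Agent.Helper2.PBasis.isPGenerating_iff']
    have hc : ∀ (ι : Type u) (y : ι → K) (i : ι), y i ^ p =
        algebraMap (EGA41.pPowerSubalgebra p k K) K
          (⟨y i ^ p, Groth.Agent.Helper2.PBasis.pow_mem_pPowerSubalgebra p (y i)⟩ :
            EGA41.pPowerSubalgebra p k K) := fun _ _ _ => rfl
    rw [Groth.Agent.Helper2.PBasis.redSpan_eq_top_iff hp.one_lt _ (hc _ _)]
    have hS' := (Groth.Agent.Helper2.PBasis.isPGenerating_iff' p (Subtype.val : S → K)).mp hS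
    rw [Groth.Agent.Helper2.PBasis.redSpan_eq_top_iff hp.one_lt _ (hc _ _)] at hS'
    rw [eq_top_iff, ← hS', Algebra.adjoin_le_iff]
    rintro _ ⟨s, rfl⟩
    -- `s ∈ redSpan (x|_T) = adjoin (range x|_T)`
    have h1 : (s : K) ∈ Groth.Agent.Helper2.PBasis.redSpan (EGA41.pPowerSubalgebra p k K) p
        (fun t : T => ((t : S) : K)) := hTgen s
    have h2 : (s : K) ∈ Groth.Agent.Helper2.PBasis.redSubalgebra (C := EGA41.pPowerSubalgebra p k K)
        (x := fun t : T => ((t : S) : K)) hp.pos _ (hc _ _) := h1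
    rw [Groth.Agent.Helper2.PBasis.redSubalgebra_eq_adjoin hp.one_lt] at h2
    refine Algebra.adjoin_mono ?_ h2
    rintro _ ⟨t, rfl⟩
    exact ⟨⟨(t : S), ⟨t, t.2, rfl⟩⟩, rfl⟩

end Groth.Agent.S2467
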