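import Groth.Statements.S2481
import Groth.Agent.Lib.Helper8.SmallExt6

set_option autoImplicit false
universe u
open EGA41

namespace Groth.Agent.S2481

open IsLocalRing in
/-- Let A → B be a local homomorphism of Noetherian local rings with the adic topologies, K the residue
field of B. Then B is formally smooth over A if and only if: for every Artinian local ring C with a
local homomorphism A → C, every nilpotent ideal J of C and every local A-algebra homomorphism u : B
→ C/J inducing a bijection of residue fields (so that C has residue field K and u induces the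
identity on it), u is induced by a local A-algebra homomorphism B → C. -/
theorem result {A B : Type u} [CommRing A] [IsLocalRing A] [IsNoetherianRing A] [CommRing B] [IsLocalRing B] [IsNoetherianRing B]
    [Algebra A B] [IsLocalHom (algebraMap A B)] :
    EGA41.IsFormallySmoothAdic A (maximalIdeal A) B (maximalIdeal B) ↔
      ∀ (C : Type u) [CommRing C] [IsLocalRing C] [IsArtinianRing C] [Algebra A C] [IsLocalHom (algebraMap A C)]
        (J : Ideal C), IsNilpotent J → ∀ [IsLocalRing (C ⧸ J)] (u : B →ₐ[A] C ⧸ J) [IsLocalHom u.toRingHom],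
        Function.Bijective (ResidueField.map u.toRingHom) →
        ∃ f : B →ₐ[A] C, IsLocalHom f.toRingHom ∧ (Ideal.Quotient.mkₐ A J).comp f = u := by
  constructor
  · intro h C _ _ _ _ _ J hJ _ u _ _
    haveI : IsLocalHom (u : B →+* C ⧸ J) := ‹IsLocalHom u.toRingHom›
    obtain ⟨k, hk⟩ := Groth.Agent.Helper8.SmallExt.exists_pow_map_eq_zero (u : B →+* C ⧸ J)
    obtain ⟨k', hk'⟩ := Groth.Agent.Helper8.SmallExt.exists_pow_map_eq_zero (algebraMap A C)
    have h1 : (maximalIdeal A ^ k').map (algebraMap A C) = ⊥ := by
      rw [Ideal.map_eq_bot_iff_le_ker]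
      intro x hx
      exact hk' x hx
    obtain ⟨v, hv⟩ := h C J hJ ⟨k', h1⟩ u ⟨k, hk⟩
    refine ⟨v, ⟨fun b hb => ?_⟩, hv⟩
    have h2 : u b = Ideal.Quotient.mk J (v b) := (AlgHom.congr_fun hv b).symm
    have h3 : IsUnit (u.toRingHom b) := by
      show IsUnit (u b)
      rw [h2]
      exact hb.map _
    exact isUnit_of_map_unit u.toRingHom b h3
  · intro h
    apply Groth.Agent.Helper8.SmallExt.isFormallySmoothAdic_of_smallLift
    intro C _ _ _ _ J hJ hlen _ ψ hψ
    haveI hloc : IsLocalHom ψ.toRingHom := IsLocalHom.of_surjective ψ.toRingHom hψ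
    haveI : IsLocalHom (algebraMap A C) :=
      Groth.Agent.Helper8.SmallExt.isLocalHom_algebraMap_of_isLocalHom J ψ
    obtain ⟨f, -, hf⟩ := h C J ⟨2, hJ⟩ ψ
      (Groth.Agent.Helper8.SmallExt.bijective_residueField_map_of_surjective ψ.toRingHom hψ)
    exact ⟨f, hf⟩

end Groth.Agent.S2481
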