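import Groth.Statements.S2482
import Groth.Agent.Lib.Helper8.CohenSm3
import Groth.Agent.Lib.Helper2.SepMain

set_option autoImplicit false
universe u
open EGA41

namespace Groth.Agent.S2482

open IsLocalRing in
/-- (a) ⟹ (b): let A, B be complete discrete valuation rings and u : A → B a ring homomorphism with
u(𝔪_A)B = 𝔪_B, such that the residue field L of B is separable over the residue field K of A. Then
for every complete discrete valuation ring B', every homomorphism u' : A → B' with u'(𝔪_A)B' =
𝔪_{B'} and every isomorphism σ of residue fields L ≅ L' compatible with the maps from K, there is an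
isomorphism w : B ≅ B' with u' = w ∘ u inducing σ on residue fields. -/
theorem result {A B B' : Type u} [CommRing A] [IsDomain A] [IsDiscreteValuationRing A] [IsAdicComplete (maximalIdeal A) A]
    [CommRing B] [IsDomain B] [IsDiscreteValuationRing B] [IsAdicComplete (maximalIdeal B) B]
    [CommRing B'] [IsDomain B'] [IsDiscreteValuationRing B'] [IsAdicComplete (maximalIdeal B') B']
    (u : A →+* B) [IsLocalHom u] (hu : (maximalIdeal A).map u = maximalIdeal B)
    (hsep : letI := (ResidueField.map u).toAlgebra; Algebra.IsGeometricallyReduced (ResidueField A) (ResidueField B))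
    (u' : A →+* B') [IsLocalHom u'] (hu' : (maximalIdeal A).map u' = maximalIdeal B')
    (σ : ResidueField B ≃+* ResidueField B') (hσ : (σ : ResidueField B →+* ResidueField B').comp (ResidueField.map u) = ResidueField.map u') :
    ∃ w : B ≃+* B', (w : B →+* B').comp u = u' ∧ ∀ b : B, residue B' (w b) = σ (residue B b) := by
  classical
  letI algB : Algebra A B := u.toAlgebra
  letI algB' : Algebra A B' := u'.toAlgebra
  letI algK : Algebra (ResidueField A) (ResidueField B) := (ResidueField.map u).toAlgebra
  obtain ⟨π, hπ⟩ := IsDiscreteValuationRing.exists_irreducible A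
  have hmA : maximalIdeal A = Ideal.span {π} :=
    (IsDiscreteValuationRing.irreducible_iff_uniformizer π).1 hπ
  have hmB : maximalIdeal B = Ideal.span {u π} := by
    rw [← hu, hmA, Ideal.map_span, Set.image_singleton]
  have hmB' : maximalIdeal B' = Ideal.span {u' π} := by
    rw [← hu', hmA, Ideal.map_span, Set.image_singleton]
  have hirrB : Irreducible (u π) := (IsDiscreteValuationRing.irreducible_iff_uniformizer _).2 hmB
  have hirrB' : Irreducible (u' π) :=
    (IsDiscreteValuationRing.irreducible_iff_uniformizer _).2 hmB'
  have huinj : Function.Injective u := by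
    rw [injective_iff_map_eq_zero]
    intro x hx
    by_contra hne
    obtain ⟨n, c, hc⟩ := IsDiscreteValuationRing.eq_unit_mul_pow_irreducible hne hπ
    rw [hc, map_mul, map_pow] at hx
    rcases mul_eq_zero.1 hx with h | h
    · exact (c.isUnit.map u).ne_zero h
    · exact pow_ne_zero n hirrB.ne_zero h
  haveI : FaithfulSMul A B := (faithfulSMul_iff_algebraMap_injective A B).mpr huinj
  haveI : Module.IsTorsionFree A B := inferInstance
  haveI : Module.Flat A B := inferInstance
  letI algK' : Algebra (A ⧸ maximalIdeal A) (ResidueField B) := algK
  haveI : IsScalarTower A (A ⧸ maximalIdeal A) (ResidueField B) :=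
    IsScalarTower.of_algebraMap_eq (fun a => rfl)
  haveI : Algebra.FormallySmooth (A ⧸ maximalIdeal A) (ResidueField B) :=
    (Groth.Agent.Helper2.Sep.formallySmooth_iff_isGeometricallyReduced (ResidueField A)
      (ResidueField B)).mpr hsep
  let ρ : B →ₐ[A] ResidueField B := IsScalarTower.toAlgHom A B (ResidueField B)
  have hρ : Function.Surjective ρ := residue_surjective
  have hker : RingHom.ker ρ = (maximalIdeal A).map (algebraMap A B) := by
    rw [show (maximalIdeal A).map (algebraMap A B) = maximalIdeal B from hu]
    exact IsLocalRing.ker_residue (R := B)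
  have hI : (maximalIdeal A).map (algebraMap A B') ≤ maximalIdeal B' := hu'.le
  let u₀ : B →ₐ[A] B' ⧸ maximalIdeal B' :=
    { toRingHom := (σ : ResidueField B →+* ResidueField B').comp (residue B)
      commutes' := by
        intro a
        show σ (residue B (u a)) = residue B' (u' a)
        have h1 := RingHom.congr_fun hσ (residue A a)
        rw [RingHom.comp_apply, ResidueField.map_residue, ResidueField.map_residue] at h1
        exact h1 }
  obtain ⟨v, hv⟩ := Groth.Agent.Helper8.CohenSm.exists_lift_complete (maximalIdeal A) ρ hρ hker
    (maximalIdeal B') hI u₀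
  have hres : ∀ b : B, residue B' (v b) = σ (residue B b) := fun b => AlgHom.congr_fun hv b
  have hvu : ∀ a : A, v (u a) = u' a := fun a => v.commutes a
  have hmap : (maximalIdeal B).map (v : B →+* B') = maximalIdeal B' := by
    rw [hmB, hmB', Ideal.map_span, Set.image_singleton]
    congr 2
    exact hvu π
  have hsurj : Function.Surjective (v : B →+* B') := by
    haveI : IsHausdorff ((maximalIdeal B).map (v : B →+* B')) B' := by rw [hmap]; infer_instance
    apply surjective_of_mk_map_comp_surjective (v : B →+* B') (I := maximalIdeal B)
    intro y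
    obtain ⟨r, rfl⟩ := Ideal.Quotient.mk_surjective y
    obtain ⟨b, hb⟩ := (σ.surjective.comp residue_surjective) (residue B' r)
    refine ⟨b, ?_⟩
    rw [RingHom.comp_apply, Ideal.Quotient.eq, hmap]
    have h2 : residue B' (v b - r) = 0 := by
      rw [map_sub, hres, ← hb]
      exact sub_self _
    exact (residue_eq_zero_iff _).1 h2
  have hinj : Function.Injective (v : B →+* B') := by
    rw [injective_iff_map_eq_zero]
    intro x hx
    by_contra hne
    obtain ⟨n, c, hc⟩ := IsDiscreteValuationRing.eq_unit_mul_pow_irreducible hne hirrB
    rw [hc, map_mul, map_pow] at hx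
    rcases mul_eq_zero.1 hx with h | h
    · exact (c.isUnit.map (v : B →+* B')).ne_zero h
    · have h3 : (v : B →+* B') (u π) = u' π := hvu π
      rw [h3] at h
      exact pow_ne_zero n hirrB'.ne_zero h
  refine ⟨RingEquiv.ofBijective (v : B →+* B') ⟨hinj, hsurj⟩, ?_, fun b => hres b⟩
  ext a
  exact hvu a

end Groth.Agent.S2482
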