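import Groth.Statements.S2483
import Mathlib
import Groth.Agent.Lib.Helper2.CoeffField

set_option autoImplicit false
universe u
open EGA41

namespace Groth.Agent.S2483

open IsLocalRing in
/-- Let C be a complete Noetherian local ring with maximal ideal 𝔍 ≠ 0 and residue field K, and u : K →
C a ring homomorphism which is a section of the residue map. Then u is the only such section if and
only if Ω_{K/ℤ} = 0. -/
theorem result {C : Type u} [CommRing C] [IsLocalRing C] [IsNoetherianRing C] [IsAdicComplete (maximalIdeal C) C]
    (hm : maximalIdeal C ≠ ⊥) (u : ResidueField C →+* C) (hu : ∀ x, residue C (u x) = x) :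
    (∀ v : ResidueField C →+* C, (∀ x, residue C (v x) = x) → v = u) ↔ Subsingleton (Ω[ResidueField C⁄ℤ]) := by
  constructor
  · -- uniqueness forces `Ω = 0`
    intro huniq
    by_contra hns
    rw [not_subsingleton_iff_nontrivial] at hns
    obtain ⟨ω, hω⟩ := exists_ne (0 : Ω[ResidueField C⁄ℤ])
    obtain ⟨ℓ, hℓ⟩ : ∃ ℓ : Module.Dual (ResidueField C) (Ω[ResidueField C⁄ℤ]), ℓ ω ≠ 0 := by
      by_contra hcon
      simp only [not_exists, not_not] at hcon
      exact hω ((Module.forall_dual_apply_eq_zero_iff (ResidueField C) ω).mp hcon)
    let D : ResidueField C →+ ResidueField C :=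
      AddMonoidHom.mk' (fun x => ℓ (KaehlerDifferential.D ℤ (ResidueField C) x))
        (by intro a b; rw [map_add, map_add])
    have hDdef : ∀ x, D x = ℓ (KaehlerDifferential.D ℤ (ResidueField C) x) := fun _ => rfl
    have hleib : ∀ x y, D (x * y) = x * D y + y * D x := by
      intro x y
      rw [hDdef, hDdef, hDdef, Derivation.leibniz, map_add, map_smul, map_smul, smul_eq_mul,
        smul_eq_mul]
    have hDint : ∀ n : ℤ, D (n : ResidueField C) = 0 := by
      intro n
      rw [hDdef]
      have : (n : ResidueField C) = algebraMap ℤ (ResidueField C) n := (eq_intCast _ n).symm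
      rw [this, Derivation.map_algebraMap, map_zero]
    have hDnat : ∀ n : ℕ, D (n : ResidueField C) = 0 := by
      intro n
      have := hDint (n : ℤ)
      simpa using this
    obtain ⟨x₀, hx₀⟩ : ∃ x₀, D x₀ ≠ 0 := by
      by_contra hcon
      simp only [not_exists, not_not] at hcon
      have h1 : ℓ = 0 := by
        apply LinearMap.ext_on (KaehlerDifferential.span_range_derivation ℤ (ResidueField C))
        rintro _ ⟨x, rfl⟩
        exact hcon x
      exact hℓ (by rw [h1]; rfl)
    -- an element of `𝔪 ∖ 𝔪²`
    obtain ⟨t, ht, ht2⟩ : ∃ t, t ∈ maximalIdeal C ∧ t ∉ maximalIdeal C ^ 2 := by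
      by_contra hcon
      simp only [not_exists, not_and, not_not] at hcon
      apply hm
      refine Submodule.eq_bot_of_le_smul_of_le_jacobson_bot (maximalIdeal C) (maximalIdeal C)
        (IsNoetherian.noetherian _) ?_ (maximalIdeal_le_jacobson _)
      intro t ht
      have := hcon t ht
      rw [pow_two] at this
      exact this
    obtain h0 | ⟨p, hp, hpk⟩ := CharP.exists' (ResidueField C)
    · -- characteristic zero: work over `ℚ`
      haveI := Groth.Agent.Helper2.Sep.formallySmooth_of_charZero ℚ (ResidueField C)
      have hD : ∀ a : ℚ, D (algebraMap ℚ (ResidueField C) a) = 0 := by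
        intro a
        have h1 : (a.den : ResidueField C) * algebraMap ℚ (ResidueField C) a = (a.num : ResidueField C) := by
          rw [← map_natCast (algebraMap ℚ (ResidueField C)), ← map_mul,
            ← map_intCast (algebraMap ℚ (ResidueField C))]
          congr 1
          exact_mod_cast Rat.den_mul_eq_num a
        have h2 := congrArg D h1
        rw [hleib, hDnat, hDint, mul_zero, add_zero] at h2
        have h3 : (a.den : ResidueField C) ≠ 0 := by
          exact_mod_cast a.den_ne_zero
        exact (mul_eq_zero.mp h2).resolve_left h3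
      obtain ⟨v, hv1, hv2⟩ := Groth.Agent.Helper2.Sep.exists_ne_section u hu ℚ D hleib hD x₀ hx₀ t ht ht2
      exact hv2 (huniq v hv1)
    · -- characteristic `p`: work over the prime field
      obtain ⟨P, _, _, _, _, _, _⟩ :=
        Groth.Agent.Helper2.Sep.exists_perfect_subfield (ResidueField C) (ResidueField C) p
      haveI := Groth.Agent.Helper2.Sep.formallySmooth_of_perfect p P (ResidueField C)
      have hpown : ∀ (n : ℕ) (y : ResidueField C), D (y ^ (n + 1)) = (n + 1 : ℕ) * (y ^ n * D y) := by
        intro n y
        induction n with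
        | zero => simp
        | succ n ih =>
          rw [pow_succ, hleib, ih]
          push_cast
          ring
      have hpow : ∀ y : ResidueField C, D (y ^ p) = 0 := by
        intro y
        have hp0 : p ≠ 0 := hp.out.ne_zero
        obtain ⟨n, rfl⟩ := Nat.exists_eq_succ_of_ne_zero hp0
        rw [Nat.succ_eq_add_one, hpown, CharP.cast_eq_zero, zero_mul]
      have hD : ∀ a : P, D (algebraMap P (ResidueField C) a) = 0 := by
        intro a
        obtain ⟨b, rfl⟩ := surjective_frobenius P p a
        rw [frobenius_def, map_pow]
        exact hpow _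
      obtain ⟨v, hv1, hv2⟩ := Groth.Agent.Helper2.Sep.exists_ne_section u hu P D hleib hD x₀ hx₀ t ht ht2
      exact hv2 (huniq v hv1)
  · -- `Ω = 0` forces uniqueness
    intro hsub v hv
    haveI : Algebra.FormallyUnramified ℤ (ResidueField C) := ⟨hsub⟩
    have hI : ⨅ i, maximalIdeal C ^ i = ⊥ := by
      rw [eq_bot_iff]
      intro x hx
      rw [Ideal.mem_iInf] at hx
      apply IsHausdorff.haus (inferInstance : IsHausdorff (maximalIdeal C) C) x
      intro n
      rw [SModEq.zero]
      simpa using hx n
    have hcomm : ∀ (w : ResidueField C →+* C) (n : ℤ),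
        w (algebraMap ℤ (ResidueField C) n) = algebraMap ℤ C n := by
      intro w n
      rw [eq_intCast (algebraMap ℤ (ResidueField C)) n, map_intCast, eq_intCast]
    let v' : ResidueField C →ₐ[ℤ] C := { v with commutes' := hcomm v }
    let u' : ResidueField C →ₐ[ℤ] C := { u with commutes' := hcomm u }
    have := Algebra.FormallyUnramified.ext_of_iInf (R := ℤ) (I := maximalIdeal C) hI
      (g₁ := v') (g₂ := u') (by
        intro x
        change residue C (v x) = residue C (u x)
        rw [hv, hu])
    ext x
    exact AlgHom.congr_fun this x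

end Groth.Agent.S2483
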