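import Groth.Statements.S2485
import Mathlib

set_option autoImplicit false
universe u
open EGA41

namespace Groth.Agent.S2485

/-- Let p be a prime and A → B a ring homomorphism making B an A-algebra of finite type, with B of
characteristic p, such that for some s ≥ 0 every p^s-th power of an element of B lies in the image
of A. If Ω_{B/A} = 0 then A → B is surjective. -/
theorem result (p : ℕ) [Fact p.Prime] {A B : Type u} [CommRing A] [CommRing B] [Algebra A B] [CharP B p]
    [Algebra.FiniteType A B] (s : ℕ) (hpow : ∀ b : B, b ^ p ^ s ∈ Set.range (algebraMap A B)) [Subsingleton (Ω[B⁄A])] :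
    Function.Surjective (algebraMap A B) := by
  classical
  have hp : p.Prime := Fact.out
  -- `B` is integral, hence finite, over `A`
  haveI hint : Algebra.IsIntegral A B := ⟨fun b => by
    obtain ⟨a, ha⟩ := hpow b
    refine ⟨Polynomial.X ^ p ^ s - Polynomial.C a,
      Polynomial.monic_X_pow_sub_C a (pow_pos hp.pos s).ne', ?_⟩
    simp [ha]⟩
  haveI : Module.Finite A B := Algebra.IsIntegral.finite
  rw [← Algebra.isEpi_iff_surjective_algebraMap_of_finite, Algebra.isEpi_iff_forall_one_tmul_eq]
  set I := KaehlerDifferential.ideal A B with hI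
  have hidem : IsIdempotentElem I :=
    (Ideal.cotangent_subsingleton_iff I).mp (inferInstanceAs (Subsingleton (Ω[B⁄A])))
  have hfg : I.FG := KaehlerDifferential.ideal_fg A B
  have hnil : I ≤ nilradical (TensorProduct A B B) := by
    rw [hI, ← KaehlerDifferential.span_range_eq_ideal, Ideal.span_le]
    rintro _ ⟨b, rfl⟩
    refine ⟨p ^ s, ?_⟩
    rcases subsingleton_or_nontrivial (TensorProduct A B B) with hss | hnt
    · exact Subsingleton.elim _ _
    · haveI : CharP (TensorProduct A B B) p := by
        rw [CharP.charP_iff_prime_eq_zero hp]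
        have : ((p : B) : B) = 0 := CharP.cast_eq_zero B p
        have h2 := congrArg (algebraMap B (TensorProduct A B B)) this
        rwa [map_natCast, map_zero] at h2
      obtain ⟨a, ha⟩ := hpow b
      rw [sub_pow_char_pow, Algebra.TensorProduct.tmul_pow, Algebra.TensorProduct.tmul_pow,
        one_pow, ← ha, Algebra.algebraMap_eq_smul_one, TensorProduct.smul_tmul, sub_self]
      exact Set.mem_singleton 0
  obtain ⟨N, hN⟩ := (Ideal.FG.isNilpotent_iff_le_nilradical hfg).mpr hnil
  have hbot : I = ⊥ := by
    rw [← hidem.pow_succ_eq N, pow_succ, hN]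
    exact Ideal.bot_mul _
  intro b
  have hb : (1 : B) ⊗ₜ[A] b - b ⊗ₜ[A] (1 : B) ∈ I :=
    KaehlerDifferential.one_smul_sub_smul_one_mem_ideal A b
  rw [hbot] at hb
  exact sub_eq_zero.mp hb

end Groth.Agent.S2485
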