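import Groth.Statements.S2486
import Mathlib
import Groth.Agent.Lib.Helper2.PBasis5
import Groth.Agent.Lib.Helper2.RadicialUnram

set_option autoImplicit false
universe u
open EGA41

namespace Groth.Agent.S2486

/-- Let p be a prime, B an A-algebra of characteristic p and (x_α) a family of elements of B. Then (a) B
is generated as an A[B^p]-algebra by the x_α if and only if (b) (x_α) is a system of p-generators of
B over A; these imply (c) Ω_{B/A} is generated by the d x_α; and if B is an A[B^p]-algebra of finite
type, (c) implies (a). -/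
theorem result (p : ℕ) [Fact p.Prime] {A B : Type u} [CommRing A] [CommRing B] [Algebra A B] [CharP B p]
    {ι : Type u} (x : ι → B) :
    (Algebra.adjoin (EGA41.pPowerSubalgebra p A B) (Set.range x) = ⊤ ↔ EGA41.IsPGenerating p A x) ∧
    (EGA41.IsPGenerating p A x → Submodule.span B (Set.range fun i => KaehlerDifferential.D A B (x i)) = ⊤) ∧
    (Algebra.FiniteType (EGA41.pPowerSubalgebra p A B) B →
      Submodule.span B (Set.range fun i => KaehlerDifferential.D A B (x i)) = ⊤ → EGA41.IsPGenerating p A x) := by
  have hp : p.Prime := Fact.out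
  have hiff := Groth.Agent.Helper2.PBasis.redSpan_eq_top_iff (C := EGA41.pPowerSubalgebra p A B)
    (x := x) hp.one_lt
    (fun i => (⟨x i ^ p, Groth.Agent.Helper2.PBasis.pow_mem_pPowerSubalgebra p (x i)⟩ :
      EGA41.pPowerSubalgebra p A B)) (fun i => rfl)
  have h1 : Algebra.adjoin (EGA41.pPowerSubalgebra p A B) (Set.range x) = ⊤ ↔
      EGA41.IsPGenerating p A x := hiff.symm
  refine ⟨h1, Groth.Agent.Helper2.PBasis.span_D_eq_top_of_isPGenerating p, ?_⟩
  intro hft hspan
  rw [← h1]
  set B' : Subalgebra (EGA41.pPowerSubalgebra p A B) B :=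
    Algebra.adjoin (EGA41.pPowerSubalgebra p A B) (Set.range x) with hB'
  haveI : Algebra.FiniteType B' B :=
    Algebra.FiniteType.of_restrictScalars_finiteType (EGA41.pPowerSubalgebra p A B) B' B
  have hpow : ∀ s : B, s ^ p ∈ Set.range (algebraMap B' B) := by
    intro s
    refine ⟨⟨s ^ p, ?_⟩, rfl⟩
    exact Subalgebra.algebraMap_mem B'
      (⟨s ^ p, Groth.Agent.Helper2.PBasis.pow_mem_pPowerSubalgebra p s⟩ :
        EGA41.pPowerSubalgebra p A B)
  haveI : Subsingleton (Ω[B⁄B']) := by
    have hsurj := KaehlerDifferential.map_surjective A B' B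
    have h0 : ∀ i, KaehlerDifferential.map A B' B B (KaehlerDifferential.D A B (x i)) = 0 := by
      intro i
      rw [KaehlerDifferential.map_D]
      have : x i = algebraMap B' B ⟨x i, Algebra.subset_adjoin (Set.mem_range_self i)⟩ := rfl
      rw [Algebra.algebraMap_self, RingHom.id_apply, this, Derivation.map_algebraMap]
    have hz : ∀ w : Ω[B⁄A], KaehlerDifferential.map A B' B B w = 0 := by
      intro w
      have hw : w ∈ Submodule.span B (Set.range fun i => KaehlerDifferential.D A B (x i)) := by
        rw [hspan]; trivial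
      induction hw using Submodule.span_induction with
      | mem w hw => obtain ⟨i, rfl⟩ := hw; exact h0 i
      | zero => simp
      | add a b _ _ ha hb => rw [map_add, ha, hb, add_zero]
      | smul a b _ hb => rw [map_smul, hb, smul_zero]
    refine ⟨fun a b => ?_⟩
    obtain ⟨a, rfl⟩ := hsurj a
    obtain ⟨b, rfl⟩ := hsurj b
    rw [hz, hz]
  have hsur := Groth.Agent.Helper2.PBasis.surjective_algebraMap_of_pow_mem_of_subsingleton_kaehler
    (R := B') (S := B) p hpow
  rw [eq_top_iff]
  intro b _
  obtain ⟨b', rfl⟩ := hsur b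
  exact b'.2

end Groth.Agent.S2486
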