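import Groth.Statements.S3436
import Groth.Agent.Lib.Helper8.FSTransport

set_option autoImplicit false
open CategoryTheory AlgebraicGeometry
universe u
open EGA42

namespace Groth.Agent.S3436

/-- Let X and Y be locally Noetherian schemes, f : X ⟶ Y locally of finite type, x a point of X and y =
f x; give O_{X,x} the O_{Y,y}-algebra structure coming from f. Then O_{X,x} is formally smooth over
O_{Y,y} for the adic topologies of the two local rings (topologies defined by the maximal ideals) if
and only if it is formally smooth for the discrete topologies. -/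
theorem result {X Y : Scheme.{u}} [IsLocallyNoetherian X] [IsLocallyNoetherian Y]
    (f : X ⟶ Y) [LocallyOfFiniteType f] (x : X) :
    letI : Algebra (Y.presheaf.stalk (f.base x)) (X.presheaf.stalk x) := (f.stalkMap x).hom.toAlgebra
    EGA41.IsFormallySmoothAdic (Y.presheaf.stalk (f.base x)) (IsLocalRing.maximalIdeal (Y.presheaf.stalk (f.base x)))
        (X.presheaf.stalk x) (IsLocalRing.maximalIdeal (X.presheaf.stalk x)) ↔
      Algebra.FormallySmooth (Y.presheaf.stalk (f.base x)) (X.presheaf.stalk x) := by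
  letI alg : Algebra (Y.presheaf.stalk (f.base x)) (X.presheaf.stalk x) :=
    (f.stalkMap x).hom.toAlgebra
  show EGA41.IsFormallySmoothAdic (Y.presheaf.stalk (f.base x))
      (IsLocalRing.maximalIdeal (Y.presheaf.stalk (f.base x)))
      (X.presheaf.stalk x) (IsLocalRing.maximalIdeal (X.presheaf.stalk x)) ↔
    Algebra.FormallySmooth (Y.presheaf.stalk (f.base x)) (X.presheaf.stalk x)
  constructor
  · intro h
    obtain ⟨U, hU, hxU⟩ : ∃ U : Y.Opens, IsAffineOpen U ∧ f.base x ∈ U := by
      obtain ⟨U, hU, hxU, -⟩ := (TopologicalSpace.Opens.isBasis_iff_nbhd.1 Y.isBasis_affineOpens)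
        (show f.base x ∈ (⊤ : Y.Opens) from trivial)
      exact ⟨U, hU, hxU⟩
    obtain ⟨V, hV, hxV, hVU⟩ : ∃ V : X.Opens, IsAffineOpen V ∧ x ∈ V ∧ V ≤ f ⁻¹ᵁ U := by
      obtain ⟨V, hV, hxV, hVU⟩ := (TopologicalSpace.Opens.isBasis_iff_nbhd.1 X.isBasis_affineOpens)
        (show x ∈ f ⁻¹ᵁ U from hxU)
      exact ⟨V, hV, hxV, hVU⟩
    let e := IsAffineOpen.arrowStalkMapIso f U hU V hV hVU hxV
    let e₁ : Y.presheaf.stalk (f.base x) ≃+*
        Localization.AtPrime (hU.primeIdealOf ⟨f.base x, hVU hxV⟩).asIdeal :=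
      (Arrow.leftFunc.mapIso e).commRingCatIsoToRingEquiv
    let e₂ : X.presheaf.stalk x ≃+* Localization.AtPrime (hV.primeIdealOf ⟨x, hxV⟩).asIdeal :=
      (Arrow.rightFunc.mapIso e).commRingCatIsoToRingEquiv
    have hpq : (hU.primeIdealOf ⟨f.base x, hVU hxV⟩).asIdeal =
        (hV.primeIdealOf ⟨x, hxV⟩).asIdeal.comap (f.appLE U V hVU).hom :=
      congr($(IsAffineOpen.comap_primeIdealOf_appLE U hU V hV hVU hxV).1).symm
    have hcomm : ∀ a, e₂ ((f.stalkMap x).hom a) =
        Localization.localRingHom _ _ (f.appLE U V hVU).hom hpq (e₁ a) := by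
      intro a
      have h1 := Arrow.w e.hom
      exact (congrArg (fun g => g.hom a) h1).symm
    haveI : IsNoetherianRing Γ(Y, U) := IsLocallyNoetherian.component_noetherian ⟨U, hU⟩
    have hft : (f.appLE U V hVU).hom.FiniteType := f.finiteType_appLE hU hV hVU
    have hcomm' : ∀ a, e₂.symm
        (Localization.localRingHom _ _ (f.appLE U V hVU).hom hpq a) =
        (f.stalkMap x).hom (e₁.symm a) := by
      intro a
      rw [RingEquiv.symm_apply_eq, hcomm, RingEquiv.apply_symm_apply]
    have h' := Groth.Agent.Helper8.FSTransport.isFormallySmoothAdic_of_ringEquiv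
      (Localization.localRingHom _ _ (f.appLE U V hVU).hom hpq) (f.stalkMap x).hom
      e₁.symm e₂.symm hcomm'
      (IsLocalRing.maximalIdeal _) (IsLocalRing.maximalIdeal _) (IsLocalRing.maximalIdeal _)
      (IsLocalRing.maximalIdeal _)
      (fun x hx => Groth.Agent.Helper8.FSTransport.ringEquiv_mem_maximalIdeal e₁.symm.symm x hx)
      (fun x hx => Groth.Agent.Helper8.FSTransport.ringEquiv_mem_maximalIdeal e₂.symm.symm x hx) h
    have h'' := Groth.Agent.Helper8.FSTransport.formallySmooth_localRingHom_of_isFormallySmoothAdic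
      (f.appLE U V hVU).hom hft _ _ hpq h'
    exact Groth.Agent.Helper8.FSTransport.formallySmooth_of_ringEquiv
      (Localization.localRingHom _ _ (f.appLE U V hVU).hom hpq) (f.stalkMap x).hom
      e₁.symm e₂.symm hcomm' h''
  · intro h
    intro C _ _ J hJ _ u _
    exact Algebra.FormallySmooth.exists_lift J hJ u

end Groth.Agent.S3436
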