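import Groth.Statements.S2919
import Mathlib
import Groth.Prelude.Def_SGA1
import Groth.Agent.Lib.Helper9.FE.SigmaFinite
import Groth.Agent.Lib.Helper9.FE.FreeSecAlg
-- import your own Groth.Agent.* helpers here

set_option autoImplicit false
open CategoryTheory CategoryTheory.Limits AlgebraicGeometry
universe u
open SGA1

namespace Groth.Agent.S2919

open SGA1
open CategoryTheory CategoryTheory.Limits AlgebraicGeometry
namespace Aux
set_option backward.isDefEq.respectTransparency false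
set_option linter.style.haveILetI false
set_option linter.unusedSectionVars false
open H9FE

theorem appLE_congr_hom {X Y : Scheme.{u}} {f g : X ⟶ Y} (h : f = g) (U : Y.Opens) (V : X.Opens)
    (e : V ≤ f ⁻¹ᵁ U) : f.appLE U V e = g.appLE U V (h ▸ e) := by
  subst h; rfl

theorem id_appLE_self {X : Scheme.{u}} (U : X.Opens) (e : U ≤ (𝟙 X) ⁻¹ᵁ U) :
    (𝟙 X : X ⟶ X).appLE U U e = 𝟙 _ := by
  simp only [Scheme.Hom.appLE, Scheme.Hom.id_app, Category.id_comp]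
  exact X.presheaf.map_id _

variable {X Y : Scheme.{u}} {G : Type u} [Group G] [Finite G] (ρ : G →* Aut X) (p : X ⟶ Y)

theorem le_sg (hinv : ∀ g : G, (ρ g).hom ≫ p = p) (s : Y ⟶ X) (hs : s ≫ p = 𝟙 Y) (V : Y.Opens)
    (g : G) : V ≤ (s ≫ (ρ g).hom) ⁻¹ᵁ (p ⁻¹ᵁ V) := by
  rw [← Scheme.Hom.comp_preimage, Category.assoc, hinv g, hs]
  exact le_rfl

theorem local_bij (hp : SGA1.IsQuot ρ p)
    (hfree : ∀ (K : Type u) [Field K] [IsAlgClosed K] (ξ : Spec (CommRingCat.of K) ⟶ X) (g : G),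
      ξ ≫ (ρ g).hom = ξ → g = 1) (s : Y ⟶ X) (hs : s ≫ p = 𝟙 Y)
    (V : Y.Opens) (hV : IsAffineOpen V) :
    Function.Bijective (fun (b : Γ(X, p ⁻¹ᵁ V)) (g : G) =>
      ((s ≫ (ρ g).hom).appLE (p ⁻¹ᵁ V) V (le_sg ρ p hp.inv s hs V g)).hom b) := by
  haveI : IsAffineHom p := hp.affine
  have hW : IsAffineOpen (p ⁻¹ᵁ V) := hV.preimage p
  have hsV : V ≤ s ⁻¹ᵁ (p ⁻¹ᵁ V) := by
    rw [← Scheme.Hom.comp_preimage, hs]
    exact le_rfl
  have hτle : ∀ g : G, p ⁻¹ᵁ V ≤ (ρ g).hom ⁻¹ᵁ (p ⁻¹ᵁ V) :=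
    fun g => SGA1.preimage_le_of_inv ρ p hp.inv g V
  let τ : G → (Γ(X, p ⁻¹ᵁ V) →+* Γ(X, p ⁻¹ᵁ V)) :=
    fun g => ((ρ g).hom.appLE (p ⁻¹ᵁ V) (p ⁻¹ᵁ V) (hτle g)).hom
  let π : Γ(Y, V) →+* Γ(X, p ⁻¹ᵁ V) := (p.app V).hom
  let σ : Γ(X, p ⁻¹ᵁ V) →+* Γ(Y, V) := (s.appLE (p ⁻¹ᵁ V) V hsV).hom
  have hcomp : ∀ g : G, (ρ g).hom.appLE (p ⁻¹ᵁ V) (p ⁻¹ᵁ V) (hτle g) ≫ s.appLE (p ⁻¹ᵁ V) V hsV =
      (s ≫ (ρ g).hom).appLE (p ⁻¹ᵁ V) V (le_sg ρ p hp.inv s hs V g) := by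
    intro g
    rw [Scheme.Hom.appLE_comp_appLE]
  have key := freeSec_bijective π τ ?_ ?_ ?_ ?_ σ ?_ ?_
  · convert key using 3 with b g
    rw [← hcomp g]
    rfl
  · -- τ 1 = id
    show ((ρ 1).hom.appLE _ _ _).hom = _
    have h1 : (ρ 1).hom = 𝟙 X := by rw [map_one]; rfl
    rw [appLE_congr_hom h1, id_appLE_self]
    rfl
  · -- τ (g * h)
    intro g h
    show ((ρ (g * h)).hom.appLE _ _ _).hom = (((ρ h).hom.appLE _ _ _).hom).comp
      (((ρ g).hom.appLE _ _ _).hom)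
    rw [← CommRingCat.hom_comp, Scheme.Hom.appLE_comp_appLE]
    have h1 : (ρ (g * h)).hom = (ρ h).hom ≫ (ρ g).hom := by
      rw [map_mul, Aut.Aut_mul_def, Iso.trans_hom]
    rw [appLE_congr_hom h1]
  · -- τ g ∘ π = π
    intro g a
    show (((ρ g).hom.appLE _ _ _).hom) ((p.app V).hom a) = (p.app V).hom a
    rw [← CommRingCat.comp_apply, ← Scheme.Hom.comp_appLE, appLE_congr_hom (hp.inv g),
      Scheme.Hom.appLE_eq_app]
  · -- invariants
    intro b hb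
    exact (hp.range_iff V b).mpr hb
  · -- σ π = id
    intro a
    show ((s.appLE _ _ _).hom) ((p.app V).hom a) = a
    rw [← CommRingCat.comp_apply, ← Scheme.Hom.comp_appLE, appLE_congr_hom hs, id_appLE_self]
    rfl
  · -- free
    intro K _ _ ξ g hξ
    apply hfree K (Spec.map (CommRingCat.ofHom ξ) ≫ hW.fromSpec) g
    rw [Category.assoc, ← IsAffineOpen.SpecMap_appLE_fromSpec (ρ g).hom hW hW (hτle g),
      ← Category.assoc, ← Spec.map_comp]
    congr 2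
    ext x
    exact RingHom.congr_fun hξ x

theorem main (hp : SGA1.IsQuot ρ p)
    (hfree : ∀ (K : Type u) [Field K] [IsAlgClosed K] (ξ : Spec (CommRingCat.of K) ⟶ X) (g : G),
      ξ ≫ (ρ g).hom = ξ → g = 1) (s : Y ⟶ X) (hs : s ≫ p = 𝟙 Y) :
    IsIso (Sigma.desc (fun g : G => s ≫ (ρ g).hom) : (∐ fun _ : G => Y) ⟶ X) := by
  haveI : IsAffineHom p := hp.affine
  set φ : (∐ fun _ : G => Y) ⟶ X := Sigma.desc (fun g : G => s ≫ (ρ g).hom) with hφ
  have hιφ : ∀ g : G, Sigma.ι (fun _ : G => Y) g ≫ φ = s ≫ (ρ g).hom := fun g =>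
    Sigma.ι_desc _ _
  have hφp : φ ≫ p = Sigma.desc (fun _ : G => 𝟙 Y) := by
    apply Sigma.hom_ext
    intro g
    rw [← Category.assoc, hιφ, Sigma.ι_desc, Category.assoc, hp.inv g, hs]
  haveI : IsFinite (φ ≫ p) := by
    rw [hφp]
    exact isFinite_sigmaDesc _ _ (fun _ => inferInstance)
  show MorphismProperty.isomorphisms Scheme φ
  refine HasAffineProperty.of_iSup_eq_top (P := MorphismProperty.isomorphisms Scheme)
    (fun V : Y.affineOpens => ⟨p ⁻¹ᵁ V.1, V.2.preimage p⟩) ?_ (fun V => ⟨?_, ?_⟩)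
  · show ⨆ V : Y.affineOpens, p ⁻¹ᵁ V.1 = ⊤
    rw [← Scheme.Hom.preimage_iSup, iSup_affineOpens_eq_top]
    rfl
  · show IsAffineOpen (φ ⁻¹ᵁ (p ⁻¹ᵁ V.1))
    rw [← Scheme.Hom.comp_preimage]
    exact V.2.preimage (φ ≫ p)
  · simp only [TopologicalSpace.Opens.map_top, morphismRestrict_app]
    refine IsIso.comp_isIso' ?_ inferInstance
    have e : (p ⁻¹ᵁ V.1).ι ''ᵁ ⊤ = p ⁻¹ᵁ V.1 := by simp
    show IsIso (φ.app ((p ⁻¹ᵁ V.1).ι ''ᵁ ⊤))
    rw [e]
    rw [ConcreteCategory.isIso_iff_bijective]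
    have hb := local_bij ρ p hp hfree s hs V.1 V.2
    have hle : ∀ g : G, V.1 ≤ (Sigma.ι (fun _ : G => Y) g) ⁻¹ᵁ (φ ⁻¹ᵁ (p ⁻¹ᵁ V.1)) := by
      intro g
      rw [← Scheme.Hom.comp_preimage, hιφ]
      exact le_sg ρ p hp.inv s hs V.1 g
    have hle' : ∀ g : G, (Sigma.ι (fun _ : G => Y) g) ⁻¹ᵁ (φ ⁻¹ᵁ (p ⁻¹ᵁ V.1)) ≤ V.1 := by
      intro g
      rw [← Scheme.Hom.comp_preimage, hιφ, ← Scheme.Hom.comp_preimage, Category.assoc, hp.inv g,
        hs]
      exact le_rfl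
    have hfac : ∀ (g : G) (b : Γ(X, p ⁻¹ᵁ V.1)),
        ((s ≫ (ρ g).hom).appLE (p ⁻¹ᵁ V.1) V.1 (le_sg ρ p hp.inv s hs V.1 g)).hom b =
        ((Sigma.ι (fun _ : G => Y) g).appLE (φ ⁻¹ᵁ (p ⁻¹ᵁ V.1)) V.1 (hle g)).hom
          ((φ.app (p ⁻¹ᵁ V.1)).hom b) := by
      intro g b
      rw [← CommRingCat.comp_apply, ← Scheme.Hom.comp_appLE, appLE_congr_hom (hιφ g)]
    constructor
    · intro b b' hbb'
      apply hb.1
      funext g
      show ((s ≫ (ρ g).hom).appLE _ _ _).hom b = ((s ≫ (ρ g).hom).appLE _ _ _).hom b'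
      rw [hfac, hfac]
      exact congrArg _ hbb'
    · intro c
      obtain ⟨b, hb'⟩ := hb.2 (fun g =>
        ((Sigma.ι (fun _ : G => Y) g).appLE (φ ⁻¹ᵁ (p ⁻¹ᵁ V.1)) V.1 (hle g)).hom c)
      refine ⟨b, ?_⟩
      apply Scheme.OpenCover.ext_elem _ _ (sigmaOpenCover (fun _ : G => Y))
      intro g
      show ((Sigma.ι (fun _ : G => Y) g).app _).hom _ = ((Sigma.ι (fun _ : G => Y) g).app _).hom c
      have h1 := congrFun hb' g
      simp only [hfac] at h1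
      -- h1 : appLE (φ.app b) = appLE c
      have h3 : (homOfLE (hle g)).op ≫ (homOfLE (hle' g)).op = 𝟙 _ := Subsingleton.elim _ _
      have hMM' : ∀ z : Γ(Y, (Sigma.ι (fun _ : G => Y) g) ⁻¹ᵁ (φ ⁻¹ᵁ (p ⁻¹ᵁ V.1))),
          (Y.presheaf.map (homOfLE (hle' g)).op).hom
            ((Y.presheaf.map (homOfLE (hle g)).op).hom z) = z := by
        intro z
        rw [← CommRingCat.comp_apply, ← Functor.map_comp, h3, Y.presheaf.map_id]
        rfl
      have h2 : (Y.presheaf.map (homOfLE (hle g)).op).hom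
          (((Sigma.ι (fun _ : G => Y) g).app _).hom ((φ.app (p ⁻¹ᵁ V.1)).hom b)) =
          (Y.presheaf.map (homOfLE (hle g)).op).hom
          (((Sigma.ι (fun _ : G => Y) g).app _).hom c) := h1
      have h4 := congrArg ((Y.presheaf.map (homOfLE (hle' g)).op).hom) h2
      rw [hMM', hMM'] at h4
      exact h4

end Aux

/-- Let a finite group G act on X, p : X ⟶ Y a quotient with Y locally Noetherian and p finite, G acting
freely on geometric points, and suppose p has a section. Then the morphism from the disjoint union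
of copies of Y indexed by G to X which is s followed by the action of g on the g-th copy is an
isomorphism. -/
theorem result {X Y : Scheme.{u}} {G : Type u} [Group G] [Finite G] (ρ : G →* Aut X)
    (p : X ⟶ Y) (hp : SGA1.IsQuot ρ p) [IsLocallyNoetherian Y] [IsFinite p]
    (hfree : (∀ (K : Type u) [Field K] [IsAlgClosed K] (ξ : Spec (CommRingCat.of K) ⟶ X) (g : G), ξ ≫ (ρ g).hom = ξ → g = 1)) (s : Y ⟶ X) (hs : s ≫ p = 𝟙 Y) :
    IsIso (Sigma.desc (fun g : G => s ≫ (ρ g).hom) : (∐ fun _ : G => Y) ⟶ X) := by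
  exact Aux.main ρ p hp hfree s hs

end Groth.Agent.S2919
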