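import Groth.Statements.S2941
import Groth.Agent.Lib.Helper8.CIPres5

set_option autoImplicit false
universe u
open CInt

namespace Groth.Agent.S2941

/-- Let A be a Noetherian local ring and let f : B → A and f' : B' → A be surjective ring homomorphisms
from regular local rings, with kernels I and I'. If q, q' are the minimal numbers of generators of
I, I' then dim B − q = dim B' − q'. -/
theorem result (A : Type u) [CommRing A] [IsLocalRing A] [IsNoetherianRing A] (B B' : Type u) [CommRing B] [CommRing B'] [IsRegularLocalRing B] [IsRegularLocalRing B'] (f : B →+* A) (hf : Function.Surjective f) (f' : B' →+* A) (hf' : Function.Surjective f') (d d' : ℕ) (hd : ringKrullDim B = d) (hd' : ringKrullDim B' = d') : (d : ℤ) - ((RingHom.ker f).spanFinrank : ℤ) = (d' : ℤ) - ((RingHom.ker f').spanFinrank : ℤ) := by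
  haveI : Nontrivial (B ⧸ RingHom.ker f) :=
    Ideal.Quotient.nontrivial_iff.2 (RingHom.ker_ne_top f)
  haveI : Nontrivial (B' ⧸ RingHom.ker f') :=
    Ideal.Quotient.nontrivial_iff.2 (RingHom.ker_ne_top f')
  let e : (B ⧸ RingHom.ker f) ≃+* (B' ⧸ RingHom.ker f') :=
    (RingHom.quotientKerEquivOfSurjective hf).trans
      (RingHom.quotientKerEquivOfSurjective hf').symm
  have key := Groth.Agent.Helper8.CIPres.spanFinrank_add_eq_of_ringEquiv B B'
    (RingHom.ker f) (RingHom.ker f') e
  rw [Groth.Agent.Helper8.CIPres.dim_eq_nat B] at hd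
  rw [Groth.Agent.Helper8.CIPres.dim_eq_nat B'] at hd'
  have h1 : (IsLocalRing.maximalIdeal B).spanFinrank = d := by exact_mod_cast hd
  have h2 : (IsLocalRing.maximalIdeal B').spanFinrank = d' := by exact_mod_cast hd'
  omega

end Groth.Agent.S2941
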