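import Groth.Statements.S2952
import Mathlib

set_option autoImplicit false
open RootPairing
open scoped Pointwise
universe u
open RootD

namespace Groth.Agent.S2952

section
open RootPairing
open scoped Pointwise

variable {ι R M N : Type*} [CommRing R] [AddCommGroup M] [Module R M]
    [AddCommGroup N] [Module R N] (P : RootPairing ι R M N)

theorem pairing_aut (g : P.Aut) (y : M) (j : ι) :
    P.toLinearMap (g • y) (P.coroot (g • j)) = P.toLinearMap y (P.coroot j) := by
  have h1 := RootPairing.Hom.weight_coweight_transpose_apply P P (P.coroot (g • j)) g.toHom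
  have h2 := LinearMap.congr_fun h1 y
  have h3 : g.toHom.coweightMap (P.coroot (g • j)) = P.coroot j := by
    rw [RootPairing.Hom.coroot_coweightMap_apply]
    congr 1
    exact g.toHom.indexEquiv.symm_apply_apply j
  rw [h3] at h2
  have h4 : g • y = g.toHom.weightMap y := rfl
  rw [h4]
  simpa using h2


theorem root_smul (g : P.Aut) (j : ι) : P.root (g • j) = g • P.root j :=
  RootPairing.Equiv.root_indexEquiv_eq_smul P j g

theorem refl_smul (g : P.Aut) (j : ι) (y : M) :
    P.reflection (g • j) (g • y) = g • (P.reflection j y) := by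
  rw [P.reflection_apply, P.reflection_apply]
  have h1 : (P.coroot' (g • j)) (g • y) = (P.coroot' j) y := pairing_aut P g y j
  rw [h1, root_smul, smul_sub, ← smul_comm g]

theorem refl_conj (g : P.Aut) (j : ι) :
    Equiv.reflection P (g • j) = g * Equiv.reflection P j * g⁻¹ := by
  apply RootPairing.Equiv.weightHom_injective P
  apply LinearEquiv.ext
  intro x
  have hx : x = g • (g⁻¹ • x) := by rw [smul_smul, mul_inv_cancel, one_smul]
  have h1 : (RootPairing.Equiv.weightHom P (Equiv.reflection P (g • j))) x =
      P.reflection (g • j) x := rfl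
  have h2 : (RootPairing.Equiv.weightHom P (g * Equiv.reflection P j * g⁻¹)) x =
      g • (P.reflection j (g⁻¹ • x)) := rfl
  rw [h1, h2]
  conv_lhs => rw [hx]
  exact refl_smul P g j (g⁻¹ • x)


theorem claimA [CharZero R] [IsDomain R] [Finite ι] [P.IsCrystallographic] [P.IsReduced]
    (b : P.Base) (i : ι) :
    ∃ g : P.Aut, g ∈ Subgroup.closure ((fun i : ι => Equiv.reflection P i) '' (b.support : Set ι)) ∧
      ∃ j ∈ b.support, g • j = i := by
  have hs : ∀ j ∈ b.support, Equiv.reflection P j ∈
      Subgroup.closure ((fun i : ι => Equiv.reflection P i) '' (b.support : Set ι)) := by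
    intro j hj
    exact Subgroup.subset_closure ⟨j, hj, rfl⟩
  apply b.induction_reflect i
  · rintro i ⟨g, hg, j, hj, rfl⟩
    refine ⟨g * Equiv.reflection P j, Subgroup.mul_mem _ hg (hs j hj), j, hj, ?_⟩
    apply P.root.injective
    rw [mul_smul, root_smul, P.root_reflectionPerm, P.reflection_apply_self, root_smul,
      RootPairing.Equiv.reflection_smul, P.reflection_apply_self, smul_neg, root_smul]
  · intro i hi
    exact ⟨1, Subgroup.one_mem _, i, hi, one_smul _ _⟩
  · rintro i j' ⟨g, hg, j, hj, rfl⟩ hj'
    refine ⟨Equiv.reflection P j' * g, Subgroup.mul_mem _ (hs j' hj') hg, j, hj, ?_⟩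
    rw [mul_smul]
    rfl

theorem main [CharZero R] [IsDomain R] [Finite ι] [P.IsCrystallographic] [P.IsReduced]
    (b : P.Base) :
    Subgroup.closure ((fun i : ι => Equiv.reflection P i) '' (b.support : Set ι)) = P.weylGroup ∧
    ∀ i : ι, ∃ g : P.Aut, g ∈ P.weylGroup ∧ ∃ j ∈ b.support, g • j = i := by
  have hle : Subgroup.closure ((fun i : ι => Equiv.reflection P i) '' (b.support : Set ι)) ≤
      P.weylGroup := by
    apply Subgroup.closure_mono
    rintro _ ⟨j, -, rfl⟩
    exact ⟨j, rfl⟩
  refine ⟨le_antisymm hle ?_, ?_⟩
  · unfold RootPairing.weylGroup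
    rw [Subgroup.closure_le]
    rintro _ ⟨i, rfl⟩
    obtain ⟨g, hg, j, hj, rfl⟩ := claimA P b i
    rw [SetLike.mem_coe, refl_conj]
    exact Subgroup.mul_mem _ (Subgroup.mul_mem _ hg (Subgroup.subset_closure ⟨j, hj, rfl⟩))
      (Subgroup.inv_mem _ hg)
  · intro i
    obtain ⟨g, hg, j, hj, h⟩ := claimA P b i
    exact ⟨g, hle hg, j, hj, h⟩


end


/-- For a finite crystallographic reduced root pairing over a characteristic-zero domain with a base b:
(1) the Weyl group is generated by the reflections in the simple roots; (2) every root is the image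
of a simple root under an element of the Weyl group (acting on the indexing type). (The published
statement also covers the non-reduced case.) -/
theorem result {ι R M N : Type*} [CommRing R] [CharZero R] [IsDomain R] [AddCommGroup M] [Module R M]
    [AddCommGroup N] [Module R N] (P : RootPairing ι R M N) [Finite ι] [P.IsCrystallographic] [P.IsReduced]
    (b : P.Base) :
    Subgroup.closure ((fun i : ι => Equiv.reflection P i) '' (b.support : Set ι)) = P.weylGroup ∧
    ∀ i : ι, ∃ g : P.Aut, g ∈ P.weylGroup ∧ ∃ j ∈ b.support, g • j = i := by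
  classical
  exact main P b

end Groth.Agent.S2952
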