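import Groth.Statements.S2953
import Mathlib
import Groth.Agent.S2952

set_option autoImplicit false
open RootPairing
open scoped Pointwise
universe u
open RootD

namespace Groth.Agent.S2953

section
open RootPairing
open scoped Pointwise
open Groth.Agent.S2952

variable {ι R M N : Type*} [CommRing R] [CharZero R] [IsDomain R] [AddCommGroup M] [Module R M]
    [AddCommGroup N] [Module R N] (P : RootPairing ι R M N) [Finite ι] [P.IsCrystallographic] [P.IsReduced]

/-- product of simple reflections along a word -/
noncomputable def wprod (b : P.Base) (l : List b.support) : P.Aut :=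
  (l.map (fun j => Equiv.reflection P j.1)).prod

theorem wprod_nil (b : P.Base) : wprod P b [] = 1 := rfl

theorem wprod_cons (b : P.Base) (i : b.support) (l : List b.support) :
    wprod P b (i :: l) = Equiv.reflection P i.1 * wprod P b l := by
  simp [wprod]

theorem wprod_append (b : P.Base) (l l' : List b.support) :
    wprod P b (l ++ l') = wprod P b l * wprod P b l' := by
  simp [wprod]

theorem refl_sq (j : ι) : Equiv.reflection P j * Equiv.reflection P j = 1 := by
  rw [mul_eq_one_iff_inv_eq, RootPairing.Equiv.reflection_inv]

/-- key exchange lemma -/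
theorem exchange (b : P.Base) (j : b.support) : ∀ l : List b.support,
    ¬ b.IsPos (wprod P b l • j.1) →
    ∃ l' : List b.support, l'.length < l.length ∧
      wprod P b l * Equiv.reflection P j.1 = wprod P b l' := by
  intro l
  induction l with
  | nil =>
    intro h
    exfalso
    apply h
    rw [wprod_nil, one_smul]
    exact RootPairing.Base.isPos_of_mem_support j.2
  | cons i t ih =>
    intro h
    by_cases hpos : b.IsPos (wprod P b t • j.1)
    · -- case B
      have heq : wprod P b t • j.1 = i.1 := by
        by_contra hne
        apply h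
        rw [wprod_cons, mul_smul]
        exact hpos.reflectionPerm i.2 hne
      have hconj : Equiv.reflection P i.1 =
          wprod P b t * Equiv.reflection P j.1 * (wprod P b t)⁻¹ := by
        rw [← heq, refl_conj]
      refine ⟨t, by simp, ?_⟩
      rw [wprod_cons, hconj]
      rw [mul_assoc, mul_assoc, mul_assoc, inv_mul_cancel_left, refl_sq, mul_one]
    · obtain ⟨t', ht', heq⟩ := ih hpos
      refine ⟨i :: t', by simpa using ht', ?_⟩
      rw [wprod_cons, wprod_cons, mul_assoc, heq]


theorem wprod_inv (b : P.Base) (l : List b.support) :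
    (wprod P b l)⁻¹ = wprod P b l.reverse := by
  induction l with
  | nil => simp [wprod_nil]
  | cons i t ih =>
    rw [wprod_cons, mul_inv_rev, ih, List.reverse_cons, wprod_append, RootPairing.Equiv.reflection_inv]
    simp [wprod]

theorem exists_word (b : P.Base) (g : P.Aut) (hg : g ∈ P.weylGroup) :
    ∃ l : List b.support, wprod P b l = g := by
  rw [← (Groth.Agent.S2952.result P b).1] at hg
  induction hg using Subgroup.closure_induction with
  | mem x hx =>
    obtain ⟨j, hj, rfl⟩ := hx
    exact ⟨[⟨j, hj⟩], by simp [wprod]⟩
  | one => exact ⟨[], rfl⟩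
  | mul x y _ _ hx hy =>
    obtain ⟨l1, rfl⟩ := hx
    obtain ⟨l2, rfl⟩ := hy
    exact ⟨l1 ++ l2, wprod_append P b l1 l2⟩
  | inv x _ hx =>
    obtain ⟨l1, rfl⟩ := hx
    exact ⟨l1.reverse, (wprod_inv P b l1).symm⟩

theorem main (b : P.Base) (g : P.Aut) (hg : g ∈ P.weylGroup)
    (hpos : ∀ i, b.IsPos i → b.IsPos (g • i)) : g = 1 := by
  classical
  have hex : ∃ n : ℕ, ∃ l : List b.support, l.length = n ∧ wprod P b l = g := by
    obtain ⟨l, hl⟩ := exists_word P b g hg
    exact ⟨l.length, l, rfl, hl⟩
  obtain ⟨l, hlen, hl⟩ := Nat.find_spec hex
  have hmin := fun m (hm : m < Nat.find hex) => Nat.find_min hex hm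
  rcases List.eq_nil_or_concat l with hnil | ⟨l', j, hconcat⟩
  · rw [hnil, wprod_nil] at hl
    exact hl.symm
  · exfalso
    have hg' : g = wprod P b l' * Equiv.reflection P j.1 := by
      rw [← hl, hconcat, List.concat_eq_append, wprod_append]
      simp [wprod]
    have hneg : ¬ b.IsPos (wprod P b l' • j.1) := by
      intro hi'
      have h1 := hpos j.1 (RootPairing.Base.isPos_of_mem_support j.2)
      have h2 : g • j.1 = P.reflectionPerm (wprod P b l' • j.1) (wprod P b l' • j.1) := by
        apply P.root.injective
        rw [hg', mul_smul, root_smul, root_smul, RootPairing.Equiv.reflection_smul,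
          P.reflection_apply_self, smul_neg, P.root_reflectionPerm, P.reflection_apply_self,
          root_smul]
      rw [h2] at h1
      exact ((RootPairing.Base.IsPos.neg_iff_not b (wprod P b l' • j.1)).mp h1) hi'
    obtain ⟨l'', hlt, heq⟩ := exchange P b j l' hneg
    apply hmin l''.length
    · rw [← hlen, hconcat, List.length_concat]
      omega
    · exact ⟨l'', rfl, by rw [← heq, ← hg']⟩


end


/-- For a finite crystallographic reduced root pairing with a base b: an element of the Weyl group which
maps positive roots (relative to b) to positive roots is the identity. -/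
theorem result {ι R M N : Type*} [CommRing R] [CharZero R] [IsDomain R] [AddCommGroup M] [Module R M]
    [AddCommGroup N] [Module R N] (P : RootPairing ι R M N) [Finite ι] [P.IsCrystallographic] [P.IsReduced]
    (b : P.Base) (g : P.Aut) (hg : g ∈ P.weylGroup) (hpos : ∀ i, b.IsPos i → b.IsPos (g • i)) : g = 1 := by
  classical
  exact main P b g hg hpos

end Groth.Agent.S2953
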