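import Groth.Statements.S2954
import Mathlib
import Groth.Agent.S2953

set_option autoImplicit false
open RootPairing
open scoped Pointwise
universe u
open RootD

namespace Groth.Agent.S2954

section
open RootPairing
open scoped Pointwise
open Groth.Agent.S2952

variable {ι R M N : Type*} [CommRing R] [CharZero R] [IsDomain R] [AddCommGroup M] [Module R M]
    [AddCommGroup N] [Module R N] (P : RootPairing ι R M N) [Finite ι] [P.IsCrystallographic] [P.IsReduced]

theorem simple_iff (b : P.Base) (i : ι) :
    i ∈ b.support ↔ b.IsPos i ∧ ∀ k l, b.IsPos k → b.IsPos l → P.root i ≠ P.root k + P.root l := by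
  constructor
  · intro hi
    refine ⟨RootPairing.Base.isPos_of_mem_support hi, ?_⟩
    intro k l hk hl h
    have h1 := b.height_add h
    rw [RootPairing.Base.height_one_of_mem_support hi] at h1
    rw [RootPairing.Base.isPos_iff] at hk hl
    omega
  · rintro ⟨hpos, hind⟩
    obtain ⟨j, hj, hj'⟩ := hpos.exists_mem_support_pos_pairingIn
    rw [P.zero_lt_pairingIn_iff'] at hj'
    rcases eq_or_ne i j with rfl | hij
    · exact hj
    · exfalso
      obtain ⟨k, hk⟩ := P.root_sub_root_mem_of_pairingIn_pos hj' hij
      have hkpos : b.IsPos k := hpos.sub hj hk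
      apply hind k j hkpos (RootPairing.Base.isPos_of_mem_support hj)
      rw [hk]
      abel

theorem pos_of_simple (b b' : P.Base) (g : P.Aut)
    (h : ∀ j ∈ b.support, b'.IsPos (g • j)) : ∀ i, b.IsPos i → b'.IsPos (g • i) := by
  intro i hi
  apply hi.induction_on_add (p := fun i => b'.IsPos (g • i))
  · exact h
  · intro i j k hk hpi hj
    have : P.root (g • k) = P.root (g • i) + P.root (g • j) := by
      rw [root_smul, root_smul, root_smul, hk, smul_add]
    exact RootPairing.Base.IsPos.add hpi (h j hj) this

theorem smul_neg_idx (g : P.Aut) (i : ι) :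
    g • (P.reflectionPerm i i) = P.reflectionPerm (g • i) (g • i) := by
  apply P.root.injective
  rw [root_smul, P.root_reflectionPerm, P.reflection_apply_self, P.root_reflectionPerm,
    P.reflection_apply_self, smul_neg, root_smul]

theorem pos_smul_neg_iff (b' : P.Base) (g : P.Aut) (i : ι) :
    b'.IsPos (g • (P.reflectionPerm i i)) ↔ ¬ b'.IsPos (g • i) := by
  rw [smul_neg_idx]
  exact RootPairing.Base.IsPos.neg_iff_not b' (g • i)

theorem inv_pos (b b' : P.Base) (g : P.Aut) (h : ∀ i, b.IsPos i → b'.IsPos (g • i)) :
    ∀ i', b'.IsPos i' → b.IsPos (g⁻¹ • i') := by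
  intro i' hi'
  by_contra hneg
  have h1 : b.IsPos (P.reflectionPerm (g⁻¹ • i') (g⁻¹ • i')) :=
    (RootPairing.Base.IsPos.neg_iff_not b (g⁻¹ • i')).mpr hneg
  have h2 := h _ h1
  rw [pos_smul_neg_iff, smul_smul, mul_inv_cancel, one_smul] at h2
  exact h2 hi'


/-- existence of a Weyl group element mapping `b`-positive roots to `b'`-positive roots -/
theorem exists_pos_to_pos (b b' : P.Base) :
    ∃ g : P.Aut, g ∈ P.weylGroup ∧ ∀ i, b.IsPos i → b'.IsPos (g • i) := by
  classical
  have hfin : Fintype ι := Fintype.ofFinite ι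
  let n : P.Aut → ℕ := fun g =>
    (Finset.univ.filter (fun i => b.IsPos i ∧ ¬ b'.IsPos (g • i))).card
  have hex : ∃ m : ℕ, ∃ g : P.Aut, g ∈ P.weylGroup ∧ n g = m := ⟨n 1, 1, Subgroup.one_mem _, rfl⟩
  obtain ⟨g, hgW, hgn⟩ := Nat.find_spec hex
  have hmin := fun m (hm : m < Nat.find hex) => Nat.find_min hex hm
  refine ⟨g, hgW, ?_⟩
  by_contra hcon
  -- some simple root goes to a negative root
  have hsimple : ∃ j ∈ b.support, ¬ b'.IsPos (g • j) := by
    by_contra h2
    apply hcon
    apply pos_of_simple P b b' g
    intro j hj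
    by_contra h3
    exact h2 ⟨j, hj, h3⟩
  obtain ⟨j, hj, hjneg⟩ := hsimple
  have hjpos : b.IsPos j := RootPairing.Base.isPos_of_mem_support hj
  let g' : P.Aut := g * Equiv.reflection P j
  have hg'W : g' ∈ P.weylGroup := Subgroup.mul_mem _ hgW (P.reflection_mem_weylGroup j)
  have hsj : ∀ i, (Equiv.reflection P j) • i = P.reflectionPerm j i := fun i => rfl
  have hnegj : ¬ b.IsPos (P.reflectionPerm j j) :=
    fun h => ((RootPairing.Base.IsPos.neg_iff_not b j).mp h) hjpos
  have hlt : n g' < n g := by
    have hjmem : j ∈ Finset.univ.filter (fun i => b.IsPos i ∧ ¬ b'.IsPos (g • i)) := by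
      simp only [Finset.mem_filter, Finset.mem_univ, true_and]
      exact ⟨hjpos, hjneg⟩
    have h1 : (Finset.univ.filter (fun i => b.IsPos i ∧ ¬ b'.IsPos (g' • i))).card ≤
        ((Finset.univ.filter (fun i => b.IsPos i ∧ ¬ b'.IsPos (g • i))).erase j).card := by
      apply Finset.card_le_card_of_injOn (fun i => P.reflectionPerm j i)
      · intro i hi
        simp only [Finset.coe_filter, Finset.mem_univ, true_and, Set.mem_setOf_eq] at hi
        obtain ⟨hipos, hineg⟩ := hi
        have hij : i ≠ j := by
          rintro rfl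
          apply hineg
          simp only [g']
          rw [mul_smul, hsj, pos_smul_neg_iff]
          exact hjneg
        simp only [Finset.coe_erase, Finset.coe_filter, Finset.mem_univ, true_and,
          Set.mem_diff, Set.mem_setOf_eq, Set.mem_singleton_iff]
        refine ⟨⟨hipos.reflectionPerm hj hij, ?_⟩, ?_⟩
        · simp only [g'] at hineg
          rw [mul_smul, hsj] at hineg
          exact hineg
        · intro h
          have : i = P.reflectionPerm j j := by
            have h3 := P.reflectionPerm_self (i := j) (j := i)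
            rw [h] at h3
            exact h3.symm
          rw [this] at hipos
          exact hnegj hipos
      · intro x _ y _ hxy
        exact (P.reflectionPerm j).injective hxy
    exact lt_of_le_of_lt h1 (Finset.card_erase_lt_of_mem hjmem)
  rw [hgn] at hlt
  exact hmin (n g') hlt ⟨g', hg'W, rfl⟩

theorem image_support (b b' : P.Base) (g : P.Aut) (h : ∀ i, b.IsPos i → b'.IsPos (g • i)) :
    (fun i : ι => g • i) '' (b.support : Set ι) = (b'.support : Set ι) := by
  have hinv := inv_pos P b b' g h
  apply Set.eq_of_subset_of_subset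
  · rintro _ ⟨j, hj, rfl⟩
    rw [Finset.mem_coe, simple_iff] at hj ⊢
    refine ⟨h j hj.1, ?_⟩
    intro k' l' hk' hl' heq
    apply hj.2 (g⁻¹ • k') (g⁻¹ • l') (hinv k' hk') (hinv l' hl')
    have := congrArg (fun x => g⁻¹ • x) heq
    simp only [smul_add] at this
    rw [← root_smul, ← root_smul, ← root_smul, smul_smul, inv_mul_cancel, one_smul] at this
    exact this
  · intro j' hj'
    refine ⟨g⁻¹ • j', ?_, by simp only [smul_smul, mul_inv_cancel, one_smul]⟩
    rw [Finset.mem_coe, simple_iff] at hj' ⊢
    refine ⟨hinv j' hj'.1, ?_⟩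
    intro k l hk hl heq
    apply hj'.2 (g • k) (g • l) (h k hk) (h l hl)
    have := congrArg (fun x => g • x) heq
    simp only [smul_add] at this
    rw [← root_smul, ← root_smul, ← root_smul, smul_smul, mul_inv_cancel, one_smul] at this
    exact this

theorem main (b b' : P.Base) :
    ∃! g : P.weylGroup, (fun i : ι => (g : P.Aut) • i) '' (b.support : Set ι) = (b'.support : Set ι) := by
  obtain ⟨g, hgW, hg⟩ := exists_pos_to_pos P b b'
  refine ⟨⟨g, hgW⟩, image_support P b b' g hg, ?_⟩
  rintro ⟨g', hg'W⟩ hg'
  simp only at hg'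
  apply Subtype.ext
  simp only
  have himg := image_support P b b' g hg
  -- h = g⁻¹ * g' preserves b.support
  have hh : ∀ j ∈ b.support, (g⁻¹ * g') • j ∈ b.support := by
    intro j hj
    have h1 : g' • j ∈ (b'.support : Set ι) := by
      rw [← hg']
      exact ⟨j, hj, rfl⟩
    rw [← himg] at h1
    obtain ⟨j2, hj2, h2⟩ := h1
    simp only at h2
    rw [mul_smul, ← h2, smul_smul, inv_mul_cancel, one_smul]
    exact hj2
  have hpos : ∀ i, b.IsPos i → b.IsPos ((g⁻¹ * g') • i) := by
    apply pos_of_simple P b b (g⁻¹ * g')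
    intro j hj
    exact RootPairing.Base.isPos_of_mem_support (hh j hj)
  have h1 := Groth.Agent.S2953.result P b (g⁻¹ * g')
    (Subgroup.mul_mem _ (Subgroup.inv_mem _ hgW) hg'W) hpos
  exact (inv_mul_eq_one.mp h1).symm


end


/-- For a finite crystallographic reduced root pairing (over a domain of characteristic zero), the Weyl
group acts freely and transitively on bases: for two bases b, b' there is exactly one element of the
Weyl group carrying the set of simple roots of b onto that of b'. -/
theorem result {ι R M N : Type*} [CommRing R] [CharZero R] [IsDomain R] [AddCommGroup M] [Module R M]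
    [AddCommGroup N] [Module R N] (P : RootPairing ι R M N) [Finite ι] [P.IsCrystallographic] [P.IsReduced]
    (b b' : P.Base) :
    ∃! g : P.weylGroup, (fun i : ι => (g : P.Aut) • i) '' (b.support : Set ι) = (b'.support : Set ι) := by
  classical
  exact main P b b'

end Groth.Agent.S2954
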