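import Groth.Statements.S2955
import Mathlib

set_option autoImplicit false
open RootPairing
open scoped Pointwise Classical
universe u
open RootD

namespace Groth.Agent.S2955

section
open RootPairing
open scoped Pointwise Classical

variable {ι R M N : Type*} [CommRing R] [CharZero R] [IsDomain R] [AddCommGroup M] [Module R M]
    [AddCommGroup N] [Module R N] (P : RootPairing ι R M N) [Finite ι] [P.IsCrystallographic] [P.IsReduced]

/-- the simple reflection `s_j` preserves the set of positive roots other than `j` -/
theorem pos_erase_iff (b : P.Base) (j : ι) (hj : j ∈ b.support) (i : ι) :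
    (b.IsPos i ∧ i ≠ j) ↔ (b.IsPos (P.reflectionPerm j i) ∧ P.reflectionPerm j i ≠ j) := by
  have hnegj : ¬ b.IsPos (P.reflectionPerm j j) := by
    have := b.height_reflectionPerm_self j
    rw [RootPairing.Base.height_one_of_mem_support hj] at this
    rw [RootPairing.Base.isPos_iff]
    have h2 : b.height (P.reflectionPerm j j) = -1 := this
    rw [h2]
    omega
  have key : ∀ i, (b.IsPos i ∧ i ≠ j) → (b.IsPos (P.reflectionPerm j i) ∧ P.reflectionPerm j i ≠ j) := by
    rintro i ⟨hi, hij⟩
    refine ⟨hi.reflectionPerm hj hij, ?_⟩
    intro h
    have : i = P.reflectionPerm j j := by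
      have h3 := P.reflectionPerm_self (i := j) (j := i)
      rw [h] at h3
      exact h3.symm
    rw [this] at hi
    exact hnegj hi
  constructor
  · exact key i
  · intro h
    have := key _ h
    rw [P.reflectionPerm_self] at this
    exact this

theorem main [Fintype ι] (b : P.Base) (j : ι) (hj : j ∈ b.support) :
    P.reflection j (∑ i, if b.IsPos i then P.root i else 0) =
      (∑ i, if b.IsPos i then P.root i else 0) - (2 : R) • P.root j := by
  have hpos : b.IsPos j := RootPairing.Base.isPos_of_mem_support hj
  have h1 : (∑ i, if b.IsPos i then P.root i else 0) =
      P.root j + ∑ i ∈ Finset.univ.filter (fun i => b.IsPos i ∧ i ≠ j), P.root i := by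
    rw [← Finset.sum_filter]
    have : Finset.univ.filter (fun i => b.IsPos i) =
        insert j (Finset.univ.filter (fun i => b.IsPos i ∧ i ≠ j)) := by
      ext i
      simp only [Finset.mem_filter, Finset.mem_univ, true_and, Finset.mem_insert]
      constructor
      · intro hi
        by_cases hij : i = j
        · left; exact hij
        · right; exact ⟨hi, hij⟩
      · rintro (rfl | ⟨hi, -⟩)
        · exact hpos
        · exact hi
    rw [this, Finset.sum_insert]
    simp
  rw [h1, map_add, map_sum]
  have h2 : ∑ i ∈ Finset.univ.filter (fun i => b.IsPos i ∧ i ≠ j), P.reflection j (P.root i) =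
      ∑ i ∈ Finset.univ.filter (fun i => b.IsPos i ∧ i ≠ j), P.root i := by
    apply Finset.sum_equiv (P.reflectionPerm j)
    · intro i
      simp only [Finset.mem_filter, Finset.mem_univ, true_and]
      exact pos_erase_iff P b j hj i
    · intro i _
      rw [P.root_reflectionPerm]
  rw [h2, P.reflection_apply_self, two_smul]
  abel


end


/-- Let P be a finite crystallographic reduced root pairing over a domain of characteristic zero, with a
base b, and write 2ρ for the sum of the positive roots with respect to b. Then for every simple root
β (an index in the support of b) the reflection in β sends 2ρ to 2ρ − 2β (equivalently, the coroot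
of β pairs to 1 with ρ; only the reflection identity is asserted). -/
theorem result {ι R M N : Type*} [CommRing R] [CharZero R] [IsDomain R] [AddCommGroup M] [Module R M]
    [AddCommGroup N] [Module R N] (P : RootPairing ι R M N) [Finite ι] [P.IsCrystallographic] [P.IsReduced]
    [Fintype ι] (b : P.Base) (j : ι) (hj : j ∈ b.support) :
    P.reflection j (∑ i, if b.IsPos i then P.root i else 0) =
      (∑ i, if b.IsPos i then P.root i else 0) - (2 : R) • P.root j := by
  classical
  exact main P b j hj

end Groth.Agent.S2955
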