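import Groth.Statements.S2964
import Mathlib

set_option autoImplicit false
universe u
open scoped TensorProduct
open SGA3t2b

namespace Groth.Agent.S2964

section Aux

variable (A : Type u) [CommRing A] (L : Type u) [LieRing L] [LieAlgebra A L]

/-- The Lie bracket as a bilinear map. -/
noncomputable def br : L →ₗ[A] L →ₗ[A] L :=
  LinearMap.mk₂ A (fun x y => ⁅x, y⁆) add_lie smul_lie lie_add lie_smul

/-- The lower central series as plain submodules. -/
noncomputable def D : ℕ → Submodule A L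
  | 0 => ⊤
  | (k + 1) => Submodule.map₂ (br A L) ⊤ (D k)

lemma D_zero : D A L 0 = ⊤ := rfl

lemma D_succ (k : ℕ) : D A L (k + 1) = Submodule.map₂ (br A L) ⊤ (D A L k) := rfl

lemma lie_mem_D {k : ℕ} (x : L) {y : L} (hy : y ∈ D A L k) : ⁅x, y⁆ ∈ D A L (k + 1) := by
  rw [D_succ]
  exact Submodule.apply_mem_map₂ (br A L) (Submodule.mem_top (x := x)) hy

lemma D_eq_lcs (k : ℕ) :
    LieSubmodule.toSubmodule (LieModule.lowerCentralSeries A L L k) = D A L k := by
  induction k with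
  | zero => simp [D_zero]
  | succ k ih =>
    rw [LieModule.lowerCentralSeries_succ, LieSubmodule.lieIdeal_oper_eq_linear_span']
    apply le_antisymm
    · rw [Submodule.span_le]
      rintro m ⟨x, -, n, hn, rfl⟩
      have hn' : n ∈ D A L k := by rw [← ih]; exact hn
      exact lie_mem_D A L x hn'
    · rw [D_succ, Submodule.map₂_le]
      intro x _ n hn
      apply Submodule.subset_span
      refine ⟨x, LieSubmodule.mem_top x, n, ?_, rfl⟩
      rw [← ih] at hn
      exact hn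

lemma D_fg [Module.Finite A L] (k : ℕ) : (D A L k).FG := by
  induction k with
  | zero => exact Module.Finite.fg_top
  | succ k ih => exact Submodule.FG.map₂ _ Module.Finite.fg_top ih

lemma lie_mem_smul (I : Ideal A) (k : ℕ) (x : L) {y : L} (hy : y ∈ I • D A L k) :
    ⁅x, y⁆ ∈ I • D A L (k + 1) := by
  refine Submodule.smul_induction_on hy (fun a ha z hz => ?_) (fun y z hy hz => ?_)
  · rw [lie_smul]
    exact Submodule.smul_mem_smul ha (lie_mem_D A L x hz)
  · rw [lie_add]
    exact add_mem hy hz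

lemma D_add_le (I : Ideal A) (N : ℕ) (h : D A L N ≤ I • (⊤ : Submodule A L)) (M : ℕ) :
    D A L (N + M) ≤ I • D A L M := by
  induction M with
  | zero => simpa [D_zero] using h
  | succ M ih =>
    rw [← add_assoc, D_succ, Submodule.map₂_le]
    intro x _ y hy
    exact lie_mem_smul A L I M x (ih hy)

/-- The predicate on ideals: `L / I L` is nilpotent. -/
def Q (I : Ideal A) : Prop := ∃ N, D A L N ≤ I • (⊤ : Submodule A L)

lemma Q_mono {I J : Ideal A} (h : I ≤ J) : Q A L I → Q A L J :=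
  fun ⟨N, hN⟩ => ⟨N, hN.trans (Submodule.smul_mono_left h)⟩

lemma Q_mul {I J : Ideal A} : Q A L I → Q A L J → Q A L (I * J) := by
  rintro ⟨N, hN⟩ ⟨M, hM⟩
  refine ⟨N + M, (D_add_le A L I N hN M).trans ?_⟩
  rw [Submodule.mul_smul]
  exact Submodule.smul_mono le_rfl hM

lemma Q_oka : Ideal.IsOka (Q A L) where
  top := ⟨0, by simp⟩
  oka := by
    intro I a h1 h2
    refine Q_mono A L ?_ (Q_mul A L h1 h2)
    rw [Ideal.mul_le]
    intro r hr s hs
    rw [Ideal.mem_colon_span_singleton] at hs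
    obtain ⟨i, hi, t, ht, rfl⟩ := Submodule.mem_sup.mp hr
    obtain ⟨c, rfl⟩ := Ideal.mem_span_singleton'.mp ht
    rw [add_mul]
    refine add_mem (I.mul_mem_right _ hi) ?_
    rw [mul_assoc, mul_comm a s]
    exact I.mul_mem_left _ hs

lemma Q_chain [Module.Finite A L] (C : Set (Ideal A)) (hC : IsChain (· ≤ ·) C) (J : Ideal A)
    (hJ : J ∈ C) (h : Q A L (sSup C)) : ∃ I ∈ C, Q A L I := by
  classical
  obtain ⟨N, hN⟩ := h
  obtain ⟨T, hT⟩ := D_fg A L N
  have key : ∀ w ∈ (sSup C) • (⊤ : Submodule A L), ∃ I ∈ C, w ∈ I • (⊤ : Submodule A L) := by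
    intro w hw
    refine Submodule.smul_induction_on hw (fun r hr n _ => ?_) (fun x y hx hy => ?_)
    · obtain ⟨I, hI, hrI⟩ := (Submodule.mem_sSup_of_directed ⟨J, hJ⟩ hC.directedOn).mp hr
      exact ⟨I, hI, Submodule.smul_mem_smul hrI Submodule.mem_top⟩
    · obtain ⟨I₁, h₁, hx⟩ := hx
      obtain ⟨I₂, h₂, hy⟩ := hy
      rcases hC.total h₁ h₂ with h12 | h21
      · exact ⟨I₂, h₂, add_mem (Submodule.smul_mono_left h12 hx) hy⟩
      · exact ⟨I₁, h₁, add_mem hx (Submodule.smul_mono_left h21 hy)⟩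
  have fin : ∀ (T : Finset L), (∀ w ∈ T, w ∈ (sSup C) • (⊤ : Submodule A L)) →
      ∃ I ∈ C, ∀ w ∈ T, w ∈ I • (⊤ : Submodule A L) := by
    intro T
    induction T using Finset.induction_on with
    | empty => intro _; exact ⟨J, hJ, by simp⟩
    | insert a s ha ih =>
      intro h
      obtain ⟨I₁, h₁, hs⟩ := ih (fun w hw => h w (Finset.mem_insert_of_mem hw))
      obtain ⟨I₂, h₂, ha'⟩ := key a (h a (Finset.mem_insert_self _ _))
      rcases hC.total h₁ h₂ with h12 | h21
      · refine ⟨I₂, h₂, fun w hw => ?_⟩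
        rcases Finset.mem_insert.mp hw with rfl | hw
        · exact ha'
        · exact Submodule.smul_mono_left h12 (hs w hw)
      · refine ⟨I₁, h₁, fun w hw => ?_⟩
        rcases Finset.mem_insert.mp hw with rfl | hw
        · exact Submodule.smul_mono_left h21 ha'
        · exact hs w hw
  obtain ⟨I, hI, hTI⟩ := fin T (fun w hw => hN (hT ▸ Submodule.subset_span hw))
  refine ⟨I, hI, N, ?_⟩
  rw [← hT, Submodule.span_le]
  exact fun w hw => hTI w hw

/-- An element dying in the fibre over `P` is killed modulo `P L` by some `s ∉ P`. -/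
lemma fib (P : Ideal A) [P.IsPrime] (y : L) (h : (1 : P.ResidueField) ⊗ₜ[A] y = 0) :
    ∃ s, s ∉ P ∧ s • y ∈ P • (⊤ : Submodule A L) := by
  have h1 : (1 : P.ResidueField) ⊗ₜ[A ⧸ P] ((1 : A ⧸ P) ⊗ₜ[A] y) = 0 := by
    have := congrArg (TensorProduct.AlgebraTensorModule.cancelBaseChange A (A ⧸ P)
      P.ResidueField P.ResidueField L).symm h
    simpa using this
  have h2 := (IsLocalizedModule.eq_zero_iff (nonZeroDivisors (A ⧸ P))
      (TensorProduct.mk (A ⧸ P) P.ResidueField ((A ⧸ P) ⊗[A] L) 1)).mp h1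
  obtain ⟨⟨c, hc⟩, hc0⟩ := h2
  obtain ⟨s, rfl⟩ := Ideal.Quotient.mk_surjective c
  refine ⟨s, ?_, ?_⟩
  · intro hs
    have : (Ideal.Quotient.mk P s) = 0 := Ideal.Quotient.eq_zero_iff_mem.mpr hs
    exact (nonZeroDivisors.ne_zero hc) this
  · have h3 : (Ideal.Quotient.mk P s) ⊗ₜ[A] y = (0 : (A ⧸ P) ⊗[A] L) := by
      have : (Ideal.Quotient.mk P s) • ((1 : A ⧸ P) ⊗ₜ[A] y) = 0 := hc0
      rwa [TensorProduct.smul_tmul', smul_eq_mul, mul_one] at this
    have h4 := congrArg (TensorProduct.quotTensorEquivQuotSMul L P) h3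
    rw [TensorProduct.quotTensorEquivQuotSMul_mk_tmul, map_zero] at h4
    exact (Submodule.Quotient.mk_eq_zero _).mp h4

lemma one_tmul_mem_lcs (K : Type u) [Field K] [Algebra A K] (k : ℕ) :
    ∀ {y : L}, y ∈ D A L k →
      (1 : K) ⊗ₜ[A] y ∈ LieModule.lowerCentralSeries K (K ⊗[A] L) (K ⊗[A] L) k := by
  induction k with
  | zero => intro y _; simp
  | succ k ih =>
    intro y hy
    rw [D_succ] at hy
    have hle : Submodule.map₂ (br A L) ⊤ (D A L k) ≤
        Submodule.comap (TensorProduct.mk A K L 1)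
          ((LieModule.lowerCentralSeries K (K ⊗[A] L) (K ⊗[A] L) (k + 1)).toSubmodule.restrictScalars
            A) := by
      rw [Submodule.map₂_le]
      intro x _ z hz
      change (1 : K) ⊗ₜ[A] ⁅x, z⁆ ∈
        LieModule.lowerCentralSeries K (K ⊗[A] L) (K ⊗[A] L) (k + 1)
      rw [LieModule.lowerCentralSeries_succ]
      have e : (1 : K) ⊗ₜ[A] ⁅x, z⁆ = ⁅(1 : K) ⊗ₜ[A] x, (1 : K) ⊗ₜ[A] z⁆ := by
        rw [LieAlgebra.ExtendScalars.bracket_tmul, mul_one]
      rw [e]
      exact LieSubmodule.lie_mem_lie (LieSubmodule.mem_top _) (ih hz)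
    exact hle hy

lemma frac_repr (P : Ideal A) [P.IsPrime] (c : P.ResidueField) :
    ∃ a s : A, s ∉ P ∧ c * algebraMap A P.ResidueField s = algebraMap A P.ResidueField a := by
  obtain ⟨q, rfl⟩ := IsLocalRing.residue_surjective (R := Localization.AtPrime P) c
  obtain ⟨a, s, rfl⟩ := IsLocalization.exists_mk'_eq P.primeCompl q
  refine ⟨a, s, s.2, ?_⟩
  rw [IsScalarTower.algebraMap_apply A (Localization.AtPrime P) P.ResidueField,
    IsScalarTower.algebraMap_apply A (Localization.AtPrime P) P.ResidueField a,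
    IsLocalRing.ResidueField.algebraMap_eq, ← map_mul, IsLocalization.mk'_spec]

lemma pure_tensor (P : Ideal A) [P.IsPrime] (z : P.ResidueField ⊗[A] L) :
    ∃ (c : P.ResidueField) (x : L), z = c ⊗ₜ[A] x := by
  induction z using TensorProduct.induction_on with
  | zero => exact ⟨0, 0, by simp⟩
  | tmul c x => exact ⟨c, x, rfl⟩
  | add z₁ z₂ h₁ h₂ =>
    obtain ⟨c₁, x₁, rfl⟩ := h₁
    obtain ⟨c₂, x₂, rfl⟩ := h₂
    obtain ⟨a₁, s₁, hs₁, e₁⟩ := frac_repr A P c₁
    obtain ⟨a₂, s₂, hs₂, e₂⟩ := frac_repr A P c₂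
    have n₁ : algebraMap A P.ResidueField s₁ ≠ 0 := fun h0 =>
      hs₁ (Ideal.algebraMap_residueField_eq_zero.mp h0)
    have n₂ : algebraMap A P.ResidueField s₂ ≠ 0 := fun h0 =>
      hs₂ (Ideal.algebraMap_residueField_eq_zero.mp h0)
    set u : P.ResidueField :=
      (algebraMap A P.ResidueField s₁ * algebraMap A P.ResidueField s₂)⁻¹ with hu
    have hc₁ : c₁ = (a₁ * s₂) • u := by
      rw [Algebra.smul_def, map_mul, ← e₁, hu]
      field_simp
    have hc₂ : c₂ = (a₂ * s₁) • u := by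
      rw [Algebra.smul_def, map_mul, ← e₂, hu]
      field_simp
    refine ⟨u, (a₁ * s₂) • x₁ + (a₂ * s₁) • x₂, ?_⟩
    rw [TensorProduct.tmul_add, ← TensorProduct.smul_tmul, ← TensorProduct.smul_tmul, ← hc₁, ← hc₂]

theorem part1 [Module.Finite A L]
    (h : ∀ p : PrimeSpectrum A, LieRing.IsNilpotent (p.asIdeal.ResidueField ⊗[A] L)) :
    LieRing.IsNilpotent L := by
  classical
  by_contra hL
  have hbot : ¬ Q A L ⊥ := by
    rintro ⟨N, hN⟩
    apply hL
    refine (LieModule.isNilpotent_iff A L L).mpr ⟨N, ?_⟩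
    rw [← LieSubmodule.toSubmodule_eq_bot, D_eq_lcs]
    rw [Submodule.bot_smul] at hN
    exact le_bot_iff.mp hN
  obtain ⟨M, -, hM⟩ := zorn_le_nonempty₀ {I | ¬ Q A L I}
    (fun C hC₁ hC₂ J hJ => ⟨sSup C, fun H => by
      obtain ⟨I, hI, hQI⟩ := Q_chain A L C hC₂ J hJ H
      exact hC₁ hI hQI, fun _ => le_sSup⟩) ⊥ hbot
  have hM' : Maximal (¬ Q A L ·) M := hM
  haveI hMp : M.IsPrime := (Q_oka A L).isPrime_of_maximal_not hM'
  obtain ⟨N₀, hN₀⟩ := (LieModule.isNilpotent_iff M.ResidueField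
    (M.ResidueField ⊗[A] L) (M.ResidueField ⊗[A] L)).mp (h ⟨M, hMp⟩)
  have hzero : ∀ y ∈ D A L N₀, (1 : M.ResidueField) ⊗ₜ[A] y = 0 := by
    intro y hy
    have := one_tmul_mem_lcs A L M.ResidueField N₀ hy
    rw [hN₀] at this
    simpa using this
  obtain ⟨T, hT⟩ := D_fg A L N₀
  have hs : ∃ s, s ∉ M ∧ ∀ w ∈ T, s • w ∈ M • (⊤ : Submodule A L) := by
    have : ∀ (T' : Finset L), (∀ w ∈ T', w ∈ D A L N₀) →
        ∃ s, s ∉ M ∧ ∀ w ∈ T', s • w ∈ M • (⊤ : Submodule A L) := by
      intro T'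
      induction T' using Finset.induction_on with
      | empty => intro _; exact ⟨1, (Ideal.ne_top_iff_one M).mp hMp.ne_top, by simp⟩
      | insert a S ha ih =>
        intro hmem
        obtain ⟨s₁, hs₁, h₁⟩ := ih (fun w hw => hmem w (Finset.mem_insert_of_mem hw))
        obtain ⟨s₂, hs₂, h₂⟩ := fib A L M a (hzero a (hmem a (Finset.mem_insert_self _ _)))
        refine ⟨s₁ * s₂, fun hmul => (hMp.mem_or_mem hmul).elim hs₁ hs₂, fun w hw => ?_⟩
        rcases Finset.mem_insert.mp hw with rfl | hw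
        · rw [mul_smul]; exact Submodule.smul_mem _ _ h₂
        · rw [mul_comm, mul_smul]; exact Submodule.smul_mem _ _ (h₁ w hw)
    exact this T (fun w hw => hT ▸ Submodule.subset_span hw)
  obtain ⟨s, hsM, hsT⟩ := hs
  have hsD : ∀ y ∈ D A L N₀, s • y ∈ M • (⊤ : Submodule A L) := by
    intro y hy
    rw [← hT] at hy
    refine Submodule.span_induction (fun w hw => hsT w hw) (by simp)
      (fun a b _ _ ha hb => by rw [smul_add]; exact add_mem ha hb)
      (fun c a _ ha => by rw [smul_comm]; exact Submodule.smul_mem _ _ ha) hy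
  have hgt : M < M ⊔ Ideal.span {s} := Submodule.lt_sup_iff_notMem.2 hsM
  obtain ⟨N₁, hN₁⟩ := of_not_not (hM'.not_prop_of_gt hgt)
  apply hM'.prop
  refine ⟨N₁ + N₀, (D_add_le A L _ N₁ hN₁ N₀).trans ?_⟩
  rw [Submodule.sup_smul]
  refine sup_le (Submodule.smul_mono le_rfl le_top) ?_
  rw [Submodule.smul_le]
  intro r hr n hn
  obtain ⟨c, rfl⟩ := Ideal.mem_span_singleton'.mp hr
  rw [mul_smul]
  exact Submodule.smul_mem _ _ (hsD n hn)

theorem part2 [Module.Finite A L] (h : ∀ x : L, IsNilpotent (LieAlgebra.ad A L x)) :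
    LieRing.IsNilpotent L := by
  refine part1 A L (fun p => ?_)
  have : IsNoetherian p.asIdeal.ResidueField (p.asIdeal.ResidueField ⊗[A] L) := inferInstance
  refine (LieAlgebra.isNilpotent_iff_forall (R := p.asIdeal.ResidueField)).mpr (fun z => ?_)
  obtain ⟨c, x, rfl⟩ := pure_tensor A L p.asIdeal z
  have e : LieAlgebra.ad p.asIdeal.ResidueField (p.asIdeal.ResidueField ⊗[A] L) (c ⊗ₜ[A] x)
      = c • (LieAlgebra.ad A L x).baseChange p.asIdeal.ResidueField := by
    refine TensorProduct.AlgebraTensorModule.ext (fun d z' => ?_)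
    simp [LieAlgebra.ExtendScalars.bracket_tmul, TensorProduct.smul_tmul']
  rw [e]
  apply IsNilpotent.smul
  obtain ⟨n, hn⟩ := h x
  exact ⟨n, by rw [← LinearMap.baseChange_pow, hn, LinearMap.baseChange_zero]⟩

end Aux

/-- (i) ⇒ (iii): let d be a Lie algebra over a commutative ring A which is finitely presented as an
A-module. If for every prime p of A the fibre Lie algebra κ(p) ⊗_A d is nilpotent, then d is
nilpotent (its lower central series vanishes, i.e. there is N with ad(x_1) ⋯ ad(x_N) = 0 for all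
x_i); and the same conclusion holds if ad(x) is nilpotent for every x in d. -/
theorem result {A : Type u} [CommRing A] {L : Type u} [LieRing L] [LieAlgebra A L]
    [Module.FinitePresentation A L] :
    ((∀ p : PrimeSpectrum A, LieRing.IsNilpotent (p.asIdeal.ResidueField ⊗[A] L)) → LieRing.IsNilpotent L) ∧
    ((∀ x : L, IsNilpotent (LieAlgebra.ad A L x)) → LieRing.IsNilpotent L) := by
  have : Module.Finite A L := inferInstance
  exact ⟨part1 A L, part2 A L⟩

end Groth.Agent.S2964
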