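import Groth.Statements.S2965
import Mathlib

set_option autoImplicit false
universe u
open SGA3t2b

namespace Groth.Agent.S2965

section

open Polynomial

theorem comm_apply {A : Type u} [CommRing A] {M : Type u} [AddCommGroup M] [Module A M]
    (u : M →ₗ[A] M) (p q : A[X]) (x : M) :
    aeval u p (aeval u q x) = aeval u q (aeval u p x) := by
  rw [← Module.End.mul_apply, ← Module.End.mul_apply, ← map_mul, ← map_mul, mul_comm]

theorem main {A : Type u} [CommRing A] {M : Type u} [AddCommGroup M] [Module A M]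
    [Module.Free A M] [Module.Finite A M] (u : M →ₗ[A] M) (r : ℕ) (Q : A[X]) (hQ : IsUnit (Q.coeff 0))
    (h : u.charpoly = X ^ r * Q) :
    ∃ M' M'' : Submodule A M, IsCompl M' M'' ∧ (∀ x ∈ M', u x ∈ M') ∧ (∀ x ∈ M'', u x ∈ M'') ∧
      (∃ n : ℕ, ∀ x ∈ M', (u ^ n) x = 0) ∧ Set.BijOn u M'' M'' := by
  obtain ⟨c, hc⟩ := hQ.exists_left_inv
  obtain ⟨q0, hq0⟩ : ∃ q0, q0 = Q.coeff 0 := ⟨_, rfl⟩
  rw [← hq0] at hc
  obtain ⟨Q1, hQ1⟩ : ∃ Q1 : A[X], Q = C q0 + X * Q1 := by
    refine ⟨Q.divX, ?_⟩
    rw [add_comm, hq0]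
    exact (Polynomial.X_mul_divX_add Q).symm
  have hcc : C c * C q0 = (1 : A[X]) := by rw [← C_mul, hc, C_1]
  have hident : X * (- C c * Q1) = 1 - C c * Q := by
    rw [hQ1]
    calc X * (- C c * Q1) = C c * C q0 - C c * (C q0 + X * Q1) := by ring
      _ = 1 - C c * (C q0 + X * Q1) := by rw [hcc]
  have hcopX : IsCoprime (X : A[X]) Q := by
    refine ⟨- C c * Q1, C c, ?_⟩
    calc - C c * Q1 * X + C c * Q = X * (- C c * Q1) + C c * Q := by ring
      _ = 1 := by rw [hident]; ring
  have hcop : IsCoprime ((X : A[X]) ^ r) Q := hcopX.pow_left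
  have hux : ∀ (p : A[X]) (x : M), aeval u p (u x) = u (aeval u p x) := by
    intro p x
    have := comm_apply u p X x
    rw [aeval_X] at this
    exact this
  refine ⟨LinearMap.ker (aeval u ((X : A[X]) ^ r)), LinearMap.ker (aeval u Q), ?_, ?_, ?_, ?_, ?_⟩
  · constructor
    · exact Polynomial.disjoint_ker_aeval_of_isCoprime u hcop
    · rw [codisjoint_iff, Polynomial.sup_ker_aeval_eq_ker_aeval_mul_of_coprime u hcop, ← h,
        LinearMap.aeval_self_charpoly, LinearMap.ker_zero]
  · intro x hx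
    rw [LinearMap.mem_ker] at hx ⊢
    rw [hux, hx, map_zero]
  · intro x hx
    rw [LinearMap.mem_ker] at hx ⊢
    rw [hux, hx, map_zero]
  · refine ⟨r, ?_⟩
    intro x hx
    rw [LinearMap.mem_ker] at hx
    rw [map_pow, aeval_X] at hx
    exact hx
  · -- inverse
    have huv : ∀ x ∈ LinearMap.ker (aeval u Q), u (aeval u (- C c * Q1) x) = x := by
      intro x hx
      rw [LinearMap.mem_ker] at hx
      have h1 : aeval u (X * (- C c * Q1)) x = aeval u (1 - C c * Q) x := by rw [hident]
      rw [map_mul, aeval_X, Module.End.mul_apply] at h1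
      rw [h1, map_sub, map_one, map_mul, LinearMap.sub_apply, Module.End.one_apply,
        Module.End.mul_apply, hx, map_zero, sub_zero]
    have hvu : ∀ x ∈ LinearMap.ker (aeval u Q), aeval u (- C c * Q1) (u x) = x := by
      intro x hx
      rw [hux]
      exact huv x hx
    refine ⟨?_, ?_, ?_⟩
    · intro x hx
      rw [SetLike.mem_coe, LinearMap.mem_ker] at hx ⊢
      rw [hux, hx, map_zero]
    · intro x hx y hy hxy
      rw [← hvu x hx, ← hvu y hy, hxy]
    · intro y hy
      refine ⟨aeval u (- C c * Q1) y, ?_, huv y hy⟩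
      rw [SetLike.mem_coe, LinearMap.mem_ker] at hy ⊢
      rw [comm_apply, hy, map_zero]


end


open Polynomial in
/-- Implication (iv) ⇒ (i) (global form, finite free module): let u be an endomorphism of a finite free
module M over a commutative ring A whose characteristic polynomial is X^r · Q with Q(0) invertible.
Then M is the direct sum of two u-stable submodules M', M'' such that u is nilpotent on M' and
bijective on M''. -/
theorem result {A : Type u} [CommRing A] {M : Type u} [AddCommGroup M] [Module A M]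
    [Module.Free A M] [Module.Finite A M] (u : M →ₗ[A] M) (r : ℕ) (Q : A[X]) (hQ : IsUnit (Q.coeff 0))
    (h : u.charpoly = X ^ r * Q) :
    ∃ M' M'' : Submodule A M, IsCompl M' M'' ∧ (∀ x ∈ M', u x ∈ M') ∧ (∀ x ∈ M'', u x ∈ M'') ∧
      (∃ n : ℕ, ∀ x ∈ M', (u ^ n) x = 0) ∧ Set.BijOn u M'' M'' := by
  classical
  exact main u r Q hQ h

end Groth.Agent.S2965
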