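import Groth.Statements.S2967

set_option autoImplicit false
universe u
open SGA3t2b

namespace Groth.Agent.S2967

/-- A commutative p-Lie algebra over a field k of characteristic p is recorded as a k-vector space g
together with its p-th power map φ, which is additive and Frobenius-semilinear. Let g be
finite-dimensional and non-zero, and assume every element of g is killed by some iterate of φ (g is
unipotent). Then the k-subspace of g spanned by the image φ(g) is a proper subspace. -/
theorem result {k : Type u} [Field k] (p : ℕ) [Fact p.Prime] [CharP k p]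
    {V : Type u} [AddCommGroup V] [Module k V] [FiniteDimensional k V] [Nontrivial V]
    (φ : V →ₛₗ[frobenius k p] V) (hφ : ∀ x : V, ∃ n : ℕ, φ^[n] x = 0) :
    Submodule.span k (Set.range φ) ≠ ⊤ := by
  intro htop
  -- span of φ^n(V) is everything
  have hspan : ∀ n : ℕ, Submodule.span k (Set.range (⇑φ)^[n]) = ⊤ := by
    intro n
    induction n with
    | zero => simp
    | succ n ih =>
      rw [eq_top_iff, ← htop, Submodule.span_le]
      rintro _ ⟨x, rfl⟩
      have hx : x ∈ Submodule.span k (Set.range (⇑φ)^[n]) := by rw [ih]; trivial
      induction hx using Submodule.span_induction with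
      | mem y hy =>
        obtain ⟨z, rfl⟩ := hy
        exact Submodule.subset_span ⟨z, Function.iterate_succ_apply' _ _ _⟩
      | zero => rw [map_zero]; exact Submodule.zero_mem _
      | add y z _ _ hy hz => rw [map_add]; exact Submodule.add_mem _ hy hz
      | smul a y _ hy => rw [map_smulₛₗ]; exact Submodule.smul_mem _ _ hy
  -- a uniform exponent killing V
  let b := Module.finBasis k V
  choose e he using fun i => hφ (b i)
  let N := Finset.univ.sup e
  have hiter : ∀ (n : ℕ) (a : k) (x : V), (⇑φ)^[n] (a • x) = a ^ (p ^ n) • (⇑φ)^[n] x := by
    intro n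
    induction n with
    | zero => intro a x; simp
    | succ n ih =>
      intro a x
      rw [Function.iterate_succ_apply', ih, map_smulₛₗ, Function.iterate_succ_apply',
        frobenius_def, ← pow_mul, pow_succ]
  have hadd : ∀ (n : ℕ) (x y : V), (⇑φ)^[n] (x + y) = (⇑φ)^[n] x + (⇑φ)^[n] y := by
    intro n
    induction n with
    | zero => intro x y; rfl
    | succ n ih => intro x y; rw [Function.iterate_succ_apply', ih, map_add,
        Function.iterate_succ_apply', Function.iterate_succ_apply']
  have hzero : ∀ (n : ℕ), (⇑φ)^[n] (0 : V) = 0 := by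
    intro n
    induction n with
    | zero => rfl
    | succ n ih => rw [Function.iterate_succ_apply', ih, map_zero]
  have hkillb : ∀ i, (⇑φ)^[N] (b i) = 0 := by
    intro i
    have hle : e i ≤ N := Finset.le_sup (f := e) (Finset.mem_univ i)
    obtain ⟨d, hd⟩ := Nat.exists_eq_add_of_le hle
    rw [hd, Nat.add_comm, Function.iterate_add_apply, he, hzero]
  have hkill : ∀ x : V, (⇑φ)^[N] x = 0 := by
    intro x
    have hx : x ∈ Submodule.span k (Set.range b) := by rw [b.span_eq]; trivial
    induction hx using Submodule.span_induction with
    | mem y hy => obtain ⟨i, rfl⟩ := hy; exact hkillb i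
    | zero => exact hzero N
    | add y z _ _ hy hz => rw [hadd, hy, hz, add_zero]
    | smul a y _ hy => rw [hiter, hy, smul_zero]
  have h0 : Set.range (⇑φ)^[N] = {0} := by
    ext y
    constructor
    · rintro ⟨x, rfl⟩; exact hkill x
    · rintro rfl; exact ⟨0, hzero N⟩
  have h1 := hspan N
  rw [h0, Submodule.span_singleton_eq_bot.2 rfl] at h1
  exact bot_ne_top h1

end Groth.Agent.S2967
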