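import Groth.Statements.S2978
import Mathlib

set_option autoImplicit false
universe u
open SGA3b

namespace Groth.Agent.S2978

theorem fin_supp (A : Type*) [CommRing A] [IsNoetherianRing A] (M : Type*)
    (a : M × M → A) (hdiag : ∀ m m', m ≠ m' → a (m, m') = 0)
    (ι : Type*) [Fintype ι] (b c : ι → M → A) (hdec : ∀ m m', a (m, m') = ∑ i, b i m * c i m') :
    Set.Finite {p : M × M | a p ≠ 0} := by
  classical
  rcases isEmpty_or_nonempty M with hM | hM
  · refine Set.finite_empty.subset ?_
    rintro ⟨m, m'⟩ _
    exact (hM.false m).elim
  let B : M → (ι → A) := fun m i => b i m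
  have hfg : (Submodule.span A (Set.range B)).FG := IsNoetherian.noetherian _
  obtain ⟨S, hS, hspan⟩ := (Submodule.fg_span_iff_fg_span_finset_subset _).1 hfg
  -- choose preimages
  have hch : ∀ v ∈ S, ∃ m, B m = v := fun v hv => hS hv
  choose! pre hpre using hch
  let T : Finset M := S.image pre
  refine (T.image (fun m => (m, m))).finite_toSet.subset ?_
  rintro ⟨m, m'⟩ hp
  simp only [Set.mem_ofPred_eq] at hp
  by_cases hmm : m = m'
  swap
  · exact absurd (hdiag m m' hmm) hp
  subst hmm
  by_contra hnot
  apply hp
  have hmT : m ∉ T := by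
    intro h
    apply hnot
    simp only [Finset.coe_image, Set.mem_image, Finset.mem_coe]
    exact ⟨m, h, rfl⟩
  let φ : (ι → A) →ₗ[A] A :=
    { toFun := fun v => ∑ i, v i * c i m
      map_add' := fun v w => by simp [add_mul, Finset.sum_add_distrib]
      map_smul' := fun r v => by simp [Finset.mul_sum, mul_assoc] }
  have hφ : ∀ v ∈ Submodule.span A (S : Set (ι → A)), φ v = 0 := by
    intro v hv
    induction hv using Submodule.span_induction with
    | mem x hx =>
      have h1 : B (pre x) = x := hpre x hx
      have h2 : pre x ≠ m := by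
        rintro rfl
        exact hmT (Finset.mem_image_of_mem pre hx)
      have := hdiag (pre x) m h2
      rw [hdec] at this
      rw [← h1]
      exact this
    | zero => simp
    | add x y _ _ hx hy => rw [map_add, hx, hy, add_zero]
    | smul r x _ hx => rw [map_smul, hx, smul_zero]
  have hm : B m ∈ Submodule.span A (S : Set (ι → A)) := by
    rw [← hspan]
    exact Submodule.subset_span ⟨m, rfl⟩
  have := hφ _ hm
  rw [hdec]
  exact this

/-- Let A be a Noetherian ring, M a set and a : M × M → A a family vanishing off the diagonal which is a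
finite sum of decomposable families: a(m, m') = Σ_i b_i(m) c_i(m') for finitely many b_i, c_i : M →
A. Then a has finite support. -/
theorem result (A : Type u) [CommRing A] [IsNoetherianRing A] (M : Type u)
    (a : M × M → A) (hdiag : ∀ m m', m ≠ m' → a (m, m') = 0)
    (ι : Type u) [Fintype ι] (b c : ι → M → A) (hdec : ∀ m m', a (m, m') = ∑ i, b i m * c i m') :
    Set.Finite {p : M × M | a p ≠ 0} := by
  exact fin_supp A M a hdiag ι b c hdec

end Groth.Agent.S2978
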