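import Groth.Statements.S3032
import Mathlib

set_option autoImplicit false
universe u
open CategoryTheory MonoidalCategory CartesianMonoidalCategory MonObj GrpObj AlgebraicGeometry TensorProduct
open SGA3

namespace Groth.Agent.S3032

section
open CategoryTheory MonoidalCategory CartesianMonoidalCategory MonObj GrpObj AlgebraicGeometry TensorProduct

theorem main (R : Type u) [CommRing R] [IsNoetherianRing R] (C : Type u) [AddCommGroup C]
    [Module R C] [Coalgebra R C] [Module.Flat R C] (V : Type u) [AddCommGroup V] [Module R V] [HopfRep.Comod R C V]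
    (M : Submodule R V) (hM : M.FG) :
    ∃ W : Submodule R V, HopfRep.IsSubcomod (k := R) (A := C) W ∧ M ≤ W ∧ W.FG := by
  classical
  obtain ⟨ρ, hρ⟩ : ∃ ρ : V →ₗ[R] V ⊗[R] C, ρ = HopfRep.Comod.coact (k := R) (A := C) := ⟨_, rfl⟩
  obtain ⟨S, hS⟩ := hM
  -- choose N
  choose F hF using fun m : V => TensorProduct.exists_finset (ρ m)
  obtain ⟨N, hN⟩ : ∃ N : Submodule R V,
      N = Submodule.span R ((S.biUnion fun m => (F m).image Prod.fst : Finset V) : Set V) := ⟨_, rfl⟩
  have hNfg : N.FG := ⟨_, hN.symm⟩
  obtain ⟨Nbar, hNbar⟩ : ∃ Nbar : Submodule R (V ⊗[R] C),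
      Nbar = LinearMap.range (N.subtype.rTensor C) := ⟨_, rfl⟩
  have hSN : ∀ m ∈ S, ρ m ∈ Nbar := by
    intro m hm
    rw [hF m]
    refine Submodule.sum_mem _ (fun i hi => ?_)
    have hi1 : i.1 ∈ N := by
      rw [hN]
      refine Submodule.subset_span ?_
      simp only [Finset.coe_biUnion, Finset.coe_image, Set.mem_iUnion, Set.mem_image]
      exact ⟨m, hm, i, hi, rfl⟩
    rw [hNbar]
    exact ⟨(⟨i.1, hi1⟩ : N) ⊗ₜ[R] i.2, rfl⟩
  obtain ⟨W, hW⟩ : ∃ W : Submodule R V, W = Nbar.comap ρ := ⟨_, rfl⟩
  have hMW : M ≤ W := by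
    rw [← hS, Submodule.span_le]
    intro m hm
    rw [hW]
    exact hSN m hm
  have hWN : W ≤ N := by
    intro v hv
    rw [hW, Submodule.mem_comap, hNbar] at hv
    obtain ⟨y, hy⟩ := hv
    have h1 : v = TensorProduct.rid R V ((Coalgebra.counit (R := R) (A := C)).lTensor V (ρ v)) := by
      have h := LinearMap.congr_fun (HopfRep.Comod.counit_comp (k := R) (A := C) (V := V)) v
      simp only [LinearMap.comp_apply] at h
      rw [hρ, h]
      simp
    rw [h1, ← hy]
    clear hy h1
    induction y using TensorProduct.induction_on with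
    | zero => simp
    | tmul n c =>
      simp only [LinearMap.rTensor_tmul, Submodule.subtype_apply, LinearMap.lTensor_tmul,
        TensorProduct.rid_tmul]
      exact N.smul_mem _ n.2
    | add a b ha hb => simp only [map_add]; exact N.add_mem ha hb
  have hWfg : W.FG := by
    have hnoeth : IsNoetherian R N := isNoetherian_of_fg_of_noetherian N hNfg
    have h1 : (W.comap N.subtype).FG := IsNoetherian.noetherian _
    have h2 := h1.map N.subtype
    rw [Submodule.map_comap_subtype, inf_eq_right.2 hWN] at h2
    exact h2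
  refine ⟨W, ?_, hMW, hWfg⟩
  -- subcomodule
  let Q := (V ⊗[R] C) ⧸ Nbar
  let g : V →ₗ[R] Q := Nbar.mkQ ∘ₗ ρ
  have hker : LinearMap.ker g = W := by
    rw [hW, LinearMap.ker_comp, Submodule.ker_mkQ]
  have hex : Function.Exact W.subtype g := by
    rw [← hker]
    exact LinearMap.exact_subtype_ker_map g
  have hex2 := Module.Flat.rTensor_exact C hex
  intro v hv
  rw [← hρ]
  apply (hex2 (ρ v)).1
  -- show g.rTensor C (ρ v) = 0
  have hv' : ρ v ∈ Nbar := by rw [hW] at hv; exact hv
  rw [hNbar] at hv'
  obtain ⟨y, hy⟩ := hv'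
  have hg : g.rTensor C = (Nbar.mkQ.rTensor C) ∘ₗ (ρ.rTensor C) := LinearMap.rTensor_comp _ _ _
  rw [hg, LinearMap.comp_apply]
  have hco := LinearMap.congr_fun (HopfRep.Comod.coassoc (k := R) (A := C) (V := V)) v
  simp only [LinearMap.comp_apply, LinearEquiv.coe_coe] at hco
  rw [← hρ] at hco
  have hnat : ∀ z : (N ⊗[R] C) ⊗[R] C, TensorProduct.assoc R V C C
      (((N.subtype.rTensor C).rTensor C) z)
      = (N.subtype.rTensor (C ⊗[R] C)) (TensorProduct.assoc R N C C z) := by
    intro z
    induction z using TensorProduct.induction_on with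
    | zero => simp
    | tmul a c' =>
      induction a using TensorProduct.induction_on with
      | zero => simp
      | tmul n c => simp
      | add a b ha hb => simp only [TensorProduct.add_tmul, map_add, ha, hb]
    | add a b ha hb => simp only [map_add, ha, hb]
  have h3 : (ρ.rTensor C) (ρ v) = ((N.subtype.rTensor C).rTensor C)
      ((TensorProduct.assoc R N C C).symm ((Coalgebra.comul (R := R) (A := C)).lTensor N y)) := by
    apply (TensorProduct.assoc R V C C).injective
    rw [hco, hnat, LinearEquiv.apply_symm_apply, ← hy, ← LinearMap.comp_apply,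
      ← LinearMap.comp_apply, LinearMap.lTensor_comp_rTensor, LinearMap.rTensor_comp_lTensor]
  rw [h3, ← LinearMap.comp_apply, ← LinearMap.rTensor_comp]
  have h0 : Nbar.mkQ ∘ₗ N.subtype.rTensor C = 0 := by
    ext n c
    simp only [TensorProduct.AlgebraTensorModule.curry_apply, TensorProduct.curry_apply,
      LinearMap.coe_restrictScalars, LinearMap.comp_apply, LinearMap.zero_apply]
    rw [Submodule.mkQ_apply, Submodule.Quotient.mk_eq_zero, hNbar]
    exact ⟨_, rfl⟩
  rw [h0, LinearMap.rTensor_zero, LinearMap.zero_apply]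


end


/-- Let R be a Noetherian commutative ring, C an R-coalgebra which is flat as an R-module, V a
C-comodule and M a finitely generated R-submodule of V. Then M is contained in a subcomodule of V
which is finitely generated over R. -/
theorem result (R : Type u) [CommRing R] [IsNoetherianRing R] (C : Type u) [AddCommGroup C]
    [Module R C] [Coalgebra R C] [Module.Flat R C] (V : Type u) [AddCommGroup V] [Module R V] [HopfRep.Comod R C V]
    (M : Submodule R V) (hM : M.FG) :
    ∃ W : Submodule R V, HopfRep.IsSubcomod (k := R) (A := C) W ∧ M ≤ W ∧ W.FG := by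
  classical
  exact main R C V M hM

end Groth.Agent.S3032
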