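import Groth.Statements.S3043
import Mathlib

set_option autoImplicit false
universe u
open CategoryTheory MonoidalCategory CartesianMonoidalCategory MonObj GrpObj AlgebraicGeometry TensorProduct
open SGA3

namespace Groth.Agent.S3043

/-- Let π : X → S be a morphism of schemes admitting a section ε (ε followed by π is the identity). If π
is injective on underlying points, then π is an integral morphism. -/
theorem result (X S : Scheme.{u}) (π : X ⟶ S) (ε : S ⟶ X) (hε : ε ≫ π = 𝟙 S)
    (hinj : Function.Injective π.base) : IsIntegralHom π := by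
  have h1 : ∀ s : S, π (ε s) = s := fun s => by
    rw [← Scheme.Hom.comp_apply, hε]; rfl
  have h2 : ∀ x : X, ε (π x) = x := fun x => hinj (h1 _)
  let e : X ≃ₜ S :=
    { toFun := π
      invFun := ε
      left_inv := h2
      right_inv := h1
      continuous_toFun := π.continuous
      continuous_invFun := ε.continuous }
  have haff : IsAffineHom π :=
    isAffineHom_of_isInducing π e.isInducing (by
      have : Set.range π = Set.univ := e.surjective.range_eq
      rw [this]; exact isClosed_univ)
  have hiso : IsIso (ε ≫ π) := by rw [hε]; infer_instance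
  refine { toIsAffineHom := haff, isIntegral_app := ?_ }
  intro U hU b
  have hsurj : Function.Surjective ((ε ≫ π).app U).hom :=
    (ConcreteCategory.bijective_of_isIso ((ε ≫ π).app U)).2
  obtain ⟨a, ha⟩ := hsurj (ε.app (π ⁻¹ᵁ U) b)
  have ha' : ε.app (π ⁻¹ᵁ U) (π.app U a) = ε.app (π ⁻¹ᵁ U) b := by
    rw [← ha, Scheme.Hom.comp_app]; rfl
  set n := b - π.app U a with hn
  have hrn : ε.app (π ⁻¹ᵁ U) n = 0 := by
    rw [hn, map_sub, ha', sub_self]
  have hbo : X.basicOpen n = ⊥ := by
    have h3 : ε ⁻¹ᵁ (X.basicOpen n) = ⊥ := by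
      rw [Scheme.preimage_basicOpen, hrn, Scheme.basicOpen_zero]
    ext x
    simp only [TopologicalSpace.Opens.coe_bot, Set.mem_empty_iff_false, iff_false]
    intro hx
    have : π x ∈ ε ⁻¹ᵁ (X.basicOpen n) := by
      change ε (π x) ∈ X.basicOpen n
      rw [h2]; exact hx
    rw [h3] at this
    exact this
  have hnil : IsNilpotent n :=
    (Scheme.isNilpotent_iff_basicOpen_eq_bot_of_isCompact (hU.preimage π).isCompact n).2 hbo
  have hb : b = n + π.app U a := by rw [hn]; ring
  rw [hb]
  refine RingHom.IsIntegralElem.add _ ?_ (RingHom.isIntegralElem_map _)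
  obtain ⟨k, hk⟩ := hnil
  exact ⟨Polynomial.X ^ k, Polynomial.monic_X_pow k, by simp [Polynomial.eval₂_pow, hk]⟩

end Groth.Agent.S3043
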