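import Groth.Statements.S3049
import Mathlib
import Groth.Statements.S3049
import Groth.Agent.Lib.Helper9.FE.ShDesc3
import Groth.Agent.Lib.Helper9.FE.SubmConn4
-- import your own Groth.Agent.* helpers here

set_option autoImplicit false
open CategoryTheory CategoryTheory.Limits AlgebraicGeometry Opposite
universe u
open EtDesc

namespace Groth.Agent.S3049

open CategoryTheory CategoryTheory.Limits AlgebraicGeometry Opposite
open EtDesc
namespace Aux
set_option linter.style.haveILetI false
set_option backward.isDefEq.respectTransparency false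
open H9FE.LimTower H9FE.ShDesc

theorem hasZeta_pb {X' X : Scheme.{u}} (f : X' ⟶ X) :
    HasZeta (pullback.fst f f) (pullback.snd f f) f (pullback.fst f f ≫ f) rfl
      pullback.condition.symm := by
  intro U b₁ b₂ hb
  obtain ⟨ζ, h1, h2⟩ := exists_zeta f U b₁ b₂ hb
  exact ⟨ζ, h1, h2⟩

theorem main {X' X : Scheme.{u}} (f : X' ⟶ X)
    (hf : EtDesc.IsUnivSubmersive f) (F : EtDesc.Sh X) :
    Function.Injective (EtDesc.secPull f F) ∧
    Set.range (EtDesc.secPull f F) =
      {s' | (EtDesc.canIso f F).hom.hom.app (op (EtCoh.top (EtDesc.X2 f)))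
          (EtDesc.secPull (pullback.fst f f) ((EtDesc.pullSh f).obj F) s') =
        EtDesc.secPull (pullback.snd f f) ((EtDesc.pullSh f).obj F) s'} :=
  main_gen (pullback.fst f f) (pullback.snd f f) f (pullback.fst f f ≫ f) rfl
    pullback.condition.symm F
    (fun U => H9FE.SubmConn.quot_fst f (fun S' g => (hf S' g).2) U)
    (hasZeta_pb f) (EtDesc.canIso f F) rfl (EtCoh.top (EtDesc.X2 f)) rfl
    (EtDesc.secPull (pullback.fst f f) ((EtDesc.pullSh f).obj F))
    (EtDesc.secPull (pullback.snd f f) ((EtDesc.pullSh f).obj F))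
    (fun _ => HEq.rfl) (fun _ => HEq.rfl)

end Aux

/-- Let f : X' -> X be universally submersive and F a sheaf of sets on X_et, with inverse images F' on
X' and F'' on X'' = X' x_X X'. Then Gamma(X, F) -> Gamma(X', F') is injective with image the
sections whose two pullbacks to X'' agree (under the canonical identification pr_1^* F' = pr_2^*
F'); i.e. the sequence Gamma(X, F) -> Gamma(X', F') => Gamma(X'', F'') is exact. -/
theorem result {X' X : Scheme.{u}} (f : X' ⟶ X)
    (hf : EtDesc.IsUnivSubmersive f) (F : EtDesc.Sh X) :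
    Function.Injective (EtDesc.secPull f F) ∧
    Set.range (EtDesc.secPull f F) =
      {s' | (EtDesc.canIso f F).hom.hom.app (op (EtCoh.top (EtDesc.X2 f)))
          (EtDesc.secPull (pullback.fst f f) ((EtDesc.pullSh f).obj F) s') =
        EtDesc.secPull (pullback.snd f f) ((EtDesc.pullSh f).obj F) s'} := by
  exact Aux.main f hf F

end Groth.Agent.S3049
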