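import Groth.Statements.S3048
import Mathlib
import Groth.Statements.S3048
import Groth.Agent.Lib.Helper9.FE.ShDescU2
import Groth.Agent.Lib.Helper9.FE.SubmConn4
import Groth.Agent.S3049
-- import your own Groth.Agent.* helpers here

set_option autoImplicit false
open CategoryTheory CategoryTheory.Limits AlgebraicGeometry Opposite
universe u
open EtDesc

namespace Groth.Agent.S3048

open CategoryTheory CategoryTheory.Limits AlgebraicGeometry Opposite
open EtDesc
namespace Aux
set_option linter.style.haveILetI false
set_option backward.isDefEq.respectTransparency false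
open H9FE.LimTower H9FE.ShDesc H9FE.ShDescU

theorem main {X' X : Scheme.{u}} (f : X' ⟶ X)
    (hf : EtDesc.IsUnivSubmersive f) (F G : EtDesc.Sh X) (a : (EtDesc.pullSh f).obj F ⟶ (EtDesc.pullSh f).obj G)
    (ha : (EtDesc.canIso f F).hom ≫ (EtDesc.pullSh (pullback.snd f f)).map a =
      (EtDesc.pullSh (pullback.fst f f)).map a ≫ (EtDesc.canIso f G).hom) :
    ∃! b : F ⟶ G, (EtDesc.pullSh f).map b = a :=
  ff_gen (pullback.fst f f) (pullback.snd f f) f (pullback.fst f f ≫ f) rfl
    pullback.condition.symm F G
    (fun U => H9FE.SubmConn.quot_fst f (fun S' g => (hf S' g).2) U)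
    (Groth.Agent.S3049.Aux.hasZeta_pb f) a (EtDesc.canIso f F) rfl (EtDesc.canIso f G) rfl ha

end Aux

/-- Let f : X' -> X be universally submersive. For sheaves of sets F, G on X_et, every morphism a : f^*
F -> f^* G compatible with the canonical descent data (pr_1^* a and pr_2^* a agree under the
canonical identifications on X' x_X X') is f^* b for exactly one b : F -> G; that is, f^* is fully
faithful into sheaves with descent data. -/
theorem result {X' X : Scheme.{u}} (f : X' ⟶ X)
    (hf : EtDesc.IsUnivSubmersive f) (F G : EtDesc.Sh X) (a : (EtDesc.pullSh f).obj F ⟶ (EtDesc.pullSh f).obj G)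
    (ha : (EtDesc.canIso f F).hom ≫ (EtDesc.pullSh (pullback.snd f f)).map a =
      (EtDesc.pullSh (pullback.fst f f)).map a ≫ (EtDesc.canIso f G).hom) :
    ∃! b : F ⟶ G, (EtDesc.pullSh f).map b = a := by
  exact Aux.main f hf F G a ha

end Groth.Agent.S3048
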