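import Groth.Statements.S3055
import Mathlib
import Groth.Prelude.Def_SGA4b
import Groth.Prelude.Def_EtCore
import Groth.Agent.S14453
import Groth.Agent.S0073
-- import your own Groth.Agent.* helpers here

set_option autoImplicit false
open CategoryTheory CategoryTheory.Limits AlgebraicGeometry Opposite
universe u
open EtDesc

namespace Groth.Agent.S3055

open CategoryTheory CategoryTheory.Limits AlgebraicGeometry Opposite
namespace Aux
set_option linter.unusedSectionVars false
set_option backward.isDefEq.respectTransparency false
set_option linter.style.haveILetI false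

open Groth.Agent.S14453.Aux (mem_et_iff etale_left)

theorem isSepClosed_of_ringEquiv {K L : Type*} [Field K] [Field L] [IsSepClosed K]
    (e : K ≃+* L) : IsSepClosed L := by
  apply IsSepClosed.of_exists_root
  intro p hm hirr hsep
  let q := p.map e.symm.toRingHom
  have hq : q.Separable := hsep.map
  have hdeg : q.degree ≠ 0 := by
    rw [Polynomial.degree_map]
    exact (Polynomial.degree_pos_of_irreducible hirr).ne'
  obtain ⟨x, hx⟩ := IsSepClosed.exists_root q hdeg hq
  refine ⟨e x, ?_⟩
  have hp : p = q.map e.toRingHom := by
    simp only [q, Polynomial.map_map]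
    have : e.toRingHom.comp e.symm.toRingHom = RingHom.id L := by
      ext y; simp
    rw [this, Polynomial.map_id]
  rw [hp, Polynomial.eval_map]
  have := Polynomial.eval₂_at_apply (p := q) e.toRingHom x
  rw [Polynomial.IsRoot.def] at hx
  rw [hx, map_zero] at this
  exact this

section
variable (k : Type u) [Field k] [IsSepClosed k]

instance : IsSepClosed (IsLocalRing.ResidueField k) :=
  isSepClosed_of_ringEquiv (RingEquiv.ofBijective (IsLocalRing.residue k)
      ⟨(IsLocalRing.residue k).injective, IsLocalRing.residue_surjective⟩)

/-- the base scheme -/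
noncomputable abbrev XX : Scheme.{u} := Spec (CommRingCat.of k)

/-- the terminal object -/
noncomputable abbrev TT : (XX k).Etale := EtCoh.top (XX k)

theorem sieve_top (Sv : Sieve (TT k)) (h : Sv ∈ (XX k).smallEtaleTopology (TT k)) :
    Sv (𝟙 (TT k)) :=
  Groth.Agent.S0073.Aux.sieve_top k Sv h

/-- sections through every point -/
theorem exists_section (U : (XX k).Etale) (x : U.left) :
    ∃ σ : TT k ⟶ U, σ.left (IsLocalRing.closedPoint k) = x := by
  have hx : U.hom.base x = IsLocalRing.closedPoint k := by
    apply PrimeSpectrum.ext
    have h1 : (U.hom.base x).asIdeal = ⊥ := by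
      apply Ideal.eq_bot_of_prime
    have h2 : (IsLocalRing.closedPoint k).asIdeal = ⊥ := by
      apply Ideal.eq_bot_of_prime
    rw [h1, h2]
  obtain ⟨u, hu, hux⟩ := (Groth.Agent.S5062.result k).1 ⟨inferInstance, inferInstance⟩ U.left U.hom
    inferInstance x hx
  refine ⟨MorphismProperty.Over.homMk u (by
    show u ≫ U.hom = 𝟙 _
    exact hu), hux⟩

/-- sheafification does not change sections over the terminal object -/
theorem toSheafify_app_top_bijective (P : (XX k).Etaleᵒᵖ ⥤ Type (u+1)) :
    Function.Bijective ((toSheafify (XX k).smallEtaleTopology P).app (op (TT k))) := by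
  let J := (XX k).smallEtaleTopology
  have hW : J.W (toSheafify J P) := J.W_toSheafify P
  have hinj := hW.isLocallyInjective
  have hsurj := hW.isLocallySurjective
  constructor
  · intro a b hab
    have h1 := Presheaf.equalizerSieve_mem J (toSheafify J P) (X := op (TT k)) a b hab
    have h2 := sieve_top k _ h1
    have h3 : P.map (𝟙 (TT k)).op a = P.map (𝟙 (TT k)).op b := h2
    simpa using h3
  · intro t
    have h1 := Presheaf.imageSieve_mem J (toSheafify J P) (U := op (TT k)) t
    obtain ⟨a, ha⟩ := sieve_top k _ h1
    refine ⟨a, ?_⟩
    refine ha.trans ?_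
    simp

theorem counit_presheaf_W (F : (XX k).Etaleᵒᵖ ⥤ Type (u+1)) :
    (XX k).smallEtaleTopology.W
      ((constantPresheafAdj (Type (u+1)) (EtCore.topIsTerminal (XX k))).counit.app F) := by
  let J := (XX k).smallEtaleTopology
  let hT := EtCore.topIsTerminal (XX k)
  let c := (constantPresheafAdj (Type (u+1)) hT).counit.app F
  have capp : ∀ (U : (XX k).Etale) (a : F.obj (op (TT k))),
      c.app (op U) a = F.map (hT.from U).op a := fun U a => rfl
  haveI : Presheaf.IsLocallyInjective J c := by
    constructor
    intro U a b hab
    by_cases hE : IsEmpty U.unop.left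
    · refine J.superset_covering bot_le ?_
      rw [mem_et_iff]
      intro z
      exact (hE.false z).elim
    · rw [not_isEmpty_iff] at hE
      obtain ⟨x⟩ := hE
      obtain ⟨σ, -⟩ := exists_section k U.unop x
      have hσ : σ ≫ hT.from U.unop = 𝟙 _ := hT.hom_ext _ _
      have hab' : F.map (hT.from U.unop).op a = F.map (hT.from U.unop).op b := hab
      have h2 := congrArg (F.map σ.op) hab'
      rw [← Functor.map_comp_apply, ← Functor.map_comp_apply, ← op_comp, hσ] at h2
      simp only [op_id, Functor.map_id_apply] at h2
      have h3 : a = b := h2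
      subst h3
      rw [Presheaf.equalizerSieve_self_eq_top]
      exact J.top_mem _
  haveI : Presheaf.IsLocallySurjective J c := by
    constructor
    intro U t
    rw [mem_et_iff]
    intro x
    obtain ⟨σ, hσx⟩ := exists_section k U x
    refine ⟨TT k, σ, IsLocalRing.closedPoint k, ?_, etale_left σ, hσx⟩
    refine ⟨F.map σ.op t, ?_⟩
    rw [capp]
    have : hT.from (TT k) = 𝟙 _ := hT.hom_ext _ _
    rw [this]
    simp
  exact J.W_of_isLocallyBijective c

theorem main : ((sheafSections (XX k).smallEtaleTopology (Type (u + 1))).obj
      (op (TT k))).IsEquivalence := by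
  let J := (XX k).smallEtaleTopology
  let hT := EtCore.topIsTerminal (XX k)
  let adj := constantSheafAdj J (Type (u+1)) hT
  haveI hunit : ∀ S, IsIso (adj.unit.app S) := by
    intro S
    rw [isIso_iff_bijective]
    have h1 : adj.unit.app S = (toSheafify J ((Functor.const _).obj S)).app (op (TT k)) := by
      ext a
      simp [adj, constantSheafAdj, Adjunction.comp_unit_app, constantPresheafAdj]
    rw [h1]
    exact toSheafify_app_top_bijective k _
  haveI hcounit : ∀ F, IsIso (adj.counit.app F) := by
    intro F
    have h1 : adj.counit.app F =
        (presheafToSheaf J (Type (u+1))).map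
          ((constantPresheafAdj (Type (u+1)) hT).counit.app F.obj) ≫
        (sheafificationAdjunction J (Type (u+1))).counit.app F := by
      simp [adj, constantSheafAdj, Adjunction.comp_counit_app]
    rw [h1]
    haveI : IsIso ((presheafToSheaf J (Type (u+1))).map
          ((constantPresheafAdj (Type (u+1)) hT).counit.app F.obj)) :=
      (J.W_iff _).mp (counit_presheaf_W k F.obj)
    infer_instance
  exact adj.toEquivalence.isEquivalence_inverse

end

end Aux

/-- For a separably closed field k and X = Spec k, the global sections functor from sheaves of sets on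
X_et (valued one universe up) to sets is an equivalence of categories. -/
theorem result (k : Type u) [Field k] [IsSepClosed k] :
    ((sheafSections (Spec (CommRingCat.of k)).smallEtaleTopology (Type (u + 1))).obj
      (op (EtCoh.top (Spec (CommRingCat.of k))))).IsEquivalence := by
  exact Aux.main k

end Groth.Agent.S3055
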