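import Groth.Statements.S3058
import Groth.Agent.Lib.Helper5.TFin.Coprod

set_option autoImplicit false
open CategoryTheory CategoryTheory.Limits Opposite
universe u
open ToposFin

open Helper5.TFin

namespace Groth.Agent.S3058

/-- For a topos of sheaves of sets on a small site: the coproduct of a small family of objects is
quasi-compact if and only if every member is quasi-compact and all but finitely many members are
initial (empty) objects. -/
theorem result {C : Type u} [SmallCategory C] {J : GrothendieckTopology C} {ι : Type u}
    (F : ι → ToposFin.Sh J) :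
    ToposFin.IsQC (∐ F) ↔ (∀ i, ToposFin.IsQC (F i)) ∧ {i | IsEmpty (F i ≅ ⊥_ (ToposFin.Sh J))}.Finite := by
  have h : DisjCover (Cofan.mk (∐ F) (Sigma.ι F)).inj :=
    disjCover_of_isColimit _ (coproductIsCoproduct F)
  have e : {i | IsEmpty (F i ≅ ⊥_ (ToposFin.Sh J))} = {i | ¬ IsInit (F i)} := by
    ext i
    exact (not_isInit_iff (F i)).symm
  rw [e]
  constructor
  · intro hq
    exact ⟨fun i => h.isQC_member hq i, h.finite_not_isInit hq⟩
  · rintro ⟨h1, h2⟩
    exact isQC_of_disjCover h h2 h1

end Groth.Agent.S3058
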