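import Groth.Statements.S3072
import Groth.Agent.Lib.Helper5.TFin.FP

set_option autoImplicit false
open CategoryTheory CategoryTheory.Limits Opposite
universe u
open ToposFin

open Helper5.TFin

namespace Groth.Agent.S3072

/-- For a topos of sheaves of sets on a small site admitting a generating family of coherent objects:
Hom(X, -) commutes with small filtered colimits if and only if X is a retract (image of an
idempotent) of the coequalizer of some pair of morphisms X_1 => X_0 with X_0 and X_1 coherent. -/
theorem result {C : Type u} [SmallCategory C] {J : GrothendieckTopology C} (hE : ToposFin.HasCoherentGenerators J)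
    (X : ToposFin.Sh J) :
    ToposFin.IsFP X ↔ ∃ (X₀ X₁ : ToposFin.Sh J) (a b : X₁ ⟶ X₀) (i : X ⟶ coequalizer a b)
      (p : coequalizer a b ⟶ X), ToposFin.IsCoherent X₀ ∧ ToposFin.IsCoherent X₁ ∧ i ≫ p = 𝟙 X := by
  have hE' := hasQCGenerators_of_coherent hE
  rw [isFP_iff]
  constructor
  · rintro ⟨hI, hS⟩
    obtain ⟨ι₀, _, K, μ₀, _, L, a, b, i, p, hK, hL, hip⟩ :=
      exists_retract_of_fp (S := {K : Sh J | IsCoherent K}) (fun K hK => hK.1)
        (isGenerating_coherent hE) hI hS
    exact ⟨∐ K, ∐ L, a, b, i, p, isCoherent_sigma K hK, isCoherent_sigma L hL, hip⟩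
  · rintro ⟨X₀, X₁, a, b, i, p, h0, h1, hip⟩
    have hQI : HInj (coequalizer a b) := hInj_of_epi (coequalizer.π a b) (hInj_of_isQC h0.1)
    have hQS : HSurj (coequalizer a b) :=
      hSurj_coequalizer a b (hSurj_of_isCoherent hE' h0) (hInj_of_isQC h1.1)
    exact ⟨hInj_retract i p hip hQI, hSurj_retract i p hip hQS⟩

end Groth.Agent.S3072
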