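import Groth.Statements.S3082
import Mathlib

set_option autoImplicit false
universe u
open CategoryTheory
open SGA4

namespace Groth.Agent.S3082

section
open CategoryTheory
open Opposite

variable {C : Type u} [SmallCategory C] (J : GrothendieckTopology C)

/-- hom from sheafified representable ≃ sections -/
noncomputable def secEquiv (F : Sheaf J (Type u)) (X : C) :
    ((presheafToSheaf J (Type u)).obj (yoneda.obj X) ⟶ F) ≃ F.obj.obj (op X) :=
  ((sheafificationAdjunction J (Type u)).homEquiv _ _).trans yonedaEquiv

lemma secEquiv_comp {F F' : Sheaf J (Type u)} (f : F ⟶ F') (X : C)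
    (a : (presheafToSheaf J (Type u)).obj (yoneda.obj X) ⟶ F) :
    secEquiv J F' X (a ≫ f) = f.hom.app (op X) (secEquiv J F X a) := by
  unfold secEquiv
  simp only [Equiv.trans_apply]
  rw [Adjunction.homEquiv_naturality_right]
  exact yonedaEquiv_comp _ _

theorem main (G : Set C)
    (hG : ∀ X : C, ∃ (ι : Type u) (Y : ι → C) (f : ∀ i, Y i ⟶ X), Sieve.ofArrows Y f ∈ J X ∧ ∀ i, Y i ∈ G) :
    (ObjectProperty.ofObj fun X : G => (presheafToSheaf J (Type u)).obj (yoneda.obj (X : C))).IsDetecting := by
  intro F F' f hf
  -- bijectivity over members of G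
  have hbij : ∀ g : C, g ∈ G → Function.Bijective (f.hom.app (op g)) := by
    intro g hg
    have h1 := hf _ (ObjectProperty.ofObj_apply _ (⟨g, hg⟩ : G))
    constructor
    · intro s t hst
      obtain ⟨h', -, huniq⟩ := h1 ((secEquiv J F g).symm s ≫ f)
      have e1 := huniq ((secEquiv J F g).symm s) rfl
      have e2 := huniq ((secEquiv J F g).symm t) (by
        apply (secEquiv J F' g).injective
        rw [secEquiv_comp, secEquiv_comp, Equiv.apply_symm_apply, Equiv.apply_symm_apply, hst])
      have := e1.trans e2.symm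
      simpa using congrArg (secEquiv J F g) this
    · intro s'
      obtain ⟨h', hh', -⟩ := h1 ((secEquiv J F' g).symm s')
      refine ⟨secEquiv J F g h', ?_⟩
      rw [← secEquiv_comp, hh', Equiv.apply_symm_apply]
  have hFs : Presieve.IsSheaf J F.obj := (isSheaf_iff_isSheaf_of_type J F.obj).1 F.property
  have hF's : Presieve.IsSheaf J F'.obj := (isSheaf_iff_isSheaf_of_type J F'.obj).1 F'.property
  have nat : ∀ {X Y : C} (g : Y ⟶ X) (s : F.obj.obj (op X)),
      f.hom.app (op Y) (F.obj.map g.op s) = F'.obj.map g.op (f.hom.app (op X) s) := by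
    intro X Y g s
    have := ConcreteCategory.congr_hom (f.hom.naturality g.op) s
    simpa using this
  -- injectivity everywhere
  have hinj : ∀ X : C, Function.Injective (f.hom.app (op X)) := by
    intro X s t hst
    obtain ⟨ι, Y, φ, hS, hY⟩ := hG X
    refine (hFs _ hS).isSeparatedFor.ext (fun W g hg => ?_)
    obtain ⟨i, a, rfl⟩ := (Sieve.mem_ofArrows_iff Y φ g).1 hg
    have : F.obj.map (φ i).op s = F.obj.map (φ i).op t := by
      apply (hbij _ (hY i)).1
      rw [nat, nat, hst]
    rw [op_comp, F.obj.map_comp]
    change F.obj.map a.op (F.obj.map (φ i).op s) = F.obj.map a.op (F.obj.map (φ i).op t)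
    rw [this]
  have hsurj : ∀ X : C, Function.Surjective (f.hom.app (op X)) := by
    intro X s'
    obtain ⟨ι, Y, φ, hS, hY⟩ := hG X
    have hex : ∀ ⦃W : C⦄ (g : W ⟶ X), (Sieve.ofArrows Y φ) g →
        ∃ x : F.obj.obj (op W), f.hom.app (op W) x = F'.obj.map g.op s' := by
      intro W g hg
      obtain ⟨i, a, rfl⟩ := (Sieve.mem_ofArrows_iff Y φ g).1 hg
      obtain ⟨si, hsi⟩ := (hbij _ (hY i)).2 (F'.obj.map (φ i).op s')
      refine ⟨F.obj.map a.op si, ?_⟩
      rw [nat, hsi, op_comp, F'.obj.map_comp]
      rfl
    let x : Presieve.FamilyOfElements F.obj (Sieve.ofArrows Y φ).arrows :=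
      fun W g hg => Classical.choose (hex g hg)
    have hx : ∀ ⦃W : C⦄ (g : W ⟶ X) (hg : (Sieve.ofArrows Y φ) g),
        f.hom.app (op W) (x g hg) = F'.obj.map g.op s' :=
      fun W g hg => Classical.choose_spec (hex g hg)
    have hcomp : x.Compatible := by
      intro Y₁ Y₂ Z g₁ g₂ f₁ f₂ h₁ h₂ e
      apply hinj
      rw [nat, nat, hx _ h₁, hx _ h₂, ← ConcreteCategory.comp_apply, ← ConcreteCategory.comp_apply,
        ← Functor.map_comp, ← Functor.map_comp, ← op_comp, ← op_comp, e]
    have hs : x.IsAmalgamation ((hFs _ hS).amalgamate x hcomp) :=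
      (hFs _ hS).isAmalgamation hcomp
    refine ⟨(hFs _ hS).amalgamate x hcomp, ?_⟩
    refine (hF's _ hS).isSeparatedFor.ext (fun W g hg => ?_)
    rw [← nat, hs g hg, hx _ hg]
  haveI : IsIso f.hom := by
    apply (config := {allowSynthFailures := true}) NatIso.isIso_of_isIso_app
    intro X
    rw [isIso_iff_bijective]
    exact ⟨hinj X.unop, hsurj X.unop⟩
  haveI : IsIso ((sheafToPresheaf J (Type u)).map f) := ‹IsIso f.hom›
  exact isIso_of_reflects_iso f (sheafToPresheaf J (Type u))


end


/-- Let (C, J) be a small site and G a set of objects of C such that each object of C has a covering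
family whose members all lie in G. Then the sheafifications of the presheaves represented by the
members of G form a detecting family in the category Sh(C, J) of set-valued sheaves on (C, J): any
morphism of sheaves that is bijective on sections over each member of G is an isomorphism. -/
theorem result {C : Type u} [SmallCategory C] (J : GrothendieckTopology C) (G : Set C)
    (hG : ∀ X : C, ∃ (ι : Type u) (Y : ι → C) (f : ∀ i, Y i ⟶ X), Sieve.ofArrows Y f ∈ J X ∧ ∀ i, Y i ∈ G) :
    (ObjectProperty.ofObj fun X : G => (presheafToSheaf J (Type u)).obj (yoneda.obj (X : C))).IsDetecting := by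
  classical
  exact main J G hG

end Groth.Agent.S3082
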