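import Groth.Statements.S3086
import Groth.Agent.S3081
import Groth.Agent.Lib.Helper6.Giraud.GirMain
import Groth.Agent.Lib.Helper6.Giraud.GlueGiraudB
import Groth.Agent.Lib.Helper6.Giraud.GlueGiraudC
import Groth.Agent.Lib.Helper6.Giraud.SheafAccessible
import Groth.Agent.Lib.Helper6.Giraud.GlueDetect

set_option autoImplicit false
set_option linter.style.haveILetI false
universe u
open CategoryTheory
open SGA4

namespace Groth.Agent.S3086

open CategoryTheory.Limits in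
/-- For sheaf topoi on small sites): let ρ be a functor from sheaves of sets on (C, J) to sheaves of
sets on (D, K) which preserves finite limits and is accessible. Then the glued category of triples
(Y, X, Y -> ρ X) is a topos. -/
theorem result {C D : Type u} [SmallCategory C] [SmallCategory D] (J : GrothendieckTopology C)
    (K : GrothendieckTopology D) (ρ : Sheaf J (Type u) ⥤ Sheaf K (Type u)) [PreservesFiniteLimits ρ]
    [ρ.IsAccessible.{u}] :
    SGA4.IsTopos.{u + 1, u} (Comma (𝟭 (Sheaf K (Type u))) ρ) := by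
  classical
  obtain ⟨hbA, hcA⟩ := Groth.Agent.S3081.result K
  obtain ⟨hbB, hcB⟩ := Groth.Agent.S3081.result J
  have hb := Groth.Agent.Helper6.GlueComma.comma_hasDisjointUniversalCoproducts ρ hbA hbB
  have hc := Groth.Agent.Helper6.GlueComma.comma_isEffectiveUniversalEquivRel ρ hcA hcB
  -- choice of the cardinal
  obtain ⟨κ₀, hκ₀, hacc⟩ := Functor.IsAccessible.exists_cardinal (F := ρ)
  obtain ⟨κ, hκ, hle, hC, hD⟩ : ∃ (κ : Cardinal.{u}) (_ : Fact κ.IsRegular) (_ : κ₀ ≤ κ),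
      (∀ (c : C) (S : Sieve c), HasCardinalLT (Arrow (S.arrows.category)ᵒᵖ) κ) ∧
      (∀ (d : D) (S : Sieve d), HasCardinalLT (Arrow (S.arrows.category)ᵒᵖ) κ) := by
    obtain ⟨κ', h₁, h₂⟩ := HasCardinalLT.exists_regular_cardinal_forall.{u}
      (Sum.elim (Sum.elim (fun (p : Σ c : C, Sieve c) ↦ Arrow (p.2.arrows.category)ᵒᵖ)
        (fun (p : Σ d : D, Sieve d) ↦ Arrow (p.2.arrows.category)ᵒᵖ))
        (fun (_ : Unit) ↦ κ₀.ord.ToType))
    exact ⟨κ', ⟨h₁⟩,
      le_of_lt (by simpa [hasCardinalLT_iff_cardinal_mk_lt] using h₂ (Sum.inr ⟨⟩)),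
      fun c S => h₂ (Sum.inl (Sum.inl ⟨c, S⟩)), fun d S => h₂ (Sum.inl (Sum.inr ⟨d, S⟩))⟩
  haveI : ρ.IsCardinalAccessible κ := Functor.isCardinalAccessible_of_le ρ hle
  haveI : (sheafToPresheaf J (Type u)).IsCardinalAccessible κ :=
    Groth.Agent.Helper6.SheafAcc.sheafToPresheaf_isCardinalAccessible hC
  haveI : (sheafToPresheaf K (Type u)).IsCardinalAccessible κ :=
    Groth.Agent.Helper6.SheafAcc.sheafToPresheaf_isCardinalAccessible hD
  haveI : HasCardinalFilteredGenerator (Sheaf J (Type u)) κ :=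
    (sheafificationAdjunction J (Type u)).hasCardinalFilteredGenerator κ
  obtain ⟨P, hPsmall, hP⟩ :=
    HasCardinalFilteredGenerator.exists_small_generator (Sheaf J (Type u)) κ
  haveI : Small.{u} (Subtype P) := hPsmall
  -- the initial sheaf
  haveI : HasInitial (Sheaf K (Type u)) := Groth.Agent.Helper6.Giraud.sheaf_hasInitial K
  have hE : IsInitial (⊥_ (Sheaf K (Type u))) := initialIsInitial
  -- the generators
  let o : Shrink.{u} (Subtype P) → Sheaf J (Type u) := fun j => ((equivShrink (Subtype P)).symm j).1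
  have ho : ∀ X₀ (hX₀ : P X₀), o (equivShrink (Subtype P) ⟨X₀, hX₀⟩) = X₀ := by
    intro X₀ hX₀
    simp [o]
  let obj : (Shrink.{u} (Subtype P) ⊕
      (Σ (d : D) (j : Shrink.{u} (Subtype P)), (ρ.obj (o j)).obj.obj (Opposite.op d))) →
      Comma (𝟭 (Sheaf K (Type u))) ρ :=
    Sum.elim (fun j => Groth.Agent.Helper6.GlueDetect.G1 ρ hE (o j))
      (fun t => Groth.Agent.Helper6.GlueDetect.G2 ρ t.1 (o t.2.1) t.2.2)
  refine Groth.Agent.Helper6.Gir.isTopos_of_generators hb hc obj ?_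
  intro Z Z' f hf
  refine Groth.Agent.Helper6.GlueDetect.isIso_of_unique_lifts hP hE f ?_ ?_
  · intro X₀ hX₀
    have e := ho X₀ hX₀
    have key : ∀ (X₁ : Sheaf J (Type u)) (e : X₁ = X₀)
        (H : ∀ (h : Groth.Agent.Helper6.GlueDetect.G1 ρ hE X₁ ⟶ Z'), ∃! h', h' ≫ f = h),
        ∀ (h : Groth.Agent.Helper6.GlueDetect.G1 ρ hE X₀ ⟶ Z'), ∃! h', h' ≫ f = h := by
      intro X₁ e H
      subst e
      exact H
    refine key _ e ?_
    exact hf (obj (Sum.inl (equivShrink (Subtype P) ⟨X₀, hX₀⟩))) ⟨_⟩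
  · intro d X₀ ψ hX₀
    have e := ho X₀ hX₀
    have key : ∀ (X₁ : Sheaf J (Type u)) (e : X₁ = X₀)
        (H : ∀ (ψ₁ : (ρ.obj X₁).obj.obj (Opposite.op d))
          (h : Groth.Agent.Helper6.GlueDetect.G2 ρ d X₁ ψ₁ ⟶ Z'), ∃! h', h' ≫ f = h),
        ∀ (h : Groth.Agent.Helper6.GlueDetect.G2 ρ d X₀ ψ ⟶ Z'), ∃! h', h' ≫ f = h := by
      intro X₁ e H
      subst e
      exact H ψ
    refine key _ e ?_
    intro ψ₁
    exact hf (obj (Sum.inr ⟨d, equivShrink (Subtype P) ⟨X₀, hX₀⟩, ψ₁⟩)) ⟨_⟩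

end Groth.Agent.S3086
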