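import Groth.Statements.S3104
import Mathlib
import Groth.Prelude.Def_EtCore
import Groth.Agent.Lib.Helper9.FE.ConstUnit2
import Groth.Agent.Lib.Helper9.FE.NormalConstNhd
-- import your own Groth.Agent.* helpers here

set_option autoImplicit false
universe u
open CategoryTheory CategoryTheory.Limits AlgebraicGeometry Opposite
open EtPBC

namespace Groth.Agent.S3104

open CategoryTheory CategoryTheory.Limits AlgebraicGeometry Opposite
namespace Aux
set_option backward.isDefEq.respectTransparency false
set_option linter.style.haveILetI false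
set_option linter.unusedSectionVars false
open H9FE H9FE.ConstUnit H9FE.NormalIrredSch Groth.Agent.S14453.Aux

theorem main (X U : Scheme.{u})
    (hX : ∀ x : X, IsDomain (X.presheaf.stalk x) ∧ IsIntegrallyClosed (X.presheaf.stalk x))
    (j : U ⟶ X) [IsOpenImmersion j] [QuasiCompact j]
    (hj : Dense (Set.range j)) (A : AddCommGrpCat.{u+1}) :
    IsIso ((EtCoh.pullPushAdj j).unit.app (cS X A)) := by
  apply isIso_unit_of_isConstOn
  · intro V hV
    obtain ⟨v⟩ := hV
    have ho : IsOpen (Set.range V.hom) := V.hom.isOpenMap.isOpen_range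
    obtain ⟨x, hx1, hx2⟩ := hj.inter_open_nonempty _ ho ⟨V.hom v, v, rfl⟩
    obtain ⟨v', rfl⟩ := hx1
    obtain ⟨z, -⟩ := exists_bc_point j V v' hx2
    exact ⟨z⟩
  · intro V s v
    let Ω : V.left.Opens := V.hom ⁻¹ᵁ j.opensRange
    refine exists_const_nhd (X := X) hX (V := V.left) V.hom Ω ?_ (0 : A) (IsConstOn j A V s)
      ?_ ?_ ?_ ?_ v
    · intro V₀ hV₀
      let fstV : ((EtCoh.bc j).obj V).left ⟶ V.left := pullback.fst V.hom j
      haveI : QuasiCompact fstV := inferInstanceAs (QuasiCompact (pullback.fst V.hom j))
      have h1 : IsCompact (fstV ⁻¹' (V₀ : Set V.left)) :=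
        QuasiCompact.isCompact_preimage _ V₀.isOpen hV₀.isCompact
      have h2 := h1.image fstV.continuous
      convert h2 using 1
      ext w
      constructor
      · rintro ⟨hwΩ, hwV₀⟩
        obtain ⟨z, hz⟩ := exists_bc_point j V w hwΩ
        exact ⟨z, (by rw [← hz] at hwV₀; exact hwV₀), hz⟩
      · rintro ⟨z, hz, rfl⟩
        exact ⟨fst_bc j V z, hz⟩
    · intro O O' a h hc
      exact isConstOn_mono j A V s h hc
    · rintro O a b ha hb ⟨w, hwO, hwΩ⟩
      exact isConstOn_unique j A V s ha hb ⟨w, hwO, hwΩ⟩
    · intro O a 𝒪 hle hP hcov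
      exact isConstOn_glue j A V s O a 𝒪 hle hP (fun w hw hwj => hcov w hw hwj)
    · intro w hw
      exact exists_isConstOn j A V s w hw

end Aux

/-- Let X be a normal scheme, j : U → X a quasi-compact open immersion with dense image, and M an
abelian group. Then the natural map from the constant sheaf M_X on X_ét to j_* j^* M_X (the unit of
the adjunction) is an isomorphism. The published statement is more general, allowing X geometrically
unibranch and sheaves of sets; stated here for X normal, j an open immersion and constant abelian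
sheaves. -/
theorem result (X U : Scheme.{u}) (hX : Pi1.IsNormalScheme X)
    (j : U ⟶ X) [IsOpenImmersion j] [QuasiCompact j] (hj : Dense (Set.range j)) [EtCoh.BCCont j]
    (M : Type) [AddCommGroup M] :
    IsIso ((EtCoh.pullPushAdj j).unit.app (EtCoh.const X M)) := by
  exact Aux.main X U hX j hj (AddCommGrpCat.of (ULift.{u + 1} M))

end Groth.Agent.S3104
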