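import Groth.Statements.S3105
import Mathlib
import Groth.Prelude.Def_EtCore
import Groth.Agent.Lib.Helper9.FE.ConstUnit
import Groth.Agent.Lib.Helper9.FE.NormalIrredFib
-- import your own Groth.Agent.* helpers here

set_option autoImplicit false
universe u
open CategoryTheory CategoryTheory.Limits AlgebraicGeometry Opposite
open EtPBC

namespace Groth.Agent.S3105

open CategoryTheory CategoryTheory.Limits AlgebraicGeometry Opposite
namespace Aux
set_option backward.isDefEq.respectTransparency false
set_option linter.style.haveILetI false
set_option linter.unusedSectionVars false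
open H9FE H9FE.ConstUnit H9FE.NormalIrredSch Groth.Agent.S14453.Aux

theorem main (X : Scheme.{u}) [IsIntegral X]
    (hN : ∀ x : X, IsIntegrallyClosed (X.presheaf.stalk x))
    (A : AddCommGrpCat.{u+1}) :
    IsIso ((EtCoh.pullPushAdj (X.fromSpecResidueField (genericPoint X))).unit.app (cS X A)) := by
  apply isIso_unit_of_criterion
  · intro V hV
    haveI : Nonempty V.left := hV
    obtain ⟨v, hv⟩ := exists_over_generic (X := X) (V := V.left) V.hom
    obtain ⟨z, -, -⟩ := Scheme.Pullback.exists_preimage_pullback (f := V.hom)
      (g := X.fromSpecResidueField (genericPoint X))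
      v (IsLocalRing.closedPoint _) (hv.trans (Scheme.fromSpecResidueField_apply _ _).symm)
    exact ⟨z⟩
  · intro V v
    obtain ⟨W₀, hvW₀, hirr⟩ := exists_irreducible_nhd (X := X) hN (V := V.left) V.hom v
    refine ⟨opObj V W₀, opι V W₀, ⟨⟨v, hvW₀⟩, rfl⟩, ?_⟩
    haveI : PreirreducibleSpace (W₀ : Scheme.{u}) := Subtype.preirreducibleSpace hirr
    let hW : (W₀ : Scheme.{u}) ⟶ X := (opObj V W₀).hom
    haveI : Etale hW := (opObj V W₀).prop
    let p : pullback hW (X.fromSpecResidueField (genericPoint X)) ⟶ (W₀ : Scheme.{u}) :=
      pullback.fst _ _
    let q : pullback hW (X.fromSpecResidueField (genericPoint X)) ⟶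
      Spec (X.residueField (genericPoint X)) := pullback.snd _ _
    have hpq : p ≫ hW = q ≫ X.fromSpecResidueField (genericPoint X) := pullback.condition
    haveI : Subsingleton (pullback hW (X.fromSpecResidueField (genericPoint X)) : Scheme.{u}) := by
      constructor
      intro z z'
      have hz : ∀ t, hW (p t) = genericPoint X := by
        intro t
        have h : (p ≫ hW) t = (q ≫ X.fromSpecResidueField (genericPoint X)) t := by
          rw [hpq]
        exact h.trans (Scheme.fromSpecResidueField_apply _ (q t))
      have h1 : p z = p z' :=
        generic_fibre_subsingleton (X := X) (W := (W₀ : Scheme.{u})) hW _ _ (hz z) (hz z')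
      exact p.isEmbedding.injective h1
    change PreirreducibleSpace (pullback hW (X.fromSpecResidueField (genericPoint X)) : Scheme.{u})
    infer_instance

end Aux

/-- Let X be a normal integral scheme with generic point η, g : Spec κ(η) → X the canonical morphism and
M an abelian group. Then the unit map from the constant sheaf M_X on X_ét to g_*g^*M_X is an
isomorphism. (The published statement is more general, allowing X geometrically unibranch and
sheaves of sets. Continuity of the functor of étale sites along g is carried as an instance binder.) -/
theorem result (X : Scheme.{u}) [IsIntegral X] (hX : Pi1.IsNormalScheme X)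
    [EtCoh.BCCont (X.fromSpecResidueField (genericPoint X))] (M : Type) [AddCommGroup M] :
    IsIso ((EtCoh.pullPushAdj (X.fromSpecResidueField (genericPoint X))).unit.app (EtCoh.const X M)) := by
  exact Aux.main X (fun x => (hX x).2) (AddCommGrpCat.of (ULift.{u + 1} M))

end Groth.Agent.S3105
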