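import Groth.Statements.S3129
import Groth.Agent.Lib.Helper6.GaussJacobi

set_option autoImplicit false
open BigOperators
open SGA4h

namespace Groth.Agent.S3129

/-- Let F be a finite field with q elements, N ≥ 1, χ₀, …, χ_N multiplicative characters of F with
values in a domain, not all trivial and with product 1, and Ψ a nontrivial additive character of F.
Put τ(χ, Ψ) = −Σ_{x ∈ F} Ψ(x) χ⁻¹(x) and J(χ) = (−1)^{N−1} Σ χ₁⁻¹(x₁) ⋯ χ_N⁻¹(x_N), the sum over x₁,
…, x_N ∈ F^* with x₁ + ⋯ + x_N = −1. Then q · J(χ) = τ(χ₀, Ψ) ⋯ τ(χ_N, Ψ). -/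
theorem result (F : Type) [Field F] [Fintype F] [DecidableEq F] (R : Type) [CommRing R] [IsDomain R]
    (N : ℕ) (hN : 1 ≤ N) (χ : Fin (N + 1) → MulChar F R) (hprod : ∏ i, χ i = 1) (hnt : ∃ i, χ i ≠ 1)
    (Ψ : AddChar F R) (hΨ : Ψ ≠ 1) :
    (Fintype.card F : R) * ((-1) ^ (N - 1) *
        ∑ x ∈ (Finset.univ : Finset (Fin N → Fˣ)).filter (fun x => ∑ i, ((x i : Fˣ) : F) = -1),
          ∏ i : Fin N, (χ i.succ)⁻¹ ((x i : Fˣ) : F)) =
      ∏ i : Fin (N + 1), (-(∑ y : F, Ψ y * (χ i)⁻¹ y)) := by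
  have hprod' : ∏ i, (χ i)⁻¹ = 1 := by
    rw [Finset.prod_inv_distrib, hprod, inv_one]
  have hnt' : ∃ i : Fin N, (χ i.succ)⁻¹ ≠ 1 := by
    by_contra hcon
    push_neg at hcon
    have hs : ∀ i : Fin N, χ i.succ = 1 := fun i => by
      have := hcon i
      rwa [inv_eq_one] at this
    have h0 : χ 0 = 1 := by
      rw [Fin.prod_univ_succ] at hprod
      simpa [hs] using hprod
    obtain ⟨i, hi⟩ := hnt
    apply hi
    refine Fin.cases h0 (fun j => hs j) i
  have hmain := Groth.Agent.Lib.Helper6.GaussJacobi.main N (fun i => (χ i)⁻¹) hprod' hnt' Ψ hΨ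
  rw [Finset.prod_neg, Finset.card_univ, Fintype.card_fin, hmain]
  have hpow : ((-1 : R)) ^ (N + 1) = (-1) ^ (N - 1) := by
    have : N + 1 = (N - 1) + 2 := by omega
    rw [this, pow_add]
    norm_num
  rw [hpow]
  ring

end Groth.Agent.S3129
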