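import Groth.Statements.S3133
import Mathlib

set_option autoImplicit false
open Polynomial
open SGA4h

namespace Groth.Agent.S3133

section
open scoped BigOperators
open Polynomial

variable {R : Type} [CommRing R] {m : Type} [Fintype m] [DecidableEq m]

noncomputable def Nm (R : Type) [CommRing R] (m : Type) [Fintype m] [DecidableEq m] (n : ℕ) : Matrix (Fin n × m) (Fin n × m) R[X] :=
  Matrix.of fun p q => if q.1.val + 1 = p.1.val ∧ p.2 = q.2 then (X : R[X]) else 0

noncomputable def Wm (A : Matrix m m R) (n : ℕ) : Matrix (Fin n × m) (Fin n × m) R[X] :=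
  Matrix.of fun p q => if q.1.val = n - 1 then (X : R[X]) ^ (p.1.val + 1) * C (A p.2 q.2) else 0

noncomputable def Um (A : Matrix m m R) (n : ℕ) : Matrix (Fin n × m) m R[X] :=
  Matrix.of fun p j => (X : R[X]) ^ (p.1.val + 1) * C (A p.2 j)

noncomputable def Vm (R : Type) [CommRing R] (m : Type) [Fintype m] [DecidableEq m] (n : ℕ) : Matrix m (Fin n × m) R[X] :=
  Matrix.of fun j q => if q.1.val = n - 1 ∧ j = q.2 then 1 else 0

theorem det_one_sub_N (n : ℕ) : (1 - Nm R m n).det = 1 := by
  classical
  have hbt : Matrix.BlockTriangular (1 - Nm R m n)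
      (fun p : Fin n × m => OrderDual.toDual p.1) := by
    intro i j hij
    have hlt : i.1 < j.1 := hij
    have hne : i ≠ j := by
      intro h; rw [h] at hlt; exact lt_irrefl _ hlt
    have h2 : ¬ (j.1.val + 1 = i.1.val ∧ i.2 = j.2) := by
      rintro ⟨h, _⟩
      have : i.1.val < j.1.val := hlt
      omega
    simp [Nm, Matrix.sub_apply, Matrix.one_apply, hne, h2]
  rw [hbt.det_fintype]
  apply Finset.prod_eq_one
  intro a _
  have : (1 - Nm R m n).toSquareBlock
      (fun p : Fin n × m => OrderDual.toDual p.1) a = 1 := by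
    apply Matrix.ext
    rintro ⟨⟨p, i⟩, hp⟩ ⟨⟨q, j⟩, hq⟩
    have hp' : p = OrderDual.ofDual a := hp
    have hq' : q = OrderDual.ofDual a := hq
    have h2 : ¬ (q.val + 1 = p.val ∧ i = j) := by
      rintro ⟨h, _⟩
      rw [hp', hq'] at h
      omega
    simp only [Matrix.toSquareBlock_def, Matrix.of_apply, Matrix.sub_apply, Nm, if_neg h2,
      sub_zero, Matrix.one_apply, Subtype.mk.injEq]
  rw [this, Matrix.det_one]

theorem UV (A : Matrix m m R) (n : ℕ) : Um A n * Vm R m n = Wm A n := by
  classical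
  apply Matrix.ext
  rintro ⟨p, i⟩ ⟨q, j⟩
  rw [Matrix.mul_apply]
  simp only [Um, Vm, Wm, Matrix.of_apply]
  by_cases hq : q.val = n - 1
  · rw [if_pos hq, Finset.sum_eq_single j]
    · simp [hq]
    · intro b _ hb
      simp [hb]
    · intro h; exact absurd (Finset.mem_univ j) h
  · rw [if_neg hq]
    apply Finset.sum_eq_zero
    intro b _
    simp [hq]

theorem VU (A : Matrix m m R) (n : ℕ) (hn : 1 ≤ n) :
    Vm R m n * Um A n = (X : R[X]) ^ n • A.map C := by
  classical
  apply Matrix.ext
  intro i j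
  rw [Matrix.mul_apply]
  simp only [Um, Vm, Matrix.of_apply, Matrix.smul_apply, Matrix.map_apply, smul_eq_mul]
  rw [Finset.sum_eq_single ((⟨n - 1, by omega⟩ : Fin n), i)]
  · have : n - 1 + 1 = n := by omega
    simp [this]
  · rintro ⟨q, l⟩ _ hne
    have : ¬ (q.val = n - 1 ∧ i = l) := by
      rintro ⟨h1, h2⟩
      apply hne
      rw [Prod.mk.injEq]
      exact ⟨Fin.ext h1, h2.symm⟩
    simp [this]
  · intro h; exact absurd (Finset.mem_univ _) h

theorem NW (A : Matrix m m R) (n : ℕ) (p q : Fin n × m) :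
    (Nm R m n * Wm A n) p q =
      if p.1.val ≠ 0 ∧ q.1.val = n - 1 then (X : R[X]) ^ (p.1.val + 1) * C (A p.2 q.2) else 0 := by
  classical
  rw [Matrix.mul_apply]
  by_cases hp : p.1.val = 0
  · rw [if_neg (by simp [hp])]
    apply Finset.sum_eq_zero
    intro s _
    have : ¬ (s.1.val + 1 = p.1.val ∧ p.2 = s.2) := by
      rintro ⟨h, _⟩; omega
    simp [Nm, this]
  · have hlt : p.1.val - 1 < n := by have := p.1.isLt; omega
    rw [Finset.sum_eq_single ((⟨p.1.val - 1, hlt⟩ : Fin n), p.2)]
    · have h1 : p.1.val - 1 + 1 = p.1.val := by omega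
      simp only [Nm, Wm, Matrix.of_apply, h1, and_self, if_true]
      by_cases hq : q.1.val = n - 1
      · rw [if_pos hq, if_pos ⟨hp, hq⟩, pow_succ]
        ring
      · rw [if_neg hq, if_neg (fun h => hq h.2), mul_zero]
    · rintro ⟨s, l⟩ _ hne
      have : ¬ (s.val + 1 = p.1.val ∧ p.2 = l) := by
        rintro ⟨h1, h2⟩
        apply hne
        rw [Prod.mk.injEq]
        refine ⟨Fin.ext ?_, h2.symm⟩
        simp only
        omega
      simp [Nm, this]
    · intro h; exact absurd (Finset.mem_univ _) h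

theorem main (R : Type) [CommRing R] (m : Type) [Fintype m] [DecidableEq m]
    (A : Matrix m m R) (n : ℕ) (hn : 1 ≤ n) :
    (Matrix.of fun (p q : Fin n × m) =>
        if p.1.val = 0 then (if q.1.val = n - 1 then A p.2 q.2 else 0)
        else (if q.1.val + 1 = p.1.val ∧ p.2 = q.2 then 1 else 0)).charpolyRev =
      Polynomial.expand R n A.charpolyRev := by
  classical
  have hfac : (1 - (X : R[X]) • (Matrix.of fun (p q : Fin n × m) =>
        if p.1.val = 0 then (if q.1.val = n - 1 then A p.2 q.2 else 0)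
        else (if q.1.val + 1 = p.1.val ∧ p.2 = q.2 then (1 : R) else 0)).map C) =
      (1 - Nm R m n) * (1 - Wm A n) := by
    rw [sub_mul, mul_sub, mul_sub, one_mul, one_mul, mul_one]
    apply Matrix.ext
    intro p q
    rw [Matrix.sub_apply, Matrix.sub_apply, Matrix.sub_apply, Matrix.sub_apply, NW]
    simp only [Matrix.smul_apply, Matrix.map_apply, Matrix.of_apply, smul_eq_mul, Nm, Wm]
    by_cases hp : p.1.val = 0
    · have h2 : ¬ (q.1.val + 1 = p.1.val ∧ p.2 = q.2) := by
        rintro ⟨h, _⟩; omega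
      by_cases hq : q.1.val = n - 1
      · simp [hp, hq]
      · simp [hp, hq]
    · by_cases hq : q.1.val = n - 1
      · by_cases h2 : q.1.val + 1 = p.1.val ∧ p.2 = q.2
        · simp [hp, hq, h2]
        · simp [hp, hq, h2]
      · by_cases h2 : q.1.val + 1 = p.1.val ∧ p.2 = q.2
        · simp [hp, hq, h2]
        · simp [hp, hq, h2]
  rw [Matrix.charpolyRev, hfac, Matrix.det_mul, det_one_sub_N, one_mul, ← UV,
    Matrix.det_one_sub_mul_comm, VU A n hn, Matrix.charpolyRev]
  rw [AlgHom.map_det]
  congr 1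
  apply Matrix.ext
  intro i j
  by_cases hij : i = j
  · simp [hij, Matrix.sub_apply, Matrix.one_apply, Matrix.smul_apply]
  · simp [hij, Matrix.sub_apply, Matrix.one_apply, Matrix.smul_apply]


end


/-- Let A be a square matrix over a commutative ring and n ≥ 1, and let B be the matrix on n blocks of
the endomorphism (x_1, …, x_n) ↦ (A x_n, x_1, …, x_{n-1}). Then det(1 − B·T) = det(1 − A·Tⁿ), i.e.
the reverse characteristic polynomial of B is that of A expanded by n. -/
theorem result (R : Type) [CommRing R] (m : Type) [Fintype m] [DecidableEq m]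
    (A : Matrix m m R) (n : ℕ) (hn : 1 ≤ n) :
    (Matrix.of fun (p q : Fin n × m) =>
        if p.1.val = 0 then (if q.1.val = n - 1 then A p.2 q.2 else 0)
        else (if q.1.val + 1 = p.1.val ∧ p.2 = q.2 then 1 else 0)).charpolyRev =
      Polynomial.expand R n A.charpolyRev := by
  classical
  exact main R m A n hn

end Groth.Agent.S3133
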