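import Groth.Statements.S3194
import Mathlib

set_option autoImplicit false
universe u
open CategoryTheory
open SGA6

namespace Groth.Agent.S3194

section
open CategoryTheory

section lib
universe v w
variable {C : Type u} [Category.{v} C] [Abelian C] (P : ObjectProperty C)

theorem clSub_of (X : C) (h : P X) :
    KZero.clSub P X = QuotientAddGroup.mk (FreeAbelianGroup.of ⟨X, h⟩) := by
  unfold KZero.clSub
  rw [dif_pos h]

theorem clSub_rel (S : ShortComplex C) (hS : S.ShortExact) (h₁ : P S.X₁) (h₂ : P S.X₂) (h₃ : P S.X₃) :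
    KZero.clSub P S.X₂ = KZero.clSub P S.X₁ + KZero.clSub P S.X₃ := by
  rw [clSub_of P _ h₁, clSub_of P _ h₂, clSub_of P _ h₃, ← sub_eq_zero, sub_add_eq_sub_sub,
    ← QuotientAddGroup.mk_sub, ← QuotientAddGroup.mk_sub, QuotientAddGroup.eq_zero_iff]
  exact AddSubgroup.subset_closure ⟨S, h₁, h₂, h₃, hS, rfl⟩

/-- homomorphisms out of `K0sub P` -/
noncomputable def lift {G : Type w} [AddCommGroup G] (f : Subtype P → G)
    (hf : ∀ (S : ShortComplex C) (h₁ : P S.X₁) (h₂ : P S.X₂) (h₃ : P S.X₃), S.ShortExact →
      f ⟨S.X₂, h₂⟩ = f ⟨S.X₁, h₁⟩ + f ⟨S.X₃, h₃⟩) : KZero.K0sub P →+ G :=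
  QuotientAddGroup.lift (KZero.relSub P) (FreeAbelianGroup.lift f) (by
    unfold KZero.relSub
    rw [AddSubgroup.closure_le]
    rintro x ⟨S, h₁, h₂, h₃, hS, rfl⟩
    show FreeAbelianGroup.lift f _ = 0
    rw [map_sub, map_sub, FreeAbelianGroup.lift_apply_of, FreeAbelianGroup.lift_apply_of,
      FreeAbelianGroup.lift_apply_of, hf S h₁ h₂ h₃ hS]
    abel)

theorem lift_clSub {G : Type w} [AddCommGroup G] (f : Subtype P → G)
    (hf : ∀ (S : ShortComplex C) (h₁ : P S.X₁) (h₂ : P S.X₂) (h₃ : P S.X₃), S.ShortExact →
      f ⟨S.X₂, h₂⟩ = f ⟨S.X₁, h₁⟩ + f ⟨S.X₃, h₃⟩) (X : C) (h : P X) :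
    lift P f hf (KZero.clSub P X) = f ⟨X, h⟩ := by
  rw [clSub_of P X h]
  show FreeAbelianGroup.lift f (FreeAbelianGroup.of ⟨X, h⟩) = _
  rw [FreeAbelianGroup.lift_apply_of]

theorem K0_induction {motive : KZero.K0sub P → Prop} (zero : motive 0)
    (cl : ∀ (X : C) (_ : P X), motive (KZero.clSub P X))
    (add : ∀ x y, motive x → motive y → motive (x + y))
    (neg : ∀ x, motive x → motive (-x)) : ∀ x, motive x := by
  intro x
  induction x using QuotientAddGroup.induction_on with
  | H z =>
    induction z using FreeAbelianGroup.induction_on with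
    | zero => exact zero
    | of X =>
      have := cl X.1 X.2
      rwa [clSub_of P X.1 X.2] at this
    | neg X h => exact neg _ h
    | add x y hx hy => exact add _ _ hx hy
end lib

section modules
variable {A : Type u} [CommRing A] (P : ObjectProperty (ModuleCat.{u} A))

theorem cl_ses {X Y Z : Type u} [AddCommGroup X] [Module A X] [AddCommGroup Y] [Module A Y]
    [AddCommGroup Z] [Module A Z] (f : X →ₗ[A] Y) (g : Y →ₗ[A] Z)
    (hf : Function.Injective f) (hg : Function.Surjective g) (hfg : Function.Exact f g)
    (hX : P (ModuleCat.of A X)) (hY : P (ModuleCat.of A Y)) (hZ : P (ModuleCat.of A Z)) :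
    KZero.clSub P (ModuleCat.of A Y) = KZero.clSub P (ModuleCat.of A X) + KZero.clSub P (ModuleCat.of A Z) := by
  have hzero : ModuleCat.ofHom f ≫ ModuleCat.ofHom g = 0 := by
    apply ModuleCat.hom_ext
    apply LinearMap.ext
    intro z
    exact hfg.apply_apply_eq_zero z
  let S : ShortComplex (ModuleCat.{u} A) := ShortComplex.mk (ModuleCat.ofHom f) (ModuleCat.ofHom g) hzero
  have hS : S.ShortExact := ModuleCat.shortComplex_shortExact S hfg hf hg
  exact clSub_rel P S hS hX hY hZ

theorem cl_subsingleton {X : Type u} [AddCommGroup X] [Module A X] [Subsingleton X]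
    (hX : P (ModuleCat.of A X)) : KZero.clSub P (ModuleCat.of A X) = 0 := by
  have h := cl_ses P (0 : X →ₗ[A] X) (0 : X →ₗ[A] X)
    (fun a b _ => Subsingleton.elim a b) (fun a => ⟨a, Subsingleton.elim _ _⟩)
    (fun a => ⟨fun _ => ⟨a, Subsingleton.elim _ _⟩, fun _ => Subsingleton.elim _ _⟩) hX hX hX
  have : KZero.clSub P (ModuleCat.of A X) + 0 = KZero.clSub P (ModuleCat.of A X) + KZero.clSub P (ModuleCat.of A X) := by
    rw [add_zero]; exact h
  exact (add_left_cancel this).symm

theorem cl_equiv {X Y : Type u} [AddCommGroup X] [Module A X] [AddCommGroup Y] [Module A Y]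
    (e : X ≃ₗ[A] Y) (hX : P (ModuleCat.of A X)) (hY : P (ModuleCat.of A Y))
    (h0 : P (ModuleCat.of A PUnit.{u+1})) :
    KZero.clSub P (ModuleCat.of A X) = KZero.clSub P (ModuleCat.of A Y) := by
  have h := cl_ses P (0 : PUnit.{u+1} →ₗ[A] X) (e : X →ₗ[A] Y)
    (fun a b _ => Subsingleton.elim a b) e.surjective
    (by
      intro a
      constructor
      · intro ha
        refine ⟨PUnit.unit, ?_⟩
        have : a = 0 := e.injective (by simpa using ha)
        simp [this]
      · rintro ⟨_, rfl⟩
        simp) h0 hX hY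
  rw [h, cl_subsingleton P h0, zero_add]

end modules

section pid
variable (A : Type u) [CommRing A] [IsDomain A] [IsPrincipalIdealRing A]

abbrev PF : ObjectProperty (ModuleCat.{u} A) := fun M : ModuleCat.{u} A => Module.Finite A M

theorem pf_of (X : Type u) [AddCommGroup X] [Module A X] [Module.Finite A X] :
    PF A (ModuleCat.of A X) := ‹Module.Finite A X›

/-- the class of a cyclic module is a multiple of `[A]` -/
theorem cl_cyclic (X : Type u) [AddCommGroup X] [Module A X] (x : X)
    (hx : Submodule.span A {x} = ⊤) :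
    KZero.clSub (PF A) (ModuleCat.of A X) ∈ AddSubgroup.zmultiples (KZero.clSub (PF A) (ModuleCat.of A A)) := by
  haveI : Module.Finite A X := ⟨⟨{x}, by simpa using hx⟩⟩
  let g : A →ₗ[A] X := LinearMap.toSpanSingleton A X x
  have hg : Function.Surjective g := by
    intro y
    have hy : y ∈ Submodule.span A {x} := hx ▸ Submodule.mem_top
    obtain ⟨a, rfl⟩ := Submodule.mem_span_singleton.1 hy
    exact ⟨a, rfl⟩
  let I : Ideal A := LinearMap.ker g
  have hses := cl_ses (PF A) I.subtype g Subtype.val_injective hg
    (by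
      intro a
      constructor
      · intro ha; exact ⟨⟨a, ha⟩, rfl⟩
      · rintro ⟨b, rfl⟩; exact b.2)
    (pf_of A I) (pf_of A A) (pf_of A X)
  obtain ⟨b, hb⟩ : ∃ b, I = Ideal.span {b} := (IsPrincipalIdealRing.principal I).principal
  by_cases hb0 : b = 0
  · have hI : I = ⊥ := by rw [hb, hb0]; simp
    haveI : Subsingleton I := by rw [hI]; infer_instance
    rw [cl_subsingleton (PF A) (pf_of A I), zero_add] at hses
    rw [← hses]
    exact AddSubgroup.mem_zmultiples _
  · -- I ≅ A
    let e : A ≃ₗ[A] I := (LinearEquiv.toSpanNonzeroSingleton A A b hb0).trans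
      (LinearEquiv.ofEq _ _ (by rw [hb]))
    have h1 := cl_equiv (PF A) e (pf_of A A) (pf_of A I) (pf_of A PUnit)
    rw [← h1] at hses
    have : KZero.clSub (PF A) (ModuleCat.of A X) = 0 := by
      have h2 : KZero.clSub (PF A) (ModuleCat.of A A) + 0 =
          KZero.clSub (PF A) (ModuleCat.of A A) + KZero.clSub (PF A) (ModuleCat.of A X) := by
        rw [add_zero]; exact hses
      exact (add_left_cancel h2).symm
    rw [this]
    exact zero_mem _

theorem cl_mem (n : ℕ) : ∀ (X : Type u) [AddCommGroup X] [Module A X] (s : Fin n → X)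
    (_ : Submodule.span A (Set.range s) = ⊤),
    KZero.clSub (PF A) (ModuleCat.of A X) ∈ AddSubgroup.zmultiples (KZero.clSub (PF A) (ModuleCat.of A A)) := by
  induction n with
  | zero =>
    intro X _ _ s hs
    haveI : Subsingleton X := by
      have : (⊤ : Submodule A X) = ⊥ := by
        rw [← hs]
        simp [Set.range_eq_empty]
      exact (Submodule.subsingleton_iff A).1 (subsingleton_of_bot_eq_top this.symm)
    haveI : Finite X := Finite.of_subsingleton
    haveI : Module.Finite A X := Module.Finite.of_finite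
    rw [cl_subsingleton (PF A) (pf_of A X)]
    exact zero_mem _
  | succ n ih =>
    intro X _ _ s hs
    haveI : Module.Finite A X := ⟨⟨(Set.finite_range s).toFinset, by simpa using hs⟩⟩
    let N : Submodule A X := Submodule.span A {s 0}
    have hses := cl_ses (PF A) N.subtype N.mkQ Subtype.val_injective (Submodule.mkQ_surjective N)
      (by
        intro a
        rw [Submodule.mkQ_apply, Submodule.Quotient.mk_eq_zero]
        constructor
        · intro ha; exact ⟨⟨a, ha⟩, rfl⟩
        · rintro ⟨b, rfl⟩; exact b.2)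
      (pf_of A N) (pf_of A X) (pf_of A (X ⧸ N))
    rw [hses]
    refine add_mem ?_ ?_
    · refine cl_cyclic A N ⟨s 0, Submodule.mem_span_singleton_self _⟩ ?_
      rw [eq_top_iff]
      rintro ⟨y, hy⟩ -
      obtain ⟨a, rfl⟩ := Submodule.mem_span_singleton.1 hy
      rw [Submodule.mem_span_singleton]
      exact ⟨a, rfl⟩
    · refine ih (X ⧸ N) (fun i => N.mkQ (s i.succ)) ?_
      rw [eq_top_iff]
      intro y _
      obtain ⟨x, rfl⟩ := Submodule.mkQ_surjective N y
      have hx : x ∈ Submodule.span A (Set.range s) := hs ▸ Submodule.mem_top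
      refine Submodule.span_induction ?_ ?_ ?_ ?_ hx
      · rintro _ ⟨i, rfl⟩
        refine Fin.cases ?_ (fun j => ?_) i
        · have : N.mkQ (s 0) = 0 := by
            rw [Submodule.mkQ_apply, Submodule.Quotient.mk_eq_zero]
            exact Submodule.mem_span_singleton_self _
          rw [this]; exact zero_mem _
        · exact Submodule.subset_span ⟨j, rfl⟩
      · rw [map_zero]; exact zero_mem _
      · intro a b _ _ ha hb; rw [map_add]; exact add_mem ha hb
      · intro a b _ hb; rw [map_smul]; exact Submodule.smul_mem _ _ hb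

theorem main : Function.Bijective (fun k : ℤ => k • KZero.clSub (fun M : ModuleCat.{u} A => Module.Finite A M) (ModuleCat.of A A)) := by
  constructor
  · -- injective via rank
    let r : KZero.K0sub (PF A) →+ ℤ := lift (PF A) (fun M => (Module.finrank A M.1 : ℤ)) (by
      intro S h₁ h₂ h₃ hS
      haveI : Module.Finite A S.X₁ := h₁
      haveI : Module.Finite A S.X₂ := h₂
      haveI : Module.Finite A S.X₃ := h₃
      have hinj : Function.Injective S.f.hom := (ModuleCat.mono_iff_injective S.f).1 hS.mono_f
      have hsurj : Function.Surjective S.g.hom := (ModuleCat.epi_iff_surjective S.g).1 hS.epi_g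
      have hex : Function.Exact S.f.hom S.g.hom :=
        (ShortComplex.ShortExact.moduleCat_exact_iff_function_exact S).1 hS.exact
      have h1 := Submodule.finrank_quotient_add_finrank (LinearMap.ker S.g.hom)
      have h4 : Module.finrank A (S.X₂ ⧸ LinearMap.ker S.g.hom) = Module.finrank A S.X₃ :=
        (LinearMap.quotKerEquivOfSurjective S.g.hom hsurj).finrank_eq
      have h2 : LinearMap.ker S.g.hom = LinearMap.range S.f.hom := (LinearMap.exact_iff.1 hex)
      have h3 : Module.finrank A (LinearMap.range S.f.hom) = Module.finrank A S.X₁ :=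
        (LinearEquiv.ofInjective S.f.hom hinj).finrank_eq.symm
      rw [h4, h2, h3] at h1
      show (Module.finrank A S.X₂ : ℤ) = Module.finrank A S.X₁ + Module.finrank A S.X₃
      omega)
    intro k l hkl
    have := congrArg r hkl
    simp only [map_zsmul] at this
    rw [lift_clSub (PF A) _ _ _ (pf_of A A)] at this
    simpa [Module.finrank_self] using this
  · intro x
    have : x ∈ AddSubgroup.zmultiples (KZero.clSub (PF A) (ModuleCat.of A A)) := by
      induction x using K0_induction (PF A) with
      | zero => exact zero_mem _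
      | cl X hX =>
        haveI : Module.Finite A X := hX
        obtain ⟨n, s, hs⟩ := Module.Finite.exists_fin (R := A) (M := X)
        exact cl_mem A n X s hs
      | add x y hx hy => exact add_mem hx hy
      | neg x hx => exact neg_mem hx
    obtain ⟨k, hk⟩ := AddSubgroup.mem_zmultiples_iff.1 this
    exact ⟨k, hk⟩

end pid

end


/-- Let A be a principal ideal domain and K_•(Spec A) = K₀ of the category of finitely generated
A-modules (free abelian group on finitely generated modules modulo short exact sequences). The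
homomorphism ℤ ⟶ K_•(Spec A) sending k to k·[A] is bijective. -/
theorem result (A : Type u) [CommRing A] [IsDomain A] [IsPrincipalIdealRing A] :
    Function.Bijective (fun k : ℤ => k • KZero.clSub (fun M : ModuleCat.{u} A => Module.Finite A M) (ModuleCat.of A A)) := by
  classical
  exact main A

end Groth.Agent.S3194
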