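import Groth.Statements.S3212
import Groth.Agent.Lib.Helper6.SigmaLin.Hyp
import Groth.Agent.Lib.Helper6.SigmaLin.Fixed2

set_option autoImplicit false
universe u v
open SGA7II

namespace Groth.Agent.S3212

/-- Let k be a separably closed field of characteristic p > 0, q = p^r (r >= 1), V a finite-dimensional
k-vector space and phi : V -> V an additive map with phi(c v) = c^q phi(v) (a q-linear
endomorphism). If phi is semisimple, i.e. its image spans V over k, then V has a k-basis consisting
of fixed vectors of phi, and the coordinates of every fixed vector in such a basis satisfy c^q = c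
(so V is obtained from the F_q-space of fixed vectors by extension of scalars). -/
theorem result (k : Type u) [Field k] [IsSepClosed k] (p : ℕ)
    [Fact p.Prime] [CharP k p] (r : ℕ) (hr : 0 < r) (V : Type v) [AddCommGroup V] [Module k V]
    [FiniteDimensional k V] (φ : V →+ V) (hφ : ∀ (c : k) (v : V), φ (c • v) = c ^ (p ^ r) • φ v)
    (hss : Submodule.span k (Set.range φ) = ⊤) :
    ∃ b : Module.Basis (Fin (Module.finrank k V)) k V, (∀ i, φ (b i) = b i) ∧
      ∀ v : V, φ v = v → ∀ i, (b.repr v i) ^ (p ^ r) = b.repr v i := by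
  classical
  let σ : k →+* k := iterateFrobenius k p r
  have hσ : ∀ y, σ y = y ^ (p ^ r) := fun y => rfl
  let T : V →ₛₗ[σ] V :=
    { toFun := φ
      map_add' := φ.map_add
      map_smul' := fun c v => by rw [hφ, hσ] }
  have hT : ∀ v, T v = φ v := fun v => rfl
  have h2 := Groth.Agent.Helper6.SigmaLin.H2_pow p σ r hr hσ
  have h3 := Groth.Agent.Helper6.SigmaLin.H3_pow p σ r hr hσ
  obtain ⟨b, hb⟩ := Groth.Agent.Helper6.SigmaLin.exists_basis_fixed T hss h2 h3
  refine ⟨b, fun i => hb i, ?_⟩
  intro v hv i
  have h1 : T v = ∑ j, σ (b.repr v j) • b j := by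
    conv_lhs => rw [← b.sum_repr v]
    rw [map_sum]
    refine Finset.sum_congr rfl fun j _ => ?_
    rw [LinearMap.map_smulₛₗ, hb j]
  have h4 : b.repr (T v) i = σ (b.repr v i) := by
    rw [h1, b.repr_sum_self]
  rw [hT, hv, hσ] at h4
  exact h4.symm

end Groth.Agent.S3212
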