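import Groth.Statements.S3215
import Groth.Agent.Lib.Helper6.QSplit.QS3

set_option autoImplicit false
universe u
open SGA7II

namespace Groth.Agent.S3215

/-- Let A be a commutative ring and Q(x) = sum over pairs i <= j of a_{ij} x_i x_j a quadratic form in
2m variables on the free module A^{2m} (the source allows a locally free module, which is free
Zariski-locally; the variables indexed by two copies of Fin m, ordered first copy then second),
whose polar bilinear form (matrix entries 2a_{ii} on the diagonal, a_{ij} for i < j) has invertible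
determinant (Q is ordinary). Then there are finitely many etale A-algebras B_t whose spectra jointly
cover Spec A and, over each B_t, an invertible matrix g with Q(g x) = sum_j x_j x_{m+j}, the split
form. -/
theorem result (A : Type u) [CommRing A] (m : ℕ)
    (a : (Fin m ⊕ Fin m) → (Fin m ⊕ Fin m) → A) :
    let rk : Fin m ⊕ Fin m → ℕ := Sum.elim Fin.val (fun k => m + k.val)
    let QB : ∀ (B : Type u) [CommRing B] [Algebra A B], ((Fin m ⊕ Fin m) → B) → B :=
      fun B _ _ x => ∑ i, ∑ j, if rk i ≤ rk j then algebraMap A B (a i j) * x i * x j else 0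
    IsUnit (Matrix.det (Matrix.of fun i j : Fin m ⊕ Fin m =>
      if i = j then a i i + a i i else if rk i ≤ rk j then a i j else a j i)) →
    ∃ (n : ℕ) (B : Fin n → Type u) (_ : ∀ t, CommRing (B t)) (_ : ∀ t, Algebra A (B t)),
      (∀ t, Algebra.Etale A (B t)) ∧
      (∀ p : PrimeSpectrum A, ∃ (t : Fin n) (q : PrimeSpectrum (B t)),
        q.asIdeal.comap (algebraMap A (B t)) = p.asIdeal) ∧
      ∀ t, ∃ g : Matrix (Fin m ⊕ Fin m) (Fin m ⊕ Fin m) (B t), IsUnit g.det ∧
        ∀ x : Fin m ⊕ Fin m → B t, QB (B t) (g.mulVec x) = ∑ j : Fin m, x (Sum.inl j) * x (Sum.inr j) := by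
  intro rk QB hdet
  have hrk : Function.Injective rk := by
    rintro (i | i) (j | j) h
    · have h' : i.val = j.val := h
      rw [Fin.ext h']
    · have h' : i.val = m + j.val := h
      have := i.isLt
      omega
    · have h' : m + i.val = j.val := h
      have := j.isLt
      omega
    · have h' : m + i.val = m + j.val := h
      have h'' : i.val = j.val := by omega
      rw [Fin.ext h'']
  obtain ⟨c, hc⟩ : ∃ c : Matrix (Fin m ⊕ Fin m) (Fin m ⊕ Fin m) A,
      c = Matrix.of fun i j => if rk i ≤ rk j then a i j else 0 := ⟨_, rfl⟩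
  have hpol : c + c.transpose = Matrix.of fun i j : Fin m ⊕ Fin m =>
      if i = j then a i i + a i i else if rk i ≤ rk j then a i j else a j i := by
    ext i j
    rw [hc]
    simp only [Matrix.add_apply, Matrix.transpose_apply, Matrix.of_apply]
    by_cases hij : i = j
    · subst hij
      simp
    · have hne : rk i ≠ rk j := fun e => hij (hrk e)
      by_cases hle : rk i ≤ rk j
      · have hnle : ¬ rk j ≤ rk i := by omega
        simp [hij, hle, hnle]
      · have hle' : rk j ≤ rk i := by omega
        simp [hij, hle, hle']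
  have hcu : IsUnit (c + c.transpose).det := by rw [hpol]; exact hdet
  obtain ⟨n, B, iCR, iAlg, hEt, hcov, hg⟩ :=
    Groth.Agent.Lib.Helper6.QSplit.exists_cover_split m c hcu
  refine ⟨n, B, iCR, iAlg, hEt, hcov, ?_⟩
  intro t
  obtain ⟨g, hgdet, hgQ⟩ := hg t
  refine ⟨g, hgdet, fun x => ?_⟩
  obtain ⟨v, hv⟩ : ∃ v, v = g.mulVec x := ⟨_, rfl⟩
  rw [← hgQ x, ← hv]
  show (∑ i, ∑ j, if rk i ≤ rk j then algebraMap A (B t) (a i j) * v i * v j else 0) = _
  rw [Groth.Agent.Lib.Helper6.QSplit.Qf, dotProduct]
  apply Finset.sum_congr rfl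
  intro i _
  rw [Matrix.mulVec, dotProduct, Finset.mul_sum]
  apply Finset.sum_congr rfl
  intro j _
  rw [hc]
  simp only [Matrix.map_apply, Matrix.of_apply]
  split_ifs
  · ring
  · simp

end Groth.Agent.S3215
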