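import Groth.Statements.S3243
import Mathlib
import Groth.Prelude.Def_Dix
import Groth.Prelude.Def_EtBase
import Groth.Agent.Lib.Helper9.FE.TorsD
import Groth.Agent.Lib.Helper9.FE.TorsF
-- import your own Groth.Agent.* helpers here

set_option autoImplicit false
universe u
open CategoryTheory AlgebraicGeometry
open Dix

namespace Groth.Agent.S3243

open CategoryTheory CategoryTheory.Limits AlgebraicGeometry Opposite Abelian
namespace Aux
set_option backward.isDefEq.respectTransparency false
set_option linter.style.haveILetI false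
set_option linter.unusedSectionVars false

open H9FE.EtHColim Groth.Agent.Lib.Helper5.ExtAdjAcyc

theorem main (X : Scheme.{u}) [CompactSpace X] [QuasiSeparatedSpace X] (x : X) (M : Type)
    [AddCommGroup M] [IsAddTorsionFree M] :
    Subsingleton (EtCoh.H X ((Dix.skyPush X x).obj
      (EtCoh.const (Spec (X.residueField x)) M)) 1) := by
  let f := X.fromSpecResidueField x
  let A : AddCommGrpCat.{u + 1} := AddCommGrpCat.of (ULift.{u + 1} M)
  have hA : ∀ m : ℕ, 0 < m → Function.Injective (fun a : A => m • a) := by
    intro m hm a b hab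
    have h1 : m • (ULift.down a) = m • (ULift.down b) := congrArg ULift.down hab
    exact ULift.ext _ _ (IsAddTorsionFree.nsmul_right_injective hm.ne' h1)
  haveI hsub : Subsingleton (EtCoh.H (Spec (X.residueField x))
      (EtCoh.const (Spec (X.residueField x)) M) 1) :=
    H9FE.TorsF.H1_const_subsingleton (X.residueField x) A hA
  have hinj := H9FE.TorsD.Φ_injective_one (EtCoh.pullPushAdj f) (ZZ X)
    (EtCoh.const (Spec (X.residueField x)) M)
  have key : ∀ z : Ext ((EtCoh.pull f).obj (ZZ X)) (EtCoh.const (Spec (X.residueField x)) M) 1,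
      z = 0 := by
    intro z
    have h1 : (Ext.mk₀ (EtCore.pullConst f ℤ).inv).comp z (zero_add 1) = 0 :=
      hsub.elim _ _
    have h2 : (Ext.mk₀ (EtCore.pullConst f ℤ).hom).comp
        ((Ext.mk₀ (EtCore.pullConst f ℤ).inv).comp z (zero_add 1)) (zero_add 1) = 0 := by
      rw [h1, Ext.comp_zero]
    rw [← Ext.comp_assoc_of_second_deg_zero, Ext.mk₀_comp_mk₀, Iso.hom_inv_id,
      Ext.mk₀_id_comp] at h2
    exact h2
  exact ⟨fun a b => hinj ((key _).trans (key _).symm)⟩

end Aux

/-- Let X be quasi-compact and quasi-separated, x a point of X and M a torsion-free abelian group, M_x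
the constant sheaf on Spec κ(x). Then H¹(X_ét, i_{x*} M_x) = 0. -/
theorem result (X : Scheme.{u}) [CompactSpace X] [QuasiSeparatedSpace X] (x : X) (M : Type) [AddCommGroup M] [IsAddTorsionFree M] : Subsingleton (EtCoh.H X ((Dix.skyPush X x).obj (EtCoh.const (Spec (X.residueField x)) M)) 1) := by
  exact Aux.main X x M

end Groth.Agent.S3243
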