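import Groth.Statements.S3244
import Mathlib
import Groth.Prelude.Def_Dix
import Groth.Prelude.Def_EtBase
import Groth.Prelude.Def_EtGm
import Groth.Agent.S0108
-- import your own Groth.Agent.* helpers here

set_option autoImplicit false
universe u
open CategoryTheory AlgebraicGeometry
open Dix

namespace Groth.Agent.S3244

open CategoryTheory CategoryTheory.Limits AlgebraicGeometry Opposite
namespace Aux

set_option backward.isDefEq.respectTransparency false

lemma isUnit_of_invertibleOn (X : Scheme.{u}) (n : ℕ) (hX : Dix.InvertibleOn X n) :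
    IsUnit (n : Γ(X, ⊤)) := by
  apply X.toRingedSpace.isUnit_of_isUnit_germ ⊤
  intro x hx
  have h1 : (x : X) ∈ X.basicOpen (n : Γ(X, ⊤)) := by
    rw [← X.evaluation_ne_zero_iff_mem_basicOpen x hx, map_natCast]
    exact hX x
  exact (X.mem_basicOpen _ x hx).1 h1

theorem main (X : Scheme.{u}) (n : ℕ) (hn : 0 < n) (hX : Dix.InvertibleOn X n) (i : ℕ)
    (hi : 1 ≤ i) :
    Set.range ⇑((EtCoh.HF X i).map (EtCoh.muι X n)) =
      {ξ : (EtCoh.HF X i).obj (EtCoh.Gm X) | n • ξ = 0} := by
  haveI : (EtCoh.HF X i).Additive := by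
    unfold EtCoh.HF
    infer_instance
  haveI : Epi (EtCoh.powMap X n) := Groth.Agent.S0108.result X n (isUnit_of_invertibleOn X n hX)
  let S : ShortComplex (EtCoh.Ab X) :=
    ShortComplex.mk (EtCoh.muι X n) (EtCoh.powMap X n) (kernel.condition _)
  have hS : S.ShortExact :=
    { exact := ShortComplex.exact_of_f_is_kernel _ (kernelIsKernel _)
      mono_f := inferInstanceAs (Mono (kernel.ι (EtCoh.powMap X n)))
      epi_g := inferInstanceAs (Epi (EtCoh.powMap X n)) }
  have hex := fun ξ h => Abelian.Ext.covariant_sequence_exact₂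
    ((constantSheaf X.smallEtaleTopology AddCommGrpCat.{u + 1}).obj
      (AddCommGrpCat.of (ULift.{u + 1} ℤ))) hS (n := i) ξ h
  have hpow : ∀ ξ : (EtCoh.HF X i).obj (EtCoh.Gm X),
      (EtCoh.HF X i).map (EtCoh.powMap X n) ξ = n • ξ := by
    intro ξ
    have h1 : (EtCoh.HF X i).map (EtCoh.powMap X n) = n • 𝟙 _ := by
      change (EtCoh.HF X i).map (n • 𝟙 (EtCoh.Gm X)) = _
      rw [Functor.map_nsmul, CategoryTheory.Functor.map_id]
    rw [h1]
    rfl
  ext ξ
  constructor
  · rintro ⟨ζ, rfl⟩
    change n • _ = 0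
    rw [← hpow, ← ConcreteCategory.comp_apply, ← Functor.map_comp]
    have : EtCoh.muι X n ≫ EtCoh.powMap X n = 0 := kernel.condition _
    rw [this, Functor.map_zero]
    rfl
  · intro hξ
    change n • ξ = 0 at hξ
    rw [← hpow] at hξ
    exact hex ξ hξ

end Aux

/-- Kummer theory at finite level: let n > 0 be an integer invertible on the scheme X (nonzero in every
residue field). Then for every i ≥ 1 the image of H^i(X_ét, μ_n) → H^i(X_ét, G_m), induced by the
inclusion μ_n → G_m, is exactly the subgroup of elements of H^i(X_ét, G_m) killed by n; in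
particular H²(X_ét, μ_n) maps onto the n-torsion of the cohomological Brauer group H²(X_ét, G_m).
(The published statement gives exact sequences obtained as the colimit of these over the powers n =
ℓ^m of a prime ℓ.) -/
theorem result (X : Scheme.{u}) (n : ℕ) (hn : 0 < n) (hX : Dix.InvertibleOn X n) (i : ℕ) (hi : 1 ≤ i) : Set.range ⇑((EtCoh.HF X i).map (EtCoh.muι X n)) = {ξ : (EtCoh.HF X i).obj (EtCoh.Gm X) | n • ξ = 0} := by
  exact Aux.main X n hn hX i hi

end Groth.Agent.S3244
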