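import Groth.Statements.S3245
import Mathlib
import Groth.Agent.Lib.Helper8.AzFibre

set_option autoImplicit false
universe u
open TensorProduct
open Dix

namespace Groth.Agent.S3245

/-- (i) ⇔ (ii) over a local base: let R be a local ring with residue field k and A an R-algebra which is
finite and free as an R-module and nonzero. Then A is an Azumaya R-algebra (A ⊗_R A° → End_R(A)
bijective) if and only if k ⊗_R A is a central simple k-algebra. -/
theorem result (R : Type u) [CommRing R] [IsLocalRing R] (A : Type u) [Ring A] [Algebra R A] [Module.Finite R A] [Module.Free R A] [Nontrivial A] : IsAzumaya R A ↔ (Algebra.IsCentral (IsLocalRing.ResidueField R) ((IsLocalRing.ResidueField R) ⊗[R] A) ∧ IsSimpleRing ((IsLocalRing.ResidueField R) ⊗[R] A)) := by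
  constructor
  · intro hA
    exact Groth.Agent.Helper8.fibre_csa_of_isAzumaya R A (IsLocalRing.ResidueField R)
  · rintro ⟨h1, h2⟩
    exact Groth.Agent.Helper8.isAzumaya_of_closedFibre_csa R A

end Groth.Agent.S3245
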