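import Groth.Statements.S3248
import Mathlib
import Groth.Agent.Lib.Helper8.CSA

set_option autoImplicit false
universe u
open TensorProduct
open Dix

namespace Groth.Agent.S3248

/-- Stated for a commutative subalgebra: let A be a central simple algebra of dimension r² over a field
k and L a commutative k-algebra embedded in A by an injective k-algebra homomorphism ι, such that A
is free of rank r for the right L-module structure a · l = a ι(l) (given here as a module structure
together with that compatibility). Then L ⊗_k A is isomorphic as an L-algebra to the matrix algebra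
M_r(L). (Only the existence of an isomorphism is stated; the text names the map a ⊗ l ↦ (y ↦ a y
l).) -/
theorem result (k : Type u) [Field k] (A : Type u) [Ring A] [Algebra k A] [Algebra.IsCentral k A] [IsSimpleRing A] [FiniteDimensional k A] (L : Type u) [CommRing L] [Algebra k L] (ι : L →ₐ[k] A) (hι : Function.Injective ι) [Module L A] (hmod : ∀ (l : L) (a : A), l • a = a * ι l) [Module.Free L A] (r : ℕ) (hr : 0 < r) (hA : Module.finrank k A = r ^ 2) (hrank : Module.finrank L A = r) : Nonempty ((L ⊗[k] A) ≃ₐ[L] Matrix (Fin r) (Fin r) L) := by
  classical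
  haveI : SMulCommClass k L A := ⟨fun c l a => by rw [hmod, hmod, smul_mul_assoc]⟩
  haveI : SMulCommClass L k A := ⟨fun l c a => by rw [hmod, hmod, smul_mul_assoc]⟩
  haveI : IsScalarTower k L A := ⟨fun c l a => by rw [hmod, hmod, map_smul, mul_smul_comm]⟩
  haveI : FiniteDimensional k L := FiniteDimensional.of_injective ι.toLinearMap hι
  haveI : Nontrivial A := inferInstance
  haveI : Nontrivial L := ⟨⟨0, 1, fun h => by
    have := congrArg ι h
    simp at this⟩⟩
  haveI : Module.Finite L A := Module.Finite.of_restrictScalars_finite k L A
  -- left multiplication as an `L`-linear endomorphism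
  let g : A →ₐ[k] Module.End L A :=
    { toFun := fun a =>
        { toFun := fun y => a * y
          map_add' := mul_add a
          map_smul' := fun l y => by simp only [RingHom.id_apply, hmod, mul_assoc] }
      map_one' := by ext y; simp
      map_mul' := fun a b => by ext y; simp [mul_assoc]
      map_zero' := by ext y; simp
      map_add' := fun a b => by ext y; simp [add_mul]
      commutes' := fun c => by
        ext y
        simp [Algebra.algebraMap_eq_smul_one] }
  let Θ : L ⊗[k] A →ₐ[L] Module.End L A :=
    Algebra.TensorProduct.lift (Algebra.ofId L (Module.End L A)) g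
      (fun l a => by
        rw [Algebra.ofId_apply]
        exact Algebra.commute_algebraMap_left l (g a))
  have hΘ : ∀ (l : L) (a : A) (y : A), Θ (l ⊗ₜ[k] a) y = a * y * ι l := by
    intro l a y
    show (Algebra.TensorProduct.lift (Algebra.ofId L (Module.End L A)) g _ (l ⊗ₜ[k] a)) y = _
    rw [Algebra.TensorProduct.lift_tmul, Module.End.mul_apply, Algebra.ofId_apply,
      Module.algebraMap_end_apply, hmod]
    rfl
  -- injectivity through the ideal structure of `A ⊗ L`
  let Θ' : A ⊗[k] L →ₐ[k] Module.End L A :=
    (Θ.restrictScalars k).comp (Algebra.TensorProduct.comm k A L).toAlgHom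
  have hΘ' : ∀ (a : A) (l : L) (y : A), Θ' (a ⊗ₜ[k] l) y = a * y * ι l := by
    intro a l y
    simp [Θ', hΘ]
  have hinj' : Function.Injective Θ' := by
    by_contra hne
    have hker : TwoSidedIdeal.ker Θ'.toRingHom ≠ ⊥ := by
      intro hbot
      apply hne
      rw [injective_iff_map_eq_zero]
      intro z hz
      have : z ∈ TwoSidedIdeal.ker Θ'.toRingHom := by
        rw [TwoSidedIdeal.mem_ker]
        exact hz
      rw [hbot, TwoSidedIdeal.mem_bot] at this
      exact this
    obtain ⟨l, hl0, hl⟩ := Groth.Agent.Helper8.exists_one_tmul_mem_of_ne_bot _ hker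
    rw [TwoSidedIdeal.mem_ker] at hl
    have h1 : Θ' ((1 : A) ⊗ₜ[k] l) 1 = ι l := by
      rw [hΘ', one_mul, one_mul]
    have h2 : Θ' ((1 : A) ⊗ₜ[k] l) = 0 := hl
    rw [h2, LinearMap.zero_apply] at h1
    exact hl0 (hι (by rw [← h1, map_zero]))
  have hinj : Function.Injective Θ := by
    intro x y hxy
    have hx : x = (Algebra.TensorProduct.comm k A L) ((Algebra.TensorProduct.comm k A L).symm x) :=
      ((Algebra.TensorProduct.comm k A L).apply_symm_apply x).symm
    have hy : y = (Algebra.TensorProduct.comm k A L) ((Algebra.TensorProduct.comm k A L).symm y) :=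
      ((Algebra.TensorProduct.comm k A L).apply_symm_apply y).symm
    have : Θ' ((Algebra.TensorProduct.comm k A L).symm x) =
        Θ' ((Algebra.TensorProduct.comm k A L).symm y) := by
      simp only [Θ', AlgHom.comp_apply, AlgEquiv.coe_toAlgHom, AlgEquiv.apply_symm_apply,
        AlgHom.restrictScalars_apply]
      exact hxy
    rw [hx, hy, hinj' this]
  -- dimension count
  let b : Module.Basis (Fin r) L A := Module.finBasisOfFinrankEq L A hrank
  let eM : Module.End L A ≃ₐ[L] Matrix (Fin r) (Fin r) L := algEquivMatrix b
  haveI : FiniteDimensional k (Module.End L A) :=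
    Module.Finite.equiv (eM.toLinearEquiv.restrictScalars k).symm
  have hdim : Module.finrank k (L ⊗[k] A) = Module.finrank k (Module.End L A) := by
    rw [(eM.toLinearEquiv.restrictScalars k).finrank_eq, Module.finrank_matrix,
      Module.finrank_tensorProduct, hA]
    simp only [Fintype.card_fin]
    ring
  have hsurj : Function.Surjective Θ :=
    (LinearMap.injective_iff_surjective_of_finrank_eq_finrank
      (f := (Θ.restrictScalars k).toLinearMap) hdim).mp hinj
  exact ⟨(AlgEquiv.ofBijective Θ ⟨hinj, hsurj⟩).trans eM⟩

end Groth.Agent.S3248
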