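import Groth.Statements.S3259
import Mathlib
import Groth.Agent.Lib.Lead.SpreadK3

set_option autoImplicit false
universe u
open AlgebraicGeometry CategoryTheory CategoryTheory.Limits
open ArSurf

namespace Groth.Agent.S3259

/-- Let R be a Dedekind domain with fraction field K and C a smooth projective curve over K (smooth,
proper, of dimension 1, admitting a closed immersion into some P^n_K). Then there are a non-empty
open subscheme U of Spec R containing the generic point and a smooth proper morphism 𝒞 -> U whose
fibre over the generic point is K-isomorphic to C. In particular C has good reduction at every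
closed point of U, that is, at all but finitely many closed points. (Stated in the form the
published proof gives.) -/
theorem result {R : Type u} [CommRing R] [IsDedekindDomain R]
    (C : Over (Spec (CommRingCat.of (FractionRing R)))) [Smooth C.hom] [IsProper C.hom]
    (hdim : topologicalKrullDim C.left = 1) (hproj : Neron.IsProjectiveOver (FractionRing R) C) :
    ∃ (U : (Spec (CommRingCat.of R)).Opens) (ξ : Spec (CommRingCat.of (FractionRing R)) ⟶ (U : Scheme.{u}))
      (𝒞 : Scheme.{u}) (π : 𝒞 ⟶ (U : Scheme.{u})),
      ξ ≫ U.ι = Neron.genPt R ∧ Smooth π ∧ IsProper π ∧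
      Nonempty (Over.mk (pullback.snd π ξ) ≅ C) := by
  classical
  obtain ⟨n, ι, hci, hι⟩ := hproj
  haveI := hci
  obtain ⟨m, 𝒞, π, e, hsm, hpr, hpb⟩ := Groth.Agent.Lead.SpreadK.spread_out R C n ι hι
  refine ⟨Groth.Agent.Lead.SpreadK.opn R m, Groth.Agent.Lead.SpreadK.gKa R m, 𝒞, π,
    Groth.Agent.Lead.SpreadK.gKa_ι R m, hsm, hpr, ?_⟩
  refine ⟨Over.isoMk hpb.isoPullback.symm ?_⟩
  exact hpb.isoPullback_inv_snd

end Groth.Agent.S3259
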