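import Groth.Statements.S3322
import Mathlib
import Mathlib
import Groth.Agent.S3321
import Groth.Agent.S2209
import Groth.Agent.Lib.Helper1.GenF3

set_option autoImplicit false
universe u
open CategoryTheory CategoryTheory.Limits AlgebraicGeometry
open Models

namespace Groth.Agent.S3322

/-- In the following situation (R a discrete valuation ring with residue field k, C a smooth proper
curve over its fraction field K with H^0(C, O_C) = K, X a regular proper model, Γ_1, …, Γ_n the
irreducible components of the closed fibre with multiplicities m_i, L_i ⊗ I(Γ_i) ≅ O_X) the data n,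
m_i, a_ij = (Γ_i · Γ_j) = deg_k(L_j|Γ_i), w_i = dim_k H^0(Γ_i, O) and g_i with w_i g_i = dim_k
H^1(Γ_i, O) is a numerical type (n > 0, m_i > 0, (a_ij) symmetric with non-negative off-diagonal
entries, connected, killing m, w_i | a_ij, g_i ≥ 0), and its genus is the genus dim_K H^1(C, O_C) of
C. -/
theorem result (R : Type u) [CommRing R] [IsDomain R] [IsDiscreteValuationRing R]
    (C X : Scheme.{u}) (f : C ⟶ Spec (CommRingCat.of (FractionRing R))) (p : X ⟶ Spec (CommRingCat.of R))
    (hC : Curve.IsSmoothProperCurve (FractionRing R) C f) (hH0 : IsIso f.appTop)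
    (hX : Models.IsRegularProperModel R X p C f)
    {n : ℕ} (Γ : Fin n → ArSurf.VertComp R (Over.mk p)) (hΓ : Models.IsComponentList R (Over.mk p) Γ)
    (L : Fin n → X.Modules) (hL : ∀ i, ClSub.IsInverseOf (L i) (ClSub.idealMod (Γ i).ι.ker)) :
    ∃ T : Models.NumericalType n,
      (∀ i, T.m i = (Models.mult R (Over.mk p) (Γ i) : ℤ)) ∧ (∀ i j, T.a i j = ArSurf.inter R (Over.mk p) (L j) (Γ i)) ∧
      (∀ i, T.w i = (Models.wdeg R (Over.mk p) (Γ i) : ℤ)) ∧
      (∀ i, T.w i * T.g i = (Models.h1 R (Over.mk p) (Γ i) : ℤ)) ∧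
      T.genus = (Models.curveGenus (FractionRing R) C f : ℤ) := by
  classical
  obtain ⟨⟨hflat, hlft, hqc, g', H⟩, hp, hreg⟩ := id hX
  haveI := hlft
  haveI := hp
  haveI : Flat p := hflat
  haveI : IsLocallyNoetherian (Over.mk p).left :=
    LocallyOfFiniteType.isLocallyNoetherian (Y := Spec (CommRingCat.of R)) p
  haveI : Flat (Over.mk p).hom := hflat
  have hinj := hΓ.1
  have hcov := Groth.Agent.Helper1.SpFib.cover_of_isComponentList R (Over.mk p) Γ hΓ
  have hconn : ConnectedSpace ↥(Models.specialFibre R (Over.mk p).left (Over.mk p).hom) :=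
    Groth.Agent.S2209.result R C X f p hC hH0 hX
  have hgen := Groth.Agent.S3321.result R C X f p hC hH0 hX Γ hΓ L hL
  have hc : ∀ i j, ArSurf.inter R (Over.mk p) (L i) (Γ j) =
      ArSurf.inter R (Over.mk p) (L j) (Γ i) := by
    intro i j
    by_cases hij : i = j
    · subst hij
      rfl
    · exact Groth.Agent.Helper1.ArInt.inter_symm R (Over.mk p) hp (Γ j) (Γ i)
        (fun e => hij (hinj e).symm) (L j) (L i) (hL j) (hL i)
  have hwpos : ∀ i, 0 < Models.wdeg R (Over.mk p) (Γ i) := fun i =>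
    Groth.Agent.Helper1.GenF.wdeg_pos R (Over.mk p) hp (Γ i)
  have hwh : ∀ i, Models.wdeg R (Over.mk p) (Γ i) ∣ Models.h1 R (Over.mk p) (Γ i) := fun i =>
    Groth.Agent.Helper1.GenF.wdeg_dvd_h1 R (Over.mk p) hp (Γ i)
  have hwg : ∀ i, (Models.wdeg R (Over.mk p) (Γ i) : ℤ) *
      ((Models.h1 R (Over.mk p) (Γ i) / Models.wdeg R (Over.mk p) (Γ i) : ℕ) : ℤ) =
      (Models.h1 R (Over.mk p) (Γ i) : ℤ) := fun i => by
    exact_mod_cast Nat.mul_div_cancel' (hwh i)
  have hsum : ∀ i, ∑ j, (Models.mult R (Over.mk p) (Γ j) : ℤ) *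
      ArSurf.inter R (Over.mk p) (L j) (Γ i) = 0 := fun i =>
    Groth.Agent.Helper1.SpFib.sum_mult_mul_inter_eq_zero R (Over.mk p) hp hreg Γ hinj hcov L hL i
  refine ⟨{ m := fun i => (Models.mult R (Over.mk p) (Γ i) : ℤ)
            a := Matrix.of fun i j => ArSurf.inter R (Over.mk p) (L j) (Γ i)
            w := fun i => (Models.wdeg R (Over.mk p) (Γ i) : ℤ)
            g := fun i => ((Models.h1 R (Over.mk p) (Γ i) /
              Models.wdeg R (Over.mk p) (Γ i) : ℕ) : ℤ)
            pos := Groth.Agent.Helper1.GenF.pos_of_connected R (Over.mk p) hconn Γ hcov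
            m_pos := fun i => Int.natCast_pos.2 (Nat.pos_of_ne_zero
              (Groth.Agent.Helper1.SpFib.mult_ne_zero R (Over.mk p) hreg Γ hinj hcov i))
            w_pos := fun i => Int.natCast_pos.2 (hwpos i)
            g_nonneg := fun i => Int.natCast_nonneg _
            symm := Matrix.IsSymm.ext (fun i j => hc i j)
            offDiag_nonneg := ?_
            connected := ?_
            mulVec_m := ?_
            w_dvd := fun i j =>
              Groth.Agent.Helper1.GenF.wdeg_dvd_inter R (Over.mk p) hp (Γ i) (L j) },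
    fun i => rfl, fun i j => rfl, fun i => rfl, fun i => hwg i, ?_⟩
  · intro i j hij
    have hne : Set.range (Γ i).ι.base ≠ Set.range (Γ j).ι.base := fun e => hij (hinj e)
    exact (Groth.Agent.Helper1.ArInt.inter_nonneg_and_eq_zero_iff R (Over.mk p) hp (Γ i)
      (Γ j).ι.ker
      (Groth.Agent.Helper1.ArInt.isInvertible_idealMod_of_isInverseOf R (Over.mk p) _ (L j)
        (hL j)) (L j) (hL j)
      (Groth.Agent.Helper1.ArInt.genPt_notMem R (Over.mk p) (Γ i) (Γ j) hne)).1
  · intro I hI hI'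
    exact Groth.Agent.Helper1.GenF.exists_inter_ne_zero R (Over.mk p) hp hconn Γ hinj hcov L hL
      I hI hI'
  · funext i
    show ∑ j, ArSurf.inter R (Over.mk p) (L j) (Γ i) *
      (Models.mult R (Over.mk p) (Γ j) : ℤ) = 0
    rw [← hsum i]
    exact Finset.sum_congr rfl (fun j _ => mul_comm _ _)
  · have hS : ∑ i, (Models.mult R (Over.mk p) (Γ i) : ℤ) *
        (Models.wdeg R (Over.mk p) (Γ i) : ℤ) *
        (((Models.h1 R (Over.mk p) (Γ i) / Models.wdeg R (Over.mk p) (Γ i) : ℕ) : ℤ) - 1) =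
        ∑ i, (Models.mult R (Over.mk p) (Γ i) : ℤ) *
          ((Models.h1 R (Over.mk p) (Γ i) : ℤ) - (Models.wdeg R (Over.mk p) (Γ i) : ℤ)) :=
      Finset.sum_congr rfl (fun i _ => by rw [← hwg i]; ring)
    have hsplit : ∑ i, (Models.mult R (Over.mk p) (Γ i) : ℤ) *
        (2 * ((Models.h1 R (Over.mk p) (Γ i) : ℤ) - (Models.wdeg R (Over.mk p) (Γ i) : ℤ)) -
          ArSurf.inter R (Over.mk p) (L i) (Γ i)) =
        2 * ∑ i, (Models.mult R (Over.mk p) (Γ i) : ℤ) *
          ((Models.h1 R (Over.mk p) (Γ i) : ℤ) - (Models.wdeg R (Over.mk p) (Γ i) : ℤ)) -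
        ∑ i, (Models.mult R (Over.mk p) (Γ i) : ℤ) * ArSurf.inter R (Over.mk p) (L i) (Γ i) := by
      rw [Finset.mul_sum, ← Finset.sum_sub_distrib]
      exact Finset.sum_congr rfl (fun i _ => by ring)
    have hE : ∑ i, (Models.mult R (Over.mk p) (Γ i) : ℤ) *
        ArSurf.inter R (Over.mk p) (L i) (Γ i) =
        2 * (1 + ∑ i, (Models.mult R (Over.mk p) (Γ i) : ℤ) *
          ((Models.h1 R (Over.mk p) (Γ i) : ℤ) - (Models.wdeg R (Over.mk p) (Γ i) : ℤ)) -
          (Models.curveGenus (FractionRing R) C f : ℤ)) := by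
      rw [hsplit] at hgen
      linarith
    show 1 + (∑ i, (Models.mult R (Over.mk p) (Γ i) : ℤ) *
        (Models.wdeg R (Over.mk p) (Γ i) : ℤ) *
        (((Models.h1 R (Over.mk p) (Γ i) / Models.wdeg R (Over.mk p) (Γ i) : ℕ) : ℤ) - 1)) -
      (∑ i, (Models.mult R (Over.mk p) (Γ i) : ℤ) *
        ArSurf.inter R (Over.mk p) (L i) (Γ i)) / 2 =
      (Models.curveGenus (FractionRing R) C f : ℤ)
    rw [hS, hE, Int.mul_ediv_cancel_left _ (by norm_num : (2 : ℤ) ≠ 0)]
    ring

end Groth.Agent.S3322
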