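import Groth.Statements.S3323
import Mathlib
import Mathlib
import Groth.Agent.Lib.Helper1.GenF7
import Groth.Agent.Lib.Helper1.PicV6

set_option autoImplicit false
universe u
open CategoryTheory CategoryTheory.Limits AlgebraicGeometry
open Models

namespace Groth.Agent.S3323

/-- In the following situation (R a discrete valuation ring with residue field k, C a smooth proper
curve over its fraction field K with H^0(C, O_C) = K, X a regular proper model, Γ_1, …, Γ_n the
irreducible components of the closed fibre with multiplicities m_i) let d = gcd(m_1, …, m_n) and let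
D be the effective Cartier divisor Σ (m_i/d) Γ_i. Then there is a chain of effective Cartier
divisors Σ Γ_i = Z_0 ⊂ Z_1 ⊂ ⋯ ⊂ Z_s = D, each obtained from the previous one by adding a single
Γ_i, such that for every j the ring H^0(Z_j, O_{Z_j}) is a field, finite over R (equivalently over
k). Divisors are written through their ideal sheaves Π I(Γ_i)^{a_i}. -/
theorem result (R : Type u) [CommRing R] [IsDomain R] [IsDiscreteValuationRing R]
    (C X : Scheme.{u}) (f : C ⟶ Spec (CommRingCat.of (FractionRing R))) (p : X ⟶ Spec (CommRingCat.of R))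
    (hC : Curve.IsSmoothProperCurve (FractionRing R) C f) (hH0 : IsIso f.appTop)
    (hX : Models.IsRegularProperModel R X p C f)
    {n : ℕ} (Γ : Fin n → ArSurf.VertComp R (Over.mk p)) (hΓ : Models.IsComponentList R (Over.mk p) Γ) :
    ∃ (s : ℕ) (a : Fin (s + 1) → Fin n → ℕ), (a 0 = fun _ => 1) ∧
      (a (Fin.last s) = fun i => Models.mult R (Over.mk p) (Γ i) / Models.multGcd R (Over.mk p) Γ) ∧
      (∀ j : Fin s, ∃ i, a j.succ = a j.castSucc + Pi.single i 1) ∧
      ∀ j, IsField ↑(Γ((∏ i, (Γ i).ι.ker ^ a j i).subscheme, ⊤)) ∧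
        (((∏ i, (Γ i).ι.ker ^ a j i).subschemeι ≫ p).appTop.hom.comp
          (Scheme.ΓSpecIso (CommRingCat.of R)).inv.hom).Finite := by
  classical
  obtain ⟨⟨hflat, hlft, hqc, g', H⟩, hp, hreg⟩ := id hX
  haveI := hlft
  haveI := hp
  haveI : Flat p := hflat
  haveI : IsLocallyNoetherian (Over.mk p).left :=
    LocallyOfFiniteType.isLocallyNoetherian (Y := Spec (CommRingCat.of R)) p
  haveI : Flat (Over.mk p).hom := hflat
  haveI : IsProper p := hp
  have hinj := hΓ.1
  have hcov := Groth.Agent.Helper1.SpFib.cover_of_isComponentList R (Over.mk p) Γ hΓ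
  obtain ⟨L, hL⟩ := Groth.Agent.Helper1.PicV.exists_inverse_family R (Over.mk p) hreg Γ hinj hcov
  have hdvd : ∀ j, Models.multGcd R (Over.mk p) Γ ∣ Models.mult R (Over.mk p) (Γ j) := fun j =>
    Finset.gcd_dvd (f := fun i => Models.mult R (Over.mk p) (Γ i)) (Finset.mem_univ j)
  have hde : ∀ j, Models.multGcd R (Over.mk p) Γ *
      (Models.mult R (Over.mk p) (Γ j) / Models.multGcd R (Over.mk p) Γ) =
      Models.mult R (Over.mk p) (Γ j) := fun j => Nat.mul_div_cancel' (hdvd j)
  obtain ⟨s, a, h0, hlast, hsucc, hP⟩ :=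
    Groth.Agent.Helper1.GenF.exists_field_chain R C X f p hC hH0 hX Γ hΓ L hL
      (fun j => Models.mult R (Over.mk p) (Γ j) / Models.multGcd R (Over.mk p) Γ)
      (Models.multGcd R (Over.mk p) Γ) rfl hde
  exact ⟨s, a, h0, hlast, hsucc, fun j => ⟨hP j,
    Groth.Agent.Helper1.GenF.finite_subscheme R p (∏ i, (Γ i).ι.ker ^ a j i)⟩⟩

end Groth.Agent.S3323
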