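import Groth.Statements.S3324
import Mathlib
import Mathlib
import Groth.Agent.Lib.Helper1.GenF6
import Groth.Agent.Lib.Helper1.PicV6

set_option autoImplicit false
universe u
open CategoryTheory CategoryTheory.Limits AlgebraicGeometry
open Models

namespace Groth.Agent.S3324

/-- In the following situation (R a discrete valuation ring with residue field k, C a smooth proper
curve over its fraction field K with H^0(C, O_C) = K, X a regular proper model, Γ_1, …, Γ_n the
irreducible components of the closed fibre with multiplicities m_i) let d = gcd(m_1, …, m_n) and let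
D be the closed subscheme Σ (m_i/d) Γ_i, with ideal sheaf Π I(Γ_i)^{m_i/d}. Then κ = H^0(D, O_D) is
a field and 1 - g_C = d [κ : k] (1 - g_D), where g_C = dim_K H^1(C, O_C) and g_D = dim_κ H^1(D,
O_D). Here the right hand side is written as d (dim_k H^0(D, O_D) - dim_k H^1(D, O_D)), the
k-dimensions being computed as R-lengths of the cohomology groups of O_D on X. -/
theorem result (R : Type u) [CommRing R] [IsDomain R] [IsDiscreteValuationRing R]
    (C X : Scheme.{u}) (f : C ⟶ Spec (CommRingCat.of (FractionRing R))) (p : X ⟶ Spec (CommRingCat.of R))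
    (hC : Curve.IsSmoothProperCurve (FractionRing R) C f) (hH0 : IsIso f.appTop)
    (hX : Models.IsRegularProperModel R X p C f)
    {n : ℕ} (Γ : Fin n → ArSurf.VertComp R (Over.mk p)) (hΓ : Models.IsComponentList R (Over.mk p) Γ) :
    IsField ↑(Γ((∏ i, (Γ i).ι.ker ^ (Models.mult R (Over.mk p) (Γ i) / Models.multGcd R (Over.mk p) Γ)).subscheme, ⊤)) ∧
      (1 : ℤ) - (Models.curveGenus (FractionRing R) C f : ℤ) =
        (Models.multGcd R (Over.mk p) Γ : ℤ) * ((Models.lengthH R (Over.mk p) (ClSub.quotMod (∏ i, (Γ i).ι.ker ^ (Models.mult R (Over.mk p) (Γ i) / Models.multGcd R (Over.mk p) Γ))) 0 : ℤ) -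
          (Models.lengthH R (Over.mk p) (ClSub.quotMod (∏ i, (Γ i).ι.ker ^ (Models.mult R (Over.mk p) (Γ i) / Models.multGcd R (Over.mk p) Γ))) 1 : ℤ)) := by
  classical
  obtain ⟨⟨hflat, hlft, hqc, g', H⟩, hp, hreg⟩ := id hX
  haveI := hlft
  haveI := hp
  haveI : Flat p := hflat
  haveI : IsLocallyNoetherian (Over.mk p).left :=
    LocallyOfFiniteType.isLocallyNoetherian (Y := Spec (CommRingCat.of R)) p
  haveI : Flat (Over.mk p).hom := hflat
  have hinj := hΓ.1
  have hcov := Groth.Agent.Helper1.SpFib.cover_of_isComponentList R (Over.mk p) Γ hΓ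
  obtain ⟨L, hL⟩ := Groth.Agent.Helper1.PicV.exists_inverse_family R (Over.mk p) hreg Γ hinj hcov
  have hconn : ConnectedSpace ↥(Models.specialFibre R (Over.mk p).left (Over.mk p).hom) :=
    Groth.Agent.S2209.result R C X f p hC hH0 hX
  have hn : 0 < n := Groth.Agent.Helper1.GenF.pos_of_connected R (Over.mk p) hconn Γ hcov
  have hdvd : ∀ j, Models.multGcd R (Over.mk p) Γ ∣ Models.mult R (Over.mk p) (Γ j) := fun j =>
    Finset.gcd_dvd (f := fun i => Models.mult R (Over.mk p) (Γ i)) (Finset.mem_univ j)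
  have hde : ∀ j, Models.multGcd R (Over.mk p) Γ *
      (Models.mult R (Over.mk p) (Γ j) / Models.multGcd R (Over.mk p) Γ) =
      Models.mult R (Over.mk p) (Γ j) := fun j => Nat.mul_div_cancel' (hdvd j)
  have hdpos : 0 < Models.multGcd R (Over.mk p) Γ := by
    rcases Nat.eq_zero_or_pos (Models.multGcd R (Over.mk p) Γ) with h | h
    · exfalso
      have h1 := hde ⟨0, hn⟩
      rw [h, zero_mul] at h1
      exact Groth.Agent.Helper1.SpFib.mult_ne_zero R (Over.mk p) hreg Γ hinj hcov ⟨0, hn⟩ h1.symm
    · exact h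
  refine ⟨?_, ?_⟩
  · exact Groth.Agent.Helper1.GenF.isField_prod_pow R C X f p hC hH0 hX Γ hΓ L hL
      (fun j => Models.mult R (Over.mk p) (Γ j) / Models.multGcd R (Over.mk p) Γ)
      (Models.multGcd R (Over.mk p) Γ) rfl hde
  · exact Groth.Agent.Helper1.GenF.genus_eq_mul_chi R C X f p hC hH0 hX Γ hΓ L hL
      (fun j => Models.mult R (Over.mk p) (Γ j) / Models.multGcd R (Over.mk p) Γ)
      (Models.multGcd R (Over.mk p) Γ) hdpos hde

end Groth.Agent.S3324
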