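import Groth.Statements.S3327
import Mathlib
import Groth.Agent.Lib.Helper1.ExcM1
import Groth.Agent.S6541
import Groth.Agent.S3321

set_option autoImplicit false
universe u
open CategoryTheory CategoryTheory.Limits AlgebraicGeometry
open Models

namespace Groth.Agent.S3327

/-- In the following situation (R a discrete valuation ring with residue field k, C a smooth proper
curve over its fraction field K with H^0(C, O_C) = K, X a regular proper model, Γ_1, …, Γ_n the
irreducible components of the closed fibre with multiplicities m_l), suppose Γ_i and Γ_j (i ≠ j) are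
exceptional curves of the first kind which meet. Then n = 2, all multiplicities are 1, every
component is k-isomorphic to the projective line over k, Γ_i and Γ_j meet in a single point x with
residue field k, scheme-theoretically (I(Γ_i) + I(Γ_j) is the ideal of the reduced point x), and C
has genus zero. -/
theorem result (R : Type u) [CommRing R] [IsDomain R] [IsDiscreteValuationRing R]
    (C X : Scheme.{u}) (f : C ⟶ Spec (CommRingCat.of (FractionRing R))) (p : X ⟶ Spec (CommRingCat.of R))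
    (hC : Curve.IsSmoothProperCurve (FractionRing R) C f) (hH0 : IsIso f.appTop)
    (hX : Models.IsRegularProperModel R X p C f)
    {n : ℕ} (Γ : Fin n → ArSurf.VertComp R (Over.mk p)) (hΓ : Models.IsComponentList R (Over.mk p) Γ)
    (i j : Fin n) (hij : i ≠ j) (hi : Models.IsExcCurve (Γ i).ι) (hj : Models.IsExcCurve (Γ j).ι)
    (hmeet : ¬ Disjoint (Set.range ((Γ i).ι.base : (Γ i).curve.left → X))
      (Set.range ((Γ j).ι.base : (Γ j).curve.left → X))) :
    n = 2 ∧ (∀ l, Models.mult R (Over.mk p) (Γ l) = 1) ∧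
      (∀ l, ∃ e : (Γ l).curve.left ≅ CohB1.ProjSpace 1 (IsLocalRing.ResidueField R),
        e.hom ≫ CohB1.ProjSpace.toSpec 1 (IsLocalRing.ResidueField R) = (Γ l).curve.hom) ∧
      (∃ x : X, Set.range ((Γ i).ι.base : (Γ i).curve.left → X) ∩ Set.range ((Γ j).ι.base : (Γ j).curve.left → X) = {x} ∧
        (Γ i).ι.ker ⊔ (Γ j).ι.ker =
          Scheme.IdealSheafData.vanishingIdeal ⟨closure {x}, isClosed_closure⟩ ∧
        Function.Surjective ((X.residue x).hom.comp (Models.stalkHom R (Over.mk p) x))) ∧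
      Models.curveGenus (FractionRing R) C f = 0 := by
  classical
  obtain ⟨⟨hflat, hlft, hqc, g', H⟩, hp, hreg⟩ := id hX
  haveI := hlft
  haveI := hp
  haveI : Flat p := hflat
  haveI : IsLocallyNoetherian (Over.mk p).left :=
    LocallyOfFiniteType.isLocallyNoetherian (Y := Spec (CommRingCat.of R)) p
  haveI : Flat (Over.mk p).hom := hflat
  have hinj := hΓ.1
  have hcov := Groth.Agent.Helper1.SpFib.cover_of_isComponentList R (Over.mk p) Γ hΓ
  obtain ⟨L, hL⟩ := Groth.Agent.Helper1.PicV.exists_inverse_family R (Over.mk p) hreg Γ hinj hcov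
  have hconn : ConnectedSpace ↥(Models.specialFibre R (Over.mk p).left (Over.mk p).hom) :=
    Groth.Agent.S2209.result R C X f p hC hH0 hX
  have hinv : ∀ l, PicF.IsInvertible (ClSub.idealMod (Γ l).ι.ker) := fun l =>
    Groth.Agent.Helper1.ArInt.isInvertible_idealMod_of_isInverseOf R (Over.mk p) _ (L l) (hL l)
  have hmne : ∀ l, Models.mult R (Over.mk p) (Γ l) ≠ 0 := fun l =>
    Groth.Agent.Helper1.SpFib.mult_ne_zero R (Over.mk p) hreg Γ hinj hcov l
  have hc : ∀ a b, ArSurf.inter R (Over.mk p) (L a) (Γ b) =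
      ArSurf.inter R (Over.mk p) (L b) (Γ a) := by
    intro a b
    by_cases hab : a = b
    · subst hab
      rfl
    · exact Groth.Agent.Helper1.ArInt.inter_symm R (Over.mk p) hp (Γ b) (Γ a)
        (fun e => hab (hinj e).symm) (L b) (L a) (hL b) (hL a)
  have hoff : ∀ a b, a ≠ b → 0 ≤ ArSurf.inter R (Over.mk p) (L a) (Γ b) := by
    intro a b hab
    have hne : Set.range (Γ b).ι.base ≠ Set.range (Γ a).ι.base := fun e => hab (hinj e).symm
    exact (Groth.Agent.Helper1.ArInt.inter_nonneg_and_eq_zero_iff R (Over.mk p) hp (Γ b)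
      (Γ a).ι.ker (hinv a) (L a) (hL a)
      (Groth.Agent.Helper1.ArInt.genPt_notMem R (Over.mk p) (Γ b) (Γ a) hne)).1
  have hcm : ∀ a, ∑ b, (Models.mult R (Over.mk p) (Γ b) : ℤ) *
      ArSurf.inter R (Over.mk p) (L a) (Γ b) = 0 := by
    intro a
    rw [← Groth.Agent.Helper1.SpFib.sum_mult_mul_inter_eq_zero R (Over.mk p) hp hreg Γ hinj hcov
      L hL a]
    exact Finset.sum_congr rfl (fun b _ => by rw [hc a b])
  have hconn' : ∀ I : Finset (Fin n), I.Nonempty → I ≠ Finset.univ →
      ∃ a ∈ I, ∃ b ∉ I, ArSurf.inter R (Over.mk p) (L a) (Γ b) ≠ 0 := by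
    intro I hI hI'
    obtain ⟨a, ha, b, hb, hab⟩ := Groth.Agent.Helper1.GenF.exists_inter_ne_zero R (Over.mk p) hp
      hconn Γ hinj hcov L hL I hI hI'
    exact ⟨a, ha, b, hb, by rw [hc a b]; exact hab⟩
  have hwpos : ∀ l, 0 < Models.wdeg R (Over.mk p) (Γ l) := fun l =>
    Groth.Agent.Helper1.GenF.wdeg_pos R (Over.mk p) hp (Γ l)
  have hdvd : ∀ a b, (Models.wdeg R (Over.mk p) (Γ b) : ℤ) ∣
      ArSurf.inter R (Over.mk p) (L a) (Γ b) := fun a b =>
    Groth.Agent.Helper1.GenF.wdeg_dvd_inter R (Over.mk p) hp (Γ b) (L a)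
  obtain ⟨h1i, hci⟩ := (Groth.Agent.S3326.result R C X f p hC hH0 hX Γ hΓ L hL i).1 hi
  obtain ⟨h1j, hcj⟩ := (Groth.Agent.S3326.result R C X f p hC hH0 hX Γ hΓ L hL j).1 hj
  have hne_ij : Set.range (Γ j).ι.base ≠ Set.range (Γ i).ι.base := fun e => hij (hinj e).symm
  have hη := Groth.Agent.Helper1.ArInt.genPt_notMem R (Over.mk p) (Γ j) (Γ i) hne_ij
  have hsupp : ∀ l, ((Γ l).ι.ker.support : Set (Over.mk p).left) = Set.range (Γ l).ι.base := by
    intro l
    rw [Scheme.Hom.support_ker, (Γ l).ι.isClosedEmbedding.isClosed_range.closure_eq]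
  have hpos : ArSurf.inter R (Over.mk p) (L i) (Γ j) ≠ 0 := by
    intro h0
    have hd := ((Groth.Agent.Helper1.ArInt.inter_nonneg_and_eq_zero_iff R (Over.mk p) hp (Γ j)
      (Γ i).ι.ker (hinv i) (L i) (hL i) hη).2).1 h0
    rw [hsupp i] at hd
    exact hmeet hd.symm
  obtain ⟨hm, hcw, hw, hz⟩ := Groth.Agent.Helper1.ExcM.meet_numerics
    (fun a b => ArSurf.inter R (Over.mk p) (L a) (Γ b)) hc hoff
    (fun l => Models.mult R (Over.mk p) (Γ l)) (fun l => Nat.pos_of_ne_zero (hmne l)) hcm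
    (fun l => Models.wdeg R (Over.mk p) (Γ l)) hwpos hdvd i j hij hci hcj hpos
  have huniv := Groth.Agent.Helper1.ExcM.univ_eq_pair
    (fun a b => ArSurf.inter R (Over.mk p) (L a) (Γ b)) hconn' i j hz
  have hn2 : n = 2 := by
    have h1 := congrArg Finset.card huniv
    rw [Finset.card_univ, Fintype.card_fin, Finset.card_pair hij] at h1
    exact h1
  have hall : ∀ l : Fin n, l = i ∨ l = j := by
    intro l
    have h1 : l ∈ (Finset.univ : Finset (Fin n)) := Finset.mem_univ l
    rw [huniv, Finset.mem_insert, Finset.mem_singleton] at h1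
    exact h1
  have hgen := Groth.Agent.S3321.result R C X f p hC hH0 hX Γ hΓ L hL
  obtain ⟨hg0, hm1, hw1⟩ := Groth.Agent.Helper1.ExcM.genus_numerics
    (fun l => Models.mult R (Over.mk p) (Γ l)) (fun l => Models.wdeg R (Over.mk p) (Γ l))
    (fun l => Models.h1 R (Over.mk p) (Γ l))
    (fun a b => ArSurf.inter R (Over.mk p) (L a) (Γ b))
    (Models.curveGenus (FractionRing R) C f) i j hij huniv hgen
    (Nat.pos_of_ne_zero (hmne i)) (hwpos i) hm hw h1i h1j hci hcj
  have hm1' : Models.mult R (Over.mk p) (Γ i) = 1 := hm1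
  have hw1' : Models.wdeg R (Over.mk p) (Γ i) = 1 := hw1
  have hm' : Models.mult R (Over.mk p) (Γ i) = Models.mult R (Over.mk p) (Γ j) := hm
  have hw' : Models.wdeg R (Over.mk p) (Γ i) = Models.wdeg R (Over.mk p) (Γ j) := hw
  have hcw' : ArSurf.inter R (Over.mk p) (L i) (Γ j) =
      (Models.wdeg R (Over.mk p) (Γ i) : ℤ) := hcw
  -- the projective lines
  have hP1 : ∀ l, Models.h1 R (Over.mk p) (Γ l) = 0 →
      ArSurf.inter R (Over.mk p) (L l) (Γ l) = -1 →
      ∃ e : (Γ l).curve.left ≅ CohB1.ProjSpace 1 (IsLocalRing.ResidueField R),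
        e.hom ≫ CohB1.ProjSpace.toSpec 1 (IsLocalRing.ResidueField R) = (Γ l).curve.hom := by
    intro l hh1 hself
    haveI : IsProper ((Γ l).curve.left ↘
        Spec (CommRingCat.of (IsLocalRing.ResidueField R))) :=
      Groth.Agent.Helper1.ArInt.isProper_curve R (Over.mk p) hp (Γ l)
    have hcoh : Coh.IsCoh (Coh.structureModule (Γ l).curve.left) :=
      Groth.Agent.Helper1.InvQc.isCoh_of_isInvertible _ Groth.Agent.Helper1.GenLoc.isInvertible_O
    haveI : Module.Finite (IsLocalRing.ResidueField R)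
        (Coh.HH (Γ l).curve.left (Coh.structureModule (Γ l).curve.left) 1) :=
      Groth.Agent.Lib.Helper4.T2Main1.t2 (IsLocalRing.ResidueField R) (Γ l).curve.left _ hcoh 1
    have hsub : Subsingleton (Coh.HH (Γ l).curve.left
        (Coh.structureModule (Γ l).curve.left) 1) := Module.finrank_zero_iff.1 hh1
    have hPinv : PicF.IsInvertible
        ((Scheme.Modules.pullback (Γ l).ι).obj (ClSub.idealMod (Γ l).ι.ker)) :=
      Groth.Agent.Helper1.PullGen.isInvertible_pullback (Γ l).ι (hinv l)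
    have hdeg : Curv2.deg (IsLocalRing.ResidueField R) (Γ l).curve.left
        ((Scheme.Modules.pullback (Γ l).ι).obj (ClSub.idealMod (Γ l).ι.ker)) 1 = 1 := by
      rw [← Groth.Agent.Helper1.ArInt.curveDeg_eq_deg (IsLocalRing.ResidueField R) (Γ l).dim_eq]
      have h2 := Groth.Agent.Helper1.ArInt.inter_eq_neg_curveDeg R (Over.mk p) hp (Γ l)
        (Γ l).ι.ker (hinv l) (L l) (hL l)
      rw [hself] at h2
      have h3 : ArSurf.curveDeg (IsLocalRing.ResidueField R) (Γ l).curve.left
          ((Scheme.Modules.pullback (Γ l).ι).obj (ClSub.idealMod (Γ l).ι.ker)) = 1 := by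
        have h4 : ArSurf.curveDeg (IsLocalRing.ResidueField R) (Γ l).curve.left
            (Groth.Agent.Helper1.ArInt.P (Γ l).ι (Γ l).ι.ker) = 1 := by linarith
        exact h4
      exact h3
    exact Groth.Agent.S6541.result (IsLocalRing.ResidueField R) (Γ l).curve.left (Γ l).dim_eq
      hsub _ hPinv hdeg
  -- the point of intersection
  have hlen : Models.lengthH R (Over.mk p)
      (ClSub.quotMod ((Γ i).ι.ker ⊔ (Γ j).ι.ker)) 0 = 1 := by
    have h1 := Groth.Agent.Helper1.ArInt.inter_eq_lengthH R (Over.mk p) hp (Γ j) (Γ i).ι.ker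
      (hinv i) (L i) (hL i) hη
    rw [hcw', hw1'] at h1
    exact_mod_cast h1.symm
  obtain ⟨x, hx1, hx2, hx3⟩ := Groth.Agent.Helper1.ExcM.point_of_length_one R (Over.mk p) hp
    ((Γ i).ι.ker ⊔ (Γ j).ι.ker)
    (Groth.Agent.Helper1.ExcM.dim_sup_le_zero R (Over.mk p) (Γ j) (Γ i).ι.ker hη) hlen
  refine ⟨hn2, ?_, ?_, ⟨x, ?_, hx2, hx3⟩, hg0⟩
  · intro l
    rcases hall l with rfl | rfl
    · exact hm1'
    · rw [← hm']
      exact hm1'
  · intro l
    rcases hall l with rfl | rfl
    · apply hP1 _ h1i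
      rw [hci, hw1']
      rfl
    · apply hP1 _ h1j
      rw [hcj, ← hw', hw1']
      rfl
  · rw [← hx1, Scheme.IdealSheafData.support_sup]
    show _ = ((Γ i).ι.ker.support : Set (Over.mk p).left) ∩ ((Γ j).ι.ker.support : Set (Over.mk p).left)
    rw [hsupp i, hsupp j]

end Groth.Agent.S3327
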