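import Groth.Statements.S3341
import Mathlib
import Groth.Agent.Lib.Helper1.PicV7
import Groth.Agent.S2209
import Groth.Agent.Lib.Helper1.SpFib7
import Groth.Agent.Lib.Helper7.GeomConn.ModelConn

set_option autoImplicit false
universe u
open CategoryTheory CategoryTheory.Limits AlgebraicGeometry
open Models

namespace Groth.Agent.S3341

/-- In the following situation (R a discrete valuation ring, C a smooth proper curve over its fraction
field K with H^0(C, O_C) = K, X a regular proper model with generic-fibre inclusion g, Γ_1, …, Γ_n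
the irreducible components of the closed fibre with multiplicities m_i) let d = gcd(m_1, …, m_n) and
let h ≥ 1 be prime to d. If M is an invertible O_X-module with M^{⊗h} ≅ O_X whose pullback to C is
trivial, then M ≅ O_X: the map Pic(X)[h] → Pic(C)[h] is injective. -/
theorem result (R : Type u) [CommRing R] [IsDomain R] [IsDiscreteValuationRing R]
    (C X : Scheme.{u}) (f : C ⟶ Spec (CommRingCat.of (FractionRing R))) (p : X ⟶ Spec (CommRingCat.of R))
    (hC : Curve.IsSmoothProperCurve (FractionRing R) C f) (hH0 : IsIso f.appTop)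
    (hX : Models.IsRegularProperModel R X p C f)
    {n : ℕ} (Γ : Fin n → ArSurf.VertComp R (Over.mk p)) (hΓ : Models.IsComponentList R (Over.mk p) Γ)
    (g : C ⟶ X) (hg : IsPullback g f p (Spec.map (CommRingCat.ofHom (algebraMap R (FractionRing R))))) (h : ℕ) (hh : 0 < h) (hcop : Nat.Coprime h (Models.multGcd R (Over.mk p) Γ))
    (M : X.Modules) (hM : PicF.IsInvertible M)
    (htors : Nonempty (CohB1.tensorPow M h ≅ Coh.structureModule X))
    (htriv : Nonempty ((Scheme.Modules.pullback g).obj M ≅ Coh.structureModule C)) :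
    Nonempty (M ≅ Coh.structureModule X) := by
  haveI : ConnectedSpace ↥(Models.specialFibre R X p) :=
    Groth.Agent.S2209.result R C X f p hC hH0 hX
  obtain ⟨⟨hflat, hlft, hqc, g', H⟩, hp, hreg⟩ := hX
  haveI := hlft
  haveI := hp
  haveI : Flat p := hflat
  haveI : IsLocallyNoetherian (Over.mk p).left :=
    LocallyOfFiniteType.isLocallyNoetherian (Y := Spec (CommRingCat.of R)) p
  haveI : Flat (Over.mk p).hom := hflat
  haveI : CompactSpace (Over.mk p).left := QuasiCompact.compactSpace_of_compactSpace p
  have hconn := Groth.Agent.Helper1.SpFib.isConnected_fibre R X p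
  have hcov := Groth.Agent.Helper1.SpFib.cover_of_isComponentList R (Over.mk p) Γ hΓ
  have hbij := Groth.Agent.Helper7.GeomConn.ZC.appTop_bijective_of_model R (FractionRing R) p f g' H
    (Groth.Agent.Lib.Helper4.ProperPush1.isIntegral_app_of_isProper p ⊤ (isAffineOpen_top _)) hH0
  have hsurj : ∀ h : Γ((Over.mk p).left, ⊤), ∃ r : R,
      (show Γ((Over.mk p).left, ⊤) from Coh.toGlobal (Over.mk p).hom r) = h := by
    intro h
    obtain ⟨r', hr'⟩ := hbij.2 h
    refine ⟨(Scheme.ΓSpecIso (CommRingCat.of R)).hom.hom r', ?_⟩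
    show p.appTop.hom ((Scheme.ΓSpecIso (CommRingCat.of R)).inv.hom
      ((Scheme.ΓSpecIso (CommRingCat.of R)).hom.hom r')) = h
    rw [← RingHom.comp_apply ((Scheme.ΓSpecIso (CommRingCat.of R)).inv.hom), ← CommRingCat.hom_comp,
      Iso.hom_inv_id]
    exact hr'
  exact Groth.Agent.Helper1.PicV.torsion_trivial R (Over.mk p) hreg Γ hΓ.1 hcov hp hconn hsurj
    f g hg h hh hcop M hM htors htriv

end Groth.Agent.S3341
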