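import Groth.Statements.S3345
import Mathlib
import Mathlib
import Groth.Agent.Lib.Helper1.RedF2
import Groth.Agent.Lib.Helper1.PicV6

set_option autoImplicit false
universe u
open CategoryTheory CategoryTheory.Limits AlgebraicGeometry
open Models

namespace Groth.Agent.S3345

/-- In the following situation (R a discrete valuation ring with residue field k, C a smooth proper
curve over its fraction field K with H^0(C, O_C) = K, X a regular proper model, Γ_1, …, Γ_n the
irreducible components of the closed fibre with multiplicities m_i) assume X is a minimal model,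
gcd(m_1, …, m_n) = 1 and H^0((X_k)_red, O) = k. Then dim_k H^1((X_k)_red, O) ≤ dim_k H^1(X_k, O),
and the inequality is strict when X_k is not reduced (k-dimensions computed as R-lengths of the
cohomology on X of the structure sheaves of the two closed subschemes). The published statement is
the stronger one that H^1(X_k, O_{X_k}) → H^1((X_k)_red, O) is surjective, with non-zero kernel when
X_k is not reduced; this is its form in terms of dimensions. -/
theorem result (R : Type u) [CommRing R] [IsDomain R] [IsDiscreteValuationRing R]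
    (C X : Scheme.{u}) (f : C ⟶ Spec (CommRingCat.of (FractionRing R))) (p : X ⟶ Spec (CommRingCat.of R))
    (hC : Curve.IsSmoothProperCurve (FractionRing R) C f) (hH0 : IsIso f.appTop)
    (hX : Models.IsRegularProperModel R X p C f)
    {n : ℕ} (Γ : Fin n → ArSurf.VertComp R (Over.mk p)) (hΓ : Models.IsComponentList R (Over.mk p) Γ)
    (hmin : Models.IsMinimalModel R X p C f) (hgcd : Models.multGcd R (Over.mk p) Γ = 1)
    (hH0k : Models.lengthH R (Over.mk p) (ClSub.quotMod (Models.redFibreIdeal R (Over.mk p))) 0 = 1) :
    Models.lengthH R (Over.mk p) (ClSub.quotMod (Models.redFibreIdeal R (Over.mk p))) 1 ≤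
        Models.lengthH R (Over.mk p) (ClSub.quotMod (Models.specialFibreIdeal R (Over.mk p))) 1 ∧
      (Models.specialFibreIdeal R (Over.mk p) ≠ Models.redFibreIdeal R (Over.mk p) →
        Models.lengthH R (Over.mk p) (ClSub.quotMod (Models.redFibreIdeal R (Over.mk p))) 1 <
          Models.lengthH R (Over.mk p) (ClSub.quotMod (Models.specialFibreIdeal R (Over.mk p))) 1) := by
  classical
  obtain ⟨⟨hflat, hlft, hqc, g', H⟩, hp, hreg⟩ := id hX
  haveI := hlft
  haveI := hp
  haveI : Flat p := hflat
  haveI : IsLocallyNoetherian (Over.mk p).left :=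
    LocallyOfFiniteType.isLocallyNoetherian (Y := Spec (CommRingCat.of R)) p
  haveI : Flat (Over.mk p).hom := hflat
  have hinj := hΓ.1
  have hcov := Groth.Agent.Helper1.SpFib.cover_of_isComponentList R (Over.mk p) Γ hΓ
  obtain ⟨L, hL⟩ := Groth.Agent.Helper1.PicV.exists_inverse_family R (Over.mk p) hreg Γ hinj hcov
  have hsf := Groth.Agent.Helper1.SpFib.specialFibreIdeal_eq_prod R (Over.mk p) hreg Γ hinj hcov
  have hred := Groth.Agent.Helper1.RedF.redFibreIdeal_eq_prod R (Over.mk p) hreg Γ hinj hcov
  have hk : Groth.Agent.Helper1.RedF.hh R (Over.mk p) Γ (fun _ => 1) 0 = 1 := by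
    show Models.lengthH R (Over.mk p) (ClSub.quotMod (∏ j, (Γ j).ι.ker ^ (1 : ℕ))) 0 = 1
    simp only [pow_one]
    rw [← hred]
    exact hH0k
  have key := Groth.Agent.Helper1.RedF.h1_le R C X f p hC hH0 hX Γ hΓ L hL
    (fun i => hmin.2 (Γ i)) hgcd hk
  simp only [Groth.Agent.Helper1.RedF.hh, pow_one] at key
  rw [← hred, ← hsf] at key
  refine ⟨key.1, fun hne => key.2 ?_⟩
  intro hm
  apply hne
  rw [hsf, hred]
  exact Finset.prod_congr rfl (fun j _ => by rw [congrFun hm j, pow_one])

end Groth.Agent.S3345
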