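import Groth.Statements.S3350
import Groth.Agent.Lib.Helper6.NumType2

set_option autoImplicit false
open Finset
open Models Models.NumericalType

namespace Groth.Agent.S3350

/-- Classification of proper subgraphs with two vertices: Let T be a numerical type on n > 2 indices and
i ≠ j two (-2)-indices (g = 0 and a_ii = -2 w_i, a_jj = -2 w_j) with a_ij > 0. Then, after possibly
exchanging i and j, one of the following holds with w = w_i: (A2) w_j = w, a_ij = w, 2 m_i ≥ m_j and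
2 m_j ≥ m_i; (B2) w_j = 2w, a_ij = 2w, m_i ≥ m_j and 2 m_j ≥ m_i; (G2) w_j = 3w, a_ij = 3w, 2 m_i ≥
3 m_j and 2 m_j ≥ m_i. -/
theorem result {n : ℕ} (T : Models.NumericalType n) (hn : 2 < n) (i j : Fin n)
    (hij : i ≠ j) (hi : T.IsMinusTwo i) (hj : T.IsMinusTwo j) (hpos : 0 < T.a i j) :
    ∃ i' j' : Fin n, ((i' = i ∧ j' = j) ∨ (i' = j ∧ j' = i)) ∧
      ((T.w j' = T.w i' ∧ T.a i' j' = T.w i' ∧ T.m j' ≤ 2 * T.m i' ∧ T.m i' ≤ 2 * T.m j') ∨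
        (T.w j' = 2 * T.w i' ∧ T.a i' j' = 2 * T.w i' ∧ T.m j' ≤ T.m i' ∧ T.m i' ≤ 2 * T.m j') ∨
        (T.w j' = 3 * T.w i' ∧ T.a i' j' = 3 * T.w i' ∧ 3 * T.m j' ≤ 2 * T.m i' ∧ T.m i' ≤ 2 * T.m j')) := by
  open Groth.Agent.Helper6 in
  let C := Cfg.ofNT T (Cfg.emb2 i j hij) (by omega)
    (by intro p; fin_cases p <;> assumption)
  have hA : C.A 0 1 = T.a i j := rfl
  have hW0 : C.W 0 = T.w i := rfl
  have hW1 : C.W 1 = T.w j := rfl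
  have hM0 : C.M 0 = T.m i := rfl
  have hM1 : C.M 1 = T.m j := rfl
  have hcl := Groth.Agent.Helper6.Cfg.two C (by rw [hA]; exact hpos.ne')
  obtain ⟨r0, r1⟩ := Groth.Agent.Helper6.Cfg.row_two C
  rw [hA, hW0, hM0, hM1] at r0
  rw [hA, hW1, hM0, hM1] at r1
  rw [hA, hW0, hW1] at hcl
  have hwi := T.w_pos i
  have hwj := T.w_pos j
  have hsym : T.a j i = T.a i j := Groth.Agent.Helper6.NT.symm' T j i
  rcases hcl with ⟨h1, h2⟩ | ⟨h1, h2⟩ | ⟨h1, h2⟩ | ⟨h1, h2⟩ | ⟨h1, h2⟩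
  · refine ⟨i, j, Or.inl ⟨rfl, rfl⟩, Or.inl ⟨h1, h2, ?_, ?_⟩⟩
    · apply Groth.Agent.Helper6.Cfg.cancel_pos hwi; rw [h2] at r0; linarith
    · apply Groth.Agent.Helper6.Cfg.cancel_pos hwi; rw [h2, h1] at r1; linarith
  · refine ⟨i, j, Or.inl ⟨rfl, rfl⟩, Or.inr (Or.inl ⟨h1, h2, ?_, ?_⟩)⟩
    · apply Groth.Agent.Helper6.Cfg.cancel_pos hwi; rw [h2] at r0; linarith
    · apply Groth.Agent.Helper6.Cfg.cancel_pos hwi; rw [h2, h1] at r1; linarith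
  · refine ⟨j, i, Or.inr ⟨rfl, rfl⟩, Or.inr (Or.inl ⟨h1, by rw [hsym]; exact h2, ?_, ?_⟩)⟩
    · apply Groth.Agent.Helper6.Cfg.cancel_pos hwj; rw [h2] at r1; linarith
    · apply Groth.Agent.Helper6.Cfg.cancel_pos hwj; rw [h2, h1] at r0; linarith
  · refine ⟨i, j, Or.inl ⟨rfl, rfl⟩, Or.inr (Or.inr ⟨h1, h2, ?_, ?_⟩)⟩
    · apply Groth.Agent.Helper6.Cfg.cancel_pos hwi; rw [h2] at r0; linarith
    · apply Groth.Agent.Helper6.Cfg.cancel_pos hwi; rw [h2, h1] at r1; linarith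
  · refine ⟨j, i, Or.inr ⟨rfl, rfl⟩, Or.inr (Or.inr ⟨h1, by rw [hsym]; exact h2, ?_, ?_⟩)⟩
    · apply Groth.Agent.Helper6.Cfg.cancel_pos hwj; rw [h2] at r1; linarith
    · apply Groth.Agent.Helper6.Cfg.cancel_pos hwj; rw [h2, h1] at r0; linarith

end Groth.Agent.S3350
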