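import Groth.Statements.S3352
import Mathlib

set_option autoImplicit false
open Models

namespace Groth.Agent.S3352

/-- Let L₀, L₁ be finite free ℤ-modules with positive definite symmetric integral bilinear forms, the
form on L₀ unimodular (x ↦ ⟨x, −⟩ is a bijection L₀ → Hom(L₀, ℤ)), and let d : L₀ → L₁ and d* : L₁ →
L₀ be adjoint. Identify Im(d)^# (the dual lattice of Im(d)) with Hom(Im(d), ℤ) through the form on
L₁. Then there is an isomorphism Φ from the torsion subgroup of Coker(d* d) onto Im(d)^#/Im(d),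
determined by: for x ∈ L₀ whose class is torsion, Φ[x] is the class of the functional d(y') ↦ ⟨x,
y'⟩ (equivalently the class of (1/a)·d(y) when a·x = d* d(y)). -/
theorem result {L₀ L₁ : Type} [AddCommGroup L₀] [AddCommGroup L₁]
    [Module.Finite ℤ L₀] [Module.Free ℤ L₀] [Module.Finite ℤ L₁] [Module.Free ℤ L₁]
    (B₀ : LinearMap.BilinForm ℤ L₀) (B₁ : LinearMap.BilinForm ℤ L₁) (h₀s : B₀.IsSymm) (h₁s : B₁.IsSymm)
    (h₀p : ∀ x, x ≠ 0 → 0 < B₀ x x) (h₁p : ∀ x, x ≠ 0 → 0 < B₁ x x) (huni : Function.Bijective B₀)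
    (d : L₀ →ₗ[ℤ] L₁) (ds : L₁ →ₗ[ℤ] L₀) (hadj : ∀ x y, B₁ (d x) y = B₀ x (ds y)) :
    ∃ Φ : ↥(Submodule.torsion ℤ (L₀ ⧸ LinearMap.range (ds ∘ₗ d))) ≃ₗ[ℤ]
        (Module.Dual ℤ ↥(LinearMap.range d) ⧸
          LinearMap.range ((B₁.compl₂ (LinearMap.range d).subtype) ∘ₗ (LinearMap.range d).subtype)),
      ∀ (x : L₀) (hx : Submodule.Quotient.mk x ∈ Submodule.torsion ℤ (L₀ ⧸ LinearMap.range (ds ∘ₗ d)))
        (ψ : Module.Dual ℤ ↥(LinearMap.range d)),
        (∀ y' : L₀, ψ ⟨d y', LinearMap.mem_range_self d y'⟩ = B₀ x y') →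
          Φ ⟨Submodule.Quotient.mk x, hx⟩ = Submodule.Quotient.mk ψ := by
  classical
  let M := LinearMap.range d
  let d' : L₀ →ₗ[ℤ] M := d.rangeRestrict
  have hd' : Function.Surjective d' := d.surjective_rangeRestrict
  let R := LinearMap.range (ds ∘ₗ d)
  let f : M →ₗ[ℤ] Module.Dual ℤ M := (B₁.compl₂ M.subtype) ∘ₗ M.subtype
  have hf : ∀ z z' : M, f z z' = B₁ z z' := fun z z' => rfl
  let N := LinearMap.range f
  let e₀ : L₀ ≃ₗ[ℤ] Module.Dual ℤ L₀ := LinearEquiv.ofBijective B₀ huni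
  have he₀ : ∀ x y, e₀ x y = B₀ x y := fun x y => rfl
  have key : ∀ y y', B₁ (d y) (d y') = B₀ (ds (d y)) y' := by
    intro y y'
    have h1 : B₁ (d y) (d y') = B₁ (d y') (d y) := (h₁s.eq (d y') (d y)).symm
    have h2 : B₀ y' (ds (d y)) = B₀ (ds (d y)) y' := (h₀s.eq (ds (d y)) y').symm
    rw [h1, hadj, h2]
  let Θ₀ : Module.Dual ℤ M →ₗ[ℤ] L₀ ⧸ R := R.mkQ ∘ₗ e₀.symm.toLinearMap ∘ₗ d'.dualMap
  have hΘ₀ : ∀ ψ, Θ₀ ψ = Submodule.Quotient.mk (e₀.symm (ψ ∘ₗ d')) := fun ψ => rfl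
  -- Θ₀ kills N
  have hN : N ≤ LinearMap.ker Θ₀ := by
    rintro _ ⟨⟨_, y, rfl⟩, rfl⟩
    rw [LinearMap.mem_ker, hΘ₀, Submodule.Quotient.mk_eq_zero]
    refine ⟨y, ?_⟩
    apply e₀.injective
    rw [LinearEquiv.apply_symm_apply]
    ext y'
    rw [he₀]
    change B₀ (ds (d y)) y' = B₁ (d y) (d y')
    exact (key y y').symm
  let Θ : (Module.Dual ℤ M ⧸ N) →ₗ[ℤ] L₀ ⧸ R := N.liftQ Θ₀ hN
  have hΘ : ∀ ψ, Θ (Submodule.Quotient.mk ψ) = Θ₀ ψ := fun ψ => rfl
  -- kernel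
  have hker : LinearMap.ker Θ₀ ≤ N := by
    intro ψ hψ
    rw [LinearMap.mem_ker, hΘ₀, Submodule.Quotient.mk_eq_zero] at hψ
    obtain ⟨y, hy⟩ := hψ
    refine ⟨d' y, ?_⟩
    ext z
    obtain ⟨y', rfl⟩ := hd' z
    rw [hf]
    change B₁ (d y) (d y') = _
    rw [key]
    have h1 : e₀ ((ds ∘ₗ d) y) = ψ ∘ₗ d' := by rw [hy, LinearEquiv.apply_symm_apply]
    have h2 := LinearMap.congr_fun h1 y'
    rw [he₀] at h2
    exact h2
  have hinj : Function.Injective Θ := by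
    rw [← LinearMap.ker_eq_bot]
    exact Submodule.ker_liftQ_eq_bot _ _ _ hker
  -- finiteness of the target
  have hfinj : Function.Injective f := by
    rw [← LinearMap.ker_eq_bot, LinearMap.ker_eq_bot']
    intro z hz
    by_contra hne
    have h1 : (0 : ℤ) < B₁ z z := h₁p z (fun h => hne (Subtype.ext h))
    have h2 : f z z = 0 := by rw [hz]; rfl
    rw [hf] at h2
    omega
  have : Module.Finite ℤ M := inferInstance
  have : Module.Free ℤ M := inferInstance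
  have hrank : Module.finrank ℤ N = Module.finrank ℤ (Module.Dual ℤ M) := by
    rw [LinearMap.finrank_range_of_inj hfinj]
    exact ((Module.Free.chooseBasis ℤ M).toDualEquiv).finrank_eq
  have hfinite : Finite (Module.Dual ℤ M ⧸ N) := Submodule.finiteQuotientOfFreeOfRankEq N hrank
  have htors : ∀ q, Θ q ∈ Submodule.torsion ℤ (L₀ ⧸ R) := by
    intro q
    have h1 := isOfFinAddOrder_of_finite q
    have h2 : 0 < addOrderOf q := h1.addOrderOf_pos
    rw [Submodule.mem_torsion_iff]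
    refine ⟨⟨(addOrderOf q : ℤ), mem_nonZeroDivisors_of_ne_zero (by omega)⟩, ?_⟩
    change ((addOrderOf q : ℤ)) • Θ q = 0
    rw [← map_smul, natCast_zsmul, addOrderOf_nsmul_eq_zero, map_zero]
  let Θ' : (Module.Dual ℤ M ⧸ N) →ₗ[ℤ] Submodule.torsion ℤ (L₀ ⧸ R) := Θ.codRestrict _ htors
  have hΘ'inj : Function.Injective Θ' := by
    intro a b hab
    exact hinj (congrArg Subtype.val hab)
  have hΘ'surj : Function.Surjective Θ' := by
    rintro ⟨t, ht⟩
    obtain ⟨x, rfl⟩ := Submodule.Quotient.mk_surjective _ t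
    rw [Submodule.mem_torsion_iff] at ht
    obtain ⟨⟨a, ha⟩, hax⟩ := ht
    have ha0 : a ≠ 0 := nonZeroDivisors.ne_zero ha
    change a • (Submodule.Quotient.mk x : L₀ ⧸ R) = 0 at hax
    rw [← Submodule.Quotient.mk_smul, Submodule.Quotient.mk_eq_zero] at hax
    obtain ⟨y, hy⟩ := hax
    have hkd : LinearMap.ker d ≤ LinearMap.ker (B₀ x) := by
      intro y' hy'
      rw [LinearMap.mem_ker] at hy' ⊢
      have h1 : B₀ (a • x) y' = B₁ (d y) (d y') := by
        rw [← hy]; exact (key y y').symm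
      rw [hy', map_zero, map_smul, LinearMap.smul_apply, smul_eq_mul] at h1
      rcases mul_eq_zero.mp h1 with h | h
      · exact absurd h ha0
      · exact h
    let ψ : Module.Dual ℤ M :=
      ((LinearMap.ker d).liftQ (B₀ x) hkd) ∘ₗ (d.quotKerEquivRange).symm.toLinearMap
    have hψ : ∀ y', ψ (d' y') = B₀ x y' := by
      intro y'
      change ((LinearMap.ker d).liftQ (B₀ x) hkd) ((d.quotKerEquivRange).symm (d' y')) = _
      have : (d.quotKerEquivRange).symm (d' y') = Submodule.Quotient.mk y' :=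
        LinearMap.quotKerEquivRange_symm_apply_image d y' _
      rw [this]
      rfl
    refine ⟨Submodule.Quotient.mk ψ, ?_⟩
    apply Subtype.ext
    change Θ₀ ψ = Submodule.Quotient.mk x
    rw [hΘ₀]
    congr 1
    apply e₀.injective
    rw [LinearEquiv.apply_symm_apply]
    ext y'
    rw [he₀]
    exact hψ y'
  refine ⟨(LinearEquiv.ofBijective Θ' ⟨hΘ'inj, hΘ'surj⟩).symm, ?_⟩
  intro x hx ψ hψ
  rw [LinearEquiv.symm_apply_eq]
  apply Subtype.ext
  change Submodule.Quotient.mk x = Θ₀ ψ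
  rw [hΘ₀]
  congr 1
  apply e₀.injective
  rw [LinearEquiv.apply_symm_apply]
  ext y'
  rw [he₀]
  exact (hψ y').symm

end Groth.Agent.S3352
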