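import Groth.Statements.S6658
import Mathlib
import Groth.Agent.Lib.Helper5.Misc.RDKer
import Groth.Agent.Lib.Helper5.Misc.RDComp
import Groth.Agent.Lib.Helper5.Misc.EtStalkFam
import Groth.Agent.Lib.Helper5.Misc.EtStalkPull
import Groth.Agent.Lib.Helper5.Misc.EtOpenImm
import Groth.Agent.Lib.Helper5.Misc.JContGen
import Groth.Agent.S0623
import Groth.Agent.S0647
import Groth.Agent.S0654

set_option autoImplicit false
universe u
open CategoryTheory CategoryTheory.Limits AlgebraicGeometry Opposite
open EtDual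

open Groth.Agent.Lib.Helper5

namespace Groth.Agent.S6658

/-- For an adjoint triple `L ⊣ M ⊣ R` with `L`, `R` fully faithful and an injective object `I`
such that `L M I ⟶ I ⟶ R M I` is a monomorphism, the unit `I ⟶ R M I` is a split epimorphism. -/
lemma isSplitEpi_unit {𝒜 𝒞 : Type*} [Category 𝒜] [Category 𝒞] {L : 𝒞 ⥤ 𝒜} {M : 𝒜 ⥤ 𝒞}
    {R : 𝒞 ⥤ 𝒜} (adj₁ : L ⊣ M) (adj₂ : M ⊣ R) [IsIso adj₁.unit] [IsIso adj₂.counit]
    (I : 𝒜) [Injective I] [Mono (adj₁.counit.app I ≫ adj₂.unit.app I)] :
    IsSplitEpi (adj₂.unit.app I) := by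
  let c := adj₁.counit.app I
  let η := adj₂.unit.app I
  let s : R.obj (M.obj I) ⟶ I := Injective.factorThru c (c ≫ η)
  have hs : (c ≫ η) ≫ s = c := Injective.comp_factorThru c (c ≫ η)
  refine ⟨⟨s, ?_⟩⟩
  -- maps into `R _` are determined by their adjuncts
  apply (adj₂.homEquiv _ _).symm.injective
  rw [Adjunction.homEquiv_counit, Adjunction.homEquiv_counit]
  -- it suffices to check `M (s ≫ η) = 𝟙`
  have hMc : IsIso (M.map c) := by
    have tri := adj₁.right_triangle_components I
    haveI : IsIso (adj₁.unit.app (M.obj I) ≫ M.map (adj₁.counit.app I)) := by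
      rw [tri]
      exact IsIso.id _
    exact IsIso.of_isIso_comp_left (adj₁.unit.app (M.obj I)) _
  have hMη : IsIso (M.map η) := by
    have tri := adj₂.left_triangle_components I
    haveI : IsIso (M.map (adj₂.unit.app I) ≫ adj₂.counit.app (M.obj I)) := by
      rw [tri]
      exact IsIso.id _
    exact IsIso.of_isIso_comp_right _ (adj₂.counit.app (M.obj I))
  have h1 : M.map (c ≫ η) ≫ M.map (s ≫ η) = M.map (c ≫ η) := by
    rw [← M.map_comp, ← Category.assoc, hs]
  haveI : IsIso (M.map (c ≫ η)) := by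
    rw [M.map_comp]
    infer_instance
  have h2 : M.map (s ≫ η) = 𝟙 _ := by
    rw [← cancel_epi (M.map (c ≫ η)), h1]
    exact (Category.comp_id _).symm
  rw [h2, M.map_id]
  rfl

variable {X U : Scheme.{u}} (j : U ⟶ X) [IsOpenImmersion j]

/-- `j_! j⁻¹ F ⟶ F ⟶ j_* j⁻¹ F` is a monomorphism. -/
lemma mono_comp (F : EtCoh.Ab X) :
    haveI : EtShriek.JCont j := Misc.JContGen.jCont j
    Mono ((EtShriek.extZeroAdj j).counit.app F ≫
      (Groth.Agent.S0623.restrPushAdj j).unit.app F) := by
  haveI : EtShriek.JCont j := Misc.JContGen.jCont j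
  let P : (↥U ⊕ {x : X // x ∉ Set.range j}) → EtStalk.GeomPt X := fun s => Sum.elim
    (fun p : ↥U => ⟨(EtStalk.geomPtAt p).Ω, (EtStalk.geomPtAt p).ξ ≫ j⟩)
    (fun x : {x : X // x ∉ Set.range j} => EtStalk.geomPtAt x.1) s
  have hcov : ∀ x : X, ∃ s, (P s).ξ (default : Spec (CommRingCat.of (P s).Ω)) = x := by
    intro x
    by_cases hx : x ∈ Set.range j
    · obtain ⟨p, rfl⟩ := hx
      refine ⟨Sum.inl p, ?_⟩
      change j ((EtStalk.geomPtAt p).ξ default) = j p
      rw [EtStalk.geomPtAt_default]
    · exact ⟨Sum.inr ⟨x, hx⟩, EtStalk.geomPtAt_default x⟩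
  apply EtStalkFam.mono_of_stalks P hcov
  rintro (p | x)
  · have h1 : IsIso ((EtShriek.restrAlong j).map ((EtShriek.extZeroAdj j).counit.app F)) := by
      haveI := EtOpenImm.isIso_unit_extZero j
      have tri := (EtShriek.extZeroAdj j).right_triangle_components F
      exact IsIso.of_isIso_fac_left tri
    have h1' : IsIso ((EtShriek.restrAlong j).map
        ((Groth.Agent.S0623.restrPushAdj j).unit.app F)) := by
      haveI := EtOpenImm.isIso_counit_restrPush j
      have tri := (Groth.Agent.S0623.restrPushAdj j).left_triangle_components F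
      haveI : IsIso ((EtShriek.restrAlong j).map ((Groth.Agent.S0623.restrPushAdj j).unit.app F) ≫
          (Groth.Agent.S0623.restrPushAdj j).counit.app ((EtShriek.restrAlong j).obj F)) := by
        rw [tri]
        exact IsIso.id _
      exact IsIso.of_isIso_comp_right _
        ((Groth.Agent.S0623.restrPushAdj j).counit.app ((EtShriek.restrAlong j).obj F))
    have h1'' : IsIso ((EtShriek.restrAlong j).map ((EtShriek.extZeroAdj j).counit.app F ≫
        (Groth.Agent.S0623.restrPushAdj j).unit.app F)) := by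
      rw [Functor.map_comp]
      infer_instance
    have h2 : IsIso ((EtCoh.pull j).map ((EtShriek.extZeroAdj j).counit.app F ≫
        (Groth.Agent.S0623.restrPushAdj j).unit.app F)) :=
      (NatIso.isIso_map_iff (Groth.Agent.S0623.pullIso j) _).2 h1''
    have h3 : IsIso ((EtCoh.pull j ⋙ EtCoh.stalk (EtStalk.geomPtAt p).ξ).map
        ((EtShriek.extZeroAdj j).counit.app F ≫
          (Groth.Agent.S0623.restrPushAdj j).unit.app F)) := by
      rw [Functor.comp_map]
      infer_instance
    have h4 := (NatIso.isIso_map_iff (EtStalkPull.stalkPullIso j (EtStalk.geomPtAt p).ξ) _).1 h3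
    exact ((ConcreteCategory.isIso_iff_bijective _).1 h4).1
  · obtain ⟨e⟩ := Groth.Agent.S0647.result j ((EtShriek.restrAlong j).obj F)
      (EtStalk.geomPtAt x.1).ξ
    haveI : IsEmpty {u : Spec (CommRingCat.of (EtStalk.geomPtAt x.1).Ω) ⟶ U //
        u ≫ j = (EtStalk.geomPtAt x.1).ξ} := by
      refine ⟨fun u => ?_⟩
      have c := congrArg (fun f : Spec (CommRingCat.of (EtStalk.geomPtAt x.1).Ω) ⟶ X =>
        f default) u.2
      apply x.2
      refine ⟨u.1 default, ?_⟩
      exact c.trans (EtStalk.geomPtAt_default x.1)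
    have hz := (Groth.Agent.S0654.isZero_sigma_of_isEmpty _).of_iso e
    intro a b _
    exact @Subsingleton.elim _ (AddCommGrpCat.subsingleton_of_isZero hz) a b

/-- The unit `I ⟶ j_* j^* I` is an epimorphism for injective `I`. -/
lemma epi_unit (I : EtCoh.Ab X) [Injective I] : Epi ((EtCoh.pullPushAdj j).unit.app I) := by
  haveI : EtShriek.JCont j := Misc.JContGen.jCont j
  haveI := EtOpenImm.isIso_unit_extZero j
  haveI := EtOpenImm.isIso_counit_restrPush j
  haveI := mono_comp j I
  haveI := isSplitEpi_unit (EtShriek.extZeroAdj j) (Groth.Agent.S0623.restrPushAdj j) I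
  have h := Adjunction.unit_leftAdjointUniq_hom_app (EtCoh.pullPushAdj j)
    (Groth.Agent.S0623.restrPushAdj j) I
  have h2 : (EtCoh.pullPushAdj j).unit.app I =
      (Groth.Agent.S0623.restrPushAdj j).unit.app I ≫ (EtCoh.push j).map
        (((EtCoh.pullPushAdj j).leftAdjointUniq (Groth.Agent.S0623.restrPushAdj j)).inv.app I) := by
    rw [← h, Category.assoc, ← Functor.map_comp, Iso.hom_inv_id_app]
    exact ((congrArg (fun t => (EtCoh.pullPushAdj j).unit.app I ≫ t)
      ((EtCoh.push j).map_id _)).trans (Category.comp_id _)).symm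
  rw [h2]
  infer_instance

theorem main (F : EtCoh.Ab X) :
    Nonempty (cokernel (EtDual.unitApp j F) ≅ (EtDual.locCoh j 1).obj F) ∧
      ∀ p : ℕ, 1 ≤ p →
        Nonempty ((EtCoh.Rpush j p).obj ((EtCoh.pull j).obj F) ≅
          (EtDual.locCoh j (p + 1)).obj F) := by
  haveI : EtShriek.JCont j := Misc.JContGen.jCont j
  let T : EtCoh.Ab X ⥤ EtCoh.Ab X := EtCoh.pull j ⋙ EtCoh.push j
  let τ : 𝟭 _ ⟶ T := (EtCoh.pullPushAdj j).unit
  let K : EtCoh.Ab X ⥤ EtCoh.Ab X := EtDual.secSupp j
  let κ : K ⟶ 𝟭 _ :=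
    { app := fun G => kernel.ι (EtDual.unitApp j G)
      naturality := by
        intro G G' f
        exact kernel.lift_ι _ _ _ }
  have hκτ : ∀ G, κ.app G ≫ τ.app G = 0 := fun G => kernel.condition _
  have hexact : ∀ G, (ShortComplex.mk (κ.app G) (τ.app G) (hκτ G)).Exact := fun G =>
    ShortComplex.exact_of_f_is_kernel _ (kernelIsKernel _)
  have hmono : ∀ G, Mono (κ.app G) := fun G => inferInstanceAs (Mono (kernel.ι _))
  have hepi : ∀ G, Injective G → Epi (τ.app G) := fun G hG => epi_unit j G
  haveI : PreservesFiniteLimits (EtCoh.pull j) := Groth.Agent.S0623.lexPull j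
  haveI : PreservesFiniteLimits (EtCoh.push j) := by
    haveI := (EtCoh.pullPushAdj j).rightAdjoint_preservesLimits
    exact PreservesLimitsOfSize.preservesFiniteLimits.{0, 0} (EtCoh.push j)
  haveI : PreservesFiniteColimits (EtCoh.pull j) := by
    haveI := (EtCoh.pullPushAdj j).leftAdjoint_preservesColimits
    exact PreservesColimitsOfSize.preservesFiniteColimits.{0, 0} (EtCoh.pull j)
  haveI : PreservesFiniteLimits T := inferInstance
  haveI : (EtCoh.pull j).PreservesInjectiveObjects :=
    ⟨fun {I} hI => Groth.Agent.S0623.injective_pull j I⟩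
  refine ⟨RDKer.cokerIso T K τ κ hκτ hexact hmono hepi F, fun p hp => ?_⟩
  obtain ⟨q, rfl⟩ : ∃ q, p = q + 1 := ⟨p - 1, by omega⟩
  obtain ⟨e⟩ := RDKer.succIso T K τ κ hκτ hexact hmono hepi F q
  exact ⟨(Misc.RDComp.preIso (EtCoh.pull j) (EtCoh.push j) F (q + 1)).symm ≪≫ e⟩

end Groth.Agent.S6658

namespace Groth.Agent.S6658

/-- The exact sequence and the isomorphisms: let j : U → X be an open immersion of schemes with closed
complement Z and F an abelian sheaf on the small etale site of X. Write H^q_Z(F) for the q-th local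
cohomology sheaf of F with support in Z, kept as a sheaf on X (the q-th right derived functor of G ↦
ker(G → j_* j⁻¹ G)). Then the cokernel of the unit F → j_* j⁻¹ F is isomorphic to H^1_Z(F), and for
every p ≥ 1 the higher direct image R^p j_* (j⁻¹ F) is isomorphic to H^{p+1}_Z(F). (The published
statement also gives the distinguished triangle behind these isomorphisms and identifies them with
its connecting maps; this row asserts only that isomorphisms exist.) -/
theorem result {X U : Scheme.{u}} (j : U ⟶ X) [IsOpenImmersion j]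
    (F : EtCoh.Ab X) :
    Nonempty (cokernel (EtDual.unitApp j F) ≅ (EtDual.locCoh j 1).obj F) ∧
      ∀ p : ℕ, 1 ≤ p →
        Nonempty ((EtCoh.Rpush j p).obj ((EtCoh.pull j).obj F) ≅ (EtDual.locCoh j (p + 1)).obj F) := by
  exact main j F

end Groth.Agent.S6658
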