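import Groth.Statements.S3364
import Mathlib
import Groth.Statements.S3364
import Groth.Agent.S6658
import Groth.Agent.S0642
import Groth.Agent.Lib.Helper2.EtDepthMono.Main
import Groth.Agent.Lib.Helper9.FE.HpullCompEq
import Groth.Agent.Lib.Helper9.FE.EtLG
-- import your own Groth.Agent.* helpers here

set_option autoImplicit false
universe u
open CategoryTheory CategoryTheory.Limits AlgebraicGeometry Opposite
open EtDepth

namespace Groth.Agent.S3364

open CategoryTheory CategoryTheory.Limits AlgebraicGeometry Opposite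
namespace Aux
set_option backward.isDefEq.respectTransparency false
set_option linter.style.haveILetI false
set_option linter.unusedSectionVars false
open H9FE.EtTrLeray H9FE.EtLG

attribute [local instance] Groth.Agent.S0623.lexPull

/-- pull-back on cohomology only depends on the morphism up to isomorphism of the source -/
theorem Hpull_transfer {X1 X2 Y : Scheme.{u}} (f1 : X1 ⟶ Y) (f2 : X2 ⟶ Y) (e : X1 ≅ X2)
    (he : e.hom ≫ f2 = f1) (F : EtCoh.Ab Y) (q : ℕ) :
    ∃ φ : EtCoh.H X2 ((EtCoh.pull f2).obj F) q → EtCoh.H X1 ((EtCoh.pull f1).obj F) q,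
      Function.Bijective φ ∧ ⇑(EtCore.Hpull f1 F q) = φ ∘ ⇑(EtCore.Hpull f2 F q) := by
  obtain ⟨φ, hφ, h1⟩ := H9FE.HpullCompEq.exists_bijective_Hpull_comp e.hom f2 he F q
  have hB : Function.Bijective (EtCore.Hpull e.hom ((EtCoh.pull f2).obj F) q) :=
    Groth.Agent.S0642.result e.hom _ q
  exact ⟨φ ∘ EtCore.Hpull e.hom _ q, hφ.comp hB, funext fun α => h1 α⟩

lemma bij_transfer {X1 X2 Y : Scheme.{u}} (f1 : X1 ⟶ Y) (f2 : X2 ⟶ Y) (e : X1 ≅ X2)
    (he : e.hom ≫ f2 = f1) (F : EtCoh.Ab Y) (q : ℕ)
    (h : Function.Bijective (EtCore.Hpull f2 F q)) : Function.Bijective (EtCore.Hpull f1 F q) := by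
  obtain ⟨φ, hφ, e1⟩ := Hpull_transfer f1 f2 e he F q
  rw [e1]
  exact hφ.comp h

lemma inj_transfer {X1 X2 Y : Scheme.{u}} (f1 : X1 ⟶ Y) (f2 : X2 ⟶ Y) (e : X1 ≅ X2)
    (he : e.hom ≫ f2 = f1) (F : EtCoh.Ab Y) (q : ℕ)
    (h : Function.Injective (EtCore.Hpull f2 F q)) : Function.Injective (EtCore.Hpull f1 F q) := by
  obtain ⟨φ, hφ, e1⟩ := Hpull_transfer f1 f2 e he F q
  rw [e1]
  exact hφ.1.comp h

section

variable {X U : Scheme.{u}} (j : U ⟶ X) [IsOpenImmersion j] (F : EtCoh.Ab X)

open Groth.Agent.Helper2.EtDepthMono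

lemma locCoh_zero_iff :
    IsZero ((EtDual.locCoh j 0).obj F) ↔ Mono ((EtCoh.pullPushAdj j).unit.app F) := by
  have e : (EtDual.locCoh j 0).obj F ≅ kernel (EtDual.unitApp j F) :=
    (EtDual.secSupp j).rightDerivedZeroIsoSelf.app F
  rw [Preadditive.mono_iff_isZero_kernel]
  exact ⟨fun h => IsZero.of_iso h e.symm, fun h => IsZero.of_iso h e⟩

lemma locCoh_one_iff :
    IsZero ((EtDual.locCoh j 1).obj F) ↔ Epi ((EtCoh.pullPushAdj j).unit.app F) := by
  obtain ⟨e⟩ := (Groth.Agent.S6658.result j F).1
  rw [Preadditive.epi_iff_isZero_cokernel]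
  exact ⟨fun h => IsZero.of_iso h e, fun h => IsZero.of_iso h e.symm⟩

lemma locCoh_succ_iff (p : ℕ) (hp : 1 ≤ p) :
    IsZero ((EtDual.locCoh j (p + 1)).obj F) ↔
      IsZero ((EtCoh.Rpush j p).obj ((EtCoh.pull j).obj F)) := by
  obtain ⟨e⟩ := (Groth.Agent.S6658.result j F).2 p hp
  exact ⟨fun h => IsZero.of_iso h e, fun h => IsZero.of_iso h e.symm⟩

lemma depth_one_iff : EtDepth.DepthGE j F 1 ↔ Mono ((EtCoh.pullPushAdj j).unit.app F) := by
  rw [← locCoh_zero_iff]
  constructor
  · intro h
    exact h 0 Nat.zero_lt_one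
  · intro h p hp
    obtain rfl : p = 0 := by omega
    exact h

lemma depth_add_two_iff (m : ℕ) : EtDepth.DepthGE j F (m + 2) ↔ PA j F m := by
  constructor
  · intro h
    have h0 : Mono ((EtCoh.pullPushAdj j).unit.app F) := (locCoh_zero_iff j F).1 (h 0 (by omega))
    have h1 : Epi ((EtCoh.pullPushAdj j).unit.app F) := (locCoh_one_iff j F).1 (h 1 (by omega))
    refine ⟨isIso_of_mono_of_epi _, fun q hq1 hqm => ?_⟩
    exact (locCoh_succ_iff j F q hq1).1 (h (q + 1) (by omega))
  · rintro ⟨hu, hv⟩ p hp
    rcases p with _ | p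
    · exact (locCoh_zero_iff j F).2 inferInstance
    · rcases p with _ | p
      · exact (locCoh_one_iff j F).2 inferInstance
      · exact (locCoh_succ_iff j F (p + 1) (by omega)).2 (hv (p + 1) (by omega) (by omega))

end

theorem main {X U : Scheme.{u}} (j : U ⟶ X) [IsOpenImmersion j] [EtCoh.BCCont j] (F : EtCoh.Ab X) (n : ℕ) : EtDepth.DepthGE j F n ↔ ∀ (X' : Scheme.{u}) (g : X' ⟶ X) [Etale g] [PreservesFiniteLimits (EtCoh.pull (pullback.snd j g))], (∀ p : ℕ, p + 1 < n → Function.Bijective (EtCore.Hpull (pullback.snd j g) ((EtCoh.pull g).obj F) p)) ∧ (∀ p : ℕ, p + 1 = n → Function.Injective (EtCore.Hpull (pullback.snd j g) ((EtCoh.pull g).obj F) p)) := by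
  rcases n with _ | n
  · constructor
    · intro _ X' g _ _
      exact ⟨fun p hp => absurd hp (by omega), fun p hp => absurd hp (by omega)⟩
    · intro _ p hp
      exact absurd hp (by omega)
  rcases n with _ | m
  · rw [depth_one_iff]
    constructor
    · intro hm X' g hg inst
      refine ⟨fun p hp => absurd hp (by omega), fun p hp => ?_⟩
      obtain rfl : p = 0 := by omega
      haveI := hm
      have hmW : Mono ((EtCoh.pullPushAdj (pullback.fst g j)).unit.app ((EtCoh.pull g).obj F)) :=
        mono_unit_W j F (Scheme.Etale.mk g)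
      haveI := hmW
      have h1 : Function.Injective (EtCore.Hpull (pullback.fst g j) ((EtCoh.pull g).obj F) 0) :=
        Hpull0_injective_of_mono (pullback.fst g j) ((EtCoh.pull g).obj F)
      exact inj_transfer _ _ (pullbackSymmetry j g) (pullbackSymmetry_hom_comp_fst j g) _ 0 h1
    · intro h
      apply mono_unit_of_local
      intro W
      haveI : Etale W.hom := W.prop
      have h1 := (h W.left W.hom).2 0 rfl
      exact inj_transfer _ _ (pullbackSymmetry W.hom j) (pullbackSymmetry_hom_comp_snd W.hom j) _ 0 h1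
  · rw [depth_add_two_iff]
    constructor
    · intro hA X' g hg inst
      haveI := hA.1
      have hPA : PA (pullback.fst g j) ((EtCoh.pull g).obj F) m :=
        ⟨isIso_unit_W j F (Scheme.Etale.mk g),
          fun q hq1 hqm => isZero_Rpush_W j F q (hA.2 q hq1 hqm) (Scheme.Etale.mk g)⟩
      have hPB := PB_of_PA _ _ _ hPA
      refine ⟨fun p hp => ?_, fun p hp => ?_⟩
      · exact bij_transfer _ _ (pullbackSymmetry j g) (pullbackSymmetry_hom_comp_fst j g) _ p
          (hPB.1 p (by omega))
      · obtain rfl : p = m + 1 := by omega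
        exact inj_transfer _ _ (pullbackSymmetry j g) (pullbackSymmetry_hom_comp_fst j g) _ _ hPB.2
    · intro h
      apply PA_of_local
      intro W
      haveI : Etale W.hom := W.prop
      have h1 := h W.left W.hom
      refine ⟨fun q hq => ?_, ?_⟩
      · exact bij_transfer _ _ (pullbackSymmetry W.hom j) (pullbackSymmetry_hom_comp_snd W.hom j)
          _ q (h1.1 q (by omega))
      · exact inj_transfer _ _ (pullbackSymmetry W.hom j) (pullbackSymmetry_hom_comp_snd W.hom j)
          _ _ (h1.2 (m + 1) rfl)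

end Aux

/-- Let X be a scheme, j : U → X an open immersion with closed complement Y, F an abelian sheaf on the
small étale site of X and n ≥ 0. Then the local cohomology sheaves H^p_Y(X, F) vanish for p < n if
and only if for every scheme X' étale over X, with U' = X' ×_X U, the restriction maps H^p(X', F) →
H^p(U', F) are bijective for p < n − 1 and injective for p = n − 1. (The restriction maps are the
prelude's pull-back maps on étale cohomology, whose exactness instance is carried as a binder. The
published statement has further equivalent conditions and is not limited to a single sheaf; only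
this equivalence, for one abelian sheaf, is stated here.) -/
theorem result {X U : Scheme.{u}} (j : U ⟶ X) [IsOpenImmersion j] [EtCoh.BCCont j] (F : EtCoh.Ab X) (n : ℕ) : EtDepth.DepthGE j F n ↔ ∀ (X' : Scheme.{u}) (g : X' ⟶ X) [Etale g] [PreservesFiniteLimits (EtCoh.pull (pullback.snd j g))], (∀ p : ℕ, p + 1 < n → Function.Bijective (EtCore.Hpull (pullback.snd j g) ((EtCoh.pull g).obj F) p)) ∧ (∀ p : ℕ, p + 1 = n → Function.Injective (EtCore.Hpull (pullback.snd j g) ((EtCoh.pull g).obj F) p)) := by
  exact Aux.main j F n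

end Groth.Agent.S3364
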