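import Groth.Statements.S3402
-- import your own Groth.Agent.* helpers here
import Mathlib
import Groth.Agent.Lib.Helper7.ProConsLib2

set_option autoImplicit false
open CategoryTheory AlgebraicGeometry
universe u
open EGA41

namespace Groth.Agent.S3402

/-- A subset E of a scheme X is locally constructible if and only if it is both ind-constructible and
pro-constructible. -/
theorem result (X : Scheme.{u}) (E : Set X) :
    Topology.IsLocallyConstructible E ↔ ProCons.IsIndConstructible E ∧ ProCons.IsProConstructible E := by
  have hspec : ∀ U : X.affineOpens, SpectralSpace ((U : X.Opens) : Set X) := by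
    intro U
    have hU : IsAffineOpen (U : X.Opens) := U.2
    have : SpectralSpace (Spec Γ(X, U)) := inferInstanceAs (SpectralSpace (PrimeSpectrum Γ(X, U)))
    have hc : CompactSpace ((U : X.Opens) : Set X) := isCompact_iff_compactSpace.mp hU.isCompact
    have he : Topology.IsOpenEmbedding hU.isoSpec.hom.base :=
      (Scheme.homeoOfIso hU.isoSpec).isOpenEmbedding
    exact he.spectralSpace
  constructor
  · intro h
    exact ⟨Groth.Agent.Helper7.ProConsLib.isIndConstructible_of_isLocallyConstructible h,
      Groth.Agent.Helper7.ProConsLib.isProConstructible_of_isLocallyConstructible h⟩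
  · rintro ⟨h1, h2⟩ x
    obtain ⟨_, ⟨U, hU, rfl⟩, hxU, -⟩ :=
      (X.isBasis_affineOpens).exists_subset_of_mem_open (Set.mem_univ x) isOpen_univ
    have := hspec ⟨U, hU⟩
    refine ⟨(U : Set X), U.2.mem_nhds hxU, U.2, ?_⟩
    exact Groth.Agent.Helper7.ProConsLib.isConstructible_of_ind_of_pro
      (Groth.Agent.Helper7.ProConsLib.isIndConstructible_preimage_val h1 U.2)
      (Groth.Agent.Helper7.ProConsLib.isProConstructible_preimage_val h2 U.2)

end Groth.Agent.S3402
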