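import Groth.Statements.S3403
-- import your own Groth.Agent.* helpers here
import Mathlib
import Groth.Agent.Lib.Helper7.ProConsLib2

set_option autoImplicit false
open CategoryTheory AlgebraicGeometry
universe u
open EGA41

namespace Groth.Agent.S3403

/-- Let X be a scheme, E an ind-constructible subset of X and x a point of X. Then x is an interior
point of E if and only if every generization of x belongs to E. -/
theorem result (X : Scheme.{u}) (E : Set X)
    (hE : ProCons.IsIndConstructible E) (x : X) :
    x ∈ interior E ↔ ∀ x' : X, x' ⤳ x → x' ∈ E := by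
  have hspec : ∀ U : X.affineOpens, SpectralSpace ((U : X.Opens) : Set X) := by
    intro U
    have hU : IsAffineOpen (U : X.Opens) := U.2
    have : SpectralSpace (Spec Γ(X, U)) := inferInstanceAs (SpectralSpace (PrimeSpectrum Γ(X, U)))
    have hc : CompactSpace ((U : X.Opens) : Set X) := isCompact_iff_compactSpace.mp hU.isCompact
    have he : Topology.IsOpenEmbedding hU.isoSpec.hom.base :=
      (Scheme.homeoOfIso hU.isoSpec).isOpenEmbedding
    exact he.spectralSpace
  constructor
  · intro hx x' hx'
    exact interior_subset (hx'.mem_open isOpen_interior hx)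
  · intro h
    obtain ⟨_, ⟨U, hU, rfl⟩, hxU, -⟩ :=
      (X.isBasis_affineOpens).exists_subset_of_mem_open (Set.mem_univ x) isOpen_univ
    have := hspec ⟨U, hU⟩
    exact Groth.Agent.Helper7.ProConsLib.mem_interior_of_isIndConstructible hE
      (W := (U : Set X)) U.2 x hxU h

end Groth.Agent.S3403
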