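import Groth.Statements.S3404
-- import your own Groth.Agent.* helpers here
import Mathlib
import Groth.Agent.Lib.Helper7.OpenAt

set_option autoImplicit false
open CategoryTheory AlgebraicGeometry
universe u
open EGA41

namespace Groth.Agent.S3404

/-- Let f : X ⟶ Y be a morphism of schemes, x a point of X and y = f x. If f is open at x then every
generization of y is the image of a generization of x; when f is locally of finite presentation the
converse holds. -/
theorem result {X Y : Scheme.{u}} (f : X ⟶ Y) (x : X) :
    (EGA43.IsOpenAt f.base x → ∀ y' : Y, y' ⤳ f.base x → ∃ x' : X, x' ⤳ x ∧ f.base x' = y') ∧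
    (LocallyOfFinitePresentation f →
      ((EGA43.IsOpenAt f.base x) ↔ ∀ y' : Y, y' ⤳ f.base x → ∃ x' : X, x' ⤳ x ∧ f.base x' = y')) := by
  refine ⟨fun hopen y' hy' =>
    Groth.Agent.Helper7.OpenAt.generizations_lift_of_isOpenAt f x hopen y' hy', ?_⟩
  intro hf
  exact ⟨fun hopen y' hy' =>
    Groth.Agent.Helper7.OpenAt.generizations_lift_of_isOpenAt f x hopen y' hy',
    fun hgen => Groth.Agent.Helper7.OpenAt.isOpenAt_of_generizations_lift f x hgen⟩

end Groth.Agent.S3404
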