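import Groth.Statements.S3435
-- import your own Groth.Agent.* helpers here
import Mathlib

set_option autoImplicit false
universe u
open EGA41

namespace Groth.Agent.S3435

open TensorProduct in
/-- Let Λ → A → B → C be ring homomorphisms. The homomorphism Ω_{B/Λ} ⊗_B C → Ω_{B/A} ⊗_B C maps the
imperfection module Υ_{C/B/Λ} (the kernel of Ω_{B/Λ} ⊗_B C → Ω_{C/Λ}) onto the imperfection module
Υ_{C/B/A} (the kernel of Ω_{B/A} ⊗_B C → Ω_{C/A}): every element of Υ_{C/B/A} is the image of some
element of Υ_{C/B/Λ}. -/
theorem result (Λ A B C : Type u) [CommRing Λ] [CommRing A] [CommRing B] [CommRing C]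
    [Algebra Λ A] [Algebra Λ B] [Algebra Λ C] [Algebra A B] [Algebra A C] [Algebra B C]
    [IsScalarTower Λ A B] [IsScalarTower Λ A C] [IsScalarTower Λ B C] [IsScalarTower A B C] :
    ∀ ω ∈ EGA41.imperfection A B C, ∃ η ∈ EGA41.imperfection Λ B C,
      (KaehlerDifferential.map Λ A B B).baseChange C η = ω := by
  intro ω hω
  have kd_ext : ∀ {N : Type u} [AddCommGroup N] [Module A N] [Module Λ N] [IsScalarTower Λ A N] (f g : Ω[A⁄Λ] →ₗ[A] N),
      (∀ a, f (KaehlerDifferential.D Λ A a) = g (KaehlerDifferential.D Λ A a)) → f = g := by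
    intro N _ _ _ _ f g h
    exact Derivation.liftKaehlerDifferential_unique f g (Derivation.ext h)
  have kd_extB : ∀ {N : Type u} [AddCommGroup N] [Module B N] [Module Λ N] [IsScalarTower Λ B N] (f g : Ω[B⁄Λ] →ₗ[B] N),
      (∀ a, f (KaehlerDifferential.D Λ B a) = g (KaehlerDifferential.D Λ B a)) → f = g := by
    intro N _ _ _ _ f g h
    exact Derivation.liftKaehlerDifferential_unique f g (Derivation.ext h)
  let g : C ⊗[A] Ω[A⁄Λ] →ₗ[C] C ⊗[B] Ω[B⁄Λ] :=
    LinearMap.liftBaseChange C (((TensorProduct.mk B C Ω[B⁄Λ] 1).restrictScalars A) ∘ₗ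
      (KaehlerDifferential.map Λ Λ A B))
  have hgt : ∀ (c : C) (x : Ω[A⁄Λ]), g (c ⊗ₜ x) = c ⊗ₜ[B] KaehlerDifferential.map Λ Λ A B x := by
    intro c x
    change LinearMap.liftBaseChange C _ (c ⊗ₜ x) = _
    rw [LinearMap.liftBaseChange_tmul]
    change c • ((1 : C) ⊗ₜ[B] KaehlerDifferential.map Λ Λ A B x) = _
    rw [TensorProduct.smul_tmul', smul_eq_mul, mul_one]
  have hg1 : ∀ α, KaehlerDifferential.mapBaseChange Λ B C (g α) =
      KaehlerDifferential.mapBaseChange Λ A C α := by
    have h1 : (KaehlerDifferential.mapBaseChange Λ B C) ∘ₗ g =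
        KaehlerDifferential.mapBaseChange Λ A C := by
      apply TensorProduct.AlgebraTensorModule.ext
      intro c x
      rw [LinearMap.comp_apply, hgt, KaehlerDifferential.mapBaseChange_tmul,
        KaehlerDifferential.mapBaseChange_tmul]
      congr 1
      have h2 : ((KaehlerDifferential.map Λ Λ B C).restrictScalars A) ∘ₗ
          (KaehlerDifferential.map Λ Λ A B) = KaehlerDifferential.map Λ Λ A C := by
        apply kd_ext
        intro a
        simp only [LinearMap.coe_comp, LinearMap.coe_restrictScalars, Function.comp_apply,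
          KaehlerDifferential.map_D]
        rw [← IsScalarTower.algebraMap_apply]
      exact DFunLike.congr_fun h2 x
    exact fun α => DFunLike.congr_fun h1 α
  have hg2 : ∀ α, (KaehlerDifferential.map Λ A B B).baseChange C (g α) = 0 := by
    have h1 : ((KaehlerDifferential.map Λ A B B).baseChange C) ∘ₗ g = 0 := by
      apply TensorProduct.AlgebraTensorModule.ext
      intro c x
      rw [LinearMap.comp_apply, hgt, LinearMap.baseChange_tmul, LinearMap.zero_apply]
      have h2 : ((KaehlerDifferential.map Λ A B B).restrictScalars A) ∘ₗ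
          (KaehlerDifferential.map Λ Λ A B) = 0 := by
        apply kd_ext
        intro a
        simp only [LinearMap.coe_comp, LinearMap.coe_restrictScalars, Function.comp_apply,
          KaehlerDifferential.map_D, LinearMap.zero_apply]
        change KaehlerDifferential.D A B (algebraMap A B a) = 0
        exact Derivation.map_algebraMap _ a
      have h3 := DFunLike.congr_fun h2 x
      rw [LinearMap.comp_apply, LinearMap.zero_apply, LinearMap.coe_restrictScalars] at h3
      rw [h3, tmul_zero]
    exact fun α => DFunLike.congr_fun h1 α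
  have hsq : ∀ η, KaehlerDifferential.map Λ A C C (KaehlerDifferential.mapBaseChange Λ B C η) =
      KaehlerDifferential.mapBaseChange A B C
        ((KaehlerDifferential.map Λ A B B).baseChange C η) := by
    have h1 : (KaehlerDifferential.map Λ A C C) ∘ₗ (KaehlerDifferential.mapBaseChange Λ B C) =
        (KaehlerDifferential.mapBaseChange A B C) ∘ₗ
          ((KaehlerDifferential.map Λ A B B).baseChange C) := by
      apply TensorProduct.AlgebraTensorModule.ext
      intro c x
      rw [LinearMap.comp_apply, LinearMap.comp_apply, LinearMap.baseChange_tmul,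
        KaehlerDifferential.mapBaseChange_tmul, KaehlerDifferential.mapBaseChange_tmul, map_smul]
      congr 1
      have h2 : ((KaehlerDifferential.map Λ A C C).restrictScalars B) ∘ₗ
          (KaehlerDifferential.map Λ Λ B C) =
          (KaehlerDifferential.map A A B C) ∘ₗ (KaehlerDifferential.map Λ A B B) := by
        apply kd_extB
        intro b
        simp only [LinearMap.coe_comp, LinearMap.coe_restrictScalars, Function.comp_apply,
          KaehlerDifferential.map_D]
        rfl
      exact DFunLike.congr_fun h2 x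
    exact fun η => DFunLike.congr_fun h1 η
  have hsurj : Function.Surjective ((KaehlerDifferential.map Λ A B B).baseChange C) :=
    LinearMap.lTensor_surjective C (KaehlerDifferential.map_surjective Λ A B)
  obtain ⟨η₀, hη₀⟩ := hsurj ω
  have h0 : KaehlerDifferential.map Λ A C C (KaehlerDifferential.mapBaseChange Λ B C η₀) = 0 := by
    rw [hsq, hη₀]
    exact hω
  obtain ⟨α, hα⟩ := (KaehlerDifferential.exact_mapBaseChange_map Λ A C _).1 h0
  refine ⟨η₀ - g α, ?_, ?_⟩
  · change KaehlerDifferential.mapBaseChange Λ B C (η₀ - g α) = 0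
    rw [map_sub, hg1, hα, sub_self]
  · rw [map_sub, hg2, sub_zero, hη₀]

end Groth.Agent.S3435
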