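import Groth.Statements.S3439
-- import your own Groth.Agent.* helpers here
import Mathlib
import Groth.Agent.Lib.Helper7.ProConsLib

set_option autoImplicit false
open CategoryTheory AlgebraicGeometry
universe u
open EGA41

namespace Groth.Agent.S3439

/-- Let X be a quasi-compact scheme, E an ind-constructible subset of X and (F_i) a family of
pro-constructible subsets of X whose intersection is contained in E. Then there is a finite set J of
indices such that the intersection of the F_i for i in J is already contained in E. (Taking E = ∅: a
family of pro-constructible subsets with empty intersection has a finite subfamily with empty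
intersection.) -/
theorem result (X : Scheme.{u}) [CompactSpace X] (E : Set X)
    (hE : ProCons.IsIndConstructible E) {ι : Type u} (F : ι → Set X) (hF : ∀ i, ProCons.IsProConstructible (F i))
    (h : ⋂ i, F i ⊆ E) :
    ∃ J : Finset ι, ⋂ i ∈ J, F i ⊆ E := by
  classical
  -- a finite cover by affine opens
  have hcov : ∀ x : X, ∃ U : X.affineOpens, x ∈ ((U : X.Opens) : Set X) := by
    intro x
    obtain ⟨_, ⟨U, hU, rfl⟩, hxU, -⟩ :=
      (X.isBasis_affineOpens).exists_subset_of_mem_open (Set.mem_univ x) isOpen_univ
    exact ⟨⟨U, hU⟩, hxU⟩
  obtain ⟨t, ht⟩ := isCompact_univ.elim_finite_subcover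
    (fun U : X.affineOpens => ((U : X.Opens) : Set X)) (fun U => (U : X.Opens).2)
    (fun x _ => by
      obtain ⟨U, hU⟩ := hcov x
      exact Set.mem_iUnion.mpr ⟨U, hU⟩)
  have hspec : ∀ U : X.affineOpens, SpectralSpace ((U : X.Opens) : Set X) := by
    intro U
    have hU : IsAffineOpen (U : X.Opens) := U.2
    have : SpectralSpace (Spec Γ(X, U)) := inferInstanceAs (SpectralSpace (PrimeSpectrum Γ(X, U)))
    have hc : CompactSpace ((U : X.Opens) : Set X) := isCompact_iff_compactSpace.mp hU.isCompact
    have he : Topology.IsOpenEmbedding hU.isoSpec.hom.base :=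
      (Scheme.homeoOfIso hU.isoSpec).isOpenEmbedding
    exact he.spectralSpace
  exact Groth.Agent.Helper7.ProConsLib.exists_finset_iInter_subset
    (fun U : t => (((U : X.affineOpens) : X.Opens) : Set X))
    (fun U => ((U : X.affineOpens) : X.Opens).2) (fun U => hspec U)
    (fun x => by
      have hx := ht (Set.mem_univ x)
      simp only [Set.mem_iUnion] at hx
      obtain ⟨U, hUt, hxU⟩ := hx
      exact ⟨⟨U, hUt⟩, hxU⟩)
    hE F hF h

end Groth.Agent.S3439
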