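import Groth.Statements.S3450
import Groth.Agent.Lib.Helper8.Chev3

set_option autoImplicit false
universe u
open EGA43

namespace Groth.Agent.S3450

/-- Let A be a Noetherian local ring which is reduced, complete (for the topology defined by its maximal
ideal m) and not a field. Then for every n there are finitely many local homomorphisms φ_i : A → V_i
into discrete valuation rings, each making V_i a finite A-algebra, such that the intersection of
their kernels is contained in mⁿ. (Equivalently: such finite intersections form a base of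
neighbourhoods of 0 for the m-adic topology.) -/
theorem result (A : Type u) [CommRing A] [IsNoetherianRing A]
    [IsLocalRing A] [IsReduced A] [IsAdicComplete (IsLocalRing.maximalIdeal A) A] (hA : ¬ IsField A) (n : ℕ) :
    ∃ (k : ℕ) (V : Fin k → Type u) (_ : ∀ i, CommRing (V i)) (_ : ∀ i, IsDomain (V i))
      (_ : ∀ i, IsDiscreteValuationRing (V i)) (φ : ∀ i, A →+* V i),
      (∀ i, IsLocalHom (φ i) ∧ (φ i).Finite) ∧
        ⨅ i, RingHom.ker (φ i) ≤ IsLocalRing.maximalIdeal A ^ n := by
  classical
  obtain ⟨F, hF, hle⟩ := Groth.Agent.Helper8.Chev.exists_finset_primes (A := A) hA n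
  have key : ∀ p : {p : Ideal A // p ∈ F}, ∃ (T : Type u) (_ : CommRing T) (_ : IsDomain T)
      (_ : IsDiscreteValuationRing T) (φ : A →+* T),
      IsLocalHom φ ∧ φ.Finite ∧ RingHom.ker φ = p.1 := by
    rintro ⟨p, hp⟩
    haveI := (hF p hp).1
    exact Groth.Agent.Helper8.Chev.exists_dvr A p (hF p hp).2
  choose T i1 i2 i3 φ h1 h2 h3 using key
  let e : Fin F.card ≃ {p : Ideal A // p ∈ F} := F.equivFin.symm
  refine ⟨F.card, fun i => T (e i), fun i => i1 (e i), fun i => i2 (e i), fun i => i3 (e i),
    fun i => φ (e i), fun i => ⟨h1 (e i), h2 (e i)⟩, ?_⟩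
  refine le_trans ?_ hle
  refine Finset.le_inf fun p hp => ?_
  have := iInf_le (fun i => RingHom.ker (φ (e i))) (e.symm ⟨p, hp⟩)
  rw [Equiv.apply_symm_apply, h3] at this
  exact this

end Groth.Agent.S3450
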