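import Groth.Statements.S3510
import Mathlib
import Groth.Statements.S3510
import Groth.Agent.S3513
import Groth.Agent.S0642
import Groth.Agent.Lib.Helper9.FE.HpullCompEq
import Groth.Agent.Lib.Helper9.FE.EtLG
-- import your own Groth.Agent.* helpers here

set_option autoImplicit false
universe u
open CategoryTheory CategoryTheory.Limits AlgebraicGeometry Opposite
open EtAcyc

namespace Groth.Agent.S3510

open CategoryTheory CategoryTheory.Limits AlgebraicGeometry Opposite
open EtAcyc
namespace Aux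
set_option backward.isDefEq.respectTransparency false
set_option linter.style.haveILetI false
set_option linter.unusedSectionVars false
open H9FE.EtTrLeray H9FE.EtLG

attribute [local instance] Groth.Agent.S0623.lexPull

/-- form (ii) only depends on the morphism up to isomorphism of the source -/
theorem PB_transfer {X1 X2 Y : Scheme.{u}} (f1 : X1 ⟶ Y) (f2 : X2 ⟶ Y) (e : X1 ≅ X2)
    (he : e.hom ≫ f2 = f1) (F : EtCoh.Ab Y) (n : ℕ) (h : PB f2 F n) : PB f1 F n := by
  have key : ∀ q, ∃ φ : EtCoh.H X2 ((EtCoh.pull f2).obj F) q → EtCoh.H X1 ((EtCoh.pull f1).obj F) q,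
      Function.Bijective φ ∧ ⇑(EtCore.Hpull f1 F q) = φ ∘ ⇑(EtCore.Hpull f2 F q) := by
    intro q
    obtain ⟨φ, hφ, h1⟩ := H9FE.HpullCompEq.exists_bijective_Hpull_comp e.hom f2 he F q
    have hB : Function.Bijective (EtCore.Hpull e.hom ((EtCoh.pull f2).obj F) q) :=
      Groth.Agent.S0642.result e.hom _ q
    exact ⟨φ ∘ EtCore.Hpull e.hom _ q, hφ.comp hB, funext fun α => h1 α⟩
  refine ⟨fun q hq => ?_, ?_⟩
  · obtain ⟨φ, hφ, e1⟩ := key q
    rw [e1]
    exact hφ.comp (h.1 q hq)
  · obtain ⟨φ, hφ, e1⟩ := key (n + 1)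
    rw [e1]
    exact hφ.1.comp h.2

theorem main {X Y : Scheme.{u}} (g : X ⟶ Y) (L : Set ℕ) (n : ℕ) :
    EtAcyc.IsAcyclicN g L n ↔
      ∀ (V : Y.Etale) (F : EtCoh.Ab V.left), EtAcyc.IsLTorsion L F →
        IsIso ((EtCoh.pullPushAdj (EtAcyc.prj g V)).unit.app F) ∧
          ∀ q : ℕ, 1 ≤ q → q ≤ n →
            IsZero ((EtCoh.Rpush (EtAcyc.prj g V) q).obj ((EtCoh.pull (EtAcyc.prj g V)).obj F)) := by
  constructor
  · intro hA V F hF
    have hyp : ∀ W : V.left.Etale,
        PB (pullback.fst W.hom (EtAcyc.prj g V)) ((EtCoh.pull W.hom).obj F) n := by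
      intro W
      haveI hW : Etale W.hom := W.prop
      haveI hV : Etale V.hom := V.prop
      have h1 := hA ((EtShriek.compEtale V.hom).obj W) ((EtCoh.pull W.hom).obj F)
        (Groth.Agent.S3513.Aux.isLTorsion_pull _ L F hF)
      have h2 : PB (EtAcyc.prj g ((EtShriek.compEtale V.hom).obj W))
          ((EtCoh.pull W.hom).obj F) n := h1
      exact PB_transfer _ _ (pullbackRightPullbackFstIso V.hom g W.hom)
        (pullbackRightPullbackFstIso_hom_fst V.hom g W.hom) _ n h2
    exact PA_of_local (EtAcyc.prj g V) F n hyp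
  · intro hB V F hF inst
    exact PB_of_PA (EtAcyc.prj g V) F n (hB V F hF)

end Aux

/-- (i) ⇔ (ii): let g : X → Y be a morphism of schemes, L a set of primes and n a natural number. Then g
is n-acyclic for L (form (ii): for every etale V → Y with projection g' : X ×_Y V → V and every
abelian L-torsion sheaf F on V, H^q(V, F) → H^q(X ×_Y V, g'⁻¹F) is bijective for q ≤ n and injective
for q = n + 1) if and only if (form (i)) for every such V and F the unit F → g'_* g'⁻¹ F is an
isomorphism and R^q g'_* (g'⁻¹ F) = 0 for 1 ≤ q ≤ n. -/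
theorem result {X Y : Scheme.{u}} (g : X ⟶ Y) (L : Set ℕ) (n : ℕ) :
    EtAcyc.IsAcyclicN g L n ↔
      ∀ (V : Y.Etale) (F : EtCoh.Ab V.left), EtAcyc.IsLTorsion L F →
        IsIso ((EtCoh.pullPushAdj (EtAcyc.prj g V)).unit.app F) ∧
          ∀ q : ℕ, 1 ≤ q → q ≤ n →
            IsZero ((EtCoh.Rpush (EtAcyc.prj g V) q).obj ((EtCoh.pull (EtAcyc.prj g V)).obj F)) := by
  exact Aux.main g L n

end Groth.Agent.S3510
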