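import Groth.Statements.S3514
import Mathlib
import Groth.Statements.S3514
import Groth.Agent.S0537
import Groth.Agent.S3513
import Groth.Agent.Lib.Helper9.FE.SHLift
-- import your own Groth.Agent.* helpers here

set_option autoImplicit false
universe u
open CategoryTheory CategoryTheory.Limits AlgebraicGeometry Opposite
open EtAcyc

namespace Groth.Agent.S3514

open CategoryTheory CategoryTheory.Limits AlgebraicGeometry Opposite
namespace Aux
set_option backward.isDefEq.respectTransparency false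
set_option linter.style.haveILetI false
set_option linter.unusedSectionVars false
open IsLocalRing

variable (P : ∀ ⦃X' Y' : Scheme.{u}⦄, (X' ⟶ Y') → Prop)

/-- evaluate a property on strict localizations at a lifted ring map -/
lemma apply_onSL {X Y : Scheme.{u}} (g : X ⟶ Y) (hg : EtAcyc.OnStrictLocalizations g P) (x : X)
    (RY RX : Type u) [CommRing RY] [CommRing RX] [IsLocalRing RY] [IsLocalRing RX]
    [Algebra (Y.presheaf.stalk (g.base x)) RY]
    [IsLocalHom (algebraMap (Y.presheaf.stalk (g.base x)) RY)]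
    [Hensel.IsStrictHenselization (Y.presheaf.stalk (g.base x)) RY]
    [Algebra (X.presheaf.stalk x) RX] [IsLocalHom (algebraMap (X.presheaf.stalk x) RX)]
    [Hensel.IsStrictHenselization (X.presheaf.stalk x) RX]
    (φ : RY →+* RX) [hφl : IsLocalHom φ]
    (hφ : φ.comp (algebraMap (Y.presheaf.stalk (g.base x)) RY) =
      (algebraMap (X.presheaf.stalk x) RX).comp (g.stalkMap x).hom) :
    P (Spec.map (CommRingCat.ofHom φ)) := by
  letI := φ.toAlgebra
  haveI : IsLocalHom (algebraMap RY RX) := hφl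
  exact hg x RY RX hφ

variable {X Y Z : Scheme.{u}} (g : X ⟶ Y) (h : Y ⟶ Z)

theorem onSL_comp_iff
    (hP : ∀ {A B C : Scheme.{u}} (a : A ⟶ B) (b : B ⟶ C), P a → (P b ↔ P (a ≫ b)))
    (hsurj : Function.Surjective g.base) (hg : EtAcyc.OnStrictLocalizations g P) :
    EtAcyc.OnStrictLocalizations h P ↔ EtAcyc.OnStrictLocalizations (g ≫ h) P := by
  constructor
  · intro hh x RZ RX i1 i2 i3 i4 i5 i6 i7 i8 i9 i10 i11 i12 hc
    obtain ⟨RY, cY, lrY, aY, lY, sY⟩ :=
      Groth.Agent.S0537.result (Y.presheaf.stalk (g.base x))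
    haveI : HenselianLocalRing RX := i10.henselian
    haveI := i10.isSepClosure
    haveI : IsSepClosed (ResidueField RX) :=
      IsSepClosure.sep_closed (ResidueField (X.presheaf.stalk x))
    obtain ⟨φ, lφ, hφ⟩ := H9FE.SHLift.exists_lift (A := Y.presheaf.stalk (g.base x)) (S := RY)
      (T := RX) ((algebraMap (X.presheaf.stalk x) RX).comp (g.stalkMap x).hom)
    have hχ : (algebraMap RZ RX).comp
        (@algebraMap (Z.presheaf.stalk (h.base (g.base x))) RZ _ _ i5) =
        (φ.comp (algebraMap (Y.presheaf.stalk (g.base x)) RY)).comp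
          (h.stalkMap (g.base x)).hom := by
      rw [hφ]
      refine hc.trans ?_
      rw [Scheme.Hom.stalkMap_comp]
      rfl
    obtain ⟨ψ, lψ, hψ1, hψ2⟩ := @H9FE.SHLift.exists_factor
      (Z.presheaf.stalk (h.base (g.base x))) (Y.presheaf.stalk (g.base x)) RZ RY RX
      _ _ _ _ _ _ i5 i6 i7 _ _ _ _ _ _ _ (h.stalkMap (g.base x)).hom _ φ lφ (algebraMap RZ RX) i12 hχ
    have pφ : P (Spec.map (CommRingCat.ofHom φ)) := apply_onSL P g hg x RY RX φ hφ
    have pψ : P (Spec.map (CommRingCat.ofHom ψ)) :=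
      @apply_onSL P Y Z h hh (g.base x) RZ RY _ _ _ _ i5 i6 i7 _ _ _ ψ lψ hψ1
    have pc := (hP _ _ pφ).1 pψ
    have e : Spec.map (CommRingCat.ofHom φ) ≫ Spec.map (CommRingCat.ofHom ψ) =
        Spec.map (CommRingCat.ofHom (algebraMap RZ RX)) := by
      rw [← Spec.map_comp, ← CommRingCat.ofHom_comp, hψ2]
    rw [e] at pc
    exact pc
  · intro hgh y RZ RY i1 i2 i3 i4 i5 i6 i7 i8 i9 i10 i11 i12 hc
    obtain ⟨x, rfl⟩ := hsurj y
    obtain ⟨RX, cX, lrX, aX, lX, sX⟩ :=
      Groth.Agent.S0537.result (X.presheaf.stalk x)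
    haveI : HenselianLocalRing RX := sX.henselian
    haveI := sX.isSepClosure
    haveI : IsSepClosed (ResidueField RX) :=
      IsSepClosure.sep_closed (ResidueField (X.presheaf.stalk x))
    obtain ⟨φ, lφ, hφ⟩ := H9FE.SHLift.exists_lift (A := Y.presheaf.stalk (g.base x)) (S := RY)
      (T := RX) ((algebraMap (X.presheaf.stalk x) RX).comp (g.stalkMap x).hom)
    have pφ : P (Spec.map (CommRingCat.ofHom φ)) := apply_onSL P g hg x RY RX φ hφ
    have hcomp : (φ.comp (algebraMap RZ RY)).comp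
        (@algebraMap (Z.presheaf.stalk ((g ≫ h).base x)) RZ _ _ i5) =
        (algebraMap (X.presheaf.stalk x) RX).comp ((g ≫ h).stalkMap x).hom := by
      rw [RingHom.comp_assoc]
      have hc' : (algebraMap RZ RY).comp
          (@algebraMap (Z.presheaf.stalk ((g ≫ h).base x)) RZ _ _ i5) =
          (algebraMap (Y.presheaf.stalk (g.base x)) RY).comp (h.stalkMap (g.base x)).hom := hc
      rw [hc', ← RingHom.comp_assoc, hφ, Scheme.Hom.stalkMap_comp]
      rfl
    haveI : IsLocalHom (φ.comp (algebraMap RZ RY)) := RingHom.isLocalHom_comp _ _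
    have pc : P (Spec.map (CommRingCat.ofHom (φ.comp (algebraMap RZ RY)))) :=
      @apply_onSL P X Z (g ≫ h) hgh x RZ RX _ _ _ _ i5 i6 i7 _ _ _
        (φ.comp (algebraMap RZ RY)) _ hcomp
    have e : Spec.map (CommRingCat.ofHom (φ.comp (algebraMap RZ RY))) =
        Spec.map (CommRingCat.ofHom φ) ≫ Spec.map (CommRingCat.ofHom (algebraMap RZ RY)) := by
      rw [← Spec.map_comp, ← CommRingCat.ofHom_comp]
    rw [e] at pc
    exact (hP _ _ pφ).2 pc

theorem main (hgs : Function.Surjective g.base) (L : Set ℕ) (n : ℕ) :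
    (EtAcyc.IsLocAcyclicN g L n → (EtAcyc.IsLocAcyclicN h L n ↔ EtAcyc.IsLocAcyclicN (g ≫ h) L n)) ∧
      (EtAcyc.IsLocZeroAcyclic g →
        (EtAcyc.IsLocZeroAcyclic h ↔ EtAcyc.IsLocZeroAcyclic (g ≫ h))) := by
  constructor
  · intro hg
    exact onSL_comp_iff (fun _ _ k => EtAcyc.IsAcyclicN k L n) g h
      (fun a b ha => (Groth.Agent.S3513.result a b L n).1 ha) hgs hg
  · intro hg
    exact onSL_comp_iff (fun _ _ k => EtAcyc.IsZeroAcyclic k) g h
      (fun a b ha => (Groth.Agent.S3513.result a b (∅ : Set ℕ) 0).2 ha) hgs hg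

end Aux

/-- Let g : X → Y and h : Y → Z be morphisms of schemes with g surjective, L a set of primes and n a
natural number. If g is locally n-acyclic for L, then h is locally n-acyclic for L if and only if g
≫ h is; if g is locally 0-acyclic, then h is locally 0-acyclic if and only if g ≫ h is. -/
theorem result {X Y Z : Scheme.{u}} (g : X ⟶ Y) (h : Y ⟶ Z)
    (hg : Function.Surjective g.base) (L : Set ℕ) (n : ℕ) :
    (EtAcyc.IsLocAcyclicN g L n → (EtAcyc.IsLocAcyclicN h L n ↔ EtAcyc.IsLocAcyclicN (g ≫ h) L n)) ∧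
      (EtAcyc.IsLocZeroAcyclic g → (EtAcyc.IsLocZeroAcyclic h ↔ EtAcyc.IsLocZeroAcyclic (g ≫ h))) := by
  exact Aux.main g h hg L n

end Groth.Agent.S3514
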