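import Groth.Statements.S3522
import Groth.Agent.Lib.Helper3.TotQisFlip

set_option autoImplicit false
universe u
attribute [local instance] HasDerivedCategory.standard
open HTor

namespace Groth.Agent.S3522

open CategoryTheory CategoryTheory.Limits in
/-- In cochain indexing: let L be a complex of flat A-modules and η : M ⟶ Q a quasi-isomorphism of
complexes of A-modules, the three complexes vanishing in large degrees. Then L ⊗ η : L ⊗ M ⟶ L ⊗ Q
is a quasi-isomorphism. (Consequently the hypertor modules of L and Q, the cohomology of L' ⊗ M' for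
projective resolutions, are computed by the plain tensor product complex L ⊗ Q; only the
quasi-isomorphism is asserted.) -/
theorem result (A : Type u) [CommRing A] (L M Q : DRing.Cx A)
    (η : M ⟶ Q) [QuasiIso η] (hL : DRing.TermwiseFlat L) (bL : ∃ b : ℤ, DRing.VanishesAbove L b)
    (bM : ∃ b : ℤ, DRing.VanishesAbove M b) (bQ : ∃ b : ℤ, DRing.VanishesAbove Q b) :
    QuasiIso (HomologicalComplex.tensorHom (𝟙 L) η) := by
  obtain ⟨bl, hbl⟩ := bL
  obtain ⟨bm, hbm⟩ := bM
  obtain ⟨bq, hbq⟩ := bQ
  open CategoryTheory CategoryTheory.Limits MonoidalCategory in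
  refine Groth.Agent.Helper3.TotQis.quasiIso_total_map_of_cols _ ?_ ?_
  · intro p
    haveI : Module.Flat A (L.X p) := hL p
    have e : ((((curriedTensor (ModuleCat.{u} A)).mapBifunctorHomologicalComplex (ComplexShape.up ℤ)
        (ComplexShape.up ℤ)).map (𝟙 L)).app M ≫
        (((curriedTensor (ModuleCat.{u} A)).mapBifunctorHomologicalComplex (ComplexShape.up ℤ)
        (ComplexShape.up ℤ)).obj L).map η).f p =
        ((tensorLeft (L.X p)).mapHomologicalComplex (ComplexShape.up ℤ)).map η := by
      ext q : 1
      simp
    rw [e]
    have i1 : PreservesFiniteLimits (tensorLeft (L.X p)) := inferInstance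
    have i2 : PreservesFiniteColimits (tensorLeft (L.X p)) := inferInstance
    have i3 : (tensorLeft (L.X p)).PreservesHomology := inferInstance
    exact HomologicalComplex.quasiIso_map_of_preservesHomology η (tensorLeft (L.X p))
  · intro n
    refine ⟨n - max bm bq, bl, fun p hp => ?_⟩
    rcases hp with hp | hp
    · have h1 : IsZero (M.X (n - p)) := hbm _ (by omega)
      have h2 : IsZero (Q.X (n - p)) := hbq _ (by omega)
      constructor
      · exact ((tensorLeft (L.X p)).map_isZero h1)
      · exact ((tensorLeft (L.X p)).map_isZero h2)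
    · have h1 : IsZero (L.X p) := hbl _ hp
      constructor
      · exact ((tensorRight (M.X (n - p))).map_isZero h1)
      · exact ((tensorRight (Q.X (n - p))).map_isZero h1)


end Groth.Agent.S3522
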