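import Groth.Statements.S3532
import Groth.Statements.S3532
import Mathlib
import Groth.Agent.Lib.Helper3.MLLim

set_option autoImplicit false
universe u
open HomAlg3

namespace Groth.Agent.S3532

section aux

open CategoryTheory Opposite Groth.Agent.Helper3.MLLim

variable (F : ℕᵒᵖ ⥤ AddCommGrpCat.{u})

/-- the image of `F_k → F_n` -/
def R (n k : ℕ) (h : n ≤ k) : AddSubgroup (F.obj (op n)) := (res F h).range

lemma R_anti {n k k' : ℕ} (h : n ≤ k) (h' : k ≤ k') : R F n k' (h.trans h') ≤ R F n k h := by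
  rintro _ ⟨x, rfl⟩
  exact ⟨res F h' x, res_res F h h' x⟩

/-- stabilisation of images at level `n` -/
def Stab (n : ℕ) : Prop :=
  ∃ (k₀ : ℕ) (h₀ : n ≤ k₀), ∀ (k : ℕ) (hk : k₀ ≤ k), R F n k (h₀.trans hk) = R F n k₀ h₀

lemma stab_of_ml (hF : (F ⋙ forget AddCommGrpCat).IsMittagLeffler) (n : ℕ) : Stab F n := by
  obtain ⟨k₀, h₀, H⟩ := ml_index F hF n
  refine ⟨k₀, h₀, fun k hk => le_antisymm (R_anti F h₀ hk) ?_⟩
  rintro _ ⟨x, rfl⟩
  obtain ⟨y, hy⟩ := H k (h₀.trans hk) x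
  exact ⟨y, hy⟩

lemma ml_of_stab (h : ∀ n, Stab F n) : (F ⋙ forget AddCommGrpCat).IsMittagLeffler := by
  apply ml_of_index
  intro n
  obtain ⟨k₀, h₀, H⟩ := h n
  refine ⟨k₀, h₀, fun m hm x => ?_⟩
  have h1 : m ≤ max m k₀ := le_max_left _ _
  have h2 : k₀ ≤ max m k₀ := le_max_right _ _
  have hx : res F h₀ x ∈ R F n (max m k₀) (h₀.trans h2) := by
    rw [H _ h2]
    exact ⟨x, rfl⟩
  obtain ⟨y', hy'⟩ := hx
  exact ⟨res F h1 y', by rw [res_res]; exact hy'⟩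

lemma stab_succ (p : ℕ) (hp : Stab F p)
    (hg : ∃ k₀ : ℕ, ∃ h₀ : p + 1 ≤ k₀, ∀ (k : ℕ) (hk : k₀ ≤ k),
      R F (p + 1) k (h₀.trans hk) ⊓ (res F (Nat.le_succ p)).ker =
        R F (p + 1) k₀ h₀ ⊓ (res F (Nat.le_succ p)).ker) : Stab F (p + 1) := by
  obtain ⟨k₁, h₁, H₁⟩ := hp
  obtain ⟨k₂, h₂, H₂⟩ := hg
  have hk₁ : k₁ ≤ max k₁ k₂ := le_max_left _ _
  have hk₂ : k₂ ≤ max k₁ k₂ := le_max_right _ _
  refine ⟨max k₁ k₂, h₂.trans hk₂, fun k hk => le_antisymm (R_anti F _ hk) ?_⟩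
  rintro _ ⟨u, rfl⟩
  -- the image in level `p`
  have hx : res F (Nat.le_succ p) (res F (h₂.trans hk₂) u) ∈ R F p k (h₁.trans (hk₁.trans hk)) := by
    rw [H₁ k (hk₁.trans hk), res_res]
    exact ⟨res F hk₁ u, res_res F _ _ u⟩
  obtain ⟨v, hv⟩ := hx
  have hpk : p + 1 ≤ k := (h₂.trans hk₂).trans hk
  have hdiff : res F (h₂.trans hk₂) u - res F hpk v ∈
      R F (p + 1) k₂ h₂ ⊓ (res F (Nat.le_succ p)).ker := by
    rw [← H₂ (max k₁ k₂) hk₂]
    refine ⟨AddSubgroup.sub_mem _ ⟨u, rfl⟩ (R_anti F _ hk ⟨v, rfl⟩), ?_⟩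
    change res F (Nat.le_succ p) (res F (h₂.trans hk₂) u - res F hpk v) = 0
    rw [map_sub, res_res F (Nat.le_succ p) hpk v, hv, sub_self]
  rw [← H₂ k (hk₂.trans hk)] at hdiff
  have := AddSubgroup.add_mem _ hdiff.1 (⟨v, rfl⟩ : res F hpk v ∈ R F (p + 1) k hpk)
  simpa using this

end aux

open CategoryTheory in
/-- Category of abelian groups, system indexed by the natural numbers: Let (A_k)_{k ≥ 0} be an inverse
system of abelian groups. For p ≤ k write Im_k(A_p) for the image of A_k → A_p, and K_p for the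
kernel of A_p → A_{p-1} (K_0 = A_0). Then (A_k) satisfies the Mittag-Leffler condition (for each p
the subgroups Im_k(A_p) are eventually constant in k) if and only if for each p the subgroups
Im_k(A_p) ∩ K_p are eventually constant in k. -/
theorem result (F : ℕᵒᵖ ⥤ AddCommGrpCat.{u}) :
    (F ⋙ forget AddCommGrpCat).IsMittagLeffler ↔
      ((∃ k₀ : ℕ, ∀ (k : ℕ) (hk : k₀ ≤ k),
          (F.map (homOfLE (Nat.zero_le k)).op).hom.range = (F.map (homOfLE (Nat.zero_le k₀)).op).hom.range) ∧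
        ∀ p : ℕ, ∃ k₀ : ℕ, ∃ h₀ : p + 1 ≤ k₀, ∀ (k : ℕ) (hk : k₀ ≤ k),
          (F.map (homOfLE (h₀.trans hk)).op).hom.range ⊓ (F.map (homOfLE (Nat.le_succ p)).op).hom.ker =
            (F.map (homOfLE h₀).op).hom.range ⊓ (F.map (homOfLE (Nat.le_succ p)).op).hom.ker) := by
  constructor
  · intro hF
    refine ⟨?_, fun p => ?_⟩
    · obtain ⟨k₀, h₀, H⟩ := stab_of_ml F hF 0
      exact ⟨k₀, fun k hk => H k hk⟩
    · obtain ⟨k₀, h₀, H⟩ := stab_of_ml F hF (p + 1)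
      refine ⟨k₀, h₀, fun k hk => ?_⟩
      have := H k hk
      change R F (p + 1) k _ ⊓ _ = R F (p + 1) k₀ _ ⊓ _
      rw [this]
  · rintro ⟨⟨k₀, H₀⟩, Hg⟩
    apply ml_of_stab
    intro n
    induction n with
    | zero => exact ⟨k₀, Nat.zero_le _, fun k hk => H₀ k hk⟩
    | succ p ih => exact stab_succ F p ih (Hg p)

end Groth.Agent.S3532
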