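import Groth.Statements.S3544
import Mathlib

set_option autoImplicit false
universe u
open HomAlg3

namespace Groth.Agent.S3544

section
open CategoryTheory CategoryTheory.Limits

section sc
variable {A : Type u} [Ring A]

lemma length_sc (S : ShortComplex (ModuleCat.{u} A)) :
    Module.length A S.X₂ = Module.length A S.homology +
      Module.length A (LinearMap.range S.f.hom) + Module.length A (LinearMap.range S.g.hom) := by
  have e1 : Module.length A S.homology =
      Module.length A (LinearMap.ker S.g.hom ⧸ LinearMap.range S.moduleCatToCycles) :=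
    (S.moduleCatHomologyIso.toLinearEquiv).length_eq
  have e2 : Module.length A S.X₂ =
      Module.length A (LinearMap.ker S.g.hom) + Module.length A (LinearMap.range S.g.hom) :=
    Module.length_eq_add_of_exact (LinearMap.ker S.g.hom).subtype S.g.hom.rangeRestrict
      (Submodule.injective_subtype _) (LinearMap.surjective_rangeRestrict _)
      (by
        intro x
        constructor
        · intro h
          have h' := congrArg Subtype.val h
          exact ⟨⟨x, h'⟩, rfl⟩
        · rintro ⟨⟨y, hy⟩, rfl⟩
          apply Subtype.ext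
          exact hy)
  have e3 : Module.length A (LinearMap.ker S.g.hom) =
      Module.length A (LinearMap.range S.moduleCatToCycles) +
      Module.length A (LinearMap.ker S.g.hom ⧸ LinearMap.range S.moduleCatToCycles) :=
    Module.length_eq_add_of_exact (LinearMap.range S.moduleCatToCycles).subtype
      (LinearMap.range S.moduleCatToCycles).mkQ
      (Submodule.injective_subtype _) (Submodule.mkQ_surjective _)
      (LinearMap.exact_subtype_mkQ _)
  have e4 : Module.length A (LinearMap.range S.moduleCatToCycles) =
      Module.length A (LinearMap.range S.f.hom) := by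
    have hmap : (LinearMap.range S.moduleCatToCycles).map (LinearMap.ker S.g.hom).subtype =
        LinearMap.range S.f.hom := by
      rw [← LinearMap.range_comp]
      rfl
    rw [← hmap]
    exact (Submodule.equivMapOfInjective (LinearMap.ker S.g.hom).subtype
      (Submodule.injective_subtype _) (LinearMap.range S.moduleCatToCycles)).length_eq
  rw [e2, e3, e4, e1]
  ring

end sc

section num

def eps (pq : ℤ × ℤ) : ℤ := (((pq.1 + pq.2).negOnePow : ℤˣ) : ℤ)

lemma eps_add (pq v : ℤ × ℤ) (hv : v.1 + v.2 = 1) : eps (pq + v) = - eps pq := by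
  unfold eps
  have : (pq + v).1 + (pq + v).2 = (pq.1 + pq.2) + 1 := by
    simp only [Prod.fst_add, Prod.snd_add]; omega
  rw [this, Int.negOnePow_succ]
  simp

lemma num (s : Finset (ℤ × ℤ)) (v : ℤ × ℤ) (hv : v.1 + v.2 = 1) (L L' B : ℤ × ℤ → ℕ∞)
    (h1 : ∀ pq, L pq = L' pq + B (pq - v) + B pq)
    (h2 : ∀ pq, B pq ≤ L pq ∧ B pq ≤ L (pq + v))
    (h3 : ∀ pq, pq ∉ s → L pq = 0) (h4 : ∀ pq, L pq ≠ ⊤) :
    (∀ pq, pq ∉ s → L' pq = 0) ∧ (∀ pq, L' pq ≠ ⊤) ∧
      s.sum (fun pq => eps pq * ((L' pq).toNat : ℤ)) = s.sum (fun pq => eps pq * ((L pq).toNat : ℤ)) := by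
  classical
  have hle : ∀ pq, L' pq ≤ L pq := by
    intro pq
    rw [h1 pq, add_assoc]
    exact le_self_add
  have hL'top : ∀ pq, L' pq ≠ ⊤ := fun pq h => h4 pq (top_le_iff.mp (h ▸ hle pq))
  have hBtop : ∀ pq, B pq ≠ ⊤ := fun pq h => h4 pq (top_le_iff.mp (h ▸ (h2 pq).1))
  refine ⟨fun pq hpq => ?_, hL'top, ?_⟩
  · have := hle pq
    rw [h3 pq hpq] at this
    exact le_antisymm this zero_le
  · obtain ⟨b, hb⟩ : ∃ b : ℤ × ℤ → ℤ, ∀ pq, b pq = ((B pq).toNat : ℤ) := ⟨_, fun _ => rfl⟩
    have hLb : ∀ pq, ((L pq).toNat : ℤ) = ((L' pq).toNat : ℤ) + b (pq - v) + b pq := by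
      intro pq
      rw [hb, hb, h1 pq, ENat.toNat_add (by
        intro h
        rcases ENat.add_eq_top.mp h with h | h
        · exact hL'top pq h
        · exact hBtop _ h) (hBtop pq), ENat.toNat_add (hL'top pq) (hBtop _)]
      push_cast
      ring
    have hb0 : ∀ pq, ¬ (pq ∈ s ∧ pq + v ∈ s) → b pq = 0 := by
      intro pq hpq
      rw [hb]
      have : B pq = 0 := by
        by_cases h : pq ∈ s
        · have h' : pq + v ∉ s := fun h' => hpq ⟨h, h'⟩
          have := (h2 pq).2
          rw [h3 _ h'] at this
          exact le_antisymm this zero_le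
        · have := (h2 pq).1
          rw [h3 _ h] at this
          exact le_antisymm this zero_le
      rw [this]
      rfl
    have key : s.sum (fun pq => eps pq * (b (pq - v) + b pq)) = 0 := by
      rw [Finset.sum_congr rfl (fun pq _ => mul_add (eps pq) (b (pq - v)) (b pq)),
        Finset.sum_add_distrib]
      have s1 : s.sum (fun pq => eps pq * b pq) =
          (s.filter (fun pq => pq + v ∈ s)).sum (fun pq => eps pq * b pq) := by
        rw [Finset.sum_filter]
        refine Finset.sum_congr rfl (fun pq hpq => ?_)
        split_ifs with h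
        · rfl
        · rw [hb0 pq (fun hh => h hh.2), mul_zero]
      have s2 : s.sum (fun pq => eps pq * b (pq - v)) =
          (s.filter (fun pq => pq - v ∈ s)).sum (fun pq => eps pq * b (pq - v)) := by
        rw [Finset.sum_filter]
        refine Finset.sum_congr rfl (fun pq hpq => ?_)
        split_ifs with h
        · rfl
        · rw [hb0 (pq - v) (fun hh => h hh.1), mul_zero]
      have s3 : (s.filter (fun pq => pq - v ∈ s)).sum (fun pq => eps pq * b (pq - v)) =
          (s.filter (fun pq => pq + v ∈ s)).sum (fun pq => - (eps pq * b pq)) := by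
        refine Finset.sum_nbij' (fun pq => pq - v) (fun pq => pq + v) ?_ ?_ ?_ ?_ ?_
        · intro pq hpq
          rw [Finset.mem_filter] at hpq ⊢
          exact ⟨hpq.2, by rw [sub_add_cancel]; exact hpq.1⟩
        · intro pq hpq
          rw [Finset.mem_filter] at hpq ⊢
          exact ⟨hpq.2, by rw [add_sub_cancel_right]; exact hpq.1⟩
        · intro pq _
          exact sub_add_cancel pq v
        · intro pq _
          exact add_sub_cancel_right pq v
        · intro pq _
          have : eps pq = - eps (pq - v) := by
            have := eps_add (pq - v) v hv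
            rw [sub_add_cancel] at this
            exact this
          rw [this]
          ring
      rw [s1, s2, s3, Finset.sum_neg_distrib]
      ring
    have : ∀ pq ∈ s, eps pq * ((L pq).toNat : ℤ) =
        eps pq * ((L' pq).toNat : ℤ) + eps pq * (b (pq - v) + b pq) := by
      intro pq _
      rw [hLb pq]
      ring
    rw [Finset.sum_congr rfl this, Finset.sum_add_distrib, key, add_zero]

end num

section hc
variable {A : Type u} [Ring A]

lemma length_hc (v : ℤ × ℤ) (K : HomologicalComplex (ModuleCat.{u} A) (ComplexShape.up' v))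
    (pq : ℤ × ℤ) :
    Module.length A (K.X pq) = Module.length A (K.homology pq) +
      Module.length A (LinearMap.range (K.d (pq - v) pq).hom) +
      Module.length A (LinearMap.range (K.d pq (pq + v)).hom) := by
  have hprev : (ComplexShape.up' v).prev pq = pq - v :=
    (ComplexShape.up' v).prev_eq' (show pq - v + v = pq from sub_add_cancel pq v)
  have hnext : (ComplexShape.up' v).next pq = pq + v :=
    (ComplexShape.up' v).next_eq' (show pq + v = pq + v from rfl)
  have h := length_sc (K.sc pq)
  have e1 : Module.length A (LinearMap.range (K.sc pq).f.hom) =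
      Module.length A (LinearMap.range (K.d (pq - v) pq).hom) := by
    show Module.length A (LinearMap.range (K.d ((ComplexShape.up' v).prev pq) pq).hom) = _
    rw [hprev]
  have e2 : Module.length A (LinearMap.range (K.sc pq).g.hom) =
      Module.length A (LinearMap.range (K.d pq (pq + v)).hom) := by
    show Module.length A (LinearMap.range (K.d pq ((ComplexShape.up' v).next pq)).hom) = _
    rw [hnext]
  rw [e1, e2] at h
  exact h

lemma range_le_source {M N : Type u} [AddCommGroup M] [AddCommGroup N] [Module A M] [Module A N]
    (f : M →ₗ[A] N) : Module.length A (LinearMap.range f) ≤ Module.length A M :=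
  Module.length_le_of_surjective f.rangeRestrict (LinearMap.surjective_rangeRestrict f)

lemma range_le_target {M N : Type u} [AddCommGroup M] [AddCommGroup N] [Module A M] [Module A N]
    (f : M →ₗ[A] N) : Module.length A (LinearMap.range f) ≤ Module.length A N :=
  Module.length_le_of_injective (LinearMap.range f).subtype (Submodule.injective_subtype _)

end hc

theorem main {A : Type u} [Ring A]
    (E : E₂CohomologicalSpectralSequence (ModuleCat.{u} A)) (s : Finset (ℤ × ℤ))
    (hs : ∀ pq : ℤ × ℤ, pq ∉ s → IsZero ((E.page 2).X pq))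
    (hfl : ∀ pq : ℤ × ℤ, IsFiniteLength A ((E.page 2).X pq)) (r : ℤ) (hr : 2 ≤ r) :
    (s.sum fun pq => (((pq.1 + pq.2).negOnePow : ℤˣ) : ℤ) * ((Module.length A ((E.page r hr).X pq)).toNat : ℤ)) =
      s.sum fun pq => (((pq.1 + pq.2).negOnePow : ℤˣ) : ℤ) * ((Module.length A ((E.page 2).X pq)).toNat : ℤ) := by
  have P : ∀ r : ℤ, ∀ hr : 2 ≤ r,
      (∀ pq, pq ∉ s → Module.length A ((E.page r hr).X pq) = 0) ∧
      (∀ pq, Module.length A ((E.page r hr).X pq) ≠ ⊤) ∧
      s.sum (fun pq => eps pq * ((Module.length A ((E.page r hr).X pq)).toNat : ℤ)) =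
        s.sum (fun pq => eps pq * ((Module.length A ((E.page 2).X pq)).toNat : ℤ)) := by
    intro r hr
    induction r, hr using Int.le_induction with
    | base =>
      refine ⟨fun pq hpq => ?_, fun pq => ?_, rfl⟩
      · rw [Module.length_eq_zero_iff]
        exact ModuleCat.subsingleton_of_isZero (hs pq hpq)
      · rw [Module.length_ne_top_iff]
        exact hfl pq
    | succ r hr ih =>
      obtain ⟨ih1, ih2, ih3⟩ := ih
      have hnum := num s (⟨r, 1 - r⟩ : ℤ × ℤ) (by simp)
        (fun pq => Module.length A ((E.page r hr).X pq))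
        (fun pq => Module.length A ((E.page (r + 1) (by omega)).X pq))
        (fun pq => Module.length A (LinearMap.range ((E.page r hr).d pq (pq + ⟨r, 1 - r⟩)).hom))
        (fun pq => by
          have h := length_hc (⟨r, 1 - r⟩ : ℤ × ℤ) (E.page r hr) pq
          have e : Module.length A ((E.page (r + 1) (by omega)).X pq) =
              Module.length A ((E.page r hr).homology pq) :=
            ((E.iso r (r + 1) pq rfl hr).toLinearEquiv).length_eq.symm
          simp only [e]
          rw [h]
          congr 2
          rw [sub_add_cancel])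
        (fun pq => ⟨range_le_source _, range_le_target _⟩)
        ih1 ih2
      obtain ⟨n1, n2, n3⟩ := hnum
      exact ⟨n1, n2, n3.trans ih3⟩
  exact (P r hr).2.2


end


open CategoryTheory CategoryTheory.Limits in
/-- Let E be a cohomological spectral sequence of modules over a ring A, starting at page 2, such that
the E₂ terms have finite length and only finitely many of them (all inside the finite set s of
bidegrees) are nonzero. Then for every r ≥ 2 the Euler–Poincaré characteristic of page r, the
alternating sum over s of (-1)^{p+q} times the length of E_r^{pq}, equals that of page 2. -/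
theorem result {A : Type u} [Ring A]
    (E : E₂CohomologicalSpectralSequence (ModuleCat.{u} A)) (s : Finset (ℤ × ℤ))
    (hs : ∀ pq : ℤ × ℤ, pq ∉ s → IsZero ((E.page 2).X pq))
    (hfl : ∀ pq : ℤ × ℤ, IsFiniteLength A ((E.page 2).X pq)) (r : ℤ) (hr : 2 ≤ r) :
    (s.sum fun pq => (((pq.1 + pq.2).negOnePow : ℤˣ) : ℤ) * ((Module.length A ((E.page r hr).X pq)).toNat : ℤ)) =
      s.sum fun pq => (((pq.1 + pq.2).negOnePow : ℤˣ) : ℤ) * ((Module.length A ((E.page 2).X pq)).toNat : ℤ) := by
  classical
  exact main E s hs hfl r hr

end Groth.Agent.S3544
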