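import Groth.Statements.S3553
-- import your own Groth.Agent.* helpers here

set_option autoImplicit false
universe u
open CategoryTheory CategoryTheory.Limits AlgebraicGeometry
open EGA2

namespace Groth.Agent.S3553

/-- In the case where the induced morphism is defined on all of Proj S: let φ : S' → S be a homomorphism
of graded rings such that S_+ is contained in the ideal generated by φ(S'_+), and suppose every
element of the kernel of φ is nilpotent. Then the induced morphism from Proj S to Proj S' has dense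
image. -/
theorem result {R A : Type u} [CommRing R] [CommRing A] [Algebra R A] (𝒜 : ℕ → Submodule R A) [GradedAlgebra 𝒜]
    {B : Type u} [CommRing B] [Algebra R B] (ℬ : ℕ → Submodule R B) [GradedAlgebra ℬ]
    (φ : 𝒜 →+*ᵍ ℬ) (hφ : HomogeneousIdeal.irrelevant ℬ ≤ (HomogeneousIdeal.irrelevant 𝒜).map φ)
    (hker : ∀ a : A, φ a = 0 → IsNilpotent a) :
    DenseRange (Proj.map φ hφ).base := by
  classical
  rw [DenseRange, dense_iff_inter_open]
  rintro U hU ⟨x, hxU⟩
  obtain ⟨_, ⟨s, rfl⟩, hxs, hsU⟩ :=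
    TopologicalSpace.Opens.isBasis_iff_nbhd.mp (Proj.isBasis_basicOpen 𝒜)
      (U := ⟨U, hU⟩) (x := x) hxU
  let i := (Proj.affineOpenCover 𝒜).idx x
  have hxt : x ∈ Proj.basicOpen 𝒜 (i.2 : A) := by
    rw [← Proj.opensRange_awayι 𝒜 _ i.2.2 i.1.2]
    exact (Proj.affineOpenCover 𝒜).covers x
  have hxst : x ∈ Proj.basicOpen 𝒜 (s * (i.2 : A)) := by
    rw [Proj.basicOpen_mul]; exact ⟨hxs, hxt⟩
  rw [Proj.basicOpen_eq_iSup_proj, TopologicalSpace.Opens.mem_iSup] at hxst
  obtain ⟨j, hxj⟩ := hxst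
  set u : A := GradedRing.proj 𝒜 j (s * (i.2 : A)) with hu
  have hu_mem : u ∈ 𝒜 j := by
    rw [hu, GradedRing.proj_apply]; exact SetLike.coe_mem _
  set w : A := u * (i.2 : A) with hw
  have hw_mem : w ∈ 𝒜 (j + i.1) := SetLike.mul_mem_graded hu_mem i.2.2
  have hjd : 0 < j + (i.1 : ℕ) := Nat.add_pos_right _ i.1.2
  have hxw : x ∈ Proj.basicOpen 𝒜 w := by
    rw [hw, Proj.basicOpen_mul]; exact ⟨hxj, hxt⟩
  have hwU : (Proj.basicOpen 𝒜 w : Set (Proj 𝒜)) ⊆ U := by
    intro z hz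
    have hz1 : z ∈ Proj.basicOpen 𝒜 u := by
      rw [hw, Proj.basicOpen_mul] at hz; exact hz.1
    have hz2 : z ∈ Proj.basicOpen 𝒜 (s * (i.2 : A)) := by
      rw [Proj.basicOpen_eq_iSup_proj, TopologicalSpace.Opens.mem_iSup]
      exact ⟨j, hz1⟩
    rw [Proj.basicOpen_mul] at hz2
    exact hsU hz2.1
  have hw_nil : ¬ IsNilpotent w := by
    rintro ⟨n, hn⟩
    have h0 : w ^ (n + 1) = 0 := by rw [pow_succ, hn, zero_mul]
    have h1 : Proj.basicOpen 𝒜 (w ^ (n + 1)) = Proj.basicOpen 𝒜 w :=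
      Proj.basicOpen_pow 𝒜 w (n + 1) (Nat.succ_pos n)
    rw [h0, Proj.basicOpen_zero] at h1
    rw [← h1] at hxw
    exact hxw
  have hφw_nil : ¬ IsNilpotent (φ w) := by
    rintro ⟨n, hn⟩
    rw [← map_pow] at hn
    obtain ⟨k, hk⟩ := hker _ hn
    exact hw_nil ⟨n * k, by rw [pow_mul, hk]⟩
  have hnt : Nontrivial (HomogeneousLocalization.Away ℬ (φ w)) := by
    by_contra hnt
    rw [not_nontrivial_iff_subsingleton] at hnt
    have h10 : (1 : HomogeneousLocalization.Away ℬ (φ w)) = 0 := Subsingleton.elim _ _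
    have h2 := congrArg HomogeneousLocalization.val h10
    rw [HomogeneousLocalization.val_one, HomogeneousLocalization.val_zero] at h2
    have hs : Subsingleton (Localization (Submonoid.powers (φ w))) :=
      subsingleton_of_zero_eq_one h2.symm
    obtain ⟨n, hn⟩ := (IsLocalization.subsingleton_iff (M := Submonoid.powers (φ w))
      (S := Localization (Submonoid.powers (φ w)))).mp hs
    exact hφw_nil ⟨n, hn⟩
  obtain ⟨z⟩ : Nonempty (Spec (.of (HomogeneousLocalization.Away ℬ (φ w)))) :=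
    inferInstanceAs (Nonempty (PrimeSpectrum (HomogeneousLocalization.Away ℬ (φ w))))
  let y : Proj ℬ := Proj.awayι ℬ (φ w) (φ.2 hw_mem) hjd z
  have hy : y ∈ Proj.basicOpen ℬ (φ w) := by
    have hr := Proj.opensRange_awayι ℬ (φ w) (φ.2 hw_mem) hjd
    rw [← hr]
    exact ⟨z, rfl⟩
  have hy' : y ∈ Proj.map φ hφ ⁻¹ᵁ Proj.basicOpen 𝒜 w := by
    rw [Proj.map_preimage_basicOpen]; exact hy
  exact ⟨(Proj.map φ hφ).base y, hwU hy', ⟨y, rfl⟩⟩

end Groth.Agent.S3553
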