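import Groth.Statements.S3559
-- import your own Groth.Agent.* helpers here
import Mathlib.RingTheory.GradedAlgebra.Radical

set_option autoImplicit false
universe u
open CategoryTheory CategoryTheory.Limits AlgebraicGeometry
open EGA2

namespace Groth.Agent.S3559

/-- Let S be a graded ring and (f_i) a family of homogeneous elements of positive degree. The opens
D_+(f_i) cover Proj S if and only if every element of S_+ has a power in the ideal generated by the
f_i. -/
theorem result {R A : Type u} [CommRing R] [CommRing A] [Algebra R A] (𝒜 : ℕ → Submodule R A) [GradedAlgebra 𝒜]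
    {ι : Type u} (f : ι → A) (hf : ∀ i, ∃ d : ℕ, 0 < d ∧ f i ∈ 𝒜 d) :
    (⨆ i, Proj.basicOpen 𝒜 (f i)) = ⊤ ↔
      (HomogeneousIdeal.irrelevant 𝒜).toIdeal ≤ (Ideal.span (Set.range f)).radical := by
  constructor
  · intro h g hg
    have hhom : (Ideal.span (Set.range f)).IsHomogeneous 𝒜 :=
      Ideal.homogeneous_span 𝒜 _ (by
        rintro _ ⟨i, rfl⟩
        obtain ⟨d, _, hd⟩ := hf i
        exact ⟨d, hd⟩)
    rw [hhom.radical_eq, Ideal.mem_sInf]
    rintro P ⟨hPh, hPle, hPp⟩
    by_contra hgP
    let x : Proj 𝒜 := (⟨⟨P, hPh⟩, hPp, fun hle => hgP (hle hg)⟩ : ProjectiveSpectrum 𝒜)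
    have hx : x ∈ ⨆ i, Proj.basicOpen 𝒜 (f i) := h ▸ trivial
    obtain ⟨i, hi⟩ := TopologicalSpace.Opens.mem_iSup.mp hx
    exact hi (hPle (Ideal.subset_span ⟨i, rfl⟩))
  · intro h
    refine top_le_iff.mp fun x _ => TopologicalSpace.Opens.mem_iSup.mpr ?_
    by_contra! H
    simp only [Proj.mem_basicOpen, not_not] at H
    have hle : (HomogeneousIdeal.irrelevant 𝒜).toIdeal ≤ x.asHomogeneousIdeal.toIdeal := by
      refine h.trans ?_
      rw [Ideal.IsPrime.radical_le_iff x.isPrime, Ideal.span_le, Set.range_subset_iff]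
      exact H
    exact x.not_irrelevant_le hle

end Groth.Agent.S3559
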