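import Groth.Statements.S3563
-- import your own Groth.Agent.* helpers here

set_option autoImplicit false
universe u
open CategoryTheory CategoryTheory.Limits AlgebraicGeometry
open EGA2

namespace Groth.Agent.S3563

/-- Let φ : S → S' be a surjective homomorphism of graded rings (graded algebras over a base ring R).
Then the induced morphism Proj S' → Proj S is defined everywhere and is a closed immersion. The
hypothesis that the irrelevant ideal of S' is contained in the extension of the irrelevant ideal of
S, needed to define the morphism on all of Proj S', is carried explicitly; it follows from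
surjectivity. This is the case of a surjective φ; the published statement is more general. -/
theorem result {R A : Type u} [CommRing R] [CommRing A] [Algebra R A] (𝒜 : ℕ → Submodule R A) [GradedAlgebra 𝒜]
    {B : Type u} [CommRing B] [Algebra R B] (ℬ : ℕ → Submodule R B) [GradedAlgebra ℬ]
    (φ : 𝒜 →+*ᵍ ℬ) (hsurj : Function.Surjective φ)
    (hφ : HomogeneousIdeal.irrelevant ℬ ≤ (HomogeneousIdeal.irrelevant 𝒜).map φ) :
    IsClosedImmersion (Proj.map φ hφ) := by
  classical
  have hsurjAway : ∀ (s : A) (d : ℕ) (hs : s ∈ 𝒜 d),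
      Function.Surjective (HomogeneousLocalization.Away.map φ s) := by
    intro s d hs z
    obtain ⟨n, b, hb, rfl⟩ := HomogeneousLocalization.Away.mk_surjective ℬ (φ.2 hs) z
    obtain ⟨a₀, rfl⟩ := hsurj b
    refine ⟨HomogeneousLocalization.Away.mk 𝒜 hs n (DirectSum.decompose 𝒜 a₀ (n • d))
      (SetLike.coe_mem _), ?_⟩
    rw [HomogeneousLocalization.Away.map_mk]
    congr 1
    rw [GradedRingHom.map_directSumDecompose, DirectSum.decompose_of_mem_same ℬ hb]
  refine IsZariskiLocalAtTarget.of_openCover (P := @IsClosedImmersion)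
    (Proj.affineOpenCover 𝒜).openCover fun i => ?_
  have hpb := IsOpenImmersion.isPullback
    (Spec.map (CommRingCat.ofHom (HomogeneousLocalization.Away.map φ (i.2 : A))))
    (Proj.awayι ℬ (φ (i.2 : A)) (φ.2 i.2.2) i.1.2) (Proj.awayι 𝒜 (i.2 : A) i.2.2 i.1.2) (Proj.map φ hφ)
    (Proj.awayι_comp_map φ hφ i.1.2 _ i.2.2)
    (by rw [Proj.opensRange_awayι, Proj.opensRange_awayι, Proj.map_preimage_basicOpen])
  have hg : IsClosedImmersion
      (Spec.map (CommRingCat.ofHom (HomogeneousLocalization.Away.map φ (i.2 : A)))) :=
    IsClosedImmersion.spec_of_surjective _ (hsurjAway _ _ i.2.2)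
  have h3 := hpb.flip.isoPullback_hom_snd
  show IsClosedImmersion (pullback.snd (Proj.map φ hφ) (Proj.awayι 𝒜 (i.2 : A) i.2.2 i.1.2))
  rw [← MorphismProperty.cancel_left_of_respectsIso @IsClosedImmersion hpb.flip.isoPullback.hom, h3]
  exact hg

end Groth.Agent.S3563
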