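import Groth.Statements.S3566
import Mathlib
import Groth.Agent.Lib.Helper1.AmpleLib2

set_option autoImplicit false
universe u
open CategoryTheory CategoryTheory.Limits AlgebraicGeometry
open EGA2

namespace Groth.Agent.S3566

/-- Let X be a quasi-compact separated scheme (the published statement also allows a prescheme with
Noetherian underlying space) and L an invertible O_X-module. Then L is ample, i.e. the affine ones
among the opens X_s (s a global section of a positive tensor power of L, X_s the locus where s
generates) cover X, if and only if all the opens X_s form a base of the topology of X. -/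
theorem result (X : Scheme.{u}) [CompactSpace X] [X.IsSeparated]
    (L : X.Modules) (hL : PicF.IsInvertible L) :
    CohB1.IsAmple L ↔
      TopologicalSpace.IsTopologicalBasis
        {U : Set X | ∃ (n : ℕ) (s : Coh.structureModule X ⟶ CohB1.tensorPow L (n + 1)),
          U = (CohB1.genLocus (CohB1.tensorPow L (n + 1)) s : Set X)} := by
  constructor
  · intro hA
    apply TopologicalSpace.isTopologicalBasis_of_isOpen_of_nhds
    · rintro _ ⟨n, s, rfl⟩
      exact (CohB1.genLocus _ s).isOpen
    · intro x U hxU hU
      obtain ⟨N, s, hxs, hsU, -⟩ :=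
        Groth.Agent.Helper1.AmpleLib.exists_genLocus_nbhd hA ⟨U, hU⟩ x hxU
      exact ⟨_, ⟨N, s, rfl⟩, hxs, hsU⟩
  · intro hB
    refine ⟨hL, inferInstance, fun x => ?_⟩
    obtain ⟨_, ⟨V, hV, rfl⟩, hxV, -⟩ :=
      X.isBasis_affineOpens.exists_subset_of_mem_open (Set.mem_univ x) isOpen_univ
    obtain ⟨_, ⟨n, s, rfl⟩, hxU', hU'V⟩ := hB.exists_subset_of_mem_open hxV V.isOpen
    exact ⟨n, s, hxU', Groth.Agent.Helper1.AmpleLib.isAffineOpen_genLocus_of_le
      (Groth.Agent.Helper1.TwForm.isInvertible_tensorPow hL (n + 1)) s hV hU'V⟩

end Groth.Agent.S3566
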