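import Groth.Statements.S3574
import Mathlib
import Groth.Agent.Lib.Helper1.ConeRetr

set_option autoImplicit false
universe u
open CategoryTheory CategoryTheory.Limits AlgebraicGeometry
open EGA2

namespace Groth.Agent.S3574

/-- Let S be an ℕ-graded algebra over a ring, C = Spec S its affine cone, E = C − V(S_+) the pointed
affine cone and X = Proj S. Then there is exactly one morphism π : E → X (the canonical retraction)
whose restriction to each chart Spec S_f of E, for f homogeneous of positive degree, is the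
composite Spec S_f → Spec S_(f) ≅ D_+(f) ⊆ X induced by the inclusion S_(f) → S_f. The published
statement is not limited to an affine base. -/
theorem result {R A : Type u} [CommRing R] [CommRing A] [Algebra R A] (𝒜 : ℕ → Submodule R A) [GradedAlgebra 𝒜] :
    ∃! π : (Cone.pointed 𝒜 : Scheme.{u}) ⟶ Proj 𝒜,
      ∀ (d : ℕ) (f : A) (hd : 0 < d) (hf : f ∈ 𝒜 d),
        Cone.chart hf hd ≫ π =
          Spec.map (CommRingCat.ofHom (algebraMap (HomogeneousLocalization.Away 𝒜 f) (Localization.Away f))) ≫
            Proj.awayι 𝒜 f hf hd := by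
  have hE : ∀ x : Spec (CommRingCat.of A), x ∈ Cone.pointed 𝒜 →
      ∃ t : Groth.Agent.Helper1.ProjDom.Idx 𝒜, t.f ∉ x.asIdeal := fun x hx =>
    Groth.Agent.Helper1.ConeRetr.exists_idx_of_not_mem_zeroLocus 𝒜 x hx
  have hc : ∀ t : Groth.Agent.Helper1.ProjDom.Idx 𝒜,
      Cone.chart t.hf t.hd ≫ (Cone.pointed 𝒜).ι =
        Spec.map (CommRingCat.ofHom (algebraMap A (Localization.Away t.f))) :=
    fun t => IsOpenImmersion.lift_fac _ _ _
  obtain ⟨p, hp, hpu⟩ := Groth.Agent.Helper1.ConeRetr.existsUnique_retr 𝒜 (Cone.pointed 𝒜)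
    (fun t => Cone.chart t.hf t.hd) hE hc
  refine ⟨p, fun d f hd hf => hp ⟨d, hd, f, hf⟩, fun p' hp' => hpu p' fun t => ?_⟩
  exact hp' t.d t.f t.hd t.hf

end Groth.Agent.S3574
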