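import Groth.Statements.S3575
import Mathlib
import Groth.Agent.Lib.Helper1.ConeRetr

set_option autoImplicit false
universe u
open CategoryTheory CategoryTheory.Limits AlgebraicGeometry
open EGA2

namespace Groth.Agent.S3575

/-- Let S be a commutative ℕ-graded R-algebra, E the pointed affine cone (the open complement of the
vertex V(S_+) in Spec S) and X = Proj S, and let π : E → X be the canonical retraction,
characterised (hypothesis hπ) by its agreement on each chart Spec S_f → E, f homogeneous of positive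
degree, with Spec of S_(f) → S_f followed by the standard open immersion Spec S_(f) → X. Then π is
an affine and surjective morphism; the inverse image under π of D_+(f) is the open D(f) ∩ E = D(f)
of E for every homogeneous f of positive degree; and π sends a point of E, a prime p of S not
containing S_+, to the homogeneous prime whose homogeneous elements are those of p. -/
theorem result {R A : Type u} [CommRing R] [CommRing A] [Algebra R A] (𝒜 : ℕ → Submodule R A) [GradedAlgebra 𝒜]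
    (π : (Cone.pointed 𝒜 : Scheme.{u}) ⟶ Proj 𝒜)
    (hπ : ∀ (d : ℕ) (f : A) (hd : 0 < d) (hf : f ∈ 𝒜 d),
        Cone.chart hf hd ≫ π =
          Spec.map (CommRingCat.ofHom (algebraMap (HomogeneousLocalization.Away 𝒜 f) (Localization.Away f))) ≫
            Proj.awayι 𝒜 f hf hd) :
    IsAffineHom π ∧ Surjective π ∧
      (∀ (d : ℕ) (f : A), 0 < d → f ∈ 𝒜 d →
        π ⁻¹ᵁ Proj.basicOpen 𝒜 f = (Cone.pointed 𝒜).ι ⁻¹ᵁ Cone.coneOpen f) ∧
      ∀ p : (Cone.pointed 𝒜 : Scheme.{u}),
        (π.base p).asHomogeneousIdeal = (((Cone.pointed 𝒜).ι.base p).asIdeal).homogeneousCore 𝒜 := by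
  have hE : ∀ x : Spec (CommRingCat.of A), x ∈ Cone.pointed 𝒜 →
      ∃ t : Groth.Agent.Helper1.ProjDom.Idx 𝒜, t.f ∉ x.asIdeal := fun x hx =>
    Groth.Agent.Helper1.ConeRetr.exists_idx_of_not_mem_zeroLocus 𝒜 x hx
  have hE' : ∀ x : Spec (CommRingCat.of A),
      (∃ t : Groth.Agent.Helper1.ProjDom.Idx 𝒜, t.f ∉ x.asIdeal) → x ∈ Cone.pointed 𝒜 := by
    rintro x ⟨t, ht⟩ hx
    apply ht
    refine (PrimeSpectrum.mem_zeroLocus _ _).mp hx ?_
    exact HomogeneousIdeal.mem_irrelevant_of_mem 𝒜 t.hd t.hf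
  have hc : ∀ t : Groth.Agent.Helper1.ProjDom.Idx 𝒜,
      Cone.chart t.hf t.hd ≫ (Cone.pointed 𝒜).ι =
        Spec.map (CommRingCat.ofHom (algebraMap A (Localization.Away t.f))) :=
    fun t => IsOpenImmersion.lift_fac _ _ _
  have hπ' : ∀ t : Groth.Agent.Helper1.ProjDom.Idx 𝒜,
      Cone.chart t.hf t.hd ≫ π = Groth.Agent.Helper1.ConeRetr.gmap 𝒜 t :=
    fun t => hπ t.d t.f t.hd t.hf
  refine ⟨Groth.Agent.Helper1.ConeRetr.isAffineHom_retr 𝒜 (Cone.pointed 𝒜)
      (fun t => Cone.chart t.hf t.hd) hE hc π hπ',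
    ⟨Groth.Agent.Helper1.ConeRetr.surjective_retr 𝒜 (Cone.pointed 𝒜)
      (fun t => Cone.chart t.hf t.hd) hE hc π hπ' hE'⟩, ?_, ?_⟩
  · intro d f hd hf
    exact Groth.Agent.Helper1.ConeRetr.retr_preimage_basicOpen 𝒜 (Cone.pointed 𝒜)
      (fun t => Cone.chart t.hf t.hd) hE hc π hπ' hd hf
  · intro p
    exact Groth.Agent.Helper1.ConeRetr.retr_asHomogeneousIdeal 𝒜 (Cone.pointed 𝒜)
      (fun t => Cone.chart t.hf t.hd) hE hc π hπ' p

end Groth.Agent.S3575
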