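import Groth.Statements.S3584
import Mathlib
import Groth.Agent.Lib.Helper1.TwistAmple

set_option autoImplicit false
universe u
open CategoryTheory CategoryTheory.Limits AlgebraicGeometry
open EGA2

namespace Groth.Agent.S3584

/-- Let S be a graded ring whose irrelevant ideal S_+ is generated by finitely many elements of degree
one. Then the twisting sheaf O_X(1) on X = Proj S is ample (X is quasi-compact and covered by the
affine non-vanishing loci of sections of the positive powers of O_X(1)). -/
theorem result {R A : Type u} [CommRing R] [CommRing A] [Algebra R A] (𝒜 : ℕ → Submodule R A) [GradedAlgebra 𝒜]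
    (s : Finset A) (hs1 : ∀ f ∈ s, f ∈ 𝒜 1)
    (hs : (HomogeneousIdeal.irrelevant 𝒜).toIdeal = Ideal.span (s : Set A)) :
    CohB1.IsAmple (Twist.twist 𝒜 1) := by
  classical
  have hex : ∀ p : ProjectiveSpectrum 𝒜, ∃ f ∈ s, f ∉ p.asHomogeneousIdeal := by
    intro p
    by_contra hno
    push Not at hno
    apply p.not_irrelevant_le
    intro a ha
    have ha' : a ∈ (HomogeneousIdeal.irrelevant 𝒜).toIdeal := ha
    rw [hs] at ha'
    have : Ideal.span (s : Set A) ≤ p.asHomogeneousIdeal.toIdeal :=
      Ideal.span_le.mpr fun g hg => hno g hg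
    exact this ha'
  haveI : CompactSpace (AlgebraicGeometry.Proj 𝒜) :=
    Groth.Agent.Helper1.TwistAmple.compactSpace_of_finite_cover 𝒜 s
      (fun f hf => ⟨1, one_pos, hs1 f hf⟩) hex
  have := Groth.Agent.Helper1.TwistAmple.isAmple_twist 𝒜 (m := 1) one_pos
    (fun x => by
      obtain ⟨f, hf, hfx⟩ := hex x
      exact ⟨⟨f, hs1 f hf⟩, hfx⟩)
  rwa [Nat.cast_one] at this

end Groth.Agent.S3584
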