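import Groth.Statements.S3585
import Mathlib
import Groth.Agent.Lib.Helper1.VA8
import Groth.Agent.Lib.Helper1.HProj2
import Groth.Agent.Lib.Helper1.ProjClosed3
import Groth.Agent.Lib.Helper1.ProjSpaceLib

set_option autoImplicit false
universe u
open CategoryTheory CategoryTheory.Limits AlgebraicGeometry
open EGA2

namespace Groth.Agent.S3585

/-- Let A be a ring and f : X → Spec A a proper morphism, and suppose X carries an invertible O_X-module
which is ample relative to f (so f is quasi-projective). Then f is projective: X is isomorphic over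
Spec A to Proj S for some graded A-algebra S whose degree-zero part is the image of A and whose
irrelevant ideal is generated by finitely many elements of degree one. -/
theorem result {A : Type u} [CommRing A] {X : Scheme.{u}}
    (f : X ⟶ Spec (CommRingCat.of A)) [IsProper f]
    (L : X.Modules) (hL : PicF.IsInvertible L) (hamp : RelAmple.IsRelAmple f L) :
    ∃ (S : Type u) (_ : CommRing S) (_ : Algebra A S) (𝒮 : ℕ → Submodule A S) (_ : GradedAlgebra 𝒮) (s : Finset S),
      Function.Surjective (algebraMap A (𝒮 0)) ∧ (∀ g ∈ s, g ∈ 𝒮 1) ∧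
      (HomogeneousIdeal.irrelevant 𝒮).toIdeal = Ideal.span (s : Set S) ∧
      ∃ e : X ≅ Proj 𝒮, e.hom ≫ Proj.toSpecZero 𝒮 ≫ Spec.map (CommRingCat.ofHom (algebraMap A (𝒮 0))) = f := by
  classical
  have hL' : CohB1.IsAmple L := Groth.Agent.Helper1.HProj.isAmple_of_isRelAmple_of_isAffine f hamp
  obtain ⟨n₀, hn₀⟩ := Groth.Agent.Helper1.VA8.exists_immersion_projSpace_powers f hL'
    (Groth.Agent.Helper1.GenLoc.isInvertible_O (X := X))
  obtain ⟨N, r, hr, hrq, -⟩ := hn₀ n₀ le_rfl
  -- `r` is a closed immersion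
  have hsep : IsSeparated (CohB1.ProjSpace.toSpec N A) :=
    Groth.Agent.Helper1.VA5.isSeparated_toSpec N A
  have hprop : IsProper r := by
    have : IsProper (r ≫ CohB1.ProjSpace.toSpec N A) := by rw [hrq]; infer_instance
    exact IsProper.of_comp r (CohB1.ProjSpace.toSpec N A)
  have hcl : IsClosedImmersion r :=
    IsClosedImmersion.of_isPreimmersion r r.isClosedMap.isClosed_range
  -- generators
  let s : Finset (MvPolynomial (Fin (N + 1)) A) := Finset.univ.image MvPolynomial.X
  have hs1 : ∀ g ∈ s, g ∈ CohB1.polyGrading N A 1 := by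
    intro g hg
    obtain ⟨i, -, rfl⟩ := Finset.mem_image.mp hg
    exact Groth.Agent.Helper1.ProjSpaceLib.X_mem N A i
  have hscoe : (s : Set (MvPolynomial (Fin (N + 1)) A)) = Set.range MvPolynomial.X := by
    ext g
    simp [s]
  have hs : (HomogeneousIdeal.irrelevant (CohB1.polyGrading N A)).toIdeal =
      Ideal.span (s : Set (MvPolynomial (Fin (N + 1)) A)) := by
    apply le_antisymm
    · rw [hscoe]
      exact Groth.Agent.Helper1.ProjSpaceLib.irrelevant_le N A
    · rw [Ideal.span_le]
      intro g hg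
      have hg1 := hs1 g hg
      change g ∈ HomogeneousIdeal.irrelevant (CohB1.polyGrading N A)
      rw [HomogeneousIdeal.mem_irrelevant_iff, GradedRing.proj_apply,
        DirectSum.decompose_of_mem_ne (CohB1.polyGrading N A) hg1 one_ne_zero]
  have hcl' : IsClosedImmersion (show X ⟶ Proj (CohB1.polyGrading N A) from r) := hcl
  obtain ⟨B, iB, iAB, ℬ, iℬ, φ, hsurj, hcomm, hφ, e, he⟩ :=
    Groth.Agent.Helper1.ProjClosed3.main' (CohB1.polyGrading N A)
      (show X ⟶ Proj (CohB1.polyGrading N A) from r) s hs1 hs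
  refine ⟨B, iB, iAB, ℬ, iℬ, s.image φ, ?_, ?_, ?_, e, ?_⟩
  · rintro ⟨b, hb⟩
    obtain ⟨a, rfl⟩ := hsurj b
    have h0 : φ (DirectSum.decompose (CohB1.polyGrading N A) a 0) = φ a := by
      rw [GradedRingHom.map_directSumDecompose, DirectSum.decompose_of_mem_same ℬ hb]
    obtain ⟨c, hc⟩ := (Groth.Agent.Helper1.ProjSpaceLib.algebraMap_bijective N A).2
      (DirectSum.decompose (CohB1.polyGrading N A) a 0)
    refine ⟨c, Subtype.ext ?_⟩
    change algebraMap A B c = φ a
    rw [← h0, ← hc, ← hcomm]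
    rfl
  · intro g hg
    obtain ⟨g', hg', rfl⟩ := Finset.mem_image.mp hg
    exact φ.map_mem (hs1 g' hg')
  · apply le_antisymm
    · have h1 := (toIdeal_le_toIdeal_iff).mpr hφ
      refine h1.trans ?_
      rw [HomogeneousIdeal.toIdeal_map, hs, Ideal.map_span]
      apply Ideal.span_mono
      rintro _ ⟨g, hg, rfl⟩
      exact Finset.mem_coe.mpr (Finset.mem_image.mpr ⟨g, hg, rfl⟩)
    · rw [Ideal.span_le]
      intro g hg
      obtain ⟨g', hg', rfl⟩ := Finset.mem_image.mp (Finset.mem_coe.mp hg)
      have hg1 : φ g' ∈ ℬ 1 := φ.map_mem (hs1 g' hg')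
      change φ g' ∈ HomogeneousIdeal.irrelevant ℬ
      rw [HomogeneousIdeal.mem_irrelevant_iff, GradedRing.proj_apply,
        DirectSum.decompose_of_mem_ne ℬ hg1 one_ne_zero]
  · rw [← hrq]
    have he' : r = e.hom ≫ Proj.map φ hφ := he.symm
    rw [he']
    change _ = e.hom ≫ Proj.map φ hφ ≫ Proj.toSpecZero (CohB1.polyGrading N A) ≫
      Spec.map (CommRingCat.ofHom (algebraMap A (CohB1.polyGrading N A 0)))
    congr 1
    exact (Groth.Agent.Helper1.ProjClosed3.map_comp_structure _ _ φ hφ hcomm).symm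

end Groth.Agent.S3585
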