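import Groth.Statements.S3589
import Mathlib
import Groth.Agent.Lib.Helper1.ProjUP8
import Groth.Agent.Lib.Helper1.ProjUP10
import Groth.Agent.S3573

set_option autoImplicit false
universe u
open CategoryTheory CategoryTheory.Limits AlgebraicGeometry
open EGA2

namespace Groth.Agent.S3589

/-- For E = O_Y^{n+1} over an affine base Y = Spec R (injectivity of the correspondence): a section s of
projective n-space over R is determined by the submodule F(s) of R^{n+1} formed by the R-linear
relations among the pulled-back coordinates s^*T_0, …, s^*T_n in the global sections of s^*O(1). -/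
theorem result {R : Type u} [CommRing R] (n : ℕ)
    (s₁ s₂ : Spec (CommRingCat.of R) ⟶ CohB1.ProjSpace n R)
    (h₁ : s₁ ≫ CohB1.ProjSpace.toSpec n R = 𝟙 _) (h₂ : s₂ ≫ CohB1.ProjSpace.toSpec n R = 𝟙 _)
    (h : ProjUP.secKernel n R s₁ = ProjUP.secKernel n R s₂) :
    s₁ = s₂ := by
  classical
  let 𝒮 := CohB1.polyGrading n R
  have hpt : ∀ (s : Spec (CommRingCat.of R) ⟶ CohB1.ProjSpace n R) (k : Fin (n + 1)),
      ProjUP.pullSec s (Twist.twistProjSpace n R 1) (ProjUP.coord n R k) =
        Groth.Agent.Helper1.ProjUP7.pt 𝒮 (Groth.Agent.Helper1.ProjUP8.tX n R)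
          (Groth.Agent.Helper1.ProjUP8.htX n R) s k := fun s k => rfl
  -- invertibility and generation
  have hinv : ∀ s : Spec (CommRingCat.of R) ⟶ CohB1.ProjSpace n R,
      PicF.IsInvertible ((Scheme.Modules.pullback s).obj (Twist.twistProjSpace n R 1)) := by
    intro s
    apply Groth.Agent.Helper1.TwForm.isInvertible_of_locGen
    intro x
    obtain ⟨k, hk⟩ := Groth.Agent.Helper1.ProjUP8.hcov n R (s x)
    exact ⟨_, _, hk, Groth.Agent.Helper1.ProjUP7.isGen_g 𝒮 (Groth.Agent.Helper1.ProjUP8.tX n R)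
      (Groth.Agent.Helper1.ProjUP8.htX n R) s k⟩
  have hcov : ∀ (s : Spec (CommRingCat.of R) ⟶ CohB1.ProjSpace n R) (x : Spec (CommRingCat.of R)),
      ∃ k, x ∈ CohB1.genLocus _ (Groth.Agent.Helper1.TwistAmple.homOfSec _
        (ProjUP.pullSec s (Twist.twistProjSpace n R 1) (ProjUP.coord n R k))) := by
    intro s x
    obtain ⟨k, hk⟩ := Groth.Agent.Helper1.ProjUP8.hcov n R (s x)
    refine ⟨k, ?_⟩
    have hg := Groth.Agent.Helper1.ProjUP7.genLocus_pt 𝒮 (Groth.Agent.Helper1.ProjUP8.tX n R)
      (Groth.Agent.Helper1.ProjUP8.htX n R) (Groth.Agent.Helper1.ProjUP8.hcov n R) s k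
    exact hg.ge hk
  -- membership in the kernel
  have hker : ∀ (s : Spec (CommRingCat.of R) ⟶ CohB1.ProjSpace n R) (c : Fin (n + 1) → R),
      c ∈ ProjUP.secKernel n R s ↔
        ∑ j, (Scheme.ΓSpecIso (CommRingCat.of R)).inv.hom (c j) •
          ProjUP.pullSec s (Twist.twistProjSpace n R 1) (ProjUP.coord n R j) = 0 := by
    intro s c
    let _ : Module R (ProjUP.Γm ((Scheme.Modules.pullback s).obj (Twist.twistProjSpace n R 1))) :=
      Module.compHom _ (Scheme.ΓSpecIso (CommRingCat.of R)).inv.hom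
    change Fintype.linearCombination R _ c = 0 ↔ _
    rw [Fintype.linearCombination_apply]
    rfl
  have hrel : ∀ (s s' : Spec (CommRingCat.of R) ⟶ CohB1.ProjSpace n R),
      ProjUP.secKernel n R s = ProjUP.secKernel n R s' →
      ∀ (i k : Fin (n + 1)) (a b : Γ(Spec (CommRingCat.of R), ⊤)),
        a • ProjUP.pullSec s (Twist.twistProjSpace n R 1) (ProjUP.coord n R i) =
          b • ProjUP.pullSec s (Twist.twistProjSpace n R 1) (ProjUP.coord n R k) →
        a • ProjUP.pullSec s' (Twist.twistProjSpace n R 1) (ProjUP.coord n R i) =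
          b • ProjUP.pullSec s' (Twist.twistProjSpace n R 1) (ProjUP.coord n R k) := by
    intro s s' hss' i k a b hab
    have hsum : ∀ (s : Spec (CommRingCat.of R) ⟶ CohB1.ProjSpace n R) (a' b' : R),
        (∑ j, (Scheme.ΓSpecIso (CommRingCat.of R)).inv.hom
          ((Pi.single i a' - Pi.single k b' : Fin (n + 1) → R) j) •
          ProjUP.pullSec s (Twist.twistProjSpace n R 1) (ProjUP.coord n R j)) =
        (Scheme.ΓSpecIso (CommRingCat.of R)).inv.hom a' •
          ProjUP.pullSec s (Twist.twistProjSpace n R 1) (ProjUP.coord n R i) -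
        (Scheme.ΓSpecIso (CommRingCat.of R)).inv.hom b' •
          ProjUP.pullSec s (Twist.twistProjSpace n R 1) (ProjUP.coord n R k) := by
      intro s a' b'
      simp only [Pi.sub_apply, map_sub, sub_smul, Finset.sum_sub_distrib]
      congr 1
      · rw [Finset.sum_eq_single i]
        · rw [Pi.single_eq_same]
        · intro j _ hj
          rw [Pi.single_eq_of_ne hj, map_zero, zero_smul]
        · intro h; exact absurd (Finset.mem_univ i) h
      · rw [Finset.sum_eq_single k]
        · rw [Pi.single_eq_same]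
        · intro j _ hj
          rw [Pi.single_eq_of_ne hj, map_zero, zero_smul]
        · intro h; exact absurd (Finset.mem_univ k) h
    obtain ⟨a', rfl⟩ : ∃ a' : R, (Scheme.ΓSpecIso (CommRingCat.of R)).inv.hom a' = a :=
      ⟨(Scheme.ΓSpecIso (CommRingCat.of R)).hom.hom a, by
        rw [← CommRingCat.comp_apply, Iso.hom_inv_id]; rfl⟩
    obtain ⟨b', rfl⟩ : ∃ b' : R, (Scheme.ΓSpecIso (CommRingCat.of R)).inv.hom b' = b :=
      ⟨(Scheme.ΓSpecIso (CommRingCat.of R)).hom.hom b, by
        rw [← CommRingCat.comp_apply, Iso.hom_inv_id]; rfl⟩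
    have hmem : (Pi.single i a' - Pi.single k b' : Fin (n + 1) → R) ∈ ProjUP.secKernel n R s := by
      rw [hker, hsum, hab, sub_self]
    rw [hss', hker, hsum, sub_eq_zero] at hmem
    exact hmem
  obtain ⟨τ, hτ⟩ := Groth.Agent.Helper1.ProjUP10.exists_iso (hinv s₁)
    (fun k => ProjUP.pullSec s₁ (Twist.twistProjSpace n R 1) (ProjUP.coord n R k))
    (fun k => ProjUP.pullSec s₂ (Twist.twistProjSpace n R 1) (ProjUP.coord n R k))
    (hcov s₁) (hcov s₂) (hrel s₁ s₂ h)
  exact Groth.Agent.S3573.result n s₁ s₂ (h₁.trans h₂.symm) τ hτ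

end Groth.Agent.S3589
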