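import Groth.Statements.S3594
import Mathlib
import Groth.Agent.Lib.Helper1.ConeRing

set_option autoImplicit false
universe u
open CategoryTheory CategoryTheory.Limits AlgebraicGeometry
open EGA2

namespace Groth.Agent.S3594

/-- The closed immersion at infinity of a projective cone: let S be a graded R-algebra and Ŝ a graded
R-algebra over S such that the structure map φ : S → Ŝ is a graded homomorphism and Ŝ = S[z] is the
polynomial algebra on an element z of degree one (evaluation at z is a bijection S[T] → Ŝ); let ψ :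
Ŝ → S be a graded homomorphism retracting φ and killing z, with S₊ contained in the ideal generated
by ψ(Ŝ₊) so that j = Proj(ψ) : X = Proj S → Ĉ = Proj Ŝ is defined (it is the canonical closed
immersion). Then the image of j is exactly the complement of the open subset D₊(z) of Proj Ŝ (which
is the affine cone C = Spec S). -/
theorem result {R A : Type u} [CommRing R] [CommRing A] [Algebra R A] (𝒜 : ℕ → Submodule R A) [GradedAlgebra 𝒜]
    {B : Type u} [CommRing B] [Algebra R B] (ℬ : ℕ → Submodule R B) [GradedAlgebra ℬ]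
    [Algebra A B] [IsScalarTower R A B] (φ : 𝒜 →+*ᵍ ℬ) (hφ : ∀ a : A, φ a = algebraMap A B a)
    (z : B) (hz : z ∈ ℬ 1) (hhat : Function.Bijective (Polynomial.aeval (R := A) z))
    (ψ : ℬ →+*ᵍ 𝒜) (hψφ : ∀ a : A, ψ (φ a) = a) (hψz : ψ z = 0)
    (hψ : HomogeneousIdeal.irrelevant 𝒜 ≤ (HomogeneousIdeal.irrelevant ℬ).map ψ) :
    Set.range (Proj.map ψ hψ).base = ((Proj.basicOpen ℬ z : Set (Proj ℬ)))ᶜ := by
  have hφ' : (φ : A →+* B) = algebraMap A B := RingHom.ext hφ
  have hbij : Function.Bijective (Polynomial.eval₂RingHom (φ : A →+* B) z) := by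
    rw [hφ']
    have : (⇑(Polynomial.eval₂RingHom (algebraMap A B) z) : Polynomial A → B) =
        ⇑(Polynomial.aeval (R := A) z) := by
      funext p
      exact (Polynomial.aeval_def z p).symm
    rw [this]
    exact hhat
  ext x
  constructor
  · rintro ⟨x', rfl⟩
    intro hmem
    have h1 := (ProjectiveSpectrum.mem_basicOpen ℬ z _).mp hmem
    apply h1
    show ψ z ∈ x'.asHomogeneousIdeal
    rw [hψz]
    exact Ideal.zero_mem _
  · intro hx
    have hzx : z ∈ x.asHomogeneousIdeal := by
      by_contra hcon
      exact hx ((ProjectiveSpectrum.mem_basicOpen ℬ z x).mpr hcon)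
    obtain ⟨x', hx'⟩ := Groth.Agent.Helper1.PolyGrS.exists_comap_eq 𝒜 ℬ z hz φ ψ hbij hψφ hψz hψ x hzx
    exact ⟨x', hx'⟩

end Groth.Agent.S3594
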