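import Groth.Statements.S3597
import Mathlib
import Groth.Agent.Lib.Helper1.ProjDom

set_option autoImplicit false
universe u
open CategoryTheory CategoryTheory.Limits AlgebraicGeometry
open EGA2

namespace Groth.Agent.S3597

/-- Let S be a graded algebra over a ring and Ŝ = S[z] the graded S-algebra obtained by adjoining a
variable z in degree 1 (an S-algebra with an element z of degree 1 such that S[T] → Ŝ, T ↦ z, is
bijective), with φ : S → Ŝ the graded structure map and ψ : Ŝ → S the graded retraction with ψ ∘ φ =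
id and ψ(z) = 0 (the irrelevant-ideal containment needed to define Proj(ψ) on all of X = Proj S
carried as a hypothesis). Let Ê ⊆ Ĉ = Proj Ŝ be the pointed projective cone, the open union of the
D_+(φ f) for f ∈ S homogeneous of positive degree, and p : Ê → X a morphism which on each chart
D_+(φ f) = Spec Ŝ_{(φ f)} is induced by S_{(f)} → Ŝ_{(φ f)} (the canonical retraction). Then p is
surjective, and the closed immersion j = Proj(ψ) : X → Ĉ factors through Ê with p ∘ j = id_X. -/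
theorem result {R A : Type u} [CommRing R] [CommRing A] [Algebra R A] (𝒜 : ℕ → Submodule R A) [GradedAlgebra 𝒜]
    {B : Type u} [CommRing B] [Algebra R B] (ℬ : ℕ → Submodule R B) [GradedAlgebra ℬ]
    [Algebra A B] [IsScalarTower R A B] (φ : 𝒜 →+*ᵍ ℬ) (hφ : ∀ a : A, φ a = algebraMap A B a)
    (z : B) (hz : z ∈ ℬ 1) (hhat : Function.Bijective (Polynomial.aeval (R := A) z))
    (ψ : ℬ →+*ᵍ 𝒜) (hψφ : ∀ a : A, ψ (φ a) = a) (hψz : ψ z = 0)
    (hψ : HomogeneousIdeal.irrelevant 𝒜 ≤ (HomogeneousIdeal.irrelevant ℬ).map ψ)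
    (p : (PCone.dom φ : Scheme.{u}) ⟶ Proj 𝒜) (hp : ∀ (d : ℕ) (f : A) (hd : 0 < d) (hf : f ∈ 𝒜 d),
        PCone.chart φ hf hd ≫ p =
          Spec.map (CommRingCat.ofHom (HomogeneousLocalization.Away.map φ f)) ≫ Proj.awayι 𝒜 f hf hd) :
    Surjective p ∧ ∃ j : Proj 𝒜 ⟶ (PCone.dom φ : Scheme.{u}), j ≫ (PCone.dom φ).ι = Proj.map ψ hψ ∧ j ≫ p = 𝟙 (Proj 𝒜) := by
  have hW : ∀ x : Proj ℬ, x ∈ PCone.dom φ →
      ∃ t : Groth.Agent.Helper1.ProjDom.Idx 𝒜, x ∈ Proj.basicOpen ℬ (φ t.f) := by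
    intro x hx
    obtain ⟨⟨f, d, hd, hf⟩, hx'⟩ := TopologicalSpace.Opens.mem_iSup.mp hx
    exact ⟨⟨d, hd, f, hf⟩, hx'⟩
  have hW' : ∀ x : Proj ℬ,
      (∃ t : Groth.Agent.Helper1.ProjDom.Idx 𝒜, x ∈ Proj.basicOpen ℬ (φ t.f)) → x ∈ PCone.dom φ := by
    rintro x ⟨t, ht⟩
    exact TopologicalSpace.Opens.mem_iSup.mpr ⟨⟨t.f, t.d, t.hd, t.hf⟩, ht⟩
  have hc : ∀ t : Groth.Agent.Helper1.ProjDom.Idx 𝒜,
      PCone.chart φ t.hf t.hd ≫ (PCone.dom φ).ι = Proj.awayι ℬ (φ t.f) (φ.2 t.hf) t.hd :=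
    fun t => IsOpenImmersion.lift_fac _ _ _
  have hcomp : HomogeneousIdeal.irrelevant 𝒜 ≤ (HomogeneousIdeal.irrelevant 𝒜).map (ψ.comp φ) := by
    intro a ha
    have h1 : (ψ.comp φ) a ∈ (HomogeneousIdeal.irrelevant 𝒜).toIdeal.map (ψ.comp φ) :=
      Ideal.mem_map_of_mem _ ha
    have h2 : (ψ.comp φ) a = a := hψφ a
    rw [h2] at h1
    exact h1
  have hid : ∀ (χ : 𝒜 →+*ᵍ 𝒜) (_ : χ = GradedRingHom.id 𝒜)
      (h : HomogeneousIdeal.irrelevant 𝒜 ≤ (HomogeneousIdeal.irrelevant 𝒜).map χ),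
      Proj.map χ h = 𝟙 (Proj 𝒜) := by
    intro χ e h
    subst e
    exact Proj.map_id
  have he : ψ.comp φ = GradedRingHom.id 𝒜 := by
    ext a
    exact hψφ a
  have hsub := Groth.Agent.Helper1.ProjDom.range_map_subset φ (PCone.dom φ) ψ hψ hcomp hW'
  let j : Proj 𝒜 ⟶ (PCone.dom φ : Scheme.{u}) :=
    IsOpenImmersion.lift (PCone.dom φ).ι (Proj.map ψ hψ) hsub
  have hj : j ≫ (PCone.dom φ).ι = Proj.map ψ hψ := IsOpenImmersion.lift_fac _ _ _
  have hjp : j ≫ p = 𝟙 (Proj 𝒜) := by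
    rw [Groth.Agent.Helper1.ProjDom.lift_comp_map φ (PCone.dom φ)
      (fun t => PCone.chart φ t.hf t.hd) ψ hψ hcomp hc p (fun t => hp t.d t.f t.hd t.hf) j hj]
    exact hid _ he hcomp
  refine ⟨⟨fun x => ⟨j x, ?_⟩⟩, j, hj, hjp⟩
  rw [← Scheme.Hom.comp_apply, hjp]
  rfl

end Groth.Agent.S3597
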