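import Groth.Statements.S3632
import Groth.Agent.Lib.Helper2.HomExt.HomOCoh
import Groth.Agent.Lib.Helper2.HomExt.HyperPlus
import Groth.Agent.Lib.Helper1.CohAbel
import Groth.Agent.Lib.Helper5.ProperPush.CohExt


set_option autoImplicit false
universe u
open CategoryTheory CategoryTheory.Limits AlgebraicGeometry
attribute [local instance] HasDerivedCategory.standard
open Dual3

namespace Groth.Agent.S3632

/-- Let i : Z → X be a closed immersion with X locally Noetherian, and R Hom(O_Z, −) : D^+(O_X) →
D^+(O_Z) the right derived functor of the right adjoint of i_* (that right adjoint and enough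
injective O_X-modules are assumed through instance binders). If K in D^+(O_X) has quasi-coherent
cohomology sheaves then so does R Hom(O_Z, K). (The published statement assumes only that the closed
immersion is pseudo-coherent; here X is taken locally Noetherian, which implies this.) -/
theorem result (Z X : Scheme.{u}) [IsLocallyNoetherian X] (i : Z ⟶ X) [IsClosedImmersion i] [Dual3.HasHomO i] [EnoughInjectives X.Modules] (K : DerivedCategory.Plus X.Modules) (hK : DCoh.IsQCohD K.obj) : DCoh.IsQCohD ((Dual3.RHomOPlus i).obj K).obj := by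
  intro n
  have hzero : ∀ M : Z.Modules, IsZero M → Coh.IsQCoh M := fun M hM =>
    Groth.Agent.Helper1.QcAbel.isQuasicoherent_of_isZero (G := M) hM
  have hker : ∀ {M N : Z.Modules} (f : M ⟶ N), Coh.IsQCoh M → Coh.IsQCoh N →
      Coh.IsQCoh (kernel f) := by
    intro M N f hM hN
    haveI : M.IsQuasicoherent := hM
    haveI : N.IsQuasicoherent := hN
    exact Groth.Agent.Helper1.QcAbel.isQuasicoherent_kernel (M := M) (N := N) f
  have hcoker : ∀ {M N : Z.Modules} (f : M ⟶ N), Coh.IsQCoh M → Coh.IsQCoh N →
      Coh.IsQCoh (cokernel f) := by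
    intro M N f hM hN
    haveI : M.IsQuasicoherent := hM
    haveI : N.IsQuasicoherent := hN
    exact Groth.Agent.Helper1.QcAbel.isQuasicoherent_cokernel (M := M) (N := N) f
  have hext : ∀ S' : ShortComplex Z.Modules, S'.ShortExact → Coh.IsQCoh S'.X₁ →
      Coh.IsQCoh S'.X₃ → Coh.IsQCoh S'.X₂ := by
    intro S' hS' h1 h3
    haveI : S'.X₁.IsQuasicoherent := h1
    haveI : S'.X₃.IsQuasicoherent := h3
    exact Groth.Agent.Helper1.QcExt.isQuasicoherent_mid (S := S') hS'
  let PC : ObjectProperty X.Modules := fun M => Coh.IsQCoh M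
  let PD : ObjectProperty Z.Modules := fun M => Coh.IsQCoh M
  haveI : PC.IsClosedUnderIsomorphisms := ⟨fun {M N} e h => by
    haveI : M.IsQuasicoherent := h
    exact Groth.Agent.Helper1.QcAbel.isQuasicoherent_of_iso (M := M) (N := N) e⟩
  haveI : PD.IsClosedUnderIsomorphisms := ⟨fun {M N} e h => by
    haveI : M.IsQuasicoherent := h
    exact Groth.Agent.Helper1.QcAbel.isQuasicoherent_of_iso (M := M) (N := N) e⟩
  have hF : ∀ M : X.Modules, PC M → ∀ p : ℕ, PD (((Dual3.homO i).rightDerived p).obj M) :=
    fun M hM p => Groth.Agent.Helper2.HomExt.ChangeRings.isQCoh_rightDerived_ish i M hM p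
  exact Groth.Agent.Helper2.HomExt.HyperPlus.prop_HF (C := X.Modules) (D := Z.Modules)
    (Dual3.homO i) PC PD hzero hker hcoker hext hF K hK n

end Groth.Agent.S3632
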