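import Groth.Statements.S3633
import Groth.Agent.Lib.Helper2.HomExt.HomOCoh
import Groth.Agent.Lib.Helper2.HomExt.HyperPlus
import Groth.Agent.Lib.Helper1.CohAbel
import Groth.Agent.Lib.Helper5.ProperPush.CohExt


set_option autoImplicit false
universe u
open CategoryTheory CategoryTheory.Limits AlgebraicGeometry
attribute [local instance] HasDerivedCategory.standard
open Dual3

namespace Groth.Agent.S3633

/-- Let i : Z → X be a closed immersion with X locally Noetherian and R Hom(O_Z, -) : D^+(O_X) →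
D^+(O_Z) the right derived functor of the right adjoint of i_* (injective resolutions assumed). If K
in D^+(O_X) has coherent cohomology sheaves then so does R Hom(O_Z, K). -/
theorem result (Z X : Scheme.{u}) [IsLocallyNoetherian X] (i : Z ⟶ X) [IsClosedImmersion i] [Dual3.HasHomO i] [EnoughInjectives X.Modules] (K : DerivedCategory.Plus X.Modules) (hK : DCoh.IsCohD K.obj) : DCoh.IsCohD ((Dual3.RHomOPlus i).obj K).obj := by
  intro n
  haveI : IsLocallyNoetherian Z := LocallyOfFiniteType.isLocallyNoetherian i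
  have hzero : ∀ M : Z.Modules, IsZero M → Coh.IsCoh M := fun M hM =>
    Groth.Agent.Lib.Helper5.CohExt.isCoh_of_isZero M hM
  have hker : ∀ {M N : Z.Modules} (f : M ⟶ N), Coh.IsCoh M → Coh.IsCoh N →
      Coh.IsCoh (kernel f) := fun f hM hN => Groth.Agent.Helper1.FtLocal.isCoh_kernel hM hN f
  have hcoker : ∀ {M N : Z.Modules} (f : M ⟶ N), Coh.IsCoh M → Coh.IsCoh N →
      Coh.IsCoh (cokernel f) := fun f hM hN => Groth.Agent.Helper1.FtLocal.isCoh_cokernel hM hN f
  have hext : ∀ S' : ShortComplex Z.Modules, S'.ShortExact → Coh.IsCoh S'.X₁ →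
      Coh.IsCoh S'.X₃ → Coh.IsCoh S'.X₂ := by
    intro S' hS' h1 h3
    haveI : S'.X₁.IsQuasicoherent := h1.1
    haveI : S'.X₃.IsQuasicoherent := h3.1
    exact Groth.Agent.Lib.Helper5.CohExt.isCoh_of_shortExact hS' h1 h3
      (Groth.Agent.Helper1.QcExt.isQuasicoherent_mid (S := S') hS')
  let PC : ObjectProperty X.Modules := fun M => Coh.IsCoh M
  let PD : ObjectProperty Z.Modules := fun M => Coh.IsCoh M
  haveI : PC.IsClosedUnderIsomorphisms := ⟨fun {M N} e h =>
    Groth.Agent.Lib.Helper5.LocalCoh.isCoh_of_iso e h⟩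
  haveI : PD.IsClosedUnderIsomorphisms := ⟨fun {M N} e h =>
    Groth.Agent.Lib.Helper5.LocalCoh.isCoh_of_iso e h⟩
  have hF : ∀ M : X.Modules, PC M → ∀ p : ℕ, PD (((Dual3.homO i).rightDerived p).obj M) :=
    fun M hM p => Groth.Agent.Helper2.HomExt.ChangeRings.isCoh_rightDerived_ish i M hM p
  exact Groth.Agent.Helper2.HomExt.HyperPlus.prop_HF (C := X.Modules) (D := Z.Modules)
    (Dual3.homO i) PC PD hzero hker hcoker hext hF K hK n

end Groth.Agent.S3633
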