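import Groth.Statements.S3718
import Mathlib
import Groth.Statements.S3718
import Groth.Agent.S8117
import Groth.Agent.S8190
import Groth.Agent.Lib.Helper9.FE.AlgClosedPt
-- import your own Groth.Agent.* helpers here

set_option autoImplicit false
universe u
open CategoryTheory MonoidalCategory CartesianMonoidalCategory MonObj GrpObj AlgebraicGeometry
open Pi1

namespace Groth.Agent.S3718

open CategoryTheory MonoidalCategory CartesianMonoidalCategory MonObj GrpObj AlgebraicGeometry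
open Pi1
namespace Aux
set_option linter.style.haveILetI false
set_option linter.unusedSectionVars false
set_option linter.unusedVariables false

section Transl

variable {k : Type u} [Field k]
  {A : Over (Spec (CommRingCat.of k))} [GrpObj A] [IsCommMonObj A]

/-- translation by a `k`-point -/
noncomputable def τ (a : 𝟙_ (Over (Spec (CommRingCat.of k))) ⟶ A) : A ⟶ A :=
  (𝟙 A) * (toUnit A ≫ a)

lemma τ_one : τ (1 : 𝟙_ (Over (Spec (CommRingCat.of k))) ⟶ A) = 𝟙 A := by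
  unfold τ
  rw [MonObj.comp_one, _root_.mul_one]

lemma τ_comp (a b : 𝟙_ (Over (Spec (CommRingCat.of k))) ⟶ A) : τ a ≫ τ b = τ (a * b) := by
  unfold τ
  rw [MonObj.comp_mul, Category.comp_id]
  have h : (𝟙 A * (toUnit A ≫ a)) ≫ toUnit A ≫ b = toUnit A ≫ b := by
    rw [← Category.assoc, toUnit_unique (_ ≫ toUnit A) (toUnit A)]
  rw [h, _root_.mul_assoc, ← MonObj.comp_mul]

lemma unit_eq_one : (η[A] : 𝟙_ (Over (Spec (CommRingCat.of k))) ⟶ A) = 1 := by
  rw [Hom.one_def, toUnit_unique (toUnit _) (𝟙 _), Category.id_comp]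

lemma unit_comp_τ (a : 𝟙_ (Over (Spec (CommRingCat.of k))) ⟶ A) : η[A] ≫ τ a = a := by
  unfold τ
  rw [MonObj.comp_mul, Category.comp_id, ← Category.assoc,
    toUnit_unique (η[A] ≫ toUnit A) (𝟙 _), Category.id_comp, unit_eq_one, _root_.one_mul]

lemma τ_comp_zpow (a : 𝟙_ (Over (Spec (CommRingCat.of k))) ⟶ A) (n : ℤ) (ha : a ^ n = 1) :
    τ a ≫ (𝟙 A) ^ n = (𝟙 A) ^ n := by
  rw [GrpObj.comp_zpow, Category.comp_id]
  unfold τ
  rw [mul_zpow, ← GrpObj.comp_zpow, ha, MonObj.comp_one, _root_.mul_one]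

lemma τ_inj (a b : 𝟙_ (Over (Spec (CommRingCat.of k))) ⟶ A) (h : (τ a).left = (τ b).left) :
    a = b := by
  have h' : τ a = τ b := Over.OverMorphism.ext h
  rw [← unit_comp_τ a, ← unit_comp_τ b, h']

variable (n : ℕ) [hF : IsFinite ((𝟙 A) ^ (n : ℤ)).left] [hE : Etale ((𝟙 A) ^ (n : ℤ)).left]

/-- the cover -/
noncomputable abbrev Z : FEt.Cat A.left := MorphismProperty.Over.mk ⊤ ((𝟙 A) ^ (n : ℤ)).left ⟨hF, hE⟩

lemma τ_left_comp (a : 𝟙_ (Over (Spec (CommRingCat.of k))) ⟶ A) (ha : a ^ (n : ℤ) = 1) :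
    (τ a).left ≫ ((𝟙 A) ^ (n : ℤ)).left = ((𝟙 A) ^ (n : ℤ)).left :=
  congrArg (fun m => m.left) (τ_comp_zpow a n ha)

/-- the automorphism of the cover given by a torsion point -/
noncomputable def θ (a : 𝟙_ (Over (Spec (CommRingCat.of k))) ⟶ A) (ha : a ^ (n : ℤ) = 1) :
    Aut (Z (A := A) n) where
  hom := MorphismProperty.Over.homMk (τ a).left (τ_left_comp n a ha)
  inv := MorphismProperty.Over.homMk (τ a⁻¹).left (τ_left_comp n a⁻¹ (by rw [inv_zpow, ha, inv_one]))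
  hom_inv_id := by
    apply MorphismProperty.Over.Hom.ext
    change (τ a).left ≫ (τ a⁻¹).left = 𝟙 _
    have := congrArg (fun m => m.left) (τ_comp a a⁻¹)
    rw [mul_inv_cancel, τ_one] at this
    exact this
  inv_hom_id := by
    apply MorphismProperty.Over.Hom.ext
    change (τ a⁻¹).left ≫ (τ a).left = 𝟙 _
    have := congrArg (fun m => m.left) (τ_comp a⁻¹ a)
    rw [inv_mul_cancel, τ_one] at this
    exact this

lemma θ_hom_left (a : 𝟙_ (Over (Spec (CommRingCat.of k))) ⟶ A) (ha : a ^ (n : ℤ) = 1) :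
    (θ n a ha).hom.left = ((𝟙 A) * (toUnit A ≫ a)).left := rfl

end Transl


section Main

variable {k : Type u} [Field k] [IsAlgClosed k]
  {A : Over (Spec (CommRingCat.of k))} [GrpObj A] [IsCommMonObj A] [ConnectedSpace A.left]
  (n : ℕ) [hF : IsFinite ((𝟙 A) ^ (n : ℤ)).left] [hE : Etale ((𝟙 A) ^ (n : ℤ)).left]

theorem aut_eq (θ₀ : Aut (Z (A := A) n)) :
    ∃ a : 𝟙_ (Over (Spec (CommRingCat.of k))) ⟶ A, a ^ (n : ℤ) = 1 ∧ θ₀.hom.left = (τ a).left := by
  have w : θ₀.hom.left ≫ ((𝟙 A) ^ (n : ℤ)).left = ((𝟙 A) ^ (n : ℤ)).left :=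
    MorphismProperty.Over.w θ₀.hom
  set t : A.left ⟶ A.left := θ₀.hom.left with ht
  clear_value t
  replace w : t ≫ ((𝟙 A) ^ (n : ℤ)).left = ((𝟙 A) ^ (n : ℤ)).left := w
  have h1 : ((𝟙 A) ^ (n : ℤ)).left ≫ A.hom = A.hom := Over.w ((𝟙 A) ^ (n : ℤ))
  have wA : t ≫ A.hom = A.hom := by
    calc t ≫ A.hom = t ≫ (((𝟙 A) ^ (n : ℤ)).left ≫ A.hom) := by rw [h1]
      _ = (t ≫ ((𝟙 A) ^ (n : ℤ)).left) ≫ A.hom := (Category.assoc _ _ _).symm
      _ = ((𝟙 A) ^ (n : ℤ)).left ≫ A.hom := by rw [w]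
      _ = A.hom := h1
  let θ' : A ⟶ A := Over.homMk t wA
  have hθ' : θ' ≫ (𝟙 A) ^ (n : ℤ) = (𝟙 A) ^ (n : ℤ) := Over.OverMorphism.ext w
  let a : 𝟙_ (Over (Spec (CommRingCat.of k))) ⟶ A := η[A] ≫ θ'
  have ha : a ^ (n : ℤ) = 1 := by
    have e : a ^ (n : ℤ) = a ≫ (𝟙 A) ^ (n : ℤ) := by rw [GrpObj.comp_zpow, Category.comp_id]
    rw [e, Category.assoc, hθ', GrpObj.comp_zpow, Category.comp_id, unit_eq_one, one_zpow]
  refine ⟨a, ha, ?_⟩
  have hz : (η[A]).left ≫ t = (η[A]).left ≫ (τ a).left := by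
    have h1 : (η[A] ≫ θ').left = (η[A] ≫ τ a).left := by rw [unit_comp_τ]
    exact h1
  exact Groth.Agent.S8190.result ((𝟙 A) ^ (n : ℤ)).left ((𝟙 A) ^ (n : ℤ)).left t (τ a).left w
    (τ_left_comp n a ha) k (η[A]).left hz


theorem trans_key {Ω : Type u} [Field Ω] (ξ : Spec (CommRingCat.of Ω) ⟶ A.left)
    (sL tL : Spec (CommRingCat.of Ω) ⟶ A.left)
    (hsL : sL ≫ ((𝟙 A) ^ (n : ℤ)).left = ξ) (htL : tL ≫ ((𝟙 A) ^ (n : ℤ)).left = ξ) :
    ∃ (a : 𝟙_ (Over (Spec (CommRingCat.of k))) ⟶ A) (_ : a ^ (n : ℤ) = 1),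
      sL ≫ (τ a).left = tL := by
  have h1 : ((𝟙 A) ^ (n : ℤ)).left ≫ A.hom = A.hom := Over.w ((𝟙 A) ^ (n : ℤ))
  let T : Over (Spec (CommRingCat.of k)) := Over.mk (ξ ≫ A.hom)
  have hs : (sL : Spec (CommRingCat.of Ω) ⟶ A.left) ≫ A.hom = ξ ≫ A.hom := by
    rw [← hsL, Category.assoc, h1]
  have ht : (tL : Spec (CommRingCat.of Ω) ⟶ A.left) ≫ A.hom = ξ ≫ A.hom := by
    rw [← htL, Category.assoc, h1]
  let s' : T ⟶ A := Over.homMk sL hs
  let t' : T ⟶ A := Over.homMk tL ht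
  let d : T ⟶ A := s'⁻¹ * t'
  have hst : s' ≫ (𝟙 A) ^ (n : ℤ) = t' ≫ (𝟙 A) ^ (n : ℤ) :=
    Over.OverMorphism.ext (hsL.trans htL.symm)
  have hd : d ^ (n : ℤ) = 1 := by
    have e1 : s' ^ (n : ℤ) = s' ≫ (𝟙 A) ^ (n : ℤ) := by rw [GrpObj.comp_zpow, Category.comp_id]
    have e2 : t' ^ (n : ℤ) = t' ≫ (𝟙 A) ^ (n : ℤ) := by rw [GrpObj.comp_zpow, Category.comp_id]
    change (s'⁻¹ * t') ^ (n : ℤ) = 1
    rw [mul_zpow, inv_zpow, e1, e2, hst, inv_mul_cancel]
  have hdφ : d ≫ (𝟙 A) ^ (n : ℤ) = toUnit T ≫ η[A] := by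
    rw [GrpObj.comp_zpow, Category.comp_id, hd, Hom.one_def]
  -- the fibre over the unit point
  let o : Spec (CommRingCat.of k) ⟶ A.left := (η[A]).left
  have ho : o ≫ A.hom = 𝟙 _ := (Over.w η[A]).trans Over.tensorUnit_hom
  have hx : d.left ≫ ((𝟙 A) ^ (n : ℤ)).left = (ξ ≫ A.hom) ≫ o := by
    have e := congrArg (fun m => m.left) hdφ
    have e2 : (toUnit T).left = ξ ≫ A.hom := by
      have := Over.w (toUnit T)
      rw [Over.tensorUnit_hom] at this
      exact (Category.comp_id _).symm.trans this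
    have e3 : (toUnit T ≫ η[A]).left = (toUnit T).left ≫ o := rfl
    rw [e3, e2] at e
    exact e
  let x : Spec (CommRingCat.of Ω) ⟶ Limits.pullback ((𝟙 A) ^ (n : ℤ)).left o :=
    Limits.pullback.lift d.left (ξ ≫ A.hom) hx
  obtain ⟨y, hy1, hy2⟩ :=
    H9FE.AlgClosedPt.exists_section_through (Limits.pullback.snd ((𝟙 A) ^ (n : ℤ)).left o) x
  let aL : Spec (CommRingCat.of k) ⟶ A.left := y ≫ Limits.pullback.fst ((𝟙 A) ^ (n : ℤ)).left o
  have haφ : aL ≫ ((𝟙 A) ^ (n : ℤ)).left = o := by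
    change (y ≫ Limits.pullback.fst ((𝟙 A) ^ (n : ℤ)).left o) ≫ ((𝟙 A) ^ (n : ℤ)).left = o
    rw [Category.assoc, Limits.pullback.condition, ← Category.assoc, hy1, Category.id_comp]
  have haL : aL ≫ A.hom = 𝟙 _ := by
    calc aL ≫ A.hom = aL ≫ (((𝟙 A) ^ (n : ℤ)).left ≫ A.hom) := by rw [h1]
      _ = (aL ≫ ((𝟙 A) ^ (n : ℤ)).left) ≫ A.hom := (Category.assoc _ _ _).symm
      _ = o ≫ A.hom := by rw [haφ]
      _ = 𝟙 _ := ho
  let a : 𝟙_ (Over (Spec (CommRingCat.of k))) ⟶ A := Over.homMk aL (by simpa using haL)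
  have ha : a ^ (n : ℤ) = 1 := by
    have e : a ^ (n : ℤ) = a ≫ (𝟙 A) ^ (n : ℤ) := by rw [GrpObj.comp_zpow, Category.comp_id]
    rw [e, ← unit_eq_one]
    exact Over.OverMorphism.ext haφ
  have hda : d = toUnit T ≫ a := by
    apply Over.OverMorphism.ext
    have e2 : (toUnit T).left = ξ ≫ A.hom := by
      have := Over.w (toUnit T)
      rw [Over.tensorUnit_hom] at this
      exact (Category.comp_id _).symm.trans this
    change d.left = (toUnit T).left ≫ aL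
    rw [e2]
    have e4 : x ≫ Limits.pullback.fst ((𝟙 A) ^ (n : ℤ)).left o = d.left :=
      Limits.pullback.lift_fst _ _ _
    have e5 : x ≫ Limits.pullback.snd ((𝟙 A) ^ (n : ℤ)).left o = ξ ≫ A.hom :=
      Limits.pullback.lift_snd _ _ _
    rw [← e4, ← e5]
    change _ = (x ≫ Limits.pullback.snd ((𝟙 A) ^ (n : ℤ)).left o) ≫ y ≫ _
    rw [← Category.assoc, hy2]
  refine ⟨a, ha, ?_⟩
  have h3 : s' ≫ τ a = t' := by
    unfold τ
    rw [MonObj.comp_mul, Category.comp_id, ← Category.assoc,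
      toUnit_unique (s' ≫ toUnit A) (toUnit T), ← hda]
    change s' * (s'⁻¹ * t') = t'
    rw [mul_inv_cancel_left]
  exact congrArg (fun m => m.left) h3

theorem galois : PiSp.IsGaloisCover (Z (A := A) n) := by
  refine ⟨‹ConnectedSpace A.left›, ?_⟩
  intro Ω _ _ ξ s t
  obtain ⟨a, ha, h⟩ := trans_key n ξ s.1 t.1 s.2 t.2
  exact ⟨θ n a ha, Subtype.ext h⟩

end Main

section Comm

variable {k : Type u} [Field k]
  (A : Over (Spec (CommRingCat.of k))) [GrpObj A] [IsProper A.hom] [GeometricallyIntegral A.hom]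

/-- the commutator morphism -/
noncomputable def comm : A ⊗ A ⟶ A := (fst A A * snd A A) * (snd A A * fst A A)⁻¹

theorem comm_eq_one : comm A = 1 := by
  have h := Groth.Agent.S8117.result k A A A (comm A) η[A] η[A] η[A] ?_ ?_
  · rw [h, Hom.one_def]
  · unfold comm
    rw [MonObj.comp_mul, GrpObj.comp_inv, MonObj.comp_mul, MonObj.comp_mul, lift_fst, lift_snd,
      ← Hom.one_def, _root_.mul_one, _root_.one_mul, mul_inv_cancel, Hom.one_def]
  · unfold comm
    rw [MonObj.comp_mul, GrpObj.comp_inv, MonObj.comp_mul, MonObj.comp_mul, lift_fst, lift_snd,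
      ← Hom.one_def, _root_.mul_one, _root_.one_mul, mul_inv_cancel, Hom.one_def]

theorem isComm : IsCommMonObj A := by
  have h : fst A A * snd A A = snd A A * fst A A := by
    have := comm_eq_one A
    unfold comm at this
    exact mul_inv_eq_one.1 this
  constructor
  have e1 : fst A A * snd A A = μ[A] := by
    rw [Hom.mul_def, lift_fst_snd, Category.id_comp]
  have e2 : snd A A * fst A A = (β_ A A).hom ≫ μ[A] := by
    rw [Hom.mul_def]
    congr 1
  rw [← e2, ← h, e1]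

theorem connected : ConnectedSpace A.left := by
  haveI : Subsingleton ↥(Spec (CommRingCat.of k)) :=
    inferInstanceAs (Subsingleton (PrimeSpectrum k))
  haveI : IrreducibleSpace A.left :=
    GeometricallyIrreducible.irreducibleSpace_of_subsingleton A.hom
  infer_instance

end Comm

theorem main (k : Type u) [Field k] [IsAlgClosed k]
    (A : Over (Spec (CommRingCat.of k))) [GrpObj A] [IsProper A.hom] [GeometricallyIntegral A.hom]
    (n : ℕ) (hn1 : 1 ≤ n) (hn : IsUnit ((n : ℕ) : k)) :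
    ∀ [hF : IsFinite ((𝟙 A) ^ (n : ℤ)).left] [hE : Etale ((𝟙 A) ^ (n : ℤ)).left],
      PiSp.IsGaloisCover (MorphismProperty.Over.mk ⊤ ((𝟙 A) ^ (n : ℤ)).left ⟨hF, hE⟩ : FEt.Cat A.left) ∧
      (∀ θ : Aut (MorphismProperty.Over.mk ⊤ ((𝟙 A) ^ (n : ℤ)).left ⟨hF, hE⟩ : FEt.Cat A.left),
        ∃! a : 𝟙_ (Over (Spec (CommRingCat.of k))) ⟶ A, a ^ (n : ℤ) = 1 ∧
          θ.hom.left = ((𝟙 A) * (toUnit A ≫ a)).left) ∧
      (∀ a : 𝟙_ (Over (Spec (CommRingCat.of k))) ⟶ A, a ^ (n : ℤ) = 1 →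
        ∃ θ : Aut (MorphismProperty.Over.mk ⊤ ((𝟙 A) ^ (n : ℤ)).left ⟨hF, hE⟩ : FEt.Cat A.left),
          θ.hom.left = ((𝟙 A) * (toUnit A ≫ a)).left) := by
  intro hF hE
  haveI := isComm A
  haveI := connected A
  refine ⟨galois n, ?_, ?_⟩
  · intro θ₀
    obtain ⟨a, ha, hθ⟩ := aut_eq n θ₀
    refine ⟨a, ⟨ha, hθ⟩, ?_⟩
    rintro b ⟨hb, hθb⟩
    exact (τ_inj a b (hθ.symm.trans hθb)).symm
  · intro a ha
    exact ⟨θ n a ha, rfl⟩

end Aux

/-- The covers that compute the prime-to-p part of the fundamental group of an abelian variety: let k be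
algebraically closed, A an abelian variety over k (a proper, geometrically integral group scheme
over k) and n ≥ 1 an integer invertible in k. Granted that multiplication by n (the n-th power of
the identity in the group Hom(A, A)) is a finite etale cover of A, it is a Galois cover, and its
automorphisms over A are exactly the translations x -> x + a by the k-points a of A with n a = 0,
each such a giving exactly one automorphism. (With the domination row this identifies the maximal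
prime-to-p quotient of the fundamental group with the inverse limit of the prime-to-p torsion
points.) -/
theorem result (k : Type u) [Field k] [IsAlgClosed k]
    (A : Over (Spec (CommRingCat.of k))) [GrpObj A] [IsProper A.hom] [GeometricallyIntegral A.hom]
    (n : ℕ) (hn1 : 1 ≤ n) (hn : IsUnit ((n : ℕ) : k)) :
    ∀ [hF : IsFinite ((𝟙 A) ^ (n : ℤ)).left] [hE : Etale ((𝟙 A) ^ (n : ℤ)).left],
      PiSp.IsGaloisCover (MorphismProperty.Over.mk ⊤ ((𝟙 A) ^ (n : ℤ)).left ⟨hF, hE⟩ : FEt.Cat A.left) ∧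
      (∀ θ : Aut (MorphismProperty.Over.mk ⊤ ((𝟙 A) ^ (n : ℤ)).left ⟨hF, hE⟩ : FEt.Cat A.left),
        ∃! a : 𝟙_ (Over (Spec (CommRingCat.of k))) ⟶ A, a ^ (n : ℤ) = 1 ∧
          θ.hom.left = ((𝟙 A) * (toUnit A ≫ a)).left) ∧
      (∀ a : 𝟙_ (Over (Spec (CommRingCat.of k))) ⟶ A, a ^ (n : ℤ) = 1 →
        ∃ θ : Aut (MorphismProperty.Over.mk ⊤ ((𝟙 A) ^ (n : ℤ)).left ⟨hF, hE⟩ : FEt.Cat A.left),
          θ.hom.left = ((𝟙 A) * (toUnit A ≫ a)).left) := by
  exact Aux.main k A n hn1 hn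

end Groth.Agent.S3718
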