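import Groth.Statements.S3720
import Mathlib
import Groth.Prelude.Def_SGA1t
import Groth.Agent.Lib.Helper9.FE.TorsKum
import Groth.Agent.Lib.Helper9.FE.TorsSch
-- import your own Groth.Agent.* helpers here

set_option autoImplicit false
open CategoryTheory CategoryTheory.Limits AlgebraicGeometry
universe u
open SGA1t

namespace Groth.Agent.S3720

open CategoryTheory CategoryTheory.Limits AlgebraicGeometry
namespace Aux
set_option backward.isDefEq.respectTransparency false
set_option linter.style.haveILetI false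
set_option linter.unusedSectionVars false
open H9FE

attribute [local instance] H9FE.secAlg

/-- the Kummer algebra in one variable as a quotient of the polynomial ring -/
noncomputable def kumEquiv (A : Type u) [CommRing A] (n : ℕ) (a : A) :
    SGA1t.kummer A (fun _ : Unit => a) (fun _ => n) ≃ₐ[A] AdjoinRoot (kumPoly n a) :=
  Ideal.quotientEquivAlg _ _ (MvPolynomial.uniqueAlgEquiv A Unit) (by
    rw [Ideal.map_span]
    congr 1
    ext q
    simp only [Set.mem_singleton_iff, Set.mem_image, Set.mem_range]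
    constructor
    · rintro rfl
      refine ⟨_, ⟨(), rfl⟩, ?_⟩
      simp [kumPoly]
    · rintro ⟨_, ⟨i, rfl⟩, rfl⟩
      simp [kumPoly])

theorem kumEquiv_X (A : Type u) [CommRing A] (n : ℕ) (a : A) :
    kumEquiv A n a (Ideal.Quotient.mk _ (MvPolynomial.X ())) = AdjoinRoot.root _ := by
  show Ideal.Quotient.mk _ (MvPolynomial.uniqueAlgEquiv A Unit (MvPolynomial.X ())) = _
  simp
  rfl


theorem main (A : Type u) [CommRing A] [IsLocalRing A] (n : ℕ) (hn1 : 1 ≤ n)
    (hn : IsUnit ((n : ℕ) : A)) (ζ₀ : A) (hζ₀ : IsPrimitiveRoot ζ₀ n)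
    (P : FEt.Cat (Spec (CommRingCat.of A))) (ρ : ↥(rootsOfUnity n A) →* Aut P)
    (hP : SGA1t.IsPrincipal ↥(rootsOfUnity n A) P ρ) :
    ∃ (a : Aˣ) (e : P.left ≅ Spec (CommRingCat.of (SGA1t.kummer A (fun _ : Unit => (a : A)) (fun _ => n)))),
      e.hom ≫ Spec.map (CommRingCat.ofHom (algebraMap A (SGA1t.kummer A (fun _ : Unit => (a : A)) (fun _ => n)))) = P.hom ∧
      ∀ ζ : ↥(rootsOfUnity n A), (ρ ζ).hom.left ≫ e.hom =
        e.hom ≫ Spec.map (CommRingCat.ofHom (SGA1t.kummerTwist A (fun _ : Unit => (a : A)) (fun _ => n) (fun _ => ζ))) := by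
  haveI : Module.Finite A Γ(P.left, ⊤) := secAlg_finite P
  haveI : Algebra.Etale A Γ(P.left, ⊤) := secAlg_etale P
  have hσ := isTors_of_isPrincipal P ρ hP
  obtain ⟨a, ψ, hψ⟩ := exists_kummer_equiv n hn1 hn ζ₀ hζ₀ (actHom P ρ) hσ
  let ψ' : SGA1t.kummer A (fun _ : Unit => (a : A)) (fun _ => n) ≃ₐ[A] Γ(P.left, ⊤) :=
    (kumEquiv A n (a : A)).trans ψ
  have hψ'X : ψ' (Ideal.Quotient.mk _ (MvPolynomial.X ())) = ψ (AdjoinRoot.root _) := by
    show ψ (kumEquiv A n (a : A) _) = _
    rw [kumEquiv_X]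
  refine ⟨a, specIso P ψ', specIso_hom_comp P ψ', fun ζ => specIso_equivariant P ρ ψ' _ _ ?_⟩
  intro x
  have hcomp : ((ψ' : SGA1t.kummer A (fun _ : Unit => (a : A)) (fun _ => n) →+* Γ(P.left, ⊤)).comp
      (SGA1t.kummerTwist A (fun _ : Unit => (a : A)) (fun _ => n) (fun _ => ζ))) =
      ((actHom P ρ ζ : Γ(P.left, ⊤) →+* Γ(P.left, ⊤)).comp
        (ψ' : SGA1t.kummer A (fun _ : Unit => (a : A)) (fun _ => n) →+* Γ(P.left, ⊤))) := by
    apply Ideal.Quotient.ringHom_ext
    apply MvPolynomial.ringHom_ext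
    · intro r
      show ψ' (SGA1t.kummerTwist A (fun _ : Unit => (a : A)) (fun _ => n) (fun _ => ζ)
        (Ideal.Quotient.mk _ (MvPolynomial.C r))) =
        actHom P ρ ζ (ψ' (Ideal.Quotient.mk _ (MvPolynomial.C r)))
      have h1 : SGA1t.kummerTwist A (fun _ : Unit => (a : A)) (fun _ => n) (fun _ => ζ)
          (Ideal.Quotient.mk _ (MvPolynomial.C r)) = Ideal.Quotient.mk _ (MvPolynomial.C r) := by
        rw [SGA1t.kummerTwist, Ideal.Quotient.lift_mk]
        simp
      have h2 : (Ideal.Quotient.mk (Ideal.span (Set.range fun i : Unit =>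
          (MvPolynomial.X i : MvPolynomial Unit A) ^ n - MvPolynomial.C (a : A))) (MvPolynomial.C r)) =
          algebraMap A (SGA1t.kummer A (fun _ : Unit => (a : A)) (fun _ => n)) r := rfl
      rw [h1, h2, AlgEquiv.commutes, AlgHom.commutes]
    · intro i
      show ψ' (SGA1t.kummerTwist A (fun _ : Unit => (a : A)) (fun _ => n) (fun _ => ζ)
        (Ideal.Quotient.mk _ (MvPolynomial.X i))) =
        actHom P ρ ζ (ψ' (Ideal.Quotient.mk _ (MvPolynomial.X i)))
      have h1 : SGA1t.kummerTwist A (fun _ : Unit => (a : A)) (fun _ => n) (fun _ => ζ)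
          (Ideal.Quotient.mk _ (MvPolynomial.X i)) =
          algebraMap A (SGA1t.kummer A (fun _ : Unit => (a : A)) (fun _ => n)) ((ζ : Aˣ) : A) *
            Ideal.Quotient.mk _ (MvPolynomial.X i) := by
        rw [SGA1t.kummerTwist, Ideal.Quotient.lift_mk]
        simp
        rfl
      rw [h1, map_mul, AlgEquiv.commutes, hψ'X]
      exact (hψ ζ).symm
  exact congrArg (fun f : SGA1t.kummer A (fun _ : Unit => (a : A)) (fun _ => n) →+* Γ(P.left, ⊤) => f x) hcomp

end Aux

/-- Kummer theory over a local ring: let A be a local ring, n ≥ 1 an integer invertible in A, and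
suppose A contains a primitive n-th root of unity (so that the group μ_n(A) of n-th roots of unity
in A is cyclic of order n). Then every principal μ_n(A)-cover P of Spec A is isomorphic over Spec A
to a Kummer cover Spec A[T]/(Tⁿ − a) for some unit a of A, compatibly with the actions: the given
action of a root of unity ζ on P corresponds to the automorphism of A[T]/(Tⁿ − a) induced by T ↦ ζT. -/
theorem result (A : Type u) [CommRing A] [IsLocalRing A] (n : ℕ) (hn1 : 1 ≤ n)
    (hn : IsUnit ((n : ℕ) : A)) (ζ₀ : A) (hζ₀ : IsPrimitiveRoot ζ₀ n)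
    (P : FEt.Cat (Spec (CommRingCat.of A))) (ρ : ↥(rootsOfUnity n A) →* Aut P)
    (hP : SGA1t.IsPrincipal ↥(rootsOfUnity n A) P ρ) :
    ∃ (a : Aˣ) (e : P.left ≅ Spec (CommRingCat.of (SGA1t.kummer A (fun _ : Unit => (a : A)) (fun _ => n)))),
      e.hom ≫ Spec.map (CommRingCat.ofHom (algebraMap A (SGA1t.kummer A (fun _ : Unit => (a : A)) (fun _ => n)))) = P.hom ∧
      ∀ ζ : ↥(rootsOfUnity n A), (ρ ζ).hom.left ≫ e.hom =
        e.hom ≫ Spec.map (CommRingCat.ofHom (SGA1t.kummerTwist A (fun _ : Unit => (a : A)) (fun _ => n) (fun _ => ζ))) := by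
  exact Aux.main A n hn1 hn ζ₀ hζ₀ P ρ hP

end Groth.Agent.S3720
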