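import Groth.Statements.S3721
import Mathlib
import Groth.Prelude.Def_SGA1t
import Groth.Agent.Lib.Helper9.FE.TorsAS
import Groth.Agent.Lib.Helper9.FE.TorsSch
-- import your own Groth.Agent.* helpers here

set_option autoImplicit false
open CategoryTheory CategoryTheory.Limits AlgebraicGeometry
universe u
open SGA1t

namespace Groth.Agent.S3721

open CategoryTheory CategoryTheory.Limits AlgebraicGeometry
namespace Aux
set_option backward.isDefEq.respectTransparency false
set_option linter.style.haveILetI false
set_option linter.unusedSectionVars false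
open H9FE Polynomial

attribute [local instance] H9FE.secAlg

theorem main (A : Type u) [CommRing A] (p : ℕ) [Fact p.Prime] [CharP A p]
    (P : FEt.Cat (Spec (CommRingCat.of A))) (ρ : Multiplicative (ZMod p) →* Aut P)
    (hP : SGA1t.IsPrincipal (Multiplicative (ZMod p)) P ρ) :
    ∃ (a : A) (e : P.left ≅ Spec (CommRingCat.of (SGA1t.artinSchreier A p a))),
      e.hom ≫ Spec.map (CommRingCat.ofHom (algebraMap A (SGA1t.artinSchreier A p a))) = P.hom ∧
      ∀ j : ZMod p, (ρ (Multiplicative.ofAdd j)).hom.left ≫ e.hom =
        e.hom ≫ Spec.map (CommRingCat.ofHom (SGA1t.artinSchreierShift A p a j)) := by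
  haveI : Module.Finite A Γ(P.left, ⊤) := secAlg_finite P
  haveI : Algebra.Etale A Γ(P.left, ⊤) := secAlg_etale P
  have hσ := isTors_of_isPrincipal P ρ hP
  obtain ⟨a, ψ, hψ⟩ := exists_as_equiv p (actHom P ρ) hσ
  let ψ' : SGA1t.artinSchreier A p a ≃ₐ[A] Γ(P.left, ⊤) := ψ
  refine ⟨a, specIso P ψ', specIso_hom_comp P ψ', fun j => specIso_equivariant P ρ ψ' _ _ ?_⟩
  intro x
  have hcomp : ((ψ' : SGA1t.artinSchreier A p a →+* Γ(P.left, ⊤)).comp
      (SGA1t.artinSchreierShift A p a j)) =
      ((actHom P ρ (Multiplicative.ofAdd j) : Γ(P.left, ⊤) →+* Γ(P.left, ⊤)).comp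
        (ψ' : SGA1t.artinSchreier A p a →+* Γ(P.left, ⊤))) := by
    apply Ideal.Quotient.ringHom_ext
    apply Polynomial.ringHom_ext
    · intro r
      show ψ' (SGA1t.artinSchreierShift A p a j (Ideal.Quotient.mk _ (C r))) =
        actHom P ρ (Multiplicative.ofAdd j) (ψ' (Ideal.Quotient.mk _ (C r)))
      have h1 : SGA1t.artinSchreierShift A p a j (Ideal.Quotient.mk _ (C r)) =
          Ideal.Quotient.mk _ (C r) := by
        rw [SGA1t.artinSchreierShift, Ideal.Quotient.lift_mk]
        simp
      have h2 : (Ideal.Quotient.mk (Ideal.span {(X : A[X]) ^ p - X - C a}) (C r)) =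
          algebraMap A (SGA1t.artinSchreier A p a) r := rfl
      rw [h1, h2, AlgEquiv.commutes, AlgHom.commutes]
    · show ψ' (SGA1t.artinSchreierShift A p a j (Ideal.Quotient.mk _ X)) =
        actHom P ρ (Multiplicative.ofAdd j) (ψ' (Ideal.Quotient.mk _ X))
      have h1 : SGA1t.artinSchreierShift A p a j (Ideal.Quotient.mk _ X) =
          Ideal.Quotient.mk _ X + algebraMap A (SGA1t.artinSchreier A p a) (zc p j) := by
        rw [SGA1t.artinSchreierShift, Ideal.Quotient.lift_mk]
        simp
        rfl
      rw [h1, map_add, AlgEquiv.commutes]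
      exact (hψ j).symm
  exact congrArg (fun f : SGA1t.artinSchreier A p a →+* Γ(P.left, ⊤) => f x) hcomp

end Aux

/-- Let p be a prime and A a commutative ring of characteristic p. Then every principal ℤ/p-cover P of
Spec A (a finite étale cover with an action of ℤ/p making it a torsor) is isomorphic over Spec A to
an Artin–Schreier cover Spec A[T]/(T^p − T − a) for some a ∈ A, compatibly with the actions: under
the isomorphism the given action of j ∈ ℤ/p on P corresponds to the automorphism of the
Artin–Schreier cover induced by T ↦ T + j. The published statement is for any base S of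
characteristic p on which Frobenius fixes no nonzero element of H¹(S, O_S); it is stated here for S
= Spec A affine. -/
theorem result (A : Type u) [CommRing A] (p : ℕ) [Fact p.Prime] [CharP A p]
    (P : FEt.Cat (Spec (CommRingCat.of A))) (ρ : Multiplicative (ZMod p) →* Aut P)
    (hP : SGA1t.IsPrincipal (Multiplicative (ZMod p)) P ρ) :
    ∃ (a : A) (e : P.left ≅ Spec (CommRingCat.of (SGA1t.artinSchreier A p a))),
      e.hom ≫ Spec.map (CommRingCat.ofHom (algebraMap A (SGA1t.artinSchreier A p a))) = P.hom ∧
      ∀ j : ZMod p, (ρ (Multiplicative.ofAdd j)).hom.left ≫ e.hom =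
        e.hom ≫ Spec.map (CommRingCat.ofHom (SGA1t.artinSchreierShift A p a j)) := by
  exact Aux.main A p P ρ hP

end Groth.Agent.S3721
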