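import Groth.Statements.S6620
import Mathlib

set_option autoImplicit false
universe w w' v v' u u'
open CategoryTheory CategoryTheory.Limits
open CohDer

namespace Groth.Agent.S6620


/-- Part (1): in the case where A has enough injectives (so that RF is defined on all of D⁺(A)): let F :
A ⥤ B be an additive functor between abelian categories, A with enough injectives, and K ∈ D⁺(A)
with Hⁱ(K) = 0 for i < a. Then Hⁱ(RF(K)) = 0 for i < a. -/
theorem result {A : Type u} [Category.{v} A] [Abelian A] [HasDerivedCategory.{w} A] [EnoughInjectives A]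
    {B : Type u'} [Category.{v'} B] [Abelian B] [HasDerivedCategory.{w'} B]
    (F : A ⥤ B) [F.Additive] (K : DerivedCategory.Plus A) (a : ℤ) [K.IsGE a] :
    (F.rightDerivedFunctorPlus.obj K).IsGE a := by
  obtain ⟨L, hL, ⟨e⟩⟩ := DerivedCategory.Plus.exists_injective_nonempty_iso K a
  let M := (InjectiveObject.ι A).mapCochainComplexPlus.obj L
  have hiso : IsIso (F.rightDerivedFunctorPlusUnit.app ((HomotopyCategory.Plus.quotient A).obj M)) :=
    inferInstance
  let φ := asIso (F.rightDerivedFunctorPlusUnit.app ((HomotopyCategory.Plus.quotient A).obj M))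
  have iso : F.rightDerivedFunctorPlus.obj K ≅
      DerivedCategory.Plus.Qh.obj (F.mapHomotopyCategoryPlus.obj ((HomotopyCategory.Plus.quotient A).obj M)) :=
    (F.rightDerivedFunctorPlus.mapIso e.symm) ≪≫ φ.symm
  let Z : CochainComplex B ℤ := (F.mapHomologicalComplex _).obj
    (((InjectiveObject.ι A).mapHomologicalComplex _).obj L.obj)
  haveI : CochainComplex.IsStrictlyGE
      (((InjectiveObject.ι A).mapHomologicalComplex (ComplexShape.up ℤ)).obj L.obj) a :=
    inferInstance
  haveI : CochainComplex.IsStrictlyGE Z a := inferInstance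
  haveI : (DerivedCategory.Q.obj Z).IsGE a := inferInstance
  have iso2 : DerivedCategory.Q.obj Z ≅ DerivedCategory.Plus.ι.obj (DerivedCategory.Plus.Qh.obj
      (F.mapHomotopyCategoryPlus.obj ((HomotopyCategory.Plus.quotient A).obj M))) :=
    ((DerivedCategory.quotientCompQhIso B).symm.app Z) ≪≫
      DerivedCategory.Qh.mapIso ((F.mapHomotopyCategoryFactors _).symm.app M.obj)
  haveI : (DerivedCategory.Plus.Qh.obj
      (F.mapHomotopyCategoryPlus.obj ((HomotopyCategory.Plus.quotient A).obj M))).IsGE a := by
    rw [← DerivedCategory.Plus.isGE_ι_obj_iff]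
    exact DerivedCategory.TStructure.t.isGE_of_iso iso2 a
  exact DerivedCategory.Plus.TStructure.t.isGE_of_iso iso.symm a

end Groth.Agent.S6620
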