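import Groth.Statements.S3724
import Mathlib
import Groth.Statements.S3724
import Groth.Agent.Lib.Helper9.FE.InjAmp
import Groth.Agent.Lib.Helper3.RDTri
import Groth.Agent.S6620
-- import your own Groth.Agent.* helpers here

set_option autoImplicit false
universe u
open CategoryTheory CategoryTheory.Limits AlgebraicGeometry Opposite
attribute [local instance] HasDerivedCategory.standard
open EtDl

namespace Groth.Agent.S3724

open CategoryTheory CategoryTheory.Limits AlgebraicGeometry Opposite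
open EtDl
namespace Aux

set_option linter.style.haveILetI false
set_option linter.unusedSectionVars false
open Groth.Agent.Lib.Helper9.InjAmp Groth.Agent.Helper3.RDTri

theorem main {X S : Scheme.{u}} [CompactSpace ↥X] [QuasiSeparatedSpace ↥X] [CompactSpace ↥S] [QuasiSeparatedSpace ↥S]
    {f : X ⟶ S} (c : DEt.Compactification f)
    (Λ : Type (u + 1)) [CommRing Λ] (n : ℕ) (hn : 0 < n) (hΛ : (n : Λ) = 0)
    (G : DerivedCategory.Plus (EtModW.Mod Λ S) ⥤ DerivedCategory.Plus (EtModW.Mod Λ X))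
    (adj : EtDl.RshriekPlus Λ c ⊣ G) (L : DerivedCategory.Plus (EtModW.Mod Λ S)) (a b : ℤ)
    (ha : L.IsGE a) (hb : L.IsLE b) (m : ℤ)
    (hL : ∀ (F : EtModW.Mod Λ S) (i : ℤ), m < i →
      Subsingleton ((DerivedCategory.Plus.singleFunctor (EtModW.Mod Λ S) 0).obj F ⟶ L⟦i⟧))
    (F : EtModW.Mod Λ X) (i : ℤ) (hi : m < i) :
    Subsingleton ((DerivedCategory.Plus.singleFunctor (EtModW.Mod Λ X) 0).obj F ⟶ (G.obj L)⟦i⟧) := by
  -- step 1: singles in all nonnegative degrees
  have hsingle : ∀ (F' : EtModW.Mod Λ S) (k : ℤ), 0 ≤ k →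
      Subsingleton ((DerivedCategory.Plus.singleFunctor (EtModW.Mod Λ S) k).obj F' ⟶ L⟦i⟧) := by
    intro F' k hk
    have h1 : Subsingleton ((DerivedCategory.Plus.singleFunctor (EtModW.Mod Λ S) 0).obj F' ⟶
        (L⟦i⟧)⟦k⟧) :=
      subsingleton_of_iso_right ((shiftFunctorAdd' _ i k (i + k) rfl).app L) (hL F' (i + k) (by omega))
    have h2 := subsingleton_shift_left _ _ k h1
    exact subsingleton_of_iso_left
      (((DerivedCategory.Plus.singleFunctors (EtModW.Mod Λ S)).shiftIso (-k) k 0 (by omega)).app F') h2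
  -- step 2
  let K := (EtDl.RshriekPlus Λ c).obj ((DerivedCategory.Plus.singleFunctor (EtModW.Mod Λ X) 0).obj F)
  haveI : ((EtDl.extZeroPlus Λ c.j).obj
      ((DerivedCategory.Plus.singleFunctor (EtModW.Mod Λ X) 0).obj F)).IsGE 0 :=
    Groth.Agent.S6620.result _ _ 0
  haveI : K.IsGE 0 := Groth.Agent.S6620.result _ _ 0
  have hK : Subsingleton (K ⟶ L⟦i⟧) := subsingleton_hom_of_isGE (L⟦i⟧) hsingle K
  -- step 3
  apply subsingleton_shift_right
  refine (adj.homEquiv _ _).subsingleton_congr.1 ?_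
  let cs : (EtDl.RshriekPlus Λ c).obj
      (((DerivedCategory.Plus.singleFunctor (EtModW.Mod Λ X) 0).obj F)⟦-i⟧) ≅ K⟦-i⟧ :=
    (EtDl.pushPlus Λ c.fbar).mapIso (((EtDl.extZeroPlus Λ c.j).commShiftIso (-i)).app _) ≪≫
      ((EtDl.pushPlus Λ c.fbar).commShiftIso (-i)).app _
  exact subsingleton_of_iso_left cs.symm (subsingleton_shift_left _ _ i hK)

end Aux

/-- Let f : X -> S be a morphism of quasi-compact quasi-separated schemes with a compactification c, Λ a
commutative ring with n·1 = 0 for some n ≥ 1, and Rf^! any right adjoint of Rf_! : D^+(X_et, Λ) ->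
D^+(S_et, Λ). Let L in D^b(S_et, Λ) have injective dimension at most m, in the sense that Hom(F,
L[i]) = 0 for every sheaf of Λ-modules F on S_et and every i > m. Then Rf^! L has injective
dimension at most m in the same sense on X_et. -/
theorem result {X S : Scheme.{u}} [CompactSpace ↥X] [QuasiSeparatedSpace ↥X] [CompactSpace ↥S] [QuasiSeparatedSpace ↥S]
    {f : X ⟶ S} (c : DEt.Compactification f)
    (Λ : Type (u + 1)) [CommRing Λ] (n : ℕ) (hn : 0 < n) (hΛ : (n : Λ) = 0)
    (G : DerivedCategory.Plus (EtModW.Mod Λ S) ⥤ DerivedCategory.Plus (EtModW.Mod Λ X))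
    (adj : EtDl.RshriekPlus Λ c ⊣ G) (L : DerivedCategory.Plus (EtModW.Mod Λ S)) (a b : ℤ)
    (ha : L.IsGE a) (hb : L.IsLE b) (m : ℤ)
    (hL : ∀ (F : EtModW.Mod Λ S) (i : ℤ), m < i →
      Subsingleton ((DerivedCategory.Plus.singleFunctor (EtModW.Mod Λ S) 0).obj F ⟶ L⟦i⟧))
    (F : EtModW.Mod Λ X) (i : ℤ) (hi : m < i) :
    Subsingleton ((DerivedCategory.Plus.singleFunctor (EtModW.Mod Λ X) 0).obj F ⟶ (G.obj L)⟦i⟧) := by
  exact Aux.main c Λ n hn hΛ G adj L a b ha hb m hL F i hi

end Groth.Agent.S3724
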