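import Groth.Statements.S3795
import Groth.Agent.Lib.Helper3.LambdaV

set_option autoImplicit false
universe v u
open CategoryTheory CategoryTheory.Limits AlgebraicGeometry
attribute [local instance] HasDerivedCategory.standard
open KRR

namespace Groth.Agent.S3795

/-- Let K be a λ-ring with positive structure having the splitting property, j ≥ 2, n ≥ 0 and x ∈ K. If
ψ^j(x) - j^n x lies in ℚF^{n+1} (some positive multiple lies in F^{n+1}, γ-filtration), then x lies
in ℚF^n (some positive multiple of x lies in F^n). -/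
theorem result (K : Type v) [CommRing K] [LambdaRing.LambdaOps K] (P : LambdaRing.PosStructure K) (hK : LambdaRing.HasSplitting K P) (j : ℕ) (hj : 2 ≤ j) (n : ℕ) (x : K)
    (hx : ∃ N : ℕ, 1 ≤ N ∧ (N : K) * (LambdaRing.adams P j x - (j : K) ^ n * x) ∈ LambdaRing.gammaFiltration P (n + 1)) :
    ∃ N : ℕ, 1 ≤ N ∧ (N : K) * x ∈ LambdaRing.gammaFiltration P n := by
  obtain ⟨N, hN, hNx⟩ := hx
  have key : ∀ k : ℕ, k ≤ n → ∃ M : ℕ, 1 ≤ M ∧ (M : K) * x ∈ LambdaRing.gammaFiltration P k := by
    intro k
    induction k with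
    | zero =>
      intro _
      refine ⟨1, le_rfl, ?_⟩
      rw [Groth.Agent.Helper3.SplitLib.gammaFiltration_zero]
      exact AddSubgroup.mem_top _
    | succ k ih =>
      intro hk
      obtain ⟨M, hM, hMx⟩ := ih (by omega)
      have h1 := Groth.Agent.Helper3.SplitLib.adams_sub_mem hK j k hMx
      have h2 : LambdaRing.adams P j ((M : K) * x) = (M : K) * LambdaRing.adams P j x := by
        rw [Groth.Agent.Helper3.SplitLib.adams_mul P hK,
          ← Groth.Agent.Helper3.SplitLib.adamsRingHom_apply P hK j (M : K), map_natCast]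
      have h3 : (N : K) * (LambdaRing.adams P j x - (j : K) ^ n * x) ∈
          LambdaRing.gammaFiltration P (k + 1) :=
        Groth.Agent.Helper3.SplitLib.gammaFiltration_anti P (by omega) hNx
      have hlt : j ^ k < j ^ n := Nat.pow_lt_pow_right hj (by omega)
      refine ⟨N * M * (j ^ n - j ^ k), ?_, ?_⟩
      · have h4 : 1 ≤ j ^ n - j ^ k := by omega
        calc 1 = 1 * 1 * 1 := by norm_num
          _ ≤ N * M * (j ^ n - j ^ k) := Nat.mul_le_mul (Nat.mul_le_mul hN hM) h4
      · have h5 : ((N * M * (j ^ n - j ^ k) : ℕ) : K) * x =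
            (N : K) * (LambdaRing.adams P j ((M : K) * x) - (j : K) ^ k * ((M : K) * x)) -
              (M : K) * ((N : K) * (LambdaRing.adams P j x - (j : K) ^ n * x)) := by
          rw [h2]
          push_cast [Nat.cast_sub hlt.le]
          ring
        rw [h5]
        exact sub_mem (Groth.Agent.Helper3.SplitLib.mul_mem_gammaFiltration_left P _ _ h1)
          (Groth.Agent.Helper3.SplitLib.mul_mem_gammaFiltration_left P _ _ h3)
  exact key n le_rfl

end Groth.Agent.S3795
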