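import Groth.Statements.S3833
import Mathlib
import Groth.Prelude.Def_CInt
-- import your own Groth.Agent.* helpers here

set_option autoImplicit false
universe u
open CategoryTheory CategoryTheory.Limits AlgebraicGeometry TopologicalSpace
open Rat20

namespace Groth.Agent.S3833

open CategoryTheory CategoryTheory.Limits AlgebraicGeometry TopologicalSpace
namespace Aux

/-- sections with vanishing germs vanish -/
theorem eq_zero_of_germ {X : Scheme.{u}} (V : X.Opens) (a : Γ(X, V))
    (h : ∀ (x : X) (hx : x ∈ V), X.presheaf.germ V x hx a = 0) : a = 0 := by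
  apply TopCat.Presheaf.section_ext X.sheaf V a 0
  intro x hx
  rw [map_zero]
  exact h x hx

theorem mono_dense {X : Scheme.{u}} {U U' : X.Opens} (hle : U ≤ U')
    (hU : CInt.IsSchematicallyDense U) : CInt.IsSchematicallyDense U' := by
  intro V a b hab
  apply hU V
  have e : (homOfLE (inf_le_left : V ⊓ U ≤ V)).op =
      (homOfLE (inf_le_left : V ⊓ U' ≤ V)).op ≫
        (homOfLE (inf_le_inf_left V hle : V ⊓ U ≤ V ⊓ U')).op := rfl
  rw [e, Functor.map_comp]
  simp only [CommRingCat.hom_comp, RingHom.coe_comp, Function.comp_apply]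
  rw [hab]

theorem main (X : Scheme.{u}) (s : Γ(X, ⊤))
    (hs : ∀ x : ↥X, (X.presheaf.germ ⊤ x trivial s) ∈ nonZeroDivisors ↑(X.presheaf.stalk x)) :
    CInt.IsSchematicallyDense (X.basicOpen s) := by
  intro V
  rw [injective_iff_map_eq_zero]
  intro a ha
  apply eq_zero_of_germ
  intro x hx
  -- affine nbhd
  obtain ⟨W, hW, hxW, hWV'⟩ := Opens.isBasis_iff_nbhd.mp X.isBasis_affineOpens hx
  set a' := (X.presheaf.map (homOfLE hWV').op).hom a with ha'
  set s' := (X.presheaf.map (homOfLE (le_top : W ≤ ⊤)).op).hom s with hs'
  have hres : (X.presheaf.map (homOfLE (X.basicOpen_le s')).op).hom a' = 0 := by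
    have hle : X.basicOpen s' ≤ V ⊓ X.basicOpen s := by
      rw [hs', Scheme.basicOpen_res]
      exact inf_le_inf_right _ hWV'
    have e : (homOfLE hWV').op ≫ (homOfLE (X.basicOpen_le s')).op =
        (homOfLE (inf_le_left : V ⊓ X.basicOpen s ≤ V)).op ≫ (homOfLE hle).op := rfl
    rw [ha', ← CommRingCat.comp_apply, ← Functor.map_comp, e, Functor.map_comp,
      CommRingCat.comp_apply, ha, map_zero]
  obtain ⟨n, hn⟩ := exists_pow_mul_eq_zero_of_res_basicOpen_eq_zero_of_isAffineOpen X hW a' s' hres
  have hg := congrArg (X.presheaf.germ W x hxW).hom hn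
  rw [map_mul, map_pow, map_zero] at hg
  have h1 : (X.presheaf.germ W x hxW).hom s' = X.presheaf.germ ⊤ x trivial s := by
    rw [hs']
    exact TopCat.Presheaf.germ_res_apply X.presheaf (homOfLE (le_top : W ≤ ⊤)) x hxW s
  have h2 : (X.presheaf.germ W x hxW).hom a' = X.presheaf.germ V x hx a := by
    rw [ha']
    exact TopCat.Presheaf.germ_res_apply X.presheaf (homOfLE hWV') x hxW a
  rw [h1, h2] at hg
  have hnz : (X.presheaf.germ ⊤ x trivial s) ^ n ∈ nonZeroDivisors ↑(X.presheaf.stalk x) :=
    pow_mem (hs x) n
  exact (mul_left_mem_nonZeroDivisors_eq_zero_iff hnz).1 hg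

end Aux

/-- Stated for a global section, the case of a section over an open subset U being the same statement
for the open subscheme U: let X be a scheme and s a global section of O_X which is regular in the
sense that its germ at every point x is a non-zero-divisor of the local ring O_{X,x} (on an affine
scheme this is the same as being a non-zero-divisor of Γ(X, O_X), but not in general). Then the open
subset X_s where s is invertible is schematically dense in X. -/
theorem result (X : Scheme.{u}) (s : Γ(X, ⊤))
    (hs : ∀ x : ↥X, (X.presheaf.germ ⊤ x trivial s) ∈ nonZeroDivisors ↑(X.presheaf.stalk x)) :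
    CInt.IsSchematicallyDense (X.basicOpen s) := by
  exact Aux.main X s hs

end Groth.Agent.S3833
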