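import Groth.Statements.S3834
import Mathlib
import Groth.Prelude.Def_CInt
import Groth.Agent.S3833
-- import your own Groth.Agent.* helpers here

set_option autoImplicit false
universe u
open CategoryTheory CategoryTheory.Limits AlgebraicGeometry TopologicalSpace
open Rat20

namespace Groth.Agent.S3834

open CategoryTheory CategoryTheory.Limits AlgebraicGeometry TopologicalSpace
namespace Aux

open Groth.Agent.S3833.Aux in
/-- key lemma: a global function killed by all `t` with `X_t ≤ U` vanishes, if `U` is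
schematically dense and `X` is affine. -/
theorem key (X : Scheme.{u}) [IsAffine X] (U : X.Opens) (hU : CInt.IsSchematicallyDense U)
    (a : Γ(X, ⊤)) (h : ∀ t : Γ(X, ⊤), X.basicOpen t ≤ U → t * a = 0) : a = 0 := by
  have h0 : (X.presheaf.map (homOfLE (inf_le_left : ⊤ ⊓ U ≤ ⊤)).op).hom a = 0 := by
    apply eq_zero_of_germ
    intro x hx
    have hxU : x ∈ U := hx.2
    obtain ⟨t, htU, hxt⟩ := (isAffineOpen_top X).exists_basicOpen_le (V := U) ⟨x, hxU⟩ trivial
    have hta := h t htU
    have e1 : (X.presheaf.germ (⊤ ⊓ U) x hx).hom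
        ((X.presheaf.map (homOfLE (inf_le_left : ⊤ ⊓ U ≤ ⊤)).op).hom a) =
        X.presheaf.germ ⊤ x trivial a :=
      TopCat.Presheaf.germ_res_apply X.presheaf (homOfLE (inf_le_left : ⊤ ⊓ U ≤ ⊤)) x hx a
    rw [e1]
    have hu : IsUnit (X.presheaf.germ ⊤ x trivial t) := (X.mem_basicOpen_top t x).1 hxt
    have := congrArg (X.presheaf.germ ⊤ x trivial).hom hta
    rw [map_mul, map_zero] at this
    exact (hu.mul_right_eq_zero).1 this
  have := hU ⊤ (a₁ := a) (a₂ := 0) (by rw [h0, map_zero])
  exact this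

/-- the set of `t` with `X_t ≤ U` as an ideal -/
def idealOf (X : Scheme.{u}) (U : X.Opens) : Ideal Γ(X, ⊤) where
  carrier := {t | X.basicOpen t ≤ U}
  zero_mem' := by
    simp only [Set.mem_setOf_eq, Scheme.basicOpen_zero]
    exact bot_le
  add_mem' := by
    intro a b ha hb x hx
    have hu : IsUnit (X.presheaf.germ ⊤ x trivial (a + b)) := (X.mem_basicOpen_top _ x).1 hx
    rw [map_add] at hu
    rcases IsLocalRing.isUnit_or_isUnit_of_isUnit_add hu with h | h
    · exact ha ((X.mem_basicOpen_top _ x).2 h)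
    · exact hb ((X.mem_basicOpen_top _ x).2 h)
  smul_mem' := by
    intro c a ha
    simp only [Set.mem_setOf_eq, smul_eq_mul, Scheme.basicOpen_mul]
    exact inf_le_right.trans ha

theorem mem_idealOf {X : Scheme.{u}} {U : X.Opens} {t : Γ(X, ⊤)} :
    t ∈ idealOf X U ↔ X.basicOpen t ≤ U := Iff.rfl

theorem irredComp_image {α β : Type*} [TopologicalSpace α] [TopologicalSpace β] (e : α ≃ₜ β)
    (s : Set α) (hs : s ∈ irreducibleComponents α) : e '' s ∈ irreducibleComponents β := by
  refine ⟨hs.1.image e e.continuous.continuousOn, ?_⟩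
  intro t ht hst
  have h1 : IsIrreducible (e.symm '' t) := ht.image e.symm e.symm.continuous.continuousOn
  have h2 : s ≤ e.symm '' t := by
    intro x hx
    exact ⟨e x, hst ⟨x, hx, rfl⟩, by simp⟩
  have h3 := hs.2 h1 h2
  intro y hy
  have hmem : e.symm y ∈ s := h3 ⟨y, hy, rfl⟩
  exact ⟨e.symm y, hmem, by simp⟩

theorem minimalPrimes_finite (X : Scheme.{u}) [IsAffine X]
    (h : (irreducibleComponents ↥X).Finite) : (minimalPrimes Γ(X, ⊤)).Finite := by
  let e : ↥X ≃ₜ PrimeSpectrum Γ(X, ⊤) := X.isoSpec.hom.homeomorph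
  have h1 : (irreducibleComponents (PrimeSpectrum Γ(X, ⊤))).Finite := by
    refine (h.image (fun s => e '' s)).subset ?_
    intro t ht
    refine ⟨e.symm '' t, irredComp_image e.symm t ht, ?_⟩
    ext y
    simp only [Set.mem_image]
    constructor
    · rintro ⟨x, ⟨z, hz, rfl⟩, rfl⟩
      simpa using hz
    · intro hy
      exact ⟨e.symm y, ⟨y, hy, rfl⟩, by simp⟩
  rw [← PrimeSpectrum.vanishingIdeal_irreducibleComponents]
  exact h1.image _

theorem nzd_of_notMem_minimalPrimes {R : Type*} [CommRing R] [IsReduced R] (t : R)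
    (ht : ∀ P ∈ minimalPrimes R, t ∉ P) : t ∈ nonZeroDivisors R := by
  rw [mem_nonZeroDivisors_iff_right]
  intro b hb
  have : b ∈ nilradical R := by
    rw [nilradical, ← Ideal.sInf_minimalPrimes]
    rw [Ideal.mem_sInf]
    intro P hP
    have hPp : P.IsPrime := hP.1.1
    rcases hPp.mem_or_mem (show b * t ∈ P by rw [hb]; exact P.zero_mem) with h | h
    · exact h
    · exact absurd h (ht P hP)
  rwa [nilradical_eq_zero, Ideal.zero_eq_bot, Ideal.mem_bot] at this

open Groth.Agent.S3833.Aux in
theorem main (X : Scheme.{u}) [IsAffine X]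
    (hX : IsNoetherian X ∨ (IsReduced X ∧ (irreducibleComponents ↥X).Finite)) (U : X.Opens) :
    CInt.IsSchematicallyDense U ↔
      ∃ t : Γ(X, ⊤), t ∈ nonZeroDivisors Γ(X, ⊤) ∧ X.basicOpen t ≤ U := by
  classical
  constructor
  · intro hU
    by_contra hcon
    push_neg at hcon
    rcases hX with hN | ⟨hR, hfin⟩
    · haveI : IsNoetherianRing Γ(X, ⊤) :=
        IsLocallyNoetherian.component_noetherian ⟨⊤, isAffineOpen_top X⟩
      have hfinA := associatedPrimes.finite Γ(X, ⊤) Γ(X, ⊤)
      have hsub : (idealOf X U : Set Γ(X, ⊤)) ⊆ ⋃ p ∈ hfinA.toFinset, (p : Set Γ(X, ⊤)) := by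
        intro t ht
        have htn : t ∉ nonZeroDivisors Γ(X, ⊤) := fun h => hcon t h ht
        have : t ∈ ⋃ p ∈ associatedPrimes Γ(X, ⊤) Γ(X, ⊤), (p : Set Γ(X, ⊤)) := by
          rw [biUnion_associatedPrimes_eq_compl_nonZeroDivisors]
          exact htn
        simpa using this
      obtain ⟨P, hP, hle⟩ := (Ideal.subset_union_prime (R := Γ(X, ⊤)) (s := hfinA.toFinset)
        (f := fun p => p) ⊤ ⊤ (fun p hp _ _ => by
          have := (Set.Finite.mem_toFinset hfinA).1 hp
          exact this.isPrime)).1 hsub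
      have hPass : IsAssociatedPrime P Γ(X, ⊤) := (Set.Finite.mem_toFinset hfinA).1 hP
      have hPp := hPass.isPrime
      rw [isAssociatedPrime_iff] at hPass
      obtain ⟨-, a, ha⟩ := hPass
      have ha0 : a = 0 := key X U hU a (fun t ht => by
        have : t ∈ P := hle ht
        rw [ha, Submodule.mem_colon_singleton, Submodule.mem_bot] at this
        exact this)
      apply hPp.ne_top
      rw [ha, ha0, Ideal.eq_top_iff_one, Submodule.mem_colon_singleton]
      simp
    · haveI : IsReduced Γ(X, ⊤) := inferInstance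
      have hfinM := minimalPrimes_finite X hfin
      have hsub : (idealOf X U : Set Γ(X, ⊤)) ⊆ ⋃ p ∈ hfinM.toFinset, (p : Set Γ(X, ⊤)) := by
        intro t ht
        by_contra hnot
        apply hcon t ?_ ht
        apply nzd_of_notMem_minimalPrimes
        intro P hP htP
        apply hnot
        simp only [Set.Finite.mem_toFinset, Set.mem_iUnion, SetLike.mem_coe, exists_prop]
        exact ⟨P, hP, htP⟩
      obtain ⟨P, hP, hle⟩ := (Ideal.subset_union_prime (R := Γ(X, ⊤)) (s := hfinM.toFinset)
        (f := fun p => p) ⊤ ⊤ (fun p hp _ _ => by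
          have := (Set.Finite.mem_toFinset hfinM).1 hp
          exact this.1.1)).1 hsub
      have hPmin : P ∈ minimalPrimes Γ(X, ⊤) := (Set.Finite.mem_toFinset hfinM).1 hP
      have hPp : P.IsPrime := hPmin.1.1
      -- element in all other minimal primes but not in P
      have hex : ∃ a, a ∉ P ∧ ∀ Q ∈ minimalPrimes Γ(X, ⊤), Q ≠ P → a ∈ Q := by
        by_contra hno
        push_neg at hno
        have hinf : (hfinM.toFinset.erase P).inf (fun Q => Q) ≤ P := by
          intro a ha
          by_contra haP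
          obtain ⟨Q, hQ, hQP, haQ⟩ := hno a haP
          apply haQ
          have := (Finset.inf_le (f := fun Q : Ideal Γ(X, ⊤) => Q)
            (Finset.mem_erase.2 ⟨hQP, (Set.Finite.mem_toFinset hfinM).2 hQ⟩)) ha
          exact this
        obtain ⟨Q, hQ, hQP⟩ := (Ideal.IsPrime.inf_le' hPp).1 hinf
        rw [Finset.mem_erase] at hQ
        have hQmin : Q ∈ minimalPrimes Γ(X, ⊤) := (Set.Finite.mem_toFinset hfinM).1 hQ.2
        exact hQ.1 (le_antisymm hQP (hPmin.2 ⟨hQmin.1.1, bot_le⟩ hQP))
      obtain ⟨a, haP, haQ⟩ := hex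
      have ha0 : a = 0 := key X U hU a (fun t ht => by
        have htP : t ∈ P := hle ht
        have : t * a ∈ nilradical Γ(X, ⊤) := by
          rw [nilradical, ← Ideal.sInf_minimalPrimes, Ideal.mem_sInf]
          intro Q hQ
          by_cases hQP : Q = P
          · rw [hQP]; exact P.mul_mem_right _ htP
          · exact Q.mul_mem_left _ (haQ Q hQ hQP)
        rwa [nilradical_eq_zero, Ideal.zero_eq_bot, Ideal.mem_bot] at this)
      exact haP (ha0 ▸ P.zero_mem)
  · rintro ⟨t, htn, htU⟩
    refine mono_dense htU (Groth.Agent.S3833.Aux.main X t ?_)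
    intro x
    let x' : ((⊤ : X.Opens) : Type u) := ⟨x, Set.mem_univ x⟩
    letI := X.presheaf.algebra_section_stalk x'
    haveI := (isAffineOpen_top X).isLocalization_stalk x'
    exact IsLocalization.map_nonZeroDivisors_le
      ((isAffineOpen_top X).primeIdealOf x').asIdeal.primeCompl
      (X.presheaf.stalk x) ⟨t, htn, rfl⟩

end Aux

/-- Let X = Spec A be an affine scheme, with A Noetherian, or A reduced with finitely many minimal
primes. Then an open subset U of X is schematically dense if and only if it contains an open subset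
of the form X_t with t a regular element of A = Γ(X, O_X). -/
theorem result (X : Scheme.{u}) [IsAffine X]
    (hX : IsNoetherian X ∨ (IsReduced X ∧ (irreducibleComponents ↥X).Finite)) (U : X.Opens) :
    CInt.IsSchematicallyDense U ↔ ∃ t : Γ(X, ⊤), t ∈ nonZeroDivisors Γ(X, ⊤) ∧ X.basicOpen t ≤ U := by
  exact Aux.main X hX U

end Groth.Agent.S3834
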