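import Groth.Statements.S3842
import Mathlib
import Groth.Prelude.Def_CInt
-- import your own Groth.Agent.* helpers here

set_option autoImplicit false
universe u
open CategoryTheory CategoryTheory.Limits AlgebraicGeometry TopologicalSpace
open Rat20

namespace Groth.Agent.S3842

open CategoryTheory CategoryTheory.Limits AlgebraicGeometry TopologicalSpace
namespace Aux

/-- schematically dense opens are dense -/
theorem dense_of_schDense {X : Scheme.{u}} (V : X.Opens) (hV : CInt.IsSchematicallyDense V) :
    Dense (V : Set X) := by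
  rw [dense_iff_inter_open]
  intro O hO hne
  by_contra hcon
  rw [Set.not_nonempty_iff_eq_empty] at hcon
  let O' : X.Opens := ⟨O, hO⟩
  have hbot : O' ⊓ V = ⊥ := by
    ext x
    simp only [Opens.coe_inf, Opens.coe_bot]
    rw [← hcon]; rfl
  obtain ⟨x, hx⟩ := hne
  have hx' : x ∈ O' := hx
  have h1 : (1 : Γ(X, O')) = 0 := by
    apply hV O'
    have hsub : Subsingleton Γ(X, O' ⊓ V) := by
      rw [hbot]
      exact CommRingCat.subsingleton_of_isTerminal X.sheaf.isTerminalOfEmpty
    exact Subsingleton.elim _ _
  have h2 := congrArg (X.presheaf.germ O' x hx').hom h1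
  rw [map_one, map_zero] at h2
  exact one_ne_zero h2

/-- In a reduced scheme, topologically dense opens are schematically dense. -/
theorem schDense_of_dense {X : Scheme.{u}} [IsReduced X] (V : X.Opens) (hV : Dense (V : Set X)) :
    CInt.IsSchematicallyDense V := by
  intro W
  rw [injective_iff_map_eq_zero]
  intro b hb
  apply eq_zero_of_basicOpen_eq_bot
  by_contra hne
  have hne' : ((X.basicOpen b : X.Opens) : Set X).Nonempty := by
    rw [Set.nonempty_iff_ne_empty]
    intro h
    apply hne
    ext x
    simp [h]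
  obtain ⟨x, hxb, hxV⟩ := (dense_iff_inter_open.1 hV) _ (X.basicOpen b).isOpen hne'
  have hxW : x ∈ W := X.basicOpen_le b hxb
  have hu : IsUnit (X.presheaf.germ W x hxW b) := (X.mem_basicOpen b x hxW).1 hxb
  have e1 : (X.presheaf.germ (W ⊓ V) x ⟨hxW, hxV⟩).hom
      ((X.presheaf.map (homOfLE (inf_le_left : W ⊓ V ≤ W)).op).hom b) =
      X.presheaf.germ W x hxW b :=
    TopCat.Presheaf.germ_res_apply X.presheaf (homOfLE (inf_le_left : W ⊓ V ≤ W)) x ⟨hxW, hxV⟩ b
  rw [hb, map_zero] at e1
  rw [← e1] at hu
  exact not_isUnit_zero hu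

theorem main {X X' : Scheme.{u}} (f : X' ⟶ X) [IsReduced X']
    (hfin : ∀ x : ↥X, ∃ W : X.Opens, x ∈ W ∧
      {Z ∈ irreducibleComponents ↥X | (Z ∩ (W : Set ↥X)).Nonempty}.Finite)
    (hdom : ∀ Z' ∈ irreducibleComponents ↥X', closure (f '' Z') ∈ irreducibleComponents ↥X)
    (V : X.Opens) (hV : CInt.IsSchematicallyDense V) : CInt.IsSchematicallyDense (f ⁻¹ᵁ V) := by
  have hVd := dense_of_schDense V hV
  -- generic points of irreducible components of X lie in V
  have hgen : ∀ Z ∈ irreducibleComponents ↥X, ∀ ξ : X, IsGenericPoint ξ Z → ξ ∈ V := by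
    intro Z hZ ξ hξ
    obtain ⟨W, hξW, hWfin⟩ := hfin ξ
    set T : Set (Set X) := {Z'' ∈ irreducibleComponents ↥X | (Z'' ∩ (W : Set ↥X)).Nonempty} \ {Z}
      with hT
    have hTfin : T.Finite := hWfin.subset Set.sdiff_subset
    have hTclosed : IsClosed (⋃₀ T) := by
      rw [Set.sUnion_eq_biUnion]
      exact hTfin.isClosed_biUnion
        (fun Z'' hZ'' => isClosed_of_mem_irreducibleComponents Z'' hZ''.1.1)
    have hξT : ξ ∉ ⋃₀ T := by
      rintro ⟨Z'', hZ''T, hξZ''⟩
      apply hZ''T.2
      have hcl : IsClosed Z'' := isClosed_of_mem_irreducibleComponents Z'' hZ''T.1.1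
      have hsub : Z ⊆ Z'' := (hξ.mem_closed_set_iff hcl).1 hξZ''
      exact (Set.Subset.antisymm hsub (hZ.2 hZ''T.1.1.1 hsub)).symm
    have hO : IsOpen ((W : Set X) ∩ (⋃₀ T)ᶜ) := W.isOpen.inter hTclosed.isOpen_compl
    obtain ⟨z, ⟨hzW, hzT⟩, hzV⟩ := (dense_iff_inter_open.1 hVd) _ hO ⟨ξ, hξW, hξT⟩
    -- z lies in Z
    have hzZ : z ∈ Z := by
      have hz0 := irreducibleComponent_mem_irreducibleComponents z
      have hzmem : z ∈ irreducibleComponent z := mem_irreducibleComponent
      by_contra hzZ
      apply hzT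
      refine ⟨irreducibleComponent z, ⟨⟨hz0, ⟨z, hzmem, hzW⟩⟩, ?_⟩, hzmem⟩
      intro heq
      rw [Set.mem_singleton_iff] at heq
      exact hzZ (heq ▸ hzmem)
    exact (hξ.specializes hzZ).mem_open V.isOpen hzV
  -- the preimage is dense
  apply schDense_of_dense
  rw [dense_iff_inter_open]
  intro O' hO' ⟨x', hx'⟩
  have hZ' := irreducibleComponent_mem_irreducibleComponents x'
  have hx'Z : x' ∈ irreducibleComponent x' := mem_irreducibleComponent
  have hcl : IsClosed (irreducibleComponent x') := isClosed_irreducibleComponent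
  set η' := hZ'.1.genericPoint with hη'
  have hη'gen : IsGenericPoint η' (irreducibleComponent x') :=
    hZ'.1.isGenericPoint_genericPoint hcl
  refine ⟨η', (hη'gen.specializes hx'Z).mem_open hO' hx', ?_⟩
  have himg : IsGenericPoint (f η') (closure (f '' irreducibleComponent x')) :=
    hη'gen.image f.continuous
  exact hgen _ (hdom _ hZ') (f η') himg

end Aux

/-- For the open subset U = X; the general case is the same statement over the open subscheme U: let f :
X' → X be a morphism of schemes with X' reduced, suppose the irreducible components of X form a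
locally finite family and that every irreducible component of X' dominates an irreducible component
of X (the closure of its image is an irreducible component of X). Then for every schematically dense
open subset V of X, the preimage f⁻¹(V) is schematically dense in X'. -/
theorem result {X X' : Scheme.{u}} (f : X' ⟶ X) [IsReduced X']
    (hfin : ∀ x : ↥X, ∃ W : X.Opens, x ∈ W ∧ {Z ∈ irreducibleComponents ↥X | (Z ∩ (W : Set ↥X)).Nonempty}.Finite)
    (hdom : ∀ Z' ∈ irreducibleComponents ↥X', closure (f '' Z') ∈ irreducibleComponents ↥X)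
    (V : X.Opens) (hV : CInt.IsSchematicallyDense V) : CInt.IsSchematicallyDense (f ⁻¹ᵁ V) := by
  exact Aux.main f hfin hdom V hV

end Groth.Agent.S3842
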