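import Groth.Statements.S3844
import Mathlib
import Groth.Prelude.Def_CInt
import Groth.Agent.S3833
import Groth.Agent.S15806
-- import your own Groth.Agent.* helpers here

set_option autoImplicit false
universe u
open CategoryTheory CategoryTheory.Limits AlgebraicGeometry TopologicalSpace
open Rat20

namespace Groth.Agent.S3844

open CategoryTheory CategoryTheory.Limits AlgebraicGeometry TopologicalSpace IsLocalRing
namespace Aux

/-- flat modules over Noetherian rings: elements killed near every associated prime of `R`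
vanish. -/
theorem eq_zero_of_flat' {R : Type u} [CommRing R] [IsNoetherianRing R] {B : Type u}
    [AddCommGroup B] [Module R B] [Module.Flat R B] (d : B)
    (H : ∀ P ∈ associatedPrimes R R, ∃ t, t ∉ P ∧ t • d = 0) : d = 0 := by
  by_contra hd
  obtain ⟨P, hP, hle⟩ := exists_le_isAssociatedPrime_of_isNoetherianRing R d hd
  haveI := hP.isPrime
  rw [isAssociatedPrime_iff] at hP
  obtain ⟨-, y, hy⟩ := hP
  have hass := Groth.Agent.S15806.Aux.ass_of_flat P y (fun r => by
    rw [hy, Submodule.mem_colon_singleton, Submodule.mem_bot]) (Localization.AtPrime P)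
  have hPass : P ∈ associatedPrimes R R := by
    have := Module.associatedPrimes.comap_mem_associatedPrimes_of_mem_associatedPrimes_of_isLocalizedModule_of_fg
      P.primeCompl (Algebra.linearMap R (Localization.AtPrime P))
      (maximalIdeal (Localization.AtPrime P)) hass
      ((isNoetherianRing_iff_ideal_fg R).mp ‹_› _)
    have e : Ideal.comap (algebraMap R (Localization.AtPrime P))
        (maximalIdeal (Localization.AtPrime P)) = P := Localization.AtPrime.under_maximalIdeal
    rwa [e] at this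
  obtain ⟨t, htP, htd⟩ := H P hPass
  apply htP
  apply hle
  rw [Submodule.mem_colon_singleton, Submodule.mem_bot]
  exact htd

open Groth.Agent.S3833.Aux in
/-- associated points of affine opens lie in schematically dense opens -/
theorem mem_of_ass {X : Scheme.{u}} [IsLocallyNoetherian X] (V : X.Opens)
    (hV : CInt.IsSchematicallyDense V) (W : X.Opens) (hW : IsAffineOpen W)
    (P : Ideal Γ(X, W)) [hPp : P.IsPrime] (hP : P ∈ associatedPrimes Γ(X, W) Γ(X, W)) :
    hW.fromSpec ⟨P, hPp⟩ ∈ V := by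
  haveI : IsNoetherianRing Γ(X, W) := IsLocallyNoetherian.component_noetherian ⟨W, hW⟩
  by_contra hs
  have hPass : IsAssociatedPrime P Γ(X, W) := hP
  rw [isAssociatedPrime_iff] at hPass
  obtain ⟨-, a, ha⟩ := hPass
  have h0 : (X.presheaf.map (homOfLE (inf_le_left : W ⊓ V ≤ W)).op).hom a = 0 := by
    apply eq_zero_of_germ
    intro y hy
    obtain ⟨g, hgV, hyg⟩ := hW.exists_basicOpen_le (V := V) ⟨y, hy.2⟩ hy.1
    have hgP : g ∈ P := by
      by_contra hgP
      apply hs
      apply hgV
      have : (⟨P, hPp⟩ : PrimeSpectrum Γ(X, W)) ∈ hW.fromSpec ⁻¹ᵁ X.basicOpen g := by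
        rw [hW.fromSpec_preimage_basicOpen]
        exact hgP
      exact this
    have hga : g * a = 0 := by
      rw [ha, Submodule.mem_colon_singleton, Submodule.mem_bot] at hgP
      exact hgP
    have e1 : (X.presheaf.germ (W ⊓ V) y hy).hom
        ((X.presheaf.map (homOfLE (inf_le_left : W ⊓ V ≤ W)).op).hom a) =
        X.presheaf.germ W y hy.1 a :=
      TopCat.Presheaf.germ_res_apply X.presheaf (homOfLE (inf_le_left : W ⊓ V ≤ W)) y hy a
    rw [e1]
    have hu : IsUnit (X.presheaf.germ W y hy.1 g) := (X.mem_basicOpen g y hy.1).1 hyg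
    have := congrArg (X.presheaf.germ W y hy.1).hom hga
    rw [map_mul, map_zero] at this
    exact (hu.mul_right_eq_zero).1 this
  have ha0 : a = 0 := hV W (a₁ := a) (a₂ := 0) (by rw [h0, map_zero])
  apply hPp.ne_top
  rw [ha, ha0, Ideal.eq_top_iff_one, Submodule.mem_colon_singleton]
  simp

open Groth.Agent.S3833.Aux in
theorem main {X X' : Scheme.{u}} (f : X' ⟶ X) [Flat f]
    [IsLocallyNoetherian X] (V : X.Opens) (hV : CInt.IsSchematicallyDense V) :
    CInt.IsSchematicallyDense (f ⁻¹ᵁ V) := by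
  intro W'
  rw [injective_iff_map_eq_zero]
  intro b hb
  apply eq_zero_of_germ
  intro x' hx'
  -- affine opens
  obtain ⟨W, hW, hxW, -⟩ := Opens.isBasis_iff_nbhd.mp X.isBasis_affineOpens
    (show f x' ∈ (⊤ : X.Opens) from trivial)
  obtain ⟨W'', hW'', hxW'', hle⟩ := Opens.isBasis_iff_nbhd.mp X'.isBasis_affineOpens
    (show x' ∈ W' ⊓ f ⁻¹ᵁ W from ⟨hx', hxW⟩)
  have hle1 : W'' ≤ W' := hle.trans inf_le_left
  have e : W'' ≤ f ⁻¹ᵁ W := hle.trans inf_le_right
  haveI : IsNoetherianRing Γ(X, W) := IsLocallyNoetherian.component_noetherian ⟨W, hW⟩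
  letI alg : Algebra Γ(X, W) Γ(X', W'') := (f.appLE W W'' e).hom.toAlgebra
  haveI hflat : Module.Flat Γ(X, W) Γ(X', W'') :=
    HasRingHomProperty.appLE @Flat f inferInstance ⟨W, hW⟩ ⟨W'', hW''⟩ e
  set b'' := (X'.presheaf.map (homOfLE hle1).op).hom b with hb''
  have hb0 : b'' = 0 := by
    apply eq_zero_of_flat' (R := Γ(X, W))
    intro P hP
    haveI hPp : P.IsPrime := hP.isPrime
    have hsV := mem_of_ass V hV W hW P hP
    have hsW : hW.fromSpec ⟨P, hPp⟩ ∈ W := (hW.isoSpec.inv _).2
    obtain ⟨r, hrV, hsr⟩ := hW.exists_basicOpen_le (V := V) ⟨_, hsV⟩ hsW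
    have hrP : r ∉ P := by
      have : (⟨P, hPp⟩ : PrimeSpectrum Γ(X, W)) ∈ hW.fromSpec ⁻¹ᵁ X.basicOpen r := hsr
      rw [hW.fromSpec_preimage_basicOpen] at this
      exact this
    have hres : (X'.presheaf.map (homOfLE (X'.basicOpen_le ((f.appLE W W'' e).hom r))).op).hom b''
        = 0 := by
      have hle2 : X'.basicOpen ((f.appLE W W'' e).hom r) ≤ W' ⊓ f ⁻¹ᵁ V := by
        rw [Scheme.basicOpen_appLE]
        exact inf_le_inf hle1 (fun z hz => hrV hz)
      have e2 : (homOfLE hle1).op ≫ (homOfLE (X'.basicOpen_le ((f.appLE W W'' e).hom r))).op =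
          (homOfLE (inf_le_left : W' ⊓ f ⁻¹ᵁ V ≤ W')).op ≫ (homOfLE hle2).op := rfl
      rw [hb'', ← CommRingCat.comp_apply, ← Functor.map_comp, e2, Functor.map_comp,
        CommRingCat.comp_apply, hb, map_zero]
    obtain ⟨n, hn⟩ := exists_pow_mul_eq_zero_of_res_basicOpen_eq_zero_of_isAffineOpen X' hW'' b''
      ((f.appLE W W'' e).hom r) hres
    refine ⟨r ^ n, fun hmem => hrP (hPp.mem_of_pow_mem n hmem), ?_⟩
    rw [Algebra.smul_def, RingHom.algebraMap_toAlgebra, map_pow]
    exact hn
  have e1 : (X'.presheaf.germ W'' x' hxW'').hom b'' = X'.presheaf.germ W' x' hx' b :=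
    TopCat.Presheaf.germ_res_apply X'.presheaf (homOfLE hle1) x' hxW'' b
  rw [← e1, hb0, map_zero]

end Aux

/-- For the open subset U = X: let f : X' → X be flat with X locally Noetherian. Then for every
schematically dense open subset V of X, the preimage f⁻¹(V) is schematically dense in X'. -/
theorem result {X X' : Scheme.{u}} (f : X' ⟶ X) [Flat f]
    [IsLocallyNoetherian X] (V : X.Opens) (hV : CInt.IsSchematicallyDense V) :
    CInt.IsSchematicallyDense (f ⁻¹ᵁ V) := by
  exact Aux.main f V hV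

end Groth.Agent.S3844
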