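import Groth.Statements.S3850
import Groth.Agent.Lib.Helper8.EK13

set_option autoImplicit false
universe u
open EGA418

namespace Groth.Agent.S3850

/-- b) iff c), in the case n = dim A: let k be a field, A a complete Noetherian local k-algebra whose
residue field is finite over k, of dimension n, p a non-maximal prime ideal of A contained in an
irreducible component of dimension n (there is a minimal prime q ⊆ p with dim A/q = n), and Ω̂ the
completion of the module of differentials of A over k for the topology of the maximal ideal. Then
Ω̂_p is a free A_p-module of rank n if and only if there is a local k-algebra map u : k[[T_1, …,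
T_n]] → A making A a finite algebra over the power series ring and étale over it at p. -/
theorem result (k A : Type u) [Field k] [CommRing A]
    [IsLocalRing A] [IsNoetherianRing A] [Algebra k A] [IsAdicComplete (IsLocalRing.maximalIdeal A) A]
    [Module.Finite k (IsLocalRing.ResidueField A)] (n : ℕ) (hn : ringKrullDim A = n)
    (p : Ideal A) [p.IsPrime] (hp : p ≠ IsLocalRing.maximalIdeal A)
    (hq : ∃ q ∈ minimalPrimes A, q ≤ p ∧ ringKrullDim (A ⧸ q) = n) :
    (Module.Free (Localization.AtPrime p)
        (LocalizedModule p.primeCompl (AdicCompletion (IsLocalRing.maximalIdeal A) (KaehlerDifferential k A))) ∧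
      Module.finrank (Localization.AtPrime p)
        (LocalizedModule p.primeCompl (AdicCompletion (IsLocalRing.maximalIdeal A) (KaehlerDifferential k A))) = n) ↔
      ∃ (_ : Algebra (MvPowerSeries (Fin n) k) A) (_ : IsScalarTower k (MvPowerSeries (Fin n) k) A),
        IsLocalHom (algebraMap (MvPowerSeries (Fin n) k) A) ∧ Module.Finite (MvPowerSeries (Fin n) k) A ∧
          Algebra.IsEtaleAt (MvPowerSeries (Fin n) k) p := by
  constructor
  · rintro ⟨hfree, hrank⟩
    have hgen : Groth.Agent.Helper8.EK.GenAt p (Groth.Agent.Helper8.EK.Ωh k A) n := by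
      rw [Groth.Agent.Helper8.EK.genAt_iff_span_localizedModule]
      haveI := hfree
      haveI : Module.Finite (Localization.AtPrime p)
          (LocalizedModule p.primeCompl (Groth.Agent.Helper8.EK.Ωh k A)) :=
        Module.Finite.of_isLocalizedModule p.primeCompl
          (LocalizedModule.mkLinearMap p.primeCompl (Groth.Agent.Helper8.EK.Ωh k A))
      let b := Module.finBasis (Localization.AtPrime p)
        (LocalizedModule p.primeCompl (Groth.Agent.Helper8.EK.Ωh k A))
      refine ⟨fun i => b (Fin.cast hrank.symm i), ?_⟩
      rw [eq_top_iff, ← b.span_eq]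
      refine Submodule.span_mono ?_
      rintro _ ⟨i, rfl⟩
      exact ⟨Fin.cast hrank i, by simp⟩
    exact (Groth.Agent.Helper8.EK.free_geomRegular_etale_of_genAt k A n hn p hp hq hgen).2.2
  · rintro ⟨alg, tower, hloc, hfin, het⟩
    have hgen : Groth.Agent.Helper8.EK.GenAt p (Groth.Agent.Helper8.EK.Ωh k A) n := by
      have hq' : ∃ q ∈ minimalPrimes A, q ≤ p ∧ ringKrullDim (A ⧸ q) = ringKrullDim A := by
        obtain ⟨q, h1, h2, h3⟩ := hq
        exact ⟨q, h1, h2, h3.trans hn.symm⟩
      refine (Groth.Agent.Helper8.EK.genAt_iff_exists_unramified k A p hp hq' n).mpr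
        ⟨alg, tower, hloc, hfin, ?_⟩
      letI := alg
      haveI := het
      show Algebra.FormallyUnramified _ _
      infer_instance
    exact (Groth.Agent.Helper8.EK.free_geomRegular_etale_of_genAt k A n hn p hp hq hgen).1

end Groth.Agent.S3850
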