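import Groth.Statements.S3851
import Groth.Agent.Lib.Helper8.CT17

set_option autoImplicit false
universe u
open scoped TensorProduct
open EGA418


namespace Groth.Agent.S3851

/-- a) iff a') iff b), and b) implies d): let k be a field, A a complete Noetherian local k-algebra
whose residue field is finite over k, p a non-maximal prime of A, n the largest dimension of an
irreducible component of Spec A containing p, and Ω̂ the completion of the module of differentials
of A over k for the topology of the maximal ideal. For a field extension k' of k write A' = A ⊗̂_k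
k' (the completion of A ⊗_k k' for the extension of the maximal ideal). The following are
equivalent: (a) for every extension k' and every prime p' of A' over p, A'_{p'} is regular; (a') for
some perfect extension k' and some prime p' of A' over p, A'_{p'} is regular; (b) Ω̂_p is a free
A_p-module of rank n. Moreover (b) implies (d): A_p is geometrically regular over k. (The converse
of the last implication, valid when [k : k^p] is finite, is not stated.) -/
theorem result (k A : Type u) [Field k] [CommRing A]
    [IsLocalRing A] [IsNoetherianRing A] [Algebra k A] [IsAdicComplete (IsLocalRing.maximalIdeal A) A]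
    [Module.Finite k (IsLocalRing.ResidueField A)] (p : Ideal A) [p.IsPrime] (hp : p ≠ IsLocalRing.maximalIdeal A)
    (n : ℕ) (hn₁ : ∀ q ∈ minimalPrimes A, q ≤ p → ringKrullDim (A ⧸ q) ≤ n)
    (hn₂ : ∃ q ∈ minimalPrimes A, q ≤ p ∧ ringKrullDim (A ⧸ q) = n) :
    List.TFAE [
      ∀ (k' : Type u) [Field k'] [Algebra k k']
        (p' : Ideal (AdicCompletion ((IsLocalRing.maximalIdeal A).map
          (Algebra.TensorProduct.includeLeft : A →ₐ[k] A ⊗[k] k')) (A ⊗[k] k'))) [p'.IsPrime],
        (p'.comap (algebraMap (A ⊗[k] k') _)).comap
            (Algebra.TensorProduct.includeLeft : A →ₐ[k] A ⊗[k] k').toRingHom = p →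
          IsRegularLocalRing (Localization.AtPrime p'),
      ∃ (k' : Type u) (_ : Field k') (_ : Algebra k k') (_ : PerfectField k')
        (p' : Ideal (AdicCompletion ((IsLocalRing.maximalIdeal A).map
          (Algebra.TensorProduct.includeLeft : A →ₐ[k] A ⊗[k] k')) (A ⊗[k] k'))) (_ : p'.IsPrime),
        (p'.comap (algebraMap (A ⊗[k] k') _)).comap
            (Algebra.TensorProduct.includeLeft : A →ₐ[k] A ⊗[k] k').toRingHom = p ∧
          IsRegularLocalRing (Localization.AtPrime p'),
      Module.Free (Localization.AtPrime p)
          (LocalizedModule p.primeCompl (AdicCompletion (IsLocalRing.maximalIdeal A) (KaehlerDifferential k A))) ∧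
        Module.finrank (Localization.AtPrime p)
          (LocalizedModule p.primeCompl (AdicCompletion (IsLocalRing.maximalIdeal A) (KaehlerDifferential k A))) = n] ∧
    ((Module.Free (Localization.AtPrime p)
          (LocalizedModule p.primeCompl (AdicCompletion (IsLocalRing.maximalIdeal A) (KaehlerDifferential k A))) ∧
        Module.finrank (Localization.AtPrime p)
          (LocalizedModule p.primeCompl (AdicCompletion (IsLocalRing.maximalIdeal A) (KaehlerDifferential k A))) = n) →
      CAlg.IsGeometricallyRegular k (Localization.AtPrime p)) := by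
  have hbd : (Module.Free (Localization.AtPrime p)
          (LocalizedModule p.primeCompl (AdicCompletion (IsLocalRing.maximalIdeal A) (KaehlerDifferential k A))) ∧
        Module.finrank (Localization.AtPrime p)
          (LocalizedModule p.primeCompl (AdicCompletion (IsLocalRing.maximalIdeal A) (KaehlerDifferential k A))) = n) →
      Groth.Agent.Helper8.EK.GenAt p (Groth.Agent.Helper8.EK.Ωh k A) n :=
    Groth.Agent.Helper8.CT17.genAt_of_free k A p n
  refine ⟨?_, fun hb => ?_⟩
  · tfae_have 3 → 1 := by
      intro hb k' _ _ p' _ hp'
      exact Groth.Agent.Helper8.CT17.regular_of_genAt k A p k' hp n hn₁ hn₂ (hbd hb) _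
        (Groth.Agent.Helper8.CT17.ideal_eq k A k') p' hp'
    tfae_have 1 → 2 := by
      intro ha
      obtain ⟨p', hp'prime, hp'⟩ := Groth.Agent.Helper8.CT17.exists_prime k A p (AlgebraicClosure k) _
        (Groth.Agent.Helper8.CT17.ideal_eq k A (AlgebraicClosure k))
      haveI := hp'prime
      exact ⟨AlgebraicClosure k, inferInstance, inferInstance, inferInstance, p', hp'prime, hp',
        ha (AlgebraicClosure k) p' hp'⟩
    tfae_have 2 → 3 := by
      rintro ⟨k', hk', halg, hperf, p', hp'prime, hp', hreg⟩
      have hgen := Groth.Agent.Helper8.CT17.genAt_of_regular k A p k' n hn₁ hn₂ _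
        (Groth.Agent.Helper8.CT17.ideal_eq k A k') p' hp' hreg
      exact (Groth.Agent.Helper8.CT.free_geomRegular_of_genAt_local k A p hp n hn₁ hn₂ hgen).1
    tfae_finish
  · exact (Groth.Agent.Helper8.CT.free_geomRegular_of_genAt_local k A p hp n hn₁ hn₂ (hbd hb)).2.1

end Groth.Agent.S3851
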