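import Groth.Statements.S3852
import Mathlib
-- import your own Groth.Agent.* helpers here

set_option autoImplicit false
universe u
open FCompl

namespace Groth.Agent.S3852

open AlgebraicGeometry
namespace Aux

theorem local_step (X : Scheme.{u}) [IsLocallyNoetherian X] (I J : X.IdealSheafData)
    (h : (J.support : Set X) ⊆ I.support) (U : X.affineOpens) :
    ∃ n : ℕ, (I.ideal U) ^ n ≤ J.ideal U := by
  have hN : IsNoetherianRing Γ(X, U.1) := IsLocallyNoetherian.component_noetherian U
  have hU : IsAffineOpen U.1 := U.2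
  have h1 : PrimeSpectrum.zeroLocus (J.ideal U : Set Γ(X, U.1)) ⊆
      PrimeSpectrum.zeroLocus (I.ideal U : Set Γ(X, U.1)) := by
    intro p hp
    have hp' : hU.fromSpec p ∈ X.zeroLocus (U := U.1) (J.ideal U) ∩ U.1 := by
      rw [← hU.fromSpec_image_zeroLocus]; exact ⟨p, hp, rfl⟩
    rw [← J.coe_support_inter U] at hp'
    have hp'' : hU.fromSpec p ∈ (I.support : Set X) ∩ U.1 := ⟨h hp'.1, hp'.2⟩
    rw [I.coe_support_inter U, ← hU.fromSpec_image_zeroLocus] at hp''
    obtain ⟨q, hq, hqp⟩ := hp''
    have : q = p := hU.fromSpec.isOpenEmbedding.injective hqp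
    exact this ▸ hq
  have h2 : I.ideal U ≤ (J.ideal U).radical := by
    rw [← PrimeSpectrum.vanishingIdeal_zeroLocus_eq_radical]
    intro x hx
    rw [PrimeSpectrum.mem_vanishingIdeal]
    intro p hp
    exact (h1 hp) hx
  exact Ideal.exists_pow_le_of_le_radical_of_fg h2 (IsNoetherian.noetherian _)

theorem main (X : Scheme.{u}) [IsNoetherian X] (I J : X.IdealSheafData)
    (h : (J.support : Set X) ⊆ I.support) :
    ∃ n : ℕ, I ^ (n + 1) ≤ J := by
  obtain ⟨s, hsfin, hs⟩ := (isCompact_iff_finite_and_eq_biUnion_affineOpens (X := X)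
    (U := ⊤)).1 CompactSpace.isCompact_univ
  choose n hn using local_step X I J h
  have hfin : Finite s := hsfin
  obtain ⟨N, hN⟩ : ∃ N : ℕ, ∀ U ∈ s, n U ≤ N := by
    obtain ⟨N, hN⟩ := (hsfin.image n).bddAbove
    exact ⟨N, fun U hU => hN ⟨U, hU, rfl⟩⟩
  refine ⟨N, ?_⟩
  refine Scheme.IdealSheafData.le_of_iSup_eq_top (fun U : s => U.1) ?_ ?_
  · rw [hs, iSup_subtype]
  · rintro ⟨U, hU⟩
    simp only [Scheme.IdealSheafData.ideal_pow, Pi.pow_apply]
    exact (Ideal.pow_le_pow_right ((hN U hU).trans (Nat.le_succ N))).trans (hn U)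

end Aux

open AlgebraicGeometry in
/-- Second assertion; stated for quasi-coherent ideal sheaves, with the condition on supports as an
inclusion, which is what the proof uses: Let X be a Noetherian scheme and I, J ideal sheaves such
that the zero locus of J is contained in the zero locus of I. Then I^n ≤ J for some n ≥ 1. -/
theorem result
    (X : Scheme.{u}) [IsNoetherian X] (I J : X.IdealSheafData)
    (h : (J.support : Set X) ⊆ I.support) :
    ∃ n : ℕ, I ^ (n + 1) ≤ J := by
  exact Aux.main X I J h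

end Groth.Agent.S3852
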