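import Groth.Statements.S3863
import Mathlib
import Groth.Statements.S3863
import Groth.Agent.Lib.Helper4.FFAlg1
import Groth.Agent.Lib.Helper9.FE.FCKer
-- import your own Groth.Agent.* helpers here

set_option autoImplicit false
universe u
open FCompl

namespace Groth.Agent.S3863

open CategoryTheory AlgebraicGeometry
namespace Aux
set_option backward.isDefEq.respectTransparency false
set_option linter.style.haveILetI false
open Scheme.Modules H9FE.FC

section Main
variable (A : Type u) [CommRing A] (J : Ideal A)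

noncomputable abbrev ii (n : ℕ) :
    (FSch.completionAlong (Spec (CommRingCat.of A)) (FSch.idealSpec A J)).X n ⟶
      Spec (CommRingCat.of A) :=
  FSch.completionToX (Spec (CommRingCat.of A)) (FSch.idealSpec A J) n

noncomputable abbrev tt (n : ℕ) :
    (FSch.completionAlong (Spec (CommRingCat.of A)) (FSch.idealSpec A J)).X n ⟶
      (FSch.completionAlong (Spec (CommRingCat.of A)) (FSch.idealSpec A J)).X (n + 1) :=
  (FSch.completionAlong (Spec (CommRingCat.of A)) (FSch.idealSpec A J)).ι n

theorem tt_ii (n : ℕ) : tt A J n ≫ ii A J (n + 1) = ii A J n :=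
  Scheme.IdealSheafData.inclusion_subschemeι (FSch.pow_succ_le _ _ n)

instance isClosedImmersion_ii (n : ℕ) : IsClosedImmersion (ii A J n) :=
  inferInstanceAs (IsClosedImmersion ((FSch.idealSpec A J) ^ (n + 1)).subschemeι)

instance isAffine_level (n : ℕ) :
    IsAffine ((FSch.completionAlong (Spec (CommRingCat.of A)) (FSch.idealSpec A J)).X n) :=
  isAffine_of_isAffineHom (ii A J n)

theorem phi_surj (n : ℕ) :
    Function.Surjective ((ii A J n).appLE ⊤ ((ii A J n) ⁻¹ᵁ ⊤) le_rfl).hom := by
  rw [Scheme.Hom.appLE_eq_app]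
  intro y
  obtain ⟨x, hx⟩ := ((FSch.idealSpec A J) ^ (n + 1)).subschemeι_app_surjective
    ⟨⊤, isAffineOpen_top _⟩ y
  exact ⟨x, hx⟩

theorem phi_ker (n : ℕ) :
    RingHom.ker ((ii A J n).appLE ⊤ ((ii A J n) ⁻¹ᵁ ⊤) le_rfl).hom =
      ((FSch.idealSpec A J).ideal ⟨⊤, isAffineOpen_top _⟩) ^ (n + 1) := by
  rw [Scheme.Hom.appLE_eq_app]
  exact ((FSch.idealSpec A J) ^ (n + 1)).ker_subschemeι_app ⟨⊤, isAffineOpen_top _⟩

theorem ideal_top : (FSch.idealSpec A J).ideal ⟨⊤, isAffineOpen_top _⟩ =
    Ideal.comap (Scheme.ΓSpecIso (CommRingCat.of A)).hom.hom J := by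
  haveI : IsClosedImmersion (Spec.map (CommRingCat.ofHom (Ideal.Quotient.mk J))) :=
    IsClosedImmersion.spec_of_surjective _ Ideal.Quotient.mk_surjective
  unfold FSch.idealSpec
  rw [Scheme.Hom.ker_apply]
  ext b
  rw [RingHom.mem_ker, Ideal.mem_comap]
  have hnat := Scheme.ΓSpecIso_naturality (CommRingCat.ofHom (Ideal.Quotient.mk J))
  have h1 := congrArg (fun g => g.hom b) hnat
  simp only [CommRingCat.hom_comp, RingHom.comp_apply, CommRingCat.hom_ofHom] at h1
  rw [← Ideal.Quotient.eq_zero_iff_mem, ← h1]
  have hinj : Function.Injective (Scheme.ΓSpecIso (CommRingCat.of (A ⧸ J))).hom.hom :=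
    (ConcreteCategory.bijective_of_isIso (Scheme.ΓSpecIso (CommRingCat.of (A ⧸ J))).hom).1
  constructor
  · intro hb
    have hb' : (Spec.map (CommRingCat.ofHom (Ideal.Quotient.mk J))).appTop.hom b = 0 := hb
    rw [hb', map_zero]
  · intro hb
    have hb' : (Spec.map (CommRingCat.ofHom (Ideal.Quotient.mk J))).appTop.hom b = 0 :=
      hinj (by rw [hb, map_zero])
    exact hb'

theorem ker_comp (n : ℕ) :
    RingHom.ker (((ii A J n).appLE ⊤ ((ii A J n) ⁻¹ᵁ ⊤) le_rfl).hom.comp
      (Scheme.ΓSpecIso (CommRingCat.of A)).inv.hom) = J ^ (n + 1) := by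
  have hbij : Function.Bijective (Scheme.ΓSpecIso (CommRingCat.of A)).hom.hom :=
    ConcreteCategory.bijective_of_isIso (Scheme.ΓSpecIso (CommRingCat.of A)).hom
  ext a
  rw [RingHom.mem_ker, RingHom.comp_apply, ← RingHom.mem_ker, phi_ker, ideal_top,
    mem_comap_pow _ hbij]
  have h1 : (Scheme.ΓSpecIso (CommRingCat.of A)).hom.hom
      ((Scheme.ΓSpecIso (CommRingCat.of A)).inv.hom a) = a := by
    have := congrArg (fun g => g.hom a) (Scheme.ΓSpecIso (CommRingCat.of A)).inv_hom_id
    simpa using this
  rw [h1]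

set_option maxHeartbeats 2000000 in

theorem hks [IsNoetherianRing A] [IsAdicComplete J A] (N : ModuleCat.{u} (CommRingCat.of A))
    [Module.Finite A N] (n : ℕ) :
    Function.Surjective (pp (ii A J n) N) ∧ ∀ x : N, pp (ii A J n) N x = 0 ↔
      x ∈ (J ^ (n + 1) • ⊤ : Submodule A N) := by
  have h := pp_ker_surj (ii A J n) N (phi_surj A J n)
  rw [ker_comp] at h
  exact h

theorem inj_aux [IsNoetherianRing A] [IsAdicComplete J A] (M N : ModuleCat.{u} (CommRingCat.of A))
    [Module.Finite A N] (u v : M ⟶ N)
    (huv : ∀ n, (pullback (ii A J n)).map ((tilde.functor (CommRingCat.of A)).map u) =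
      (pullback (ii A J n)).map ((tilde.functor (CommRingCat.of A)).map v)) : u = v := by
  haveI : IsAdicComplete J N := Groth.Agent.Lib.Helper4.FFAlg1.isAdicComplete_of_finite J
  exact tower_inj (R := CommRingCat.of A) J
    (FSch.completionAlong (Spec (CommRingCat.of A)) (FSch.idealSpec A J)).X (ii A J) M N
    (fun n => (hks A J N n).2) u v huv

theorem surj_aux [IsNoetherianRing A] [IsAdicComplete J A] (M N : ModuleCat.{u} (CommRingCat.of A))
    [Module.Finite A N]
    (φ : ∀ n, (pullback (ii A J n)).obj ((tilde.functor (CommRingCat.of A)).obj M) ⟶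
      (pullback (ii A J n)).obj ((tilde.functor (CommRingCat.of A)).obj N))
    (hφ : ∀ n, (pullback (tt A J n)).map (φ (n + 1)) ≫
        (eps (tt A J n) (ii A J (n + 1)) (ii A J n) (tt_ii A J n)).hom.app
          ((tilde.functor (CommRingCat.of A)).obj N) =
      (eps (tt A J n) (ii A J (n + 1)) (ii A J n) (tt_ii A J n)).hom.app
          ((tilde.functor (CommRingCat.of A)).obj M) ≫ φ n) :
    ∃ u : M ⟶ N, ∀ n, (pullback (ii A J n)).map ((tilde.functor (CommRingCat.of A)).map u) = φ n := by
  haveI : IsAdicComplete J N := Groth.Agent.Lib.Helper4.FFAlg1.isAdicComplete_of_finite J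
  exact tower_surj (R := CommRingCat.of A) J
      (FSch.completionAlong (Spec (CommRingCat.of A)) (FSch.idealSpec A J)).X
      (ii A J) (tt A J) (tt_ii A J) M N (fun n => (hks A J N n).1) (fun n => (hks A J N n).2) φ hφ

theorem test_inj (M N : ModuleCat.{u} (CommRingCat.of A)) (u v : M ⟶ N) (n : ℕ)
    (huv' : FSch.complModMap (FSch.idealSpec A J) ((tilde.functor (CommRingCat.of A)).map u) =
        FSch.complModMap (FSch.idealSpec A J) ((tilde.functor (CommRingCat.of A)).map v)) :
    (pullback (ii A J n)).map ((tilde.functor (CommRingCat.of A)).map u) =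
      (pullback (ii A J n)).map ((tilde.functor (CommRingCat.of A)).map v) := by
  have e1 := FSch.complModMap_app (FSch.idealSpec A J) ((tilde.functor (CommRingCat.of A)).map u) n
  have e2 := FSch.complModMap_app (FSch.idealSpec A J) ((tilde.functor (CommRingCat.of A)).map v) n
  rw [huv'] at e1
  exact e1.symm.trans e2

theorem eps_eq (n : ℕ) : FSch.complTransIso (FSch.idealSpec A J) n =
    eps (tt A J n) (ii A J (n + 1)) (ii A J n) (tt_ii A J n) := rfl

theorem comm_aux (M N : ModuleCat.{u} (CommRingCat.of A))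
    (Φ : FSch.complMod (FSch.idealSpec A J) ((tilde.functor (CommRingCat.of A)).obj M) ⟶
      FSch.complMod (FSch.idealSpec A J) ((tilde.functor (CommRingCat.of A)).obj N)) (n : ℕ) :
    (pullback (tt A J n)).map (Φ.app (n + 1)) ≫
        (eps (tt A J n) (ii A J (n + 1)) (ii A J n) (tt_ii A J n)).hom.app
          ((tilde.functor (CommRingCat.of A)).obj N) =
      (eps (tt A J n) (ii A J (n + 1)) (ii A J n) (tt_ii A J n)).hom.app
          ((tilde.functor (CommRingCat.of A)).obj M) ≫ Φ.app n := by
  have h := Φ.comm n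
  rw [FSch.complMod_e, FSch.complMod_e, Iso.app_hom, Iso.app_hom, eps_eq A J n] at h
  exact h

theorem main [IsNoetherianRing A] [IsAdicComplete J A] (M N : ModuleCat.{u} A)
    [Module.Finite A M] [Module.Finite A N] :
    Function.Bijective (fun u : M ⟶ N ↦
      FSch.complModMap (FSch.idealSpec A J) ((tilde.functor (CommRingCat.of A)).map u)) := by
  constructor
  · intro u v huv
    exact inj_aux A J M N u v (fun n => test_inj A J M N u v n huv)
  · intro Φ
    obtain ⟨u, hu⟩ := surj_aux A J M N (fun n => Φ.app n) (comm_aux A J M N Φ)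
    refine ⟨u, ?_⟩
    apply FSch.ModSys.Hom.ext
    funext n
    exact hu n

end Main

end Aux

open AlgebraicGeometry in
open CategoryTheory in
/-- The formal spectrum of A is presented as the system of closed subschemes of Spec A cut out by the
powers of J, and for an A-module M the system of modules M^Δ is the family of pullbacks of the sheaf
M̃ associated to M to these subschemes, with its canonical transition isomorphisms. Let A be a
Noetherian ring, complete and separated for the J-adic topology, and M, N finite A-modules. Then u ↦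
u^Δ is a bijection from Hom_A(M, N) onto the set of morphisms of systems of modules M^Δ → N^Δ. -/
theorem result (A : Type u) [CommRing A] [IsNoetherianRing A]
    (J : Ideal A) [IsAdicComplete J A] (M N : ModuleCat.{u} A) [Module.Finite A M] [Module.Finite A N] :
    Function.Bijective (fun u : M ⟶ N ↦
      FSch.complModMap (FSch.idealSpec A J) ((tilde.functor (CommRingCat.of A)).map u)) := by
  exact Aux.main A J M N

end Groth.Agent.S3863
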