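import Groth.Statements.S3864
import Mathlib
import Groth.Statements.S3864
import Groth.Agent.Lib.Lead.PBQc
import Groth.Agent.Lib.Helper9.FE.FCSpf
import Groth.Agent.Lib.Helper9.FE.FCIso
-- import your own Groth.Agent.* helpers here

set_option autoImplicit false
universe u
open FCompl

namespace Groth.Agent.S3864

open CategoryTheory AlgebraicGeometry
namespace Aux
set_option backward.isDefEq.respectTransparency false
set_option linter.style.haveILetI false
open Scheme.Modules H9FE.FC

theorem qc_pullback_tilde {R : CommRingCat.{u}} {Z : Scheme.{u}} (i : Z ⟶ Spec R)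
    (L : ModuleCat.{u} R) : ((pullback i).obj ((tilde.functor R).obj L)).IsQuasicoherent := by
  have hqL : ((tilde.functor R).obj L).IsQuasicoherent := inferInstance
  exact @Groth.Agent.Lead.PB.isQuasicoherent_pullback _ _ i ((tilde.functor R).obj L) hqL

section Main
variable (A : Type u) [CommRing A] (J : Ideal A)

theorem psi_surj (n : ℕ) :
    Function.Surjective ((tt A J n).appLE ((ii A J (n + 1)) ⁻¹ᵁ ⊤) ((ii A J n) ⁻¹ᵁ ⊤)
      (le_pre (tt A J n) (ii A J (n + 1)) (ii A J n) (tt_ii A J n))).hom := by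
  have hf := app_factor (tt A J n) (ii A J (n + 1)) (ii A J n) (tt_ii A J n)
  have hs := ii_app_surj A J n
  rw [hf] at hs
  intro y
  obtain ⟨x, hx⟩ := hs y
  exact ⟨((ii A J (n + 1)).app ⊤).hom x, hx⟩

theorem ker_psi (n : ℕ) :
    RingHom.ker (((tt A J n).appLE ((ii A J (n + 1)) ⁻¹ᵁ ⊤) ((ii A J n) ⁻¹ᵁ ⊤)
      (le_pre (tt A J n) (ii A J (n + 1)) (ii A J n) (tt_ii A J n))).hom.comp
      (((ii A J (n + 1)).app ⊤).hom.comp (Scheme.ΓSpecIso (CommRingCat.of A)).inv.hom)) =
      J ^ (n + 1) := by
  have hf := app_factor (tt A J n) (ii A J (n + 1)) (ii A J n) (tt_ii A J n)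
  rw [← ker_comp' A J n]
  ext a
  rw [RingHom.mem_ker, RingHom.mem_ker, RingHom.comp_apply, RingHom.comp_apply,
    RingHom.comp_apply]
  have h1 := congrArg (fun g => g.hom ((Scheme.ΓSpecIso (CommRingCat.of A)).inv.hom a)) hf
  simp only [CommRingCat.hom_comp, RingHom.comp_apply] at h1
  rw [h1]

theorem eps_eq (n : ℕ) : FSch.complTransIso (FSch.idealSpec A J) n =
    eps (tt A J n) (ii A J (n + 1)) (ii A J n) (tt_ii A J n) := rfl

theorem main [IsNoetherianRing A] [IsAdicComplete J A]
    (𝔐 : FSch.ModSys (FSch.completionAlong (Spec (CommRingCat.of A)) (FSch.idealSpec A J)))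
    (h𝔐 : 𝔐.IsCoh) :
    ∃ M : ModuleCat.{u} A, Module.Finite A M ∧
      Nonempty (𝔐 ≅ FSch.complMod (FSch.idealSpec A J) (tilde M)) := by
  haveI hq : ∀ n, (𝔐.F n).IsQuasicoherent := fun n => (h𝔐 n).1
  haveI : IsLocallyNoetherian
      ((FSch.completionAlong (Spec (CommRingCat.of A)) (FSch.idealSpec A J)).X 0) :=
    LocallyOfFiniteType.isLocallyNoetherian (ii A J 0)
  obtain ⟨L, hfin, β, hβ⟩ := tower_exists (R := CommRingCat.of A) J
    (FSch.completionAlong (Spec (CommRingCat.of A)) (FSch.idealSpec A J)).X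
    (ii A J) (tt A J) (tt_ii A J) 𝔐.F 𝔐.e
    (fun n => (tau_ker_surj (tt A J n) (ii A J (n + 1)) (ii A J n) (tt_ii A J n) (𝔐.F (n + 1))
      (𝔐.e n) (psi_surj A J n) (ii_app_surj A J (n + 1))).1)
    (fun n => kerIs_of_kerIsI (ker_psi A J n) _
      (tau_ker_surj (tt A J n) (ii A J (n + 1)) (ii A J n) (tt_ii A J n) (𝔐.F (n + 1))
        (𝔐.e n) (psi_surj A J n) (ii_app_surj A J (n + 1))).2)
    (fun n => killed_of_killedI rfl (killed_push (ii A J n) (𝔐.F n) (J ^ (n + 1))
      (fun a ha => by
        have h1 : a ∈ RingHom.ker (((ii A J n).app ⊤).hom.comp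
            (Scheme.ΓSpecIso (CommRingCat.of A)).inv.hom) := by
          rw [ker_comp']
          exact ha
        exact h1)))
    (finMod_push (ii A J 0) (𝔐.F 0) (h𝔐 0).2 (ii_app_surj A J 0))
    (fun L n => ⟨(hks A J L n).1, by
      unfold KerIs
      ext x
      rw [LinearMap.mem_ker]
      exact (hks A J L n).2 x⟩)
    (fun L n β hb => by
      haveI : ((pullback (ii A J n)).obj ((tilde.functor (CommRingCat.of A)).obj L)).IsQuasicoherent :=
        qc_pullback_tilde (R := CommRingCat.of A) (ii A J n) L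
      exact isIso_of_bijective_top β hb)
  refine ⟨L, hfin, ⟨?_⟩⟩
  change 𝔐 ≅ FSch.complMod (FSch.idealSpec A J) ((tilde.functor (CommRingCat.of A)).obj L)
  have hβ' : ∀ n, (pullback ((FSch.completionAlong (Spec (CommRingCat.of A))
      (FSch.idealSpec A J)).ι n)).map (β (n + 1)).hom ≫ (𝔐.e n).hom =
      ((FSch.complMod (FSch.idealSpec A J) ((tilde.functor (CommRingCat.of A)).obj L)).e n).hom ≫ (β n).hom := by
    intro n
    rw [FSch.complMod_e, Iso.app_hom, eps_eq A J n]
    exact hβ n
  let Φ : 𝔐 ⟶ FSch.complMod (FSch.idealSpec A J) ((tilde.functor (CommRingCat.of A)).obj L) :=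
    ⟨fun n => (β n).inv, fun n => by
      rw [← cancel_mono (β n).hom, Category.assoc, Category.assoc, Iso.inv_hom_id,
        Category.comp_id, ← hβ' n, ← Category.assoc, ← CategoryTheory.Functor.map_comp,
        Iso.inv_hom_id, CategoryTheory.Functor.map_id, Category.id_comp]⟩
  let Ψ : FSch.complMod (FSch.idealSpec A J) ((tilde.functor (CommRingCat.of A)).obj L) ⟶ 𝔐 :=
    ⟨fun n => (β n).hom, fun n => hβ' n⟩
  refine ⟨Φ, Ψ, ?_, ?_⟩
  · apply FSch.ModSys.Hom.ext
    funext n
    exact (β n).inv_hom_id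
  · apply FSch.ModSys.Hom.ext
    funext n
    exact (β n).hom_inv_id

end Main

end Aux

open AlgebraicGeometry in
open CategoryTheory in
/-- b) ⟺ c), in the strong form that keeps the transition isomorphisms (the formal spectrum of A
presented as the system of closed subschemes of Spec A cut out by the powers of J). Let A be
Noetherian, complete and separated for the J-adic topology. Every system of coherent modules F_n on
these subschemes, given with isomorphisms identifying the restriction of F_(n+1) with F_n, is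
isomorphic as a system to M^Δ for some finite A-module M. -/
theorem result (A : Type u) [CommRing A] [IsNoetherianRing A]
    (J : Ideal A) [IsAdicComplete J A]
    (𝔐 : FSch.ModSys (FSch.completionAlong (Spec (CommRingCat.of A)) (FSch.idealSpec A J)))
    (h𝔐 : 𝔐.IsCoh) :
    ∃ M : ModuleCat.{u} A, Module.Finite A M ∧
      Nonempty (𝔐 ≅ FSch.complMod (FSch.idealSpec A J) (tilde M)) := by
  exact Aux.main A J 𝔐 h𝔐

end Groth.Agent.S3864
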