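import Groth.Statements.S3868
import Mathlib
import Groth.Statements.S3868
import Groth.Agent.Lib.Helper9.ThickAff
import Groth.Agent.Lib.Helper9.FE.InvLimAdic
import Groth.Agent.Lib.Helper8.AdicNoeth1
import Groth.Agent.Lib.Helper7.FormalNoeth2
-- import your own Groth.Agent.* helpers here

set_option autoImplicit false
universe u
open FCompl

namespace Groth.Agent.S3868

open CategoryTheory AlgebraicGeometry
namespace Aux
set_option backward.isDefEq.respectTransparency false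
set_option linter.style.haveILetI false
open H9FE.ILA

noncomputable def sysIso {𝔛 𝔜 : FSch.Sys.{u}} (e : ∀ n, 𝔛.X n ≅ 𝔜.X n)
    (h : ∀ n, (e n).hom ≫ 𝔜.ι n = 𝔛.ι n ≫ (e (n + 1)).hom) : 𝔛 ≅ 𝔜 where
  hom := ⟨fun n => (e n).hom, h⟩
  inv := ⟨fun n => (e n).inv, fun n => by
    rw [Iso.inv_comp_eq, ← Category.assoc, h n, Category.assoc, Iso.hom_inv_id,
      Category.comp_id]⟩
  hom_inv_id := by
    apply FSch.Hom.ext
    funext n
    exact (e n).hom_inv_id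
  inv_hom_id := by
    apply FSch.Hom.ext
    funext n
    exact (e n).inv_hom_id

section Lvl
variable {A : Type u} [CommRing A] (I : Ideal A) {X : Scheme.{u}} [IsAffine X]
  (p : A →+* Γ(X, ⊤)) (hp : Function.Surjective p) (hk : RingHom.ker p = I)

noncomputable def ringEq : (A ⧸ I) ≃+* Γ(X, ⊤) :=
  (Ideal.quotEquivOfEq hk.symm).trans (RingHom.quotientKerEquivOfSurjective hp)

omit [IsAffine X] in
theorem ringEq_mk (x : A) : ringEq I p hp hk (Ideal.Quotient.mk I x) = p x := rfl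

noncomputable def lvlIso : X ≅ Spec (CommRingCat.of (A ⧸ I)) :=
  X.isoSpec ≪≫ Scheme.Spec.mapIso (ringEq I p hp hk).toCommRingCatIso.op

theorem lvlIso_hom : (lvlIso I p hp hk).hom =
    X.isoSpec.hom ≫ Spec.map (CommRingCat.ofHom (ringEq I p hp hk).toRingHom) := rfl

end Lvl

theorem lvl_compat {A : Type u} [CommRing A] (I I' : Ideal A) (hII : I' ≤ I)
    {X X' : Scheme.{u}} [IsAffine X] [IsAffine X'] (t : X ⟶ X')
    (p : A →+* Γ(X, ⊤)) (hp : Function.Surjective p) (hk : RingHom.ker p = I)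
    (p' : A →+* Γ(X', ⊤)) (hp' : Function.Surjective p') (hk' : RingHom.ker p' = I')
    (hc : ∀ x, t.appTop.hom (p' x) = p x) :
    (lvlIso I p hp hk).hom ≫ Spec.map (CommRingCat.ofHom (Ideal.Quotient.factor hII)) =
      t ≫ (lvlIso I' p' hp' hk').hom := by
  rw [lvlIso_hom, lvlIso_hom, Category.assoc, ← Category.assoc t,
    ← Scheme.isoSpec_hom_naturality, Category.assoc, ← Spec.map_comp, ← Spec.map_comp]
  congr 2
  apply CommRingCat.hom_ext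
  apply Ideal.Quotient.ringHom_ext
  ext x
  exact (hc x).symm

section Sys
variable (𝔛 : FSch.Sys.{u})

theorem isAffine_level (hF : 𝔛.IsFormal) [IsAffine (𝔛.X 0)] : ∀ n, IsAffine (𝔛.X n) := by
  intro n
  induction n with
  | zero => infer_instance
  | succ n ih =>
    haveI := ih
    haveI := (hF n).1
    exact H9ThickAff.isAffine_of_thickening (𝔛.ι n) (hF n).2

theorem isClosedImmersion_toX (hF : 𝔛.IsFormal) : ∀ n, IsClosedImmersion (𝔛.toX n) := by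
  intro n
  induction n with
  | zero => exact inferInstanceAs (IsClosedImmersion (𝟙 _))
  | succ n ih =>
    haveI := ih
    haveI := (hF n).1
    exact inferInstanceAs (IsClosedImmersion (𝔛.toX n ≫ 𝔛.ι n))

abbrev BB (n : ℕ) : Type u := Γ(𝔛.X n, ⊤)

noncomputable def φφ (n : ℕ) : BB 𝔛 (n + 1) →+* BB 𝔛 n := (𝔛.ι n).appTop.hom

noncomputable def ψψ (n : ℕ) : BB 𝔛 n →+* BB 𝔛 0 := (𝔛.toX n).appTop.hom

theorem ψψ_zero (x : BB 𝔛 0) : ψψ 𝔛 0 x = x := rfl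

theorem ψψ_succ (n : ℕ) (x : BB 𝔛 (n + 1)) : ψψ 𝔛 (n + 1) x = ψψ 𝔛 n (φφ 𝔛 n x) := rfl

theorem hψ (m : ℕ) (x : limRing (BB 𝔛) (φφ 𝔛)) :
    ψψ 𝔛 m (proj (BB 𝔛) (φφ 𝔛) m x) = proj (BB 𝔛) (φφ 𝔛) 0 x := by
  induction m with
  | zero => exact ψψ_zero 𝔛 _
  | succ m ih => rw [ψψ_succ, compat, ih]

theorem φφ_surj (hF : 𝔛.IsFormal) [IsAffine (𝔛.X 0)] (n : ℕ) :
    Function.Surjective (φφ 𝔛 n) := by
  haveI := isAffine_level 𝔛 hF (n + 1)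
  haveI := (hF n).1
  exact (IsClosedImmersion.isAffine_surjective_of_isAffine (𝔛.ι n)).2

theorem ker_φφ (hF : 𝔛.IsFormal) (hA : 𝔛.IsAdic) [IsAffine (𝔛.X 0)] (n : ℕ) :
    RingHom.ker (φφ 𝔛 n) = (RingHom.ker (ψψ 𝔛 (n + 1))) ^ (n + 1) := by
  haveI := isAffine_level 𝔛 hF (n + 1)
  haveI := (hF n).1
  haveI := isClosedImmersion_toX 𝔛 hF (n + 1)
  have h := congrArg (fun I : (𝔛.X (n + 1)).IdealSheafData =>
    I.ideal ⟨⊤, isAffineOpen_top _⟩) (hA n)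
  simp only [Scheme.IdealSheafData.ideal_pow, Pi.pow_apply, Scheme.Hom.ker_apply] at h
  exact h

theorem fg_ker (hF : 𝔛.IsFormal) [IsAffine (𝔛.X 0)] (hft : FSch.IdealFT (𝔛.ι 0).ker) :
    (RingHom.ker (φφ 𝔛 0)).FG := by
  haveI := isAffine_level 𝔛 hF 1
  haveI := (hF 0).1
  have h := hft ⟨⊤, isAffineOpen_top _⟩
  rw [Scheme.Hom.ker_apply] at h
  exact h

noncomputable abbrev JJ (n : ℕ) : Ideal (limRing (BB 𝔛) (φφ 𝔛)) :=
  RingHom.ker (proj (BB 𝔛) (φφ 𝔛) n)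

theorem main (hF : 𝔛.IsFormal) (hA : 𝔛.IsAdic)
    [IsAffine (𝔛.X 0)] [IsLocallyNoetherian (𝔛.X 0)] (hft : FSch.IdealFT (𝔛.ι 0).ker) :
    ∃ (A : Type u) (_ : CommRing A) (J : Ideal A),
      IsNoetherianRing A ∧ IsAdicComplete J A ∧ Nonempty (𝔛 ≅ FSch.spf A J) := by
  have hφ := φφ_surj 𝔛 hF
  haveI haff : ∀ n, IsAffine (𝔛.X n) := isAffine_level 𝔛 hF
  obtain ⟨s, hs⟩ := fg_ker 𝔛 hF hft
  obtain ⟨a, ha⟩ := fg_lift (BB 𝔛) (φφ 𝔛) hφ s hs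
  have hG : ∀ n, JJ 𝔛 n = (JJ 𝔛 0) ^ (n + 1) ⊔ JJ 𝔛 (n + 1) :=
    ker_eq (BB 𝔛) (φφ 𝔛) hφ (ψψ 𝔛) (hψ 𝔛) (ker_φφ 𝔛 hF hA)
  have hanti : Antitone (JJ 𝔛) := ker_antitone (BB 𝔛) (φφ 𝔛)
  have h0 : ∀ x, (∀ n, x ∈ JJ 𝔛 n) → x = 0 := lim_sep (BB 𝔛) (φφ 𝔛)
  have h1 : ∀ z : ℕ → limRing (BB 𝔛) (φφ 𝔛), (∀ k, z k ∈ JJ 𝔛 k) →
      ∃ s, ∀ K, s - ∑ k ∈ Finset.range K, z k ∈ JJ 𝔛 K := lim_complete (BB 𝔛) (φφ 𝔛)
  have hpow := pow_eq (JJ 𝔛) a hG hanti h0 h1 ha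
  haveI hadic : IsAdicComplete (JJ 𝔛 0) (limRing (BB 𝔛) (φφ 𝔛)) :=
    adic (JJ 𝔛) a hG hanti h0 h1 ha
  have hps := proj_surjective (BB 𝔛) (φφ 𝔛) hφ
  haveI hN1 : IsLocallyNoetherian (𝔛.X 1) :=
    Groth.Agent.Helper7.FormalNoeth.S3853_main 𝔛 hF hA hft 1
  haveI hB1 : IsNoetherianRing (BB 𝔛 1) :=
    IsLocallyNoetherian.component_noetherian (X := 𝔛.X 1) ⟨⊤, isAffineOpen_top _⟩
  haveI hq : IsNoetherianRing (limRing (BB 𝔛) (φφ 𝔛) ⧸ (JJ 𝔛 0) ^ 2) :=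
    isNoetherianRing_of_ringEquiv (BB 𝔛 1)
      (ringEq ((JJ 𝔛 0) ^ (1 + 1)) (proj (BB 𝔛) (φφ 𝔛) 1) (hps 1) (hpow 1)).symm
  have hnoeth : IsNoetherianRing (limRing (BB 𝔛) (φφ 𝔛)) :=
    Groth.Agent.Helper8.AdicNoeth.isNoetherianRing_of_quotient_sq _ (JJ 𝔛 0)
  refine ⟨limRing (BB 𝔛) (φφ 𝔛), inferInstance, JJ 𝔛 0, hnoeth, hadic, ⟨?_⟩⟩
  refine sysIso (fun n => lvlIso ((JJ 𝔛 0) ^ (n + 1)) (proj (BB 𝔛) (φφ 𝔛) n) (hps n) (hpow n))
    (fun n => ?_)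
  exact lvl_compat ((JJ 𝔛 0) ^ (n + 1)) ((JJ 𝔛 0) ^ (n + 2))
    (Ideal.pow_le_pow_right (Nat.le_succ (n + 1))) (𝔛.ι n)
    (proj (BB 𝔛) (φφ 𝔛) n) (hps n) (hpow n) (proj (BB 𝔛) (φφ 𝔛) (n + 1)) (hps (n + 1))
    (hpow (n + 1)) (fun x => compat (BB 𝔛) (φφ 𝔛) n x)

end Sys

end Aux

open AlgebraicGeometry in
open CategoryTheory in
/-- (Systems of thickenings.) Let (X_n) be a system of schemes whose transition maps are surjective
closed immersions, with the kernel ideal of X_n -> X_(n+1) the (n+1)-st power of that of X_0 ->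
X_(n+1), X_0 affine and locally Noetherian, and the kernel ideal of X_0 -> X_1 of finite type. Then
the system is isomorphic to the formal spectrum Spec(A/J) -> Spec(A/J^2) -> ... of some Noetherian
ring A complete and separated for the J-adic topology, J an ideal of A. -/
theorem result (𝔛 : FSch.Sys.{u}) (hF : 𝔛.IsFormal) (hA : 𝔛.IsAdic)
    [IsAffine (𝔛.X 0)] [IsLocallyNoetherian (𝔛.X 0)] (hft : FSch.IdealFT (𝔛.ι 0).ker) :
    ∃ (A : Type u) (_ : CommRing A) (J : Ideal A),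
      IsNoetherianRing A ∧ IsAdicComplete J A ∧ Nonempty (𝔛 ≅ FSch.spf A J) := by
  exact Aux.main 𝔛 hF hA hft

end Groth.Agent.S3868
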