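import Groth.Statements.S3883
import Mathlib
import Groth.Agent.Lib.Helper5.Misc.EtStalk
import Groth.Agent.Lib.Helper5.Misc.EtStalkPull
import Groth.Agent.Lib.Helper5.Misc.EtOpenImmSh
import Groth.Agent.Lib.Helper5.Misc.EtClosedDense
import Groth.Agent.Lib.Helper5.Misc.AlmostCocont2
import Groth.Agent.Lib.Helper5.Misc.EtSiteBasic
import Groth.Agent.Lib.Helper5.Misc.EtGlue

set_option autoImplicit false
open CategoryTheory CategoryTheory.Limits AlgebraicGeometry Opposite
universe u
open EtDesc

open Groth.Agent.Lib.Helper5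

namespace Groth.Agent.S3883

/-- A sheaf of sets all of whose sections are unique is terminal. -/
noncomputable def isTerminalOfUnique {C : Type*} [Category C] {J : GrothendieckTopology C}
    (H : Sheaf J (Type (u + 1))) (h : ∀ V : C, Nonempty (Unique (H.obj.obj (op V)))) :
    IsTerminal H :=
  IsTerminal.ofUniqueHom
    (fun T => ⟨{ app := fun V => ↾(fun _ => (h V.unop).some.default)
                 naturality := by
                   intro V V' g
                   ext t
                   exact (h V'.unop).some.instSubsingleton.elim _ _ }⟩)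
    (by
      intro T m
      ext V t
      exact (h V.unop).some.instSubsingleton.elim _ _)

/-- The sections of a terminal sheaf of sets are unique. -/
lemma unique_of_isTerminal {C : Type*} [Category C] {J : GrothendieckTopology C}
    (H : Sheaf J (Type (u + 1))) (hH : IsTerminal H) (V : C) :
    Nonempty (Unique (H.obj.obj (op V))) := by
  have e : H ≅ Sheaf.terminal J Types.isTerminalPUnit :=
    hH.uniqueUpToIso (Sheaf.isTerminalTerminal J Types.isTerminalPUnit)
  have e2 : H.obj.obj (op V) ≅ PUnit.{u + 2} :=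
    ((sheafToPresheaf J _).mapIso e).app (op V)
  exact ⟨Equiv.unique e2.toEquiv⟩

lemma isIso_terminal_from_of_isTerminal {A : Type*} [Category A] [HasTerminal A] {H : A}
    (hH : IsTerminal H) : IsIso (terminal.from H) :=
  ⟨⟨hH.from (⊤_ A), hH.hom_ext _ _, terminalIsTerminal.hom_ext _ _⟩⟩

set_option backward.isDefEq.respectTransparency.types false in
/-- Shrinking an étale neighbourhood of a geometric point of the open `range j` to one coming
from `U`. -/
lemma exists_shrink {U X : Scheme.{u}} (j : U ⟶ X) [IsOpenImmersion j]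
    {Ω : Type u} [Field Ω] [IsSepClosed Ω] (ξ : Spec (CommRingCat.of Ω) ⟶ X)
    (hξ : ξ (default : Spec (CommRingCat.of Ω)) ∈ Set.range j.base) (V : X.Etale)
    (x : (Scheme.pointSmallEtale ξ).fiber.obj V) :
    ∃ (V'' : U.Etale) (g : (EtShriek.compEtale j).obj V'' ⟶ V)
      (y : (Scheme.pointSmallEtale ξ).fiber.obj ((EtShriek.compEtale j).obj V'')),
      (Scheme.pointSmallEtale ξ).fiber.map g y = x := by
  haveI : Etale V.hom := V.prop
  let O : V.left.Opens := V.hom ⁻¹ᵁ j.opensRange
  have hr : Set.range (O.ι ≫ V.hom).base ⊆ Set.range j.base := by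
    rintro _ ⟨a, rfl⟩
    have m : O.ι a ∈ Set.range O.ι := ⟨_, rfl⟩
    rw [Scheme.Opens.range_ι] at m
    exact m
  have hfac : IsOpenImmersion.lift j (O.ι ≫ V.hom) hr ≫ j = O.ι ≫ V.hom :=
    IsOpenImmersion.lift_fac j _ hr
  haveI : Etale (IsOpenImmersion.lift j (O.ι ≫ V.hom) hr ≫ j) := by
    rw [hfac]
    infer_instance
  haveI : Etale (IsOpenImmersion.lift j (O.ι ≫ V.hom) hr) := Etale.of_comp _ j
  let V'' : U.Etale := EtSiteBasic.ofEtale (IsOpenImmersion.lift j (O.ι ≫ V.hom) hr)
  let g : (EtShriek.compEtale j).obj V'' ⟶ V :=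
    MorphismProperty.Over.homMk O.ι hfac.symm trivial
  have hmem : x.left (default : Spec (CommRingCat.of Ω)) ∈ O := by
    change V.hom (x.left (default : Spec (CommRingCat.of Ω))) ∈ Set.range j.base
    have e : x.left ≫ V.hom = ξ := Over.w x
    have e2 : V.hom (x.left (default : Spec (CommRingCat.of Ω))) = ξ default :=
      congrArg (fun f : Spec (CommRingCat.of Ω) ⟶ X => f default) e
    rw [e2]
    exact hξ
  obtain ⟨y, hy, -⟩ := EtStalk.exists_lift_fiber ξ g x
    ⟨x.left (default : Spec (CommRingCat.of Ω)), hmem⟩ rfl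
  exact ⟨V'', g, y, hy⟩

/-- If the sections of `F` over all étale schemes coming from `U` are unique, then so are the
stalks of `F` at the geometric points of `U`. -/
lemma unique_stalk {U X : Scheme.{u}} (j : U ⟶ X) [IsOpenImmersion j] (F : EtDesc.Sh X)
    (hF : ∀ V'' : U.Etale, Nonempty (Unique (F.obj.obj (op ((EtShriek.compEtale j).obj V'')))))
    {Ω : Type u} [Field Ω] [IsSepClosed Ω] (ξ : Spec (CommRingCat.of Ω) ⟶ X)
    (hξ : ξ (default : Spec (CommRingCat.of Ω)) ∈ Set.range j.base) :
    Nonempty (Unique ((Scheme.pointSmallEtale ξ).sheafFiber.obj F)) := by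
  have hsub : Subsingleton ((Scheme.pointSmallEtale ξ).sheafFiber.obj F) := by
    refine ⟨fun t₁ t₂ => ?_⟩
    obtain ⟨V, x, s₁, s₂, rfl, rfl⟩ :=
      (Scheme.pointSmallEtale ξ).toPresheafFiber_jointly_surjective₂ (P := F.obj) t₁ t₂
    obtain ⟨V'', g, y, hy⟩ := exists_shrink j ξ hξ V x
    have w : ∀ s : F.obj.obj (op V),
        ((Scheme.pointSmallEtale ξ).toPresheafFiber _ y F.obj) (F.obj.map g.op s) =
        ((Scheme.pointSmallEtale ξ).toPresheafFiber V x F.obj) s := by
      intro s
      have w0 := ConcreteCategory.congr_hom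
        ((Scheme.pointSmallEtale ξ).toPresheafFiber_w g y F.obj) s
      simp only [ConcreteCategory.comp_apply] at w0
      refine w0.trans ?_
      exact congrArg (fun z => ((Scheme.pointSmallEtale ξ).toPresheafFiber V z F.obj) s) hy
    have hs : F.obj.map g.op s₁ = F.obj.map g.op s₂ :=
      (hF V'').some.instSubsingleton.elim _ _
    exact (w s₁).symm.trans ((congrArg _ hs).trans (w s₂))
  have hne : Nonempty ((Scheme.pointSmallEtale ξ).sheafFiber.obj F) := by
    let T : X.Etale := EtSiteBasic.ofEtale (𝟙 X)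
    let x₀ : (Scheme.pointSmallEtale ξ).fiber.obj T := Over.homMk ξ (Category.comp_id _)
    obtain ⟨V'', g, y, -⟩ := exists_shrink j ξ hξ T x₀
    exact ⟨((Scheme.pointSmallEtale ξ).toPresheafFiber _ y F.obj) (hF V'').some.default⟩
  obtain ⟨t₀⟩ := hne
  exact ⟨⟨⟨t₀⟩, fun t => hsub.elim _ _⟩⟩

end Groth.Agent.S3883

namespace Groth.Agent.S3883

/-- Let i : Y -> X be a closed immersion and j : U -> X an open immersion whose image is the complement
of the image of i. Then the direct image functor i_* on etale sheaves of sets is fully faithful, and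
a sheaf of sets F on X is isomorphic to some i_* G if and only if j^* F is a final object. -/
theorem result {Y X U : Scheme.{u}} (i : Y ⟶ X)
    [IsClosedImmersion i] (j : U ⟶ X) [IsOpenImmersion j]
    (hU : Set.range j.base = (Set.range i.base)ᶜ) :
    (EtDesc.pushSh i).Full ∧ (EtDesc.pushSh i).Faithful ∧
    ∀ F : EtDesc.Sh X, (EtDesc.pushSh i).essImage F ↔ IsIso (terminal.from ((EtDesc.pullSh j).obj F)) := by
  refine ⟨EtClosedDense.full_pushA i (Type (u + 1)),
    EtClosedDense.faithful_pushA i (Type (u + 1)), ?_⟩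
  intro F
  have hd : Disjoint (Set.range j.base) (Set.range i.base) := by
    rw [hU]
    exact disjoint_compl_left
  have hpush : ∀ (G : EtDesc.Sh Y) (V'' : U.Etale),
      Nonempty (Unique (((EtDesc.pushSh i).obj G).obj.obj
        (op ((EtShriek.compEtale j).obj V'')))) := by
    intro G V''
    haveI : IsEmpty ((EtCoh.bc i).obj ((EtShriek.compEtale j).obj V'')).left := by
      refine ⟨fun z => ?_⟩
      have c : pullback.fst (V''.hom ≫ j) i ≫ (V''.hom ≫ j) =
        pullback.snd (V''.hom ≫ j) i ≫ i := pullback.condition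
      have c1 : j (V''.hom (pullback.fst (V''.hom ≫ j) i z)) =
          i (pullback.snd (V''.hom ≫ j) i z) := by
        rw [← Scheme.Hom.comp_apply, ← Scheme.Hom.comp_apply, ← Scheme.Hom.comp_apply, c]
      exact Set.disjoint_left.1 hd ⟨_, rfl⟩ ⟨_, c1.symm⟩
    have ht := Sheaf.isTerminalOfBotCover G _
      (AlmostCocont2.bot_mem_of_isEmpty ((EtCoh.bc i).obj ((EtShriek.compEtale j).obj V'')))
    exact ⟨Types.isTerminalEquivUnique _ ht⟩
  constructor
  · rintro ⟨G, ⟨e⟩⟩
    have h1 : ∀ V'' : U.Etale,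
        Nonempty (Unique (((EtOpenImmSh.restrSh j).obj F).obj.obj (op V''))) := by
      intro V''
      obtain ⟨u1⟩ := hpush G V''
      have e2 : ((EtDesc.pushSh i).obj G).obj.obj (op ((EtShriek.compEtale j).obj V'')) ≅
          F.obj.obj (op ((EtShriek.compEtale j).obj V'')) :=
        ((sheafToPresheaf _ _).mapIso e).app (op _)
      exact ⟨@Equiv.unique _ _ u1 e2.toEquiv.symm⟩
    have t1 := isTerminalOfUnique ((EtOpenImmSh.restrSh j).obj F) h1
    have t2 : IsTerminal ((EtDesc.pullSh j).obj F) :=
      t1.ofIso ((EtOpenImmSh.pullIsoSh j).app F).symm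
    exact isIso_terminal_from_of_isTerminal t2
  · intro hiso
    have t2 : IsTerminal ((EtDesc.pullSh j).obj F) :=
      terminalIsTerminal.ofIso (asIso (terminal.from ((EtDesc.pullSh j).obj F))).symm
    have t1 : IsTerminal ((EtOpenImmSh.restrSh j).obj F) :=
      t2.ofIso ((EtOpenImmSh.pullIsoSh j).app F)
    have hF : ∀ V'' : U.Etale,
        Nonempty (Unique (F.obj.obj (op ((EtShriek.compEtale j).obj V'')))) :=
      fun V'' => unique_of_isTerminal _ t1 V''
    haveI : (EtDesc.pushSh i).Full := EtClosedDense.full_pushA i (Type (u + 1))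
    haveI : (EtDesc.pushSh i).Faithful := EtClosedDense.faithful_pushA i (Type (u + 1))
    haveI : IsIso (EtDesc.adjSh i).counit := inferInstance
    suffices hη : IsIso ((EtDesc.adjSh i).unit.app F) from
      ⟨(EtDesc.pullSh i).obj F, ⟨(asIso ((EtDesc.adjSh i).unit.app F)).symm⟩⟩
    let P : (↥U ⊕ ↥Y) → EtStalk.GeomPt X := fun s => Sum.elim
      (fun p : ↥U => ⟨(EtStalk.geomPtAt p).Ω, (EtStalk.geomPtAt p).ξ ≫ j⟩)
      (fun z : ↥Y => ⟨(EtStalk.geomPtAt z).Ω, (EtStalk.geomPtAt z).ξ ≫ i⟩) s
    have hcov : ∀ x : X, ∃ s, (P s).ξ (default : Spec (CommRingCat.of (P s).Ω)) = x := by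
      intro x
      by_cases hx : x ∈ Set.range i.base
      · obtain ⟨z, rfl⟩ := hx
        refine ⟨Sum.inr z, ?_⟩
        change i ((EtStalk.geomPtAt z).ξ default) = i z
        rw [EtStalk.geomPtAt_default]
      · have hxU : x ∈ Set.range j.base := by
          rw [hU]
          exact hx
        obtain ⟨p, rfl⟩ := hxU
        refine ⟨Sum.inl p, ?_⟩
        change j ((EtStalk.geomPtAt p).ξ default) = j p
        rw [EtStalk.geomPtAt_default]
    apply EtStalk.isIso_of_stalks_family P hcov
    rintro (p | z)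
    · have hmem : ((EtStalk.geomPtAt p).ξ ≫ j)
          (default : Spec (CommRingCat.of (EtStalk.geomPtAt p).Ω)) ∈ Set.range j.base :=
        ⟨_, rfl⟩
      obtain ⟨u1⟩ := unique_stalk j F hF ((EtStalk.geomPtAt p).ξ ≫ j) hmem
      obtain ⟨u2⟩ := unique_stalk j ((EtDesc.pushSh i).obj ((EtDesc.pullSh i).obj F))
        (hpush _) ((EtStalk.geomPtAt p).ξ ≫ j) hmem
      exact ⟨fun a b _ => u1.instSubsingleton.elim a b,
        fun y => ⟨u1.default, u2.instSubsingleton.elim _ _⟩⟩
    · have tri := (EtDesc.adjSh i).left_triangle_components F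
      have h1 : IsIso ((EtDesc.pullSh i).map ((EtDesc.adjSh i).unit.app F)) := by
        haveI : IsIso ((EtDesc.pullSh i).map ((EtDesc.adjSh i).unit.app F) ≫
            (EtDesc.adjSh i).counit.app ((EtDesc.pullSh i).obj F)) := by
          rw [tri]
          exact IsIso.id _
        exact IsIso.of_isIso_comp_right _ ((EtDesc.adjSh i).counit.app ((EtDesc.pullSh i).obj F))
      have h3 : IsIso ((EtDesc.pullSh i ⋙
          (Scheme.pointSmallEtale (EtStalk.geomPtAt z).ξ).sheafFiber (A := Type (u + 1))).map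
          ((EtDesc.adjSh i).unit.app F)) := by
        rw [Functor.comp_map]
        infer_instance
      have h4 := (NatIso.isIso_map_iff
        (EtStalkPull.stalkPullShIso i (EtStalk.geomPtAt z).ξ) _).1 h3
      exact (isIso_iff_bijective _).1 h4

end Groth.Agent.S3883
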