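import Groth.Statements.S3888
import Mathlib
import Groth.Agent.Lib.Helper5.Misc.EtOpenImmSh
import Groth.Agent.Lib.Helper5.Misc.EtClosedDense

set_option autoImplicit false
open CategoryTheory CategoryTheory.Limits AlgebraicGeometry Opposite
universe u
open EtDesc

open Groth.Agent.Lib.Helper5

namespace Groth.Agent.S3888

theorem key {X W Y : Scheme.{u}} (c : X ⟶ W) (o : W ⟶ Y) [IsClosedImmersion c]
    [IsOpenImmersion o] (F : EtDesc.Sh X) :
    IsIso ((EtDesc.adjSh (c ≫ o)).counit.app F) := by
  haveI : (EtDesc.pushSh c).Full := EtClosedDense.full_pushA c (Type (u + 1))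
  haveI : (EtDesc.pushSh c).Faithful := EtClosedDense.faithful_pushA c (Type (u + 1))
  haveI : (EtDesc.pushSh o).Full := EtOpenImmSh.full_pushSh o
  haveI : (EtDesc.pushSh o).Faithful := EtOpenImmSh.faithful_pushSh o
  haveI : (EtDesc.pushSh (c ≫ o)).Full := Functor.Full.of_iso (EtDesc.pushCompSh o c)
  haveI : (EtDesc.pushSh (c ≫ o)).Faithful := Functor.Faithful.of_iso (EtDesc.pushCompSh o c)
  haveI : IsIso (EtDesc.adjSh (c ≫ o)).counit := inferInstance
  infer_instance

end Groth.Agent.S3888

namespace Groth.Agent.S3888

/-- Let f : X -> Y be an immersion of schemes. Then for every sheaf of sets F on the small etale site of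
X the counit f^* f_* F -> F of the adjunction between inverse and direct image is an isomorphism. -/
theorem result {X Y : Scheme.{u}} (f : X ⟶ Y) [IsImmersion f] (F : EtDesc.Sh X) :
    IsIso ((EtDesc.adjSh f).counit.app F) := by
  have h := key f.liftCoborder f.coborderRange.ι F
  rw [Scheme.Hom.liftCoborder_ι] at h
  exact h

end Groth.Agent.S3888
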