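import Groth.Statements.S3889
import Mathlib
import Groth.Prelude.Def_EtCore
import Groth.Prelude.Def_EtLim
import Groth.Agent.Lib.Helper9.FE.LimPull7
import Groth.Agent.Lib.Helper9.FE.LimPull8
-- import your own Groth.Agent.* helpers here

set_option autoImplicit false
open CategoryTheory CategoryTheory.Limits AlgebraicGeometry Opposite
universe u
open EtLim

namespace Groth.Agent.S3889

open CategoryTheory CategoryTheory.Limits AlgebraicGeometry Opposite
open EtLim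
namespace Aux
set_option linter.unusedSectionVars false
set_option linter.style.haveILetI false
set_option backward.isDefEq.respectTransparency false
open H9FE.LimTower H9FE.EtTr H9FE.LimNull H9FE.LimGeom H9FE.LimPull

section

variable {ι : Type u} [Preorder ι] (Xs : ιᵒᵖ ⥤ Scheme.{u}) (c : Cone Xs)

lemma ptc_unfold {i j : ι} (hij : i ≤ j) :
    EtLim.pullTransCone Xs c hij = ptcG (c.π.app (op j)) (Xs.map (homOfLE hij).op)
      (c.π.app (op i)) (c.w (homOfLE hij).op).symm := rfl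

lemma ptc_eq {i j : ι} (hij : i ≤ j) (F : EtCoh.Ab (Xs.obj (op i))) :
    (EtLim.pullTransCone Xs c hij).hom.app F =
      (kap (c.π.app (op j)) (Xs.map (homOfLE hij).op) (c.π.app (op i))
        (c.w (homOfLE hij).op) F).inv :=
  (congrArg (fun t => t.hom.app F) (ptc_unfold Xs c hij)).trans
    (ptcG_eq (c.π.app (op j)) (Xs.map (homOfLE hij).op) (c.π.app (op i))
      (c.w (homOfLE hij).op) F _)

lemma pt_unfold {i j k : ι} (hij : i ≤ j) (hjk : j ≤ k) :
    EtLim.pullTrans Xs hij hjk = ptcG (Xs.map (homOfLE hjk).op) (Xs.map (homOfLE hij).op)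
      (Xs.map (homOfLE (hij.trans hjk)).op) (uu_comp Xs hij hjk).symm := rfl

lemma pt_eq {i j k : ι} (hij : i ≤ j) (hjk : j ≤ k) (F : EtCoh.Ab (Xs.obj (op i))) :
    (EtLim.pullTrans Xs hij hjk).hom.app F =
      (kap (Xs.map (homOfLE hjk).op) (Xs.map (homOfLE hij).op)
        (Xs.map (homOfLE (hij.trans hjk)).op) (uu_comp Xs hij hjk) F).inv :=
  (congrArg (fun t => t.hom.app F) (pt_unfold Xs hij hjk)).trans
    (ptcG_eq (Xs.map (homOfLE hjk).op) (Xs.map (homOfLE hij).op)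
      (Xs.map (homOfLE (hij.trans hjk)).op) (uu_comp Xs hij hjk) F _)

end

section Gen

variable {X Y : Scheme.{u}} (f : X ⟶ Y) [PreservesFiniteLimits (EtCoh.pull f)]

lemma HpullThen_apply (F : EtCoh.Ab Y) {M : EtCoh.Ab X} (α : (EtCoh.pull f).obj F ⟶ M) (n : ℕ)
    (x : EtCoh.H Y F n) :
    EtLim.HpullThen f F α n x = ((EtCoh.HF X n).map α).hom (EtCore.Hpull f F n x) := rfl

lemma HF_map_hom_eq_zero {A B : EtCoh.Ab X} (e : A ≅ B) (n : ℕ) (y : EtCoh.H X A n)
    (h : ((EtCoh.HF X n).map e.hom).hom y = 0) : y = 0 := by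
  have h2 := congrArg ((EtCoh.HF X n).map e.inv).hom h
  rw [map_zero] at h2
  rw [← h2]
  exact (HF_map_iso_apply e.symm n y).symm

end Gen

theorem main {ι : Type u} [Preorder ι] [Nonempty ι] [IsDirected ι (· ≤ ·)]
    (Xs : ιᵒᵖ ⥤ Scheme.{u}) (haff : ∀ ⦃a b : ιᵒᵖ⦄ (h : a ⟶ b), IsAffineHom (Xs.map h))
    (hqc : ∀ a, CompactSpace ↥(Xs.obj a)) (hqs : ∀ a, QuasiSeparatedSpace ↥(Xs.obj a))
    (c : Cone Xs) (hc : IsLimit c)
    [∀ a, PreservesFiniteLimits (EtCoh.pull (c.π.app a))]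
    [∀ ⦃a b : ιᵒᵖ⦄ (h : a ⟶ b), PreservesFiniteLimits (EtCoh.pull (Xs.map h))]
    (F : ∀ i : ι, EtCoh.Ab (Xs.obj (op i)))
    (φ : ∀ ⦃i j : ι⦄ (h : i ≤ j), (EtCoh.pull (Xs.map (homOfLE h).op)).obj (F i) ⟶ F j)
    (hφ : ∀ ⦃i j k : ι⦄ (hij : i ≤ j) (hjk : j ≤ k),
      φ (hij.trans hjk) = (EtLim.pullTrans Xs hij hjk).hom.app (F i) ≫
        (EtCoh.pull (Xs.map (homOfLE hjk).op)).map (φ hij) ≫ φ hjk)
    (G : ι ⥤ EtCoh.Ab c.pt) (ψ : ∀ i : ι, (EtCoh.pull (c.π.app (op i))).obj (F i) ≅ G.obj i)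
    (hψ : ∀ ⦃i j : ι⦄ (hij : i ≤ j), (ψ i).hom ≫ G.map (homOfLE hij) =
      (EtLim.pullTransCone Xs c hij).hom.app (F i) ≫ (EtCoh.pull (c.π.app (op j))).map (φ hij) ≫ (ψ j).hom)
    (n : ℕ) :
    (∀ ξ : EtCoh.H c.pt (colimit G) n, ∃ (j : ι) (ξj : EtCoh.H (Xs.obj (op j)) (F j) n),
        EtLim.HpullThen (c.π.app (op j)) (F j) ((ψ j).hom ≫ colimit.ι G j) n ξj = ξ) ∧
    (∀ (j : ι) (ξj : EtCoh.H (Xs.obj (op j)) (F j) n),
      EtLim.HpullThen (c.π.app (op j)) (F j) ((ψ j).hom ≫ colimit.ι G j) n ξj = 0 →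
        ∃ (k : ι) (hk : j ≤ k), EtLim.HpullThen (Xs.map (homOfLE hk).op) (F j) (φ hk) n ξj = 0) := by
  -- the limit is quasi-compact and quasi-separated
  obtain ⟨i0⟩ := ‹Nonempty ι›
  haveI : IsAffineHom (cu Xs c i0) := cu_affine Xs haff c hc i0
  haveI : CompactSpace (XX Xs i0) := hqc _
  haveI : QuasiSeparatedSpace (XX Xs i0) := hqs _
  haveI : CompactSpace c.pt := QuasiCompact.compactSpace_of_compactSpace (cu Xs c i0)
  haveI : QuasiSeparatedSpace c.pt := quasiSeparatedSpace_of_quasiSeparated (cu Xs c i0)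
  haveI : Nonempty ι := ⟨i0⟩
  obtain ⟨hs, hi⟩ := hsurj_hinj_small G n
  -- a class on a stage dying on the limit dies at a later stage
  have bottom : ∀ (k : ι) (z : EtCoh.H (Xs.obj (op k)) (F k) n),
      EtCore.Hpull (c.π.app (op k)) (F k) n z = 0 →
        ∃ (k' : ι) (hk : k ≤ k'), EtCore.Hpull (Xs.map (homOfLE hk).op) (F k) n z = 0 := by
    intro k z hz
    obtain ⟨-, H2⟩ := pull_thm_up Xs haff hqc hqs c hc k (F k) n
    have e := HpullVia_Hpull (c.π.app (op k)) (Xs.map (homOfLE (le_refl k)).op) (c.π.app (op k))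
      (c.w (homOfLE (le_refl k)).op) (F k) n z
    obtain ⟨k', hk, hk'⟩ := H2 k (le_refl k)
      (EtCore.Hpull (Xs.map (homOfLE (le_refl k)).op) (F k) n z) (e.trans hz)
    refine ⟨k', hk, ?_⟩
    exact Hpull_Hpull_eq_zero (Xs.map (homOfLE hk).op) (Xs.map (homOfLE (le_refl k)).op)
      (Xs.map (homOfLE hk).op) (uu_comp Xs (le_refl k) hk) (F k) n z hk'
  constructor
  · intro ξ
    obtain ⟨i, ξ', hξ'⟩ := hs ξ
    obtain ⟨H1, -⟩ := pull_thm_up Xs haff hqc hqs c hc i (F i) n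
    obtain ⟨j, hij, α, hα⟩ := H1 (((EtCoh.HF _ n).map (ψ i).inv).hom ξ')
    refine ⟨j, ((EtCoh.HF _ n).map (φ hij)).hom α, ?_⟩
    have hγ : (ψ i).hom ≫ colimit.ι G i = (EtLim.pullTransCone Xs c hij).hom.app (F i) ≫
        (EtCoh.pull (c.π.app (op j))).map (φ hij) ≫ ((ψ j).hom ≫ colimit.ι G j) := by
      rw [← colimit.w G (homOfLE hij), ← Category.assoc, hψ hij]
      simp only [Category.assoc]
    have e := two_stage_mid (c.π.app (op j)) (Xs.map (homOfLE hij).op) (c.π.app (op i))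
      (c.w (homOfLE hij).op) (F i) (φ hij) ((ψ j).hom ≫ colimit.ι G j)
      ((ψ i).hom ≫ colimit.ι G i) ((EtLim.pullTransCone Xs c hij).hom.app (F i))
      (ptc_eq Xs c hij (F i)) hγ n α
    refine e.trans ?_
    have e5 := HF_map_comp_apply (X := c.pt) (ψ i).inv ((ψ i).hom ≫ colimit.ι G i) n ξ'
    have e6 : (ψ i).inv ≫ (ψ i).hom ≫ colimit.ι G i = colimit.ι G i :=
      Iso.inv_hom_id_assoc _ _
    have e7 := congrArg (fun m => ((EtCoh.HF c.pt n).map m).hom ξ') e6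
    exact (congrArg _ hα).trans (e5.symm.trans (e7.trans hξ'))
  · intro j ξj h0
    have p1 := HpullThen_post (c.π.app (op j)) (F j) (ψ j).hom (colimit.ι G j) n ξj
    obtain ⟨k, hjk, hk⟩ := hi j (EtLim.HpullThen (c.π.app (op j)) (F j) (ψ j).hom n ξj)
      (p1.symm.trans h0)
    have p2 := HpullThen_post (c.π.app (op j)) (F j) (ψ j).hom (G.map (homOfLE hjk)) n ξj
    have e := two_stage_bot (c.π.app (op k)) (Xs.map (homOfLE hjk).op) (c.π.app (op j))
      (c.w (homOfLE hjk).op) (F j) (φ hjk) (ψ k).hom ((ψ j).hom ≫ G.map (homOfLE hjk))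
      ((EtLim.pullTransCone Xs c hjk).hom.app (F j)) (ptc_eq Xs c hjk (F j)) (hψ hjk) n ξj
    have hk2 := e.symm.trans (p2.trans hk)
    have hz : EtCore.Hpull (c.π.app (op k)) (F k) n
        (EtLim.HpullThen (Xs.map (homOfLE hjk).op) (F j) (φ hjk) n ξj) = 0 :=
      HF_map_hom_eq_zero (ψ k) n _ ((HpullThen_apply (c.π.app (op k)) (F k) (ψ k).hom n
        (EtLim.HpullThen (Xs.map (homOfLE hjk).op) (F j) (φ hjk) n ξj)).symm.trans hk2)
    obtain ⟨k', hkk', hk'⟩ := bottom k _ hz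
    refine ⟨k', hjk.trans hkk', ?_⟩
    have e3 := two_stage_bot (Xs.map (homOfLE hkk').op) (Xs.map (homOfLE hjk).op)
      (Xs.map (homOfLE (hjk.trans hkk')).op) (uu_comp Xs hjk hkk') (F j) (φ hjk) (φ hkk')
      (φ (hjk.trans hkk')) ((EtLim.pullTrans Xs hjk hkk').hom.app (F j))
      (pt_eq Xs hjk hkk' (F j)) (hφ hjk hkk') n ξj
    refine e3.trans ?_
    refine (HpullThen_apply (Xs.map (homOfLE hkk').op) (F k) (φ hkk') n _).trans ?_
    exact (congrArg _ hk').trans (map_zero _)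

end Aux

/-- Let ι be a nonempty directed preordered set, (X_i) an inverse system of quasi-compact
quasi-separated schemes indexed by ι with affine transition morphisms u_ij : X_j -> X_i, and X a
limit with projections u_i. Let (F_i) be abelian sheaves on the small etale sites of the X_i
together with maps φ_ij : u_ij^{-1} F_i -> F_j for i ≤ j satisfying the cocycle condition φ_ik =
φ_jk ∘ u_jk^{-1}(φ_ij) (a sheaf on the fibred etale site of the system), and let F_∞ be the colimit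
on X of the sheaves u_i^{-1} F_i along the maps induced by the φ_ij; here F_∞ is presented as the
colimit of any diagram G identified with (u_i^{-1} F_i) compatibly with the φ_ij. Then the canonical
maps H^n(X_i, F_i) -> H^n(X, F_∞) identify H^n(X, F_∞) with the directed colimit of the H^n(X_i,
F_i) (transition maps: pull back along u_ij, then apply φ_ij), in the concrete sense: every class on
X comes from some stage, and a class at stage j mapping to zero on X already maps to zero at some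
stage k ≥ j. (Exactness of pullback of abelian sheaves, which always holds, is carried as an
instance hypothesis.) -/
theorem result {ι : Type u} [Preorder ι] [Nonempty ι] [IsDirected ι (· ≤ ·)]
    (Xs : ιᵒᵖ ⥤ Scheme.{u}) (haff : ∀ ⦃a b : ιᵒᵖ⦄ (h : a ⟶ b), IsAffineHom (Xs.map h))
    (hqc : ∀ a, CompactSpace ↥(Xs.obj a)) (hqs : ∀ a, QuasiSeparatedSpace ↥(Xs.obj a))
    (c : Cone Xs) (hc : IsLimit c)
    [∀ a, PreservesFiniteLimits (EtCoh.pull (c.π.app a))]
    [∀ ⦃a b : ιᵒᵖ⦄ (h : a ⟶ b), PreservesFiniteLimits (EtCoh.pull (Xs.map h))]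
    (F : ∀ i : ι, EtCoh.Ab (Xs.obj (op i)))
    (φ : ∀ ⦃i j : ι⦄ (h : i ≤ j), (EtCoh.pull (Xs.map (homOfLE h).op)).obj (F i) ⟶ F j)
    (hφ : ∀ ⦃i j k : ι⦄ (hij : i ≤ j) (hjk : j ≤ k),
      φ (hij.trans hjk) = (EtLim.pullTrans Xs hij hjk).hom.app (F i) ≫
        (EtCoh.pull (Xs.map (homOfLE hjk).op)).map (φ hij) ≫ φ hjk)
    (G : ι ⥤ EtCoh.Ab c.pt) (ψ : ∀ i : ι, (EtCoh.pull (c.π.app (op i))).obj (F i) ≅ G.obj i)
    (hψ : ∀ ⦃i j : ι⦄ (hij : i ≤ j), (ψ i).hom ≫ G.map (homOfLE hij) =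
      (EtLim.pullTransCone Xs c hij).hom.app (F i) ≫ (EtCoh.pull (c.π.app (op j))).map (φ hij) ≫ (ψ j).hom)
    (n : ℕ) :
    (∀ ξ : EtCoh.H c.pt (colimit G) n, ∃ (j : ι) (ξj : EtCoh.H (Xs.obj (op j)) (F j) n),
        EtLim.HpullThen (c.π.app (op j)) (F j) ((ψ j).hom ≫ colimit.ι G j) n ξj = ξ) ∧
    (∀ (j : ι) (ξj : EtCoh.H (Xs.obj (op j)) (F j) n),
      EtLim.HpullThen (c.π.app (op j)) (F j) ((ψ j).hom ≫ colimit.ι G j) n ξj = 0 →
        ∃ (k : ι) (hk : j ≤ k), EtLim.HpullThen (Xs.map (homOfLE hk).op) (F j) (φ hk) n ξj = 0) := by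
  exact Aux.main Xs haff hqc hqs c hc F φ hφ G ψ hψ n

end Groth.Agent.S3889
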