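import Groth.Statements.S3893
import Groth.Agent.Lib.Helper6.HyperQI.CechH0
import Groth.Agent.Lib.Helper6.HyperQI.ExtSec
import Groth.Agent.S0895

set_option autoImplicit false
universe u
open CategoryTheory
open Hyper

namespace Groth.Agent.S3893

open Opposite CategoryTheory.Limits in
/-- (Degenerate case of the spectral sequence of a hypercovering; hypercoverings of an object X of a
small site with fibre products, coskeleta assumed to exist.) Let F be an abelian sheaf with H^q(U,
F) = 0 for every object U of the site and every q > 0. Then for every hypercovering K of X the Cech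
cohomology groups of F with respect to K vanish in positive degrees. -/
theorem result {C : Type u} [SmallCategory C] [HasPullbacks C]
    (J : GrothendieckTopology C) (X : C)
    [∀ (n : ℕ) (F : (SimplexCategory.Truncated n)ᵒᵖ ⥤ Limits.FormalCoproduct.{u} (Over X)),
      (SimplexCategory.Truncated.inclusion n).op.HasRightKanExtension F]
    (F : Sheaf J AddCommGrpCat.{u}) (hF : ∀ (U : C) (q : ℕ), Subsingleton (CohSite.HU F (q + 1) U))
    (K : SimplicialObject (FormalCoproduct.{u} (Over X))) (hK : Hyper.IsHypercovering J X K) (p : ℕ) :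
    IsZero (Hyper.cechH X K F.obj (p + 1)) := by
  have h0 : Groth.Agent.Lib.Helper6.HyperQI.LocNonempty (J.over X)
      ((K ⋙ Groth.Agent.Lib.Helper6.HyperQI.FY).obj (Opposite.op (SimplexCategory.mk 0))) :=
    Groth.Agent.Lib.Helper6.HyperQI.locNonempty_of_cover J X _ hK.1
  have hn : ∀ n : ℕ, Presheaf.IsLocallySurjective (J.over X)
      (((SimplicialObject.coskAdj n).unit.app (K ⋙ Groth.Agent.Lib.Helper6.HyperQI.FY)).app
        (Opposite.op (SimplexCategory.mk (n + 1)))) := by
    intro n
    haveI := Groth.Agent.Lib.Helper6.HyperQI.isLocallySurjective_of_isSRCovering (J.over X) _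
      (hK.2 n)
    rw [← Groth.Agent.Lib.Helper6.HyperQI.coskCompIso_unit
      Groth.Agent.Lib.Helper6.HyperQI.FY n K, NatTrans.comp_app, Functor.whiskerRight_app]
    infer_instance
  haveI : EnoughInjectives (Sheaf J AddCommGrpCat.{u}) :=
    Groth.Agent.Lib.Helper6.HyperQI.sheaf_enoughInjectives J
  suffices H : ∀ (p : ℕ) (F : Sheaf J AddCommGrpCat.{u}),
      (∀ (U : C) (q : ℕ), Subsingleton (CohSite.HU F (q + 1) U)) →
        IsZero (Hyper.cechH X K F.obj (p + 1)) from H p F hF
  intro p
  induction p with
  | zero =>
    intro F hF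
    let S : ShortComplex (Sheaf J AddCommGrpCat.{u}) :=
      ShortComplex.mk (Injective.ι F) (Limits.cokernel.π (Injective.ι F))
        (Limits.cokernel.condition (Injective.ι F))
    have hS : S.ShortExact :=
      ShortComplex.ShortExact.mk'
        (S.exact_of_g_is_cokernel (Limits.cokernelIsCokernel (Injective.ι F)))
        (inferInstanceAs (Mono (Injective.ι F)))
        (inferInstanceAs (Epi (Limits.cokernel.π (Injective.ι F))))
    have w' : Functor.whiskerLeft (Over.forget X).op S.f.hom ≫
        Functor.whiskerLeft (Over.forget X).op S.g.hom = 0 := by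
      have w0 : S.f.hom ≫ S.g.hom = 0 :=
        (congrArg (fun m => (sheafToPresheaf J AddCommGrpCat.{u}).map m) S.zero).trans
          (Functor.map_zero _ _ _)
      rw [← Functor.whiskerLeft_comp, w0]
      rfl
    have hS' := Groth.Agent.Lib.Helper6.HyperQI.cech_shortExact K
      (Functor.whiskerLeft (Over.forget X).op S.f.hom)
      (Functor.whiskerLeft (Over.forget X).op S.g.hom) w'
      (fun V => Groth.Agent.Lib.Helper6.HyperQI.sections_injective hS V.left)
      (fun V => Groth.Agent.Lib.Helper6.HyperQI.sections_surjective J hS V.left (hF V.left 0))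
      (fun V => Groth.Agent.Lib.Helper6.HyperQI.sections_exact hS V.left)
    have hI1 : IsZero (Hyper.cechH X K (Injective.under F).obj (0 + 1)) :=
      Groth.Agent.S0895.result J X K hK (Injective.under F) 0
    haveI hepiδ := hS'.epi_δ 0 1 rfl hI1
    haveI hepi0 := Groth.Agent.Lib.Helper6.HyperQI.epi_homologyMap_zero (J.over X) K h0 hn
      Over.mkIdTerminal ((Over.forget X).op ⋙ (Injective.under F).obj)
      ((Limits.cokernel (Injective.ι F)).over X)
      (Functor.whiskerLeft (Over.forget X).op S.g.hom)
      (Groth.Agent.Lib.Helper6.HyperQI.sections_surjective J hS X (hF X 0))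
    have hδ0 : hS'.δ 0 1 rfl = 0 := by
      have h := hS'.comp_δ 0 1 rfl
      exact (@cancel_epi _ _ _ _ _ _ hepi0 _ _).1 (h.trans Limits.comp_zero.symm)
    exact Limits.IsZero.of_epi_eq_zero (hS'.δ 0 1 rfl) hδ0
  | succ p ih =>
    intro F hF
    let S : ShortComplex (Sheaf J AddCommGrpCat.{u}) :=
      ShortComplex.mk (Injective.ι F) (Limits.cokernel.π (Injective.ι F))
        (Limits.cokernel.condition (Injective.ι F))
    have hS : S.ShortExact :=
      ShortComplex.ShortExact.mk'
        (S.exact_of_g_is_cokernel (Limits.cokernelIsCokernel (Injective.ι F)))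
        (inferInstanceAs (Mono (Injective.ι F)))
        (inferInstanceAs (Epi (Limits.cokernel.π (Injective.ι F))))
    have w' : Functor.whiskerLeft (Over.forget X).op S.f.hom ≫
        Functor.whiskerLeft (Over.forget X).op S.g.hom = 0 := by
      have w0 : S.f.hom ≫ S.g.hom = 0 :=
        (congrArg (fun m => (sheafToPresheaf J AddCommGrpCat.{u}).map m) S.zero).trans
          (Functor.map_zero _ _ _)
      rw [← Functor.whiskerLeft_comp, w0]
      rfl
    have hS' := Groth.Agent.Lib.Helper6.HyperQI.cech_shortExact K
      (Functor.whiskerLeft (Over.forget X).op S.f.hom)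
      (Functor.whiskerLeft (Over.forget X).op S.g.hom) w'
      (fun V => Groth.Agent.Lib.Helper6.HyperQI.sections_injective hS V.left)
      (fun V => Groth.Agent.Lib.Helper6.HyperQI.sections_surjective J hS V.left (hF V.left 0))
      (fun V => Groth.Agent.Lib.Helper6.HyperQI.sections_exact hS V.left)
    haveI : Injective S.X₂ := inferInstanceAs (Injective (Injective.under F))
    have hQ : ∀ (U : C) (q : ℕ),
        Subsingleton (CohSite.HU (Limits.cokernel (Injective.ι F)) (q + 1) U) :=
      fun U q => Groth.Agent.Lib.Helper6.HyperQI.ext_succ_subsingleton_X₃ J hS _ q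
        (hF U (q + 1))
    have hQz : IsZero (Hyper.cechH X K (Limits.cokernel (Injective.ι F)).obj (p + 1)) :=
      ih (Limits.cokernel (Injective.ι F)) hQ
    have hI : IsZero (Hyper.cechH X K (Injective.under F).obj (p + 1 + 1)) :=
      Groth.Agent.S0895.result J X K hK (Injective.under F) (p + 1)
    haveI hepiδ := hS'.epi_δ (p + 1) (p + 1 + 1) rfl hI
    exact Limits.IsZero.of_epi (hS'.δ (p + 1) (p + 1 + 1) rfl) hQz

end Groth.Agent.S3893
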