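import Groth.Statements.S3894
import Mathlib
import Groth.Prelude.Def_Tors
-- import your own Groth.Agent.* helpers here

set_option autoImplicit false
universe u
open CategoryTheory CategoryTheory.Limits Opposite
open Tors

namespace Groth.Agent.S3894

open CategoryTheory CategoryTheory.Limits Opposite
namespace Aux

variable {C : Type u} [SmallCategory C] {J : GrothendieckTopology C} {G : Sheaf J AddCommGrpCat.{u}}

/-- the constant one-point sheaf -/
def ptSheaf (J : GrothendieckTopology C) : Sheaf J (Type u) :=
  ⟨(Functor.const _).obj PUnit, Presheaf.isSheaf_of_isTerminal J Types.isTerminalPUnit⟩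

/-- a compatible family of sections from a global section -/
lemma exists_family (T : Tors.Torsor G) (σ : ⊤_ (Sheaf J (Type u)) ⟶ T.P) :
    ∃ s : ∀ U : Cᵒᵖ, T.P.obj.obj U, ∀ {U V : Cᵒᵖ} (f : U ⟶ V), T.P.obj.map f (s U) = s V := by
  let τ : ptSheaf J ⟶ T.P := terminal.from (ptSheaf J) ≫ σ
  refine ⟨fun U => τ.hom.app U (PUnit.unit : (ptSheaf J).obj.obj U), ?_⟩
  intro U V f
  have := ConcreteCategory.congr_hom (τ.hom.naturality f) (PUnit.unit : (ptSheaf J).obj.obj U)
  exact this.symm

lemma of_family (T : Tors.Torsor G) (s : ∀ U : Cᵒᵖ, T.P.obj.obj U)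
    (hs : ∀ {U V : Cᵒᵖ} (f : U ⟶ V), T.P.obj.map f (s U) = s V) : T.IsTrivial := by
  let φ : ((sheafCompose J (forget AddCommGrpCat.{u})).obj G).obj ≅ T.P.obj :=
    NatIso.ofComponents (fun U => Equiv.toIso (Equiv.ofBijective (fun g : G.obj.obj U => T.vadd g (s U))
      ⟨fun g h hgh => (T.free_transitive (s U) (T.vadd h (s U))).unique hgh rfl,
       fun q => (T.free_transitive (s U) q).exists⟩)) (by
      intro U V f
      ext (g : G.obj.obj U)
      have h1 := T.map_vadd f g (s U)
      rw [hs] at h1
      exact h1.symm)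
  refine ⟨(fullyFaithfulSheafToPresheaf J (Type u)).preimageIso φ, ?_⟩
  intro U g h
  exact T.add_vadd g h (s U)

theorem main (T : Tors.Torsor G) : T.IsTrivial ↔ T.HasSection := by
  constructor
  · rintro ⟨e, he⟩
    refine ⟨ObjectProperty.homMk ⟨fun U => TypeCat.ofHom (fun _ => e.hom.hom.app U (0 : G.obj.obj U)), ?_⟩⟩
    intro U V f
    ext x
    have h1 := ConcreteCategory.congr_hom (e.hom.hom.naturality f) (0 : G.obj.obj U)
    have h2 : (((sheafCompose J (forget AddCommGrpCat.{u})).obj G).obj.map f) (0 : G.obj.obj U) =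
        (0 : G.obj.obj V) := map_zero (G.obj.map f).hom
    have h3 : e.hom.hom.app V ((((sheafCompose J (forget AddCommGrpCat.{u})).obj G).obj.map f)
        (0 : G.obj.obj U)) = T.P.obj.map f (e.hom.hom.app U (0 : G.obj.obj U)) := h1
    rw [h2] at h3
    exact h3
  · rintro ⟨σ⟩
    obtain ⟨s, hs⟩ := exists_family T σ
    exact of_family T s hs

end Aux

/-- A torsor P under an abelian sheaf G is trivial, i.e. equivariantly isomorphic to G acting on itself
by translations, if and only if P has a global section (a morphism from the final sheaf of sets). -/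
theorem result {C : Type u} [SmallCategory C] {J : GrothendieckTopology C}
    {G : Sheaf J AddCommGrpCat.{u}} (T : Tors.Torsor G) : T.IsTrivial ↔ T.HasSection := by
  exact Aux.main T

end Groth.Agent.S3894
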