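import Groth.Statements.S3896
import Mathlib
import Groth.Prelude.Def_SGA4b
import Groth.Prelude.Def_EtOpen
import Groth.Agent.Lib.Helper5.Misc.EtSiteBasic
-- import your own Groth.Agent.* helpers here

set_option autoImplicit false
open CategoryTheory CategoryTheory.Limits AlgebraicGeometry Opposite
universe u
open EtDesc

namespace Groth.Agent.S3896

open CategoryTheory CategoryTheory.Limits AlgebraicGeometry Opposite
namespace Aux
set_option autoImplicit false
set_option backward.isDefEq.respectTransparency false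
set_option linter.style.haveILetI false
set_option linter.unusedSectionVars false
open Groth.Agent.Lib.Helper5

variable {X : Scheme.{u}}

/-- the representable presheaf, lifted -/
noncomputable abbrev P (U : X.Etale) : X.Etaleᵒᵖ ⥤ Type (u + 1) :=
  yoneda.obj U ⋙ uliftFunctor.{u + 1, u}

/-- morphisms out of `repSh U` are sections over `U` -/
noncomputable def homEquiv (U : X.Etale) (G : EtDesc.Sh X) :
    (EtDesc.repSh U ⟶ G) ≃ G.obj.obj (op U) :=
  ((sheafificationAdjunction X.smallEtaleTopology (Type (u + 1))).homEquiv (P U) G).trans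
    (uliftYonedaEquiv.{u + 1} (X := U) (F := G.obj))

/-- sections of `repSh V` locally come from morphisms to `V` -/
lemma locally_rep (V W : X.Etale) (s : (EtDesc.repSh V).obj.obj (op W)) :
    ∀ x : W.left, ∃ (W' : X.Etale) (g : W' ⟶ W) (y : W'.left), Nonempty (W' ⟶ V) ∧ g.left y = x := by
  have h := Presheaf.imageSieve_mem X.smallEtaleTopology
    (toSheafify X.smallEtaleTopology (P V)) (U := op W) s
  rw [EtSiteBasic.mem_smallEtale_iff] at h
  intro x
  obtain ⟨W', g, y, ⟨t, -⟩, hy⟩ := h x
  exact ⟨W', g, y, ⟨t.down⟩, hy⟩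


lemma hom_ofOpen_subsingleton (U : X.Opens) (W : X.Etale) :
    Subsingleton (W ⟶ EtDesc.ofOpen U) := by
  constructor
  intro a b
  apply MorphismProperty.Over.Hom.ext
  rw [← cancel_mono U.ι]
  exact (MorphismProperty.Over.w a).trans (MorphismProperty.Over.w b).symm

/-- a morphism to an open exists when the range is contained in it -/
noncomputable def homOfRange (U : X.Opens) (W : X.Etale) (h : Set.range W.hom ⊆ (U : Set X)) :
    W ⟶ EtDesc.ofOpen U :=
  MorphismProperty.Over.homMk (IsOpenImmersion.lift U.ι W.hom (h.trans (Scheme.Opens.range_ι U).symm.subset))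
    (IsOpenImmersion.lift_fac _ _ _) trivial

lemma range_subset_of_hom (U : X.Opens) (W : X.Etale) (g : W ⟶ EtDesc.ofOpen U) :
    Set.range W.hom ⊆ (U : Set X) := by
  rintro _ ⟨y, rfl⟩
  have h : g.left ≫ U.ι = W.hom := MorphismProperty.Over.w g
  rw [← h]
  exact (g.left y).2

lemma subsingleton_sections (U : X.Opens) (W : X.Etale) :
    Subsingleton ((EtDesc.repSh (EtDesc.ofOpen U)).obj.obj (op W)) := by
  constructor
  intro s t
  have hs := Presheaf.imageSieve_mem X.smallEtaleTopology
    (toSheafify X.smallEtaleTopology (P (EtDesc.ofOpen U))) (U := op W) s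
  have ht := Presheaf.imageSieve_mem X.smallEtaleTopology
    (toSheafify X.smallEtaleTopology (P (EtDesc.ofOpen U))) (U := op W) t
  refine EtSiteBasic.sect_ext _ _ (X.smallEtaleTopology.intersection_covering hs ht) s t ?_
  rintro W' g ⟨⟨a, ha⟩, ⟨b, hb⟩⟩
  have hab : a = b := by
    haveI := hom_ofOpen_subsingleton U W'
    exact ULift.ext _ _ (Subsingleton.elim _ _)
  exact ha.symm.trans ((congrArg _ hab).trans hb)

lemma mono_repSh (U : X.Opens) : Mono (terminal.from (EtDesc.repSh (EtDesc.ofOpen U))) := by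
  rw [EtSiteBasic.mono_iff]
  intro W
  haveI := subsingleton_sections U W
  exact Function.injective_of_subsingleton _

lemma subsingleton_of_mono (F : EtDesc.Sh X) (hF : Mono (terminal.from F)) (W : X.Etale) :
    Subsingleton (F.obj.obj (op W)) := by
  have : Subsingleton (EtDesc.repSh W ⟶ F) :=
    ⟨fun a b => (cancel_mono (terminal.from F)).1 (Subsingleton.elim _ _)⟩
  exact (homEquiv W F).symm.subsingleton

lemma le_iff (U V : X.Opens) :
    U ≤ V ↔ Nonempty (EtDesc.repSh (EtDesc.ofOpen U) ⟶ EtDesc.repSh (EtDesc.ofOpen V)) := by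
  constructor
  · intro h
    have hr : Set.range (EtDesc.ofOpen U).hom ⊆ (V : Set X) := by
      rintro _ ⟨y, rfl⟩
      exact h y.2
    exact ⟨(homEquiv _ _).symm ((toSheafify X.smallEtaleTopology (P (EtDesc.ofOpen V))).app
      (op (EtDesc.ofOpen U)) (ULift.up (homOfRange V (EtDesc.ofOpen U) hr)))⟩
  · rintro ⟨φ⟩ x hx
    obtain ⟨W', g, y, ⟨k⟩, hy⟩ := locally_rep (EtDesc.ofOpen V) (EtDesc.ofOpen U)
      (homEquiv _ _ φ) ⟨x, hx⟩
    have h1 : g.left ≫ U.ι = W'.hom := MorphismProperty.Over.w g
    have h2 : W'.hom y = x := by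
      rw [← h1]
      change U.ι (g.left y) = x
      rw [hy]
      rfl
    rw [← h2]
    exact range_subset_of_hom V W' k ⟨y, rfl⟩


theorem exists_open (F : EtDesc.Sh X) (hF : Mono (terminal.from F)) :
    ∃ U : X.Opens, Nonempty (F ≅ EtDesc.repSh (EtDesc.ofOpen U)) := by
  have hsub := subsingleton_of_mono F hF
  -- the open
  let U : X.Opens := ⟨⋃ (W : {W : X.Etale // Nonempty (F.obj.obj (op W))}), Set.range W.1.hom,
    isOpen_iUnion (fun W => by
      haveI : Etale W.1.hom := W.1.prop
      exact W.1.hom.isOpenMap.isOpen_range)⟩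
  have hr : ∀ W : X.Etale, Nonempty (F.obj.obj (op W)) → Set.range W.hom ⊆ (U : Set X) :=
    fun W hW => by
      rintro _ ⟨y, rfl⟩
      exact Set.mem_iUnion.2 ⟨⟨W, hW⟩, y, rfl⟩
  have h1 : Nonempty (F.obj.obj (op (EtDesc.ofOpen U))) := by
    let S : Sieve (EtDesc.ofOpen U) :=
      { arrows := fun W _ => Nonempty (F.obj.obj (op W))
        downward_closed := by
          rintro W W' g ⟨s⟩ k
          exact ⟨F.obj.map k.op s⟩ }
    have hS : S ∈ X.smallEtaleTopology (EtDesc.ofOpen U) := by
      rw [EtSiteBasic.mem_smallEtale_iff]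
      rintro ⟨x, hx⟩
      obtain ⟨W, y, hy⟩ : ∃ (W : {W : X.Etale // Nonempty (F.obj.obj (op W))}) (y : W.1.left),
          W.1.hom y = x := by
        obtain ⟨W, y, hy⟩ := Set.mem_iUnion.1 hx
        exact ⟨W, y, hy⟩
      refine ⟨W.1, homOfRange U W.1 (hr W.1 W.2), y, W.2, ?_⟩
      apply U.ι.isOpenEmbedding.injective
      have h2 : (homOfRange U W.1 (hr W.1 W.2)).left ≫ U.ι = W.1.hom :=
        MorphismProperty.Over.w _
      change ((homOfRange U W.1 (hr W.1 W.2)).left ≫ U.ι) y = x
      rw [h2]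
      exact hy
    have hsh := ((isSheaf_iff_isSheaf_of_type _ _).1 F.2) S hS
    let fam : Presieve.FamilyOfElements F.obj S.arrows := fun W g hg => Classical.choice hg
    have hcomp : fam.Compatible := by
      intro Y₁ Y₂ Z g₁ g₂ f₁ f₂ h₁ h₂ _
      exact Subsingleton.elim _ _
    obtain ⟨t, -, -⟩ := hsh fam hcomp
    exact ⟨t⟩
  refine ⟨U, ⟨?_⟩⟩
  let α : F.obj ⟶ P (EtDesc.ofOpen U) :=
    { app := fun W => ↾(fun s => ULift.up (homOfRange U W.unop (hr W.unop ⟨s⟩)))
      naturality := by
        intro W W' k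
        ext s
        haveI := hom_ofOpen_subsingleton U W'.unop
        exact ULift.ext _ _ (Subsingleton.elim _ _) }
  let f : F ⟶ EtDesc.repSh (EtDesc.ofOpen U) :=
    ⟨α ≫ toSheafify X.smallEtaleTopology (P (EtDesc.ofOpen U))⟩
  let g : EtDesc.repSh (EtDesc.ofOpen U) ⟶ F := (homEquiv _ _).symm h1.some
  haveI := mono_repSh U
  exact
    { hom := f
      inv := g
      hom_inv_id := (cancel_mono (terminal.from F)).1 (Subsingleton.elim _ _)
      inv_hom_id := (cancel_mono (terminal.from (EtDesc.repSh (EtDesc.ofOpen U)))).1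
        (Subsingleton.elim _ _) }

theorem main (X : Scheme.{u}) :
    (∀ U : X.Opens, Mono (terminal.from (EtDesc.repSh (EtDesc.ofOpen U)))) ∧
    (∀ U V : X.Opens, U ≤ V ↔ Nonempty (EtDesc.repSh (EtDesc.ofOpen U) ⟶ EtDesc.repSh (EtDesc.ofOpen V))) ∧
    (∀ F : EtDesc.Sh X, Mono (terminal.from F) → ∃ U : X.Opens, Nonempty (F ≅ EtDesc.repSh (EtDesc.ofOpen U))) :=
  ⟨mono_repSh, le_iff, exists_open⟩

end Aux

/-- Let X be a scheme. Sending a Zariski open U of X to the etale sheaf of sets attached to the open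
immersion U -> X gives an isomorphism of ordered sets from the opens of X onto the subobjects of the
final object of the etale topos of X: (a) each such sheaf is a subobject of the final sheaf; (b) U ≤
V if and only if there is a morphism between the attached sheaves; (c) every subobject of the final
sheaf is isomorphic to the sheaf attached to some open. -/
theorem result (X : Scheme.{u}) :
    (∀ U : X.Opens, Mono (terminal.from (EtDesc.repSh (EtDesc.ofOpen U)))) ∧
    (∀ U V : X.Opens, U ≤ V ↔ Nonempty (EtDesc.repSh (EtDesc.ofOpen U) ⟶ EtDesc.repSh (EtDesc.ofOpen V))) ∧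
    (∀ F : EtDesc.Sh X, Mono (terminal.from F) → ∃ U : X.Opens, Nonempty (F ≅ EtDesc.repSh (EtDesc.ofOpen U))) := by
  exact Aux.main X

end Groth.Agent.S3896
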