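import Groth.Statements.S3897
import Mathlib
import Groth.Prelude.Def_SGA4b
import Groth.Prelude.Def_EtOpen
import Groth.Agent.Lib.Helper5.Misc.EtSiteBasic
import Groth.Agent.Lib.Helper5.Misc.EtOpenImmSh
import Groth.Agent.S3896
-- import your own Groth.Agent.* helpers here

set_option autoImplicit false
open CategoryTheory CategoryTheory.Limits AlgebraicGeometry Opposite
universe u
open EtDesc

namespace Groth.Agent.S3897

open CategoryTheory CategoryTheory.Limits AlgebraicGeometry Opposite
namespace Aux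
set_option autoImplicit false
set_option backward.isDefEq.respectTransparency false
set_option linter.style.haveILetI false
set_option linter.unusedSectionVars false
open Groth.Agent.Lib.Helper5 Groth.Agent.Lib.Helper5.EtOpenImm Groth.Agent.Lib.Helper5.EtOpenImmSh
open Groth.Agent.S3896.Aux

variable {X : Scheme.{u}} (U : X.Opens)

/-- the functor `V ↦ (V → U → X)` -/
noncomputable abbrev c : U.toScheme.Etale ⥤ X.Etale := EtShriek.compEtale U.ι

/-- the counit `W ×_X U → W` is an isomorphism when `W` lies over `U` -/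
lemma isIso_counit (W : X.Etale) (h : Set.range W.hom ⊆ (U : Set X)) :
    IsIso ((siteAdj U.ι).counit.app W) := by
  have h1 : IsIso ((siteAdj U.ι).counit.app W).left := by
    change IsIso (pullback.fst W.hom U.ι)
    apply isIso_of_isOpenImmersion_of_opensRange_eq_top
    apply TopologicalSpace.Opens.ext
    rw [Scheme.Hom.coe_opensRange, Scheme.Pullback.range_fst, Scheme.Opens.range_ι]
    ext x
    simp only [Set.mem_preimage, TopologicalSpace.Opens.coe_top, Set.mem_univ, iff_true]
    exact h ⟨x, rfl⟩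
  haveI : IsIso ((Scheme.Etale.forget X ⋙ Over.forget X).map ((siteAdj U.ι).counit.app W)) := h1
  exact isIso_of_reflects_iso _ (Scheme.Etale.forget X ⋙ Over.forget X)

/-- sections of `U~` exist only over objects lying over `U` -/
lemma range_subset_of_sect (W : X.Etale)
    (s : (EtDesc.repSh (EtDesc.ofOpen U)).obj.obj (op W)) : Set.range W.hom ⊆ (U : Set X) := by
  rintro _ ⟨x, rfl⟩
  obtain ⟨W', g, y, ⟨k⟩, hy⟩ := locally_rep (EtDesc.ofOpen U) W s x
  have h1 : g.left ≫ W.hom = W'.hom := MorphismProperty.Over.w g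
  have h2 : W.hom x = W'.hom y := by
    rw [← h1, ← hy]; rfl
  rw [h2]
  exact range_subset_of_hom U W' k ⟨y, rfl⟩


/-- `U~` -/
noncomputable abbrev Ut : EtDesc.Sh X := EtDesc.repSh (EtDesc.ofOpen U)

lemma restr_map_app {A B : EtDesc.Sh X} (α : A ⟶ B) (V' : U.toScheme.Etale) :
    ((restrSh U.ι).map α).hom.app (op V') = α.hom.app (op ((c U).obj V')) := rfl

lemma map_inv_map (A : EtDesc.Sh X) {W W' : X.Etale} (ε : W' ⟶ W) [IsIso ε]
    (s : A.obj.obj (op W)) : A.obj.map (inv ε).op (A.obj.map ε.op s) = s := by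
  have : ε.op ≫ (inv ε).op = 𝟙 _ := by rw [← op_comp, IsIso.inv_hom_id]; rfl
  have h := ConcreteCategory.congr_hom (A.obj.map_comp ε.op (inv ε).op) s
  rw [this, A.obj.map_id] at h
  exact h.symm

lemma faithful_aux {A B : EtDesc.Sh X} (πA : A ⟶ Ut U) (α β : A ⟶ B)
    (h : (restrSh U.ι).map α = (restrSh U.ι).map β) : α = β := by
  apply Sheaf.hom_ext
  ext W s
  have hr := range_subset_of_sect U W.unop (πA.hom.app W s)
  haveI := isIso_counit U W.unop hr
  rw [← map_inv_map A ((siteAdj U.ι).counit.app W.unop) s]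
  have n1 := ConcreteCategory.congr_hom
    (α.hom.naturality (inv ((siteAdj U.ι).counit.app W.unop)).op)
    (A.obj.map ((siteAdj U.ι).counit.app W.unop).op s)
  have n2 := ConcreteCategory.congr_hom
    (β.hom.naturality (inv ((siteAdj U.ι).counit.app W.unop)).op)
    (A.obj.map ((siteAdj U.ι).counit.app W.unop).op s)
  refine n1.trans (Eq.trans ?_ n2.symm)
  have key : α.hom.app (op ((c U).obj ((EtCoh.bc U.ι).obj W.unop))) =
      β.hom.app (op ((c U).obj ((EtCoh.bc U.ι).obj W.unop))) :=
    congrArg (fun γ => γ.hom.app (op ((EtCoh.bc U.ι).obj W.unop))) h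
  change B.obj.map _ (α.hom.app (op ((c U).obj ((EtCoh.bc U.ι).obj W.unop))) _) =
    B.obj.map _ (β.hom.app (op ((c U).obj ((EtCoh.bc U.ι).obj W.unop))) _)
  rw [key]


lemma map_map_inv (A : EtDesc.Sh X) {W W' : X.Etale} (ε : W' ⟶ W) [IsIso ε]
    (s : A.obj.obj (op W')) : A.obj.map ε.op (A.obj.map (inv ε).op s) = s := by
  have : (inv ε).op ≫ ε.op = 𝟙 _ := by rw [← op_comp, IsIso.hom_inv_id]; rfl
  have h := ConcreteCategory.congr_hom (A.obj.map_comp (inv ε).op ε.op) s
  rw [this, A.obj.map_id] at h
  exact h.symm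

lemma map_comp_apply' (A : EtDesc.Sh X) {W₁ W₂ W₃ : X.Etale} (f : W₁ ⟶ W₂) (g : W₂ ⟶ W₃)
    (s : A.obj.obj (op W₃)) : A.obj.map (f ≫ g).op s = A.obj.map f.op (A.obj.map g.op s) :=
  ConcreteCategory.congr_hom (A.obj.map_comp g.op f.op) s

/-- the value of the preimage on a section -/
noncomputable def fullFun {A B : EtDesc.Sh X} (πA : A ⟶ Ut U)
    (φ : (restrSh U.ι).obj A ⟶ (restrSh U.ι).obj B) (W : X.Etale) (s : A.obj.obj (op W)) :
    B.obj.obj (op W) :=
  haveI := isIso_counit U W (range_subset_of_sect U W (πA.hom.app (op W) s))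
  B.obj.map (inv ((siteAdj U.ι).counit.app W)).op
    (φ.hom.app (op ((EtCoh.bc U.ι).obj W)) (A.obj.map ((siteAdj U.ι).counit.app W).op s))

lemma map_counit_fullFun {A B : EtDesc.Sh X} (πA : A ⟶ Ut U)
    (φ : (restrSh U.ι).obj A ⟶ (restrSh U.ι).obj B) (W : X.Etale) (s : A.obj.obj (op W)) :
    B.obj.map ((siteAdj U.ι).counit.app W).op (fullFun U πA φ W s) =
      φ.hom.app (op ((EtCoh.bc U.ι).obj W)) (A.obj.map ((siteAdj U.ι).counit.app W).op s) := by
  haveI := isIso_counit U W (range_subset_of_sect U W (πA.hom.app (op W) s))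
  exact map_map_inv B _ _

lemma injective_map_counit (B : EtDesc.Sh X) (W : X.Etale)
    (h : IsIso ((siteAdj U.ι).counit.app W)) :
    Function.Injective (B.obj.map ((siteAdj U.ι).counit.app W).op) := by
  intro x y hxy
  have hx := map_inv_map B ((siteAdj U.ι).counit.app W) x
  have hy := map_inv_map B ((siteAdj U.ι).counit.app W) y
  exact hx.symm.trans ((congrArg _ hxy).trans hy)

lemma map_eq_of_eq (A : EtDesc.Sh X) {W W' : X.Etale} {f g : W' ⟶ W} (h : f = g)
    (s : A.obj.obj (op W)) : A.obj.map f.op s = A.obj.map g.op s := by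
  subst h; rfl

lemma fullFun_natural {A B : EtDesc.Sh X} (πA : A ⟶ Ut U)
    (φ : (restrSh U.ι).obj A ⟶ (restrSh U.ι).obj B) {W W' : X.Etale} (f : W' ⟶ W)
    (s : A.obj.obj (op W)) :
    fullFun U πA φ W' (A.obj.map f.op s) = B.obj.map f.op (fullFun U πA φ W s) := by
  have hW' := isIso_counit U W' (range_subset_of_sect U W' (πA.hom.app (op W') (A.obj.map f.op s)))
  apply injective_map_counit U B W' hW'
  rw [map_counit_fullFun]
  have nat : (c U).map ((EtCoh.bc U.ι).map f) ≫ (siteAdj U.ι).counit.app W =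
      (siteAdj U.ι).counit.app W' ≫ f := (siteAdj U.ι).counit.naturality f
  have hA : A.obj.map ((siteAdj U.ι).counit.app W').op (A.obj.map f.op s) =
      A.obj.map ((c U).map ((EtCoh.bc U.ι).map f)).op
        (A.obj.map ((siteAdj U.ι).counit.app W).op s) :=
    (map_comp_apply' A _ _ s).symm.trans ((map_eq_of_eq A nat.symm s).trans
      (map_comp_apply' A _ _ s))
  have hB : B.obj.map ((siteAdj U.ι).counit.app W').op (B.obj.map f.op (fullFun U πA φ W s)) =
      B.obj.map ((c U).map ((EtCoh.bc U.ι).map f)).op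
        (B.obj.map ((siteAdj U.ι).counit.app W).op (fullFun U πA φ W s)) :=
    (map_comp_apply' B _ _ _).symm.trans ((map_eq_of_eq B nat.symm _).trans
      (map_comp_apply' B _ _ _))
  have n := ConcreteCategory.congr_hom (φ.hom.naturality ((EtCoh.bc U.ι).map f).op)
    (A.obj.map ((siteAdj U.ι).counit.app W).op s)
  refine (congrArg (φ.hom.app (op ((EtCoh.bc U.ι).obj W'))) hA).trans ?_
  refine Eq.trans ?_ hB.symm
  refine n.trans ?_
  exact congrArg (B.obj.map ((c U).map ((EtCoh.bc U.ι).map f)).op)
    (map_counit_fullFun U πA φ W s).symm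

/-- the preimage of a morphism between the restrictions -/
noncomputable def fullHom {A B : EtDesc.Sh X} (πA : A ⟶ Ut U)
    (φ : (restrSh U.ι).obj A ⟶ (restrSh U.ι).obj B) : A ⟶ B :=
  ⟨{ app := fun W => ↾(fun s => fullFun U πA φ W.unop s)
     naturality := by
      intro W W' f
      ext s
      exact fullFun_natural U πA φ f.unop s }⟩

lemma restr_fullHom {A B : EtDesc.Sh X} (πA : A ⟶ Ut U)
    (φ : (restrSh U.ι).obj A ⟶ (restrSh U.ι).obj B) :
    (restrSh U.ι).map (fullHom U πA φ) = φ := by
  apply Sheaf.hom_ext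
  ext V' s
  change fullFun U πA φ ((c U).obj V'.unop) s = φ.hom.app V' s
  have hW := isIso_counit U ((c U).obj V'.unop)
    (range_subset_of_sect U _ (πA.hom.app (op ((c U).obj V'.unop)) s))
  have tri : (c U).map ((siteAdj U.ι).unit.app V'.unop) ≫
      (siteAdj U.ι).counit.app ((c U).obj V'.unop) = 𝟙 _ :=
    (siteAdj U.ι).left_triangle_components V'.unop
  have n := ConcreteCategory.congr_hom (φ.hom.naturality ((siteAdj U.ι).unit.app V'.unop).op)
    (A.obj.map ((siteAdj U.ι).counit.app ((c U).obj V'.unop)).op s)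
  have e1 : A.obj.map ((c U).map ((siteAdj U.ι).unit.app V'.unop)).op
      (A.obj.map ((siteAdj U.ι).counit.app ((c U).obj V'.unop)).op s) = s :=
    (map_comp_apply' A _ _ s).symm.trans ((map_eq_of_eq A tri s).trans
      (ConcreteCategory.congr_hom (A.obj.map_id _) s))
  have e2 : B.obj.map ((c U).map ((siteAdj U.ι).unit.app V'.unop)).op
      (B.obj.map ((siteAdj U.ι).counit.app ((c U).obj V'.unop)).op
        (fullFun U πA φ ((c U).obj V'.unop) s)) = fullFun U πA φ ((c U).obj V'.unop) s :=
    (map_comp_apply' B _ _ _).symm.trans ((map_eq_of_eq B tri _).trans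
      (ConcreteCategory.congr_hom (B.obj.map_id _) _))
  rw [← e2, map_counit_fullFun]
  refine Eq.trans ?_ (congrArg (φ.hom.app V') e1)
  exact n.symm


lemma range_c (V' : U.toScheme.Etale) : Set.range ((c U).obj V').hom ⊆ (U : Set X) := by
  rintro _ ⟨y, rfl⟩
  change U.ι (V'.hom y) ∈ U
  exact (V'.hom y).2

/-- sections of `U~` over objects lying over `U` -/
lemma nonempty_sect (V' : U.toScheme.Etale) :
    Nonempty ((Ut U).obj.obj (op ((c U).obj V'))) :=
  ⟨(toSheafify X.smallEtaleTopology (P (EtDesc.ofOpen U))).app (op ((c U).obj V'))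
    (ULift.up (homOfRange U ((c U).obj V') (range_c U V')))⟩

/-- the restriction of `U~` to `U` is the final sheaf -/
noncomputable def isTerminalRestr : IsTerminal ((restrSh U.ι).obj (Ut U)) := by
  haveI : ∀ V' : (U.toScheme.Etale)ᵒᵖ, Subsingleton (((restrSh U.ι).obj (Ut U)).obj.obj V') :=
    fun V' => subsingleton_sections U ((c U).obj V'.unop)
  haveI : ∀ V' : (U.toScheme.Etale)ᵒᵖ, Nonempty (((restrSh U.ι).obj (Ut U)).obj.obj V') :=
    fun V' => nonempty_sect U V'.unop
  exact IsTerminal.ofUniqueHom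
    (fun T => ⟨{ app := fun V' => ↾(fun _ => Classical.arbitrary _)
                 naturality := by
                  intro V' V'' f
                  ext s
                  exact Subsingleton.elim _ _ }⟩)
    (fun T m => by
      apply Sheaf.hom_ext
      ext V' s
      exact Subsingleton.elim _ _)

/-- product with a terminal object -/
noncomputable def prodTerminalIso {C : Type*} [Category C] (G T : C) [HasBinaryProduct G T]
    (hT : IsTerminal T) : G ⨯ T ≅ G where
  hom := prod.fst
  inv := prod.lift (𝟙 G) (hT.from G)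
  hom_inv_id := by
    apply prod.hom_ext
    · simp
    · exact hT.hom_ext _ _
  inv_hom_id := by simp

/-- the functor in question, with restriction in place of inverse image -/
noncomputable abbrev Φ : Over (Ut U) ⥤ EtDesc.Sh U.toScheme :=
  Over.forget (Ut U) ⋙ restrSh U.ι

instance : (Φ U).Faithful where
  map_injective {A B} α β h := by
    apply Over.OverMorphism.ext
    exact faithful_aux U A.hom α.left β.left h

instance : (Φ U).Full where
  map_surjective {A B} φ := by
    haveI := mono_repSh U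
    refine ⟨Over.homMk (fullHom U A.hom φ)
      ((cancel_mono (terminal.from (Ut U))).1 (Subsingleton.elim _ _)), ?_⟩
    exact restr_fullHom U A.hom φ

instance : (Φ U).EssSurj where
  mem_essImage G := by
    refine ⟨Over.mk (prod.snd : (EtDesc.pushSh U.ι).obj G ⨯ Ut U ⟶ Ut U), ⟨?_⟩⟩
    exact PreservesLimitPair.iso (restrSh U.ι) _ _ ≪≫
      prod.mapIso ((pushRestrIsoSh U.ι).app G) (Iso.refl _) ≪≫
        prodTerminalIso _ _ (isTerminalRestr U)

theorem main (X : Scheme.{u}) (U : X.Opens) :
    (Over.forget (EtDesc.repSh (EtDesc.ofOpen U)) ⋙ EtDesc.pullSh U.ι).IsEquivalence := by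
  haveI : (Φ U).IsEquivalence := { }
  exact Functor.isEquivalence_of_iso
    (Functor.isoWhiskerLeft (Over.forget (Ut U)) (pullIsoSh U.ι)).symm

end Aux

/-- Let U be a Zariski open of the scheme X, with open immersion j : U -> X and attached subterminal
etale sheaf of sets U~ on X. Then the functor from sheaves of sets on X over U~ to sheaves of sets
on U, (F -> U~) ↦ j^* F, is an equivalence of categories. -/
theorem result (X : Scheme.{u}) (U : X.Opens) :
    (Over.forget (EtDesc.repSh (EtDesc.ofOpen U)) ⋙ EtDesc.pullSh U.ι).IsEquivalence := by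
  exact Aux.main X U

end Groth.Agent.S3897
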