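import Groth.Statements.S4065
import Mathlib

set_option autoImplicit false
universe w v
open CategoryTheory
open SGA7

namespace Groth.Agent.S4065

/-- Let P -> F -> R and R -> E -> Q be short exact sequences in an abelian category and X a blended
extension of E by F: i : F -> X and p : X -> E with i, p composing to F -> R -> E and with P -> X ->
E and F -> X -> Q short exact. Then u ↦ 1_X + (X -> E -> Q -> P -> F -> X) is a bijection from
Hom(Q, P) onto the set of endomorphisms φ of X with i φ = i and φ p = p (the automorphisms of the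
blended extension; every such φ is invertible), and it turns addition into composition (a group
isomorphism Hom(Q, P) ≅ Aut(X)). -/
theorem result {C : Type w} [Category.{v} C] [Abelian C]
    {P F R E Q X : C} (a : P ⟶ F) (b : F ⟶ R) (wF : a ≫ b = 0)
    (hF : (ShortComplex.mk a b wF).ShortExact) (c : R ⟶ E) (d : E ⟶ Q) (wE : c ≫ d = 0)
    (hE : (ShortComplex.mk c d wE).ShortExact) (i : F ⟶ X) (p : X ⟶ E) (hip : i ≫ p = b ≫ c)
    (w₁ : (a ≫ i) ≫ p = 0) (h₁ : (ShortComplex.mk (a ≫ i) p w₁).ShortExact)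
    (w₂ : i ≫ (p ≫ d) = 0) (h₂ : (ShortComplex.mk i (p ≫ d) w₂).ShortExact) :
    Set.BijOn (fun v : Q ⟶ P => 𝟙 X + p ≫ d ≫ v ≫ a ≫ i) Set.univ
      {φ : X ⟶ X | i ≫ φ = i ∧ φ ≫ p = p} ∧
      ∀ v v' : Q ⟶ P, 𝟙 X + p ≫ d ≫ (v + v') ≫ a ≫ i =
        (𝟙 X + p ≫ d ≫ v ≫ a ≫ i) ≫ (𝟙 X + p ≫ d ≫ v' ≫ a ≫ i) := by
  have hipd : i ≫ p ≫ d = 0 := w₂
  have haip : a ≫ i ≫ p = 0 := by rw [← Category.assoc]; exact w₁
  have : Mono (a ≫ i) := h₁.mono_f
  have : Epi (p ≫ d) := h₂.epi_g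
  refine ⟨⟨?_, ?_, ?_⟩, ?_⟩
  · intro v _
    refine ⟨?_, ?_⟩
    · rw [Preadditive.comp_add, Category.comp_id, ← Category.assoc i, ← Category.assoc (i ≫ p),
        Category.assoc i, hipd, Limits.zero_comp, add_zero]
    · rw [Preadditive.add_comp, Category.id_comp]
      simp only [Category.assoc]
      rw [haip, Limits.comp_zero, Limits.comp_zero, Limits.comp_zero, add_zero]
  · intro v _ v' _ hvv'
    simp only [add_right_inj] at hvv'
    have h1 : (p ≫ d) ≫ (v ≫ a ≫ i) = (p ≫ d) ≫ (v' ≫ a ≫ i) := by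
      simpa only [Category.assoc] using hvv'
    have h2 := (cancel_epi (p ≫ d)).mp h1
    have h3 : v ≫ (a ≫ i) = v' ≫ (a ≫ i) := h2
    exact (cancel_mono (a ≫ i)).mp h3
  · rintro φ ⟨hφ1, hφ2⟩
    have e1 : i ≫ (φ - 𝟙 X) = 0 := by
      rw [Preadditive.comp_sub, hφ1, Category.comp_id, sub_self]
    have e2 : (φ - 𝟙 X) ≫ p = 0 := by
      rw [Preadditive.sub_comp, hφ2, Category.id_comp, sub_self]
    let ψ' : Q ⟶ X := h₂.exact.desc (φ - 𝟙 X) e1
    have hψ' : (p ≫ d) ≫ ψ' = φ - 𝟙 X := h₂.exact.g_desc (φ - 𝟙 X) e1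
    have e3 : ψ' ≫ p = 0 := by
      rw [← cancel_epi (p ≫ d), ← Category.assoc, hψ', e2, Limits.comp_zero]
    let v : Q ⟶ P := h₁.exact.lift ψ' e3
    have hv : v ≫ (a ≫ i) = ψ' := h₁.exact.lift_f ψ' e3
    refine ⟨v, Set.mem_univ _, ?_⟩
    have : p ≫ d ≫ v ≫ a ≫ i = φ - 𝟙 X := by
      rw [← hψ', ← hv]
      simp only [Category.assoc]
    change 𝟙 X + p ≫ d ≫ v ≫ a ≫ i = φ
    rw [this]
    abel
  · intro v v'
    have hz : ∀ (Z : C) (k : Q ⟶ Z), i ≫ p ≫ d ≫ k = 0 := fun Z k => by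
      rw [← Category.assoc, ← Category.assoc, Category.assoc i, hipd, Limits.zero_comp]
    simp only [Preadditive.add_comp, Preadditive.comp_add, Category.id_comp, Category.comp_id,
      Category.assoc, hz, Limits.comp_zero, add_zero]
    abel

end Groth.Agent.S4065
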