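import Groth.Statements.S5939
import Mathlib

set_option autoImplicit false
universe u
open CategoryTheory AlgebraicGeometry
open Unram17

namespace Groth.Agent.S5939

/-- Let f : X ⟶ Y be faithfully flat, locally of finite presentation and quasi-compact, and let g : Y ⟶
Z be a morphism such that f ≫ g is of finite presentation (locally of finite presentation,
quasi-compact and quasi-separated). Then g is quasi-compact and quasi-separated; together with the
descent of local finite presentation along f this says that g is of finite presentation. This is the
case f quasi-compact. -/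
theorem result {X Y Z : Scheme.{u}} (f : X ⟶ Y) (g : Y ⟶ Z)
    [Surjective f] [Flat f] [LocallyOfFinitePresentation f] [QuasiCompact f]
    [LocallyOfFinitePresentation (f ≫ g)] [QuasiCompact (f ≫ g)] [QuasiSeparated (f ≫ g)] :
    QuasiCompact g ∧ QuasiSeparated g := by
  have hsurj : Function.Surjective f.base := f.surjective
  have hqc : QuasiCompact g := by
    constructor
    intro U hU hUc
    have h1 : g.base ⁻¹' U = f.base '' ((f ≫ g).base ⁻¹' U) := by
      rw [Scheme.Hom.comp_base, TopCat.coe_comp, Set.preimage_comp,
        Set.image_preimage_eq _ hsurj]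
    rw [h1]
    exact (QuasiCompact.isCompact_preimage (f := f ≫ g) U hU hUc).image f.base.hom.continuous
  refine ⟨hqc, ?_⟩
  constructor
  constructor
  intro W hW hWc
  let ff : Limits.pullback (f ≫ g) (f ≫ g) ⟶ Limits.pullback g g :=
    Limits.pullback.map (f ≫ g) (f ≫ g) g g f f (𝟙 Z) ((Category.comp_id _).trans rfl)
      ((Category.comp_id _).trans rfl)
  have hff : QuasiCompact ff :=
    MorphismProperty.pullbackMap (P := @QuasiCompact) (f := f ≫ g) (g := f ≫ g) (f' := g) (g' := g)
      (i₁ := f) (i₂ := f) inferInstance inferInstance rfl rfl
  have hcomm : Limits.pullback.diagonal (f ≫ g) ≫ ff = f ≫ Limits.pullback.diagonal g := by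
    apply Limits.pullback.hom_ext
    · rw [Category.assoc, Category.assoc, Limits.pullback.lift_fst, Limits.pullback.diagonal_fst,
        ← Category.assoc, Limits.pullback.diagonal_fst, Category.id_comp, Category.comp_id]
    · rw [Category.assoc, Category.assoc, Limits.pullback.lift_snd, Limits.pullback.diagonal_snd,
        ← Category.assoc, Limits.pullback.diagonal_snd, Category.id_comp, Category.comp_id]
  have h1 : (Limits.pullback.diagonal g).base ⁻¹' W =
      f.base '' ((Limits.pullback.diagonal (f ≫ g)).base ⁻¹' (ff.base ⁻¹' W)) := by
    rw [← Set.preimage_comp, ← TopCat.coe_comp, ← Scheme.Hom.comp_base, hcomm,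
      Scheme.Hom.comp_base, TopCat.coe_comp, Set.preimage_comp, Set.image_preimage_eq _ hsurj]
  rw [h1]
  refine IsCompact.image ?_ f.base.hom.continuous
  apply QuasiCompact.isCompact_preimage (f := Limits.pullback.diagonal (f ≫ g))
  · exact hW.preimage ff.base.hom.continuous
  · exact QuasiCompact.isCompact_preimage (f := ff) W hW hWc

end Groth.Agent.S5939
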