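import Groth.Statements.S4091
import Groth.Agent.Lib.Helper3.FppfDesc3
import Groth.Agent.S5939

set_option autoImplicit false
universe u
open CategoryTheory MonoidalCategory CartesianMonoidalCategory MonObj GrpObj AlgebraicGeometry CategoryTheory.Limits
open GrpQ

namespace Groth.Agent.S4091

/-- Let p : X → Y and q : Y → S be morphisms of schemes with p surjective, flat and of finite
presentation. If p ≫ q is of finite type then q is of finite type; if p ≫ q is of finite
presentation then q is of finite presentation. -/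
theorem result {X Y S : Scheme.{u}} (p : X ⟶ Y) (q : Y ⟶ S)
    [Surjective p] [Flat p] [LocallyOfFinitePresentation p] [QuasiCompact p] [QuasiSeparated p] :
    ((LocallyOfFiniteType (p ≫ q) ∧ QuasiCompact (p ≫ q)) → (LocallyOfFiniteType q ∧ QuasiCompact q)) ∧
    ((LocallyOfFinitePresentation (p ≫ q) ∧ QuasiCompact (p ≫ q) ∧ QuasiSeparated (p ≫ q)) →
      (LocallyOfFinitePresentation q ∧ QuasiCompact q ∧ QuasiSeparated q)) := by
  have hqc : QuasiCompact (p ≫ q) → QuasiCompact q := by
    intro _
    have hsurj : Function.Surjective p.base := p.surjective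
    constructor
    intro U hU hUc
    have h1 : q.base ⁻¹' U = p.base '' ((p ≫ q).base ⁻¹' U) := by
      rw [Scheme.Hom.comp_base, TopCat.coe_comp, Set.preimage_comp,
        Set.image_preimage_eq _ hsurj]
    rw [h1]
    exact (QuasiCompact.isCompact_preimage (f := p ≫ q) U hU hUc).image p.base.hom.continuous
  refine ⟨?_, ?_⟩
  · rintro ⟨h1, h2⟩
    exact ⟨Groth.Agent.Helper3.FppfDesc.locallyOfFiniteType_of_fppf_cover p q, hqc h2⟩
  · rintro ⟨h1, h2, h3⟩
    obtain ⟨h4, h5⟩ := Groth.Agent.S5939.result p q
    exact ⟨Groth.Agent.Helper3.FppfDesc.locallyOfFinitePresentation_of_fppf_cover p q, h4, h5⟩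

end Groth.Agent.S4091
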