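import Groth.Statements.S4113
import Groth.Agent.S18472
import Groth.Agent.Lib.Helper2.Hopf.PrimeOrder


set_option autoImplicit false
universe u
open CategoryTheory MonoidalCategory CartesianMonoidalCategory MonObj GrpObj AlgebraicGeometry CategoryTheory.Limits
open SGA3

namespace Groth.Agent.S4113

/-- Let A be a finite-dimensional commutative Hopf algebra over a field k (a finite algebraic k-group of
rank dim A). If the rank is invertible in k then A is an etale k-algebra. -/
theorem result (k : Type u) [Field k] (A : Type u) [CommRing A] [HopfAlgebra k A]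
    [Module.Finite k A] (h : (Module.finrank k A : k) ≠ 0) : Algebra.Etale k A := by
  rw [Groth.Agent.S18472.result k A]
  apply le_antisymm (Ideal.pow_le_self two_ne_zero)
  by_contra hcon
  have hcon' : ¬ Groth.Agent.Helper2.HopfLib.augI k A ≤ (Groth.Agent.Helper2.HopfLib.augI k A) ^ 2 :=
    hcon
  obtain ⟨ℓ, hℓ⟩ := CharP.exists k
  rcases CharP.char_is_prime_or_zero k ℓ with hprime | h0
  · haveI : Fact ℓ.Prime := ⟨hprime⟩
    have hdvd := Groth.Agent.Helper2.HopfLib.frob_pow_dvd (k := k) (A := A) ℓ
    have hpos := Groth.Agent.Helper2.HopfLib.finrank_cotangent_pos hcon'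
    have h1 : ℓ ∣ Module.finrank k A := dvd_trans (dvd_pow_self ℓ (by omega)) hdvd
    exact h ((CharP.cast_eq_zero_iff k ℓ _).mpr h1)
  · subst h0
    haveI : CharZero k := CharP.charP_to_charZero k
    obtain ⟨x, d, hx0, hx1, hder⟩ := Groth.Agent.Helper2.HopfLib.exists_pointDer_one hcon'
    have hd := Groth.Agent.Helper2.HopfLib.comul_of_pointDer d hder
    have hli := Groth.Agent.Helper2.HopfLib.linearIndependent_pow_of_tri
      (Module.finrank k A + 1) d hd x hx0 hx1
      (fun j _ => Nat.cast_ne_zero.mpr (Nat.factorial_ne_zero j))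
    have h2 := hli.fintype_card_le_finrank
    rw [Fintype.card_fin, (CartDual.toDual k A).finrank_eq, Subspace.dual_finrank_eq] at h2
    omega

end Groth.Agent.S4113
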