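import Groth.Statements.S4130
import Groth.Agent.Lib.Helper2.Unip.MultPart


set_option autoImplicit false
universe u
open TensorProduct
open SGA3

namespace Groth.Agent.S4130

/-- Let A be a finitely generated commutative and cocommutative Hopf algebra over a field k (a
commutative affine algebraic group G = Spec A). Then G has a largest subgroup M of multiplicative
type and G/M is unipotent: there is a Hopf ideal J of A (defining M) such that A/J is of
multiplicative type (diagonalizable after a faithfully flat extension of k), J is contained in every
Hopf ideal I with A/I of multiplicative type, and J is the ideal generated by the augmentation ideal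
of the image of an injective bialgebra map φ : B → A from a Hopf algebra B (so Spec B = G/M) which
is unipotent in the fixed-vector sense. -/
theorem result (k : Type u) [Field k]
    (A : Type u) [CommRing A] [HopfAlgebra k A] [Algebra.FiniteType k A] [Coalgebra.IsCocomm k A] :
    ∃ (J : Ideal A) (_ : J.IsHopfIdeal k), SGA3b.IsMultTypeConst k (A ⧸ J) ∧
      (∀ (I : Ideal A) [I.IsHopfIdeal k], SGA3b.IsMultTypeConst k (A ⧸ I) → J ≤ I) ∧
      ∃ (B : Type u) (_ : CommRing B) (_ : HopfAlgebra k B) (φ : B →ₐc[k] A), Function.Injective φ ∧
        J = Ideal.map (φ : B →+* A) (RingHom.ker (Bialgebra.counitAlgHom k B)) ∧ HopfRep.IsUnipotent k B := by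
  refine ⟨Groth.Agent.Helper2.MultPart.augJ (Groth.Agent.Helper2.Unip.coconn k A),
    Groth.Agent.Helper2.MultPart.instHopfIdealCoconn,
    Groth.Agent.Helper2.MultPart.isMultTypeConst_quotient,
    fun I _ hI => Groth.Agent.Helper2.MultPart.augJ_le_of_isMultTypeConst I hI,
    Groth.Agent.Helper2.Unip.coconn k A, inferInstance,
    Groth.Agent.Helper2.MultPart.hopfCoconn,
    Groth.Agent.Helper2.MultPart.inclCoconn,
    Groth.Agent.Helper2.MultPart.inclCoconn_injective,
    Groth.Agent.Helper2.MultPart.augJ_coconn_eq,
    Groth.Agent.Helper2.MultPart.isUnipotent_coconn⟩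

end Groth.Agent.S4130
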