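import Groth.Statements.S4194
import Mathlib
import Groth.Agent.S4198

set_option autoImplicit false
open CategoryTheory AlgebraicGeometry Topology TopologicalSpace
open An

namespace Groth.Agent.S4194

section
open AlgebraicGeometry CategoryTheory TopologicalSpace Opposite Topology
open An

/-- two retractions of a ring map with the same kernel agree -/
theorem retraction_unique {A : Type} [CommRing A] (φ : ℂ →+* A) (χ χ' : A →+* ℂ)
    (h : χ.comp φ = RingHom.id ℂ) (h' : χ'.comp φ = RingHom.id ℂ)
    (hk : RingHom.ker χ = RingHom.ker χ') : χ = χ' := by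
  ext a
  have h1 : a - φ (χ a) ∈ RingHom.ker χ := by
    rw [RingHom.mem_ker, map_sub]
    have : χ (φ (χ a)) = χ a := congrArg (fun k : ℂ →+* ℂ => k (χ a)) h
    rw [this, sub_self]
  rw [hk, RingHom.mem_ker, map_sub] at h1
  have : χ' (φ (χ a)) = χ a := congrArg (fun k : ℂ →+* ℂ => k (χ a)) h'
  rw [this, sub_eq_zero] at h1
  exact h1.symm

theorem pt_injective (X : Scheme.{0}) [X.Over SC] : Function.Injective (Pts.pt : Pts X → X) := by
  intro x x' hxx'
  obtain ⟨_, ⟨U, hU, rfl⟩, hpU, -⟩ :=
    X.isBasis_affineOpens.exists_subset_of_mem_open (Set.mem_univ x.pt) isOpen_univ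
  have hO := hU.isOpenImmersion_fromSpec
  have key : ∀ y : Pts X, y.pt ∈ U → ∃ χ : Γ(X, U) →+* ℂ,
      y.1 = Spec.map (CommRingCat.ofHom χ) ≫ hU.fromSpec ∧
      χ.comp ((Scheme.ΓSpecIso (CommRingCat.of ℂ)).inv ≫ (X ↘ SC).appLE ⊤ U le_top).hom =
        RingHom.id ℂ ∧
      hU.fromSpec ⟨RingHom.ker χ, RingHom.ker_isPrime χ⟩ = y.pt := by
    intro y hy
    have hr : Set.range y.1 ⊆ Set.range hU.fromSpec := by
      rintro _ ⟨p, rfl⟩
      rw [eq_cpt p, hU.range_fromSpec]
      exact hy
    let ℓ := IsOpenImmersion.lift hU.fromSpec y.1 hr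
    have hℓ : ℓ ≫ hU.fromSpec = y.1 := IsOpenImmersion.lift_fac _ _ _
    obtain ⟨χc, hχc⟩ := Spec.map_surjective ℓ
    refine ⟨χc.hom, ?_, ?_, ?_⟩
    · rw [← hℓ, ← hχc]
      rfl
    · have h1 := y.2
      rw [← hℓ, ← hχc, Category.assoc,
        ← IsAffineOpen.SpecMap_appLE_fromSpec (X ↘ SC) (isAffineOpen_top _) hU le_top,
        IsAffineOpen.fromSpec_top, Scheme.isoSpec_Spec_inv, ← Spec.map_comp, ← Spec.map_comp,
        Spec.map_eq_id] at h1
      ext z
      exact congrArg (fun k => k.hom z) h1
    · have h2 : y.pt = hU.fromSpec (ℓ cpt) := by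
        show y.1 cpt = _
        rw [← hℓ, Scheme.Hom.comp_apply]
      rw [h2, ← hχc]
      congr 1
  obtain ⟨χ, h1, h2, h3⟩ := key x hpU
  obtain ⟨χ', h1', h2', h3'⟩ := key x' (hxx' ▸ hpU)
  have hk : RingHom.ker χ = RingHom.ker χ' := by
    have := hU.fromSpec.isOpenEmbedding.injective (h3.trans (hxx'.trans h3'.symm))
    exact congrArg PrimeSpectrum.asIdeal this
  have := retraction_unique _ χ χ' h2 h2' hk
  apply Subtype.ext
  rw [h1, h1', this]

theorem main (X Y : Scheme.{0}) [X.Over An.SC] [LocallyOfFiniteType (X ↘ An.SC)]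
    [Y.Over An.SC] [LocallyOfFiniteType (Y ↘ An.SC)] (f : X ⟶ Y) [f.IsOver An.SC] :
    Function.Injective f.base ↔ Function.Injective (An.Pts.map f) := by
  have hfY : f ≫ (Y ↘ SC) = X ↘ SC := comp_over f SC
  have hlft : LocallyOfFiniteType f := by
    have : LocallyOfFiniteType (f ≫ (Y ↘ SC)) := by rw [hfY]; infer_instance
    exact locallyOfFiniteType_of_comp f (Y ↘ SC)
  constructor
  · intro hinj x x' h
    apply pt_injective X
    apply hinj
    have := congrArg Pts.pt h
    rwa [Pts.pt_map, Pts.pt_map] at this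
  · intro hinj p q hpq
    by_contra hne
    let W := Limits.pullback f f
    have hWlft : LocallyOfFiniteType (W ↘ SC) :=
      inferInstanceAs (LocallyOfFiniteType (Limits.pullback.fst f f ≫ (X ↘ SC)))
    have hXN : IsLocallyNoetherian X := LocallyOfFiniteType.isLocallyNoetherian (X ↘ SC)
    have hWN : IsLocallyNoetherian W := LocallyOfFiniteType.isLocallyNoetherian (W ↘ SC)
    have hJ : JacobsonSpace W := LocallyOfFiniteType.jacobsonSpace (W ↘ SC)
    have hqs : QuasiSeparated f := inferInstance
    let Δ := Limits.pullback.diagonal f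
    have hΔ : LocallyOfFinitePresentation Δ := inferInstance
    have hT : IsLocallyConstructible (Set.range Δ)ᶜ := by
      have h0 : IsLocallyConstructible (Set.range Δ) := by
        have := Δ.isLocallyConstructible_image IsLocallyConstructible.univ
        rw [Set.image_univ] at this
        exact this
      intro x
      obtain ⟨U, hU, hUo, hUc⟩ := h0 x
      refine ⟨U, hU, hUo, ?_⟩
      rw [Set.preimage_compl]
      exact hUc.compl
    have hne' : ((Set.range Δ)ᶜ).Nonempty := by
      obtain ⟨z, hz1, hz2⟩ := Scheme.Pullback.exists_preimage_pullback p q hpq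
      refine ⟨z, ?_⟩
      rintro ⟨r, rfl⟩
      apply hne
      rw [← hz1, ← hz2, ← Scheme.Hom.comp_apply, ← Scheme.Hom.comp_apply,
        Limits.pullback.diagonal_fst, Limits.pullback.diagonal_snd]
    obtain ⟨z, hz, hzc⟩ := Groth.Agent.S4198.exists_closedPoint hT hne'
    obtain ⟨w, rfl⟩ := Groth.Agent.S4198.exists_pts_of_isClosed W z hzc
    have h1 : Pts.map (Limits.pullback.fst f f) w = Pts.map (Limits.pullback.snd f f) w :=
      hinj (Pts.map_pullback_condition f f w)
    have h2 : w.1 ≫ Limits.pullback.fst f f = w.1 ≫ Limits.pullback.snd f f :=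
      congrArg Subtype.val h1
    have h3 : w.1 = (w.1 ≫ Limits.pullback.fst f f) ≫ Δ := by
      apply Limits.pullback.hom_ext
      · rw [Category.assoc, Limits.pullback.diagonal_fst, Category.comp_id]
      · rw [Category.assoc, Limits.pullback.diagonal_snd, Category.comp_id, h2]
    apply hz
    show w.1 cpt ∈ Set.range Δ
    rw [h3, Scheme.Hom.comp_apply]
    exact ⟨_, rfl⟩


end


/-- A morphism f : X → Y of schemes locally of finite type over ℂ is injective (on underlying points) if
and only if the induced map X(ℂ) → Y(ℂ) is injective. -/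
theorem result (X Y : Scheme.{0}) [X.Over An.SC] [LocallyOfFiniteType (X ↘ An.SC)]
    [Y.Over An.SC] [LocallyOfFiniteType (Y ↘ An.SC)] (f : X ⟶ Y) [f.IsOver An.SC] :
    Function.Injective f.base ↔ Function.Injective (An.Pts.map f) := by
  classical
  exact main X Y f

end Groth.Agent.S4194
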