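import Groth.Statements.S4196
import Mathlib

set_option autoImplicit false
open CategoryTheory AlgebraicGeometry Topology TopologicalSpace
open An

namespace Groth.Agent.S4196

section
open AlgebraicGeometry CategoryTheory TopologicalSpace Opposite
open An

theorem ev_res {X : Scheme.{0}} [X.Over SC] (x : Pts X) {U U' : X.Opens} (i : U ⟶ U')
    (h : x.pt ∈ U) (t : Γ(X, U')) :
    x.ev U h (X.presheaf.map i.op t) = x.ev U' (i.le h) t := by
  unfold Pts.ev
  congr 1
  have := Scheme.Hom.map_appLE x.1 (Pts.top_le_preimage x h) i.op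
  exact congrArg (fun k => k.hom t) this

theorem range_map {X Y : Scheme.{0}} [X.Over SC] [Y.Over SC] (f : X ⟶ Y) [f.IsOver SC]
    [IsOpenImmersion f] : Set.range (Pts.map f) = Pts.pt ⁻¹' (f.opensRange : Set Y) := by
  ext y
  constructor
  · rintro ⟨x, rfl⟩
    rw [Set.mem_preimage, Pts.pt_map]
    exact ⟨x.pt, rfl⟩
  · intro hy
    have hr : Set.range y.1 ⊆ Set.range f := by
      rintro _ ⟨p, rfl⟩
      rw [eq_cpt p]
      exact hy
    refine ⟨⟨IsOpenImmersion.lift f y.1 hr, ?_⟩, ?_⟩
    · have h1 : IsOpenImmersion.lift f y.1 hr ≫ f = y.1 := IsOpenImmersion.lift_fac f y.1 hr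
      rw [← comp_over f SC, ← Category.assoc, h1]
      exact y.2
    · apply Subtype.ext
      exact IsOpenImmersion.lift_fac f y.1 hr

theorem basic_eq {X Y : Scheme.{0}} [X.Over SC] [Y.Over SC] (f : X ⟶ Y) [f.IsOver SC]
    [IsOpenImmersion f] (U : X.Opens) (s : Γ(X, U)) (V : Set ℂ) :
    Pts.basicSet U s V = Pts.map f ⁻¹' Pts.basicSet (f ''ᵁ U) ((f.appIso U).inv s) V := by
  rw [Pts.preimage_basicSet]
  have hU : f ⁻¹ᵁ f ''ᵁ U = U := f.preimage_image_eq U
  have hs : s = X.presheaf.map (eqToHom hU.symm).op (f.app (f ''ᵁ U) ((f.appIso U).inv s)) := by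
    have h1 := Scheme.Hom.appIso_hom f U
    have h2 : (f.appIso U).hom ((f.appIso U).inv s) = s := by
      rw [← CommRingCat.comp_apply, Iso.inv_hom_id]
      rfl
    rw [h1] at h2
    exact h2.symm
  ext x
  constructor
  · rintro ⟨h, hv⟩
    have h' : x.pt ∈ f ⁻¹ᵁ f ''ᵁ U := by rw [hU]; exact h
    refine ⟨h', ?_⟩
    rw [hs, ev_res x (eqToHom hU.symm) h] at hv
    exact hv
  · rintro ⟨h, hv⟩
    have h' : x.pt ∈ U := by rw [← hU]; exact h
    refine ⟨h', ?_⟩
    rw [hs, ev_res x (eqToHom hU.symm) h']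
    exact hv

theorem main (X Y : Scheme.{0}) [X.Over An.SC] [LocallyOfFiniteType (X ↘ An.SC)]
    [Y.Over An.SC] [LocallyOfFiniteType (Y ↘ An.SC)] (f : X ⟶ Y) [f.IsOver An.SC]
    [IsOpenImmersion f] :
    Topology.IsOpenEmbedding (An.Pts.map f) := by
  refine ⟨⟨⟨?_⟩, ?_⟩, ?_⟩
  · show Pts.topologicalSpace = TopologicalSpace.induced (Pts.map f) Pts.topologicalSpace
    apply le_antisymm
    · exact (Pts.continuous_map f).le_induced
    · unfold Pts.topologicalSpace
      rw [induced_generateFrom_eq]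
      apply le_generateFrom
      rintro _ ⟨U, s, V, hV, rfl⟩
      apply isOpen_generateFrom_of_mem
      exact ⟨_, ⟨f ''ᵁ U, (f.appIso U).inv s, V, hV, rfl⟩, (basic_eq f U s V).symm⟩
  · intro x x' h
    apply Subtype.ext
    have h1 : x.1 ≫ f = x'.1 ≫ f := congrArg Subtype.val h
    exact (cancel_mono f).1 h1
  · rw [range_map]
    exact Pts.isOpen_preimage_pt _


end


/-- The direction from schemes to spaces: an open immersion f : X → Y of schemes locally of finite type
over ℂ, compatible with the structure morphisms, induces an open embedding X(ℂ) → Y(ℂ) of the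
associated spaces of complex points. (The published converse concerns analytic spaces, not bare
topological spaces, and is not stated here.) -/
theorem result (X Y : Scheme.{0}) [X.Over An.SC] [LocallyOfFiniteType (X ↘ An.SC)]
    [Y.Over An.SC] [LocallyOfFiniteType (Y ↘ An.SC)] (f : X ⟶ Y) [f.IsOver An.SC] [IsOpenImmersion f] :
    Topology.IsOpenEmbedding (An.Pts.map f) := by
  classical
  exact main X Y f

end Groth.Agent.S4196
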