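import Groth.Statements.S4243
import Mathlib

set_option autoImplicit false
open SGA4h

namespace Groth.Agent.S4243

section
open scoped BigOperators

theorem main (k : Type) [Field k] [Fintype k] (r d : ℕ)
    (P : MvPolynomial (Fin (r + 1)) k) (hP : P.IsHomogeneous d) (hP0 : P ≠ 0)
    (hvan : ∀ x : Fin (r + 1) → k, MvPolynomial.eval x P = 0) :
    Fintype.card k + 1 ≤ d := by
  classical
  by_contra hd
  have hd : d ≤ Fintype.card k := by omega
  have hq : 2 ≤ Fintype.card k := by
    have := Fintype.one_lt_card (α := k)
    omega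
  have hdeg : ∀ m ∈ P.support, ∑ j, m j = d := by
    intro m hm
    have hc : P.coeff m ≠ 0 := MvPolynomial.mem_support_iff.mp hm
    have := hP hc
    rw [← Finsupp.degree_eq_sum]
    rw [← this, Finsupp.degree_eq_weight_one]
    rfl
  -- every monomial in the support has some exponent ≥ q
  have h1 : ∀ m ∈ P.support, ∃ i, Fintype.card k ≤ m i := by
    intro m hm
    by_contra hcon
    simp only [not_exists, not_le] at hcon
    have hc : P.coeff m ≠ 0 := MvPolynomial.mem_support_iff.mp hm
    have htd : P.totalDegree = m.degree := by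
      rw [hP.totalDegree hP0, Finsupp.degree_eq_sum, hdeg m hm]
    obtain ⟨s, _, hs⟩ := MvPolynomial.combinatorial_nullstellensatz_exists_eval_nonzero P m hc htd
      (fun _ => Finset.univ) (by simpa using hcon)
    exact hs (hvan s)
  have h2 : ∀ m ∈ P.support, ∃ i, m = Finsupp.single i (Fintype.card k) := by
    intro m hm
    obtain ⟨i, hi⟩ := h1 m hm
    refine ⟨i, ?_⟩
    have hs := hdeg m hm
    rw [← Finset.add_sum_erase _ _ (Finset.mem_univ i)] at hs
    have hz : ∑ j ∈ Finset.univ.erase i, m j = 0 := by omega
    have hmi : m i = Fintype.card k := by omega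
    rw [Finset.sum_eq_zero_iff] at hz
    ext j
    by_cases hj : j = i
    · subst hj; simp [hmi]
    · rw [Finsupp.single_apply, if_neg (Ne.symm hj)]
      exact hz j (Finset.mem_erase.mpr ⟨hj, Finset.mem_univ j⟩)
  obtain ⟨m0, hm0⟩ : P.support.Nonempty := by
    rw [Finset.nonempty_iff_ne_empty, Ne, MvPolynomial.support_eq_empty]
    exact hP0
  obtain ⟨i, hi⟩ := h2 m0 hm0
  have h3 := hvan (Pi.single i 1)
  rw [MvPolynomial.eval_eq', Finset.sum_eq_single m0] at h3
  · have hc : P.coeff m0 ≠ 0 := MvPolynomial.mem_support_iff.mp hm0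
    apply hc
    have hone : ∏ j, (Pi.single i (1:k) : Fin (r+1) → k) j ^ (m0 j) = 1 := by
      apply Finset.prod_eq_one
      intro j _
      by_cases hj : j = i
      · subst hj; simp
      · rw [hi, Finsupp.single_apply, if_neg (Ne.symm hj), pow_zero]
    rw [hone, mul_one] at h3
    exact h3
  · intro m hm hne
    obtain ⟨j, hj⟩ := h2 m hm
    have hji : j ≠ i := by
      intro h
      apply hne
      rw [hj, hi, h]
    have : ∏ l, (Pi.single i (1:k) : Fin (r+1) → k) l ^ (m l) = 0 := by
      apply Finset.prod_eq_zero (Finset.mem_univ j)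
      rw [Pi.single_apply, if_neg hji, hj, Finsupp.single_apply, if_pos rfl]
      exact zero_pow (by omega)
    rw [this, mul_zero]
  · intro h
    exact absurd hm0 h


end


/-- Let k be a finite field with q elements and P a nonzero homogeneous polynomial of degree d in r+1
variables over k. If P vanishes at every point of k^{r+1} (that is, the hypersurface P = 0 in
projective r-space passes through every rational point), then d ≥ q + 1. -/
theorem result (k : Type) [Field k] [Fintype k] (r d : ℕ)
    (P : MvPolynomial (Fin (r + 1)) k) (hP : P.IsHomogeneous d) (hP0 : P ≠ 0)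
    (hvan : ∀ x : Fin (r + 1) → k, MvPolynomial.eval x P = 0) :
    Fintype.card k + 1 ≤ d := by
  classical
  exact main k r d P hP hP0 hvan

end Groth.Agent.S4243
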