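import Groth.Statements.S4276
import Mathlib
import Groth.Agent.Lib.Helper1.TauChi1

set_option autoImplicit false
universe u
open CategoryTheory CategoryTheory.Limits AlgebraicGeometry
open Pic13

namespace Groth.Agent.S4276

/-- Let k be an algebraically closed field, X a proper k-scheme of dimension ≤ d and L an invertible
O_X-module which is τ-equivalent to zero (some positive power of L is algebraically equivalent to
zero). Then χ(F ⊗ L) = χ(F) for every coherent O_X-module F (Euler characteristics computed in
degrees ≤ d). -/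
theorem result (k : Type u) [Field k] [IsAlgClosed k] (X : Scheme.{u}) [X.Over (Spec (CommRingCat.of k))]
    [IsProper (X ↘ Spec (CommRingCat.of k))] (d : ℕ) (hd : topologicalKrullDim X ≤ d)
    (L : X.Modules) (hL : PicF.IsInvertible L) (hτ : Pic13.IsTauEquivZero k X L) (F : X.Modules) (hF : Coh.IsCoh F) :
    FGA.eulerCharLE k X (CohB1.tensorMod F L) d = FGA.eulerCharLE k X F d := by
  haveI : AlgebraicGeometry.IsNoetherian X := Groth.Agent.Helper1.Euler.isNoetherian_of_proper k X
  have hLc : Coh.IsCoh L := Groth.Agent.Helper1.InvQc.isCoh_of_isInvertible _ hL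
  have hsupp : topologicalKrullDim ↥(CohB1.support F) ≤ ((d : ℕ) : WithBot ℕ∞) :=
    le_trans (Topology.IsEmbedding.subtypeVal.isInducing.topologicalKrullDim_le) hd
  rw [Groth.Agent.Helper1.FGAInt.eulerCharLE_eq_euler k X d hd,
    Groth.Agent.Helper1.FGAInt.eulerCharLE_eq_euler k X d hd,
    ← Groth.Agent.Helper1.Euler.eulerHom_clSub k X _ hF,
    ← Groth.Agent.Helper1.Euler.eulerHom_clSub k X _
      (Groth.Agent.Helper1.Euler.isCoh_tensor _ _ hF hLc),
    ← Groth.Agent.Helper1.Snap.T_clSub' L hL F hF]
  exact Groth.Agent.Helper1.TauChi.tau_main k X L hL hτ (d + 1) _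
    (Groth.Agent.Helper1.Snap.clSub_mem_FilLT d F hF hsupp)

end Groth.Agent.S4276
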