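import Groth.Statements.S4278
import Mathlib
import Groth.Agent.Lib.Helper1.TauChi1

set_option autoImplicit false
universe u
open CategoryTheory CategoryTheory.Limits AlgebraicGeometry
open Pic13

namespace Groth.Agent.S4278

/-- Let k be an algebraically closed field, X a proper k-scheme and L an invertible O_X-module which is
τ-equivalent to zero. Then L is numerically equivalent to zero: its restriction to every integral
closed curve Y ⊆ X has degree χ(L|_Y) - χ(O_Y) = 0. -/
theorem result (k : Type u) [Field k] [IsAlgClosed k] (X : Scheme.{u}) [X.Over (Spec (CommRingCat.of k))]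
    [IsProper (X ↘ Spec (CommRingCat.of k))]
    (L : X.Modules) (hL : PicF.IsInvertible L) (hτ : Pic13.IsTauEquivZero k X L) : Pic13.IsNumEquivZero k X L := by
  haveI : AlgebraicGeometry.IsNoetherian X := Groth.Agent.Helper1.Euler.isNoetherian_of_proper k X
  intro Y ι _ hint hdim
  haveI := hint
  have hdim' : topologicalKrullDim Y ≤ ((1 : ℕ) : WithBot ℕ∞) := by
    rw [hdim]; exact le_of_eq Nat.cast_one.symm
  rw [Groth.Agent.Helper1.NumEq.curveDeg_eq_lam_quot k X ι hdim' L hL,
    Groth.Agent.Helper1.SnapPos.lam_apply, pow_one]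
  obtain ⟨q, hq⟩ : ∃ q, q = KZero.clSub (Groth.Agent.Helper1.Dv.PC X) (ClSub.quotMod ι.ker) :=
    ⟨_, rfl⟩
  rw [← hq]
  change Groth.Agent.Helper1.Euler.eulerHom k X (Groth.Agent.Helper1.Snap.T L hL q - q) = 0
  have hqmem : q ∈ Groth.Agent.Helper1.Snap.FilLT X 2 := by
    rw [hq]
    apply Groth.Agent.Helper1.Snap.clSub_mem_FilLT 1 _
      (Groth.Agent.Helper1.CurveDual.isCoh_quotMod ι.ker)
    rw [Groth.Agent.Helper1.NM.support_quotMod]
    have hr : ((ι.ker).support : Set X) = Set.range ι := by
      rw [Scheme.Hom.support_ker, ι.isClosedEmbedding.isClosed_range.closure_eq]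
    have h1 : topologicalKrullDim ↥(Set.range ι) = topologicalKrullDim Y :=
      (IsHomeomorph.topologicalKrullDim_eq _
        (ι.isClosedEmbedding.isEmbedding.toHomeomorph).isHomeomorph).symm
    rw [hr, h1]
    exact hdim'
  rw [map_sub, Groth.Agent.Helper1.TauChi.tau_main k X L hL hτ 2 q hqmem, sub_self]

end Groth.Agent.S4278
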