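import Groth.Statements.S4280
import Mathlib
import Groth.Agent.Lib.Helper1.TauChi2
import Groth.Agent.Lib.Helper1.CurveCart1

set_option autoImplicit false
universe u
open CategoryTheory CategoryTheory.Limits AlgebraicGeometry
open Pic13

namespace Groth.Agent.S4280

/-- Let k be an algebraically closed field, X a proper k-scheme carrying an ample invertible module H,
and L an invertible O_X-module, with inverse L', which is τ-equivalent to zero. Then L^{⊗ m} ⊗ H and
L'^{⊗ m} ⊗ H are ample for every m ≥ 0. -/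
theorem result (k : Type u) [Field k] [IsAlgClosed k] (X : Scheme.{u}) [X.Over (Spec (CommRingCat.of k))]
    [IsProper (X ↘ Spec (CommRingCat.of k))]
    (H : X.Modules) (hH : CohB1.IsAmple H) (L L' : X.Modules) (hL : PicF.IsInvertible L)
    (hLL' : Nonempty (CohB1.tensorMod L L' ≅ Coh.structureModule X)) (hτ : Pic13.IsTauEquivZero k X L) (m : ℕ) :
    CohB1.IsAmple (CohB1.tensorMod (CohB1.tensorPow L m) H) ∧ CohB1.IsAmple (CohB1.tensorMod (CohB1.tensorPow L' m) H) := by
  haveI : AlgebraicGeometry.IsNoetherian X := Groth.Agent.Helper1.Euler.isNoetherian_of_proper k X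
  obtain ⟨iL⟩ := hLL'
  have hL' : PicF.IsInvertible L' :=
    Groth.Agent.Helper1.CurveCart.isInvertible_left_of_tensor_iso hL
      (Groth.Agent.Helper1.TildeTens.tensorModComm _ _ ≪≫ iL)
  have h1 := fun D x hx m => Groth.Agent.Helper1.TauChi.tau_pow k X L hL hτ D x hx m
  have h2 := fun D x hx m =>
    Groth.Agent.Helper1.TauChi.tau_inv_pow k X L L' hL hL' iL hτ D x hx m
  exact ⟨Groth.Agent.Helper1.TauChi.ample_pow_tensor_gen k X L hL h1 H hH m,
    Groth.Agent.Helper1.TauChi.ample_pow_tensor_gen k X L' hL' h2 H hH m⟩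

end Groth.Agent.S4280
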