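import Groth.Statements.S4332
import Mathlib
import Groth.Statements.S4332
import Groth.Agent.Lib.Helper9.FE.ARGlue
import Groth.Agent.Lib.Helper9.FE.EtHColim
import Groth.Agent.Lib.Helper5.Misc.EtStalk
-- import your own Groth.Agent.* helpers here

set_option autoImplicit false
universe u
open CategoryTheory CategoryTheory.Limits AlgebraicGeometry Opposite
attribute [local instance] HasDerivedCategory.standard
open EtSix

namespace Groth.Agent.S4332

open CategoryTheory CategoryTheory.Limits AlgebraicGeometry Opposite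
open EtSix
open CategoryTheory CategoryTheory.Limits Abelian Opposite
namespace Aux
set_option backward.isDefEq.respectTransparency false
set_option linter.style.haveILetI false
set_option linter.unusedSectionVars false

section Abstract
universe w w' v v' u₁ u₂
variable {C : Type u₁} [Category.{v} C] [Abelian C] {D : Type u₂} [Category.{v'} D] [Abelian D]
  [HasExt.{w} C] [HasExt.{w'} D]
  (U : C ⥤ D) [U.Additive] [PreservesFiniteLimits U] [PreservesFiniteColimits U]
  {P : C} {Z : D} (ι : Z ⟶ U.obj P)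

/-- the comparison map -/
noncomputable def Psi (F : C) (n : ℕ) : Ext.{w} P F n →+ Ext.{w'} Z (U.obj F) n :=
  AddMonoidHom.comp
    (AddMonoidHom.mk' (fun e => (Ext.mk₀ ι).comp e (zero_add n)) (fun _ _ => Ext.comp_add _ _ _ _))
    (U.mapExtAddHom P F n)

lemma Psi_apply (F : C) (n : ℕ) (e : Ext.{w} P F n) :
    Psi U ι F n e = (Ext.mk₀ ι).comp (e.mapExactFunctor U) (zero_add n) := rfl

lemma Psi_comp_mk₀ {F F' : C} (φ : F ⟶ F') (n : ℕ) (e : Ext.{w} P F n) :
    Psi U ι F' n (e.comp (Ext.mk₀ φ) (add_zero n)) =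
      (Psi U ι F n e).comp (Ext.mk₀ (U.map φ)) (add_zero n) := by
  rw [Psi_apply, Psi_apply, Ext.mapExactFunctor_comp, Ext.mapExactFunctor_mk₀]
  exact (Ext.comp_assoc _ _ _ (zero_add n) (add_zero n) (by omega)).symm

lemma Psi_comp_extClass {S : ShortComplex C} (hS : S.ShortExact) (n : ℕ) (e : Ext.{w} P S.X₃ n) :
    Psi U ι S.X₁ (n + 1) (e.comp hS.extClass rfl) =
      (Psi U ι S.X₃ n e).comp (hS.map_of_exact U).extClass rfl := by
  rw [Psi_apply, Psi_apply, Ext.mapExactFunctor_comp, Ext.mapExactFunctor_extClass]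
  exact (Ext.comp_assoc _ _ _ (zero_add n) rfl (by omega)).symm

attribute [local instance] Ext.subsingleton_of_injective in
/-- the comparison theorem: if `Ψ⁰` is bijective and every object embeds in an injective object
whose image under `U` is `Ext(Z, -)`-acyclic, then all `Ψⁿ` are bijective. -/
theorem Psi_bijective
    (h0 : ∀ F : C, Function.Bijective (Psi.{w, w'} U ι F 0))
    (hE : ∀ F : C, ∃ (M : C) (u : F ⟶ M), Mono u ∧ Injective M ∧
      ∀ (k : ℕ) (t : Ext.{w'} Z (U.obj M) (k + 1)), t = 0)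
    (n : ℕ) : ∀ F : C, Function.Bijective (Psi.{w, w'} U ι F n) := by
  induction n with
  | zero => exact h0
  | succ n hn =>
    intro F
    obtain ⟨M, u, hu, hM, hacyc⟩ := hE F
    let S : ShortComplex C := ShortComplex.mk u (cokernel.π u) (cokernel.condition u)
    have hS : S.ShortExact := { exact := ShortComplex.exact_cokernel u }
    haveI : Injective S.X₂ := hM
    exact AddMonoidHom.bijective_of_surjective_of_bijective_of_right_exact
      ((Ext.mk₀ S.g).postcomp P (add_zero n)) (hS.extClass.postcomp P rfl)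
      ((Ext.mk₀ (U.map S.g)).postcomp Z (add_zero n)) ((hS.map_of_exact U).extClass.postcomp Z rfl)
      (Psi U ι S.X₂ n) (Psi U ι S.X₃ n) (Psi U ι S.X₁ (n + 1))
      (AddMonoidHom.ext fun e => (Psi_comp_mk₀ U ι S.g n e).symm)
      (AddMonoidHom.ext fun e => (Psi_comp_extClass U ι hS n e).symm)
      ((ShortComplex.ab_exact_iff_function_exact _).mp
        (Ext.covariant_sequence_exact₃' P hS n (n + 1) rfl))
      ((ShortComplex.ab_exact_iff_function_exact _).mp
        (Ext.covariant_sequence_exact₃' Z (hS.map_of_exact U) n (n + 1) rfl))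
      (hn S.X₂).surjective (hn S.X₃)
      (fun x₁ ↦ Ext.covariant_sequence_exact₁ _ hS x₁ (by subsingleton) rfl)
      (fun y₁ ↦ Ext.covariant_sequence_exact₁ _ (hS.map_of_exact U) y₁ (hacyc n _) rfl)

end Abstract

section Gen
variable {C : Type (u + 1)} [Category.{u} C] {J : GrothendieckTopology C}
  {A : Type (u + 2)} [Category.{u + 1} A] [Abelian A] [HasProducts.{u} A]
  [HasColimitsOfSize.{u, u} A] [HasProducts.{u + 1} A] [AB5OfSize.{u, u} A] [HasSheafify J A]
  {ι : Type (u + 1)} (Φ : ι → GrothendieckTopology.Point.{u} J)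

/-- the product of the skyscraper sheaves -/
noncomputable abbrev NN (As : ι → A) : Sheaf J A :=
  ∏ᶜ fun i => (Φ i).skyscraperSheafFunctor.obj (As i)

/-- the adjunction at `i` -/
noncomputable abbrev adjS (i : ι) : (Φ i).sheafFiber (A := A) ⊣ (Φ i).skyscraperSheafFunctor :=
  (Φ i).skyscraperSheafAdjunction

/-- the map induced by a family of maps -/
noncomputable abbrev NNmap {As Bs : ι → A} (f : ∀ i, As i ⟶ Bs i) : NN Φ As ⟶ NN Φ Bs :=
  Limits.Pi.map fun i => (Φ i).skyscraperSheafFunctor.map (f i)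

lemma NNmap_π {As Bs : ι → A} (f : ∀ i, As i ⟶ Bs i) (i : ι) :
    NNmap Φ f ≫ Pi.π (fun i => (Φ i).skyscraperSheafFunctor.obj (Bs i)) i =
      Pi.π (fun i => (Φ i).skyscraperSheafFunctor.obj (As i)) i ≫
        (Φ i).skyscraperSheafFunctor.map (f i) :=
  Limits.Pi.map_π _ _

lemma injective_NN (As : ι → A) (h : ∀ i, Injective (As i)) : Injective (NN Φ As) := by
  haveI : ∀ i, Injective ((Φ i).skyscraperSheafFunctor.obj (As i)) := fun i =>
    (adjS Φ i).map_injective (As i) (h i)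
  infer_instance

instance mono_NNmap {As Bs : ι → A} (f : ∀ i, As i ⟶ Bs i) [∀ i, Mono (f i)] :
    Mono (NNmap Φ f) := by
  haveI : ∀ i, Mono ((Φ i).skyscraperSheafFunctor.map (f i)) := fun i => inferInstance
  infer_instance

lemma homEquiv_symm_zero (i : ι) (F : Sheaf J A) (B : A) :
    ((adjS Φ i).homEquiv F B).symm 0 = 0 := by
  rw [Adjunction.homEquiv_counit, Functor.map_zero, zero_comp]

lemma NNmap_zero {As Bs : ι → A} (f : ∀ i, As i ⟶ Bs i) {Cs : ι → A} (h : ∀ i, Bs i ⟶ Cs i)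
    (w : ∀ i, f i ≫ h i = 0) : NNmap Φ f ≫ NNmap Φ h = 0 := by
  apply Pi.hom_ext
  intro i
  rw [Category.assoc, NNmap_π, ← Category.assoc, NNmap_π, Category.assoc, ← Functor.map_comp, w,
    zero_comp]
  haveI : ((Φ i).skyscraperSheafFunctor (A := A)).PreservesZeroMorphisms := inferInstance
  rw [Functor.map_zero, comp_zero]

/-- exactness of the product of skyscrapers of left exact sequences -/
lemma NN_exact {As Bs Cs : ι → A} (f : ∀ i, As i ⟶ Bs i) (g : ∀ i, Bs i ⟶ Cs i)
    (w : ∀ i, f i ≫ g i = 0) [∀ i, Mono (f i)]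
    (hex : ∀ i, (ShortComplex.mk (f i) (g i) (w i)).Exact) :
    (ShortComplex.mk (NNmap Φ f) (NNmap Φ g) (NNmap_zero Φ f g w)).Exact := by
  apply ShortComplex.exact_of_f_is_kernel
  refine KernelFork.IsLimit.ofι _ _
    (fun {W} t ht => Pi.lift fun i => (adjS Φ i).homEquiv W (As i)
      ((hex i).lift (((adjS Φ i).homEquiv W (Bs i)).symm (t ≫ Pi.π _ i)) ?_)) ?_ ?_
  · have h1 : ((adjS Φ i).homEquiv W (Bs i)).symm (t ≫ Pi.π _ i) ≫ g i =
        ((adjS Φ i).homEquiv W (Cs i)).symm ((t ≫ Pi.π _ i) ≫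
          (Φ i).skyscraperSheafFunctor.map (g i)) :=
      ((adjS Φ i).homEquiv_naturality_right_symm _ _).symm
    have h2 : (t ≫ Pi.π _ i) ≫ (Φ i).skyscraperSheafFunctor.map (g i) = 0 := by
      have h3 := NNmap_π Φ g i
      rw [Category.assoc, ← h3, ← Category.assoc]
      have ht' : t ≫ NNmap Φ g = 0 := ht
      rw [ht', zero_comp]
    show ((adjS Φ i).homEquiv W (Bs i)).symm (t ≫ Pi.π _ i) ≫ g i = 0
    rw [h1, h2, homEquiv_symm_zero]
  · intro W t ht
    apply Pi.hom_ext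
    intro i
    show (Pi.lift _ ≫ NNmap Φ f) ≫ Pi.π _ i = t ≫ Pi.π _ i
    rw [Category.assoc, NNmap_π, ← Category.assoc, Pi.lift_π,
      ← (adjS Φ i).homEquiv_naturality_right, ShortComplex.Exact.lift_f,
      Equiv.apply_symm_apply]
  · intro W t ht m hm
    rw [← cancel_mono (NNmap Φ f)]
    have hm' : m ≫ NNmap Φ f = t := hm
    rw [hm']
    symm
    apply Pi.hom_ext
    intro i
    rw [Category.assoc, NNmap_π, ← Category.assoc, Pi.lift_π,
      ← (adjS Φ i).homEquiv_naturality_right, ShortComplex.Exact.lift_f,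
      Equiv.apply_symm_apply]

/-- the embedding into the product of skyscrapers -/
noncomputable def toNN (F : Sheaf J A) {Qs : ι → A} (e : ∀ i, (Φ i).sheafFiber.obj F ⟶ Qs i) :
    F ⟶ NN Φ Qs :=
  Pi.lift fun i => (adjS Φ i).homEquiv F (Qs i) (e i)

lemma mono_toNN (hJF : ∀ {K F : Sheaf J A} (k : K ⟶ F),
      (∀ i, (Φ i).sheafFiber.map k = 0) → k = 0)
    (F : Sheaf J A) {Qs : ι → A} (e : ∀ i, (Φ i).sheafFiber.obj F ⟶ Qs i) [∀ i, Mono (e i)] :
    Mono (toNN Φ F e) := by
  apply Preadditive.mono_of_cancel_zero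
  intro K k hk
  apply hJF
  intro i
  rw [← cancel_mono (e i), zero_comp]
  apply ((adjS Φ i).homEquiv K (Qs i)).injective
  rw [(adjS Φ i).homEquiv_naturality_left]
  have h1 : toNN Φ F e ≫ Pi.π _ i = (adjS Φ i).homEquiv F (Qs i) (e i) := Pi.lift_π _ _
  rw [← h1, ← Category.assoc, hk, zero_comp]
  symm
  apply ((adjS Φ i).homEquiv K (Qs i)).symm.injective
  rw [Equiv.symm_apply_apply, homEquiv_symm_zero]

section Comp

variable {B : Type (u + 2)} [Category.{u + 1} B] [Abelian B] [HasProducts.{u} B]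
  [HasColimitsOfSize.{u, u} B] [HasProducts.{u + 1} B] [AB5OfSize.{u, u} B] [HasSheafify J B]
  (G : A ⥤ B) [J.HasSheafCompose G] [∀ T : Type u, PreservesLimitsOfShape (Discrete T) G]
  [PreservesLimitsOfShape (Discrete ι) G]

instance preservesProd_sheafCompose : PreservesLimitsOfShape (Discrete ι) (sheafCompose J G) := by
  haveI : PreservesLimitsOfShape (Discrete ι) (sheafCompose J G ⋙ sheafToPresheaf J B) :=
    inferInstanceAs (PreservesLimitsOfShape (Discrete ι)
      (sheafToPresheaf J A ⋙ (Functor.whiskeringRight Cᵒᵖ A B).obj G))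
  exact preservesLimitsOfShape_of_reflects_of_preserves (sheafCompose J G) (sheafToPresheaf J B)

/-- the presheaf level comparison -/
noncomputable def skyPreIso (Ψ : GrothendieckTopology.Point.{u} J) (Q : A) :
    Ψ.skyscraperPresheaf Q ⋙ G ≅ Ψ.skyscraperPresheaf (G.obj Q) :=
  NatIso.ofComponents (fun V => PreservesProduct.iso G (fun _ : Ψ.fiber.obj V.unop => Q)) (by
    intro V V' h
    apply Pi.hom_ext
    intro b
    simp [PreservesProduct.iso_hom, ← G.map_comp])

/-- the sheaf level comparison -/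
noncomputable def skyIso (Ψ : GrothendieckTopology.Point.{u} J) (Q : A) :
    (sheafCompose J G).obj (Ψ.skyscraperSheafFunctor.obj Q) ≅
      Ψ.skyscraperSheafFunctor.obj (G.obj Q) :=
  (fullyFaithfulSheafToPresheaf J B).preimageIso (skyPreIso G Ψ Q)

/-- the comparison for products of skyscrapers -/
noncomputable def compIso (Qs : ι → A) :
    (sheafCompose J G).obj (NN Φ Qs) ≅ NN Φ (fun i => G.obj (Qs i)) :=
  PreservesProduct.iso (sheafCompose J G) _ ≪≫ Limits.Pi.mapIso (fun i => skyIso G (Φ i) (Qs i))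

end Comp

end Gen

section AbSide
variable {C : Type (u + 1)} [Category.{u} C] {J : GrothendieckTopology C}
  [HasSheafify J AddCommGrpCat.{u + 1}] [AB5OfSize.{u, u} AddCommGrpCat.{u + 1}]
  [HasExt.{u + 1} (Sheaf J AddCommGrpCat.{u + 1})]
  {ι : Type (u + 1)} (Φ : ι → GrothendieckTopology.Point.{u} J)

/-- evaluation of sheaves at an object -/
noncomputable abbrev EV (V : C) : Sheaf J AddCommGrpCat.{u + 1} ⥤ AddCommGrpCat.{u + 1} :=
  sheafToPresheaf J AddCommGrpCat.{u + 1} ⋙ (evaluation Cᵒᵖ AddCommGrpCat.{u + 1}).obj (op V)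

lemma pi_ext {K : Type u} (F : K → AddCommGrpCat.{u + 1}) (x y : ToType (∏ᶜ F))
    (h : ∀ k, Pi.π F k x = Pi.π F k y) : x = y := by
  apply (Concrete.productEquiv F).injective
  funext k
  rw [Concrete.productEquiv_apply_apply, Concrete.productEquiv_apply_apply, h k]

/-- sectionwise surjectivity -/
lemma NNmap_surj {Bs Cs : ι → AddCommGrpCat.{u + 1}} (g : ∀ i, Bs i ⟶ Cs i)
    (hg : ∀ i, Function.Surjective (g i)) (V : C)
    (t : ToType ((EV V).obj (NN Φ Cs))) :
    ∃ s : ToType ((EV V).obj (NN Φ Bs)), (EV V).map (NNmap Φ g) s = t := by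
  let fB : ι → Sheaf J AddCommGrpCat.{u + 1} := fun i => (Φ i).skyscraperSheafFunctor.obj (Bs i)
  let fC : ι → Sheaf J AddCommGrpCat.{u + 1} := fun i => (Φ i).skyscraperSheafFunctor.obj (Cs i)
  have hc : ∀ (i : ι) (p : (Φ i).fiber.obj V), ∃ b : Bs i,
      g i b = Pi.π (fun _ : (Φ i).fiber.obj V => Cs i) p ((EV V).map (Pi.π fC i) t) :=
    fun i p => hg i _
  choose b hb using hc
  let y : ∀ i, ToType ((EV V).obj (fB i)) := fun i =>
    (Concrete.productEquiv (fun _ : (Φ i).fiber.obj V => Bs i)).symm (fun p => b i p)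
  let s : ToType ((EV V).obj (NN Φ Bs)) :=
    (PreservesProduct.iso (EV V) fB).inv
      ((Concrete.productEquiv (fun i => (EV V).obj (fB i))).symm y)
  have hs : ∀ i, (EV V).map (Pi.π fB i) s = y i := by
    intro i
    have h1 : (PreservesProduct.iso (EV V) fB).inv ≫ (EV V).map (Pi.π fB i) =
        Pi.π (fun i => (EV V).obj (fB i)) i := by
      rw [Iso.inv_comp_eq, PreservesProduct.iso_hom, piComparison_comp_π]
    show ((EV V).map (Pi.π fB i)) ((PreservesProduct.iso (EV V) fB).inv _) = y i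
    rw [← ConcreteCategory.comp_apply, h1, Concrete.productEquiv_symm_apply_π]
  refine ⟨s, ?_⟩
  apply Concrete.Pi.map_ext fC (EV V)
  intro i
  rw [← ConcreteCategory.comp_apply, ← Functor.map_comp]
  have h2 : NNmap Φ g ≫ Pi.π fC i = Pi.π fB i ≫ (Φ i).skyscraperSheafFunctor.map (g i) :=
    NNmap_π Φ g i
  rw [h2, Functor.map_comp, ConcreteCategory.comp_apply, hs i]
  apply pi_ext
  intro p
  have h3 : (EV V).map ((Φ i).skyscraperSheafFunctor.map (g i)) ≫
      Pi.π (fun _ : (Φ i).fiber.obj V => Cs i) p =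
        Pi.π (fun _ : (Φ i).fiber.obj V => Bs i) p ≫ g i := by
    show Limits.Pi.map (fun _ : (Φ i).fiber.obj V => g i) ≫ _ = _
    exact Limits.Pi.map_π _ _
  have h4 : (Pi.π (fun _ : (Φ i).fiber.obj V => Cs i) p)
      (((EV V).map ((Φ i).skyscraperSheafFunctor.map (g i))) (y i)) =
        (g i) ((Pi.π (fun _ : (Φ i).fiber.obj V => Bs i) p) (y i)) :=
    ConcreteCategory.congr_hom h3 (y i)
  refine h4.trans ?_
  have h5 : (Pi.π (fun _ : (Φ i).fiber.obj V => Bs i) p) (y i) = b i p :=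
    Concrete.productEquiv_symm_apply_π _ _ _
  exact (congrArg (fun z => (g i) z) h5).trans (hb i p)

lemma epi_NNmap {Bs Cs : ι → AddCommGrpCat.{u + 1}} (g : ∀ i, Bs i ⟶ Cs i) [∀ i, Epi (g i)] :
    Epi (NNmap Φ g) := by
  have hg : ∀ i, Function.Surjective (g i) := fun i =>
    (AddCommGrpCat.epi_iff_surjective _).mp inferInstance
  haveI : Sheaf.IsLocallySurjective (NNmap Φ g) :=
    Presheaf.isLocallySurjective_of_surjective J _ (fun V => NNmap_surj Φ g hg V.unop)
  infer_instance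

variable (Z : Sheaf J AddCommGrpCat.{u + 1}) (T : C)
  (hZ : ∀ (S : ShortComplex (Sheaf J AddCommGrpCat.{u + 1})),
      Function.Surjective ((EV T).map S.g) → ∀ ψ : Z ⟶ S.X₃, ∃ ψ' : Z ⟶ S.X₂, ψ' ≫ S.g = ψ)

include hZ in
theorem NN_acyclic (k : ℕ) : ∀ (As : ι → AddCommGrpCat.{u + 1})
    (e : Ext.{u + 1} Z (NN Φ As) (k + 1)), e = 0 := by
  induction k with
  | zero =>
    intro As e
    let a : ∀ i, As i ⟶ Injective.under (As i) := fun i => Injective.ι (As i)
    let c : ∀ i, Injective.under (As i) ⟶ cokernel (a i) := fun i => cokernel.π (a i)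
    have w : ∀ i, a i ≫ c i = 0 := fun i => cokernel.condition (a i)
    have hex : ∀ i, (ShortComplex.mk (a i) (c i) (w i)).Exact := fun i =>
      ShortComplex.exact_cokernel (a i)
    haveI : ∀ i, Mono (a i) := fun i => inferInstance
    haveI : ∀ i, Epi (c i) := fun i => inferInstance
    let S : ShortComplex (Sheaf J AddCommGrpCat.{u + 1}) :=
      ShortComplex.mk (NNmap Φ a) (NNmap Φ c) (NNmap_zero Φ a c w)
    haveI : Mono S.f := mono_NNmap Φ a
    haveI : Epi S.g := epi_NNmap Φ c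
    have hS : S.ShortExact := ShortComplex.ShortExact.mk (NN_exact Φ a c w hex)
    haveI : Injective S.X₂ := injective_NN Φ _ (fun i => inferInstance)
    have hx : e.comp (Ext.mk₀ S.f) (add_zero 1) = 0 := Ext.eq_zero_of_injective _
    obtain ⟨y, hy⟩ := Ext.covariant_sequence_exact₁ Z hS e hx (zero_add 1)
    obtain ⟨ψ, rfl⟩ := (Ext.mk₀_bijective Z S.X₃).2 y
    have hg : ∀ i, Function.Surjective (c i) := fun i =>
      (AddCommGrpCat.epi_iff_surjective _).mp inferInstance
    obtain ⟨ψ', rfl⟩ := hZ S (fun t => NNmap_surj Φ c hg T t) ψ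
    rw [← hy, ← Ext.mk₀_comp_mk₀, Ext.comp_assoc_of_second_deg_zero, hS.comp_extClass,
      Ext.comp_zero]
  | succ k ih =>
    intro As e
    let a : ∀ i, As i ⟶ Injective.under (As i) := fun i => Injective.ι (As i)
    let c : ∀ i, Injective.under (As i) ⟶ cokernel (a i) := fun i => cokernel.π (a i)
    have w : ∀ i, a i ≫ c i = 0 := fun i => cokernel.condition (a i)
    have hex : ∀ i, (ShortComplex.mk (a i) (c i) (w i)).Exact := fun i =>
      ShortComplex.exact_cokernel (a i)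
    haveI : ∀ i, Mono (a i) := fun i => inferInstance
    haveI : ∀ i, Epi (c i) := fun i => inferInstance
    let S : ShortComplex (Sheaf J AddCommGrpCat.{u + 1}) :=
      ShortComplex.mk (NNmap Φ a) (NNmap Φ c) (NNmap_zero Φ a c w)
    haveI : Mono S.f := mono_NNmap Φ a
    haveI : Epi S.g := epi_NNmap Φ c
    have hS : S.ShortExact := ShortComplex.ShortExact.mk (NN_exact Φ a c w hex)
    haveI : Injective S.X₂ := injective_NN Φ _ (fun i => inferInstance)
    have hx : e.comp (Ext.mk₀ S.f) (add_zero (k + 1 + 1)) = 0 := Ext.eq_zero_of_injective _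
    obtain ⟨y, hy⟩ := Ext.covariant_sequence_exact₁ Z hS e hx (n₀ := k + 1) rfl
    rw [← hy, ih _ y, Ext.zero_comp]

end AbSide

section Concrete
variable (Λ : Type (u + 1)) [CommRing Λ] (X : Scheme.{u})

attribute [local instance] H9FE.ARGlue.ab5u H9FE.ARGlue.pfcu H9FE.ARGlue.hasLimU
attribute [local instance] Groth.Agent.Lib.Helper5.EtStalk.ab5' Groth.Agent.Lib.Helper5.EtStalk.pfc

/-- geometric points -/
abbrev Pt := Groth.Agent.Lib.Helper5.EtStalk.GeomPt X

/-- the points of the site -/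
noncomputable abbrev PHI (g : Pt X) : GrothendieckTopology.Point.{u} X.smallEtaleTopology :=
  Scheme.pointSmallEtale g.ξ

/-- the forgetful functor on values -/
abbrev GG : ModuleCat.{u + 1} Λ ⥤ AddCommGrpCat.{u + 1} :=
  forget₂ (ModuleCat.{u + 1} Λ) AddCommGrpCat.{u + 1}

variable [PreservesFiniteLimits (EtModD.forgetToAb Λ X)]
  [PreservesFiniteColimits (EtModD.forgetToAb Λ X)] [(EtModD.forgetToAb Λ X).Additive]

lemma effaceable (F : EtModW.Mod Λ X) : ∃ (M : EtModW.Mod Λ X) (u' : F ⟶ M), Mono u' ∧ Injective M ∧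
    ∀ (k : ℕ) (t : Ext.{u + 1} (H9FE.EtHColim.ZZ X) ((EtModD.forgetToAb Λ X).obj M) (k + 1)),
      t = 0 := by
  let Qs : Pt X → ModuleCat.{u + 1} Λ := fun g => Injective.under ((PHI X g).sheafFiber.obj F)
  let e : ∀ g : Pt X, (PHI X g).sheafFiber.obj F ⟶ Qs g := fun g => Injective.ι _
  haveI : ∀ g, Mono (e g) := fun g => inferInstance
  refine ⟨NN (PHI X) Qs, toNN (PHI X) F e, ?_, ?_, ?_⟩
  · exact mono_toNN (PHI X) (fun k hk => H9FE.ARGlue.hom_eq_zero_of_stalks Λ k hk) F e
  · exact injective_NN (PHI X) Qs (fun g => inferInstance)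
  · intro k t
    let iso := compIso (PHI X) (GG Λ) Qs
    have h1 : t.comp (Ext.mk₀ iso.hom) (add_zero (k + 1)) = 0 :=
      NN_acyclic (PHI X) (H9FE.EtHColim.ZZ X) (EtCoh.top X)
        (fun S hs ψ => H9FE.EtHColim.hZ X S (fun t => hs t) ψ) k _ _
    have h2 : (t.comp (Ext.mk₀ iso.hom) (add_zero (k + 1))).comp (Ext.mk₀ iso.inv)
        (add_zero (k + 1)) = t := by
      rw [Ext.comp_assoc_of_third_deg_zero, Ext.mk₀_comp_mk₀, Iso.hom_inv_id, Ext.comp_mk₀_id]
    rw [← h2, h1, Ext.zero_comp]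

/-- evaluation of a map out of `Λ_X` at the global section `1` -/
noncomputable def evΛ {F : EtModW.Mod Λ X} (φ : EtSix.constΛ Λ X ⟶ F) :
    F.obj.obj (op (EtCoh.top X)) :=
  ((EtSix.constModAdj Λ X).homEquiv (ModuleCat.of Λ Λ) F φ).hom (1 : Λ)

/-- evaluation of a map out of `ℤ_X` at the global section `1` -/
noncomputable def evZ {G' : EtCoh.Ab X} (ψ : H9FE.EtHColim.ZZ X ⟶ G') :
    G'.obj.obj (op (EtCoh.top X)) :=
  ((EtCore.constAdj X).homEquiv (AddCommGrpCat.of (ULift.{u + 1} ℤ)) G' ψ).hom (ULift.up 1)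

lemma evΛ_injective {F : EtModW.Mod Λ X} (φ φ' : EtSix.constΛ Λ X ⟶ F)
    (h : evΛ Λ X φ = evΛ Λ X φ') : φ = φ' := by
  apply ((EtSix.constModAdj Λ X).homEquiv (ModuleCat.of Λ Λ) F).injective
  apply ModuleCat.hom_ext
  exact LinearMap.ext_ring h

lemma evΛ_surjective {F : EtModW.Mod Λ X} (x : F.obj.obj (op (EtCoh.top X))) :
    ∃ φ : EtSix.constΛ Λ X ⟶ F, evΛ Λ X φ = x := by
  refine ⟨((EtSix.constModAdj Λ X).homEquiv (ModuleCat.of Λ Λ) F).symm
    (ModuleCat.ofHom (LinearMap.toSpanSingleton Λ _ x)), ?_⟩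
  unfold evΛ
  rw [Equiv.apply_symm_apply]
  show (1 : Λ) • x = x
  exact one_smul _ _

lemma evZ_injective {G' : EtCoh.Ab X} (ψ ψ' : H9FE.EtHColim.ZZ X ⟶ G')
    (h : evZ X ψ = evZ X ψ') : ψ = ψ' := by
  apply ((EtCore.constAdj X).homEquiv (AddCommGrpCat.of (ULift.{u + 1} ℤ)) G').injective
  apply AddCommGrpCat.hom_ext
  apply AddMonoidHom.ext
  rintro ⟨n⟩
  have h1 : (ULift.up n : ULift.{u + 1} ℤ) = n • ULift.up 1 := by
    apply ULift.ext
    simp
  rw [h1, map_zsmul, map_zsmul]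
  exact congrArg (fun z => n • z) h

lemma ev_key {F : EtModW.Mod Λ X} (φ : EtSix.constΛ Λ X ⟶ F) :
    (evZ X (EtSix.intToConstΛ Λ X ≫ (EtModD.forgetToAb Λ X).map φ) :
      F.obj.obj (op (EtCoh.top X))) = evΛ Λ X φ := by
  have h1 : (EtCore.constAdj X).homEquiv (AddCommGrpCat.of (ULift.{u + 1} ℤ)) _
      (EtSix.intToConstΛ Λ X ≫ (EtModD.forgetToAb Λ X).map φ) =
        EtSix.oneSection Λ X ≫ (EtCore.gsec X).map ((EtModD.forgetToAb Λ X).map φ) := by
    rw [Adjunction.homEquiv_naturality_right]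
    congr 1
    exact Equiv.apply_symm_apply _ _
  have h2 : (EtSix.constModAdj Λ X).homEquiv (ModuleCat.of Λ Λ) F φ =
      (EtSix.constModAdj Λ X).unit.app (ModuleCat.of Λ Λ) ≫ (EtSix.gsecMod Λ X).map φ :=
    Adjunction.homEquiv_unit _ _ _ _
  unfold evZ evΛ
  rw [h1, h2]
  show (φ.hom.app (op (EtCoh.top X))).hom ((EtSix.oneSection Λ X).hom (ULift.up 1)) =
    (φ.hom.app (op (EtCoh.top X))).hom
      (((EtSix.constModAdj Λ X).unit.app (ModuleCat.of Λ Λ)).hom (1 : Λ))
  congr 1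
  show (zmultiplesHom _ (((EtSix.constModAdj Λ X).unit.app (ModuleCat.of Λ Λ)).hom (1 : Λ)))
    (1 : ℤ) = _
  rw [zmultiplesHom_apply, one_zsmul]

lemma theta_bijective (F : EtModW.Mod Λ X) :
    Function.Bijective (fun φ : EtSix.constΛ Λ X ⟶ F =>
      EtSix.intToConstΛ Λ X ≫ (EtModD.forgetToAb Λ X).map φ) := by
  constructor
  · intro φ φ' h
    apply evΛ_injective
    rw [← ev_key, ← ev_key]
    exact congrArg (fun ψ => (evZ X ψ : F.obj.obj (op (EtCoh.top X)))) h
  · intro ψ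
    obtain ⟨φ, hφ⟩ := evΛ_surjective Λ X (F := F) (evZ X ψ)
    refine ⟨φ, evZ_injective X _ _ ?_⟩
    exact (ev_key Λ X φ).trans hφ

lemma psi_zero (F : EtModW.Mod Λ X) :
    Function.Bijective (Psi.{u + 1, u + 1} (EtModD.forgetToAb Λ X) (EtSix.intToConstΛ Λ X) F 0) := by
  have hm : ∀ φ : EtSix.constΛ Λ X ⟶ F,
      Psi.{u + 1, u + 1} (EtModD.forgetToAb Λ X) (EtSix.intToConstΛ Λ X) F 0 (Ext.mk₀ φ) =
        Ext.mk₀ (EtSix.intToConstΛ Λ X ≫ (EtModD.forgetToAb Λ X).map φ) := by
    intro φ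
    rw [Psi_apply, Ext.mapExactFunctor_mk₀, Ext.mk₀_comp_mk₀]
  constructor
  · intro e e' h
    obtain ⟨φ, rfl⟩ := (Ext.mk₀_bijective _ _).2 e
    obtain ⟨φ', rfl⟩ := (Ext.mk₀_bijective _ _).2 e'
    rw [hm, hm] at h
    rw [(theta_bijective Λ X F).1 ((Ext.mk₀_bijective _ _).1 h)]
  · intro y
    obtain ⟨ψ, rfl⟩ := (Ext.mk₀_bijective _ _).2 y
    obtain ⟨φ, hφ⟩ := (theta_bijective Λ X F).2 ψ
    exact ⟨Ext.mk₀ φ, by rw [hm]; exact congrArg Ext.mk₀ hφ⟩

theorem main (F : EtModW.Mod Λ X) (n : ℕ) : Function.Bijective (EtSix.HModToH Λ F n) :=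
  Psi_bijective (EtModD.forgetToAb Λ X) (EtSix.intToConstΛ Λ X) (psi_zero Λ X)
    (effaceable Λ X) n F

end Concrete

end Aux

/-- Cohomology of a sheaf of modules agrees with that of its underlying abelian sheaf: for the constant
sheaf of rings Λ on the small etale site of a scheme X, through the canonical map: for every sheaf F
of Λ-modules and every n, the map Ext^n(Λ_X, F) -> Ext^n(Z_X, F_ab) = H^n(X, F_ab) obtained by
applying the forgetful functor to an Ext class (computed in sheaves of Λ-modules) and precomposing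
with Z_X -> Λ_X, 1 ↦ 1, is bijective. The exactness and additivity of the forgetful functor, which
hold, are recorded as instance hypotheses. -/
theorem result (Λ : Type (u + 1)) [CommRing Λ] {X : Scheme.{u}}
    [PreservesFiniteLimits (EtModD.forgetToAb Λ X)] [PreservesFiniteColimits (EtModD.forgetToAb Λ X)]
    [(EtModD.forgetToAb Λ X).Additive] (F : EtModW.Mod Λ X) (n : ℕ) :
    Function.Bijective (EtSix.HModToH Λ F n) := by
  exact Aux.main Λ X F n

end Groth.Agent.S4332
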