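import Groth.Statements.S4336
import Mathlib
import Groth.Agent.Lib.Helper1.LinTop

set_option autoImplicit false
universe u
open LinTop

namespace Groth.Agent.S4336

/-- Let A be an admissible ring and J an ideal of definition of A. An element of A is invertible if and
only if its image in A/J is invertible. -/
theorem result
    (A : Type u) [CommRing A] [UniformSpace A] [IsUniformAddGroup A] [IsTopologicalRing A]
    (hA : LinTop.IsAdmissible A) (J : Ideal A) (hJ : LinTop.IsIdealOfDefinition A J) (f : A) :
    IsUnit f ↔ IsUnit (Ideal.Quotient.mk J f) := by
  constructor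
  · intro h
    exact h.map _
  · intro h
    obtain ⟨g, hg⟩ := h.exists_right_inv
    obtain ⟨g', rfl⟩ := Ideal.Quotient.mk_surjective g
    rw [← map_mul, ← map_one (Ideal.Quotient.mk J), Ideal.Quotient.eq] at hg
    have hu := Groth.Agent.Helper1.LinTop.isUnit_one_add hA hJ hg
    have : 1 + (f * g' - 1) = f * g' := by ring
    rw [this] at hu
    exact isUnit_of_mul_isUnit_left hu

end Groth.Agent.S4336
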