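import Groth.Statements.S4340
import Mathlib
import Groth.Agent.Lib.Helper1.QcsLoc

set_option autoImplicit false
universe u
open QCohSup

namespace Groth.Agent.S4340

open AlgebraicGeometry in
open CategoryTheory in
open Opposite in
/-- Case of the trivial invertible sheaf. Let X be a quasi-compact scheme, f a global section of O_X, F
a quasi-coherent O_X-module and s a global section of F that restricts to zero on X_f. Then f^n s =
0 for some n > 0. (The published statement assumes X with Noetherian underlying space, or separated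
and quasi-compact; for this part only quasi-compactness is used.) -/
theorem result
    (X : Scheme.{u}) [CompactSpace X] (f : Γ(X, ⊤)) (F : X.Modules) [Coh.IsQCoh F]
    (s : F.val.obj (op ⊤))
    (hs : (F.val.map (homOfLE (le_top : X.basicOpen f ≤ ⊤)).op).hom s = 0) :
    ∃ n : ℕ, 0 < n ∧ (show X.ringCatSheaf.obj.obj (op ⊤) from f) ^ n • s = 0 := by
  have hF : F.IsQuasicoherent := ‹Coh.IsQCoh F›
  have hk := Groth.Agent.Helper1.QcsLoc.kill_of_isCompact F f ⊤ isCompact_univ le_rfl
    (show Γ(F, ⊤) from s) (by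
      change (F.presheaf.map (homOfLE (inf_le_left : (⊤ : X.Opens) ⊓ X.basicOpen f ≤ ⊤)).op).hom s = 0
      have e : (homOfLE (inf_le_left : (⊤ : X.Opens) ⊓ X.basicOpen f ≤ ⊤)).op =
          (homOfLE (le_top : X.basicOpen f ≤ ⊤)).op ≫
            (homOfLE (inf_le_right : (⊤ : X.Opens) ⊓ X.basicOpen f ≤ X.basicOpen f)).op := rfl
      rw [e, Functor.map_comp]
      change (F.presheaf.map _).hom ((F.presheaf.map (homOfLE (le_top : X.basicOpen f ≤ ⊤)).op).hom s) = 0
      have hs' : (F.presheaf.map (homOfLE (le_top : X.basicOpen f ≤ ⊤)).op).hom s = 0 := hs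
      rw [hs', map_zero])
  obtain ⟨n, hn⟩ := hk
  refine ⟨n + 1, Nat.succ_pos n, ?_⟩
  have h1 : (f ^ n • (show Γ(F, ⊤) from s)) = 0 := by
    have := hn
    rw [Groth.Agent.Helper1.QcCech.rsmul] at this
    have e : Groth.Agent.Helper1.QcCech.resR (le_refl (⊤ : X.Opens)) (f ^ n) = f ^ n := by
      change (X.presheaf.map (𝟙 _)).hom (f ^ n) = f ^ n
      rw [X.presheaf.map_id]
      rfl
    rw [e] at this
    exact this
  change (f ^ (n + 1) • (show Γ(F, ⊤) from s)) = 0
  rw [pow_succ', mul_smul, h1, smul_zero]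

end Groth.Agent.S4340
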