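import Groth.Statements.S4341
import Mathlib
import Groth.Agent.Lib.Helper1.QcsLoc

set_option autoImplicit false
universe u
open QCohSup

namespace Groth.Agent.S4341

open AlgebraicGeometry in
open CategoryTheory in
open Opposite in
/-- Case of the trivial invertible sheaf. Let X be a quasi-compact quasi-separated scheme, f a global
section of O_X, F a quasi-coherent O_X-module and t a section of F over X_f. Then there is an n > 0
such that f^n t is the restriction of a global section of F. (The published statement assumes X with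
Noetherian underlying space, or separated and quasi-compact; both are quasi-compact quasi-separated,
which is what the argument uses: a finite affine cover with quasi-compact pairwise intersections.) -/
theorem result
    (X : Scheme.{u}) [CompactSpace X] [QuasiSeparatedSpace X] (f : Γ(X, ⊤))
    (F : X.Modules) [Coh.IsQCoh F] (t : F.val.obj (op (X.basicOpen f))) :
    ∃ n : ℕ, 0 < n ∧ ∃ s : F.val.obj (op ⊤),
      (F.val.map (homOfLE (le_top : X.basicOpen f ≤ ⊤)).op).hom s =
        (show X.ringCatSheaf.obj.obj (op (X.basicOpen f)) from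
          X.presheaf.map (homOfLE (le_top : X.basicOpen f ≤ ⊤)).op f) ^ n • t := by
  have hF : F.IsQuasicoherent := ‹Coh.IsQCoh F›
  have hle : ((⊤ : X.Opens) ⊓ X.basicOpen f) ≤ X.basicOpen f := inf_le_right
  have hge : X.basicOpen f ≤ ((⊤ : X.Opens) ⊓ X.basicOpen f) := le_inf le_top le_rfl
  obtain ⟨n, s, hs⟩ := Groth.Agent.Helper1.QcsLoc.ext_of_isCompact F f ⊤ isQuasiSeparated_univ ⊤
    isCompact_univ le_rfl le_rfl (Groth.Agent.Helper1.QcCech.res F hle (show Γ(F, X.basicOpen f) from t))
  have h1 := congrArg (Groth.Agent.Helper1.QcCech.res F hge) hs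
  rw [Groth.Agent.Helper1.QcCech.res_res, Groth.Agent.Helper1.QcCech.res_rsmul,
    Groth.Agent.Helper1.QcCech.res_res, Groth.Agent.Helper1.QcCech.res_self] at h1
  rw [Groth.Agent.Helper1.QcCech.rsmul, map_pow] at h1
  refine ⟨n + 1, Nat.succ_pos n, (show Γ(F, ⊤) from f • s), ?_⟩
  change Groth.Agent.Helper1.QcCech.res F (le_top : X.basicOpen f ≤ ⊤) (f • s) =
    (Groth.Agent.Helper1.QcCech.resR (le_top : X.basicOpen f ≤ ⊤) f) ^ (n + 1) •
      (show Γ(F, X.basicOpen f) from t)
  rw [Groth.Agent.Helper1.QcCech.res_smul, h1, pow_succ', mul_smul]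

end Groth.Agent.S4341
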