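import Groth.Statements.S4361
import Mathlib
import Groth.Agent.Lib.Helper1.TopL

set_option autoImplicit false
universe u
open FinCond

namespace Groth.Agent.S4361

open AlgebraicGeometry in
open CategoryTheory in
/-- Let f : X -> Y and g : Y -> Z be morphisms whose composite is quasi-compact, and suppose the
underlying space of X is locally Noetherian (every point has an open neighbourhood which is a
Noetherian topological space). Then f is quasi-compact. (The published statement also covers the
case g separated, which is the standard cancellation property; this row states only the case of a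
locally Noetherian source.) -/
theorem result
    {X Y Z : Scheme.{u}} (f : X ⟶ Y) (g : Y ⟶ Z) [QuasiCompact (f ≫ g)]
    (hX : ∀ x : X, ∃ U : X.Opens, x ∈ U ∧ TopologicalSpace.NoetherianSpace U) :
    QuasiCompact f := by
  have hX' : ∀ x : X, ∃ U : Set X, IsOpen U ∧ x ∈ U ∧ TopologicalSpace.NoetherianSpace U := by
    intro x
    obtain ⟨U, hxU, hU⟩ := hX x
    exact ⟨U, U.2, hxU, hU⟩
  constructor
  intro U hUo hUc
  -- cover g '' U by finitely many affine opens
  have hgU : IsCompact (g '' U) := hUc.image g.continuous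
  have hcov : ∀ z : Z, ∃ W : Set Z, IsOpen W ∧ IsCompact W ∧ z ∈ W := by
    intro z
    obtain ⟨W, hW, hzW, -⟩ := (Z.isBasis_affineOpens).exists_subset_of_mem_open (Set.mem_univ z) isOpen_univ
    obtain ⟨W', hW', rfl⟩ := hW
    exact ⟨W', W'.2, hW'.isCompact, hzW⟩
  choose W hWo hWc hzW using hcov
  obtain ⟨t, ht⟩ := hgU.elim_finite_subcover W hWo (fun z _ => Set.mem_iUnion.mpr ⟨z, hzW z⟩)
  have hWt : IsCompact (⋃ i ∈ t, W i) := t.isCompact_biUnion fun i _ => hWc i
  have hWto : IsOpen (⋃ i ∈ t, W i) := isOpen_biUnion fun i _ => hWo i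
  have h1 : IsCompact ((f ≫ g) ⁻¹' (⋃ i ∈ t, W i)) :=
    QuasiCompact.isCompact_preimage _ hWto hWt
  refine Groth.Agent.Helper1.TopL.isCompact_of_subset_of_isCompact hX' h1 ?_
  intro x hx
  have : g (f x) ∈ ⋃ i ∈ t, W i := ht ⟨f x, hx, rfl⟩
  simpa using this

end Groth.Agent.S4361
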