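import Groth.Statements.S4369
import Mathlib

set_option autoImplicit false
universe u
open AffSch

namespace Groth.Agent.S4369

/-- Let φ : A' -> A be a ring homomorphism such that every f in A can be written f = h φ(f') with h
invertible in A (this holds in particular when φ is surjective). Then the associated continuous map
Spec A -> Spec A' is a homeomorphism onto its image. -/
theorem result
    {A' A : Type u} [CommRing A'] [CommRing A] (φ : A' →+* A)
    (h : ∀ f : A, ∃ (u : Aˣ) (f' : A'), f = (u : A) * φ f') :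
    Topology.IsEmbedding (PrimeSpectrum.comap φ) := by
  have key : ∀ (p : PrimeSpectrum A) (u : Aˣ) (f' : A'),
      (u : A) * φ f' ∈ p.asIdeal ↔ φ f' ∈ p.asIdeal := by
    intro p u f'
    constructor
    · intro hm
      rcases p.2.mem_or_mem hm with h1 | h1
      · exact absurd (p.asIdeal.eq_top_of_isUnit_mem h1 u.isUnit) p.2.ne_top
      · exact h1
    · intro hm; exact Ideal.mul_mem_left _ _ hm
  refine ⟨⟨TopologicalSpace.ext_isClosed fun Z ↦ ?_⟩, ?_⟩
  · simp_rw [isClosed_induced_iff, PrimeSpectrum.isClosed_iff_zeroLocus, @eq_comm _ _ (PrimeSpectrum.zeroLocus _),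
      exists_exists_eq_and, PrimeSpectrum.preimage_comap_zeroLocus]
    constructor
    · rintro ⟨s, rfl⟩
      refine ⟨{f' | ∃ f ∈ s, ∃ u : Aˣ, f = (u : A) * φ f'}, ?_⟩
      ext p
      simp only [PrimeSpectrum.mem_zeroLocus, Set.subset_def, Set.mem_image, SetLike.mem_coe]
      constructor
      · rintro hp f hf
        obtain ⟨u, f', rfl⟩ := h f
        rw [key]
        exact hp _ ⟨f', ⟨_, hf, u, rfl⟩, rfl⟩
      · rintro hp g ⟨f', ⟨f, hf, u, rfl⟩, rfl⟩
        rw [← key p u]
        exact hp _ hf
    · rintro ⟨s, rfl⟩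
      exact ⟨_, rfl⟩
  · intro p q hpq
    ext f
    obtain ⟨u, f', rfl⟩ := h f
    rw [key, key]
    have := congrArg (fun r : PrimeSpectrum A' => f' ∈ r.asIdeal) hpq
    simpa [PrimeSpectrum.comap_asIdeal, Ideal.mem_comap] using this

end Groth.Agent.S4369
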