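import Groth.Statements.S4374
import Mathlib
import Groth.Agent.Lib.Helper1.AmpleLib2

set_option autoImplicit false
universe u
open CategoryTheory CategoryTheory.Limits AlgebraicGeometry
open EGA2

namespace Groth.Agent.S4374

/-- Let X be a quasi-compact scheme and L, L' two O_X-modules with L ⊗ L' ≅ O_X (so L' is an inverse of
L). If L and L' are both ample, then X is quasi-affine. -/
theorem result (X : Scheme.{u}) [CompactSpace X] (L L' : X.Modules)
    (hinv : ClSub.IsInverseOf L L') (hL : CohB1.IsAmple L) (hL' : CohB1.IsAmple L') : X.IsQuasiAffine := by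
  obtain ⟨e₀⟩ := hinv
  have hloc := Groth.Agent.Helper1.TwForm.locFrame_of_isInvertible hL.1 hL'.1
  refine Scheme.IsQuasiAffine.of_forall_exists_mem_basicOpen X fun x => ?_
  obtain ⟨k, s, hxs, haffs⟩ := hL.2.2 x
  obtain ⟨m, t, hxt, hafft⟩ := hL'.2.2 x
  have hAk := Groth.Agent.Helper1.TwForm.isInvertible_tensorPow hL.1 (k + 1)
  have hAm := Groth.Agent.Helper1.TwForm.isInvertible_tensorPow hL'.1 (m + 1)
  have h1 := Groth.Agent.Helper1.AmpleLib.genLocus_powHom hAk s m
  have h2 := Groth.Agent.Helper1.AmpleLib.genLocus_powHom hAm t k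
  have h3 := Groth.Agent.Helper1.TensGen.genLocus_tmulHom
    (Groth.Agent.Helper1.TwForm.isInvertible_tensorPow hAk (m + 1))
    (Groth.Agent.Helper1.TwForm.isInvertible_tensorPow hAm (k + 1))
    (SecTwist.powHom s (m + 1)) (SecTwist.powHom t (k + 1))
  rw [h1, h2] at h3
  let e := Groth.Agent.Helper1.TwForm.Tw.iso
    ((((Groth.Agent.Helper1.TwForm.Tw.fst L L').pow (k + 1)).pow (m + 1)).tensorR
      (((Groth.Agent.Helper1.TwForm.Tw.snd L L').pow (m + 1)).pow (k + 1)))
    ((((Groth.Agent.Helper1.TwForm.Tw.fst L L').tensorR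
      (Groth.Agent.Helper1.TwForm.Tw.snd L L')).pow (k * (m + 1) + m + 1)).cast
        (by push_cast; ring) (by push_cast; ring)) hloc
  obtain ⟨e₁⟩ := Groth.Agent.Helper1.GenLoc.nonempty_tensorPow_O_iso (X := X) (k * (m + 1) + m + 1)
  let E := e ≪≫ Groth.Agent.Helper1.TwistAmpleOpen.tensorPowCongr e₀ (k * (m + 1) + m + 1) ≪≫ e₁
  have h4 := Groth.Agent.Helper1.TwistAmple.genLocus_comp_iso
    (SecTwist.tmulHom (SecTwist.powHom s (m + 1)) (SecTwist.powHom t (k + 1))) E
  rw [h3, Groth.Agent.Helper1.GenLoc.genLocus_O] at h4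
  refine ⟨Groth.Agent.Helper1.GenLoc.fnO (SecTwist.tmulHom (SecTwist.powHom s (m + 1))
    (SecTwist.powHom t (k + 1)) ≫ E.hom), ?_, ?_⟩
  · rw [h4]
    exact Groth.Agent.Helper1.AmpleLib.isAffineOpen_genLocus_inf hAk s hafft
  · rw [h4]
    exact ⟨hxs, hxt⟩

end Groth.Agent.S4374
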