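import Groth.Statements.S4384
import Mathlib
import Groth.Agent.Lib.Helper1.RelAmpleLib

set_option autoImplicit false
universe u
open CategoryTheory CategoryTheory.Limits AlgebraicGeometry
open EGA2

namespace Groth.Agent.S4384

/-- Let f : X → Y be a quasi-compact morphism and L, L' two O_X-modules ample relative to f. Then L ⊗ L'
is ample relative to f. -/
theorem result {X Y : Scheme.{u}} (f : X ⟶ Y) [QuasiCompact f] (L L' : X.Modules)
    (hL : RelAmple.IsRelAmple f L) (hL' : RelAmple.IsRelAmple f L') :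
    RelAmple.IsRelAmple f (CohB1.tensorMod L L') := by
  refine ⟨inferInstance, fun V => ?_⟩
  have hLU := hL.2 V
  have hL'U := hL'.2 V
  have hloc := Groth.Agent.Helper1.TwForm.locFrame_of_isInvertible hLU.1 hL'U.1
  have hc : CompactSpace (↑(f ⁻¹ᵁ V.1) : Scheme.{u}) := hLU.2.1
  have h1 : CohB1.IsAmple (CohB1.tensorMod (L.restrict (f ⁻¹ᵁ V.1).ι)
      (L'.restrict (f ⁻¹ᵁ V.1).ι)) := by
    apply Groth.Agent.Helper1.AmpleLib.isAmple_tensor hLU hL'U.1
    intro y
    obtain ⟨n, s', hs', -⟩ := hL'U.2.2 y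
    exact ⟨n, s', hs'⟩
  exact Groth.Agent.Helper1.TwistAmpleOpen.isAmple_of_iso
    (Groth.Agent.Helper1.RelAmpleLib.restrictTensorModIso (f ⁻¹ᵁ V.1).ι hloc).symm h1

end Groth.Agent.S4384
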