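import Groth.Statements.S4398
import Mathlib
import Groth.Agent.Lib.Helper1.RelProjMap
import Groth.Agent.Lib.Helper1.ProjQ8

set_option autoImplicit false
universe u
open AlgebraicGeometry
open EGA2

namespace Groth.Agent.S4398

/-- Let φ : S' → S be a homomorphism of rings graded in nonnegative degrees which maps S'_n bijectively
onto S_n for every n > 0, so that S_+ lies in the ideal generated by φ(S'_+) (stated as a hypothesis
because the induced morphism is built from it). Then the induced morphism Proj S → Proj S' is an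
isomorphism of schemes. (The published statement treats the cases S'_0 = ℤ and S'_0 = A with S'_n =
S_n for n > 0; this row allows any graded φ that is bijective in positive degrees.) -/
theorem result {R A : Type u} [CommRing R] [CommRing A] [Algebra R A] (𝒜 : ℕ → Submodule R A) [GradedAlgebra 𝒜]
    {B : Type u} [CommRing B] [Algebra R B] (ℬ : ℕ → Submodule R B) [GradedAlgebra ℬ]
    (φ : ℬ →+*ᵍ 𝒜) (hbij : ∀ n : ℕ, 0 < n → Set.BijOn φ (ℬ n) (𝒜 n))
    (hφ : HomogeneousIdeal.irrelevant 𝒜 ≤ (HomogeneousIdeal.irrelevant ℬ).map φ) :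
    CategoryTheory.IsIso (Proj.map φ hφ) := by
  refine IsZariskiLocalAtTarget.of_openCover (P := CategoryTheory.MorphismProperty.isomorphisms Scheme)
    (Proj.affineOpenCover ℬ).openCover ?_
  rintro (s : Σ i : PNat, ℬ i)
  have sq := Groth.Agent.Helper1.RelProjMap.isPullback_awayι φ hφ s.1.2 (s.2 : B) s.2.2
  have hbij : Function.Bijective (HomogeneousLocalization.Away.map φ (s.2 : B)) := by
    constructor
    · apply Groth.Agent.Helper1.ProjQ.awayMap_injective_of_tn φ 1 _ ⟨s.1, s.1.2, (s.2 : B), s.2.2⟩
      intro k hk x hx hx0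
      have h0 : (0 : B) ∈ ℬ k := zero_mem _
      exact (hbij k hk).injOn hx h0 (hx0.trans (map_zero φ).symm)
    · apply Groth.Agent.Helper1.ProjQ.awayMap_surjective_of_tn φ 1 _ ⟨s.1, s.1.2, (s.2 : B), s.2.2⟩
      intro k hk y hy
      obtain ⟨x, hx, hxy⟩ := (hbij k hk).surjOn hy
      exact ⟨x, hx, hxy⟩
  have hiso : CategoryTheory.IsIso (CommRingCat.ofHom (HomogeneousLocalization.Away.map φ (s.2 : B))) :=
    (CategoryTheory.ConcreteCategory.isIso_iff_bijective _).mpr hbij
  have hg : CategoryTheory.IsIso (Spec.map (CommRingCat.ofHom (HomogeneousLocalization.Away.map φ (s.2 : B)))) :=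
    inferInstance
  have h2 : CategoryTheory.IsIso (CategoryTheory.CategoryStruct.comp sq.flip.isoPullback.inv
      (Spec.map (CommRingCat.ofHom (HomogeneousLocalization.Away.map φ (s.2 : B))))) := inferInstance
  rw [sq.flip.isoPullback_inv_snd] at h2
  exact h2

end Groth.Agent.S4398
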