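import Groth.Statements.S4400
import Mathlib
import Groth.Agent.Lib.Helper1.TildeTens

set_option autoImplicit false
universe u
open CategoryTheory CategoryTheory.Limits AlgebraicGeometry
open EGA2

namespace Groth.Agent.S4400

/-- Let S be a ring graded in nonnegative degrees whose irrelevant ideal S_+ is generated by the
degree-one elements, X = Proj S, and M a graded S-module (graded in nonnegative degrees here). Then
for every integer n the O_X-module attached to the shifted module M(n) is isomorphic to the twist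
M~(n) = M~ ⊗ O_X(n). (Existence of an isomorphism only; the published isomorphism is the canonical
one.) -/
theorem result {R A : Type u} [CommRing R] [CommRing A] [Algebra R A] (𝒜 : ℕ → Submodule R A) [GradedAlgebra 𝒜]
    (hgen : (HomogeneousIdeal.irrelevant 𝒜).toIdeal = Ideal.span (𝒜 1 : Set A))
    {M : Type u} [AddCommGroup M] [Module R M] [Module A M] [IsScalarTower R A M] (ℳ : ℕ → Submodule R M) [DirectSum.Decomposition ℳ] [SetLike.GradedSMul 𝒜 ℳ] (n : ℤ) :
    Nonempty (GrTilde.tilde 𝒜 ℳ n ≅ Twist.twistBy 𝒜 (GrTilde.tilde 𝒜 ℳ 0) n) := by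
  apply Groth.Agent.Helper1.TildeTens.nonempty_tilde_iso_twistBy
  intro p
  have hex : ∃ f ∈ 𝒜 1, f ∉ p.asHomogeneousIdeal := by
    by_contra hno
    push Not at hno
    apply p.not_irrelevant_le
    intro a ha
    have ha' : a ∈ (HomogeneousIdeal.irrelevant 𝒜).toIdeal := ha
    rw [hgen] at ha'
    have : Ideal.span (𝒜 1 : Set A) ≤ p.asHomogeneousIdeal.toIdeal :=
      Ideal.span_le.mpr fun g hg => hno g hg
    exact this ha'
  obtain ⟨f, hf, hfp⟩ := hex
  refine ⟨n.toNat • 1, (-n).toNat • 1, f ^ n.toNat, f ^ (-n).toNat,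
    SetLike.pow_mem_graded _ hf, SetLike.pow_mem_graded _ hf, ?_,
    fun h => hfp (p.isPrime.mem_of_pow_mem _ h), fun h => hfp (p.isPrime.mem_of_pow_mem _ h)⟩
  have := Int.toNat_sub_toNat_neg n
  push_cast [smul_eq_mul]
  omega

end Groth.Agent.S4400
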