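import Groth.Statements.S4401
import Mathlib
import Groth.Agent.Lib.Helper1.TwistTens

set_option autoImplicit false
universe u
open CategoryTheory CategoryTheory.Limits AlgebraicGeometry
open EGA2

namespace Groth.Agent.S4401

/-- Let S be a ring graded in nonnegative degrees whose irrelevant ideal S_+ is generated by finitely
many elements of degree one, and X = Proj S. Then for every integer n ≥ 0 there exist an integer k
and an epimorphism of O_X-modules O_X^k → O_X(n). -/
theorem result {R A : Type u} [CommRing R] [CommRing A] [Algebra R A] (𝒜 : ℕ → Submodule R A) [GradedAlgebra 𝒜]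
    (s : Finset A) (hs1 : ∀ f ∈ s, f ∈ 𝒜 1)
    (hs : (HomogeneousIdeal.irrelevant 𝒜).toIdeal = Ideal.span (s : Set A)) (n : ℕ) :
    ∃ (k : ℕ) (p : FlatMod.freeMod (Proj 𝒜) k ⟶ Twist.twist 𝒜 (n : ℤ)), Epi p := by
  classical
  refine ⟨s.card, ?_⟩
  refine Groth.Agent.Helper1.TwistTens.exists_epi_free 𝒜
    (fun i : Fin s.card => ((s.equivFin.symm i : s) : A) ^ n) ?_ ?_
  · intro i
    have := SetLike.pow_mem_graded n (hs1 _ (s.equivFin.symm i).2)
    simpa using this
  · intro p
    have hex : ∃ f ∈ s, f ∉ p.asHomogeneousIdeal := by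
      by_contra hno
      push Not at hno
      apply p.not_irrelevant_le
      intro a ha
      have ha' : a ∈ (HomogeneousIdeal.irrelevant 𝒜).toIdeal := ha
      rw [hs] at ha'
      have : Ideal.span (s : Set A) ≤ p.asHomogeneousIdeal.toIdeal :=
        Ideal.span_le.mpr fun g hg => hno g hg
      exact this ha'
    obtain ⟨f, hf, hfp⟩ := hex
    refine ⟨s.equivFin ⟨f, hf⟩, ?_⟩
    simp only [Equiv.symm_apply_apply]
    exact fun h => hfp (p.isPrime.mem_of_pow_mem n h)

end Groth.Agent.S4401
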