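import Groth.Statements.S4404
import Mathlib.Tactic
import Mathlib.RingTheory.GradedAlgebra.Radical

set_option autoImplicit false
universe u
open EGA2

namespace Groth.Agent.S4404

/-- (a) ⇔ (b): let S be a ring graded in nonnegative degrees and E a subset of the irrelevant ideal S_+.
Then V_+(E) is the whole of Proj S if and only if every element of E is nilpotent. -/
theorem result {R A : Type u} [CommRing R] [CommRing A] [Algebra R A] (𝒜 : ℕ → Submodule R A) [GradedAlgebra 𝒜]
    (E : Set A) (hE : E ⊆ (HomogeneousIdeal.irrelevant 𝒜).toIdeal) :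
    ProjectiveSpectrum.zeroLocus 𝒜 E = Set.univ ↔ ∀ e ∈ E, IsNilpotent e := by
  constructor
  · intro h e he
    rw [nilpotent_iff_mem_prime]
    intro J hJ
    have hcp : (J.homogeneousCore 𝒜).toIdeal.IsPrime := Ideal.IsPrime.homogeneousCore hJ
    have hle : (J.homogeneousCore 𝒜).toIdeal ≤ J := Ideal.toIdeal_homogeneousCore_le 𝒜 J
    by_cases hirr : HomogeneousIdeal.irrelevant 𝒜 ≤ J.homogeneousCore 𝒜
    · exact hle (hirr (hE he))
    · let x : ProjectiveSpectrum 𝒜 := ⟨J.homogeneousCore 𝒜, hcp, hirr⟩
      have hx : x ∈ ProjectiveSpectrum.zeroLocus 𝒜 E := by rw [h]; trivial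
      rw [ProjectiveSpectrum.mem_zeroLocus] at hx
      exact hle (hx he)
  · intro h
    ext x
    simp only [Set.mem_univ, iff_true]
    rw [ProjectiveSpectrum.mem_zeroLocus]
    intro e he
    have := x.isPrime
    exact (nilpotent_iff_mem_prime.1 (h e he)) _ x.isPrime

end Groth.Agent.S4404
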