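import Groth.Statements.S4409
import Mathlib
import Groth.Agent.Lib.Helper1.QAffHom

set_option autoImplicit false
universe u
open CategoryTheory CategoryTheory.Limits AlgebraicGeometry
open EGA2

namespace Groth.Agent.S4409

/-- (a) ⇔ (d): let f : X → Y be a quasi-compact morphism. Then f is quasi-affine (the preimage of every
affine open of Y is a quasi-affine scheme) if and only if f is separated and, for every
quasi-coherent O_X-module F, the canonical morphism f^*(f_*(F)) → F (counit of the adjunction
between f^* and f_*) is an epimorphism. -/
theorem result {X Y : Scheme.{u}} (f : X ⟶ Y) [QuasiCompact f] :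
    Mor2.IsQuasiAffine f ↔ (IsSeparated f ∧ ∀ F : X.Modules, Coh.IsQCoh F →
      Epi ((Scheme.Modules.pullbackPushforwardAdjunction f).counit.app F)) := by
  constructor
  · intro hqa
    refine ⟨?_, fun F hF => ?_⟩
    · rw [HasAffineProperty.eq_targetAffineLocally (P := @IsSeparated)]
      intro U
      have := hqa.2 U.1 U.2
      change Scheme.IsSeparated (↑(f ⁻¹ᵁ U.1) : Scheme.{u})
      infer_instance
    · apply Groth.Agent.Helper1.CounitLib.epi_counit_of_globallyGenerated_restrict
      intro U hU
      have := hqa.2 U hU
      have : F.IsQuasicoherent := hF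
      have : (F.restrict (f ⁻¹ᵁ U).ι).IsQuasicoherent := inferInstance
      exact Groth.Agent.Helper1.QAffHom.isGloballyGenerated_of_isQuasiAffine _
  · rintro ⟨hsep, h⟩
    refine ⟨inferInstance, fun V hV => ?_⟩
    exact Groth.Agent.Helper1.QAffHom.isQuasiAffine_preimage_of_epi_counit f V hV
      (f.isCompact_preimage hV.isCompact) (f.isQuasiSeparated_preimage hV.isQuasiSeparated) h

end Groth.Agent.S4409
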