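import Groth.Statements.S4414
import Mathlib
import Groth.Agent.Lib.Helper1.VA6
import Groth.Agent.Lib.Helper1.CompAmple

set_option autoImplicit false
universe u
open CategoryTheory CategoryTheory.Limits AlgebraicGeometry
open EGA2

namespace Groth.Agent.S4414

/-- Let Y be a quasi-compact separated scheme possessing an ample invertible O_Y-module, and f : X → Y a
morphism. Then f is quasi-projective (of finite type with some O_X-module ample relative to f) if
and only if f is of finite type and there are r ≥ 0 and an immersion i of X into projective r-space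
over Y with i followed by the projection equal to f. -/
theorem result {X Y : Scheme.{u}} [CompactSpace Y] [Y.IsSeparated]
    (hY : ∃ M : Y.Modules, CohB1.IsAmple M) (f : X ⟶ Y) :
    RelProj.IsQuasiProjective f ↔
      (LocallyOfFiniteType f ∧ QuasiCompact f ∧
        ∃ (r : ℕ) (i : X ⟶ CohB1.ProjSpaceOver r Y), IsImmersion i ∧ i ≫ CohB1.ProjSpaceOver.toBase r Y = f) := by
  obtain ⟨N, hN⟩ := hY
  constructor
  · rintro ⟨hlft, hqc, L, hL⟩
    refine ⟨hlft, hqc, ?_⟩
    obtain ⟨n₀, -, hn₀⟩ := Groth.Agent.Helper1.CompAmple.isAmple_tensor_pullback_pow f hN hL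
    obtain ⟨m₀, hm₀⟩ := Groth.Agent.Helper1.VA4.exists_veryAmple_powers' f (hn₀ n₀ le_rfl)
    obtain ⟨r, i, hi, hif, -⟩ := hm₀ m₀ le_rfl
    exact ⟨r, i, hi, hif⟩
  · rintro ⟨hlft, hqc, r, i, hi, hif⟩
    refine ⟨hlft, hqc, ?_⟩
    have hsep0 : IsSeparated (CohB1.ProjSpace.toSpec r (ULift.{u} ℤ)) :=
      Groth.Agent.Helper1.VA5.isSeparated_toSpec r _
    have hqc0 : QuasiCompact (CohB1.ProjSpace.toSpec r (ULift.{u} ℤ)) :=
      Groth.Agent.Helper1.VA5.quasiCompact_toSpec r _
    have hqs : QuasiSeparated (CohB1.ProjSpaceOver.toBase r Y) := by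
      have : QuasiSeparated (pullback.snd (CohB1.ProjSpace.toSpec r (ULift.{u} ℤ))
        (specULiftZIsTerminal.from Y)) := inferInstance
      exact this
    have hqcb : QuasiCompact (CohB1.ProjSpaceOver.toBase r Y) := by
      have : QuasiCompact (pullback.snd (CohB1.ProjSpace.toSpec r (ULift.{u} ℤ))
        (specULiftZIsTerminal.from Y)) := inferInstance
      exact this
    subst hif
    have : QuasiCompact i := QuasiCompact.of_comp i (CohB1.ProjSpaceOver.toBase r Y)
    exact ⟨_, Groth.Agent.Helper1.PullAmple.isRelAmple_pullback_of_isEmbedding i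
      (CohB1.ProjSpaceOver.toBase r Y) i.isEmbedding
      (Groth.Agent.Helper1.VA5.isRelAmple_twistOver r Y)⟩

end Groth.Agent.S4414
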