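import Groth.Statements.S4431
import Mathlib

set_option autoImplicit false
universe u
open EGA2

namespace Groth.Agent.S4431

/-- Let A be an integral domain with fraction field K, E a finitely generated torsion-free A-module and
u an endomorphism of E whose characteristic-polynomial coefficients (those of u ⊗ 1 on K ⊗_A E) all
lie in A. If the determinant of u is the image of a unit of A, then u is an automorphism of E. -/
theorem result (A : Type u) [CommRing A] [IsDomain A] (K : Type u) [Field K]
    [Algebra A K] [IsFractionRing A K] (E : Type u) [AddCommGroup E] [Module A E] [Module.Finite A E]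
    [Module.IsTorsionFree A E]
    (u : E →ₗ[A] E) (hcoeff : ∀ i : ℕ, ((u.baseChange K).charpoly).coeff i ∈ (algebraMap A K).range)
    (a : A) (ha : algebraMap A K a = LinearMap.det (u.baseChange K)) (hunit : IsUnit a) :
    Function.Bijective u := by
  classical
  set v := u.baseChange K with hv
  -- lift the characteristic polynomial to A[X]
  have hl : v.charpoly ∈ Polynomial.lifts (algebraMap A K) := by
    rw [Polynomial.lifts_iff_coeff_lifts]
    intro n
    exact hcoeff n
  obtain ⟨p, hp⟩ := hl
  -- Cayley–Hamilton transported to E
  have hCH : Polynomial.aeval v (p.map (algebraMap A K)) = 0 := by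
    have : p.map (algebraMap A K) = v.charpoly := hp
    rw [this]; exact LinearMap.aeval_self_charpoly v
  have hbc : (Polynomial.aeval u p).baseChange K = 0 := by
    have h1 := Polynomial.aeval_algHom_apply (Module.End.baseChangeHom A K E) u p
    rw [Polynomial.aeval_map_algebraMap] at hCH
    have h2 : (Module.End.baseChangeHom A K E) u = v := rfl
    rw [h2, hCH] at h1
    exact h1.symm
  have hinj : Function.Injective (TensorProduct.mk A K E 1) := by
    rw [← LinearMap.ker_eq_bot, LinearMap.ker_eq_bot']
    intro x hx
    have hloc : IsLocalizedModule (nonZeroDivisors A) (TensorProduct.mk A K E 1) :=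
      inferInstance
    obtain ⟨s, hs⟩ := (IsLocalizedModule.eq_zero_iff (nonZeroDivisors A) _).1 hx
    rcases smul_eq_zero.1 hs with h | h
    · exact absurd h (nonZeroDivisors.coe_ne_zero s)
    · exact h
  have hP : Polynomial.aeval u p = 0 := by
    ext x
    apply hinj
    have := LinearMap.congr_fun hbc ((1 : K) ⊗ₜ[A] x)
    rw [LinearMap.baseChange_tmul] at this
    simpa using this
  -- split off the constant coefficient
  obtain ⟨q, hq⟩ := Polynomial.X_dvd_sub_C (p := p)
  have hp' : p = Polynomial.C (p.coeff 0) + Polynomial.X * q := by rw [← hq]; ring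
  have hc0 : algebraMap A K (p.coeff 0) = (-1) ^ Module.finrank K (TensorProduct A K E) * algebraMap A K a := by
    rw [ha, LinearMap.det_eq_sign_charpoly_coeff, ← Polynomial.coeff_map]
    have : p.map (algebraMap A K) = v.charpoly := hp
    rw [this, ← mul_assoc, ← mul_pow]
    simp
  have hc : IsUnit (p.coeff 0) := by
    have : p.coeff 0 = (-1) ^ Module.finrank K (TensorProduct A K E) * a := by
      apply IsFractionRing.injective A K
      rw [hc0]; simp
    rw [this]
    exact (IsUnit.pow _ (isUnit_one.neg)).mul hunit
  obtain ⟨c, hc⟩ := hc
  -- the inverse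
  have hrel : (c : A) • (LinearMap.id : E →ₗ[A] E) + u * Polynomial.aeval u q = 0 := by
    have h := hP
    rw [hp'] at h
    simp only [map_add, map_mul, Polynomial.aeval_C, Polynomial.aeval_X] at h
    rw [← h, hc, Algebra.algebraMap_eq_smul_one]
    rfl
  have hcomm : u * Polynomial.aeval u q = Polynomial.aeval u q * u := by
    have h := (Polynomial.commute_X q).map (Polynomial.aeval u)
    rw [Polynomial.aeval_X] at h
    exact h.eq
  let w : E →ₗ[A] E := -((↑(c⁻¹) : A) • Polynomial.aeval u q)
  have h1 : ∀ x, u (w x) = x := by
    intro x
    have := LinearMap.congr_fun hrel x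
    simp only [LinearMap.add_apply, LinearMap.smul_apply, LinearMap.id_apply, Module.End.mul_apply,
      LinearMap.zero_apply] at this
    show u (-((↑(c⁻¹) : A) • Polynomial.aeval u q) x) = x
    simp only [LinearMap.neg_apply, LinearMap.smul_apply, map_neg, map_smul]
    have h2 : u ((Polynomial.aeval u q) x) = -((c : A) • x) := by
      rw [eq_neg_iff_add_eq_zero, add_comm]; exact this
    rw [h2, smul_neg, neg_neg, smul_smul, Units.inv_mul, one_smul]
  have h2 : ∀ x, w (u x) = x := by
    intro x
    have := LinearMap.congr_fun hrel x
    rw [hcomm] at this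
    simp only [LinearMap.add_apply, LinearMap.smul_apply, LinearMap.id_apply, Module.End.mul_apply,
      LinearMap.zero_apply] at this
    show (-((↑(c⁻¹) : A) • Polynomial.aeval u q)) (u x) = x
    simp only [LinearMap.neg_apply, LinearMap.smul_apply]
    have h3 : (Polynomial.aeval u q) (u x) = -((c : A) • x) := by
      rw [eq_neg_iff_add_eq_zero, add_comm]; exact this
    rw [h3, smul_neg, neg_neg, smul_smul, Units.inv_mul, one_smul]
  exact ⟨Function.LeftInverse.injective h2, Function.RightInverse.surjective h1⟩

end Groth.Agent.S4431
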