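import Groth.Statements.S4432
import Mathlib
-- import your own Groth.Agent.* helpers here

set_option autoImplicit false
universe u
open EGA2

namespace Groth.Agent.S4432

open Polynomial
namespace Aux

section mat

variable {A K : Type u} [CommRing A] [CommRing K] [Algebra A K]
  {ι : Type u} [Fintype ι] [DecidableEq ι]

theorem entry (x : ι → ι → K) (P : Matrix ι ι K) (i j : ι) :
    ((C.mapMatrix (Matrix.of x) : Matrix ι ι K[X]) * Matrix.charmatrix P.transpose) i j =
      (X : K[X]) * C (x i j) + (-1 : K[X]) * C (P.mulVec (x i) j) := by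
  simp only [Matrix.mul_apply, Matrix.charmatrix_apply, RingHom.mapMatrix_apply, Matrix.map_apply,
    Matrix.of_apply, mul_sub, Finset.sum_sub_distrib, Matrix.diagonal_apply, mul_ite, mul_zero,
    Finset.sum_ite_eq', Finset.mem_univ, if_true, Matrix.transpose_apply, Matrix.mulVec, dotProduct,
    map_sum, map_mul]
  rw [sub_eq_add_neg, mul_comm]
  congr 1
  rw [neg_one_mul]
  congr 1
  exact Finset.sum_congr rfl (fun k _ => mul_comm _ _)

theorem expand (x : ι → ι → K) (P : Matrix ι ι K) :
    C (Matrix.det (Matrix.of x)) * P.charpoly =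
      ∑ s : Finset ι, (∏ i, (if i ∈ s then (X : K[X]) else -1)) *
        C (Matrix.det (Matrix.of (s.piecewise x (fun i => P.mulVec (x i))))) := by
  rw [← Matrix.charpoly_transpose P]
  have h1 : C (Matrix.det (Matrix.of x)) * P.transpose.charpoly =
      Matrix.det ((C.mapMatrix (Matrix.of x) : Matrix ι ι K[X]) *
        Matrix.charmatrix P.transpose) := by
    rw [Matrix.det_mul, ← RingHom.map_det]; rfl
  rw [h1]
  have h2 : ((C.mapMatrix (Matrix.of x) : Matrix ι ι K[X]) * Matrix.charmatrix P.transpose) =
      (fun i => (fun j => (X : K[X]) * C (x i j))) +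
        (fun i => fun j => (-1 : K[X]) * C (P.mulVec (x i) j)) := by
    funext i j; exact entry x P i j
  rw [h2]
  change (Matrix.detRowAlternating (R := K[X]) (n := ι)).toMultilinearMap _ = _
  rw [MultilinearMap.map_add_univ]
  refine Finset.sum_congr rfl (fun s _ => ?_)
  have h3 : (s.piecewise (fun i => (fun j => (X : K[X]) * C (x i j)))
      (fun i => fun j => (-1 : K[X]) * C (P.mulVec (x i) j))) =
      fun i => (if i ∈ s then (X : K[X]) else -1) •
        (fun j => C ((s.piecewise x (fun i => P.mulVec (x i))) i j)) := by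
    funext i j
    by_cases hi : i ∈ s <;> simp [Finset.piecewise, hi]
  rw [h3, MultilinearMap.map_smul_univ, smul_eq_mul]
  congr 1
  change Matrix.det _ = _
  rw [RingHom.map_det]
  rfl

theorem coeff_mem (D : Submodule A K) (x : ι → ι → K) (P : Matrix ι ι K)
    (h : ∀ s : Finset ι,
      Matrix.det (Matrix.of (s.piecewise x (fun i => P.mulVec (x i)))) ∈ D) (j : ℕ) :
    Matrix.det (Matrix.of x) * P.charpoly.coeff j ∈ D := by
  have := congrArg (fun p => p.coeff j) (expand x P)
  simp only [coeff_C_mul, finset_sum_coeff] at this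
  rw [this]
  apply Submodule.sum_mem
  intro s _
  rw [Finset.prod_ite]
  simp only [Finset.prod_const]
  have hneg : ((-1 : K[X]) ^ (Finset.univ.filter (fun i => i ∉ s)).card) =
      C ((-1 : K) ^ (Finset.univ.filter (fun i => i ∉ s)).card) := by
    rw [map_pow, map_neg, map_one]
  rw [hneg, mul_assoc, ← C_mul, coeff_X_pow_mul', coeff_C]
  split_ifs
  · rcases neg_one_pow_eq_or K (Finset.univ.filter (fun i => i ∉ s)).card with h1 | h1
    · rw [h1, one_mul]; exact h s
    · rw [h1, neg_one_mul]; exact D.neg_mem (h s)
  · exact D.zero_mem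
  · exact D.zero_mem

end mat

section lattice

variable {A K E : Type u} [CommRing A] [CommRing K] [Algebra A K] [AddCommGroup E] [Module A E]
  {ι : Type u} [Fintype ι] [DecidableEq ι] (φ : E →ₗ[A] (ι → K))

/-- the determinant multilinear map on `E` -/
noncomputable def μ : MultilinearMap A (fun _ : ι => E) K :=
  ((Matrix.detRowAlternating (R := K) (n := ι)).toMultilinearMap.restrictScalars A).compLinearMap
    (fun _ => φ)

theorem μ_apply (e : ι → E) : μ φ e = Matrix.det (Matrix.of (fun i => φ (e i))) := rfl

/-- the determinant lattice -/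
noncomputable def D : Submodule A K := LinearMap.range (PiTensorProduct.lift (μ φ))

theorem μ_mem (e : ι → E) : Matrix.det (Matrix.of (fun i => φ (e i))) ∈ D φ :=
  ⟨PiTensorProduct.tprod A e, by rw [PiTensorProduct.lift.tprod]; rfl⟩

theorem D_fg [Module.Finite A E] : (D φ).FG := by
  rw [D, LinearMap.range_eq_map]
  exact Module.Finite.fg_top.map _

theorem coeff_mul_mem (v : E →ₗ[A] E) (P : Matrix ι ι K)
    (hP : ∀ e, φ (v e) = P.mulVec (φ e)) (j : ℕ) (d : K) (hd : d ∈ D φ) :
    P.charpoly.coeff j * d ∈ D φ := by
  obtain ⟨t, rfl⟩ := hd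
  induction t using PiTensorProduct.induction_on with
  | smul_tprod r e =>
    rw [map_smul, PiTensorProduct.lift.tprod, mul_smul_comm]
    apply (D φ).smul_mem
    rw [μ_apply, mul_comm]
    apply coeff_mem (D φ) (fun i => φ (e i)) P
    intro s
    have : (s.piecewise (fun i => φ (e i)) (fun i => P.mulVec (φ (e i)))) =
        fun i => φ ((s.piecewise e (fun i => v (e i))) i) := by
      funext i
      by_cases hi : i ∈ s <;> simp [Finset.piecewise, hi, hP]
    rw [this]
    exact μ_mem φ _
  | add x y hx hy =>
    rw [map_add, mul_add]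
    exact (D φ).add_mem hx hy

/-- the stabiliser subalgebra of the lattice -/
def A₁ : Subalgebra A K where
  carrier := {c | ∀ d ∈ D φ, c * d ∈ D φ}
  mul_mem' := fun {a b} ha hb d hd => by rw [mul_assoc]; exact ha _ (hb _ hd)
  one_mem' := fun d hd => by rwa [one_mul]
  add_mem' := fun {a b} ha hb d hd => by rw [add_mul]; exact (D φ).add_mem (ha _ hd) (hb _ hd)
  zero_mem' := fun d hd => by rw [zero_mul]; exact (D φ).zero_mem
  algebraMap_mem' := fun r d hd => by rw [← Algebra.smul_def]; exact (D φ).smul_mem r hd

theorem fg_of_le [IsNoetherianRing A] [Module.Finite A E] (S : Subalgebra A K) (hS : S ≤ A₁ φ)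
    (d₀ : K) (hd₀ : IsUnit d₀) (hd₀D : d₀ ∈ D φ) : S.toSubmodule.FG := by
  obtain ⟨u, rfl⟩ := hd₀
  let D' : Submodule A K := (D φ).map (LinearMap.mulLeft A ((u⁻¹ : Kˣ) : K))
  have hD' : D'.FG := (D_fg φ).map _
  haveI : IsNoetherian A D' := isNoetherian_of_fg_of_noetherian D' hD'
  have hle : S.toSubmodule ≤ D' := by
    intro c hc
    have h1 : c * (u : K) ∈ D φ := hS hc _ hd₀D
    refine ⟨c * (u : K), h1, ?_⟩
    change ((u⁻¹ : Kˣ) : K) * (c * (u : K)) = c
    rw [mul_comm c, ← mul_assoc, Units.inv_mul, one_mul]
  exact isNoetherian_submodule.mp this _ hle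

end lattice

open TensorProduct in
theorem main (A : Type u) [CommRing A] [IsNoetherianRing A]
    (E : Type u) [AddCommGroup E] [Module A E] [Module.Finite A E]
    [Module.Free (FractionRing A) (TensorProduct A (FractionRing A) E)] :
    (Algebra.adjoin A {c : FractionRing A | ∃ (v : E →ₗ[A] E) (j : ℕ),
        c = ((v.baseChange (FractionRing A)).charpoly).coeff j}).toSubmodule.FG := by
  classical
  let ι := Module.Free.ChooseBasisIndex (FractionRing A) (TensorProduct A (FractionRing A) E)
  let b : Module.Basis ι (FractionRing A) (TensorProduct A (FractionRing A) E) :=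
    Module.Free.chooseBasis (FractionRing A) _
  let φ : E →ₗ[A] (ι → FractionRing A) :=
    (b.equivFun.toLinearMap.restrictScalars A).comp (TensorProduct.mk A (FractionRing A) E 1)
  have hφ : ∀ (v : E →ₗ[A] E) (e : E), φ (v e) =
      (LinearMap.toMatrix b b (v.baseChange (FractionRing A))).mulVec (φ e) := by
    intro v e
    have := LinearMap.toMatrix_mulVec_repr b b (v.baseChange (FractionRing A))
      ((1 : FractionRing A) ⊗ₜ[A] e)
    rw [LinearMap.baseChange_tmul] at this
    exact this.symm
  have hloc : ∀ m : TensorProduct A (FractionRing A) E, ∃ (x : E × nonZeroDivisors A),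
      x.2 • m = TensorProduct.mk A (FractionRing A) E 1 x.1 :=
    IsLocalizedModule.surj (nonZeroDivisors A) (TensorProduct.mk A (FractionRing A) E 1)
  choose x hx using fun i => hloc (b i)
  have hd₀ : Matrix.det (Matrix.of (fun i => φ ((x i).1))) =
      algebraMap A (FractionRing A) (∏ i, ((x i).2 : A)) := by
    have : Matrix.of (fun i => φ ((x i).1)) =
        Matrix.diagonal (fun i => algebraMap A (FractionRing A) ((x i).2 : A)) := by
      ext i j
      change b.equivFun (TensorProduct.mk A (FractionRing A) E 1 (x i).1) j = _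
      rw [← hx i]
      have : ((x i).2 • b i : TensorProduct A (FractionRing A) E) =
          (algebraMap A (FractionRing A) ((x i).2 : A)) • b i := by
        rw [algebraMap_smul]; rfl
      rw [this, map_smul, Pi.smul_apply, Module.Basis.equivFun_self]
      simp [Matrix.diagonal_apply, eq_comm]
    rw [this, Matrix.det_diagonal, map_prod]
  apply fg_of_le φ _ ?_ (algebraMap A (FractionRing A) (∏ i, ((x i).2 : A))) ?_ ?_
  · apply Algebra.adjoin_le
    rintro c ⟨v, j, rfl⟩
    intro d hd
    rw [← LinearMap.charpoly_toMatrix (v.baseChange (FractionRing A)) b]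
    exact coeff_mul_mem φ v _ (hφ v) j d hd
  · exact IsLocalization.map_units (FractionRing A)
      (⟨∏ i, ((x i).2 : A), Submonoid.prod_mem _ (fun i _ => (x i).2.2)⟩ : nonZeroDivisors A)
  · rw [← hd₀]
    exact μ_mem φ _

end Aux

/-- Let A be a reduced Noetherian ring, K its total ring of fractions, and E a finitely generated
A-module with K ⊗_A E free over K. The A-subalgebra of K generated by the coefficients of the
characteristic polynomials of v ⊗ 1 (v running through all endomorphisms of E), i.e. by all
elementary symmetric functions of all endomorphisms of E, is a finitely generated A-module. -/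
theorem result (A : Type u) [CommRing A] [IsNoetherianRing A] [IsReduced A]
    (E : Type u) [AddCommGroup E] [Module A E] [Module.Finite A E]
    [Module.Free (FractionRing A) (TensorProduct A (FractionRing A) E)] :
    (Algebra.adjoin A {c : FractionRing A | ∃ (v : E →ₗ[A] E) (j : ℕ),
        c = ((v.baseChange (FractionRing A)).charpoly).coeff j}).toSubmodule.FG := by
  exact Aux.main A E

end Groth.Agent.S4432
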