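import Groth.Statements.S4435
import Mathlib
-- import your own Groth.Agent.* helpers here

set_option autoImplicit false
universe u
open CategoryTheory CategoryTheory.Limits AlgebraicGeometry
open EGA2

namespace Groth.Agent.S4435

open CategoryTheory CategoryTheory.Limits AlgebraicGeometry
namespace Aux

section alg

variable {A B K L : Type u} [CommRing A] [CommRing B] [CommRing K] [Field L]
  (a : A →+* K) (b : B →+* L) (g : A →+* B) (k : K →+* L)

theorem elem_integral (hc : k.comp a = b.comp g) (hg : g.IsIntegral) (β : B) :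
    k.IsIntegralElem (b β) := by
  obtain ⟨p, hp, hp0⟩ := hg β
  refine ⟨p.map a, hp.map a, ?_⟩
  rw [Polynomial.eval₂_map, hc, ← Polynomial.hom_eval₂, hp0, map_zero]

theorem integral_of (hK : IsField K) (hc : k.comp a = b.comp g)
    (hL : ∀ x : L, ∃ β s : B, b s ≠ 0 ∧ x * b s = b β) (hg : g.IsIntegral) : k.IsIntegral := by
  intro x
  obtain ⟨β, s, hs, hx⟩ := hL x
  letI := hK.toField
  letI := k.toAlgebra
  have h1 : IsIntegral K (b β) := elem_integral a b g k hc hg β
  have h2 : IsIntegral K (b s) := elem_integral a b g k hc hg s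
  have h3 : IsIntegral K ((b β) * (b s)⁻¹) := h1.mul h2.inv
  have : x = b β * (b s)⁻¹ := by
    rw [← hx, mul_assoc, mul_inv_cancel₀ hs, mul_one]
  rw [this]
  exact h3

theorem finite_of (hK : IsField K) (hc : k.comp a = b.comp g)
    (hL : ∀ x : L, ∃ β s : B, b s ≠ 0 ∧ x * b s = b β) (hg : g.Finite) : k.Finite := by
  have hint : g.IsIntegral := RingHom.IsIntegral.of_finite hg
  letI := hK.toField
  letI := k.toAlgebra
  letI := g.toAlgebra
  have hfin : Module.Finite A B := hg
  obtain ⟨G, hG⟩ := hfin.fg_top
  let F : IntermediateField K L := IntermediateField.adjoin K (b '' (G : Set B))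
  have hbB : ∀ β : B, b β ∈ F := by
    intro β
    have hβ : β ∈ Submodule.span A (G : Set B) := by rw [hG]; trivial
    induction hβ using Submodule.span_induction with
    | mem x hx => exact IntermediateField.subset_adjoin K _ ⟨x, hx, rfl⟩
    | zero => rw [map_zero]; exact F.zero_mem
    | add x y _ _ hx hy => rw [map_add]; exact F.add_mem hx hy
    | smul r x _ hx =>
      have : b (r • x) = k (a r) * b x := by
        rw [Algebra.smul_def, map_mul]
        congr 1
        exact (congrArg (fun h => h r) hc).symm
      rw [this]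
      exact F.mul_mem (F.algebraMap_mem (a r)) hx
  have htop : ∀ x : L, x ∈ F := by
    intro x
    obtain ⟨β, s, hs, hx⟩ := hL x
    have : x = b β * (b s)⁻¹ := by
      rw [← hx, mul_assoc, mul_inv_cancel₀ hs, mul_one]
    rw [this]
    exact F.mul_mem (hbB β) (F.inv_mem (hbB s))
  haveI : FiniteDimensional K F := by
    apply IntermediateField.finiteDimensional_adjoin
    rintro _ ⟨β, -, rfl⟩
    exact elem_integral a b g k hc hint β
  have : Module.Finite K L :=
    Module.Finite.of_surjective F.val.toLinearMap (fun x => ⟨⟨x, htop x⟩, rfl⟩)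
  exact this

end alg

section sch

variable {X S : Scheme.{u}} [IsIntegral X] [IsIntegral S] (f : X ⟶ S) [IsDominant f]

theorem map_genericPoint : f (genericPoint X) = genericPoint S := by
  have h1 : IsGenericPoint (f (genericPoint X)) (closure (f.base '' (Set.univ : Set X))) :=
    (genericPoint_spec X).image f.continuous
  have h2 : closure (f.base '' (Set.univ : Set X)) = Set.univ := by
    rw [Set.image_univ]
    exact f.denseRange.closure_range
  rw [h2] at h1
  exact h1.eq (genericPoint_spec S)

theorem setup [IsAffineHom f] :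
    ∃ (A B : Type u) (_ : CommRing A) (_ : CommRing B)
      (a : A →+* S.presheaf.stalk (f (genericPoint X))) (b : B →+* X.presheaf.stalk (genericPoint X))
      (g : A →+* B), IsField (S.presheaf.stalk (f (genericPoint X))) ∧ (f.stalkMap (genericPoint X)).hom.comp a = b.comp g ∧
      (∀ x, ∃ β s : B, b s ≠ 0 ∧ x * b s = b β) ∧
      (IsIntegralHom f → g.IsIntegral) ∧ (IsFinite f → g.Finite) := by
  obtain ⟨_, ⟨U, hU, rfl⟩, hfξ, -⟩ := S.isBasis_affineOpens.exists_subset_of_mem_open
    (Set.mem_univ (f (genericPoint X))) isOpen_univ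
  have hU' : IsAffineOpen U := hU
  have hV : IsAffineOpen (f ⁻¹ᵁ U) := hU'.preimage f
  have hξV : genericPoint X ∈ f ⁻¹ᵁ U := hfξ
  have hfield : IsField (S.presheaf.stalk (f (genericPoint X))) :=
    MulEquiv.isField (Field.toIsField S.functionField)
      (S.presheaf.stalkCongr (.of_eq (map_genericPoint f))).commRingCatIsoToRingEquiv.toMulEquiv
  refine ⟨Γ(S, U), Γ(X, f ⁻¹ᵁ U), inferInstance, inferInstance,
    (S.presheaf.germ U _ hfξ).hom, (X.presheaf.germ (f ⁻¹ᵁ U) _ hξV).hom, (f.app U).hom, hfield,
    ?_, ?_, ?_, ?_⟩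
  · rw [← CommRingCat.hom_comp, ← CommRingCat.hom_comp, Scheme.Hom.germ_stalkMap]
  · intro x
    letI := X.presheaf.algebra_section_stalk ⟨genericPoint X, hξV⟩
    haveI := hV.isLocalization_stalk ⟨genericPoint X, hξV⟩
    obtain ⟨⟨β, s⟩, hx⟩ := IsLocalization.surj (hV.primeIdealOf ⟨genericPoint X, hξV⟩).asIdeal.primeCompl x
    refine ⟨β, s.1, ?_, hx⟩
    have hu : IsUnit (algebraMap Γ(X, f ⁻¹ᵁ U) (X.presheaf.stalk (genericPoint X)) s.1) :=
      IsLocalization.map_units _ s
    exact hu.ne_zero
  · intro h
    exact h.isIntegral_app U hU'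
  · intro h
    exact h.finite_app U hU'

theorem main :
    (IsIntegralHom f → (f.stalkMap (genericPoint X)).hom.IsIntegral) ∧
      (IsFinite f → (f.stalkMap (genericPoint X)).hom.Finite) := by
  constructor
  · intro h
    obtain ⟨A, B, _, _, a, b, g, hK, hc, hL, h1, -⟩ := setup f
    exact integral_of a b g _ hK hc hL (h1 h)
  · intro h
    obtain ⟨A, B, _, _, a, b, g, hK, hc, hL, -, h2⟩ := setup f
    exact finite_of a b g _ hK hc hL (h2 h)

end sch

end Aux

/-- Let X, S be integral schemes and f : X ⟶ S a dominant morphism. If f is integral, the field of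
rational functions of X is algebraic over that of S; if f is finite, it is a finite extension. Here
the extension is given by the stalk map of f at the generic point of X, whose source is the local
ring of S at the generic point of S (f being dominant), i.e. the function field of S. -/
theorem result {X S : Scheme.{u}} [IsIntegral X] [IsIntegral S]
    (f : X ⟶ S) [IsDominant f] :
    (IsIntegralHom f → (f.stalkMap (genericPoint X)).hom.IsIntegral) ∧
      (IsFinite f → (f.stalkMap (genericPoint X)).hom.Finite) := by
  exact Aux.main f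

end Groth.Agent.S4435
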