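import Groth.Statements.S4436
import Mathlib
import Groth.Agent.Lib.Lead.SL1

set_option autoImplicit false
universe u
open CategoryTheory CategoryTheory.Limits AlgebraicGeometry
open EGA2

namespace Groth.Agent.S4436

section
open CategoryTheory CategoryTheory.Limits AlgebraicGeometry

open Groth.Agent.Lead.SL Groth.Agent.Lead.FLF

theorem main {X' X : Scheme.{u}} (f : X' ⟶ X) [IsFinite f] (r : ℕ)
    (F : X'.Modules) (hF : FlatMod.IsFinLocFreeOfRank r F) (x : X) :
    ∃ U : X.Opens, x ∈ U ∧ Nonempty (F.restrict (f ⁻¹ᵁ U).ι ≅ FlatMod.freeMod (↑(f ⁻¹ᵁ U)) r) := by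
  obtain ⟨_, ⟨V, hV, rfl⟩, hxV, -⟩ :=
    X.isBasis_affineOpens.exists_subset_of_mem_open (Set.mem_univ x) isOpen_univ
  have hV' : IsAffineOpen (f ⁻¹ᵁ V) := hV.preimage f
  have hZ : (f ⁻¹' {x}).Finite := f.finite_preimage_singleton x
  have hZV : f ⁻¹' {x} ⊆ (f ⁻¹ᵁ V : X'.Opens) := by
    intro z hz
    have : f z = x := hz
    show f z ∈ V
    rw [this]; exact hxV
  obtain ⟨h, hZh, ⟨e⟩⟩ := exists_basicOpen_free F r hF hV' (f ⁻¹' {x}) hZ hZV
  have hclosed : IsClosed (f '' ((X'.basicOpen h : Set X')ᶜ)) :=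
    f.isClosedMap _ (X'.basicOpen h).isOpen.isClosed_compl
  let W : X.Opens := ⟨(f '' ((X'.basicOpen h : Set X')ᶜ))ᶜ, hclosed.isOpen_compl⟩
  have hxW : x ∈ W := by
    rintro ⟨z, hz, hzx⟩
    exact hz (hZh hzx)
  have hle : f ⁻¹ᵁ (V ⊓ W) ≤ X'.basicOpen h := by
    intro z hz
    by_contra hcon
    exact hz.2 ⟨z, hcon, rfl⟩
  exact ⟨V ⊓ W, ⟨hxV, hxW⟩, ⟨freeOfLE hle F r e⟩⟩


end


/-- Let f : X' ⟶ X be a finite morphism and F' a locally free O_{X'}-module of rank r. Then every point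
of X has an open neighbourhood U over whose inverse image F' is free of rank r; this is the content
of the statement that the direct image of F' is a locally free module of rank r over the direct
image of O_{X'} (the converse implication being immediate). -/
theorem result {X' X : Scheme.{u}} (f : X' ⟶ X) [IsFinite f] (r : ℕ)
    (F : X'.Modules) (hF : FlatMod.IsFinLocFreeOfRank r F) (x : X) :
    ∃ U : X.Opens, x ∈ U ∧ Nonempty (F.restrict (f ⁻¹ᵁ U).ι ≅ FlatMod.freeMod (↑(f ⁻¹ᵁ U)) r) := by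
  classical
  exact main f r F hF x

end Groth.Agent.S4436
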