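import Groth.Statements.S4447
-- import your own Groth.Agent.* helpers here
import Mathlib

set_option autoImplicit false
universe u
open CategoryTheory CategoryTheory.Limits AlgebraicGeometry
open EGA2

namespace Groth.Agent.S4447

/-- Let p : X ⟶ Y be a morphism, x a point of X, y = p(x) and y' a specialization of y distinct from y.
Then there are a valuation ring A which is not a field, with field of fractions the residue field
k(x), and a morphism Spec A ⟶ Y mapping the closed point to y' and restricting on Spec k(x) to the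
canonical morphism Spec k(x) ⟶ X ⟶ Y (in particular the generic point of Spec A goes to y). -/
theorem result {X Y : Scheme.{u}} (p : X ⟶ Y) (x : X) (y' : Y)
    (hsp : p.base x ⤳ y') (hne : y' ≠ p.base x) :
    ∃ (A : ValuationSubring (X.residueField x)) (h : Spec (CommRingCat.of A) ⟶ Y), A ≠ ⊤ ∧
      h.base (IsLocalRing.closedPoint A) = y' ∧
      Spec.map (CommRingCat.ofHom A.subtype) ≫ h = X.fromSpecResidueField x ≫ p := by
  let φ₀ : Y.presheaf.stalk y' ⟶ X.residueField x :=
    Y.presheaf.stalkSpecializes hsp ≫ p.stalkMap x ≫ X.residue x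
  obtain ⟨A, hA, hA_local⟩ := IsLocalRing.exists_factor_valuationRing φ₀.hom
  let ψ : Y.presheaf.stalk y' ⟶ CommRingCat.of A :=
    CommRingCat.ofHom (φ₀.hom.codRestrict _ hA)
  have hψ : ψ ≫ CommRingCat.ofHom A.subtype = φ₀ := rfl
  let h : Spec (CommRingCat.of A) ⟶ Y := Spec.map ψ ≫ Y.fromSpecStalk y'
  have hcl : h.base (IsLocalRing.closedPoint A) = y' := by
    change (Spec.map ψ ≫ Y.fromSpecStalk y') (IsLocalRing.closedPoint A) = y'
    rw [Scheme.Hom.comp_apply]
    have : Spec.map ψ (IsLocalRing.closedPoint A) = IsLocalRing.closedPoint (Y.presheaf.stalk y') :=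
      IsLocalRing.comap_closedPoint (S := A) (φ₀.hom.codRestrict A.toSubring hA)
    erw [this]
    exact Y.fromSpecStalk_closedPoint
  have hcomp : Spec.map (CommRingCat.ofHom A.subtype) ≫ h = X.fromSpecResidueField x ≫ p := by
    change Spec.map (CommRingCat.ofHom A.subtype) ≫ Spec.map ψ ≫ Y.fromSpecStalk y' = _
    rw [← Spec.map_comp_assoc, hψ]
    change Spec.map (Y.presheaf.stalkSpecializes hsp ≫ p.stalkMap x ≫ X.residue x) ≫ _ = _
    rw [Spec.map_comp, Spec.map_comp, Category.assoc, Category.assoc,
      Scheme.SpecMap_stalkSpecializes_fromSpecStalk, Scheme.SpecMap_stalkMap_fromSpecStalk]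
    rfl
  refine ⟨A, h, ?_, hcl, hcomp⟩
  intro hAtop
  apply hne
  -- if A is everything, the closed point of Spec A is the image of the point of Spec k(x)
  have hfield : IsLocalRing.maximalIdeal A = ⊥ := by
    rw [← IsLocalRing.isField_iff_maximalIdeal_eq]
    refine ⟨⟨0, 1, zero_ne_one⟩, mul_comm, ?_⟩
    intro a ha
    have hmem : ∀ z : X.residueField x, z ∈ A := by
      intro z
      rw [hAtop]
      trivial
    have hainv : (a : X.residueField x)⁻¹ ∈ A := hmem _
    refine ⟨⟨(a : X.residueField x)⁻¹, hainv⟩, ?_⟩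
    apply Subtype.ext
    change (a : X.residueField x) * (a : X.residueField x)⁻¹ = 1
    apply mul_inv_cancel₀
    intro h0
    exact ha (Subtype.ext h0)
  have hpt : Spec.map (CommRingCat.ofHom A.subtype)
      (IsLocalRing.closedPoint (X.residueField x)) = IsLocalRing.closedPoint A := by
    apply PrimeSpectrum.ext
    change Ideal.comap A.subtype (IsLocalRing.maximalIdeal (X.residueField x)) =
      IsLocalRing.maximalIdeal A
    rw [hfield, IsLocalRing.maximalIdeal_eq_bot]
    exact Ideal.comap_bot_of_injective _ Subtype.val_injective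
  rw [← hcl, ← hpt]
  change (Spec.map (CommRingCat.ofHom A.subtype) ≫ h) _ = _
  rw [hcomp, Scheme.Hom.comp_apply]
  congr 1
  exact Scheme.fromSpecResidueField_apply x _

end Groth.Agent.S4447
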