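import Groth.Statements.S4449
import Mathlib
import Groth.Agent.Lib.Helper9.ValCritGen
-- import your own Groth.Agent.* helpers here

set_option autoImplicit false
universe u
open CategoryTheory CategoryTheory.Limits AlgebraicGeometry
open EGA2

namespace Groth.Agent.S4449

open CategoryTheory CategoryTheory.Limits AlgebraicGeometry
namespace Aux

open Groth.Agent.Lib.Helper9.ValCritGen Groth.Agent.Lib.Helper9.ValCritCore

theorem isDominant_spec_subtype {K : Type u} [Field K] (R : ValuationSubring K) :
    IsDominant (Spec.map (CommRingCat.ofHom R.subtype)) := by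
  rw [isDominant_iff]
  change DenseRange (PrimeSpectrum.comap R.subtype)
  rw [PrimeSpectrum.denseRange_comap_iff_ker_le_nilRadical]
  intro x hx
  rw [RingHom.mem_ker] at hx
  have : x = 0 := Subtype.ext hx
  rw [this]
  exact Ideal.zero_mem _

theorem val_lt_one_iff {K : Type u} [Field K] (A : ValuationSubring K) (x : K) :
    A.valuation x < 1 ↔ (x = 0 ∨ x⁻¹ ∉ A) := by
  by_cases hx : x = 0
  · simp [hx]
  · have hv : A.valuation x ≠ 0 := (Valuation.ne_zero_iff _).mpr hx
    rw [← A.valuation_le_one_iff, map_inv₀, inv_le_one₀ (zero_lt_iff.mpr hv)]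
    simp [hx]

theorem comap_val_lt_one {F κ : Type u} [Field F] [Field κ] (e : F →+* κ) (R : ValuationSubring κ)
    (x : F) : (R.comap e).valuation x < 1 ↔ R.valuation (e x) < 1 := by
  rw [val_lt_one_iff, val_lt_one_iff, ValuationSubring.mem_comap, map_inv₀, map_eq_zero]

section main

variable {X Y : Scheme.{u}} [IsIntegral X] [IsIntegral Y] [X.IsSeparated] [Y.IsSeparated]
  (f : X ⟶ Y)

theorem key_eq (R : ValuationSubring (X.residueField (genericPoint X)))
    (φ : Spec (CommRingCat.of ↥R) ⟶ Y)
    (hφ : Spec.map (CommRingCat.ofHom R.subtype) ≫ φ =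
      X.fromSpecResidueField (genericPoint X) ≫ f)
    (hy : f.base (genericPoint X) ⤳ φ (IsLocalRing.closedPoint ↥R)) :
    Scheme.stalkClosedPointTo φ ≫ CommRingCat.ofHom R.subtype =
      Y.presheaf.stalkSpecializes hy ≫ f.stalkMap (genericPoint X) ≫
        X.residue (genericPoint X) := by
  apply Spec.map_injective
  rw [← cancel_mono (Y.fromSpecStalk (φ (IsLocalRing.closedPoint ↥R)))]
  rw [gen_eq f (genericPoint X) _ hy, Spec.map_comp, Category.assoc,
    Scheme.Spec_stalkClosedPointTo_fromSpecStalk, hφ]

theorem spec_closedPoint (R : ValuationSubring (X.residueField (genericPoint X)))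
    (φ : Spec (CommRingCat.of ↥R) ⟶ Y)
    (hφ : Spec.map (CommRingCat.ofHom R.subtype) ≫ φ =
      X.fromSpecResidueField (genericPoint X) ≫ f) :
    f.base (genericPoint X) ⤳ φ (IsLocalRing.closedPoint ↥R) := by
  let pt : ↥(Spec (X.residueField (genericPoint X))) :=
    IsLocalRing.closedPoint (X.residueField (genericPoint X))
  have h1 : (Spec.map (CommRingCat.ofHom R.subtype) ≫ φ) pt = f (genericPoint X) := by
    rw [hφ]
    change f (X.fromSpecResidueField (genericPoint X) pt) = _
    rw [Scheme.fromSpecResidueField_apply]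
  have h2 : Spec.map (CommRingCat.ofHom R.subtype) pt ⤳ IsLocalRing.closedPoint ↥R :=
    IsLocalRing.specializes_closedPoint _
  have h3 := h2.map φ.continuous
  rw [← h1]
  exact h3

theorem HE_top (R : ValuationSubring (X.residueField (genericPoint X)))
    (φ : Spec (CommRingCat.of ↥R) ⟶ Y)
    (hφ : Spec.map (CommRingCat.ofHom R.subtype) ≫ φ =
      X.fromSpecResidueField (genericPoint X) ≫ f)
    (hR : ∀ k : X.residueField (genericPoint X), k ∈ R) :
    ∃ l : Spec (CommRingCat.of ↥R) ⟶ X,
      Spec.map (CommRingCat.ofHom R.subtype) ≫ l = X.fromSpecResidueField (genericPoint X) ∧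
        l ≫ f = φ := by
  let inv : X.residueField (genericPoint X) →+* ↥R :=
    (RingHom.id _).codRestrict R.toSubring hR
  have h1 : CommRingCat.ofHom inv ≫ CommRingCat.ofHom R.subtype = 𝟙 _ := by
    ext x; rfl
  have h2 : CommRingCat.ofHom R.subtype ≫ CommRingCat.ofHom inv = 𝟙 _ := by
    ext x; rfl
  refine ⟨Spec.map (CommRingCat.ofHom inv) ≫ X.fromSpecResidueField (genericPoint X), ?_, ?_⟩
  · rw [← Category.assoc, ← Spec.map_comp, h1, Spec.map_id, Category.id_comp]
  · rw [Category.assoc, ← hφ, ← Category.assoc, ← Spec.map_comp, h2, Spec.map_id,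
      Category.id_comp]

theorem HE_main
    (h : ∀ (R : ValuationSubring X.functionField), R ≠ ⊤ →
      ∀ (y : Y) (hy : f.base (genericPoint X) ⤳ y),
        ((∀ a : Y.presheaf.stalk y, (Y.presheaf.stalkSpecializes hy ≫ f.stalkMap (genericPoint X)).hom a ∈ R) ∧
          ∀ a ∈ IsLocalRing.maximalIdeal (Y.presheaf.stalk y),
            R.valuation ((Y.presheaf.stalkSpecializes hy ≫ f.stalkMap (genericPoint X)).hom a) < 1) →
        ∃ x : X, (∀ a : X.presheaf.stalk x, algebraMap (X.presheaf.stalk x) X.functionField a ∈ R) ∧
          ∀ a ∈ IsLocalRing.maximalIdeal (X.presheaf.stalk x), R.valuation (algebraMap (X.presheaf.stalk x) X.functionField a) < 1)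
    (R : ValuationSubring (X.residueField (genericPoint X)))
    (φ : Spec (CommRingCat.of ↥R) ⟶ Y)
    (hφ : Spec.map (CommRingCat.ofHom R.subtype) ≫ φ =
      X.fromSpecResidueField (genericPoint X) ≫ f) :
    ∃ l : Spec (CommRingCat.of ↥R) ⟶ X,
      Spec.map (CommRingCat.ofHom R.subtype) ≫ l = X.fromSpecResidueField (genericPoint X) ∧
        l ≫ f = φ := by
  let res : X.functionField →+* X.residueField (genericPoint X) := (X.residue (genericPoint X)).hom
  have hres : Function.Surjective res := X.residue_surjective (genericPoint X)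
  by_cases hR : R.comap res = ⊤
  · apply HE_top f R φ hφ
    intro k
    obtain ⟨x, rfl⟩ := hres k
    have : x ∈ R.comap res := by rw [hR]; trivial
    exact this
  · have hy := spec_closedPoint f R φ hφ
    have hkey := key_eq f R φ hφ hy
    have hkey' : ∀ a, res ((Y.presheaf.stalkSpecializes hy ≫ f.stalkMap (genericPoint X)).hom a) =
        (((Scheme.stalkClosedPointTo φ).hom a : ↥R) : X.residueField (genericPoint X)) := by
      intro a
      have := congrArg (fun g => g.hom a) hkey
      exact this.symm
    have hA : ∀ a : Y.presheaf.stalk (φ (IsLocalRing.closedPoint ↥R)),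
        (Y.presheaf.stalkSpecializes hy ≫ f.stalkMap (genericPoint X)).hom a ∈ R.comap res := by
      intro a
      rw [ValuationSubring.mem_comap, hkey']
      exact ((Scheme.stalkClosedPointTo φ).hom a).2
    have hB : ∀ a ∈ IsLocalRing.maximalIdeal (Y.presheaf.stalk (φ (IsLocalRing.closedPoint ↥R))),
        (R.comap res).valuation
          ((Y.presheaf.stalkSpecializes hy ≫ f.stalkMap (genericPoint X)).hom a) < 1 := by
      intro a ha
      rw [comap_val_lt_one, hkey', ← ValuationSubring.valuation_lt_one_iff]
      rw [IsLocalRing.mem_maximalIdeal, mem_nonunits_iff] at ha ⊢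
      rwa [isUnit_map_iff]
    obtain ⟨x, hx1, -⟩ := h (R.comap res) hR _ hy ⟨hA, hB⟩
    · let ψ : X.presheaf.stalk x →+* ↥R :=
        (res.comp (algebraMap (X.presheaf.stalk x) X.functionField)).codRestrict R.toSubring hx1
      have hψ : CommRingCat.ofHom ψ ≫ CommRingCat.ofHom R.subtype =
          X.presheaf.stalkSpecializes ((genericPoint_spec X).specializes trivial) ≫
            X.residue (genericPoint X) := by
        ext a; rfl
      have hl : Spec.map (CommRingCat.ofHom R.subtype) ≫
          Spec.map (CommRingCat.ofHom ψ) ≫ X.fromSpecStalk x =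
            X.fromSpecResidueField (genericPoint X) := by
        rw [← Category.assoc, ← Spec.map_comp, hψ, Spec.map_comp, Category.assoc,
          Scheme.SpecMap_stalkSpecializes_fromSpecStalk]
        rfl
      refine ⟨Spec.map (CommRingCat.ofHom ψ) ≫ X.fromSpecStalk x, hl, ?_⟩
      haveI := isDominant_spec_subtype R
      haveI : _root_.IsReduced (CommRingCat.of ↥R) := inferInstanceAs (_root_.IsReduced ↥R)
      apply ext_of_isDominant (Spec.map (CommRingCat.ofHom R.subtype))
      rw [← Category.assoc, hl, hφ]

theorem main [IsDominant f] [LocallyOfFiniteType f] [QuasiCompact f]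
    (h : ∀ (R : ValuationSubring X.functionField), R ≠ ⊤ →
      ∀ (y : Y) (hy : f.base (genericPoint X) ⤳ y),
        ((∀ a : Y.presheaf.stalk y, (Y.presheaf.stalkSpecializes hy ≫ f.stalkMap (genericPoint X)).hom a ∈ R) ∧
          ∀ a ∈ IsLocalRing.maximalIdeal (Y.presheaf.stalk y),
            R.valuation ((Y.presheaf.stalkSpecializes hy ≫ f.stalkMap (genericPoint X)).hom a) < 1) →
        ∃ x : X, (∀ a : X.presheaf.stalk x, algebraMap (X.presheaf.stalk x) X.functionField a ∈ R) ∧
          ∀ a ∈ IsLocalRing.maximalIdeal (X.presheaf.stalk x), R.valuation (algebraMap (X.presheaf.stalk x) X.functionField a) < 1) :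
    IsProper f := by
  haveI : IsSeparated f := inferInstance
  have HU : ValuativeCriterion.Uniqueness f := IsSeparated.valuativeCriterion f
  have hgen : closure {genericPoint X} = (Set.univ : Set X) := genericPoint_spec X
  have HE : ValuativeCriterion.Existence f :=
    existence_of_generic f (genericPoint X) hgen HU (fun R φ hφ => HE_main f h R φ hφ)
  haveI : UniversallyClosed f := UniversallyClosed.of_valuativeCriterion f HE
  exact {}

end main

end Aux

/-- Case of an arbitrary integral separated base: let Y and X be integral separated schemes and f : X ⟶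
Y a dominant morphism of finite type, ξ the generic point of X. Suppose that every valuation subring
R of K(X) other than K(X) itself which dominates the local ring of Y at a point y (via O_{Y,y} →
O_{Y,f(ξ)} → K(X)) dominates the local ring of X at some point x (via O_{X,x} → K(X)). Then f is
proper. (Compare the locally Noetherian variant with discrete valuation rings.) -/
theorem result {X Y : Scheme.{u}} [IsIntegral X] [IsIntegral Y]
    [X.IsSeparated] [Y.IsSeparated] (f : X ⟶ Y) [IsDominant f] [LocallyOfFiniteType f] [QuasiCompact f]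
    (h : ∀ (R : ValuationSubring X.functionField), R ≠ ⊤ →
      ∀ (y : Y) (hy : f.base (genericPoint X) ⤳ y),
        ((∀ a : Y.presheaf.stalk y, (Y.presheaf.stalkSpecializes hy ≫ f.stalkMap (genericPoint X)).hom a ∈ R) ∧
          ∀ a ∈ IsLocalRing.maximalIdeal (Y.presheaf.stalk y),
            R.valuation ((Y.presheaf.stalkSpecializes hy ≫ f.stalkMap (genericPoint X)).hom a) < 1) →
        ∃ x : X, (∀ a : X.presheaf.stalk x, algebraMap (X.presheaf.stalk x) X.functionField a ∈ R) ∧
          ∀ a ∈ IsLocalRing.maximalIdeal (X.presheaf.stalk x), R.valuation (algebraMap (X.presheaf.stalk x) X.functionField a) < 1) :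
    IsProper f := by
  exact Aux.main f h

end Groth.Agent.S4449
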