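import Groth.Statements.S4459
-- import your own Groth.Agent.* helpers here

set_option autoImplicit false
set_option backward.isDefEq.respectTransparency.types false
set_option synthInstance.maxHeartbeats 400000
set_option linter.unusedSimpArgs false
set_option linter.style.haveILetI false
universe u
open Coherent

open TopologicalSpace
namespace Groth.Agent.S4459

open AlgebraicGeometry CategoryTheory in
/-- Let A be a Noetherian ring which is separated and complete for the J-adic topology, and let f : X →
Spec A be a morphism of schemes which is a closed map on underlying spaces. Then every open subset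
of X containing the inverse image of V(J) is all of X. (The published statement also assumes X of
finite type over A; that hypothesis is not used.) -/
theorem result (A : Type u) [CommRing A] [IsNoetherianRing A]
    (J : Ideal A) [IsAdicComplete J A] {X : Scheme.{u}} (f : X ⟶ Spec (CommRingCat.of A))
    (hf : IsClosedMap f.base) (U : X.Opens)
    (hU : f.base ⁻¹' (PrimeSpectrum.zeroLocus (J : Set A)) ⊆ (U : Set X)) : U = ⊤ := by
  have hcl : IsClosed (f.base '' ((U : Set X)ᶜ)) := hf _ U.isOpen.isClosed_compl
  obtain ⟨I, hI⟩ := (PrimeSpectrum.isClosed_iff_zeroLocus_ideal _).mp hcl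
  have hdisj : PrimeSpectrum.zeroLocus (I : Set A) ∩ PrimeSpectrum.zeroLocus (J : Set A) = ∅ := by
    rw [← hI]
    ext p
    simp only [Set.mem_inter_iff, Set.mem_empty_iff_false, iff_false, not_and]
    rintro ⟨x, hx, rfl⟩ hJ
    exact hx (hU hJ)
  have htop : I ⊔ J = ⊤ := by
    rw [← PrimeSpectrum.zeroLocus_empty_iff_eq_top, PrimeSpectrum.zeroLocus_sup]
    exact hdisj
  obtain ⟨i, hi, j, hj, hij⟩ := Submodule.mem_sup.mp ((Ideal.eq_top_iff_one _).mp htop)
  have hjac : J ≤ Ideal.jacobson ⊥ := IsAdicComplete.le_jacobson_bot J
  have hunit : IsUnit i := by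
    have : i = 1 - j := by rw [← hij]; ring
    rw [this]
    have hj' := hjac hj
    rw [Ideal.mem_jacobson_bot] at hj'
    have := hj' (-1)
    simpa [sub_eq_add_neg, add_comm] using this
  have hItop : I = ⊤ := Ideal.eq_top_of_isUnit_mem _ hi hunit
  rw [hItop] at hI
  have hempty : f.base '' ((U : Set X)ᶜ) = ∅ := by
    rw [hI]
    have h0 : PrimeSpectrum.zeroLocus ((⊤ : Ideal A) : Set A) = ∅ := by simp
    exact h0
  rw [Set.image_eq_empty, Set.compl_empty_iff] at hempty
  exact SetLike.coe_injective (by simpa using hempty)

end Groth.Agent.S4459
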