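import Groth.Statements.S4469
import Mathlib

set_option autoImplicit false
universe u
open CAlg

namespace Groth.Agent.S4469

/-- Let A be an integrally closed Noetherian local domain with field of fractions K, B an A-algebra of
finite type which is a domain with the same field of fractions (A → B → K compatible with A → K),
and 𝔫 a maximal ideal of B lying over the maximal ideal 𝔪 of A and minimal among the prime ideals of
B lying over 𝔪. Then B = A: the structure map A → B is bijective. -/
theorem result (A B K : Type u) [CommRing A]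
    [IsDomain A] [IsNoetherianRing A] [IsLocalRing A] [IsIntegrallyClosed A] [CommRing B] [IsDomain B]
    [Field K] [Algebra A B] [Algebra B K] [Algebra A K] [IsScalarTower A B K] [IsFractionRing A K]
    [IsFractionRing B K] [Algebra.FiniteType A B] (n : Ideal B) [n.IsMaximal]
    (hn : n.comap (algebraMap A B) = IsLocalRing.maximalIdeal A)
    (hmin : ∀ q : Ideal B, q.IsPrime → q.comap (algebraMap A B) = IsLocalRing.maximalIdeal A → q ≤ n → q = n) :
    Function.Bijective (algebraMap A B) := by
  classical
  have hBnoeth : IsNoetherianRing B := Algebra.FiniteType.isNoetherianRing A B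
  set m := IsLocalRing.maximalIdeal A with hm
  set mB := m.map (algebraMap A B) with hmB
  have hmBn : mB ≤ n := by rw [hmB, Ideal.map_le_iff_le_comap, hn]
  -- primes containing `mB` lie over `m`
  have hover : ∀ q : Ideal B, q.IsPrime → mB ≤ q → q.comap (algebraMap A B) = m := by
    intro q hq hle
    have h1 : m ≤ q.comap (algebraMap A B) := Ideal.map_le_iff_le_comap.mp hle
    have hne : q.comap (algebraMap A B) ≠ ⊤ := (Ideal.comap_isPrime _ q).ne_top
    exact ((IsLocalRing.maximalIdeal.isMaximal A).eq_of_le hne h1).symm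
  -- `n` is a minimal prime over `mB`
  have hfinmin := Ideal.finite_minimalPrimes_of_isNoetherianRing B mB
  -- quasi-finite at `n`
  have hqf : Algebra.QuasiFiniteAt A n := by
    let q₀ : PrimeSpectrum B := ⟨n, inferInstance⟩
    refine Algebra.QuasiFiniteAt.of_isOpen_singleton_fiber q₀ ?_
    let Z : Set (PrimeSpectrum B) := ⋃ Q ∈ {Q ∈ mB.minimalPrimes | Q ≠ n}, PrimeSpectrum.zeroLocus (Q : Set B)
    have hZclosed : IsClosed Z := by
      refine Set.Finite.isClosed_biUnion (hfinmin.subset fun Q hQ => hQ.1) fun Q _ => ?_
      exact PrimeSpectrum.isClosed_zeroLocus _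
    have heq : ({⟨q₀, rfl⟩} : Set (PrimeSpectrum.comap (algebraMap A B) ⁻¹'
        {q₀.comap (algebraMap A B)})) = Subtype.val ⁻¹' Zᶜ := by
      ext ⟨P, hP⟩
      simp only [Set.mem_singleton_iff, Set.mem_preimage, Set.mem_compl_iff]
      constructor
      · intro hPq
        have hPq' : P = q₀ := congrArg Subtype.val hPq
        subst hPq'
        simp only [Z, Set.mem_iUnion, PrimeSpectrum.mem_zeroLocus, SetLike.coe_subset_coe,
          not_exists]
        rintro Q ⟨hQmin, hQne⟩ hQle
        apply hQne
        exact hmin Q hQmin.1.1 (hover Q hQmin.1.1 hQmin.1.2) hQle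
      · intro hPZ
        have hPm : P.asIdeal.comap (algebraMap A B) = m := by
          have := hP
          simp only [Set.mem_preimage, Set.mem_singleton_iff] at this
          have h2 := congrArg PrimeSpectrum.asIdeal this
          simpa [q₀, hn] using h2
        have hmBP : mB ≤ P.asIdeal := by rw [hmB, Ideal.map_le_iff_le_comap, hPm]
        obtain ⟨Q, hQmin, hQP⟩ := Ideal.exists_minimalPrimes_le hmBP
        by_cases hQn : Q = n
        · subst hQn
          have : Q = P.asIdeal := (‹Q.IsMaximal›).eq_of_le P.2.ne_top hQP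
          exact Subtype.ext (PrimeSpectrum.ext (show P.asIdeal = q₀.asIdeal from this.symm))
        · exfalso
          apply hPZ
          simp only [Z, Set.mem_iUnion, PrimeSpectrum.mem_zeroLocus, SetLike.coe_subset_coe]
          exact ⟨Q, ⟨hQmin, hQn⟩, hQP⟩
    rw [heq]
    exact (hZclosed.isOpen_compl).preimage continuous_subtype_val
  -- Zariski's main theorem
  obtain ⟨r, hrn, hrint, hr⟩ := Algebra.zariskisMainProperty_iff.mp
    (Algebra.ZariskisMainProperty.of_finiteType (R := A) n)
  have hinjBK : Function.Injective (algebraMap B K) := IsFractionRing.injective B K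
  have hinjAK : Function.Injective (algebraMap A K) := IsFractionRing.injective A K
  have hinj : Function.Injective (algebraMap A B) := by
    intro x y hxy
    apply hinjAK
    rw [IsScalarTower.algebraMap_apply A B K, IsScalarTower.algebraMap_apply A B K, hxy]
  -- integral elements of `B` come from `A`
  have hic : ∀ b : B, IsIntegral A b → ∃ a : A, algebraMap A B a = b := by
    intro b hb
    have h1 : IsIntegral A (algebraMap B K b) := hb.map (IsScalarTower.toAlgHom A B K)
    obtain ⟨a, ha⟩ := IsIntegrallyClosed.isIntegral_iff.mp h1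
    refine ⟨a, hinjBK ?_⟩
    rw [← IsScalarTower.algebraMap_apply A B K, ha]
  obtain ⟨a, ha⟩ := hic r hrint
  have haunit : IsUnit a := by
    by_contra hna
    have : a ∈ m := (IsLocalRing.mem_maximalIdeal a).2 hna
    apply hrn
    rw [← ha]
    exact hmBn (Ideal.mem_map_of_mem _ this)
  have hrunit : IsUnit r := by rw [← ha]; exact haunit.map _
  refine ⟨hinj, fun x => ?_⟩
  obtain ⟨k, hk⟩ := hr x
  obtain ⟨a', ha'⟩ := hic _ hk
  obtain ⟨u, hu⟩ := haunit
  refine ⟨(↑(u⁻¹ ^ k) : A) * a', ?_⟩
  rw [map_mul, ha']
  have h3 : algebraMap A B (↑(u⁻¹ ^ k) : A) * r ^ k = 1 := by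
    rw [← ha, ← map_pow, ← map_mul, ← hu, ← Units.val_pow_eq_pow_val, ← Units.val_mul]
    simp
  calc algebraMap A B (↑(u⁻¹ ^ k) : A) * (r ^ k * x)
      = (algebraMap A B (↑(u⁻¹ ^ k) : A) * r ^ k) * x := by ring
    _ = x := by rw [h3, one_mul]

end Groth.Agent.S4469
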