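import Groth.Statements.S4475
import Mathlib
import Groth.Prelude.Def_ega3
import Groth.Agent.Lib.Helper9.KosLim.Top
import Groth.Agent.Lib.Helper8.Koszul6
-- import your own Groth.Agent.* helpers here

set_option autoImplicit false
universe u
open Koszul3

namespace Groth.Agent.S4475

namespace Aux

/-- a freeness criterion for restriction of scalars -/
theorem free_restrictScalars {A S : Type u} [CommRing A] [CommRing S] [Algebra A S] {T : Type u}
    [AddCommGroup T] [Module S T] {ι : Type} (ξ : ι → T)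
    (hli : ∀ (s : Finset ι) (g : ι → A), ∑ b ∈ s, algebraMap A S (g b) • ξ b = 0 → ∀ b ∈ s, g b = 0)
    (hsp : ∀ x : T, x ∈ AddSubgroup.closure {y | ∃ (c : A) (b : ι), y = algebraMap A S c • ξ b}) :
    Module.Free A (RestrictScalars A S T) := by
  let ξ' : ι → RestrictScalars A S T := ξ
  have h1 : LinearIndependent A ξ' := by
    refine linearIndependent_iff'ₛ.mpr ?_
    intro s f g hfg i hi
    have hfg' : ∑ b ∈ s, algebraMap A S (f b) • ξ b = ∑ b ∈ s, algebraMap A S (g b) • ξ b := hfg
    have h0 : ∑ b ∈ s, algebraMap A S ((fun b => f b - g b) b) • ξ b = 0 := by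
      simp only [map_sub, sub_smul, Finset.sum_sub_distrib]
      rw [hfg', sub_self]
    have := hli s _ h0 i hi
    exact sub_eq_zero.mp this
  have h2 : ⊤ ≤ Submodule.span A (Set.range ξ') := by
    intro x _
    have hx := hsp x
    induction hx using AddSubgroup.closure_induction with
    | mem y hy =>
      obtain ⟨c, b, rfl⟩ := hy
      have : c • ξ' b ∈ Submodule.span A (Set.range ξ') :=
        Submodule.smul_mem _ _ (Submodule.subset_span ⟨b, rfl⟩)
      exact this
    | zero => exact Submodule.zero_mem _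
    | add y z _ _ hy hz => exact Submodule.add_mem _ (hy trivial) (hz trivial)
    | neg y _ hy => exact Submodule.neg_mem _ (hy trivial)
  exact Module.Free.of_basis (Module.Basis.mk h1 h2)

open CategoryTheory CategoryTheory.Limits CohIII
open Groth.Agent.Helper9.KosLim Groth.Agent.Helper8.KoszulLib


variable {A : Type u} [CommRing A] {σ : Type} [DecidableEq σ]

/-- membership in the ideal generated by `X_j ^ n`, `j ∈ J` -/
theorem mem_span_pow_iff (J : Set σ) (n : ℕ) (p : MvPolynomial σ A) :
    p ∈ Ideal.span ((fun j => (MvPolynomial.X j : MvPolynomial σ A) ^ n) '' J) ↔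
      ∀ a ∈ p.support, ∃ j ∈ J, n ≤ a j := by
  have h1 : ((fun j => (MvPolynomial.X j : MvPolynomial σ A) ^ n) '' J) =
      (fun s => MvPolynomial.monomial s (1 : A)) '' ((fun j => Finsupp.single j n) '' J) := by
    rw [Set.image_image]
    apply Set.image_congr
    intro j _
    exact MvPolynomial.X_pow_eq_monomial
  rw [h1, MvPolynomial.mem_ideal_span_monomial_image]
  constructor
  · intro h a ha
    obtain ⟨_, ⟨j, hj, rfl⟩, hle⟩ := h a ha
    refine ⟨j, hj, ?_⟩
    have := hle j
    simpa using this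
  · intro h a ha
    obtain ⟨j, hj, hle⟩ := h a ha
    refine ⟨_, ⟨j, hj, rfl⟩, ?_⟩
    intro k
    by_cases hk : k = j
    · subst hk; simpa using hle
    · simp [Ne.symm hk]

theorem mul_pow_mem_imp (J : Set σ) (n : ℕ) (i : σ) (hi : i ∉ J) (p : MvPolynomial σ A)
    (h : (MvPolynomial.X i : MvPolynomial σ A) ^ n * p ∈
      Ideal.span ((fun j => (MvPolynomial.X j : MvPolynomial σ A) ^ n) '' J)) :
    p ∈ Ideal.span ((fun j => (MvPolynomial.X j : MvPolynomial σ A) ^ n) '' J) := by
  rw [mem_span_pow_iff] at h ⊢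
  intro a ha
  have h1 : Finsupp.single i n + a ∈ ((MvPolynomial.X i : MvPolynomial σ A) ^ n * p).support := by
    rw [MvPolynomial.mem_support_iff, MvPolynomial.X_pow_eq_monomial,
      MvPolynomial.coeff_monomial_mul, one_mul]
    exact MvPolynomial.mem_support_iff.mp ha
  obtain ⟨j, hj, hle⟩ := h _ h1
  refine ⟨j, hj, ?_⟩
  have hji : i ≠ j := fun e => hi (e ▸ hj)
  simpa [Finsupp.single_apply, hji] using hle

/-- the list of `n`-th powers of the variables -/
theorem map_ofFn (k n : ℕ) :
    (List.ofFn (fun j : Fin k => (MvPolynomial.X j : MvPolynomial (Fin k) A))).map (· ^ n) =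
      List.ofFn (fun j : Fin k => (MvPolynomial.X j : MvPolynomial (Fin k) A) ^ n) := by
  rw [List.map_ofFn]
  rfl

theorem setOf_mem_take (k n : ℕ) (i : ℕ) (hi : i ≤ k) :
    {a | a ∈ (List.ofFn (fun j : Fin k =>
        (MvPolynomial.X j : MvPolynomial (Fin k) A) ^ n)).take i} =
      (fun j => (MvPolynomial.X j : MvPolynomial (Fin k) A) ^ n) '' {j : Fin k | j.1 < i} := by
  ext a
  simp only [Set.mem_ofPred_eq, Set.mem_image]
  rw [List.mem_take_iff_getElem]
  constructor
  · rintro ⟨l, hl, rfl⟩
    simp only [List.length_ofFn] at hl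
    have hl1 : l < k := by omega
    refine ⟨⟨l, hl1⟩, by simp; omega, ?_⟩
    rw [List.getElem_ofFn]
  · rintro ⟨j, hj, rfl⟩
    refine ⟨j.1, by simp only [List.length_ofFn]; have := j.2; have hj' : j.1 < i := hj; omega, ?_⟩
    rw [List.getElem_ofFn]

theorem smulreg_aux0 (S : Type u) [CommRing S] (I : Ideal S) (a : S)
    (h : ∀ x : S, a * x ∈ I → x ∈ I) :
    IsSMulRegular (S ⧸ (I • (⊤ : Submodule S S))) a := by
  have h2 : (I • (⊤ : Submodule S S)) = I := by
    rw [smul_eq_mul, Ideal.mul_top]
  refine (isSMulRegular_quotient_iff_mem_of_smul_mem _ _).mpr ?_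
  intro x hx
  rw [h2] at hx ⊢
  exact h x hx

theorem isWeaklyRegular_pow (k n : ℕ) :
    RingTheory.Sequence.IsWeaklyRegular (MvPolynomial (Fin k) A)
      ((List.ofFn (fun j : Fin k => (MvPolynomial.X j : MvPolynomial (Fin k) A))).map (· ^ n)) := by
  rw [map_ofFn, RingTheory.Sequence.isWeaklyRegular_iff]
  intro i hi
  have hi' : i < k := by simpa using hi
  apply smulreg_aux0
  intro x hx
  have e1 : Ideal.ofList ((List.ofFn (fun j : Fin k =>
        (MvPolynomial.X j : MvPolynomial (Fin k) A) ^ n)).take i) =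
      Ideal.span ((fun j => (MvPolynomial.X j : MvPolynomial (Fin k) A) ^ n) ''
        {j : Fin k | j.1 < i}) := by
    rw [Ideal.ofList, setOf_mem_take k n i hi'.le]
  have e2 : (List.ofFn (fun j : Fin k =>
        (MvPolynomial.X j : MvPolynomial (Fin k) A) ^ n))[i] =
      (MvPolynomial.X (⟨i, hi'⟩ : Fin k) : MvPolynomial (Fin k) A) ^ n := List.getElem_ofFn _
  rw [e1] at hx ⊢
  rw [e2] at hx
  have hni : (⟨i, hi'⟩ : Fin k) ∉ {j : Fin k | j.1 < i} := by
    intro h
    exact lt_irrefl i h
  exact mul_pow_mem_imp {j : Fin k | j.1 < i} n ⟨i, hi'⟩ hni x hx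

/-- the constant exponent vector -/
noncomputable def cst (k c : ℕ) : Fin k →₀ ℕ := Finsupp.equivFunOnFinite.symm (fun _ => c)

@[simp] theorem cst_apply (k c : ℕ) (j : Fin k) : cst k c j = c := rfl

/-- the reflected exponent vector `m - 1 - b` -/
noncomputable def sh (k m : ℕ) (b : Fin k →₀ ℕ) : Fin k →₀ ℕ :=
  Finsupp.equivFunOnFinite.symm (fun j => m - 1 - b j)

@[simp] theorem sh_apply (k m : ℕ) (b : Fin k →₀ ℕ) (j : Fin k) : sh k m b j = m - 1 - b j := rfl

/-- the variables -/
noncomputable abbrev vars (A : Type u) [CommRing A] (k : ℕ) : List (MvPolynomial (Fin k) A) :=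
  List.ofFn (fun j : Fin k => (MvPolynomial.X j : MvPolynomial (Fin k) A))

theorem prod_pow (k c : ℕ) :
    ((vars A k).map (· ^ c)).prod = MvPolynomial.monomial (cst k c) (1 : A) := by
  rw [List.map_ofFn, List.prod_ofFn, MvPolynomial.monomial_eq, Finsupp.prod_fintype]
  · simp
  · intro i; simp

/-- the polynomial ring as a module over itself -/
noncomputable abbrev MS (A : Type u) [CommRing A] (k : ℕ) : ModuleCat.{u} (MvPolynomial (Fin k) A) :=
  ModuleCat.of (MvPolynomial (Fin k) A) (MvPolynomial (Fin k) A)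

/-- the class of a polynomial in the top Koszul cohomology at level `n` -/
noncomputable def tm (k n : ℕ) :
    MvPolynomial (Fin k) A →ₗ[MvPolynomial (Fin k) A] Hq (vars A k) (MS A k) 0 n :=
  top (MS A k) ((vars A k).map (· ^ n))

theorem tm_surjective (k n : ℕ) : Function.Surjective (tm (A := A) k n) :=
  top_surjective _ _

theorem trq_tm (k n m : ℕ) (h : n ≤ m) (P : MvPolynomial (Fin k) A) :
    trq (vars A k) (MS A k) 0 n m h (tm k n P) =
      tm k m (MvPolynomial.monomial (cst k (m - n)) (1 : A) * P) := by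
  have h1 := top_koszulTrans (MS A k) n m h (vars A k) P
  rw [prod_pow] at h1
  exact h1

theorem setOf_mem_vars (k n : ℕ) :
    {a | a ∈ (vars A k).map (· ^ n)} =
      (fun j => (MvPolynomial.X j : MvPolynomial (Fin k) A) ^ n) '' Set.univ := by
  ext a
  rw [Set.image_univ]
  simp only [Set.mem_ofPred_eq, List.map_ofFn, List.mem_ofFn, Set.mem_range]
  rfl

theorem tm_eq_zero_iff (k n : ℕ) (P : MvPolynomial (Fin k) A) :
    tm k n P = 0 ↔ ∀ a ∈ P.support, ∃ j, n ≤ a j := by
  have h1 := top_eq_zero_iff (MS A k) ((vars A k).map (· ^ n)) P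
  have h2 : (Ideal.span {a | a ∈ (vars A k).map (· ^ n)} •
      (⊤ : Submodule (MvPolynomial (Fin k) A) (MvPolynomial (Fin k) A))) =
      Ideal.span ((fun j => (MvPolynomial.X j : MvPolynomial (Fin k) A) ^ n) '' Set.univ) := by
    rw [smul_eq_mul, Ideal.mul_top, setOf_mem_vars]
  have h3 : tm k n P = 0 ↔ P ∈ (Ideal.span {a | a ∈ (vars A k).map (· ^ n)} •
      (⊤ : Submodule (MvPolynomial (Fin k) A) (MvPolynomial (Fin k) A))) := h1
  rw [h3, h2, mem_span_pow_iff]
  simp


/-- the inclusion of level `n` into the limit -/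
noncomputable def ofn (k n : ℕ) :
    Hq (vars A k) (MS A k) 0 n →ₗ[MvPolynomial (Fin k) A] TL (vars A k) (MS A k) 0 :=
  Module.DirectLimit.of (MvPolynomial (Fin k) A) ℕ (fun n => Hq (vars A k) (MS A k) 0 n)
    (fun n m h => trq (vars A k) (MS A k) 0 n m h) n

theorem ofn_trq (k n m : ℕ) (h : n ≤ m) (x : Hq (vars A k) (MS A k) 0 n) :
    ofn k m (trq (vars A k) (MS A k) 0 n m h x) = ofn k n x :=
  Module.DirectLimit.of_f

theorem exists_ofn (k : ℕ) (z : TL (vars A k) (MS A k) 0) : ∃ n x, ofn k n x = z :=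
  Module.DirectLimit.exists_of z

theorem ofn_zero_exact (k n : ℕ) (x : Hq (vars A k) (MS A k) 0 n) (h : ofn k n x = 0) :
    ∃ m, ∃ h : n ≤ m, trq (vars A k) (MS A k) 0 n m h x = 0 :=
  Module.DirectLimit.of.zero_exact h

/-- the level of an exponent vector -/
noncomputable def lev (k : ℕ) (b : Fin k →₀ ℕ) : ℕ := Finset.univ.sup b + 1

theorem lt_lev (k : ℕ) (b : Fin k →₀ ℕ) (j : Fin k) : b j + 1 ≤ lev k b := by
  unfold lev
  have := Finset.le_sup (f := b) (Finset.mem_univ j)
  omega

/-- the basis elements -/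
noncomputable def xi (k : ℕ) (b : Fin k →₀ ℕ) : TL (vars A k) (MS A k) 0 :=
  ofn k (lev k b) (tm k (lev k b) (MvPolynomial.monomial (sh k (lev k b) b) (1 : A)))

theorem ofn_tm_sh (k n m : ℕ) (h : n ≤ m) (b : Fin k →₀ ℕ) (hb : ∀ j, b j + 1 ≤ n) :
    ofn k n (tm k n (MvPolynomial.monomial (sh k n b) (1 : A))) =
      ofn k m (tm k m (MvPolynomial.monomial (sh k m b) (1 : A))) := by
  rw [← ofn_trq k n m h, trq_tm, MvPolynomial.monomial_mul, one_mul]
  have : cst k (m - n) + sh k n b = sh k m b := by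
    ext j
    simp only [Finsupp.add_apply, cst_apply, sh_apply]
    have := hb j
    omega
  rw [this]

theorem xi_eq (k n : ℕ) (b : Fin k →₀ ℕ) (hb : ∀ j, b j + 1 ≤ n) (hn : 1 ≤ n) :
    xi (A := A) k b = ofn k n (tm k n (MvPolynomial.monomial (sh k n b) (1 : A))) := by
  have h1 : lev k b ≤ n := by
    unfold lev
    have : Finset.univ.sup b ≤ n - 1 := Finset.sup_le (fun j _ => by have := hb j; omega)
    omega
  exact ofn_tm_sh k (lev k b) n h1 b (lt_lev k b)

theorem smul_monomial_one (k : ℕ) (a : Fin k →₀ ℕ) (c : A) :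
    algebraMap A (MvPolynomial (Fin k) A) c • MvPolynomial.monomial a (1 : A) =
      MvPolynomial.monomial a c := by
  rw [MvPolynomial.algebraMap_eq, smul_eq_mul, MvPolynomial.C_mul_monomial, mul_one]

theorem span_xi (k : ℕ) (z : TL (vars A k) (MS A k) 0) :
    z ∈ AddSubgroup.closure {y | ∃ (c : A) (b : Fin k →₀ ℕ),
      y = algebraMap A (MvPolynomial (Fin k) A) c • xi k b} := by
  obtain ⟨n, x, rfl⟩ := exists_ofn k z
  rw [← ofn_trq k n (n + 1) (Nat.le_succ n) x]
  obtain ⟨P, hP⟩ := tm_surjective k (n + 1) (trq (vars A k) (MS A k) 0 n (n + 1) (Nat.le_succ n) x)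
  rw [← hP]
  clear hP
  induction P using MvPolynomial.induction_on' with
  | monomial a c =>
    by_cases ha : ∃ j, n + 1 ≤ a j
    · have h0 : tm k (n + 1) (MvPolynomial.monomial a c) = 0 := by
        rw [tm_eq_zero_iff]
        intro a' ha'
        have := MvPolynomial.support_monomial_subset ha'
        rw [Finset.mem_singleton] at this
        rw [this]
        exact ha
      rw [h0, map_zero]
      exact zero_mem _
    · push Not at ha
      apply AddSubgroup.subset_closure
      refine ⟨c, sh k (n + 1) a, ?_⟩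
      rw [xi_eq k (n + 1) _ (fun j => by simp only [sh_apply]; have := ha j; omega) (by omega)]
      have h1 : sh k (n + 1) (sh k (n + 1) a) = a := by
        ext j
        simp only [sh_apply]
        have := ha j
        omega
      rw [h1, ← map_smul, ← map_smul, smul_monomial_one]
  | add p q hp hq =>
    rw [map_add, map_add]
    exact add_mem hp hq

theorem indep_xi (k : ℕ) (s : Finset (Fin k →₀ ℕ)) (g : (Fin k →₀ ℕ) → A)
    (h : ∑ b ∈ s, algebraMap A (MvPolynomial (Fin k) A) (g b) • xi (A := A) k b = 0) :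
    ∀ b ∈ s, g b = 0 := by
  set N := s.sup (lev k) + 1 with hNdef
  have hN : ∀ b ∈ s, ∀ j, b j + 1 ≤ N := by
    intro b hb j
    have h1 := lt_lev k b j
    have h2 := Finset.le_sup (f := lev k) hb
    omega
  have h1 : ∑ b ∈ s, algebraMap A (MvPolynomial (Fin k) A) (g b) • xi k b =
      ofn k N (tm k N (∑ b ∈ s, MvPolynomial.monomial (sh k N b) (g b))) := by
    rw [map_sum, map_sum]
    apply Finset.sum_congr rfl
    intro b hb
    rw [xi_eq k N b (hN b hb) (by omega), ← map_smul, ← map_smul, smul_monomial_one]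
  rw [h1] at h
  obtain ⟨m, hm, h2⟩ := ofn_zero_exact k N _ h
  rw [trq_tm, Finset.mul_sum, tm_eq_zero_iff] at h2
  intro b0 hb0
  by_contra hg
  have hsupp : cst k (m - N) + sh k N b0 ∈
      (∑ b ∈ s, MvPolynomial.monomial (cst k (m - N)) (1 : A) *
        MvPolynomial.monomial (sh k N b) (g b)).support := by
    rw [MvPolynomial.mem_support_iff, MvPolynomial.coeff_sum, Finset.sum_eq_single b0]
    · rw [MvPolynomial.monomial_mul, one_mul, MvPolynomial.coeff_monomial, if_pos rfl]
      exact hg
    · intro b hb hne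
      rw [MvPolynomial.monomial_mul, one_mul, MvPolynomial.coeff_monomial, if_neg]
      intro heq
      apply hne
      ext j
      have h3 := DFunLike.congr_fun heq j
      simp only [Finsupp.add_apply, cst_apply, sh_apply] at h3
      have := hN b hb j
      have := hN b0 hb0 j
      omega
    · intro h'
      exact absurd hb0 h'
  obtain ⟨j, hj⟩ := h2 _ hsupp
  simp only [Finsupp.add_apply, cst_apply, sh_apply] at hj
  omega

theorem free_TL (k : ℕ) :
    Module.Free A (RestrictScalars A (MvPolynomial (Fin k) A) (TL (vars A k) (MS A k) 0)) :=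
  free_restrictScalars (xi k) (indep_xi k) (span_xi k)


theorem subsingleton_TL (k : ℕ) (q : ℤ) (hq : q ≠ 0) : Subsingleton (TL (vars A k) (MS A k) q) := by
  apply dl_subsingleton_of_forall
  intro n x
  refine ⟨n, le_rfl, ?_⟩
  have hz : IsZero ((koszulCx (MS A k) ((vars A k).map (· ^ n))).homology q) :=
    isZero_homology_of_isWeaklyRegular _ (MvPolynomial (Fin k) A) (isWeaklyRegular_pow k n) q hq
  have hs : Subsingleton ((koszulCx (MS A k) ((vars A k).map (· ^ n))).homology q) :=
    ModuleCat.subsingleton_of_isZero hz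
  exact hs.elim _ _

theorem free_TL' (k : ℕ) (q : ℤ) (hq : q = 0) :
    Module.Free A (RestrictScalars A (MvPolynomial (Fin k) A) (TL (vars A k) (MS A k) q)) := by
  subst hq
  exact free_TL k

theorem main (A : Type u) [CommRing A] (r : ℕ) :
    (∀ i : ℕ, i ≠ r + 1 →
      Subsingleton (CohIII.koszulHLim (List.ofFn (fun j : Fin (r + 1) => (MvPolynomial.X j : MvPolynomial (Fin (r + 1)) A)))
        (ModuleCat.of (MvPolynomial (Fin (r + 1)) A) (MvPolynomial (Fin (r + 1)) A)) i)) ∧
    Module.Free A (RestrictScalars A (MvPolynomial (Fin (r + 1)) A)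
      (CohIII.koszulHLim (List.ofFn (fun j : Fin (r + 1) => (MvPolynomial.X j : MvPolynomial (Fin (r + 1)) A)))
        (ModuleCat.of (MvPolynomial (Fin (r + 1)) A) (MvPolynomial (Fin (r + 1)) A)) (r + 1))) := by
  constructor
  · intro i hi
    refine subsingleton_TL (r + 1) _ ?_
    intro h
    apply hi
    have h2 : (vars A (r + 1)).length = r + 1 := List.length_ofFn
    rw [h2] at h
    have : (i : ℤ) = ((r + 1 : ℕ) : ℤ) := by linarith
    exact_mod_cast this
  · refine free_TL' (r + 1) _ ?_
    have h2 : (vars A (r + 1)).length = r + 1 := List.length_ofFn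
    rw [h2]
    simp

end Aux

open CategoryTheory CategoryTheory.Limits in
/-- Let A be a ring, S = A[T_0, …, T_r] the polynomial ring and T = (T_0, …, T_r). Then the direct-limit
Koszul cohomology H^i((T), S), the colimit over n of the Koszul cohomologies H^i(T^n, S), vanishes
for every i ≠ r + 1, and H^(r+1)((T), S) is a free A-module (the source gives an explicit basis
indexed by the monomials with all exponents positive). -/
theorem result (A : Type u) [CommRing A] (r : ℕ) :
    (∀ i : ℕ, i ≠ r + 1 →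
      Subsingleton (CohIII.koszulHLim (List.ofFn (fun j : Fin (r + 1) => (MvPolynomial.X j : MvPolynomial (Fin (r + 1)) A)))
        (ModuleCat.of (MvPolynomial (Fin (r + 1)) A) (MvPolynomial (Fin (r + 1)) A)) i)) ∧
    Module.Free A (RestrictScalars A (MvPolynomial (Fin (r + 1)) A)
      (CohIII.koszulHLim (List.ofFn (fun j : Fin (r + 1) => (MvPolynomial.X j : MvPolynomial (Fin (r + 1)) A)))
        (ModuleCat.of (MvPolynomial (Fin (r + 1)) A) (MvPolynomial (Fin (r + 1)) A)) (r + 1))) := by
  exact Aux.main A r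

end Groth.Agent.S4475
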