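import Groth.Statements.S4491
import Groth.Agent.Lib.Helper2.FlatCxLinear

set_option autoImplicit false
universe u
open FlatCx

namespace Groth.Agent.S4491

open CategoryTheory CategoryTheory.Limits in
/-- For the homological functor T_i(M) = H_i(P ⊗_A M) of a chain complex P of flat modules over a
commutative ring A. Let q + 1 = p and suppose T_p takes surjections to surjections. If
multiplication by f ∈ A is injective on an A-module M, then multiplication by f is injective on
T_q(M). In particular, when A is a domain, T_q(A) is torsion-free. -/
theorem result {A : Type u} [CommRing A]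
    (P : ChainComplex (ModuleCat.{u} A) ℤ) (hP : ∀ i, Module.Flat A (P.X i)) (p q : ℤ) (hpq : q + 1 = p)
    (hex : (CohIII.TFun P p).PreservesEpimorphisms) :
    (∀ (M : ModuleCat.{u} A) (f : A), Function.Injective (fun x : M => f • x) →
        Function.Injective (fun y : CohIII.T P q M => f • y)) ∧
      (IsDomain A → NoZeroSMulDivisors A (CohIII.T P q (ModuleCat.of A A))) := by
  have hmono : (CohIII.TFun P q).PreservesMonomorphisms :=
    (Groth.Agent.Helper2.FlatCx.preservesEpi_iff_preservesMono (P := P) hP p q hpq).mp hex
  have key : ∀ (M : ModuleCat.{u} A) (f : A), Function.Injective (fun x : M => f • x) →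
      Function.Injective (fun y : CohIII.T P q M => f • y) := by
    intro M f hf
    haveI : Mono (f • 𝟙 M : M ⟶ M) := by
      rw [ModuleCat.mono_iff_injective]
      exact hf
    have h1 : Function.Injective ((CohIII.TFun P q).map (f • 𝟙 M)).hom :=
      (ModuleCat.mono_iff_injective _).mp (hmono.preserves (f • 𝟙 M))
    intro y y' hyy
    apply h1
    change ((CohIII.TFun P q).map (f • 𝟙 M)).hom y = ((CohIII.TFun P q).map (f • 𝟙 M)).hom y'
    rw [Groth.Agent.Helper2.FlatCx.TFun_map_smul_id P (q + 1) q (q - 1) (by simp) (by simp),
      Groth.Agent.Helper2.FlatCx.TFun_map_smul_id P (q + 1) q (q - 1) (by simp) (by simp)]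
    exact hyy
  refine ⟨key, fun hdom => ?_⟩
  refine ⟨fun {a y} hay => ?_⟩
  by_cases ha : a = 0
  · exact Or.inl ha
  · right
    have hinj := key (ModuleCat.of A A) a (fun x x' hxx => by
      have : a * x = a * x' := hxx
      exact mul_left_cancel₀ ha this)
    exact hinj (show a • y = a • 0 by rw [smul_zero]; exact hay)

end Groth.Agent.S4491
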