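import Groth.Statements.S4507
import Mathlib

set_option autoImplicit false
universe u
open FlatCx

namespace Groth.Agent.S4507

section
open CategoryTheory CategoryTheory.Limits

variable {A : Type u} [CommRing A]

structure SCat (S : Submonoid A) : Type u where
  val : S

instance instCat (S : Submonoid A) : Category.{u} (SCat S) where
  Hom s t := {w : S // s.val * w = t.val}
  id s := ⟨1, mul_one _⟩
  comp f g := ⟨f.1 * g.1, by rw [← mul_assoc, f.2, g.2]⟩
  id_comp f := Subtype.ext (one_mul _)
  comp_id f := Subtype.ext (mul_one _)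
  assoc f g h := Subtype.ext (mul_assoc _ _ _)

instance instFilt (S : Submonoid A) : IsFiltered (SCat S) where
  cocone_objs s t := ⟨⟨s.val * t.val⟩, ⟨t.val, rfl⟩, ⟨s.val, mul_comm _ _⟩, trivial⟩
  cocone_maps s t f g := ⟨⟨t.val * s.val⟩, ⟨s.val, rfl⟩, Subtype.ext (by
     show f.1 * s.val = g.1 * s.val
     rw [mul_comm, f.2, mul_comm, g.2])⟩
  nonempty := ⟨⟨1⟩⟩

noncomputable def D (S : Submonoid A) (M : ModuleCat.{u} A) : SCat S ⥤ ModuleCat.{u} A where
  obj _ := M
  map f := ((f.1 : S) : A) • 𝟙 M
  map_id s := by
    show (((1 : S) : S) : A) • 𝟙 M = 𝟙 M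
    simp
  map_comp f g := by
    show ((f.1 * g.1 : S) : A) • 𝟙 M = (((f.1 : S) : A) • 𝟙 M) ≫ (((g.1 : S) : A) • 𝟙 M)
    rw [Linear.smul_comp, Linear.comp_smul, Category.id_comp, smul_smul, Submonoid.coe_mul, mul_comm]

noncomputable def ιs (S : Submonoid A) (M : ModuleCat.{u} A) (s : S) : M →ₗ[A] LocalizedModule S M :=
  (LocalizedModule.divBy s) ∘ₗ LocalizedModule.mkLinearMap S M

theorem ιs_apply (S : Submonoid A) (M : ModuleCat.{u} A) (s : S) (x : M) :
    ιs S M s x = LocalizedModule.mk x s := by
  show LocalizedModule.divBy s (LocalizedModule.mk x 1) = _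
  rw [LocalizedModule.divBy_apply, LocalizedModule.liftOn_mk, one_mul]

noncomputable def cc (S : Submonoid A) (M : ModuleCat.{u} A) : Cocone (D S M) where
  pt := ModuleCat.of A (LocalizedModule S M)
  ι := { app := fun s => ModuleCat.ofHom (ιs S M s.val)
         naturality := by
          intro s t f
          apply ModuleCat.hom_ext
          apply LinearMap.ext
          intro (x : M)
          show ιs S M t.val (((f.1 : S) : A) • x) = ιs S M s.val x
          rw [ιs_apply, ιs_apply]
          have h2 : t.val = s.val * f.1 := f.2.symm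
          obtain ⟨w, hw⟩ := f
          simp only at h2 ⊢
          rw [h2, ← Submonoid.smul_def, LocalizedModule.mk_cancel_common_right] }


theorem D_map_apply (S : Submonoid A) (M : ModuleCat.{u} A) {s t : SCat S} (f : s ⟶ t) (x : M) :
    ((D S M).map f).hom x = ((f.1 : S) : A) • x := rfl

noncomputable def ccIsColimit (S : Submonoid A) (M : ModuleCat.{u} A) : IsColimit (cc S M) := by
  have hbij : Function.Bijective (colimit.desc (D S M) (cc S M)).hom := by
    constructor
    · intro x y hxy
      obtain ⟨i, xi, rfl⟩ := Concrete.colimit_exists_rep (D S M) x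
      obtain ⟨j, xj, rfl⟩ := Concrete.colimit_exists_rep (D S M) y
      have h1 : ∀ (k : SCat S) (z : M), (colimit.desc (D S M) (cc S M)).hom
          ((colimit.ι (D S M) k).hom z) = LocalizedModule.mk z k.val := by
        intro k z
        have := congrArg (fun f => f.hom z) (colimit.ι_desc (cc S M) k)
        exact this.trans (ιs_apply S M k.val z)
      have hxy' : (LocalizedModule.mk (xi : M) i.val : LocalizedModule S M)
          = LocalizedModule.mk (xj : M) j.val :=
        (h1 i xi).symm.trans (hxy.trans (h1 j xj))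
      obtain ⟨w, hw⟩ := LocalizedModule.mk_eq.mp hxy'
      apply Concrete.colimit_rep_eq_of_exists
      refine ⟨⟨i.val * (j.val * w)⟩, ⟨j.val * w, rfl⟩, ⟨i.val * w, ?_⟩, ?_⟩
      · rw [← mul_assoc, ← mul_assoc, mul_comm j.val i.val]
      · show (((j.val * w : S) : A)) • (xi : M) = (((i.val * w : S) : A)) • (xj : M)
        have hw' : ((w : S) : A) • ((j.val : S) : A) • (xi : M)
            = ((w : S) : A) • ((i.val : S) : A) • (xj : M) := hw
        rw [Submonoid.coe_mul, Submonoid.coe_mul, mul_comm, mul_smul, mul_comm _ (w : A), mul_smul]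
        exact hw'
    · intro y
      induction y using LocalizedModule.induction_on with
      | h m s =>
        refine ⟨(colimit.ι (D S M) ⟨s⟩).hom m, ?_⟩
        have := congrArg (fun f => f.hom m) (colimit.ι_desc (cc S M) ⟨s⟩)
        exact this.trans (ιs_apply S M s m)
  haveI : IsIso (colimit.desc (D S M) (cc S M)) :=
    (ConcreteCategory.isIso_iff_bijective _).mpr hbij
  haveI : IsIso ((colimit.isColimit (D S M)).desc (cc S M)) := this
  exact IsColimit.ofPointIso (colimit.isColimit (D S M))


theorem Tsmul (T : ModuleCat.{u} A ⥤ ModuleCat.{u} A) [T.Linear A]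
    (N : ModuleCat.{u} A) (a : A) (y : T.obj N) : (T.map (a • 𝟙 N)).hom y = a • y := by
  rw [Functor.map_smul, CategoryTheory.Functor.map_id]
  rfl

theorem main {A : Type u} [CommRing A]
    (T : ModuleCat.{u} A ⥤ ModuleCat.{u} A) [T.Additive] [T.Linear A]
    (hT : ∀ (J : Type u) [SmallCategory J] [IsFiltered J], PreservesColimitsOfShape J T)
    (S : Submonoid A) (M : ModuleCat.{u} A) :
    IsLocalizedModule S (T.map (ModuleCat.ofHom (LocalizedModule.mkLinearMap S M) :
      M ⟶ ModuleCat.of A (LocalizedModule S M))).hom := by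
  have := hT (SCat S)
  have hc : IsColimit (T.mapCocone (cc S M)) := isColimitOfPreserves T (ccIsColimit S M)
  have hι1 : ιs S M 1 = LocalizedModule.mkLinearMap S M := by
    apply LinearMap.ext
    intro x
    rw [ιs_apply]
    rfl
  constructor
  · intro s
    rw [Module.End.isUnit_iff]
    let g : T.obj (ModuleCat.of A (LocalizedModule S M)) ⟶ T.obj (ModuleCat.of A (LocalizedModule S M)) :=
      T.map (ModuleCat.ofHom (LocalizedModule.divBy s))
    have hcomp : ModuleCat.ofHom (LocalizedModule.divBy s) ≫
        ((s : A) • 𝟙 (ModuleCat.of A (LocalizedModule S M))) = 𝟙 _ := by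
      apply ModuleCat.hom_ext
      apply LinearMap.ext
      intro p
      exact LocalizedModule.mul_by_divBy s p
    have key : ∀ y : T.obj (ModuleCat.of A (LocalizedModule S M)), (s : A) • g.hom y = y := by
      intro y
      rw [← Tsmul T]
      have := congrArg (fun f => (T.map f).hom y) hcomp
      simp only [Functor.map_comp, CategoryTheory.Functor.map_id] at this
      exact this
    constructor
    · intro y y' hyy
      have h2 : (s : A) • y = (s : A) • y' := hyy
      have := congrArg g.hom h2
      rw [map_smul, map_smul, key, key] at this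
      exact this
    · intro y
      exact ⟨g.hom y, key y⟩
  · intro y
    obtain ⟨j, z, hz⟩ := Concrete.isColimit_exists_rep (D S M ⋙ T) hc y
    refine ⟨(z, j.val), ?_⟩
    have hz' : (T.map (ModuleCat.ofHom (ιs S M j.val))).hom z = y := hz
    show ((j.val : S) : A) • y = _
    have hcomp : (ModuleCat.ofHom (ιs S M j.val) : M ⟶ ModuleCat.of A (LocalizedModule S M)) ≫
        (((j.val : S) : A) • 𝟙 (ModuleCat.of A (LocalizedModule S M))) =
        (ModuleCat.ofHom (LocalizedModule.mkLinearMap S M) : M ⟶ ModuleCat.of A (LocalizedModule S M)) := by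
      apply ModuleCat.hom_ext
      apply LinearMap.ext
      intro x
      show ((j.val : S) : A) • ιs S M j.val x = LocalizedModule.mk x 1
      rw [ιs_apply, LocalizedModule.smul'_mk, ← Submonoid.smul_def, LocalizedModule.mk_cancel]
    have h3 : (T.map (((j.val : S) : A) • 𝟙 (ModuleCat.of A (LocalizedModule S M)))).hom
        ((T.map (ModuleCat.ofHom (ιs S M j.val) : M ⟶ ModuleCat.of A (LocalizedModule S M))).hom z) =
        (T.map (ModuleCat.ofHom (LocalizedModule.mkLinearMap S M) :
          M ⟶ ModuleCat.of A (LocalizedModule S M))).hom z := by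
      rw [← hcomp, Functor.map_comp]
      rfl
    rw [← hz', ← Tsmul T]
    exact h3
  · intro x₁ x₂ h
    have h' : ((T.mapCocone (cc S M)).ι.app ⟨1⟩).hom x₁ = ((T.mapCocone (cc S M)).ι.app ⟨1⟩).hom x₂ := by
      show (T.map (ModuleCat.ofHom (ιs S M 1))).hom x₁ = (T.map (ModuleCat.ofHom (ιs S M 1))).hom x₂
      rw [hι1]
      exact h
    obtain ⟨k, f, g, hfg⟩ := Concrete.isColimit_exists_of_rep_eq (D S M ⋙ T) hc x₁ x₂ h'
    refine ⟨k.val, ?_⟩
    have hf : (f.1 : S) = k.val := by
      have := f.2
      rwa [one_mul] at this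
    have hg : (g.1 : S) = k.val := by
      have := g.2
      rwa [one_mul] at this
    have e1 : (T.map (((f.1 : S) : A) • 𝟙 M)).hom x₁ = (T.map (((g.1 : S) : A) • 𝟙 M)).hom x₂ := hfg
    rw [Tsmul, Tsmul, hf, hg] at e1
    exact e1


end


open CategoryTheory CategoryTheory.Limits in
/-- The isomorphism T(S⁻¹M) ≅ S⁻¹T(M). Let A be a commutative ring, T an additive A-linear endofunctor
of the category of A-modules which preserves filtered colimits, S a multiplicative subset of A and M
an A-module. Then the A-linear map T(M) → T(S⁻¹M), image under T of the localization map M → S⁻¹M,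
is a localization of T(M) at S (so T(S⁻¹M) is canonically S⁻¹T(M), as an S⁻¹A-module). -/
theorem result {A : Type u} [CommRing A]
    (T : ModuleCat.{u} A ⥤ ModuleCat.{u} A) [T.Additive] [T.Linear A]
    (hT : ∀ (J : Type u) [SmallCategory J] [IsFiltered J], PreservesColimitsOfShape J T)
    (S : Submonoid A) (M : ModuleCat.{u} A) :
    IsLocalizedModule S (T.map (ModuleCat.ofHom (LocalizedModule.mkLinearMap S M) :
      M ⟶ ModuleCat.of A (LocalizedModule S M))).hom := by
  classical
  exact main T hT S M

end Groth.Agent.S4507
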