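import Groth.Statements.S4493
import Mathlib
import Groth.Agent.S4507

set_option autoImplicit false
universe u
open FlatCx

namespace Groth.Agent.S4493

section
open CategoryTheory CategoryTheory.Limits

variable {A : Type u} [CommRing A]

/-- general localization version of S4507 -/
theorem isLoc_of_isLoc (T : ModuleCat.{u} A ⥤ ModuleCat.{u} A) [T.Additive] [T.Linear A]
    (hT : ∀ (J : Type u) [SmallCategory J] [IsFiltered J], PreservesColimitsOfShape J T)
    (S : Submonoid A) {M M' : ModuleCat.{u} A} (l : M ⟶ M') [IsLocalizedModule S l.hom] :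
    IsLocalizedModule S (T.map l).hom := by
  have h0 := Groth.Agent.S4507.result T hT S M
  let e : LocalizedModule S M ≃ₗ[A] M' := IsLocalizedModule.iso S l.hom
  have hl : l = (ModuleCat.ofHom (LocalizedModule.mkLinearMap S M) :
      M ⟶ ModuleCat.of A (LocalizedModule S M)) ≫ e.toModuleIso.hom := by
    apply ModuleCat.hom_ext
    apply LinearMap.ext
    intro x
    show l.hom x = e (LocalizedModule.mk x 1)
    have := IsLocalizedModule.iso_symm_apply S l.hom x
    rw [← this]
    exact (e.apply_symm_apply _).symm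
  rw [hl, Functor.map_comp, ModuleCat.hom_comp]
  exact IsLocalizedModule.of_linearEquiv S _ (T.mapIso e.toModuleIso).toLinearEquiv


section
variable (m : Ideal A) [m.IsPrime]

noncomputable abbrev Lm : ModuleCat.{u} A ⥤ ModuleCat.{u} (Localization.AtPrime m) :=
  ModuleCat.localizedModuleFunctor m.primeCompl

noncomputable abbrev Rm : ModuleCat.{u} (Localization.AtPrime m) ⥤ ModuleCat.{u} A :=
  ModuleCat.restrictScalars (algebraMap A (Localization.AtPrime m))

noncomputable def η (N : ModuleCat.{u} A) : N ⟶ (Rm m).obj ((Lm m).obj N) :=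
  ModuleCat.ofHom (Y := (Rm m).obj ((Lm m).obj N))
    { toFun := fun x => N.localizedModuleMkLinearMap m.primeCompl x
      map_add' := fun x y => map_add _ x y
      map_smul' := fun a x => by
        rw [map_smul]
        exact (algebraMap_smul (Localization.AtPrime m) a
          (N.localizedModuleMkLinearMap m.primeCompl x)).symm }

theorem η_apply (N : ModuleCat.{u} A) (x : N) :
    (η m N).hom x = N.localizedModuleMkLinearMap m.primeCompl x := rfl

theorem η_natural {N N' : ModuleCat.{u} A} (f : N ⟶ N') :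
    f ≫ η m N' = η m N ≫ (Rm m).map ((Lm m).map f) := by
  apply ModuleCat.hom_ext
  apply LinearMap.ext
  intro x
  show N'.localizedModuleMkLinearMap m.primeCompl (f.hom x) =
    (IsLocalizedModule.mapExtendScalars m.primeCompl (N.localizedModuleMkLinearMap m.primeCompl)
      (N'.localizedModuleMkLinearMap m.primeCompl) (Localization m.primeCompl) f.hom)
      (N.localizedModuleMkLinearMap m.primeCompl x)
  rw [IsLocalizedModule.mapExtendScalars_apply_apply, IsLocalizedModule.map_apply]

instance η_isLoc (N : ModuleCat.{u} A) : IsLocalizedModule m.primeCompl (η m N).hom := by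
  have h0 : IsLocalizedModule m.primeCompl (N.localizedModuleMkLinearMap m.primeCompl) :=
    inferInstance
  have hsm : ∀ (a : A) (y : (Lm m).obj N),
      (a • (id y : (Rm m).obj ((Lm m).obj N)) : (Rm m).obj ((Lm m).obj N)) =
        (id (algebraMap A (Localization.AtPrime m) a • y) : (Rm m).obj ((Lm m).obj N)) :=
    fun a y => rfl
  constructor
  · intro s
    rw [Module.End.isUnit_iff]
    have hu : IsUnit (algebraMap A (Localization.AtPrime m) s) :=
      IsLocalization.map_units (Localization.AtPrime m) s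
    obtain ⟨u, hu⟩ := hu
    constructor
    · intro y y' hyy
      let y₀ : (Lm m).obj N := y
      let y₀' : (Lm m).obj N := y'
      have h1 : algebraMap A (Localization.AtPrime m) s • y₀ =
          algebraMap A (Localization.AtPrime m) s • y₀' := hyy
      rw [← hu] at h1
      have h2 := congrArg (fun z => (↑u⁻¹ : Localization.AtPrime m) • z) h1
      simp only [smul_smul, Units.inv_mul, one_smul] at h2
      exact h2
    · intro y
      let y₀ : (Lm m).obj N := y
      refine ⟨(id ((↑u⁻¹ : Localization.AtPrime m) • y₀) : (Rm m).obj ((Lm m).obj N)), ?_⟩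
      show algebraMap A (Localization.AtPrime m) s • ((↑u⁻¹ : Localization.AtPrime m) • y₀) = y₀
      rw [← hu, smul_smul, Units.mul_inv, one_smul]
  · intro y
    let y₀ : N.localizedModule m.primeCompl := y
    obtain ⟨⟨x, s⟩, hx⟩ := h0.surj y₀
    refine ⟨⟨x, s⟩, ?_⟩
    show algebraMap A (Localization.AtPrime m) s • y₀ = _
    rw [η_apply, ← hx]
    have : s • y₀ = (s : A) • y₀ := Submonoid.smul_def s y₀
    rw [this]
    exact algebraMap_smul (Localization.AtPrime m) (s : A) y₀
  · intro x₁ x₂ h
    exact h0.exists_of_eq h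

end


section locals
variable (T : ModuleCat.{u} A ⥤ ModuleCat.{u} A) [T.Additive] [T.Linear A]
    (hT : ∀ (J : Type u) [SmallCategory J] [IsFiltered J], PreservesColimitsOfShape J T)

include hT in
theorem Tη_isLoc (m : Ideal A) [m.IsPrime] (N : ModuleCat.{u} A) :
    IsLocalizedModule m.primeCompl (T.map (η m N)).hom :=
  isLoc_of_isLoc T hT m.primeCompl (η m N)

omit [T.Additive] [T.Linear A] in
theorem nat_eq (m : Ideal A) [m.IsPrime] {X Y : ModuleCat.{u} A} (f : X ⟶ Y) :
    ((Rm m ⋙ T).map ((Lm m).map f)).hom ∘ₗ (T.map (η m X)).hom =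
      (T.map (η m Y)).hom ∘ₗ (T.map f).hom := by
  have := congrArg (fun g => (T.map g).hom) (η_natural m f)
  simp only [Functor.map_comp, ModuleCat.hom_comp] at this
  exact this.symm

include hT in
theorem exact_of_local {X Y Z : ModuleCat.{u} A} (f : X ⟶ Y) (g : Y ⟶ Z)
    (H : ∀ (m : Ideal A) [m.IsMaximal], Function.Exact ((Rm m ⋙ T).map ((Lm m).map f)).hom
      ((Rm m ⋙ T).map ((Lm m).map g)).hom) :
    Function.Exact (T.map f).hom (T.map g).hom := by
  obtain ⟨fX, hfX⟩ : ∃ fX : ∀ (P : Ideal A) [P.IsMaximal],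
      T.obj X →ₗ[A] T.obj ((Rm P).obj ((Lm P).obj X)),
      ∀ (P : Ideal A) [P.IsMaximal], fX P = (T.map (η P X)).hom := ⟨fun P _ => (T.map (η P X)).hom, fun _ _ => rfl⟩
  obtain ⟨fY, hfY⟩ : ∃ fY : ∀ (P : Ideal A) [P.IsMaximal],
      T.obj Y →ₗ[A] T.obj ((Rm P).obj ((Lm P).obj Y)),
      ∀ (P : Ideal A) [P.IsMaximal], fY P = (T.map (η P Y)).hom := ⟨fun P _ => (T.map (η P Y)).hom, fun _ _ => rfl⟩
  obtain ⟨fZ, hfZ⟩ : ∃ fZ : ∀ (P : Ideal A) [P.IsMaximal],
      T.obj Z →ₗ[A] T.obj ((Rm P).obj ((Lm P).obj Z)),
      ∀ (P : Ideal A) [P.IsMaximal], fZ P = (T.map (η P Z)).hom := ⟨fun P _ => (T.map (η P Z)).hom, fun _ _ => rfl⟩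
  have iX : ∀ (P : Ideal A) [P.IsMaximal], IsLocalizedModule P.primeCompl (fX P) :=
    fun P _ => by rw [hfX P]; exact Tη_isLoc T hT P X
  have iY : ∀ (P : Ideal A) [P.IsMaximal], IsLocalizedModule P.primeCompl (fY P) :=
    fun P _ => by rw [hfY P]; exact Tη_isLoc T hT P Y
  have iZ : ∀ (P : Ideal A) [P.IsMaximal], IsLocalizedModule P.primeCompl (fZ P) :=
    fun P _ => by rw [hfZ P]; exact Tη_isLoc T hT P Z
  refine exact_of_isLocalized_maximal
    (fun P _ => T.obj ((Rm P).obj ((Lm P).obj X))) fX
    (fun P _ => T.obj ((Rm P).obj ((Lm P).obj Y))) fY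
    (fun P _ => T.obj ((Rm P).obj ((Lm P).obj Z))) fZ
    (T.map f).hom (T.map g).hom ?_
  intro P hP
  have e1 : IsLocalizedModule.map P.primeCompl (fX P) (fY P) (T.map f).hom =
      ((Rm P ⋙ T).map ((Lm P).map f)).hom := by
    apply IsLocalizedModule.linearMap_ext P.primeCompl (fX P) (fY P)
    rw [IsLocalizedModule.map_comp, hfX P, hfY P]
    exact (nat_eq T P f).symm
  have e2 : IsLocalizedModule.map P.primeCompl (fY P) (fZ P) (T.map g).hom =
      ((Rm P ⋙ T).map ((Lm P).map g)).hom := by
    apply IsLocalizedModule.linearMap_ext P.primeCompl (fY P) (fZ P)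
    rw [IsLocalizedModule.map_comp, hfY P, hfZ P]
    exact (nat_eq T P g).symm
  rw [e1, e2]
  exact H P

include hT in
theorem injective_of_local {X Y : ModuleCat.{u} A} (f : X ⟶ Y)
    (H : ∀ (m : Ideal A) [m.IsMaximal], Function.Injective ((Rm m ⋙ T).map ((Lm m).map f)).hom) :
    Function.Injective (T.map f).hom := by
  obtain ⟨fX, hfX⟩ : ∃ fX : ∀ (P : Ideal A) [P.IsMaximal],
      T.obj X →ₗ[A] T.obj ((Rm P).obj ((Lm P).obj X)),
      ∀ (P : Ideal A) [P.IsMaximal], fX P = (T.map (η P X)).hom := ⟨fun P _ => (T.map (η P X)).hom, fun _ _ => rfl⟩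
  obtain ⟨fY, hfY⟩ : ∃ fY : ∀ (P : Ideal A) [P.IsMaximal],
      T.obj Y →ₗ[A] T.obj ((Rm P).obj ((Lm P).obj Y)),
      ∀ (P : Ideal A) [P.IsMaximal], fY P = (T.map (η P Y)).hom := ⟨fun P _ => (T.map (η P Y)).hom, fun _ _ => rfl⟩
  have iX : ∀ (P : Ideal A) [P.IsMaximal], IsLocalizedModule P.primeCompl (fX P) :=
    fun P _ => by rw [hfX P]; exact Tη_isLoc T hT P X
  have iY : ∀ (P : Ideal A) [P.IsMaximal], IsLocalizedModule P.primeCompl (fY P) :=
    fun P _ => by rw [hfY P]; exact Tη_isLoc T hT P Y
  refine injective_of_isLocalized_maximal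
    (fun P _ => T.obj ((Rm P).obj ((Lm P).obj X))) fX
    (fun P _ => T.obj ((Rm P).obj ((Lm P).obj Y))) fY
    (T.map f).hom ?_
  intro P hP
  have e1 : IsLocalizedModule.map P.primeCompl (fX P) (fY P) (T.map f).hom =
      ((Rm P ⋙ T).map ((Lm P).map f)).hom := by
    apply IsLocalizedModule.linearMap_ext P.primeCompl (fX P) (fY P)
    rw [IsLocalizedModule.map_comp, hfX P, hfY P]
    exact (nat_eq T P f).symm
  rw [e1]
  exact H P

include hT in
theorem surjective_of_local {X Y : ModuleCat.{u} A} (f : X ⟶ Y)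
    (H : ∀ (m : Ideal A) [m.IsMaximal], Function.Surjective ((Rm m ⋙ T).map ((Lm m).map f)).hom) :
    Function.Surjective (T.map f).hom := by
  obtain ⟨fX, hfX⟩ : ∃ fX : ∀ (P : Ideal A) [P.IsMaximal],
      T.obj X →ₗ[A] T.obj ((Rm P).obj ((Lm P).obj X)),
      ∀ (P : Ideal A) [P.IsMaximal], fX P = (T.map (η P X)).hom := ⟨fun P _ => (T.map (η P X)).hom, fun _ _ => rfl⟩
  obtain ⟨fY, hfY⟩ : ∃ fY : ∀ (P : Ideal A) [P.IsMaximal],
      T.obj Y →ₗ[A] T.obj ((Rm P).obj ((Lm P).obj Y)),
      ∀ (P : Ideal A) [P.IsMaximal], fY P = (T.map (η P Y)).hom := ⟨fun P _ => (T.map (η P Y)).hom, fun _ _ => rfl⟩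
  have iX : ∀ (P : Ideal A) [P.IsMaximal], IsLocalizedModule P.primeCompl (fX P) :=
    fun P _ => by rw [hfX P]; exact Tη_isLoc T hT P X
  have iY : ∀ (P : Ideal A) [P.IsMaximal], IsLocalizedModule P.primeCompl (fY P) :=
    fun P _ => by rw [hfY P]; exact Tη_isLoc T hT P Y
  refine surjective_of_isLocalized_maximal
    (fun P _ => T.obj ((Rm P).obj ((Lm P).obj X))) fX
    (fun P _ => T.obj ((Rm P).obj ((Lm P).obj Y))) fY
    (T.map f).hom ?_
  intro P hP
  have e1 : IsLocalizedModule.map P.primeCompl (fX P) (fY P) (T.map f).hom =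
      ((Rm P ⋙ T).map ((Lm P).map f)).hom := by
    apply IsLocalizedModule.linearMap_ext P.primeCompl (fX P) (fY P)
    rw [IsLocalizedModule.map_comp, hfX P, hfY P]
    exact (nat_eq T P f).symm
  rw [e1]
  exact H P

end locals

theorem main {A : Type u} [CommRing A]
    (T : ModuleCat.{u} A ⥤ ModuleCat.{u} A) [T.Additive] [T.Linear A]
    (hT : ∀ (J : Type u) [SmallCategory J] [IsFiltered J], PreservesColimitsOfShape J T) :
    ((∀ (m : Ideal A) [m.IsMaximal],
        PreservesFiniteLimits (ModuleCat.restrictScalars (algebraMap A (Localization.AtPrime m)) ⋙ T)) →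
      PreservesFiniteLimits T) ∧
    ((∀ (m : Ideal A) [m.IsMaximal],
        PreservesFiniteColimits (ModuleCat.restrictScalars (algebraMap A (Localization.AtPrime m)) ⋙ T)) →
      PreservesFiniteColimits T) := by
  constructor
  · intro h
    rw [Functor.preservesFiniteLimits_iff_forall_exact_map_and_mono]
    intro S hS
    have key : ∀ (m : Ideal A) [m.IsMaximal],
        ((S.map (Lm m)).map (Rm m ⋙ T)).Exact ∧ Mono ((Rm m ⋙ T).map (S.map (Lm m)).f) := by
      intro m _
      exact (Functor.preservesFiniteLimits_iff_forall_exact_map_and_mono (Rm m ⋙ T)).mp (h m) (S.map (Lm m))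
        (hS.map_of_exact (Lm m))
    constructor
    · rw [ShortComplex.ShortExact.moduleCat_exact_iff_function_exact]
      apply exact_of_local T hT S.f S.g
      intro m _
      have := (key m).1
      rw [ShortComplex.ShortExact.moduleCat_exact_iff_function_exact] at this
      exact this
    · rw [ModuleCat.mono_iff_injective]
      apply injective_of_local T hT S.f
      intro m _
      have := (key m).2
      rw [ModuleCat.mono_iff_injective] at this
      exact this
  · intro h
    rw [Functor.preservesFiniteColimits_iff_forall_exact_map_and_epi]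
    intro S hS
    have key : ∀ (m : Ideal A) [m.IsMaximal],
        ((S.map (Lm m)).map (Rm m ⋙ T)).Exact ∧ Epi ((Rm m ⋙ T).map (S.map (Lm m)).g) := by
      intro m _
      exact (Functor.preservesFiniteColimits_iff_forall_exact_map_and_epi (Rm m ⋙ T)).mp (h m) (S.map (Lm m))
        (hS.map_of_exact (Lm m))
    constructor
    · rw [ShortComplex.ShortExact.moduleCat_exact_iff_function_exact]
      apply exact_of_local T hT S.f S.g
      intro m _
      have := (key m).1
      rw [ShortComplex.ShortExact.moduleCat_exact_iff_function_exact] at this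
      exact this
    · rw [ModuleCat.epi_iff_surjective]
      apply surjective_of_local T hT S.g
      intro m _
      have := (key m).2
      rw [ModuleCat.epi_iff_surjective] at this
      exact this


end


open CategoryTheory CategoryTheory.Limits in
/-- Let A be a commutative ring and T an additive A-linear endofunctor of the category of A-modules
which preserves filtered colimits. For a maximal ideal m write T_m for T precomposed with
restriction of scalars along A → A_m (a functor from A_m-modules to A-modules). If T_m is left exact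
for every maximal ideal m then T is left exact, and if T_m is right exact for every maximal ideal m
then T is right exact (exactness meaning preservation of finite limits, resp. finite colimits). -/
theorem result {A : Type u} [CommRing A]
    (T : ModuleCat.{u} A ⥤ ModuleCat.{u} A) [T.Additive] [T.Linear A]
    (hT : ∀ (J : Type u) [SmallCategory J] [IsFiltered J], PreservesColimitsOfShape J T) :
    ((∀ (m : Ideal A) [m.IsMaximal],
        PreservesFiniteLimits (ModuleCat.restrictScalars (algebraMap A (Localization.AtPrime m)) ⋙ T)) →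
      PreservesFiniteLimits T) ∧
    ((∀ (m : Ideal A) [m.IsMaximal],
        PreservesFiniteColimits (ModuleCat.restrictScalars (algebraMap A (Localization.AtPrime m)) ⋙ T)) →
      PreservesFiniteColimits T) := by
  classical
  exact main T hT

end Groth.Agent.S4493
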