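import Groth.Statements.S4503
import Mathlib

set_option autoImplicit false
universe u
open FlatCx

namespace Groth.Agent.S4503

section
open CategoryTheory CategoryTheory.Limits

variable {A : Type u} [CommRing A]
    (T : ModuleCat.{u} A ⥤ ModuleCat.{u} A) [T.Additive] [T.Linear A]

/-- the canonical map -/
noncomputable def tL (L : ModuleCat.{u} A) : TensorProduct A (T.obj (ModuleCat.of A A)) L →ₗ[A] T.obj L :=
  (TensorProduct.lift (LinearMap.flip
        ((ModuleCat.homLinearEquiv (S := A)).toLinearMap ∘ₗ Functor.mapLinearMap A T ∘ₗ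
          (ModuleCat.homLinearEquiv (S := A)).symm.toLinearMap ∘ₗ
            (LinearMap.ringLmapEquivSelf A A L).symm.toLinearMap)))

theorem tL_tmul (L : ModuleCat.{u} A) (y : T.obj (ModuleCat.of A A)) (x : L) :
    tL T L (y ⊗ₜ x) = (T.map (ModuleCat.ofHom (LinearMap.toSpanSingleton A L x))).hom y := by
  rfl


/-- the basis cofan is a colimit -/
noncomputable def basisCofanIsColimit (L : ModuleCat.{u} A) {J : Type u} (b : Module.Basis J A L) :
    IsColimit (Cofan.mk L (fun j : J => ModuleCat.ofHom (LinearMap.toSpanSingleton A L (b j))) :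
      Cofan (fun _ : J => ModuleCat.of A A)) :=
  Cofan.IsColimit.mk _ (fun t => ModuleCat.ofHom (b.constr A (fun j => (t.inj j).hom (1 : A))))
    (fun t j => by
      apply ModuleCat.hom_ext
      apply LinearMap.ext_ring
      show (b.constr A (fun j => (t.inj j).hom (1 : A))) ((1 : A) • b j) = (t.inj j).hom 1
      rw [one_smul, Module.Basis.constr_basis])
    (fun t m hm => by
      apply ModuleCat.hom_ext
      apply b.ext
      intro j
      rw [ModuleCat.hom_ofHom, Module.Basis.constr_basis]
      have := congrArg (fun f => f.hom (1 : A)) (hm j)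
      simp only [ModuleCat.hom_comp, LinearMap.comp_apply] at this
      rw [← this]
      show m.hom (b j) = m.hom ((1 : A) • b j)
      rw [one_smul])


open DirectSum in
theorem main {A : Type u} [CommRing A]
    (T : ModuleCat.{u} A ⥤ ModuleCat.{u} A) [T.Additive] [T.Linear A]
    [∀ J : Type u, PreservesColimitsOfShape (Discrete J) T] (L : ModuleCat.{u} A) [Module.Free A L] :
    Function.Bijective (TensorProduct.lift (LinearMap.flip
        ((ModuleCat.homLinearEquiv (S := A)).toLinearMap ∘ₗ Functor.mapLinearMap A T ∘ₗ
          (ModuleCat.homLinearEquiv (S := A)).symm.toLinearMap ∘ₗ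
            (LinearMap.ringLmapEquivSelf A A L).symm.toLinearMap)) :
      TensorProduct A (T.obj (ModuleCat.of A A)) L →ₗ[A] T.obj L) := by
  classical
  show Function.Bijective (tL T L)
  let J := Module.Free.ChooseBasisIndex A L
  let b : Module.Basis J A L := Module.Free.chooseBasis A L
  -- the colimit cofan after applying T
  have hT : IsColimit (Cofan.mk (T.obj L)
      (fun j : J => T.map (ModuleCat.ofHom (LinearMap.toSpanSingleton A L (b j)))) :
      Cofan (fun _ : J => T.obj (ModuleCat.of A A))) :=
    isColimitCofanMkObjOfIsColimit T _ _ (basisCofanIsColimit L b)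
  let Z' : J → ModuleCat.{u} A := fun _ => T.obj (ModuleCat.of A A)
  let iso := IsColimit.coconePointUniqueUpToIso (ModuleCat.coproductCoconeIsColimit Z') hT
  let σ : (⨁ j : J, Z' j) →ₗ[A] T.obj L := iso.hom.hom
  have hiso : ∀ (j : J) (y : T.obj (ModuleCat.of A A)),
      σ (DirectSum.lof A J (fun j => Z' j) j y) =
        (T.map (ModuleCat.ofHom (LinearMap.toSpanSingleton A L (b j)))).hom y := by
    intro j y
    have := IsColimit.comp_coconePointUniqueUpToIso_hom
      (ModuleCat.coproductCoconeIsColimit Z') hT ⟨j⟩
    exact congrArg (fun f => f.hom y) this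
  have hσ : Function.Bijective σ :=
    ConcreteCategory.bijective_of_isIso iso.hom
  -- the map ρ
  let ρ : (⨁ j : J, Z' j) →ₗ[A] TensorProduct A (T.obj (ModuleCat.of A A)) L :=
    DirectSum.toModule A J _ (fun j => (TensorProduct.mk A (T.obj (ModuleCat.of A A)) L).flip (b j))
  have hρ_lof : ∀ (j : J) (y : T.obj (ModuleCat.of A A)),
      ρ (DirectSum.lof A J (fun j => Z' j) j y) = y ⊗ₜ[A] (b j) := by
    intro j y
    simp only [ρ, DirectSum.toModule_lof]
    rfl
  have hcomp : ∀ d : (⨁ j : J, Z' j), tL T L (ρ d) = σ d := by
    intro d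
    induction d using DirectSum.induction_on with
    | zero => rw [map_zero, map_zero, map_zero]
    | of j y =>
      have e : DirectSum.of (fun j => Z' j) j y = DirectSum.lof A J (fun j => Z' j) j y := rfl
      rw [e, hρ_lof, hiso, tL_tmul]
    | add d1 d2 h1 h2 => rw [map_add, map_add, map_add, h1, h2]
  have hρ_surj : Function.Surjective ρ := by
    rw [← LinearMap.range_eq_top, eq_top_iff]
    rintro t -
    induction t using TensorProduct.induction_on with
    | zero => exact Submodule.zero_mem _
    | tmul y x =>
      have hx : x ∈ Submodule.span A (Set.range b) := by rw [b.span_eq]; trivial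
      have key : ∀ x ∈ Submodule.span A (Set.range b), ∀ y : T.obj (ModuleCat.of A A),
          y ⊗ₜ[A] x ∈ LinearMap.range ρ := by
        intro x hx
        induction hx using Submodule.span_induction with
        | mem x hx =>
          obtain ⟨j, rfl⟩ := hx
          intro y
          exact ⟨_, hρ_lof j y⟩
        | zero => intro y; rw [TensorProduct.tmul_zero]; exact Submodule.zero_mem _
        | add x1 x2 _ _ h1 h2 =>
          intro y; rw [TensorProduct.tmul_add]; exact Submodule.add_mem _ (h1 y) (h2 y)
        | smul a x _ h1 =>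
          intro y; rw [TensorProduct.tmul_smul]
          exact Submodule.smul_mem _ a (h1 y)
      exact key x hx y
    | add t1 t2 h1 h2 => exact Submodule.add_mem _ h1 h2
  have hρ_inj : Function.Injective ρ := by
    intro d1 d2 h
    apply hσ.1
    rw [← hcomp, ← hcomp, h]
  constructor
  · intro t1 t2 h
    obtain ⟨d1, rfl⟩ := hρ_surj t1
    obtain ⟨d2, rfl⟩ := hρ_surj t2
    rw [hcomp, hcomp] at h
    rw [hσ.1 h]
  · intro z
    obtain ⟨d, rfl⟩ := hσ.2 z
    exact ⟨ρ d, hcomp d⟩


end


open CategoryTheory CategoryTheory.Limits in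
/-- The case of A-linear functors (for commutative A, additive functors from A-modules to abelian groups
are the same as A-linear endofunctors of A-modules). Let T be an additive A-linear functor from
A-modules to A-modules commuting with arbitrary direct sums, and for an A-module M let t_M : T(A)
⊗_A M → T(M) be the canonical map sending y ⊗ x to T(θ_x)(y), where θ_x : A → M is a ↦ a x. Then t_L
is bijective for every free A-module L. -/
theorem result {A : Type u} [CommRing A]
    (T : ModuleCat.{u} A ⥤ ModuleCat.{u} A) [T.Additive] [T.Linear A]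
    [∀ J : Type u, PreservesColimitsOfShape (Discrete J) T] (L : ModuleCat.{u} A) [Module.Free A L] :
    Function.Bijective (TensorProduct.lift (LinearMap.flip
        ((ModuleCat.homLinearEquiv (S := A)).toLinearMap ∘ₗ Functor.mapLinearMap A T ∘ₗ
          (ModuleCat.homLinearEquiv (S := A)).symm.toLinearMap ∘ₗ
            (LinearMap.ringLmapEquivSelf A A L).symm.toLinearMap)) :
      TensorProduct A (T.obj (ModuleCat.of A A)) L →ₗ[A] T.obj L) := by
  classical
  exact main T L

end Groth.Agent.S4503
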