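import Groth.Statements.S4504
import Mathlib

set_option autoImplicit false
universe u
open FlatCx

namespace Groth.Agent.S4504

section
open CategoryTheory CategoryTheory.Limits MonoidalCategory

variable {A : Type u} [CommRing A]
    (T : ModuleCat.{u} A ⥤ ModuleCat.{u} A) [T.Additive] [T.Linear A]

/-- the canonical map -/
noncomputable def tL (L : ModuleCat.{u} A) : TensorProduct A (T.obj (ModuleCat.of A A)) L →ₗ[A] T.obj L :=
  (TensorProduct.lift (LinearMap.flip
        ((ModuleCat.homLinearEquiv (S := A)).toLinearMap ∘ₗ Functor.mapLinearMap A T ∘ₗ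
          (ModuleCat.homLinearEquiv (S := A)).symm.toLinearMap ∘ₗ
            (LinearMap.ringLmapEquivSelf A A L).symm.toLinearMap)))

theorem tL_tmul (L : ModuleCat.{u} A) (y : T.obj (ModuleCat.of A A)) (x : L) :
    tL T L (y ⊗ₜ x) = (T.map (ModuleCat.ofHom (LinearMap.toSpanSingleton A L x))).hom y := by
  rfl


/-- the basis cofan is a colimit -/
noncomputable def basisCofanIsColimit (L : ModuleCat.{u} A) {J : Type u} (b : Module.Basis J A L) :
    IsColimit (Cofan.mk L (fun j : J => ModuleCat.ofHom (LinearMap.toSpanSingleton A L (b j))) :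
      Cofan (fun _ : J => ModuleCat.of A A)) :=
  Cofan.IsColimit.mk _ (fun t => ModuleCat.ofHom (b.constr A (fun j => (t.inj j).hom (1 : A))))
    (fun t j => by
      apply ModuleCat.hom_ext
      apply LinearMap.ext_ring
      show (b.constr A (fun j => (t.inj j).hom (1 : A))) ((1 : A) • b j) = (t.inj j).hom 1
      rw [one_smul, Module.Basis.constr_basis])
    (fun t m hm => by
      apply ModuleCat.hom_ext
      apply b.ext
      intro j
      rw [ModuleCat.hom_ofHom, Module.Basis.constr_basis]
      have := congrArg (fun f => f.hom (1 : A)) (hm j)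
      simp only [ModuleCat.hom_comp, LinearMap.comp_apply] at this
      rw [← this]
      show m.hom (b j) = m.hom ((1 : A) • b j)
      rw [one_smul])


open DirectSum in
theorem bij_free {A : Type u} [CommRing A]
    (T : ModuleCat.{u} A ⥤ ModuleCat.{u} A) [T.Additive] [T.Linear A]
    [∀ J : Type u, PreservesColimitsOfShape (Discrete J) T] (L : ModuleCat.{u} A) [Module.Free A L] :
    Function.Bijective (TensorProduct.lift (LinearMap.flip
        ((ModuleCat.homLinearEquiv (S := A)).toLinearMap ∘ₗ Functor.mapLinearMap A T ∘ₗ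
          (ModuleCat.homLinearEquiv (S := A)).symm.toLinearMap ∘ₗ
            (LinearMap.ringLmapEquivSelf A A L).symm.toLinearMap)) :
      TensorProduct A (T.obj (ModuleCat.of A A)) L →ₗ[A] T.obj L) := by
  classical
  show Function.Bijective (tL T L)
  let J := Module.Free.ChooseBasisIndex A L
  let b : Module.Basis J A L := Module.Free.chooseBasis A L
  -- the colimit cofan after applying T
  have hT : IsColimit (Cofan.mk (T.obj L)
      (fun j : J => T.map (ModuleCat.ofHom (LinearMap.toSpanSingleton A L (b j)))) :
      Cofan (fun _ : J => T.obj (ModuleCat.of A A))) :=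
    isColimitCofanMkObjOfIsColimit T _ _ (basisCofanIsColimit L b)
  let Z' : J → ModuleCat.{u} A := fun _ => T.obj (ModuleCat.of A A)
  let iso := IsColimit.coconePointUniqueUpToIso (ModuleCat.coproductCoconeIsColimit Z') hT
  let σ : (⨁ j : J, Z' j) →ₗ[A] T.obj L := iso.hom.hom
  have hiso : ∀ (j : J) (y : T.obj (ModuleCat.of A A)),
      σ (DirectSum.lof A J (fun j => Z' j) j y) =
        (T.map (ModuleCat.ofHom (LinearMap.toSpanSingleton A L (b j)))).hom y := by
    intro j y
    have := IsColimit.comp_coconePointUniqueUpToIso_hom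
      (ModuleCat.coproductCoconeIsColimit Z') hT ⟨j⟩
    exact congrArg (fun f => f.hom y) this
  have hσ : Function.Bijective σ :=
    ConcreteCategory.bijective_of_isIso iso.hom
  -- the map ρ
  let ρ : (⨁ j : J, Z' j) →ₗ[A] TensorProduct A (T.obj (ModuleCat.of A A)) L :=
    DirectSum.toModule A J _ (fun j => (TensorProduct.mk A (T.obj (ModuleCat.of A A)) L).flip (b j))
  have hρ_lof : ∀ (j : J) (y : T.obj (ModuleCat.of A A)),
      ρ (DirectSum.lof A J (fun j => Z' j) j y) = y ⊗ₜ[A] (b j) := by
    intro j y
    simp only [ρ, DirectSum.toModule_lof]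
    rfl
  have hcomp : ∀ d : (⨁ j : J, Z' j), tL T L (ρ d) = σ d := by
    intro d
    induction d using DirectSum.induction_on with
    | zero => rw [map_zero, map_zero, map_zero]
    | of j y =>
      have e : DirectSum.of (fun j => Z' j) j y = DirectSum.lof A J (fun j => Z' j) j y := rfl
      rw [e, hρ_lof, hiso, tL_tmul]
    | add d1 d2 h1 h2 => rw [map_add, map_add, map_add, h1, h2]
  have hρ_surj : Function.Surjective ρ := by
    rw [← LinearMap.range_eq_top, eq_top_iff]
    rintro t -
    induction t using TensorProduct.induction_on with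
    | zero => exact Submodule.zero_mem _
    | tmul y x =>
      have hx : x ∈ Submodule.span A (Set.range b) := by rw [b.span_eq]; trivial
      have key : ∀ x ∈ Submodule.span A (Set.range b), ∀ y : T.obj (ModuleCat.of A A),
          y ⊗ₜ[A] x ∈ LinearMap.range ρ := by
        intro x hx
        induction hx using Submodule.span_induction with
        | mem x hx =>
          obtain ⟨j, rfl⟩ := hx
          intro y
          exact ⟨_, hρ_lof j y⟩
        | zero => intro y; rw [TensorProduct.tmul_zero]; exact Submodule.zero_mem _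
        | add x1 x2 _ _ h1 h2 =>
          intro y; rw [TensorProduct.tmul_add]; exact Submodule.add_mem _ (h1 y) (h2 y)
        | smul a x _ h1 =>
          intro y; rw [TensorProduct.tmul_smul]
          exact Submodule.smul_mem _ a (h1 y)
      exact key x hx y
    | add t1 t2 h1 h2 => exact Submodule.add_mem _ h1 h2
  have hρ_inj : Function.Injective ρ := by
    intro d1 d2 h
    apply hσ.1
    rw [← hcomp, ← hcomp, h]
  constructor
  · intro t1 t2 h
    obtain ⟨d1, rfl⟩ := hρ_surj t1
    obtain ⟨d2, rfl⟩ := hρ_surj t2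
    rw [hcomp, hcomp] at h
    rw [hσ.1 h]
  · intro z
    obtain ⟨d, rfl⟩ := hσ.2 z
    exact ⟨ρ d, hcomp d⟩


theorem tL_natural (M M' : ModuleCat.{u} A) (g : M ⟶ M') (t : TensorProduct A (T.obj (ModuleCat.of A A)) M) :
    tL T M' (LinearMap.lTensor _ g.hom t) = (T.map g).hom (tL T M t) := by
  induction t using TensorProduct.induction_on with
  | zero => simp
  | tmul y x =>
    rw [LinearMap.lTensor_tmul, tL_tmul, tL_tmul]
    have : ModuleCat.ofHom (LinearMap.toSpanSingleton A M' (g.hom x)) =
        ModuleCat.ofHom (LinearMap.toSpanSingleton A M x) ≫ g := by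
      apply ModuleCat.hom_ext
      apply LinearMap.ext_ring
      show (1 : A) • g.hom x = g.hom ((1 : A) • x)
      rw [one_smul, one_smul]
    rw [this, Functor.map_comp]
    rfl
  | add t1 t2 h1 h2 => rw [map_add, map_add, map_add, h1, h2, map_add]


theorem bij_all [∀ J : Type u, PreservesColimitsOfShape (Discrete J) T] [PreservesFiniteColimits T]
    (M : ModuleCat.{u} A) : Function.Bijective (tL T M) := by
  -- a free presentation
  let p₀l : (M →₀ A) →ₗ[A] M := Finsupp.linearCombination A id
  have hp₀ : Function.Surjective p₀l := Finsupp.linearCombination_id_surjective A M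
  let K : Submodule A (M →₀ A) := LinearMap.ker p₀l
  let p₁l : (K →₀ A) →ₗ[A] K := Finsupp.linearCombination A id
  have hp₁ : Function.Surjective p₁l := Finsupp.linearCombination_id_surjective A K
  let dl : (K →₀ A) →ₗ[A] (M →₀ A) := K.subtype ∘ₗ p₁l
  have hex : Function.Exact dl p₀l := by
    intro y
    constructor
    · intro hy
      obtain ⟨z, hz⟩ := hp₁ ⟨y, hy⟩
      exact ⟨z, by simp [dl, hz]⟩
    · rintro ⟨z, rfl⟩
      exact (p₁l z).2
  let F₀ : ModuleCat.{u} A := ModuleCat.of A (M →₀ A)
  let F₁ : ModuleCat.{u} A := ModuleCat.of A (K →₀ A)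
  let p₀ : F₀ ⟶ M := ModuleCat.ofHom p₀l
  let d : F₁ ⟶ F₀ := ModuleCat.ofHom dl
  have hzero : d ≫ p₀ = 0 := by
    apply ModuleCat.hom_ext
    apply LinearMap.ext
    intro z
    exact hex.apply_apply_eq_zero z
  let S : ShortComplex (ModuleCat.{u} A) := ShortComplex.mk d p₀ hzero
  have hS : S.Exact ∧ Epi S.g := by
    constructor
    · rw [ShortComplex.ShortExact.moduleCat_exact_iff_function_exact]
      exact hex
    · rw [ModuleCat.epi_iff_surjective]
      exact hp₀
  have htfae : PreservesFiniteColimits T →
      ∀ (S : ShortComplex (ModuleCat.{u} A)), S.Exact ∧ Epi S.g → (S.map T).Exact ∧ Epi (T.map S.g) :=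
    ((Functor.preservesFiniteColimits_tfae T).out 3 1).mp
  have hTS := htfae ‹PreservesFiniteColimits T› S hS
  have hTex : Function.Exact (T.map d).hom (T.map p₀).hom := by
    have := hTS.1
    rw [ShortComplex.ShortExact.moduleCat_exact_iff_function_exact] at this
    exact this
  have hTsurj : Function.Surjective (T.map p₀).hom := by
    have := hTS.2
    rw [ModuleCat.epi_iff_surjective] at this
    exact this
  have hNex : Function.Exact (LinearMap.lTensor (T.obj (ModuleCat.of A A)) dl)
      (LinearMap.lTensor (T.obj (ModuleCat.of A A)) p₀l) := lTensor_exact _ hex hp₀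
  have hNsurj : Function.Surjective (LinearMap.lTensor (T.obj (ModuleCat.of A A)) p₀l) :=
    LinearMap.lTensor_surjective _ hp₀
  have hb₀ : Function.Bijective (tL T F₀) := bij_free T F₀
  have hb₁ : Function.Bijective (tL T F₁) := bij_free T F₁
  have hn₀ := tL_natural T F₀ M p₀
  have hn₁ := tL_natural T F₁ F₀ d
  constructor
  · rw [injective_iff_map_eq_zero]
    intro x hx
    obtain ⟨w, rfl⟩ := hNsurj x
    have h1 : (T.map p₀).hom (tL T F₀ w) = 0 := by
      rw [← hn₀]; exact hx
    obtain ⟨v, hv⟩ := (hTex _).mp h1
    obtain ⟨w', rfl⟩ := hb₁.2 v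
    have h2 : tL T F₀ (LinearMap.lTensor _ dl w') = tL T F₀ w := by
      rw [← hv]; exact hn₁ w'
    have h3 := hb₀.1 h2
    rw [← h3]
    exact hNex.apply_apply_eq_zero w'
  · intro z
    obtain ⟨w, rfl⟩ := hTsurj z
    obtain ⟨w', rfl⟩ := hb₀.2 w
    exact ⟨_, hn₀ w'⟩

theorem pres_of_bij (h : ∀ M : ModuleCat.{u} A, Function.Bijective (tL T M)) :
    PreservesFiniteColimits T := by
  have e : tensorLeft (T.obj (ModuleCat.of A A)) ≅ T := NatIso.ofComponents
      (fun M => (LinearEquiv.ofBijective (tL T M) (h M)).toModuleIso) (by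
    intro M M' g
    apply ModuleCat.hom_ext
    apply LinearMap.ext
    intro t
    exact tL_natural T M M' g t)
  exact preservesFiniteColimits_of_natIso e

theorem bij_of_half [∀ J : Type u, PreservesColimitsOfShape (Discrete J) T]
    (hhalf : ∀ S : ShortComplex (ModuleCat.{u} A), S.ShortExact → (S.map T).Exact)
    (hsurj : ∀ M : ModuleCat.{u} A, Function.Surjective (tL T M))
    (M : ModuleCat.{u} A) : Function.Bijective (tL T M) := by
  refine ⟨?_, hsurj M⟩
  let p₀l : (M →₀ A) →ₗ[A] M := Finsupp.linearCombination A id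
  have hp₀ : Function.Surjective p₀l := Finsupp.linearCombination_id_surjective A M
  let K : Submodule A (M →₀ A) := LinearMap.ker p₀l
  have hex : Function.Exact K.subtype p₀l := by
    intro y
    constructor
    · intro hy
      exact ⟨⟨y, hy⟩, rfl⟩
    · rintro ⟨z, rfl⟩
      exact z.2
  let F₀ : ModuleCat.{u} A := ModuleCat.of A (M →₀ A)
  let K' : ModuleCat.{u} A := ModuleCat.of A K
  let p₀ : F₀ ⟶ M := ModuleCat.ofHom p₀l
  let d : K' ⟶ F₀ := ModuleCat.ofHom K.subtype
  have hzero : d ≫ p₀ = 0 := by
    apply ModuleCat.hom_ext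
    apply LinearMap.ext
    intro z
    exact hex.apply_apply_eq_zero z
  let S : ShortComplex (ModuleCat.{u} A) := ShortComplex.mk d p₀ hzero
  have hS : S.ShortExact := by
    refine ModuleCat.shortComplex_shortExact S ?_ ?_ ?_
    · exact hex
    · exact Submodule.injective_subtype K
    · exact hp₀
  have hTex : Function.Exact (T.map d).hom (T.map p₀).hom := by
    have := hhalf S hS
    rw [ShortComplex.ShortExact.moduleCat_exact_iff_function_exact] at this
    exact this
  have hNex : Function.Exact (LinearMap.lTensor (T.obj (ModuleCat.of A A)) d.hom)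
      (LinearMap.lTensor (T.obj (ModuleCat.of A A)) p₀.hom) :=
    lTensor_exact (T.obj (ModuleCat.of A A)) (f := d.hom) (g := p₀.hom) hex hp₀
  have hNsurj : Function.Surjective (LinearMap.lTensor (T.obj (ModuleCat.of A A)) p₀.hom) :=
    LinearMap.lTensor_surjective (T.obj (ModuleCat.of A A)) (g := p₀.hom) hp₀
  have hb₀ : Function.Bijective (tL T F₀) := bij_free T F₀
  have hn₀ := tL_natural T F₀ M p₀
  have hn₁ := tL_natural T K' F₀ d
  rw [injective_iff_map_eq_zero]
  intro x hx
  obtain ⟨w, rfl⟩ := hNsurj x
  have h1 : (T.map p₀).hom (tL T F₀ w) = 0 := by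
    rw [← hn₀]; exact hx
  obtain ⟨v, hv⟩ := (hTex _).mp h1
  obtain ⟨w', rfl⟩ := hsurj K' v
  have h2 : tL T F₀ (LinearMap.lTensor _ d.hom w') = tL T F₀ w := by
    rw [← hv]; exact hn₁ w'
  have h3 := hb₀.1 h2
  rw [← h3]
  exact hNex.apply_apply_eq_zero w'

theorem main {A : Type u} [CommRing A]
    (T : ModuleCat.{u} A ⥤ ModuleCat.{u} A) [T.Additive] [T.Linear A]
    [∀ J : Type u, PreservesColimitsOfShape (Discrete J) T] :
    (PreservesFiniteColimits T ↔ ∀ M : ModuleCat.{u} A, Function.Bijective (TensorProduct.lift (LinearMap.flip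
        ((ModuleCat.homLinearEquiv (S := A)).toLinearMap ∘ₗ Functor.mapLinearMap A T ∘ₗ
          (ModuleCat.homLinearEquiv (S := A)).symm.toLinearMap ∘ₗ
            (LinearMap.ringLmapEquivSelf A A M).symm.toLinearMap)) :
      TensorProduct A (T.obj (ModuleCat.of A A)) M →ₗ[A] T.obj M)) ∧
    (PreservesFiniteColimits T ↔
      (∀ S : ShortComplex (ModuleCat.{u} A), S.ShortExact → (S.map T).Exact) ∧
        ∀ M : ModuleCat.{u} A, Function.Surjective (TensorProduct.lift (LinearMap.flip
        ((ModuleCat.homLinearEquiv (S := A)).toLinearMap ∘ₗ Functor.mapLinearMap A T ∘ₗ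
          (ModuleCat.homLinearEquiv (S := A)).symm.toLinearMap ∘ₗ
            (LinearMap.ringLmapEquivSelf A A M).symm.toLinearMap)) :
          TensorProduct A (T.obj (ModuleCat.of A A)) M →ₗ[A] T.obj M)) := by
  constructor
  · constructor
    · intro hT M
      exact bij_all T M
    · intro h
      exact pres_of_bij T h
  · constructor
    · intro hT
      refine ⟨?_, fun M => (bij_all T M).2⟩
      intro S hS
      have htfae : PreservesFiniteColimits T →
          ∀ (S : ShortComplex (ModuleCat.{u} A)), S.ShortExact → (S.map T).Exact ∧ Epi (T.map S.g) :=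
        ((Functor.preservesFiniteColimits_tfae T).out 3 0).mp
      exact (htfae hT S hS).1
    · rintro ⟨hhalf, hsurj⟩
      exact pres_of_bij T (fun M => bij_of_half T hhalf hsurj M)


end


open CategoryTheory CategoryTheory.Limits in
/-- The case of A-linear functors (for commutative A, additive functors from A-modules to abelian groups
are the same as A-linear endofunctors of A-modules). Let T be an additive A-linear functor from
A-modules to A-modules commuting with arbitrary direct sums, and for an A-module M let t_M : T(A)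
⊗_A M → T(M) be the canonical map sending y ⊗ x to T(θ_x)(y), θ_x : A → M being a ↦ a x. Then T is
right exact (preserves finite colimits) if and only if t_M is bijective for every M; and also if and
only if T is half exact (sends short exact sequences to sequences exact at the middle) and t_M is
surjective for every M. -/
theorem result {A : Type u} [CommRing A]
    (T : ModuleCat.{u} A ⥤ ModuleCat.{u} A) [T.Additive] [T.Linear A]
    [∀ J : Type u, PreservesColimitsOfShape (Discrete J) T] :
    (PreservesFiniteColimits T ↔ ∀ M : ModuleCat.{u} A, Function.Bijective (TensorProduct.lift (LinearMap.flip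
        ((ModuleCat.homLinearEquiv (S := A)).toLinearMap ∘ₗ Functor.mapLinearMap A T ∘ₗ
          (ModuleCat.homLinearEquiv (S := A)).symm.toLinearMap ∘ₗ
            (LinearMap.ringLmapEquivSelf A A M).symm.toLinearMap)) :
      TensorProduct A (T.obj (ModuleCat.of A A)) M →ₗ[A] T.obj M)) ∧
    (PreservesFiniteColimits T ↔
      (∀ S : ShortComplex (ModuleCat.{u} A), S.ShortExact → (S.map T).Exact) ∧
        ∀ M : ModuleCat.{u} A, Function.Surjective (TensorProduct.lift (LinearMap.flip
        ((ModuleCat.homLinearEquiv (S := A)).toLinearMap ∘ₗ Functor.mapLinearMap A T ∘ₗ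
          (ModuleCat.homLinearEquiv (S := A)).symm.toLinearMap ∘ₗ
            (LinearMap.ringLmapEquivSelf A A M).symm.toLinearMap)) :
          TensorProduct A (T.obj (ModuleCat.of A A)) M →ₗ[A] T.obj M)) := by
  classical
  exact main T

end Groth.Agent.S4504
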