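import Groth.Statements.S4513
import Mathlib
import Groth.Agent.Lib.Helper2.SepDerExt

set_option autoImplicit false
universe u
open EGA41

namespace Groth.Agent.S4513

open IsLocalRing in
/-- Let A be a Noetherian local ring and k a field mapping to A such that A is formally smooth over k
for the adic topology of its maximal ideal (k discrete). Then every field K with k → K → A
(compatible ring maps) is a separable extension of k, i.e. K is geometrically reduced over k. -/
theorem result {k A K : Type u} [Field k] [CommRing A]
    [IsLocalRing A] [IsNoetherianRing A] [Algebra k A] (h : CAlgX.IsAdicFormallySmooth k A (maximalIdeal A))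
    [Field K] [Algebra k K] [Algebra K A] [IsScalarTower k K A] :
    Algebra.IsGeometricallyReduced k K := by
  rw [Groth.Agent.Helper2.Sep.isGeometricallyReduced_iff_injective_int]
  let j : K →+* IsLocalRing.ResidueField A := (IsLocalRing.residue A).comp (algebraMap K A)
  apply Groth.Agent.Helper2.Sep.injective_mapBaseChange_int_of_extend j j.injective
  intro D₀
  obtain ⟨δ, hδ, hδk⟩ :=
    Groth.Agent.Helper2.Sep.exists_derivation_ext_of_isAdicFormallySmooth h D₀
  refine ⟨δ.comp (algebraMap K A : K →+ A), fun x y => ?_, fun c => ?_⟩
  · change δ (algebraMap K A (x * y)) = _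
    rw [map_mul, hδ]
    rfl
  · change δ (algebraMap K A (algebraMap k K c)) = _
    rw [← IsScalarTower.algebraMap_apply, hδk, IsScalarTower.algebraMap_apply k K A]
    rfl

end Groth.Agent.S4513
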