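import Groth.Statements.S4516
import Mathlib
import Groth.Agent.Lib.Helper2.PBasis2

set_option autoImplicit false
universe u
open EGA41

namespace Groth.Agent.S4516

/-- Let p be a prime, B an A-algebra of characteristic p and A' an A-subalgebra of B contained in
A[B^p]. Then the canonical map between Ω_{B/A} and Ω_{B/A'} is bijective (every A-derivation of B
vanishes on A[B^p]). -/
theorem result (p : ℕ) [Fact p.Prime] {A B : Type u}
    [CommRing A] [CommRing B] [Algebra A B] [CharP B p] (A' : Subalgebra A B)
    (hA' : A' ≤ EGA41.pPowerSubalgebra p A B) :
    Function.Bijective (KaehlerDifferential.map A A' B B) := by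
  have hkill : ∀ a' : A', KaehlerDifferential.D A B (algebraMap A' B a') = 0 := fun a' =>
    Groth.Agent.Helper2.PBasis.derivation_eq_zero_of_mem p (KaehlerDifferential.D A B) (hA' a'.2)
  let D' : Derivation A' B (Ω[B⁄A]) := Derivation.mk'
    { toFun := fun b => KaehlerDifferential.D A B b
      map_add' := by intro a b; simp
      map_smul' := by
        intro a' b
        simp only [RingHom.id_apply]
        rw [Algebra.smul_def, Derivation.leibniz, hkill, smul_zero, add_zero, algebraMap_smul] }
    (by
      intro a b
      exact Derivation.leibniz _ a b)
  have hcomp : ∀ w : Ω[B⁄A], D'.liftKaehlerDifferential (KaehlerDifferential.map A A' B B w) = w := by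
    intro w
    have hw : w ∈ Submodule.span B (Set.range (KaehlerDifferential.D A B)) := by
      rw [KaehlerDifferential.span_range_derivation]; trivial
    induction hw using Submodule.span_induction with
    | mem w hw =>
      obtain ⟨b, rfl⟩ := hw
      rw [KaehlerDifferential.map_D, Derivation.liftKaehlerDifferential_comp_D]
      rfl
    | zero => simp
    | add a b _ _ ha hb => rw [map_add, map_add, ha, hb]
    | smul a b _ hb => rw [map_smul, map_smul, hb]
  refine ⟨Function.LeftInverse.injective hcomp, ?_⟩
  exact KaehlerDifferential.map_surjective A A' B

end Groth.Agent.S4516
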