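import Groth.Statements.S4517
import Mathlib.Algebra.CharP.Lemmas
import Mathlib.Algebra.CharP.Basic
import Mathlib.RingTheory.Nilpotent.Lemmas

set_option autoImplicit false
universe u
open EGA41

namespace Groth.Agent.S4517

/-- Let p be a prime, B an A-algebra of characteristic p, and suppose there is s ≥ 0 such that b^(p^s)
lies in the image of A for every b ∈ B. Then the kernel of the multiplication map B ⊗_A B → B is a
nil ideal. -/
theorem result (p : ℕ) [Fact p.Prime] {A B : Type u}
    [CommRing A] [CommRing B] [Algebra A B] [CharP B p] (s : ℕ)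
    (hpow : ∀ b : B, b ^ p ^ s ∈ Set.range (algebraMap A B)) :
    ∀ x ∈ KaehlerDifferential.ideal A B, IsNilpotent x := by
  intro x hx
  rcases subsingleton_or_nontrivial (TensorProduct A B B) with hsub | hnt
  · exact ⟨1, Subsingleton.elim _ _⟩
  have hp0 : ((p : ℕ) : TensorProduct A B B) = 0 := by
    have h1 : ((p : ℕ) : B) = 0 := CharP.cast_eq_zero B p
    have h2 := congrArg (algebraMap B (TensorProduct A B B)) h1
    rwa [map_natCast, map_zero] at h2
  have : CharP (TensorProduct A B B) p :=
    (CharP.charP_iff_prime_eq_zero (Fact.out : p.Prime)).mpr hp0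
  rw [← mem_nilradical]
  rw [← KaehlerDifferential.span_range_eq_ideal] at hx
  refine (Ideal.span_le.mpr ?_) hx
  rintro _ ⟨b, rfl⟩
  rw [SetLike.mem_coe, mem_nilradical]
  refine ⟨p ^ s, ?_⟩
  rw [sub_pow_char_pow]
  obtain ⟨a, ha⟩ := hpow b
  rw [Algebra.TensorProduct.tmul_pow, Algebra.TensorProduct.tmul_pow, one_pow, ← ha]
  rw [Algebra.algebraMap_eq_smul_one, TensorProduct.tmul_smul, TensorProduct.smul_tmul', sub_self]

end Groth.Agent.S4517
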