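import Groth.Statements.S4518
import Mathlib
import Groth.Agent.Lib.Helper2.PBasisTower2

set_option autoImplicit false
universe u
open EGA41

namespace Groth.Agent.S4518

/-- Let p be a prime and A → C → B rings of characteristic p with C → B injective and every p-th power
of B in the image of A (so, identifying, B^p ⊆ A ⊆ C ⊆ B up to replacing A by its image); let x be a
family of elements of C and y a family of elements of B. (i) If x is a system of p-generators of C
over A and y one of B over C, then the family obtained by putting x (viewed in B) and y together is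
a system of p-generators of B over A. (ii) If x is a p-basis of C over A, then y is p-independent
over C if and only if the combined family is p-independent over A. (The published statement only
asks B^p ⊆ C and reduces to B^p ⊆ A by enlarging A to A[B^p]; but p-independence of x in C over A
refers to A[C^p], which can be smaller than A[B^p] — for A = 𝔽_p, C = 𝔽_p(t^p) ⊂ B = 𝔽_p(t), x =
(t^p), y = (t), x is a p-basis of C over A and y is p-independent over C while (t^p, t) is not
p-independent over A — so this row assumes B^p ⊆ A, the case the published proof treats.) -/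
theorem result (p : ℕ) [Fact p.Prime] {A C B : Type u} [CommRing A] [CommRing C]
    [CommRing B] [Algebra A C] [Algebra C B] [Algebra A B] [IsScalarTower A C B] [CharP B p]
    (hinj : Function.Injective (algebraMap C B)) (hpow : ∀ b : B, b ^ p ∈ Set.range (algebraMap A B))
    {ι κ : Type u} (x : ι → C) (y : κ → B) :
    (EGA41.IsPGenerating p A x → EGA41.IsPGenerating p C y →
      EGA41.IsPGenerating p A (Sum.elim (fun i => algebraMap C B (x i)) y)) ∧
    (EGA41.IsPBasis p A x →
      (EGA41.IsPIndependent p C y ↔ EGA41.IsPIndependent p A (Sum.elim (fun i => algebraMap C B (x i)) y))) := by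
  have hp : p.Prime := Fact.out
  -- `p`-th powers of `C` come from `A`, those of `B` come from `C`
  have hpowC : ∀ c : C, c ^ p ∈ Set.range (algebraMap A C) := by
    intro c
    obtain ⟨a, ha⟩ := hpow (algebraMap C B c)
    refine ⟨a, hinj ?_⟩
    rw [← IsScalarTower.algebraMap_apply, ha, map_pow]
  have hpowCB : ∀ b : B, b ^ p ∈ Set.range (algebraMap C B) := by
    intro b
    obtain ⟨a, ha⟩ := hpow b
    exact ⟨algebraMap A C a, by rw [← IsScalarTower.algebraMap_apply, ha]⟩
  have hs1 := Groth.Agent.Helper2.PBasis.algebraMap_pPowerSubalgebra_surjective p hpowC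
  have hs2 := Groth.Agent.Helper2.PBasis.algebraMap_pPowerSubalgebra_surjective p hpowCB
  have hs3 := Groth.Agent.Helper2.PBasis.algebraMap_pPowerSubalgebra_surjective p hpow
  refine ⟨?_, ?_⟩
  · intro hx hy
    have hx' : Groth.Agent.Helper2.PBasis.redSpan A p x = ⊤ :=
      (Groth.Agent.Helper2.PBasis.redSpan_eq_top_iff_of_surjective hs1 p x).mp hx
    have hy' : Groth.Agent.Helper2.PBasis.redSpan C p y = ⊤ :=
      (Groth.Agent.Helper2.PBasis.redSpan_eq_top_iff_of_surjective hs2 p y).mp hy
    exact (Groth.Agent.Helper2.PBasis.redSpan_eq_top_iff_of_surjective hs3 p _).mpr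
      (Groth.Agent.Helper2.PBasis.redSpan_tower hx' hy')
  · intro hx
    have hxb : Groth.Agent.Helper2.PBasis.IsRedBasis (EGA41.pPowerSubalgebra p A C) p x :=
      Groth.Agent.Helper2.PBasis.isRedBasis_of_isPBasis p hx
    -- `C ≅ C[B^p]`
    have e2 : ∀ {ι' : Type u} (v : ι' → B),
        LinearIndependent C v ↔ LinearIndependent (EGA41.pPowerSubalgebra p C B) v := by
      intro ι' v
      refine Groth.Agent.Helper2.PBasis.linearIndependent_transfer
        (algebraMap C (EGA41.pPowerSubalgebra p C B)) hs2 ?_ ?_ v
      · intro r hr
        apply hinj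
        rw [map_zero]
        exact congrArg Subtype.val hr
      · intro r m
        rw [Algebra.smul_def, Subalgebra.smul_def, smul_eq_mul]
        rfl
    -- `A[C^p] ≅ A[B^p]`
    let i : EGA41.pPowerSubalgebra p A C → EGA41.pPowerSubalgebra p A B := fun r =>
      ⟨algebraMap C B r, by
        obtain ⟨a, ha⟩ := hs1 r
        rw [← ha]
        have : algebraMap C B ((algebraMap A (EGA41.pPowerSubalgebra p A C) a : _) : C) =
            algebraMap A B a := by
          exact (IsScalarTower.algebraMap_apply A C B a).symm
        rw [this]
        exact Subalgebra.algebraMap_mem _ a⟩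
    have e3 : ∀ {ι' : Type u} (v : ι' → B),
        LinearIndependent (EGA41.pPowerSubalgebra p A C) v ↔
          LinearIndependent (EGA41.pPowerSubalgebra p A B) v := by
      intro ι' v
      refine Groth.Agent.Helper2.PBasis.linearIndependent_transfer i ?_ ?_ ?_ v
      · intro s
        obtain ⟨a, ha⟩ := hs3 s
        refine ⟨algebraMap A (EGA41.pPowerSubalgebra p A C) a, Subtype.ext ?_⟩
        change algebraMap C B (algebraMap A C a) = _
        rw [← ha]
        exact (IsScalarTower.algebraMap_apply A C B a).symm
      · intro r hr
        apply Subtype.ext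
        apply hinj
        have h0 : algebraMap C B ((0 : EGA41.pPowerSubalgebra p A C) : C) = 0 := map_zero _
        rw [h0]
        exact congrArg Subtype.val hr
      · intro r m
        rw [Subalgebra.smul_def, Subalgebra.smul_def, Algebra.smul_def]
        rfl
    constructor
    · intro hy
      have hy' : Groth.Agent.Helper2.PBasis.PInd C p y := (e2 _).mpr hy
      have := Groth.Agent.Helper2.PBasis.PInd.tower hxb.li hy'
      exact (e3 _).mp this
    · intro h
      have h' : Groth.Agent.Helper2.PBasis.PInd (EGA41.pPowerSubalgebra p A C) p
          (Sum.elim (fun i => algebraMap C B (x i)) y) := (e3 _).mpr h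
      have := Groth.Agent.Helper2.PBasis.PInd.of_tower hxb h'
      exact (e2 _).mp this

end Groth.Agent.S4518
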