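import Groth.Statements.S4520
import Groth.Agent.Lib.Helper2.PBasisInt
import Groth.Agent.Lib.Helper2.PBasis3
import Groth.Agent.Lib.Helper2.PBasis4
import Groth.Agent.S4518

set_option autoImplicit false
universe u
open EGA41

namespace Groth.Agent.S4520

open TensorProduct in
/-- Let p be a prime, B a reduced ring of characteristic p, A a subring with B^p ⊆ A ⊆ B (here A → B
injective with all p-th powers in its image, and R → A → B with image in B the set of p-th powers, R
standing for B^p). Suppose B has a p-basis (x_λ) over A and A has a p-basis over R, and let x'_λ ∈ A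
map to x_λ^p. Then the elements 1 ⊗ d_{A/ℤ}(x'_λ) form a basis of the B-module Υ_{B/A}, the kernel
of B ⊗_A Ω_{A/ℤ} → Ω_{B/ℤ}. (The published statement also identifies Υ_{B/A} with the Frobenius
twist of Ω_{B/A}; this row states only the basis.) -/
theorem result (p : ℕ) [Fact p.Prime] {R A B : Type u} [CommRing R] [CommRing A]
    [CommRing B] [IsReduced B] [Algebra R A] [Algebra A B] [Algebra R B] [IsScalarTower R A B] [CharP B p]
    (hinj : Function.Injective (algebraMap A B)) (hpow : ∀ b : B, b ^ p ∈ Set.range (algebraMap A B))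
    (hR : Set.range (algebraMap R B) = Set.range fun b : B => b ^ p)
    {Λ M : Type u} (x : Λ → B) (hx : EGA41.IsPBasis p A x) (x' : Λ → A) (hx' : ∀ i, algebraMap A B (x' i) = x i ^ p)
    (y : M → A) (hy : EGA41.IsPBasis p R y) :
    ∃ b : Module.Basis Λ B (EGA41.imperfection ℤ A B),
      ∀ i, (b i : B ⊗[A] Ω[A⁄ℤ]) = (1 : B) ⊗ₜ[A] KaehlerDifferential.D ℤ A (x' i) := by
  classical
  have hp : p.Prime := Fact.out
  haveI : CharP A p := RingHom.charP (algebraMap A B) hinj p
  haveI : IsReduced A := isReduced_of_injective (algebraMap A B) hinj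
  -- `p`-th powers of `B` come from `R`
  have hpowR : ∀ b : B, b ^ p ∈ Set.range (algebraMap R B) := by
    intro b
    rw [hR]
    exact ⟨b, rfl⟩
  have hpowA : ∀ a : A, a ^ p ∈ Set.range (algebraMap R A) := by
    intro a
    obtain ⟨r, hr⟩ := hpowR (algebraMap A B a)
    refine ⟨r, hinj ?_⟩
    rw [← IsScalarTower.algebraMap_apply, hr, map_pow]
  -- the combined family is a `p`-basis of `B` over `R`
  have hzB : EGA41.IsPBasis p R (Sum.elim (fun i => algebraMap A B (y i)) x) := by
    have h := Groth.Agent.S4518.result p hinj hpowR y x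
    exact ⟨(h.2 hy).mp hx.1, h.1 hy.2 hx.2⟩
  have hliB : LinearIndependent B (fun j => KaehlerDifferential.D ℤ B (algebraMap A B (y j))) := by
    have h1 := Groth.Agent.Helper2.PBasis.linearIndependent_D_of_isPBasis p hzB
    have h2 : LinearIndependent B (fun j => KaehlerDifferential.D R B (algebraMap A B (y j))) :=
      h1.comp Sum.inl Sum.inl_injective
    refine LinearIndependent.of_comp (KaehlerDifferential.map ℤ R B B) ?_
    have hfun : (KaehlerDifferential.map ℤ R B B) ∘
        (fun j => KaehlerDifferential.D ℤ B (algebraMap A B (y j))) =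
        fun j => KaehlerDifferential.D R B (algebraMap A B (y j)) := by
      funext j
      simp only [Function.comp_apply, KaehlerDifferential.map_D]
      rfl
    rw [hfun]
    exact h2
  -- the rings `A^p ⊆ R' ⊆ A`
  let inc : (frobenius A p).range →+* EGA41.pPowerSubalgebra p R A :=
    { toFun := fun c => ⟨c.1, by
        obtain ⟨a, ha⟩ := c.2
        rw [← ha]
        exact Groth.Agent.Helper2.PBasis.pow_mem_pPowerSubalgebra p a⟩
      map_one' := rfl
      map_mul' := fun _ _ => rfl
      map_zero' := rfl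
      map_add' := fun _ _ => rfl }
  letI : Algebra (frobenius A p).range (EGA41.pPowerSubalgebra p R A) := inc.toAlgebra
  haveI : IsScalarTower (frobenius A p).range (EGA41.pPowerSubalgebra p R A) A :=
    IsScalarTower.of_algebraMap_eq (fun _ => rfl)
  -- (F2) elements of `R[A^p]` map to `p`-th powers of `B`
  have hF2 : ∀ s : EGA41.pPowerSubalgebra p R A, ∃ b : B, algebraMap A B s.1 = b ^ p := by
    intro s
    obtain ⟨r, hr⟩ := Groth.Agent.Helper2.PBasis.mem_range_of_mem_pPowerSubalgebra p hpowA s.2
    have h1 : algebraMap A B s.1 ∈ Set.range (algebraMap R B) :=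
      ⟨r, by rw [IsScalarTower.algebraMap_apply R A B, hr]⟩
    rw [hR] at h1
    obtain ⟨b, hb⟩ := h1
    exact ⟨b, hb.symm⟩
  have hx'mem : ∀ i, x' i ∈ EGA41.pPowerSubalgebra p R A := by
    intro i
    obtain ⟨r, hr⟩ := hpowR (x i)
    have : x' i = algebraMap R A r := by
      apply hinj
      rw [hx', ← IsScalarTower.algebraMap_apply, hr]
    rw [this]
    exact Subalgebra.algebraMap_mem _ _
  let x'' : Λ → EGA41.pPowerSubalgebra p R A := fun i => ⟨x' i, hx'mem i⟩
  let g : EGA41.pPowerSubalgebra p R A →+* B :=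
    (algebraMap A B).comp (algebraMap (EGA41.pPowerSubalgebra p R A) A)
  have hg : Function.Injective g := hinj.comp Subtype.val_injective
  have hxI : Groth.Agent.Helper2.PBasis.PInd (frobenius A p).range p x'' := by
    refine Groth.Agent.Helper2.PBasis.PInd.frob (C₁ := EGA41.pPowerSubalgebra p A B) g hg ?_ ?_
      (x := x) (fun i => hx' i) hx.1
    · intro c d hcd
      apply Subtype.ext
      have h1 := congrArg Subtype.val hcd
      exact h1
    · intro c₂
      obtain ⟨a, ha⟩ := c₂.2
      refine ⟨⟨algebraMap A B a, Subalgebra.algebraMap_mem _ a⟩, ?_⟩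
      change algebraMap A B c₂.1 = (algebraMap A B a) ^ p
      rw [← ha, frobenius_def, map_pow]
  have hxS : Groth.Agent.Helper2.PBasis.redSpan (frobenius A p).range p x'' = ⊤ := by
    refine Groth.Agent.Helper2.PBasis.redSpan_frob (C₁ := EGA41.pPowerSubalgebra p A B) g hg ?_ ?_
      (x := x) (fun i => hx' i)
      (show Groth.Agent.Helper2.PBasis.redSpan (EGA41.pPowerSubalgebra p A B) p x = ⊤ from hx.2)
    · intro t
      exact hF2 t
    · intro c₁
      obtain ⟨a, ha⟩ := Groth.Agent.Helper2.PBasis.mem_range_of_mem_pPowerSubalgebra p hpow c₁.2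
      refine ⟨⟨a ^ p, ⟨a, rfl⟩⟩, ?_⟩
      change algebraMap A B (a ^ p) = (c₁ : B) ^ p
      rw [map_pow, ha]
  have hz : Groth.Agent.Helper2.PBasis.IsRedBasis (frobenius A p).range p (Sum.elim x' y) := by
    have h1 := Groth.Agent.Helper2.PBasis.PInd.tower hxI hy.1
    have h2 := Groth.Agent.Helper2.PBasis.redSpan_tower hxS hy.2
    have hfun : (Sum.elim (fun i => algebraMap (EGA41.pPowerSubalgebra p R A) A (x'' i)) y) =
        Sum.elim x' y := by
      funext i
      cases i <;> rfl
    rw [hfun] at h1 h2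
    exact ⟨h1, h2⟩
  obtain ⟨b₀, hb₀⟩ := hz.exists_basis_D_int (fun i => ⟨Sum.elim x' y i ^ p, ⟨_, rfl⟩⟩)
    (fun i => rfl) (fun a => by
      obtain ⟨a', ha'⟩ := a.2
      exact ⟨a', ha'.symm⟩)
  let bB : Module.Basis (Λ ⊕ M) B (TensorProduct A B (Ω[A⁄ℤ])) := b₀.baseChange B
  have hbB : ∀ i, bB i = (1 : B) ⊗ₜ[A] KaehlerDifferential.D ℤ A (Sum.elim x' y i) := by
    intro i
    rw [← hb₀ i]
    exact Module.Basis.baseChange_apply _ _ _
  have hφ : ∀ i, KaehlerDifferential.mapBaseChange ℤ A B (bB i) =
      KaehlerDifferential.D ℤ B (algebraMap A B (Sum.elim x' y i)) := by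
    intro i
    rw [hbB, KaehlerDifferential.mapBaseChange_tmul, one_smul, KaehlerDifferential.map_D]
  obtain ⟨c, hc⟩ := Groth.Agent.Helper2.PBasis.exists_basis_ker_of_sum bB
    (KaehlerDifferential.mapBaseChange ℤ A B) (fun a => by
      rw [hφ]
      change KaehlerDifferential.D ℤ B (algebraMap A B (x' a)) = 0
      rw [hx']
      exact Groth.Agent.Helper2.PBasis.D_int_pow_eq_zero (x a)) (by
      have hfun : (fun j => KaehlerDifferential.mapBaseChange ℤ A B (bB (Sum.inr j))) =
          fun j => KaehlerDifferential.D ℤ B (algebraMap A B (y j)) := by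
        funext j
        rw [hφ]
        rfl
      rw [hfun]
      exact hliB)
  refine ⟨c, fun i => ?_⟩
  exact (hc i).trans (hbB _)

end Groth.Agent.S4520
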