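import Groth.Statements.S4522
import Groth.Agent.Lib.Helper2.PBasisField3
import Groth.Agent.Lib.Helper2.PBasis4

set_option autoImplicit false
universe u
open EGA41

namespace Groth.Agent.S4522

/-- Let L be a field of characteristic p > 0 and K a subfield with L^p ⊆ K ⊆ L (here R → K → L with the
image of R in L the set of p-th powers and every p-th power of L in the image of K). Then the
canonical L-linear map L ⊗_K Ω_{K/L^p} → Ω_{L/L^p} is injective, so that 0 → Ω_{K/L^p} ⊗_K L →
Ω_{L/L^p} → Ω_{L/K} → 0 is exact: the imperfection module of L over K relative to L^p vanishes. -/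
theorem result (p : ℕ) [Fact p.Prime] {R K L : Type u} [Field R] [Field K] [Field L]
    [Algebra R K] [Algebra K L] [Algebra R L] [IsScalarTower R K L] [CharP L p]
    (hR : Set.range (algebraMap R L) = Set.range fun y : L => y ^ p)
    (hK : ∀ y : L, y ^ p ∈ Set.range (algebraMap K L)) :
    Function.Injective (KaehlerDifferential.mapBaseChange R K L) := by
  classical
  have hp : p.Prime := Fact.out
  have hinj : Function.Injective (algebraMap K L) := (algebraMap K L).injective
  haveI : CharP K p := RingHom.charP (algebraMap K L) hinj p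
  have hpowR : ∀ b : L, b ^ p ∈ Set.range (algebraMap R L) := by
    intro b
    rw [hR]
    exact ⟨b, rfl⟩
  -- a `p`-basis of `K` over `R`
  have h0 : EGA41.IsPIndependent p R (fun i : PEmpty.{u+1} => (PEmpty.elim i : K)) :=
    (Groth.Agent.Helper2.PBasis.isPIndependent_iff p _).mpr
      (Groth.Agent.Helper2.PBasis.pInd_of_isEmpty p _)
  obtain ⟨κ, X, f, -, -, hX⟩ := Groth.Agent.Helper2.PBasis.exists_isPBasis_extension p _ h0
  obtain ⟨b₀, hb₀⟩ := Groth.Agent.Helper2.PBasis.exists_basis_D_of_isPBasis p hX
  let bL : Module.Basis κ L (TensorProduct K L (Ω[K⁄R])) := b₀.baseChange L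
  have hbL : ∀ i, bL i = (1 : L) ⊗ₜ[K] KaehlerDifferential.D R K (X i) := by
    intro i
    rw [← hb₀ i]
    exact Module.Basis.baseChange_apply _ _ _
  have hφ : ∀ i, KaehlerDifferential.mapBaseChange R K L (bL i) =
      KaehlerDifferential.D R L (algebraMap K L (X i)) := by
    intro i
    rw [hbL, KaehlerDifferential.mapBaseChange_tmul, one_smul, KaehlerDifferential.map_D]
  -- the image family stays `p`-independent
  have hXL : EGA41.IsPIndependent p R (fun i => algebraMap K L (X i)) := by
    have h1 : LinearIndependent (EGA41.pPowerSubalgebra p R K)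
        (fun e : {e : κ →₀ ℕ // ∀ i, e i < p} => EGA41.pMonomial X e.1) := hX.1
    let i : EGA41.pPowerSubalgebra p R K → EGA41.pPowerSubalgebra p R L := fun c =>
      ⟨algebraMap K L c.1, by
        have hpowK : ∀ a : K, a ^ p ∈ Set.range (algebraMap R K) := by
          intro a
          obtain ⟨r, hr⟩ := hpowR (algebraMap K L a)
          refine ⟨r, hinj ?_⟩
          rw [← IsScalarTower.algebraMap_apply, hr, map_pow]
        obtain ⟨r, hr⟩ := Groth.Agent.Helper2.PBasis.mem_range_of_mem_pPowerSubalgebra p hpowK c.2
        rw [← hr, ← IsScalarTower.algebraMap_apply]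
        exact Subalgebra.algebraMap_mem _ r⟩
    have h2 := h1.map_of_surjective_injective i (algebraMap K L).toAddMonoidHom ?_ ?_ ?_
    · have hfun : ((algebraMap K L).toAddMonoidHom ∘
          fun e : {e : κ →₀ ℕ // ∀ i, e i < p} => EGA41.pMonomial X e.1) =
          fun e : {e : κ →₀ ℕ // ∀ i, e i < p} =>
            EGA41.pMonomial (fun i => algebraMap K L (X i)) e.1 := by
        funext e
        change algebraMap K L (EGA41.pMonomial X e.1) = _
        unfold EGA41.pMonomial
        rw [map_finsuppProd]
        simp only [map_pow]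
      rw [hfun] at h2
      exact h2
    · intro c
      obtain ⟨r, hr⟩ := Groth.Agent.Helper2.PBasis.mem_range_of_mem_pPowerSubalgebra p hpowR c.2
      refine ⟨⟨algebraMap R K r, Subalgebra.algebraMap_mem _ r⟩, Subtype.ext ?_⟩
      change algebraMap K L (algebraMap R K r) = c.1
      rw [← IsScalarTower.algebraMap_apply, hr]
    · intro m hm
      exact hinj (by rw [map_zero]; exact hm)
    · intro r m
      change algebraMap K L (r • m) = i r • algebraMap K L m
      rw [Subalgebra.smul_def, Subalgebra.smul_def, smul_eq_mul, smul_eq_mul, map_mul]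
  have hli : LinearIndependent L (fun i => KaehlerDifferential.D R L (algebraMap K L (X i))) :=
    Groth.Agent.Helper2.PBasis.linearIndependent_D_of_isPIndependent p _ hXL
  -- conclude
  have hcomp : (KaehlerDifferential.mapBaseChange R K L) =
      (Finsupp.linearCombination L
        (fun i => KaehlerDifferential.D R L (algebraMap K L (X i)))).comp bL.repr.toLinearMap := by
    apply bL.ext
    intro i
    rw [hφ]
    simp
  rw [hcomp]
  exact (linearIndependent_iff_injective_finsuppLinearCombination.mp hli).comp
    bL.repr.injective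

end Groth.Agent.S4522
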