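import Groth.Statements.S4523
import Mathlib
import Groth.Agent.Lib.Helper2.SepMain

set_option autoImplicit false
universe u
open EGA41

namespace Groth.Agent.S4523

/-- Let k ⊆ K be fields. Then K is a separable extension of k if and only if the imperfection module
Υ_{K/k} vanishes, i.e. the canonical map Ω_{k/ℤ} ⊗_k K → Ω_{K/ℤ} is injective, and if and only if
every derivation of k into K extends to a derivation of K into itself. (No hypothesis on the
characteristic.) -/
theorem result {k K : Type u} [Field k] [Field K] [Algebra k K] :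
    (Algebra.IsGeometricallyReduced k K ↔ EGA41.imperfection ℤ k K = ⊥) ∧
    (Algebra.IsGeometricallyReduced k K ↔
      ∀ D : Derivation ℤ k K, ∃ D' : Derivation ℤ K K, ∀ a : k, D' (algebraMap k K a) = D a) := by
  have hinj := Groth.Agent.Helper2.Sep.isGeometricallyReduced_iff_injective_int k K
  -- restriction of a `K`-linear functional on `K ⊗ Ω[k/ℤ]` to a derivation of `k`
  let res : (TensorProduct k K (Ω[k⁄ℤ]) →ₗ[K] K) → (Ω[k⁄ℤ] →ₗ[k] K) := fun m =>
    (m.restrictScalars k).comp (TensorProduct.mk k K (Ω[k⁄ℤ]) 1)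
  have hres : ∀ m ω, res m ω = m ((1 : K) ⊗ₜ[k] ω) := fun m ω => rfl
  have hext : ∀ m₁ m₂ : TensorProduct k K (Ω[k⁄ℤ]) →ₗ[K] K,
      (∀ a : k, m₁ ((1 : K) ⊗ₜ[k] KaehlerDifferential.D ℤ k a) =
        m₂ ((1 : K) ⊗ₜ[k] KaehlerDifferential.D ℤ k a)) → m₁ = m₂ := by
    intro m₁ m₂ h
    have h1 : res m₁ = res m₂ := by
      apply Derivation.liftKaehlerDifferential_unique
      ext a
      exact h a
    apply TensorProduct.AlgebraTensorModule.ext
    intro c ω
    have h2 : c ⊗ₜ[k] ω = c • ((1 : K) ⊗ₜ[k] ω) := by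
      rw [TensorProduct.smul_tmul', smul_eq_mul, mul_one]
    rw [h2, map_smul, map_smul, ← hres m₁, ← hres m₂, h1]
  have hφ : ∀ a : k, KaehlerDifferential.mapBaseChange ℤ k K
      ((1 : K) ⊗ₜ[k] KaehlerDifferential.D ℤ k a) = KaehlerDifferential.D ℤ K (algebraMap k K a) := by
    intro a
    rw [KaehlerDifferential.mapBaseChange_tmul, one_smul, KaehlerDifferential.map_D]
  refine ⟨?_, ?_⟩
  · rw [hinj]
    unfold EGA41.imperfection
    exact LinearMap.ker_eq_bot.symm
  · rw [hinj]
    constructor
    · intro h D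
      obtain ⟨g, hg⟩ := LinearMap.exists_leftInverse_of_injective
        (KaehlerDifferential.mapBaseChange ℤ k K) (LinearMap.ker_eq_bot.mpr h)
      let ℓ : TensorProduct k K (Ω[k⁄ℤ]) →ₗ[K] K := D.liftKaehlerDifferential.liftBaseChange K
      refine ⟨(ℓ.comp g).compDer (KaehlerDifferential.D ℤ K), fun a => ?_⟩
      change ℓ (g (KaehlerDifferential.D ℤ K (algebraMap k K a))) = D a
      rw [← hφ]
      have h1 := LinearMap.congr_fun hg ((1 : K) ⊗ₜ[k] KaehlerDifferential.D ℤ k a)
      rw [LinearMap.comp_apply, LinearMap.id_apply] at h1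
      rw [h1]
      simp [ℓ]
    · intro h
      rw [injective_iff_map_eq_zero]
      intro z hz
      by_contra hz0
      obtain ⟨ℓ, hℓ⟩ : ∃ ℓ : Module.Dual K (TensorProduct k K (Ω[k⁄ℤ])), ℓ z ≠ 0 := by
        by_contra hcon
        simp only [not_exists, not_not] at hcon
        exact hz0 ((Module.forall_dual_apply_eq_zero_iff K z).mp hcon)
      let D : Derivation ℤ k K := (res ℓ).compDer (KaehlerDifferential.D ℤ k)
      obtain ⟨D', hD'⟩ := h D
      have h1 : (D'.liftKaehlerDifferential).comp (KaehlerDifferential.mapBaseChange ℤ k K) = ℓ := by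
        apply hext
        intro a
        rw [LinearMap.comp_apply, hφ, Derivation.liftKaehlerDifferential_comp_D, hD']
        rfl
      apply hℓ
      rw [← h1, LinearMap.comp_apply, hz, map_zero]

end Groth.Agent.S4523
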