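import Groth.Statements.S4524
import Mathlib

set_option autoImplicit false
universe u
open EGA41

namespace Groth.Agent.S4524

/-- Let k be a field of characteristic 0 and K an extension of k. Then Ω_{K/k} = 0 if and only if K is
an algebraic extension of k. -/
theorem result {k K : Type u} [Field k] [CharZero k] [Field K] [Algebra k K] :
    Subsingleton (Ω[K⁄k]) ↔ Algebra.IsAlgebraic k K := by
  haveI : CharZero K := charZero_of_injective_algebraMap (algebraMap k K).injective
  constructor
  · intro h
    refine ⟨fun x => ?_⟩
    let F : IntermediateField k K := IntermediateField.adjoin k ({x} : Set K)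
    obtain ⟨ι, v, hv⟩ := exists_isTranscendenceBasis' F K
    haveI := hv.isAlgebraic_field
    haveI : Algebra.IsSeparable (IntermediateField.adjoin F (Set.range v)) K :=
      Algebra.IsAlgebraic.isSeparable_of_perfectField
    haveI : Algebra.FormallySmooth F K := .of_algebraicIndependent_of_isSeparable hv.1
    have hinj : Function.Injective (KaehlerDifferential.mapBaseChange k F K) := by
      rw [injective_iff_map_eq_zero]
      intro z hz
      obtain ⟨w, rfl⟩ := (Algebra.H1Cotangent.exact_δ_mapBaseChange k F K z).mp hz
      rw [Subsingleton.elim w 0, map_zero]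
    haveI : Subsingleton (TensorProduct F K (Ω[F⁄k])) := hinj.subsingleton
    haveI : Subsingleton (Ω[F⁄k]) := Module.FaithfullyFlat.lTensor_reflects_triviality F K _
    haveI : Algebra.FormallyUnramified k F := ⟨inferInstance⟩
    haveI : Algebra.EssFiniteType k F :=
      IntermediateField.essFiniteType_iff.mpr ⟨{x}, by simp [F]⟩
    haveI : Algebra.IsSeparable k F := Algebra.FormallyUnramified.isSeparable k F
    have hx : IsAlgebraic k (⟨x, IntermediateField.mem_adjoin_simple_self k x⟩ : F) :=
      Algebra.IsAlgebraic.isAlgebraic _
    exact hx.algebraMap (A := K)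
  · intro h
    haveI : Algebra.IsSeparable k K := Algebra.IsAlgebraic.isSeparable_of_perfectField
    haveI := Algebra.FormallyUnramified.of_isSeparable k K
    infer_instance

end Groth.Agent.S4524
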