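import Groth.Statements.S4529
import Mathlib.RingTheory.Nakayama
import Mathlib.RingTheory.OrzechProperty
import Mathlib.Algebra.Module.Projective
import Mathlib.RingTheory.Nilpotent.Lemmas
import Mathlib.Tactic

set_option autoImplicit false
universe u
open EGA41

namespace Groth.Agent.S4529

/-- Let A be a ring, M, N two A-modules with N projective, u : M → N a homomorphism and J an ideal of A;
suppose either (i) J is nilpotent, or (ii) J is contained in the Jacobson radical of A and M is of
finite type. Then u is left invertible if and only if the induced map u₀ : M/JM → N/JN is left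
invertible. (A left inverse of u₀ composed with N → N/JN is an A-linear map v : N → M/JM with v ∘ u
the projection, and conversely; the right-hand side is written in that form.) -/
theorem result {A : Type u} [CommRing A] {M N : Type u} [AddCommGroup M] [Module A M]
    [AddCommGroup N] [Module A N] [Module.Projective A N] (u : M →ₗ[A] N) (J : Ideal A)
    (hJ : IsNilpotent J ∨ (J ≤ (⊥ : Ideal A).jacobson ∧ Module.Finite A M)) :
    (∃ w : N →ₗ[A] M, w ∘ₗ u = LinearMap.id) ↔
      ∃ v : N →ₗ[A] M ⧸ (J • ⊤ : Submodule A M), v ∘ₗ u = (J • ⊤ : Submodule A M).mkQ := by
  constructor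
  · rintro ⟨w, hw⟩
    refine ⟨(J • ⊤ : Submodule A M).mkQ ∘ₗ w, ?_⟩
    rw [LinearMap.comp_assoc, hw, LinearMap.comp_id]
  · rintro ⟨v, hv⟩
    obtain ⟨w', hw'⟩ := Module.projective_lifting_property (J • ⊤ : Submodule A M).mkQ v
      (Submodule.mkQ_surjective _)
    -- `φ = w' ∘ u` is the identity modulo `J`
    set φ : M →ₗ[A] M := w' ∘ₗ u with hφ
    have hmod : ∀ m : M, φ m - m ∈ (J • ⊤ : Submodule A M) := by
      intro m
      have h1 : (J • ⊤ : Submodule A M).mkQ (φ m) = (J • ⊤ : Submodule A M).mkQ m := by
        have := LinearMap.congr_fun hv m
        have h2 := LinearMap.congr_fun hw' (u m)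
        simp only [LinearMap.coe_comp, Function.comp_apply] at this h2
        rw [hφ, LinearMap.coe_comp, Function.comp_apply, h2, this]
      rw [← Submodule.Quotient.mk_eq_zero, Submodule.Quotient.mk_sub]
      exact sub_eq_zero.2 h1
    have hbij : Function.Bijective φ := by
      rcases hJ with hnil | ⟨hjac, hfin⟩
      · -- nilpotent case: `φ = 1 + δ` with `δ` nilpotent
        obtain ⟨n, hn⟩ := hnil
        set δ : M →ₗ[A] M := φ - LinearMap.id with hδ
        have hδmem : ∀ k : ℕ, ∀ m : M, (δ ^ k) m ∈ (J ^ k • ⊤ : Submodule A M) := by
          intro k
          induction k with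
          | zero => intro m; simp
          | succ k ih =>
            intro m
            have e : (δ ^ (k + 1)) m = δ ((δ ^ k) m) := by
              rw [pow_succ' δ k]; rfl
            rw [e]
            have h1 := ih m
            -- `δ` maps `J^k M` into `J^(k+1) M`
            have hmap : ∀ x ∈ (J ^ k • ⊤ : Submodule A M), δ x ∈ (J ^ (k + 1) • ⊤ : Submodule A M) := by
              intro x hx
              refine Submodule.smul_induction_on hx ?_ ?_
              · intro r hr y _
                rw [map_smul]
                have hy : δ y ∈ (J • ⊤ : Submodule A M) := by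
                  rw [hδ]; simpa using hmod y
                rw [pow_succ, mul_smul]
                exact Submodule.smul_mem_smul hr hy
              · intro x y hx hy
                rw [map_add]; exact Submodule.add_mem _ hx hy
            exact hmap _ h1
        have hδnil : δ ^ n = 0 := by
          ext m
          have := hδmem n m
          rw [hn] at this
          simpa using this
        have hunit : IsUnit (LinearMap.id + δ : Module.End A M) := by
          have : IsNilpotent δ := ⟨n, hδnil⟩
          exact this.isUnit_one_add
        have hφeq : φ = LinearMap.id + δ := by rw [hδ]; abel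
        rw [hφeq]
        exact (Module.End.isUnit_iff _).1 hunit
      · -- Nakayama case
        haveI := hfin
        have hsurj : Function.Surjective φ := by
          rw [← LinearMap.range_eq_top, eq_top_iff]
          apply Submodule.le_of_le_smul_of_le_jacobson_bot Module.Finite.fg_top hjac
          intro m _
          have : m = φ m + -(φ m - m) := by abel
          rw [this]
          exact Submodule.add_mem_sup (LinearMap.mem_range_self φ m)
            (Submodule.neg_mem _ (hmod m))
        exact ⟨OrzechProperty.injective_of_surjective_endomorphism φ hsurj, hsurj⟩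
    let e := LinearEquiv.ofBijective φ hbij
    refine ⟨e.symm.toLinearMap ∘ₗ w', ?_⟩
    ext m
    simp only [LinearMap.coe_comp, Function.comp_apply, LinearMap.id_coe, id_eq,
      LinearEquiv.coe_coe]
    apply e.injective
    rw [LinearEquiv.apply_symm_apply]
    rfl

end Groth.Agent.S4529
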