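import Groth.Statements.S4532
import Mathlib.RingTheory.Smooth.Basic
import Mathlib.LinearAlgebra.SymmetricAlgebra.Basic
import Mathlib.Algebra.Module.Projective
import Mathlib.Tactic

set_option autoImplicit false
universe u
open EGA41

namespace Groth.Agent.S4532

/-- Let A be a discrete ring and V a projective A-module. Then the symmetric algebra of V over A, with
the discrete topology, is a formally smooth A-algebra. -/
theorem result (A : Type u) [CommRing A] (V : Type u) [AddCommGroup V] [Module A V]
    [Module.Projective A V] : Algebra.FormallySmooth A (SymmetricAlgebra A V) := by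
  refine Algebra.FormallySmooth.of_comp_surjective fun B _ _ I _ f => ?_
  -- the linear map `V → B ⧸ I` lifts to `V → B` since `V` is projective
  let g : V →ₗ[A] B ⧸ I := f.toLinearMap ∘ₗ SymmetricAlgebra.ι A V
  obtain ⟨g', hg'⟩ := Module.projective_lifting_property (Ideal.Quotient.mkₐ A I).toLinearMap g
    Ideal.Quotient.mk_surjective
  refine ⟨SymmetricAlgebra.lift g', ?_⟩
  apply SymmetricAlgebra.algHom_ext
  ext x
  have := LinearMap.congr_fun hg' x
  simp only [LinearMap.coe_comp, Function.comp_apply, AlgHom.toLinearMap_apply] at this ⊢
  change (Ideal.Quotient.mkₐ A I) ((SymmetricAlgebra.lift g') ((SymmetricAlgebra.ι A V) x)) = _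
  rw [SymmetricAlgebra.lift_ι_apply, this]
  rfl

end Groth.Agent.S4532
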