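import Groth.Statements.S4539
import Groth.Agent.Lib.Helper8.CohenAlg1

set_option autoImplicit false
universe u
open EGA41

namespace Groth.Agent.S4539

open IsLocalRing in
/-- Let A be a local ring with residue characteristic p (p = 0 or a prime), P the prime local ring ℤ_(p)
(ℚ if p = 0) and P → A its unique local homomorphism. Then A is a Cohen ring, i.e. a Cohen P-algebra
— Noetherian and complete, flat over P, with pA its maximal ideal (and residue field separable over
the prime field) — if and only if A is a field of characteristic 0 or a complete discrete valuation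
ring of residue characteristic > 0 whose maximal ideal is generated by p·1. -/
theorem result (p : ℕ) [hp : (Ideal.span {(p : ℤ)}).IsPrime]
    {A : Type} [CommRing A] [IsLocalRing A] [CharP (ResidueField A) p]
    [Algebra (Localization.AtPrime (Ideal.span {(p : ℤ)})) A]
    [IsLocalHom (algebraMap (Localization.AtPrime (Ideal.span {(p : ℤ)})) A)] :
    EGA41.IsCohenAlgebra (Localization.AtPrime (Ideal.span {(p : ℤ)})) A ↔ EGA41.IsCohenRingEGA A := by
  classical
  have hmP := Groth.Agent.Helper8.CohenAlg.maximalIdeal_P p
  haveI hcharP : CharP (IsLocalRing.ResidueField (Localization.AtPrime (Ideal.span {(p : ℤ)}))) p :=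
    (RingHom.charP_iff (IsLocalRing.ResidueField.map
      (algebraMap (Localization.AtPrime (Ideal.span {(p : ℤ)})) A)) (RingHom.injective _) p).2
      inferInstance
  have hmapP : (IsLocalRing.maximalIdeal (Localization.AtPrime (Ideal.span {(p : ℤ)}))).map
      (algebraMap (Localization.AtPrime (Ideal.span {(p : ℤ)})) A) = Ideal.span {(p : A)} := by
    rw [hmP, Ideal.map_span, Set.image_singleton, map_natCast]
  have hpk : (p : IsLocalRing.ResidueField A) = 0 := CharP.cast_eq_zero _ p
  constructor
  · -- a Cohen algebra over the prime local ring is a Cohen ring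
    rintro ⟨hNP, hNA, hcompl, hflat, hmax, hgr⟩
    have hmA : IsLocalRing.maximalIdeal A = Ideal.span {(p : A)} := by rw [← hmax, hmapP]
    by_cases hp0 : p = 0
    · left
      have hbot : IsLocalRing.maximalIdeal A = ⊥ := by
        rw [hmA, hp0, Nat.cast_zero, Ideal.span_singleton_eq_bot]
      have hF : IsField A := IsLocalRing.isField_iff_maximalIdeal_eq.2 hbot
      refine ⟨hF, ?_⟩
      haveI : CharZero (IsLocalRing.ResidueField A) := by
        haveI : CharP (IsLocalRing.ResidueField A) 0 := by rw [← hp0]; infer_instance
        exact CharP.charP_to_charZero _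
      refine charZero_of_inj_zero (fun n hn => ?_)
      have h1 : (n : IsLocalRing.ResidueField A) = 0 := by
        rw [← map_natCast (IsLocalRing.residue A), hn, map_zero]
      exact_mod_cast h1
    · right
      have hpP : (p : Localization.AtPrime (Ideal.span {(p : ℤ)})) ∈
          nonZeroDivisors (Localization.AtPrime (Ideal.span {(p : ℤ)})) :=
        mem_nonZeroDivisors_of_ne_zero (Groth.Agent.Helper8.CohenAlg.natCast_ne_zero_P p hp0)
      have hreg : (p : A) ∈ nonZeroDivisors A :=
        Groth.Agent.Helper8.Cohen.natCast_mem_nonZeroDivisors_of_flat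
          (S := Localization.AtPrime (Ideal.span {(p : ℤ)})) p hpP
      haveI hdom : IsDomain A := Groth.Agent.Helper8.Cohen.isDomain_of_principal _ hmA hreg
      have hdvr : IsDiscreteValuationRing A :=
        Groth.Agent.Helper8.Cohen.isDiscreteValuationRing_of_principal _ hmA hreg
      exact ⟨hdom, hdvr, hcompl, p, Groth.Agent.Helper8.CohenAlg.prime_of_ne_zero p hp0, hmA⟩
  · -- a Cohen ring is a Cohen algebra over the prime local ring
    have hgr : Algebra.IsGeometricallyReduced
        (IsLocalRing.ResidueField (Localization.AtPrime (Ideal.span {(p : ℤ)})))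
        (IsLocalRing.ResidueField A) :=
      Groth.Agent.Helper8.CohenAlg.isGeometricallyReduced_of_residueField_P p _
    rintro (⟨hF, hCZ⟩ | ⟨hd, hv, hc, q, hq, hmq⟩)
    · -- a field of characteristic zero
      letI := hF.toField
      have hp0 : p = 0 := by
        haveI : CharZero (IsLocalRing.ResidueField A) :=
          charZero_of_injective_ringHom (IsLocalRing.residue A).injective
        exact CharP.eq (IsLocalRing.ResidueField A) inferInstance (CharP.ofCharZero _)
      have hmA : IsLocalRing.maximalIdeal A = ⊥ := IsLocalRing.maximalIdeal_eq_bot
      have hPbot : IsLocalRing.maximalIdeal (Localization.AtPrime (Ideal.span {(p : ℤ)})) = ⊥ := by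
        rw [hmP, Ideal.span_singleton_eq_bot]
        have h0 := hp0
        subst h0
        exact Nat.cast_zero
      have hPF : IsField (Localization.AtPrime (Ideal.span {(p : ℤ)})) :=
        IsLocalRing.isField_iff_maximalIdeal_eq.2 hPbot
      refine ⟨inferInstance, inferInstance, ?_, ?_, ?_, hgr⟩
      · rw [hmA]; infer_instance
      · letI := hPF.toField
        infer_instance
      · rw [hPbot, hmA, Ideal.map_bot]
    · -- a complete discrete valuation ring with maximal ideal `(q)`
      have hqk : (q : IsLocalRing.ResidueField A) = 0 := by
        rw [← map_natCast (IsLocalRing.residue A), IsLocalRing.residue_eq_zero_iff, hmq]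
        exact Ideal.mem_span_singleton_self _
      have hdvd : p ∣ q := (CharP.cast_eq_zero_iff (IsLocalRing.ResidueField A) p q).1 hqk
      have hp1 : p ≠ 1 := by
        rintro rfl
        exact CharP.char_ne_one (IsLocalRing.ResidueField A) 1 rfl
      have hpq : p = q := ((Nat.dvd_prime hq).1 hdvd).resolve_left hp1
      subst hpq
      have hpA : (p : A) ≠ 0 := by
        intro h0
        have hbot : IsLocalRing.maximalIdeal A = ⊥ := by
          rw [hmq, h0, Ideal.span_singleton_eq_bot]
        exact IsDiscreteValuationRing.not_isField A (IsLocalRing.isField_iff_maximalIdeal_eq.2 hbot)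
      -- injectivity of the structure map
      have hinj : Function.Injective (algebraMap (Localization.AtPrime (Ideal.span {(p : ℤ)})) A) := by
        rw [RingHom.injective_iff_ker_eq_bot]
        by_contra hker
        haveI hkp : (RingHom.ker (algebraMap (Localization.AtPrime (Ideal.span {(p : ℤ)})) A)).IsPrime :=
          RingHom.ker_isPrime _
        have hkmax := Ideal.IsPrime.isMaximal hkp hker
        have hkeq := IsLocalRing.eq_maximalIdeal hkmax
        have : (p : Localization.AtPrime (Ideal.span {(p : ℤ)})) ∈
            RingHom.ker (algebraMap (Localization.AtPrime (Ideal.span {(p : ℤ)})) A) := by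
          rw [hkeq, hmP]; exact Ideal.mem_span_singleton_self _
        rw [RingHom.mem_ker, map_natCast] at this
        exact hpA this
      haveI : Module.IsTorsionFree (Localization.AtPrime (Ideal.span {(p : ℤ)})) A := by
        refine ⟨fun r hr x y hxy => ?_⟩
        have hr0 : algebraMap (Localization.AtPrime (Ideal.span {(p : ℤ)})) A r ≠ 0 := by
          intro h
          have := hinj (h.trans (map_zero _).symm)
          exact hr.ne_zero this
        have hxy' : algebraMap (Localization.AtPrime (Ideal.span {(p : ℤ)})) A r * x =
            algebraMap (Localization.AtPrime (Ideal.span {(p : ℤ)})) A r * y := by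
          simpa [Algebra.smul_def] using hxy
        exact mul_left_cancel₀ hr0 hxy'
      refine ⟨inferInstance, inferInstance, hc, inferInstance, ?_, hgr⟩
      rw [hmapP, hmq]

end Groth.Agent.S4539
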