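import Groth.Statements.S4548
import Mathlib
import Groth.Agent.Lib.Helper8.PSJ5
import Groth.Agent.Lib.Helper8.PSJ6
import Groth.Agent.Lib.Helper2.SepPerfect

set_option autoImplicit false
universe u
open EGA41

namespace Groth.Agent.S4548

/-- Let k be a field of characteristic p > 0, A = k[[T_1, …, T_r]] and K its field of fractions. Then
there is a decreasing filtered family (A_α) of Noetherian subrings of A (rendered: a nonempty
family, directed downwards for inclusion) such that A is a free A_α-module of finite type for every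
α and, K_α denoting the subfield of K generated by A_α (its field of fractions inside K), ⋂_α K_α =
K^p. -/
theorem result (p : ℕ) [Fact p.Prime] (k : Type u) [Field k] [CharP k p]
    (r : ℕ) :
    ∃ (ι : Type u) (_ : Nonempty ι) (S : ι → Subring (MvPowerSeries (Fin r) k)),
      (∀ a b : ι, ∃ c, S c ≤ S a ⊓ S b) ∧
      (∀ i, IsNoetherianRing (S i) ∧ Module.Free (S i) (MvPowerSeries (Fin r) k) ∧ Module.Finite (S i) (MvPowerSeries (Fin r) k)) ∧
      ((⨅ i, Subfield.closure (algebraMap (MvPowerSeries (Fin r) k) (FractionRing (MvPowerSeries (Fin r) k)) '' (S i)) :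
          Set (FractionRing (MvPowerSeries (Fin r) k)))) =
        Set.range fun x : FractionRing (MvPowerSeries (Fin r) k) => x ^ p := by
  classical
  open Groth.Agent.Helper8.PSJ Groth.Agent.Helper2.AdmSub in
  set A := MvPowerSeries (Fin r) k with hA
  haveI : IsDomain A := NoZeroDivisors.to_isDomain _
  set F := FractionRing A with hF
  have hinjF : Function.Injective (algebraMap A F) := IsFractionRing.injective A F
  -- the base field `k^p`
  let k₀ : Subfield k := (frobenius k p).fieldRange
  obtain ⟨κ, X, hX⟩ := Groth.Agent.Helper2.Sep.exists_isPBasis p (↥k₀) k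
  let ES : Finset κ → Subfield k := fun S => (kS (k₀ := ↥k₀) p X S).toSubfield
  have hmono : ∀ S T : Finset κ, S ⊆ T → ES T ≤ ES S := fun S T h x hx =>
    kS_antitone (k₀ := ↥k₀) p X h hx
  haveI hfin : ∀ S, Module.Finite (ES S) k := fun S => finite_kS (k₀ := ↥k₀) p X S hX.2
  have hE : ∀ S (x : k), x ^ p ∈ ES S := fun S x => pow_mem_kS (k₀ := ↥k₀) p X S x
  have hinf : (⨅ S, ES S) = (frobenius k p).fieldRange := by
    have h1 := iInf_kS (k₀ := ↥k₀) p X hX
    have h2 := congrArg IntermediateField.toSubfield h1
    rw [IntermediateField.iInf_toSubfield] at h2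
    rw [show (⨅ S, ES S) = ⨅ S, (kS (k₀ := ↥k₀) p X S).toSubfield from rfl, h2]
    apply le_antisymm
    · have : IntermediateField.adjoin (↥k₀) (Set.range fun y : k => y ^ p) ≤ ⊥ := by
        rw [IntermediateField.adjoin_le_iff]
        rintro _ ⟨y, rfl⟩
        rw [SetLike.mem_coe, IntermediateField.mem_bot]
        exact ⟨⟨y ^ p, ⟨y, rfl⟩⟩, rfl⟩
      intro x hx
      have hx' := this hx
      rw [IntermediateField.mem_bot] at hx'
      obtain ⟨c, rfl⟩ := hx'
      exact c.2
    · intro x hx
      exact IntermediateField.algebraMap_mem _ (⟨x, hx⟩ : ↥k₀)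
  refine ⟨Finset κ, ⟨∅⟩, fun S => psSub p (ES S), ?_, ?_, ?_⟩
  · intro a b
    refine ⟨a ∪ b, le_inf (psSub_mono p (hmono _ _ Finset.subset_union_left))
      (psSub_mono p (hmono _ _ Finset.subset_union_right))⟩
  · intro S
    exact ⟨inferInstance, free_psSub p (ES S) (Module.finBasis (ES S) k),
      finite_psSub p (ES S) (Module.finBasis (ES S) k)⟩
  · ext x
    rw [Set.iInf_eq_iInter, Set.mem_iInter, Set.mem_range]
    constructor
    · intro hx
      obtain ⟨y, hy⟩ := exists_pow_eq_of_forall_mem_psField p F ES hE hinf x hx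
      exact ⟨y, hy⟩
    · rintro ⟨y, rfl⟩ S
      obtain ⟨a, b, hb, rfl⟩ := IsFractionRing.div_surjective (A := A) y
      rw [div_pow, ← map_pow, ← map_pow]
      exact div_mem (algebraMap_mem_psField p F (ES S) (pow_mem_psSub p (ES S) (hE S) a))
        (algebraMap_mem_psField p F (ES S) (pow_mem_psSub p (ES S) (hE S) b))

end Groth.Agent.S4548
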