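import Groth.Statements.S4550
import Mathlib
-- import your own Groth.Agent.* helpers here

set_option autoImplicit false
universe u
open EGA41

namespace Groth.Agent.S4550

open MvPowerSeries
namespace Aux

variable {k : Type u} [Field k] {r : ℕ}

/-- power series with coefficients in a subfield, as a subring -/
def Bsub (F : Subfield k) : Subring (MvPowerSeries (Fin r) k) where
  carrier := {f | ∀ n, MvPowerSeries.coeff n f ∈ F}
  mul_mem' := by
    classical
    intro f g hf hg n
    rw [MvPowerSeries.coeff_mul]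
    exact F.sum_mem fun x _ => F.mul_mem (hf _) (hg _)
  one_mem' := by
    classical
    intro n
    rw [MvPowerSeries.coeff_one]
    split_ifs
    · exact F.one_mem
    · exact F.zero_mem
  add_mem' := by
    intro f g hf hg n
    rw [map_add]
    exact F.add_mem (hf n) (hg n)
  zero_mem' := by
    intro n
    rw [map_zero]
    exact F.zero_mem
  neg_mem' := by
    intro f hf n
    rw [map_neg]
    exact F.neg_mem (hf n)

lemma mem_Bsub (F : Subfield k) (f : MvPowerSeries (Fin r) k) :
    f ∈ Bsub (r := r) F ↔ ∀ n, MvPowerSeries.coeff n f ∈ F := Iff.rfl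

/-- descent of coefficients -/
lemma descent (F : Subfield k) (f g h : MvPowerSeries (Fin r) k) (hg : g ∈ Bsub (r := r) F)
    (hh : h ∈ Bsub (r := r) F) (hg0 : g ≠ 0) (hfg : f * g = h) : f ∈ Bsub (r := r) F := by
  classical
  by_contra hf
  rw [mem_Bsub] at hf
  push Not at hf
  obtain ⟨n₀, hn₀⟩ := hf
  let P : Submodule F k := LinearMap.range (Algebra.linearMap F k)
  have hP : ∀ c : k, c ∈ F → c ∈ P := fun c hc => ⟨⟨c, hc⟩, rfl⟩
  have haP : MvPowerSeries.coeff n₀ f ∉ P := by
    rintro ⟨c, hc⟩
    apply hn₀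
    rw [← hc]
    exact c.2
  obtain ⟨lam, hlam, hPker⟩ := Submodule.exists_le_ker_of_notMem haP
  let Lf : MvPowerSeries (Fin r) F := fun n => lam (MvPowerSeries.coeff n f)
  let g' : MvPowerSeries (Fin r) F := fun n => ⟨MvPowerSeries.coeff n g, hg n⟩
  have hmul : Lf * g' = 0 := by
    apply MvPowerSeries.ext
    intro n
    rw [MvPowerSeries.coeff_mul, map_zero]
    have h1 : ∀ x ∈ Finset.HasAntidiagonal.antidiagonal n,
        MvPowerSeries.coeff x.1 Lf * MvPowerSeries.coeff x.2 g' =
          lam (MvPowerSeries.coeff x.1 f * MvPowerSeries.coeff x.2 g) := by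
      intro x _
      have : MvPowerSeries.coeff x.1 f * MvPowerSeries.coeff x.2 g =
          (⟨MvPowerSeries.coeff x.2 g, hg x.2⟩ : F) • MvPowerSeries.coeff x.1 f := by
        rw [mul_comm]; rfl
      rw [this, map_smul, smul_eq_mul, mul_comm]
      rfl
    rw [Finset.sum_congr rfl h1, ← map_sum, ← MvPowerSeries.coeff_mul, hfg]
    exact LinearMap.mem_ker.mp (hPker (hP _ (hh n)))
  have hg'0 : g' ≠ 0 := by
    intro h0
    apply hg0
    ext n
    have h2 : g' n = 0 := congrFun h0 n
    have h3 : ((g' n : F) : k) = 0 := by rw [h2]; rfl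
    exact h3
  have hLf : Lf = 0 := (mul_eq_zero.mp hmul).resolve_right hg'0
  apply hlam
  exact congrFun hLf n₀

lemma Bsub_mono {F F' : Subfield k} (h : F ≤ F') : Bsub (r := r) F ≤ Bsub (r := r) F' :=
  fun _ hf n => h (hf n)

lemma mem_T_iff (F : Subfield k) (x : FractionRing (MvPowerSeries (Fin r) k)) :
    x ∈ Subfield.closure (algebraMap (MvPowerSeries (Fin r) k)
        (FractionRing (MvPowerSeries (Fin r) k)) '' {f | ∀ n, MvPowerSeries.coeff n f ∈ F}) ↔
      ∃ f g : MvPowerSeries (Fin r) k, f ∈ Bsub (r := r) F ∧ g ∈ Bsub (r := r) F ∧ g ≠ 0 ∧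
        x * algebraMap _ (FractionRing (MvPowerSeries (Fin r) k)) g =
          algebraMap _ (FractionRing (MvPowerSeries (Fin r) k)) f := by
  have hinj : Function.Injective (algebraMap (MvPowerSeries (Fin r) k)
      (FractionRing (MvPowerSeries (Fin r) k))) := IsFractionRing.injective _ _
  have hset : (algebraMap (MvPowerSeries (Fin r) k)
      (FractionRing (MvPowerSeries (Fin r) k)) '' {f | ∀ n, MvPowerSeries.coeff n f ∈ F}) =
      (((Bsub (r := r) F).map (algebraMap (MvPowerSeries (Fin r) k)
        (FractionRing (MvPowerSeries (Fin r) k))) : Subring _) : Set _) := by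
    ext y
    simp only [Set.mem_image, Set.mem_setOf_eq, Subring.coe_map]
    rfl
  constructor
  · intro hx
    rw [Subfield.mem_closure_iff, hset, Subring.closure_eq] at hx
    obtain ⟨y, ⟨f, hf, rfl⟩, z, ⟨g, hg, rfl⟩, rfl⟩ := hx
    by_cases hg0 : g = 0
    · refine ⟨0, 1, Subring.zero_mem _, Subring.one_mem _, one_ne_zero, ?_⟩
      rw [hg0, map_zero, div_zero, zero_mul]
    · refine ⟨f, g, hf, hg, hg0, ?_⟩
      have : algebraMap (MvPowerSeries (Fin r) k)
          (FractionRing (MvPowerSeries (Fin r) k)) g ≠ 0 := by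
        intro h0
        exact hg0 (hinj (by rw [h0, map_zero]))
      rw [div_mul_cancel₀ _ this]
  · rintro ⟨f, g, hf, hg, hg0, hx⟩
    have hgne : algebraMap (MvPowerSeries (Fin r) k)
        (FractionRing (MvPowerSeries (Fin r) k)) g ≠ 0 := by
      intro h0
      exact hg0 (hinj (by rw [h0, map_zero]))
    have hxe : x = algebraMap _ (FractionRing (MvPowerSeries (Fin r) k)) f /
        algebraMap _ (FractionRing (MvPowerSeries (Fin r) k)) g := by
      rw [eq_div_iff hgne, hx]
    rw [hxe]
    apply Subfield.div_mem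
    · exact Subfield.subset_closure ⟨f, hf, rfl⟩
    · exact Subfield.subset_closure ⟨g, hg, rfl⟩

theorem main {k : Type u} [Field k] {ι : Type u} [Nonempty ι] (F : ι → Subfield k)
    (hdir : ∀ a b : ι, ∃ c, F c ≤ F a ⊓ F b) (e : ℕ) (hq : ∀ x : k, x ^ ringExpChar k ^ e ∈ ⨅ i, F i) (r : ℕ) :
    (⨅ i, Subfield.closure (algebraMap (MvPowerSeries (Fin r) k) (FractionRing (MvPowerSeries (Fin r) k)) ''
        {f | ∀ n, MvPowerSeries.coeff n f ∈ F i})) =
      Subfield.closure (algebraMap (MvPowerSeries (Fin r) k) (FractionRing (MvPowerSeries (Fin r) k)) ''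
        {f | ∀ n, MvPowerSeries.coeff n f ∈ ⨅ i, F i}) := by
  have hinj : Function.Injective (algebraMap (MvPowerSeries (Fin r) k)
      (FractionRing (MvPowerSeries (Fin r) k))) := IsFractionRing.injective _ _
  apply le_antisymm
  · intro x hx
    rw [Subfield.mem_iInf] at hx
    obtain ⟨i₀⟩ := ‹Nonempty ι›
    obtain ⟨f₀, g₀, hf₀, hg₀, hg₀0, hx₀⟩ := (mem_T_iff (F i₀) x).mp (hx i₀)
    set p := ringExpChar k with hp
    have hp0 : p ≠ 0 := expChar_ne_zero k p
    have hq1 : 1 ≤ p ^ e := Nat.one_le_pow _ _ (Nat.pos_of_ne_zero hp0)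
    set G := g₀ ^ p ^ e with hG
    set f := f₀ * g₀ ^ (p ^ e - 1) with hf
    have hGmem : G ∈ Bsub (r := r) (⨅ i, F i) := by
      intro n
      rw [hG, ← MvPowerSeries.map_iterateFrobenius_expand p hp0, MvPowerSeries.coeff_map,
        iterateFrobenius_def]
      exact hq _
    have hG0 : G ≠ 0 := pow_ne_zero _ hg₀0
    have hxG : x * algebraMap _ (FractionRing (MvPowerSeries (Fin r) k)) G =
        algebraMap _ (FractionRing (MvPowerSeries (Fin r) k)) f := by
      have h1 : G = g₀ * g₀ ^ (p ^ e - 1) := by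
        rw [hG, ← pow_succ']
        congr 1
        omega
      rw [h1, map_mul, ← mul_assoc, hx₀, hf, map_mul]
    have hfmem : f ∈ Bsub (r := r) (⨅ i, F i) := by
      intro n
      rw [Subfield.mem_iInf]
      intro i
      obtain ⟨fi, gi, hfi, hgi, hgi0, hxi⟩ := (mem_T_iff (F i) x).mp (hx i)
      have hGi : G ∈ Bsub (r := r) (F i) := Bsub_mono (iInf_le F i) hGmem
      have hprod : f * gi = fi * G := by
        apply hinj
        rw [map_mul (algebraMap _ _) f gi, map_mul (algebraMap _ _) fi G, ← hxG, ← hxi]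
        ring
      exact descent (F i) f gi (fi * G) hgi (Subring.mul_mem _ hfi hGi) hgi0 hprod n
    exact (mem_T_iff _ x).mpr ⟨f, G, hfmem, hGmem, hG0, hxG⟩
  · apply le_iInf
    intro i
    apply Subfield.closure_mono
    apply Set.image_mono
    intro f hf n
    exact (iInf_le F i) (hf n)

end Aux

/-- Let k be a field, (k_α) a decreasing filtered family of subfields of k with intersection k₀, and
suppose there is a power q of the characteristic exponent of k with k^q ⊆ k₀. Then, inside k((T_1,
…, T_r)), one has ⋂_α k_α((T_1, …, T_r)) = k₀((T_1, …, T_r)); here F((T)) is the subfield of the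
fraction field of k[[T]] generated by the power series with all coefficients in F. -/
theorem result {k : Type u} [Field k] {ι : Type u} [Nonempty ι] (F : ι → Subfield k)
    (hdir : ∀ a b : ι, ∃ c, F c ≤ F a ⊓ F b) (e : ℕ) (hq : ∀ x : k, x ^ ringExpChar k ^ e ∈ ⨅ i, F i) (r : ℕ) :
    (⨅ i, Subfield.closure (algebraMap (MvPowerSeries (Fin r) k) (FractionRing (MvPowerSeries (Fin r) k)) ''
        {f | ∀ n, MvPowerSeries.coeff n f ∈ F i})) =
      Subfield.closure (algebraMap (MvPowerSeries (Fin r) k) (FractionRing (MvPowerSeries (Fin r) k)) ''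
        {f | ∀ n, MvPowerSeries.coeff n f ∈ ⨅ i, F i}) := by
  exact Aux.main F hdir e hq r

end Groth.Agent.S4550
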