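import Groth.Statements.S4551
import Mathlib
import Groth.Agent.Lib.Helper2.SepMain
import Groth.Agent.Lib.Helper2.SepPowerSeries
import Groth.Agent.Lib.Helper8.SepGen

set_option autoImplicit false
universe u
open EGA41

namespace Groth.Agent.S4551

/-- For every field k (any characteristic) the field of fractions k((T_1, …, T_r)) of the power series
ring k[[T_1, …, T_r]] is a separable extension of k, i.e. it is geometrically reduced over k. -/
theorem result (k : Type u) [Field k] (r : ℕ) :
    Algebra.IsGeometricallyReduced k (FractionRing (MvPowerSeries (Fin r) k)) := by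
  obtain h0 | ⟨p, hp, hpk⟩ := CharP.exists' k
  · exact Groth.Agent.Helper2.Sep.isGeometricallyReduced_of_charZero
  · have hp' : p.Prime := hp.out
    -- MacLane's condition for the power series ring
    have hA : Groth.Agent.Helper8.SepGen.Phi k (MvPowerSeries (Fin r) k) p := by
      intro n f hf
      rw [Fintype.linearIndependent_iff]
      intro c hc j
      let k' := AlgebraicClosure k
      have hd : ∀ j, ∃ d : k', d ^ p = algebraMap k k' (c j) :=
        fun j => IsAlgClosed.exists_pow_nat_eq _ hp'.pos
      choose d hd using hd
      let F : Fin n → MvPowerSeries (Fin r) k' := fun j => MvPowerSeries.map (algebraMap k k') (f j)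
      have hpT : ((p : ℕ) : MvPowerSeries (Fin r) k') = 0 := by
        have : ((p : ℕ) : MvPowerSeries (Fin r) k') =
            algebraMap k (MvPowerSeries (Fin r) k') ((p : ℕ) : k) :=
          (map_natCast (algebraMap k (MvPowerSeries (Fin r) k')) p).symm
        rw [this, CharP.cast_eq_zero, map_zero]
      have hz : (∑ j, d j • F j) ^ p = 0 := by
        rw [Groth.Agent.Helper2.Sep.sum_pow_prime_of_cast_eq_zero hp' hpT]
        have h1 : ∀ j, (d j • F j) ^ p =
            MvPowerSeries.map (algebraMap k k') (c j • f j ^ p) := by
          intro j
          rw [smul_pow, hd, Algebra.smul_def (c j), map_mul, map_pow, Algebra.smul_def]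
          congr 1
          ext α
          simp [MvPowerSeries.algebraMap_apply]
        simp_rw [h1]
        rw [← map_sum, hc, map_zero]
      have hz0 : ∑ j, d j • F j = 0 := (pow_eq_zero_iff hp'.ne_zero).mp hz
      have hf' : LinearIndependent k (fun j => (f j : (Fin r →₀ ℕ) → k)) := hf
      have h3 := Groth.Agent.Helper2.Sep.eq_zero_of_sum_mul_map_eq_zero (algebraMap k k') n
        (fun j => (f j : (Fin r →₀ ℕ) → k)) hf' d (by
          intro γ
          have := congrArg (MvPowerSeries.coeff γ) hz0
          simp only [F, map_sum, MvPowerSeries.coeff_smul, MvPowerSeries.coeff_map, map_zero] at this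
          exact this) j
      have h4 := hd j
      rw [h3, zero_pow hp'.ne_zero] at h4
      exact (algebraMap k k').injective (by rw [← h4, map_zero])
    haveI : IsDomain (MvPowerSeries (Fin r) k) := NoZeroDivisors.to_isDomain _
    have hQ := Groth.Agent.Helper8.SepGen.Phi_fraction (F := FractionRing (MvPowerSeries (Fin r) k))
      p hA
    exact Groth.Agent.Helper2.Sep.isGeometricallyReduced_of_macLane p (fun n s hs => hQ n s hs)

end Groth.Agent.S4551
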