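import Groth.Statements.S4555
import Mathlib
-- import your own Groth.Agent.* helpers here

set_option autoImplicit false
universe u
open EGA41

namespace Groth.Agent.S4555

namespace Aux
open MvPowerSeries

variable {A : Type u} [CommRing A] {n : ℕ} {E : Type u} [CommRing E] [Algebra A E]

/-- the box exponent -/
noncomputable def box (n N : ℕ) : Fin n →₀ ℕ := Finsupp.equivFunOnFinite.symm (fun _ => N - 1)

lemma box_apply (N : ℕ) (i : Fin n) : box n N i = N - 1 := rfl

lemma le_box_iff {N : ℕ} (hN : 1 ≤ N) (α : Fin n →₀ ℕ) : α ≤ box n N ↔ ∀ i, α i < N := by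
  rw [Finsupp.le_def]
  constructor
  · intro h i; have := h i; rw [box_apply] at this; omega
  · intro h i; have := h i; rw [box_apply]; omega

/-- aeval kills polynomials with no coefficients in the box -/
lemma aeval_eq_zero_of_coeff (z : Fin n → E) (N : ℕ) (hN : 1 ≤ N) (hz : ∀ i, z i ^ N = 0)
    (P : MvPolynomial (Fin n) A) (hP : ∀ m ≤ box n N, P.coeff m = 0) :
    MvPolynomial.aeval z P = 0 := by
  rw [MvPolynomial.aeval_def, MvPolynomial.eval₂_eq']
  apply Finset.sum_eq_zero
  intro m hm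
  have h1 : ¬ m ≤ box n N := fun h => (MvPolynomial.mem_support_iff.mp hm) (hP m h)
  rw [le_box_iff hN] at h1
  push Not at h1
  obtain ⟨i, hi⟩ := h1
  have : z i ^ m i = 0 := by
    obtain ⟨c, hc⟩ := Nat.exists_eq_add_of_le hi
    rw [hc, pow_add, hz i, zero_mul]
  rw [Finset.prod_eq_zero (Finset.mem_univ i) this, mul_zero]

/-- the evaluation homomorphism -/
noncomputable def gHom (z : Fin n → E) (N : ℕ) (hN : 1 ≤ N) (hz : ∀ i, z i ^ N = 0) :
    MvPowerSeries (Fin n) A →ₐ[A] E :=
  AlgHom.ofLinearMap ((MvPolynomial.aeval z).toLinearMap ∘ₗ trunc' A (box n N))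
    (by simp)
    (by
      intro F G
      simp only [LinearMap.coe_comp, Function.comp_apply, AlgHom.toLinearMap_apply]
      rw [← map_mul, ← sub_eq_zero, ← map_sub]
      apply aeval_eq_zero_of_coeff z N hN hz
      intro m hm
      rw [MvPolynomial.coeff_sub, coeff_trunc'_mul_trunc'_eq_coeff_mul _ _ _ hm, coeff_trunc',
        if_pos hm, sub_self])

lemma gHom_apply (z : Fin n → E) (N : ℕ) (hN : 1 ≤ N) (hz : ∀ i, z i ^ N = 0)
    (F : MvPowerSeries (Fin n) A) :
    gHom z N hN hz F = MvPolynomial.aeval z (trunc' A (box n N) F) := rfl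

lemma gHom_X (z : Fin n → E) (N : ℕ) (hN : 2 ≤ N) (hz : ∀ i, z i ^ N = 0) (i : Fin n) :
    gHom (A := A) z N (by omega) hz (X i) = z i := by
  rw [gHom_apply]
  have : trunc' A (box n N) (X i : MvPowerSeries (Fin n) A) = MvPolynomial.X i := by
    ext m
    rw [coeff_trunc', coeff_X, MvPolynomial.coeff_X]
    by_cases hm : m = Finsupp.single i 1
    · subst hm
      have : Finsupp.single i 1 ≤ box n N := by
        rw [le_box_iff (by omega)]
        intro j
        by_cases hj : i = j
        · subst hj; simp; omega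
        · rw [Finsupp.single_eq_of_ne' hj]; omega
      simp [this]
    · have h2 : ¬ Finsupp.single i 1 = m := fun h => hm h.symm
      simp [hm, h2]
  rw [this, MvPolynomial.aeval_X]

section filtration

variable (𝔞 : Ideal A)

/-- weighted filtration -/
def S (m : ℕ) : Ideal (MvPowerSeries (Fin n) A) where
  carrier := {F | ∀ α : Fin n →₀ ℕ, coeff α F ∈ 𝔞 ^ (m - α.degree)}
  add_mem' := by
    intro F G hF hG α
    rw [map_add]
    exact Ideal.add_mem _ (hF α) (hG α)
  zero_mem' := by intro α; simp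
  smul_mem' := by
    intro G F hF α
    classical
    rw [smul_eq_mul, coeff_mul]
    apply Ideal.sum_mem
    rintro ⟨β, γ⟩ hβγ
    apply Ideal.mul_mem_left
    have h1 : β + γ = α := by simpa using hβγ
    have h2 : γ.degree ≤ α.degree := by
      rw [← h1, map_add]; omega
    exact Ideal.pow_le_pow_right (by omega) (hF γ)

lemma mem_S {m : ℕ} {F : MvPowerSeries (Fin n) A} :
    F ∈ S (n := n) 𝔞 m ↔ ∀ α : Fin n →₀ ℕ, coeff α F ∈ 𝔞 ^ (m - α.degree) := Iff.rfl

/-- power series with all coefficients in 𝔞 -/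
def T : Ideal (MvPowerSeries (Fin n) A) where
  carrier := {F | ∀ α : Fin n →₀ ℕ, coeff α F ∈ 𝔞}
  add_mem' := by
    intro F G hF hG α
    rw [map_add]
    exact Ideal.add_mem _ (hF α) (hG α)
  zero_mem' := by intro α; simp
  smul_mem' := by
    intro G F hF α
    classical
    rw [smul_eq_mul, coeff_mul]
    apply Ideal.sum_mem
    rintro ⟨β, γ⟩ _
    exact Ideal.mul_mem_left _ _ (hF γ)

lemma map_C_le_T : 𝔞.map (C : A →+* MvPowerSeries (Fin n) A) ≤ T 𝔞 := by
  rw [Ideal.map_le_iff_le_comap]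
  intro a ha α
  classical
  rw [coeff_C]
  split_ifs
  · exact ha
  · exact zero_mem _

/-- the ideal of definition -/
noncomputable def J : Ideal (MvPowerSeries (Fin n) A) :=
  𝔞.map (C : A →+* MvPowerSeries (Fin n) A) ⊔
    RingHom.ker (constantCoeff : MvPowerSeries (Fin n) A →+* A)

lemma J_mul_S_le (m : ℕ) : J (n := n) 𝔞 * S 𝔞 m ≤ S 𝔞 (m + 1) := by
  classical
  rw [Ideal.mul_le]
  intro x hx y hy
  obtain ⟨x1, hx1, x2, hx2, rfl⟩ := Submodule.mem_sup.mp hx
  rw [add_mul]
  apply Ideal.add_mem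
  · intro α
    rw [coeff_mul]
    apply Ideal.sum_mem
    rintro ⟨β, γ⟩ hβγ
    have h1 : β + γ = α := by simpa using hβγ
    have h2 : γ.degree ≤ α.degree := by
      rw [← h1, map_add]; omega
    have h3 : coeff β x1 ∈ 𝔞 := map_C_le_T 𝔞 hx1 β
    have h4 := hy γ
    have : coeff β x1 * coeff γ y ∈ 𝔞 ^ (1 + (m - γ.degree)) := by
      rw [pow_add, pow_one]
      exact Ideal.mul_mem_mul h3 h4
    exact Ideal.pow_le_pow_right (by omega) this
  · intro α
    rw [coeff_mul]
    apply Ideal.sum_mem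
    rintro ⟨β, γ⟩ hβγ
    have h1 : β + γ = α := by simpa using hβγ
    by_cases hβ : β = 0
    · subst hβ
      have : coeff 0 x2 = 0 := by
        have := hx2
        rw [RingHom.mem_ker] at this
        simpa using this
      simp only
      rw [this, zero_mul]
      exact zero_mem _
    · have hβd : 1 ≤ β.degree := by
        rw [Nat.one_le_iff_ne_zero, Ne, Finsupp.degree_eq_zero_iff]
        exact hβ
      have h2 : γ.degree + 1 ≤ α.degree := by
        rw [← h1, map_add]; omega
      apply Ideal.mul_mem_left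
      exact Ideal.pow_le_pow_right (by omega) (hy γ)

lemma J_pow_le_S (m : ℕ) : J (n := n) 𝔞 ^ m ≤ S 𝔞 m := by
  induction m with
  | zero =>
    intro F _ α
    simp
  | succ m ih =>
    rw [pow_succ']
    exact (Ideal.mul_mono_right ih).trans (J_mul_S_le 𝔞 m)

end filtration

lemma gHom_eq_zero_of_mem (𝔞 : Ideal A) (k : ℕ) (hE : (𝔞 ^ k).map (algebraMap A E) = ⊥)
    (z : Fin n → E) (N : ℕ) (hN : 1 ≤ N) (hz : ∀ i, z i ^ N = 0)
    (F : MvPowerSeries (Fin n) A) (hF : F ∈ J (n := n) 𝔞 ^ ((box n N).degree + k)) :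
    gHom z N hN hz F = 0 := by
  rw [gHom_apply, MvPolynomial.aeval_def, MvPolynomial.eval₂_eq']
  apply Finset.sum_eq_zero
  intro m _
  have hS := J_pow_le_S 𝔞 _ hF m
  have : algebraMap A E ((trunc' A (box n N) F).coeff m) = 0 := by
    rw [coeff_trunc']
    split_ifs with hm
    · have hdeg : m.degree ≤ (box n N).degree := Finsupp.degree_mono hm
      have h1 : coeff m F ∈ 𝔞 ^ k := Ideal.pow_le_pow_right (by omega) hS
      have h2 : algebraMap A E (coeff m F) ∈ (𝔞 ^ k).map (algebraMap A E) :=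
        Ideal.mem_map_of_mem _ h1
      rw [hE] at h2
      simpa using h2
    · simp
  rw [this, zero_mul]

/-- restriction of a power series to exponents bounded on `s` -/
noncomputable def restr (s : Finset (Fin n)) (N : ℕ) (F : MvPowerSeries (Fin n) A) :
    MvPowerSeries (Fin n) A :=
  fun α => by classical exact if ∀ i ∈ s, α i < N then coeff α F else 0

lemma coeff_restr (s : Finset (Fin n)) (N : ℕ) (F : MvPowerSeries (Fin n) A) (α : Fin n →₀ ℕ)
    [Decidable (∀ i ∈ s, α i < N)] :
    coeff α (restr s N F) = if ∀ i ∈ s, α i < N then coeff α F else 0 := by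
  by_cases h : ∀ i ∈ s, α i < N
  · rw [if_pos h, MvPowerSeries.coeff_apply]
    unfold restr
    rw [if_pos h]
  · rw [if_neg h, MvPowerSeries.coeff_apply]
    unfold restr
    rw [if_neg h]

lemma apply_restr (g : MvPowerSeries (Fin n) A →ₐ[A] E) (N : ℕ)
    (hg : ∀ i, g (X i) ^ N = 0) (s : Finset (Fin n)) (F : MvPowerSeries (Fin n) A) :
    g (restr s N F) = g F := by
  classical
  induction s using Finset.induction_on with
  | empty =>
    congr 1
    ext α
    rw [coeff_restr]; simp
  | insert i s hi ih =>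
    rw [← ih, ← sub_eq_zero, ← map_sub]
    have : (X i : MvPowerSeries (Fin n) A) ^ N ∣ restr (insert i s) N F - restr s N F := by
      rw [X_pow_dvd_iff]
      intro m hm
      rw [map_sub, coeff_restr, coeff_restr]
      simp [hm]
    obtain ⟨D, hD⟩ := this
    rw [hD, map_mul, map_pow, hg i, zero_mul]

lemma restr_univ (N : ℕ) (hN : 1 ≤ N) (F : MvPowerSeries (Fin n) A) :
    restr Finset.univ N F = ((trunc' A (box n N) F : MvPolynomial (Fin n) A) :
      MvPowerSeries (Fin n) A) := by
  classical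
  ext α
  rw [coeff_restr, MvPolynomial.coeff_coe, coeff_trunc']
  simp only [Finset.mem_univ, forall_true_left]
  simp only [le_box_iff hN]

lemma apply_eq (g : MvPowerSeries (Fin n) A →ₐ[A] E) (z : Fin n → E) (hgz : ∀ i, g (X i) = z i)
    (N : ℕ) (hN : 1 ≤ N) (hz : ∀ i, z i ^ N = 0) (F : MvPowerSeries (Fin n) A) :
    g F = gHom z N hN hz F := by
  rw [← apply_restr g N (fun i => by rw [hgz i, hz i]) Finset.univ F, restr_univ N hN, gHom_apply]
  have : g.comp (MvPolynomial.coeToMvPowerSeries.algHom A) = MvPolynomial.aeval z := by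
    apply MvPolynomial.algHom_ext
    intro i
    simp [hgz i]
  rw [← this]
  simp

theorem main (A : Type u) [CommRing A] (𝔞 : Ideal A) (n : ℕ) (E : Type u) [CommRing E]
    [Algebra A E] (hE : ∃ k : ℕ, (𝔞 ^ k).map (algebraMap A E) = ⊥) :
    (∀ f : MvPowerSeries (Fin n) A →ₐ[A] E,
      (∃ m : ℕ, ∀ x ∈ (𝔞.map (MvPowerSeries.C : A →+* MvPowerSeries (Fin n) A) ⊔
        RingHom.ker (MvPowerSeries.constantCoeff : MvPowerSeries (Fin n) A →+* A)) ^ m, f x = 0) →
      ∀ i, IsNilpotent (f (MvPowerSeries.X i))) ∧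
    ∀ z : Fin n → E, (∀ i, IsNilpotent (z i)) →
      ∃! g : MvPowerSeries (Fin n) A →ₐ[A] E,
        (∃ m : ℕ, ∀ x ∈ (𝔞.map (MvPowerSeries.C : A →+* MvPowerSeries (Fin n) A) ⊔
          RingHom.ker (MvPowerSeries.constantCoeff : MvPowerSeries (Fin n) A →+* A)) ^ m, g x = 0) ∧
        ∀ i, g (MvPowerSeries.X i) = z i := by
  constructor
  · rintro f ⟨m, hm⟩ i
    refine ⟨m, ?_⟩
    rw [← map_pow]
    apply hm
    apply Ideal.pow_mem_pow
    apply Ideal.mem_sup_right
    rw [RingHom.mem_ker]
    simp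
  · intro z hz
    obtain ⟨k, hk⟩ := hE
    choose e he using hz
    let N := Finset.univ.sup e + 2
    have hzN : ∀ i, z i ^ N = 0 := fun i =>
      pow_eq_zero_of_le (by
        have : e i ≤ Finset.univ.sup e := Finset.le_sup (Finset.mem_univ i)
        omega) (he i)
    refine ⟨gHom z N (by omega) hzN, ⟨⟨(box n N).degree + k, ?_⟩, ?_⟩, ?_⟩
    · intro x hx
      exact gHom_eq_zero_of_mem 𝔞 k hk z N (by omega) hzN x hx
    · intro i
      exact gHom_X z N (by omega) hzN i
    · rintro g' ⟨-, hg'⟩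
      ext F
      exact apply_eq g' z hg' N (by omega) hzN F

end Aux

/-- Let A carry the 𝔞-adic topology, B = A[[T_1, …, T_n]] the product topology (the adic topology of 𝔞B
+ (T_1, …, T_n)), and let E be a discrete topological A-algebra (a power of 𝔞 kills E). (i) If f : B
→ E is a continuous A-algebra homomorphism then each f(T_i) is nilpotent. (ii) Conversely, for every
family (z_i) of nilpotent elements of E there is one and only one continuous A-algebra homomorphism
g : B → E with g(T_i) = z_i for all i. -/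
theorem result (A : Type u) [CommRing A] (𝔞 : Ideal A) (n : ℕ) (E : Type u) [CommRing E]
    [Algebra A E] (hE : ∃ k : ℕ, (𝔞 ^ k).map (algebraMap A E) = ⊥) :
    (∀ f : MvPowerSeries (Fin n) A →ₐ[A] E,
      (∃ m : ℕ, ∀ x ∈ (𝔞.map (MvPowerSeries.C : A →+* MvPowerSeries (Fin n) A) ⊔
        RingHom.ker (MvPowerSeries.constantCoeff : MvPowerSeries (Fin n) A →+* A)) ^ m, f x = 0) →
      ∀ i, IsNilpotent (f (MvPowerSeries.X i))) ∧
    ∀ z : Fin n → E, (∀ i, IsNilpotent (z i)) →
      ∃! g : MvPowerSeries (Fin n) A →ₐ[A] E,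
        (∃ m : ℕ, ∀ x ∈ (𝔞.map (MvPowerSeries.C : A →+* MvPowerSeries (Fin n) A) ⊔
          RingHom.ker (MvPowerSeries.constantCoeff : MvPowerSeries (Fin n) A →+* A)) ^ m, g x = 0) ∧
        ∀ i, g (MvPowerSeries.X i) = z i := by
  exact Aux.main A 𝔞 n E hE

end Groth.Agent.S4555
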