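import Groth.Statements.S4556
import Mathlib.RingTheory.Smooth.Basic
import Mathlib.Tactic

set_option autoImplicit false
universe u
open EGA41

namespace Groth.Agent.S4556

/-- Let B be a formally smooth A-algebra, E and E' two A-algebras, R (resp. R') a nilpotent ideal of E
(resp. E'), f : E → E' a surjective A-algebra homomorphism with f(R) = R', and f' : E/R → E'/R' the
induced homomorphism. Let u : B → E/R be an A-algebra homomorphism and v' : B → E' an A-algebra
homomorphism through which f' ∘ u factors (v' followed by E' → E'/R' equals f' ∘ u). Then there is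
an A-algebra homomorphism v : B → E with f ∘ v = v'. (The published statement assumes only f(R) ⊆
R'; in that form it fails for B = ℚ[x, x⁻¹], E = ℚ[t], E' = ℚ[t]/(t²), R = 0, R' = (t), u : x ↦ 1
and v' : x ↦ 1 + t, since any v sends x to a unit of ℚ[t], a constant; the argument identifies R'
with the image of R, and that equality is assumed here.) -/
theorem result {A B E E' : Type u} [CommRing A] [CommRing B] [Algebra A B]
    [Algebra.FormallySmooth A B] [CommRing E] [CommRing E'] [Algebra A E] [Algebra A E']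
    (R : Ideal E) (R' : Ideal E') (hR : IsNilpotent R) (hR' : IsNilpotent R')
    (f : E →ₐ[A] E') (hf : Function.Surjective f) (hfR : R.map f.toRingHom = R')
    (u : B →ₐ[A] E ⧸ R) (v' : B →ₐ[A] E')
    (huv : (Ideal.Quotient.mkₐ A R').comp v' =
      (Ideal.quotientMapₐ R' f (fun x hx => hfR.le (Ideal.mem_map_of_mem f.toRingHom hx))).comp u) :
    ∃ v : B →ₐ[A] E, f.comp v = v' := by
  classical
  let f' : E ⧸ R →ₐ[A] E' ⧸ R' :=
    Ideal.quotientMapₐ R' f (fun x hx => hfR.le (Ideal.mem_map_of_mem f.toRingHom hx))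
  let φ : (E ⧸ R) × E' →ₐ[A] E' ⧸ R' := f'.comp (AlgHom.fst A (E ⧸ R) E')
  let ψ : (E ⧸ R) × E' →ₐ[A] E' ⧸ R' := (Ideal.Quotient.mkₐ A R').comp (AlgHom.snd A (E ⧸ R) E')
  let P : Subalgebra A ((E ⧸ R) × E') := AlgHom.equalizer φ ψ
  have hmemP : ∀ z : (E ⧸ R) × E', z ∈ P ↔ f' z.1 = Ideal.Quotient.mk R' z.2 := fun z => Iff.rfl
  -- the comparison map `E → P`
  let g0 : E →ₐ[A] (E ⧸ R) × E' := AlgHom.prod (Ideal.Quotient.mkₐ A R) f
  have hg0 : ∀ e : E, g0 e ∈ P := by
    intro e
    rw [hmemP]
    rfl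
  let g : E →ₐ[A] P := g0.codRestrict P hg0
  have hgsurj : Function.Surjective g := by
    rintro ⟨⟨eb, e'⟩, hz⟩
    rw [hmemP] at hz
    obtain ⟨e, rfl⟩ := Ideal.Quotient.mk_surjective eb
    have h1 : Ideal.Quotient.mk R' (f e) = Ideal.Quotient.mk R' e' := hz
    have h2 : f e - e' ∈ R' := Ideal.Quotient.eq.1 h1
    rw [← hfR] at h2
    obtain ⟨r, hr, hr'⟩ := (Ideal.mem_map_iff_of_surjective f.toRingHom hf).1 h2
    refine ⟨e - r, ?_⟩
    apply Subtype.ext
    change g0 (e - r) = (Ideal.Quotient.mk R e, e')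
    refine Prod.ext ?_ ?_
    · change Ideal.Quotient.mk R (e - r) = Ideal.Quotient.mk R e
      rw [map_sub, Ideal.Quotient.eq_zero_iff_mem.2 hr, sub_zero]
    · change f (e - r) = e'
      have hr'' : f r = f e - e' := hr'
      rw [map_sub, hr'']
      ring
  have hker : RingHom.ker (g : E →+* P) ≤ R := by
    intro x hx
    rw [RingHom.mem_ker] at hx
    have h1 : (g x : (E ⧸ R) × E').1 = 0 := by
      have : (g x : (E ⧸ R) × E') = 0 := by
        rw [show (g : E →+* P) x = g x from rfl] at hx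
        rw [hx]; rfl
      rw [this]; rfl
    exact Ideal.Quotient.eq_zero_iff_mem.1 h1
  have hnil : IsNilpotent (RingHom.ker (g : E →+* P)) := by
    obtain ⟨n, hn⟩ := hR
    refine ⟨n, ?_⟩
    rw [Ideal.zero_eq_bot, ← le_bot_iff]
    rw [Ideal.zero_eq_bot] at hn
    rw [← hn]
    exact Ideal.pow_right_mono hker n
  -- the map `B → P`
  let h0 : B →ₐ[A] (E ⧸ R) × E' := AlgHom.prod u v'
  have hh0 : ∀ b : B, h0 b ∈ P := by
    intro b
    rw [hmemP]
    have := AlgHom.congr_fun huv b
    exact this.symm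
  let h : B →ₐ[A] P := h0.codRestrict P hh0
  refine ⟨Algebra.FormallySmooth.liftOfSurjective h g hgsurj hnil, ?_⟩
  ext b
  have key := Algebra.FormallySmooth.liftOfSurjective_apply h g hgsurj hnil b
  have := congrArg (fun z : P => (z : (E ⧸ R) × E').2) key
  exact this

end Groth.Agent.S4556
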