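import Groth.Statements.S4561
import Mathlib
-- import your own Groth.Agent.* helpers here

set_option autoImplicit false
universe u
open EGA41

namespace Groth.Agent.S4561

namespace Aux

section field
variable (p : ℕ) {k₀ K₀ : Type u} [Field k₀] [Field K₀] [Algebra k₀ K₀]

/-- `K₀^p` as a subfield -/
abbrev F0 : Subfield K₀ := Subfield.closure (Set.range fun y : K₀ => y ^ p)

lemma algebraMap_mem_F0 (c : k₀) (hc : c ∈ Subfield.closure (Set.range fun x : k₀ => x ^ p)) :
    algebraMap k₀ K₀ c ∈ F0 p (K₀ := K₀) := by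
  have h1 : algebraMap k₀ K₀ c ∈ (Subfield.closure (Set.range fun x : k₀ => x ^ p)).map
      (algebraMap k₀ K₀) := ⟨c, hc, rfl⟩
  rw [RingHom.map_field_closure] at h1
  refine Subfield.closure_mono ?_ h1
  rintro _ ⟨_, ⟨x, rfl⟩, rfl⟩
  exact ⟨algebraMap k₀ K₀ x, by simp⟩

variable {s : ℕ} (b : Fin s → k₀)
  (hb : Submodule.span (Subfield.closure (Set.range fun x : k₀ => x ^ p)) (Set.range b) = ⊤)

/-- the `K₀^p`-span of the images of the `b j` -/
noncomputable def V : Submodule (F0 p (K₀ := K₀)) K₀ :=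
  Submodule.span (F0 p (K₀ := K₀)) (Set.range fun j => algebraMap k₀ K₀ (b j))

include hb in
lemma algebraMap_mem_V (x : k₀) : algebraMap k₀ K₀ x ∈ V p (K₀ := K₀) b := by
  have hx : x ∈ Submodule.span (Subfield.closure (Set.range fun x : k₀ => x ^ p)) (Set.range b) := by
    rw [hb]; trivial
  rw [Submodule.mem_span_range_iff_exists_fun] at hx
  obtain ⟨c, rfl⟩ := hx
  rw [map_sum]
  apply Submodule.sum_mem
  intro j _
  have h1 : algebraMap k₀ K₀ (c j • b j) =
      (⟨algebraMap k₀ K₀ (c j : k₀), algebraMap_mem_F0 p _ (c j).2⟩ : F0 p (K₀ := K₀)) •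
        algebraMap k₀ K₀ (b j) := by
    rw [Subfield.smul_def, Subfield.smul_def, smul_eq_mul, smul_eq_mul, map_mul]
  rw [h1]
  exact Submodule.smul_mem _ _ (Submodule.subset_span ⟨j, rfl⟩)

include hb in
lemma mul_mem_V (x y : K₀) (hx : x ∈ V p (K₀ := K₀) b) (hy : y ∈ V p (K₀ := K₀) b) :
    x * y ∈ V p (K₀ := K₀) b := by
  unfold V at hx hy
  induction hx using Submodule.span_induction with
  | mem x hx =>
    obtain ⟨i, rfl⟩ := hx
    induction hy using Submodule.span_induction with
    | mem y hy =>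
      obtain ⟨j, rfl⟩ := hy
      show algebraMap k₀ K₀ (b i) * algebraMap k₀ K₀ (b j) ∈ _
      rw [← map_mul]
      exact algebraMap_mem_V p b hb _
    | zero => rw [mul_zero]; exact Submodule.zero_mem _
    | add y z _ _ hy hz => rw [mul_add]; exact Submodule.add_mem _ hy hz
    | smul r y _ hy => rw [mul_smul_comm]; exact Submodule.smul_mem _ _ hy
  | zero => rw [zero_mul]; exact Submodule.zero_mem _
  | add x z _ _ hx hz => rw [add_mul]; exact Submodule.add_mem _ hx hz
  | smul r x _ hx => rw [smul_mul_assoc]; exact Submodule.smul_mem _ _ hx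

include hb in
lemma inv_mem_V (x : K₀) (hx : x ∈ V p (K₀ := K₀) b) : x⁻¹ ∈ V p (K₀ := K₀) b := by
  by_cases h0 : x = 0
  · rw [h0, inv_zero]; exact Submodule.zero_mem _
  haveI : Module.Finite (F0 p (K₀ := K₀)) (V p (K₀ := K₀) b) :=
    Module.Finite.span_of_finite _ (Set.finite_range _)
  let m : V p (K₀ := K₀) b →ₗ[F0 p (K₀ := K₀)] V p (K₀ := K₀) b :=
    { toFun := fun y => ⟨x * y, mul_mem_V p b hb x y hx y.2⟩
      map_add' := fun y z => Subtype.ext (mul_add x y z)
      map_smul' := fun r y => Subtype.ext (mul_smul_comm r x (y : K₀)) }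
  have hinj : Function.Injective m := by
    intro y z hyz
    have h1 : x * (y : K₀) = x * (z : K₀) := congrArg Subtype.val hyz
    exact Subtype.ext (mul_left_cancel₀ h0 h1)
  have hsurj := LinearMap.surjective_of_injective hinj
  have h1 : (1 : K₀) ∈ V p (K₀ := K₀) b := by
    have := algebraMap_mem_V p (K₀ := K₀) b hb 1
    rwa [map_one] at this
  obtain ⟨y, hy⟩ := hsurj ⟨1, h1⟩
  have h2 : x * (y : K₀) = 1 := congrArg Subtype.val hy
  have h3 : x⁻¹ = (y : K₀) := inv_eq_of_mul_eq_one_right h2
  rw [h3]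
  exact y.2

include hb in
lemma F1_le_V (c : K₀)
    (hc : c ∈ Subfield.closure (Set.range (algebraMap k₀ K₀) ∪ Set.range fun y : K₀ => y ^ p)) :
    c ∈ V p (K₀ := K₀) b := by
  induction hc using Subfield.closure_induction with
  | mem x hx =>
    rcases hx with ⟨y, rfl⟩ | ⟨y, rfl⟩
    · exact algebraMap_mem_V p b hb y
    · have h1 : (1 : K₀) ∈ V p (K₀ := K₀) b := by
        have := algebraMap_mem_V p (K₀ := K₀) b hb 1
        rwa [map_one] at this
      have h2 : y ^ p = (⟨y ^ p, Subfield.subset_closure ⟨y, rfl⟩⟩ : F0 p (K₀ := K₀)) • (1 : K₀) := by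
        rw [Subfield.smul_def, smul_eq_mul, mul_one]
      show y ^ p ∈ _
      rw [h2]
      exact Submodule.smul_mem _ _ h1
  | one =>
    have := algebraMap_mem_V p (K₀ := K₀) b hb 1
    rwa [map_one] at this
  | add x y _ _ hx hy => exact Submodule.add_mem _ hx hy
  | neg x _ hx => exact Submodule.neg_mem _ hx
  | inv x _ hx => exact inv_mem_V p b hb x hx
  | mul x y _ _ hx hy => exact mul_mem_V p b hb x y hx hy

include hb in
lemma decomp (c : K₀)
    (hc : c ∈ Subfield.closure (Set.range (algebraMap k₀ K₀) ∪ Set.range fun y : K₀ => y ^ p)) :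
    ∃ d : Fin s → K₀, (∀ j, d j ∈ F0 p (K₀ := K₀)) ∧ c = ∑ j, d j * algebraMap k₀ K₀ (b j) := by
  have h1 := F1_le_V p b hb c hc
  unfold V at h1
  rw [Submodule.mem_span_range_iff_exists_fun] at h1
  obtain ⟨d, hd⟩ := h1
  refine ⟨fun j => (d j : K₀), fun j => (d j).2, ?_⟩
  rw [← hd]
  apply Finset.sum_congr rfl
  intro j _
  rw [Subfield.smul_def, smul_eq_mul]

end field

section series
variable (p : ℕ) [Fact p.Prime] {k₀ K₀ : Type u} [Field k₀] [Field K₀] [Algebra k₀ K₀] [CharP k₀ p]

theorem main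
    (hfin : Module.Finite (Subfield.closure (Set.range fun x : k₀ => x ^ p)) k₀) (r : ℕ) :
    Subfield.closure (algebraMap (MvPowerSeries (Fin r) K₀) (FractionRing (MvPowerSeries (Fin r) K₀)) ''
        {f | ∀ n, MvPowerSeries.coeff n f ∈
          Subfield.closure (Set.range (algebraMap k₀ K₀) ∪ Set.range fun y : K₀ => y ^ p)}) =
      Subfield.closure
        (Set.range (algebraMap k₀ (FractionRing (MvPowerSeries (Fin r) K₀))) ∪
          (Subfield.closure (algebraMap (MvPowerSeries (Fin r) K₀) (FractionRing (MvPowerSeries (Fin r) K₀)) ''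
            {f | ∀ n, MvPowerSeries.coeff n f ∈ Subfield.closure (Set.range fun y : K₀ => y ^ p)}) :
            Set (FractionRing (MvPowerSeries (Fin r) K₀)))) := by
  obtain ⟨s, b, hb⟩ := Module.Finite.exists_fin (R := Subfield.closure (Set.range fun x : k₀ => x ^ p))
    (M := k₀)
  apply le_antisymm
  · rw [Subfield.closure_le]
    rintro _ ⟨f, hf, rfl⟩
    -- decompose coefficients
    choose d hd1 hd2 using fun n => decomp p b hb (MvPowerSeries.coeff n f) (hf n)
    let fj : Fin s → MvPowerSeries (Fin r) K₀ := fun j n => d n j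
    have hfeq : f = ∑ j, MvPowerSeries.C (algebraMap k₀ K₀ (b j)) * fj j := by
      ext n
      rw [map_sum, hd2 n]
      apply Finset.sum_congr rfl
      intro j _
      rw [MvPowerSeries.coeff_C_mul, mul_comm]
      rfl
    rw [SetLike.mem_coe, hfeq, map_sum]
    apply Subfield.sum_mem
    intro j _
    rw [map_mul]
    apply Subfield.mul_mem
    · apply Subfield.subset_closure
      left
      refine ⟨b j, ?_⟩
      rw [IsScalarTower.algebraMap_apply k₀ (MvPowerSeries (Fin r) K₀)
        (FractionRing (MvPowerSeries (Fin r) K₀)), MvPowerSeries.algebraMap_apply]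
    · apply Subfield.subset_closure
      right
      apply Subfield.subset_closure
      refine ⟨_, ?_, rfl⟩
      intro n
      exact hd1 n j
  · rw [Subfield.closure_le]
    rintro x (⟨c, rfl⟩ | hx)
    · apply Subfield.subset_closure
      refine ⟨MvPowerSeries.C (algebraMap k₀ K₀ c), ?_, ?_⟩
      · intro n
        rw [MvPowerSeries.coeff_C]
        split_ifs
        · exact Subfield.subset_closure (Or.inl ⟨c, rfl⟩)
        · exact Subfield.zero_mem _
      · rw [IsScalarTower.algebraMap_apply k₀ (MvPowerSeries (Fin r) K₀)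
          (FractionRing (MvPowerSeries (Fin r) K₀)), MvPowerSeries.algebraMap_apply]
    · refine Subfield.closure_mono ?_ hx
      rintro _ ⟨f, hf, rfl⟩
      refine ⟨f, ?_, rfl⟩
      intro n
      exact Subfield.closure_mono Set.subset_union_right (hf n)

end series

end Aux

/-- Let k₀ be a field of characteristic p > 0 with [k₀ : k₀^p] < ∞ and K₀ an extension of k₀. Inside
K₀((T_1, …, T_r)) one has (k₀(K₀^p))((T_1, …, T_r)) = k₀(K₀^p((T_1, …, T_r))); here, for a subfield
F of K₀, F((T)) denotes the subfield of the fraction field of K₀[[T]] generated by the power series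
with all coefficients in F. -/
theorem result (p : ℕ) [Fact p.Prime] {k₀ K₀ : Type u} [Field k₀] [Field K₀] [Algebra k₀ K₀] [CharP k₀ p]
    (hfin : Module.Finite (Subfield.closure (Set.range fun x : k₀ => x ^ p)) k₀) (r : ℕ) :
    Subfield.closure (algebraMap (MvPowerSeries (Fin r) K₀) (FractionRing (MvPowerSeries (Fin r) K₀)) ''
        {f | ∀ n, MvPowerSeries.coeff n f ∈
          Subfield.closure (Set.range (algebraMap k₀ K₀) ∪ Set.range fun y : K₀ => y ^ p)}) =
      Subfield.closure
        (Set.range (algebraMap k₀ (FractionRing (MvPowerSeries (Fin r) K₀))) ∪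
          (Subfield.closure (algebraMap (MvPowerSeries (Fin r) K₀) (FractionRing (MvPowerSeries (Fin r) K₀)) ''
            {f | ∀ n, MvPowerSeries.coeff n f ∈ Subfield.closure (Set.range fun y : K₀ => y ^ p)}) :
            Set (FractionRing (MvPowerSeries (Fin r) K₀)))) := by
  exact Aux.main p hfin r

end Groth.Agent.S4561
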