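import Groth.Statements.S4564
import Mathlib
import Groth.Agent.Lib.Helper8.Nag1
import Groth.Agent.Lib.Helper7.Hensel.IntegralDomain
import Groth.Agent.Lib.Helper7.Adic.Cofinal
import Groth.Agent.S3866
-- import your own Groth.Agent.* helpers here

set_option autoImplicit false
universe u
open CAlg

namespace Groth.Agent.S4564

namespace Aux

theorem main {A K' : Type u} [CommRing A]
    [IsDomain A] [IsLocalRing A] [IsNoetherianRing A] [IsAdicComplete (IsLocalRing.maximalIdeal A) A]
    [Field K'] [Algebra A K'] [Algebra (FractionRing A) K'] [IsScalarTower A (FractionRing A) K']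
    [FiniteDimensional (FractionRing A) K'] :
    ∃ _ : IsLocalRing (integralClosure A K'),
      IsAdicComplete (IsLocalRing.maximalIdeal (integralClosure A K')) (integralClosure A K') := by
  have hN2 : CAlg.IsN2 A := Groth.Agent.Helper8.Nag.isN2_of_complete_domain A
  haveI hfin : Module.Finite A (integralClosure A K') := hN2 K' inferInstance
  haveI hens : HenselianLocalRing A :=
    Groth.Agent.Helper7.Hensel.henselianLocalRing_of_henselianRing inferInstance
  haveI hloc : IsLocalRing (integralClosure A K') :=
    Groth.Agent.Helper7.Hensel.isLocalRing_of_isIntegral_domain A (integralClosure A K')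
  refine ⟨hloc, ?_⟩
  haveI h1 : IsAdicComplete (IsLocalRing.maximalIdeal A) (integralClosure A K') :=
    Groth.Agent.S3866.result A (IsLocalRing.maximalIdeal A) (integralClosure A K')
  have h2 : IsAdicComplete ((IsLocalRing.maximalIdeal A).map (algebraMap A (integralClosure A K')))
      (integralClosure A K') := (IsAdicComplete.map_algebraMap_iff _ _).mpr h1
  have hle : (IsLocalRing.maximalIdeal A).map (algebraMap A (integralClosure A K')) ≤
      IsLocalRing.maximalIdeal (integralClosure A K') :=
    Groth.Agent.Helper7.Hensel.map_maximalIdeal_le_maximalIdeal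
  haveI : IsNoetherianRing (integralClosure A K') := IsNoetherianRing.of_finite A _
  obtain ⟨N, hN⟩ : ∃ N, IsLocalRing.maximalIdeal (integralClosure A K') ^ N ≤
      (IsLocalRing.maximalIdeal A).map (algebraMap A (integralClosure A K')) := by
    apply Ideal.exists_pow_le_of_le_radical_of_fg_radical _ (IsNoetherian.noetherian _)
    intro x hx
    exact Groth.Agent.Helper7.Hensel.pow_mem_map_maximalIdeal_of_mem_maximalIdeal x hx
  exact Groth.Agent.Helper7.Adic.isAdicComplete_of_le_of_pow_le _ _ hle N hN

end Aux

/-- Let A be a complete Noetherian local domain with fraction field K and K' a finite extension of K.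
Then the integral closure of A in K' is a local ring, complete for the adic topology of its maximal
ideal. -/
theorem result {A K' : Type u} [CommRing A]
    [IsDomain A] [IsLocalRing A] [IsNoetherianRing A] [IsAdicComplete (IsLocalRing.maximalIdeal A) A]
    [Field K'] [Algebra A K'] [Algebra (FractionRing A) K'] [IsScalarTower A (FractionRing A) K']
    [FiniteDimensional (FractionRing A) K'] :
    ∃ _ : IsLocalRing (integralClosure A K'),
      IsAdicComplete (IsLocalRing.maximalIdeal (integralClosure A K')) (integralClosure A K') := by
  exact Aux.main

end Groth.Agent.S4564
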