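import Groth.Statements.S4565
import Mathlib
import Groth.Agent.Lib.Helper8.Nag10
-- import your own Groth.Agent.* helpers here

set_option autoImplicit false
universe u
open TensorProduct
open CAlg

namespace Groth.Agent.S4565

open TensorProduct
namespace Aux

theorem main {A K' R : Type u}
    [CommRing A] [IsDomain A] [IsLocalRing A] [IsNoetherianRing A]
    [CommRing R] [Algebra (AdicCompletion (IsLocalRing.maximalIdeal A) A) R]
    [IsFractionRing (AdicCompletion (IsLocalRing.maximalIdeal A) A) R] [Algebra A R]
    [IsScalarTower A (AdicCompletion (IsLocalRing.maximalIdeal A) A) R]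
    [Field K'] [Algebra A K'] [Algebra (FractionRing A) K'] [IsScalarTower A (FractionRing A) K']
    [FiniteDimensional (FractionRing A) K'] (h : IsReduced (R ⊗[A] K')) :
    Module.Finite A (integralClosure A K') := by
  refine Groth.Agent.Lib.Helper6.Japanese.key_n2 A K' fun A' hA' => ?_
  haveI : Module.Finite A A' := hA'
  apply Groth.Agent.Helper8.Nag.isN1_of_finite_of_isReduced_tensor A A'
  haveI : IsReduced (K' ⊗[A] R) :=
    isReduced_of_injective (Algebra.TensorProduct.comm A K' R).toRingHom
      (Algebra.TensorProduct.comm A K' R).injective
  haveI : Module.Flat A (FractionRing A) := IsLocalization.flat _ (nonZeroDivisors A)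
  haveI : Module.Flat A K' := Module.Flat.trans A (FractionRing A) K'
  have h1 : Function.Injective
      (Algebra.TensorProduct.map (AlgHom.id A K') (IsScalarTower.toAlgHom A (EGA4.Cpl A) R)) :=
    Module.Flat.lTensor_preserves_injective_linearMap (M := K')
      (IsScalarTower.toAlgHom A (EGA4.Cpl A) R).toLinearMap
      (IsFractionRing.injective (EGA4.Cpl A) R)
  haveI : IsReduced (K' ⊗[A] EGA4.Cpl A) := isReduced_of_injective _ h1
  have h2 : Function.Injective
      (Algebra.TensorProduct.map A'.val (AlgHom.id A (EGA4.Cpl A))) :=
    Module.Flat.rTensor_preserves_injective_linearMap (M := EGA4.Cpl A) A'.val.toLinearMap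
      Subtype.val_injective
  exact isReduced_of_injective _ h2

end Aux

/-- Let A be a Noetherian local domain with fraction field K whose adic completion Â is reduced, R the
total ring of fractions of Â and K' a finite extension of K. If R ⊗_A K' (equal to R ⊗_K K', since K
is a localization of A and the nonzero elements of A are invertible in R) is reduced, then the
integral closure of A in K' is a finitely generated A-module. -/
theorem result {A K' R : Type u}
    [CommRing A] [IsDomain A] [IsLocalRing A] [IsNoetherianRing A]
    (hred : IsReduced (AdicCompletion (IsLocalRing.maximalIdeal A) A))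
    [CommRing R] [Algebra (AdicCompletion (IsLocalRing.maximalIdeal A) A) R]
    [IsFractionRing (AdicCompletion (IsLocalRing.maximalIdeal A) A) R] [Algebra A R]
    [IsScalarTower A (AdicCompletion (IsLocalRing.maximalIdeal A) A) R]
    [Field K'] [Algebra A K'] [Algebra (FractionRing A) K'] [IsScalarTower A (FractionRing A) K']
    [FiniteDimensional (FractionRing A) K'] (h : IsReduced (R ⊗[A] K')) :
    Module.Finite A (integralClosure A K') := by
  exact Aux.main h

end Groth.Agent.S4565
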