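import Groth.Statements.S4569
import Mathlib.RingTheory.Localization.Ideal

set_option autoImplicit false
universe u
open CAlg

namespace Groth.Agent.S4569

/-- Let A be a ring, x a non-zero-divisor of A with p = xA prime. For every n > 0 the inverse image in A
of x^n A_p is x^n A. -/
theorem result {A : Type u} [CommRing A] (x : A)
    (hx : x ∈ nonZeroDivisors A) [(Ideal.span ({x} : Set A)).IsPrime] (n : ℕ) (hn : 0 < n) :
    Ideal.comap (algebraMap A (Localization.AtPrime (Ideal.span ({x} : Set A))))
      (Ideal.map (algebraMap A (Localization.AtPrime (Ideal.span ({x} : Set A)))) (Ideal.span ({x ^ n} : Set A))) =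
      Ideal.span ({x ^ n} : Set A) := by
  have key : ∀ (k : ℕ) (s a : A), s ∉ Ideal.span ({x} : Set A) →
      s * a ∈ Ideal.span ({x ^ k} : Set A) → a ∈ Ideal.span ({x ^ k} : Set A) := by
    intro k
    induction k with
    | zero => intro s a _ _; simp
    | succ k ih =>
      intro s a hs hsa
      rw [Ideal.mem_span_singleton'] at hsa
      obtain ⟨b, hb⟩ := hsa
      have h1 : s * a ∈ Ideal.span ({x} : Set A) := by
        rw [← hb, pow_succ, ← mul_assoc]
        exact Ideal.mul_mem_left _ _ (Ideal.subset_span rfl)
      have h2 : a ∈ Ideal.span ({x} : Set A) :=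
        (Ideal.IsPrime.mem_or_mem inferInstance h1).resolve_left hs
      rw [Ideal.mem_span_singleton'] at h2
      obtain ⟨a', rfl⟩ := h2
      have h3 : s * a' = b * x ^ k := by
        apply (mul_cancel_right_mem_nonZeroDivisors hx).mp
        rw [pow_succ, ← mul_assoc] at hb
        rw [hb]; ring
      have h4 : a' ∈ Ideal.span ({x ^ k} : Set A) := by
        apply ih s a' hs
        rw [h3]
        exact Ideal.mul_mem_left _ _ (Ideal.subset_span rfl)
      rw [Ideal.mem_span_singleton'] at h4 ⊢
      obtain ⟨c, hc⟩ := h4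
      exact ⟨c, by rw [pow_succ, ← mul_assoc, hc]⟩
  apply le_antisymm
  · intro a ha
    rw [Ideal.mem_comap, IsLocalization.mem_map_algebraMap_iff
      (Ideal.span ({x} : Set A)).primeCompl] at ha
    obtain ⟨⟨⟨c, hc⟩, ⟨s, hs⟩⟩, h⟩ := ha
    simp only at h
    rw [← map_mul, IsLocalization.eq_iff_exists (Ideal.span ({x} : Set A)).primeCompl] at h
    obtain ⟨⟨t, ht⟩, h⟩ := h
    simp only at h
    apply key n (t * s) a
    · intro hts
      rcases Ideal.IsPrime.mem_or_mem inferInstance hts with h' | h'
      · exact ht h'
      · exact hs h'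
    · rw [show t * s * a = t * (a * s) by ring, h]
      exact Ideal.mul_mem_left _ _ hc
  · exact Ideal.le_comap_map

end Groth.Agent.S4569
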