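import Groth.Statements.S4575
import Mathlib
import Groth.Agent.Lib.Helper8.RegularLocal3

set_option autoImplicit false
universe u
open IsLocalRing
open EGA41

namespace Groth.Agent.S4575

/-- Let R be a regular local ring with maximal ideal m and n a proper ideal with R/n regular. Then
(n/n²) ⊗_R K → (m/m²) ⊗_R K is injective, K the residue field; stated in the equivalent form n ∩ m²
= m·n (the kernel of n/mn → m/m² is (n ∩ m²)/mn). -/
theorem result {R : Type u} [CommRing R] [IsRegularLocalRing R]
    (n : Ideal R) (hn : n ≠ ⊤) (hreg : IsRegularRing (R ⧸ n)) :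
    n ⊓ maximalIdeal R ^ 2 = maximalIdeal R * n := by
  classical
  have hnm : n ≤ maximalIdeal R := IsLocalRing.le_maximalIdeal hn
  have hloc : IsLocalRing (R ⧸ n) := Groth.Agent.Helper8.RLR.isLocalRing_quotient hnm
  have hregq : IsRegularLocalRing (R ⧸ n) := IsRegularLocalRing.of_isRegularRing_of_isLocalRing _
  obtain ⟨d, hd, -⟩ := Groth.Agent.Helper8.RLR.exists_nat_eq
    (ringKrullDim_nonneg_of_nontrivial (R := R)) (ringKrullDim_le_spanFinrank_maximalIdeal R)
  obtain ⟨x, c, hc, hxm, hxn⟩ :=
    Groth.Agent.Helper8.RLR.exists_generators_of_quotient_regular R d hd n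
  have hmem : ∀ i, x i ∈ maximalIdeal R := fun i => hxm ▸ Ideal.subset_span ⟨i, rfl⟩
  have hfr : Module.finrank (ResidueField R) (CotangentSpace R) = d := by
    have h1 : ((maximalIdeal R).spanFinrank : WithBot ℕ∞) = ringKrullDim R :=
      IsRegularLocalRing.spanFinrank_maximalIdeal
    rw [spanFinrank_maximalIdeal_eq_finrank_cotangentSpace, hd] at h1
    exact_mod_cast h1
  have hli := Groth.Agent.Helper8.RLR.linearIndependent_of_span_eq
    (fun i => (⟨x i, hmem i⟩ : maximalIdeal R)) hxm (by simp [hfr])
  have hli' := hli.comp (Fin.castLE hc) (Fin.castLE_injective hc)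
  apply le_antisymm
  · rintro z ⟨hzn, hzm⟩
    rw [hxn] at hzn
    obtain ⟨a, rfl⟩ := (Ideal.mem_span_range_iff_exists_fun).mp hzn
    have hz0 : (maximalIdeal R).toCotangent
        (∑ i : Fin c, a i • (⟨x (Fin.castLE hc i), hmem _⟩ : maximalIdeal R)) = 0 := by
      rw [Ideal.toCotangent_eq_zero]
      convert hzm using 1
      simp
    rw [map_sum] at hz0
    have hz1 : ∑ i : Fin c, (IsLocalRing.residue R (a i)) •
        ((fun i => (maximalIdeal R).toCotangent (⟨x i, hmem i⟩ : maximalIdeal R)) ∘
          Fin.castLE hc) i = 0 := by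
      rw [← hz0]
      refine Finset.sum_congr rfl fun i _ => ?_
      rw [map_smul]
      rfl
    have hz2 := Fintype.linearIndependent_iff.mp hli' _ hz1
    refine Ideal.sum_mem _ fun i _ => ?_
    have hai : a i ∈ maximalIdeal R := (IsLocalRing.residue_eq_zero_iff _).mp (hz2 i)
    refine Ideal.mul_mem_mul hai ?_
    rw [hxn]
    exact Ideal.subset_span ⟨i, rfl⟩
  · refine le_inf Ideal.mul_le_right ?_
    rw [pow_two]
    exact Ideal.mul_mono_right hnm

end Groth.Agent.S4575
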