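import Groth.Statements.S4579
import Groth.Agent.Lib.Helper8.Jac4
import Groth.Agent.Lib.Helper8.PRad16

set_option autoImplicit false
universe u
open EGA41

namespace Groth.Agent.S4579

/-- Let k₀ be a field, k a separable (formally smooth) extension field of k₀ and C a k-algebra of finite
type. The following are equivalent: C is formally smooth over k₀ (discrete topologies); every C_p, p
prime, is formally smooth over k₀; every C_m, m maximal, is; C is geometrically regular over k₀.
(Geometric regularity is tested on finite extensions of k₀. The published statement quantifies the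
last condition over all extensions k' of k₀; for infinite ones the base change need not be
Noetherian, so it need not be regular in the Noetherian sense, and the printed proof passes through
the local rings as here.) -/
theorem result {k₀ k C : Type u} [Field k₀] [Field k] [Algebra k₀ k]
    [Algebra.FormallySmooth k₀ k] [CommRing C] [Algebra k C] [Algebra k₀ C] [IsScalarTower k₀ k C]
    [Algebra.FiniteType k C] :
    [Algebra.FormallySmooth k₀ C,
     ∀ (p : Ideal C) [p.IsPrime], Algebra.FormallySmooth k₀ (Localization.AtPrime p),
     ∀ (m : Ideal C) [m.IsMaximal], Algebra.FormallySmooth k₀ (Localization.AtPrime m),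
     CAlg.IsGeometricallyRegular k₀ C].TFAE := by
  classical
  obtain ⟨n, φ, hφ⟩ := (Algebra.FiniteType.iff_quotient_mvPolynomial'' (R := k) (S := C)).1
    inferInstance
  letI : Algebra (MvPolynomial (Fin n) k) C := φ.toRingHom.toAlgebra
  haveI : IsScalarTower k (MvPolynomial (Fin n) k) C :=
    IsScalarTower.of_algebraMap_eq (fun a => (φ.commutes a).symm)
  haveI : IsScalarTower k₀ (MvPolynomial (Fin n) k) C :=
    IsScalarTower.of_algebraMap_eq (fun a => by
      rw [IsScalarTower.algebraMap_apply k₀ k C,
        IsScalarTower.algebraMap_apply k₀ k (MvPolynomial (Fin n) k),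
        ← IsScalarTower.algebraMap_apply k (MvPolynomial (Fin n) k) C])
  haveI : Algebra.FormallySmooth k₀ (MvPolynomial (Fin n) k) :=
    Algebra.FormallySmooth.comp k₀ k (MvPolynomial (Fin n) k)
  have hsurj : Function.Surjective (algebraMap (MvPolynomial (Fin n) k) C) := hφ
  haveI : IsNoetherianRing C := Algebra.FiniteType.isNoetherianRing k C
  tfae_have 1 → 2 := fun h p _ => by
    haveI := h
    exact Groth.Agent.Helper8.Jac.formallySmooth_atPrime p
  tfae_have 2 → 3 := fun h m hm => by
    haveI := hm
    haveI : m.IsPrime := hm.isPrime
    exact h m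
  tfae_have 3 → 1 := fun h =>
    Groth.Agent.Helper8.Jac.formallySmooth_of_forall_maximal (A := k₀)
      (B := MvPolynomial (Fin n) k) hsurj h
  tfae_have 3 → 4 := fun h =>
    Groth.Agent.Helper8.PRad.isGeometricallyRegular_of_localizations (fun m hm => by
      haveI := hm
      haveI : m.IsPrime := hm.isPrime
      haveI := h m
      exact Groth.Agent.Helper8.PRad.isGeometricallyRegular_iff_isAdicFormallySmooth.2
        (Groth.Agent.Helper8.AdicFS.of_formallySmooth _))
  tfae_have 4 → 2 := fun h p _ =>
    Groth.Agent.Helper8.Jac.formallySmooth_atPrime_of_isAdicFormallySmooth (A := k₀)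
      (B := MvPolynomial (Fin n) k) hsurj p
      (Groth.Agent.Helper8.PRad.isGeometricallyRegular_iff_forall_isAdicFormallySmooth.1 h p)
  tfae_finish

end Groth.Agent.S4579
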