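import Groth.Statements.S4586
-- import your own Groth.Agent.* helpers here
import Mathlib
import Groth.Agent.Lib.Helper7.ProConsLib6

set_option autoImplicit false
universe u
open AlgebraicGeometry CategoryTheory Topology
open EGA41

namespace Groth.Agent.S4586

/-- Let f : X → Y be surjective and either quasi-compact or locally of finite presentation, E ⊆ Y. Then
E is locally constructible (resp. pro-constructible, resp. ind-constructible) if and only if f⁻¹(E)
is. -/
theorem result {X Y : Scheme.{u}} (f : X ⟶ Y) [Surjective f]
    (hf : QuasiCompact f ∨ LocallyOfFinitePresentation f) (E : Set Y) :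
    (IsLocallyConstructible E ↔ IsLocallyConstructible (f.base ⁻¹' E)) ∧
    (ProCons.IsProConstructible E ↔ ProCons.IsProConstructible (f.base ⁻¹' E)) ∧
    (ProCons.IsIndConstructible E ↔ ProCons.IsIndConstructible (f.base ⁻¹' E)) := by
  have hsurj : Function.Surjective f := f.surjective
  obtain ⟨hpro, hind⟩ := Groth.Agent.Helper7.ProConsLib.constructible_descent f hsurj hf E
  refine ⟨⟨fun h => Groth.Agent.Helper7.ProConsLib.isLocallyConstructible_preimage f h, ?_⟩,
    ⟨fun h => Groth.Agent.Helper7.ProConsLib.isProConstructible_preimage f h, hpro⟩,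
    ⟨fun h => Groth.Agent.Helper7.ProConsLib.isIndConstructible_preimage f h, hind⟩⟩
  intro h
  exact Groth.Agent.Helper7.ProConsLib.isLocallyConstructible_of_ind_of_pro Y
    (hind (Groth.Agent.Helper7.ProConsLib.isIndConstructible_of_isLocallyConstructible h))
    (hpro (Groth.Agent.Helper7.ProConsLib.isProConstructible_of_isLocallyConstructible h))

end Groth.Agent.S4586
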