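import Groth.Statements.S4587
-- import your own Groth.Agent.* helpers here
import Mathlib

set_option autoImplicit false
universe u
open AlgebraicGeometry CategoryTheory
open EGA41

namespace Groth.Agent.S4587

/-- A morphism of schemes f : X → Y is generizing if and only if, for every irreducible closed subset Y'
of Y, each irreducible component of f⁻¹(Y') has dense image in Y'. -/
theorem result {X Y : Scheme.{u}} (f : X ⟶ Y) :
    GeneralizingMap f.base ↔
      ∀ Y' : Set Y, IsClosed Y' → IsIrreducible Y' →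
        ∀ Z ∈ irreducibleComponents ↥(f.base ⁻¹' Y'), closure (f.base '' (Subtype.val '' Z)) = Y' := by
  constructor
  · intro hgen Y' hY'cl hY'irr Z hZ
    have hWcl : IsClosed (f.base ⁻¹' Y') := hY'cl.preimage f.continuous
    have hqs : QuasiSober ↥(f.base ⁻¹' Y') := hWcl.isClosedEmbedding_subtypeVal.quasiSober
    have hZirr : IsIrreducible Z := hZ.1
    have hZcl : IsClosed Z := isClosed_of_mem_irreducibleComponents Z hZ
    obtain ⟨ξ, hξ⟩ := QuasiSober.sober hZirr hZcl
    have hξZ : closure ({ξ} : Set ↥(f.base ⁻¹' Y')) = Z := hξ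
    obtain ⟨η, hη⟩ := QuasiSober.sober hY'irr hY'cl
    have hηY' : closure ({η} : Set Y) = Y' := hη
    have hfξ : f.base ξ.1 ∈ Y' := ξ.2
    have hsp : η ⤳ f.base ξ.1 := by
      rw [specializes_iff_mem_closure, hηY']
      exact hfξ
    obtain ⟨x', hx'ξ, hfx'⟩ := hgen hsp
    have hx'W : x' ∈ f.base ⁻¹' Y' := by
      change f.base x' ∈ Y'
      rw [hfx', ← hηY']
      exact subset_closure rfl
    let ξ' : ↥(f.base ⁻¹' Y') := ⟨x', hx'W⟩
    have hξ'ξ : ξ' ⤳ ξ := Topology.IsInducing.subtypeVal.specializes_iff.mp hx'ξ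
    have hsub : Z ≤ closure ({ξ'} : Set ↥(f.base ⁻¹' Y')) := by
      rw [← hξZ]
      exact specializes_iff_closure_subset.mp hξ'ξ
    have hle : closure ({ξ'} : Set ↥(f.base ⁻¹' Y')) ≤ Z := hZ.2 (isIrreducible_singleton.closure) hsub
    have hξ'Z : ξ' ∈ Z := hle (subset_closure rfl)
    apply Set.Subset.antisymm
    · apply closure_minimal _ hY'cl
      rintro _ ⟨_, ⟨w, -, rfl⟩, rfl⟩
      exact w.2
    · have hmono : closure ({η} : Set Y) ⊆ closure (f.base '' (Subtype.val '' Z)) := by
        apply closure_mono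
        intro z hz
        rw [Set.mem_singleton_iff] at hz
        subst hz
        exact ⟨x', ⟨ξ', hξ'Z, rfl⟩, hfx'⟩
      intro y hy
      apply hmono
      rw [hηY']
      exact hy
  · intro h x y' hy'
    have hY'cl : IsClosed (closure ({y'} : Set Y)) := isClosed_closure
    have hY'irr : IsIrreducible (closure ({y'} : Set Y)) := isIrreducible_singleton.closure
    have hWcl : IsClosed (f.base ⁻¹' closure ({y'} : Set Y)) := hY'cl.preimage f.continuous
    have hqs : QuasiSober ↥(f.base ⁻¹' closure ({y'} : Set Y)) :=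
      hWcl.isClosedEmbedding_subtypeVal.quasiSober
    have hxW : x ∈ f.base ⁻¹' closure ({y'} : Set Y) := specializes_iff_mem_closure.mp hy'
    let Z : Set ↥(f.base ⁻¹' closure ({y'} : Set Y)) :=
      irreducibleComponent (⟨x, hxW⟩ : ↥(f.base ⁻¹' closure ({y'} : Set Y)))
    have hZ : Z ∈ irreducibleComponents ↥(f.base ⁻¹' closure ({y'} : Set Y)) :=
      irreducibleComponent_mem_irreducibleComponents _
    have hcl := h (closure ({y'} : Set Y)) hY'cl hY'irr Z hZ
    obtain ⟨ξ, hξ⟩ := QuasiSober.sober hZ.1 (isClosed_of_mem_irreducibleComponents Z hZ)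
    have hξZ : closure ({ξ} : Set ↥(f.base ⁻¹' closure ({y'} : Set Y))) = Z := hξ
    have hξx : ξ ⤳ (⟨x, hxW⟩ : ↥(f.base ⁻¹' closure ({y'} : Set Y))) := by
      rw [specializes_iff_mem_closure, hξZ]
      exact mem_irreducibleComponent
    refine ⟨ξ.1, Topology.IsInducing.subtypeVal.specializes_iff.mpr hξx, ?_⟩
    -- the image of Z lies in the closure of the image of its generic point
    have hsub : f.base '' (Subtype.val '' Z) ⊆ closure ({f.base ξ.1} : Set Y) := by
      rintro _ ⟨_, ⟨w, hw, rfl⟩, rfl⟩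
      rw [← hξZ] at hw
      have h1 : ξ ⤳ w := specializes_iff_mem_closure.mpr hw
      have h2 : f.base ξ.1 ⤳ f.base w.1 :=
        (Topology.IsInducing.subtypeVal.specializes_iff.mpr h1).map f.continuous
      exact specializes_iff_mem_closure.mp h2
    have h3 : closure ({y'} : Set Y) ⊆ closure ({f.base ξ.1} : Set Y) := by
      intro z hz
      have hz' : z ∈ closure (f.base '' (Subtype.val '' Z)) := by
        rw [hcl]
        exact hz
      exact closure_minimal hsub isClosed_closure hz'
    have h4 : f.base ξ.1 ⤳ y' := specializes_iff_mem_closure.mpr (h3 (subset_closure rfl))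
    have h5 : y' ⤳ f.base ξ.1 := specializes_iff_mem_closure.mpr ξ.2
    exact (h4.antisymm h5).eq

end Groth.Agent.S4587
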