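import Groth.Statements.S4589
import Groth.Agent.S2480

set_option autoImplicit false
universe u
open IsLocalRing
open EGA41

namespace Groth.Agent.S4589

/-- Under the hypotheses of Nagata's Jacobian criterion — k a field of characteristic exponent p with k
finite over k^p, A a complete Noetherian local ring with residue field finite over a separable
extension K₀ of k, A a K₀-algebra formally smooth for its adic topology, q an ideal of A and B = A/q
— the set of primes n of B with B_n formally smooth over k for the adic topology of its maximal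
ideal is open in Spec B. -/
theorem result (p : ℕ) {k K₀ A : Type u} [Field k] [ExpChar k p]
    (hk : p = 1 ∨ Module.Finite (frobenius k p).fieldRange k)
    [Field K₀] [Algebra k K₀] [Algebra.IsGeometricallyReduced k K₀]
    [CommRing A] [IsLocalRing A] [IsNoetherianRing A] [IsAdicComplete (maximalIdeal A) A]
    [Algebra k A] [Algebra K₀ A] [IsScalarTower k K₀ A] [Module.Finite K₀ (ResidueField A)]
    (hA : CAlgX.IsAdicFormallySmooth K₀ A (maximalIdeal A))
    (q : Ideal A) :
    IsOpen {n : PrimeSpectrum (A ⧸ q) |
      CAlgX.IsAdicFormallySmooth k (Localization.AtPrime n.asIdeal) (maximalIdeal (Localization.AtPrime n.asIdeal))} := by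
  classical
  have key : ∀ (I J : Ideal (A ⧸ q)) [I.IsPrime] [J.IsPrime], I = J →
      (CAlgX.IsAdicFormallySmooth k (Localization.AtPrime I)
          (maximalIdeal (Localization.AtPrime I)) →
        CAlgX.IsAdicFormallySmooth k (Localization.AtPrime J)
          (maximalIdeal (Localization.AtPrime J))) := by
    intro I J _ _ h
    subst h
    exact id
  -- the prime of `A` under a prime of `A ⧸ q`
  have hprime : ∀ n : PrimeSpectrum (A ⧸ q),
      (n.asIdeal.comap (Ideal.Quotient.mk q)).IsPrime := fun n => Ideal.comap_isPrime _ _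
  have hle : ∀ n : PrimeSpectrum (A ⧸ q), q ≤ n.asIdeal.comap (Ideal.Quotient.mk q) := by
    intro n x hx
    rw [Ideal.mem_comap, Ideal.Quotient.eq_zero_iff_mem.mpr hx]
    exact zero_mem _
  have hmap : ∀ n : PrimeSpectrum (A ⧸ q),
      (n.asIdeal.comap (Ideal.Quotient.mk q)).map (Ideal.Quotient.mk q) = n.asIdeal :=
    fun n => Ideal.map_comap_of_surjective _ Ideal.Quotient.mk_surjective _
  rw [isOpen_iff_forall_mem_open]
  intro n hn
  haveI := hprime n
  haveI hmp : ((n.asIdeal.comap (Ideal.Quotient.mk q)).map (Ideal.Quotient.mk q)).IsPrime := by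
    rw [hmap n]
    exact n.isPrime
  have hB := key _ _ (hmap n).symm hn
  obtain ⟨m, D, f, hfq, hgen, hdet⟩ :=
    (Groth.Agent.S2480.result p hk hA q (n.asIdeal.comap (Ideal.Quotient.mk q)) (hle n)).mp hB
  -- a common denominator
  have h1 : ∀ g ∈ q, ∃ s, s ∉ n.asIdeal.comap (Ideal.Quotient.mk q) ∧
      s * g ∈ Ideal.span (Set.range f) := by
    intro g hg
    have h2 : algebraMap A (Localization.AtPrime (n.asIdeal.comap (Ideal.Quotient.mk q))) g ∈
        (Ideal.span (Set.range f)).map
          (algebraMap A (Localization.AtPrime (n.asIdeal.comap (Ideal.Quotient.mk q)))) := by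
      rw [Ideal.map_span, ← Set.range_comp]
      have h3 := Ideal.mem_map_of_mem
        (algebraMap A (Localization.AtPrime (n.asIdeal.comap (Ideal.Quotient.mk q)))) hg
      rw [hgen] at h3
      exact h3
    obtain ⟨s, hs, hsg⟩ := (IsLocalization.algebraMap_mem_map_algebraMap_iff
      (n.asIdeal.comap (Ideal.Quotient.mk q)).primeCompl _ _ g).mp h2
    exact ⟨s, hs, hsg⟩
  obtain ⟨S, hS⟩ := (isNoetherianRing_iff_ideal_fg A).mp inferInstance q
  have hSq : ∀ g ∈ S, g ∈ q := fun g hg => hS ▸ Ideal.subset_span hg
  choose! sg hsg1 hsg2 using h1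
  let s : A := ∏ g ∈ S, sg g
  have hs : s ∉ n.asIdeal.comap (Ideal.Quotient.mk q) := by
    intro hmem
    obtain ⟨g, hgS, hg⟩ := (Ideal.IsPrime.prod_mem_iff).mp hmem
    exact hsg1 g (hSq g hgS) hg
  have hsq : ∀ g ∈ q, s * g ∈ Ideal.span (Set.range f) := by
    intro g hg
    rw [← hS] at hg
    induction hg using Submodule.span_induction with
    | mem x hx =>
      have h2 : s = (∏ g ∈ S.erase x, sg g) * sg x := by
        rw [Finset.prod_erase_mul S sg hx]
      rw [h2, mul_assoc]
      exact Ideal.mul_mem_left _ _ (hsg2 x (hSq x hx))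
    | zero => rw [mul_zero]; exact zero_mem _
    | add x y _ _ hx hy => rw [mul_add]; exact add_mem hx hy
    | smul a x _ hx =>
      rw [smul_eq_mul, mul_left_comm]
      exact Ideal.mul_mem_left _ _ hx
  let d : A := Matrix.det (Matrix.of fun i j => D i (f j))
  refine ⟨(PrimeSpectrum.basicOpen (Ideal.Quotient.mk q (s * d)) : Set _), ?_,
    (PrimeSpectrum.basicOpen _).isOpen, ?_⟩
  · intro n' hn'
    have hsd : s * d ∉ n'.asIdeal.comap (Ideal.Quotient.mk q) := hn'
    have hs' : s ∉ n'.asIdeal.comap (Ideal.Quotient.mk q) := fun h =>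
      hsd (Ideal.mul_mem_right _ _ h)
    have hd' : d ∉ n'.asIdeal.comap (Ideal.Quotient.mk q) := fun h =>
      hsd (Ideal.mul_mem_left _ _ h)
    haveI := hprime n'
    haveI hmp' : ((n'.asIdeal.comap (Ideal.Quotient.mk q)).map (Ideal.Quotient.mk q)).IsPrime := by
      rw [hmap n']
      exact n'.isPrime
    have hgen' : q.map (algebraMap A (Localization.AtPrime
        (n'.asIdeal.comap (Ideal.Quotient.mk q)))) =
        Ideal.span (Set.range fun i => algebraMap A (Localization.AtPrime
          (n'.asIdeal.comap (Ideal.Quotient.mk q))) (f i)) := by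
      apply le_antisymm
      · rw [Ideal.map_le_iff_le_comap]
        intro g hg
        rw [Ideal.mem_comap]
        have h2 : (Set.range fun i => algebraMap A (Localization.AtPrime
            (n'.asIdeal.comap (Ideal.Quotient.mk q))) (f i)) =
            (algebraMap A (Localization.AtPrime
              (n'.asIdeal.comap (Ideal.Quotient.mk q)))) '' Set.range f := by
          rw [← Set.range_comp]
          rfl
        rw [h2, ← Ideal.map_span]
        exact (IsLocalization.algebraMap_mem_map_algebraMap_iff
          (n'.asIdeal.comap (Ideal.Quotient.mk q)).primeCompl _ _ g).mpr ⟨s, hs', hsq g hg⟩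
      · rw [Ideal.span_le]
        rintro _ ⟨i, rfl⟩
        exact Ideal.mem_map_of_mem _ (hfq i)
    have hB' := (Groth.Agent.S2480.result p hk hA q (n'.asIdeal.comap (Ideal.Quotient.mk q))
      (hle n')).mpr ⟨m, D, f, hfq, hgen', hd'⟩
    exact key _ _ (hmap n') hB'
  · show Ideal.Quotient.mk q (s * d) ∉ n.asIdeal
    intro hmem
    have h2 : s * d ∈ n.asIdeal.comap (Ideal.Quotient.mk q) := hmem
    rcases Ideal.IsPrime.mem_or_mem inferInstance h2 with h3 | h3
    · exact hs h3
    · exact hdet h3

end Groth.Agent.S4589
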