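import Groth.Statements.S4590
import Mathlib
import Groth.Agent.Lib.Helper2.FFIntegral

set_option autoImplicit false
universe u
open CAlg

namespace Groth.Agent.S4590

/-- Let A be a domain with fraction field K, B a faithfully flat A-algebra, C = B_red and R the total
ring of fractions of C. Then A → C is injective with nonzero elements going to non-zero-divisors, so
that K embeds in R, and an element of K is integral over C in R if and only if it is integral over
A. -/
theorem result {A B : Type u} [CommRing A] [IsDomain A]
    [CommRing B] [Algebra A B] [Module.FaithfullyFlat A B] :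
    Function.Injective (algebraMap A (B ⧸ nilradical B)) ∧
    (∀ a : A, a ≠ 0 → algebraMap A (B ⧸ nilradical B) a ∈ nonZeroDivisors (B ⧸ nilradical B)) ∧
    ∀ (R : Type u) [CommRing R] [Algebra (B ⧸ nilradical B) R] [IsFractionRing (B ⧸ nilradical B) R]
      [Algebra A R] [IsScalarTower A (B ⧸ nilradical B) R] [Algebra (FractionRing A) R]
      [IsScalarTower A (FractionRing A) R] (x : FractionRing A),
      IsIntegral (B ⧸ nilradical B) (algebraMap (FractionRing A) R x) ↔ IsIntegral A x := by
  refine ⟨Groth.Agent.Helper2.FFIntegral.algebraMap_injective_red,
    Groth.Agent.Helper2.FFIntegral.algebraMap_mem_nonZeroDivisors_red, ?_⟩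
  intro R _ _ _ _ _ _ _ x
  constructor
  · exact Groth.Agent.Helper2.FFIntegral.isIntegral_of_isIntegral_red R x
  · intro h
    have h1 : IsIntegral A (algebraMap (FractionRing A) R x) :=
      h.map (IsScalarTower.toAlgHom A (FractionRing A) R)
    exact h1.tower_top

end Groth.Agent.S4590
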