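import Groth.Statements.S4592
import Mathlib.CategoryTheory.Limits.ConcreteCategory.Basic

set_option autoImplicit false
universe u
open CategoryTheory CategoryTheory.Limits
open EGA41

namespace Groth.Agent.S4592

/-- A filtered colimit of commutative rings is the zero ring if and only if some ring of the system is
zero (the clause that all later rings of the system are then zero is not restated). -/
theorem result {I : Type u} [SmallCategory I] [IsFiltered I]
    (D : I ⥤ CommRingCat.{u}) (c : Cocone D) (hc : IsColimit c) :
    Subsingleton c.pt ↔ ∃ i : I, Subsingleton (D.obj i) := by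
  constructor
  · intro h
    obtain ⟨i₀⟩ := IsFiltered.nonempty (C := I)
    have h01 : (c.ι.app i₀) (0 : D.obj i₀) = (c.ι.app i₀) (1 : D.obj i₀) :=
      h.elim _ _
    obtain ⟨k, f, g, hk⟩ :=
      (CategoryTheory.Limits.Concrete.isColimit_rep_eq_iff_exists (F := D) hc (i := i₀) (j := i₀)
        (0 : D.obj i₀) (1 : D.obj i₀)).mp h01
    refine ⟨k, ?_⟩
    have hk' : (0 : D.obj k) = 1 := by
      simpa using hk
    exact subsingleton_of_zero_eq_one hk'
  · rintro ⟨i, hi⟩
    have h01 : (0 : D.obj i) = 1 := Subsingleton.elim _ _
    have : (0 : c.pt) = 1 := by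
      have := congrArg (c.ι.app i).hom h01
      simpa using this
    exact subsingleton_of_zero_eq_one this

end Groth.Agent.S4592
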