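import Groth.Statements.S4593
import Mathlib.Algebra.Category.Ring.FilteredColimits
import Mathlib.CategoryTheory.Limits.ConcreteCategory.Basic
import Mathlib.RingTheory.Spectrum.Prime.RingHom
import Mathlib.Tactic

set_option autoImplicit false
universe u
open CategoryTheory CategoryTheory.Limits AlgebraicGeometry
open EGA41

namespace Groth.Agent.S4593

/-- Let B be a ring, (A_i) a filtered system of B-algebras with colimit A. The image of Spec A in Spec B
is the intersection of the images of the Spec A_i. -/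
theorem result {I : Type u} [SmallCategory I] [IsFiltered I]
    (B : CommRingCat.{u}) (D : I ⥤ CommRingCat.{u}) (s : (Functor.const I).obj B ⟶ D) (c : Cocone D)
    (hc : IsColimit c) (i₀ : I) :
    Set.range (Spec.map (s.app i₀ ≫ c.ι.app i₀)).base = ⋂ i : I, Set.range (Spec.map (s.app i)).base := by
  -- ring-level notation
  let φ : ∀ i, B →+* D.obj i := fun i => (s.app i).hom
  let ψ : ∀ i, D.obj i →+* c.pt := fun i => (c.ι.app i).hom
  have hnat : ∀ {i j : I} (f : i ⟶ j) (b : B), (D.map f).hom (φ i b) = φ j b := by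
    intro i j f b
    have h := s.naturality f
    have h2 : s.app j = s.app i ≫ D.map f := by simpa using h
    change (s.app i ≫ D.map f).hom b = (s.app j).hom b
    rw [h2]
  have hcoc : ∀ {i j : I} (f : i ⟶ j) (y : D.obj i), ψ j ((D.map f).hom y) = ψ i y := by
    intro i j f y
    have h := c.w f
    change (D.map f ≫ c.ι.app j).hom y = (c.ι.app i).hom y
    rw [h]
  have hφψ : ∀ i (b : B), ψ i (φ i b) = ψ i₀ (φ i₀ b) := by
    intro i b
    obtain ⟨k, f, g, -⟩ := IsFilteredOrEmpty.cocone_objs i i₀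
    rw [← hcoc f, hnat f, ← hcoc g (φ i₀ b), hnat g]
  have hmapD : ∀ {i j : I} (f : i ⟶ j) (P : Ideal B) (y : D.obj i), y ∈ P.map (φ i) →
      (D.map f).hom y ∈ P.map (φ j) := by
    intro i j f P y hy
    have h1 : (P.map (φ i)).map (D.map f).hom = P.map (φ j) := by
      rw [Ideal.map_map]
      congr 1
      ext b
      exact hnat f b
    rw [← h1]
    exact Ideal.mem_map_of_mem _ hy
  change (Set.range (PrimeSpectrum.comap ((ψ i₀).comp (φ i₀))) : Set (PrimeSpectrum B)) =
    ⋂ i, Set.range (PrimeSpectrum.comap (φ i))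
  ext p
  simp only [Set.mem_iInter]
  constructor
  · rintro ⟨q, rfl⟩ i
    refine ⟨PrimeSpectrum.comap (ψ i) q, ?_⟩
    ext b
    change ψ i (φ i b) ∈ q.asIdeal ↔ ψ i₀ (φ i₀ b) ∈ q.asIdeal
    rw [hφψ]
  · intro hp
    rw [PrimeSpectrum.mem_range_comap_iff]
    apply le_antisymm _ Ideal.le_comap_map
    intro b hb
    rw [Ideal.mem_comap] at hb
    -- every element of the extended ideal comes from a finite stage
    have key : ∀ x ∈ p.asIdeal.map ((ψ i₀).comp (φ i₀)),
        ∃ (i : I) (y : D.obj i), ψ i y = x ∧ y ∈ p.asIdeal.map (φ i) := by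
      intro x hx
      refine Submodule.span_induction ?_ ?_ ?_ ?_ hx
      · rintro _ ⟨b', hb', rfl⟩
        exact ⟨i₀, φ i₀ b', rfl, Ideal.mem_map_of_mem _ hb'⟩
      · exact ⟨i₀, 0, map_zero _, Ideal.zero_mem _⟩
      · rintro x₁ x₂ _ _ ⟨i, y₁, rfl, h₁⟩ ⟨j, y₂, rfl, h₂⟩
        obtain ⟨k, f, g, -⟩ := IsFilteredOrEmpty.cocone_objs i j
        refine ⟨k, (D.map f).hom y₁ + (D.map g).hom y₂, ?_, ?_⟩
        · rw [map_add, hcoc f, hcoc g]
        · exact Ideal.add_mem _ (hmapD f _ _ h₁) (hmapD g _ _ h₂)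
      · rintro a x _ ⟨i, y, rfl, h₁⟩
        obtain ⟨j, a', ha'⟩ := Concrete.isColimit_exists_rep D hc a
        obtain ⟨k, f, g, -⟩ := IsFilteredOrEmpty.cocone_objs i j
        refine ⟨k, (D.map g).hom a' * (D.map f).hom y, ?_, ?_⟩
        · rw [map_mul, hcoc f, hcoc g, smul_eq_mul]
          congr 1
        · exact Ideal.mul_mem_left _ _ (hmapD f _ _ h₁)
    obtain ⟨i, y, hy1, hy2⟩ := key _ hb
    have hy1' : (c.ι.app i) y = (c.ι.app i) (φ i b) := by
      change ψ i y = ψ i (φ i b)
      rw [hy1, hφψ]; rfl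
    obtain ⟨k, f, g, hfg⟩ := Concrete.isColimit_exists_of_rep_eq D hc y (φ i b) hy1'
    have h3 : φ k b ∈ p.asIdeal.map (φ k) := by
      have : (D.map g).hom (φ i b) = φ k b := hnat g b
      rw [← this]
      change (D.map g) (φ i b) ∈ _
      rw [← hfg]
      exact hmapD f _ _ hy2
    have hk := hp k
    rw [PrimeSpectrum.mem_range_comap_iff] at hk
    rw [← hk]
    exact h3

end Groth.Agent.S4593
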