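import Groth.Statements.S4594
import Mathlib
import Groth.Agent.Lib.Helper2.ModPConormal

set_option autoImplicit false
universe u
open TensorProduct KaehlerDifferential
open EGA41

namespace Groth.Agent.S4594

/-- Let Λ be a ring, A → C a surjection of Λ-algebras with kernel J, C of characteristic p > 0, and π
the class of p·1 in J/J². If C is formally smooth over Λ/pΛ for the discrete topologies, then 0 →
(J/J²)/Cπ → Ω_{A/Λ} ⊗_A C → Ω_{C/Λ} → 0 is exact: the kernel of the conormal map J/J² → Ω_{A/Λ} ⊗_A
C is the span of π, and the base-change map to Ω_{C/Λ} is surjective with kernel the image of J/J². -/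
theorem result {Λ A C : Type u} [CommRing Λ] [CommRing A]
    [CommRing C] [Algebra Λ A] [Algebra A C] [Algebra Λ C] [IsScalarTower Λ A C]
    (hsurj : Function.Surjective (algebraMap A C)) (p : ℕ) [Fact p.Prime] [CharP C p]
    [Algebra (Λ ⧸ Ideal.span {(p : Λ)}) C] [IsScalarTower Λ (Λ ⧸ Ideal.span {(p : Λ)}) C]
    [Algebra.FormallySmooth (Λ ⧸ Ideal.span {(p : Λ)}) C]
    (hp : (p : A) ∈ RingHom.ker (algebraMap A C)) :
    LinearMap.ker (kerCotangentToTensor Λ A C) =
        Submodule.span A {(RingHom.ker (algebraMap A C)).toCotangent ⟨(p : A), hp⟩} ∧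
      LinearMap.range (kerCotangentToTensor Λ A C) = (LinearMap.ker (mapBaseChange Λ A C)).restrictScalars A ∧
      Function.Surjective (mapBaseChange Λ A C) := by
  refine ⟨?_, KaehlerDifferential.range_kerCotangentToTensor Λ A C hsurj,
    KaehlerDifferential.mapBaseChange_surjective Λ A C hsurj⟩
  apply le_antisymm
  · intro z hz
    obtain ⟨⟨x, hx⟩, rfl⟩ := Ideal.toCotangent_surjective _ z
    rw [LinearMap.mem_ker, kerCotangentToTensor_toCotangent] at hz
    have hmem := Groth.Agent.Helper2.ModP.mem_sq_sup_span_of_tmul_D_eq_zero hsurj p hp x hx hz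
    obtain ⟨y, hy, w, hw, hyw⟩ := Submodule.mem_sup.mp hmem
    obtain ⟨a, rfl⟩ := Ideal.mem_span_singleton'.mp hw
    have hyJ : y ∈ RingHom.ker (algebraMap A C) := Ideal.pow_le_self two_ne_zero hy
    have hsplit : (⟨x, hx⟩ : RingHom.ker (algebraMap A C)) =
        ⟨y, hyJ⟩ + a • ⟨(p : A), hp⟩ := by
      apply Subtype.ext
      simp only [Submodule.coe_add, Submodule.coe_smul, smul_eq_mul]
      exact hyw.symm
    rw [hsplit, map_add, map_smul]
    have h0 : (RingHom.ker (algebraMap A C)).toCotangent ⟨y, hyJ⟩ = 0 := by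
      rw [Ideal.toCotangent_eq_zero]
      exact hy
    rw [h0, zero_add]
    exact Submodule.smul_mem _ _ (Submodule.subset_span rfl)
  · rw [Submodule.span_le]
    rintro _ rfl
    rw [SetLike.mem_coe, LinearMap.mem_ker, kerCotangentToTensor_toCotangent]
    simp

end Groth.Agent.S4594
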