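import Groth.Statements.S4600
-- import your own Groth.Agent.* helpers here
import Mathlib

set_option autoImplicit false
universe u
open CategoryTheory CategoryTheory.Limits TensorProduct
open EGA41

namespace Groth.Agent.S4600

/-- Let (A_i) be a filtered system of rings with colimit A and B a finitely presented A-algebra. Then
some stage A_i carries a finitely presented algebra B_i with B isomorphic to A ⊗_{A_i} B_i as
A-algebras (existence of an isomorphism; the base change is along the colimit map A_i → A). -/
theorem result {I : Type u} [SmallCategory I] [IsFiltered I]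
    (D : I ⥤ CommRingCat.{u}) (c : Cocone D) (hc : IsColimit c) (B : Type u) [CommRing B] [Algebra c.pt B]
    [Algebra.FinitePresentation c.pt B] :
    ∃ (i : I) (Bi : Type u) (_ : CommRing Bi) (_ : Algebra (D.obj i) Bi),
      Algebra.FinitePresentation (D.obj i) Bi ∧
      (letI : Algebra (D.obj i) c.pt := (c.ι.app i).hom.toAlgebra
       Nonempty (B ≃ₐ[c.pt] (c.pt ⊗[D.obj i] Bi))) := by
  classical
  let P := Algebra.Presentation.ofFinitePresentation c.pt B
  let A₀ : Subalgebra ℤ c.pt := P.core
  have hft : Algebra.FiniteType ℤ A₀ := inferInstanceAs (Algebra.FiniteType ℤ P.Core)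
  have hfp : Algebra.FinitePresentation ℤ A₀ := Algebra.FinitePresentation.of_finiteType.mp hft
  have hcoef : P.HasCoeffs A₀ := inferInstanceAs (P.HasCoeffs P.Core)
  let B₀ : Type u := P.ModelOfHasCoeffs A₀
  have hB₀ : Algebra.FinitePresentation A₀ B₀ := inferInstance
  let e : B ≃ₐ[c.pt] c.pt ⊗[A₀] B₀ := (P.tensorModelOfHasCoeffsEquiv A₀).symm
  -- the base: the initial ring
  let Z : CommRingCat.{u} := CommRingCat.of (ULift.{u} ℤ)
  let α : (Functor.const I).obj Z ⟶ D :=
    { app := fun j => CommRingCat.isInitial.to (D.obj j)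
      naturality := fun _ _ _ => CommRingCat.isInitial.hom_ext _ _ }
  let S : CommRingCat.{u} := CommRingCat.of A₀
  let f : Z ⟶ S := CommRingCat.isInitial.to S
  have hf : f.hom.FinitePresentation := by
    have h1 : (algebraMap ℤ A₀).FinitePresentation :=
      RingHom.finitePresentation_algebraMap.mpr hfp
    have h2 : (ULift.ringEquiv : ULift.{u} ℤ ≃+* ℤ).toRingHom.FinitePresentation :=
      RingHom.FinitePresentation.of_bijective ULift.ringEquiv.bijective
    have h3 := h1.comp h2
    have h4 : f.hom = (algebraMap ℤ A₀).comp (ULift.ringEquiv : ULift.{u} ℤ ≃+* ℤ).toRingHom := by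
      have := CommRingCat.isInitial.hom_ext f
        (CommRingCat.ofHom ((algebraMap ℤ A₀).comp (ULift.ringEquiv : ULift.{u} ℤ ≃+* ℤ).toRingHom))
      rw [this]
      rfl
    rw [h4]
    exact h3
  let g : S ⟶ c.pt := CommRingCat.ofHom A₀.val.toRingHom
  have : PreservesColimit D (forget CommRingCat.{u}) := inferInstance
  obtain ⟨i, g', -, hg'⟩ := RingHom.EssFiniteType.exists_eq_comp_ι_app_of_isColimit Z D α f c hc hf g
    (fun j => CommRingCat.isInitial.hom_ext _ _)
  let _ : Algebra A₀ (D.obj i) := g'.hom.toAlgebra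
  let _ : Algebra (D.obj i) c.pt := (c.ι.app i).hom.toAlgebra
  have htower : IsScalarTower A₀ (D.obj i) c.pt := by
    refine IsScalarTower.of_algebraMap_eq fun x => ?_
    have h1 := congrArg (fun φ => φ.hom x) hg'
    exact h1
  refine ⟨i, (D.obj i) ⊗[A₀] B₀, inferInstance, inferInstance, inferInstance, ?_⟩
  exact ⟨e.trans (Algebra.TensorProduct.cancelBaseChange A₀ (D.obj i) c.pt c.pt B₀).symm⟩

end Groth.Agent.S4600
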