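import Groth.Statements.S4601
import Mathlib
-- import your own Groth.Agent.* helpers here

set_option autoImplicit false
universe u
open TensorProduct
open CAlg

namespace Groth.Agent.S4601

open TensorProduct
namespace Aux

section
variable {A B K' R : Type u} [CommRing A]
    [IsDomain A] [CommRing B] [Algebra A B] [IsNoetherianRing B] [Module.Flat A B]
    [Field K'] [Algebra A K'] [Algebra (FractionRing A) K'] [IsScalarTower A (FractionRing A) K']
    [CommRing R] [Algebra (B ⧸ nilradical B) R] [IsFractionRing (B ⧸ nilradical B) R]
    [Algebra B R] [IsScalarTower B (B ⧸ nilradical B) R] [Algebra A R] [IsScalarTower A B R]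

/-- elements of `K' ⊗ N` (image in `K' ⊗ B`) are nilpotent, for `N` the nilradical -/
lemma isNilpotent_of_mem_range (z : K' ⊗[A] B)
    (hz : z ∈ LinearMap.range (LinearMap.lTensor K'
      ((nilradical B).restrictScalars A).subtype)) : IsNilpotent z := by
  obtain ⟨w, rfl⟩ := hz
  induction w using TensorProduct.induction_on with
  | zero => rw [map_zero]; exact IsNilpotent.zero
  | tmul k n =>
    rw [LinearMap.lTensor_tmul]
    obtain ⟨m, hm⟩ : IsNilpotent (n : B) := n.2
    refine ⟨m, ?_⟩
    rw [Algebra.TensorProduct.tmul_pow]
    show (k ^ m) ⊗ₜ[A] ((n : B) ^ m) = 0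
    rw [hm, tmul_zero]
  | add x y hx hy =>
    rw [map_add]
    exact Commute.isNilpotent_add (Commute.all _ _) hx hy

theorem main (A' : Subalgebra A K') (x : ↥A' ⊗[A] B)
    (hx : IsNilpotent (Algebra.TensorProduct.map A'.val (IsScalarTower.toAlgHom A B R) x)) :
    IsNilpotent x := by
  haveI : Module.Flat A K' := Module.Flat.trans A (FractionRing A) K'
  -- the two steps
  let f1 : ↥A' ⊗[A] B →ₐ[A] K' ⊗[A] B := Algebra.TensorProduct.map A'.val (AlgHom.id A B)
  let f2 : K' ⊗[A] B →ₐ[A] K' ⊗[A] R :=
    Algebra.TensorProduct.map (AlgHom.id A K') (IsScalarTower.toAlgHom A B R)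
  have hcomp : Algebra.TensorProduct.map A'.val (IsScalarTower.toAlgHom A B R) = f2.comp f1 := by
    rw [← Algebra.TensorProduct.map_comp]
    rfl
  -- f1 injective
  have hf1 : Function.Injective f1 := by
    have h1 : Function.Injective (LinearMap.rTensor B A'.val.toLinearMap) :=
      Module.Flat.rTensor_preserves_injective_linearMap _ Subtype.val_injective
    intro y z hyz
    apply h1
    have h2 : ∀ w : ↥A' ⊗[A] B, LinearMap.rTensor B A'.val.toLinearMap w = f1 w := by
      intro w
      induction w using TensorProduct.induction_on with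
      | zero => rw [map_zero, map_zero]
      | tmul a b => rfl
      | add x y hx hy => rw [map_add, map_add, hx, hy]
    rw [h2, h2, hyz]
  -- kernel of f2 consists of nilpotents
  have hf2 : ∀ z : K' ⊗[A] B, f2 z = 0 → IsNilpotent z := by
    intro z hz
    apply isNilpotent_of_mem_range
    -- the A-linear maps
    let g1 : B →ₗ[A] (B ⧸ nilradical B) := (Ideal.Quotient.mkₐ A (nilradical B)).toLinearMap
    let g2 : (B ⧸ nilradical B) →ₗ[A] R :=
      { toFun := algebraMap (B ⧸ nilradical B) R
        map_add' := map_add _
        map_smul' := by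
          intro a y
          obtain ⟨b, rfl⟩ := Ideal.Quotient.mk_surjective y
          show algebraMap (B ⧸ nilradical B) R (a • Ideal.Quotient.mk _ b) =
            a • algebraMap (B ⧸ nilradical B) R (Ideal.Quotient.mk _ b)
          have h1 : a • Ideal.Quotient.mk (nilradical B) b =
              Ideal.Quotient.mk (nilradical B) (a • b) := rfl
          have h2 : ∀ c : B, algebraMap (B ⧸ nilradical B) R (Ideal.Quotient.mk (nilradical B) c) =
              algebraMap B R c := by
            intro c
            rw [IsScalarTower.algebraMap_apply B (B ⧸ nilradical B) R]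
            rfl
          rw [h1, h2, h2, Algebra.smul_def, map_mul, ← IsScalarTower.algebraMap_apply,
            Algebra.smul_def] }
    have hg2 : Function.Injective g2 := IsFractionRing.injective (B ⧸ nilradical B) R
    have hg : (IsScalarTower.toAlgHom A B R).toLinearMap = g2 ∘ₗ g1 := by
      apply LinearMap.ext
      intro c
      show algebraMap B R c = algebraMap (B ⧸ nilradical B) R (Ideal.Quotient.mk _ c)
      rw [IsScalarTower.algebraMap_apply B (B ⧸ nilradical B) R]
      rfl
    have h3 : ∀ w : K' ⊗[A] B, f2 w = LinearMap.lTensor K' g2 (LinearMap.lTensor K' g1 w) := by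
      intro w
      induction w using TensorProduct.induction_on with
      | zero => rw [map_zero, map_zero, map_zero]
      | tmul a b =>
        rw [LinearMap.lTensor_tmul, LinearMap.lTensor_tmul]
        show a ⊗ₜ[A] (IsScalarTower.toAlgHom A B R).toLinearMap b = _
        rw [hg]
        rfl
      | add x y hx hy => rw [map_add, map_add, map_add, hx, hy]
    have h4 : LinearMap.lTensor K' g1 z = 0 := by
      apply Module.Flat.lTensor_preserves_injective_linearMap (M := K') g2 hg2
      rw [← h3, hz, map_zero]
    have hex : Function.Exact ((nilradical B).restrictScalars A).subtype g1 := by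
      intro c
      constructor
      · intro hc
        exact ⟨⟨c, Ideal.Quotient.eq_zero_iff_mem.mp hc⟩, rfl⟩
      · rintro ⟨n, rfl⟩
        exact Ideal.Quotient.eq_zero_iff_mem.mpr n.2
    have hsurj : Function.Surjective g1 := Ideal.Quotient.mk_surjective
    exact (lTensor_exact K' hex hsurj z).mp h4
  -- conclude
  rw [hcomp] at hx
  obtain ⟨m, hm⟩ := hx
  have h5 : f2 ((f1 x) ^ m) = 0 := by
    rw [map_pow]
    exact hm
  obtain ⟨l, hl⟩ := hf2 _ h5
  refine ⟨m * l, ?_⟩
  apply hf1
  rw [map_pow, pow_mul, hl, map_zero]

end

end Aux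

/-- Let A be a domain with fraction field K, B a Noetherian A-algebra which is flat over A, K' an
extension field of K, B₁ = B_red and R its total ring of fractions. For every sub-A-algebra A' of
K', the map (A' ⊗_A B)_red → (K' ⊗_A R)_red is injective, i.e. an element of A' ⊗_A B with nilpotent
image in K' ⊗_A R is nilpotent. -/
theorem result {A B K' R : Type u} [CommRing A]
    [IsDomain A] [CommRing B] [Algebra A B] [IsNoetherianRing B] [Module.Flat A B]
    [Field K'] [Algebra A K'] [Algebra (FractionRing A) K'] [IsScalarTower A (FractionRing A) K']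
    [CommRing R] [Algebra (B ⧸ nilradical B) R] [IsFractionRing (B ⧸ nilradical B) R]
    [Algebra B R] [IsScalarTower B (B ⧸ nilradical B) R] [Algebra A R] [IsScalarTower A B R]
    (A' : Subalgebra A K') (x : ↥A' ⊗[A] B)
    (hx : IsNilpotent (Algebra.TensorProduct.map A'.val (IsScalarTower.toAlgHom A B R) x)) :
    IsNilpotent x := by
  exact Aux.main A' x hx

end Groth.Agent.S4601
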