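import Groth.Statements.S4603
-- import your own Groth.Agent.* helpers here
import Mathlib
import Groth.Agent.Lib.Helper7.MaxPt
import Groth.Agent.Lib.Helper7.QuasiFlat.Closure

set_option autoImplicit false
universe u
open AlgebraicGeometry CategoryTheory
open EGA41

namespace Groth.Agent.S4603

/-- Let f : X → Y be quasi-compact. The following are equivalent: f is dominant; the fibre of f over
every maximal point of Y (a point with no proper generization, i.e. the generic point of an
irreducible component) is nonempty; every maximal point of Y is the image of a maximal point of X. -/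
theorem result {X Y : Scheme.{u}} (f : X ⟶ Y) [QuasiCompact f] :
    [IsDominant f,
     ∀ y : Y, (∀ y' : Y, y' ⤳ y → y' = y) → y ∈ Set.range f.base,
     ∀ y : Y, (∀ y' : Y, y' ⤳ y → y' = y) → ∃ x : X, (∀ x' : X, x' ⤳ x → x' = x) ∧ f.base x = y].TFAE := by
  tfae_have 1 → 2 := by
    intro hdom y hy
    have hpro := Groth.Agent.Helper7.QuasiFlat.isProConstructible_range f
    have hmem : y ∈ closure (Set.range f.base) := by
      have := hdom.denseRange
      rw [this.closure_range]
      trivial
    obtain ⟨z, hz, hzy⟩ :=
      Groth.Agent.Helper7.ProConsLib.exists_specializes_of_mem_closure_of_isProConstructible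
        Y hpro hmem
    rw [← hy z hzy]
    exact hz
  tfae_have 2 → 3 := by
    intro h y hy
    obtain ⟨x, hx⟩ := h y hy
    obtain ⟨x', hx'x, hx'max⟩ := Groth.Agent.Helper7.MaxPt.exists_maximal_generization x
    refine ⟨x', hx'max, ?_⟩
    have h1 : f.base x' ⤳ f.base x := hx'x.map f.continuous
    rw [hx] at h1
    exact hy _ h1
  tfae_have 3 → 1 := by
    intro h
    refine ⟨?_⟩
    intro y
    obtain ⟨y₀, hy₀y, hy₀max⟩ := Groth.Agent.Helper7.MaxPt.exists_maximal_generization y
    obtain ⟨x, -, hx⟩ := h y₀ hy₀max
    have h1 : y ∈ closure ({y₀} : Set Y) := specializes_iff_mem_closure.mp hy₀y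
    refine closure_mono ?_ h1
    intro z hz
    rw [Set.mem_singleton_iff] at hz
    subst hz
    exact ⟨x, hx⟩
  tfae_finish

end Groth.Agent.S4603
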