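import Groth.Statements.S4604
import Mathlib

set_option autoImplicit false
set_option linter.style.haveILetI false
universe u
open IsLocalRing
open EGA41

namespace Groth.Agent.S4604

/-- (i) and the kernel statement of (ii): let A be a local ring with maximal ideal m of square zero,
F_i(T_i) = T_i^{d_i} + Σ_{k<d_i} c_{ik} T_i^k (1 ≤ i ≤ r) monic of degrees d_i ≥ 2 with non-leading
coefficients in m, and A' = A[T_1, …, T_r]/(F_1, …, F_r). Then A' is local with residue field K, and
the kernel of m → m'/m'² (m' the maximal ideal of A') is the ideal generated by the constant terms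
c_{i0}. -/
theorem result {A : Type u} [CommRing A] [IsLocalRing A]
    (hm : maximalIdeal A ^ 2 = ⊥) {r : ℕ} (d : Fin r → ℕ) (hd : ∀ i, 2 ≤ d i) (c : Fin r → ℕ → A)
    (hc : ∀ i k, c i k ∈ maximalIdeal A) :
    let F : Fin r → MvPolynomial (Fin r) A := fun i =>
      MvPolynomial.X i ^ d i + (Finset.range (d i)).sum fun k => MvPolynomial.C (c i k) * MvPolynomial.X i ^ k
    ∃ _ : IsLocalRing (MvPolynomial (Fin r) A ⧸ Ideal.span (Set.range F)),
      Function.Surjective ((Ideal.Quotient.mk (maximalIdeal (MvPolynomial (Fin r) A ⧸ Ideal.span (Set.range F)))).comp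
        (algebraMap A (MvPolynomial (Fin r) A ⧸ Ideal.span (Set.range F)))) ∧
      maximalIdeal A ⊓ Ideal.comap (algebraMap A (MvPolynomial (Fin r) A ⧸ Ideal.span (Set.range F)))
          (maximalIdeal (MvPolynomial (Fin r) A ⧸ Ideal.span (Set.range F)) ^ 2) =
        Ideal.span (Set.range fun i => c i 0) := by
  intro F
  set I : Ideal (MvPolynomial (Fin r) A) := Ideal.span (Set.range F) with hI
  have hFI : ∀ i, F i ∈ I := fun i => Ideal.subset_span ⟨i, rfl⟩
  -- the augmentation to the residue field
  let ε₀ : MvPolynomial (Fin r) A →+* ResidueField A :=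
    MvPolynomial.eval₂Hom (residue A) (fun _ => 0)
  have hres : ∀ i k, residue A (c i k) = 0 := fun i k => (residue_eq_zero_iff _).mpr (hc i k)
  have hε₀F : ∀ i, ε₀ (F i) = 0 := by
    intro i
    have hd0 : d i ≠ 0 := by have := hd i; omega
    simp only [F, ε₀, map_add, map_pow, map_sum, map_mul, MvPolynomial.coe_eval₂Hom,
      MvPolynomial.eval₂_X, MvPolynomial.eval₂_C, hres, zero_mul, Finset.sum_const_zero,
      add_zero]
    exact zero_pow hd0
  have hIε : ∀ x ∈ I, ε₀ x = 0 := by
    intro x hx
    have : I ≤ RingHom.ker ε₀ := by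
      rw [hI, Ideal.span_le]
      rintro _ ⟨i, rfl⟩
      exact hε₀F i
    exact this hx
  let ε : (MvPolynomial (Fin r) A ⧸ I) →+* ResidueField A := Ideal.Quotient.lift I ε₀ hIε
  have hεφ : ∀ a : A, ε (algebraMap A (MvPolynomial (Fin r) A ⧸ I) a) = residue A a := by
    intro a
    change ε (Ideal.Quotient.mk I (MvPolynomial.C a)) = _
    simp [ε, ε₀]
  have hεsurj : Function.Surjective ε := by
    intro y
    obtain ⟨a, rfl⟩ := residue_surjective y
    exact ⟨algebraMap A _ a, hεφ a⟩
  haveI : Nontrivial (MvPolynomial (Fin r) A ⧸ I) := RingHom.domain_nontrivial ε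
  -- the variables are nilpotent
  let t : Fin r → (MvPolynomial (Fin r) A ⧸ I) := fun i => Ideal.Quotient.mk I (MvPolynomial.X i)
  have hεt : ∀ i, ε (t i) = 0 := by
    intro i
    simp [ε, ε₀, t]
  have hrel : ∀ i, t i ^ d i + (Finset.range (d i)).sum
      (fun k => algebraMap A (MvPolynomial (Fin r) A ⧸ I) (c i k) * t i ^ k) = 0 := by
    intro i
    have := (Ideal.Quotient.eq_zero_iff_mem).mpr (hFI i)
    simp only [F, map_add, map_pow, map_sum, map_mul] at this
    exact this
  set M : Ideal (MvPolynomial (Fin r) A ⧸ I) :=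
    (maximalIdeal A).map (algebraMap A (MvPolynomial (Fin r) A ⧸ I)) with hM
  have hM2 : M ^ 2 = ⊥ := by
    rw [hM, ← Ideal.map_pow, hm, Ideal.map_bot]
  have htM : ∀ i, t i ^ d i ∈ M := by
    intro i
    have h1 : t i ^ d i = - (Finset.range (d i)).sum
        (fun k => algebraMap A (MvPolynomial (Fin r) A ⧸ I) (c i k) * t i ^ k) :=
      eq_neg_of_add_eq_zero_left (hrel i)
    rw [h1]
    refine M.neg_mem (M.sum_mem fun k _ => M.mul_mem_right _ ?_)
    exact Ideal.mem_map_of_mem _ (hc i k)
  have htnil : ∀ i, IsNilpotent (t i) := by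
    intro i
    refine ⟨d i * 2, ?_⟩
    rw [pow_mul]
    have : (t i ^ d i) ^ 2 ∈ M ^ 2 := Ideal.pow_mem_pow (htM i) 2
    rw [hM2] at this
    exact this
  have hdecomp : ∀ x : (MvPolynomial (Fin r) A ⧸ I),
      ∃ a : A, IsNilpotent (x - algebraMap A _ a) := by
    intro x
    obtain ⟨p, rfl⟩ := Ideal.Quotient.mk_surjective x
    induction p using MvPolynomial.induction_on with
    | C a =>
      refine ⟨a, ?_⟩
      have : Ideal.Quotient.mk I (MvPolynomial.C a) = algebraMap A _ a := rfl
      rw [this, sub_self]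
      exact IsNilpotent.zero
    | add p q hp hq =>
      obtain ⟨a, ha⟩ := hp
      obtain ⟨b, hb⟩ := hq
      refine ⟨a + b, ?_⟩
      have := (Commute.all _ _).isNilpotent_add ha hb
      have e : Ideal.Quotient.mk I (p + q) - algebraMap A (MvPolynomial (Fin r) A ⧸ I) (a + b) =
          (Ideal.Quotient.mk I p - algebraMap A (MvPolynomial (Fin r) A ⧸ I) a) +
          (Ideal.Quotient.mk I q - algebraMap A (MvPolynomial (Fin r) A ⧸ I) b) := by
        rw [map_add, map_add]; ring
      rw [e]
      exact this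
    | mul_X p i hp =>
      refine ⟨0, ?_⟩
      simp only [map_zero, sub_zero, map_mul]
      exact (Commute.all _ _).isNilpotent_mul_left (htnil i)
  have hloc : IsLocalRing (MvPolynomial (Fin r) A ⧸ I) := by
    apply IsLocalRing.of_isUnit_or_isUnit_one_sub_self
    intro x
    obtain ⟨a, ha⟩ := hdecomp x
    rcases IsLocalRing.isUnit_or_isUnit_one_sub_self a with h | h
    · left
      have := ha.isUnit_add_left_of_commute (h.map (algebraMap A _)) (Commute.all _ _)
      simpa using this
    · right
      have := ha.neg.isUnit_add_left_of_commute (h.map (algebraMap A _)) (Commute.all _ _)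
      convert this using 1
      simp only [map_sub, map_one]
      ring
  refine ⟨hloc, ?_, ?_⟩
  · -- residue field
    have hmax : maximalIdeal (MvPolynomial (Fin r) A ⧸ I) = RingHom.ker ε := by
      haveI := RingHom.ker_isMaximal_of_surjective ε hεsurj
      exact (IsLocalRing.eq_maximalIdeal this).symm
    intro y
    obtain ⟨x, rfl⟩ := Ideal.Quotient.mk_surjective y
    obtain ⟨a, ha⟩ := residue_surjective (ε x)
    refine ⟨a, ?_⟩
    rw [RingHom.comp_apply, Ideal.Quotient.eq, hmax, RingHom.mem_ker, map_sub, hεφ, ha, sub_self]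
  · have hmax : maximalIdeal (MvPolynomial (Fin r) A ⧸ I) = RingHom.ker ε := by
      haveI := RingHom.ker_isMaximal_of_surjective ε hεsurj
      exact (IsLocalRing.eq_maximalIdeal this).symm
    set J : Ideal A := Ideal.span (Set.range fun i => c i 0) with hJ
    have hJm : J ≤ maximalIdeal A := by
      rw [hJ, Ideal.span_le]
      rintro _ ⟨i, rfl⟩
      exact hc i 0
    apply le_antisymm
    · -- the hard inclusion, through A' → A/J
      intro a ha
      obtain ⟨ham, ha2'⟩ := ha
      have ha2 : algebraMap A (MvPolynomial (Fin r) A ⧸ I) a ∈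
          maximalIdeal (MvPolynomial (Fin r) A ⧸ I) ^ 2 := ha2'
      let η₀ : MvPolynomial (Fin r) A →+* A ⧸ J :=
        MvPolynomial.eval₂Hom (Ideal.Quotient.mk J) (fun _ => 0)
      have hη₀F : ∀ i, η₀ (F i) = 0 := by
        intro i
        have hd0 : d i ≠ 0 := by have := hd i; omega
        simp only [F, η₀, map_add, map_pow, map_sum, map_mul, MvPolynomial.coe_eval₂Hom,
          MvPolynomial.eval₂_X, MvPolynomial.eval₂_C]
        rw [zero_pow hd0, zero_add, Finset.sum_eq_single 0]
        · rw [pow_zero, mul_one, Ideal.Quotient.eq_zero_iff_mem]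
          exact Ideal.subset_span ⟨i, rfl⟩
        · intro k _ hk
          rw [zero_pow hk, mul_zero]
        · intro h
          exact absurd (Finset.mem_range.mpr (Nat.pos_of_ne_zero hd0)) h
      have hIη : ∀ x ∈ I, η₀ x = 0 := by
        intro x hx
        have : I ≤ RingHom.ker η₀ := by
          rw [hI, Ideal.span_le]
          rintro _ ⟨i, rfl⟩
          exact hη₀F i
        exact this hx
      let η : (MvPolynomial (Fin r) A ⧸ I) →+* A ⧸ J := Ideal.Quotient.lift I η₀ hIη
      have hηφ : ∀ b : A, η (algebraMap A (MvPolynomial (Fin r) A ⧸ I) b) = Ideal.Quotient.mk J b := by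
        intro b
        change η (Ideal.Quotient.mk I (MvPolynomial.C b)) = _
        simp [η, η₀]
      let ρ : A ⧸ J →+* ResidueField A := Ideal.Quotient.lift J (residue A)
        (fun x hx => (residue_eq_zero_iff _).mpr (hJm hx))
      have hρη : ρ.comp η = ε := by
        apply Ideal.Quotient.ringHom_ext
        apply MvPolynomial.ringHom_ext
        · intro b
          simp [ρ, η, η₀, ε, ε₀]
        · intro i
          simp [ρ, η, η₀, ε, ε₀]
      set 𝔫 : Ideal (A ⧸ J) := RingHom.ker ρ with h𝔫
      have h𝔫le : 𝔫 ≤ (maximalIdeal A).map (Ideal.Quotient.mk J) := by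
        intro y hy
        obtain ⟨b, rfl⟩ := Ideal.Quotient.mk_surjective y
        rw [h𝔫, RingHom.mem_ker] at hy
        have : residue A b = 0 := by simpa [ρ] using hy
        exact Ideal.mem_map_of_mem _ ((residue_eq_zero_iff _).mp this)
      have h𝔫2 : 𝔫 ^ 2 = ⊥ := by
        rw [eq_bot_iff]
        calc 𝔫 ^ 2 ≤ ((maximalIdeal A).map (Ideal.Quotient.mk J)) ^ 2 := Ideal.pow_right_mono h𝔫le 2
          _ = ⊥ := by rw [← Ideal.map_pow, hm, Ideal.map_bot]
      have hηm : (maximalIdeal (MvPolynomial (Fin r) A ⧸ I)).map η ≤ 𝔫 := by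
        rw [Ideal.map_le_iff_le_comap]
        intro x hx
        rw [hmax, RingHom.mem_ker, ← hρη] at hx
        exact hx
      have h1 : η (algebraMap A _ a) ∈ ((maximalIdeal (MvPolynomial (Fin r) A ⧸ I)) ^ 2).map η :=
        Ideal.mem_map_of_mem _ ha2
      rw [Ideal.map_pow] at h1
      have h2 : η (algebraMap A _ a) ∈ 𝔫 ^ 2 := Ideal.pow_right_mono hηm 2 h1
      rw [h𝔫2, Ideal.mem_bot, hηφ, Ideal.Quotient.eq_zero_iff_mem] at h2
      exact h2
    · rw [hJ, Ideal.span_le]
      rintro _ ⟨i, rfl⟩
      refine ⟨hc i 0, ?_⟩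
      show algebraMap A (MvPolynomial (Fin r) A ⧸ I) (c i 0) ∈
          maximalIdeal (MvPolynomial (Fin r) A ⧸ I) ^ 2
      have htm : t i ∈ maximalIdeal (MvPolynomial (Fin r) A ⧸ I) := by
        rw [hmax, RingHom.mem_ker]
        exact hεt i
      have hcm : ∀ k, algebraMap A (MvPolynomial (Fin r) A ⧸ I) (c i k) ∈
          maximalIdeal (MvPolynomial (Fin r) A ⧸ I) := by
        intro k
        rw [hmax, RingHom.mem_ker, hεφ]
        exact hres i k
      obtain ⟨e, he⟩ : ∃ e, d i = e + 2 := ⟨d i - 2, by have := hd i; omega⟩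
      have h0 := hrel i
      rw [he, Finset.sum_range_succ'] at h0
      simp only [pow_zero, mul_one] at h0
      have h3 : algebraMap A (MvPolynomial (Fin r) A ⧸ I) (c i 0) =
          - (t i ^ (e + 2) + (Finset.range (e + 1)).sum
            (fun k => algebraMap A (MvPolynomial (Fin r) A ⧸ I) (c i (k + 1)) * t i ^ (k + 1))) := by
        rw [eq_neg_iff_add_eq_zero]
        rw [← h0]
        ring
      rw [h3]
      refine neg_mem (Ideal.add_mem _ ?_ (Ideal.sum_mem _ fun k _ => ?_))
      · rw [pow_add, mul_comm]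
        exact Ideal.mul_mem_right _ _ (Ideal.pow_mem_pow htm 2)
      · rw [pow_two]
        refine Ideal.mul_mem_mul (hcm _) ?_
        rw [pow_succ]
        exact Ideal.mul_mem_left _ _ htm

end Groth.Agent.S4604
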