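import Groth.Statements.S4608
-- import your own Groth.Agent.* helpers here

set_option autoImplicit false
universe u
open AlgebraicGeometry CategoryTheory CategoryTheory.Limits
open EGA41

namespace Groth.Agent.S4608

/-- A morphism from a disjoint union X' ⨿ X'' → Y is quasi-compact if and only if its two components
are. -/
theorem result {X' X'' Y : Scheme.{u}} (f' : X' ⟶ Y) (f'' : X'' ⟶ Y) :
    QuasiCompact (coprod.desc f' f'') ↔ QuasiCompact f' ∧ QuasiCompact f'' := by
  have el : ∀ x : X', (coprod.desc f' f'') ((coprod.inl : X' ⟶ X' ⨿ X'') x) = f' x := by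
    intro x; rw [← Scheme.Hom.comp_apply, coprod.inl_desc]
  have er : ∀ x : X'', (coprod.desc f' f'') ((coprod.inr : X'' ⟶ X' ⨿ X'') x) = f'' x := by
    intro x; rw [← Scheme.Hom.comp_apply, coprod.inr_desc]
  have hinl : ∀ U : Set Y,
      (coprod.inl : X' ⟶ X' ⨿ X'') ⁻¹' ((coprod.desc f' f'') ⁻¹' U) = f' ⁻¹' U := by
    intro U; ext x; simp only [Set.mem_preimage, el]
  have hinr : ∀ U : Set Y,
      (coprod.inr : X'' ⟶ X' ⨿ X'') ⁻¹' ((coprod.desc f' f'') ⁻¹' U) = f'' ⁻¹' U := by
    intro U; ext x; simp only [Set.mem_preimage, er]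
  have hcl : Topology.IsClosedEmbedding (coprod.inl : X' ⟶ X' ⨿ X'') := by
    have : ⇑(coprod.inl : X' ⟶ X' ⨿ X'') = (coprodMk X' X'') ∘ Sum.inl := by
      ext x; simp
    rw [this]
    exact (coprodMk X' X'').isClosedEmbedding.comp Topology.IsClosedEmbedding.inl
  have hcr : Topology.IsClosedEmbedding (coprod.inr : X'' ⟶ X' ⨿ X'') := by
    have : ⇑(coprod.inr : X'' ⟶ X' ⨿ X'') = (coprodMk X' X'') ∘ Sum.inr := by
      ext x; simp
    rw [this]
    exact (coprodMk X' X'').isClosedEmbedding.comp Topology.IsClosedEmbedding.inr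
  constructor
  · intro h
    refine ⟨⟨fun U hU hU' => ?_⟩, ⟨fun U hU hU' => ?_⟩⟩
    · rw [← hinl]
      exact hcl.isCompact_preimage (h.isCompact_preimage U hU hU')
    · rw [← hinr]
      exact hcr.isCompact_preimage (h.isCompact_preimage U hU hU')
  · rintro ⟨h1, h2⟩
    refine ⟨fun U hU hU' => ?_⟩
    have : (coprod.desc f' f'') ⁻¹' U =
        (coprod.inl : X' ⟶ X' ⨿ X'') '' (f' ⁻¹' U) ∪ (coprod.inr : X'' ⟶ X' ⨿ X'') '' (f'' ⁻¹' U) := by
      ext y
      obtain ⟨(x | x), rfl⟩ := (coprodMk X' X'').surjective y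
      · simp only [coprodMk_inl, Set.mem_preimage, Set.mem_union, Set.mem_image, el]
        constructor
        · intro hx
          exact Or.inl ⟨x, hx, rfl⟩
        · rintro (⟨z, hz, hzx⟩ | ⟨z, hz, hzx⟩)
          · have := hcl.injective hzx
            rwa [← this]
          · exact absurd hzx (inr_ne_inl _ _ _ _)
      · simp only [coprodMk_inr, Set.mem_preimage, Set.mem_union, Set.mem_image, er]
        constructor
        · intro hx
          exact Or.inr ⟨x, hx, rfl⟩
        · rintro (⟨z, hz, hzx⟩ | ⟨z, hz, hzx⟩)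
          · exact absurd hzx (inl_ne_inr _ _ _ _)
          · have := hcr.injective hzx
            rwa [← this]
    rw [this]
    exact ((h1.isCompact_preimage U hU hU').image (by fun_prop)).union
      ((h2.isCompact_preimage U hU hU').image (by fun_prop))

end Groth.Agent.S4608
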