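import Groth.Statements.S4609
import Mathlib.AlgebraicGeometry.Morphisms.Affine
import Mathlib.AlgebraicGeometry.Morphisms.Separated

set_option autoImplicit false
universe u
open AlgebraicGeometry CategoryTheory CategoryTheory.Limits
open EGA41

namespace Groth.Agent.S4609

/-- A morphism from a disjoint union X' ⨿ X'' → Y is quasi-separated if and only if its two components
are. -/
theorem result {X' X'' Y : Scheme.{u}} (f' : X' ⟶ Y) (f'' : X'' ⟶ Y) :
    QuasiSeparated (coprod.desc f' f'') ↔ QuasiSeparated f' ∧ QuasiSeparated f'' := by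
  constructor
  · intro h
    have h1 : coprod.inl ≫ coprod.desc f' f'' = f' := coprod.inl_desc _ _
    have h2 : coprod.inr ≫ coprod.desc f' f'' = f'' := coprod.inr_desc _ _
    exact ⟨h1 ▸ inferInstance, h2 ▸ inferInstance⟩
  · rintro ⟨h1, h2⟩
    have : coprod.desc f' f'' = coprod.map f' f'' ≫ coprod.desc (𝟙 Y) (𝟙 Y) := by
      rw [coprod.map_desc, Category.comp_id, Category.comp_id]
    rw [this]
    have : QuasiSeparated (coprod.map f' f'') :=
      IsZariskiLocalAtTarget.coprodMap (P := @QuasiSeparated) f' f'' h1 h2
    infer_instance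

end Groth.Agent.S4609
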