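import Groth.Statements.S4610
import Mathlib

set_option autoImplicit false
universe u
open EGA41

namespace Groth.Agent.S4610

section
open Polynomial

variable {A : Type u} [CommRing A]

noncomputable abbrev I {r : ℕ} (F : Fin r → Polynomial A) : Ideal (MvPolynomial (Fin r) A) :=
  Ideal.span (Set.range fun i => Polynomial.aeval (MvPolynomial.X i : MvPolynomial (Fin r) A) (F i))

noncomputable abbrev Q {r : ℕ} (F : Fin r → Polynomial A) := MvPolynomial (Fin r) A ⧸ I F

section step
variable {r : ℕ} (F : Fin (r + 1) → Polynomial A)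

abbrev F' : Fin r → Polynomial A := fun i => F i.succ
noncomputable abbrev B := Q (F' F)
noncomputable abbrev G : Polynomial (B F) := (F 0).map (algebraMap A (B F))

noncomputable def φ₀ : MvPolynomial (Fin (r + 1)) A →ₐ[A] AdjoinRoot (G F) :=
  MvPolynomial.aeval (Fin.cons (AdjoinRoot.root (G F))
    (fun i => AdjoinRoot.of (G F) (Ideal.Quotient.mk (I (F' F)) (MvPolynomial.X i))))

theorem φ₀_X_zero : φ₀ F (MvPolynomial.X 0) = AdjoinRoot.root (G F) := by
  simp [φ₀]

theorem φ₀_X_succ (i : Fin r) : φ₀ F (MvPolynomial.X i.succ) =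
    AdjoinRoot.of (G F) (Ideal.Quotient.mk (I (F' F)) (MvPolynomial.X i)) := by
  simp [φ₀]

theorem φ₀_kills : ∀ a ∈ I F, φ₀ F a = 0 := by
  intro a ha
  have : I F ≤ RingHom.ker (φ₀ F : MvPolynomial (Fin (r + 1)) A →+* AdjoinRoot (G F)) := by
    rw [Ideal.span_le]
    rintro _ ⟨i, rfl⟩
    rw [SetLike.mem_coe, RingHom.mem_ker]
    change φ₀ F (Polynomial.aeval (MvPolynomial.X i) (F i)) = 0
    rw [← Polynomial.aeval_algHom_apply]
    refine Fin.cases ?_ (fun j => ?_) i
    · rw [φ₀_X_zero]
      have h := AdjoinRoot.eval₂_root (G F)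
      rw [Polynomial.eval₂_map] at h
      rw [Polynomial.aeval_def]
      exact h
    · rw [φ₀_X_succ]
      let γ : MvPolynomial (Fin r) A →ₐ[A] AdjoinRoot (G F) :=
        (IsScalarTower.toAlgHom A (B F) (AdjoinRoot (G F))).comp (Ideal.Quotient.mkₐ A (I (F' F)))
      have hγ : AdjoinRoot.of (G F) (Ideal.Quotient.mk (I (F' F)) (MvPolynomial.X j)) =
          γ (MvPolynomial.X j) := rfl
      rw [hγ, Polynomial.aeval_algHom_apply]
      have : Polynomial.aeval (MvPolynomial.X j : MvPolynomial (Fin r) A) (F j.succ) ∈ I (F' F) :=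
        Ideal.subset_span ⟨j, rfl⟩
      change AdjoinRoot.of (G F) (Ideal.Quotient.mk (I (F' F)) _) = 0
      rw [Ideal.Quotient.eq_zero_iff_mem.2 this, map_zero]
  exact this ha

noncomputable def φ : Q F →ₐ[A] AdjoinRoot (G F) :=
  Ideal.Quotient.liftₐ (I F) (φ₀ F) (φ₀_kills F)

noncomputable def β₀ : MvPolynomial (Fin r) A →ₐ[A] Q F :=
  MvPolynomial.aeval (fun i => Ideal.Quotient.mk (I F) (MvPolynomial.X i.succ))

theorem β₀_kills : ∀ a ∈ I (F' F), β₀ F a = 0 := by
  intro a ha
  have : I (F' F) ≤ RingHom.ker (β₀ F : MvPolynomial (Fin r) A →+* Q F) := by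
    rw [Ideal.span_le]
    rintro _ ⟨i, rfl⟩
    rw [SetLike.mem_coe, RingHom.mem_ker]
    change β₀ F (Polynomial.aeval (MvPolynomial.X i) (F i.succ)) = 0
    rw [← Polynomial.aeval_algHom_apply]
    have h1 : β₀ F (MvPolynomial.X i) = (Ideal.Quotient.mkₐ A (I F)) (MvPolynomial.X i.succ) := by
      simp [β₀]
    rw [h1, Polynomial.aeval_algHom_apply]
    have : Polynomial.aeval (MvPolynomial.X i.succ : MvPolynomial (Fin (r+1)) A) (F i.succ) ∈ I F :=
      Ideal.subset_span ⟨i.succ, rfl⟩
    exact Ideal.Quotient.eq_zero_iff_mem.2 this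
  exact this ha

noncomputable def β : B F →ₐ[A] Q F :=
  Ideal.Quotient.liftₐ (I (F' F)) (β₀ F) (β₀_kills F)

theorem root_eval : (G F).eval₂ (β F : B F →+* Q F) (Ideal.Quotient.mk (I F) (MvPolynomial.X 0)) = 0 := by
  rw [Polynomial.eval₂_map]
  have : ((β F : B F →+* Q F).comp (algebraMap A (B F))) = algebraMap A (Q F) := by
    ext a
    simp
  rw [this]
  have h1 : Polynomial.eval₂ (algebraMap A (Q F)) (Ideal.Quotient.mk (I F) (MvPolynomial.X 0)) (F 0) =
      Polynomial.aeval ((Ideal.Quotient.mkₐ A (I F)) (MvPolynomial.X 0)) (F 0) := rfl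
  rw [h1, Polynomial.aeval_algHom_apply]
  have : Polynomial.aeval (MvPolynomial.X 0 : MvPolynomial (Fin (r+1)) A) (F 0) ∈ I F :=
    Ideal.subset_span ⟨0, rfl⟩
  exact Ideal.Quotient.eq_zero_iff_mem.2 this

noncomputable def ψ : AdjoinRoot (G F) →ₐ[A] Q F :=
  AdjoinRoot.liftAlgHom (G F) (β F) (Ideal.Quotient.mk (I F) (MvPolynomial.X 0)) (root_eval F)


theorem ψ_φ : (ψ F).comp (φ F) = AlgHom.id A (Q F) := by
  apply Ideal.Quotient.algHom_ext
  apply MvPolynomial.algHom_ext
  intro i
  change ψ F (φ F (Ideal.Quotient.mk (I F) (MvPolynomial.X i))) = Ideal.Quotient.mk (I F) (MvPolynomial.X i)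
  have h1 : φ F (Ideal.Quotient.mk (I F) (MvPolynomial.X i)) = φ₀ F (MvPolynomial.X i) := rfl
  rw [h1]
  refine Fin.cases ?_ (fun j => ?_) i
  · rw [φ₀_X_zero]
    simp [ψ]
  · rw [φ₀_X_succ]
    simp only [ψ, AdjoinRoot.liftAlgHom_of]
    change β₀ F (MvPolynomial.X j) = _
    simp [β₀]

theorem φ_ψ : (φ F).comp (ψ F) = AlgHom.id A (AdjoinRoot (G F)) := by
  -- compare as ring homs via AdjoinRoot.lift uniqueness
  have hof : ∀ b : B F, φ F (ψ F (AdjoinRoot.of (G F) b)) = AdjoinRoot.of (G F) b := by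
    intro b
    have : ((φ F).comp ((ψ F).comp (IsScalarTower.toAlgHom A (B F) (AdjoinRoot (G F))))) =
        IsScalarTower.toAlgHom A (B F) (AdjoinRoot (G F)) := by
      apply Ideal.Quotient.algHom_ext
      apply MvPolynomial.algHom_ext
      intro j
      change φ F (ψ F (AdjoinRoot.of (G F) (Ideal.Quotient.mk (I (F' F)) (MvPolynomial.X j)))) =
        AdjoinRoot.of (G F) (Ideal.Quotient.mk (I (F' F)) (MvPolynomial.X j))
      simp only [ψ, AdjoinRoot.liftAlgHom_of]
      have : β F (Ideal.Quotient.mk (I (F' F)) (MvPolynomial.X j)) =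
          Ideal.Quotient.mk (I F) (MvPolynomial.X j.succ) := by
        change β₀ F (MvPolynomial.X j) = _
        simp [β₀]
      rw [this]
      change φ₀ F (MvPolynomial.X j.succ) = _
      rw [φ₀_X_succ]
    exact congrArg (fun f => f b) this
  have hroot : φ F (ψ F (AdjoinRoot.root (G F))) = AdjoinRoot.root (G F) := by
    simp only [ψ, AdjoinRoot.liftAlgHom_root]
    change φ₀ F (MvPolynomial.X 0) = _
    rw [φ₀_X_zero]
  apply AlgHom.ext
  intro x
  obtain ⟨g, rfl⟩ := AdjoinRoot.mk_surjective x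
  induction g using Polynomial.induction_on with
  | C b =>
    change φ F (ψ F (AdjoinRoot.of (G F) b)) = AdjoinRoot.of (G F) b
    exact hof b
  | add f g hf hg =>
    simp only [map_add] at hf hg ⊢
    rw [hf, hg]
  | monomial n b h =>
    rw [pow_succ, ← mul_assoc, map_mul, map_mul, h]
    congr 1

noncomputable def e : Q F ≃ₐ[A] AdjoinRoot (G F) :=
  AlgEquiv.ofAlgHom (φ F) (ψ F) (φ_ψ F) (ψ_φ F)

end step


theorem all (r : ℕ) : ∀ (F : Fin r → Polynomial A) [Nontrivial A], (∀ i, (F i).Monic) →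
    Module.Free A (Q F) ∧ Module.finrank A (Q F) = Finset.univ.prod fun i => (F i).natDegree := by
  induction r with
  | zero =>
    intro F _ _
    have hbot : I F = ⊥ := by
      rw [I, Ideal.span_eq_bot]
      rintro _ ⟨i, rfl⟩
      exact i.elim0
    let e0 : Q F ≃ₐ[A] A :=
      ((Ideal.quotientEquivAlgOfEq A hbot).trans (AlgEquiv.quotientBot A _)).trans
        (MvPolynomial.isEmptyAlgEquiv A (Fin 0))
    refine ⟨Module.Free.of_equiv e0.symm.toLinearEquiv, ?_⟩
    rw [e0.toLinearEquiv.finrank_eq]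
    simp
  | succ r ih =>
    intro F _ hF
    obtain ⟨hfree, hrank⟩ := ih (F' F) (fun i => hF i.succ)
    have hG : (G F).Monic := (hF 0).map _
    rw [Fin.prod_univ_succ]
    rcases subsingleton_or_nontrivial (B F) with hB | hB
    · have hsub : Subsingleton (AdjoinRoot (G F)) := by
        refine subsingleton_of_zero_eq_one ?_
        rw [← map_zero (AdjoinRoot.of (G F)), ← map_one (AdjoinRoot.of (G F))]
        exact congrArg _ (Subsingleton.elim _ _)
      have hsubQ : Subsingleton (Q F) := (e F).toEquiv.subsingleton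
      refine ⟨Module.Free.of_subsingleton A (Q F), ?_⟩
      rw [Module.finrank_zero_of_subsingleton]
      have h0 : Module.finrank A (B F) = 0 := Module.finrank_zero_of_subsingleton
      rw [hrank] at h0
      rw [h0, mul_zero]
    · have hfreeB : Module.Free (B F) (AdjoinRoot (G F)) := hG.free_adjoinRoot
      have hfreeA : Module.Free A (AdjoinRoot (G F)) :=
        Module.Free.of_basis ((Module.Free.chooseBasis A (B F)).smulTower
          (Module.Free.chooseBasis (B F) (AdjoinRoot (G F))))
      refine ⟨Module.Free.of_equiv (e F).symm.toLinearEquiv, ?_⟩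
      rw [(e F).toLinearEquiv.finrank_eq, ← Module.finrank_mul_finrank A (B F) (AdjoinRoot (G F)),
        hrank, mul_comm]
      congr 1
      rw [(AdjoinRoot.powerBasis' hG).finrank]
      simp only [AdjoinRoot.powerBasis'_dim]
      exact (hF 0).natDegree_map _

theorem main {A : Type u} [CommRing A] [Nontrivial A]
    {r : ℕ} (F : Fin r → Polynomial A) (hF : ∀ i, (F i).Monic) :
    Module.Free A (MvPolynomial (Fin r) A ⧸ Ideal.span (Set.range fun i => Polynomial.aeval (MvPolynomial.X i : MvPolynomial (Fin r) A) (F i))) ∧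
      Module.finrank A (MvPolynomial (Fin r) A ⧸ Ideal.span (Set.range fun i => Polynomial.aeval (MvPolynomial.X i : MvPolynomial (Fin r) A) (F i))) =
        Finset.univ.prod fun i => (F i).natDegree :=
  all r F hF


end


/-- Let A be a nonzero ring and F_1, …, F_r monic one-variable polynomials of degrees d_1, …, d_r; then
A[T_1, …, T_r]/(F_1(T_1), …, F_r(T_r)) is a free A-module of rank ∏ d_i. (The published statement
assumes A local with maximal ideal of square zero and A' local, which this assertion does not use;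
its bound [K' : K] ≤ d and part (ii) are not stated.) -/
theorem result {A : Type u} [CommRing A] [Nontrivial A]
    {r : ℕ} (F : Fin r → Polynomial A) (hF : ∀ i, (F i).Monic) :
    Module.Free A (MvPolynomial (Fin r) A ⧸ Ideal.span (Set.range fun i => Polynomial.aeval (MvPolynomial.X i : MvPolynomial (Fin r) A) (F i))) ∧
      Module.finrank A (MvPolynomial (Fin r) A ⧸ Ideal.span (Set.range fun i => Polynomial.aeval (MvPolynomial.X i : MvPolynomial (Fin r) A) (F i))) =
        Finset.univ.prod fun i => (F i).natDegree := by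
  classical
  exact main F hF

end Groth.Agent.S4610
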