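import Groth.Statements.S4611
import Groth.Agent.Lib.Helper3.All

set_option autoImplicit false
universe u
open EGA41

namespace Groth.Agent.S4611

/-- A local algebra essentially of finite type over a ring A is A-isomorphic to a quotient of a
localization A[T_1, …, T_n]_q of a polynomial algebra at a prime ideal q; stated as the existence of
a surjective A-algebra map from such a localization. -/
theorem result {A B : Type u} [CommRing A]
    [CommRing B] [IsLocalRing B] [Algebra A B] [Algebra.EssFiniteType A B] :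
    ∃ (n : ℕ) (q : Ideal (MvPolynomial (Fin n) A)) (_ : q.IsPrime)
      (φ : Localization.AtPrime q →ₐ[A] B), Function.Surjective φ := by
  classical
  obtain ⟨σ, hσ⟩ := (Algebra.essFiniteType_iff (R := A) (S := B)).1 inferInstance
  let e : Fin σ.card ≃ σ := σ.equivFin.symm
  let ψ : MvPolynomial (Fin σ.card) A →ₐ[A] B := MvPolynomial.aeval (fun i => ((e i : σ) : B))
  have hrange : ∀ b : B, b ∈ Algebra.adjoin A (σ : Set B) → ∃ p, ψ p = b := by
    intro b hb
    have h1 : Set.range (fun i : Fin σ.card => ((e i : σ) : B)) = (σ : Set B) := by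
      ext x
      constructor
      · rintro ⟨i, rfl⟩
        exact (e i).2
      · intro hx
        exact ⟨e.symm ⟨x, hx⟩, by simp⟩
    rw [← h1, Algebra.adjoin_range_eq_range_aeval] at hb
    exact hb
  let q : Ideal (MvPolynomial (Fin σ.card) A) := (IsLocalRing.maximalIdeal B).comap ψ.toRingHom
  have hq : q.IsPrime := Ideal.comap_isPrime _ _
  have hunit : ∀ y : q.primeCompl, IsUnit (ψ y) := by
    intro y
    have : ψ y ∉ IsLocalRing.maximalIdeal B := fun h => y.2 h
    exact IsLocalRing.notMem_maximalIdeal.1 this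
  refine ⟨σ.card, q, hq, IsLocalization.liftAlgHom (M := q.primeCompl) (f := ψ) hunit, ?_⟩
  intro b
  obtain ⟨t, ht, htu, hbt⟩ := hσ b
  obtain ⟨p', hp'⟩ := hrange t ht
  obtain ⟨p, hp⟩ := hrange (b * t) hbt
  have hp'q : p' ∈ q.primeCompl := by
    intro h
    have h1 : ψ p' ∈ IsLocalRing.maximalIdeal B := h
    rw [hp'] at h1
    exact (IsLocalRing.notMem_maximalIdeal.2 htu) h1
  refine ⟨IsLocalization.mk' (Localization.AtPrime q) p ⟨p', hp'q⟩, ?_⟩
  rw [IsLocalization.liftAlgHom_apply, IsLocalization.lift_mk'_spec]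
  show ψ p = ψ p' * b
  rw [hp, hp', mul_comm]

end Groth.Agent.S4611
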