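import Groth.Statements.S4617
import Mathlib
import Groth.Agent.S2500
import Groth.Agent.S2501
import Groth.Agent.S1609

set_option autoImplicit false
open CategoryTheory AlgebraicGeometry
universe u
open FBase

namespace Groth.Agent.S4617

section
open CategoryTheory AlgebraicGeometry

open TensorProduct CategoryTheory.Limits

/-- topological lemma: a continuous surjection onto a quasi-sober space does not increase the number of
irreducible components -/
theorem card_irr_le {A B : Type u} [TopologicalSpace A] [TopologicalSpace B] [QuasiSober B]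
    (q : A → B) (hq : Continuous q) (hs : Function.Surjective q) :
    Cardinal.mk ↥(irreducibleComponents B) ≤ Cardinal.mk ↥(irreducibleComponents A) := by
  have key : ∀ Z : irreducibleComponents B, ∃ Z' : irreducibleComponents A,
      closure (q '' (Z' : Set A)) = (Z : Set B) := by
    rintro ⟨Z, hZ⟩
    have hZc : IsClosed Z := isClosed_of_mem_irreducibleComponents Z hZ
    have hZi : IsIrreducible Z := hZ.1
    obtain ⟨ζ, hζ⟩ := QuasiSober.sober hZi hZc
    obtain ⟨ζ', rfl⟩ := hs ζ
    refine ⟨⟨irreducibleComponent ζ', irreducibleComponent_mem_irreducibleComponents ζ'⟩, ?_⟩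
    have hirr : IsIrreducible (closure (q '' irreducibleComponent ζ')) :=
      (isIrreducible_irreducibleComponent.image q hq.continuousOn).closure
    have hsub : Z ⊆ closure (q '' irreducibleComponent ζ') := by
      rw [← hζ.def]
      exact closure_minimal (Set.singleton_subset_iff.mpr
        (subset_closure ⟨ζ', mem_irreducibleComponent, rfl⟩)) isClosed_closure
    exact (hZ.2 hirr hsub).antisymm hsub |>.symm ▸ rfl
  choose F hF using key
  refine Cardinal.mk_le_of_injective (f := F) ?_
  intro Z₁ Z₂ h
  apply Subtype.ext
  rw [← hF Z₁, ← hF Z₂, h]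

theorem exists_common {k K Ω : Type u} [Field k] [Field K] [Algebra k K] [Field Ω] [Algebra k Ω]
    [IsAlgClosed Ω] {X : Scheme.{u}} (f : X ⟶ Spec (CommRingCat.of k)) :
    ∃ (W : Scheme.{u}) (q : W ⟶ FBase.bc f K) (ℓ : W ⟶ FBase.bc f Ω),
      Function.Surjective q ∧ GeometricallyIrreducible ℓ ∧ GeometricallyConnected ℓ ∧
        IsOpenMap ℓ := by
  obtain ⟨L, _, b, c, hbc⟩ :=
    Groth.Agent.S1609.exists_compositum k K Ω (algebraMap k K) (algebraMap k Ω)
  letI : Algebra Ω L := c.toAlgebra
  have hW : IsPullback
      (pullback.fst (pullback.snd f (Spec.map (CommRingCat.ofHom (algebraMap k K))))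
        (Spec.map (CommRingCat.ofHom b)))
      (pullback.snd (pullback.snd f (Spec.map (CommRingCat.ofHom (algebraMap k K))))
        (Spec.map (CommRingCat.ofHom b)))
      (pullback.snd f (Spec.map (CommRingCat.ofHom (algebraMap k K))))
      (Spec.map (CommRingCat.ofHom b)) := IsPullback.of_hasPullback _ _
  have hK : IsPullback (pullback.fst f (Spec.map (CommRingCat.ofHom (algebraMap k K))))
      (pullback.snd f (Spec.map (CommRingCat.ofHom (algebraMap k K)))) f
      (Spec.map (CommRingCat.ofHom (algebraMap k K))) := IsPullback.of_hasPullback _ _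
  have hΩ : IsPullback (pullback.fst f (Spec.map (CommRingCat.ofHom (algebraMap k Ω))))
      (pullback.snd f (Spec.map (CommRingCat.ofHom (algebraMap k Ω)))) f
      (Spec.map (CommRingCat.ofHom (algebraMap k Ω))) := IsPullback.of_hasPullback _ _
  have hbig := hW.paste_horiz hK
  have hbot : Spec.map (CommRingCat.ofHom b) ≫ Spec.map (CommRingCat.ofHom (algebraMap k K))
      = Spec.map (CommRingCat.ofHom c) ≫ Spec.map (CommRingCat.ofHom (algebraMap k Ω)) := by
    rw [← Spec.map_comp, ← Spec.map_comp, ← CommRingCat.ofHom_comp, ← CommRingCat.ofHom_comp, hbc]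
  rw [hbot] at hbig
  have hcomm : (pullback.fst (pullback.snd f (Spec.map (CommRingCat.ofHom (algebraMap k K))))
        (Spec.map (CommRingCat.ofHom b)) ≫
        pullback.fst f (Spec.map (CommRingCat.ofHom (algebraMap k K)))) ≫ f =
      (pullback.snd (pullback.snd f (Spec.map (CommRingCat.ofHom (algebraMap k K))))
        (Spec.map (CommRingCat.ofHom b)) ≫ Spec.map (CommRingCat.ofHom c)) ≫
        Spec.map (CommRingCat.ofHom (algebraMap k Ω)) := by
    rw [Category.assoc]
    exact hbig.w
  have hleft : IsPullback (hΩ.lift _ _ hcomm)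
      (pullback.snd (pullback.snd f (Spec.map (CommRingCat.ofHom (algebraMap k K))))
        (Spec.map (CommRingCat.ofHom b)))
      (pullback.snd f (Spec.map (CommRingCat.ofHom (algebraMap k Ω))))
      (Spec.map (CommRingCat.ofHom c)) := by
    apply IsPullback.of_right _ (hΩ.lift_snd _ _ hcomm) hΩ
    rw [hΩ.lift_fst]
    exact hbig
  have hgi : GeometricallyIrreducible (Spec.map (CommRingCat.ofHom c)) :=
    Groth.Agent.S2500.geomIrr_spec_field Ω L
  have hgc : GeometricallyConnected (Spec.map (CommRingCat.ofHom c)) :=
    Groth.Agent.S2501.geomConn_spec_field Ω L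
  have huo : UniversallyOpen (Spec.map (CommRingCat.ofHom c)) := inferInstance
  have hℓo : UniversallyOpen (hΩ.lift _ _ hcomm) :=
    MorphismProperty.of_isPullback (P := @UniversallyOpen) hleft.flip huo
  refine ⟨_, pullback.fst (pullback.snd f (Spec.map (CommRingCat.ofHom (algebraMap k K))))
        (Spec.map (CommRingCat.ofHom b)), hΩ.lift _ _ hcomm, ?_, ?_, ?_, ?_⟩
  · have : Surjective (pullback.fst (pullback.snd f (Spec.map (CommRingCat.ofHom (algebraMap k K))))
        (Spec.map (CommRingCat.ofHom b))) :=
      MorphismProperty.of_isPullback (P := @Surjective) hW.flip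
        (Groth.Agent.S1630.surj_spec K L _)
    exact this.surj
  · exact MorphismProperty.of_isPullback (P := @GeometricallyIrreducible) hleft.flip hgi
  · exact MorphismProperty.of_isPullback (P := @GeometricallyConnected) hleft.flip hgc
  · exact (hΩ.lift _ _ hcomm).isOpenMap

theorem main {k K Ω : Type u} [Field k] [Field K] [Algebra k K]
    [Field Ω] [Algebra k Ω] [IsAlgClosed Ω] {X : Scheme.{u}} (f : X ⟶ Spec (CommRingCat.of k)) :
    Cardinal.mk ↥(irreducibleComponents ↥(FBase.bc f K)) ≤
      Cardinal.mk ↥(irreducibleComponents ↥(FBase.bc f Ω)) := by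
  obtain ⟨W, q, ℓ, hq, hgi, -, ho⟩ := exists_common (K := K) (Ω := Ω) f
  have h1 := card_irr_le q q.continuous hq
  have h2 : Cardinal.mk ↥(irreducibleComponents ↥W) =
      Cardinal.mk ↥(irreducibleComponents ↥(FBase.bc f Ω)) :=
    Cardinal.mk_congr (ℓ.irreducibleComponentsEquiv ho)
  exact h1.trans h2.le


end


/-- Let X be a scheme over a field k, K any extension field of k and Ω an algebraically closed extension
field of k. Then the set of irreducible components of X ⊗_k K has cardinality at most that of the
set of irreducible components of X ⊗_k Ω. In particular the cardinality of the set of irreducible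
components of X ⊗_k Ω does not depend on the algebraically closed extension Ω. -/
theorem result {k K Ω : Type u} [Field k] [Field K] [Algebra k K]
    [Field Ω] [Algebra k Ω] [IsAlgClosed Ω] {X : Scheme.{u}} (f : X ⟶ Spec (CommRingCat.of k)) :
    Cardinal.mk ↥(irreducibleComponents ↥(FBase.bc f K)) ≤ Cardinal.mk ↥(irreducibleComponents ↥(FBase.bc f Ω)) := by
  classical
  exact main f

end Groth.Agent.S4617
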