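import Groth.Statements.S4618
import Mathlib
import Groth.Agent.S4617

set_option autoImplicit false
open CategoryTheory AlgebraicGeometry
universe u
open FBase

namespace Groth.Agent.S4618

section
open CategoryTheory AlgebraicGeometry

theorem card_conn_le {A B : Type u} [TopologicalSpace A] [TopologicalSpace B]
    (q : A → B) (hq : Continuous q) (hs : Function.Surjective q) :
    Cardinal.mk (ConnectedComponents B) ≤ Cardinal.mk (ConnectedComponents A) := by
  refine Cardinal.mk_le_of_surjective (f := hq.connectedComponentsMap) ?_
  intro z
  obtain ⟨b, rfl⟩ := ConnectedComponents.surjective_coe z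
  obtain ⟨a, rfl⟩ := hs b
  exact ⟨(a : ConnectedComponents A), rfl⟩

theorem main {k K Ω : Type u} [Field k] [Field K] [Algebra k K]
    [Field Ω] [Algebra k Ω] [IsAlgClosed Ω] {X : Scheme.{u}} (f : X ⟶ Spec (CommRingCat.of k)) :
    Cardinal.mk (_root_.ConnectedComponents ↥(FBase.bc f K)) ≤
      Cardinal.mk (_root_.ConnectedComponents ↥(FBase.bc f Ω)) := by
  obtain ⟨W, q, ℓ, hq, -, hgc, ho⟩ := Groth.Agent.S4617.exists_common (K := K) (Ω := Ω) f
  have h1 := card_conn_le q q.continuous hq
  have h2 : Cardinal.mk (_root_.ConnectedComponents ↥W) =
      Cardinal.mk (_root_.ConnectedComponents ↥(FBase.bc f Ω)) :=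
    Cardinal.mk_congr (ℓ.connectedComponentsHomeomorph ho).toEquiv
  exact h1.trans h2.le


end


/-- Let X be a scheme over a field k, K any extension field of k and Ω an algebraically closed extension
field of k. Then the set of connected components of X ⊗_k K has cardinality at most that of the set
of connected components of X ⊗_k Ω. In particular the cardinality of the set of connected components
of X ⊗_k Ω does not depend on the algebraically closed extension Ω. -/
theorem result {k K Ω : Type u} [Field k] [Field K] [Algebra k K]
    [Field Ω] [Algebra k Ω] [IsAlgClosed Ω] {X : Scheme.{u}} (f : X ⟶ Spec (CommRingCat.of k)) :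
    Cardinal.mk (_root_.ConnectedComponents ↥(FBase.bc f K)) ≤ Cardinal.mk (_root_.ConnectedComponents ↥(FBase.bc f Ω)) := by
  classical
  exact main f

end Groth.Agent.S4618
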