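import Groth.Statements.S4620
import Mathlib
import Groth.Agent.S4621

set_option autoImplicit false
open CategoryTheory AlgebraicGeometry
universe u
open FBase

namespace Groth.Agent.S4620

section
open CategoryTheory AlgebraicGeometry
open FBase

open CategoryTheory.Limits

theorem main {k K : Type u} [Field k] [Field K] [Algebra k K]
    {X : Scheme.{u}} (f : X ⟶ Spec (CommRingCat.of k)) (Y : Set ↥X) (hY : Y ∈ irreducibleComponents ↥X)
    (hgi : ∀ (L : Type u) [Field L] [Algebra k L], IsIrreducible (⇑(FBase.bcπ f L) ⁻¹' Y))
    (y : X) (hy : y ∈ Y) :
    _root_.IsConnected (⇑(FBase.bcπ f K) ⁻¹' connectedComponent y) := by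
  have hYirr : IsIrreducible Y := hY.1
  have hYT : Y ⊆ connectedComponent y := hYirr.isConnected.2.subset_connectedComponent hy
  refine Groth.Agent.S4621.isConnected_preimage_connectedComponent f y
    (⇑(Groth.Agent.S2502.bcπ f (SeparableClosure k)) ⁻¹' Y) (hgi (SeparableClosure k)).isConnected
    ?_ ?_ K
  · intro z hz
    have : (Groth.Agent.S2502.bcπ f (SeparableClosure k)) z = y := hz
    show (Groth.Agent.S2502.bcπ f (SeparableClosure k)) z ∈ Y
    rw [this]; exact hy
  · exact Set.preimage_mono hYT


end


/-- Let X be a scheme over a field k and Y an irreducible component of X which is geometrically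
irreducible, i.e. the inverse image of Y in X ⊗_k L is irreducible for every extension field L of k.
Then the connected component of X containing Y is geometrically connected: for every extension field
K of k, the inverse image in X ⊗_k K of the connected component of a point y of Y is connected.
(Geometric irreducibility and connectedness of a locally closed subset do not depend on the
subscheme structure chosen, and are expressed here through inverse images under the projection.) -/
theorem result {k K : Type u} [Field k] [Field K] [Algebra k K]
    {X : Scheme.{u}} (f : X ⟶ Spec (CommRingCat.of k)) (Y : Set ↥X) (hY : Y ∈ irreducibleComponents ↥X)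
    (hgi : ∀ (L : Type u) [Field L] [Algebra k L], IsIrreducible (⇑(FBase.bcπ f L) ⁻¹' Y))
    (y : X) (hy : y ∈ Y) :
    _root_.IsConnected (⇑(FBase.bcπ f K) ⁻¹' connectedComponent y) := by
  classical
  exact main f Y hY hgi y hy

end Groth.Agent.S4620
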