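import Groth.Statements.S4623
import Groth.Agent.Lib.Helper3.GeomSurj

set_option autoImplicit false
open CategoryTheory AlgebraicGeometry
universe u
open FBase

namespace Groth.Agent.S4623

/-- Let h : X → Y be a surjective morphism of schemes over a field k. If X is geometrically irreducible
over k, then Y is geometrically irreducible over k. -/
theorem result {k : Type u} [Field k] {X Y : Scheme.{u}}
    (f : X ⟶ Spec (CommRingCat.of k)) (g : Y ⟶ Spec (CommRingCat.of k)) (h : X ⟶ Y) (w : h ≫ g = f)
    [Surjective h] [GeometricallyIrreducible f] : GeometricallyIrreducible g := by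
  refine ⟨Groth.Agent.Helper3.geometrically_of_surjective (P := (IrreducibleSpace ·)) ?_ f g h w
    GeometricallyIrreducible.geometrically_irreducibleSpace⟩
  intro Z W q _ hZ
  haveI : IrreducibleSpace Z := hZ
  exact Groth.Agent.Helper3.irreducibleSpace_of_surjective q q.continuous q.surjective

end Groth.Agent.S4623
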