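import Groth.Statements.S4624
import Groth.Agent.Lib.Helper3.GeomSurj

set_option autoImplicit false
open CategoryTheory AlgebraicGeometry
universe u
open FBase

namespace Groth.Agent.S4624

/-- Let h : X → Y be a surjective morphism of schemes over a field k. If X is geometrically connected
over k, then Y is geometrically connected over k. -/
theorem result {k : Type u} [Field k] {X Y : Scheme.{u}}
    (f : X ⟶ Spec (CommRingCat.of k)) (g : Y ⟶ Spec (CommRingCat.of k)) (h : X ⟶ Y) (w : h ≫ g = f)
    [Surjective h] [GeometricallyConnected f] : GeometricallyConnected g := by
  refine ⟨Groth.Agent.Helper3.geometrically_of_surjective (P := (ConnectedSpace ·)) ?_ f g h w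
    GeometricallyConnected.geometrically_connectedSpace⟩
  intro Z W q _ hZ
  haveI : ConnectedSpace Z := hZ
  exact q.surjective.connectedSpace q.continuous

end Groth.Agent.S4624
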