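import Groth.Statements.S4625
import Groth.Agent.Lib.Helper3.GeomSurjFlat

set_option autoImplicit false
open CategoryTheory AlgebraicGeometry
universe u
open FBase

namespace Groth.Agent.S4625

/-- Let X be a scheme over a field k and K an extension field of k. Then X is geometrically connected
over k if and only if X ⊗_k K, with its structure of K-scheme, is geometrically connected over K. -/
theorem result {k K : Type u} [Field k] [Field K] [Algebra k K]
    {X : Scheme.{u}} (f : X ⟶ Spec (CommRingCat.of k)) :
    GeometricallyConnected f ↔ GeometricallyConnected (FBase.bcStr f K) := by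
  unfold FBase.bcStr
  constructor
  · intro h; exact MorphismProperty.pullback_snd (P := @GeometricallyConnected) _ _ h
  · intro h
    have : Surjective (Spec.map (CommRingCat.ofHom (algebraMap k K))) :=
      ⟨fun x => ⟨Classical.arbitrary _, Subsingleton.elim _ _⟩⟩
    have hiso : ObjectProperty.IsClosedUnderIsomorphisms
        (fun Z : Scheme.{u} => ConnectedSpace ↥Z) := by
      refine ⟨fun {Z W} e hZ => ?_⟩
      have : ConnectedSpace ↥Z := hZ
      exact e.hom.homeomorph.surjective.connectedSpace e.hom.continuous
    refine ⟨Groth.Agent.Helper3.geometrically_of_surjective_baseChange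
      (P := fun Z : Scheme.{u} => ConnectedSpace ↥Z) ?_ f _ h.geometrically_connectedSpace⟩
    intro Z W q _ hZ
    have : ConnectedSpace ↥Z := hZ
    exact q.surjective.connectedSpace q.continuous

end Groth.Agent.S4625
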