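import Groth.Statements.S4626
import Groth.Agent.Lib.Helper3.GeomSurjFlat

set_option autoImplicit false
open CategoryTheory AlgebraicGeometry
universe u
open FBase

namespace Groth.Agent.S4626

/-- Let X be a scheme over a field k and K an extension field of k. Then X is geometrically reduced over
k if and only if X ⊗_k K, with its structure of K-scheme, is geometrically reduced over K. -/
theorem result {k K : Type u} [Field k] [Field K] [Algebra k K]
    {X : Scheme.{u}} (f : X ⟶ Spec (CommRingCat.of k)) :
    GeometricallyReduced f ↔ GeometricallyReduced (FBase.bcStr f K) := by
  unfold FBase.bcStr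
  constructor
  · intro h; exact MorphismProperty.pullback_snd (P := @GeometricallyReduced) _ _ h
  · intro h
    have : Surjective (Spec.map (CommRingCat.ofHom (algebraMap k K))) :=
      ⟨fun x => ⟨Classical.arbitrary _, Subsingleton.elim _ _⟩⟩
    refine ⟨Groth.Agent.Helper3.geometrically_of_surjective_baseChange_flat (P := IsReduced) ?_ f _
      h.geometrically_isReduced⟩
    intro Z W q _ _ _ hZ
    have : IsReduced Z := hZ
    exact Groth.Agent.Helper3.isReduced_of_flat_surjective q

end Groth.Agent.S4626
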