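import Groth.Statements.S4627
import Groth.Agent.Lib.Helper3.GeomSurjFlat

set_option autoImplicit false
open CategoryTheory AlgebraicGeometry
universe u
open FBase

namespace Groth.Agent.S4627

/-- Let X be a scheme over a field k and K an extension field of k. Then X is geometrically integral
over k if and only if X ⊗_k K, with its structure of K-scheme, is geometrically integral over K. -/
theorem result {k K : Type u} [Field k] [Field K] [Algebra k K]
    {X : Scheme.{u}} (f : X ⟶ Spec (CommRingCat.of k)) :
    GeometricallyIntegral f ↔ GeometricallyIntegral (FBase.bcStr f K) := by
  constructor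
  · intro h; exact MorphismProperty.pullback_snd (P := @GeometricallyIntegral) _ _ h
  · intro h
    have : Surjective (Spec.map (CommRingCat.ofHom (algebraMap k K))) :=
      ⟨fun x => ⟨Classical.arbitrary _, Subsingleton.elim _ _⟩⟩
    have h1' : GeometricallyReduced (FBase.bcStr f K) := inferInstance
    have h2' : GeometricallyIrreducible (FBase.bcStr f K) := inferInstance
    have h1 : GeometricallyReduced f := by
      refine ⟨Groth.Agent.Helper3.geometrically_of_surjective_baseChange_flat (P := IsReduced) ?_ f _
        h1'.geometrically_isReduced⟩
      intro Z W q _ _ _ hZ
      have : IsReduced Z := hZ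
      exact Groth.Agent.Helper3.isReduced_of_flat_surjective q
    have h2 : GeometricallyIrreducible f := by
      refine ⟨Groth.Agent.Helper3.geometrically_of_surjective_baseChange
        (P := (IrreducibleSpace ·)) ?_ f _ h2'.geometrically_irreducibleSpace⟩
      intro Z W q _ hZ
      have : IrreducibleSpace Z := hZ
      exact Groth.Agent.Helper3.irreducibleSpace_of_surjective q q.continuous q.surjective
    exact GeometricallyIntegral.of_geometricallyReduced_of_geometricallyIrreducible f

end Groth.Agent.S4627
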