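import Groth.Statements.S4632
-- import your own Groth.Agent.* helpers here
import Mathlib
import Groth.Agent.Lib.Helper7.QuasiFlat.Closure

set_option autoImplicit false
open CategoryTheory AlgebraicGeometry
universe u
open FDesc

namespace Groth.Agent.S4632

open CategoryTheory.Limits in
/-- Let f : X → Y be a quasi-compact dominant morphism and g : Y' → Y a quasi-flat morphism (for
instance a flat one). Then the base change X ×_Y Y' → Y' is dominant. -/
theorem result {X Y Y' : Scheme.{u}} (f : X ⟶ Y) (g : Y' ⟶ Y)
    [QuasiCompact f] [IsDominant f] (hg : FDesc.IsQuasiFlat g) : IsDominant (pullback.snd f g) := by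
  have hgen := Groth.Agent.Helper7.QuasiFlat.generalizingMap_of_isQuasiFlat g hg
  have hpro : ProCons.IsProConstructible (Set.range f.base) :=
    Groth.Agent.Helper7.QuasiFlat.isProConstructible_range f
  have h1 := Groth.Agent.Helper7.QuasiFlat.preimage_closure_eq_of_generalizingMap g hgen hpro
  have hd : closure (Set.range f.base) = Set.univ :=
    denseRange_iff_closure_range.mp f.denseRange
  rw [hd, Set.preimage_univ] at h1
  have h2 : Set.range (pullback.snd f g).base = g.base ⁻¹' Set.range f.base :=
    AlgebraicGeometry.Scheme.Pullback.range_snd f g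
  refine ⟨?_⟩
  rw [denseRange_iff_closure_range]
  have h3 : closure (Set.range (pullback.snd f g).base) = Set.univ := by
    rw [h2, ← h1]
  exact h3

end Groth.Agent.S4632
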