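import Groth.Statements.S4634
-- import your own Groth.Agent.* helpers here
import Mathlib
import Groth.Agent.Lib.Helper7.QuasiFlat.Closure

set_option autoImplicit false
open CategoryTheory AlgebraicGeometry
universe u
open FDesc

namespace Groth.Agent.S4634

/-- Let f : X → Y be a quasi-flat quasi-compact morphism and F a closed subset of X which is saturated
for f, i.e. F = f⁻¹(f(F)). Then F is the inverse image of the closure of f(F). -/
theorem result {X Y : Scheme.{u}} (f : X ⟶ Y) (hf : FDesc.IsQuasiFlat f)
    [QuasiCompact f] (F : Set ↥X) (hF : IsClosed F) (hsat : ⇑f ⁻¹' (⇑f '' F) = F) :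
    ⇑f ⁻¹' closure (⇑f '' F) = F := by
  have hgen := Groth.Agent.Helper7.QuasiFlat.generalizingMap_of_isQuasiFlat f hf
  have hpro : ProCons.IsProConstructible (f.base '' F) :=
    Groth.Agent.Helper7.ProConsLib.isProConstructible_image f
      (Groth.Agent.Helper7.QuasiFlat.isProConstructible_of_isClosed X hF)
  have h1 := Groth.Agent.Helper7.QuasiFlat.preimage_closure_eq_of_generalizingMap f hgen hpro
  have hsat' : f.base ⁻¹' (f.base '' F) = F := hsat
  rw [hsat', hF.closure_eq] at h1
  exact h1

end Groth.Agent.S4634
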