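import Groth.Statements.S4636
-- import your own Groth.Agent.* helpers here
import Mathlib
import Groth.Agent.Lib.Helper7.CohStalk.WeakAssExact
import Groth.Agent.S1707

set_option autoImplicit false
open CategoryTheory AlgebraicGeometry
universe u
open AssSch

namespace Groth.Agent.S4636

/-- Let X be a locally Noetherian scheme, F a coherent O_X-module and x a point of X. Then x is a
maximal associated point of F (an associated point such that every associated point specialising to
x equals x) if and only if x is the generic point of an irreducible component of Supp F, i.e. F_x ≠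
0 and every point y with F_y ≠ 0 that specialises to x equals x. -/
theorem result {X : Scheme.{u}} [IsLocallyNoetherian X] (F : X.Modules)
    (hF : Coh.IsCoh F) (x : X) :
    (x ∈ AssSch.Ass F ∧ ∀ y ∈ AssSch.Ass F, y ⤳ x → y = x) ↔
      (Nontrivial ↑(F.presheaf.stalk x) ∧ ∀ y : X, Nontrivial ↑(F.presheaf.stalk y) → y ⤳ x → y = x) := by
  obtain ⟨hq, -⟩ := hF
  constructor
  · rintro ⟨hx, hmax⟩
    have hxw : Curv2.IsWeakAssPoint F x :=
      (Groth.Agent.Helper7.FinType.isAssPoint_iff_isWeakAssPoint F x).mp hx
    refine ⟨not_subsingleton_iff_nontrivial.mp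
      (Groth.Agent.Helper7.FinType.not_subsingleton_of_isWeakAssPoint F x hxw), ?_⟩
    intro y hy hyx
    obtain ⟨y', hy', hy'y⟩ := Groth.Agent.Helper7.FinType.exists_isWeakAssPoint_specializes F hq y hy
    have h1 : y' = x := hmax y'
      ((Groth.Agent.Helper7.FinType.isAssPoint_iff_isWeakAssPoint F y').mpr hy') (hy'y.trans hyx)
    rw [h1] at hy'y
    exact (hyx.antisymm hy'y).eq
  · rintro ⟨hx, hmax⟩
    have hxs : x ∈ CohB1.support F := not_subsingleton_iff_nontrivial.mpr hx
    have hxw : Curv2.IsWeakAssPoint F x := Groth.Agent.S1707.result X F hq x hxs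
      (fun y hy hyx => hmax y (not_subsingleton_iff_nontrivial.mp hy) hyx)
    refine ⟨(Groth.Agent.Helper7.FinType.isAssPoint_iff_isWeakAssPoint F x).mpr hxw, ?_⟩
    intro y hy hyx
    have hyw : Curv2.IsWeakAssPoint F y :=
      (Groth.Agent.Helper7.FinType.isAssPoint_iff_isWeakAssPoint F y).mp hy
    exact hmax y (not_subsingleton_iff_nontrivial.mp
      (Groth.Agent.Helper7.FinType.not_subsingleton_of_isWeakAssPoint F y hyw)) hyx

end Groth.Agent.S4636
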