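import Groth.Statements.S4638
-- import your own Groth.Agent.* helpers here
import Mathlib
import Groth.Agent.Lib.Helper7.CohStalk.Zero

set_option autoImplicit false
open CategoryTheory AlgebraicGeometry
universe u
open AssSch

namespace Groth.Agent.S4638

/-- Let X be a locally Noetherian scheme, F a quasi-coherent O_X-module and f a global section of O_X.
Then f is F-regular, i.e. multiplication by the germ of f is injective on every stalk of F, if and
only if every associated point of F lies in the open subset X_f where f does not vanish. -/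
theorem result {X : Scheme.{u}} [IsLocallyNoetherian X] (F : X.Modules)
    (hF : Coh.IsQCoh F) (f : Γ(X, ⊤)) :
    (∀ x : X, IsSMulRegular ↑(F.presheaf.stalk x) (X.presheaf.germ ⊤ x trivial f)) ↔
      AssSch.Ass F ⊆ (X.basicOpen f : Set ↥X) := by
  have _ := ‹IsLocallyNoetherian X›
  constructor
  · intro hreg x hx
    change Curv2.IsAssPoint F x at hx
    obtain ⟨μ, hμ⟩ := (Groth.Agent.Helper7.FinType.isAssPoint_iff_isWeakAssPoint F x).mp hx
    by_contra hxf
    have hnu : ¬ IsUnit (X.presheaf.germ ⊤ x trivial f) := fun hu =>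
      hxf ((X.mem_basicOpen_top f x).mpr hu)
    have hmem : X.presheaf.germ ⊤ x trivial f ∈
        IsLocalRing.maximalIdeal (X.presheaf.stalk x) := hnu
    rw [← hμ] at hmem
    obtain ⟨k, hk⟩ := hmem
    rw [LinearMap.mem_ker, LinearMap.toSpanSingleton_apply] at hk
    have hk' : (X.presheaf.germ ⊤ x trivial f) ^ k • μ =
        (X.presheaf.germ ⊤ x trivial f) ^ k • (0 : F.presheaf.stalk x) := by
      rw [hk, smul_zero]
    have hμ0 : μ = 0 := (hreg x).pow k hk'
    have htop : LinearMap.ker (LinearMap.toSpanSingleton (X.presheaf.stalk x)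
        (F.presheaf.stalk x) μ) = ⊤ := by
      rw [eq_top_iff]
      intro r _
      rw [LinearMap.mem_ker, LinearMap.toSpanSingleton_apply, hμ0, smul_zero]
    rw [htop, Ideal.radical_top] at hμ
    exact (IsLocalRing.maximalIdeal.isMaximal (X.presheaf.stalk x)).ne_top hμ.symm
  · intro hAss x
    by_contra hnr
    -- a nonzero element of the stalk killed by the germ of `f`
    have hex : ∃ ν : F.presheaf.stalk x, ν ≠ 0 ∧ X.presheaf.germ ⊤ x trivial f • ν = 0 := by
      by_contra hcon
      apply hnr
      intro a b hab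
      by_contra hne
      apply hcon
      refine ⟨a - b, sub_ne_zero.mpr hne, ?_⟩
      have hab' : X.presheaf.germ ⊤ x trivial f • a = X.presheaf.germ ⊤ x trivial f • b := hab
      rw [smul_sub, hab', sub_self]
    obtain ⟨ν, hν, hfν⟩ := hex
    obtain ⟨_, ⟨V, hV, rfl⟩, hxV, -⟩ :=
      (X.isBasis_affineOpens).exists_subset_of_mem_open (Set.mem_univ x) isOpen_univ
    have hxV' : x ∈ V := hxV
    obtain ⟨n, h, hh, hn⟩ := Groth.Agent.Helper7.FinType.exists_germ_smul_eq F hF hV x hxV' ν
    let fV : Γ(X, V) := X.presheaf.map (homOfLE (le_top : V ≤ ⊤)).op f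
    have hfV : ∀ (y : X) (hy : y ∈ V),
        X.presheaf.germ V y hy fV = X.presheaf.germ ⊤ y trivial f :=
      fun y hy => TopCat.Presheaf.germ_res_apply X.presheaf (homOfLE (le_top : V ≤ ⊤)) y hy f
    have hn_ne : F.presheaf.germ V x hxV' n ≠ 0 := by
      intro h0
      rw [h0] at hn
      exact hν (Groth.Agent.Helper7.FinType.eq_zero_of_isUnit_smul_eq_zero hh hn)
    have h1 : F.presheaf.germ V x hxV' (fV • n) = 0 := by
      rw [Groth.Agent.Helper7.FinType.germ_smul, hfV, ← hn, smul_comm, hfν, smul_zero]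
    obtain ⟨g, hg, hgn⟩ :=
      Groth.Agent.Helper7.FinType.exists_smul_eq_zero_of_germ_eq_zero F hF hV x hxV' (fV • n) h1
    let n' : Γ(F, V) := g • n
    have hn' : n' ≠ 0 := by
      intro h0
      have h2 : F.presheaf.germ V x hxV' n' = 0 := by rw [h0, map_zero]
      rw [Groth.Agent.Helper7.FinType.germ_smul] at h2
      exact hn_ne (Groth.Agent.Helper7.FinType.eq_zero_of_isUnit_smul_eq_zero hg h2)
    have hfn' : fV • n' = 0 := by
      change fV • (g • n) = 0
      rw [smul_comm]; exact hgn
    obtain ⟨y, hy, -, hann, hyass⟩ :=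
      Groth.Agent.Helper7.FinType.exists_isWeakAssPoint_of_section_ne_zero F hF hV n' hn'
    have hyA : y ∈ AssSch.Ass F :=
      (Groth.Agent.Helper7.FinType.isAssPoint_iff_isWeakAssPoint F y).mpr hyass
    have hyf : y ∈ X.basicOpen f := hAss hyA
    have hu : IsUnit (X.presheaf.germ ⊤ y trivial f) := (X.mem_basicOpen_top f y).mp hyf
    rw [← hfV y hy] at hu
    exact hann fV hfn' hu

end Groth.Agent.S4638
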