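import Groth.Statements.S4640
import Mathlib

set_option autoImplicit false
universe u
open FDesc

namespace Groth.Agent.S4640

section
open TensorProduct

variable {A K : Type u} [CommRing A] [IsDedekindDomain A] [Field K]
    [Algebra A K] [IsFractionRing A K] {M : Type u} [AddCommGroup M] [Module A M]

theorem exists_clear (x : K ⊗[A] M) : ∃ (s : A) (m : M), s ≠ 0 ∧ s • x = (1 : K) ⊗ₜ[A] m := by
  induction x using TensorProduct.induction_on with
  | zero => exact ⟨1, 0, one_ne_zero, by simp⟩
  | tmul c m =>
    obtain ⟨a, s, hs, rfl⟩ := IsFractionRing.div_surjective (A := A) c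
    refine ⟨s, a • m, nonZeroDivisors.ne_zero hs, ?_⟩
    rw [TensorProduct.smul_tmul', TensorProduct.tmul_smul, TensorProduct.smul_tmul']
    congr 1
    rw [Algebra.smul_def, Algebra.smul_def, mul_one]
    have : algebraMap A K s ≠ 0 := by
      rw [Ne, map_eq_zero_iff _ (IsFractionRing.injective A K)]
      exact nonZeroDivisors.ne_zero hs
    field_simp
  | add x y hx hy =>
    obtain ⟨s₁, m₁, h₁, e₁⟩ := hx
    obtain ⟨s₂, m₂, h₂, e₂⟩ := hy
    refine ⟨s₁ * s₂, s₂ • m₁ + s₁ • m₂, mul_ne_zero h₁ h₂, ?_⟩
    rw [smul_add, TensorProduct.tmul_add, TensorProduct.tmul_smul, TensorProduct.tmul_smul, ← e₁, ← e₂,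
      smul_smul, smul_smul, mul_comm s₂ s₁]

theorem inj_of_flat (N : Type u) [AddCommGroup N] [Module A N] [Module.Flat A N] (n : N)
    (h : (1 : K) ⊗ₜ[A] n = 0) : n = 0 := by
  have hinj := Module.Flat.rTensor_preserves_injective_linearMap (M := N) (Algebra.linearMap A K)
    (IsFractionRing.injective A K)
  have h1 : (Algebra.linearMap A K).rTensor N ((1 : A) ⊗ₜ[A] n) = 0 := by
    rw [LinearMap.rTensor_tmul, Algebra.linearMap_apply, map_one, h]
  have h2 := hinj (h1.trans (map_zero _).symm)
  have h3 := congrArg (TensorProduct.lid A N) h2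
  simpa using h3


theorem mem_ker_phi (P' : Submodule K (K ⊗[A] M)) (m : M) :
    m ∈ LinearMap.ker ((P'.restrictScalars A).mkQ ∘ₗ TensorProduct.mk A K M 1) ↔
      (1 : K) ⊗ₜ[A] m ∈ P' := by
  rw [LinearMap.mem_ker, LinearMap.comp_apply, Submodule.mkQ_apply, Submodule.Quotient.mk_eq_zero]
  rfl

theorem main {A K : Type u} [CommRing A] [IsDedekindDomain A] [Field K]
    [Algebra A K] [IsFractionRing A K] {M : Type u} [AddCommGroup M] [Module A M]
    (P' : Submodule K (K ⊗[A] M)) (Q : Submodule A M) :
    Q = LinearMap.ker ((P'.restrictScalars A).mkQ ∘ₗ TensorProduct.mk A K M 1) ↔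
      (Module.Flat A (M ⧸ Q) ∧ LinearMap.ker (Q.mkQ.baseChange K) = P') := by
  have hexact : Function.Exact (Q.subtype.lTensor K) (Q.mkQ.lTensor K) :=
    lTensor_exact K (LinearMap.exact_subtype_mkQ Q) (Submodule.mkQ_surjective Q)
  constructor
  · intro hQ
    have hQmem : ∀ m : M, m ∈ Q ↔ (1 : K) ⊗ₜ[A] m ∈ P' := by
      intro m
      rw [← mem_ker_phi P' m, ← hQ]
    constructor
    · rw [IsDedekindDomain.flat_iff_torsion_eq_bot, eq_bot_iff]
      intro x hx
      rw [Submodule.mem_torsion_iff] at hx
      obtain ⟨⟨a, ha⟩, hax⟩ := hx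
      obtain ⟨m, rfl⟩ := Submodule.Quotient.mk_surjective Q x
      rw [Submodule.mem_bot, Submodule.Quotient.mk_eq_zero, hQmem]
      change a • (Submodule.Quotient.mk m : M ⧸ Q) = 0 at hax
      rw [← Submodule.Quotient.mk_smul Q (S := A) a m, Submodule.Quotient.mk_eq_zero, hQmem,
        TensorProduct.tmul_smul] at hax
      have ha0 : algebraMap A K a ≠ 0 := by
        rw [Ne, map_eq_zero_iff _ (IsFractionRing.injective A K)]
        exact nonZeroDivisors.ne_zero ha
      have h2 := P'.smul_mem (algebraMap A K a)⁻¹ hax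
      rw [← algebraMap_smul K a ((1 : K) ⊗ₜ[A] m), smul_smul, inv_mul_cancel₀ ha0, one_smul] at h2
      exact h2
    · ext x
      constructor
      · intro hx
        rw [LinearMap.mem_ker] at hx
        have hx' : (Q.mkQ.lTensor K) x = 0 := hx
        obtain ⟨w, rfl⟩ := (hexact x).mp hx'
        clear hx hx'
        induction w using TensorProduct.induction_on with
        | zero => simp
        | tmul c q =>
          rw [LinearMap.lTensor_tmul, Submodule.subtype_apply]
          have : c ⊗ₜ[A] (q : M) = c • ((1 : K) ⊗ₜ[A] (q : M)) := by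
            rw [TensorProduct.smul_tmul', smul_eq_mul, mul_one]
          rw [this]
          exact P'.smul_mem c ((hQmem q).mp q.2)
        | add w1 w2 h1 h2 =>
          rw [map_add]
          exact P'.add_mem h1 h2
      · intro hx
        obtain ⟨s, m, hs, hsm⟩ := exists_clear (A := A) (K := K) x
        have hs0 : algebraMap A K s ≠ 0 := by
          rw [Ne, map_eq_zero_iff _ (IsFractionRing.injective A K)]
          exact hs
        have hm : m ∈ Q := by
          rw [hQmem, ← hsm, ← algebraMap_smul K s x]
          exact P'.smul_mem _ hx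
        have hxe : x = (algebraMap A K s)⁻¹ • ((1 : K) ⊗ₜ[A] m) := by
          rw [← hsm, ← algebraMap_smul K s x, smul_smul, inv_mul_cancel₀ hs0, one_smul]
        rw [LinearMap.mem_ker]
        show (Q.mkQ.lTensor K) x = 0
        rw [hxe, TensorProduct.smul_tmul', LinearMap.lTensor_tmul, Submodule.mkQ_apply,
          (Submodule.Quotient.mk_eq_zero Q).mpr hm, TensorProduct.tmul_zero]
  · rintro ⟨hflat, hker⟩
    ext m
    rw [mem_ker_phi, ← hker, LinearMap.mem_ker]
    show m ∈ Q ↔ (Q.mkQ.lTensor K) ((1 : K) ⊗ₜ[A] m) = 0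
    rw [LinearMap.lTensor_tmul, Submodule.mkQ_apply]
    constructor
    · intro hm
      rw [(Submodule.Quotient.mk_eq_zero Q).mpr hm, TensorProduct.tmul_zero]
    · intro h0
      have := inj_of_flat (A := A) (K := K) (M ⧸ Q) _ h0
      exact (Submodule.Quotient.mk_eq_zero Q).mp this


end


open TensorProduct in
/-- Let A be a Dedekind domain with fraction field K, M an A-module and P' a K-submodule of K ⊗_A M. Let
φ : M → (K ⊗_A M)/P' be m ↦ class of 1 ⊗ m. Then a submodule Q of M equals ker φ if and only if M/Q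
is a flat A-module and the kernel of the induced surjection K ⊗_A M → K ⊗_A (M/Q) is P'. Thus M/ker
φ is the unique flat quotient of M with generic fibre (K ⊗_A M)/P'. (The published statement takes A
Noetherian, regular and of dimension 1; a field is allowed here, where the statement is immediate.) -/
theorem result {A K : Type u} [CommRing A] [IsDedekindDomain A] [Field K]
    [Algebra A K] [IsFractionRing A K] {M : Type u} [AddCommGroup M] [Module A M]
    (P' : Submodule K (K ⊗[A] M)) (Q : Submodule A M) :
    Q = LinearMap.ker ((P'.restrictScalars A).mkQ ∘ₗ TensorProduct.mk A K M 1) ↔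
      (Module.Flat A (M ⧸ Q) ∧ LinearMap.ker (Q.mkQ.baseChange K) = P') := by
  classical
  exact main P' Q

end Groth.Agent.S4640
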