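import Groth.Statements.S4652
import Mathlib
import Groth.Agent.Lib.Lead.SL1
import Groth.Agent.Lib.Lead.FP2

set_option autoImplicit false
open CategoryTheory AlgebraicGeometry
universe u
open FDesc

namespace Groth.Agent.S4652

section
open CategoryTheory AlgebraicGeometry

open Module TensorProduct Scheme.Modules Groth.Agent.Lead.SL Groth.Agent.Lead.FLF Groth.Agent.Lead.SD Groth.Agent.Lead.FP

attribute [local instance] stalkModule

theorem forward {X : Scheme.{u}} (F : X.Modules) (hF : CohB1.IsFP F) (x : X)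
    (hflat : FlatMod.IsFlatAt F x) :
    ∃ U : X.Opens, x ∈ U ∧ FlatMod.IsFinLocFree ((Scheme.Modules.pullback U.ι).obj F) := by
  haveI : SheafOfModules.IsFinitePresentation (R := X.ringCatSheaf) F := hF
  haveI : F.IsQuasicoherent := inferInstance
  obtain ⟨_, ⟨V, hV, rfl⟩, hxV, -⟩ :=
    X.isBasis_affineOpens.exists_subset_of_mem_open (Set.mem_univ x) isOpen_univ
  haveI hfp : Module.FinitePresentation Γ(X, V) Γ(F, V) := fp_sections_of_isFP F hF hV
  let x' : V := ⟨x, hxV⟩
  let p := hV.primeIdealOf x'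
  have hfreeStalk : Module.Free (X.presheaf.stalk x'.1) (F.presheaf.stalk x'.1) := by
    haveI : Module.Flat (X.presheaf.stalk x'.1) (F.presheaf.stalk x'.1) := hflat
    haveI := finite_stalk_of_finite_sections F hV x' inferInstance
    exact Module.free_of_flat_of_isLocalRing
  haveI hfreeLoc : Module.Free (Localization.AtPrime p.asIdeal)
      (LocalizedModule p.asIdeal.primeCompl Γ(F, V)) := (free_localized_iff F hV x').2 hfreeStalk
  obtain ⟨r, hr, hfree, -⟩ := Module.FinitePresentation.exists_free_localizedModule_powers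
    p.asIdeal.primeCompl (LocalizedModule.mkLinearMap p.asIdeal.primeCompl Γ(F, V))
    (Localization.AtPrime p.asIdeal)
  haveI := hfree
  haveI : Module.Finite (Localization.Away r) (LocalizedModule.Away r Γ(F, V)) :=
    Module.Finite.of_isLocalizedModule (Submonoid.powers r)
      (LocalizedModule.mkLinearMap (Submonoid.powers r) Γ(F, V))
  haveI : Nontrivial (Localization.Away r) :=
    (show Localization (.powers r) →+* Localization.AtPrime p.asIdeal from
      IsLocalization.map (M := .powers r) (T := p.asIdeal.primeCompl) _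
      (RingHom.id _) (Submonoid.powers_le.mpr hr)).domain_nontrivial
  have b := Module.finBasis (Localization.Away r) (LocalizedModule.Away r Γ(F, V))
  obtain ⟨e⟩ := free_basicOpen_of_basis F hV r _ b
  refine ⟨X.basicOpen r, (mem_basicOpen_iff hV x' r).2 hr, ?_⟩
  have h1 : FlatMod.IsFinLocFree (F.restrict (X.basicOpen r).ι) :=
    isFinLocFree_of_iso e.symm (isFinLocFree_freeMod _ _)
  exact isFinLocFree_of_iso ((restrictFunctorIsoPullback (X.basicOpen r).ι).app F) h1

theorem backward {X : Scheme.{u}} (F : X.Modules) (hF : CohB1.IsFP F) (x : X) (U : X.Opens)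
    (hxU : x ∈ U) (h : FlatMod.IsFinLocFree ((Scheme.Modules.pullback U.ι).obj F)) :
    FlatMod.IsFlatAt F x := by
  haveI : SheafOfModules.IsFinitePresentation (R := X.ringCatSheaf) F := hF
  haveI : F.IsQuasicoherent := inferInstance
  have h1 : FlatMod.IsFinLocFree (F.restrict U.ι) :=
    isFinLocFree_of_iso ((restrictFunctorIsoPullback U.ι).app F).symm h
  obtain ⟨W, n, hxW, ⟨e⟩⟩ := h1 ⟨x, hxU⟩
  have hxW' : x ∈ U.ι ''ᵁ W := ⟨⟨x, hxU⟩, hxW, rfl⟩
  have e' : F.restrict (W.ι ≫ U.ι) ≅ FlatMod.freeMod (↑W) n :=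
    (restrictFunctorComp W.ι U.ι).app F ≪≫ e
  have e'' : F.restrict (U.ι ''ᵁ W).ι ≅ FlatMod.freeMod (↑(U.ι ''ᵁ W)) n :=
    freeOfComp (U.ι.isoImage W).inv (W.ι ≫ U.ι) (U.ι ''ᵁ W).ι (U.ι.isoImage_inv_ι W) F n e'
  obtain ⟨V, hV, hxV, -, ⟨e3⟩⟩ := exists_affine_free F x (U.ι ''ᵁ W) hxW' n e''
  have eq := sectionsFreeEquiv hV F n e3
  haveI : Module.Free Γ(X, V) Γ(F, V) := Module.Free.of_equiv eq.symm
  exact flat_stalk_of_flat_sections F hV ⟨x, hxV⟩ inferInstance

theorem main {X : Scheme.{u}} (F : X.Modules) (hF : CohB1.IsFP F) (x : X) :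
    FlatMod.IsFlatAt F x ↔ ∃ U : X.Opens, x ∈ U ∧ FlatMod.IsFinLocFree ((Scheme.Modules.pullback U.ι).obj F) :=
  ⟨forward F hF x, fun ⟨U, hxU, h⟩ => backward F hF x U hxU h⟩


end


/-- Let X be a scheme, F a finitely presented O_X-module and x a point of X. Then F_x is a flat module
over the local ring O_{X,x} if and only if x has an open neighbourhood U such that the restriction
of F to U is finite locally free. -/
theorem result {X : Scheme.{u}} (F : X.Modules) (hF : CohB1.IsFP F) (x : X) :
    FlatMod.IsFlatAt F x ↔ ∃ U : X.Opens, x ∈ U ∧ FlatMod.IsFinLocFree ((Scheme.Modules.pullback U.ι).obj F) := by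
  classical
  exact main F hF x

end Groth.Agent.S4652
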