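import Groth.Statements.S4654
import Mathlib
import Groth.Agent.Lib.Helper5.Stalk.Exact

set_option autoImplicit false
open CategoryTheory AlgebraicGeometry
universe u
open FDesc

namespace Groth.Agent.S4654

section
open CategoryTheory AlgebraicGeometry

open TensorProduct Groth.Agent.Lib.Helper5.StalkAdj

section alg
variable {K : Type u} [CommRing K] {M' M M'' : Type u} [AddCommGroup M'] [AddCommGroup M]
  [AddCommGroup M''] [Module K M'] [Module K M] [Module K M'']

theorem comm_sq {A A' B B' : Type u} [AddCommGroup A] [AddCommGroup A'] [AddCommGroup B]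
    [AddCommGroup B'] [Module K A] [Module K A'] [Module K B] [Module K B']
    (u : A →ₗ[K] A') (g : B →ₗ[K] B') (z : A ⊗[K] B) :
    (g.lTensor A') ((u.rTensor B) z) = (u.rTensor B') ((g.lTensor A) z) := by
  induction z using TensorProduct.induction_on with
  | zero => simp
  | add a b ha hb => simp only [map_add, ha, hb]
  | tmul p m => simp

theorem flat_iff_of_exact (g : M' →ₗ[K] M) (f : M →ₗ[K] M'') (hg : Function.Injective g)
    (hf : Function.Surjective f) (H : Function.Exact g f) [Module.Flat K M''] :
    Module.Flat K M ↔ Module.Flat K M' := by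
  have key : ∀ (A : Type u) [AddCommGroup A] [Module K A], Function.Injective (g.lTensor A) :=
    fun A _ _ => LinearMap.lTensor_injective_of_exact_of_flat f hf g hg H A
  constructor
  · intro hM
    rw [Module.Flat.iff_rTensor_preserves_injective_linearMap]
    intro P' P _ _ _ _ u hu
    have h1 : Function.Injective ((u.rTensor M) ∘ (g.lTensor P')) :=
      (Module.Flat.rTensor_preserves_injective_linearMap u hu).comp (key P')
    have h2 : (u.rTensor M) ∘ (g.lTensor P') = (g.lTensor P) ∘ (u.rTensor M') := by
      funext z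
      exact (comm_sq u g z).symm
    rw [h2] at h1
    exact Function.Injective.of_comp h1
  · intro hM'
    rw [Module.Flat.iff_rTensor_preserves_injective_linearMap]
    intro P' P _ _ _ _ u hu
    rw [injective_iff_map_eq_zero]
    intro z hz
    have h3 : (u.rTensor M'') ((f.lTensor P') z) = 0 := by
      rw [← comm_sq u f z, hz, map_zero]
    have h4 : (f.lTensor P') z = 0 :=
      (injective_iff_map_eq_zero _).1
        (Module.Flat.rTensor_preserves_injective_linearMap u hu) _ h3
    obtain ⟨z', rfl⟩ := (lTensor_exact P' H hf z).1 h4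
    have h5 : (g.lTensor P) ((u.rTensor M') z') = 0 := by
      rw [comm_sq u g z', hz]
    have h6 : (u.rTensor M') z' = 0 := (injective_iff_map_eq_zero _).1 (key P) _ h5
    have h7 : z' = 0 := (injective_iff_map_eq_zero _).1
      (Module.Flat.rTensor_preserves_injective_linearMap u hu) _ h6
    rw [h7, map_zero]

end alg

theorem main {X Y : Scheme.{u}} (f : X ⟶ Y) (S : ShortComplex X.Modules)
    (hS : S.ShortExact) (h₁ : Coh.IsQCoh S.X₁) (h₂ : Coh.IsQCoh S.X₂) (h₃ : Coh.IsQCoh S.X₃)
    (hflat : FlatMod.IsFlatOver f S.X₃) :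
    FlatMod.IsFlatOver f S.X₂ ↔ FlatMod.IsFlatOver f S.X₁ := by
  have hx : ∀ x : X, FlatMod.IsFlatOverAt f S.X₂ x ↔ FlatMod.IsFlatOverAt f S.X₁ x := by
    intro x
    let K := Y.presheaf.stalk (f x)
    let C := X.presheaf.stalk x
    letI algKC : Algebra K C := (f.stalkMap x).hom.toAlgebra
    have hSx : (S.map (stalkSh X x)).ShortExact := hS.map_of_exact (stalkSh X x)
    let N₁ := S.X₁.presheaf.stalk x
    let N₂ := S.X₂.presheaf.stalk x
    let N₃ := S.X₃.presheaf.stalk x
    letI m1 : Module K N₁ := FlatMod.moduleStalkOver f S.X₁ x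
    letI m2 : Module K N₂ := FlatMod.moduleStalkOver f S.X₂ x
    letI m3 : Module K N₃ := FlatMod.moduleStalkOver f S.X₃ x
    haveI t1 : IsScalarTower K C N₁ := IsScalarTower.of_algebraMap_smul fun r n => rfl
    haveI t2 : IsScalarTower K C N₂ := IsScalarTower.of_algebraMap_smul fun r n => rfl
    haveI t3 : IsScalarTower K C N₃ := IsScalarTower.of_algebraMap_smul fun r n => rfl
    let g' : N₁ →ₗ[C] N₂ := ((stalkSh X x).map S.f).hom
    let f' : N₂ →ₗ[C] N₃ := ((stalkSh X x).map S.g).hom
    have hg : Function.Injective g' := by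
      exact (ModuleCat.mono_iff_injective ((stalkSh X x).map S.f)).1 hSx.mono_f
    have hf : Function.Surjective f' := by
      exact (ModuleCat.epi_iff_surjective ((stalkSh X x).map S.g)).1 hSx.epi_g
    have hex : Function.Exact g' f' :=
      (ShortComplex.ShortExact.moduleCat_exact_iff_function_exact _).1 hSx.exact
    haveI : Module.Flat K N₃ := hflat x
    exact flat_iff_of_exact (g'.restrictScalars K) (f'.restrictScalars K) hg hf hex
  exact ⟨fun h x => (hx x).1 (h x), fun h x => (hx x).2 (h x)⟩


end


/-- Let f : X → Y be a morphism of schemes and 0 → F' → F → F'' → 0 a short exact sequence of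
quasi-coherent O_X-modules such that F'' is flat over Y. Then F is flat over Y if and only if F' is
flat over Y. -/
theorem result {X Y : Scheme.{u}} (f : X ⟶ Y) (S : ShortComplex X.Modules)
    (hS : S.ShortExact) (h₁ : Coh.IsQCoh S.X₁) (h₂ : Coh.IsQCoh S.X₂) (h₃ : Coh.IsQCoh S.X₃)
    (hflat : FlatMod.IsFlatOver f S.X₃) :
    FlatMod.IsFlatOver f S.X₂ ↔ FlatMod.IsFlatOver f S.X₁ := by
  classical
  exact main f S hS h₁ h₂ h₃ hflat

end Groth.Agent.S4654
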