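import Groth.Statements.S9350
import Mathlib
import Groth.Agent.Lib.Helper5.Stalk.Pull
import Groth.Agent.Lib.Helper8.ExtScal

set_option autoImplicit false
universe u
open FlatMod

namespace Groth.Agent.S9350

section


open AlgebraicGeometry CategoryTheory TensorProduct Groth.Agent.Lib.Helper5.StalkAdj

section alg
variable {K B C : Type u} [CommRing K] [CommRing B] [CommRing C] [Algebra K B] [Algebra B C]
  (N : Type u) [AddCommGroup N] [Module K N] [Module B N] [IsScalarTower K B N]

/-- the `K`-module structure on `C ⊗[B] N` through `N`... we use the one through `C` -/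
theorem assoc_lTensor [Algebra K C] [IsScalarTower K B C]
    {P' P : Type u} [AddCommGroup P'] [AddCommGroup P] [Module K P'] [Module K P]
    (u : P' →ₗ[K] P) (z : (C ⊗[B] N) ⊗[K] P') :
    AlgebraTensorModule.assoc K B B C N P (u.lTensor (C ⊗[B] N) z) =
      (AlgebraTensorModule.lTensor B N u).lTensor C (AlgebraTensorModule.assoc K B B C N P' z) := by
  induction z using TensorProduct.induction_on with
  | zero => simp
  | add a b ha hb => simp only [map_add, ha, hb]
  | tmul y p =>
    induction y using TensorProduct.induction_on with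
    | zero => simp
    | add a b ha hb => simp only [add_tmul, map_add, ha, hb]
    | tmul c n => simp

theorem flat_tensor_of_flat [Algebra K C] [IsScalarTower K B C] [Module.Flat B C]
    [Module.Flat K N] : Module.Flat K (C ⊗[B] N) := by
  rw [Module.Flat.iff_lTensor_preserves_injective_linearMap]
  intro P' P _ _ _ _ u hu
  have h1 : Function.Injective (AlgebraTensorModule.lTensor B N u) := by
    rw [AlgebraTensorModule.coe_lTensor]
    exact Module.Flat.lTensor_preserves_injective_linearMap u hu
  have h2 : Function.Injective ((AlgebraTensorModule.lTensor B N u).lTensor C) :=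
    Module.Flat.lTensor_preserves_injective_linearMap _ h1
  intro z z' hzz'
  have h3 := congrArg (AlgebraTensorModule.assoc K B B C N P) hzz'
  rw [assoc_lTensor, assoc_lTensor] at h3
  exact (AlgebraTensorModule.assoc K B B C N P').injective (h2 h3)

theorem flat_of_flat_tensor [Algebra K C] [IsScalarTower K B C] [Module.FaithfullyFlat B C]
    [Module.Flat K (C ⊗[B] N)] : Module.Flat K N := by
  rw [Module.Flat.iff_lTensor_preserves_injective_linearMap]
  intro P' P _ _ _ _ u hu
  have h0 : Function.Injective (u.lTensor (C ⊗[B] N)) :=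
    Module.Flat.lTensor_preserves_injective_linearMap u hu
  have h2 : Function.Injective ((AlgebraTensorModule.lTensor B N u).lTensor C) := by
    intro w w' hww'
    obtain ⟨z, rfl⟩ := (AlgebraTensorModule.assoc K B B C N P').surjective w
    obtain ⟨z', rfl⟩ := (AlgebraTensorModule.assoc K B B C N P').surjective w'
    rw [← assoc_lTensor, ← assoc_lTensor] at hww'
    rw [h0 ((AlgebraTensorModule.assoc K B B C N P).injective hww')]
  have h1 := (Module.FaithfullyFlat.lTensor_injective_iff_injective B C
    (AlgebraTensorModule.lTensor B N u)).1 h2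
  rwa [AlgebraTensorModule.coe_lTensor] at h1


end alg

theorem main {X Y S : Scheme.{u}} (h : X ⟶ Y) (q : Y ⟶ S)
    (G : Y.Modules) (hG : Coh.IsQCoh G) (x : X) (hflat : (h.stalkMap x).hom.Flat) :
    FlatMod.IsFlatOverAt q G (h.base x) ↔
      FlatMod.IsFlatOverAt (h ≫ q) ((Scheme.Modules.pullback h).obj G) x := by
  let K := S.presheaf.stalk (q (h x))
  let B := Y.presheaf.stalk (h x)
  let C := X.presheaf.stalk x
  let N := G.presheaf.stalk (h x)
  let M := ((Scheme.Modules.pullback h).obj G).presheaf.stalk x
  letI algKB : Algebra K B := (q.stalkMap (h x)).hom.toAlgebra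
  letI algBC : Algebra B C := (h.stalkMap x).hom.toAlgebra
  letI algKC : Algebra K C := ((h ≫ q).stalkMap x).hom.toAlgebra
  haveI tower : IsScalarTower K B C := IsScalarTower.of_algebraMap_eq' (by
    show ((h ≫ q).stalkMap x).hom = ((h.stalkMap x).hom).comp (q.stalkMap (h x)).hom
    rw [Scheme.Hom.stalkMap_comp]
    rfl)
  letI mKN : Module K N := FlatMod.moduleStalkOver q G (h x)
  haveI tKBN : IsScalarTower K B N := IsScalarTower.of_algebraMap_smul fun r n => rfl
  letI mKM : Module K M := FlatMod.moduleStalkOver (h ≫ q) ((Scheme.Modules.pullback h).obj G) x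
  haveI tKCM : IsScalarTower K C M := IsScalarTower.of_algebraMap_smul fun r n => rfl
  haveI : Module.Flat B C := hflat
  haveI : IsLocalHom (algebraMap B C) := inferInstanceAs (IsLocalHom (h.stalkMap x).hom)
  haveI : Module.FaithfullyFlat B C := Module.FaithfullyFlat.of_flat_of_isLocalHom
  let e1 : M ≃ₗ[C] ((ModuleCat.extendScalars.{u, u, u} (h.stalkMap x).hom).obj
      ((stalkSh Y (h x)).obj G)) := ((stalkPullbackIso h x).app G).toLinearEquiv
  let e2 : ((ModuleCat.extendScalars.{u, u, u} (h.stalkMap x).hom).obj
      ((stalkSh Y (h x)).obj G)) ≃ₗ[C] C ⊗[B] N :=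
    Groth.Agent.Helper8.extScalEquiv (R := B) (S := C) ((stalkSh Y (h x)).obj G)
  let e : M ≃ₗ[K] C ⊗[B] N := (e1 ≪≫ₗ e2).restrictScalars K
  show Module.Flat K N ↔ Module.Flat K M
  constructor
  · intro hN
    haveI := hN
    haveI : Module.Flat K (C ⊗[B] N) := flat_tensor_of_flat N
    exact Module.Flat.of_linearEquiv e
  · intro hM
    haveI := hM
    haveI : Module.Flat K (C ⊗[B] N) := Module.Flat.of_linearEquiv e.symm
    exact flat_of_flat_tensor (C := C) (B := B) N


end


open AlgebraicGeometry CategoryTheory in
/-- Let h : X → Y be a morphism of S-schemes, q : Y → S, G a quasi-coherent O_Y-module and x ∈ X with h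
flat at x. Flatness of G over S at h x is equivalent to flatness of h^*G over S at x. -/
theorem result {X Y S : Scheme.{u}} (h : X ⟶ Y) (q : Y ⟶ S)
    (G : Y.Modules) (hG : Coh.IsQCoh G) (x : X) (hflat : (h.stalkMap x).hom.Flat) :
    FlatMod.IsFlatOverAt q G (h.base x) ↔ FlatMod.IsFlatOverAt (h ≫ q) ((Scheme.Modules.pullback h).obj G) x := by
  classical
  exact main h q G hG x hflat

end Groth.Agent.S9350
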