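import Groth.Statements.S4657
import Mathlib
import Groth.Agent.Lib.Helper5.RedOpen.Main

set_option autoImplicit false
open CategoryTheory AlgebraicGeometry
universe u
open AssSch



namespace Groth.Agent.S4657

/-- Let X be a locally Noetherian scheme, U an open subset of X and F a coherent O_X-module such that U
∩ Supp F is dense in Supp F. Then F is a reduced module if and only if its restriction to U is a
reduced module and F has no embedded associated points. -/
theorem result {X : Scheme.{u}} [IsLocallyNoetherian X] (U : X.Opens) (F : X.Modules)
    (hF : Coh.IsCoh F) (hdense : CohB1.support F ⊆ closure ((U : Set ↥X) ∩ CohB1.support F)) :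
    AssSch.IsReducedMod F ↔ AssSch.IsReducedMod ((Scheme.Modules.pullback U.ι).obj F) ∧ AssSch.NoEmbedded F := by
  exact Groth.Agent.Lib.Helper5.RedOpen.isReducedMod_iff_restrict U F hF hdense

end Groth.Agent.S4657
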