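import Groth.Statements.S4676
import Mathlib.Algebra.Module.Submodule.Equiv
import Mathlib.RingTheory.Noetherian.Orzech

set_option autoImplicit false
universe u v
open FDesc

namespace Groth.Agent.S4676

/-- Let B be a ring, not necessarily commutative, and V, W two Noetherian left B-modules which are
isomorphic. For a B-linear map u : V → W the following are equivalent: every B-linear map V → W can
be written as u ∘ c for some B-linear endomorphism c of V (that is, u generates Hom_B(V, W) as a
right module over End_B(V)); u is bijective. -/
theorem result {B : Type u} [Ring B] {V W : Type v} [AddCommGroup V]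
    [AddCommGroup W] [Module B V] [Module B W] [IsNoetherian B V] [IsNoetherian B W] (e : V ≃ₗ[B] W) (u : V →ₗ[B] W) :
    (∀ v : V →ₗ[B] W, ∃ c : V →ₗ[B] V, v = u ∘ₗ c) ↔ Function.Bijective u := by
  constructor
  · intro h
    obtain ⟨c, hc⟩ := h e.toLinearMap
    have hsurj : Function.Surjective u := by
      intro w
      refine ⟨c (e.symm w), ?_⟩
      have := congrArg (fun f : V →ₗ[B] W => f (e.symm w)) hc
      simpa using this.symm
    refine ⟨?_, hsurj⟩
    have h2 : Function.Surjective (e.symm.toLinearMap ∘ₗ u) := by
      rw [LinearMap.coe_comp]
      exact e.symm.surjective.comp hsurj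
    have h3 := IsNoetherian.injective_of_surjective_endomorphism _ h2
    rw [LinearMap.coe_comp] at h3
    exact Function.Injective.of_comp h3
  · intro hu v
    let eu := LinearEquiv.ofBijective u hu
    refine ⟨eu.symm.toLinearMap ∘ₗ v, ?_⟩
    ext x
    simp [eu]

end Groth.Agent.S4676
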