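import Groth.Statements.S4678
import Mathlib
import Groth.Agent.Lib.Helper5.FFRel.Transfer
import Groth.Agent.Lib.Lead.FB1

set_option autoImplicit false
open CategoryTheory AlgebraicGeometry
universe u
open FDesc



namespace Groth.Agent.S4678

open CategoryTheory.Limits in
/-- Let f : X → Y, g : Y' → Y and h : Y' → Z be morphisms of schemes, X' = X ×_Y Y' with projections p :
X' → X and q : X' → Y', and x' a point of X'. Let F be a quasi-coherent O_X-module which is flat
over Y at p(x') and G' a quasi-coherent O_{Y'}-module which is flat over Z at q(x'). Then the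
O_{X'}-module p^*F ⊗ q^*G' is flat over Z at x', for the structure morphism q followed by h. -/
theorem result {X Y Y' Z : Scheme.{u}} (f : X ⟶ Y) (g : Y' ⟶ Y) (h : Y' ⟶ Z)
    (F : X.Modules) (hF : Coh.IsQCoh F) (G' : Y'.Modules) (hG' : Coh.IsQCoh G') (x' : ↥(pullback f g))
    (hFx : FlatMod.IsFlatOverAt f F (pullback.fst f g x')) (hGy : FlatMod.IsFlatOverAt h G' (pullback.snd f g x')) :
    FlatMod.IsFlatOverAt (pullback.snd f g ≫ h) (CohB1.tensorMod ((Scheme.Modules.pullback (pullback.fst f g)).obj F) ((Scheme.Modules.pullback (pullback.snd f g)).obj G')) x' := by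
  haveI : F.IsQuasicoherent := hF
  have h1 : FlatMod.IsFlatOverAt (pullback.snd f g)
      ((Scheme.Modules.pullback (pullback.fst f g)).obj F) x' :=
    Groth.Agent.Lead.FB.flat_baseChange (IsPullback.of_hasPullback f g) F x' hFx
  exact (Groth.Agent.Lib.Helper5.FFRel.tensor_pull_transfer (pullback.snd f g) h G'
    ((Scheme.Modules.pullback (pullback.fst f g)).obj F) x').1 h1 hGy

end Groth.Agent.S4678
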