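import Groth.Statements.S4681
import Mathlib

set_option autoImplicit false
open CategoryTheory AlgebraicGeometry
universe u
open FDesc

namespace Groth.Agent.S4681

section
open CategoryTheory AlgebraicGeometry

open TensorProduct

section alg
variable {A B : Type u} [CommRing A] [CommRing B] [Algebra A B]
  (N : Type u) [AddCommGroup N] [Module A N] [Module B N] [IsScalarTower A B N]

theorem flat_of_faithfullyFlat_module [Module.FaithfullyFlat B N] [Module.Flat A N] :
    Module.Flat A B := by
  rw [Module.Flat.iff_lTensor_preserves_injective_linearMap]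
  intro P' P _ _ _ _ u hu
  have h0 : Function.Injective (u.lTensor N) :=
    Module.Flat.lTensor_preserves_injective_linearMap u hu
  have h2 : Function.Injective ((AlgebraTensorModule.lTensor B B u).lTensor N) := by
    intro w w' hww'
    have key := AlgebraTensorModule.lTensor_comp_cancelBaseChange (R := A) (A := B) (B := B)
      (M := N) (N := P') (Q := P) u
    have k1 := LinearMap.congr_fun key w
    have k2 := LinearMap.congr_fun key w'
    simp only [LinearMap.coe_comp, Function.comp_apply, LinearEquiv.coe_coe] at k1 k2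
    have h3 : (AlgebraTensorModule.lTensor B N u)
        ((AlgebraTensorModule.cancelBaseChange A B B N P') w) =
        (AlgebraTensorModule.lTensor B N u)
        ((AlgebraTensorModule.cancelBaseChange A B B N P') w') := by
      rw [k1, k2]
      congr 1
    have h4 : Function.Injective (AlgebraTensorModule.lTensor B N u) := by
      rw [AlgebraTensorModule.coe_lTensor]; exact h0
    exact (AlgebraTensorModule.cancelBaseChange A B B N P').injective (h4 h3)
  have h1 := (Module.FaithfullyFlat.lTensor_injective_iff_injective B N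
    (AlgebraTensorModule.lTensor B B u)).1 h2
  rwa [AlgebraTensorModule.coe_lTensor] at h1

theorem smul_top_ne_top_of_tower [IsLocalRing A] [IsLocalRing B] [IsLocalHom (algebraMap A B)]
    (h : IsLocalRing.maximalIdeal B • (⊤ : Submodule B N) ≠ ⊤) :
    IsLocalRing.maximalIdeal A • (⊤ : Submodule A N) ≠ ⊤ := by
  intro hA
  apply h
  rw [eq_top_iff]
  intro n _
  have hn : n ∈ IsLocalRing.maximalIdeal A • (⊤ : Submodule A N) := by rw [hA]; trivial
  refine Submodule.smul_induction_on hn ?_ ?_
  · intro r hr m _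
    rw [← algebraMap_smul B r m]
    refine Submodule.smul_mem_smul ?_ trivial
    rw [IsLocalRing.mem_maximalIdeal, mem_nonunits_iff] at hr ⊢
    intro hu
    exact hr (isUnit_of_map_unit (algebraMap A B) r hu)
  · intro a b ha hb
    exact Submodule.add_mem _ ha hb

theorem faithfullyFlat_of_local [IsLocalRing B] [Module.Flat B N]
    (h : IsLocalRing.maximalIdeal B • (⊤ : Submodule B N) ≠ ⊤) : Module.FaithfullyFlat B N where
  submodule_ne_top := by
    intro m hm
    rw [IsLocalRing.eq_maximalIdeal hm]
    exact h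

end alg

theorem setup {X Y Z : Scheme.{u}} (f : X ⟶ Y) (g : Y ⟶ Z) (F : X.Modules) (x : X) :
    letI algKB : Algebra (Z.presheaf.stalk (g (f x))) (Y.presheaf.stalk (f x)) :=
      (g.stalkMap (f x)).hom.toAlgebra
    letI mB : Module (Y.presheaf.stalk (f x)) (F.presheaf.stalk x) :=
      FlatMod.moduleStalkOver f F x
    letI mK : Module (Z.presheaf.stalk (g (f x))) (F.presheaf.stalk x) :=
      FlatMod.moduleStalkOver (f ≫ g) F x
    IsScalarTower (Z.presheaf.stalk (g (f x))) (Y.presheaf.stalk (f x)) (F.presheaf.stalk x) := by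
  letI algKB : Algebra (Z.presheaf.stalk (g (f x))) (Y.presheaf.stalk (f x)) :=
    (g.stalkMap (f x)).hom.toAlgebra
  letI mB : Module (Y.presheaf.stalk (f x)) (F.presheaf.stalk x) :=
    FlatMod.moduleStalkOver f F x
  letI mK : Module (Z.presheaf.stalk (g (f x))) (F.presheaf.stalk x) :=
    FlatMod.moduleStalkOver (f ≫ g) F x
  refine IsScalarTower.of_algebraMap_smul fun r n => ?_
  show ((f.stalkMap x).hom ((g.stalkMap (f x)).hom r)) • n = (((f ≫ g).stalkMap x).hom r) • n
  rw [Scheme.Hom.stalkMap_comp]
  rfl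

theorem main {X Y Z : Scheme.{u}} (f : X ⟶ Y) (g : Y ⟶ Z)
    (F : X.Modules) (hF : Coh.IsQCoh F) (hFfl : FlatMod.IsFlatOver f F)
    (hFff : (∀ y : ↥Y, ∃ x : ↥X, f x = y ∧
      letI := FlatMod.moduleStalkOver f F x
      IsLocalRing.maximalIdeal (Y.presheaf.stalk (f x)) • (⊤ : Submodule (Y.presheaf.stalk (f x)) (F.presheaf.stalk x)) ≠ ⊤)) :
    (Flat g ∧ Surjective g) ↔
      (FlatMod.IsFlatOver (f ≫ g) F ∧
        (∀ z : ↥Z, ∃ x : ↥X, (f ≫ g) x = z ∧
      letI := FlatMod.moduleStalkOver (f ≫ g) F x
      IsLocalRing.maximalIdeal (Z.presheaf.stalk ((f ≫ g) x)) • (⊤ : Submodule (Z.presheaf.stalk ((f ≫ g) x)) (F.presheaf.stalk x)) ≠ ⊤)) := by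
  constructor
  · rintro ⟨hfl, hsurj⟩
    refine ⟨?_, ?_⟩
    · intro x
      letI algKB : Algebra (Z.presheaf.stalk (g (f x))) (Y.presheaf.stalk (f x)) :=
        (g.stalkMap (f x)).hom.toAlgebra
      letI mB : Module (Y.presheaf.stalk (f x)) (F.presheaf.stalk x) :=
        FlatMod.moduleStalkOver f F x
      letI mK : Module (Z.presheaf.stalk (g (f x))) (F.presheaf.stalk x) :=
        FlatMod.moduleStalkOver (f ≫ g) F x
      haveI := setup f g F x
      haveI : Module.Flat (Z.presheaf.stalk (g (f x))) (Y.presheaf.stalk (f x)) :=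
        Flat.stalkMap g (f x)
      haveI : Module.Flat (Y.presheaf.stalk (f x)) (F.presheaf.stalk x) := hFfl x
      exact Module.Flat.trans (Z.presheaf.stalk (g (f x))) (Y.presheaf.stalk (f x))
        (F.presheaf.stalk x)
    · intro z
      obtain ⟨y, rfl⟩ := g.surjective z
      obtain ⟨x, rfl, hx⟩ := hFff y
      refine ⟨x, rfl, ?_⟩
      letI algKB : Algebra (Z.presheaf.stalk (g (f x))) (Y.presheaf.stalk (f x)) :=
        (g.stalkMap (f x)).hom.toAlgebra
      letI mB : Module (Y.presheaf.stalk (f x)) (F.presheaf.stalk x) :=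
        FlatMod.moduleStalkOver f F x
      letI mK : Module (Z.presheaf.stalk (g (f x))) (F.presheaf.stalk x) :=
        FlatMod.moduleStalkOver (f ≫ g) F x
      haveI := setup f g F x
      haveI : IsLocalHom (algebraMap (Z.presheaf.stalk (g (f x))) (Y.presheaf.stalk (f x))) :=
        inferInstanceAs (IsLocalHom (g.stalkMap (f x)).hom)
      exact smul_top_ne_top_of_tower (A := Z.presheaf.stalk (g (f x)))
        (B := Y.presheaf.stalk (f x)) (F.presheaf.stalk x) hx
  · rintro ⟨hfl, hpt⟩
    refine ⟨?_, ⟨fun z => ?_⟩⟩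
    · rw [Flat.iff_flat_stalkMap]
      intro y
      obtain ⟨x, rfl, hx⟩ := hFff y
      letI algKB : Algebra (Z.presheaf.stalk (g (f x))) (Y.presheaf.stalk (f x)) :=
        (g.stalkMap (f x)).hom.toAlgebra
      letI mB : Module (Y.presheaf.stalk (f x)) (F.presheaf.stalk x) :=
        FlatMod.moduleStalkOver f F x
      letI mK : Module (Z.presheaf.stalk (g (f x))) (F.presheaf.stalk x) :=
        FlatMod.moduleStalkOver (f ≫ g) F x
      haveI := setup f g F x
      haveI : Module.Flat (Y.presheaf.stalk (f x)) (F.presheaf.stalk x) := hFfl x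
      haveI : Module.FaithfullyFlat (Y.presheaf.stalk (f x)) (F.presheaf.stalk x) :=
        faithfullyFlat_of_local _ hx
      haveI : Module.Flat (Z.presheaf.stalk (g (f x))) (F.presheaf.stalk x) := hfl x
      exact flat_of_faithfullyFlat_module (A := Z.presheaf.stalk (g (f x)))
        (B := Y.presheaf.stalk (f x)) (F.presheaf.stalk x)
    · obtain ⟨x, hx, _⟩ := hpt z
      exact ⟨f x, hx⟩


end


/-- Let f : X → Y and g : Y → Z be morphisms of schemes and F a quasi-coherent O_X-module which is
faithfully flat relative to Y: flat over Y, and for every point y of Y there is a point x over y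
with F_x ⊗ κ(y) ≠ 0. Then g is flat and surjective (faithfully flat) if and only if F is faithfully
flat relative to Z for the morphism f followed by g: flat over Z, and for every point z of Z there
is a point x of X over z with F_x ⊗ κ(z) ≠ 0. -/
theorem result {X Y Z : Scheme.{u}} (f : X ⟶ Y) (g : Y ⟶ Z)
    (F : X.Modules) (hF : Coh.IsQCoh F) (hFfl : FlatMod.IsFlatOver f F)
    (hFff : (∀ y : ↥Y, ∃ x : ↥X, f x = y ∧
      letI := FlatMod.moduleStalkOver f F x
      IsLocalRing.maximalIdeal (Y.presheaf.stalk (f x)) • (⊤ : Submodule (Y.presheaf.stalk (f x)) (F.presheaf.stalk x)) ≠ ⊤)) :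
    (Flat g ∧ Surjective g) ↔
      (FlatMod.IsFlatOver (f ≫ g) F ∧
        (∀ z : ↥Z, ∃ x : ↥X, (f ≫ g) x = z ∧
      letI := FlatMod.moduleStalkOver (f ≫ g) F x
      IsLocalRing.maximalIdeal (Z.presheaf.stalk ((f ≫ g) x)) • (⊤ : Submodule (Z.presheaf.stalk ((f ≫ g) x)) (F.presheaf.stalk x)) ≠ ⊤)) := by
  classical
  exact main f g F hF hFfl hFff

end Groth.Agent.S4681
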