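import Groth.Statements.S4684
import Mathlib
import Groth.Agent.Lib.Helper5.FlatExt.Uniq

set_option autoImplicit false
open CategoryTheory AlgebraicGeometry
universe u
open FDesc



namespace Groth.Agent.S4684

/-- Let Y be an integral locally Noetherian scheme all of whose local rings are regular of dimension at
most one, with generic point η; let f : X → Y be a morphism, i : X_η → X the inclusion of the
generic fibre, F a quasi-coherent O_X-module and π : i^*F → G' a quotient of its restriction to the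
generic fibre, with G' quasi-coherent. Then there exist a quasi-coherent quotient ρ : F → G of F
which is flat over Y and an isomorphism i^*G ≅ G' carrying i^*ρ to π; and any two such quotients are
isomorphic under F. (The published statement takes Y of dimension exactly one and constructs G as
the image of F in i_*G'.) -/
theorem result {X Y : Scheme.{u}} [IsIntegral Y] [IsLocallyNoetherian Y]
    (hY : ∀ y : Y, IsRegularLocalRing (Y.presheaf.stalk y) ∧ ringKrullDim (Y.presheaf.stalk y) ≤ 1)
    (f : X ⟶ Y) (F : X.Modules) (hF : Coh.IsQCoh F) (G' : (f.fiber (genericPoint Y)).Modules) (hG' : Coh.IsQCoh G')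
    (π : (Scheme.Modules.pullback (f.fiberι (genericPoint Y))).obj F ⟶ G') [Epi π] :
    (∃ (G : X.Modules) (ρ : F ⟶ G) (e : (Scheme.Modules.pullback (f.fiberι (genericPoint Y))).obj G ≅ G'),
        Epi ρ ∧ Coh.IsQCoh G ∧ FlatMod.IsFlatOver f G ∧
          (Scheme.Modules.pullback (f.fiberι (genericPoint Y))).map ρ ≫ e.hom = π) ∧
      ∀ (G₁ G₂ : X.Modules) (ρ₁ : F ⟶ G₁) (ρ₂ : F ⟶ G₂)
        (e₁ : (Scheme.Modules.pullback (f.fiberι (genericPoint Y))).obj G₁ ≅ G')
        (e₂ : (Scheme.Modules.pullback (f.fiberι (genericPoint Y))).obj G₂ ≅ G'),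
        Epi ρ₁ → Epi ρ₂ → Coh.IsQCoh G₁ → Coh.IsQCoh G₂ → FlatMod.IsFlatOver f G₁ → FlatMod.IsFlatOver f G₂ →
        (Scheme.Modules.pullback (f.fiberι (genericPoint Y))).map ρ₁ ≫ e₁.hom = π →
        (Scheme.Modules.pullback (f.fiberι (genericPoint Y))).map ρ₂ ≫ e₂.hom = π →
        ∃ e : G₁ ≅ G₂, ρ₁ ≫ e.hom = ρ₂ := by
  haveI : F.IsQuasicoherent := hF
  haveI : G'.IsQuasicoherent := hG'
  haveI := Groth.Agent.Lib.Helper5.FlatExt.flat_fiberι_genericPoint f
  have hgen : ∀ z, f (f.fiberι (genericPoint Y) z) = genericPoint Y :=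
    Groth.Agent.Lib.Helper5.FlatExt.fiberι_apply_genericPoint f _
  constructor
  · obtain ⟨G, ρ, ι, e, hρ, hι, hG, hc⟩ :=
      Groth.Agent.Lib.Helper5.FlatExt.exists_extension (f.fiberι (genericPoint Y)) F G' π
    haveI := hι
    exact ⟨G, ρ, e, hρ, hG,
      Groth.Agent.Lib.Helper5.FlatExt.isFlatOver_of_mono_pushforward _ f hY hgen G' G ι, hc⟩
  · intro G₁ G₂ ρ₁ ρ₂ e₁ e₂ hρ₁ hρ₂ hq₁ hq₂ hf₁ hf₂ c₁ c₂
    haveI := hρ₁
    haveI := hρ₂
    haveI : G₁.IsQuasicoherent := hq₁
    haveI : G₂.IsQuasicoherent := hq₂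
    have H : IsPullback (f.fiberι (genericPoint Y)) (f.fiberToSpecResidueField (genericPoint Y)) f
        (Y.fromSpecResidueField (genericPoint Y)) := IsPullback.of_hasPullback _ _
    have hj : ∀ s, (Y.fromSpecResidueField (genericPoint Y)) s = genericPoint Y := by
      intro s
      have h1 : (Y.fromSpecResidueField (genericPoint Y)) s ∈
          Set.range (Y.fromSpecResidueField (genericPoint Y)) := ⟨s, rfl⟩
      rw [Scheme.range_fromSpecResidueField] at h1
      exact h1
    exact Groth.Agent.Lib.Helper5.FlatExt.exists_iso_of_extensions H hj F G' π G₁ G₂ ρ₁ ρ₂ e₁ e₂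
      hf₁ hf₂ c₁ c₂

end Groth.Agent.S4684
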