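import Groth.Statements.S4688
import Mathlib

set_option autoImplicit false
universe u
open EGA4

namespace Groth.Agent.S4688

section
open Polynomial Ideal

attribute [local instance] Polynomial.algebra Polynomial.isLocalization in
theorem height_one_of_comap_bot (B : Type u) [CommRing B] [IsDomain B]
    (Q : Ideal B[X]) [Q.IsPrime] (hQ : Q ≠ ⊥) (hQB : Q.comap (C : B →+* B[X]) = ⊥) :
    Q.height = 1 := by
  let K := FractionRing B
  let M := nonZeroDivisors B
  have disj : Disjoint ((M.map (C : B →+* B[X]) : Submonoid B[X]) : Set B[X]) (Q : Set B[X]) := by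
    refine Set.disjoint_left.mpr fun a ⟨b, hb⟩ ha ↦ ?_
    have hbQ : b ∈ Q.comap (C : B →+* B[X]) := by
      rw [Ideal.mem_comap]; rw [← hb.2] at ha; exact ha
    rw [hQB, Ideal.mem_bot] at hbQ
    have := hb.1
    rw [hbQ] at this
    exact zero_notMem_nonZeroDivisors this
  let Q' : Ideal K[X] := Q.map (algebraMap B[X] K[X])
  have hprime : Q'.IsPrime :=
    IsLocalization.isPrime_of_isPrime_disjoint (M.map C) K[X] Q ‹_› disj
  have hht : Q'.height = Q.height :=
    IsLocalization.height_map_of_disjoint (M.map C) Q disj
  have hunder := IsLocalization.under_map_of_isPrime_disjoint (M.map C) K[X] ‹Q.IsPrime› disj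
  have hne : Q' ≠ ⊥ := by
    intro h
    apply hQ
    rw [← hunder]
    change (Q'.comap _) = ⊥
    rw [h]
    rw [eq_bot_iff]
    intro x hx
    rw [Ideal.mem_comap, Ideal.mem_bot] at hx
    rw [Ideal.mem_bot]
    have hinj : Function.Injective (algebraMap B[X] K[X]) :=
      Polynomial.map_injective _ (IsFractionRing.injective B K)
    exact hinj (by rw [hx, map_zero])
  have hmax : Q'.IsMaximal := hprime.isMaximal hne
  rw [← hht]
  exact IsPrincipalIdealRing.height_eq_one_of_isMaximal Q' (Polynomial.not_isField K)


theorem quot_height (A : Type u) [CommRing A] [IsNoetherianRing A]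
    (p : Ideal A) [p.IsPrime] (q : Ideal A[X]) [q.IsPrime] [q.LiesOver p]
    (hne : q ≠ p.map (C : A →+* A[X])) :
    (q.map (Ideal.Quotient.mk (p.map (algebraMap A A[X])))).height = 1 := by
  have hpq : p.map (C : A →+* A[X]) ≤ q := by
    rw [Ideal.map_le_iff_le_comap]
    exact (Ideal.LiesOver.over (P := q) (p := p)).le
  have halg : algebraMap A A[X] = C := rfl
  rw [halg]
  let e : (A[X] ⧸ (p.map (C : A →+* A[X]))) ≃+* (A ⧸ p)[X] :=
    (polynomialQuotientEquivQuotientPolynomial p).symm
  set Q : Ideal (A[X] ⧸ (p.map (C : A →+* A[X]))) :=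
    q.map (Ideal.Quotient.mk (p.map (C : A →+* A[X]))) with hQdef
  have hker : RingHom.ker (Ideal.Quotient.mk (p.map (C : A →+* A[X]))) ≤ q := by
    rw [Ideal.mk_ker]; exact hpq
  have hQprime : Q.IsPrime := Ideal.map_isPrime_of_surjective Ideal.Quotient.mk_surjective hker
  let Q1 : Ideal (A ⧸ p)[X] := Q.map e
  have hQ1prime : Q1.IsPrime := Ideal.map_isPrime_of_equiv e
  have hht : Q1.height = Q.height := e.height_map Q
  rw [← hht]
  have hmem : ∀ f : A[X], Ideal.Quotient.mk (p.map (C : A →+* A[X])) f ∈ Q ↔ f ∈ q := by
    intro f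
    exact Ideal.mem_quotient_iff_mem hpq
  apply height_one_of_comap_bot
  · intro hbot
    apply hne
    refine le_antisymm ?_ hpq
    intro f hf
    have h1 : Ideal.Quotient.mk (p.map (C : A →+* A[X])) f ∈ Q := (hmem f).2 hf
    have h2 : e (Ideal.Quotient.mk (p.map (C : A →+* A[X])) f) ∈ Q1 := Ideal.mem_map_of_mem _ h1
    rw [hbot, Ideal.mem_bot] at h2
    have h3 : Ideal.Quotient.mk (p.map (C : A →+* A[X])) f = 0 := by
      apply e.injective; rw [h2, map_zero]
    exact Ideal.Quotient.eq_zero_iff_mem.1 h3
  · rw [eq_bot_iff]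
    intro b hb
    rw [Ideal.mem_bot]
    obtain ⟨a, rfl⟩ := Ideal.Quotient.mk_surjective b
    rw [Ideal.mem_comap] at hb
    have h1 : e.symm (C (Ideal.Quotient.mk p a)) ∈ Q := Ideal.symm_apply_mem_of_equiv_iff.2 hb
    have h2 : e.symm (C (Ideal.Quotient.mk p a)) =
        Ideal.Quotient.mk (p.map (C : A →+* A[X])) (C a) := by
      have := polynomialQuotientEquivQuotientPolynomial_map_mk p (C a)
      rw [Polynomial.map_C] at this
      exact this
    rw [h2, hmem] at h1
    have : a ∈ q.comap (C : A →+* A[X]) := h1
    have hover : q.comap (C : A →+* A[X]) = p := (Ideal.LiesOver.over (P := q) (p := p)).symm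
    rw [hover] at this
    exact Ideal.Quotient.eq_zero_iff_mem.2 this

theorem main (A : Type u) [CommRing A] [IsNoetherianRing A]
    (p : Ideal A) [p.IsPrime] (q : Ideal A[X]) [q.IsPrime] [q.LiesOver p] :
    (p.map (Polynomial.C : A →+* A[X])).height = p.height ∧
      (q ≠ p.map (Polynomial.C : A →+* A[X]) → q.height = p.height + 1) := by
  constructor
  · have hprime : (p.map (C : A →+* A[X])).IsPrime := Ideal.isPrime_map_C_of_isPrime
    have hover : (p.map (C : A →+* A[X])).LiesOver p := by
      refine ⟨?_⟩
      ext a
      change a ∈ p ↔ C a ∈ p.map (C : A →+* A[X])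
      rw [Ideal.mem_map_C_iff]
      constructor
      · intro ha n
        rw [coeff_C]
        split_ifs
        · exact ha
        · exact zero_mem _
      · intro h
        have := h 0
        simpa using this
    rw [height_eq_height_add_of_liesOver_of_hasGoingDown p (p.map (C : A →+* A[X]))]
    have : (p.map (C : A →+* A[X])).map (Ideal.Quotient.mk (p.map (algebraMap A A[X]))) = ⊥ := by
      have halg : algebraMap A A[X] = C := rfl
      rw [halg]
      exact Ideal.map_quotient_self _
    rw [this]
    simp
  · intro hne
    rw [height_eq_height_add_of_liesOver_of_hasGoingDown p q, quot_height A p q hne]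


end


open Polynomial in
/-- Let A be a Noetherian ring, p a prime ideal of A and q a prime ideal of the polynomial ring A[T]
lying over p. Then the extended ideal p A[T] has the same height as p, and if q is different from p
A[T] one has ht(q) = ht(p) + 1. (The remaining assertions of the published item, that p A[T] is
prime over p and that there are infinitely many pairwise incomparable such q, are not restated.) -/
theorem result (A : Type u) [CommRing A] [IsNoetherianRing A]
    (p : Ideal A) [p.IsPrime] (q : Ideal A[X]) [q.IsPrime] [q.LiesOver p] :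
    (p.map (Polynomial.C : A →+* A[X])).height = p.height ∧
      (q ≠ p.map (Polynomial.C : A →+* A[X]) → q.height = p.height + 1) := by
  classical
  exact main A p q

end Groth.Agent.S4688
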