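import Groth.Statements.S4693
import Groth.Agent.Lib.Helper8.FlatMod7
import Groth.Agent.Lib.Helper8.CanMod2

set_option autoImplicit false
universe u
open EGA4

namespace Groth.Agent.S4693

/-- Let A → B be a local homomorphism of Noetherian local rings such that the closed fibre ring B/m_A B
has Krull dimension 0 (that is, m_A B is an ideal of definition of B). Then dim B ≤ dim A. If
moreover some finite B-module which is flat over A has support equal to all of Spec B (for instance
if B is flat over A), then dim B = dim A. -/
theorem result (A B : Type u) [CommRing A] [CommRing B] [IsNoetherianRing A]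
    [IsNoetherianRing B] [IsLocalRing A] [IsLocalRing B] [Algebra A B] [IsLocalHom (algebraMap A B)]
    (h0 : ringKrullDim (EGA4.FibRing A B) = 0) :
    ringKrullDim B ≤ ringKrullDim A ∧
      (∀ (N : Type u) [AddCommGroup N] [Module B N] [Module A N] [IsScalarTower A B N] [Module.Finite B N]
          [Module.Flat A N], Module.support B N = Set.univ → ringKrullDim B = ringKrullDim A) := by
  have hfib : ∀ (N : Type u) [AddCommGroup N] [Module B N] [Module.Finite B N],
      Module.supportDim B (Groth.Agent.Helper8.FlatMod.Fib A B N) ≤ 0 := by
    intro N _ _ _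
    rw [← h0]
    apply Groth.Agent.Helper8.CanMod.supportDim_le_of_le_annihilator
    intro b hb
    rw [Module.mem_annihilator]
    intro z
    obtain ⟨n, rfl⟩ := Submodule.mkQ_surjective _ z
    rw [← map_smul, Submodule.mkQ_apply, Submodule.Quotient.mk_eq_zero]
    exact Submodule.smul_mem_smul hb Submodule.mem_top
  refine ⟨?_, ?_⟩
  · have h1 := Groth.Agent.Helper8.FlatMod.supportDim_tensor_le (R := A) (S := B) B A
    rw [Module.supportDim_eq_of_equiv (TensorProduct.AlgebraTensorModule.rid A B B),
      Module.supportDim_self_eq_ringKrullDim, Module.supportDim_self_eq_ringKrullDim] at h1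
    refine h1.trans ?_
    calc ringKrullDim A + Module.supportDim B (Groth.Agent.Helper8.FlatMod.Fib A B B)
        ≤ ringKrullDim A + 0 := add_le_add_right (hfib B) _
      _ = ringKrullDim A := add_zero _
  · intro N _ _ _ _ _ _ hsupp
    haveI : Nontrivial N := by
      rw [← Module.nonempty_support_iff (R := B), hsupp]
      exact Set.univ_nonempty
    have h1 := Groth.Agent.Helper8.FlatMod.supportDim_tensor_eq (R := A) (S := B) N A
    rw [Module.supportDim_eq_of_equiv (TensorProduct.AlgebraTensorModule.rid A B N),
      Module.supportDim_self_eq_ringKrullDim] at h1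
    have h2 : Module.supportDim B N = ringKrullDim B := by
      unfold Module.supportDim ringKrullDim
      rw [hsupp]
      exact Order.krullDim_eq_of_orderIso (OrderIso.Set.univ)
    haveI := Groth.Agent.Helper8.FlatMod.nontrivial_fib (R := A) (S := B) N
    have h3 : Module.supportDim B (Groth.Agent.Helper8.FlatMod.Fib A B N) = 0 := by
      apply le_antisymm (hfib N)
      obtain ⟨n, hn⟩ := Groth.Agent.Helper8.Depth.exists_nat_supportDim (A := B)
        (Groth.Agent.Helper8.FlatMod.Fib A B N)
      rw [hn]
      exact_mod_cast Nat.zero_le n
    rw [h2, h3, add_zero] at h1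
    exact h1

end Groth.Agent.S4693
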