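import Groth.Statements.S4696
import Groth.Agent.Lib.Helper8.CompFib2

set_option autoImplicit false
universe u
open EGA4

namespace Groth.Agent.S4696

/-- Case of normal morphisms, affine form: let A → B → C be homomorphisms of Noetherian rings. If A → B
and B → C are normal (flat, with geometrically normal fibres) then the composite A → C is normal. -/
theorem result (A B C : Type u) [CommRing A] [CommRing B] [CommRing C] [IsNoetherianRing A]
    [IsNoetherianRing B] [IsNoetherianRing C] [Algebra A B] [Algebra B C] [Algebra A C] [IsScalarTower A B C]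
    (hAB : EGA4.IsNormalHom A B) (hBC : EGA4.IsNormalHom B C) : EGA4.IsNormalHom A C := by
  haveI : Module.Flat A B := hAB.1
  haveI : Module.Flat B C := hBC.1
  refine ⟨Module.Flat.trans A B C, fun p _ => ?_⟩
  intro K _ _ hfin
  haveI := hfin
  haveI := Groth.Agent.Helper8.Fib.isNoetherianRing_fiber (S := B) p
  haveI := Groth.Agent.Helper8.Fib.isNoetherianRing_fiber (S := C) p
  exact Groth.Agent.Helper8.CompFib.isNormalRing_fibre_comp A B C p K (hAB.2 p K hfin)
    (fun q _ => hBC.2 q)

end Groth.Agent.S4696
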