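import Groth.Statements.S4701
import Mathlib
import Groth.Prelude.Def_CAlg
import Groth.Prelude.Def_EGA4b
import Groth.Prelude.Def_Found
import Groth.Agent.S4700
import Groth.Agent.Lib.Helper9.RegTransport
-- import your own Groth.Agent.* helpers here

set_option autoImplicit false
universe u
open EGA4

namespace Groth.Agent.S4701

namespace Aux
open PrimeSpectrum Groth.Agent.Helper9.RegTransport

theorem reg_generic (R : Type u) [CommRing R] [IsDomain R] [IsNoetherianRing R] :
    IsRegularLocalRing (Localization.AtPrime (⊥ : Ideal R)) := by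
  apply IsRegularLocalRing.of_spanFinrank_maximalIdeal_le
  have h1 : IsLocalRing.maximalIdeal (Localization.AtPrime (⊥ : Ideal R)) = ⊥ := by
    rw [← IsLocalization.AtPrime.map_eq_maximalIdeal (⊥ : Ideal R), Ideal.map_bot]
  rw [h1]
  have h2 : Submodule.spanFinrank (⊥ : Ideal (Localization.AtPrime (⊥ : Ideal R))) = 0 :=
    Submodule.spanFinrank_bot
  rw [h2]
  exact_mod_cast ringKrullDim_nonneg_of_nontrivial

theorem main (A : Type u) [CommRing A] [IsNoetherianRing A] :
    (∀ I : Ideal A, IsOpen (EGA4.regLocus (A ⧸ I))) ↔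
      ∀ (p : Ideal A) [p.IsPrime],
        ∃ U : Set (PrimeSpectrum (A ⧸ p)), IsOpen U ∧ U.Nonempty ∧ U ⊆ EGA4.regLocus (A ⧸ p) := by
  constructor
  · intro h p _
    refine ⟨_, h p, ⟨⟨⊥, Ideal.isPrime_bot⟩, ?_⟩, subset_rfl⟩
    exact reg_generic (A ⧸ p)
  · intro h I
    apply Groth.Agent.S4700.Aux.main (A ⧸ I)
    intro P hP
    have hprime : (P.asIdeal.comap (Ideal.Quotient.mk I)).IsPrime := Ideal.comap_isPrime _ _
    have hp := h (P.asIdeal.comap (Ideal.Quotient.mk I))
    let f : A →+* (A ⧸ I) ⧸ P.asIdeal :=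
      (Ideal.Quotient.mk P.asIdeal).comp (Ideal.Quotient.mk I)
    have hf : Function.Surjective f :=
      Ideal.Quotient.mk_surjective.comp Ideal.Quotient.mk_surjective
    have hker : RingHom.ker f = P.asIdeal.comap (Ideal.Quotient.mk I) := by
      rw [RingHom.ker_eq_comap_bot, ← Ideal.comap_comap, ← RingHom.ker_eq_comap_bot, Ideal.mk_ker]
    let e : A ⧸ (P.asIdeal.comap (Ideal.Quotient.mk I)) ≃+* (A ⧸ I) ⧸ P.asIdeal :=
      (Ideal.quotEquivOfEq hker.symm).trans (RingHom.quotientKerEquivOfSurjective hf)
    exact exists_open_of_ringEquiv e hp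

end Aux

/-- Let A be a Noetherian ring. The regular locus of every quotient ring A/I is open in its spectrum if
and only if, for every prime ideal p, the regular locus of the domain A/p contains a nonempty open
subset of Spec(A/p). (The published statement quantifies over all subschemes of Spec A; open
subschemes of the closed ones add nothing, so closed subschemes are used here.) -/
theorem result (A : Type u) [CommRing A] [IsNoetherianRing A] :
    (∀ I : Ideal A, IsOpen (EGA4.regLocus (A ⧸ I))) ↔
      ∀ (p : Ideal A) [p.IsPrime],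
        ∃ U : Set (PrimeSpectrum (A ⧸ p)), IsOpen U ∧ U.Nonempty ∧ U ⊆ EGA4.regLocus (A ⧸ p) := by
  exact Aux.main A

end Groth.Agent.S4701
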