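import Groth.Statements.S4706
import Groth.Agent.Lib.Helper8.CompFib4

set_option autoImplicit false
universe u
open EGA4

namespace Groth.Agent.S4706

/-- Let A → A' be a local homomorphism of Noetherian local rings which is normal (flat, with
geometrically normal fibres). If the completion map of A' is regular (the formal fibres of A' are
geometrically regular), then the formal fibres of A are geometrically normal. -/
theorem result (A A' : Type u) [CommRing A] [CommRing A']
    [IsNoetherianRing A] [IsNoetherianRing A'] [IsLocalRing A] [IsLocalRing A'] [Algebra A A']
    [IsLocalHom (algebraMap A A')] (hf : EGA4.IsNormalHom A A') (hA' : CAlg.IsRegularHom A' (EGA4.Cpl A')) :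
    EGA4.HasGeomNormalFormalFibres A := by
  exact Groth.Agent.Helper8.CompFib.hasGeomNormalFormalFibres_of_isNormalHom_to_local A A' hf hA'

end Groth.Agent.S4706
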