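import Groth.Statements.S4708
import Groth.Agent.Lib.Helper8.Andre5
import Groth.Agent.Lib.Helper8.Andre6
import Groth.Agent.Lib.Helper8.CompFib4

set_option autoImplicit false
universe u
open EGA4

namespace Groth.Agent.S4708

/-- Let A → B be a local homomorphism of Noetherian local rings making B a flat A-module, such that the
residue field of B is a finite extension of the residue field k of A, and such that the formal
fibres of A are geometrically regular (the completion map A → Â is regular). If the k-algebra k ⊗_A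
B̂, where B̂ is the completion of B, is geometrically regular over k, then every fibre of A → B is
geometrically regular, that is, A → B is a regular homomorphism. -/
theorem result (A B : Type u) [CommRing A] [CommRing B]
    [IsNoetherianRing A] [IsNoetherianRing B] [IsLocalRing A] [IsLocalRing B] [Algebra A B]
    [IsLocalHom (algebraMap A B)] [Module.Flat A B]
    [Module.Finite (IsLocalRing.ResidueField A) (IsLocalRing.ResidueField B)]
    (hA : CAlg.IsRegularHom A (EGA4.Cpl A))
    (h : CAlg.IsGeometricallyRegular (IsLocalRing.maximalIdeal A).ResidueField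
      ((IsLocalRing.maximalIdeal A).Fiber (EGA4.Cpl B))) :
    CAlg.IsRegularHom A B := by
  haveI : IsNoetherianRing (EGA4.Cpl A) := Groth.Agent.Helper8.AdicReg.isNoetherianRing A _
  haveI : IsNoetherianRing (EGA4.Cpl B) := Groth.Agent.Helper8.AdicReg.isNoetherianRing B _
  haveI : Module.Flat A (EGA4.Cpl B) := Module.Flat.trans A B (EGA4.Cpl B)
  haveI hlocB' : IsLocalHom (algebraMap A (EGA4.Cpl B)) := by
    have : algebraMap A (EGA4.Cpl B) = (algebraMap B (EGA4.Cpl B)).comp (algebraMap A B) :=
      IsScalarTower.algebraMap_eq A B _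
    rw [this]
    infer_instance
  have hfsA : CAlgX.IsAdicFormallySmooth A (EGA4.Cpl B) (IsLocalRing.maximalIdeal (EGA4.Cpl B)) :=
    Groth.Agent.Helper8.PRad.isAdicFormallySmooth_of_flat_of_fiber h
  letI := Groth.Agent.Helper8.CplMap.algebraCpl A B
  haveI := Groth.Agent.Helper8.CplMap.isScalarTower_cpl A B
  haveI := Groth.Agent.Helper8.CplMap.isLocalHom_cpl A B
  have hfs : CAlgX.IsAdicFormallySmooth (EGA4.Cpl A) (EGA4.Cpl B)
      (IsLocalRing.maximalIdeal (EGA4.Cpl B)) :=
    Groth.Agent.Helper8.Andre.isAdicFormallySmooth_cpl_base (IsLocalRing.maximalIdeal A) _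
      (Groth.Agent.Helper8.AdicFS.map_maximalIdeal_le_of_isLocalHom _) hfsA
  have hreg : CAlg.IsRegularHom (EGA4.Cpl A) (EGA4.Cpl B) :=
    Groth.Agent.Helper8.Andre.isRegularHom_of_isAdicFormallySmooth (EGA4.Cpl A) (EGA4.Cpl B) hfs
  have hAC : CAlg.IsRegularHom A (EGA4.Cpl B) :=
    Groth.Agent.Helper8.CompFib.isRegularHom_comp A (EGA4.Cpl A) (EGA4.Cpl B) hA hreg
      (fun p _ => Groth.Agent.Helper8.Fib.isNoetherianRing_fiber (S := EGA4.Cpl B) p)
  haveI : Module.FaithfullyFlat B (EGA4.Cpl B) := Module.FaithfullyFlat.of_flat_of_isLocalHom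
  exact Groth.Agent.Helper8.CompFib.isRegularHom_descent A B (EGA4.Cpl B) hAC

end Groth.Agent.S4708
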