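import Groth.Statements.S4722
import Mathlib
-- import your own Groth.Agent.* helpers here

set_option autoImplicit false
universe u
open EGA4

namespace Groth.Agent.S4722

namespace Aux
open Submodule

variable {A : Type u} [CommRing A] [IsNoetherianRing A]
    {M : Type u} [AddCommGroup M] [Module A M]

/-- elements of the unique associated prime act locally nilpotently -/
theorem locally_nilpotent (p : Ideal A) (hp : associatedPrimes A M = {p}) (a : A) (ha : a ∈ p)
    (z : M) : ∃ n : ℕ, a ^ n • z = 0 := by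
  -- ascending chain of annihilators
  let f : ℕ →o Ideal A :=
    { toFun := fun n => (⊥ : Submodule A M).colon {a ^ n • z}
      monotone' := by
        apply monotone_nat_of_le_succ
        intro n b hb
        rw [mem_colon_singleton, mem_bot] at hb ⊢
        rw [pow_succ', mul_smul, smul_comm, hb, smul_zero] }
  obtain ⟨n₀, hn₀⟩ := (monotone_stabilizes_iff_noetherian (R := A) (M := A)).mpr inferInstance f
  refine ⟨n₀, ?_⟩
  by_contra hw
  set w := a ^ n₀ • z with hwdef
  -- span {w} is a nontrivial module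
  have hnt : Nontrivial (span A {w}) :=
    ⟨⟨⟨w, mem_span_singleton_self w⟩, 0, fun h => hw (congrArg Subtype.val h)⟩⟩
  obtain ⟨q, hq⟩ := associatedPrimes.nonempty A (span A {w})
  have hq' : q ∈ associatedPrimes A M :=
    associatedPrimes.subset_of_injective (f := (span A {w}).subtype) (subtype_injective _) hq
  rw [hp, Set.mem_singleton_iff] at hq'
  subst hq'
  obtain ⟨hprime, ⟨y, hy⟩, hqy⟩ := (isAssociatedPrime_iff).mp hq
  obtain ⟨b, rfl⟩ := mem_span_singleton.mp hy
  have h1 : a ∈ (⊥ : Submodule A (span A {w})).colon {⟨b • w, hy⟩} := hqy ▸ ha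
  rw [mem_colon_singleton, mem_bot] at h1
  have h2 : a • (b • w) = 0 := congrArg Subtype.val h1
  have h3 : b ∈ f (n₀ + 1) := by
    show b ∈ (⊥ : Submodule A M).colon {a ^ (n₀ + 1) • z}
    rw [mem_colon_singleton, mem_bot, pow_succ', mul_smul, ← hwdef, smul_comm]
    exact h2
  rw [← hn₀ (n₀ + 1) (Nat.le_succ _)] at h3
  have h4 : b • w = 0 := by
    have : b ∈ (⊥ : Submodule A M).colon {a ^ n₀ • z} := h3
    rwa [mem_colon_singleton, mem_bot] at this
  have h5 : (1 : A) ∈ q := by
    rw [hqy, mem_colon_singleton, mem_bot, one_smul]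
    exact Subtype.ext h4
  exact hprime.ne_top ((Ideal.eq_top_iff_one _).mpr h5)


/-- `N` is saturated with respect to the complement of `p` -/
def Sat (p : Ideal A) (N : Submodule A M) : Prop := ∀ s : A, s ∉ p → ∀ y : M, s • y ∈ N → y ∈ N

/-- the quotient embeds into `A/p` -/
def Emb (p : Ideal A) (P Q : Submodule A M) : Prop :=
  ∃ g : (↥P ⧸ Submodule.comap P.subtype Q) →ₗ[A] (A ⧸ p), Function.Injective g

/-- the saturation of `N + A x` -/
def satSpan (p : Ideal A) [p.IsPrime] (N : Submodule A M) (x : M) : Submodule A M where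
  carrier := {y | ∃ s : A, s ∉ p ∧ s • y ∈ N ⊔ span A {x}}
  zero_mem' := ⟨1, fun h => (‹p.IsPrime›).ne_top ((Ideal.eq_top_iff_one _).mpr h), by
    rw [smul_zero]; exact zero_mem _⟩
  add_mem' := by
    rintro y₁ y₂ ⟨s₁, hs₁, h₁⟩ ⟨s₂, hs₂, h₂⟩
    refine ⟨s₁ * s₂, fun h => ((‹p.IsPrime›).mem_or_mem h).elim hs₁ hs₂, ?_⟩
    rw [smul_add]
    refine add_mem ?_ ?_
    · rw [mul_comm, mul_smul]; exact smul_mem _ _ h₁
    · rw [mul_smul]; exact smul_mem _ _ h₂
  smul_mem' := by
    rintro c y ⟨s, hs, h⟩
    exact ⟨s, hs, by rw [smul_comm]; exact smul_mem _ _ h⟩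

theorem step [Module.Finite A M] (p : Ideal A) [hpp : p.IsPrime]
    (H : ∀ a ∈ p, ∀ z : M, ∃ n : ℕ, a ^ n • z = 0)
    (N : Submodule A M) (hN : N ≠ ⊤) (hsat : Sat p N) :
    ∃ N' : Submodule A M, N < N' ∧ Sat p N' ∧ Emb p N' N := by
  have hnt : Nontrivial (M ⧸ N) := Submodule.Quotient.nontrivial_iff.mpr hN
  obtain ⟨q, hq⟩ := associatedPrimes.nonempty A (M ⧸ N)
  obtain ⟨hqprime, xbar, hqx⟩ := (isAssociatedPrime_iff).mp hq
  obtain ⟨x, rfl⟩ := N.mkQ_surjective xbar
  have hmem : ∀ a : A, a ∈ q ↔ a • x ∈ N := by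
    intro a
    rw [hqx, mem_colon_singleton, mem_bot, ← map_smul, mkQ_apply, Submodule.Quotient.mk_eq_zero]
  have hxN : x ∉ N := by
    intro hx
    apply hqprime.ne_top
    rw [Ideal.eq_top_iff_one, hmem, one_smul]
    exact hx
  have hqp : q = p := by
    apply le_antisymm
    · intro a ha
      by_contra hap
      exact hxN (hsat a hap x ((hmem a).mp ha))
    · intro a ha
      obtain ⟨n, hn⟩ := H a ha x
      have : a ^ n ∈ q := by rw [hmem, hn]; exact zero_mem _
      exact hqprime.mem_of_pow_mem n this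
  subst hqp
  have h1q : (1 : A) ∉ q := fun h => hqprime.ne_top ((Ideal.eq_top_iff_one _).mpr h)
  refine ⟨satSpan q N x, ?_, ?_, ?_⟩
  · refine lt_of_le_of_ne ?_ ?_
    · intro y hy
      exact ⟨1, h1q, by rw [one_smul]; exact mem_sup_left hy⟩
    · intro h
      apply hxN
      rw [h]
      exact ⟨1, h1q, by rw [one_smul]; exact mem_sup_right (mem_span_singleton_self x)⟩
  · intro t ht y hy
    obtain ⟨s, hs, h⟩ := hy
    refine ⟨s * t, fun h => (hqprime.mem_or_mem h).elim hs ht, ?_⟩
    rw [mul_smul]; exact h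
  · -- common multiplier
    classical
    have hfg : (satSpan q N x).FG := IsNoetherian.noetherian _
    obtain ⟨T, hT⟩ := hfg
    have hchoose : ∀ t ∈ T, ∃ s : A, s ∉ q ∧ s • t ∈ N ⊔ span A {x} := by
      intro t ht
      have : t ∈ satSpan q N x := hT ▸ subset_span ht
      exact this
    choose! σ hσ1 hσ2 using hchoose
    let s := ∏ t ∈ T, σ t
    have hs : s ∉ q := by
      intro h
      obtain ⟨t, ht, h'⟩ := (hqprime.prod_mem_iff).mp h
      exact hσ1 t ht h'
    have hall : ∀ y ∈ satSpan q N x, s • y ∈ N ⊔ span A {x} := by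
      have : satSpan q N x ≤ (N ⊔ span A {x}).comap (LinearMap.lsmul A M s) := by
        rw [← hT, span_le]
        intro t ht
        show s • t ∈ N ⊔ span A {x}
        have : s = (∏ t' ∈ T.erase t, σ t') * σ t := (Finset.prod_erase_mul T σ ht).symm
        rw [this, mul_smul]
        exact smul_mem _ _ (hσ2 t ht)
      intro y hy
      exact this hy
    -- the map ι : A/q → M/N
    let ι : (A ⧸ q) →ₗ[A] (M ⧸ N) :=
      Submodule.liftQ q (N.mkQ.comp (LinearMap.toSpanSingleton A M x)) (by
        intro a ha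
        rw [LinearMap.mem_ker, LinearMap.comp_apply, LinearMap.toSpanSingleton_apply, mkQ_apply,
          Submodule.Quotient.mk_eq_zero]
        exact (hmem a).mp ha)
    have hι : Function.Injective ι := by
      rw [← LinearMap.ker_eq_bot]
      apply Submodule.ker_liftQ_eq_bot
      intro a ha
      rw [LinearMap.mem_ker, LinearMap.comp_apply, LinearMap.toSpanSingleton_apply, mkQ_apply,
          Submodule.Quotient.mk_eq_zero] at ha
      exact (hmem a).mpr ha
    let φ : ↥(satSpan q N x) →ₗ[A] (M ⧸ N) :=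
      N.mkQ.comp ((LinearMap.lsmul A M s).comp (satSpan q N x).subtype)
    have hφ : ∀ y, φ y ∈ LinearMap.range ι := by
      intro y
      obtain ⟨n, hn, w, hw, hnw⟩ := mem_sup.mp (hall y.1 y.2)
      obtain ⟨a, rfl⟩ := mem_span_singleton.mp hw
      refine ⟨Submodule.Quotient.mk a, ?_⟩
      show N.mkQ (a • x) = N.mkQ (s • y.1)
      rw [← hnw, map_add, mkQ_apply, mkQ_apply, (Submodule.Quotient.mk_eq_zero N).mpr hn, zero_add]
    let g₀ : ↥(satSpan q N x) →ₗ[A] (A ⧸ q) :=
      (LinearEquiv.ofInjective ι hι).symm.toLinearMap.comp (φ.codRestrict (LinearMap.range ι) hφ)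
    have hker : LinearMap.ker g₀ ≤ Submodule.comap (satSpan q N x).subtype N := by
      intro y hy
      rw [LinearMap.mem_ker, LinearMap.comp_apply, LinearEquiv.coe_coe,
        LinearEquiv.map_eq_zero_iff] at hy
      have h2 : φ y = 0 := congrArg Subtype.val hy
      have h3 : s • y.1 ∈ N := (Submodule.Quotient.mk_eq_zero N).mp h2
      exact hsat s hs y.1 h3
    have hker' : Submodule.comap (satSpan q N x).subtype N ≤ LinearMap.ker g₀ := by
      intro y hy
      rw [LinearMap.mem_ker, LinearMap.comp_apply, LinearEquiv.coe_coe,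
        LinearEquiv.map_eq_zero_iff]
      apply Subtype.ext
      show N.mkQ (s • y.1) = 0
      rw [mkQ_apply, Submodule.Quotient.mk_eq_zero]
      exact smul_mem _ _ hy
    refine ⟨Submodule.liftQ _ g₀ hker', ?_⟩
    rw [← LinearMap.ker_eq_bot]
    exact Submodule.ker_liftQ_eq_bot _ _ _ hker


theorem chain [Module.Finite A M] (p : Ideal A) [hpp : p.IsPrime]
    (H : ∀ a ∈ p, ∀ z : M, ∃ n : ℕ, a ^ n • z = 0) (N : Submodule A M) :
    Sat p N → ∃ (m : ℕ) (F : Fin (m + 1) → Submodule A M), Antitone F ∧ F 0 = ⊤ ∧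
      F (Fin.last m) = N ∧ ∀ i : Fin m, Emb p (F i.castSucc) (F i.succ) := by
  induction N using IsNoetherian.induction with
  | hgt N ih =>
    intro hsat
    by_cases hN : N = ⊤
    · subst hN
      exact ⟨0, fun _ => ⊤, fun _ _ _ => le_rfl, rfl, rfl, fun i => i.elim0⟩
    · obtain ⟨N', hlt, hsat', hemb⟩ := step p H N hN hsat
      obtain ⟨m, F, hF, h0, hl, hE⟩ := ih N' hlt hsat'
      have hge : ∀ i, N ≤ F i := fun i => by
        calc N ≤ N' := hlt.le
          _ = F (Fin.last m) := hl.symm
          _ ≤ F i := hF (Fin.le_last i)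
      refine ⟨m + 1, Fin.snoc (α := fun _ => Submodule A M) F N, ?_, ?_, ?_, ?_⟩
      · intro i j hij
        induction j using Fin.lastCases with
        | last =>
          rw [Fin.snoc_last]
          induction i using Fin.lastCases with
          | last => rw [Fin.snoc_last]
          | cast i' => rw [Fin.snoc_castSucc]; exact hge i'
        | cast j' =>
          induction i using Fin.lastCases with
          | last =>
            exfalso
            have := Fin.le_antisymm hij (Fin.le_last _)
            exact (Fin.castSucc_lt_last j').ne this.symm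
          | cast i' =>
            rw [Fin.snoc_castSucc, Fin.snoc_castSucc]
            exact hF (Fin.castSucc_le_castSucc_iff.mp hij)
      · rw [← Fin.castSucc_zero, Fin.snoc_castSucc]; exact h0
      · rw [Fin.snoc_last]
      · intro i
        induction i using Fin.lastCases with
        | last =>
          rw [Fin.succ_last, Fin.snoc_last, Fin.snoc_castSucc, hl]
          exact hemb
        | cast j =>
          rw [Fin.succ_castSucc, Fin.snoc_castSucc, Fin.snoc_castSucc]
          exact hE j

theorem main (A : Type u) [CommRing A] [IsNoetherianRing A]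
    (M : Type u) [AddCommGroup M] [Module A M] [Module.Finite A M] (p : Ideal A)
    (hp : associatedPrimes A M = {p}) :
    ∃ (m : ℕ) (F : Fin (m + 1) → Submodule A M), Antitone F ∧ F 0 = ⊤ ∧ F (Fin.last m) = ⊥ ∧
      ∀ i : Fin m, ∃ g : (↥(F i.castSucc) ⧸ Submodule.comap (F i.castSucc).subtype (F i.succ)) →ₗ[A] (A ⧸ p),
        Function.Injective g := by
  have hpp : p.IsPrime := by
    have : p ∈ associatedPrimes A M := by rw [hp]; rfl
    exact this.isPrime
  have H := locally_nilpotent p hp
  have hsat : Sat p (⊥ : Submodule A M) := by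
    intro s hs y hy
    rw [mem_bot] at hy ⊢
    by_contra hy0
    have : s ∈ ⋃ q ∈ associatedPrimes A M, (q : Set A) := by
      rw [biUnion_associatedPrimes_eq_zero_divisors]; exact ⟨y, hy0, hy⟩
    rw [hp] at this
    simp at this
    exact hs this
  exact chain p H ⊥ hsat

end Aux

/-- Let A be a Noetherian ring and M a finite A-module whose set of associated primes is a single prime
p. Then M has a finite decreasing filtration by submodules M = M_0 ⊇ M_1 ⊇ ⋯ ⊇ M_m = 0 such that
each quotient M_h/M_{h+1} is isomorphic to a submodule of A/p (i.e. embeds A-linearly into A/p). -/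
theorem result (A : Type u) [CommRing A] [IsNoetherianRing A]
    (M : Type u) [AddCommGroup M] [Module A M] [Module.Finite A M] (p : Ideal A)
    (hp : associatedPrimes A M = {p}) :
    ∃ (m : ℕ) (F : Fin (m + 1) → Submodule A M), Antitone F ∧ F 0 = ⊤ ∧ F (Fin.last m) = ⊥ ∧
      ∀ i : Fin m, ∃ g : (↥(F i.castSucc) ⧸ Submodule.comap (F i.castSucc).subtype (F i.succ)) →ₗ[A] (A ⧸ p),
        Function.Injective g := by
  exact Aux.main A M p hp

end Groth.Agent.S4722
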