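import Groth.Statements.S4723
import Groth.Agent.Lib.Helper8.PushCoh9

set_option autoImplicit false
universe u
open EGA4

namespace Groth.Agent.S4723

/-- Let A be a Noetherian ring which is either a quotient of a regular Noetherian ring or universally
catenary and universally Japanese. Then for every prime q of A, writing B = A/q with fraction field
K, and every ideal J of B of height at least 2, the subring of K consisting of the elements lying in
B_p for every prime p of B not containing J (the ring of sections of the structure sheaf of Spec B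
over the open complement of V(J)) is a finite B-algebra (some B-subalgebra of K with exactly this
underlying set is a finitely generated B-module). -/
theorem result (A : Type u) [CommRing A] [IsNoetherianRing A]
    (hA : (∃ (R : Type u) (_ : CommRing R), IsNoetherianRing R ∧ IsRegularRing R ∧
        ∃ f : R →+* A, Function.Surjective f) ∨
      (CAlg.IsUniversallyCatenary A ∧ CAlg.IsUniversallyJapanese A))
    (q : Ideal A) [q.IsPrime] (J : Ideal (A ⧸ q)) (hJ2 : (2 : ℕ∞) ≤ J.height) :
    ∃ B' : Subalgebra (A ⧸ q) (FractionRing (A ⧸ q)),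
      (B' : Set (FractionRing (A ⧸ q))) =
          {x | ∀ (p : Ideal (A ⧸ q)) [p.IsPrime], ¬ J ≤ p →
            ∃ s : A ⧸ q, s ∉ p ∧ ∃ a : A ⧸ q,
              algebraMap (A ⧸ q) (FractionRing (A ⧸ q)) a = algebraMap (A ⧸ q) (FractionRing (A ⧸ q)) s * x} ∧
        Module.Finite (A ⧸ q) B' := by
  haveI : IsDomain (A ⧸ q) := Ideal.Quotient.isDomain q
  have hJ0 : J ≠ ⊥ := by
    rintro rfl
    rw [Ideal.height_bot] at hJ2
    norm_num at hJ2
  have hfin : Groth.Agent.Helper8.FinH1.FinDT J (A ⧸ q) := by
    rcases hA with ⟨R, hR, hRN, hRreg, f, hf⟩ | ⟨hUC, hUJ⟩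
    · have hP : Groth.Agent.Helper8.PushCoh.LocalCrit (A ⧸ q) :=
        Groth.Agent.Helper8.PushCoh.localCrit_of_surjective_of_isRegularRing R (A ⧸ q)
          ((Ideal.Quotient.mk q).comp f) (Ideal.Quotient.mk_surjective.comp hf)
      exact Groth.Agent.Helper8.PushCoh.finDT_of_localCrit hP J hJ2 (A ⧸ q) LinearMap.id
        Function.injective_id
    · have hN2 : CAlg.IsN2 (A ⧸ q) := hUJ (A ⧸ q) inferInstance
      have hint : Module.Finite (A ⧸ q) (integralClosure (A ⧸ q) (FractionRing (A ⧸ q))) :=
        hN2 (FractionRing (A ⧸ q)) inferInstance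
      have hUB : CAlg.IsUniversallyCatenary (A ⧸ q) :=
        Groth.Agent.Helper8.HensEq.isUniversallyCatenary_of_finiteType A (A ⧸ q) hUC
      apply Groth.Agent.Helper8.FinH1.finDT_domain _
        (Groth.Agent.Helper8.HOH.heightOneHullFinite (A ⧸ q) hUB hint)
      intro P hP hP1 hle
      have h2 := hJ2.trans (Ideal.height_mono hle)
      rw [hP1] at h2
      norm_num at h2
  exact ⟨Groth.Agent.Helper8.PushCoh.secSubalgebra (A ⧸ q) J, rfl,
    Groth.Agent.Helper8.PushCoh.finite_secSubalgebra hJ0 hfin⟩

end Groth.Agent.S4723
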