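import Groth.Statements.S4726
import Mathlib

set_option autoImplicit false
universe u
open EGA4

namespace Groth.Agent.S4726

section


open TensorProduct

section desc
variable (R A : Type u) [CommRing R] [CommRing A] [Algebra R A] (n m : ℕ)
  (w : Fin m → (Fin n → R))

/-- the image vectors -/
def vv : Fin m → (Fin n → A) := fun k j => algebraMap R A (w k j)

noncomputable def iotaN : (Fin n → R) →ₗ[R] (Fin n → A) := (Algebra.linearMap R A).compLeft (Fin n)

theorem iotaN_apply (x : Fin n → R) (j : Fin n) : iotaN R A n x j = algebraMap R A (x j) := rfl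

noncomputable def phi : (Fin n → A) →ₗ[A]
    A ⊗[R] ((Fin n → R) ⧸ Submodule.span R (Set.range w)) :=
  Fintype.linearCombination A
    (fun j => (1 : A) ⊗ₜ[R] (Submodule.span R (Set.range w)).mkQ (Pi.single j 1))

theorem phi_iota (x : Fin n → R) :
    phi R A n m w (iotaN R A n x) = (1 : A) ⊗ₜ[R] (Submodule.span R (Set.range w)).mkQ x := by
  unfold phi
  rw [Fintype.linearCombination_apply]
  have h1 : ∀ j : Fin n, iotaN R A n x j •
      ((1 : A) ⊗ₜ[R] (Submodule.span R (Set.range w)).mkQ (Pi.single j (1 : R))) =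
      (1 : A) ⊗ₜ[R] (Submodule.span R (Set.range w)).mkQ (Pi.single j (x j)) := by
    intro j
    rw [iotaN_apply, TensorProduct.smul_tmul', smul_eq_mul, mul_one, Algebra.algebraMap_eq_smul_one,
      TensorProduct.smul_tmul, ← map_smul]
    congr 2
    ext l
    simp [Pi.single_apply]
  rw [Finset.sum_congr rfl fun j _ => h1 j, ← TensorProduct.tmul_sum, ← map_sum]
  congr 2
  exact Finset.univ_sum_single x


noncomputable def gg : ((Fin n → R) ⧸ Submodule.span R (Set.range w)) →ₗ[R]
    ((Fin n → A) ⧸ Submodule.span A (Set.range (vv R A n m w))) :=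
  (Submodule.span R (Set.range w)).liftQ
    (((Submodule.span A (Set.range (vv R A n m w))).mkQ.restrictScalars R).comp (iotaN R A n))
    (by
      rw [Submodule.span_le]
      rintro _ ⟨k, rfl⟩
      rw [SetLike.mem_coe, LinearMap.mem_ker, LinearMap.comp_apply, LinearMap.restrictScalars_apply,
        Submodule.mkQ_apply, Submodule.Quotient.mk_eq_zero]
      exact Submodule.subset_span ⟨k, rfl⟩)

theorem gg_mk (x : Fin n → R) :
    gg R A n m w ((Submodule.span R (Set.range w)).mkQ x) =
      (Submodule.span A (Set.range (vv R A n m w))).mkQ (iotaN R A n x) := rfl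

noncomputable def Psi : A ⊗[R] ((Fin n → R) ⧸ Submodule.span R (Set.range w)) →ₗ[A]
    ((Fin n → A) ⧸ Submodule.span A (Set.range (vv R A n m w))) :=
  LinearMap.liftBaseChange A (gg R A n m w)

noncomputable def Phi : ((Fin n → A) ⧸ Submodule.span A (Set.range (vv R A n m w))) →ₗ[A]
    A ⊗[R] ((Fin n → R) ⧸ Submodule.span R (Set.range w)) :=
  (Submodule.span A (Set.range (vv R A n m w))).liftQ (phi R A n m w)
    (by
      rw [Submodule.span_le]
      rintro _ ⟨k, rfl⟩
      rw [SetLike.mem_coe, LinearMap.mem_ker]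
      have : vv R A n m w k = iotaN R A n (w k) := rfl
      rw [this, phi_iota]
      have : (Submodule.span R (Set.range w)).mkQ (w k) = 0 := by
        rw [Submodule.mkQ_apply, Submodule.Quotient.mk_eq_zero]
        exact Submodule.subset_span ⟨k, rfl⟩
      rw [this, TensorProduct.tmul_zero])

theorem Phi_mk (y : Fin n → A) :
    Phi R A n m w ((Submodule.span A (Set.range (vv R A n m w))).mkQ y) = phi R A n m w y := rfl

noncomputable def descEquiv :
    ((Fin n → A) ⧸ Submodule.span A (Set.range (vv R A n m w))) ≃ₗ[A]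
      A ⊗[R] ((Fin n → R) ⧸ Submodule.span R (Set.range w)) :=
  LinearEquiv.ofLinear (Phi R A n m w) (Psi R A n m w)
    (by
      apply TensorProduct.AlgebraTensorModule.curry_injective
      refine LinearMap.ext fun a => ?_
      refine Submodule.linearMap_qext _ ?_
      refine LinearMap.ext fun x => ?_
      simp only [TensorProduct.AlgebraTensorModule.curry_apply, LinearMap.restrictScalars_comp,
        TensorProduct.curry_apply, LinearMap.coe_comp, LinearMap.coe_restrictScalars,
        Function.comp_apply, LinearMap.id_coe, id_eq]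
      unfold Psi
      rw [LinearMap.liftBaseChange_tmul, gg_mk, map_smul, Phi_mk, phi_iota,
        TensorProduct.smul_tmul', smul_eq_mul, mul_one])
    (by
      refine Submodule.linearMap_qext _ ?_
      refine LinearMap.pi_ext fun j a => ?_
      simp only [LinearMap.coe_comp, Function.comp_apply, LinearMap.id_coe, id_eq]
      rw [Phi_mk]
      have e1 : (Pi.single j a : Fin n → A) = a • iotaN R A n (Pi.single j (1 : R)) := by
        ext l
        simp [iotaN_apply, Pi.single_apply]
      rw [e1, map_smul, phi_iota, map_smul]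
      unfold Psi
      rw [LinearMap.liftBaseChange_tmul, one_smul, gg_mk, map_smul])

end desc

theorem main (ι : Type u) [Preorder ι] [Nonempty ι] [IsDirectedOrder ι]
    (G : ι → Type u) [∀ i, CommRing (G i)] (f : ∀ i j, i ≤ j → G i →+* G j)
    [DirectedSystem G (fun i j h ↦ f i j h)] (M : Type u) [AddCommGroup M]
    [Module (Ring.DirectLimit G (fun i j h ↦ f i j h)) M]
    [Module.FinitePresentation (Ring.DirectLimit G (fun i j h ↦ f i j h)) M] :
    ∃ (i : ι) (Mi : Type u) (_ : AddCommGroup Mi) (_ : Module (G i) Mi), Module.FinitePresentation (G i) Mi ∧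
      letI : Algebra (G i) (Ring.DirectLimit G (fun i j h ↦ f i j h)) :=
        (Ring.DirectLimit.of G (fun i j h ↦ f i j h) i).toAlgebra
      Nonempty (M ≃ₗ[Ring.DirectLimit G (fun i j h ↦ f i j h)] (Ring.DirectLimit G (fun i j h ↦ f i j h)) ⊗[G i] Mi) := by
  classical
  obtain ⟨n, K, e, hK⟩ :=
    Module.FinitePresentation.exists_fin (Ring.DirectLimit G fun i j h ↦ f i j h) M
  obtain ⟨m, v, hv⟩ := Submodule.fg_iff_exists_fin_generating_family.mp hK
  have hlift : ∃ i₀ : ι, ∀ k j, ∃ x : G i₀,
      Ring.DirectLimit.of G (fun i j h ↦ f i j h) i₀ x = v k j := by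
    have hex : ∀ t : Fin m × Fin n, ∃ i x,
        Ring.DirectLimit.of G (fun i j h ↦ f i j h) i x = v t.1 t.2 :=
      fun t => Ring.DirectLimit.exists_of _
    choose idx x hx using hex
    obtain ⟨i₀, hi₀⟩ := Finset.exists_le (Finset.univ.image idx)
    refine ⟨i₀, fun k j => ⟨f (idx (k, j)) i₀
      (hi₀ _ (Finset.mem_image_of_mem _ (Finset.mem_univ _))) (x (k, j)), ?_⟩⟩
    rw [Ring.DirectLimit.of_f, hx]
  obtain ⟨i₀, hi₀⟩ := hlift
  choose w hw using hi₀
  letI : Algebra (G i₀) (Ring.DirectLimit G (fun i j h ↦ f i j h)) :=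
    (Ring.DirectLimit.of G (fun i j h ↦ f i j h) i₀).toAlgebra
  refine ⟨i₀, (Fin n → G i₀) ⧸ Submodule.span (G i₀) (Set.range w), inferInstance, inferInstance,
    ?_, ?_⟩
  · exact Module.finitePresentation_of_surjective (Submodule.mkQ _) (Submodule.mkQ_surjective _)
      (by rw [Submodule.ker_mkQ]; exact Submodule.fg_span (Set.finite_range w))
  · have hvv : vv (G i₀) (Ring.DirectLimit G fun i j h ↦ f i j h) n m w = v := by
      ext k j
      exact hw k j
    have hKeq : K = Submodule.span _
        (Set.range (vv (G i₀) (Ring.DirectLimit G fun i j h ↦ f i j h) n m w)) := by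
      rw [hvv, hv]
    exact ⟨e.trans ((Submodule.quotEquivOfEq _ _ hKeq).trans (descEquiv (G i₀) _ n m w))⟩


end


open TensorProduct in
/-- Let (A_i) be a directed system of commutative rings with direct limit A and M a finitely presented
A-module. Then there exist an index i and a finitely presented A_i-module M_i such that M is
isomorphic, as an A-module, to A ⊗_{A_i} M_i (A being an A_i-algebra through the canonical map). -/
theorem result (ι : Type u) [Preorder ι] [Nonempty ι] [IsDirectedOrder ι]
    (G : ι → Type u) [∀ i, CommRing (G i)] (f : ∀ i j, i ≤ j → G i →+* G j)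
    [DirectedSystem G (fun i j h ↦ f i j h)] (M : Type u) [AddCommGroup M]
    [Module (Ring.DirectLimit G (fun i j h ↦ f i j h)) M]
    [Module.FinitePresentation (Ring.DirectLimit G (fun i j h ↦ f i j h)) M] :
    ∃ (i : ι) (Mi : Type u) (_ : AddCommGroup Mi) (_ : Module (G i) Mi), Module.FinitePresentation (G i) Mi ∧
      letI : Algebra (G i) (Ring.DirectLimit G (fun i j h ↦ f i j h)) :=
        (Ring.DirectLimit.of G (fun i j h ↦ f i j h) i).toAlgebra
      Nonempty (M ≃ₗ[Ring.DirectLimit G (fun i j h ↦ f i j h)] (Ring.DirectLimit G (fun i j h ↦ f i j h)) ⊗[G i] Mi) := by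
  classical
  exact main ι G f M

end Groth.Agent.S4726
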