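import Groth.Statements.S4728
import Groth.Agent.Lib.Helper8.DimOne2

set_option autoImplicit false
universe u
open EGA4

namespace Groth.Agent.S4728

/-- Let A be a Noetherian local domain of dimension 1 with maximal ideal m, A' a Noetherian local ring
and A → A' a local homomorphism which is normal (flat, with geometrically normal fibres). Then the
ideal m A' of A' is prime and the local ring of A' at m A' has dimension 1. (The remaining clauses
of the published item, describing A' inside its total ring of fractions, are not restated.) -/
theorem result (A A' : Type u) [CommRing A] [CommRing A']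
    [IsNoetherianRing A] [IsNoetherianRing A'] [IsLocalRing A] [IsLocalRing A'] [IsDomain A]
    (hA : ringKrullDim A = 1) [Algebra A A'] [IsLocalHom (algebraMap A A')] (h : EGA4.IsNormalHom A A') :
    ((IsLocalRing.maximalIdeal A).map (algebraMap A A')).IsPrime ∧
      ((IsLocalRing.maximalIdeal A).map (algebraMap A A')).height = 1 := by
  haveI hP := Groth.Agent.Helper8.DimOne.isPrime_map_maximalIdeal A A' h
  haveI : Module.Flat A A' := h.1
  refine ⟨hP, ?_⟩
  have h1 := Groth.Agent.Helper8.DimOne.height_map_maximalIdeal A A'
  rw [hA] at h1
  exact_mod_cast h1

end Groth.Agent.S4728
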