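import Groth.Statements.S4730
import Mathlib
import Groth.Agent.S4688

set_option autoImplicit false
universe u
open EGA4

namespace Groth.Agent.S4730

section
open Polynomial Ideal

theorem trdeg_one (A : Type u) [CommRing A]
    (p : Ideal A) [p.IsPrime] (q : Ideal A[X]) [q.IsPrime] [q.LiesOver p]
    (hq : q = p.map (C : A →+* A[X])) :
    Algebra.trdeg (A ⧸ p) (A[X] ⧸ q) = 1 := by
  subst hq
  let e : (A ⧸ p)[X] ≃+* A[X] ⧸ (p.map (C : A →+* A[X])) :=
    polynomialQuotientEquivQuotientPolynomial p
  let e' : (A ⧸ p)[X] ≃ₐ[A ⧸ p] A[X] ⧸ (p.map (C : A →+* A[X])) :=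
    AlgEquiv.ofRingEquiv (f := e) (by
      intro b
      obtain ⟨a, rfl⟩ := Ideal.Quotient.mk_surjective b
      rw [Ideal.Quotient.algebraMap_mk_of_liesOver]
      have := polynomialQuotientEquivQuotientPolynomial_map_mk p (C a)
      rw [Polynomial.map_C] at this
      exact this)
  rw [← e'.trdeg_eq]
  exact Polynomial.trdeg_of_isDomain

theorem trdeg_zero (A : Type u) [CommRing A]
    (p : Ideal A) [p.IsPrime] (q : Ideal A[X]) [q.IsPrime] [q.LiesOver p]
    (hq : q ≠ p.map (C : A →+* A[X])) :
    Algebra.trdeg (A ⧸ p) (A[X] ⧸ q) = 0 := by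
  have hpq : p.map (C : A →+* A[X]) ≤ q := by
    rw [Ideal.map_le_iff_le_comap]
    exact (Ideal.LiesOver.over (P := q) (p := p)).le
  rw [_root_.trdeg_eq_zero_iff]
  -- find f ∈ q not in p.map C
  obtain ⟨f, hfq, hfp⟩ : ∃ f ∈ q, f ∉ p.map (C : A →+* A[X]) := by
    by_contra h
    push Not at h
    exact hq (le_antisymm h hpq)
  have hx : IsAlgebraic (A ⧸ p) (Ideal.Quotient.mk q X) := by
    refine ⟨f.map (Ideal.Quotient.mk p), ?_, ?_⟩
    · intro h0
      apply hfp
      rw [Ideal.mem_map_C_iff]
      intro n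
      have := congrArg (fun g => g.coeff n) h0
      simp only [coeff_map, coeff_zero] at this
      exact Ideal.Quotient.eq_zero_iff_mem.1 this
    · rw [Polynomial.aeval_def, Polynomial.eval₂_map]
      have : (algebraMap (A ⧸ p) (A[X] ⧸ q)).comp (Ideal.Quotient.mk p) =
          (Ideal.Quotient.mk q).comp (C : A →+* A[X]) := by
        ext a; rfl
      rw [this]
      rw [← Polynomial.hom_eval₂]
      rw [Polynomial.eval₂_C_X]
      exact Ideal.Quotient.eq_zero_iff_mem.2 hfq
  have htop : Subalgebra.algebraicClosure (A ⧸ p) (A[X] ⧸ q) = ⊤ := by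
    rw [eq_top_iff]
    intro y hy
    clear hy
    obtain ⟨g, rfl⟩ := Ideal.Quotient.mk_surjective y
    induction g using Polynomial.induction_on with
    | C a =>
      have : Ideal.Quotient.mk q (C a) = algebraMap (A ⧸ p) (A[X] ⧸ q) (Ideal.Quotient.mk p a) := rfl
      rw [this]
      exact Subalgebra.algebraMap_mem _ _
    | add f g hf hg =>
      rw [map_add]; exact Subalgebra.add_mem _ hf hg
    | monomial n a h =>
      rw [pow_succ, ← mul_assoc, map_mul]
      exact Subalgebra.mul_mem _ h hx
  constructor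
  intro y
  have : y ∈ Subalgebra.algebraicClosure (A ⧸ p) (A[X] ⧸ q) := by rw [htop]; trivial
  exact this

theorem main (A : Type u) [CommRing A] [IsNoetherianRing A]
    (p : Ideal A) [p.IsPrime] (q : Ideal A[X]) [q.IsPrime] [q.LiesOver p] :
    (p.height : Cardinal.{u}) + 1 = (q.height : Cardinal.{u}) + Algebra.trdeg (A ⧸ p) (A[X] ⧸ q) := by
  obtain ⟨h1, h2⟩ := Groth.Agent.S4688.result A p q
  by_cases hq : q = p.map (C : A →+* A[X])
  · rw [trdeg_one A p q hq]
    have : q.height = p.height := by rw [hq]; exact h1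
    rw [this]
  · rw [trdeg_zero A p q hq, h2 hq, add_zero]
    simp


end


open Polynomial in
/-- Let A be a Noetherian ring, p a prime ideal of A and q a prime ideal of the polynomial ring A[T]
lying over p. Then ht(p) + 1 = ht(q) + deg.tr_{κ(p)} κ(q), the transcendence degree being that of
the domain A[T]/q over the domain A/p. -/
theorem result (A : Type u) [CommRing A] [IsNoetherianRing A]
    (p : Ideal A) [p.IsPrime] (q : Ideal A[X]) [q.IsPrime] [q.LiesOver p] :
    (p.height : Cardinal.{u}) + 1 = (q.height : Cardinal.{u}) + Algebra.trdeg (A ⧸ p) (A[X] ⧸ q) := by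
  classical
  exact main A p q

end Groth.Agent.S4730
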