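import Groth.Statements.S4731
import Mathlib
-- import your own Groth.Agent.* helpers here

set_option autoImplicit false
universe u
open EGA4

namespace Groth.Agent.S4731

namespace Aux

variable (S R : Type u) [CommRing S] [CommRing R] [Algebra S R]

theorem main [FaithfulSMul S R] [IsNoetherianRing R] [Module.Finite S R] (c : Ideal S)
    (hc : ∀ s : S, s ∈ c ↔ ∀ r : R, ∃ s' : S, algebraMap S R s' = algebraMap S R s * r)
    [IsNoetherianRing (S ⧸ c)] (a : ℕ →o Ideal S) (ha : ∀ n, a n ≤ c) :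
    ∃ N : ℕ, ∀ n, N ≤ n → a n = a N := by
  set φ := algebraMap S R with hφdef
  have hφ : Function.Injective φ := FaithfulSMul.algebraMap_injective S R
  -- F1
  have F1 : ∀ x ∈ c, ∀ r : R, ∃ s' ∈ c, φ s' = φ x * r := by
    intro x hx r
    obtain ⟨s', hs'⟩ := (hc x).mp hx r
    refine ⟨s', (hc s').mpr fun r' => ?_, hs'⟩
    obtain ⟨s'', hs''⟩ := (hc x).mp hx (r * r')
    exact ⟨s'', by rw [hs'', hs', mul_assoc]⟩
  -- the chain of extended ideals stabilizes
  let J : ℕ →o Ideal R := ⟨fun n => Ideal.map φ (a n), fun m n h => Ideal.map_mono (a.monotone h)⟩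
  obtain ⟨N₀, hN₀⟩ := monotone_stabilizes_iff_noetherian.mpr (inferInstance : IsNoetherian R R) J
  -- F2
  have F2 : ∀ n, ∀ z ∈ Ideal.map φ (a n), ∃ t ∈ c, φ t = z := by
    intro n z hz
    refine Submodule.span_induction ?_ ?_ ?_ ?_ hz
    · rintro _ ⟨y, hy, rfl⟩
      exact ⟨y, ha n hy, rfl⟩
    · exact ⟨0, zero_mem _, map_zero _⟩
    · rintro z z' _ _ ⟨t, ht, rfl⟩ ⟨t', ht', rfl⟩
      exact ⟨t + t', add_mem ht ht', map_add _ _ _⟩
    · rintro r z _ ⟨t, ht, rfl⟩
      obtain ⟨s', hs', e⟩ := F1 t ht r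
      exact ⟨s', hs', by rw [e, smul_eq_mul, mul_comm]⟩
  -- F3
  have F3 : ∀ n, ∀ z ∈ Ideal.map φ (a n), ∀ x ∈ c, ∃ w ∈ a n, φ w = φ x * z := by
    intro n z hz
    refine Submodule.span_induction ?_ ?_ ?_ ?_ hz
    · rintro _ ⟨y, hy, rfl⟩ x hx
      exact ⟨x * y, Ideal.mul_mem_left _ _ hy, map_mul _ _ _⟩
    · intro x hx
      exact ⟨0, zero_mem _, by rw [map_zero, mul_zero]⟩
    · intro z z' _ _ ih ih' x hx
      obtain ⟨w, hw, e⟩ := ih x hx
      obtain ⟨w', hw', e'⟩ := ih' x hx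
      exact ⟨w + w', add_mem hw hw', by rw [map_add, e, e', mul_add]⟩
    · intro r z _ ih x hx
      obtain ⟨s', hs', e⟩ := F1 x hx r
      obtain ⟨w, hw, e'⟩ := ih s' hs'
      exact ⟨w, hw, by rw [e', e, smul_eq_mul, mul_assoc]⟩
  let K : Ideal S := Ideal.comap φ (Ideal.map φ (a N₀))
  have hJ : ∀ n, N₀ ≤ n → Ideal.map φ (a n) = Ideal.map φ (a N₀) := fun n hn => (hN₀ n hn).symm
  have haK : ∀ n, N₀ ≤ n → a n ≤ K := by
    intro n hn y hy
    show φ y ∈ Ideal.map φ (a N₀)
    rw [← hJ n hn]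
    exact Ideal.mem_map_of_mem φ hy
  have hcK : ∀ n, N₀ ≤ n → c * K ≤ a n := by
    intro n hn
    rw [Ideal.mul_le]
    intro x hx t ht
    have ht' : φ t ∈ Ideal.map φ (a n) := by rw [hJ n hn]; exact ht
    obtain ⟨w, hw, e⟩ := F3 n (φ t) ht' x hx
    have : x * t = w := hφ (by rw [map_mul, e])
    rw [this]
    exact hw
  have hKfin : Module.Finite S K := by
    let ψ : K →ₗ[S] ↥(Ideal.map φ (a N₀)) :=
      { toFun := fun t => ⟨φ t.1, t.2⟩
        map_add' := fun t t' => Subtype.ext (map_add φ t.1 t'.1)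
        map_smul' := fun s t => Subtype.ext (by
          show φ (s * t.1) = s • φ t.1
          rw [map_mul, Algebra.smul_def]) }
    have hψ : Function.Bijective ψ := by
      constructor
      · intro t t' h
        exact Subtype.ext (hφ (congrArg Subtype.val h))
      · rintro ⟨z, hz⟩
        obtain ⟨t, -, rfl⟩ := F2 N₀ z hz
        exact ⟨⟨t, hz⟩, rfl⟩
    have h1 : Module.Finite R ↥(Ideal.map φ (a N₀)) := inferInstance
    have h2 : Module.Finite S ↥(Ideal.map φ (a N₀)) := Module.Finite.trans R _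
    exact Module.Finite.equiv (LinearEquiv.ofBijective ψ hψ).symm
  -- the quotient K / cK as a Noetherian (S/c)-module
  have hQfin : Module.Finite (S ⧸ c) (↥K ⧸ (c • ⊤ : Submodule S ↥K)) :=
    Module.Finite.of_restrictScalars_finite S (S ⧸ c) _
  have hQN : IsNoetherian (S ⧸ c) (↥K ⧸ (c • ⊤ : Submodule S ↥K)) :=
    isNoetherian_of_isNoetherianRing_of_finite (S ⧸ c) _
  -- the chain in the quotient
  let B : ℕ → Submodule S ↥K := fun n => Submodule.comap (Submodule.subtype K) (a (n + N₀))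
  let C : ℕ →o Submodule (S ⧸ c) (↥K ⧸ (c • ⊤ : Submodule S ↥K)) :=
    ⟨fun n =>
      { carrier := (B n).map (Submodule.mkQ (c • ⊤ : Submodule S ↥K))
        add_mem' := fun h h' => add_mem h h'
        zero_mem' := zero_mem _
        smul_mem' := fun r q hq => by
          obtain ⟨s, rfl⟩ := Ideal.Quotient.mk_surjective r
          have : (Ideal.Quotient.mk c s) • q = s • q := rfl
          rw [this]
          exact Submodule.smul_mem _ s hq },
     fun m n h q hq => by
      obtain ⟨t, ht, rfl⟩ := hq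
      exact ⟨t, a.monotone (Nat.add_le_add_right h N₀) ht, rfl⟩⟩
  obtain ⟨N₁, hN₁⟩ := monotone_stabilizes_iff_noetherian.mpr hQN C
  refine ⟨N₁ + N₀, fun n hn => le_antisymm ?_ (a.monotone hn)⟩
  intro y hy
  have hN₀n : N₀ ≤ n := le_trans (Nat.le_add_left _ _) hn
  obtain ⟨m, rfl⟩ : ∃ m, n = m + N₀ := ⟨n - N₀, (Nat.sub_add_cancel hN₀n).symm⟩
  have hm : N₁ ≤ m := by omega
  have hyK : y ∈ K := haK _ hN₀n hy
  have hmem : Submodule.mkQ (c • ⊤ : Submodule S ↥K) ⟨y, hyK⟩ ∈ C m := ⟨⟨y, hyK⟩, hy, rfl⟩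
  rw [← hN₁ m hm] at hmem
  obtain ⟨t, ht, hte⟩ := hmem
  have hdiff : (⟨y, hyK⟩ - t : ↥K) ∈ (c • ⊤ : Submodule S ↥K) := by
    rw [← Submodule.Quotient.mk_eq_zero, Submodule.Quotient.mk_sub]
    exact sub_eq_zero.mpr hte.symm
  have hdiff' : y - t.1 ∈ c * K := by
    have := Submodule.mem_map_of_mem (f := Submodule.subtype K) hdiff
    rw [Submodule.map_smul'', Submodule.map_top, Submodule.range_subtype] at this
    exact this
  have h1 : y - t.1 ∈ a (N₁ + N₀) := hcK _ (Nat.le_add_left _ _) hdiff'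
  have h2 : t.1 ∈ a (N₁ + N₀) := ht
  have := add_mem h1 h2
  rwa [sub_add_cancel] at this

end Aux

/-- Let S → R be an injective homomorphism of commutative rings making R a finite S-module, with R
Noetherian; let c be the conductor of S in R, the ideal of those s in S with s R contained in (the
image of) S. If S/c is Noetherian, then every increasing sequence of ideals of S contained in c is
eventually constant. -/
theorem result (S R : Type u) [CommRing S] [CommRing R] [Algebra S R]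
    [FaithfulSMul S R] [IsNoetherianRing R] [Module.Finite S R] (c : Ideal S)
    (hc : ∀ s : S, s ∈ c ↔ ∀ r : R, ∃ s' : S, algebraMap S R s' = algebraMap S R s * r)
    [IsNoetherianRing (S ⧸ c)] (a : ℕ →o Ideal S) (ha : ∀ n, a n ≤ c) :
    ∃ N : ℕ, ∀ n, N ≤ n → a n = a N := by
  exact Aux.main S R c hc a ha

end Groth.Agent.S4731
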