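import Groth.Statements.S4732
import Mathlib

set_option autoImplicit false
universe u
open EGA4

namespace Groth.Agent.S4732

open AlgebraicGeometry CategoryTheory in
/-- Let k be a field, X a scheme locally of finite type over k and x a point of X. Then there are an
open neighbourhood U of x, a k-scheme Y all of whose local rings are regular, and an immersion U → Y
compatible with the structure morphisms to Spec k. -/
theorem result (k : Type u) [Field k] {X : Scheme.{u}}
    (f : X ⟶ Spec (CommRingCat.of k)) [LocallyOfFiniteType f] (x : X) :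
    ∃ (U : X.Opens) (_ : x ∈ U) (Y : Scheme.{u}) (g : Y ⟶ Spec (CommRingCat.of k)) (i : (U : Scheme.{u}) ⟶ Y),
      IsImmersion i ∧ i ≫ g = U.ι ≫ f ∧ ∀ y : Y, IsRegularLocalRing (Y.presheaf.stalk y) := by
  classical
  obtain ⟨U, hU, hxU, -⟩ :=
    exists_isAffineOpen_mem_and_subset (X := X) (U := ⊤) (x := x) (by simp)
  haveI : IsAffine (U : Scheme.{u}) := hU
  let h : (U : Scheme.{u}) ⟶ Spec (CommRingCat.of k) := U.ι ≫ f
  haveI : LocallyOfFiniteType h := inferInstance
  have hft : (h.appTop).hom.FiniteType :=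
    (HasRingHomProperty.iff_of_isAffine (P := @LocallyOfFiniteType) (f := h)).mp inferInstance
  let ψ : CommRingCat.of k ⟶ Γ((U : Scheme.{u}), ⊤) :=
    (Scheme.ΓSpecIso (CommRingCat.of k)).inv ≫ h.appTop
  have hψ : ψ.hom.FiniteType := by
    have h1 : ((Scheme.ΓSpecIso (CommRingCat.of k)).inv).hom.FiniteType :=
      RingHom.FiniteType.of_surjective _
        ((ConcreteCategory.bijective_of_isIso (Scheme.ΓSpecIso (CommRingCat.of k)).inv).2)
    exact hft.comp h1
  letI : Algebra k Γ((U : Scheme.{u}), ⊤) := ψ.hom.toAlgebra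
  haveI : Algebra.FiniteType k Γ((U : Scheme.{u}), ⊤) := hψ
  obtain ⟨n, π, hπ⟩ := Algebra.FiniteType.iff_quotient_mvPolynomial''.mp
    (inferInstance : Algebra.FiniteType k Γ((U : Scheme.{u}), ⊤))
  let P := MvPolynomial (Fin n) k
  let Y : Scheme.{u} := Spec (CommRingCat.of P)
  let g : Y ⟶ Spec (CommRingCat.of k) := Spec.map (CommRingCat.ofHom (algebraMap k P))
  let πc : CommRingCat.of P ⟶ Γ((U : Scheme.{u}), ⊤) := CommRingCat.ofHom π.toRingHom
  haveI : IsClosedImmersion (Spec.map πc) := IsClosedImmersion.spec_of_surjective πc hπ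
  let i : (U : Scheme.{u}) ⟶ Y := (U : Scheme.{u}).isoSpec.hom ≫ Spec.map πc
  refine ⟨U, hxU, Y, g, i, inferInstance, ?_, ?_⟩
  · have h1 : CommRingCat.ofHom (algebraMap k P) ≫ πc = ψ := by
      ext a
      exact π.commutes a
    change ((U : Scheme.{u}).isoSpec.hom ≫ Spec.map πc) ≫
      Spec.map (CommRingCat.ofHom (algebraMap k P)) = h
    rw [Category.assoc, ← Spec.map_comp, h1]
    have h2 := Scheme.isoSpec_hom_naturality h
    rw [Scheme.isoSpec_Spec_hom] at h2
    change (U : Scheme.{u}).isoSpec.hom ≫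
      Spec.map ((Scheme.ΓSpecIso (CommRingCat.of k)).inv ≫ h.appTop) = h
    rw [Spec.map_comp, ← Category.assoc, h2, Category.assoc, ← Spec.map_comp,
      Iso.inv_hom_id, Spec.map_id, Category.comp_id]
  · intro y
    haveI : IsRegularRing (MvPolynomial (Fin n) k) := inferInstance
    let y' : PrimeSpectrum (MvPolynomial (Fin n) k) := y
    haveI : IsRegularLocalRing (Localization.AtPrime y'.asIdeal) := inferInstance
    letI := AlgebraicGeometry.StructureSheaf.stalkAlgebra (R := MvPolynomial (Fin n) k) y'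
    haveI := AlgebraicGeometry.StructureSheaf.IsLocalization.to_stalk
      (R := MvPolynomial (Fin n) k) y'
    exact IsRegularLocalRing.of_ringEquiv
      (IsLocalization.algEquiv y'.asIdeal.primeCompl (Localization.AtPrime y'.asIdeal)
        ((AlgebraicGeometry.Spec.structureSheaf (MvPolynomial (Fin n) k)).presheaf.stalk y')).toRingEquiv

end Groth.Agent.S4732
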