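import Groth.Statements.S4737
import Groth.Agent.Lib.Helper8.CplQuot2

set_option autoImplicit false
universe u
open EGA4

namespace Groth.Agent.S4737

/-- The property 'geometrically regular', case of a local ring: let A be a Noetherian local ring whose
completion map A → Â is regular (the formal fibres of A are geometrically regular). Then for every
proper ideal I of A, the completion map of the local ring A/I is regular. -/
theorem result (A : Type u) [CommRing A] [IsNoetherianRing A] [IsLocalRing A]
    (hA : CAlg.IsRegularHom A (EGA4.Cpl A)) (I : Ideal A) [Nontrivial (A ⧸ I)] :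
    CAlg.IsRegularHom (A ⧸ I) (EGA4.Cpl (A ⧸ I)) := by
  haveI : IsNoetherianRing (EGA4.Cpl (A ⧸ I)) :=
    Groth.Agent.Helper8.AdicReg.isNoetherianRing (A ⧸ I) _
  refine ⟨inferInstance, fun q _ => ⟨?_, ?_⟩⟩
  · exact Groth.Agent.Helper8.Fib.isNoetherianRing_fiber (S := EGA4.Cpl (A ⧸ I)) q
  · intro K _ _ hfin
    obtain ⟨i, h1, -, ⟨e⟩⟩ := Groth.Agent.Helper8.CplQuot.exists_formalFibre_equiv A I q K
    haveI := h1 hfin
    haveI : IsRegularRing (TensorProduct (q.under A).ResidueField K
        ((q.under A).Fiber (EGA4.Cpl A))) :=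
      (hA.2 (q.under A)).2 K (h1 hfin)
    exact IsRegularRing.of_ringEquiv
      (R := TensorProduct (q.under A).ResidueField K ((q.under A).Fiber (EGA4.Cpl A))) e.symm

end Groth.Agent.S4737
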