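import Groth.Statements.S4738
import Groth.Agent.Lib.Helper8.CplQuot2

set_option autoImplicit false
universe u
open EGA4

namespace Groth.Agent.S4738

/-- For the property 'geometrically reduced', case of a local ring: if the formal fibres of a Noetherian
local ring A are geometrically reduced, then so are the formal fibres of A/I for every proper ideal
I of A. -/
theorem result (A : Type u) [CommRing A] [IsNoetherianRing A] [IsLocalRing A]
    (hA : EGA4.HasGeomReducedFormalFibres A) (I : Ideal A) [Nontrivial (A ⧸ I)] :
    EGA4.HasGeomReducedFormalFibres (A ⧸ I) := by
  intro q _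
  rw [Algebra.isGeometricallyReduced_field_iff]
  obtain ⟨i, -, h2, ⟨e⟩⟩ := Groth.Agent.Helper8.CplQuot.exists_formalFibre_equiv A I q
    (AlgebraicClosure q.ResidueField)
  haveI := h2 inferInstance
  haveI := hA (q.under A)
  haveI : IsReduced (TensorProduct (q.under A).ResidueField (AlgebraicClosure q.ResidueField)
      (EGA4.formalFibre A (q.under A))) := inferInstance
  exact isReduced_of_injective e e.injective

end Groth.Agent.S4738
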