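import Groth.Statements.S4752
import Groth.Agent.Lib.Helper8.CompFib2

set_option autoImplicit false
universe u
open EGA4

namespace Groth.Agent.S4752

/-- Case of reduced morphisms, affine form: let A → B → C be homomorphisms of Noetherian rings, both
flat and with geometrically reduced fibres. Then the composite A → C is flat with geometrically
reduced fibres. -/
theorem result (A B C : Type u) [CommRing A] [CommRing B] [CommRing C] [IsNoetherianRing A]
    [IsNoetherianRing B] [IsNoetherianRing C] [Algebra A B] [Algebra B C] [Algebra A C] [IsScalarTower A B C]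
    [Module.Flat A B] [Module.Flat B C]
    (hAB : ∀ (p : Ideal A) [p.IsPrime], Algebra.IsGeometricallyReduced p.ResidueField (p.Fiber B))
    (hBC : ∀ (q : Ideal B) [q.IsPrime], Algebra.IsGeometricallyReduced q.ResidueField (q.Fiber C)) :
    Module.Flat A C ∧ ∀ (p : Ideal A) [p.IsPrime], Algebra.IsGeometricallyReduced p.ResidueField (p.Fiber C) := by
  refine ⟨Module.Flat.trans A B C, fun p _ => ?_⟩
  apply Groth.Agent.Helper8.CompFib.isGeometricallyReduced_of_forall_finite
  intro K _ _ hfin
  haveI := hfin
  haveI := Groth.Agent.Helper8.Fib.isNoetherianRing_fiber (S := B) p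
  haveI := Groth.Agent.Helper8.Fib.isNoetherianRing_fiber (S := C) p
  haveI := hAB p
  exact Groth.Agent.Helper8.CompFib.isReduced_fibre_comp A B C p K
    (Groth.Agent.Helper8.CompFib.isReduced_tensor_of_isGeometricallyReduced _ _ K)
    (fun q _ => hBC q)

end Groth.Agent.S4752
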