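import Groth.Statements.S4754
import Groth.Agent.Lib.Helper8.CplQuot2

set_option autoImplicit false
universe u
open EGA4

namespace Groth.Agent.S4754

/-- For the property 'geometrically normal', case of a local ring: if the formal fibres of a Noetherian
local ring A are geometrically normal, then so are the formal fibres of A/I for every proper ideal I
of A. -/
theorem result (A : Type u) [CommRing A] [IsNoetherianRing A] [IsLocalRing A]
    (hA : EGA4.HasGeomNormalFormalFibres A) (I : Ideal A) [Nontrivial (A ⧸ I)] :
    EGA4.HasGeomNormalFormalFibres (A ⧸ I) := by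
  intro q _ K _ _ hfin
  obtain ⟨i, h1, -, ⟨e⟩⟩ := Groth.Agent.Helper8.CplQuot.exists_formalFibre_equiv A I q K
  exact Groth.Agent.Helper8.Cpl.isNormalRing_of_ringEquiv e.symm
    (hA (q.under A) K (h1 hfin))

end Groth.Agent.S4754
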