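import Groth.Statements.S4756
import Groth.Agent.Lib.Helper8.LocHom1
import Groth.Agent.Lib.Helper8.Fib5
import Groth.Agent.Lib.Helper8.Cpl2

set_option autoImplicit false
universe u
open EGA4

namespace Groth.Agent.S4756

/-- Let A → B be a normal homomorphism of Noetherian rings (flat, with geometrically normal fibres) and
S a multiplicative subset of A. Then the induced homomorphism S⁻¹A → S⁻¹B (arbitrary localizations
at S and at its image) is normal. -/
theorem result (A B : Type u) [CommRing A] [CommRing B] [IsNoetherianRing A] [IsNoetherianRing B]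
    [Algebra A B] (h : EGA4.IsNormalHom A B) (S : Submonoid A)
    (A' B' : Type u) [CommRing A'] [CommRing B'] [Algebra A A'] [Algebra B B'] [Algebra A' B'] [Algebra A B']
    [IsScalarTower A A' B'] [IsScalarTower A B B'] [IsLocalization S A']
    [IsLocalization (Algebra.algebraMapSubmonoid B S) B'] :
    EGA4.IsNormalHom A' B' := by
  haveI hpo : Algebra.IsPushout A A' B B' :=
    (Algebra.isPushout_of_isLocalization S A' B B').symm
  haveI : Module.Flat A B := h.1
  refine ⟨Module.Flat.isBaseChange A A' B B' hpo.out, fun p' _ => ?_⟩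
  intro K _ _ hfin
  obtain ⟨i, h1, -, ⟨e⟩⟩ := Groth.Agent.Helper8.LocHom.exists_fibre_equiv A B S A' B' p' K
  exact Groth.Agent.Helper8.Cpl.isNormalRing_of_ringEquiv e.symm
    (h.2 (p'.under A) K (h1 hfin))

end Groth.Agent.S4756
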