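import Groth.Statements.S4767
-- import your own Groth.Agent.* helpers here
import Groth.Agent.Lib.Helper7.LimTopo

set_option autoImplicit false
universe u
open CategoryTheory AlgebraicGeometry
open Lim8

namespace Groth.Agent.S4767

/-- Let S = lim S_i be a cofiltered limit of schemes with affine transition maps, some stage S_{i₀}
being quasi-compact and quasi-separated, and assume that the underlying topological space of S is
Noetherian. If S is not irreducible, then there is an index i over i₀ such that S_j is not
irreducible for every index j over i. -/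
theorem result {I : Type u} [SmallCategory I] [IsCofiltered I]
    (D : I ⥤ Scheme.{u}) (c : Limits.Cone D) (hc : Limits.IsLimit c)
    [∀ (i j : I) (f : i ⟶ j), IsAffineHom (D.map f)] (i₀ : I)
    [CompactSpace (D.obj i₀)] [QuasiSeparatedSpace (D.obj i₀)]
    [TopologicalSpace.NoetherianSpace c.pt] (h : ¬ IrreducibleSpace c.pt) :
    ∃ (i : I) (_ : i ⟶ i₀), ∀ (j : I) (_ : j ⟶ i), ¬ IrreducibleSpace (D.obj j) := by
  have hD : ∀ {i j : I} (f : i ⟶ j), IsAffineHom (D.map f) := fun f => inferInstance
  exact Groth.Agent.Helper7.LimTopo.eventually_over hc i₀ (fun X => ¬ IrreducibleSpace X)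
    (fun {J} _ _ {E} {d} hd _ _ _ hpt => by
      have hN : TopologicalSpace.NoetherianSpace d.pt := by rw [hpt]; infer_instance
      exact Groth.Agent.Helper7.LimTopo.eventually_not_irreducibleSpace hd (by rw [hpt]; exact h))

end Groth.Agent.S4767
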