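import Groth.Statements.S4806
import Groth.Agent.Lib.Helper4.FiberUnram

set_option autoImplicit false
set_option backward.isDefEq.respectTransparency.types false
set_option synthInstance.maxHeartbeats 400000
set_option linter.unusedSimpArgs false
set_option linter.style.haveILetI false
universe u
open CategoryTheory AlgebraicGeometry
open Lim8

open Groth.Agent.Lib.Helper4.FiberUnram CategoryTheory.Limits
namespace Groth.Agent.S4806

/-- Let f : X ⟶ Y be a proper morphism of finite presentation. Then f is a closed immersion if and only
if, for every point y of Y, the scheme-theoretic fibre of f at y is empty or its structure morphism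
to Spec κ(y) is an isomorphism. -/
theorem result {X Y : Scheme.{u}} (f : X ⟶ Y) [IsProper f]
    [LocallyOfFinitePresentation f] :
    IsClosedImmersion f ↔ ∀ y : Y, IsEmpty (f.fiber y) ∨ IsIso (f.fiberToSpecResidueField y) := by
  constructor
  · intro hf y
    by_cases he : IsEmpty (f.fiber y)
    · exact Or.inl he
    · right
      rw [not_isEmpty_iff] at he
      have h1 : IsClosedImmersion (f.fiberToSpecResidueField y) :=
        inferInstanceAs (IsClosedImmersion (pullback.snd f (Y.fromSpecResidueField y)))
      apply IsClosedImmersion.isIso_of_injective_of_isAffine
      have hF : IsField Γ(Spec (Y.residueField y), ⊤) :=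
        MulEquiv.isField (Field.toIsField (Y.residueField y))
          (Scheme.ΓSpecIso (Y.residueField y)).commRingCatIsoToRingEquiv.toMulEquiv
      letI := hF.toField
      have : Nonempty ((⊤ : (f.fiber y).Opens)) := ⟨⟨he.some, trivial⟩⟩
      have : Nontrivial Γ(f.fiber y, ⊤) := Scheme.component_nontrivial _ _
      exact RingHom.injective _
  · intro h
    rw [IsClosedImmersion.iff_isProper_and_mono]
    refine ⟨inferInstance, (S3042_main X Y f).mpr fun y => ?_⟩
    rcases h y with h | h
    · have : IsOpenImmersion (f.fiberToSpecResidueField y) := inferInstance
      infer_instance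
    · infer_instance

end Groth.Agent.S4806
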