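import Groth.Statements.S4813
import Mathlib
import Groth.Agent.Lib.Lead.LimZ6

set_option autoImplicit false
universe u
open CategoryTheory AlgebraicGeometry
open Lim8

namespace Groth.Agent.S4813

section
open CategoryTheory AlgebraicGeometry

open Groth.Agent.Lead.LimZ CategoryTheory.Limits

/-- factorizations transfer along natural isomorphisms -/
theorem factors_of_natIso {C₁ C₂ : Type*} [Category C₁] [Category C₂] {P Q : C₁ ⥤ C₂} (α : P ≅ Q)
    {F G₁ G₂ : C₁} (p₁ : F ⟶ G₁) (p₂ : F ⟶ G₂)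
    (h : ∃ k : P.obj G₁ ⟶ P.obj G₂, P.map p₁ ≫ k = P.map p₂) :
    ∃ k : Q.obj G₁ ⟶ Q.obj G₂, Q.map p₁ ≫ k = Q.map p₂ := by
  obtain ⟨k, hk⟩ := h
  refine ⟨α.inv.app G₁ ≫ k ≫ α.hom.app G₂, ?_⟩
  have n1 := α.inv.naturality p₁
  have n2 := α.hom.naturality p₂
  rw [← Category.assoc, n1, Category.assoc, ← Category.assoc (P.map p₁), hk, n2,
    ← Category.assoc, Iso.inv_hom_id_app, Category.id_comp]

/-- a functor preserving cokernels lets a morphism killing the image of the kernel of an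
epimorphism factor through the image of the epimorphism -/
theorem factors_of_kernel_map_comp_eq_zero {C₁ C₂ : Type*} [Category C₁] [Category C₂] [Abelian C₁]
    [Abelian C₂] (P : C₁ ⥤ C₂) [P.PreservesZeroMorphisms]
    [PreservesFiniteColimits P] {F G₁ G₂ : C₁} (p₁ : F ⟶ G₁) [Epi p₁] (p₂ : F ⟶ G₂)
    (h0 : P.map (kernel.ι p₁ ≫ p₂) = 0) :
    ∃ k : P.obj G₁ ⟶ P.obj G₂, P.map p₁ ≫ k = P.map p₂ := by
  have h1 : IsColimit (CokernelCofork.ofπ p₁ (kernel.condition p₁)) :=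
    Abelian.epiIsCokernelOfKernel (Fork.ofι (kernel.ι p₁) (by rw [kernel.condition, comp_zero]))
      (kernelIsKernel p₁)
  have h2 := CokernelCofork.mapIsColimit _ h1 P
  have w : P.map (kernel.ι p₁) ≫ P.map p₂ = 0 := by rw [← Functor.map_comp, h0]
  exact ⟨h2.desc (CokernelCofork.ofπ (P.map p₂) w),
    h2.fac (CokernelCofork.ofπ (P.map p₂) w) WalkingParallelPair.one⟩

theorem main {I : Type u} [SmallCategory I] [IsCofiltered I]
    (D : I ⥤ Scheme.{u}) (c : Limits.Cone D) (hc : Limits.IsLimit c)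
    [∀ (i j : I) (f : i ⟶ j), IsAffineHom (D.map f)] (i₀ : I) [CompactSpace (D.obj i₀)]
    {F₀ G₁ G₂ : (D.obj i₀).Modules} [Coh.IsQCoh F₀] [Coh.IsQCoh G₁] [Coh.IsQCoh G₂]
    (hF₀ : CohB1.IsFT F₀) (hG₁ : CohB1.IsFP G₁) (p₁ : F₀ ⟶ G₁) (p₂ : F₀ ⟶ G₂) [Epi p₁] [Epi p₂] :
    (∃ k : (Scheme.Modules.pullback (c.π.app i₀)).obj G₁ ⟶ (Scheme.Modules.pullback (c.π.app i₀)).obj G₂, (Scheme.Modules.pullback (c.π.app i₀)).map p₁ ≫ k = (Scheme.Modules.pullback (c.π.app i₀)).map p₂) ↔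
      ∃ (j : I) (φ : j ⟶ i₀) (k : (Scheme.Modules.pullback (D.map φ)).obj G₁ ⟶ (Scheme.Modules.pullback (D.map φ)).obj G₂),
        (Scheme.Modules.pullback (D.map φ)).map p₁ ≫ k = (Scheme.Modules.pullback (D.map φ)).map p₂ := by
  haveI : F₀.IsQuasicoherent := ‹Coh.IsQCoh F₀›
  haveI : G₁.IsQuasicoherent := ‹Coh.IsQCoh G₁›
  haveI : G₂.IsQuasicoherent := ‹Coh.IsQCoh G₂›
  constructor
  · rintro ⟨k, hk⟩
    haveI : (kernel p₁).IsQuasicoherent := Groth.Agent.Helper1.QcAbel.isQuasicoherent_kernel p₁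
    have hK : CohB1.IsFT (kernel p₁) := isFT_kernel_of_epi hF₀ hG₁ p₁
    have h0 : (Scheme.Modules.pullback (c.π.app i₀)).map (kernel.ι p₁ ≫ p₂) = 0 := by
      rw [Functor.map_comp, ← hk, ← Category.assoc, ← Functor.map_comp, kernel.condition,
        Functor.map_zero, zero_comp]
    obtain ⟨j, φ, hj⟩ := exists_pullback_map_eq_zero D c hc i₀ (kernel.ι p₁ ≫ p₂) hK h0
    exact ⟨j, φ, factors_of_kernel_map_comp_eq_zero _ p₁ p₂ hj⟩
  · rintro ⟨j, φ, k, hk⟩
    apply factors_of_natIso (compIso (c.π.app j) (D.map φ) (c.π.app i₀) (c.w φ)) p₁ p₂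
    refine ⟨(Scheme.Modules.pullback (c.π.app j)).map k, ?_⟩
    change (Scheme.Modules.pullback (c.π.app j)).map ((Scheme.Modules.pullback (D.map φ)).map p₁) ≫ _
      = (Scheme.Modules.pullback (c.π.app j)).map ((Scheme.Modules.pullback (D.map φ)).map p₂)
    rw [← Functor.map_comp, hk]


end


/-- Let S = lim S_i be a cofiltered limit of schemes with affine transition maps and S_{i₀} a
quasi-compact stage; let F₀ be a quasi-coherent O-module of finite type on S_{i₀} and p₁ : F₀ ⟶ G₁,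
p₂ : F₀ ⟶ G₂ two surjective homomorphisms onto quasi-coherent O-modules, G₁ being of finite
presentation. Then, on S, the pullback of p₂ factors through the pullback of p₁ (the quotient G₂
becomes a quotient of G₁ after pullback to S) if and only if, for some index j over i₀, the pullback
of p₂ to S_j factors through the pullback of p₁ to S_j. -/
theorem result {I : Type u} [SmallCategory I] [IsCofiltered I]
    (D : I ⥤ Scheme.{u}) (c : Limits.Cone D) (hc : Limits.IsLimit c)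
    [∀ (i j : I) (f : i ⟶ j), IsAffineHom (D.map f)] (i₀ : I) [CompactSpace (D.obj i₀)]
    {F₀ G₁ G₂ : (D.obj i₀).Modules} [Coh.IsQCoh F₀] [Coh.IsQCoh G₁] [Coh.IsQCoh G₂]
    (hF₀ : CohB1.IsFT F₀) (hG₁ : CohB1.IsFP G₁) (p₁ : F₀ ⟶ G₁) (p₂ : F₀ ⟶ G₂) [Epi p₁] [Epi p₂] :
    (∃ k : (Scheme.Modules.pullback (c.π.app i₀)).obj G₁ ⟶ (Scheme.Modules.pullback (c.π.app i₀)).obj G₂, (Scheme.Modules.pullback (c.π.app i₀)).map p₁ ≫ k = (Scheme.Modules.pullback (c.π.app i₀)).map p₂) ↔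
      ∃ (j : I) (φ : j ⟶ i₀) (k : (Scheme.Modules.pullback (D.map φ)).obj G₁ ⟶ (Scheme.Modules.pullback (D.map φ)).obj G₂),
        (Scheme.Modules.pullback (D.map φ)).map p₁ ≫ k = (Scheme.Modules.pullback (D.map φ)).map p₂ := by
  classical
  exact main D c hc i₀ hF₀ hG₁ p₁ p₂

end Groth.Agent.S4813
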