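import Groth.Statements.S4821
import Mathlib

set_option autoImplicit false
universe u
open Cons9

namespace Groth.Agent.S4821

open MvPolynomial in
theorem generic_unit {A : Type*} [CommRing A] [IsDomain A] {m : ℕ}
    (P : Finset (MvPolynomial (Fin m) A))
    (hη : Ideal.span ((MvPolynomial.map (algebraMap A (FractionRing A))) '' (P : Set (MvPolynomial (Fin m) A))) = ⊤) :
    ∃ f : A, f ≠ 0 ∧ ∀ p : PrimeSpectrum A, f ∉ p.asIdeal →
      Ideal.span ((MvPolynomial.map (algebraMap A p.asIdeal.ResidueField)) '' (P : Set (MvPolynomial (Fin m) A))) = ⊤ := by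
  classical
  let _ := algebraMvPolynomial (σ := Fin m) (R := A) (S := FractionRing A)
  have hinj : Function.Injective (MvPolynomial.map (σ := Fin m) (algebraMap A (FractionRing A))) :=
    map_injective _ (IsFractionRing.injective A (FractionRing A))
  have h1 : (1 : MvPolynomial (Fin m) (FractionRing A)) ∈
      Ideal.span ((MvPolynomial.map (algebraMap A (FractionRing A))) '' (P : Set (MvPolynomial (Fin m) A))) := by
    rw [hη]; trivial
  rw [← Finset.coe_image, Ideal.span, Submodule.mem_span_finset] at h1
  obtain ⟨c, -, hc⟩ := h1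
  rw [Finset.sum_image (fun x _ y _ h => hinj h)] at hc
  obtain ⟨b, hb⟩ := IsLocalization.exist_integer_multiples
    (M := (nonZeroDivisors A).map (C (σ := Fin m))) (S := MvPolynomial (Fin m) (FractionRing A)) P
    (fun x => c (MvPolynomial.map (algebraMap A (FractionRing A)) x))
  obtain ⟨b, hbM⟩ := b
  obtain ⟨f, hf, rfl⟩ := hbM
  choose! q hq using hb
  refine ⟨f, nonZeroDivisors.ne_zero hf, fun p hfp => ?_⟩
  have key : ∑ x ∈ P, q x * x = C f := by
    apply hinj
    rw [map_sum, map_C]
    have : ∀ x ∈ P, MvPolynomial.map (algebraMap A (FractionRing A)) (q x * x) =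
        C (algebraMap A (FractionRing A) f) *
          (c (MvPolynomial.map (algebraMap A (FractionRing A)) x) • MvPolynomial.map (algebraMap A (FractionRing A)) x) := by
      intro x hx
      have h2 := hq x hx
      rw [algebraMap_def] at h2
      rw [map_mul, h2, smul_eq_mul, Algebra.smul_def, algebraMap_def]
      simp only [map_C]
      ring
    rw [Finset.sum_congr rfl this, ← Finset.mul_sum, hc, mul_one]
  have key2 := congrArg (MvPolynomial.map (algebraMap A p.asIdeal.ResidueField)) key
  rw [map_sum, map_C] at key2
  apply Ideal.eq_top_of_isUnit_mem (x := C (algebraMap A p.asIdeal.ResidueField f))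
  · rw [← key2]
    apply Ideal.sum_mem
    intro x hx
    rw [map_mul]
    apply Ideal.mul_mem_left
    exact Ideal.subset_span ⟨x, hx, rfl⟩
  · apply IsUnit.map
    rw [isUnit_iff_ne_zero]
    intro h0
    apply hfp
    rwa [Ideal.algebraMap_residueField_eq_zero] at h0

/-- Let A be an integral domain with fraction field K, and (P_i) a finite family of polynomials in
A[T_1, …, T_m], generating an ideal 𝔞; for a point s of Spec A write 𝔞_s for the ideal of κ(s)[T_1,
…, T_m] generated by the images of the P_i. If the zero locus of 𝔞_η in affine m-space over K = κ(η)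
is empty, that is if 𝔞_η is the unit ideal, then there is an open neighbourhood D(f) (f ≠ 0) of the
generic point such that 𝔞_s is the unit ideal (its zero locus is empty) for every s in D(f). -/
theorem result {A : Type u} [CommRing A] [IsDomain A] {m : ℕ}
    (P : Finset (MvPolynomial (Fin m) A))
    (hη : Ideal.span ((MvPolynomial.map (algebraMap A (FractionRing A))) '' (P : Set (MvPolynomial (Fin m) A))) = ⊤) :
    ∃ f : A, f ≠ 0 ∧ ∀ p : PrimeSpectrum A, f ∉ p.asIdeal →
      Ideal.span ((MvPolynomial.map (algebraMap A p.asIdeal.ResidueField)) '' (P : Set (MvPolynomial (Fin m) A))) = ⊤ := by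
  exact generic_unit P hη

end Groth.Agent.S4821
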