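import Groth.Statements.S4834
import Mathlib
import Groth.Agent.Lib.Helper4.ColimHom1

set_option autoImplicit false
open CategoryTheory CategoryTheory.Limits
universe u
open Lim8

namespace Groth.Agent.S4834

open CategoryTheory CategoryTheory.Limits


theorem post_injective {A : Type u} [CommRing A] (M : ModuleCat.{u} A)
    [Module.Finite A M] {J : Type u} [SmallCategory J] [IsFiltered J]
    (N : J ⥤ ModuleCat.{u} A) :
    Function.Injective (colimit.post N (coyoneda.obj (Opposite.op M))) := by
  intro x y hxy
  obtain ⟨i, φ, rfl⟩ := Types.jointly_surjective' x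
  obtain ⟨j, ψ, rfl⟩ := Types.jointly_surjective' y
  have hpost : ∀ (i : J) (φ : M ⟶ N.obj i),
      colimit.post N (coyoneda.obj (Opposite.op M)) (colimit.ι (N ⋙ coyoneda.obj (Opposite.op M)) i φ)
        = φ ≫ colimit.ι N i := by
    intro i φ
    have := ConcreteCategory.congr_hom (colimit.ι_post N (coyoneda.obj (Opposite.op M)) i) φ
    exact this
  rw [hpost, hpost] at hxy
  let k := IsFiltered.max i j
  let f : i ⟶ k := IsFiltered.leftToMax i j
  let g : j ⟶ k := IsFiltered.rightToMax i j
  have h1 : (φ ≫ N.map f) ≫ colimit.ι N k = (ψ ≫ N.map g) ≫ colimit.ι N k := by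
    rw [Category.assoc, Category.assoc, colimit.w, colimit.w, hxy]
  obtain ⟨l, a, ha⟩ := Groth.Agent.Helper4.ColimHom.exists_comp_map_eq N _ _ h1
  have hw : ∀ (i l : J) (b : i ⟶ l) (φ : M ⟶ N.obj i),
      colimit.ι (N ⋙ coyoneda.obj (Opposite.op M)) i φ =
        colimit.ι (N ⋙ coyoneda.obj (Opposite.op M)) l (φ ≫ N.map b) := by
    intro i l b φ
    have := ConcreteCategory.congr_hom (colimit.w (N ⋙ coyoneda.obj (Opposite.op M)) b) φ
    exact this.symm
  rw [hw i l (f ≫ a) φ, hw j l (g ≫ a) ψ, N.map_comp, N.map_comp, ← Category.assoc,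
    ← Category.assoc, ha]

/-- Let A be a commutative ring, M an A-module of finite type and (N_λ) an inductive system of A-modules
indexed by a nonempty directed preordered set. Then the canonical map colim_λ Hom_A(M, N_λ) →
Hom_A(M, colim_λ N_λ), sending a compatible system of homomorphisms to its inductive limit, is
injective. This is the finite type case, in the form its proof gives. -/
theorem result {A : Type u} [CommRing A] (M : ModuleCat.{u} A)
    [Module.Finite A M] {J : Type u} [Preorder J] [IsDirected J (· ≤ ·)] [Nonempty J]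
    (N : J ⥤ ModuleCat.{u} A) :
    Function.Injective (colimit.post N (coyoneda.obj (Opposite.op M))) := by
  exact post_injective M N

end Groth.Agent.S4834
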