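import Groth.Statements.S4847
import Groth.Agent.Lib.Helper6.FlatFib.Noeth
import Groth.Agent.Lib.Helper7.CohStalk.Finite

set_option autoImplicit false
universe u
open EGA43

namespace Groth.Agent.S4847

open AlgebraicGeometry CategoryTheory Limits in
/-- Case 1° (fibrewise flatness criterion for locally Noetherian schemes): let S, X and Y be locally
Noetherian schemes, f : X ⟶ Y and h : Y ⟶ S arbitrary morphisms, F a coherent O_X-module and x a
point of X with images y in Y and s in S, such that the stalk F_x is nonzero. Then F is flat over S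
at x and F_x / m_s F_x is flat over O_{Y,y} / m_s O_{Y,y} (that is, the fibre module F_s is flat
over the fibre Y_s at x) if and only if h is flat at y and F is flat over Y at x. No finiteness
hypothesis on f or h is required in this case. -/
theorem result {X Y S : Scheme.{u}}
    [IsLocallyNoetherian X] [IsLocallyNoetherian Y] [IsLocallyNoetherian S]
    (f : X ⟶ Y) (h : Y ⟶ S) (F : X.Modules) (hF : Coh.IsCoh F) (x : X)
    (hx : Nontrivial ↑(F.presheaf.stalk x)) :
    letI := FlatMod.moduleStalkOver f F x
    (FlatMod.IsFlatOverAt (f ≫ h) F x ∧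
      Module.Flat (↑(Y.presheaf.stalk (f x)) ⧸ Ideal.map (h.stalkMap (f x)).hom (IsLocalRing.maximalIdeal ↑(S.presheaf.stalk (h (f x)))))
        (↑(F.presheaf.stalk x) ⧸ (Ideal.map (h.stalkMap (f x)).hom (IsLocalRing.maximalIdeal ↑(S.presheaf.stalk (h (f x)))) •
          (⊤ : Submodule ↑(Y.presheaf.stalk (f x)) ↑(F.presheaf.stalk x))))) ↔
    ((h.stalkMap (f x)).hom.Flat ∧ FlatMod.IsFlatOverAt f F x) := by
  let instB : Module (Y.presheaf.stalk (f x)) (F.presheaf.stalk x) :=
    FlatMod.moduleStalkOver f F x
  let algBC : Algebra (Y.presheaf.stalk (f x)) (X.presheaf.stalk x) :=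
    (f.stalkMap x).hom.toAlgebra
  let algAB : Algebra (S.presheaf.stalk (h (f x))) (Y.presheaf.stalk (f x)) :=
    (h.stalkMap (f x)).hom.toAlgebra
  let modA : Module (S.presheaf.stalk (h (f x))) (F.presheaf.stalk x) :=
    Module.compHom (F.presheaf.stalk x) ((f.stalkMap x).hom.comp (h.stalkMap (f x)).hom)
  have st1 : IsScalarTower (Y.presheaf.stalk (f x)) (X.presheaf.stalk x) (F.presheaf.stalk x) :=
    IsScalarTower.of_algebraMap_smul fun _ _ => rfl
  have st2 : IsScalarTower (S.presheaf.stalk (h (f x))) (Y.presheaf.stalk (f x))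
      (F.presheaf.stalk x) :=
    IsScalarTower.of_algebraMap_smul fun _ _ => rfl
  have loc1 : IsLocalHom (algebraMap (Y.presheaf.stalk (f x)) (X.presheaf.stalk x)) := by
    show IsLocalHom (f.stalkMap x).hom
    infer_instance
  have loc2 : IsLocalHom (algebraMap (S.presheaf.stalk (h (f x))) (Y.presheaf.stalk (f x))) := by
    show IsLocalHom (h.stalkMap (f x)).hom
    infer_instance
  have hfin : Module.Finite (X.presheaf.stalk x) (F.presheaf.stalk x) :=
    Groth.Agent.Helper7.FinType.stalk_finite_of_isCoh F hF x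
  have key := Groth.Agent.Lib.Helper6.FlatFib.fiber_flat_iff (A := S.presheaf.stalk (h (f x)))
    (B := Y.presheaf.stalk (f x)) (X.presheaf.stalk x) (M := F.presheaf.stalk x)
  have e1 : FlatMod.IsFlatOverAt (f ≫ h) F x ↔
      Module.Flat (S.presheaf.stalk (h (f x))) (F.presheaf.stalk x) := by
    exact Groth.Agent.Lib.Helper6.FlatFib.flat_compHom_congr
      (congrArg CommRingCat.Hom.hom (Scheme.Hom.stalkMap_comp f h x))
  rw [e1]
  exact key

end Groth.Agent.S4847
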