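import Groth.Statements.S4853
import Mathlib
import Groth.Agent.Lib.Helper4.FlatNilp

set_option autoImplicit false
universe u
open TensorProduct
open EGA43

namespace Groth.Agent.S4853

open Groth.Agent.Lib.Helper4.FlatNilp

/-- Let A be a commutative ring and M an A-module such that (A/J) ⊗_A M is free over A/J for some
nilpotent ideal J of A. Then among the ideals R of A such that (A/R) ⊗_A M is free over A/R there is
a least one, R₀, which is also the least ideal R such that (A/R) ⊗_A M is flat over A/R; and for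
every commutative A-algebra A', the module A' ⊗_A M is free over A' if and only if it is flat over
A', if and only if R₀ generates the zero ideal of A'. -/
theorem result {A : Type u} [CommRing A]
    (M : Type u) [AddCommGroup M] [Module A M]
    (J : Ideal A) (hJ : IsNilpotent J) (hfree : Module.Free (A ⧸ J) ((A ⧸ J) ⊗[A] M)) :
    ∃ R₀ : Ideal A,
      IsLeast {R : Ideal A | Module.Free (A ⧸ R) ((A ⧸ R) ⊗[A] M)} R₀ ∧
      IsLeast {R : Ideal A | Module.Flat (A ⧸ R) ((A ⧸ R) ⊗[A] M)} R₀ ∧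
      ∀ (A' : Type u) [CommRing A'] [Algebra A A'],
        (Module.Free A' (A' ⊗[A] M) ↔ Ideal.map (algebraMap A A') R₀ = ⊥) ∧
        (Module.Flat A' (A' ⊗[A] M) ↔ Ideal.map (algebraMap A A') R₀ = ⊥) := by
  obtain ⟨I, u, hu, hker⟩ := exists_presentation J hJ hfree
  have key : ∀ (A' : Type u) [CommRing A'] [Algebra A A'],
        (Module.Free A' (A' ⊗[A] M) ↔ Ideal.map (algebraMap A A') (coordIdeal u) = ⊥) ∧
        (Module.Flat A' (A' ⊗[A] M) ↔ Ideal.map (algebraMap A A') (coordIdeal u) = ⊥) := by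
    intro A' _ _
    have h1 : Module.Flat A' (A' ⊗[A] M) → Ideal.map (algebraMap A A') (coordIdeal u) = ⊥ :=
      fun h => map_eq_bot_of_flat u hu A' J hJ hker
    have h2 : Ideal.map (algebraMap A A') (coordIdeal u) = ⊥ → Module.Free A' (A' ⊗[A] M) :=
      fun h => free_of_map_eq_bot u hu A' h
    exact ⟨⟨fun h => h1 inferInstance, h2⟩, ⟨h1, fun h => by have := h2 h; infer_instance⟩⟩
  have hq : ∀ R : Ideal A, Ideal.map (algebraMap A (A ⧸ R)) (coordIdeal u) = ⊥ ↔ coordIdeal u ≤ R := by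
    intro R
    rw [Ideal.map_eq_bot_iff_le_ker, Ideal.Quotient.algebraMap_eq, Ideal.mk_ker]
  refine ⟨coordIdeal u, ⟨?_, ?_⟩, ⟨?_, ?_⟩, key⟩
  · exact ((key (A ⧸ coordIdeal u)).1).mpr ((hq _).mpr le_rfl)
  · intro R hR
    exact (hq R).mp (((key (A ⧸ R)).1).mp hR)
  · exact ((key (A ⧸ coordIdeal u)).2).mpr ((hq _).mpr le_rfl)
  · intro R hR
    exact (hq R).mp (((key (A ⧸ R)).2).mp hR)

end Groth.Agent.S4853
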