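import Groth.Statements.S4858
import Mathlib

set_option autoImplicit false
universe u
open EGA43

namespace Groth.Agent.S4858

/-- Conditions a), a′), c), c′) (very dense subsets): for a subset X₀ of a topological space X the
following are equivalent: every nonempty locally closed subset of X meets X₀; every closed subset Z
of X equals the closure of Z ∩ X₀; the map U ↦ U ∩ X₀ is injective on open subsets of X; the map F ↦
F ∩ X₀ is injective on closed subsets of X. -/
theorem result {X : Type u} [TopologicalSpace X] (X₀ : Set X) :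
    [∀ Z : Set X, IsLocallyClosed Z → Z.Nonempty → (Z ∩ X₀).Nonempty,
      ∀ Z : Set X, IsClosed Z → closure (Z ∩ X₀) = Z,
      ∀ U V : Set X, IsOpen U → IsOpen V → U ∩ X₀ = V ∩ X₀ → U = V,
      ∀ F F' : Set X, IsClosed F → IsClosed F' → F ∩ X₀ = F' ∩ X₀ → F = F'].TFAE := by
  tfae_have 1 → 2 := by
    intro h Z hZ
    apply Set.Subset.antisymm
    · exact closure_minimal Set.inter_subset_left hZ
    · intro x hx
      by_contra hxc
      have hlc : IsLocallyClosed (Z ∩ (closure (Z ∩ X₀))ᶜ) :=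
        hZ.isLocallyClosed.inter isClosed_closure.isOpen_compl.isLocallyClosed
      obtain ⟨y, ⟨hyZ, hyc⟩, hy0⟩ := h _ hlc ⟨x, hx, hxc⟩
      exact hyc (subset_closure ⟨hyZ, hy0⟩)
  tfae_have 2 → 4 := by
    intro h F F' hF hF' hFF'
    rw [← h F hF, ← h F' hF', hFF']
  tfae_have 4 → 3 := by
    intro h U V hU hV hUV
    have := h Uᶜ Vᶜ hU.isClosed_compl hV.isClosed_compl (by
      ext x
      simp only [Set.mem_inter_iff, Set.mem_compl_iff]
      constructor
      · rintro ⟨hxU, hx0⟩
        refine ⟨fun hxV => hxU ?_, hx0⟩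
        have : x ∈ V ∩ X₀ := ⟨hxV, hx0⟩
        rw [← hUV] at this; exact this.1
      · rintro ⟨hxV, hx0⟩
        refine ⟨fun hxU => hxV ?_, hx0⟩
        have : x ∈ U ∩ X₀ := ⟨hxU, hx0⟩
        rw [hUV] at this; exact this.1)
    exact compl_injective this
  tfae_have 3 → 1 := by
    intro h Z hZ hne
    obtain ⟨U, F, hU, hF, rfl⟩ := hZ
    by_contra hemp
    rw [Set.not_nonempty_iff_eq_empty] at hemp
    have hUV : U ∩ X₀ = (U ∩ Fᶜ) ∩ X₀ := by
      ext x
      simp only [Set.mem_inter_iff, Set.mem_compl_iff]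
      constructor
      · rintro ⟨hxU, hx0⟩
        refine ⟨⟨hxU, fun hxF => ?_⟩, hx0⟩
        have : x ∈ U ∩ F ∩ X₀ := ⟨⟨hxU, hxF⟩, hx0⟩
        rw [hemp] at this; exact this
      · rintro ⟨⟨hxU, _⟩, hx0⟩; exact ⟨hxU, hx0⟩
    have := h U (U ∩ Fᶜ) hU (hU.inter hF.isOpen_compl) hUV
    obtain ⟨x, hxU, hxF⟩ := hne
    rw [this] at hxU
    exact hxU.2 hxF
  tfae_finish

end Groth.Agent.S4858
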