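import Groth.Statements.S4859
import Mathlib

set_option autoImplicit false
universe u
open EGA43

namespace Groth.Agent.S4859

/-- Conditions a), a′), b) (quasi-homeomorphisms): for a continuous map f : X₀ → X the following are
equivalent: taking preimages is a bijection from the open subsets of X onto the open subsets of X₀;
taking preimages is a bijection from the closed subsets of X onto the closed subsets of X₀; the
topology of X₀ is induced from X through f and the image f(X₀) is very dense in X, in the sense that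
two open subsets of X with the same trace on f(X₀) coincide. -/
theorem result {X₀ X : Type u} [TopologicalSpace X₀] [TopologicalSpace X]
    (f : X₀ → X) (hf : Continuous f) :
    [Function.Bijective (fun U : TopologicalSpace.Opens X =>
        (⟨f ⁻¹' (U : Set X), U.isOpen.preimage hf⟩ : TopologicalSpace.Opens X₀)),
      Function.Bijective (fun F : TopologicalSpace.Closeds X =>
        (⟨f ⁻¹' (F : Set X), F.isClosed.preimage hf⟩ : TopologicalSpace.Closeds X₀)),
      Topology.IsInducing f ∧
        ∀ U V : Set X, IsOpen U → IsOpen V → U ∩ Set.range f = V ∩ Set.range f → U = V].TFAE := by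
  -- set-level reformulations
  have hA : Function.Bijective (fun U : TopologicalSpace.Opens X =>
        (⟨f ⁻¹' (U : Set X), U.isOpen.preimage hf⟩ : TopologicalSpace.Opens X₀)) ↔
      ((∀ U V : Set X, IsOpen U → IsOpen V → f ⁻¹' U = f ⁻¹' V → U = V) ∧
        (∀ W : Set X₀, IsOpen W → ∃ U : Set X, IsOpen U ∧ f ⁻¹' U = W)) := by
    constructor
    · rintro ⟨hinj, hsurj⟩
      refine ⟨fun U V hU hV hUV => ?_, fun W hW => ?_⟩
      · have := @hinj ⟨U, hU⟩ ⟨V, hV⟩ (TopologicalSpace.Opens.ext hUV)
        exact congrArg (fun O : TopologicalSpace.Opens X => (O : Set X)) this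
      · obtain ⟨U, hU⟩ := hsurj ⟨W, hW⟩
        exact ⟨U, U.isOpen, congrArg (fun O : TopologicalSpace.Opens X₀ => (O : Set X₀)) hU⟩
    · rintro ⟨h1, h2⟩
      refine ⟨fun U V hUV => ?_, fun W => ?_⟩
      · apply TopologicalSpace.Opens.ext
        exact h1 U V U.isOpen V.isOpen
          (congrArg (fun O : TopologicalSpace.Opens X₀ => (O : Set X₀)) hUV)
      · obtain ⟨U, hU, hUW⟩ := h2 W W.isOpen
        exact ⟨⟨U, hU⟩, TopologicalSpace.Opens.ext hUW⟩
  have hA' : Function.Bijective (fun F : TopologicalSpace.Closeds X =>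
        (⟨f ⁻¹' (F : Set X), F.isClosed.preimage hf⟩ : TopologicalSpace.Closeds X₀)) ↔
      ((∀ U V : Set X, IsClosed U → IsClosed V → f ⁻¹' U = f ⁻¹' V → U = V) ∧
        (∀ W : Set X₀, IsClosed W → ∃ U : Set X, IsClosed U ∧ f ⁻¹' U = W)) := by
    constructor
    · rintro ⟨hinj, hsurj⟩
      refine ⟨fun U V hU hV hUV => ?_, fun W hW => ?_⟩
      · have := @hinj ⟨U, hU⟩ ⟨V, hV⟩ (TopologicalSpace.Closeds.ext hUV)
        exact congrArg (fun O : TopologicalSpace.Closeds X => (O : Set X)) this
      · obtain ⟨U, hU⟩ := hsurj ⟨W, hW⟩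
        exact ⟨U, U.isClosed, congrArg (fun O : TopologicalSpace.Closeds X₀ => (O : Set X₀)) hU⟩
    · rintro ⟨h1, h2⟩
      refine ⟨fun U V hUV => ?_, fun W => ?_⟩
      · apply TopologicalSpace.Closeds.ext
        exact h1 U V U.isClosed V.isClosed
          (congrArg (fun O : TopologicalSpace.Closeds X₀ => (O : Set X₀)) hUV)
      · obtain ⟨U, hU, hUW⟩ := h2 W W.isClosed
        exact ⟨⟨U, hU⟩, TopologicalSpace.Closeds.ext hUW⟩
  rw [hA, hA']
  tfae_have 1 → 2 := by
    rintro ⟨h1, h2⟩
    refine ⟨fun U V hU hV hUV => ?_, fun W hW => ?_⟩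
    · have := h1 Uᶜ Vᶜ hU.isOpen_compl hV.isOpen_compl (by
        rw [Set.preimage_compl, Set.preimage_compl, hUV])
      exact compl_injective this
    · obtain ⟨U, hU, hUW⟩ := h2 Wᶜ hW.isOpen_compl
      refine ⟨Uᶜ, hU.isClosed_compl, ?_⟩
      rw [Set.preimage_compl, hUW, compl_compl]
  tfae_have 2 → 1 := by
    rintro ⟨h1, h2⟩
    refine ⟨fun U V hU hV hUV => ?_, fun W hW => ?_⟩
    · have := h1 Uᶜ Vᶜ hU.isClosed_compl hV.isClosed_compl (by
        rw [Set.preimage_compl, Set.preimage_compl, hUV])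
      exact compl_injective this
    · obtain ⟨U, hU, hUW⟩ := h2 Wᶜ hW.isClosed_compl
      refine ⟨Uᶜ, hU.isOpen_compl, ?_⟩
      rw [Set.preimage_compl, hUW, compl_compl]
  have hpre : ∀ U V : Set X, f ⁻¹' U = f ⁻¹' V ↔ U ∩ Set.range f = V ∩ Set.range f := by
    intro U V
    constructor
    · intro h
      ext x
      simp only [Set.mem_inter_iff, Set.mem_range]
      constructor
      · rintro ⟨hxU, y, rfl⟩
        have : y ∈ f ⁻¹' U := hxU
        rw [h] at this
        exact ⟨this, y, rfl⟩
      · rintro ⟨hxV, y, rfl⟩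
        have : y ∈ f ⁻¹' V := hxV
        rw [← h] at this
        exact ⟨this, y, rfl⟩
    · intro h
      ext y
      simp only [Set.mem_preimage]
      constructor
      · intro hy
        have : f y ∈ U ∩ Set.range f := ⟨hy, y, rfl⟩
        rw [h] at this; exact this.1
      · intro hy
        have : f y ∈ V ∩ Set.range f := ⟨hy, y, rfl⟩
        rw [← h] at this; exact this.1
  tfae_have 1 → 3 := by
    rintro ⟨h1, h2⟩
    refine ⟨⟨le_antisymm ?_ ?_⟩, fun U V hU hV hUV => h1 U V hU hV ((hpre U V).2 hUV)⟩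
    · exact continuous_iff_le_induced.1 hf
    · intro W hW
      rw [isOpen_induced_iff]
      exact h2 W hW
  tfae_have 3 → 1 := by
    rintro ⟨hind, h1⟩
    refine ⟨fun U V hU hV hUV => h1 U V hU hV ((hpre U V).1 hUV), fun W hW => ?_⟩
    rw [hind.isOpen_iff] at hW
    exact hW
  tfae_finish

end Groth.Agent.S4859
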