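import Groth.Statements.S4861
import Mathlib

set_option autoImplicit false
universe u
open EGA43

namespace Groth.Agent.S4861

/-- `B_f` is a field iff every nonzero prime contains `f` -/
theorem isField_away_iff (B : Type u) [CommRing B] [IsDomain B] (f : B) (hf : f ≠ 0) :
    IsField (Localization.Away f) ↔ ∀ p : Ideal B, p.IsPrime → p ≠ ⊥ → f ∈ p := by
  have hle : Submonoid.powers f ≤ nonZeroDivisors B :=
    Submonoid.powers_le.mpr (mem_nonZeroDivisors_of_ne_zero hf)
  have hinj : Function.Injective (algebraMap B (Localization.Away f)) :=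
    IsLocalization.injective (Localization.Away f) hle
  haveI : IsDomain (Localization.Away f) :=
    IsLocalization.isDomain_of_le_nonZeroDivisors (Localization.Away f) hle
  constructor
  · intro hF p hp hp0
    by_contra hfp
    have hdisj : Disjoint (Submonoid.powers f : Set B) (p : Set B) := by
      rw [Set.disjoint_left]
      rintro x ⟨n, rfl⟩ hx
      exact hfp (hp.mem_of_pow_mem n hx)
    have hP := IsLocalization.isPrime_of_isPrime_disjoint (Submonoid.powers f)
      (Localization.Away f) p hp hdisj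
    have hcomap := IsLocalization.under_map_of_isPrime_disjoint (Submonoid.powers f)
      (Localization.Away f) hp hdisj
    letI := hF.toField
    have hbot : p.map (algebraMap B (Localization.Away f)) = ⊥ :=
      (Ideal.eq_bot_or_top _).resolve_right hP.ne_top
    rw [hbot] at hcomap
    apply hp0
    rw [← hcomap, Ideal.under, Ideal.comap_bot_of_injective _ hinj]
  · intro h
    by_contra hF
    obtain ⟨P, hP0, hP⟩ := Ring.not_isField_iff_exists_prime.mp hF
    obtain ⟨hp, hdisj⟩ := (IsLocalization.isPrime_iff_isPrime_disjoint (Submonoid.powers f)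
      (Localization.Away f) P).mp hP
    have hp0 : P.under B ≠ ⊥ := by
      intro h0
      apply hP0
      rw [← IsLocalization.map_under (Submonoid.powers f) (Localization.Away f) P, h0, Ideal.map_bot]
    have hfp := h _ hp hp0
    exact Set.disjoint_left.mp hdisj (Submonoid.mem_powers f) hfp

/-- if every nonzero prime contains `f ≠ 0`, every nonzero prime is minimal over `(f)` -/
theorem mem_minimalPrimes_of_forall (B : Type u) [CommRing B] [IsDomain B] [IsNoetherianRing B]
    (f : B) (hf : f ≠ 0) (h : ∀ p : Ideal B, p.IsPrime → p ≠ ⊥ → f ∈ p)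
    (p : Ideal B) (hp : p.IsPrime) (hp0 : p ≠ ⊥) : p ∈ (Ideal.span {f}).minimalPrimes := by
  classical
  set S := (Ideal.span {f}).minimalPrimes with hS
  have hSfin : S.Finite := Ideal.finite_minimalPrimes_of_isNoetherianRing B _
  have hSf : ∀ q ∈ S, f ∈ q := fun q hq => hq.1.2 (Ideal.subset_span rfl)
  have hSprime : ∀ q ∈ S, q.IsPrime := fun q hq => hq.1.1
  have hle : ∀ q : Ideal B, q.IsPrime → q ≠ ⊥ → ∃ q₁ ∈ S, q₁ ≤ q := by
    intro q hq hq0
    haveI := hq
    exact Ideal.exists_minimalPrimes_le ((Ideal.span_singleton_le_iff_mem _).mpr (h q hq hq0))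
  by_contra hpS
  obtain ⟨q, hqS, hqp⟩ := hle p hp hp0
  -- prime avoidance
  have hnot : ¬ ((p : Set B) ⊆ ⋃ i ∈ (↑hSfin.toFinset : Set (Ideal B)), (i : Set B)) := by
    intro hsub
    obtain ⟨q', hq', hpq'⟩ := (Ideal.subset_union_prime (s := hSfin.toFinset)
      (f := fun i : Ideal B => i) ⊥ ⊥
      (fun i hi _ _ => hSprime i (hSfin.mem_toFinset.mp hi)) (I := p)).mp hsub
    rw [hSfin.mem_toFinset] at hq'
    have h1 : q' ≤ q := hq'.2 ⟨hSprime q hqS, hqS.1.2⟩ (hqp.trans hpq')
    have : p = q' := le_antisymm hpq' (h1.trans hqp)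
    exact hpS (this ▸ hq')
  rw [Set.not_subset] at hnot
  obtain ⟨x, hxp, hxS⟩ := hnot
  have hxS' : ∀ q' ∈ S, x ∉ q' := by
    intro q' hq' hx
    apply hxS
    simp only [Set.mem_iUnion]
    exact ⟨q', by simpa using hq', hx⟩
  have hx0 : x ≠ 0 := by
    rintro rfl
    exact hxS' q hqS q.zero_mem
  haveI := hp
  obtain ⟨q₂, hq₂, hq₂p⟩ := Ideal.exists_minimalPrimes_le
    ((Ideal.span_singleton_le_iff_mem (I := p)).mpr hxp)
  have hq₂prime : q₂.IsPrime := hq₂.1.1
  have hxq₂ : x ∈ q₂ := hq₂.1.2 (Ideal.subset_span rfl)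
  have hq₂0 : q₂ ≠ ⊥ := by
    intro h0; rw [h0] at hxq₂; exact hx0 (by simpa using hxq₂)
  have hht : q₂.height ≤ 1 := Ideal.height_le_one_of_isPrincipal_of_mem_minimalPrimes _ q₂ hq₂
  obtain ⟨q₁, hq₁S, hq₁q₂⟩ := hle q₂ hq₂prime hq₂0
  haveI := hSprime q₁ hq₁S
  have hq₁0 : q₁ ≠ ⊥ := by
    intro h0
    have := hSf q₁ hq₁S
    rw [h0] at this
    exact hf (by simpa using this)
  rcases hq₁q₂.lt_or_eq with hlt | heq
  · have h1 := Ideal.height_add_one_le_of_lt_of_isPrime hlt
    have h2 : q₁.height = 0 := by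
      have : q₁.height + 1 ≤ 1 := h1.trans hht
      have h3 : q₁.height ≤ 0 := by
        by_contra hne
        push Not at hne
        have : (1 : ℕ∞) + 1 ≤ 1 := (add_le_add_left (Order.one_le_iff_pos.mpr hne) 1).trans this
        exact absurd this (by decide)
      exact le_antisymm h3 bot_le
    exact hq₁0 (Ideal.height_eq_zero_iff_eq_bot.mp h2)
  · exact hxS' q₁ hq₁S (heq ▸ hxq₂)


/-- For a Noetherian integral domain B the following are equivalent (and hence equivalent to: the
fraction field of B is a finitely generated B-algebra; the generic point of Spec B is open): a) the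
localization B_f is a field for some nonzero f; e) Spec B is finite; f) B is semi-local (finitely
many maximal ideals) of Krull dimension at most 1. -/
theorem result (B : Type u) [CommRing B] [IsDomain B]
    [IsNoetherianRing B] :
    [∃ f : B, f ≠ 0 ∧ IsField (Localization.Away f),
      Finite (PrimeSpectrum B),
      Finite (MaximalSpectrum B) ∧ ringKrullDim B ≤ 1].TFAE := by
  classical
  tfae_have 2 → 1 := by
    intro hfin
    have hex : ∀ p : PrimeSpectrum B, ∃ g : B, g ≠ 0 ∧ (p.asIdeal ≠ ⊥ → g ∈ p.asIdeal) := by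
      intro p
      by_cases hp : p.asIdeal = ⊥
      · exact ⟨1, one_ne_zero, fun h => absurd hp h⟩
      · obtain ⟨g, hg, hg0⟩ := Submodule.exists_mem_ne_zero_of_ne_bot hp
        exact ⟨g, hg0, fun _ => hg⟩
    choose g hg0 hgmem using hex
    haveI := Fintype.ofFinite (PrimeSpectrum B)
    have hprod : ∏ p, g p ≠ 0 := Finset.prod_ne_zero_iff.mpr (fun p _ => hg0 p)
    refine ⟨∏ p, g p, hprod, ?_⟩
    rw [isField_away_iff _ _ hprod]
    intro p hp hp0
    obtain ⟨c, hc⟩ := Finset.dvd_prod_of_mem g (Finset.mem_univ (⟨p, hp⟩ : PrimeSpectrum B))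
    rw [hc]
    exact p.mul_mem_right _ (hgmem ⟨p, hp⟩ hp0)
  tfae_have 1 → 3 := by
    rintro ⟨f, hf, hF⟩
    have h := (isField_away_iff B f hf).mp hF
    have hmin := mem_minimalPrimes_of_forall B f hf h
    have hSfin : ((Ideal.span {f}).minimalPrimes).Finite :=
      Ideal.finite_minimalPrimes_of_isNoetherianRing B _
    have hfinP : Finite (PrimeSpectrum B) := by
      haveI : Finite ↥(insert ⊥ (Ideal.span {f}).minimalPrimes) := (hSfin.insert ⊥).to_subtype
      have hmem : ∀ p : PrimeSpectrum B, p.asIdeal ∈ insert ⊥ (Ideal.span {f}).minimalPrimes := by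
        intro p
        by_cases hp : p.asIdeal = ⊥
        · exact Set.mem_insert_iff.mpr (Or.inl hp)
        · exact Set.mem_insert_of_mem _ (hmin _ p.2 hp)
      refine Finite.of_injective (fun p : PrimeSpectrum B =>
        (⟨p.asIdeal, hmem p⟩ : ↥(insert ⊥ (Ideal.span {f}).minimalPrimes))) ?_
      intro p q hpq
      exact PrimeSpectrum.ext (Subtype.ext_iff.mp hpq)
    refine ⟨Finite.of_injective _ MaximalSpectrum.toPrimeSpectrum_injective, ?_⟩
    rw [← Nat.cast_one, ← Ring.krullDimLE_iff]
    apply Ring.KrullDimLE.mk₁'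
    intro I hI0 hI
    obtain ⟨m, hm, hIm⟩ := Ideal.exists_le_maximal I hI.ne_top
    have hm0 : m ≠ ⊥ := fun h0 => hI0 (le_bot_iff.mp (h0 ▸ hIm))
    have hmS := hmin m hm.isPrime hm0
    have hIS := hmin I hI hI0
    have : m ≤ I := hmS.2 hIS.1 hIm
    rw [le_antisymm hIm this]
    exact hm
  tfae_have 3 → 2 := by
    rintro ⟨hfin, hdim⟩
    rw [← Nat.cast_one, ← Ring.krullDimLE_iff] at hdim
    have hmax : ∀ p : PrimeSpectrum B, p.asIdeal ≠ ⊥ → p.asIdeal.IsMaximal :=
      fun p hp => Ideal.IsPrime.isMaximal_of_ne_bot p.2 hp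
    refine Finite.of_injective (fun p : PrimeSpectrum B =>
      if hp : p.asIdeal = ⊥ then (none : Option (MaximalSpectrum B))
      else some ⟨p.asIdeal, hmax p hp⟩) ?_
    intro p q hpq
    by_cases hp : p.asIdeal = ⊥ <;> by_cases hq : q.asIdeal = ⊥
    · exact PrimeSpectrum.ext (hp.trans hq.symm)
    · simp [hp, hq] at hpq
    · simp [hp, hq] at hpq
    · simp only [hp, hq, dite_false, Option.some.injEq] at hpq
      exact PrimeSpectrum.ext (congrArg MaximalSpectrum.asIdeal hpq)
  tfae_finish

end Groth.Agent.S4861
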