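import Groth.Statements.S4862
import Mathlib
import Groth.Agent.S4860

set_option autoImplicit false
universe u
open EGA43

namespace Groth.Agent.S4862

set_option linter.style.haveILetI false

namespace H4862

variable (A : Type u) [CommRing A]

lemma three_to_two
    (h3 : ∀ (K : Type u) [Field K] [Algebra A K], Algebra.FiniteType A K → Module.Finite A K) :
    ∀ (p : Ideal A) [p.IsPrime], ¬ p.IsMaximal → ∀ f : A ⧸ p, f ≠ 0 → ¬ IsField (Localization.Away f) := by
  intro p _ hp f hf hF
  apply hp
  letI := hF.toField
  haveI : Algebra.FiniteType (A ⧸ p) (Localization.Away f) :=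
    IsLocalization.finiteType_of_monoid_fg (Submonoid.powers f) _
  haveI : Algebra.FiniteType A (A ⧸ p) :=
    Algebra.FiniteType.of_surjective (Algebra.ofId A (A ⧸ p)) Ideal.Quotient.mk_surjective
  have hft : Algebra.FiniteType A (Localization.Away f) :=
    Algebra.FiniteType.trans (S := A ⧸ p) inferInstance inferInstance
  haveI := h3 (Localization.Away f) hft
  haveI : Module.Finite (A ⧸ p) (Localization.Away f) :=
    Module.Finite.of_restrictScalars_finite A _ _
  haveI : Algebra.IsIntegral (A ⧸ p) (Localization.Away f) := Algebra.IsIntegral.of_finite _ _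
  have hinj : Function.Injective (algebraMap (A ⧸ p) (Localization.Away f)) :=
    Groth.Agent.S4860.H4860.away_injective (A ⧸ p) hf
  have := isField_of_isIntegral_of_isField hinj hF
  exact Ideal.Quotient.maximal_of_isField p this

lemma two_to_three
    (h2 : ∀ (p : Ideal A) [p.IsPrime], ¬ p.IsMaximal → ∀ f : A ⧸ p, f ≠ 0 →
      ¬ IsField (Localization.Away f)) :
    ∀ (K : Type u) [Field K] [Algebra A K], Algebra.FiniteType A K → Module.Finite A K := by
  intro K _ _ hft
  let q : Ideal A := RingHom.ker (algebraMap A K)
  haveI hq : q.IsPrime := RingHom.ker_isPrime _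
  letI : Algebra (A ⧸ q) K := (RingHom.kerLift (algebraMap A K)).toAlgebra
  haveI : IsScalarTower A (A ⧸ q) K := IsScalarTower.of_algebraMap_eq (fun x => rfl)
  have hinj : Function.Injective (algebraMap (A ⧸ q) K) := RingHom.kerLift_injective _
  haveI : Algebra.FiniteType (A ⧸ q) K := Algebra.FiniteType.of_restrictScalars_finiteType A _ _
  have h31 := (Groth.Agent.S4860.result (A ⧸ q)).out 2 0
  obtain ⟨f, hf, hF⟩ := h31.mp ⟨K, inferInstance, inferInstance, hinj, inferInstance⟩
  have hmax : q.IsMaximal := by
    by_contra hnm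
    exact h2 q hnm f hf hF
  letI := Ideal.Quotient.field q
  haveI : Module.Finite (A ⧸ q) K := finite_of_finite_type_of_isJacobsonRing _ _
  exact Module.Finite.trans (A ⧸ q) K

lemma three_to_one
    (h3 : ∀ (K : Type u) [Field K] [Algebra A K], Algebra.FiniteType A K → Module.Finite A K) :
    IsJacobsonRing A := by
  rw [isJacobsonRing_iff_prime_eq]
  intro P hP
  refine le_antisymm ?_ Ideal.le_jacobson
  intro g hg
  by_contra hgP
  have hf : (Ideal.Quotient.mk P g) ≠ 0 := by
    rwa [Ne, Ideal.Quotient.eq_zero_iff_mem]
  set f := Ideal.Quotient.mk P g with hfdef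
  haveI : IsDomain (A ⧸ P) := Ideal.Quotient.isDomain P
  haveI : Nontrivial (Localization.Away f) :=
    (Groth.Agent.S4860.H4860.away_injective (A ⧸ P) hf).nontrivial
  obtain ⟨M, hM⟩ := Ideal.exists_maximal (Localization.Away f)
  letI := Ideal.Quotient.field M
  haveI : Algebra.FiniteType (A ⧸ P) (Localization.Away f) :=
    IsLocalization.finiteType_of_monoid_fg (Submonoid.powers f) _
  haveI : Algebra.FiniteType A (A ⧸ P) :=
    Algebra.FiniteType.of_surjective (Algebra.ofId A (A ⧸ P)) Ideal.Quotient.mk_surjective
  haveI : Algebra.FiniteType A (Localization.Away f) :=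
    Algebra.FiniteType.trans (S := A ⧸ P) inferInstance inferInstance
  haveI : Algebra.FiniteType (Localization.Away f) (Localization.Away f ⧸ M) :=
    Algebra.FiniteType.of_surjective (Algebra.ofId _ _) Ideal.Quotient.mk_surjective
  have hft : Algebra.FiniteType A (Localization.Away f ⧸ M) :=
    Algebra.FiniteType.trans (S := Localization.Away f) inferInstance inferInstance
  haveI := h3 (Localization.Away f ⧸ M) hft
  haveI : Algebra.IsIntegral A (Localization.Away f ⧸ M) := Algebra.IsIntegral.of_finite _ _
  haveI hbm : (⊥ : Ideal (Localization.Away f ⧸ M)).IsMaximal := Ideal.bot_isMaximal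
  have hqmax : ((⊥ : Ideal (Localization.Away f ⧸ M)).comap
      (algebraMap A (Localization.Away f ⧸ M))).IsMaximal :=
    Ideal.isMaximal_comap_of_isIntegral_of_isMaximal _
  have hPq : P ≤ (⊥ : Ideal (Localization.Away f ⧸ M)).comap
      (algebraMap A (Localization.Away f ⧸ M)) := by
    intro x hx
    rw [Ideal.mem_comap, Ideal.mem_bot,
      IsScalarTower.algebraMap_apply A (A ⧸ P) (Localization.Away f ⧸ M)]
    have : algebraMap A (A ⧸ P) x = 0 := Ideal.Quotient.eq_zero_iff_mem.mpr hx
    rw [this, map_zero]
  have hgq : g ∈ (⊥ : Ideal (Localization.Away f ⧸ M)).comap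
      (algebraMap A (Localization.Away f ⧸ M)) := by
    rw [Ideal.jacobson, Ideal.mem_sInf] at hg
    exact hg ⟨hPq, hqmax⟩
  rw [Ideal.mem_comap, Ideal.mem_bot,
    IsScalarTower.algebraMap_apply A (A ⧸ P) (Localization.Away f ⧸ M),
    IsScalarTower.algebraMap_apply (A ⧸ P) (Localization.Away f) (Localization.Away f ⧸ M)] at hgq
  have hunit : IsUnit (algebraMap (A ⧸ P) (Localization.Away f) f) :=
    IsLocalization.Away.algebraMap_isUnit f
  have := (hunit.map (algebraMap (Localization.Away f) (Localization.Away f ⧸ M))).ne_zero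
  exact this hgq

theorem main : [IsJacobsonRing A,
      ∀ (p : Ideal A) [p.IsPrime], ¬ p.IsMaximal → ∀ f : A ⧸ p, f ≠ 0 → ¬ IsField (Localization.Away f),
      ∀ (K : Type u) [Field K] [Algebra A K], Algebra.FiniteType A K → Module.Finite A K].TFAE := by
  tfae_have 1 → 3 := fun h K _ _ hft => finite_of_finite_type_of_isJacobsonRing A K
  tfae_have 3 → 2 := three_to_two A
  tfae_have 2 → 3 := two_to_three A
  tfae_have 3 → 1 := three_to_one A
  tfae_finish

end H4862

/-- For a commutative ring A the following are equivalent: a) A is a Jacobson ring; b) for every prime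
ideal p of A which is not maximal and every nonzero f of B = A/p, the localization B_f is not a
field; b′) every finitely generated A-algebra which is a field is a finite A-module. -/
theorem result (A : Type u) [CommRing A] :
    [IsJacobsonRing A,
      ∀ (p : Ideal A) [p.IsPrime], ¬ p.IsMaximal → ∀ f : A ⧸ p, f ≠ 0 → ¬ IsField (Localization.Away f),
      ∀ (K : Type u) [Field K] [Algebra A K], Algebra.FiniteType A K → Module.Finite A K].TFAE := by
  exact H4862.main A

end Groth.Agent.S4862
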