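import Groth.Statements.S4872
import Mathlib
import Mathlib

set_option autoImplicit false
universe u
open CategoryTheory AlgebraicGeometry
open EGA43

namespace Groth.Agent.S4872

open CategoryTheory AlgebraicGeometry Limits

namespace H4872

variable {X S : Scheme.{u}} (p : X ⟶ S) {ι : Type u} (Z : ι → Scheme.{u})
    (f : ∀ i, Z i ⟶ X)

theorem b_to_c (hb : ∀ (V : (X).Opens) (t : Γ(X, V)), (∀ i, (f i).app V t = 0) → t = 0)
    (U : X.Opens) (Y : Scheme.{u}) (j : Y ⟶ (U : Scheme.{u})) [IsClosedImmersion j]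
    (hg : ∀ i, ∃ g : ((f i) ⁻¹ᵁ U : Scheme.{u}) ⟶ Y, g ≫ j = (f i) ∣_ U) : IsIso j := by
  rw [IsClosedImmersion.isIso_iff_ker_eq_bot]
  ext W : 2
  rw [Scheme.Hom.ker_apply, Scheme.IdealSheafData.ideal_bot, Pi.bot_apply, eq_bot_iff]
  intro t ht
  rw [RingHom.mem_ker] at ht
  rw [Ideal.mem_bot]
  refine hb (U.ι ''ᵁ W.1) t fun i => ?_
  obtain ⟨g, hg⟩ := hg i
  have key : ∀ (h : ((f i) ⁻¹ᵁ U : Scheme.{u}) ⟶ (U : Scheme.{u})), g ≫ j = h → h.app W.1 t = 0 := by
    rintro _ rfl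
    show (g.app _).hom ((j.app W.1).hom t) = 0
    rw [ht, map_zero]
  have h1 : ((f i) ∣_ U).app W.1 t = 0 := key _ hg
  rw [morphismRestrict_app] at h1
  change ((Z i).presheaf.map _).hom (((f i).app (U.ι ''ᵁ W.1)).hom t) = 0 at h1
  have hinj : Function.Injective ((Z i).presheaf.map
      (eqToHom (image_morphismRestrict_preimage (f i) U W.1)).op) :=
    ((ConcreteCategory.isIso_iff_bijective _).mp inferInstance).1
  exact hinj (by rw [h1, map_zero])

theorem c_to_d (hc : ∀ (U : X.Opens) (Y : Scheme.{u}) (j : Y ⟶ (U : Scheme.{u})), IsClosedImmersion j →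
        (∀ i, ∃ g : ((f i) ⁻¹ᵁ U : Scheme.{u}) ⟶ Y, g ≫ j = (f i) ∣_ U) → IsIso j)
    (X' : Scheme.{u}) (q : X' ⟶ S) [IsSeparated q] (U : X.Opens) (u v : (U : Scheme.{u}) ⟶ X')
    (hu : u ≫ q = U.ι ≫ p) (hv : v ≫ q = U.ι ≫ p)
    (h : ∀ i, ((f i) ∣_ U) ≫ u = ((f i) ∣_ U) ≫ v) : u = v := by
  let U' : Over S := Over.mk (U.ι ≫ p)
  let Y' : Over S := Over.mk q
  let u' : U' ⟶ Y' := Over.homMk u hu
  let v' : U' ⟶ Y' := Over.homMk v hv
  have : IsSeparated Y'.hom := ‹_›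
  have hiso : IsIso (equalizer.ι u' v').left := by
    refine hc U _ (equalizer.ι u' v').left inferInstance fun i => ?_
    let Zi' : Over S := Over.mk (((f i) ∣_ U) ≫ U.ι ≫ p)
    let ι' : Zi' ⟶ U' := Over.homMk ((f i) ∣_ U) rfl
    refine ⟨(equalizer.lift ι' ?_).left, ?_⟩
    · ext1; exact h i
    · rw [← Over.comp_left, equalizer.lift_ι]; rfl
  rw [← cancel_epi (equalizer.ι u' v').left]
  exact congr($(equalizer.condition u' v').left)

theorem d_to_b (hd : ∀ (X' : Scheme.{u}) (q : X' ⟶ S), IsSeparated q → ∀ (U : X.Opens) (u v : (U : Scheme.{u}) ⟶ X'),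
        u ≫ q = U.ι ≫ p → v ≫ q = U.ι ≫ p → (∀ i, ((f i) ∣_ U) ≫ u = ((f i) ∣_ U) ≫ v) → u = v)
    (V : (X).Opens) (t : Γ(X, V)) (ht : ∀ i, (f i).app V t = 0) : t = 0 := by
  let t' : Γ(V, ⊤) := V.topIso.inv t
  let u : (V : Scheme.{u}) ⟶ 𝔸(PUnit.{u+1}; S) := AffineSpace.homOfVector (V.ι ≫ p) (fun _ => t')
  let v : (V : Scheme.{u}) ⟶ 𝔸(PUnit.{u+1}; S) := AffineSpace.homOfVector (V.ι ≫ p) (fun _ => 0)
  have huv : u = v := by
    refine hd _ (𝔸(PUnit.{u+1}; S) ↘ S) inferInstance V u v (by simp [u]) (by simp [v]) fun i => ?_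
    simp only [u, v, AffineSpace.comp_homOfVector]
    congr 1
    ext x
    simp only [Function.comp_apply, map_zero]
    rw [morphismRestrict_appTop]
    have : ((f i).app (V.ι ''ᵁ ⊤)).hom t' = 0 := by
      have h3 := congr($((f i).naturality (eqToHom V.ι_image_top).op) t)
      simp only [CommRingCat.comp_apply, ht i, map_zero] at h3
      exact h3
    show ((Z i).presheaf.map _).hom (((f i).app (V.ι ''ᵁ ⊤)).hom t') = 0
    rw [this, map_zero]
  have h2 : t' = 0 := by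
    have := congr(($huv).appTop (AffineSpace.coord S PUnit.unit))
    simpa [u, v] using this
  have : t = V.topIso.hom t' := (CategoryTheory.Iso.inv_hom_id_apply V.topIso t).symm
  rw [this, h2, map_zero]

end H4872

/-- Conditions b), c), d) (schematically dominant families): let p : X ⟶ S be a morphism and (f_i : Z_i
⟶ X) a family of morphisms. The following are equivalent: b) for every open V of X, a section of O_X
over V whose images in all the Γ(f_i⁻¹(V), O_{Z_i}) are zero is zero; c) for every open U of X, a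
closed immersion j : Y ⟶ U through which each restriction f_i⁻¹(U) ⟶ U factors is an isomorphism; d)
for every separated S-scheme X', every open U of X and every pair of S-morphisms u, v : U ⟶ X'
having the same composite with each f_i⁻¹(U) ⟶ U, one has u = v. -/
theorem result {X S : Scheme.{u}} (p : X ⟶ S) {ι : Type u} (Z : ι → Scheme.{u})
    (f : ∀ i, Z i ⟶ X) :
    [(∀ (V : (X).Opens) (t : Γ(X, V)), (∀ i, (f i).app V t = 0) → t = 0),
      ∀ (U : X.Opens) (Y : Scheme.{u}) (j : Y ⟶ (U : Scheme.{u})), IsClosedImmersion j →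
        (∀ i, ∃ g : ((f i) ⁻¹ᵁ U : Scheme.{u}) ⟶ Y, g ≫ j = (f i) ∣_ U) → IsIso j,
      ∀ (X' : Scheme.{u}) (q : X' ⟶ S), IsSeparated q → ∀ (U : X.Opens) (u v : (U : Scheme.{u}) ⟶ X'),
        u ≫ q = U.ι ≫ p → v ≫ q = U.ι ≫ p → (∀ i, ((f i) ∣_ U) ≫ u = ((f i) ∣_ U) ≫ v) → u = v].TFAE := by
  tfae_have 1 → 2 := fun hb U Y j hj hg => by
    haveI := hj; exact H4872.b_to_c Z f hb U Y j hg
  tfae_have 2 → 3 := fun hc X1 q hq U u v hu hv h => by
    haveI := hq; exact H4872.c_to_d p Z f hc X1 q U u v hu hv h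
  tfae_have 3 → 1 := fun hd V t ht => H4872.d_to_b p Z f hd V t ht
  tfae_finish

end Groth.Agent.S4872
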