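import Groth.Statements.S4878
import Mathlib
import Groth.Agent.Lib.Helper4.Misc1
set_option linter.style.haveILetI false

set_option autoImplicit false
universe u
open TensorProduct
open EGA43

namespace Groth.Agent.S4878

/-- Let A be a commutative ring, (u_i : M → M_i) a family of A-linear maps whose kernels have zero
intersection, and N a projective A-module. Then the kernels of the maps u_i ⊗ 1 : M ⊗_A N → M_i ⊗_A
N have zero intersection. -/
theorem result {A : Type u} [CommRing A]
    {M : Type u} [AddCommGroup M] [Module A M] {ι : Type u} (M' : ι → Type u)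
    [∀ i, AddCommGroup (M' i)] [∀ i, Module A (M' i)] (u : ∀ i, M →ₗ[A] M' i)
    (hu : ⨅ i, LinearMap.ker (u i) = ⊥)
    (N : Type u) [AddCommGroup N] [Module A N] [Module.Projective A N] :
    ⨅ i, LinearMap.ker ((u i).rTensor N) = ⊥ := by
  obtain ⟨s, hs⟩ := (Module.projective_def' (R := A) (P := N)).mp inferInstance
  let r : (N →₀ A) →ₗ[A] N := Finsupp.linearCombination A id
  have hfree := Groth.Agent.Helper4.Misc.iInf_ker_rTensor_eq_bot_of_basis M' u hu (N →₀ A) (Finsupp.basisSingleOne (R := A) (ι := N))
  rw [eq_bot_iff]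
  intro x hx
  rw [Submodule.mem_iInf] at hx
  rw [Submodule.mem_bot]
  have h1 : s.lTensor M x ∈ ⨅ i, LinearMap.ker ((u i).rTensor (N →₀ A)) := by
    rw [Submodule.mem_iInf]
    intro i
    rw [LinearMap.mem_ker, ← LinearMap.comp_apply, LinearMap.rTensor_comp_lTensor,
      ← LinearMap.lTensor_comp_rTensor, LinearMap.comp_apply, LinearMap.mem_ker.mp (hx i),
      map_zero]
  rw [hfree, Submodule.mem_bot] at h1
  have h2 : r.lTensor M (s.lTensor M x) = x := by
    rw [← LinearMap.comp_apply, ← LinearMap.lTensor_comp, hs, LinearMap.lTensor_id,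
      LinearMap.id_apply]
  rw [← h2, h1, map_zero]

end Groth.Agent.S4878
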