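import Groth.Statements.S4880
import Mathlib
import Groth.Agent.Lib.Helper4.OpenGen
import Mathlib

set_option autoImplicit false
universe u
open CategoryTheory AlgebraicGeometry
open EGA43

namespace Groth.Agent.S4880

open CategoryTheory AlgebraicGeometry

namespace H4880
open Groth.Agent.Helper4.OpenGen

variable (X : Scheme.{u}) [IsNoetherian X] [IrreducibleSpace X]

theorem a_to_b (ha : IsOpen ({genericPoint X} : Set X)) : Finite X := by
  have h := finite_closure (genericPoint X) {genericPoint X} ha
    (by rw [Set.inter_eq_left]; exact subset_closure)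
  rw [(genericPoint_spec X).def] at h
  exact Set.finite_univ_iff.mp h

theorem a_to_dim (ha : IsOpen ({genericPoint X} : Set X)) : topologicalKrullDim X ≤ 1 := by
  rw [topologicalKrullDim, Order.krullDim_le_one_iff]
  intro Z
  have hW : ({genericPoint X} : Set X) ∩ closure {genericPoint X} = {genericPoint X} := by
    rw [Set.inter_eq_left]; exact subset_closure
  by_cases hη : genericPoint X ∈ Z.carrier
  · right
    intro Z' _
    intro y _
    have : closure {genericPoint X} ⊆ Z.carrier :=
      Z.isClosed'.closure_subset_iff.mpr (Set.singleton_subset_iff.mpr hη)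
    rw [(genericPoint_spec X).def] at this
    exact this (Set.mem_univ y)
  · left
    intro Z' hZ'
    obtain ⟨y, hy⟩ := QuasiSober.sober Z.isIrreducible' Z.isClosed'
    obtain ⟨z, hz⟩ := QuasiSober.sober Z'.isIrreducible' Z'.isClosed'
    have hzZ : z ∈ Z.carrier := hZ' hz.mem
    have hyz : y ⤳ z := by
      rw [specializes_iff_mem_closure, hy.def]; exact hzZ
    have hyη : y ≠ genericPoint X := fun e => hη (e ▸ hy.mem)
    have := no_chain (genericPoint X) {genericPoint X} ha hW y z
      (genericPoint_specializes y) hyz hyη
    show Z.carrier ⊆ Z'.carrier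
    rw [← hy.def, ← hz.def, this]

theorem c_to_b (hdim : topologicalKrullDim X ≤ 1)
    (hfin : {x : X | IsClosed ({x} : Set X)}.Finite) : Finite X := by
  rw [topologicalKrullDim, Order.krullDim_le_one_iff] at hdim
  rw [← Set.finite_univ_iff]
  refine Set.Finite.subset ((Set.finite_singleton (genericPoint X)).union hfin) ?_
  intro x _
  by_cases hx : x = genericPoint X
  · left; exact hx
  · right
    show IsClosed ({x} : Set X)
    let Z : TopologicalSpace.IrreducibleCloseds X :=
      ⟨closure {x}, isIrreducible_singleton.closure, isClosed_closure⟩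
    rcases hdim Z with hmin | hmax
    · obtain ⟨y, hy, hyc⟩ := (isClosed_closure (s := ({x} : Set X))).exists_closed_singleton
        ⟨x, subset_closure rfl⟩
      let Z' : TopologicalSpace.IrreducibleCloseds X := ⟨{y}, isIrreducible_singleton, hyc⟩
      have hle : Z' ≤ Z := by
        show ({y} : Set X) ⊆ closure {x}
        exact Set.singleton_subset_iff.mpr hy
      have : Z ≤ Z' := hmin hle
      have hxy : x ∈ ({y} : Set X) := this (subset_closure rfl : x ∈ closure {x})
      rw [Set.mem_singleton_iff] at hxy
      rw [hxy]; exact hyc
    · exfalso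
      let T : TopologicalSpace.IrreducibleCloseds X :=
        ⟨Set.univ, IrreducibleSpace.isIrreducible_univ X, isClosed_univ⟩
      have hle : Z ≤ T := fun _ _ => Set.mem_univ _
      have : T ≤ Z := hmax hle
      have hgen : IsGenericPoint x (Set.univ : Set X) := by
        rw [isGenericPoint_def]
        exact Set.eq_univ_of_univ_subset this
      exact hx (hgen.eq (genericPoint_spec X))

theorem main :
    [IsOpen ({genericPoint X} : Set X),
      Finite X,
      topologicalKrullDim X ≤ 1 ∧ {x : X | IsClosed ({x} : Set X)}.Finite].TFAE := by
  tfae_have 1 → 2 := a_to_b X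
  tfae_have 2 → 1 := fun h => isOpen_singleton_genericPoint_of_finite X
  tfae_have 1 → 3 := fun h => ⟨a_to_dim X h, by
    have := a_to_b X h
    exact Set.toFinite _⟩
  tfae_have 3 → 2 := fun h => c_to_b X h.1 h.2
  tfae_finish

end H4880

/-- For a Noetherian irreducible scheme X the following are equivalent: a) the generic point of X is an
isolated point; b) the underlying set of X is finite; c) X has dimension at most 1 and finitely many
closed points. -/
theorem result (X : Scheme.{u}) [IsNoetherian X]
    [IrreducibleSpace X] :
    [IsOpen ({genericPoint X} : Set X),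
      Finite X,
      topologicalKrullDim X ≤ 1 ∧ {x : X | IsClosed ({x} : Set X)}.Finite].TFAE := by
  exact H4880.main X

end Groth.Agent.S4880
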