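import Groth.Statements.S4882
import Mathlib
import Groth.Agent.Lib.Helper4.QuasiConstructible

set_option autoImplicit false
universe u
open EGA43

namespace Groth.Agent.S4882

/-- Let X be a Jacobson space and Z a locally quasi-constructible subset of X, i.e. every point of X has
an open neighbourhood U such that U ∩ Z is a finite union of locally closed subsets of X. Then the
subspace Z is a Jacobson space, and a point of Z is closed in Z if and only if it is closed in X. -/
theorem result {X : Type u} [TopologicalSpace X] [JacobsonSpace X]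
    (Z : Set X)
    (hZ : ∀ x : X, ∃ U : Set X, IsOpen U ∧ x ∈ U ∧
      ∃ T : Set (Set X), T.Finite ∧ (∀ t ∈ T, IsLocallyClosed t) ∧ U ∩ Z = ⋃₀ T) :
    JacobsonSpace ↥Z ∧ ∀ z : ↥Z, IsClosed ({z} : Set ↥Z) ↔ IsClosed ({(z : X)} : Set X) := by
  have hZ' : Groth.Agent.Helper4.IsLQC Z := hZ
  have hvd : Groth.Agent.Helper4.IsVeryDense (closedPoints X) := fun W hW hne =>
    nonempty_inter_closedPoints hne hW
  have hback : ∀ z : ↥Z, IsClosed ({(z : X)} : Set X) → IsClosed ({z} : Set ↥Z) := by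
    intro z hz
    have : ({z} : Set ↥Z) = Subtype.val ⁻¹' {(z : X)} := by
      ext w
      simp only [Set.mem_singleton_iff, Set.mem_preimage]
      exact ⟨fun h => by rw [h], fun h => Subtype.ext h⟩
    rw [this]
    exact hz.preimage continuous_subtype_val
  have hforw : ∀ z : ↥Z, IsClosed ({z} : Set ↥Z) → IsClosed ({(z : X)} : Set X) := by
    intro z hz
    have h1 : Z ∩ closure {(z : X)} = {(z : X)} := by
      apply Set.Subset.antisymm
      · rintro w ⟨hwZ, hwc⟩
        have h2 : (⟨w, hwZ⟩ : ↥Z) ∈ closure ({z} : Set ↥Z) := by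
          rw [closure_subtype]
          simpa using hwc
        rw [hz.closure_eq, Set.mem_singleton_iff] at h2
        rw [Set.mem_singleton_iff, ← h2]
      · rintro w rfl
        exact ⟨z.2, subset_closure rfl⟩
    have h3 : Groth.Agent.Helper4.IsLQC (Z ∩ closure {(z : X)}) :=
      hZ'.inter (Groth.Agent.Helper4.IsLQC.of_isClosed isClosed_closure)
    obtain ⟨y, hy, hyc⟩ := hvd.inter_nonempty_of_isLQC h3 ⟨(z : X), z.2, subset_closure rfl⟩
    rw [h1, Set.mem_singleton_iff] at hy
    rw [hy] at hyc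
    exact hyc
  refine ⟨?_, fun z => ⟨hforw z, hback z⟩⟩
  rw [jacobsonSpace_iff_locallyClosed]
  intro W hWne hW
  obtain ⟨W', hW', rfl⟩ := (Topology.IsInducing.subtypeVal.isLocallyClosed_iff).1 hW
  obtain ⟨w, hw⟩ := hWne
  have h3 : Groth.Agent.Helper4.IsLQC (W' ∩ Z) :=
    (Groth.Agent.Helper4.IsLQC.of_isLocallyClosed hW').inter hZ'
  obtain ⟨y, ⟨hyW, hyZ⟩, hyc⟩ := hvd.inter_nonempty_of_isLQC h3 ⟨(w : X), hw, w.2⟩
  exact ⟨⟨y, hyZ⟩, hyW, hback ⟨y, hyZ⟩ hyc⟩

end Groth.Agent.S4882
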