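import Groth.Statements.S4883
import Mathlib
import Groth.Agent.Lib.Helper4.OpenGen
import Mathlib

set_option autoImplicit false
universe u
open CategoryTheory AlgebraicGeometry
open EGA43

namespace Groth.Agent.S4883

open CategoryTheory AlgebraicGeometry

namespace H4883
open Groth.Agent.Helper4.OpenGen

theorem main (X : Scheme.{u}) [IsNoetherian X]
    (Z : Set X) (hZ : IsLocallyClosed Z) (hne : Z.Nonempty) :
    ∃ x ∈ Z, (closure ({x} : Set X)).Finite := by
  obtain ⟨U₀, F, hU₀, hF, rfl⟩ := hZ
  -- minimal closure among points of Z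
  let 𝒮 : Set (TopologicalSpace.Closeds X) :=
    {C | ∃ z ∈ U₀ ∩ F, C = ⟨closure {z}, isClosed_closure⟩}
  have h𝒮 : 𝒮.Nonempty := by
    obtain ⟨z, hz⟩ := hne
    exact ⟨_, z, hz, rfl⟩
  obtain ⟨C, ⟨x, hx, rfl⟩, hmin⟩ := WellFounded.has_min
    (wellFounded_lt (α := TopologicalSpace.Closeds X)) 𝒮 h𝒮
  refine ⟨x, hx, ?_⟩
  apply finite_closure x U₀ hU₀
  apply Set.Subset.antisymm
  · rintro t ⟨ht1, ht2⟩
    have htF : t ∈ F := hF.closure_subset_iff.mpr (Set.singleton_subset_iff.mpr hx.2) ht2
    have hle : closure ({t} : Set X) ⊆ closure {x} :=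
      isClosed_closure.closure_subset_iff.mpr (Set.singleton_subset_iff.mpr ht2)
    have hnlt := hmin ⟨closure {t}, isClosed_closure⟩ ⟨t, ⟨ht1, htF⟩, rfl⟩
    have heq : closure ({t} : Set X) = closure {x} := by
      by_contra hne'
      apply hnlt
      exact lt_of_le_of_ne hle (fun e => hne' (congrArg TopologicalSpace.Closeds.carrier e))
    have : Inseparable t x := inseparable_iff_closure_eq.mpr heq
    exact this.eq
  · rintro t rfl
    exact ⟨hx.1, subset_closure rfl⟩

end H4883

/-- Let X be a Noetherian scheme. Then the set of points x of X whose closure is finite is very dense in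
X: every nonempty locally closed subset of X contains a point with finite closure. -/
theorem result (X : Scheme.{u}) [IsNoetherian X]
    (Z : Set X) (hZ : IsLocallyClosed Z) (hne : Z.Nonempty) :
    ∃ x ∈ Z, (closure ({x} : Set X)).Finite := by
  exact H4883.main X Z hZ hne

end Groth.Agent.S4883
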