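import Groth.Statements.S4891
import Mathlib
import Groth.Agent.Lib.Helper1.LocalCrit
import Mathlib

set_option autoImplicit false
universe u
open TensorProduct
open EGA43

namespace Groth.Agent.S4891

open TensorProduct

namespace H4891

variable {A B : Type u} [CommRing A] [CommRing B] [Algebra A B]
    (J : Ideal A) (M : Type u) [AddCommGroup M] [Module B M] [Module A M] [IsScalarTower A B M]

/-- the comparison map `J ⊗[A] M → JB ⊗[B] M` -/
noncomputable def psi : J ⊗[A] M →+ (J.map (algebraMap A B) : Ideal B) ⊗[B] M :=
  TensorProduct.liftAddHom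
    { toFun := fun j => (TensorProduct.mk B (J.map (algebraMap A B) : Ideal B) M
        ⟨algebraMap A B j, Ideal.mem_map_of_mem _ j.2⟩).toAddMonoidHom
      map_zero' := by
        ext m
        simp only [LinearMap.toAddMonoidHom_coe, TensorProduct.mk_apply, AddMonoidHom.zero_apply]
        have : (⟨algebraMap A B ((0 : J) : A), Ideal.mem_map_of_mem _ (0 : J).2⟩ :
            (J.map (algebraMap A B) : Ideal B)) = 0 := by
          ext; simp
        rw [this, TensorProduct.zero_tmul]
      map_add' := by
        intro x y
        ext m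
        simp only [LinearMap.toAddMonoidHom_coe, TensorProduct.mk_apply, AddMonoidHom.add_apply]
        rw [← TensorProduct.add_tmul]
        congr 1
        ext; simp }
    (by
      intro a j m
      simp only [AddMonoidHom.coe_mk, ZeroHom.coe_mk, LinearMap.toAddMonoidHom_coe,
        TensorProduct.mk_apply]
      have : (⟨algebraMap A B ((a • j : J) : A), Ideal.mem_map_of_mem _ (a • j : J).2⟩ :
          (J.map (algebraMap A B) : Ideal B)) =
          algebraMap A B a • ⟨algebraMap A B j, Ideal.mem_map_of_mem _ j.2⟩ := by
        ext; simp [Algebra.smul_def]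
      rw [this, TensorProduct.smul_tmul, algebraMap_smul])

lemma psi_tmul (j : J) (m : M) :
    psi J M (j ⊗ₜ m) = (⟨algebraMap A B j, Ideal.mem_map_of_mem _ j.2⟩ :
      (J.map (algebraMap A B) : Ideal B)) ⊗ₜ[B] m := rfl

lemma psi_surj : Function.Surjective (psi (B := B) J M) := by
  intro x
  have key : ∀ (k : B) (hk : k ∈ J.map (algebraMap A B)) (m : M),
      ((⟨k, hk⟩ : (J.map (algebraMap A B) : Ideal B)) ⊗ₜ[B] m) ∈ (psi (B := B) J M).range := by
    intro k hk
    induction hk using Submodule.span_induction with
    | mem k hk =>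
      obtain ⟨j, hj, rfl⟩ := hk
      intro m
      exact ⟨(⟨j, hj⟩ : J) ⊗ₜ m, rfl⟩
    | zero =>
      intro m
      have : (⟨0, Submodule.zero_mem _⟩ : (J.map (algebraMap A B) : Ideal B)) = 0 := rfl
      rw [this, TensorProduct.zero_tmul]
      exact zero_mem _
    | add x y hx hy ihx ihy =>
      intro m
      have : (⟨x + y, Submodule.add_mem _ hx hy⟩ : (J.map (algebraMap A B) : Ideal B)) =
          ⟨x, hx⟩ + ⟨y, hy⟩ := rfl
      rw [this, TensorProduct.add_tmul]
      exact add_mem (ihx m) (ihy m)
    | smul b x hx ihx =>
      intro m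
      have : (⟨b • x, Submodule.smul_mem _ b hx⟩ : (J.map (algebraMap A B) : Ideal B)) =
          b • ⟨x, hx⟩ := rfl
      rw [this, TensorProduct.smul_tmul]
      exact ihx (b • m)
  induction x using TensorProduct.induction_on with
  | zero => exact ⟨0, map_zero _⟩
  | tmul k m => exact key k.1 k.2 m
  | add x y hx hy =>
    obtain ⟨x', rfl⟩ := hx
    obtain ⟨y', rfl⟩ := hy
    exact ⟨x' + y', map_add _ _ _⟩

lemma psi_comp (y : J ⊗[A] M) :
    TensorProduct.lid B M (((J.map (algebraMap A B) : Ideal B).subtype.rTensor M) (psi J M y)) =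
      TensorProduct.lid A M (J.subtype.rTensor M y) := by
  induction y using TensorProduct.induction_on with
  | zero => simp
  | tmul j m => simp [psi_tmul]
  | add x y hx hy => simp only [map_add, hx, hy]

lemma h1 [Module.Flat A M] :
    Function.Injective ((J.map (algebraMap A B) : Ideal B).subtype.rTensor M) := by
  rw [injective_iff_map_eq_zero]
  intro x hx
  obtain ⟨y, rfl⟩ := psi_surj (B := B) J M x
  have h2 := psi_comp (B := B) J M y
  rw [hx, map_zero] at h2
  have h3 : J.subtype.rTensor M y = 0 := by
    apply (TensorProduct.lid A M).injective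
    rw [← h2, map_zero]
  have h4 : y = 0 := by
    apply Module.Flat.rTensor_preserves_injective_linearMap (M := M) J.subtype
      Subtype.val_injective
    rw [h3, map_zero]
  rw [h4, map_zero]

theorem main (hJ : IsNilpotent J)
    (hc1 : Module.Flat A M)
    (hc2 : Module.Flat (B ⧸ J.map (algebraMap A B)) ((B ⧸ J.map (algebraMap A B)) ⊗[B] M))
    (hd2 : ∀ m : Ideal B, m.IsMaximal → J.map (algebraMap A B) ≤ m → (m • (⊤ : Submodule B M)) ≠ ⊤) :
    Module.Flat A B := by
  obtain ⟨n, hn⟩ := hJ
  have hKn : (J.map (algebraMap A B)) ^ n = ⊥ := by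
    rw [← Ideal.map_pow, hn, Ideal.zero_eq_bot, Ideal.map_bot]
  have hflat : Module.Flat B M :=
    Groth.Agent.Helper1.LocalCrit.flat_of_rTensor_injective_of_flat_quotient_of_pow_eq_bot
      (J.map (algebraMap A B)) M (h1 J M) n hKn
  have hff : Module.FaithfullyFlat B M := by
    refine ⟨fun m hm => hd2 m hm ?_⟩
    have := hm.isPrime
    exact Ideal.IsPrime.le_of_pow_le (n := n) (hKn ▸ bot_le)
  rw [Module.Flat.iff_lTensor_injective']
  intro I
  rw [← LinearMap.baseChange_eq_ltensor]
  rw [← Module.FaithfullyFlat.lTensor_injective_iff_injective B M]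
  have sq : ∀ x, AlgebraTensorModule.cancelBaseChange A B B M A
      ((I.subtype.baseChange B).lTensor M x) =
      I.subtype.lTensor M (AlgebraTensorModule.cancelBaseChange A B B M I x) := by
    intro x
    induction x using TensorProduct.induction_on with
    | zero => simp
    | tmul m y =>
      induction y using TensorProduct.induction_on with
      | zero => simp
      | tmul b i => simp
      | add y z hy hz => simp only [tmul_add, map_add, hy, hz]
    | add x y hx hy => simp only [map_add, hx, hy]
  intro x y hxy
  have h5 := congrArg (AlgebraTensorModule.cancelBaseChange A B B M A) hxy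
  rw [sq, sq] at h5
  have h6 := Module.Flat.lTensor_preserves_injective_linearMap (M := M) I.subtype
    Subtype.val_injective h5
  exact (AlgebraTensorModule.cancelBaseChange A B B M I).injective h6

end H4891

/-- Let A be a commutative ring, J a nilpotent ideal of A, B a commutative A-algebra and M a B-module.
If M is flat over A, M/JM is flat over B/JB, B/JB is flat over A/J and mM ≠ M for every maximal
ideal m of B containing JB, then B is flat over A. (Under the first two hypotheses M is also flat
over B; that implication is stated elsewhere and not repeated here.) -/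
theorem result {A B : Type u} [CommRing A] [CommRing B] [Algebra A B]
    (J : Ideal A) (hJ : IsNilpotent J) (M : Type u) [AddCommGroup M] [Module B M] [Module A M] [IsScalarTower A B M]
    (hc1 : Module.Flat A M)
    (hc2 : Module.Flat (B ⧸ J.map (algebraMap A B)) ((B ⧸ J.map (algebraMap A B)) ⊗[B] M))
    (hd1 : Module.Flat (A ⧸ J) ((A ⧸ J) ⊗[A] B))
    (hd2 : ∀ m : Ideal B, m.IsMaximal → J.map (algebraMap A B) ≤ m → (m • (⊤ : Submodule B M)) ≠ ⊤) :
    Module.Flat A B := by
  exact H4891.main J M hJ hc1 hc2 hd2

end Groth.Agent.S4891
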