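import Groth.Statements.S4893
import Mathlib
import Groth.Agent.Lib.Helper4.QuasiConstructible

set_option autoImplicit false
universe u
open EGA43

namespace Groth.Agent.S4893

/-- Let f : X → Y be a quasi-homeomorphism (continuous, with U ↦ f⁻¹(U) a bijection from the open
subsets of Y onto the open subsets of X) and Y' a locally quasi-constructible subset of Y. Then the
restriction f⁻¹(Y') → Y' of f is a quasi-homeomorphism. -/
theorem result {X Y : Type u} [TopologicalSpace X]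
    [TopologicalSpace Y] (f : X → Y) (hf : Continuous f)
    (hq : ((∀ U₁ U₂ : Set Y, IsOpen U₁ → IsOpen U₂ → (f) ⁻¹' U₁ = (f) ⁻¹' U₂ → U₁ = U₂) ∧ (∀ V : Set X, IsOpen V → ∃ U : Set Y, IsOpen U ∧ (f) ⁻¹' U = V)))
    (Y' : Set Y) (hY' : (∀ y : Y, ∃ U : Set Y, IsOpen U ∧ y ∈ U ∧ ∃ T : Set (Set Y), T.Finite ∧ (∀ t ∈ T, IsLocallyClosed t) ∧ U ∩ Y' = ⋃₀ T)) :
    ((∀ U₁ U₂ : Set ↥Y', IsOpen U₁ → IsOpen U₂ → (Y'.restrictPreimage f) ⁻¹' U₁ = (Y'.restrictPreimage f) ⁻¹' U₂ → U₁ = U₂) ∧ (∀ V : Set ↥(f ⁻¹' Y'), IsOpen V → ∃ U : Set ↥Y', IsOpen U ∧ (Y'.restrictPreimage f) ⁻¹' U = V)) := by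
  have hY'' : Groth.Agent.Helper4.IsLQC Y' := hY'
  constructor
  · intro U₁ U₂ hU₁ hU₂ hU
    obtain ⟨V₁, hV₁, rfl⟩ := isOpen_induced_iff.1 hU₁
    obtain ⟨V₂, hV₂, rfl⟩ := isOpen_induced_iff.1 hU₂
    have hZ₁ : Groth.Agent.Helper4.IsLQC (V₁ ∩ Y') :=
      (Groth.Agent.Helper4.IsLQC.of_isOpen hV₁).inter hY''
    have hZ₂ : Groth.Agent.Helper4.IsLQC (V₂ ∩ Y') :=
      (Groth.Agent.Helper4.IsLQC.of_isOpen hV₂).inter hY''
    have hpre : f ⁻¹' (V₁ ∩ Y') = f ⁻¹' (V₂ ∩ Y') := by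
      ext x
      simp only [Set.mem_preimage, Set.mem_inter_iff]
      constructor
      · rintro ⟨h1, h2⟩
        have : (⟨x, h2⟩ : ↥(f ⁻¹' Y')) ∈ (Y'.restrictPreimage f) ⁻¹' (Subtype.val ⁻¹' V₁) := h1
        rw [hU] at this
        exact ⟨this, h2⟩
      · rintro ⟨h1, h2⟩
        have : (⟨x, h2⟩ : ↥(f ⁻¹' Y')) ∈ (Y'.restrictPreimage f) ⁻¹' (Subtype.val ⁻¹' V₂) := h1
        rw [← hU] at this
        exact ⟨this, h2⟩
    have hZ := Groth.Agent.Helper4.eq_of_preimage_eq_of_quasiHomeo f hq.1 hZ₁ hZ₂ hpre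
    ext y
    simp only [Set.mem_preimage]
    constructor
    · intro hy
      have : (y : Y) ∈ V₁ ∩ Y' := ⟨hy, y.2⟩
      rw [hZ] at this; exact this.1
    · intro hy
      have : (y : Y) ∈ V₂ ∩ Y' := ⟨hy, y.2⟩
      rw [← hZ] at this; exact this.1
  · intro V hV
    obtain ⟨V', hV', rfl⟩ := isOpen_induced_iff.1 hV
    obtain ⟨U, hU, hUV⟩ := hq.2 V' hV'
    refine ⟨Subtype.val ⁻¹' U, hU.preimage continuous_subtype_val, ?_⟩
    ext x
    simp only [Set.mem_preimage, Set.restrictPreimage_coe]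
    have : (x : X) ∈ f ⁻¹' U ↔ (x : X) ∈ V' := by rw [hUV]
    exact this

end Groth.Agent.S4893
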