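import Groth.Statements.S4894
import Mathlib

set_option autoImplicit false
universe u
open EGA43

namespace Groth.Agent.S4894

/-- Let f : X → Y be continuous and (W_i) an open covering of Y such that every restriction f⁻¹(W_i) →
W_i is a quasi-homeomorphism (taking preimages is a bijection on open subsets). Then f is a
quasi-homeomorphism. -/
theorem result {X Y : Type u} [TopologicalSpace X]
    [TopologicalSpace Y] (f : X → Y) (hf : Continuous f) {ι : Type u} (W : ι → Set Y)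
    (hWo : ∀ i, IsOpen (W i)) (hWc : ⋃ i, W i = Set.univ)
    (h : ∀ i, ((∀ U₁ U₂ : Set ↥(W i), IsOpen U₁ → IsOpen U₂ → ((W i).restrictPreimage f) ⁻¹' U₁ = ((W i).restrictPreimage f) ⁻¹' U₂ → U₁ = U₂) ∧ (∀ V : Set ↥(f ⁻¹' W i), IsOpen V → ∃ U : Set ↥(W i), IsOpen U ∧ ((W i).restrictPreimage f) ⁻¹' U = V))) :
    ((∀ U₁ U₂ : Set Y, IsOpen U₁ → IsOpen U₂ → (f) ⁻¹' U₁ = (f) ⁻¹' U₂ → U₁ = U₂) ∧ (∀ V : Set X, IsOpen V → ∃ U : Set Y, IsOpen U ∧ (f) ⁻¹' U = V)) := by
  have hcov : ∀ y : Y, ∃ i, y ∈ W i := by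
    intro y
    have : y ∈ ⋃ i, W i := by rw [hWc]; trivial
    exact Set.mem_iUnion.1 this
  constructor
  · intro U₁ U₂ hU₁ hU₂ hU
    ext y
    obtain ⟨i, hi⟩ := hcov y
    have key := (h i).1 (Subtype.val ⁻¹' U₁) (Subtype.val ⁻¹' U₂)
      (hU₁.preimage continuous_subtype_val) (hU₂.preimage continuous_subtype_val) (by
        ext x
        simp only [Set.mem_preimage, Set.restrictPreimage_coe]
        have h1 : (x : X) ∈ f ⁻¹' U₁ ↔ (x : X) ∈ f ⁻¹' U₂ := by rw [hU]
        exact h1)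
    have := congrArg (fun S : Set ↥(W i) => (⟨y, hi⟩ : ↥(W i)) ∈ S) key
    simpa using this
  · intro V hV
    have hex : ∀ i, ∃ A : Set ↥(W i), IsOpen A ∧
        ((W i).restrictPreimage f) ⁻¹' A = Subtype.val ⁻¹' V := fun i =>
      (h i).2 (Subtype.val ⁻¹' V) (hV.preimage continuous_subtype_val)
    choose A hAo hA using hex
    refine ⟨⋃ i, Subtype.val '' (A i), isOpen_iUnion fun i =>
      (hWo i).isOpenMap_subtype_val _ (hAo i), ?_⟩
    ext x
    simp only [Set.mem_preimage, Set.mem_iUnion, Set.mem_image, Subtype.exists, exists_and_right,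
      exists_eq_right]
    constructor
    · rintro ⟨i, hxi, hxA⟩
      have : (⟨x, hxi⟩ : ↥(f ⁻¹' W i)) ∈ ((W i).restrictPreimage f) ⁻¹' (A i) := hxA
      rw [hA i] at this
      exact this
    · intro hxV
      obtain ⟨i, hi⟩ := hcov (f x)
      refine ⟨i, hi, ?_⟩
      have : (⟨x, hi⟩ : ↥(f ⁻¹' W i)) ∈ Subtype.val ⁻¹' V := hxV
      rw [← hA i] at this
      exact this

end Groth.Agent.S4894
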