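import Groth.Statements.S4897
import Mathlib
import Groth.Agent.Lib.Helper4.QuasiHomeo

set_option autoImplicit false
universe u
open EGA43

namespace Groth.Agent.S4897

/-- Let f : X → Y be a quasi-homeomorphism, i.e. a continuous map such that U ↦ f⁻¹(U) is a bijection
from the open subsets of Y onto the open subsets of X. Then Z ↦ f⁻¹(Z) induces bijections from the
locally closed (resp. constructible, resp. locally constructible) subsets of Y onto those of X. -/
theorem result {X Y : Type u}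
    [TopologicalSpace X] [TopologicalSpace Y] (f : X → Y) (hf : Continuous f)
    (hq : Function.Bijective (fun U : TopologicalSpace.Opens Y =>
      (⟨f ⁻¹' (U : Set Y), U.isOpen.preimage hf⟩ : TopologicalSpace.Opens X))) :
    Function.Bijective (fun Z : {Z : Set Y // IsLocallyClosed Z} =>
        (⟨f ⁻¹' Z.1, Z.2.preimage hf⟩ : {Z : Set X // IsLocallyClosed Z})) ∧
      Set.BijOn (fun Z : Set Y => f ⁻¹' Z) {Z | Topology.IsConstructible Z} {Z | Topology.IsConstructible Z} ∧
      Set.BijOn (fun Z : Set Y => f ⁻¹' Z) {Z | Topology.IsLocallyConstructible Z}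
        {Z | Topology.IsLocallyConstructible Z} := by
  have hqh : Groth.Agent.Helper4.IsQuasiHomeo f := Groth.Agent.Helper4.IsQuasiHomeo.of_opens f hf hq
  refine ⟨⟨?_, ?_⟩, ⟨?_, ?_, ?_⟩, ⟨?_, ?_, ?_⟩⟩
  · rintro ⟨Z, hZ⟩ ⟨Z', hZ'⟩ h
    have h' : f ⁻¹' Z = f ⁻¹' Z' := congrArg Subtype.val h
    exact Subtype.ext (hqh.eq_of_preimage_eq (Groth.Agent.Helper4.IsLQC.of_isLocallyClosed hZ)
      (Groth.Agent.Helper4.IsLQC.of_isLocallyClosed hZ') h')
  · rintro ⟨W, hW⟩
    obtain ⟨Z, hZ, hZW⟩ := hqh.exists_isLocallyClosed_preimage_eq hW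
    exact ⟨⟨Z, hZ⟩, Subtype.ext hZW⟩
  · intro Z hZ
    exact hqh.isConstructible_preimage hZ
  · intro Z hZ Z' hZ' h
    exact hqh.eq_of_preimage_eq (Topology.IsConstructible.isQC' hZ).isLQC
      (Topology.IsConstructible.isQC' hZ').isLQC h
  · intro W hW
    obtain ⟨Z, hZ, hZW⟩ := hqh.exists_isConstructible_preimage_eq hW
    exact ⟨Z, hZ, hZW⟩
  · intro Z hZ
    exact hqh.isLocallyConstructible_preimage hZ
  · intro Z hZ Z' hZ' h
    exact hqh.eq_of_preimage_eq (Topology.IsLocallyConstructible.isLQC' hZ)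
      (Topology.IsLocallyConstructible.isLQC' hZ') h
  · intro W hW
    obtain ⟨Z, hZ, hZW⟩ := hqh.exists_isLocallyConstructible_preimage_eq hW
    exact ⟨Z, hZ, hZW⟩

end Groth.Agent.S4897
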