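import Groth.Statements.S4903
import Mathlib
import Groth.Agent.Lib.Helper4.QuasiConstructible

set_option autoImplicit false
universe u
open EGA43

namespace Groth.Agent.S4903

/-- Conditions a), b), b′), c″), c‴) and its last assertion: given a topological space X and a subset X₀
⊆ X, the statements below are equivalent. Every locally closed subset of X that is nonempty
intersects X₀. Every nonempty locally quasi-constructible subset of X intersects X₀; here a subset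
is locally quasi-constructible when each point of X has an open neighbourhood on which the subset's
trace can be written as a union of finitely many locally closed sets. Each locally
quasi-constructible Z ⊆ X is contained in the closure of Z ∩ X₀. Any two quasi-constructible subsets
of X (unions of finitely many locally closed sets) having equal traces on X₀ coincide. Any two
locally quasi-constructible subsets of X having equal traces on X₀ coincide. Assuming these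
conditions, each locally quasi-constructible subset of the subspace X₀ arises as the trace on X₀ of
some locally quasi-constructible subset of X. -/
theorem result {X : Type u} [TopologicalSpace X] (X₀ : Set X) :
    [∀ Z : Set X, IsLocallyClosed Z → Z.Nonempty → (Z ∩ X₀).Nonempty,
      ∀ Z : Set X, (∀ x : X, ∃ U : Set X, IsOpen U ∧ x ∈ U ∧ ∃ T : Set (Set X), T.Finite ∧ (∀ t ∈ T, IsLocallyClosed t) ∧ U ∩ Z = ⋃₀ T) → Z.Nonempty → (Z ∩ X₀).Nonempty,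
      ∀ Z : Set X, (∀ x : X, ∃ U : Set X, IsOpen U ∧ x ∈ U ∧ ∃ T : Set (Set X), T.Finite ∧ (∀ t ∈ T, IsLocallyClosed t) ∧ U ∩ Z = ⋃₀ T) → Z ⊆ closure (Z ∩ X₀),
      ∀ Z Z' : Set X, (∃ T : Set (Set X), T.Finite ∧ (∀ t ∈ T, IsLocallyClosed t) ∧ Z = ⋃₀ T) → (∃ T : Set (Set X), T.Finite ∧ (∀ t ∈ T, IsLocallyClosed t) ∧ Z' = ⋃₀ T) → Z ∩ X₀ = Z' ∩ X₀ → Z = Z',
      ∀ Z Z' : Set X, (∀ x : X, ∃ U : Set X, IsOpen U ∧ x ∈ U ∧ ∃ T : Set (Set X), T.Finite ∧ (∀ t ∈ T, IsLocallyClosed t) ∧ U ∩ Z = ⋃₀ T) → (∀ x : X, ∃ U : Set X, IsOpen U ∧ x ∈ U ∧ ∃ T : Set (Set X), T.Finite ∧ (∀ t ∈ T, IsLocallyClosed t) ∧ U ∩ Z' = ⋃₀ T) → Z ∩ X₀ = Z' ∩ X₀ → Z = Z'].TFAE ∧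
    ((∀ Z : Set X, IsLocallyClosed Z → Z.Nonempty → (Z ∩ X₀).Nonempty) →
      ∀ Z₀ : Set ↥X₀, (∀ x : ↥X₀, ∃ U : Set ↥X₀, IsOpen U ∧ x ∈ U ∧ ∃ T : Set (Set ↥X₀), T.Finite ∧ (∀ t ∈ T, IsLocallyClosed t) ∧ U ∩ Z₀ = ⋃₀ T) →
        ∃ Z : Set X, (∀ x : X, ∃ U : Set X, IsOpen U ∧ x ∈ U ∧ ∃ T : Set (Set X), T.Finite ∧ (∀ t ∈ T, IsLocallyClosed t) ∧ U ∩ Z = ⋃₀ T) ∧ Subtype.val ⁻¹' Z = Z₀) := by
  have hTFAE : [∀ Z : Set X, IsLocallyClosed Z → Z.Nonempty → (Z ∩ X₀).Nonempty,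
      ∀ Z : Set X, (∀ x : X, ∃ U : Set X, IsOpen U ∧ x ∈ U ∧ ∃ T : Set (Set X), T.Finite ∧ (∀ t ∈ T, IsLocallyClosed t) ∧ U ∩ Z = ⋃₀ T) → Z.Nonempty → (Z ∩ X₀).Nonempty,
      ∀ Z : Set X, (∀ x : X, ∃ U : Set X, IsOpen U ∧ x ∈ U ∧ ∃ T : Set (Set X), T.Finite ∧ (∀ t ∈ T, IsLocallyClosed t) ∧ U ∩ Z = ⋃₀ T) → Z ⊆ closure (Z ∩ X₀),
      ∀ Z Z' : Set X, (∃ T : Set (Set X), T.Finite ∧ (∀ t ∈ T, IsLocallyClosed t) ∧ Z = ⋃₀ T) → (∃ T : Set (Set X), T.Finite ∧ (∀ t ∈ T, IsLocallyClosed t) ∧ Z' = ⋃₀ T) → Z ∩ X₀ = Z' ∩ X₀ → Z = Z',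
      ∀ Z Z' : Set X, (∀ x : X, ∃ U : Set X, IsOpen U ∧ x ∈ U ∧ ∃ T : Set (Set X), T.Finite ∧ (∀ t ∈ T, IsLocallyClosed t) ∧ U ∩ Z = ⋃₀ T) → (∀ x : X, ∃ U : Set X, IsOpen U ∧ x ∈ U ∧ ∃ T : Set (Set X), T.Finite ∧ (∀ t ∈ T, IsLocallyClosed t) ∧ U ∩ Z' = ⋃₀ T) → Z ∩ X₀ = Z' ∩ X₀ → Z = Z'].TFAE := by
    tfae_have 1 → 2 := by
      intro h Z hZ hne
      exact Groth.Agent.Helper4.IsVeryDense.inter_nonempty_of_isLQC h hZ hne
    tfae_have 2 → 3 := by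
      intro h Z hZ x hx
      rw [mem_closure_iff]
      intro V hV hxV
      have hVZ : Groth.Agent.Helper4.IsLQC (V ∩ Z) :=
        (Groth.Agent.Helper4.IsLQC.of_isOpen hV).inter hZ
      obtain ⟨y, ⟨hyV, hyZ⟩, hy0⟩ := h (V ∩ Z) hVZ ⟨x, hxV, hx⟩
      exact ⟨y, hyV, hyZ, hy0⟩
    tfae_have 3 → 5 := by
      intro h Z Z' hZ hZ' hZZ'
      have key : ∀ {A B : Set X}, Groth.Agent.Helper4.IsLQC A → Groth.Agent.Helper4.IsLQC B →
          A ∩ X₀ = B ∩ X₀ → A ⊆ B := by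
        intro A B hA hB hAB x hxA
        by_contra hxB
        have h1 := h (A \ B) (hA.diff hB) ⟨hxA, hxB⟩
        have h2 : (A \ B) ∩ X₀ = ∅ := by
          ext y
          simp only [Set.mem_inter_iff, Set.mem_diff, Set.mem_empty_iff_false, iff_false]
          rintro ⟨⟨hyA, hyB⟩, hy0⟩
          have : y ∈ B ∩ X₀ := by rw [← hAB]; exact ⟨hyA, hy0⟩
          exact hyB this.1
        rw [h2, closure_empty] at h1
        exact h1
      exact Set.Subset.antisymm (key hZ hZ' hZZ') (key hZ' hZ hZZ'.symm)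
    tfae_have 5 → 4 := by
      intro h Z Z' hZ hZ' hZZ'
      exact h Z Z' (Groth.Agent.Helper4.IsQC.isLQC hZ) (Groth.Agent.Helper4.IsQC.isLQC hZ') hZZ'
    tfae_have 4 → 1 := by
      intro h Z hZ hne
      by_contra hemp
      rw [Set.not_nonempty_iff_eq_empty] at hemp
      have := h Z ∅ (Groth.Agent.Helper4.IsQC.of_isLocallyClosed hZ) Groth.Agent.Helper4.IsQC.empty
        (by rw [hemp, Set.empty_inter])
      rw [this] at hne
      exact Set.not_nonempty_empty hne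
    tfae_finish
  refine ⟨hTFAE, ?_⟩
  intro hvd Z₀ hZ₀
  have hvd' : Groth.Agent.Helper4.IsVeryDense X₀ := hvd
  -- local data
  have hloc : ∀ x : ↥X₀, ∃ (U : Set X) (Zt : Set X), IsOpen U ∧ (x : X) ∈ U ∧
      Groth.Agent.Helper4.IsQC Zt ∧ Zt ⊆ U ∧ Subtype.val ⁻¹' Zt = (Subtype.val ⁻¹' U) ∩ Z₀ := by
    intro x
    obtain ⟨U₀, hU₀, hxU₀, hQ⟩ := hZ₀ x
    obtain ⟨U, hU, rfl⟩ := isOpen_induced_iff.1 hU₀
    obtain ⟨Z', hZ', hZ'eq⟩ := Groth.Agent.Helper4.IsQC.exists_of_subtype hQ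
    refine ⟨U, U ∩ Z', hU, hxU₀, (Groth.Agent.Helper4.IsQC.of_isOpen hU).inter hZ',
      Set.inter_subset_left, ?_⟩
    rw [Set.preimage_inter, hZ'eq]
    ext y
    simp only [Set.mem_inter_iff, Set.mem_preimage]
    tauto
  choose U Zt hUo hxU hZt hZtU hZteq using hloc
  -- compatibility on overlaps
  have hcompat : ∀ x y : ↥X₀, Zt x ∩ U y = Zt y ∩ U x := by
    intro x y
    apply hvd'.eq_of_isLQC
      ((hZt x).inter (Groth.Agent.Helper4.IsQC.of_isOpen (hUo y))).isLQC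
      ((hZt y).inter (Groth.Agent.Helper4.IsQC.of_isOpen (hUo x))).isLQC
    ext z
    simp only [Set.mem_inter_iff]
    constructor
    · rintro ⟨⟨hzx, hzUy⟩, hz0⟩
      have h1 : (⟨z, hz0⟩ : ↥X₀) ∈ Subtype.val ⁻¹' Zt x := hzx
      rw [hZteq x] at h1
      have h2 : (⟨z, hz0⟩ : ↥X₀) ∈ (Subtype.val ⁻¹' U y) ∩ Z₀ := ⟨hzUy, h1.2⟩
      rw [← hZteq y] at h2
      exact ⟨⟨h2, h1.1⟩, hz0⟩
    · rintro ⟨⟨hzy, hzUx⟩, hz0⟩
      have h1 : (⟨z, hz0⟩ : ↥X₀) ∈ Subtype.val ⁻¹' Zt y := hzy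
      rw [hZteq y] at h1
      have h2 : (⟨z, hz0⟩ : ↥X₀) ∈ (Subtype.val ⁻¹' U x) ∩ Z₀ := ⟨hzUx, h1.2⟩
      rw [← hZteq x] at h2
      exact ⟨⟨h2, h1.1⟩, hz0⟩
  -- the union of the opens is everything
  have hcover : ∀ z : X, ∃ y : ↥X₀, z ∈ U y := by
    intro z
    by_contra hno
    push Not at hno
    have hcl : IsClosed (⋃ y, U y)ᶜ := (isOpen_iUnion hUo).isClosed_compl
    obtain ⟨w, hw, hw0⟩ := hvd _ hcl.isLocallyClosed ⟨z, by simpa using hno⟩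
    exact hw (Set.mem_iUnion.2 ⟨⟨w, hw0⟩, hxU ⟨w, hw0⟩⟩)
  refine ⟨⋃ x, Zt x, ?_, ?_⟩
  · intro z
    obtain ⟨y, hzy⟩ := hcover z
    refine ⟨U y, hUo y, hzy, ?_⟩
    have : U y ∩ ⋃ x, Zt x = Zt y := by
      ext w
      simp only [Set.mem_inter_iff, Set.mem_iUnion]
      constructor
      · rintro ⟨hwU, x, hwx⟩
        have : w ∈ Zt x ∩ U y := ⟨hwx, hwU⟩
        rw [hcompat x y] at this
        exact this.1
      · intro hwy
        exact ⟨hZtU y hwy, y, hwy⟩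
    rw [this]
    exact hZt y
  · ext z
    simp only [Set.mem_preimage, Set.mem_iUnion]
    constructor
    · rintro ⟨x, hzx⟩
      have : z ∈ Subtype.val ⁻¹' Zt x := hzx
      rw [hZteq x] at this
      exact this.2
    · intro hz
      refine ⟨z, ?_⟩
      have : z ∈ (Subtype.val ⁻¹' U z) ∩ Z₀ := ⟨hxU z, hz⟩
      rw [← hZteq z] at this
      exact this

end Groth.Agent.S4903
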