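import Groth.Statements.S4914
import Mathlib

set_option autoImplicit false
open CategoryTheory AlgebraicGeometry
universe u v w
open EGA43

namespace Groth.Agent.S4914

/-- Let ψ : X → Y be a continuous map, x a point of X, and (Y_i) a locally finite covering of Y by
closed subsets. If for every index i with ψ x ∈ Y_i the restriction ψ⁻¹(Y_i) → Y_i of ψ is open at
x, then ψ is open at x. -/
theorem result {α : Type u} {β : Type v} {ι : Type w} [TopologicalSpace α]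
    [TopologicalSpace β] (ψ : α → β) (hψ : Continuous ψ) (x : α) (Y : ι → Set β) (hY : LocallyFinite Y)
    (hcl : ∀ i, IsClosed (Y i)) (hcov : ⋃ i, Y i = Set.univ)
    (h : ∀ i, ∀ hi : ψ x ∈ Y i, EGA43.IsOpenAt ((Y i).restrictPreimage ψ) ⟨x, hi⟩) :
    EGA43.IsOpenAt ψ x := by
  classical
  intro U hU
  -- a neighbourhood of `ψ x` meeting only those `Y i` which contain `ψ x`
  obtain ⟨W, hW, hWfin⟩ := hY (ψ x)
  set F : Set ι := {i | (Y i ∩ W).Nonempty} with hF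
  -- the bad indices
  have hbad : IsClosed (⋃ i ∈ {i ∈ F | ψ x ∉ Y i}, Y i) :=
    Set.Finite.isClosed_biUnion (hWfin.subset (fun i hi => hi.1)) (fun i _ => hcl i)
  have hW' : W \ (⋃ i ∈ {i ∈ F | ψ x ∉ Y i}, Y i) ∈ nhds (ψ x) := by
    refine Filter.inter_mem hW (hbad.isOpen_compl.mem_nhds ?_)
    simp only [Set.mem_compl_iff, Set.mem_iUnion, not_exists]
    rintro i ⟨_, hi2⟩ hi3
    exact hi2 hi3
  -- the good indices
  set G : Set ι := {i ∈ F | ψ x ∈ Y i} with hG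
  have hGfin : G.Finite := hWfin.subset (fun i hi => hi.1)
  have key : ∀ i ∈ G, ∃ V ∈ nhds (ψ x), V ∩ Y i ⊆ ψ '' U := by
    intro i hi
    have hi' : ψ x ∈ Y i := hi.2
    have h1 := h i hi' (Subtype.val ⁻¹' U) (by
      rw [mem_nhds_subtype]; exact ⟨U, hU, subset_rfl⟩)
    rw [mem_nhds_subtype] at h1
    obtain ⟨V, hV, hVsub⟩ := h1
    refine ⟨V, hV, ?_⟩
    rintro z ⟨hzV, hzY⟩
    have : (⟨z, hzY⟩ : ↥(Y i)) ∈ (Y i).restrictPreimage ψ '' (Subtype.val ⁻¹' U) := hVsub hzV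
    obtain ⟨a, haU, haz⟩ := this
    refine ⟨a.1, haU, ?_⟩
    exact congrArg Subtype.val haz
  choose! V hV hVsub using key
  have hV' : (⋂ i ∈ G, V i) ∈ nhds (ψ x) := (Filter.biInter_mem hGfin).mpr hV
  refine Filter.mem_of_superset (Filter.inter_mem hW' hV') ?_
  rintro z ⟨⟨hzW, hzbad⟩, hzV⟩
  have hzcov : z ∈ ⋃ i, Y i := by rw [hcov]; trivial
  obtain ⟨i, hi⟩ := Set.mem_iUnion.mp hzcov
  have hiF : i ∈ F := ⟨z, hi, hzW⟩
  have hiG : i ∈ G := by
    refine ⟨hiF, ?_⟩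
    by_contra hcon
    apply hzbad
    simp only [Set.mem_iUnion]
    exact ⟨i, ⟨hiF, hcon⟩, hi⟩
  have hzVi : z ∈ V i := by
    simp only [Set.mem_iInter] at hzV
    exact hzV i hiG
  exact hVsub i hiG ⟨hzVi, hi⟩

end Groth.Agent.S4914
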