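import Groth.Statements.S4916
import Mathlib

set_option autoImplicit false
open CategoryTheory AlgebraicGeometry
universe u v w
open EGA43

namespace Groth.Agent.S4916

/-- Let ψ : X → Y be a continuous map of topological spaces and y a point of Y. The set of points x of
the fibre ψ⁻¹(y) at which ψ is open is a closed subset of ψ⁻¹(y). -/
theorem result {α : Type u} {β : Type v} [TopologicalSpace α] [TopologicalSpace β]
    (ψ : α → β) (hψ : Continuous ψ) (y : β) :
    IsClosed {x : ↥(ψ ⁻¹' {y}) | EGA43.IsOpenAt ψ x.1} := by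
  rw [← closure_subset_iff_isClosed]
  intro x hx U hU
  rw [mem_closure_iff_nhds] at hx
  have hU' : interior U ∈ nhds x.1 := interior_mem_nhds.mpr hU
  have h1 : (Subtype.val ⁻¹' interior U : Set ↥(ψ ⁻¹' {y})) ∈ nhds x := by
    rw [mem_nhds_subtype]
    exact ⟨_, hU', subset_rfl⟩
  obtain ⟨s, hs1, hs2⟩ := hx _ h1
  have hs3 : interior U ∈ nhds s.1 := isOpen_interior.mem_nhds hs1
  have h2 := hs2 _ hs3
  have e1 : ψ s.1 = y := s.2
  have e2 : ψ x.1 = y := x.2
  rw [e1] at h2
  rw [e2]
  refine Filter.mem_of_superset h2 ?_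
  exact Set.image_mono interior_subset

end Groth.Agent.S4916
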