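import Groth.Statements.S4951
import Mathlib

set_option autoImplicit false
universe u
open EGA43

namespace Groth.Agent.S4951

open TopologicalSpace Set

section aux

/-- In a Noetherian space, a point in the closure of `U` lies on a closed irreducible set meeting `U`. -/
lemma exists_irreducible_of_mem_closure {Y : Type*} [TopologicalSpace Y] [NoetherianSpace Y]
    (U : Set Y) {y : Y} (hy : y ∈ closure U) :
    ∃ K : Set Y, IsIrreducible K ∧ IsClosed K ∧ y ∈ K ∧ (U ∩ K).Nonempty := by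
  obtain ⟨S, hSf, hSc, hSi, hSU⟩ :=
    NoetherianSpace.exists_finite_set_isClosed_irreducible (isClosed_univ (X := Y))
  have hU : U = ⋃ t ∈ S, (U ∩ t) := by
    rw [← Set.inter_iUnion₂, ← Set.sUnion_eq_biUnion, ← hSU, Set.inter_univ]
  rw [hU, hSf.closure_biUnion] at hy
  simp only [Set.mem_iUnion] at hy
  obtain ⟨t, ht, hyt⟩ := hy
  refine ⟨t, hSi t ht, hSc t ht, ?_, ?_⟩
  · exact (closure_minimal Set.inter_subset_right (hSc t ht)) hyt
  · exact closure_nonempty_iff.mp ⟨y, hyt⟩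

/-- In a quasi-sober locally Noetherian space, a point in the closure of an open set `U` has a
generization in `U`. -/
lemma exists_specializes_of_mem_closure {X : Type u} [TopologicalSpace X] [QuasiSober X]
    (hloc : ∀ x : X, ∃ U ∈ nhds x, NoetherianSpace ↥U) {U : Set X} (hU : IsOpen U) {x : X}
    (hx : x ∈ closure U) : ∃ η ∈ U, η ⤳ x := by
  obtain ⟨N, hN, hNoeth⟩ := hloc x
  set O : Set X := interior N with hO
  have hOopen : IsOpen O := isOpen_interior
  have hxO : x ∈ O := mem_interior_iff_mem_nhds.mpr hN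
  have : NoetherianSpace ↥O := NoetherianSpace.of_subset (W := N) interior_subset
  -- pass to the subspace O
  let y : O := ⟨x, hxO⟩
  have hy : y ∈ closure ((↑) ⁻¹' U : Set O) := by
    apply closure_subtype.mpr
    rw [Subtype.image_preimage_coe]
    show x ∈ closure (O ∩ U)
    rw [mem_closure_iff_nhds] at hx ⊢
    intro t ht
    have := hx (t ∩ O) (Filter.inter_mem ht (hOopen.mem_nhds hxO))
    obtain ⟨z, ⟨hzt, hzO⟩, hzU⟩ := this
    exact ⟨z, hzt, hzO, hzU⟩
  obtain ⟨K, hKirr, hKcl, hyK, ⟨z, hzU, hzK⟩⟩ := exists_irreducible_of_mem_closure _ hy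
  have hirr : IsIrreducible (closure ((↑) '' K : Set X)) :=
    (hKirr.image _ continuous_subtype_val.continuousOn).closure
  obtain ⟨η, hη⟩ := QuasiSober.sober hirr isClosed_closure
  refine ⟨η, ?_, ?_⟩
  · rw [hη.mem_open_set_iff hU]
    exact ⟨z.1, subset_closure ⟨z, hzK, rfl⟩, hzU⟩
  · exact hη.specializes (subset_closure ⟨y, hyK, rfl⟩)

/-- maximal preirreducible subsets inside a given set -/
theorem exists_preirreducible_subset {X : Type*} [TopologicalSpace X] (W s : Set X)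
    (H : IsPreirreducible s) (hsW : s ⊆ W) :
    ∃ t : Set X, IsPreirreducible t ∧ t ⊆ W ∧ s ⊆ t ∧
      ∀ u, IsPreirreducible u → u ⊆ W → t ⊆ u → u = t :=
  let ⟨m, hsm, hm⟩ :=
    zorn_subset_nonempty { t : Set X | IsPreirreducible t ∧ t ⊆ W }
      (fun c hc hcc _ =>
        ⟨⋃₀ c, ⟨fun u v hu hv ⟨y, hy, hyu⟩ ⟨x, hx, hxv⟩ =>
          let ⟨p, hpc, hyp⟩ := mem_sUnion.1 hy
          let ⟨q, hqc, hxq⟩ := mem_sUnion.1 hx
          Or.casesOn (hcc.total hpc hqc)
            (fun hpq : p ⊆ q =>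
              let ⟨x, hxp, hxuv⟩ := (hc hqc).1 u v hu hv ⟨y, hpq hyp, hyu⟩ ⟨x, hxq, hxv⟩
              ⟨x, mem_sUnion_of_mem hxp hqc, hxuv⟩)
            fun hqp : q ⊆ p =>
            let ⟨x, hxp, hxuv⟩ := (hc hpc).1 u v hu hv ⟨y, hyp, hyu⟩ ⟨x, hqp hxq, hxv⟩
            ⟨x, mem_sUnion_of_mem hxp hpc, hxuv⟩,
          Set.sUnion_subset fun t ht => (hc ht).2⟩,
          fun _ hxc => subset_sUnion_of_mem hxc⟩)
      s ⟨H, hsW⟩
  ⟨m, hm.prop.1, hm.prop.2, hsm, fun _u hu huW hmu => (hm.eq_of_subset ⟨hu, huW⟩ hmu).symm⟩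


end aux

/-- Let X be a locally Noetherian topological space in which every irreducible closed subset has a
unique generic point (X quasi-sober and T₀), and Z a closed nowhere dense subset of X such that for
every point x of Z the set of generizations of x distinct from x is connected (possibly empty). If X
is connected, then X − Z is connected. (Uniqueness of generic points, automatic for the underlying
space of a scheme, is needed: in the four-point space {u, v, z₁, z₂} whose open sets are ∅, {u},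
{v}, {u, v} and the whole space, the closed nowhere dense set Z = {z₁, z₂} satisfies the hypothesis,
since z₂ is a generization of z₁ and conversely, yet X − Z = {u, v} is not connected.) -/
theorem result {X : Type u} [TopologicalSpace X]
    [QuasiSober X] [T0Space X] (hloc : ∀ x : X, ∃ U ∈ nhds x, TopologicalSpace.NoetherianSpace ↥U) [ConnectedSpace X]
    (Z : Set X) (hZ : IsClosed Z) (hZn : IsNowhereDense Z)
    (hgen : ∀ x ∈ Z, IsPreconnected ({x' : X | x' ⤳ x} \ {x})) :
    IsConnected Zᶜ := by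
  have hdense : Dense Zᶜ := by
    rw [← interior_eq_empty_iff_dense_compl]
    have h := hZn
    rw [IsNowhereDense, hZ.closure_eq] at h
    exact h
  refine ⟨hdense.nonempty, ?_⟩
  intro U V hUo hVo hcov hU hV
  by_contra hdisj
  rw [Set.not_nonempty_iff_eq_empty] at hdisj
  set U₁ := Zᶜ ∩ U with hU₁
  set U₂ := Zᶜ ∩ V with hU₂
  have hU₁o : IsOpen U₁ := hZ.isOpen_compl.inter hUo
  have hU₂o : IsOpen U₂ := hZ.isOpen_compl.inter hVo
  have hdisj' : U₁ ∩ U₂ = ∅ := by
    rw [← hdisj]; ext z; simp only [hU₁, hU₂, Set.mem_inter_iff]; tauto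
  have hunion : U₁ ∪ U₂ = Zᶜ := by
    rw [hU₁, hU₂, ← Set.inter_union_distrib_left, Set.inter_eq_left.mpr hcov]
  set F₁ := closure U₁ with hF₁
  set F₂ := closure U₂ with hF₂
  have hF : F₁ ∪ F₂ = Set.univ := by
    rw [hF₁, hF₂, ← closure_union, hunion, hdense.closure_eq]
  -- F₁ ∩ F₂ is nonempty by connectedness
  have hW : (F₁ ∩ F₂).Nonempty := by
    have := isPreconnected_closed_iff.mp (isPreconnected_univ (α := X)) F₁ F₂ isClosed_closure
      isClosed_closure (by rw [hF])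
      (by obtain ⟨z, hz⟩ := hU; exact ⟨z, trivial, subset_closure hz⟩)
      (by obtain ⟨z, hz⟩ := hV; exact ⟨z, trivial, subset_closure hz⟩)
    simpa using this
  have hWZ : F₁ ∩ F₂ ⊆ Z := by
    intro z ⟨hz1, hz2⟩
    by_contra hzZ
    have hz : z ∈ U₁ ∪ U₂ := hunion ▸ hzZ
    rcases hz with hz | hz
    · -- z ∈ U₁ open, disjoint from U₂, but z ∈ closure U₂
      obtain ⟨w, hw1, hw2⟩ := mem_closure_iff.mp hz2 U₁ hU₁o hz
      exact (hdisj' ▸ (⟨hw1, hw2⟩ : w ∈ U₁ ∩ U₂) : w ∈ (∅ : Set X))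
    · obtain ⟨w, hw1, hw2⟩ := mem_closure_iff.mp hz1 U₂ hU₂o hz
      exact (hdisj' ▸ (⟨hw2, hw1⟩ : w ∈ U₁ ∩ U₂) : w ∈ (∅ : Set X))
  have hWcl : IsClosed (F₁ ∩ F₂) := isClosed_closure.inter isClosed_closure
  -- choose a maximal point of W = F₁ ∩ F₂
  obtain ⟨w, hw⟩ := hW
  set W := F₁ ∩ F₂ with hWdef
  obtain ⟨C, hCirr, hCW, hwC, hCmax⟩ := exists_preirreducible_subset W ({w} : Set X)
    isPreirreducible_singleton (Set.singleton_subset_iff.mpr hw)
  have hCne : C.Nonempty := ⟨w, hwC rfl⟩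
  have hCcl : closure C = C :=
    hCmax _ hCirr.closure (closure_minimal hCW hWcl) subset_closure
  obtain ⟨x, hx⟩ := QuasiSober.sober (S := C) ⟨hCne, hCirr⟩ (hCcl ▸ isClosed_closure)
  have hxC : x ∈ C := hx.mem
  have hxW : x ∈ W := hCW hxC
  have hxZ : x ∈ Z := hWZ hxW
  -- no proper generization of x lies in W
  have hmaxpt : ∀ x' : X, x' ⤳ x → x' ∈ W → x' = x := by
    intro x' hsp hx'W
    have h1 : closure ({x'} : Set X) ⊆ W := closure_minimal (Set.singleton_subset_iff.mpr hx'W) hWcl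
    have h2 : C ⊆ closure ({x'} : Set X) := by
      rw [← hx.def]
      exact closure_minimal (Set.singleton_subset_iff.mpr hsp.mem_closure) isClosed_closure
    have h3 := hCmax _ isPreirreducible_singleton.closure h1 h2
    have : x' ∈ C := h3 ▸ subset_closure rfl
    have hsp' : x ⤳ x' := hx.specializes this
    exact (hsp.antisymm hsp').eq
  have hpre := hgen x hxZ
  rw [isPreconnected_closed_iff] at hpre
  obtain ⟨η₁, hη₁U, hη₁⟩ := exists_specializes_of_mem_closure hloc hU₁o (hxW.1 : x ∈ closure U₁)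
  obtain ⟨η₂, hη₂U, hη₂⟩ := exists_specializes_of_mem_closure hloc hU₂o (hxW.2 : x ∈ closure U₂)
  have hne₁ : η₁ ≠ x := fun h => (h ▸ hη₁U).1 hxZ
  have hne₂ : η₂ ≠ x := fun h => (h ▸ hη₂U).1 hxZ
  obtain ⟨z, ⟨hz1, hz2⟩, hzW⟩ := hpre F₁ F₂ isClosed_closure isClosed_closure
    (by rw [hF]; exact Set.subset_univ _)
    ⟨η₁, ⟨hη₁, hne₁⟩, subset_closure hη₁U⟩ ⟨η₂, ⟨hη₂, hne₂⟩, subset_closure hη₂U⟩
  exact hz2 (hmaxpt z hz1 hzW)

end Groth.Agent.S4951
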