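import Groth.Statements.S4959
import Mathlib

set_option autoImplicit false
open CategoryTheory AlgebraicGeometry
universe u v w
open EGA43

namespace Groth.Agent.S4959

open CategoryTheory.Limits in
/-- Let f : X ⟶ Y be a morphism of schemes and g : Y' ⟶ Y a surjective morphism which is either proper,
or flat and quasi-compact. If the base change f' : X ×_Y Y' ⟶ Y' is universally submersive (all of
its base changes are topological quotient maps), then f is universally submersive. -/
theorem result {X Y Y' : Scheme.{u}} (f : X ⟶ Y) (g : Y' ⟶ Y) [Surjective g]
    (hg : IsProper g ∨ (Flat g ∧ QuasiCompact g))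
    (h : MorphismProperty.universally (topologically @Topology.IsQuotientMap) (pullback.snd f g)) :
    MorphismProperty.universally (topologically @Topology.IsQuotientMap) f := by
  intro XT T i₁ i₂ fT hsq
  let gT := pullback.fst i₂ g
  let j := pullback.snd i₂ g
  let a := pullback.fst fT gT
  let b := pullback.snd fT gT
  have top : IsPullback b a gT fT := (IsPullback.of_hasPullback fT gT).flip
  have big : IsPullback b (a ≫ i₁) (gT ≫ i₂) f := top.paste_vert hsq
  have big' : IsPullback b (a ≫ i₁) (j ≫ g) f := by
    have : gT ≫ i₂ = j ≫ g := pullback.condition
    rw [← this]; exact big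
  have t : IsPullback (pullback.snd f g) (pullback.fst f g) g f :=
    (IsPullback.of_hasPullback f g).flip
  have hb : Topology.IsQuotientMap b := h _ _ _ (big'.of_bot' t)
  have hgT : Topology.IsQuotientMap gT := by
    rcases hg with hg | ⟨hg1, hg2⟩
    · haveI : IsProper gT := MorphismProperty.pullback_fst _ _ hg
      exact gT.isClosedMap.isQuotientMap gT.continuous gT.surjective
    · haveI : Flat gT := MorphismProperty.pullback_fst _ _ hg1
      haveI : QuasiCompact gT := MorphismProperty.pullback_fst _ _ hg2
      exact Flat.isQuotientMap_of_surjective gT
  have hcomp : Topology.IsQuotientMap (fT ∘ a) := by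
    have h1 : Topology.IsQuotientMap (gT ∘ b) := hgT.comp hb
    have h2 : (fT ∘ a : _ → _) = (gT ∘ b : _ → _) := by
      have : a ≫ fT = b ≫ gT := pullback.condition
      ext x
      have := congrArg (fun φ => φ.base x) this
      simpa using this
    rw [h2]; exact h1
  exact Topology.IsQuotientMap.of_comp a.continuous fT.continuous hcomp

end Groth.Agent.S4959
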