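import Groth.Statements.S4971
import Mathlib

set_option autoImplicit false
universe u
open EGA43

namespace Groth.Agent.S4971

/-- Let B be a Noetherian local ring, M, N, P three B-modules with N finitely generated, u : M → N and v
: N → P linear maps with v ∘ u = 0, and t an element of the maximal ideal of B which is P-regular.
If the induced sequence M/tM → N/tN → P/tP is exact, then M → N → P is exact. -/
theorem result {B : Type u} [CommRing B] [IsNoetherianRing B] [IsLocalRing B]
    {M N P : Type u} [AddCommGroup M] [Module B M] [AddCommGroup N] [Module B N] [Module.Finite B N]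
    [AddCommGroup P] [Module B P] (u : M →ₗ[B] N) (v : N →ₗ[B] P) (huv : v ∘ₗ u = 0) (t : B)
    (ht : t ∈ IsLocalRing.maximalIdeal B) (hreg : IsSMulRegular P t)
    (hu : (Ideal.span {t} • ⊤ : Submodule B M) ≤ (Ideal.span {t} • ⊤ : Submodule B N).comap u)
    (hv : (Ideal.span {t} • ⊤ : Submodule B N) ≤ (Ideal.span {t} • ⊤ : Submodule B P).comap v)
    (hex : LinearMap.ker ((Ideal.span {t} • ⊤ : Submodule B N).mapQ (Ideal.span {t} • ⊤ : Submodule B P) v hv) ≤
      LinearMap.range ((Ideal.span {t} • ⊤ : Submodule B M).mapQ (Ideal.span {t} • ⊤ : Submodule B N) u hu)) :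
    LinearMap.ker v ≤ LinearMap.range u := by
  have hker_fg : (LinearMap.ker v).FG := IsNoetherian.noetherian _
  have hjac : Ideal.span {t} ≤ Ideal.jacobson (⊥ : Ideal B) := by
    rw [Ideal.span_le, Set.singleton_subset_iff, IsLocalRing.jacobson_eq_maximalIdeal ⊥ bot_ne_top]
    exact ht
  apply Submodule.le_of_le_smul_of_le_jacobson_bot hker_fg hjac
  intro y hy
  rw [LinearMap.mem_ker] at hy
  -- the class of y is in the kernel of the induced map
  have h1 : Submodule.Quotient.mk y ∈ LinearMap.ker
      ((Ideal.span {t} • ⊤ : Submodule B N).mapQ (Ideal.span {t} • ⊤ : Submodule B P) v hv) := by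
    rw [LinearMap.mem_ker, Submodule.mapQ_apply, hy, Submodule.Quotient.mk_zero]
  obtain ⟨xbar, hx⟩ := hex h1
  obtain ⟨x, rfl⟩ := Submodule.Quotient.mk_surjective _ xbar
  rw [Submodule.mapQ_apply, Submodule.Quotient.eq] at hx
  -- u x - y ∈ t N
  rw [Submodule.ideal_span_singleton_smul, Submodule.mem_smul_pointwise_iff_exists] at hx
  obtain ⟨n, -, hn⟩ := hx
  have hvu : v (u x) = 0 := by
    have := congrArg (fun ψ => ψ x) huv
    simpa using this
  have hvn : v n = 0 := by
    apply hreg
    have : v (t • n) = 0 := by rw [hn, map_sub, hvu, hy, sub_zero]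
    show t • v n = t • 0
    rw [smul_zero, ← map_smul]; exact this
  have hy' : y = u x + t • (-n) := by
    rw [smul_neg, hn]; abel
  rw [hy']
  apply Submodule.add_mem_sup
  · exact ⟨x, rfl⟩
  · apply Submodule.smul_mem_smul (Ideal.mem_span_singleton_self t)
    rw [LinearMap.mem_ker, map_neg, hvn, neg_zero]

end Groth.Agent.S4971
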