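import Groth.Statements.S5002
import Groth.Agent.Lib.Helper9.PPLib2

set_option autoImplicit false
universe u
open PP16

namespace Groth.Agent.S5002

/-- Suppose A is a commutative ring and B is a finite-type A-algebra. For each n, the ring of principal
parts of order n of B over A is then finitely generated as a B-module, where B acts via the first
factor. -/
theorem result (n : ℕ) (A B : Type u) [CommRing A] [CommRing B] [Algebra A B]
    [Algebra.FiniteType A B] : Module.Finite B (PP16.P n A B) := by
  have : Algebra.FiniteType B (TensorProduct A B B) := inferInstance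
  have : Algebra.FiniteType B (PP16.P n A B) :=
    Algebra.FiniteType.of_surjective
      (Ideal.Quotient.mkₐ B ((KaehlerDifferential.ideal A B) ^ (n + 1)))
      Ideal.Quotient.mk_surjective
  have hnil : ∀ t ∈ PP16.augIdeal n A B, IsNilpotent t := by
    intro t ht
    refine ⟨n + 1, ?_⟩
    have h1 : t ^ (n + 1) ∈ (PP16.augIdeal n A B) ^ (n + 1) := Ideal.pow_mem_pow ht _
    rw [PP16.augIdeal, ← Ideal.map_pow, Ideal.map_quotient_self] at h1
    exact h1
  have : Algebra.IsIntegral B (PP16.P n A B) := by
    refine ⟨fun t => ?_⟩
    have h1 : t = algebraMap B (PP16.P n A B) (Groth.Agent.Helper9.PPLib.multBar n A B t)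
        + Groth.Agent.Helper9.PPLib.piP n A B t := by
      rw [Groth.Agent.Helper9.PPLib.piP_apply]; ring
    rw [h1]
    obtain ⟨m, hm⟩ := hnil _ (Groth.Agent.Helper9.PPLib.piP_mem n A B t)
    have h2 : IsIntegral B (Groth.Agent.Helper9.PPLib.piP n A B t) :=
      ⟨Polynomial.X ^ m, Polynomial.monic_X_pow m, by simp [hm]⟩
    exact (isIntegral_algebraMap).add h2
  exact Algebra.IsIntegral.finite

end Groth.Agent.S5002
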