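import Groth.Statements.S5006
import Mathlib

set_option autoImplicit false
universe u
open Nrm16

namespace Groth.Agent.S5006

/-- Let A be a commutative ring, I a finitely generated ideal and p a prime ideal containing I. Then
some basic open neighbourhood of p in Spec A is contained in the closed set V(I) (so that V(I) ⟶
Spec A is a local homeomorphism onto an open set near p) if and only if there is an integer n > 0
with I^n A_p = I^(n+1) A_p in the local ring at p. Affine form. -/
theorem result (A : Type u) [CommRing A] (I : Ideal A) (hI : I.FG)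
    (p : Ideal A) [p.IsPrime] (hp : I ≤ p) :
    (∃ f : A, f ∉ p ∧ ∀ q : Ideal A, q.IsPrime → f ∉ q → I ≤ q) ↔
      ∃ n : ℕ, 0 < n ∧
        (I ^ n).map (algebraMap A (Localization.AtPrime p)) =
          (I ^ (n + 1)).map (algebraMap A (Localization.AtPrime p)) := by
  classical
  constructor
  · rintro ⟨f, hfp, hf⟩
    have hrad : I * Ideal.span {f} ≤ (⊥ : Ideal A).radical := by
      rw [Ideal.radical_eq_sInf]
      refine le_sInf ?_
      rintro q ⟨-, hq⟩
      by_cases hfq : f ∈ q
      · exact (Ideal.mul_le_right).trans ((Ideal.span_singleton_le_iff_mem _).2 hfq)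
      · exact (Ideal.mul_le_left).trans (hf q hq hfq)
    obtain ⟨n, hn⟩ := Ideal.exists_pow_le_of_le_radical_of_fg hrad
      (Submodule.FG.mul hI (Submodule.fg_span_singleton f))
    have hn' : (I * Ideal.span {f}) ^ n = ⊥ := le_bot_iff.1 hn
    have hunit : IsUnit (algebraMap A (Localization.AtPrime p) f) :=
      IsLocalization.map_units (M := p.primeCompl) _ ⟨f, hfp⟩
    have h0 : (I ^ n).map (algebraMap A (Localization.AtPrime p)) = ⊥ := by
      have h1 := congrArg (Ideal.map (algebraMap A (Localization.AtPrime p))) hn'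
      rw [mul_pow, Ideal.map_mul, Ideal.map_pow, Ideal.map_pow, Ideal.map_span, Set.image_singleton, Ideal.map_bot,
        Ideal.span_singleton_eq_top.2 hunit, Ideal.top_pow, Ideal.mul_top] at h1
      rw [Ideal.map_pow]
      exact h1
    refine ⟨n + 1, Nat.succ_pos _, ?_⟩
    rw [pow_succ, pow_succ, pow_succ, Ideal.map_mul, Ideal.map_mul, Ideal.map_mul, h0]
    simp
  · rintro ⟨n, hn0, hn⟩
    set φ := algebraMap A (Localization.AtPrime p) with hφ
    have hN : (I ^ n).map φ = ⊥ := by
      refine Submodule.eq_bot_of_le_smul_of_le_jacobson_bot (I.map φ) ((I ^ n).map φ)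
        ((hI.pow (n := n)).map φ) ?_ ?_
      · rw [smul_eq_mul, ← Ideal.map_mul, mul_comm, ← pow_succ, ← hn]
      · rw [IsLocalRing.jacobson_eq_maximalIdeal _ bot_ne_top]
        rw [← Localization.AtPrime.map_eq_maximalIdeal]
        exact Ideal.map_mono hp
    obtain ⟨S, hS⟩ := hI.pow (n := n)
    have hex : ∀ x : A, x ∈ I ^ n → ∃ s : A, s ∉ p ∧ s * x = 0 := by
      intro x hx
      have hx0 : φ x = 0 := by
        have : φ x ∈ (I ^ n).map φ := Ideal.mem_map_of_mem _ hx
        rw [hN] at this
        exact this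
      obtain ⟨⟨s, hs⟩, hsx⟩ := (IsLocalization.map_eq_zero_iff p.primeCompl _ _).1 hx0
      exact ⟨s, hs, hsx⟩
    choose! s hs hsx using hex
    refine ⟨∏ x ∈ S, s x, ?_, ?_⟩
    · intro hmem
      obtain ⟨x, hxS, hx⟩ := (Ideal.IsPrime.prod_mem_iff).1 hmem
      exact hs x (hS ▸ Ideal.subset_span hxS) hx
    · intro q hq hfq
      have hall : ∀ x ∈ I ^ n, (∏ x ∈ S, s x) * x = 0 := by
        intro x hx
        rw [← hS] at hx
        refine Submodule.span_induction ?_ ?_ ?_ ?_ hx
        · intro y hy
          have hyI : y ∈ I ^ n := hS ▸ Ideal.subset_span hy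
          rw [← Finset.mul_prod_erase S _ hy, mul_comm (s y), mul_assoc, hsx y hyI, mul_zero]
        · simp
        · intro a b _ _ ha hb
          rw [mul_add, ha, hb, add_zero]
        · intro a b _ hb
          rw [smul_eq_mul, mul_left_comm, hb, mul_zero]
      have hle : I ^ n ≤ q := by
        intro x hx
        have h0 : (∏ x ∈ S, s x) * x ∈ q := by rw [hall x hx]; exact q.zero_mem
        exact (hq.mem_or_mem h0).resolve_left hfq
      exact (Ideal.IsPrime.pow_le_iff (Nat.pos_iff_ne_zero.1 hn0)).1 hle

end Groth.Agent.S5006
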