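import Groth.Statements.S5014
import Groth.Agent.Lib.Helper6.EtaleCoord

set_option autoImplicit false
universe u
open Unram17

namespace Groth.Agent.S5014

/-- Let C be a smooth algebra over a commutative ring A, equipped with an A-algebra map from the
polynomial ring in r variables (images s_i of the variables), and let q be a prime of C. Then C is
etale at q over the polynomial ring if and only if the differentials of the s_i are linearly
independent and generate the module of differentials of the local ring C_q over A, i.e. form a basis
of it. -/
theorem result (A C : Type u) [CommRing A] [CommRing C]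
    [Algebra A C] [Algebra.Smooth A C] (r : ℕ) [Algebra (MvPolynomial (Fin r) A) C]
    [IsScalarTower A (MvPolynomial (Fin r) A) C] (q : Ideal C) [q.IsPrime] :
    Algebra.IsEtaleAt (MvPolynomial (Fin r) A) q ↔
      LinearIndependent (Localization.AtPrime q)
          (fun i : Fin r => KaehlerDifferential.D A (Localization.AtPrime q)
            (algebraMap C (Localization.AtPrime q) (algebraMap (MvPolynomial (Fin r) A) C (MvPolynomial.X i)))) ∧
        Submodule.span (Localization.AtPrime q)
          (Set.range fun i : Fin r => KaehlerDifferential.D A (Localization.AtPrime q)
            (algebraMap C (Localization.AtPrime q) (algebraMap (MvPolynomial (Fin r) A) C (MvPolynomial.X i)))) = ⊤ := by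
  haveI : Algebra.FormallySmooth A (Localization.AtPrime q) := inferInstance
  have hx : ∀ i : Fin r, algebraMap C (Localization.AtPrime q)
      (algebraMap (MvPolynomial (Fin r) A) C (MvPolynomial.X i)) =
      algebraMap (MvPolynomial (Fin r) A) (Localization.AtPrime q) (MvPolynomial.X i) := fun i =>
    (IsScalarTower.algebraMap_apply _ _ _ _).symm
  simp only [hx]
  constructor
  · intro h
    haveI : Algebra.FormallyEtale (MvPolynomial (Fin r) A) (Localization.AtPrime q) := h
    have hbc := KaehlerDifferential.isBaseChange_of_formallyEtale A (MvPolynomial (Fin r) A)
      (Localization.AtPrime q)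
    let b := hbc.basis (KaehlerDifferential.mvPolynomialBasis A (Fin r))
    have hb : ∀ i, b i = KaehlerDifferential.D A (Localization.AtPrime q)
        (algebraMap (MvPolynomial (Fin r) A) (Localization.AtPrime q) (MvPolynomial.X i)) := by
      intro i
      rw [IsBaseChange.basis_apply, KaehlerDifferential.mvPolynomialBasis_apply,
        KaehlerDifferential.map_D]
    have hfun : (fun i => KaehlerDifferential.D A (Localization.AtPrime q)
        (algebraMap (MvPolynomial (Fin r) A) (Localization.AtPrime q) (MvPolynomial.X i))) = b :=
      funext fun i => (hb i).symm
    rw [hfun]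
    exact ⟨b.linearIndependent, b.span_eq⟩
  · rintro ⟨hli, hsp⟩
    refine Groth.Agent.Lib.Helper6.EtaleCoord.formallyEtale_of_basis (k := A)
      (T := Localization.AtPrime q) (ι := Fin r) ⟨hli, ?_⟩
    rw [← LinearMap.range_eq_top, Finsupp.range_linearCombination]
    exact hsp

end Groth.Agent.S5014
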