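import Groth.Statements.S5034
import Mathlib

set_option autoImplicit false
universe u
open Hensel

namespace Groth.Agent.S5034

section
open Polynomial

variable {R : Type u} [CommRing R] [IsLocalRing R]

/-- the evaluation at a residual root -/
noncomputable def ev (f : R[X]) (a₀ : R) (h0 : f.eval a₀ ∈ IsLocalRing.maximalIdeal R) :
    AdjoinRoot f →+* IsLocalRing.ResidueField R :=
  AdjoinRoot.lift (IsLocalRing.residue R) (IsLocalRing.residue R a₀) (by
    rw [Polynomial.eval₂_hom]
    exact (IsLocalRing.residue_eq_zero_iff _).mpr h0)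

theorem ev_mk (f : R[X]) (a₀ : R) (h0 : f.eval a₀ ∈ IsLocalRing.maximalIdeal R) (p : R[X]) :
    ev f a₀ h0 (AdjoinRoot.mk f p) = IsLocalRing.residue R (p.eval a₀) := by
  unfold ev
  rw [AdjoinRoot.lift_mk, Polynomial.eval₂_hom]

/-- existence of the good idempotent -/
theorem exists_idem (f : R[X]) (a₀ : R) (h0 : f.eval a₀ ∈ IsLocalRing.maximalIdeal R)
    (ι : Type u) [Fintype ι] (A : ι → Type u) [∀ i, CommRing (A i)] [∀ i, IsLocalRing (A i)]
    (φ : AdjoinRoot f ≃+* (∀ i, A i)) :
    ∃ e : AdjoinRoot f, ev f a₀ h0 e = 1 ∧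
      ∀ x : AdjoinRoot f, ev f a₀ h0 x ≠ 0 → ∃ y, x * y * e = e := by
  classical
  have hsum : ∑ i, ev f a₀ h0 (φ.symm (Pi.single i 1)) = 1 := by
    rw [← map_sum, ← map_sum, Finset.univ_sum_single]
    have : (fun x : ι => (1 : A x)) = 1 := rfl
    rw [this, map_one, map_one]
  have hex : ∃ j, ev f a₀ h0 (φ.symm (Pi.single j 1)) ≠ 0 := by
    by_contra hcon
    simp only [not_exists, not_not] at hcon
    rw [Finset.sum_eq_zero (fun i _ => hcon i)] at hsum
    exact zero_ne_one hsum
  obtain ⟨j, hj⟩ := hex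
  have hidem : (φ.symm (Pi.single j 1)) * (φ.symm (Pi.single j 1)) = φ.symm (Pi.single j 1) := by
    rw [← map_mul, ← Pi.single_mul, mul_one]
  have hj1 : ev f a₀ h0 (φ.symm (Pi.single j 1)) = 1 := by
    have := congrArg (ev f a₀ h0) hidem
    rw [map_mul] at this
    exact (mul_eq_left₀ hj).mp this
  refine ⟨φ.symm (Pi.single j 1), hj1, ?_⟩
  -- the ring hom from A j to the residue field
  let ψ : A j →+* IsLocalRing.ResidueField R :=
    { toFun := fun a => ev f a₀ h0 (φ.symm (Pi.single j a))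
      map_one' := hj1
      map_mul' := fun a b => by rw [Pi.single_mul, map_mul, map_mul]
      map_zero' := by rw [Pi.single_zero, map_zero, map_zero]
      map_add' := fun a b => by rw [Pi.single_add, map_add, map_add] }
  have hψ : ∀ x : AdjoinRoot f, ψ (φ x j) = ev f a₀ h0 x := by
    intro x
    show ev f a₀ h0 (φ.symm (Pi.single j (φ x j))) = _
    have : (Pi.single j (φ x j) : ∀ i, A i) = φ x * Pi.single j 1 := by
      ext i
      by_cases hi : i = j
      · subst hi; simp
      · simp [Pi.single_eq_of_ne hi]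
    rw [this, map_mul, map_mul, hj1, mul_one, RingEquiv.symm_apply_apply]
  have hsurj : Function.Surjective ψ := by
    intro c
    obtain ⟨r, rfl⟩ := IsLocalRing.residue_surjective c
    refine ⟨φ (AdjoinRoot.of f r) j, ?_⟩
    rw [hψ]
    have := ev_mk f a₀ h0 (C r)
    rw [Polynomial.eval_C] at this
    exact this
  have hker := IsLocalRing.ker_eq_maximalIdeal ψ hsurj
  intro x hx
  have hunit : IsUnit (φ x j) := by
    by_contra hnu
    have : φ x j ∈ IsLocalRing.maximalIdeal (A j) := (IsLocalRing.mem_maximalIdeal _).mpr hnu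
    rw [← hker, RingHom.mem_ker, hψ] at this
    exact hx this
  obtain ⟨b, hb⟩ := hunit.exists_right_inv
  refine ⟨φ.symm (Pi.single j b), ?_⟩
  apply φ.injective
  rw [map_mul, map_mul, RingEquiv.apply_symm_apply, RingEquiv.apply_symm_apply]
  ext i
  by_cases hi : i = j
  · subst hi; simp [hb]
  · simp [Pi.single_eq_of_ne hi]


theorem ev_of (f : R[X]) (a₀ : R) (h0 : f.eval a₀ ∈ IsLocalRing.maximalIdeal R) (c : R) :
    ev f a₀ h0 (AdjoinRoot.of f c) = IsLocalRing.residue R c := by
  have := ev_mk f a₀ h0 (C c)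
  rwa [Polynomial.eval_C, AdjoinRoot.mk_C] at this

theorem ev_root (f : R[X]) (a₀ : R) (h0 : f.eval a₀ ∈ IsLocalRing.maximalIdeal R) :
    ev f a₀ h0 (AdjoinRoot.root f) = IsLocalRing.residue R a₀ := by
  have := ev_mk f a₀ h0 X
  rwa [Polynomial.eval_X, AdjoinRoot.mk_X] at this

theorem decomp (f : R[X]) (a₀ : R) (x : AdjoinRoot f) :
    ∃ (c : R) (x₁ : AdjoinRoot f),
      x = AdjoinRoot.of f c + (AdjoinRoot.root f - AdjoinRoot.of f a₀) * x₁ := by
  obtain ⟨p, rfl⟩ := AdjoinRoot.mk_surjective x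
  refine ⟨p.eval a₀, AdjoinRoot.mk f (p /ₘ (X - C a₀)), ?_⟩
  have h := Polynomial.modByMonic_add_div p (X - C a₀)
  rw [Polynomial.modByMonic_X_sub_C_eq_C_eval] at h
  conv_lhs => rw [← h]
  rw [map_add, map_mul, map_sub, AdjoinRoot.mk_C, AdjoinRoot.mk_X, AdjoinRoot.mk_C]

theorem main (R : Type u) [CommRing R] [IsLocalRing R]
    (h : ∀ F : Polynomial R, F.Monic →
      ∃ (ι : Type u) (_ : Fintype ι) (A : ι → Type u) (_ : ∀ i, CommRing (A i)),
        (∀ i, IsLocalRing (A i)) ∧ Nonempty (AdjoinRoot F ≃+* (∀ i, A i))) :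
    HenselianLocalRing R := by
  refine { is_henselian := fun f hf a₀ h0 h1 => ?_ }
  obtain ⟨ι, _, A, _, hloc, ⟨φ⟩⟩ := h f hf
  obtain ⟨e, he1, hloc'⟩ := exists_idem f a₀ h0 ι A φ
  -- the quotient g
  have hdiv := Polynomial.modByMonic_add_div f (X - C a₀)
  rw [Polynomial.modByMonic_X_sub_C_eq_C_eval] at hdiv
  set g := f /ₘ (X - C a₀) with hg
  have hder : f.derivative.eval a₀ = g.eval a₀ := by
    rw [← hdiv]
    simp
  have hu : ev f a₀ h0 (AdjoinRoot.mk f g) ≠ 0 := by
    rw [ev_mk, ← hder]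
    intro hz
    rw [IsLocalRing.residue_eq_zero_iff] at hz
    exact (IsLocalRing.mem_maximalIdeal _).mp hz h1
  obtain ⟨y, hy⟩ := hloc' _ hu
  have hkey : (AdjoinRoot.root f - AdjoinRoot.of f a₀) * AdjoinRoot.mk f g
      = - AdjoinRoot.of f (f.eval a₀) := by
    have h2 := congrArg (AdjoinRoot.mk f) hdiv
    rw [AdjoinRoot.mk_self, map_add, map_mul, map_sub, AdjoinRoot.mk_C, AdjoinRoot.mk_X,
      AdjoinRoot.mk_C] at h2
    linear_combination h2
  have hte : (AdjoinRoot.root f - AdjoinRoot.of f a₀) * e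
      = - AdjoinRoot.of f (f.eval a₀) * y * e := by
    calc (AdjoinRoot.root f - AdjoinRoot.of f a₀) * e
        = (AdjoinRoot.root f - AdjoinRoot.of f a₀) * (AdjoinRoot.mk f g * y * e) := by rw [hy]
      _ = ((AdjoinRoot.root f - AdjoinRoot.of f a₀) * AdjoinRoot.mk f g) * y * e := by ring
      _ = _ := by rw [hkey]
  haveI : Module.Finite R (AdjoinRoot f) := hf.finite_adjoinRoot
  -- Nakayama
  have hle : LinearMap.range (LinearMap.mulLeft R e) ≤ Submodule.span R {e} := by
    apply Submodule.le_of_le_smul_of_le_jacobson_bot (I := IsLocalRing.maximalIdeal R)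
    · rw [LinearMap.range_eq_map]
      exact Module.Finite.fg_top.map _
    · exact (IsLocalRing.jacobson_eq_maximalIdeal ⊥ bot_ne_top).ge
    · rintro w ⟨z, rfl⟩
      obtain ⟨c, z₁, rfl⟩ := decomp f a₀ z
      have : LinearMap.mulLeft R e (AdjoinRoot.of f c + (AdjoinRoot.root f - AdjoinRoot.of f a₀) * z₁)
          = c • e + (- f.eval a₀) • (LinearMap.mulLeft R e (y * z₁)) := by
        simp only [LinearMap.mulLeft_apply, Algebra.smul_def, AdjoinRoot.algebraMap_eq, map_neg]
        linear_combination z₁ * hte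
      rw [this]
      refine Submodule.add_mem_sup (Submodule.smul_mem _ _ (Submodule.mem_span_singleton_self e)) ?_
      refine Submodule.smul_mem_smul ?_ ⟨_, rfl⟩
      exact neg_mem h0
  obtain ⟨a, ha⟩ := Submodule.mem_span_singleton.mp (hle ⟨AdjoinRoot.root f, rfl⟩)
  simp only [LinearMap.mulLeft_apply] at ha
  -- evaluate polynomials
  have hpoly : ∀ p : R[X], AdjoinRoot.mk f p * e = (p.eval a) • e := by
    intro p
    induction p using Polynomial.induction_on with
    | C c => rw [AdjoinRoot.mk_C, Polynomial.eval_C, Algebra.smul_def, AdjoinRoot.algebraMap_eq]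
    | add p q hp hq => rw [map_add, add_mul, hp, hq, Polynomial.eval_add, add_smul]
    | monomial n c ih =>
      have : AdjoinRoot.mk f (C c * X ^ (n + 1)) * e
          = (AdjoinRoot.mk f (C c * X ^ n)) * (e * AdjoinRoot.root f) := by
        rw [pow_succ, ← mul_assoc, map_mul (AdjoinRoot.mk f) _ X, AdjoinRoot.mk_X]; ring
      rw [this, ← ha, mul_smul_comm, ih, smul_smul]
      congr 1
      simp only [Polynomial.eval_mul, Polynomial.eval_C, Polynomial.eval_pow, Polynomial.eval_X]
      ring
  have hfa : (f.eval a) • e = 0 := by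
    rw [← hpoly f, AdjoinRoot.mk_self, zero_mul]
  -- freeness
  let b := (AdjoinRoot.powerBasis' hf).basis
  have hex : ∃ i, IsUnit (b.repr e i) := by
    by_contra hcon
    simp only [not_exists] at hcon
    have he0 : ev f a₀ h0 e = 0 := by
      conv_lhs => rw [← b.sum_repr e]
      rw [map_sum]
      apply Finset.sum_eq_zero
      intro i _
      rw [Algebra.smul_def, AdjoinRoot.algebraMap_eq, map_mul, ev_of]
      have : IsLocalRing.residue R (b.repr e i) = 0 :=
        (IsLocalRing.residue_eq_zero_iff _).mpr ((IsLocalRing.mem_maximalIdeal _).mpr (hcon i))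
      rw [this, zero_mul]
    rw [he1] at he0
    exact one_ne_zero he0
  obtain ⟨i, hi⟩ := hex
  have hroot : f.eval a = 0 := by
    have := congrArg (fun z => b.repr z i) hfa
    simp only [map_smul, Finsupp.smul_apply, smul_eq_mul, map_zero, Finsupp.zero_apply] at this
    exact (hi.mul_left_eq_zero).mp this
  refine ⟨a, hroot, ?_⟩
  have h3 := congrArg (ev f a₀ h0) ha
  rw [Algebra.smul_def, AdjoinRoot.algebraMap_eq, map_mul, map_mul, ev_of, ev_root, he1, mul_one,
    one_mul] at h3
  exact Ideal.Quotient.eq.mp h3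


end


/-- a') implies a): let R be a local ring such that for every monic polynomial F over R the quotient
ring R[T]/(F) is isomorphic, as a ring, to a finite product of local rings. Then R is henselian. -/
theorem result (R : Type u) [CommRing R] [IsLocalRing R]
    (h : ∀ F : Polynomial R, F.Monic →
      ∃ (ι : Type u) (_ : Fintype ι) (A : ι → Type u) (_ : ∀ i, CommRing (A i)),
        (∀ i, IsLocalRing (A i)) ∧ Nonempty (AdjoinRoot F ≃+* (∀ i, A i))) :
    HenselianLocalRing R := by
  classical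
  exact main R h

end Groth.Agent.S5034
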