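import Groth.Statements.S5048
import Groth.Agent.Lib.Helper4.LocalIso

set_option autoImplicit false
set_option backward.isDefEq.respectTransparency.types false
set_option synthInstance.maxHeartbeats 400000
set_option linter.unusedSimpArgs false
set_option linter.style.haveILetI false
open CategoryTheory AlgebraicGeometry
universe u
open Unram

open TopologicalSpace
namespace Groth.Agent.S5048

/-- Let Y be an irreducible scheme with generic point η and f : X ⟶ Y flat, locally of finite type and
locally quasi-finite. Then a point x of X maps to η if and only if its closure is an irreducible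
component of X; thus the irreducible components of X are in canonical bijection with the fibre over
η. -/
theorem result {X Y : Scheme.{u}} [IrreducibleSpace ↥Y] (f : X ⟶ Y)
    [Flat f] [LocallyOfFiniteType f] [LocallyQuasiFinite f] (x : X) :
    f.base x = genericPoint Y ↔ closure ({x} : Set ↥X) ∈ irreducibleComponents ↥X := by
  have hgen : GeneralizingMap f := Flat.generalizingMap f
  constructor
  · intro hx
    apply Groth.Agent.Lib.Helper4.LocalIso.generic_of_forall_specializes
    intro x' hx'
    have h1 : f x' ⤳ f x := hx'.map f.continuous
    have h2 : f x' = genericPoint Y := by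
      have h3 : genericPoint Y ⤳ f x' := genericPoint_specializes _
      have hx2 : f x = genericPoint Y := hx
      rw [hx2] at h1
      exact (h1.antisymm h3).eq
    have hdisc := f.isDiscrete_preimage_singleton (genericPoint Y)
    rw [isDiscrete_iff_forall_mem_exists_isOpen] at hdisc
    obtain ⟨u, hu, hux⟩ := hdisc x (show f x = genericPoint Y from hx)
    have hxu : x ∈ u := (hux.symm ▸ Set.mem_singleton x : x ∈ u ∩ _).1
    have hx'u : x' ∈ u := hx'.mem_open hu hxu
    have : x' ∈ u ∩ f ⁻¹' {genericPoint Y} := ⟨hx'u, h2⟩
    rw [hux] at this
    exact this
  · intro hx
    have h3 : genericPoint Y ⤳ f x := genericPoint_specializes _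
    obtain ⟨x', hx'x, hx'⟩ := hgen h3
    have : x' = x := Groth.Agent.Lib.Helper4.LocalIso.eq_of_specializes_generic hx hx'x
    rw [← this]; exact hx'

end Groth.Agent.S5048
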