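import Groth.Statements.S5050
import Mathlib

set_option autoImplicit false
universe u v
open CInt

namespace Groth.Agent.S5050

/-- Let A be a Noetherian ring, N a finitely generated A-module, E and F submodules of N and Q an ideal
of A. For every natural number k there is h > 0 with E ⊓ (F ⊔ Q^h N) ≤ (E ⊓ F) ⊔ Q^k N. -/
theorem result {A : Type u} [CommRing A] [IsNoetherianRing A] {N : Type v} [AddCommGroup N]
    [Module A N] [Module.Finite A N] (E F : Submodule A N) (Q : Ideal A) (k : ℕ) :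
    ∃ h : ℕ, 0 < h ∧ E ⊓ (F ⊔ Q ^ h • (⊤ : Submodule A N)) ≤ (E ⊓ F) ⊔ Q ^ k • (⊤ : Submodule A N) := by
  obtain ⟨c, hc⟩ := Ideal.exists_pow_inf_eq_pow_smul Q (E.map F.mkQ)
  refine ⟨k + c + 1, Nat.succ_pos _, ?_⟩
  rintro x ⟨hxE, hxFQ⟩
  have h1 : F.mkQ x ∈ Q ^ (k+c+1) • (⊤ : Submodule A (N ⧸ F)) ⊓ E.map F.mkQ := by
    refine ⟨?_, Submodule.mem_map_of_mem hxE⟩
    obtain ⟨f, hf, y, hy, rfl⟩ := Submodule.mem_sup.mp hxFQ
    have hf0 : F.mkQ f = 0 := (Submodule.Quotient.mk_eq_zero F).mpr hf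
    rw [map_add, hf0, zero_add]
    have : F.mkQ y ∈ (Q ^ (k+c+1) • (⊤ : Submodule A N)).map F.mkQ := Submodule.mem_map_of_mem hy
    rw [Submodule.map_smul''] at this
    exact Submodule.smul_mono le_rfl le_top this
  rw [hc (k+c+1) (by omega)] at h1
  have h2 : F.mkQ x ∈ (Q ^ (k + c + 1 - c) • E).map F.mkQ := by
    rw [Submodule.map_smul'']
    exact Submodule.smul_mono le_rfl inf_le_right h1
  obtain ⟨y, hy, hyx⟩ := h2
  have hyE : y ∈ E := Submodule.smul_le_right hy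
  have hyQ : y ∈ Q ^ k • (⊤ : Submodule A N) := by
    have : Q ^ (k + c + 1 - c) ≤ Q ^ k := Ideal.pow_le_pow_right (by omega)
    exact Submodule.smul_mono this le_top hy
  have hxy : x - y ∈ F := by
    have : F.mkQ (x - y) = 0 := by rw [map_sub, hyx, sub_self]
    exact (Submodule.Quotient.mk_eq_zero F).mp this
  rw [Submodule.mem_sup]
  exact ⟨x - y, ⟨E.sub_mem hxE hyE, hxy⟩, y, hyQ, by abel⟩

end Groth.Agent.S5050
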