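import Groth.Statements.S5057
import Mathlib

set_option autoImplicit false
open CategoryTheory CategoryTheory.Limits AlgebraicGeometry
universe u
open Hensel

namespace Groth.Agent.S5057

/-- Let i : S₀ ⟶ S be a closed immersion such that for every finite morphism g : S' ⟶ S every
open-closed subset of S' ×_S S₀ is the inverse image under the first projection of exactly one
open-closed subset of S'. Then for every finite morphism g : S' ⟶ S, every open subset of S'
containing the image of S' ×_S S₀ is all of S'. -/
theorem result {S S₀ : Scheme.{u}} (i : S₀ ⟶ S) [IsClosedImmersion i]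
    (ha : ∀ (S' : Scheme.{u}) (g : S' ⟶ S), IsFinite g →
      ∀ V : Set ↥(pullback g i), IsClopen V → ∃! U : Set ↥S', IsClopen U ∧ (pullback.fst g i).base ⁻¹' U = V)
    {S' : Scheme.{u}} (g : S' ⟶ S) [IsFinite g] (U : Set ↥S') (hU : IsOpen U)
    (hU₀ : Set.range (pullback.fst g i).base ⊆ U) : U = Set.univ := by
  classical
  by_contra hne
  have hZc : IsClosed Uᶜ := hU.isClosed_compl
  let Zc : TopologicalSpace.Closeds S' := ⟨Uᶜ, hZc⟩
  let I := Scheme.IdealSheafData.vanishingIdeal Zc
  have hrange : Set.range I.subschemeι = Uᶜ := by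
    rw [Scheme.IdealSheafData.range_subschemeι, Scheme.IdealSheafData.coe_support_vanishingIdeal]
    rfl
  have hfin : IsFinite (I.subschemeι ≫ g) := inferInstance
  have hempty : IsEmpty ↥(pullback (I.subschemeι ≫ g) i) := by
    constructor
    intro w
    let m : pullback (I.subschemeι ≫ g) i ⟶ pullback g i :=
      pullback.lift (pullback.fst _ _ ≫ I.subschemeι) (pullback.snd _ _)
        (by rw [Category.assoc, pullback.condition])
    have hm : m ≫ pullback.fst g i = pullback.fst _ _ ≫ I.subschemeι := pullback.lift_fst _ _ _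
    have h1 : (pullback.fst g i) (m w) = I.subschemeι ((pullback.fst (I.subschemeι ≫ g) i) w) := by
      rw [← Scheme.Hom.comp_apply, hm, Scheme.Hom.comp_apply]
    have h2 : (pullback.fst g i) (m w) ∈ U := hU₀ ⟨_, rfl⟩
    have h3 : I.subschemeι ((pullback.fst (I.subschemeι ≫ g) i) w) ∈ Uᶜ := by
      rw [← hrange]; exact ⟨_, rfl⟩
    rw [h1] at h2
    exact h3 h2
  obtain ⟨U', hU', huniq⟩ := ha _ (I.subschemeι ≫ g) hfin ∅ isClopen_empty
  have e1 := huniq ∅ ⟨isClopen_empty, Set.preimage_empty⟩
  have e2 := huniq Set.univ ⟨isClopen_univ, by ext w; exact (hempty.false w).elim⟩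
  have e3 : (Set.univ : Set I.subscheme) = ∅ := e2.trans e1.symm
  have e4 : Uᶜ = ∅ := by
    rw [← hrange, ← Set.image_univ, e3, Set.image_empty]
  exact hne (Set.compl_empty_iff.1 e4)

end Groth.Agent.S5057
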