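import Groth.Statements.S5063
import Groth.Agent.Lib.Helper6.EtLoc.FlatDescSch
import Groth.Agent.Lib.Helper6.EtLoc.UnramPoint

set_option autoImplicit false
open CategoryTheory CategoryTheory.Limits AlgebraicGeometry
universe u
open Unram

namespace Groth.Agent.S5063

/-- Let f : X ⟶ Y be locally of finite presentation. If f is unramified then there are étale morphisms
g_a : Y'_a ⟶ Y and opens U_a of the fibre products X ×_Y Y'_a whose images under the first
projections cover X, such that each U_a ⟶ Y'_a (inclusion followed by the second projection) is a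
closed immersion. Conversely, the existence of such a family with the g_a only assumed flat implies
that f is unramified. -/
theorem result {X Y : Scheme.{u}} (f : X ⟶ Y) [LocallyOfFinitePresentation f] :
    (FormallyUnramified f → ∃ (ι : Type u) (Y' : ι → Scheme.{u}) (g : ∀ a, Y' a ⟶ Y) (U : ∀ a, (pullback f (g a)).Opens),
      (∀ a, Etale (g a)) ∧ (∀ x : X, ∃ a, x ∈ (pullback.fst f (g a)).base '' (U a : Set ↥(pullback f (g a)))) ∧
        ∀ a, IsClosedImmersion ((U a).ι ≫ pullback.snd f (g a))) ∧
    ((∃ (ι : Type u) (Y' : ι → Scheme.{u}) (g : ∀ a, Y' a ⟶ Y) (U : ∀ a, (pullback f (g a)).Opens),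
      (∀ a, Flat (g a)) ∧ (∀ x : X, ∃ a, x ∈ (pullback.fst f (g a)).base '' (U a : Set ↥(pullback f (g a)))) ∧
        ∀ a, IsClosedImmersion ((U a).ι ≫ pullback.snd f (g a))) → FormallyUnramified f) := by
  constructor
  · intro hf
    have key : ∀ x : X, ∃ (Y' : Scheme.{u}) (g : Y' ⟶ Y) (U : (pullback f g).Opens), Etale g ∧
        x ∈ (pullback.fst f g).base '' (U : Set ↥(pullback f g)) ∧
        IsClosedImmersion (U.ι ≫ pullback.snd f g) := by
      intro x
      have h1 : FormallyUnramified ((⊤ : X.Opens).ι ≫ f) :=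
        MorphismProperty.comp_mem _ _ _ (inferInstance : FormallyUnramified (⊤ : X.Opens).ι) hf
      obtain ⟨U, g, u, hg, hgu, K, hK, V, h1, h2, h3, h4⟩ :=
        Groth.Agent.Lib.Helper6.EtLoc.unram_point f x ⊤ (TopologicalSpace.Opens.mem_top x)
          inferInstance h1
      obtain ⟨v, hv1, hv2⟩ :=
        Scheme.Pullback.exists_preimage_pullback (f := f) (g := g) x u hgu.symm
      obtain ⟨k, hk⟩ := h4 v hv2 hv1
      exact ⟨U, g, V k, hg, ⟨v, hk, hv1⟩, (h1 k).1⟩
    choose Y' g U hg hx hU using key
    exact ⟨X, Y', g, U, hg, fun x => ⟨x, hx x⟩, hU⟩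
  · rintro ⟨ι, Y', g, U, hg, hcov, hU⟩
    have : IsZariskiLocalAtSource @FormallyUnramified.{u} :=
      HasRingHomProperty.instIsZariskiLocalAtSource
    apply Groth.Agent.Lib.Helper6.EtLoc.of_forall_exists_openImmersion @FormallyUnramified f
    intro x
    obtain ⟨a, w, hw, hwx⟩ := hcov x
    have := hg a
    have hUa : FormallyUnramified ((U a).ι ≫ pullback.snd f (g a)) := by
      have := hU a
      infer_instance
    obtain ⟨Z, j, hj, hjx, hjet⟩ :=
      Groth.Agent.Lib.Helper6.EtLoc.formallyUnramified_of_flat_local f (g a) (U a) hUa w hw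
    refine ⟨Z, j, hj, ?_, hjet⟩
    rw [← hwx]
    exact hjx

end Groth.Agent.S5063
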