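import Groth.Statements.S5073
import Mathlib

set_option autoImplicit false
universe u
open EGA418

namespace Groth.Agent.S5073

/-- Let A be a Noetherian local ring, p a prime ideal and x an element of A. Then there is an element x'
of A whose image in A_p equals that of x and which belongs to no minimal prime ideal of A not
contained in p. -/
theorem result (A : Type u) [CommRing A] [IsNoetherianRing A] [IsLocalRing A]
    (p : Ideal A) [p.IsPrime] (x : A) :
    ∃ x' : A, algebraMap A (Localization.AtPrime p) x' = algebraMap A (Localization.AtPrime p) x ∧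
      ∀ q ∈ minimalPrimes A, ¬ q ≤ p → x' ∉ q := by
  classical
  obtain ⟨I, hIdef⟩ : ∃ I : Ideal A, I = RingHom.ker (algebraMap A (Localization.AtPrime p)) :=
    ⟨_, rfl⟩
  have hIq : ∀ q ∈ minimalPrimes A, ¬ q ≤ p → ∃ s ∈ I, s ∉ q := by
    intro q hq hqp
    haveI : q.IsPrime := hq.1.1
    obtain ⟨t, htq, htp⟩ := SetLike.not_le_iff_exists.mp hqp
    have h1 := IsLocalization.AtPrime.radical_map_of_mem_minimalPrimes
      (Localization.AtPrime q) q ⊥ hq
    have h2 : algebraMap A (Localization.AtPrime q) t ∈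
        (Ideal.map (algebraMap A (Localization.AtPrime q)) ⊥).radical := by
      rw [h1]; exact Ideal.mem_map_of_mem _ htq
    obtain ⟨n, hn⟩ := h2
    rw [Ideal.map_bot, Ideal.mem_bot, ← map_pow, IsLocalization.map_eq_zero_iff q.primeCompl] at hn
    obtain ⟨s, hs⟩ := hn
    refine ⟨s, ?_, s.2⟩
    rw [hIdef, RingHom.mem_ker, IsLocalization.map_eq_zero_iff p.primeCompl]
    exact ⟨⟨t^n, fun h => htp (Ideal.IsPrime.mem_of_pow_mem ‹p.IsPrime› n h)⟩,
      by simpa [mul_comm] using hs⟩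
  have hfin : (minimalPrimes A).Finite := minimalPrimes.finite_of_isNoetherianRing A
  obtain ⟨M, hM⟩ : ∃ M : Finset (Ideal A), ∀ q, q ∈ M ↔ q ∈ minimalPrimes A ∧ ¬ q ≤ p := by
    refine ⟨hfin.toFinset.filter (fun q => ¬ q ≤ p), ?_⟩
    intro q; rw [Finset.mem_filter, Set.Finite.mem_toFinset]
  obtain ⟨S, hS⟩ : ∃ S : Finset (Ideal A), ∀ q, q ∈ S ↔ q ∈ M ∧ x ∈ q :=
    ⟨M.filter (fun q => x ∈ q), fun q => Finset.mem_filter⟩
  obtain ⟨T, hT⟩ : ∃ T : Finset (Ideal A), ∀ q, q ∈ T ↔ q ∈ M ∧ x ∉ q :=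
    ⟨M.filter (fun q => x ∉ q), fun q => Finset.mem_filter⟩
  have hJ : ¬ (((I * ∏ q ∈ T, q : Ideal A) : Set A) ⊆
      ⋃ q ∈ (S : Set (Ideal A)), ((id q : Ideal A) : Set A)) := by
    rw [Ideal.subset_union_prime (f := id) ⊥ ⊥]
    · rintro ⟨q, hqS, hJq⟩
      rw [hS, hM] at hqS
      obtain ⟨⟨hqmin, hqp⟩, hxq⟩ := hqS
      haveI : q.IsPrime := hqmin.1.1
      rcases (Ideal.IsPrime.mul_le ‹q.IsPrime›).mp hJq with h1 | h1
      · obtain ⟨s, hsI, hsq⟩ := hIq q hqmin hqp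
        exact hsq (h1 hsI)
      · obtain ⟨q', hq'T, hq'q⟩ := (Ideal.IsPrime.prod_le ‹q.IsPrime›).mp h1
        rw [hT, hM] at hq'T
        obtain ⟨⟨hq'min, _⟩, hxq'⟩ := hq'T
        have : q ≤ q' := hqmin.2 ⟨hq'min.1.1, bot_le⟩ hq'q
        exact hxq' (this hxq)
    · intro q hqS _ _
      rw [hS, hM] at hqS
      exact hqS.1.1.1.1
  obtain ⟨y, hyJ, hyS⟩ := Set.not_subset.mp hJ
  rw [SetLike.mem_coe] at hyJ
  refine ⟨x + y, ?_, ?_⟩
  · have hyI : y ∈ I := Ideal.mul_le_left hyJ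
    rw [hIdef, RingHom.mem_ker] at hyI
    rw [map_add, hyI, add_zero]
  · intro q hq hqp hxy
    have hqM := (hM q).mpr ⟨hq, hqp⟩
    by_cases hxq : x ∈ q
    · have hyq : y ∈ q := by
        have := q.sub_mem hxy hxq
        simpa using this
      apply hyS
      simp only [Set.mem_iUnion, Finset.mem_coe, id]
      exact ⟨q, (hS q).mpr ⟨hqM, hxq⟩, hyq⟩
    · have hyq : y ∈ q := by
        have h1 : y ∈ ∏ q ∈ T, q := Ideal.mul_le_right hyJ
        exact (Ideal.prod_le_inf.trans (Finset.inf_le ((hT q).mpr ⟨hqM, hxq⟩))) h1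
      exact hxq (by have := q.sub_mem hxy hyq; simpa using this)

end Groth.Agent.S5073
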