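import Groth.Statements.S5074
import Groth.Agent.Lib.Helper8.PSK4
import Groth.Agent.Lib.Helper8.EK11
import Groth.Agent.Lib.Helper8.RegularLocal

set_option autoImplicit false
universe u
open EGA418

namespace Groth.Agent.S5074

/-- Finiteness of Frobenius in terms of the subfield of `p`-th powers. -/
theorem finite_fieldRange_of_finite (p : ℕ) (k : Type u) [Field k] [ExpChar k p]
    (hk : (frobenius k p).Finite) : Module.Finite (frobenius k p).fieldRange k := by
  have h1 : @Module.Finite k k _ _ (frobenius k p).toAlgebra.toModule := hk
  obtain ⟨S, hS⟩ := @Module.Finite.fg_top k k _ _ (frobenius k p).toAlgebra.toModule h1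
  refine ⟨⟨S, ?_⟩⟩
  rw [eq_top_iff]
  intro x _
  have hx : x ∈ @Submodule.span k k _ _ (frobenius k p).toAlgebra.toModule (S : Set k) := by
    rw [hS]; trivial
  refine @Submodule.span_induction k k _ _ (frobenius k p).toAlgebra.toModule (S : Set k)
    (fun y _ => y ∈ Submodule.span (frobenius k p).fieldRange (S : Set k)) ?_ ?_ ?_ ?_ x hx
  · intro y hy
    exact Submodule.subset_span hy
  · exact Submodule.zero_mem _
  · intro y z _ _ hy hz
    exact Submodule.add_mem _ hy hz
  · intro c y _ hy
    exact Submodule.smul_mem _ (⟨frobenius k p c, ⟨c, rfl⟩⟩ : (frobenius k p).fieldRange) hy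


/-- Let k be a field of characteristic exponent p such that k is finite over k^p (the Frobenius
endomorphism of k is a finite ring map), A a complete Noetherian local k-algebra whose residue field
is a finite extension of k, and P a prime ideal of A such that A_P is geometrically regular over k.
Then for every minimal prime q of A contained in P (there is exactly one), the A_P-module obtained
by localising at P the completion of the module of differentials of A over k is free of rank equal
to dim(A/q). -/
theorem result (p : ℕ) (k A : Type u) [Field k] [ExpChar k p]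
    (hk : (frobenius k p).Finite) [CommRing A] [IsLocalRing A] [IsNoetherianRing A] [Algebra k A]
    [IsAdicComplete (IsLocalRing.maximalIdeal A) A] [Module.Finite k (IsLocalRing.ResidueField A)]
    (P : Ideal A) [P.IsPrime] (hP : CAlg.IsGeometricallyRegular k (Localization.AtPrime P))
    (q : Ideal A) (hq : q ∈ minimalPrimes A) (hqP : q ≤ P) (n : ℕ) (hn : ringKrullDim (A ⧸ q) = n) :
    Module.Free (Localization.AtPrime P) (LocalizedModule P.primeCompl (AdicCompletion (IsLocalRing.maximalIdeal A) (KaehlerDifferential k A))) ∧
      Module.finrank (Localization.AtPrime P) (LocalizedModule P.primeCompl (AdicCompletion (IsLocalRing.maximalIdeal A) (KaehlerDifferential k A))) = n := by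
  classical
  have hk' : p = 1 ∨ Module.Finite (frobenius k p).fieldRange k :=
    Or.inr (finite_fieldRange_of_finite p k hk)
  obtain ⟨s, hs⟩ := Groth.Agent.Helper8.PSK.genAt_of_geomRegular p hk' P hP q hq hqP n hn
  haveI : q.IsPrime := hq.1.1
  haveI hreg : IsRegularLocalRing (Localization.AtPrime P) :=
    (Groth.Agent.Helper8.Cartier.isAdicFormallySmooth_iff_regular_and_injective.mp
      (Groth.Agent.Helper8.PRad.isGeometricallyRegular_iff_isAdicFormallySmooth.mp hP)).1
  haveI : IsDomain (Localization.AtPrime P) :=
    Groth.Agent.Helper8.RLR.isDomain _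
  have hq0 := Groth.Agent.Helper8.EK.algebraMap_eq_zero_of_mem_minimalPrimes P q hq hqP
  have hnot : ∀ m, m + 1 = n → ¬ Groth.Agent.Helper8.EK.GenAt q
      (Groth.Agent.Helper8.EK.Ωh k A) m := by
    intro m hm hgen'
    have h1 := Groth.Agent.Helper8.EK.ringKrullDim_quotient_le_of_genAt k A q q le_rfl m hgen'
    rw [hn] at h1
    have h2 : n ≤ m := by exact_mod_cast h1
    omega
  exact Groth.Agent.Helper8.EK.free_and_finrank_of_genBy P s hs q hqP hq0 hnot

end Groth.Agent.S5074
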