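import Groth.Statements.S5076
import Mathlib
-- import your own Groth.Agent.* helpers here

set_option autoImplicit false
universe u
open Unram

namespace Groth.Agent.S5076

namespace Aux

open IsLocalRing

theorem main (A C : Type u) [CommRing A] [IsLocalRing A]
    [CommRing C] [Algebra A C] [Module.Finite A C] (r : Ideal C) [hr : r.IsMaximal] (u : C)
    (hu₁ : ∀ r' : Ideal C, r'.IsMaximal → r' ≠ r → u ∈ r') (hu₂ : u ∉ r)
    (hu₃ : Subalgebra.toSubmodule (Algebra.adjoin A {algebraMap C (Localization.AtPrime r) u}) ⊔
        Submodule.restrictScalars A (Ideal.map (algebraMap A (Localization.AtPrime r)) (IsLocalRing.maximalIdeal A)) = ⊤) :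
    Function.Bijective (Localization.localRingHom (Ideal.comap (Algebra.adjoin A ({u} : Set C)).val.toRingHom r) r
      (Algebra.adjoin A ({u} : Set C)).val.toRingHom rfl) := by
  classical
  set B := Algebra.adjoin A ({u} : Set C) with hB
  set ι : B →+* C := B.val.toRingHom with hι
  have hιalg : ι = algebraMap B C := rfl
  have hιinj : Function.Injective ι := Subtype.val_injective
  set n := Ideal.comap ι r with hn
  have hnprime : n.IsPrime := Ideal.comap_isPrime ι r
  set φ := Localization.localRingHom n r ι rfl with hφ
  have hrprime : r.IsPrime := hr.isPrime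
  have hfinBC : Module.Finite B C := Module.Finite.of_restrictScalars_finite A B C
  have hintBC : Algebra.IsIntegral B C := inferInstance
  have hintAB : Algebra.IsIntegral A B := by
    have : Algebra.IsIntegral A C := inferInstance
    exact Algebra.IsIntegral.of_injective (B.val) Subtype.val_injective
  -- n is maximal
  have hnmax : n.IsMaximal := Ideal.isMaximal_comap_of_isIntegral_of_isMaximal r
  -- key lemma
  have key : ∀ t : C, t ∉ r → ∃ c : C, ∃ s : B, s ∉ n ∧ t * c = ι s := by
    intro t ht
    by_contra hcon
    push Not at hcon
    have hle : (Ideal.span {t} : Ideal C).comap (algebraMap B C) ≤ n := by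
      intro s hs
      by_contra hsn
      obtain ⟨c, hc⟩ := Ideal.mem_span_singleton'.mp (Ideal.mem_comap.mp hs)
      exact hcon c s hsn (by rw [mul_comm, hc]; rfl)
    obtain ⟨𝔮, h𝔮t, h𝔮prime, h𝔮n⟩ := Ideal.exists_ideal_over_prime_of_isIntegral n _ hle
    have h𝔮max : 𝔮.IsMaximal := by
      apply Ideal.isMaximal_of_isIntegral_of_isMaximal_comap (R := B) 𝔮
      rw [h𝔮n]; exact hnmax
    have htq : t ∈ 𝔮 := h𝔮t (Ideal.subset_span rfl)
    have hne : 𝔮 ≠ r := fun h => ht (h ▸ htq)
    have huq : u ∈ 𝔮 := hu₁ 𝔮 h𝔮max hne
    have hun : (⟨u, Algebra.subset_adjoin rfl⟩ : B) ∈ n := by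
      rw [← h𝔮n]
      exact huq
    exact hu₂ hun
  constructor
  · -- injectivity
    rw [injective_iff_map_eq_zero]
    intro x hx
    obtain ⟨b, s, rfl⟩ := IsLocalization.exists_mk'_eq n.primeCompl x
    rw [hφ, Localization.localRingHom_mk', IsLocalization.mk'_eq_zero_iff] at hx
    obtain ⟨⟨t, ht⟩, htb⟩ := hx
    obtain ⟨c, s', hs', hcs⟩ := key t ht
    rw [IsLocalization.mk'_eq_zero_iff]
    refine ⟨⟨s', hs'⟩, ?_⟩
    apply hιinj
    rw [map_mul, map_zero, ← hcs, mul_comm t c, mul_assoc]
    simp only at htb
    rw [htb, mul_zero]
  · -- surjectivity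
    letI : Algebra (Localization.AtPrime n) (Localization.AtPrime r) := φ.toAlgebra
    have halg : ∀ x : Localization.AtPrime n, ∀ y : Localization.AtPrime r, x • y = φ x * y :=
      fun x y => rfl
    -- compatibility of algebra maps
    have hcompat : ∀ b : B, φ (algebraMap B (Localization.AtPrime n) b) =
        algebraMap C (Localization.AtPrime r) (ι b) := fun b => by
      rw [hφ, Localization.localRingHom_to_map]
    have hcompatA : ∀ a : A, φ (algebraMap B (Localization.AtPrime n) (algebraMap A B a)) =
        algebraMap A (Localization.AtPrime r) a := fun a => by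
      rw [hcompat, IsScalarTower.algebraMap_apply A C (Localization.AtPrime r)]
      rfl
    -- finite generation over B_n
    have hfg : (⊤ : Submodule (Localization.AtPrime n) (Localization.AtPrime r)).FG := by
      obtain ⟨S, hS⟩ := (Module.Finite.fg_top : (⊤ : Submodule A C).FG)
      refine ⟨S.image (algebraMap C (Localization.AtPrime r)), ?_⟩
      rw [eq_top_iff]
      intro y _
      obtain ⟨c, ⟨t, ht⟩, rfl⟩ := IsLocalization.exists_mk'_eq r.primeCompl y
      obtain ⟨c', s, hs, hcs⟩ := key t ht
      have h1 : IsLocalization.mk' (Localization.AtPrime r) c (⟨t, ht⟩ : r.primeCompl) =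
          φ (IsLocalization.mk' (Localization.AtPrime n) 1 (⟨s, hs⟩ : n.primeCompl)) *
            algebraMap C (Localization.AtPrime r) (c * c') := by
        rw [hφ, Localization.localRingHom_mk', map_one, IsLocalization.mk'_eq_iff_eq_mul]
        have e1 : algebraMap C (Localization.AtPrime r) (c * c') *
            algebraMap C (Localization.AtPrime r) t =
            algebraMap C (Localization.AtPrime r) c * algebraMap C (Localization.AtPrime r) (ι s) := by
          rw [← map_mul, ← map_mul, ← hcs]; congr 1; ring
        rw [mul_assoc, e1, mul_comm (algebraMap C (Localization.AtPrime r) c), ← mul_assoc]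
        have e2 := IsLocalization.mk'_spec (Localization.AtPrime r) (1 : C)
          (⟨ι s, hs⟩ : r.primeCompl)
        rw [e2, map_one, one_mul]
      rw [h1, ← halg]
      apply Submodule.smul_mem
      have hcc : c * c' ∈ Submodule.span A (S : Set C) := by rw [hS]; trivial
      generalize c * c' = z at hcc
      induction hcc using Submodule.span_induction with
      | mem x hx =>
        apply Submodule.subset_span
        simp only [Finset.coe_image]
        exact ⟨x, hx, rfl⟩
      | zero => rw [map_zero]; exact Submodule.zero_mem _
      | add x y _ _ hx hy => rw [map_add]; exact Submodule.add_mem _ hx hy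
      | smul a x _ hx =>
        rw [Algebra.smul_def, map_mul, ← IsScalarTower.algebraMap_apply A C (Localization.AtPrime r),
          ← hcompatA, ← halg]
        exact Submodule.smul_mem _ _ hx
    -- Nakayama
    have hmA : Ideal.comap (algebraMap A C) r = maximalIdeal A := by
      have : (Ideal.comap (algebraMap A C) r).IsMaximal :=
        Ideal.isMaximal_comap_of_isIntegral_of_isMaximal r
      exact IsLocalRing.eq_maximalIdeal this
    have hmap : Ideal.map (algebraMap A (Localization.AtPrime r)) (maximalIdeal A) ≤
        Ideal.map φ (maximalIdeal (Localization.AtPrime n)) := by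
      rw [Ideal.map_le_iff_le_comap]
      intro a ha
      rw [Ideal.mem_comap, ← hcompatA]
      apply Ideal.mem_map_of_mem
      rw [IsLocalization.AtPrime.to_map_mem_maximal_iff (Localization.AtPrime n) n]
      rw [hn, Ideal.mem_comap]
      have : a ∈ Ideal.comap (algebraMap A C) r := by rw [hmA]; exact ha
      exact this
    have hadj : ∀ y ∈ Algebra.adjoin A {algebraMap C (Localization.AtPrime r) u},
        y ∈ φ.range := by
      intro y hy
      induction hy using Algebra.adjoin_induction with
      | mem x hx =>
        rw [Set.mem_singleton_iff] at hx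
        subst hx
        exact ⟨algebraMap B (Localization.AtPrime n) ⟨u, Algebra.subset_adjoin rfl⟩, hcompat _⟩
      | algebraMap a => exact ⟨_, hcompatA a⟩
      | add x y _ _ hx hy => exact add_mem hx hy
      | mul x y _ _ hx hy => exact mul_mem hx hy
    have hNak : (⊤ : Submodule (Localization.AtPrime n) (Localization.AtPrime r)) ≤
        LinearMap.range (Algebra.linearMap (Localization.AtPrime n) (Localization.AtPrime r)) := by
      apply Submodule.le_of_le_smul_of_le_jacobson_bot (I := maximalIdeal (Localization.AtPrime n)) hfg
      · exact IsLocalRing.maximalIdeal_le_jacobson ⊥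
      · intro y _
        have hy : y ∈ Subalgebra.toSubmodule (Algebra.adjoin A {algebraMap C (Localization.AtPrime r) u}) ⊔
          Submodule.restrictScalars A (Ideal.map (algebraMap A (Localization.AtPrime r)) (IsLocalRing.maximalIdeal A)) := by
          rw [hu₃]; trivial
        obtain ⟨a, ha, b, hb, rfl⟩ := Submodule.mem_sup.mp hy
        apply Submodule.add_mem_sup
        · obtain ⟨x, hx⟩ := hadj a ha
          exact ⟨x, hx⟩
        · rw [Ideal.smul_top_eq_map]
          exact hmap hb
    intro y
    obtain ⟨x, hx⟩ := hNak (Submodule.mem_top : y ∈ ⊤)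
    exact ⟨x, hx⟩

end Aux

/-- Let A be a local ring with maximal ideal m, C a finite A-algebra, r a maximal ideal of C, and u an
element of C which lies in every maximal ideal of C other than r, does not lie in r, and whose image
generates C_r modulo m C_r as an A-algebra. Let B = A[u] be the A-subalgebra of C generated by u and
n the inverse image of r in B. Then the canonical homomorphism B_n → C_r is bijective. -/
theorem result (A C : Type u) [CommRing A] [IsLocalRing A]
    [CommRing C] [Algebra A C] [Module.Finite A C] (r : Ideal C) [r.IsMaximal] (u : C)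
    (hu₁ : ∀ r' : Ideal C, r'.IsMaximal → r' ≠ r → u ∈ r') (hu₂ : u ∉ r)
    (hu₃ : Subalgebra.toSubmodule (Algebra.adjoin A {algebraMap C (Localization.AtPrime r) u}) ⊔
        Submodule.restrictScalars A (Ideal.map (algebraMap A (Localization.AtPrime r)) (IsLocalRing.maximalIdeal A)) = ⊤) :
    Function.Bijective (Localization.localRingHom (Ideal.comap (Algebra.adjoin A ({u} : Set C)).val.toRingHom r) r
      (Algebra.adjoin A ({u} : Set C)).val.toRingHom rfl) := by
  exact Aux.main A C r u hu₁ hu₂ hu₃

end Groth.Agent.S5076
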