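import Groth.Statements.S5077
import Mathlib
-- import your own Groth.Agent.* helpers here

set_option autoImplicit false
universe u
open Unram

namespace Groth.Agent.S5077

namespace Aux

open Polynomial IsLocalRing

section Deriv

variable {A B : Type u} [CommRing A] [CommRing B] [Algebra A B]

/-- the ideal generated by the `G'(u)` with `G(u) = 0` -/
def jac (u : B) : Ideal B :=
  Ideal.span {b | ∃ G : A[X], aeval u G = 0 ∧ b = aeval u (derivative G)}

lemma mk_jac_eq_zero (u : B) (G : A[X]) (hG : aeval u G = 0) :
    (Ideal.Quotient.mk (jac (A := A) u)) (aeval u (derivative G)) = 0 :=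
  Ideal.Quotient.eq_zero_iff_mem.mpr (Ideal.subset_span ⟨G, hG, rfl⟩)

lemma mk_eq_of_aeval_eq (u : B) (G H : A[X]) (h : aeval u G = aeval u H) :
    (Ideal.Quotient.mk (jac (A := A) u)) (aeval u (derivative G)) =
      (Ideal.Quotient.mk (jac (A := A) u)) (aeval u (derivative H)) := by
  have h1 := mk_jac_eq_zero u (G - H) (by rw [map_sub, h, sub_self])
  rw [derivative_sub, map_sub, map_sub, sub_eq_zero] at h1
  exact h1

/-- the derivation `B → B / jac u`, `G(u) ↦ G'(u)` -/
noncomputable def der (u : B) (hu : Function.Surjective (aeval (R := A) u)) :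
    Derivation A B (B ⧸ jac (A := A) u) where
  toFun b := Ideal.Quotient.mk _ (aeval u (derivative (Function.surjInv hu b)))
  map_add' x y := by
    rw [mk_eq_of_aeval_eq u (Function.surjInv hu (x + y))
      (Function.surjInv hu x + Function.surjInv hu y)
      (by rw [map_add, Function.surjInv_eq hu, Function.surjInv_eq hu, Function.surjInv_eq hu])]
    rw [derivative_add, map_add, map_add]
  map_smul' a x := by
    simp only [RingHom.id_apply]
    rw [mk_eq_of_aeval_eq u (Function.surjInv hu (a • x)) (C a * Function.surjInv hu x)
      (by rw [map_mul, aeval_C, Function.surjInv_eq hu, Function.surjInv_eq hu, Algebra.smul_def])]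
    rw [derivative_C_mul, map_mul, aeval_C, ← Algebra.smul_def]
    rfl
  map_one_eq_zero' := by
    simp only [LinearMap.coe_mk, AddHom.coe_mk]
    rw [mk_eq_of_aeval_eq u (Function.surjInv hu 1) 1
      (by rw [Function.surjInv_eq hu, map_one])]
    simp
  leibniz' x y := by
    simp only [LinearMap.coe_mk, AddHom.coe_mk]
    rw [mk_eq_of_aeval_eq u (Function.surjInv hu (x * y))
      (Function.surjInv hu x * Function.surjInv hu y)
      (by rw [map_mul, Function.surjInv_eq hu, Function.surjInv_eq hu, Function.surjInv_eq hu])]
    rw [derivative_mul, map_add, map_mul, map_mul, map_add, Function.surjInv_eq hu,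
      Function.surjInv_eq hu, add_comm]
    congr 1
    · rw [mul_comm]; rfl

lemma der_aeval (u : B) (hu : Function.Surjective (aeval (R := A) u)) (G : A[X]) :
    der u hu (aeval u G) = Ideal.Quotient.mk _ (aeval u (derivative G)) := by
  change Ideal.Quotient.mk _ (aeval u (derivative (Function.surjInv hu (aeval u G)))) = _
  exact mk_eq_of_aeval_eq u _ _ (Function.surjInv_eq hu _)

/-- if `B` is unramified over `A` at the prime `n`, some `G'(u)` with `G(u) = 0` lies outside `n` -/
lemma exists_derivative_notMem (u : B) (hu : Function.Surjective (aeval (R := A) u))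
    (n : Ideal B) [n.IsPrime] (hn : Algebra.IsUnramifiedAt A n) :
    ∃ G : A[X], aeval u G = 0 ∧ aeval u (derivative G) ∉ n := by
  have h1 : (⟨n, inferInstance⟩ : PrimeSpectrum B) ∈ Algebra.unramifiedLocus A B := hn
  rw [Algebra.unramifiedLocus_eq_compl_support, Set.mem_compl_iff, Module.notMem_support_iff'] at h1
  obtain ⟨s, hs, hsD⟩ := h1 (KaehlerDifferential.D A B u)
  have h2 := congrArg (der u hu).liftKaehlerDifferential hsD
  rw [map_smul, Derivation.liftKaehlerDifferential_comp_D, map_zero] at h2
  have h3 : der u hu u = 1 := by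
    have := der_aeval u hu (X : A[X])
    rw [aeval_X, derivative_X, map_one, map_one] at this
    exact this
  rw [h3] at h2
  have h4 : s • (1 : B ⧸ jac (A := A) u) = Ideal.Quotient.mk _ s := by
    rw [← map_one (Ideal.Quotient.mk (jac (A := A) u)), ← Ideal.Quotient.mk_eq_mk,
      ← Submodule.Quotient.mk_smul, smul_eq_mul, mul_one]
    rfl
  rw [h4] at h2
  have hsJ : s ∈ jac (A := A) u := Ideal.Quotient.eq_zero_iff_mem.mp h2
  by_contra hcon
  push Not at hcon
  have hle : jac (A := A) u ≤ n := by
    rw [jac, Ideal.span_le]
    rintro _ ⟨G, hG, rfl⟩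
    exact hcon G hG
  exact hs (hle hsJ)

end Deriv

theorem main (A B : Type u) [CommRing A] [IsLocalRing A]
    [CommRing B] [Algebra A B] [Module.Finite A B] (u : B) (hu : Algebra.adjoin A ({u} : Set B) = ⊤) :
    ∃ F : Polynomial A, F.Monic ∧ Polynomial.aeval u F = 0 ∧
      ∀ (n : Ideal B) [n.IsMaximal], Algebra.IsUnramifiedAt A n → Polynomial.aeval u (Polynomial.derivative F) ∉ n := by
  classical
  have hsurj : Function.Surjective (aeval (R := A) u) := by
    rw [← AlgHom.range_eq_top, ← Algebra.adjoin_singleton_eq_range_aeval, hu]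
  set mB : Submodule A B := (maximalIdeal A) • (⊤ : Submodule A B) with hmB
  -- mB is stable under multiplication by B
  have hmBmul : ∀ (b z : B), z ∈ mB → b * z ∈ mB := by
    intro b z hz
    refine Submodule.smul_induction_on hz ?_ ?_
    · intro a ha x _
      rw [mul_smul_comm]
      exact Submodule.smul_mem_smul ha Submodule.mem_top
    · intro x y hx hy
      rw [mul_add]; exact Submodule.add_mem _ hx hy
  -- the predicate
  let Pd : ℕ → Prop := fun d => u ^ d ∈ Submodule.span A (Set.range fun i : Fin d => u ^ (i : ℕ)) ⊔ mB
  have hex : ∃ d, Pd d := by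
    obtain ⟨P, hPmonic, hP⟩ := Algebra.IsIntegral.isIntegral (R := A) u
    refine ⟨P.natDegree, Submodule.mem_sup_left ?_⟩
    have h1 : u ^ P.natDegree = - ∑ i : Fin P.natDegree, P.coeff i • u ^ (i : ℕ) := by
      have h2 : aeval u P = 0 := by rwa [aeval_def]
      rw [aeval_eq_sum_range, Finset.sum_range_succ, hPmonic.coeff_natDegree, one_smul,
        ← Fin.sum_univ_eq_sum_range (fun i => P.coeff i • u ^ i)] at h2
      exact eq_neg_of_add_eq_zero_right h2
    rw [h1]
    apply Submodule.neg_mem
    apply Submodule.sum_mem
    intro i _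
    exact Submodule.smul_mem _ _ (Submodule.subset_span ⟨i, rfl⟩)
  set d := Nat.find hex with hd
  have hPd : Pd d := Nat.find_spec hex
  have hmin : ∀ j < d, ¬ Pd j := fun j hj => Nat.find_min hex hj
  set N : Submodule A B := Submodule.span A (Set.range fun i : Fin d => u ^ (i : ℕ)) ⊔ mB with hN
  -- all powers of u lie in N
  have hpow : ∀ j : ℕ, u ^ j ∈ N := by
    intro j
    induction j using Nat.strong_induction_on with
    | _ j ih =>
      by_cases hj : j < d
      · exact Submodule.mem_sup_left (Submodule.subset_span ⟨⟨j, hj⟩, rfl⟩)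
      · push Not at hj
        obtain ⟨y, hy, z, hz, hyz⟩ := Submodule.mem_sup.mp hPd
        obtain ⟨c, hc⟩ := (Submodule.mem_span_range_iff_exists_fun A).mp hy
        have h1 : u ^ j = ∑ i : Fin d, c i • u ^ ((i : ℕ) + (j - d)) + u ^ (j - d) * z := by
          have : u ^ j = u ^ (j - d) * u ^ d := by rw [← pow_add]; congr 1; omega
          rw [this, ← hyz, ← hc, mul_add, Finset.mul_sum]
          congr 1
          apply Finset.sum_congr rfl
          intro i _
          rw [mul_smul_comm, ← pow_add, add_comm]
        rw [h1]
        apply Submodule.add_mem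
        · apply Submodule.sum_mem
          intro i _
          exact Submodule.smul_mem _ _ (ih _ (by have := i.2; omega))
        · exact Submodule.mem_sup_right (hmBmul _ _ hz)
  have hNtop : N = ⊤ := by
    rw [eq_top_iff]
    intro b _
    obtain ⟨G, rfl⟩ := hsurj b
    rw [aeval_eq_sum_range]
    apply Submodule.sum_mem
    intro i _
    exact Submodule.smul_mem _ _ (hpow i)
  -- Nakayama
  have hspan : Submodule.span A (Set.range fun i : Fin d => u ^ (i : ℕ)) = ⊤ := by
    rw [eq_top_iff]
    apply Submodule.le_of_le_smul_of_le_jacobson_bot (I := maximalIdeal A)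
      (Module.Finite.fg_top) (IsLocalRing.maximalIdeal_le_jacobson ⊥)
    rw [← hmB, ← hN, hNtop]
  obtain ⟨c, hc⟩ := (Submodule.mem_span_range_iff_exists_fun A).mp
    (hspan ▸ Submodule.mem_top : u ^ d ∈ Submodule.span A (Set.range fun i : Fin d => u ^ (i : ℕ)))
  set F : A[X] := X ^ d - ∑ i : Fin d, C (c i) * X ^ (i : ℕ) with hF
  have hFmonic : F.Monic := monic_X_pow_sub (degree_sum_fin_lt c)
  have hFu : aeval u F = 0 := by
    rw [hF, map_sub, map_pow, aeval_X, map_sum, ← hc, sub_eq_zero]
    apply Finset.sum_congr rfl
    intro i _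
    rw [map_mul, aeval_C, map_pow, aeval_X, Algebra.smul_def]
  have hFdeg : F.natDegree = d := by
    rw [hF]
    apply natDegree_eq_of_degree_eq_some
    rw [degree_sub_eq_left_of_degree_lt, degree_X_pow]
    rw [degree_X_pow]
    exact degree_sum_fin_lt c
  refine ⟨F, hFmonic, hFu, ?_⟩
  intro n hnmax hunr
  have hnprime : n.IsPrime := hnmax.isPrime
  obtain ⟨G, hGu, hGn⟩ := exists_derivative_notMem u hsurj n hunr
  -- division
  set Q := G /ₘ F with hQ
  set R := G %ₘ F with hR
  have hGQR : G = R + F * Q := (modByMonic_add_div G F).symm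
  have hRu : aeval u R = 0 := by
    have := congrArg (aeval u) hGQR
    rw [hGu, map_add, map_mul, hFu, zero_mul, add_zero] at this
    exact this.symm
  have hRdeg : R.natDegree < d ∨ d = 0 := by
    by_cases hd0 : d = 0
    · exact Or.inr hd0
    · left
      have hF1 : F ≠ 1 := by
        intro h
        rw [h, natDegree_one] at hFdeg
        exact hd0 hFdeg.symm
      have := natDegree_modByMonic_lt G hFmonic hF1
      rwa [hFdeg] at this
  -- the maximal ideal of A maps into n
  have hmn : ∀ a ∈ maximalIdeal A, algebraMap A B a ∈ n := by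
    intro a ha
    have hcomap : (n.comap (algebraMap A B)).IsMaximal :=
      Ideal.isMaximal_comap_of_isIntegral_of_isMaximal n
    have := IsLocalRing.eq_maximalIdeal hcomap
    have h2 : a ∈ n.comap (algebraMap A B) := this ▸ ha
    exact h2
  have hmBn : ∀ z ∈ mB, z ∈ n := by
    intro z hz
    refine Submodule.smul_induction_on hz ?_ ?_
    · intro a ha x _
      rw [Algebra.smul_def]
      exact Ideal.mul_mem_right _ _ (hmn a ha)
    · intro x y hx hy
      exact Ideal.add_mem _ hx hy
  -- all coefficients of R lie in m
  have hRcoeff : ∀ i, R.coeff i ∈ maximalIdeal A := by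
    by_contra hcon
    push Not at hcon
    rcases hRdeg with hRdeg | hd0
    swap
    · -- d = 0: then 1 ∈ mB so B = mB, everything in n: contradiction with n proper
      have h1 : (1 : B) ∈ mB := by
        have := hPd
        simp only [Pd] at this
        rw [hd0] at this
        simpa using this
      exact hnprime.ne_top ((Ideal.eq_top_iff_one n).mpr (hmBn 1 h1))
    · -- largest index with unit coefficient
      obtain ⟨i₀, hi₀⟩ := hcon
      have hi₀d : i₀ < d := by
        by_contra h
        push Not at h
        have : R.coeff i₀ = 0 := coeff_eq_zero_of_natDegree_lt (by omega)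
        rw [this] at hi₀
        exact hi₀ (Ideal.zero_mem _)
      let S : Finset ℕ := (Finset.range d).filter fun i => R.coeff i ∉ maximalIdeal A
      have hSne : S.Nonempty := ⟨i₀, Finset.mem_filter.mpr ⟨Finset.mem_range.mpr hi₀d, hi₀⟩⟩
      set j := S.max' hSne with hj
      have hjS : j ∈ S := Finset.max'_mem S hSne
      obtain ⟨hjd, hjunit⟩ := Finset.mem_filter.mp hjS
      rw [Finset.mem_range] at hjd
      have hlarge : ∀ i, j < i → i < d → R.coeff i ∈ maximalIdeal A := by
        intro i hji hid
        by_contra h
        have : i ∈ S := Finset.mem_filter.mpr ⟨Finset.mem_range.mpr hid, h⟩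
        have := Finset.le_max' S i this
        omega
      have hunit : IsUnit (R.coeff j) := by
        by_contra h
        exact hjunit ((mem_maximalIdeal _).mpr h)
      obtain ⟨v, hv⟩ := hunit
      apply hmin j hjd
      -- u^j ∈ span{u^i}_{i<j} + mB
      have hsum : ∑ i ∈ Finset.range d, R.coeff i • u ^ i = 0 := by
        rw [← aeval_eq_sum_range' hRdeg]; exact hRu
      have hsplit : Finset.range d = Finset.range j ∪ {j} ∪ Finset.Ico (j + 1) d := by
        ext i
        simp only [Finset.mem_range, Finset.mem_union, Finset.mem_singleton, Finset.mem_Ico]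
        omega
      rw [hsplit, Finset.sum_union, Finset.sum_union, Finset.sum_singleton] at hsum
      rotate_left
      · simp
      · rw [Finset.disjoint_left]
        intro i hi
        simp only [Finset.mem_range, Finset.mem_union, Finset.mem_singleton, Finset.mem_Ico] at hi ⊢
        omega
      have hcj : R.coeff j • u ^ j = -(∑ i ∈ Finset.range j, R.coeff i • u ^ i) -
          ∑ i ∈ Finset.Ico (j + 1) d, R.coeff i • u ^ i := by
        have := hsum
        linear_combination (exp := 1) this
      have huj : u ^ j = (↑v⁻¹ : A) • (R.coeff j • u ^ j) := by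
        rw [← hv, smul_smul, Units.inv_mul, one_smul]
      simp only [Pd]
      rw [huj, hcj, smul_sub]
      apply Submodule.sub_mem
      · apply Submodule.mem_sup_left
        apply Submodule.smul_mem
        apply Submodule.neg_mem
        apply Submodule.sum_mem
        intro i hi
        rw [Finset.mem_range] at hi
        exact Submodule.smul_mem _ _ (Submodule.subset_span ⟨⟨i, hi⟩, rfl⟩)
      · apply Submodule.mem_sup_right
        apply Submodule.smul_mem
        apply Submodule.sum_mem
        intro i hi
        rw [Finset.mem_Ico] at hi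
        exact Submodule.smul_mem_smul (hlarge i (by omega) hi.2) Submodule.mem_top
  -- conclude
  intro hFn
  apply hGn
  have h1 : derivative G = derivative R + (derivative F * Q + F * derivative Q) := by
    conv_lhs => rw [hGQR]
    rw [derivative_add, derivative_mul]
  rw [h1, map_add, map_add, map_mul, map_mul, hFu, zero_mul, add_zero]
  apply Ideal.add_mem
  · -- R'(u) ∈ mB ⊆ n
    rw [aeval_eq_sum_range]
    apply Ideal.sum_mem
    intro i _
    rw [coeff_derivative, Algebra.smul_def]
    apply Ideal.mul_mem_right
    apply hmn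
    exact Ideal.mul_mem_right _ _ (hRcoeff _)
  · exact Ideal.mul_mem_right _ _ hFn

end Aux

/-- Let A be a local ring and B a finite A-algebra generated by a single element u. Then there is a
monic polynomial F with coefficients in A such that F(u) = 0 and F'(u) does not belong to any
maximal ideal n of B at which B is unramified over A. -/
theorem result (A B : Type u) [CommRing A] [IsLocalRing A]
    [CommRing B] [Algebra A B] [Module.Finite A B] (u : B) (hu : Algebra.adjoin A ({u} : Set B) = ⊤) :
    ∃ F : Polynomial A, F.Monic ∧ Polynomial.aeval u F = 0 ∧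
      ∀ (n : Ideal B) [n.IsMaximal], Algebra.IsUnramifiedAt A n → Polynomial.aeval u (Polynomial.derivative F) ∉ n := by
  exact Aux.main A B u hu

end Groth.Agent.S5077
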