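import Groth.Statements.S5078
import Mathlib

set_option autoImplicit false
universe u v
open Hensel

namespace Groth.Agent.S5078

/-- Let A be a ring, I an ideal such that A is I-adically separated and complete, and M a finitely
generated projective A-module. Then M is I-adically separated and complete. -/
theorem result {A : Type u} [CommRing A] (I : Ideal A) [IsAdicComplete I A]
    (M : Type v) [AddCommGroup M] [Module A M] [Module.Finite A M] [Module.Projective A M] :
    IsAdicComplete I M := by
  classical
  obtain ⟨n, r, hr⟩ := Module.Finite.exists_fin' A M
  obtain ⟨i, hi⟩ := Module.projective_lifting_property r LinearMap.id hr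
  have hri : ∀ m, r (i m) = m := fun m => LinearMap.congr_fun hi m
  have hA : Function.Bijective (AdicCompletion.of I A) :=
    AdicCompletion.of_bijective_iff.mpr inferInstance
  have hF : Function.Bijective (AdicCompletion.of I (Fin n → A)) := by
    have hcomp : ∀ x : Fin n → A,
        AdicCompletion.piEquivFin I n (AdicCompletion.of I _ x) =
          fun j => AdicCompletion.of I A (x j) := by
      intro x
      funext j
      rw [AdicCompletion.piEquivFin_apply]
      change AdicCompletion.map I (LinearMap.proj j) (AdicCompletion.of I _ x) = _
      rw [AdicCompletion.map_of]
      rfl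
    have hb : Function.Bijective
        (fun x : Fin n → A => fun j => AdicCompletion.of I A (x j)) := by
      constructor
      · intro x y hxy
        funext j
        exact hA.1 (congrFun hxy j)
      · intro y
        choose x hx using fun j => hA.2 (y j)
        exact ⟨x, funext hx⟩
    have : (AdicCompletion.of I (Fin n → A) : (Fin n → A) → _) =
        (AdicCompletion.piEquivFin I n).symm ∘
          (fun x : Fin n → A => fun j => AdicCompletion.of I A (x j)) := by
      funext x
      rw [Function.comp_apply, ← hcomp, LinearEquiv.symm_apply_apply]
    rw [this]
    exact (AdicCompletion.piEquivFin I n).symm.bijective.comp hb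
  rw [← AdicCompletion.of_bijective_iff]
  constructor
  · intro m m' h
    have h1 : AdicCompletion.of I _ (i m) = AdicCompletion.of I _ (i m') := by
      rw [← AdicCompletion.map_of, ← AdicCompletion.map_of, h]
    have := hF.1 h1
    rw [← hri m, ← hri m', this]
  · intro x
    obtain ⟨f, hf⟩ := hF.2 (AdicCompletion.map I i x)
    refine ⟨r f, ?_⟩
    rw [← AdicCompletion.map_of, hf, AdicCompletion.map_comp_apply, hi, AdicCompletion.map_id]
    rfl

end Groth.Agent.S5078
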