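import Groth.Statements.S5117
import Mathlib
import Groth.Prelude.Def_Pi1
import Groth.Agent.Lib.Helper9.FE.FieldSec
import Groth.Agent.Lib.Helper9.FE.FieldGal
-- import your own Groth.Agent.* helpers here

set_option autoImplicit false
universe u
open Pi1

namespace Groth.Agent.S5117

open CategoryTheory CategoryTheory.Limits AlgebraicGeometry
namespace Aux
set_option backward.isDefEq.respectTransparency false
set_option linter.style.haveILetI false
set_option linter.unusedSectionVars false
open H9FE

theorem main (k : Type u) [Field k] {X : Scheme.{u}}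
    (f : X ⟶ Spec (CommRingCat.of k)) [CompactSpace X] [QuasiSeparatedSpace X]
    [ConnectedSpace ↥(pullback f (Spec.map (CommRingCat.ofHom (algebraMap k (AlgebraicClosure k)))))]
    (X' : FEt.Cat X) [ConnectedSpace X'.left]
    (σ : pullback f (Spec.map (CommRingCat.ofHom (algebraMap k (AlgebraicClosure k)))) ⟶ X'.left)
    (hσ : σ ≫ X'.hom = pullback.fst f (Spec.map (CommRingCat.ofHom (algebraMap k (AlgebraicClosure k))))) :
    ∃ S' : FEt.Cat (Spec (CommRingCat.of k)), Nonempty ((FEt.restrict f).obj S' ≅ X') := by
  let K := AlgebraicClosure k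
  obtain ⟨F, iF1, iF2, iF3, iF4, iF5, iF6, g, hg1, hg2⟩ := exists_descent_sep k K f X' σ hσ
  let M : IntermediateField k K := IntermediateField.normalClosure k F K
  haveI : Algebra.IsSeparable k M := by
    show Algebra.IsSeparable k (IntermediateField.normalClosure k F K)
    rw [normalClosure_def]
    haveI : ∀ φ : F →ₐ[k] K, Algebra.IsSeparable k φ.fieldRange := fun φ =>
      AlgEquiv.Algebra.isSeparable (AlgEquiv.ofInjectiveField φ)
    exact IntermediateField.isSeparable_iSup k K
  haveI : Algebra.FormallyEtale k M := Algebra.FormallyEtale.of_isSeparable k M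
  haveI : Algebra.FinitePresentation k M :=
    Algebra.FinitePresentation.of_finiteType.mp inferInstance
  haveI : Algebra.Etale k M := ⟨inferInstance, inferInstance⟩
  -- connectedness
  have hs1 : Surjective (pullback.fst f (Spec.map (CommRingCat.ofHom (algebraMap k K)))) :=
    inferInstance
  haveI : ConnectedSpace X :=
    hs1.surj.connectedSpace (pullback.fst f (Spec.map (CommRingCat.ofHom (algebraMap k K)))).continuous
  let P₀ := fetOfAlg k M
  let P := (FEt.restrict f).obj P₀
  have hqM : Surjective (fieldTrans M K k f) :=
    MorphismProperty.pullbackMap (P := @Surjective) (inferInstanceAs (Surjective (𝟙 X)))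
      (specMap_surjective_of_field M K) (by simp) (by
        rw [← Spec.map_comp, ← CommRingCat.ofHom_comp, ← IsScalarTower.algebraMap_eq])
  let cM : Spec (CommRingCat.of M) ⟶ Spec (CommRingCat.of k) :=
    Spec.map (CommRingCat.ofHom (algebraMap k M))
  haveI : ConnectedSpace P.left := by
    show ConnectedSpace ↥(pullback cM f)
    have h1 : Function.Surjective (fieldTrans M K k f ≫ (pullbackSymmetry cM f).inv) := by
      intro y
      obtain ⟨x, hx⟩ := hqM.surj ((pullbackSymmetry cM f).hom y)
      refine ⟨x, ?_⟩
      rw [Scheme.Hom.comp_apply, hx, ← Scheme.Hom.comp_apply, Iso.hom_inv_id]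
      rfl
    exact h1.connectedSpace (Scheme.Hom.continuous _)
  haveI : PreGaloisCategory.IsConnected P := isConnected_of_connectedSpace P
  let gP : P ⟶ X' := MorphismProperty.Over.homMk
    ((pullbackSymmetry cM f).hom ≫ fieldTrans F M k f ≫ g) (by
      show ((pullbackSymmetry cM f).hom ≫ fieldTrans F M k f ≫ g) ≫ X'.hom = pullback.snd cM f
      rw [Category.assoc, Category.assoc, hg1, fieldTrans_fst, pullbackSymmetry_hom_comp_fst])
  have hsurj : Function.Surjective gP.left := by
    have hcl : IsClopen (Set.range gP.left) := isClopen_range gP.left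
    obtain ⟨z⟩ := (inferInstance : Nonempty P.left)
    rcases isClopen_iff.mp hcl with h | h
    · exfalso
      have : gP.left z ∈ Set.range gP.left := ⟨z, rfl⟩
      rw [h] at this
      exact this
    · intro x
      have : x ∈ Set.range gP.left := by rw [h]; trivial
      exact this
  exact exists_quotient_iso f P₀ (galEnd k M)
    (fun Ω _ _ ξ a b => galEnd_transitive k M f Ω ξ a b) X' gP hsurj

end Aux

open AlgebraicGeometry CategoryTheory CategoryTheory.Limits in
/-- (ii bis) ⇒ (i), over a field. Let k be a field with algebraic closure k̄, X a quasi-compact and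
quasi-separated k-scheme such that X ×_k k̄ is connected, and X' a connected finite etale cover of
X. If the induced cover X' ×_k k̄ → X ×_k k̄ admits a section, then X' is isomorphic over X to X ×_k
S' for some finite etale k-scheme S'. (The published statement allows the spectrum of an Artinian
local ring with residue field k as base and asks only that X be quasi-compact; this row takes a
field and X quasi-compact and quasi-separated.) -/
theorem result (k : Type u) [Field k] {X : Scheme.{u}}
    (f : X ⟶ Spec (CommRingCat.of k)) [CompactSpace X] [QuasiSeparatedSpace X]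
    [ConnectedSpace ↥(pullback f (Spec.map (CommRingCat.ofHom (algebraMap k (AlgebraicClosure k)))))]
    (X' : FEt.Cat X) [ConnectedSpace X'.left]
    (σ : pullback f (Spec.map (CommRingCat.ofHom (algebraMap k (AlgebraicClosure k)))) ⟶ X'.left)
    (hσ : σ ≫ X'.hom = pullback.fst f (Spec.map (CommRingCat.ofHom (algebraMap k (AlgebraicClosure k))))) :
    ∃ S' : FEt.Cat (Spec (CommRingCat.of k)), Nonempty ((FEt.restrict f).obj S' ≅ X') := by
  exact Aux.main k f X' σ hσ

end Groth.Agent.S5117
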