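import Groth.Statements.S5118
import Mathlib

set_option autoImplicit false
universe u
open SGA1t

namespace Groth.Agent.S5118

open Polynomial in
/-- The etaleness criterion for the Kummer group scheme: Let A be a commutative ring and n ≥ 1. The
group scheme μ_n over Spec A is the spectrum of A[t]/(t^n − 1), a free A-module of rank n; it is
etale over A if and only if n is a unit of A (equivalently, n is prime to the characteristic of the
residue field at every point of Spec A). -/
theorem result (A : Type u) [CommRing A] (n : ℕ) (hn : 1 ≤ n) :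
    Algebra.Etale A (AdjoinRoot ((X : A[X]) ^ n - 1)) ↔ IsUnit ((n : ℕ) : A) := by
  classical
  have hn0 : n ≠ 0 := by omega
  set f : A[X] := (X : A[X]) ^ n - 1 with hf
  have hfC : f = X ^ n - C 1 := by rw [hf, map_one]
  have hmonic : f.Monic := by
    rw [hfC]
    exact Polynomial.monic_X_pow_sub_C 1 hn0
  have hder : derivative f = C (n : A) * X ^ (n - 1) := by
    rw [hf, derivative_sub, derivative_one, sub_zero, derivative_X_pow]
  constructor
  · -- etale ⇒ n is a unit
    intro hE
    let B := AdjoinRoot f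
    let x : B := AdjoinRoot.root f
    let d : B := aeval x (derivative f)
    let Q := B ⧸ Ideal.span {d}
    let π : B →ₐ[A] Q := Ideal.Quotient.mkₐ A (Ideal.span {d})
    have hπd : π d = 0 := by
      show Ideal.Quotient.mk _ d = 0
      rw [Ideal.Quotient.eq_zero_iff_mem]
      exact Ideal.subset_span rfl
    let C' := DualNumber Q
    let y : C' := TrivSqZeroExt.inl (π x) + DualNumber.eps
    have hroot : aeval y f = 0 := by
      have hsq : (DualNumber.eps : C') ^ 2 = 0 := by rw [pow_two, DualNumber.eps_mul_eps]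
      rw [Polynomial.aeval_add_of_sq_eq_zero _ _ _ hsq]
      have e1 : ∀ p : A[X], aeval (TrivSqZeroExt.inl (π x) : C') p =
          TrivSqZeroExt.inl (π (aeval x p)) := by
        intro p
        have := Polynomial.aeval_algHom_apply ((TrivSqZeroExt.inlAlgHom A Q Q).comp π) x p
        simpa using this
      rw [e1, e1]
      have hx0 : aeval x f = 0 := by
        rw [AdjoinRoot.aeval_eq, AdjoinRoot.mk_self]
      rw [hx0, map_zero, hπd]
      simp
    let g₁ : B →ₐ[A] C' := (TrivSqZeroExt.inlAlgHom A Q Q).comp π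
    let g₂ : B →ₐ[A] C' := AdjoinRoot.liftAlgHom f (Algebra.ofId A C') y (by
      rw [← hroot]
      rfl)
    have hg₂ : g₂ x = y := by
      show AdjoinRoot.liftAlgHom f (Algebra.ofId A C') y _ (AdjoinRoot.root f) = y
      simp
    have hnil : IsNilpotent (RingHom.ker ((TrivSqZeroExt.fstHom A Q Q) : C' →+* Q)) := by
      refine ⟨2, ?_⟩
      have := TrivSqZeroExt.kerIdeal_sq Q Q
      exact this
    haveI : Algebra.FormallyUnramified A B := inferInstance
    have hcomp : (TrivSqZeroExt.fstHom A Q Q).comp g₁ = (TrivSqZeroExt.fstHom A Q Q).comp g₂ := by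
      apply AdjoinRoot.algHom_ext
      show TrivSqZeroExt.fst (g₁ x) = TrivSqZeroExt.fst (g₂ x)
      rw [hg₂]
      have e1 : TrivSqZeroExt.fst (g₁ x) = π x := rfl
      have e2 : TrivSqZeroExt.fst y = π x := by
        show TrivSqZeroExt.fst ((TrivSqZeroExt.inl (π x) : DualNumber Q) + DualNumber.eps) = π x
        rw [TrivSqZeroExt.fst_add, TrivSqZeroExt.fst_inl, DualNumber.fst_eps, add_zero]
      rw [e1, e2]
    have hg : g₁ = g₂ := Algebra.FormallyUnramified.lift_unique' (TrivSqZeroExt.fstHom A Q Q) hnil g₁ g₂ hcomp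
    have h1 : TrivSqZeroExt.snd (g₁ x) = TrivSqZeroExt.snd (g₂ x) := by rw [hg]
    rw [hg₂] at h1
    have h2 : (0 : Q) = 1 := by
      have e1 : TrivSqZeroExt.snd (g₁ x) = 0 := rfl
      have e2 : TrivSqZeroExt.snd y = 1 := by
        show TrivSqZeroExt.snd ((TrivSqZeroExt.inl (π x) : DualNumber Q) + DualNumber.eps) = 1
        rw [TrivSqZeroExt.snd_add, TrivSqZeroExt.snd_inl, DualNumber.snd_eps, zero_add]
      rw [e1, e2] at h1
      exact h1
    have h3 : (1 : B) ∈ Ideal.span {d} := by
      rw [← Ideal.Quotient.eq_zero_iff_mem]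
      exact h2.symm
    have hdunit : IsUnit d := by
      rw [← Ideal.span_singleton_eq_top]
      exact (Ideal.eq_top_iff_one _).2 h3
    -- evaluate at the root 1 of f in A
    let φ : B →ₐ[A] A := AdjoinRoot.liftAlgHom f (AlgHom.id A A) 1 (by
      simp [hf])
    have hφx : φ x = 1 := by
      show AdjoinRoot.liftAlgHom f (AlgHom.id A A) 1 _ (AdjoinRoot.root f) = 1
      simp
    have hφd : φ d = (n : A) := by
      show φ (aeval x (derivative f)) = _
      rw [← Polynomial.aeval_algHom_apply, hφx, hder]
      simp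
    rw [← hφd]
    exact hdunit.map φ
  · -- n unit ⇒ etale
    intro hu
    obtain ⟨u, hu'⟩ := hu
    let P : StandardEtalePair A :=
      { f := f
        monic_f := hmonic
        g := 1
        cond := ⟨C (↑u⁻¹ : A) * X, -1, 1, by
          rw [hder, hf]
          have h1 : C (n : A) * C (↑u⁻¹ : A) = 1 := by
            rw [← C_mul, ← hu', Units.mul_inv, C_1]
          have h2 : (X : A[X]) ^ (n - 1) * X = X ^ n := by
            rw [← pow_succ, Nat.sub_add_cancel hn]
          calc C (n : A) * X ^ (n - 1) * (C (↑u⁻¹ : A) * X) + (X ^ n - 1) * -1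
              = (C (n : A) * C (↑u⁻¹ : A)) * (X ^ (n - 1) * X) - (X ^ n - 1) := by ring
            _ = 1 ^ 1 := by rw [h1, h2]; ring⟩ }
    have e1 : P.Ring ≃ₐ[A] Localization.Away (AdjoinRoot.mk P.f P.g) := P.equivAwayAdjoinRoot
    have hone : AdjoinRoot.mk P.f P.g = 1 := map_one _
    haveI : IsLocalization.Away (1 : AdjoinRoot f) (Localization.Away (AdjoinRoot.mk P.f P.g)) := by
      rw [← hone]
      infer_instance
    have e2 : AdjoinRoot f ≃ₐ[AdjoinRoot f] Localization.Away (AdjoinRoot.mk P.f P.g) :=
      IsLocalization.atOne (AdjoinRoot f) _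
    have e3 : P.Ring ≃ₐ[A] AdjoinRoot f := e1.trans (e2.restrictScalars A).symm
    exact Algebra.Etale.of_equiv e3

end Groth.Agent.S5118
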