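import Groth.Statements.S5119
import Mathlib

set_option autoImplicit false
universe u
open scoped LaurentPolynomial
open SGA1t

namespace Groth.Agent.S5119

/-- The computation behind the exactness of the Kummer sequence 0 → μ_n → G_m → G_m → 0, i.e. faithful
flatness of the n-th power map u_n of G_m: Let A be a commutative ring and n ≥ 1, and let u_n be the
ring endomorphism of A[t, t⁻¹] with u_n(t) = t^n (on monomials, t^k ↦ t^{nk}). Then A[t, t⁻¹] is
free of rank n over itself via u_n, with basis 1, t, …, t^{n−1}: every Laurent polynomial q can be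
written in exactly one way as Σ_{i<n} u_n(c_i) t^i. -/
theorem result (A : Type u) [CommRing A] (n : ℕ) (hn : 1 ≤ n) (q : A[T;T⁻¹]) :
    ∃! c : Fin n → A[T;T⁻¹],
      q = ∑ i : Fin n, (AddMonoidAlgebra.mapDomainRingHom A (AddMonoidHom.mulLeft (n : ℤ)) : A[T;T⁻¹] →+* A[T;T⁻¹]) (c i) *
        LaurentPolynomial.T (i : ℤ) := by
  classical
  have hn0 : (n : ℤ) ≠ 0 := by
    have : 0 < n := hn
    exact_mod_cast this.ne'
  have hnpos : (0 : ℤ) < n := by exact_mod_cast hn
  set φ : ℤ → ℤ := fun k => (n : ℤ) * k with hφ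
  have hφinj : Function.Injective φ := fun a b h => mul_left_cancel₀ hn0 h
  set u : A[T;T⁻¹] →+* A[T;T⁻¹] :=
    (AddMonoidAlgebra.mapDomainRingHom A (AddMonoidHom.mulLeft (n : ℤ))) with hu
  have hucoeff : ∀ (x : A[T;T⁻¹]) (m : ℤ), (u x).coeff m = Finsupp.mapDomain φ x.coeff m := by
    intro x m
    rfl
  -- the key coefficient formula
  have key : ∀ (c : Fin n → A[T;T⁻¹]) (k : ℤ) (i : Fin n),
      (∑ j : Fin n, u (c j) * LaurentPolynomial.T (j : ℤ)).coeff ((n : ℤ) * k + (i : ℤ)) = (c i).coeff k := by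
    intro c k i
    rw [AddMonoidAlgebra.coeff_sum, Finsupp.finset_sum_apply, Finset.sum_eq_single i]
    · show (u (c i) * AddMonoidAlgebra.single ((i : ℕ) : ℤ) (1 : A)).coeff _ = _
      rw [AddMonoidAlgebra.coeff_mul_single_apply, mul_one, hucoeff]
      have : (n : ℤ) * k + (i : ℤ) + -((i : ℕ) : ℤ) = φ k := by simp [hφ]
      rw [this, Finsupp.mapDomain_apply hφinj]
    · intro j _ hji
      show (u (c j) * AddMonoidAlgebra.single ((j : ℕ) : ℤ) (1 : A)).coeff _ = _
      rw [AddMonoidAlgebra.coeff_mul_single_apply, mul_one, hucoeff]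
      apply Finsupp.mapDomain_notin_range
      rintro ⟨l, hl⟩
      apply hji
      have hl' : (n : ℤ) * l = (n : ℤ) * k + (i : ℤ) + -((j : ℕ) : ℤ) := hl
      have hi : ((i : ℕ) : ℤ) < n := by exact_mod_cast i.2
      have hj : ((j : ℕ) : ℤ) < n := by exact_mod_cast j.2
      have hi0 : (0 : ℤ) ≤ ((i : ℕ) : ℤ) := Int.natCast_nonneg _
      have hj0 : (0 : ℤ) ≤ ((j : ℕ) : ℤ) := Int.natCast_nonneg _
      have h1 : (n : ℤ) * (l - k) = (i : ℤ) - (j : ℤ) := by rw [mul_sub, hl']; ring
      have h2 : l - k = 0 := by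
        by_contra hne
        rcases lt_or_gt_of_ne hne with hlt | hgt
        · have : l - k ≤ -1 := by omega
          nlinarith
        · have : 1 ≤ l - k := by omega
          nlinarith
      rw [h2, mul_zero] at h1
      apply Fin.ext
      have : ((j : ℕ) : ℤ) = ((i : ℕ) : ℤ) := by linarith
      exact_mod_cast this
    · intro hi
      exact absurd (Finset.mem_univ i) hi
  -- existence
  let c : Fin n → A[T;T⁻¹] := fun i =>
    AddMonoidAlgebra.ofCoeff (Finsupp.comapDomain (fun k : ℤ => (n : ℤ) * k + (i : ℤ)) q.coeff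
      (fun a _ b _ h => by
        have h' : (n : ℤ) * a + (i : ℤ) = (n : ℤ) * b + (i : ℤ) := h
        exact mul_left_cancel₀ hn0 (add_right_cancel h')))
  have hc : ∀ (i : Fin n) (k : ℤ), (c i).coeff k = q.coeff ((n : ℤ) * k + (i : ℤ)) := by
    intro i k
    rfl
  have hdecomp : ∀ m : ℤ, ∃ (k : ℤ) (i : Fin n), m = (n : ℤ) * k + (i : ℤ) := by
    intro m
    have h1 : 0 ≤ m % (n : ℤ) := Int.emod_nonneg m hn0
    have h2 : m % (n : ℤ) < n := Int.emod_lt_of_pos m hnpos
    refine ⟨m / n, ⟨(m % (n : ℤ)).toNat, ?_⟩, ?_⟩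
    · have : ((m % (n : ℤ)).toNat : ℤ) < n := by rw [Int.toNat_of_nonneg h1]; exact h2
      exact_mod_cast this
    · show m = (n : ℤ) * (m / n) + (((m % (n : ℤ)).toNat : ℕ) : ℤ)
      rw [Int.toNat_of_nonneg h1]
      exact (Int.mul_ediv_add_emod m n).symm
  refine ⟨c, ?_, ?_⟩
  · show q = ∑ j : Fin n, u (c j) * LaurentPolynomial.T (j : ℤ)
    apply AddMonoidAlgebra.ext
    apply Finsupp.ext
    intro m
    obtain ⟨k, i, rfl⟩ := hdecomp m
    rw [key c k i, hc]
  · intro c' hc'
    have hc'' : q = ∑ j : Fin n, u (c' j) * LaurentPolynomial.T (j : ℤ) := hc'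
    funext i
    apply AddMonoidAlgebra.ext
    apply Finsupp.ext
    intro k
    rw [← key c' k i, ← hc'', hc]

end Groth.Agent.S5119
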