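import Groth.Statements.S5120
import Mathlib

set_option autoImplicit false
universe u
open SGA1t

namespace Groth.Agent.Helper5.S5120aux

open Polynomial

variable {A : Type u} [CommRing A]

theorem sum_C_coeff (p : ℕ) (a : Fin p → A) (j : Fin p) :
    (∑ i : Fin p, C (a i) * X ^ (i : ℕ)).coeff (j : ℕ) = a j := by
  rw [Polynomial.finset_sum_coeff, Finset.sum_eq_single j]
  · rw [Polynomial.coeff_C_mul_X_pow, if_pos rfl]
  · intro i _ hij
    rw [Polynomial.coeff_C_mul_X_pow, if_neg]
    intro h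
    exact hij (Fin.ext h.symm)
  · intro h
    exact absurd (Finset.mem_univ j) h

theorem eq_sum_of_degree_lt (p : ℕ) (r : A[X]) (hr : r.degree < p) :
    r = ∑ i : Fin p, C (r.coeff i) * X ^ (i : ℕ) := by
  by_cases hr0 : r = 0
  · subst hr0
    simp
  have hnat : r.natDegree < p := (Polynomial.natDegree_lt_iff_degree_lt hr0).2 hr
  conv_lhs => rw [Polynomial.as_sum_range' r p hnat]
  rw [Finset.sum_range]
  refine Finset.sum_congr rfl (fun i _ => ?_)
  rw [Polynomial.C_mul_X_pow_eq_monomial]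

/-- the decomposition step -/
theorem step (p : ℕ) (f : A[X]) (c : Fin p → A[X]) :
    (∑ i : Fin p, aeval f (c i) * X ^ (i : ℕ)) =
      (∑ i : Fin p, C ((c i).coeff 0) * X ^ (i : ℕ)) +
        (-f) * (-(∑ i : Fin p, aeval f ((c i).divX) * X ^ (i : ℕ))) := by
  have h1 : ∀ i : Fin p, aeval f (c i) = aeval f ((c i).divX) * f + C ((c i).coeff 0) := by
    intro i
    conv_lhs => rw [← Polynomial.divX_mul_X_add (c i)]
    rw [map_add, map_mul, Polynomial.aeval_X, Polynomial.aeval_C]
    rfl
  rw [neg_mul_neg, Finset.mul_sum, ← Finset.sum_add_distrib]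
  refine Finset.sum_congr rfl (fun i _ => ?_)
  rw [h1 i]
  ring

theorem inj_aux [Nontrivial A] (p : ℕ) (f : A[X]) (hg : (-f).Monic) (hdeg : (-f).natDegree = p) :
    ∀ (N : ℕ) (c : Fin p → A[X]), (∀ i, (c i).natDegree ≤ N) →
      (∑ i : Fin p, aeval f (c i) * X ^ (i : ℕ)) = 0 → c = 0 := by
  have hdeg' : (-f).degree = (p : WithBot ℕ) := by
    rw [Polynomial.degree_eq_natDegree hg.ne_zero, hdeg]
  have main : ∀ (c : Fin p → A[X]), (∑ i : Fin p, aeval f (c i) * X ^ (i : ℕ)) = 0 →
      (∀ i, (c i).coeff 0 = 0) ∧ (∑ i : Fin p, aeval f ((c i).divX) * X ^ (i : ℕ)) = 0 := by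
    intro c hc
    have h := step p f c
    rw [hc] at h
    have hlt : (∑ i : Fin p, C ((c i).coeff 0) * X ^ (i : ℕ)).degree < (-f).degree := by
      rw [hdeg']
      exact Polynomial.degree_sum_fin_lt _
    obtain ⟨h1, h2⟩ := Polynomial.div_modByMonic_unique _ _ hg ⟨h.symm, hlt⟩
    rw [Polynomial.zero_divByMonic] at h1
    rw [Polynomial.zero_modByMonic] at h2
    refine ⟨fun i => ?_, ?_⟩
    · have := sum_C_coeff p (fun i => (c i).coeff 0) i
      rw [← h2] at this
      simpa using this.symm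
    · exact neg_eq_zero.1 h1.symm
  intro N
  induction N with
  | zero =>
    intro c hc hsum
    obtain ⟨h1, -⟩ := main c hsum
    funext i
    rw [Polynomial.eq_C_of_natDegree_le_zero (hc i), h1 i]
    simp
  | succ N ih =>
    intro c hc hsum
    obtain ⟨h1, h2⟩ := main c hsum
    have h3 := ih (fun i => (c i).divX) (fun i => by
      rw [Polynomial.natDegree_divX_eq_natDegree_tsub_one]
      have := hc i
      omega) h2
    funext i
    have h4 : (c i).divX = 0 := congrFun h3 i
    rw [← Polynomial.divX_mul_X_add (c i), h4, h1 i]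
    simp

theorem surj_aux [Nontrivial A] (p : ℕ) (hp : 1 ≤ p) (f : A[X]) (hg : (-f).Monic)
    (hdeg : (-f).natDegree = p) :
    ∀ (N : ℕ) (q : A[X]), q.natDegree ≤ N →
      ∃ c : Fin p → A[X], q = ∑ i : Fin p, aeval f (c i) * X ^ (i : ℕ) := by
  have hdeg' : (-f).degree = (p : WithBot ℕ) := by
    rw [Polynomial.degree_eq_natDegree hg.ne_zero, hdeg]
  have hsmall : ∀ r : A[X], r.degree < (p : WithBot ℕ) →
      ∃ c : Fin p → A[X], r = ∑ i : Fin p, aeval f (c i) * X ^ (i : ℕ) := by
    intro r hr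
    refine ⟨fun i => C (r.coeff i), ?_⟩
    conv_lhs => rw [eq_sum_of_degree_lt p r hr]
    refine Finset.sum_congr rfl (fun i _ => ?_)
    rw [Polynomial.aeval_C]
    rfl
  have hstep : ∀ (q : A[X]), (∃ c : Fin p → A[X], q /ₘ (-f) = ∑ i : Fin p, aeval f (c i) * X ^ (i : ℕ)) →
      ∃ c : Fin p → A[X], q = ∑ i : Fin p, aeval f (c i) * X ^ (i : ℕ) := by
    intro q ⟨c', hc'⟩
    have hr : (q %ₘ (-f)).degree < (p : WithBot ℕ) := by
      rw [← hdeg']
      exact Polynomial.degree_modByMonic_lt q hg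
    refine ⟨fun i => -X * c' i + C ((q %ₘ (-f)).coeff i), ?_⟩
    have e1 : ∀ i : Fin p, aeval f (-X * c' i + C ((q %ₘ (-f)).coeff i)) * X ^ (i : ℕ) =
        (-f) * (aeval f (c' i) * X ^ (i : ℕ)) + C ((q %ₘ (-f)).coeff i) * X ^ (i : ℕ) := by
      intro i
      rw [map_add, map_mul, map_neg, Polynomial.aeval_X, Polynomial.aeval_C]
      show (-f * aeval f (c' i) + C _) * X ^ (i : ℕ) = _
      ring
    rw [Finset.sum_congr rfl (fun i _ => e1 i), Finset.sum_add_distrib, ← Finset.mul_sum, ← hc',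
      ← eq_sum_of_degree_lt p _ hr]
    rw [add_comm]
    exact (Polynomial.modByMonic_add_div q (-f)).symm
  intro N
  induction N with
  | zero =>
    intro q hq
    apply hsmall
    calc q.degree ≤ (q.natDegree : WithBot ℕ) := Polynomial.degree_le_natDegree
      _ ≤ ((0 : ℕ) : WithBot ℕ) := by exact_mod_cast hq
      _ < (p : WithBot ℕ) := by exact_mod_cast hp
  | succ N ih =>
    intro q hq
    apply hstep
    apply ih
    rw [Polynomial.natDegree_divByMonic q hg, hdeg]
    omega

end Groth.Agent.Helper5.S5120aux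

namespace Groth.Agent.S5120

open Polynomial in
/-- The computation behind the exactness of the Artin-Schreier sequence 0 → Z/p → G_a → G_a → 0 in
characteristic p, i.e. faithful flatness of ℘ = id − F: Let p be a prime and A a ring of
characteristic p. Then A[t] is free of rank p over itself via the endomorphism t ↦ t − t^p, with
basis 1, t, …, t^{p−1}: every polynomial q can be written in exactly one way as Σ_{i<p} c_i(t − t^p)
t^i. -/
theorem result (p : ℕ) [Fact p.Prime] (A : Type u) [CommRing A] [CharP A p]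
    (q : A[X]) :
    ∃! c : Fin p → A[X], q = ∑ i : Fin p, aeval (X - X ^ p : A[X]) (c i) * X ^ (i : ℕ) := by
  classical
  haveI : Nontrivial A := CharP.nontrivial_of_char_ne_one (R := A) (v := p) (Fact.out : p.Prime).ne_one
  have hp2 : 2 ≤ p := (Fact.out : p.Prime).two_le
  have hneg : -(X - X ^ p : A[X]) = X ^ p - X := by ring
  have hXdeg : (X : A[X]).degree < (p : WithBot ℕ) := by
    rw [Polynomial.degree_X]
    exact_mod_cast hp2
  have hg : (-(X - X ^ p : A[X])).Monic := by
    rw [hneg]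
    exact Polynomial.monic_X_pow_sub hXdeg
  have hdeg : (-(X - X ^ p : A[X])).natDegree = p := by
    rw [hneg]
    have h1 : (X : A[X]).natDegree < (X ^ p : A[X]).natDegree := by
      rw [Polynomial.natDegree_X_pow, Polynomial.natDegree_X]
      omega
    rw [Polynomial.natDegree_sub_eq_left_of_natDegree_lt h1, Polynomial.natDegree_X_pow]
  obtain ⟨c, hc⟩ := Groth.Agent.Helper5.S5120aux.surj_aux p (by omega) _ hg hdeg q.natDegree q le_rfl
  refine ⟨c, hc, fun c' hc' => ?_⟩
  -- uniqueness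
  have hdiff : (∑ i : Fin p, aeval (X - X ^ p : A[X]) ((c' - c) i) * X ^ (i : ℕ)) = 0 := by
    have : ∀ i : Fin p, aeval (X - X ^ p : A[X]) ((c' - c) i) * X ^ (i : ℕ) =
        aeval (X - X ^ p : A[X]) (c' i) * X ^ (i : ℕ) - aeval (X - X ^ p : A[X]) (c i) * X ^ (i : ℕ) := by
      intro i
      rw [Pi.sub_apply, map_sub, sub_mul]
    rw [Finset.sum_congr rfl (fun i _ => this i), Finset.sum_sub_distrib, ← hc, ← hc', sub_self]
  let N : ℕ := Finset.univ.sup (fun i : Fin p => ((c' - c) i).natDegree)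
  have hN : ∀ i, ((c' - c) i).natDegree ≤ N := fun i =>
    Finset.le_sup (f := fun i : Fin p => ((c' - c) i).natDegree) (Finset.mem_univ i)
  have := Groth.Agent.Helper5.S5120aux.inj_aux p _ hg hdeg N (c' - c) hN hdiff
  exact sub_eq_zero.1 this

end Groth.Agent.S5120
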