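import Groth.Statements.S5129
-- import your own Groth.Agent.* helpers here
import Groth.Agent.Lib.Helper7.FEtLoc.Main

set_option autoImplicit false
universe u
open Pi1

namespace Groth.Agent.S5129

open AlgebraicGeometry CategoryTheory CategoryTheory.Limits in
/-- Surjectivity of π₁(X) → π₁(Spec A), in terms of covers. Let A be a complete Noetherian local ring
with residue field k, k̄ an algebraic closure of k, ξ : Spec k̄ ⟶ Spec A the resulting geometric
point, and X a proper A-scheme with X ×_A Spec k̄ connected. Then pulling back finite etale covers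
along X ⟶ Spec A is fully faithful. -/
theorem result (A : Type u) [CommRing A]
    [IsNoetherianRing A] [IsLocalRing A] [IsAdicComplete (IsLocalRing.maximalIdeal A) A]
    {X : Scheme.{u}} (f : X ⟶ Spec (CommRingCat.of A)) [IsProper f]
    (ξ : Spec (CommRingCat.of (AlgebraicClosure (IsLocalRing.ResidueField A))) ⟶ Spec (CommRingCat.of A))
    (hξ : ξ = Spec.map (CommRingCat.ofHom ((algebraMap (IsLocalRing.ResidueField A)
      (AlgebraicClosure (IsLocalRing.ResidueField A))).comp (IsLocalRing.residue A))))
    [ConnectedSpace ↥(pullback f ξ)] :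
    (FEt.restrict f).Full ∧ (FEt.restrict f).Faithful := by
  haveI : HenselianLocalRing A := Groth.Agent.Helper7.FEtLoc.henselianLocalRing_of_complete A
  refine Groth.Agent.Helper7.FEtLoc.main A (AlgebraicClosure (IsLocalRing.ResidueField A)) f ξ ?_
  intro pt
  rw [hξ]
  apply Groth.Agent.Helper7.FEtLoc.specMap_apply_eq_closedPoint
  intro a ha
  rw [RingHom.comp_apply, (IsLocalRing.residue_eq_zero_iff a).mpr ha, map_zero]

end Groth.Agent.S5129
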