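import Groth.Statements.S5134
import Mathlib
import Groth.Agent.Lib.Lead.PB1
import Groth.Agent.Lib.Lead.FP2
import Groth.Agent.Lib.Lead.FLF4

set_option autoImplicit false
open CategoryTheory AlgebraicGeometry
universe u
open SGA1

namespace Groth.Agent.S5134

section
open CategoryTheory AlgebraicGeometry

open Groth.Agent.Lead

theorem main {S S' : Scheme.{u}} (g : S' ⟶ S) [Flat g] [Surjective g] [QuasiCompact g]
    (F : S.Modules) (hF : Coh.IsQCoh F)
    (h : CohB1.IsFP ((Scheme.Modules.pullback g).obj F)) : CohB1.IsFP F := by
  haveI : F.IsQuasicoherent := hF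
  rw [FP.isFP_iff_affineOpens]
  intro V hV
  haveI := PB.finitePresentation_descent g F hV fun U' hU' _ => by
    haveI := FP.fp_sections_of_isFP _ h hU'
    exact Module.FinitePresentation.of_equiv (FLF.sectionsLinearEquiv hU' _).symm
  exact Module.FinitePresentation.of_equiv (FLF.sectionsLinearEquiv hV F)


end


/-- For g : S' ⟶ S flat, surjective and quasi-compact and F a quasi-coherent module on S, if the
pullback of F to S' is of finite presentation then F is of finite presentation. -/
theorem result {S S' : Scheme.{u}} (g : S' ⟶ S) [Flat g] [Surjective g] [QuasiCompact g]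
    (F : S.Modules) (hF : Coh.IsQCoh F)
    (h : CohB1.IsFP ((Scheme.Modules.pullback g).obj F)) : CohB1.IsFP F := by
  classical
  exact main g F hF h

end Groth.Agent.S5134
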