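import Groth.Statements.S5135
import Mathlib

set_option autoImplicit false
universe u
open scoped TensorProduct
open SGA1

namespace Groth.Agent.S5135

section
open scoped TensorProduct
variable (A A' : Type u) [CommRing A] [CommRing A'] [Algebra A A'] (M : Type u) [AddCommGroup M] [Module A M]

theorem e_i1 (x : A' ⊗[A] M) : (TensorProduct.assoc A A' A' M)
    (((Algebra.TensorProduct.includeLeft : A' →ₐ[A] A' ⊗[A] A').toLinearMap.rTensor M) x) =
    LinearMap.lTensor A' (TensorProduct.mk A A' M 1) x := by
  induction x using TensorProduct.induction_on with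
  | zero => simp
  | tmul b m => simp
  | add x y hx hy => simp only [map_add, hx, hy]

theorem e_i2 (n : A' ⊗[A] M) : (TensorProduct.assoc A A' A' M)
    (((Algebra.TensorProduct.includeRight : A' →ₐ[A] A' ⊗[A] A').toLinearMap.rTensor M) n) =
    (1 : A') ⊗ₜ[A] n := by
  induction n using TensorProduct.induction_on with
  | zero => simp
  | tmul b m => simp
  | add x y hx hy => simp only [map_add, hx, hy, TensorProduct.tmul_add]

/-- the twisting map -/
noncomputable def tau (a b : A') : A' ⊗[A] (A' ⊗[A] M) →ₗ[A] A' ⊗[A] (A' ⊗[A] M) :=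
  TensorProduct.map (LinearMap.mulLeft A a)
    ((LinearMap.lsmul A' (A' ⊗[A] M) b).restrictScalars A)

theorem e_smul (a b : A') (z : (A' ⊗[A] A') ⊗[A] M) :
    (TensorProduct.assoc A A' A' M) ((a ⊗ₜ[A] b) • z) =
      tau A A' M a b ((TensorProduct.assoc A A' A' M) z) := by
  induction z using TensorProduct.induction_on with
  | zero => simp
  | tmul t m =>
    induction t using TensorProduct.induction_on with
    | zero => simp
    | tmul a' b' =>
      simp [tau, TensorProduct.smul_tmul']
    | add t1 t2 h1 h2 =>
      simp only [TensorProduct.add_tmul, smul_add, map_add, h1, h2]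
  | add x y hx hy => simp only [smul_add, map_add, hx, hy]


theorem main (A A' : Type u) [CommRing A] [CommRing A'] [Algebra A A']
    [Module.FaithfullyFlat A A'] (M : Type u) [AddCommGroup M] [Module A M] (N' : Submodule A' (A' ⊗[A] M))
    (h : Submodule.span (A' ⊗[A] A')
          ((N'.restrictScalars A).map
            ((Algebra.TensorProduct.includeLeft : A' →ₐ[A] A' ⊗[A] A').toLinearMap.rTensor M) : Set ((A' ⊗[A] A') ⊗[A] M)) =
        Submodule.span (A' ⊗[A] A')
          ((N'.restrictScalars A).map
            ((Algebra.TensorProduct.includeRight : A' →ₐ[A] A' ⊗[A] A').toLinearMap.rTensor M) : Set ((A' ⊗[A] A') ⊗[A] M))) :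
    ((N'.restrictScalars A).comap (TensorProduct.mk A A' M 1)).baseChange A' = N' := by
  set NA := N'.restrictScalars A with hNA
  set N := NA.comap (TensorProduct.mk A A' M 1) with hN
  let W : Submodule A (A' ⊗[A] (A' ⊗[A] M)) := LinearMap.range (LinearMap.lTensor A' NA.subtype)
  have hW_tau : ∀ a b : A', ∀ y ∈ W, tau A A' M a b y ∈ W := by
    rintro a b _ ⟨w, rfl⟩
    let βr : NA →ₗ[A] NA :=
      ((LinearMap.lsmul A' (A' ⊗[A] M) b).restrictScalars A).restrict (p := NA) (q := NA)
        (fun n hn => N'.smul_mem b hn)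
    refine ⟨TensorProduct.map (LinearMap.mulLeft A a) βr w, ?_⟩
    induction w using TensorProduct.induction_on with
    | zero => simp
    | tmul a' n =>
      simp [tau, βr] <;> rfl
    | add x y hx hy => simp only [map_add, hx, hy]
  have hspan : ∀ z ∈ Submodule.span (A' ⊗[A] A')
      ((NA.map ((Algebra.TensorProduct.includeRight : A' →ₐ[A] A' ⊗[A] A').toLinearMap.rTensor M) :
        Set ((A' ⊗[A] A') ⊗[A] M))), (TensorProduct.assoc A A' A' M) z ∈ W := by
    intro z hz
    induction hz using Submodule.span_induction with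
    | mem z hz =>
      obtain ⟨n, hn, rfl⟩ := hz
      rw [e_i2]
      exact ⟨(1 : A') ⊗ₜ[A] (⟨n, hn⟩ : NA), by simp⟩
    | zero => simp
    | add x y _ _ hx hy => rw [map_add]; exact W.add_mem hx hy
    | smul c z _ hz =>
      induction c using TensorProduct.induction_on with
      | zero => simp
      | tmul a b => rw [e_smul]; exact hW_tau a b _ hz
      | add c1 c2 h1 h2 => rw [add_smul, map_add]; exact W.add_mem h1 h2
  apply le_antisymm
  · rw [Submodule.baseChange_eq_span, Submodule.span_le]
    rintro _ ⟨m, hm, rfl⟩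
    exact hm
  · intro x hx
    have h1 : ((Algebra.TensorProduct.includeLeft : A' →ₐ[A] A' ⊗[A] A').toLinearMap.rTensor M) x ∈
        Submodule.span (A' ⊗[A] A') ((NA.map
          ((Algebra.TensorProduct.includeLeft : A' →ₐ[A] A' ⊗[A] A').toLinearMap.rTensor M) :
            Set ((A' ⊗[A] A') ⊗[A] M))) := Submodule.subset_span ⟨x, hx, rfl⟩
    rw [h] at h1
    have h2 := hspan _ h1
    rw [e_i1] at h2
    let φ : M →ₗ[A] (A' ⊗[A] M) ⧸ NA := NA.mkQ ∘ₗ (TensorProduct.mk A A' M 1)
    have hker : LinearMap.ker φ = N := by rw [LinearMap.ker_comp, Submodule.ker_mkQ]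
    have hex : Function.Exact N.subtype φ := by
      rw [LinearMap.exact_iff, hker, Submodule.range_subtype]
    have hex' := Module.Flat.lTensor_exact A' hex
    have hzero : (LinearMap.lTensor A' φ) x = 0 := by
      obtain ⟨w, hw⟩ := h2
      show (LinearMap.lTensor A' (NA.mkQ ∘ₗ (TensorProduct.mk A A' M 1))) x = 0
      rw [LinearMap.lTensor_comp, LinearMap.comp_apply, ← hw, ← LinearMap.comp_apply,
        ← LinearMap.lTensor_comp]
      have : NA.mkQ ∘ₗ NA.subtype = 0 := by ext n; simp
      rw [this, LinearMap.lTensor_zero, LinearMap.zero_apply]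
    obtain ⟨w, hw⟩ := (hex' x).mp hzero
    exact ⟨w, hw⟩


end


/-- The affine case, in submodule form (descent of submodules, equivalently of quotient modules): for A
⟶ A' faithfully flat, M an A-module and N' an A'-submodule of A' ⊗ M whose two extensions to (A' ⊗
A') ⊗ M, along a ↦ a ⊗ 1 and a ↦ 1 ⊗ a, generate the same submodule, N' is the base change of the
submodule of M formed by the elements m with 1 ⊗ m in N'. -/
theorem result (A A' : Type u) [CommRing A] [CommRing A'] [Algebra A A']
    [Module.FaithfullyFlat A A'] (M : Type u) [AddCommGroup M] [Module A M] (N' : Submodule A' (A' ⊗[A] M))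
    (h : Submodule.span (A' ⊗[A] A')
          ((N'.restrictScalars A).map
            ((Algebra.TensorProduct.includeLeft : A' →ₐ[A] A' ⊗[A] A').toLinearMap.rTensor M) : Set ((A' ⊗[A] A') ⊗[A] M)) =
        Submodule.span (A' ⊗[A] A')
          ((N'.restrictScalars A).map
            ((Algebra.TensorProduct.includeRight : A' →ₐ[A] A' ⊗[A] A').toLinearMap.rTensor M) : Set ((A' ⊗[A] A') ⊗[A] M))) :
    ((N'.restrictScalars A).comap (TensorProduct.mk A A' M 1)).baseChange A' = N' := by
  classical
  exact main A A' M N' h

end Groth.Agent.S5135
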