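import Groth.Statements.S5138
-- import your own Groth.Agent.* helpers here
import Groth.Agent.Lib.Helper4.UnramDescent1
import Groth.Agent.Lib.Helper4.StalkEtale1

set_option autoImplicit false
open CategoryTheory AlgebraicGeometry
universe u
open SGA1

namespace Groth.Agent.S5138

/-- For X ⟶ X' ⟶ Y locally of finite type over a locally Noetherian Y and a point x of X, if X ⟶ X' and
the composite X ⟶ Y are both etale near x then X' ⟶ Y is etale near the image of x; 'etale near a
point' is membership in the etale locus, the union of the opens on which the morphism is etale. (The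
published statement takes the morphisms of finite type; quasi-compactness plays no role in this
assertion about single points, so only local finiteness is assumed.) -/
theorem result {X X' Y : Scheme.{u}} (f : X ⟶ X') (g : X' ⟶ Y)
    [IsLocallyNoetherian Y] [LocallyOfFiniteType f] [LocallyOfFiniteType g] (x : X)
    (hf : x ∈ Pi1X.etaleLocus f) (hfg : x ∈ Pi1X.etaleLocus (f ≫ g)) : f.base x ∈ Pi1X.etaleLocus g := by
  haveI : LocallyOfFinitePresentation g :=
    LocallyOfFinitePresentation.iff_locallyOfFiniteType.2 inferInstance
  haveI : LocallyOfFinitePresentation (f ≫ g) :=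
    LocallyOfFinitePresentation.iff_locallyOfFiniteType.2 inferInstance
  haveI : IsLocallyNoetherian X' := LocallyOfFiniteType.isLocallyNoetherian g
  haveI : LocallyOfFinitePresentation f :=
    LocallyOfFinitePresentation.iff_locallyOfFiniteType.2 inferInstance
  have hmem : ∀ {A B : Scheme.{u}} (φ : A ⟶ B) (a : A),
      a ∈ Pi1X.etaleLocus φ ↔ ∃ U : A.Opens, a ∈ U ∧ Etale (U.ι ≫ φ) := by
    intro A B φ a
    unfold Pi1X.etaleLocus
    rw [TopologicalSpace.Opens.mem_sSup]
    constructor
    · rintro ⟨U, hU, haU⟩
      exact ⟨U, haU, hU⟩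
    · rintro ⟨U, haU, hU⟩
      exact ⟨U, hU, haU⟩
  rw [hmem] at hf hfg ⊢
  have hflat : (f.stalkMap x).hom.Flat :=
    ((Groth.Agent.Lib.Helper4.StalkEtale1.exists_etale_nhd_iff_flat_formallyUnramified f x).mp hf).1
  exact Groth.Agent.Lib.Helper4.UnramDescent1.S2806_main g (f ≫ g) f rfl x hflat hfg

end Groth.Agent.S5138
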