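import Groth.Statements.S5140
import Mathlib
import Groth.Agent.Lib.Helper2.FibCat.EquivCrit

set_option autoImplicit false
open CategoryTheory
universe u v u₂ v₂
open FibCat

namespace Groth.Agent.S5140

/-- If the structure functor of 𝒳 is transportable (isomorphisms of C lift to isomorphisms of 𝒳 with any
prescribed source over their source), then a functor 𝒳 ⟶ 𝒴 over C whose underlying functor is an
equivalence of categories is an equivalence over C. -/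
theorem result {C : Type u} [Category.{v} C]
    {𝒳 𝒴 : BasedCategory.{v₂, u₂} C}
    (h𝒳 : ∀ ⦃T S : C⦄ (α : T ≅ S) (ξ : 𝒳.obj), 𝒳.p.obj ξ = T →
      ∃ (ξ' : 𝒳.obj) (e : ξ ≅ ξ'), 𝒳.p.IsHomLift α.hom e.hom)
    (F : 𝒳 ⥤ᵇ 𝒴) [F.toFunctor.IsEquivalence] : FibCat.IsEquivOver F := by
  apply Groth.Agent.Helper2.FibCatLib.isEquivOver_of_fullyFaithful_of_exists_iso F
  intro η
  let ξ₀ := F.toFunctor.objPreimage η
  let θ : F.toFunctor.obj ξ₀ ≅ η := F.toFunctor.objObjPreimageIso η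
  obtain ⟨ξ', e, he⟩ := h𝒳 (𝒴.p.mapIso θ) ξ₀ (F.w_obj ξ₀).symm
  refine ⟨ξ', F.toFunctor.mapIso e.symm ≪≫ θ, ?_⟩
  have h1 : 𝒳.p.IsHomLift (𝒴.p.mapIso θ).inv e.inv :=
    IsHomLift.inv_lift_inv 𝒳.p (𝒴.p.mapIso θ) e
  have h2 : 𝒴.p.IsHomLift (𝒴.p.mapIso θ).inv (F.map e.inv) := inferInstance
  have h3 : 𝒴.p.IsHomLift (𝒴.p.map θ.hom) θ.hom := inferInstance
  have h4 : 𝒴.p.IsHomLift ((𝒴.p.mapIso θ).inv ≫ 𝒴.p.map θ.hom) (F.map e.inv ≫ θ.hom) :=
    inferInstance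
  exact Groth.Agent.Helper2.FibCatLib.isHomLift_congr' 𝒴.p (by simp) _ h4

end Groth.Agent.S5140
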