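import Groth.Statements.S5161
import Mathlib
import Groth.Prelude.Def_Wider
import Groth.Agent.Lib.Helper8.NV5
import Groth.Agent.Lib.Helper8.LC25
-- import your own Groth.Agent.* helpers here

set_option autoImplicit false
universe u
open AlgebraicGeometry
open LocCoh

namespace Groth.Agent.S5161

open AlgebraicGeometry CategoryTheory TopologicalSpace
open LocCoh
namespace Aux

open Groth.Agent.Helper8.LC

section Alg

variable {A : Type u} [CommRing A]

/-- multiplication by `b : B` as an `A`-linear endomorphism of a `B`-module -/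
def mulEnd {B : Type u} [CommRing B] [Algebra A B] (N : Type u) [AddCommGroup N] [Module A N]
    [Module B N] [IsScalarTower A B N] (b : B) : ModuleCat.of A N ⟶ ModuleCat.of A N :=
  ModuleCat.ofHom
    { toFun := fun n => b • n
      map_add' := smul_add b
      map_smul' := fun a n => by
        show b • a • n = a • b • n
        rw [← algebraMap_smul B a n, ← algebraMap_smul B a (b • n), smul_smul, smul_smul, mul_comm] }

theorem subsingleton_H_of_map_eq_top (I : Ideal A) (B : Type u) [CommRing B] [Algebra A B]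
    (hIB : I.map (algebraMap A B) = ⊤) (N : Type u) [AddCommGroup N] [Module A N] [Module B N]
    [IsScalarTower A B N] (i : ℕ) : Subsingleton (H I i N) := by
  apply subsingleton_of_forall_eq_zero
  intro x
  obtain ⟨n, hn⟩ := Groth.Agent.Helper8.LC.isPowerTorsion I i (ModuleCat.of A N) x
  have key : ∀ b ∈ (I ^ n).map (algebraMap A B),
      ((localCohomology I i).map (mulEnd (A := A) N b)) x = 0 := by
    intro b hb
    refine Submodule.span_induction ?_ ?_ ?_ ?_ hb
    · rintro _ ⟨a, ha, rfl⟩
      have : mulEnd (A := A) N (algebraMap A B a) = a • 𝟙 (ModuleCat.of A N) := by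
        apply ModuleCat.hom_ext
        apply LinearMap.ext
        intro y
        show algebraMap A B a • y = a • y
        rw [algebraMap_smul]
      rw [this, map_smul_id]
      exact hn a ha
    · have : mulEnd (A := A) N (0 : B) = 0 := by
        apply ModuleCat.hom_ext
        apply LinearMap.ext
        intro y
        show (0 : B) • y = 0
        rw [zero_smul]
      rw [this, map_zero']
    · intro b c _ _ hb hc
      have : mulEnd (A := A) N (b + c) = mulEnd (A := A) N b + mulEnd (A := A) N c := by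
        apply ModuleCat.hom_ext
        apply LinearMap.ext
        intro y
        show (b + c) • y = b • y + c • y
        rw [add_smul]
      rw [this, map_add', hb, hc, add_zero]
    · intro c b _ hb
      have : mulEnd (A := A) N (c • b) = mulEnd (A := A) N b ≫ mulEnd (A := A) N c := by
        apply ModuleCat.hom_ext
        apply LinearMap.ext
        intro y
        show (c • b) • y = c • b • y
        rw [smul_eq_mul, mul_smul]
      rw [this, Functor.map_comp]
      show ((localCohomology I i).map (mulEnd (A := A) N c))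
        (((localCohomology I i).map (mulEnd (A := A) N b)) x) = 0
      rw [hb, map_zero]
  have h1 : (1 : B) ∈ (I ^ n).map (algebraMap A B) := by
    rw [Ideal.map_pow, hIB, Ideal.top_pow]
    trivial
  have h2 := key 1 h1
  have h3 : mulEnd (A := A) N (1 : B) = 𝟙 (ModuleCat.of A N) := by
    apply ModuleCat.hom_ext
    apply LinearMap.ext
    intro y
    show (1 : B) • y = y
    rw [one_smul]
  rw [h3, CategoryTheory.Functor.map_id] at h2
  exact h2

theorem subsingleton_H_of_torsion_ker_coker [IsNoetherianRing A] (I : Ideal A) {M N : Type u}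
    [AddCommGroup M] [Module A M] [AddCommGroup N] [Module A N] (f : M →ₗ[A] N)
    (hK : IsPowerTorsion I (LinearMap.ker f)) (hC : IsPowerTorsion I (N ⧸ LinearMap.range f))
    (j : ℕ) (hN : Subsingleton (H I (j + 2) N)) : Subsingleton (H I (j + 2) M) := by
  let K := LinearMap.ker f
  let fbar : (M ⧸ K) →ₗ[A] N := K.liftQ f le_rfl
  have hinj : Function.Injective fbar := by
    rw [← LinearMap.ker_eq_bot]
    exact Submodule.ker_liftQ_eq_bot' K f rfl
  have hrange : LinearMap.range fbar = LinearMap.range f := Submodule.range_liftQ K f le_rfl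
  have hC' : IsPowerTorsion I (N ⧸ LinearMap.range fbar) := by
    intro x
    obtain ⟨y, rfl⟩ := Submodule.Quotient.mk_surjective _ x
    obtain ⟨n, hn⟩ := hC (Submodule.Quotient.mk y)
    refine ⟨n, fun a ha => ?_⟩
    have := hn a ha
    rw [← Submodule.Quotient.mk_smul, Submodule.Quotient.mk_eq_zero] at this ⊢
    rw [hrange]
    exact this
  -- step 1
  have h1 : Subsingleton (H I (j + 2) (M ⧸ K)) := by
    have hS := sesQuot_shortExact fbar hinj
    have h3 : Subsingleton (H I (j + 1) (N ⧸ LinearMap.range fbar)) :=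
      subsingleton_of_isPowerTorsion I (j + 1) (Nat.succ_pos j) _ hC'
    apply subsingleton_of_forall_eq_zero
    intro z
    have hz : ((localCohomology I (j + 1 + 1)).map (sesQuot fbar).f) z = 0 := hN.elim _ _
    obtain ⟨y, rfl⟩ := (exact_δ_f I (j + 1) hS z).mp hz
    have hy : y = 0 := h3.elim _ _
    rw [hy, map_zero]
  -- step 2
  have hS := sesSub_shortExact K
  have h3 : Subsingleton (H I (j + 2) K) :=
    subsingleton_of_isPowerTorsion I (j + 2) (Nat.succ_pos _) _ hK
  apply subsingleton_of_forall_eq_zero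
  intro z
  have hz : ((localCohomology I (j + 2)).map (sesSub K).g) z = 0 := h1.elim _ _
  obtain ⟨y, rfl⟩ := (exact_f_g I (j + 2) hS z).mp hz
  have hy : y = 0 := h3.elim _ _
  rw [hy, map_zero]

/-- if every element of `I` has a power killing `m`, then a power of `I` kills `m` -/
theorem exists_pow_smul_eq_zero [IsNoetherianRing A] (I : Ideal A) {M : Type*} [AddCommGroup M]
    [Module A M] (m : M) (h : ∀ g ∈ I, ∃ n : ℕ, g ^ n • m = 0) :
    ∃ n : ℕ, ∀ a ∈ I ^ n, a • m = 0 := by
  let J : Ideal A := LinearMap.ker (LinearMap.toSpanSingleton A M m)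
  have hJ : ∀ a, a ∈ J ↔ a • m = 0 := fun a => by
    show LinearMap.toSpanSingleton A M m a = 0 ↔ _
    rw [LinearMap.toSpanSingleton_apply]
  have hle : I ≤ J.radical := by
    intro g hg
    obtain ⟨n, hn⟩ := h g hg
    exact ⟨n, (hJ _).mpr hn⟩
  obtain ⟨n, hn⟩ := Ideal.exists_pow_le_of_le_radical_of_fg hle (IsNoetherian.noetherian I)
  exact ⟨n, fun a ha => (hJ a).mp (hn ha)⟩

end Alg

section Sch

/-- restriction of sections -/
noncomputable abbrev res (X : Scheme.{u}) {V W : X.Opens} (h : V ≤ W) : Γ(X, W) →+* Γ(X, V) :=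
  (X.presheaf.map (homOfLE h).op).hom

lemma res_res (X : Scheme.{u}) {V W Z : X.Opens} (h : V ≤ W) (h' : W ≤ Z) (s : Γ(X, Z)) :
    res X h (res X h' s) = res X (h.trans h') s := by
  unfold res
  rw [← CommRingCat.comp_apply, ← Functor.map_comp]
  rfl

variable (A : Type u) [CommRing A]

/-- the ring map `A → Γ(Spec A, ⊤)` -/
noncomputable abbrev gA : A →+* Γ(Spec (CommRingCat.of A), ⊤) :=
  (Scheme.ΓSpecIso (CommRingCat.of A)).inv.hom

lemma gA_bijective : Function.Bijective (gA A) :=
  ConcreteCategory.bijective_of_isIso (Scheme.ΓSpecIso (CommRingCat.of A)).inv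

lemma basicOpen_gA (x : A) :
    (Spec (CommRingCat.of A)).basicOpen (gA A x) = PrimeSpectrum.basicOpen x :=
  basicOpen_eq_of_affine (R := CommRingCat.of A) x

variable (U : (Spec (CommRingCat.of A)).Opens)

/-- `ρ : A → Γ(Spec A, U)` -/
noncomputable abbrev rho : A →+* Γ(Spec (CommRingCat.of A), U) :=
  (res (Spec (CommRingCat.of A)) (le_top : U ≤ ⊤)).comp (gA A)

lemma basicOpen_rho (g : A) :
    (Spec (CommRingCat.of A)).basicOpen (rho A U g) =
      U ⊓ (Spec (CommRingCat.of A)).basicOpen (gA A g) := by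
  show (Spec (CommRingCat.of A)).basicOpen
    ((Spec (CommRingCat.of A)).presheaf.map (homOfLE (le_top : U ≤ ⊤)).op (gA A g)) = _
  rw [Scheme.basicOpen_res]

/-- kernel of `ρ` is killed by powers of `g` when `D(g) ⊆ U` -/
theorem exists_pow_mul_eq_zero (a : A) (ha : rho A U a = 0) (g : A)
    (hg : (Spec (CommRingCat.of A)).basicOpen (gA A g) ≤ U) : ∃ n : ℕ, g ^ n * a = 0 := by
  let X := Spec (CommRingCat.of A)
  have h0 : res X (X.basicOpen_le (gA A g)) (gA A a) = 0 := by
    have : res X hg (rho A U a) = res X (X.basicOpen_le (gA A g)) (gA A a) := by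
      show res X hg (res X le_top (gA A a)) = _
      rw [res_res]
    rw [← this, ha, map_zero]
  have hloc : IsLocalization.Away (gA A g) Γ(X, X.basicOpen (gA A g)) :=
    (isAffineOpen_top X).isLocalization_basicOpen (gA A g)
  have h1 : algebraMap Γ(X, ⊤) Γ(X, X.basicOpen (gA A g)) (gA A a) =
      algebraMap Γ(X, ⊤) Γ(X, X.basicOpen (gA A g)) 0 := by
    rw [map_zero]
    exact h0
  obtain ⟨n, hn⟩ := IsLocalization.Away.exists_of_eq (gA A g) h1
  refine ⟨n, (gA_bijective A).1 ?_⟩
  rw [map_mul, map_pow, hn, mul_zero, map_zero]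

/-- cokernel of `ρ` is killed by powers of `g` when `D(g) ⊆ U` -/
theorem exists_pow_mul_eq_rho (hU : IsAffineOpen U) (b : Γ(Spec (CommRingCat.of A), U)) (g : A)
    (hg : (Spec (CommRingCat.of A)).basicOpen (gA A g) ≤ U) :
    ∃ (n : ℕ) (a : A), rho A U g ^ n * b = rho A U a := by
  let X := Spec (CommRingCat.of A)
  have hloc : IsLocalization.Away (gA A g) Γ(X, X.basicOpen (gA A g)) :=
    (isAffineOpen_top X).isLocalization_basicOpen (gA A g)
  obtain ⟨n, a', hn⟩ := IsLocalization.Away.surj (gA A g) (res X hg b)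
  obtain ⟨a, rfl⟩ := (gA_bijective A).2 a'
  have hn' : res X hg b * res X (X.basicOpen_le (gA A g)) (gA A g) ^ n =
      res X (X.basicOpen_le (gA A g)) (gA A a) := hn
  have hD : ∀ c : A, res X hg (rho A U c) = res X (X.basicOpen_le (gA A g)) (gA A c) := by
    intro c
    show res X hg (res X le_top (gA A c)) = _
    rw [res_res]
  have hWD : X.basicOpen (rho A U g) ≤ X.basicOpen (gA A g) := by
    rw [basicOpen_rho]
    exact inf_le_right
  have hlocU : IsLocalization.Away (rho A U g) Γ(X, X.basicOpen (rho A U g)) :=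
    hU.isLocalization_basicOpen (rho A U g)
  have h1 : algebraMap Γ(X, U) Γ(X, X.basicOpen (rho A U g)) (b * rho A U g ^ n) =
      algebraMap Γ(X, U) Γ(X, X.basicOpen (rho A U g)) (rho A U a) := by
    show res X (X.basicOpen_le (rho A U g)) (b * rho A U g ^ n) =
      res X (X.basicOpen_le (rho A U g)) (rho A U a)
    rw [← res_res X hWD hg, ← res_res X hWD hg, map_mul, map_pow, hD, hD, hn']
  obtain ⟨m, hm⟩ := IsLocalization.Away.exists_of_eq (rho A U g) h1
  refine ⟨m + n, g ^ m * a, ?_⟩
  rw [map_mul, map_pow, ← hm, pow_add]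
  ring


theorem map_rho_eq_top (hU : IsAffineOpen U) (I : Ideal A)
    (hI : PrimeSpectrum.zeroLocus (I : Set A) = ((U.carrier : Set (PrimeSpectrum A)))ᶜ) :
    I.map (rho A U) = ⊤ := by
  show Ideal.span ((rho A U) '' (I : Set A)) = ⊤
  rw [← hU.self_le_iSup_basicOpen_iff]
  intro p hp
  have hp' : p ∉ PrimeSpectrum.zeroLocus (I : Set A) := by
    rw [hI]
    exact fun h => h hp
  obtain ⟨g, hgI, hgp⟩ := Set.not_subset.mp hp'
  rw [Opens.mem_iSup]
  refine ⟨⟨rho A U g, g, hgI, rfl⟩, ?_⟩
  rw [basicOpen_rho, basicOpen_gA]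
  exact ⟨hp, hgp⟩

lemma basicOpen_le_of_mem (I : Ideal A)
    (hI : PrimeSpectrum.zeroLocus (I : Set A) = ((U.carrier : Set (PrimeSpectrum A)))ᶜ) {g : A}
    (hg : g ∈ I) : (Spec (CommRingCat.of A)).basicOpen (gA A g) ≤ U := by
  rw [basicOpen_gA]
  intro p hp
  by_contra hpU
  have : p ∈ PrimeSpectrum.zeroLocus (I : Set A) := by
    rw [hI]
    exact hpU
  exact hp (this hg)

end Sch

open Groth.Agent.Helper8.LC Groth.Agent.Helper8.NV in
theorem main (A : Type u) [CommRing A] [IsNoetherianRing A] (U : (Spec (CommRingCat.of A)).Opens) (hU : IsAffineOpen U) (p : PrimeSpectrum A) (hpU : (p : (Spec (CommRingCat.of A) : Type u)) ∉ (U : Set (Spec (CommRingCat.of A) : Type u))) (hmin : ∀ q : PrimeSpectrum A, q.asIdeal ≤ p.asIdeal → (q : (Spec (CommRingCat.of A) : Type u)) ∉ (U : Set (Spec (CommRingCat.of A) : Type u)) → q = p) : p.asIdeal.height ≤ 1 := by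
  let I : Ideal A := PrimeSpectrum.vanishingIdeal ((U.carrier : Set (PrimeSpectrum A))ᶜ)
  have hV : PrimeSpectrum.zeroLocus (I : Set A) = ((U.carrier : Set (PrimeSpectrum A)))ᶜ := by
    rw [PrimeSpectrum.zeroLocus_vanishingIdeal_eq_closure]
    exact (U.2.isClosed_compl).closure_eq
  have hpmin : p.asIdeal ∈ I.minimalPrimes := by
    refine ⟨⟨p.isPrime, ?_⟩, ?_⟩
    · have : p ∈ PrimeSpectrum.zeroLocus (I : Set A) := by
        rw [hV]
        exact hpU
      exact this
    · rintro q ⟨hq, hIq⟩ hqp
      have h1 : (⟨q, hq⟩ : PrimeSpectrum A) ∈ PrimeSpectrum.zeroLocus (I : Set A) := hIq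
      rw [hV] at h1
      have := hmin ⟨q, hq⟩ hqp h1
      rw [← this]
  let B := Γ(Spec (CommRingCat.of A), U)
  letI : Algebra A B := (rho A U).toAlgebra
  have hIB : I.map (algebraMap A B) = ⊤ := map_rho_eq_top A U hU I hV
  have hB : ∀ i, Subsingleton (H I i B) := fun i => subsingleton_H_of_map_eq_top I B hIB B i
  have hker : IsPowerTorsion I (LinearMap.ker (Algebra.linearMap A B)) := by
    intro x
    apply exists_pow_smul_eq_zero I x
    intro g hg
    have hx : rho A U (x : A) = 0 := x.2
    obtain ⟨n, hn⟩ := exists_pow_mul_eq_zero A U x hx g (basicOpen_le_of_mem A U I hV hg)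
    refine ⟨n, Subtype.ext ?_⟩
    show g ^ n • (x : A) = 0
    rw [smul_eq_mul, hn]
  have hcoker : IsPowerTorsion I (B ⧸ LinearMap.range (Algebra.linearMap A B)) := by
    intro x
    apply exists_pow_smul_eq_zero I x
    intro g hg
    obtain ⟨b, rfl⟩ := Submodule.Quotient.mk_surjective _ x
    obtain ⟨n, a, hn⟩ := exists_pow_mul_eq_rho A U hU b g (basicOpen_le_of_mem A U I hV hg)
    refine ⟨n, ?_⟩
    rw [← Submodule.Quotient.mk_smul, Submodule.Quotient.mk_eq_zero]
    refine ⟨a, ?_⟩
    show rho A U a = g ^ n • b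
    rw [← hn, Algebra.smul_def, map_pow]
    rfl
  have hA : ∀ j, Subsingleton (H I (j + 2) A) := fun j =>
    subsingleton_H_of_torsion_ker_coker I (Algebra.linearMap A B) hker hcoker j (hB _)
  haveI : p.asIdeal.IsPrime := p.isPrime
  have hne : p.asIdeal.height ≠ ⊤ := Ideal.height_ne_top (Ideal.IsPrime.ne_top ‹_›)
  obtain ⟨h, hh⟩ := ENat.ne_top_iff_exists.mp hne
  have hnt := nontrivial_H_of_mem_minimalPrimes I p.asIdeal hpmin h hh.symm
  rw [← hh]
  by_contra hcon
  have h2 : 1 < h := by
    have : ¬ ((h : ℕ∞) ≤ 1) := hcon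
    rw [not_le] at this
    exact_mod_cast this
  obtain ⟨j, rfl⟩ : ∃ j, h = j + 2 := ⟨h - 2, by omega⟩
  exact not_subsingleton _ (hA j)

end Aux

/-- Let A be a Noetherian ring, X = Spec A and Y ⊆ X a closed subset whose complement U is an affine
open. Then every irreducible component of Y has codimension ≤ 1 in X, i.e. the generic point of each
irreducible component of Y is a prime of height at most 1. -/
theorem result (A : Type u) [CommRing A] [IsNoetherianRing A] (U : (Spec (CommRingCat.of A)).Opens) (hU : IsAffineOpen U) (p : PrimeSpectrum A) (hpU : (p : (Spec (CommRingCat.of A) : Type u)) ∉ (U : Set (Spec (CommRingCat.of A) : Type u))) (hmin : ∀ q : PrimeSpectrum A, q.asIdeal ≤ p.asIdeal → (q : (Spec (CommRingCat.of A) : Type u)) ∉ (U : Set (Spec (CommRingCat.of A) : Type u)) → q = p) : p.asIdeal.height ≤ 1 := by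
  exact Aux.main A U hU p hpU hmin

end Groth.Agent.S5161
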