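import Groth.Statements.S5163
import Mathlib

set_option autoImplicit false
universe u
open LocCoh

open scoped TensorProduct

namespace Groth.Agent.S5163

/-- For modules over a Noetherian ring. Let P be a finite A-module and H any A-module with Supp H ⊆ Supp
P. If Hom_A(P, H) = 0 then H = 0. (The published lemma is stated over an arbitrary prescheme; its
proof uses that a nonzero module has an associated prime, so the ring is taken Noetherian here.) -/
theorem result (A : Type u) [CommRing A] [IsNoetherianRing A] (P H : Type u) [AddCommGroup P] [Module A P] [Module.Finite A P] [AddCommGroup H] [Module A H] (hsupp : Module.support A H ⊆ Module.support A P) (hhom : Subsingleton (P →ₗ[A] H)) : Subsingleton H := by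
  classical
  by_contra hns
  rw [not_subsingleton_iff_nontrivial] at hns
  obtain ⟨p, hp⟩ := associatedPrimes.nonempty A H
  obtain ⟨hpp, h, hh⟩ := isAssociatedPrime_iff.1 hp
  have hmem : ∀ a : A, a ∈ p ↔ a • h = 0 := by
    intro a
    rw [hh, Submodule.mem_colon_singleton]
    simp
  have hpH : (⟨p, hpp⟩ : PrimeSpectrum A) ∈ Module.support A H := by
    rw [Module.mem_support_iff']
    exact ⟨h, fun r hr h0 => hr ((hmem r).2 h0)⟩
  have hpP := hsupp hpH
  rw [Module.mem_support_iff_nontrivial_residueField_tensorProduct] at hpP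
  change Nontrivial (p.ResidueField ⊗[A] P) at hpP
  obtain ⟨v, hv⟩ := exists_ne (0 : p.ResidueField ⊗[A] P)
  obtain ⟨l, hl⟩ : ∃ l : Module.Dual p.ResidueField (p.ResidueField ⊗[A] P), l v ≠ 0 := by
    by_contra hcon
    push Not at hcon
    exact hv ((Module.forall_dual_apply_eq_zero_iff p.ResidueField v).1 hcon)
  let φ : P →ₗ[A] p.ResidueField := (l.restrictScalars A).comp (TensorProduct.mk A p.ResidueField P 1)
  have hφ : φ ≠ 0 := by
    intro h0
    apply hl
    have : l = 0 := by
      apply TensorProduct.AlgebraTensorModule.curry_injective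
      ext x
      simpa [φ] using LinearMap.congr_fun h0 x
    rw [this]; rfl
  obtain ⟨S, hS⟩ := Module.Finite.fg_top (R := A) (M := P)
  obtain ⟨b, hb⟩ := IsLocalization.exist_integer_multiples_of_finset (nonZeroDivisors (A ⧸ p))
    (S.image φ)
  obtain ⟨b', hb'⟩ := Ideal.Quotient.mk_surjective (b : A ⧸ p)
  have hb'p : b' ∉ p := by
    intro hmemb
    have : (b : A ⧸ p) = 0 := by rw [← hb']; exact Ideal.Quotient.eq_zero_iff_mem.2 hmemb
    exact nonZeroDivisors.coe_ne_zero b this
  let ι : (A ⧸ p) →ₗ[A] p.ResidueField := (IsScalarTower.toAlgHom A (A ⧸ p) p.ResidueField).toLinearMap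
  have hι : Function.Injective ι := Ideal.injective_algebraMap_quotient_residueField p
  let ψ₀ : P →ₗ[A] p.ResidueField := b' • φ
  have hψ₀ : ψ₀ ≠ 0 := by
    intro h0
    apply hφ
    ext x
    have h1 : b' • φ x = 0 := LinearMap.congr_fun h0 x
    rw [Algebra.smul_def, mul_eq_zero, Ideal.algebraMap_residueField_eq_zero] at h1
    exact h1.resolve_left hb'p
  have hrange : ∀ x : P, ψ₀ x ∈ LinearMap.range ι := by
    intro x
    have hx : x ∈ Submodule.span A (S : Set P) := by rw [hS]; trivial
    refine Submodule.span_induction ?_ ?_ ?_ ?_ hx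
    · intro y hy
      obtain ⟨c, hc⟩ := hb (φ y) (Finset.mem_image_of_mem φ hy)
      refine ⟨c, ?_⟩
      change algebraMap (A ⧸ p) p.ResidueField c = b' • φ y
      rw [hc, ← hb', Algebra.smul_def, Algebra.smul_def]
      rfl
    · simp
    · intro a c _ _ ha hc
      rw [map_add]; exact Submodule.add_mem _ ha hc
    · intro a c _ hc
      rw [map_smul]; exact Submodule.smul_mem _ a hc
  let ψ : P →ₗ[A] (A ⧸ p) :=
    (LinearEquiv.ofInjective ι hι).symm.toLinearMap.comp (ψ₀.codRestrict (LinearMap.range ι) hrange)
  have hψ : ψ ≠ 0 := by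
    intro h0
    apply hψ₀
    ext x
    have h1 : ψ x = 0 := LinearMap.congr_fun h0 x
    have h2 : (LinearEquiv.ofInjective ι hι).symm (ψ₀.codRestrict (LinearMap.range ι) hrange x) = 0 := h1
    rw [LinearEquiv.map_eq_zero_iff] at h2
    exact congrArg Subtype.val h2
  let j : (A ⧸ p) →ₗ[A] H := Submodule.liftQ p (LinearMap.toSpanSingleton A H h) (by
    intro a ha
    rw [LinearMap.mem_ker, LinearMap.toSpanSingleton_apply]
    exact (hmem a).1 ha)
  have hj : Function.Injective j := by
    rw [← LinearMap.ker_eq_bot, Submodule.ker_liftQ_eq_bot']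
    ext a
    rw [LinearMap.mem_ker, LinearMap.toSpanSingleton_apply]
    exact hmem a
  apply hψ
  have h0 : j.comp ψ = 0 := Subsingleton.elim _ _
  ext x
  have := LinearMap.congr_fun h0 x
  exact hj (by rw [LinearMap.zero_apply, map_zero]; exact this)

end Groth.Agent.S5163
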