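import Groth.Statements.S5166
import Mathlib

set_option autoImplicit false
universe u
open LocCoh

namespace Groth.Agent.S5166aux

theorem height_le_one_aux (B : Type u) [CommRing B] [IsDomain B] [IsNoetherianRing B]
    (x : B) (hx : x ≠ 0) (hall : ∀ q : Ideal B, q.IsPrime → q ≠ ⊥ → x ∈ q)
    (q : Ideal B) [hq : q.IsPrime] : q.height ≤ 1 := by
  classical
  by_contra hlt
  push Not at hlt
  have hqbot : q ≠ ⊥ := by
    rintro rfl
    rw [Ideal.height_bot] at hlt
    exact absurd hlt (by simp)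
  have hxq : x ∈ q := hall q hq hqbot
  have hfin := (Ideal.span {x}).finite_minimalPrimes_of_isNoetherianRing B
  set Ps := hfin.toFinset with hPs
  have hnot : ¬ ((q : Set B) ⊆ ⋃ P ∈ (↑Ps : Set (Ideal B)), (id P : Ideal B)) := by
    rw [Ideal.subset_union_prime ⊥ ⊥]
    · rintro ⟨P, hP, hqP⟩
      have hP' : P ∈ (Ideal.span {x}).minimalPrimes := by simpa [hPs] using hP
      have h1 := Ideal.height_le_one_of_isPrincipal_of_mem_minimalPrimes _ P hP'
      exact absurd (lt_of_lt_of_le hlt (Ideal.height_mono hqP)) (not_lt.2 h1)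
    · intro P hP _ _
      have hP' : P ∈ (Ideal.span {x}).minimalPrimes := by simpa [hPs] using hP
      exact hP'.isPrime
  rw [Set.not_subset] at hnot
  obtain ⟨y, hyq, hy⟩ := hnot
  have hy' : ∀ P ∈ (Ideal.span {x}).minimalPrimes, y ∉ P := by
    intro P hP hyP
    apply hy
    simp only [Set.mem_iUnion, id]
    exact ⟨P, by simpa [hPs] using hP, hyP⟩
  obtain ⟨Q, hQ, hQq⟩ := Ideal.exists_minimalPrimes_le (I := Ideal.span {y}) (J := q)
    ((Ideal.span_singleton_le_iff_mem _).2 hyq)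
  have hQp : Q.IsPrime := hQ.isPrime
  have hQ1 := Ideal.height_le_one_of_isPrincipal_of_mem_minimalPrimes _ Q hQ
  have hyQ : y ∈ Q := hQ.1.2 (Ideal.mem_span_singleton_self y)
  obtain ⟨P₀, hP₀, -⟩ := Ideal.exists_minimalPrimes_le (I := Ideal.span {x}) (J := q)
    ((Ideal.span_singleton_le_iff_mem _).2 hxq)
  have hQbot : Q ≠ ⊥ := by
    rintro rfl
    have : y = 0 := by simpa using hyQ
    exact hy' P₀ hP₀ (this ▸ P₀.zero_mem)
  have hxQ : x ∈ Q := hall Q hQp hQbot
  obtain ⟨P, hP, hPQ⟩ := Ideal.exists_minimalPrimes_le (I := Ideal.span {x}) (J := Q)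
    ((Ideal.span_singleton_le_iff_mem _).2 hxQ)
  have hPp : P.IsPrime := hP.isPrime
  have hxP : x ∈ P := hP.1.2 (Ideal.mem_span_singleton_self x)
  have hPbot : (⊥ : Ideal B) < P := by
    refine bot_lt_iff_ne_bot.2 ?_
    rintro rfl
    exact hx (by simpa using hxP)
  rcases hPQ.lt_or_eq with hlt' | heq
  · have h1 : (⊥ : Ideal B).height < P.height := Ideal.height_strict_mono_of_isPrime_of_isPrime hPbot
    have h2 : P.height < Q.height := Ideal.height_strict_mono_of_isPrime_of_isPrime hlt'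
    have h3 : (1 : ℕ∞) ≤ P.height := Order.one_le_iff_pos.2 (lt_of_le_of_lt zero_le h1)
    exact absurd (lt_of_le_of_lt h3 h2) (not_lt.2 hQ1)
  · exact hy' P hP (heq ▸ hyQ)


end Groth.Agent.S5166aux

namespace Groth.Agent.S5166

/-- In its local form at a point y ∈ Y (A = O_{X,y}). Let A be a Noetherian local ring and I ≠ A an
ideal contained in no minimal prime of A. Then some prime p ⊉ I has dim A/p = 1. -/
theorem result (A : Type u) [CommRing A] [IsLocalRing A] [IsNoetherianRing A] (I : Ideal A) (hI : I ≠ ⊤) (hdense : ∀ q ∈ minimalPrimes A, ¬ I ≤ q) : ∃ p : PrimeSpectrum A, ¬ I ≤ p.asIdeal ∧ ringKrullDim (A ⧸ p.asIdeal) = 1 := by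
  classical
  -- maximal prime not containing I
  let T : Set (Ideal A) := {p | p.IsPrime ∧ ¬ I ≤ p}
  have hTne : T.Nonempty := by
    obtain ⟨q, hq, -⟩ := Ideal.exists_minimalPrimes_le (I := (⊥ : Ideal A))
      (J := IsLocalRing.maximalIdeal A) bot_le
    exact ⟨q, hq.isPrime, hdense q hq⟩
  obtain ⟨p, ⟨hpp, hpI⟩, hpmax⟩ := set_has_maximal_iff_noetherian.2 inferInstance T hTne
  refine ⟨⟨p, hpp⟩, hpI, ?_⟩
  change ringKrullDim (A ⧸ p) = 1
  have hmax : ∀ q : Ideal A, q.IsPrime → p < q → I ≤ q := by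
    intro q hq hpq
    by_contra hIq
    exact hpmax q ⟨hq, hIq⟩ hpq
  obtain ⟨a, haI, hap⟩ := Set.not_subset.1 hpI
  have hx : Ideal.Quotient.mk p a ≠ 0 := fun h => hap (Ideal.Quotient.eq_zero_iff_mem.1 h)
  have hall : ∀ q : Ideal (A ⧸ p), q.IsPrime → q ≠ ⊥ → Ideal.Quotient.mk p a ∈ q := by
    intro q hq hqbot
    have hq' : (q.comap (Ideal.Quotient.mk p)).IsPrime := Ideal.comap_isPrime _ _
    have hle : p ≤ q.comap (Ideal.Quotient.mk p) := by
      intro z hz
      rw [Ideal.mem_comap, Ideal.Quotient.eq_zero_iff_mem.2 hz]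
      exact q.zero_mem
    have hne : p ≠ q.comap (Ideal.Quotient.mk p) := by
      intro heq
      apply hqbot
      rw [← Ideal.map_comap_of_surjective _ Ideal.Quotient.mk_surjective q, ← heq,
        Ideal.map_quotient_self]
    exact hmax _ hq' (lt_of_le_of_ne hle hne) haI
  have hle1 : ringKrullDim (A ⧸ p) ≤ 1 := by
    rw [ringKrullDim_le_iff_height_le]
    intro q hq
    have := Groth.Agent.S5166aux.height_le_one_aux (A ⧸ p) _ hx hall q
    exact_mod_cast this
  have hnot0 : ¬ ringKrullDim (A ⧸ p) ≤ 0 := by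
    intro h0
    have : Ring.KrullDimLE 0 (A ⧸ p) := Ring.krullDimLE_iff.mpr h0
    have hfld : IsField (A ⧸ p) := Ring.KrullDimLE.isField_of_isDomain
    have hpm : Ideal.IsMaximal p := Ideal.Quotient.maximal_of_isField _ hfld
    rw [IsLocalRing.eq_maximalIdeal hpm] at hpI
    exact hpI (IsLocalRing.le_maximalIdeal hI)
  exact le_antisymm hle1 (Order.succ_le_of_lt (lt_of_not_ge hnot0))

end Groth.Agent.S5166
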