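import Groth.Statements.S5174
import Groth.Agent.Lib.Helper8.ExtRep3

set_option autoImplicit false
universe u
open CategoryTheory Opposite
open LocCoh

namespace Groth.Agent.S5174

/-- Affine case with Z = X. Let A be a Noetherian ring, J an ideal, G any A-module and n ≥ 0 with
Ext^{n−1}_A(F', G) = 0 for all finite F' supported in V(J). Then for every finite A-module F with
Supp F ⊆ V(J) there is an A-linear isomorphism Ext^n_A(F, G) ≅ Hom_A(F, H^n_J(G)). (Existence of the
isomorphism is asserted; in the source it is the canonical one expressing that Ext^n_A(−, G), left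
exact on such F, is represented by H^n_J(G).) -/
theorem result (A : Type u) [CommRing A] [IsNoetherianRing A] (J : Ideal A) (G : Type u) [AddCommGroup G] [Module A G] (n : ℕ) (hvan : ∀ (F' : Type u) [AddCommGroup F'] [Module A F'], Module.Finite A F' → Module.support A F' ⊆ PrimeSpectrum.zeroLocus (J : Set A) → ∀ i : ℕ, i + 1 = n → Subsingleton (((Ext A (ModuleCat.{u} A) i).obj (op (ModuleCat.of A F'))).obj (ModuleCat.of A G))) (F : Type u) [AddCommGroup F] [Module A F] [Module.Finite A F] (hF : Module.support A F ⊆ PrimeSpectrum.zeroLocus (J : Set A)) : Nonempty ((((Ext A (ModuleCat.{u} A) n).obj (op (ModuleCat.of A F))).obj (ModuleCat.of A G)) ≃ₗ[A] (F →ₗ[A] LocCoh.H J n G)) := by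
  classical
  have hFt : LocCoh.IsPowerTorsion J F :=
    Groth.Agent.Helper8.LC.isPowerTorsion_of_support_subset J F hF
  have hvan' : ∀ (K : Type u) [AddCommGroup K] [Module A K], Module.Finite A K →
      LocCoh.IsPowerTorsion J K → ∀ i : ℕ, i + 1 = n →
      Subsingleton (CategoryTheory.Abelian.Ext (ModuleCat.of A K) (ModuleCat.of A G) i) := by
    intro K _ _ hKfin hKt i hi
    have hsupp : Module.support A K ⊆ PrimeSpectrum.zeroLocus (J : Set A) :=
      Groth.Agent.Helper8.LC.support_subset_of_pow_le_annihilator J K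
        (Groth.Agent.Helper8.LC.exists_pow_le_annihilator J K hKt)
    haveI := hvan K hKfin hsupp i hi
    exact (Groth.Agent.Helper8.LC.cmpC (ModuleCat.of A K) (ModuleCat.of A G) i).symm.toEquiv.subsingleton
  obtain ⟨e₀⟩ : Nonempty ((((Ext A (ModuleCat.{u} A) n).obj (op (ModuleCat.of A F))).obj
      (ModuleCat.of A G)) ≃ₗ[A]
      CategoryTheory.Abelian.Ext (ModuleCat.of A F) (ModuleCat.of A G) n) :=
    ⟨Groth.Agent.Helper8.LC.cmpC (ModuleCat.of A F) (ModuleCat.of A G) n⟩
  suffices h : Nonempty (CategoryTheory.Abelian.Ext (ModuleCat.of A F) (ModuleCat.of A G) n ≃ₗ[A]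
      (F →ₗ[A] LocCoh.H J n G)) by
    obtain ⟨e₁⟩ := h
    exact ⟨e₀.trans e₁⟩
  rcases n with _ | n
  · -- degree zero
    let e₁ : CategoryTheory.Abelian.Ext (ModuleCat.of A F) (ModuleCat.of A G) 0 ≃ₗ[A]
        (ModuleCat.of A F ⟶ ModuleCat.of A G) := CategoryTheory.Abelian.Ext.linearEquiv₀ (R := A)
    let e₂ : (ModuleCat.of A F ⟶ ModuleCat.of A G) ≃ₗ[A] (F →ₗ[A] G) :=
      ModuleCat.homLinearEquiv (S := A)
    let e₃ : (F →ₗ[A] G) ≃ₗ[A] (F →ₗ[A] DRing.torsionSub J G) :=
      { toFun := fun φ => φ.codRestrict (DRing.torsionSub J G)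
          (Groth.Agent.Helper8.ExtRep.map_mem_torsionSub J hFt φ)
        map_add' := fun φ ψ => rfl
        map_smul' := fun r φ => rfl
        invFun := fun ψ => (DRing.torsionSub J G).subtype ∘ₗ ψ
        left_inv := fun φ => rfl
        right_inv := fun ψ => rfl }
    let e₄ : (F →ₗ[A] DRing.torsionSub J G) ≃ₗ[A] (F →ₗ[A] LocCoh.H J 0 G) :=
      LinearEquiv.arrowCongr (LinearEquiv.refl A F)
        (Groth.Agent.Helper8.LC.h0Equiv J (ModuleCat.of A G)).symm
    exact ⟨e₁.trans (e₂.trans (e₃.trans e₄))⟩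
  · apply Groth.Agent.Helper8.ExtRep.main J n G _ F hFt
    rcases n with _ | m
    · -- the hypothesis in degree one
      haveI : Module.Injective A PUnit.{u + 1} :=
        ⟨fun X Y _ _ _ _ f hf g => ⟨0, fun x => Subsingleton.elim _ _⟩⟩
      refine ⟨PUnit.{u + 1}, inferInstance, inferInstance, inferInstance, 0, ?_⟩
      intro K _ _ hKfin hKt κ
      refine ⟨0, ?_⟩
      haveI := hvan' K hKfin hKt 0 rfl
      have h1 : CategoryTheory.Abelian.Ext.mk₀ (ModuleCat.ofHom κ) =
          CategoryTheory.Abelian.Ext.mk₀ (ModuleCat.ofHom (0 : K →ₗ[A] G)) := Subsingleton.elim _ _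
      have h2 := (CategoryTheory.Abelian.Ext.mk₀_bijective _ _).1 h1
      have h3 : κ = 0 := congrArg ModuleCat.Hom.hom h2
      rw [h3, LinearMap.comp_zero]
    · intro K _ _ hKfin hKt
      exact hvan' K hKfin hKt (m + 1) rfl

end Groth.Agent.S5174
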