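import Groth.Statements.S5178
import Groth.Agent.Lib.Helper8.CIPres5

set_option autoImplicit false
universe u
open CInt

namespace Groth.Agent.S5178

/-- Let A be a Noetherian local ring of dimension d, and let the completion of A be presented as B/I
with B a regular local ring of dimension e and I an ideal whose minimal number of generators is q,
so that e − q is the geometric depth of A (this number does not depend on the presentation). Then e
− q ≤ d, and equality holds if and only if A is a complete intersection, i.e. its completion is a
regular local ring modulo an ideal generated by a regular sequence. -/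
theorem result (A : Type u) [CommRing A] [IsLocalRing A] [IsNoetherianRing A] (B : Type u) [CommRing B] [IsRegularLocalRing B] (I : Ideal B) (hpres : Nonempty (AdicCompletion (IsLocalRing.maximalIdeal A) A ≃+* B ⧸ I)) (d e : ℕ) (hd : ringKrullDim A = (d : WithBot ℕ∞)) (he : ringKrullDim B = (e : WithBot ℕ∞)) : (e : ℤ) - (I.spanFinrank : ℤ) ≤ (d : ℤ) ∧ ((e : ℤ) - (I.spanFinrank : ℤ) = (d : ℤ) ↔ Pi1.IsCompleteIntersection A) := by
  obtain ⟨ε⟩ := hpres
  haveI : IsNoetherianRing (EGA4.Cpl A) := Groth.Agent.Helper8.AdicReg.isNoetherianRing A _
  haveI : Nontrivial (B ⧸ I) := ε.injective.nontrivial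
  have hI : I ≠ ⊤ := Ideal.Quotient.nontrivial_iff.1 inferInstance
  have hdA : ringKrullDim (B ⧸ I) = (d : WithBot ℕ∞) := by
    rw [← ringKrullDim_eq_of_ringEquiv ε,
      Groth.Agent.Helper8.AdicReg.ringKrullDim_eq A (IsLocalRing.maximalIdeal A)
        (IsLocalRing.maximalIdeal.isMaximal A).ne_top, hd]
  have h3 : ringKrullDim B ≤ ringKrullDim (B ⧸ I) + I.spanFinrank := by
    apply ringKrullDim_le_ringKrullDim_quotient_add_spanFinrank
    rw [IsLocalRing.ringJacobson_eq_maximalIdeal]
    exact IsLocalRing.le_maximalIdeal hI
  rw [hdA, he] at h3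
  have h3' : e ≤ d + I.spanFinrank := by exact_mod_cast h3
  refine ⟨by omega, ?_⟩
  rw [Groth.Agent.Helper8.CIPres.isCompleteIntersection_iff A B I ε, hdA, he]
  constructor
  · intro h
    have : d + I.spanFinrank = e := by omega
    exact_mod_cast this
  · intro h
    have : d + I.spanFinrank = e := by exact_mod_cast h
    omega

end Groth.Agent.S5178
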