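import Groth.Statements.S5209
import Groth.Agent.Lib.Helper6.DescCat2

set_option autoImplicit false
open CategoryTheory CategoryTheory.Limits
universe w v₁ u₁
open DescCat

namespace Groth.Agent.S5209

/-- In a category with pullbacks, let `f : S' ⟶ S` be a universal effective epimorphism, that is, a
morphism all of whose base changes are effective epimorphisms. Then a morphism `g` over `S` is an
isomorphism (resp. a monomorphism) if and only if its base change along `f` is. -/
theorem result {C : Type u₁} [Category.{v₁} C] [HasPullbacks C]
    {S' S : C} (f : S' ⟶ S) (hf : (MorphismProperty.universally (fun (A B : C) (p : A ⟶ B) => EffectiveEpi p)) f) {X Y : Over S} (g : X ⟶ Y) :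
    (IsIso g ↔ IsIso ((Over.pullback f).map g)) ∧ (Mono g ↔ Mono ((Over.pullback f).map g)) := by
  have HY : IsPullback (pullback.fst Y.hom f) (pullback.snd Y.hom f) Y.hom f :=
    IsPullback.of_hasPullback Y.hom f
  have HX : IsPullback (pullback.fst X.hom f) (pullback.snd X.hom f) X.hom f :=
    IsPullback.of_hasPullback X.hom f
  have hπ : Groth.Agent.Helper6.UEE C (pullback.fst Y.hom f) :=
    Groth.Agent.Helper6.UEE.of_isPullback HY hf
  have HA : IsPullback ((Over.pullback f).map g).left (pullback.fst X.hom f)
      (pullback.fst Y.hom f) g.left := by
    refine IsPullback.of_right ?_ ?_ HY.flip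
    · have e1 : ((Over.pullback f).map g).left ≫ pullback.snd Y.hom f = pullback.snd X.hom f := by
        simp only [Over.pullback_map_left]
        exact pullback.lift_snd _ _ _
      rw [e1, Over.w g]
      exact HX.flip
    · simp only [Over.pullback_map_left]
      exact pullback.lift_fst _ _ _
  refine ⟨⟨fun h => inferInstance, fun h => ?_⟩, ⟨fun h => inferInstance, fun h => ?_⟩⟩
  · have : IsIso ((Over.pullback f).map g).left :=
      (inferInstance : IsIso ((Over.forget _).map ((Over.pullback f).map g)))
    have : IsIso g.left := Groth.Agent.Helper6.isIso_of_isPullback_UEE HA hπ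
    have : IsIso ((Over.forget S).map g) := this
    exact isIso_of_reflects_iso g (Over.forget S)
  · have : Mono ((Over.pullback f).map g).left := inferInstance
    have : Mono g.left := Groth.Agent.Helper6.mono_of_isPullback_UEE HA hπ
    exact Over.mono_of_mono_left g

end Groth.Agent.S5209
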