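import Groth.Statements.S5210
import Groth.Agent.Lib.Helper6.DescCat2

set_option autoImplicit false
open CategoryTheory CategoryTheory.Limits
universe w v₁ u₁
open DescCat

namespace Groth.Agent.S5210

/-- In a category with pullbacks, let `f : S' ⟶ S` be a universal effective epimorphism (all of its base
changes are effective epimorphisms) and `Y ⟶ S` a monomorphism. Then an object `X` over `S` admits a
morphism to `Y` over `S` if and only if it does so after base change along `f`. -/
theorem result {C : Type u₁} [Category.{v₁} C] [HasPullbacks C]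
    {S' S : C} (f : S' ⟶ S) (hf : (MorphismProperty.universally (fun (A B : C) (p : A ⟶ B) => EffectiveEpi p)) f) (X Y : Over S) [Mono Y.hom] :
    Nonempty (X ⟶ Y) ↔ Nonempty ((Over.pullback f).obj X ⟶ (Over.pullback f).obj Y) := by
  constructor
  · rintro ⟨g⟩
    exact ⟨(Over.pullback f).map g⟩
  · rintro ⟨φ⟩
    have HX : IsPullback (pullback.fst X.hom f) (pullback.snd X.hom f) X.hom f :=
      IsPullback.of_hasPullback X.hom f
    have hfX : Groth.Agent.Helper6.UEE C (pullback.fst X.hom f) :=
      Groth.Agent.Helper6.UEE.of_isPullback HX hf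
    have := hfX.effectiveEpi
    have hφ : φ.left ≫ pullback.snd Y.hom f = pullback.snd X.hom f := Over.w φ
    have he : (φ.left ≫ pullback.fst Y.hom f) ≫ Y.hom = pullback.fst X.hom f ≫ X.hom := by
      rw [Category.assoc, pullback.condition, reassoc_of% hφ, pullback.condition]
    have h : ∀ {Z : C} (g₁ g₂ : Z ⟶ pullback X.hom f),
        g₁ ≫ pullback.fst X.hom f = g₂ ≫ pullback.fst X.hom f →
        g₁ ≫ (φ.left ≫ pullback.fst Y.hom f) = g₂ ≫ (φ.left ≫ pullback.fst Y.hom f) := by
      intro Z g₁ g₂ hg
      rw [← cancel_mono Y.hom]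
      simp only [Category.assoc] at he ⊢
      rw [he, reassoc_of% hg]
    refine ⟨Over.homMk (EffectiveEpi.desc (pullback.fst X.hom f) _ h) ?_⟩
    rw [← cancel_epi (pullback.fst X.hom f), EffectiveEpi.fac_assoc, he]

end Groth.Agent.S5210
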