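import Groth.Statements.S5212
import Mathlib

set_option autoImplicit false
universe u
open GrpQ

namespace Groth.Agent.S5212

/-- For `A'` finite and free as an `A`-module, a prime `p` of `A` and `a ∈ A'`, the element `a` belongs
to some prime of `A'` lying over `p` if and only if its norm belongs to `p`. (The published
statement allows `A'` projective of constant rank over `A`; this row takes `A'` free, where the norm
is the determinant of multiplication.) -/
theorem result {A A' : Type u} [CommRing A] [CommRing A'] [Algebra A A']
    [Module.Free A A'] [Module.Finite A A'] (p : Ideal A) [p.IsPrime] (a : A') :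
    (∃ q : Ideal A', q.IsPrime ∧ q.LiesOver p ∧ a ∈ q) ↔ Algebra.norm A a ∈ p := by
  classical
  let b := Module.Free.chooseBasis A A'
  let L := Algebra.leftMulMatrix b
  have hL : ∀ y : A', Algebra.norm A y = (L y).det := fun y => Algebra.norm_eq_matrix_det b y
  constructor
  · rintro ⟨q, hq, hqp, haq⟩
    have hdvd : a ∣ algebraMap A A' (Algebra.norm A a) := by
      have h1 : Polynomial.aeval a (L a).charpoly = 0 := by
        apply Algebra.leftMulMatrix_injective b
        rw [map_zero, ← Polynomial.aeval_algHom_apply]
        exact Matrix.aeval_self_charpoly (L a)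
      have h2 := Polynomial.divX_mul_X_add (L a).charpoly
      rw [← h2] at h1
      simp only [map_add, map_mul, Polynomial.aeval_X, Polynomial.aeval_C] at h1
      have h3 : algebraMap A A' ((L a).charpoly.coeff 0) = - (Polynomial.aeval a (L a).charpoly.divX * a) := by
        rw [eq_neg_iff_add_eq_zero, add_comm]; exact h1
      rw [hL, Matrix.det_eq_sign_charpoly_coeff, map_mul, h3]
      exact Dvd.dvd.mul_left (Dvd.dvd.neg_right (Dvd.intro_left _ rfl)) _
    have h4 : algebraMap A A' (Algebra.norm A a) ∈ q := Ideal.mem_of_dvd q hdvd haq
    rw [hqp.over]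
    exact h4
  · intro hN
    let I : Ideal A' := Ideal.span {a} ⊔ p.map (algebraMap A A')
    let S : Submonoid A' := p.primeCompl.map (algebraMap A A' : A →* A')
    have hent : ∀ x ∈ p.map (algebraMap A A'), ∀ i j, L x i j ∈ p := by
      intro x hx
      have hx' : x ∈ p • (⊤ : Submodule A A') := by
        have := Ideal.smul_top_eq_map (R := A) (S := A') p
        rw [this]; exact hx
      refine Submodule.smul_induction_on hx' ?_ ?_
      · intro r hr c _ i j
        rw [map_smul]
        exact p.mul_mem_right _ hr
      · intro x y hx hy i j
        rw [map_add]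
        exact p.add_mem (hx i j) (hy i j)
    have hdisj : Disjoint (I : Set A') (S : Set A') := by
      rw [Set.disjoint_left]
      rintro y hyI ⟨s, hs, rfl⟩
      obtain ⟨y1, hy1, x, hx, hyx⟩ := Submodule.mem_sup.mp hyI
      obtain ⟨c, rfl⟩ := Ideal.mem_span_singleton'.mp hy1
      apply hs
      change s ∈ p
      let π := Ideal.Quotient.mk p
      have hx0 : (L x).map π = 0 := by
        ext i j
        simp only [Matrix.map_apply, Matrix.zero_apply]
        exact Ideal.Quotient.eq_zero_iff_mem.mpr (hent x hx i j)
      have h5 : (L (algebraMap A A' s)).map π = (L c).map π * (L a).map π := by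
        have hyx' : c * a + x = algebraMap A A' s := hyx
        have : L (algebraMap A A' s) = L c * L a + L x := by
          rw [← map_mul, ← map_add]; exact congrArg L hyx'.symm
        rw [this, Matrix.map_add _ (map_add π), hx0, add_zero, Matrix.map_mul]
      have h6 := congrArg Matrix.det h5
      rw [Matrix.det_mul] at h6
      have h7 : ∀ y : A', ((L y).map π).det = π (Algebra.norm A y) := by
        intro y
        rw [hL, RingHom.map_det]; rfl
      rw [h7, h7, h7, Ideal.Quotient.eq_zero_iff_mem.mpr hN, mul_zero, Algebra.norm_algebraMap,
        Ideal.Quotient.eq_zero_iff_mem] at h6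
      exact Ideal.IsPrime.mem_of_pow_mem inferInstance _ h6
    obtain ⟨q, hq, hIq, hqS⟩ := Ideal.exists_le_prime_disjoint I S hdisj
    refine ⟨q, hq, ⟨?_⟩, hIq (Ideal.mem_sup_left (Ideal.subset_span rfl))⟩
    apply le_antisymm
    · intro x hx
      exact hIq (Ideal.mem_sup_right (Ideal.mem_map_of_mem _ hx))
    · intro x hx
      by_contra hxp
      exact Set.disjoint_left.mp hqS hx ⟨x, hxp, rfl⟩

end Groth.Agent.S5212
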