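import Groth.Statements.S5222
import Mathlib

set_option autoImplicit false
open CategoryTheory CategoryTheory.Limits MonoidalCategory
universe v₁ u₁
open DescCat

namespace Groth.Agent.S5222

open MonObj CartesianMonoidalCategory SemiCartesianMonoidalCategory in
/-- In a cartesian monoidal category with pullbacks: for a homomorphism `f : G ⟶ G'` of group objects
with kernel `K = G ×_{G'} e`, the pair `G × K ⇉ G` given by the projection and by multiplication is
the kernel pair of `f`. -/
theorem result {C : Type u₁} [Category.{v₁} C]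
    [CartesianMonoidalCategory C] [HasPullbacks C]
    {G G' : C} [GrpObj G] [GrpObj G'] (f : G ⟶ G') [IsMonHom f] :
    IsKernelPair f (fst G (pullback f η[G']))
      ((G ◁ pullback.fst f η[G']) ≫ μ[G]) := by
  have hm : (G ◁ pullback.fst f η[G']) ≫ μ[G] =
      fst G (pullback f η[G']) * (snd G (pullback f η[G']) ≫ pullback.fst f η[G']) := by
    rw [Hom.mul_def]
    congr 1
    ext <;> simp
  have hkf : pullback.fst f η[G'] ≫ f = 1 := by
    rw [pullback.condition, Hom.one_def]
    congr 1
    exact toUnit_unique _ _
  have hw : fst G (pullback f η[G']) ≫ f = ((G ◁ pullback.fst f η[G']) ≫ μ[G]) ≫ f := by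
    rw [hm, MonObj.mul_comp, Category.assoc, hkf, MonObj.comp_one, _root_.mul_one]
  have hmono : Mono (pullback.fst f η[G']) := inferInstance
  refine ⟨⟨hw⟩, ⟨PullbackCone.IsLimit.mk _
    (fun s => lift s.fst (pullback.lift (s.fst⁻¹ * s.snd) (toUnit _) (by
      rw [MonObj.mul_comp, GrpObj.inv_comp, s.condition, inv_mul_cancel, Hom.one_def]))) ?_ ?_ ?_⟩⟩
  · intro s
    exact lift_fst _ _
  · intro s
    rw [hm, MonObj.comp_mul, lift_fst, ← Category.assoc, lift_snd, pullback.lift_fst,
      mul_inv_cancel_left]
  · intro s m h1 h2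
    ext
    · rw [lift_fst]; exact h1
    · rw [lift_snd, pullback.lift_fst]
      rw [hm, MonObj.comp_mul, h1, ← Category.assoc] at h2
      rw [← h2, inv_mul_cancel_left]

end Groth.Agent.S5222
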