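import Groth.Statements.S5223
import Mathlib
import Groth.Agent.Lib.Lead.FB2
import Groth.Agent.S4681

set_option autoImplicit false
open CategoryTheory CategoryTheory.Limits AlgebraicGeometry
universe u
open GrpQ

namespace Groth.Agent.S5223

section
open CategoryTheory CategoryTheory.Limits AlgebraicGeometry

theorem flat_congr {X Y : Scheme.{u}} (f g : X ⟶ Y) (e : f = g) (x : X)
    (h : (f.stalkMap x).hom.Flat) : (g.stalkMap x).hom.Flat := by
  subst e; exact h

theorem main {F₂ F₁ X₁ X₀ : Scheme.{u}}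
    {v : F₂ ⟶ F₁} {d' : F₂ ⟶ X₁} {d : F₁ ⟶ X₀} {u : X₁ ⟶ X₀}
    (h : IsPullback v d' d u) [Flat u] (x : F₂) :
    (d'.stalkMap x).hom.Flat ↔ (d.stalkMap (v.base x)).hom.Flat := by
  constructor
  · intro hd'
    have hv : (v.stalkMap x).hom.Flat :=
      Groth.Agent.Lead.FB.flat_stalkMap_baseChange h x (Flat.stalkMap u (d' x))
    have hcomp : ((d' ≫ u).stalkMap x).hom.Flat := by
      rw [Scheme.Hom.stalkMap_comp]
      exact RingHom.Flat.comp (Flat.stalkMap u (d' x)) hd'
    have hcomp' : ((v ≫ d).stalkMap x).hom.Flat := flat_congr _ _ h.w.symm x hcomp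
    let A := X₀.presheaf.stalk (d (v x))
    let B := F₁.presheaf.stalk (v x)
    let C := F₂.presheaf.stalk x
    letI algAB : Algebra A B := (d.stalkMap (v x)).hom.toAlgebra
    letI algBC : Algebra B C := (v.stalkMap x).hom.toAlgebra
    letI algAC : Algebra A C := ((v ≫ d).stalkMap x).hom.toAlgebra
    haveI tower : IsScalarTower A B C := IsScalarTower.of_algebraMap_eq' (by
      show ((v ≫ d).stalkMap x).hom = ((v.stalkMap x).hom).comp (d.stalkMap (v x)).hom
      rw [Scheme.Hom.stalkMap_comp]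
      rfl)
    haveI : Module.Flat B C := hv
    haveI : IsLocalHom (algebraMap B C) := inferInstanceAs (IsLocalHom (v.stalkMap x).hom)
    haveI : Module.FaithfullyFlat B C := Module.FaithfullyFlat.of_flat_of_isLocalHom
    haveI : Module.Flat A C := hcomp'
    exact Groth.Agent.S4681.flat_of_faithfullyFlat_module (A := A) (B := B) C
  · intro hd
    exact Groth.Agent.Lead.FB.flat_stalkMap_baseChange h.flip x hd


end


/-- In a cartesian square of schemes `F₂ = F₁ ×_{X₀} X₁` whose bottom map `u : X₁ ⟶ X₀` is flat, the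
base-changed map `d' : F₂ ⟶ X₁` is flat at a point `x` if and only if `d : F₁ ⟶ X₀` is flat at the
image of `x` in `F₁`. -/
theorem result {F₂ F₁ X₁ X₀ : Scheme.{u}}
    {v : F₂ ⟶ F₁} {d' : F₂ ⟶ X₁} {d : F₁ ⟶ X₀} {u : X₁ ⟶ X₀}
    (h : IsPullback v d' d u) [Flat u] (x : F₂) :
    (d'.stalkMap x).hom.Flat ↔ (d.stalkMap (v.base x)).hom.Flat := by
  classical
  exact main h x

end Groth.Agent.S5223
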