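import Groth.Statements.S5225
import Groth.Agent.Lib.Helper2.Sch.QuotEtale
import Groth.Agent.Lib.Helper2.Sch.QuotKerPair
import Groth.Agent.Lib.Helper2.Grpd.QuotFppfMain
import Groth.Agent.S7490


set_option autoImplicit false
open CategoryTheory CategoryTheory.Limits AlgebraicGeometry
universe u
open GrpQ

namespace Groth.Agent.S5225

/-- For the étale topology: let `s, t : R ⇉ U` be an equivalence relation of schemes over `S` with `s`
étale and surjective. A morphism `q : U ⟶ Y` over `S` is an étale surjective quotient with kernel
pair `R` if and only if `q` identifies `h_Y` with the étale quotient sheaf `U/R`. -/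
theorem result {S : Scheme.{u}} {R U Y : Over S} (s t : R ⟶ U)
    [IsEquivalenceRelation s t] [Etale s.left] [Surjective s.left]
    (q : U ⟶ Y) :
    (IsKernelPair q s t ∧ Etale q.left ∧ Surjective q.left) ↔
      QuotSh.IsQuotient Scheme.etalePrecoverage s t q := by
  classical
  constructor
  · rintro ⟨hk, hE, hS⟩
    haveI := hE
    haveI := hS
    have w : s ≫ q = t ≫ q := hk.w
    have w' : t.left ≫ q.left = s.left ≫ q.left := by
      rw [← Over.comp_left, ← Over.comp_left, w]
    have pbL := (Groth.Agent.Lib.Helper4.GrpKer2.isPullback_left hk).flip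
    have hw : pullback.lift t.left s.left w' ≫ (pullback.fst q.left q.left ≫ U.hom) = R.hom := by
      rw [← Category.assoc, pullback.lift_fst, Over.w t]
    have hj : IsIso (Over.homMk (pullback.lift t.left s.left w') hw :
        R ⟶ Over.mk (pullback.fst q.left q.left ≫ U.hom)).left := by
      have e : pullback.lift t.left s.left w' = pbL.isoPullback.hom := by
        apply pullback.hom_ext
        · rw [pullback.lift_fst, pbL.isoPullback_hom_fst]
        · rw [pullback.lift_snd, pbL.isoPullback_hom_snd]
      change IsIso (pullback.lift t.left s.left w')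
      rw [e]
      infer_instance
    exact Groth.Agent.S7490.result Scheme.etalePrecoverage s t q w w'
      (Groth.Agent.Helper2.QuotEtale.epi_repMap_of_etale q)
      (Groth.Agent.Helper2.GrpdLib.epi_repMap_of_isIso_left Scheme.etalePrecoverage _ hj)
  · intro hq
    have h := Groth.Agent.Helper2.QuotKerPair.isEqvRel_of_isEquivalenceRelation s t
    have pb := Groth.Agent.Helper2.QuotEffK.isPullback_of_isQuotient Scheme.etalePrecoverage q h hq
    have hE := Groth.Agent.Helper2.QuotEffK.epi_repMap_of_isQuotient Scheme.etalePrecoverage q hq
    obtain ⟨R', hR', hlift⟩ := Groth.Agent.Helper2.QuotEtale.exists_cover_of_epi_etale q hE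
    have hR'' := Groth.Agent.Helper2.QuotEtale.etalePrecoverage_le_fppf R' hR'
    have pbL := Groth.Agent.Lib.Helper4.GrpKer2.isPullback_left pb
    have hpbE : Etale (pullback.fst q.left q.left) := by
      rw [← pbL.isoPullback_inv_fst]; infer_instance
    exact ⟨pb, Groth.Agent.Helper2.EpiFppf.prop_of_local_lifts @Etale q.left R' hR'' hlift hpbE,
      Groth.Agent.Helper2.EpiFppf.surjective_of_local_lifts q.left R' hR'' hlift⟩

end Groth.Agent.S5225
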