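import Groth.Statements.S5226
import Mathlib

set_option autoImplicit false
open CategoryTheory CategoryTheory.Limits
universe w v₁ u₁
open ShfCat

namespace Groth.Agent.S5226

/-- For sheaves of sets on a site with sheafification: if `R ⇉ X` is an equivalence relation with
(universally effective) quotient `X/R` and `Y ⊆ X` is a subsheaf with induced relation `R_Y`, then
the canonical map `Y/R_Y ⟶ X/R` is a monomorphism. Here `R_Y` is built as the iterated pullback of
`R` along `Y ⟶ X` on both sides. -/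
theorem result {C : Type u₁} [Category.{v₁} C]
    (J : GrothendieckTopology C) [HasSheafify J (Type w)]
    {R X Y : Sheaf J (Type w)} {p₁ p₂ : R ⟶ X} (e : UniversallyEffectiveEquivalenceRelation p₁ p₂)
    (ι : Y ⟶ X) [Mono ι]
    [HasCoequalizer (pullback.fst (pullback.fst p₁ ι ≫ p₂) ι ≫ pullback.snd p₁ ι)
      (pullback.snd (pullback.fst p₁ ι ≫ p₂) ι)]
    (g : coequalizer (pullback.fst (pullback.fst p₁ ι ≫ p₂) ι ≫ pullback.snd p₁ ι)
      (pullback.snd (pullback.fst p₁ ι ≫ p₂) ι) ⟶ e.B)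
    (hg : coequalizer.π _ _ ≫ g = ι ≫ e.π) :
    Mono g := by
  set d₁ := pullback.fst (pullback.fst p₁ ι ≫ p₂) ι ≫ pullback.snd p₁ ι with hd₁
  set d₂ := pullback.snd (pullback.fst p₁ ι ≫ p₂) ι with hd₂
  set q := coequalizer.π d₁ d₂ with hq
  apply (sheafToPresheaf J (Type w)).mono_of_mono_map
  change Mono g.hom
  rw [NatTrans.mono_iff_mono_app]
  intro c
  rw [mono_iff_injective]
  intro s t hst
  obtain ⟨c⟩ := c
  have hqs : Sheaf.IsLocallySurjective q := (Sheaf.isLocallySurjective_iff_epi q).mpr inferInstance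
  have hS : Presheaf.imageSieve q.hom s ⊓ Presheaf.imageSieve q.hom t ∈ J c :=
    J.intersection_covering (Presheaf.imageSieve_mem J q.hom s) (Presheaf.imageSieve_mem J q.hom t)
  have hsep := ((isSheaf_iff_isSheaf_of_type J _).mp
    (coequalizer d₁ d₂).property).isSeparated _ hS
  apply hsep.ext
  intro d f hf
  obtain ⟨⟨y, hy⟩, ⟨y', hy'⟩⟩ := hf
  rw [← hy, ← hy']
  -- e.π (ι y) = e.π (ι y')
  have h1 : e.π.hom.app (Opposite.op d) (ι.hom.app (Opposite.op d) y) =
      e.π.hom.app (Opposite.op d) (ι.hom.app (Opposite.op d) y') := by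
    have hg' : ∀ z, e.π.hom.app (Opposite.op d) (ι.hom.app (Opposite.op d) z) =
        g.hom.app (Opposite.op d) (q.hom.app (Opposite.op d) z) := by
      intro z
      have := congrArg (fun (φ : Y ⟶ e.B) => φ.hom.app (Opposite.op d) z) hg
      exact this.symm
    rw [hg', hg', hy, hy']
    rw [NatTrans.naturality_apply, NatTrans.naturality_apply]
    exact congrArg _ hst
  let F := sheafToPresheaf J (Type w) ⋙ (evaluation Cᵒᵖ (Type w)).obj (Opposite.op d)
  obtain ⟨r, hr1, hr2⟩ := Types.exists_of_isPullback (e.isKernelPair.map F) _ _ h1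
  obtain ⟨z₁, hz1, hz2⟩ := Types.exists_of_isPullback
    ((IsPullback.of_hasPullback p₁ ι).map F) r y hr1
  have h2 : (F.map (pullback.fst p₁ ι ≫ p₂)) z₁ = (F.map ι) y' := by
    rw [Functor.map_comp]
    change (F.map p₂) ((F.map (pullback.fst p₁ ι)) z₁) = _
    rw [hz1]; exact hr2
  obtain ⟨z₂, hz3, hz4⟩ := Types.exists_of_isPullback
    ((IsPullback.of_hasPullback (pullback.fst p₁ ι ≫ p₂) ι).map F) z₁ y' h2
  have h3 := congrArg (fun (φ : _ ⟶ coequalizer d₁ d₂) => φ.hom.app (Opposite.op d) z₂)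
    (coequalizer.condition d₁ d₂)
  have h4 : d₁.hom.app (Opposite.op d) z₂ = y := by
    change (F.map (pullback.snd p₁ ι)) ((F.map (pullback.fst (pullback.fst p₁ ι ≫ p₂) ι)) z₂) = y
    rw [hz3]; exact hz2
  have h5 : d₂.hom.app (Opposite.op d) z₂ = y' := hz4
  have h6 : q.hom.app (Opposite.op d) (d₁.hom.app (Opposite.op d) z₂) =
      q.hom.app (Opposite.op d) (d₂.hom.app (Opposite.op d) z₂) := h3
  rw [h4, h5] at h6
  exact h6

end Groth.Agent.S5226
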