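import Groth.Statements.S6055
import Mathlib

set_option autoImplicit false
open CategoryTheory CategoryTheory.Limits MonoidalCategory
universe w v₁ u₁
open ShfCat

namespace Groth.Agent.S6055

section
open CategoryTheory CategoryTheory.Limits MonoidalCategory
open MonObj CartesianMonoidalCategory SemiCartesianMonoidalCategory
universe v₂ u₂ v₃ u₃

section transport
variable {𝒮 : Type u₂} [Category.{v₂} 𝒮] {𝒟 : Type u₃} [Category.{v₃} 𝒟]
  {a : 𝒟 ⥤ 𝒮} {incl : 𝒮 ⥤ 𝒟} (adj : a ⊣ incl) [incl.Full] [incl.Faithful]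
  [PreservesLimitsOfShape WalkingCospan a]

include adj in
theorem transport_kernelPair {R X : 𝒮} (p₁ p₂ : R ⟶ X) [HasCoequalizer (incl.map p₁) (incl.map p₂)]
    [HasCoequalizer p₁ p₂]
    (hP : IsPullback (incl.map p₁) (incl.map p₂) (coequalizer.π (incl.map p₁) (incl.map p₂))
      (coequalizer.π (incl.map p₁) (incl.map p₂))) :
    IsKernelPair (coequalizer.π p₁ p₂) p₁ p₂ := by
  set q := coequalizer.π (incl.map p₁) (incl.map p₂) with hq
  have h1 : IsPullback (a.map (incl.map p₁)) (a.map (incl.map p₂)) (a.map q) (a.map q) := hP.map a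
  have hnat₁ : a.map (incl.map p₁) ≫ adj.counit.app X = adj.counit.app R ≫ p₁ :=
    adj.counit.naturality p₁
  have hnat₂ : a.map (incl.map p₂) ≫ adj.counit.app X = adj.counit.app R ≫ p₂ :=
    adj.counit.naturality p₂
  set π' := inv (adj.counit.app X) ≫ a.map q with hπ'
  have h2 : IsPullback p₁ p₂ π' π' := by
    refine h1.of_iso (asIso (adj.counit.app R)) (asIso (adj.counit.app X))
      (asIso (adj.counit.app X)) (Iso.refl _) hnat₁ hnat₂ ?_ ?_
    · simp [hπ']
    · simp [hπ']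
  have : PreservesColimitsOfSize.{0, 0} a := adj.leftAdjoint_preservesColimits
  have hc := isColimitCoforkMapOfIsColimit a (coequalizer.condition (incl.map p₁) (incl.map p₂))
    (coequalizerIsCoequalizer (incl.map p₁) (incl.map p₂))
  have hw' : p₁ ≫ π' = p₂ ≫ π' := h2.w
  have hc' : IsColimit (Cofork.ofπ π' hw') := by
    refine Cofork.IsColimit.mk _ (fun s => Cofork.IsColimit.desc hc (adj.counit.app X ≫ s.π) ?_)
      ?_ ?_
    · rw [reassoc_of% hnat₁, reassoc_of% hnat₂, s.condition]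
    · intro s
      have := Cofork.IsColimit.π_desc' hc (adj.counit.app X ≫ s.π)
        (by rw [reassoc_of% hnat₁, reassoc_of% hnat₂, s.condition])
      simp only [Cofork.π_ofπ, hπ', Category.assoc]
      rw [IsIso.inv_comp_eq]
      exact this
    · intro s m hm
      apply Cofork.IsColimit.hom_ext hc
      rw [Cofork.IsColimit.π_desc' hc]
      simp only [Cofork.π_ofπ, hπ', Category.assoc] at hm
      rw [IsIso.inv_comp_eq] at hm
      exact hm
  let e := hc'.coconePointUniqueUpToIso (coequalizerIsCoequalizer p₁ p₂)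
  have he : π' ≫ e.hom = coequalizer.π p₁ p₂ :=
    hc'.comp_coconePointUniqueUpToIso_hom (coequalizerIsCoequalizer p₁ p₂) WalkingParallelPair.one
  exact h2.of_iso (Iso.refl _) (Iso.refl _) (Iso.refl _) e (by simp) (by simp) (by simpa using he)
    (by simpa using he)

end transport


section sheaf
variable {C : Type u₁} [Category.{v₁} C] (J : GrothendieckTopology C)

/-- sections functor -/
noncomputable abbrev sec (U : Cᵒᵖ) : Sheaf J (Type w) ⥤ Type w :=
  sheafToPresheaf J (Type w) ⋙ (evaluation Cᵒᵖ (Type w)).obj U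

variable {J}
theorem isPullback_sec {P X W Y : Sheaf J (Type w)} {fst : P ⟶ X} {snd : P ⟶ W} {f : X ⟶ Y}
    {g : W ⟶ Y} (h : IsPullback fst snd f g) (U : Cᵒᵖ) :
    IsPullback (fst.hom.app U) (snd.hom.app U) (f.hom.app U) (g.hom.app U) :=
  h.map (sec J U)

theorem types_isKernelPair {R X Q : Type w} (p₁ p₂ : R ⟶ X) (q : X ⟶ Q) (w : p₁ ≫ q = p₂ ≫ q)
    (hq : IsColimit (Cofork.ofπ q w)) (hinj : ∀ z z', p₁ z = p₁ z' → p₂ z = p₂ z' → z = z')
    (heq : Equivalence (fun x x' => ∃ r, p₁ r = x ∧ p₂ r = x')) : IsPullback p₁ p₂ q q := by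
  rw [Types.isPullback_iff]
  refine ⟨w, fun z z' h => hinj z z' h.1 h.2, ?_⟩
  intro x x' hxx'
  let S : Setoid X := ⟨_, heq⟩
  let φ : X ⟶ Quotient S := ↾(fun x => Quotient.mk S x)
  have hφ : p₁ ≫ φ = p₂ ≫ φ := by
    ext r
    exact Quotient.sound ⟨r, rfl, rfl⟩
  let d : Q ⟶ Quotient S := Cofork.IsColimit.desc hq φ hφ
  have hd : q ≫ d = φ := Cofork.IsColimit.π_desc' hq φ hφ
  have h1 : φ x = φ x' := by
    rw [← hd]
    change d (q x) = d (q x')
    rw [hxx']
  exact Quotient.exact h1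


theorem psh_isKernelPair {R X : Cᵒᵖ ⥤ Type w} (p₁ p₂ : R ⟶ X)
    (hinj : ∀ U (z z' : R.obj U), p₁.app U z = p₁.app U z' → p₂.app U z = p₂.app U z' → z = z')
    (heq : ∀ U, Equivalence (fun x x' => ∃ r, p₁.app U r = x ∧ p₂.app U r = x')) :
    IsPullback p₁ p₂ (coequalizer.π p₁ p₂) (coequalizer.π p₁ p₂) := by
  apply IsPullback.of_forall_isPullback_app
  intro U
  have hc := isColimitCoforkMapOfIsColimit ((evaluation Cᵒᵖ (Type w)).obj U)
    (coequalizer.condition p₁ p₂) (coequalizerIsCoequalizer p₁ p₂)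
  exact types_isKernelPair _ _ _ _ hc (hinj U) (heq U)

theorem hinj_of_jointlyMono {R X : Sheaf J (Type w)} (p₁ p₂ : R ⟶ X) [JointlyMono₂ p₁ p₂]
    (U : Cᵒᵖ) (z z' : R.obj.obj U)
    (h₁ : p₁.hom.app U z = p₁.hom.app U z') (h₂ : p₂.hom.app U z = p₂.hom.app U z') : z = z' := by
  have hm : Mono (lift p₁ p₂) := ⟨fun f g h => JointlyMono₂.right_cancellation (p₁ := p₁) (p₂ := p₂) f g
    (by simpa using congrArg (· ≫ fst _ _) h) (by simpa using congrArg (· ≫ snd _ _) h)⟩
  have hm' : Mono ((sheafToPresheaf J _).map (lift p₁ p₂)) := inferInstance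
  have hm'' : Mono (((sheafToPresheaf J _).map (lift p₁ p₂)).app U) := inferInstance
  have hinj := (mono_iff_injective _).1 hm''
  apply hinj
  exact Prod.ext h₁ h₂

theorem heq_of_equivalenceRelation {R X : Sheaf J (Type w)} {p₁ p₂ : R ⟶ X}
    (e : EquivalenceRelation p₁ p₂) (U : Cᵒᵖ) :
    Equivalence (fun x x' : X.obj.obj U => ∃ r, p₁.hom.app U r = x ∧ p₂.hom.app U r = x') := by
  have hJ0 : JointlyMono₂ p₁ p₂ := e.toJointlyMono₂
  have hJ : JointlyMono₂ ((sec J U).map p₁) ((sec J U).map p₂) :=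
    ⟨fun Y f g h₁ h₂ => by
      ext y
      exact hinj_of_jointlyMono p₁ p₂ U _ _ (types_congr_hom h₁ y) (types_congr_hom h₂ y)⟩
  refine ⟨?_, ?_, ?_⟩
  · exact (TypeCat.refl_of_reflexiveRelation (e.toReflexiveRelation.map (sec J U))).refl
  · exact fun h => (TypeCat.symm_of_symmetricRelation (e.toSymmetricRelation.map (sec J U))).symm _ _ h
  · exact fun h h' =>
      (TypeCat.isTrans_of_transitiveRelation (e.toTransitiveRelation.map (sec J U))).trans _ _ _ h h'

variable [HasSheafify J (Type w)]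

theorem isKernelPair_coequalizer {R X : Sheaf J (Type w)} {p₁ p₂ : R ⟶ X}
    (e : EquivalenceRelation p₁ p₂) : IsKernelPair (coequalizer.π p₁ p₂) p₁ p₂ := by
  have hJ0 : JointlyMono₂ p₁ p₂ := e.toJointlyMono₂
  apply transport_kernelPair (sheafificationAdjunction J (Type w)) p₁ p₂
  exact psh_isKernelPair _ _ (hinj_of_jointlyMono p₁ p₂) (heq_of_equivalenceRelation e)

theorem epi_of_isPullback {P X W Y : Sheaf J (Type w)} {fst : P ⟶ X} {snd : P ⟶ W} {f : X ⟶ Y}
    {g : W ⟶ Y} (h : IsPullback fst snd f g) [Epi f] : Epi snd := by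
  have hf : Sheaf.IsLocallySurjective f := (Sheaf.isLocallySurjective_iff_epi f).2 inferInstance
  rw [← Sheaf.isLocallySurjective_iff_epi]
  constructor
  intro U s
  refine J.superset_covering ?_ (hf.imageSieve_mem (g.hom.app _ s))
  intro V i hi
  obtain ⟨t, ht⟩ := hi
  have hpb := isPullback_sec h (Opposite.op V)
  have hnat : g.hom.app _ (W.obj.map i.op s) = Y.obj.map i.op (g.hom.app _ s) :=
    NatTrans.naturality_apply g.hom i.op s
  obtain ⟨z, hz1, hz2⟩ := Types.exists_of_isPullback hpb t (W.obj.map i.op s) (ht.trans hnat.symm)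
  exact ⟨z, hz2⟩

end sheaf

section abstract
variable {𝒞 : Type u₂} [Category.{v₂} 𝒞] [CartesianMonoidalCategory 𝒞]
  {H G : 𝒞} [hH : GrpObj H] [hG : GrpObj G] (u : H ⟶ G)

omit hH in
theorem act_eq : (G ◁ u) ≫ hG.mul = fst G H * (snd G H ≫ u) := by
  rw [mul_eq_mul, comp_mul, whiskerLeft_fst, whiskerLeft_snd]

omit hH in
theorem comp_act {Y : 𝒞} (a : Y ⟶ G ⊗ H) :
    a ≫ (G ◁ u) ≫ hG.mul = (a ≫ fst G H) * (a ≫ snd G H ≫ u) := by
  rw [act_eq, comp_mul]

omit hH in
theorem lift_act {Y : 𝒞} (a : Y ⟶ G) (b : Y ⟶ H) :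
    lift a b ≫ (G ◁ u) ≫ hG.mul = a * (b ≫ u) := by
  rw [comp_act, lift_fst, lift_snd_assoc]

section rel
variable [Mono u] [hu : IsMonHom u] [HasPullbacks 𝒞]

noncomputable def equivRel : EquivalenceRelation (fst G H) ((G ◁ u) ≫ hG.mul) where
  right_cancellation Y f g h₁ h₂ := by
    rw [comp_act, comp_act, h₁] at h₂
    have h3 := mul_left_cancel h₂
    rw [← Category.assoc, ← Category.assoc, cancel_mono] at h3
    exact CartesianMonoidalCategory.hom_ext _ _ h₁ h3
  r := lift (𝟙 G) 1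
  reflexivity₁ := lift_fst _ _
  reflexivity₂ := by
    rw [lift_act, MonObj.one_comp, _root_.mul_one]
  s := lift ((G ◁ u) ≫ hG.mul) (snd G H)⁻¹
  symmetry₁ := lift_fst _ _
  symmetry₂ := by
    rw [lift_act, GrpObj.inv_comp, act_eq]
    group
  c := PullbackCone.mk (pullback.fst ((G ◁ u) ≫ hG.mul) (fst G H))
    (pullback.snd ((G ◁ u) ≫ hG.mul) (fst G H)) pullback.condition
  isLimit := pullbackIsPullback _ _
  t := lift (pullback.fst ((G ◁ u) ≫ hG.mul) (fst G H) ≫ fst G H)
    ((pullback.fst ((G ◁ u) ≫ hG.mul) (fst G H) ≫ snd G H) *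
      (pullback.snd ((G ◁ u) ≫ hG.mul) (fst G H) ≫ snd G H))
  transitivity₁ := lift_fst _ _
  transitivity₂ := by
    have hc := pullback.condition (f := (G ◁ u) ≫ hG.mul) (g := fst G H)
    change lift (pullback.fst ((G ◁ u) ≫ hG.mul) (fst G H) ≫ fst G H)
      ((pullback.fst ((G ◁ u) ≫ hG.mul) (fst G H) ≫ snd G H) *
        (pullback.snd ((G ◁ u) ≫ hG.mul) (fst G H) ≫ snd G H)) ≫ (G ◁ u) ≫ hG.mul =
      pullback.snd ((G ◁ u) ≫ hG.mul) (fst G H) ≫ (G ◁ u) ≫ hG.mul
    rw [lift_act, MonObj.mul_comp, ← _root_.mul_assoc, comp_act _ (pullback.snd _ _), Category.assoc,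
      Category.assoc]
    rw [comp_act] at hc
    rw [hc]


end rel

section second
variable [Mono u] [HasPullbacks 𝒞] {L Q : 𝒞} [hL : GrpObj L] (l : L ⟶ G) [hl : IsMonHom l]
  (π : G ⟶ Q) (hk : IsKernelPair π (fst G H) ((G ◁ u) ≫ hG.mul))

omit hH in
include hk in
theorem second_iso : IsKernelPair (l ≫ π) (fst L (pullback u l))
    ((L ◁ pullback.snd u l) ≫ hL.mul) := by
  have hw : fst L (pullback u l) ≫ l ≫ π = ((L ◁ pullback.snd u l) ≫ hL.mul) ≫ l ≫ π := by
    have h1 : ((L ◁ pullback.snd u l) ≫ hL.mul) ≫ l =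
        lift (fst L (pullback u l) ≫ l) (snd L (pullback u l) ≫ pullback.fst u l) ≫
          (G ◁ u) ≫ hG.mul := by
      rw [lift_act, act_eq, MonObj.mul_comp, Category.assoc, Category.assoc,
        pullback.condition]
    have h2 : ((L ◁ pullback.snd u l) ≫ hL.mul) ≫ l ≫ π =
        (((L ◁ pullback.snd u l) ≫ hL.mul) ≫ l) ≫ π := (Category.assoc _ _ _).symm
    have h3 : ((G ◁ u) ≫ hG.mul) ≫ π = fst G H ≫ π := hk.w.symm
    rw [h2, h1, Category.assoc, h3, lift_fst_assoc, Category.assoc]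
  refine IsPullback.of_isLimit' ⟨hw⟩ ?_
  -- data for a cone
  have key : ∀ (s : PullbackCone (l ≫ π) (l ≫ π)),
      ∃ p : s.pt ⟶ pullback u l, p ≫ pullback.snd u l = s.fst⁻¹ * s.snd := by
    intro s
    have hc : (s.fst ≫ l) ≫ π = (s.snd ≫ l) ≫ π := by
      simpa using s.condition
    obtain ⟨z, hz₁, hz₂⟩ := hk.exists_lift _ _ hc
    rw [comp_act, hz₁] at hz₂
    have h2 : z ≫ snd G H ≫ u = (s.fst⁻¹ * s.snd) ≫ l := by
      rw [MonObj.mul_comp, GrpObj.inv_comp, ← hz₂]
      group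
    exact ⟨pullback.lift (z ≫ snd G H) (s.fst⁻¹ * s.snd) (by rw [Category.assoc, h2]),
      pullback.lift_snd _ _ _⟩
  choose p hp using key
  refine PullbackCone.IsLimit.mk _ (fun s => lift s.fst (p s)) ?_ ?_ ?_
  · intro s
    exact lift_fst _ _
  · intro s
    rw [lift_act, hp]
    group
  · intro s m hm₁ hm₂
    have hm₁' : m ≫ fst L (pullback u l) = s.fst := hm₁
    have hm₂' : m ≫ (L ◁ pullback.snd u l) ≫ hL.mul = s.snd := hm₂
    apply CartesianMonoidalCategory.hom_ext
    · rw [lift_fst]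
      exact hm₁
    · rw [lift_snd]
      have hmono : Mono (pullback.snd u l) := inferInstance
      rw [← cancel_mono (pullback.snd u l), hp]
      rw [comp_act, hm₁'] at hm₂'
      rw [← hm₂', Category.assoc]
      group

end second
end abstract

section final
variable {C : Type u₁} [Category.{v₁} C] (J : GrothendieckTopology C) [HasSheafify J (Type w)]

theorem kernelPair_quot {H G : Sheaf J (Type w)} [hH : GrpObj H] [hG : GrpObj G]
    (u : H ⟶ G) [Mono u]
    (hu : @IsMonHom (Sheaf J (Type w)) _ _ H G hH.toMonObj hG.toMonObj u) :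
    IsKernelPair (coequalizer.π (fst G H) ((G ◁ u) ≫ hG.mul)) (fst G H) ((G ◁ u) ≫ hG.mul) :=
  isKernelPair_coequalizer (@equivRel _ _ _ H G hH hG u _ hu _)

theorem main
    {H L G : Sheaf J (Type w)} [hH : GrpObj H] [hL : GrpObj L] [hG : GrpObj G]
    (u : H ⟶ G) (l : L ⟶ G) [Mono u] [Mono l]
    (hu : @IsMonHom (Sheaf J (Type w)) _ _ H G hH.toMonObj hG.toMonObj u)
    (hl : @IsMonHom (Sheaf J (Type w)) _ _ L G hL.toMonObj hG.toMonObj l) :
    IsKernelPair (l ≫ coequalizer.π (fst G H) ((G ◁ u) ≫ hG.mul))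
      (fst L (pullback u l)) ((L ◁ pullback.snd u l) ≫ hL.mul) :=
  @second_iso _ _ _ H G hG u _ _ L _ hL l hl _ (kernelPair_quot J u hu)

end final


end


open MonObj CartesianMonoidalCategory SemiCartesianMonoidalCategory in
/-- Let `G` be a sheaf of groups on a site, `H, L ⊆ G` subgroup sheaves and `π : G ⟶ G/H` the quotient
sheaf map. Then the pair `L × (H ∩ L) ⇉ L` (projection, right multiplication) is the kernel pair of
`L ⟶ G ⟶ G/H`, so that the image of `L` in `G/H` is the quotient sheaf `L/(H ∩ L)`. Sheaves of sets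
in `Type w` with sheafification; `H ∩ L` is the fibre product `H ×_G L`. (The published statement
assumes `H` normal and also identifies this image with `(L·H)/H`; normality is not needed for the
part stated here.) -/
theorem result {C : Type u₁} [Category.{v₁} C]
    (J : GrothendieckTopology C) [HasSheafify J (Type w)]
    {H L G : Sheaf J (Type w)} [hH : GrpObj H] [hL : GrpObj L] [hG : GrpObj G]
    (u : H ⟶ G) (l : L ⟶ G) [Mono u] [Mono l]
    (hu : @IsMonHom (Sheaf J (Type w)) _ _ H G hH.toMonObj hG.toMonObj u)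
    (hl : @IsMonHom (Sheaf J (Type w)) _ _ L G hL.toMonObj hG.toMonObj l) :
    IsKernelPair (l ≫ coequalizer.π (fst G H) ((G ◁ u) ≫ hG.mul))
      (fst L (pullback u l)) ((L ◁ pullback.snd u l) ≫ hL.mul) := by
  classical
  exact main J u l hu hl

end Groth.Agent.S6055
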