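import Groth.Statements.S5227
import Mathlib
import Groth.Agent.S6055

set_option autoImplicit false
open CategoryTheory CategoryTheory.Limits
universe w v₁ u₁
open ShfCat

namespace Groth.Agent.S5227

section
open CategoryTheory CategoryTheory.Limits
open Groth.Agent.S6055
universe v₂ u₂

section abstract
variable {𝒞 : Type u₂} [Category.{v₂} 𝒞] [HasPullbacks 𝒞]
  (hpb : ∀ {P X W Y : 𝒞} {fst : P ⟶ X} {snd : P ⟶ W} {f : X ⟶ Y} {g : W ⟶ Y},
    IsPullback fst snd f g → Epi f → Epi snd)
  (hstrong : ∀ {X Y : 𝒞} (f : X ⟶ Y), Epi f → StrongEpi f)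
  (himg : ∀ {X Y : 𝒞} (f : X ⟶ Y), ∃ (I : 𝒞) (e : X ⟶ I) (m : I ⟶ Y), Epi e ∧ Mono m ∧ e ≫ m = f)
  {R X B : 𝒞} {p₁ p₂ : R ⟶ X} (π : X ⟶ B) [hπ : Epi π] (hkp : IsKernelPair π p₁ p₂)

omit [HasPullbacks 𝒞] in
include hstrong in
theorem strong_lift {A B X Y : 𝒞} (c : A ⟶ B) [hc : Epi c] (j : X ⟶ Y) [Mono j] (f : A ⟶ X)
    (g : B ⟶ Y) (h : c ≫ g = f ≫ j) : ∃ d : B ⟶ X, d ≫ j = g := by
  have := hstrong c hc
  have sq : CommSq f c j g := ⟨h.symm⟩
  exact ⟨sq.lift, sq.fac_right⟩

omit [HasPullbacks 𝒞] in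
include himg in
theorem img_sub {X Y : 𝒞} (f : X ⟶ Y) :
    ∃ (K' : Subobject Y) (e : X ⟶ (K' : 𝒞)), Epi e ∧ e ≫ K'.arrow = f := by
  obtain ⟨I, e, m, he, hm, hem⟩ := himg f
  refine ⟨Subobject.mk m, e ≫ (Subobject.underlyingIso m).inv, inferInstance, ?_⟩
  rw [Category.assoc, Subobject.underlyingIso_arrow, hem]

include hpb hstrong in
theorem le_of_pullback_le (K'₁ K'₂ : Subobject B)
    (hle : (Subobject.pullback π).obj K'₁ ≤ (Subobject.pullback π).obj K'₂) : K'₁ ≤ K'₂ := by
  have pb₁ := Subobject.isPullback π K'₁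
  have pb₂ := Subobject.isPullback π K'₂
  have hepi : Epi (Subobject.pullbackπ π K'₁) := hpb pb₁.flip hπ
  have hcomm : Subobject.pullbackπ π K'₁ ≫ K'₁.arrow =
      (Subobject.ofLE _ _ hle ≫ Subobject.pullbackπ π K'₂) ≫ K'₂.arrow := by
    rw [pb₁.w, Category.assoc, pb₂.w, ← Category.assoc, Subobject.ofLE_arrow]
  obtain ⟨d, hd⟩ := strong_lift hstrong _ _ _ _ hcomm
  exact Subobject.le_of_comm d hd

include hpb hstrong himg hkp in
theorem abstract_main :
    Function.Injective (Subobject.pullback π).obj ∧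
      Set.range (Subobject.pullback π).obj =
        {Y : Subobject X | (Subobject.pullback p₁).obj Y = (Subobject.pullback p₂).obj Y} := by
  constructor
  · intro K'₁ K'₂ heq
    exact le_antisymm (le_of_pullback_le hpb hstrong π _ _ heq.le)
      (le_of_pullback_le hpb hstrong π _ _ heq.ge)
  · apply Set.eq_of_subset_of_subset
    · rintro _ ⟨K', rfl⟩
      change (Subobject.pullback p₁).obj ((Subobject.pullback π).obj K') =
        (Subobject.pullback p₂).obj ((Subobject.pullback π).obj K')
      rw [← Subobject.pullback_comp, ← Subobject.pullback_comp, hkp.w]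
    · intro Y hY
      change (Subobject.pullback p₁).obj Y = (Subobject.pullback p₂).obj Y at hY
      obtain ⟨K', e, he, hem⟩ := img_sub himg (Y.arrow ≫ π)
      refine ⟨K', ?_⟩
      apply le_antisymm
      · -- `π⁻¹ K' ≤ Y`
        have pb := Subobject.isPullback π K'
        have hc : Epi (pullback.snd e (Subobject.pullbackπ π K')) :=
          hpb (IsPullback.of_hasPullback e (Subobject.pullbackπ π K')) he
        obtain ⟨c, hcdef⟩ : ∃ c, c = pullback.snd e (Subobject.pullbackπ π K') := ⟨_, rfl⟩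
        obtain ⟨y, hy⟩ : ∃ y, y = pullback.fst e (Subobject.pullbackπ π K') := ⟨_, rfl⟩
        rw [← hcdef] at hc
        have hcond : y ≫ e = c ≫ Subobject.pullbackπ π K' := by
          rw [hcdef, hy]
          exact pullback.condition
        have h1 : (y ≫ Y.arrow) ≫ π = (c ≫ ((Subobject.pullback π).obj K').arrow) ≫ π := by
          rw [Category.assoc, ← hem, reassoc_of% hcond, pb.w, Category.assoc]
        obtain ⟨r, hr₁, hr₂⟩ := hkp.exists_lift _ _ h1
        have hf1 : ((Subobject.pullback p₁).obj Y).Factors r := by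
          rw [pullback_factors_iff, hr₁]
          exact Subobject.factors_comp_arrow y
        rw [hY, pullback_factors_iff, hr₂, Subobject.factors_iff] at hf1
        obtain ⟨g, hg⟩ := hf1
        obtain ⟨d, hd⟩ := strong_lift hstrong c Y.arrow g _ hg.symm
        exact Subobject.le_of_comm d hd
      · -- `Y ≤ π⁻¹ K'`
        apply Subobject.le_of_comm ((Subobject.isPullback π K').lift e Y.arrow hem)
        exact (Subobject.isPullback π K').lift_snd _ _ _

end abstract

section final
variable {C : Type u₁} [Category.{v₁} C] (J : GrothendieckTopology C) [HasSheafify J (Type w)]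

theorem main {R X : Sheaf J (Type w)} {p₁ p₂ : R ⟶ X}
    (e : UniversallyEffectiveEquivalenceRelation p₁ p₂) :
    Function.Injective (Subobject.pullback e.π).obj ∧
      Set.range (Subobject.pullback e.π).obj =
        {Y : Subobject X | (Subobject.pullback p₁).obj Y = (Subobject.pullback p₂).obj Y} := by
  have hpb : ∀ {P X W Y : Sheaf J (Type w)} {fst : P ⟶ X} {snd : P ⟶ W} {f : X ⟶ Y} {g : W ⟶ Y},
      IsPullback fst snd f g → Epi f → Epi snd :=
    fun hp hf => @epi_of_isPullback _ _ _ _ _ _ _ _ _ _ _ _ hp hf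
  have hstrong : ∀ {X Y : Sheaf J (Type w)} (f : X ⟶ Y), Epi f → StrongEpi f :=
    fun f hf => strongEpi_of_epi f
  have himg : ∀ {X Y : Sheaf J (Type w)} (f : X ⟶ Y),
      ∃ (I : Sheaf J (Type w)) (e : X ⟶ I) (m : I ⟶ Y), Epi e ∧ Mono m ∧ e ≫ m = f :=
    fun f => ⟨Sheaf.image f, Sheaf.toImage f, Sheaf.imageι f, inferInstance, inferInstance,
      Sheaf.toImage_ι f⟩
  have hπ : Epi e.π := inferInstance
  exact abstract_main hpb hstrong himg e.π e.isKernelPair

end final

end


/-- For sheaves of sets on a site with sheafification: for an equivalence relation `R ⇉ X` with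
(universally effective) quotient `π : X ⟶ X/R`, inverse image along `π` is a bijection from the
subsheaves of `X/R` onto the subsheaves of `X` stable under `R` (those whose two inverse images in
`R` agree). -/
theorem result {C : Type u₁} [Category.{v₁} C]
    (J : GrothendieckTopology C) [HasSheafify J (Type w)]
    {R X : Sheaf J (Type w)} {p₁ p₂ : R ⟶ X} (e : UniversallyEffectiveEquivalenceRelation p₁ p₂) :
    Function.Injective (Subobject.pullback e.π).obj ∧
      Set.range (Subobject.pullback e.π).obj =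
        {Y : Subobject X | (Subobject.pullback p₁).obj Y = (Subobject.pullback p₂).obj Y} := by
  classical
  exact main J e

end Groth.Agent.S5227
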