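import Groth.Statements.S5236
import Mathlib
import Groth.Prelude.Def_ChGrp

set_option autoImplicit false
open CategoryTheory CategoryTheory.Limits AlgebraicGeometry MonoidalCategory
universe u
open RedSub

namespace Groth.Agent.S5236

section
open CategoryTheory CategoryTheory.Limits AlgebraicGeometry MonoidalCategory
open MonObj GrpObj CartesianMonoidalCategory

section gen
variable {C : Type*} [Category C] [CartesianMonoidalCategory C]

theorem isPullback_whiskerRight {A B : C} (q : A ⟶ B) (Z : C) :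
    IsPullback (fst A Z) (q ▷ Z) q (fst B Z) := by
  refine ⟨⟨by simp⟩, ⟨PullbackCone.IsLimit.mk _ (fun s => lift s.fst (s.snd ≫ snd B Z)) ?_ ?_ ?_⟩⟩
  · intro s; simp
  · intro s
    apply CartesianMonoidalCategory.hom_ext
    · simp [s.condition]
    · simp
  · intro s m h1 h2
    apply CartesianMonoidalCategory.hom_ext
    · simp [← h1]
    · simp [← h2]

theorem isPullback_whiskerLeft {A B : C} (Z : C) (q : A ⟶ B) :
    IsPullback (snd Z A) (Z ◁ q) q (snd Z B) := by
  refine ⟨⟨by simp⟩, ⟨PullbackCone.IsLimit.mk _ (fun s => lift (s.snd ≫ fst Z B) s.fst) ?_ ?_ ?_⟩⟩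
  · intro s; simp
  · intro s
    apply CartesianMonoidalCategory.hom_ext
    · simp
    · simp [s.condition]
  · intro s m h1 h2
    apply CartesianMonoidalCategory.hom_ext
    · simp [← h2]
    · simp [← h1]
end gen

abbrev Pfppf : MorphismProperty Scheme.{u} :=
  (@Surjective ⊓ @Flat) ⊓ @LocallyOfFinitePresentation

theorem epi_of_P {X Y : Scheme.{u}} (f : X ⟶ Y) (h : Pfppf f) : Epi f := by
  haveI : Surjective f := h.1.1
  haveI : Flat f := h.1.2
  haveI : LocallyOfFinitePresentation f := h.2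
  infer_instance

variable {S : Scheme.{u}}

theorem Pfppf_whiskerRight {A B : Over S} (q : A ⟶ B) (Z : Over S) (h : Pfppf q.left) :
    Pfppf (q ▷ Z).left :=
  MorphismProperty.of_isPullback ((isPullback_whiskerRight q Z).map (Over.forget S)) h

theorem Pfppf_whiskerLeft {A B : Over S} (Z : Over S) (q : A ⟶ B) (h : Pfppf q.left) :
    Pfppf (Z ◁ q).left :=
  MorphismProperty.of_isPullback ((isPullback_whiskerLeft Z q).map (Over.forget S)) h

theorem Pfppf_tensor {A B A' B' : Over S} (p : A ⟶ B) (p' : A' ⟶ B') (h : Pfppf p.left)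
    (h' : Pfppf p'.left) : Pfppf (p ⊗ₘ p').left := by
  rw [MonoidalCategory.tensorHom_def, Over.comp_left]
  exact MorphismProperty.comp_mem _ _ _ (Pfppf_whiskerRight p A' h) (Pfppf_whiskerLeft B p' h')

theorem epi_over {A B : Over S} (p : A ⟶ B) (h : Pfppf p.left) : Epi p := by
  haveI := epi_of_P _ h
  constructor
  intro W a b hab
  ext
  have := congrArg (fun m => m.left) hab
  simp only [Over.comp_left] at this
  exact (cancel_epi p.left).1 this

theorem desc_over {A B W : Over S} (p : A ⟶ B) (hp : Pfppf p.left) (f : A ⟶ W)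
    (hco : ∀ (Z : Over S) (a₁ a₂ : Z ⟶ A), a₁ ≫ p = a₂ ≫ p → a₁ ≫ f = a₂ ≫ f) :
    ∃ g : B ⟶ W, p ≫ g = f := by
  haveI : Surjective p.left := hp.1.1
  haveI : Flat p.left := hp.1.2
  haveI : LocallyOfFinitePresentation p.left := hp.2
  haveI : EffectiveEpi p.left := inferInstance
  have hcoeq : ∀ {Z : Scheme.{u}} (g₁ g₂ : Z ⟶ A.left), g₁ ≫ p.left = g₂ ≫ p.left →
      g₁ ≫ f.left = g₂ ≫ f.left := by
    intro Z g₁ g₂ h
    let Z' : Over S := Over.mk (g₁ ≫ A.hom)
    let a₁ : Z' ⟶ A := Over.homMk g₁ rfl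
    have hg₂ : g₂ ≫ A.hom = g₁ ≫ A.hom := by
      rw [← Over.w p, ← Category.assoc, ← h, Category.assoc]
    let a₂ : Z' ⟶ A := Over.homMk g₂ hg₂
    have h' : a₁ ≫ p = a₂ ≫ p := by
      ext
      exact h
    have e2 := hco Z' a₁ a₂ h'
    have := congrArg (fun m => m.left) e2
    exact this
  let g₀ : B.left ⟶ W.left := EffectiveEpi.desc p.left f.left (fun g₁ g₂ h => hcoeq g₁ g₂ h)
  have hg₀ : p.left ≫ g₀ = f.left := EffectiveEpi.fac _ _ _
  have hg₀' : g₀ ≫ W.hom = B.hom := by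
    rw [← cancel_epi p.left, ← Category.assoc, hg₀, Over.w, Over.w]
  refine ⟨Over.homMk g₀ hg₀', ?_⟩
  ext
  exact hg₀

theorem mul_comp_hom {G J : Over S} [GrpObj G] [GrpObj J] (v : G ⟶ J) [IsMonHom v]
    {Z : Over S} (g h : Z ⟶ G) : (g * h) ≫ v = (g ≫ v) * (h ≫ v) := by
  rw [Hom.mul_def, Hom.mul_def, Category.assoc, IsMonHom.mul_hom, ← Category.assoc, lift_map]

theorem one_comp_hom {G J : Over S} [GrpObj G] [GrpObj J] (v : G ⟶ J) [IsMonHom v]
    {Z : Over S} : (1 : Z ⟶ G) ≫ v = 1 := by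
  rw [Hom.one_def, Hom.one_def, Category.assoc, IsMonHom.one_hom]

theorem inv_comp_hom {G J : Over S} [GrpObj G] [GrpObj J] (v : G ⟶ J) [IsMonHom v]
    {Z : Over S} (g : Z ⟶ G) : (g⁻¹) ≫ v = (g ≫ v)⁻¹ := by
  let F : (Z ⟶ G) →* (Z ⟶ J) :=
    { toFun := fun g => g ≫ v, map_one' := one_comp_hom v, map_mul' := fun a b => mul_comp_hom v a b }
  exact map_inv F g

theorem main {H G Q : Over S} [GrpObj H] [hG : GrpObj G]
    (i : H ⟶ G) [IsMonHom i] [Mono i] (hn : AlgGrp.IsNormalHom i)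
    (q : G ⟶ Q) (hq : RedSub.IsQuotient i q) :
    ∃! s : GrpObj Q, @IsMonHom (Over S) _ _ G Q hG.toMonObj s.toMonObj q := by
  obtain ⟨hsurj, hflat, hlfp, hpb⟩ := hq
  have hPq : Pfppf q.left := ⟨⟨hsurj, hflat⟩, hlfp⟩
  have hPqq : Pfppf (q ⊗ₘ q).left := Pfppf_tensor q q hPq hPq
  have hPqqq : Pfppf ((q ⊗ₘ q) ⊗ₘ q).left := Pfppf_tensor _ _ hPqq hPq
  haveI := epi_over q hPq
  haveI := epi_over (q ⊗ₘ q) hPqq
  haveI := epi_over ((q ⊗ₘ q) ⊗ₘ q) hPqqq
  have K1 : ∀ {Z : Over S} (x : Z ⟶ G) (m : Z ⟶ H), (x * (m ≫ i)) ≫ q = x ≫ q := by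
    intro Z x m
    have := congrArg (fun t => lift x m ≫ t) hpb.w
    rw [lift_fst_assoc, Category.assoc, lift_whiskerLeft_assoc, ← Category.assoc, ← Hom.mul_def] at this
    exact this.symm
  have K2 : ∀ {Z : Over S} (a₁ a₂ : Z ⟶ G), a₁ ≫ q = a₂ ≫ q → ∃ m : Z ⟶ H, a₂ = a₁ * (m ≫ i) := by
    intro Z a₁ a₂ h
    obtain ⟨l, hl1, hl2⟩ := hpb.exists_lift a₁ a₂ h
    refine ⟨l ≫ snd G H, ?_⟩
    have hl : l = lift a₁ (l ≫ snd G H) := by
      apply CartesianMonoidalCategory.hom_ext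
      · rw [lift_fst, hl1]
      · rw [lift_snd]
    rw [← hl2, hl, lift_whiskerLeft_assoc, ← Hom.mul_def, lift_snd]
  -- multiplication
  obtain ⟨mulQ, hmulQ⟩ := desc_over (q ⊗ₘ q) hPqq (μ[G] ≫ q) (by
    intro Z c₁ c₂ h
    have hc₁ : c₁ = lift (c₁ ≫ fst G G) (c₁ ≫ snd G G) := by
      apply CartesianMonoidalCategory.hom_ext <;> simp
    have hc₂ : c₂ = lift (c₂ ≫ fst G G) (c₂ ≫ snd G G) := by
      apply CartesianMonoidalCategory.hom_ext <;> simp
    have ha : (c₁ ≫ fst G G) ≫ q = (c₂ ≫ fst G G) ≫ q := by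
      have := congrArg (fun t => t ≫ fst Q Q) h
      simpa using this
    have hb : (c₁ ≫ snd G G) ≫ q = (c₂ ≫ snd G G) ≫ q := by
      have := congrArg (fun t => t ≫ snd Q Q) h
      simpa using this
    obtain ⟨m, hm⟩ := K2 _ _ ha
    obtain ⟨m', hm'⟩ := K2 _ _ hb
    obtain ⟨n', hn'⟩ := hn Z (c₁ ≫ snd G G)⁻¹ m
    rw [hc₁, hc₂, ← Category.assoc, ← Category.assoc, ← Hom.mul_def, ← Hom.mul_def, hm, hm']
    have e : (c₁ ≫ fst G G) * (m ≫ i) * ((c₁ ≫ snd G G) * (m' ≫ i)) =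
        ((c₁ ≫ fst G G) * (c₁ ≫ snd G G)) * ((n' * m') ≫ i) := by
      rw [mul_comp_hom, ← hn']
      group
    rw [e, K1])
  -- inverse
  obtain ⟨invQ, hinvQ⟩ := desc_over q hPq (ι[G] ≫ q) (by
    intro Z a₁ a₂ h
    obtain ⟨m, hm⟩ := K2 _ _ h
    obtain ⟨n', hn'⟩ := hn Z a₁ m⁻¹
    rw [← Category.assoc, ← Category.assoc, ← Hom.inv_def, ← Hom.inv_def, hm]
    have e : (a₁ * (m ≫ i))⁻¹ = a₁⁻¹ * (n' ≫ i) := by
      rw [← hn', inv_comp_hom]
      group
    rw [e, K1])
  have hmulpt : ∀ {Z : Over S} (a b : Z ⟶ G), lift (a ≫ q) (b ≫ q) ≫ mulQ = (a * b) ≫ q := by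
    intro Z a b
    rw [← lift_map, Category.assoc, hmulQ, ← Category.assoc, ← Hom.mul_def]
  have hinvpt : ∀ {Z : Over S} (a : Z ⟶ G), (a ≫ q) ≫ invQ = (a⁻¹) ≫ q := by
    intro Z a
    rw [Category.assoc, hinvQ, ← Category.assoc, ← Hom.inv_def]
  let sM : MonObj Q :=
    { one := η[G] ≫ q
      mul := mulQ
      one_mul := by
        rw [← cancel_epi (λ_ Q).inv, Iso.inv_hom_id, ← cancel_epi q, Category.comp_id]
        have e : q ≫ (λ_ Q).inv ≫ ((η[G] ≫ q) ▷ Q) = lift ((toUnit G ≫ η[G]) ≫ q) ((𝟙 G) ≫ q) := by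
          apply CartesianMonoidalCategory.hom_ext <;> simp
        rw [← Category.assoc, ← Category.assoc, Category.assoc q, e, hmulpt, ← Hom.one_def, _root_.one_mul,
          Category.id_comp]
      mul_one := by
        rw [← cancel_epi (ρ_ Q).inv, Iso.inv_hom_id, ← cancel_epi q, Category.comp_id]
        have e : q ≫ (ρ_ Q).inv ≫ (Q ◁ (η[G] ≫ q)) = lift ((𝟙 G) ≫ q) ((toUnit G ≫ η[G]) ≫ q) := by
          apply CartesianMonoidalCategory.hom_ext <;> simp
        rw [← Category.assoc, ← Category.assoc, Category.assoc q, e, hmulpt, ← Hom.one_def, _root_.mul_one,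
          Category.id_comp]
      mul_assoc := by
        rw [← cancel_epi ((q ⊗ₘ q) ⊗ₘ q)]
        apply AlgGrp.Action.hom_ext_lift₃
        intro Z a b c
        rw [← Category.assoc, ← Category.assoc, lift_map, lift_map, lift_whiskerRight, hmulpt, hmulpt,
          ← Category.assoc (lift _ _), lift_map, lift_map, lift_lift_associator_hom_assoc,
          lift_whiskerLeft_assoc, hmulpt, hmulpt, _root_.mul_assoc] }
  let sG : GrpObj Q :=
    { sM with
      inv := invQ
      left_inv := by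
        change lift invQ (𝟙 Q) ≫ mulQ = toUnit Q ≫ η[G] ≫ q
        rw [← cancel_epi q, ← Category.assoc, comp_lift]
        have := hinvpt (𝟙 G)
        rw [Category.id_comp] at this
        rw [this, Category.comp_id]
        have h2 := hmulpt ((𝟙 G)⁻¹) (𝟙 G)
        rw [Category.id_comp] at h2
        rw [h2, inv_mul_cancel, Hom.one_def, Category.assoc, ← Category.assoc q]
        congr 1
        exact (toUnit_unique _ _)
      right_inv := by
        change lift (𝟙 Q) invQ ≫ mulQ = toUnit Q ≫ η[G] ≫ q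
        rw [← cancel_epi q, ← Category.assoc, comp_lift]
        have := hinvpt (𝟙 G)
        rw [Category.id_comp] at this
        rw [this, Category.comp_id]
        have h2 := hmulpt (𝟙 G) ((𝟙 G)⁻¹)
        rw [Category.id_comp] at h2
        rw [h2, mul_inv_cancel, Hom.one_def, Category.assoc, ← Category.assoc q]
        congr 1
        exact (toUnit_unique _ _) }
  refine ⟨sG, ?_, ?_⟩
  · exact @IsMonHom.mk (Over S) _ _ G Q hG.toMonObj sG.toMonObj q rfl hmulQ.symm
  · intro s' hs'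
    apply GrpObj.ext
    apply MonObj.ext
    change s'.mul = mulQ
    rw [← cancel_epi (q ⊗ₘ q), hmulQ]
    exact (hs'.mul_hom).symm


end


/-- For group schemes and the fppf topology: if `i : H ⟶ G` is a normal monomorphism of `S`-group
schemes and `q : G ⟶ Q` exhibits `Q` as the fppf quotient `G/H`, then there is exactly one
group-scheme structure on `Q` over `S` making `q` a homomorphism. -/
theorem result {S : Scheme.{u}} {H G Q : Over S} [GrpObj H] [hG : GrpObj G]
    (i : H ⟶ G) [IsMonHom i] [Mono i] (hn : AlgGrp.IsNormalHom i)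
    (q : G ⟶ Q) (hq : RedSub.IsQuotient i q) :
    ∃! s : GrpObj Q, @IsMonHom (Over S) _ _ G Q hG.toMonObj s.toMonObj q := by
  classical
  exact main i hn q hq

end Groth.Agent.S5236
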