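import Groth.Statements.S5237
import Mathlib

set_option autoImplicit false
open CategoryTheory CategoryTheory.Limits AlgebraicGeometry MonoidalCategory
universe u
open RedSub

namespace Groth.Agent.S5237

section
open CategoryTheory CategoryTheory.Limits AlgebraicGeometry MonoidalCategory
open MonObj GrpObj CartesianMonoidalCategory

section gen
variable {C : Type*} [Category C] [CartesianMonoidalCategory C]

theorem isPullback_whiskerRight {A B : C} (q : A ⟶ B) (Z : C) :
    IsPullback (fst A Z) (q ▷ Z) q (fst B Z) := by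
  refine ⟨⟨by simp⟩, ⟨PullbackCone.IsLimit.mk _ (fun s => lift s.fst (s.snd ≫ snd B Z)) ?_ ?_ ?_⟩⟩
  · intro s; simp
  · intro s
    apply CartesianMonoidalCategory.hom_ext
    · simp [s.condition]
    · simp
  · intro s m h1 h2
    apply CartesianMonoidalCategory.hom_ext
    · simp [← h1]
    · simp [← h2]

theorem isPullback_whiskerLeft {A B : C} (Z : C) (q : A ⟶ B) :
    IsPullback (snd Z A) (Z ◁ q) q (snd Z B) := by
  refine ⟨⟨by simp⟩, ⟨PullbackCone.IsLimit.mk _ (fun s => lift (s.snd ≫ fst Z B) s.fst) ?_ ?_ ?_⟩⟩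
  · intro s; simp
  · intro s
    apply CartesianMonoidalCategory.hom_ext
    · simp
    · simp [s.condition]
  · intro s m h1 h2
    apply CartesianMonoidalCategory.hom_ext
    · simp [← h2]
    · simp [← h1]
end gen

theorem mul_comp_hom {S : Scheme.{u}} {G J : Over S} [GrpObj G] [GrpObj J] (v : G ⟶ J) [IsMonHom v]
    {Z : Over S} (g h : Z ⟶ G) : (g * h) ≫ v = (g ≫ v) * (h ≫ v) := by
  rw [Hom.mul_def, Hom.mul_def, Category.assoc, IsMonHom.mul_hom, ← Category.assoc, lift_map]

abbrev Pfppf : MorphismProperty Scheme.{u} :=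
  (@Surjective ⊓ @Flat) ⊓ @LocallyOfFinitePresentation

theorem epi_of_P {X Y : Scheme.{u}} (f : X ⟶ Y) (h : Pfppf f) : Epi f := by
  haveI : Surjective f := h.1.1
  haveI : Flat f := h.1.2
  haveI : LocallyOfFinitePresentation f := h.2
  infer_instance

theorem main {S : Scheme.{u}} {H G Q K : Over S}
    [GrpObj H] [GrpObj G] [GrpObj Q] [GrpObj K]
    (i : H ⟶ G) [IsMonHom i] [Mono i] (hn : AlgGrp.IsNormalHom i)
    (q : G ⟶ Q) [IsMonHom q] (hq : RedSub.IsQuotient i q)
    (f : G ⟶ K) [IsMonHom f] (hf : i ≫ f = 1) :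
    ∃! g : Q ⟶ K, q ≫ g = f ∧ IsMonHom g := by
  obtain ⟨hsurj, hflat, hlfp, hpb⟩ := hq
  haveI := hsurj
  haveI := hflat
  haveI := hlfp
  have hPq : Pfppf q.left := ⟨⟨hsurj, hflat⟩, hlfp⟩
  haveI : EffectiveEpi q.left := inferInstance
  -- f coequalizes the kernel pair
  have hcoeq : ∀ {Z : Scheme.{u}} (g₁ g₂ : Z ⟶ G.left), g₁ ≫ q.left = g₂ ≫ q.left →
      g₁ ≫ f.left = g₂ ≫ f.left := by
    intro Z g₁ g₂ h
    let Z' : Over S := Over.mk (g₁ ≫ G.hom)
    let a₁ : Z' ⟶ G := Over.homMk g₁ rfl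
    have hg₂ : g₂ ≫ G.hom = g₁ ≫ G.hom := by
      rw [← Over.w q, ← Category.assoc, ← h, Category.assoc]
    let a₂ : Z' ⟶ G := Over.homMk g₂ hg₂
    have h' : a₁ ≫ q = a₂ ≫ q := by
      ext
      exact h
    obtain ⟨l, hl1, hl2⟩ := hpb.exists_lift a₁ a₂ h'
    have e2 : a₂ ≫ f = a₁ ≫ f := by
      rw [← hl1, ← hl2]
      have : (G ◁ i) ≫ μ[G] = fst G H * (snd G H ≫ i) := by
        rw [Hom.mul_def]
        congr 1
      rw [this, Category.assoc, mul_comp_hom, Category.assoc, hf]
      simp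
    have := congrArg (fun m => m.left) e2
    exact this.symm
  let g₀ : Q.left ⟶ K.left := EffectiveEpi.desc q.left f.left (fun g₁ g₂ h => hcoeq g₁ g₂ h)
  have hg₀ : q.left ≫ g₀ = f.left := EffectiveEpi.fac _ _ _
  have hg₀' : g₀ ≫ K.hom = Q.hom := by
    rw [← cancel_epi q.left, ← Category.assoc, hg₀, Over.w, Over.w]
  let g : Q ⟶ K := Over.homMk g₀ hg₀'
  have hqg : q ≫ g = f := by
    ext
    exact hg₀
  have hepi : Epi q := by
    constructor
    intro W a b hab
    ext
    have := congrArg (fun m => m.left) hab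
    simp only [Over.comp_left] at this
    exact (cancel_epi q.left).1 this
  have hepi2 : Epi (q ⊗ₘ q) := by
    have h1 : Pfppf (q ▷ G).left :=
      MorphismProperty.of_isPullback ((isPullback_whiskerRight q G).map (Over.forget S)) hPq
    have h2 : Pfppf (Q ◁ q).left :=
      MorphismProperty.of_isPullback ((isPullback_whiskerLeft Q q).map (Over.forget S)) hPq
    have h3 : Pfppf ((q ▷ G).left ≫ (Q ◁ q).left) := MorphismProperty.comp_mem _ _ _ h1 h2
    have h4 : Epi ((q ▷ G).left ≫ (Q ◁ q).left) := epi_of_P _ h3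
    constructor
    intro W a b hab
    ext
    have := congrArg (fun m => m.left) hab
    rw [MonoidalCategory.tensorHom_def] at this
    simp only [Over.comp_left, Category.assoc] at this
    rw [← Category.assoc, ← Category.assoc] at this
    exact (cancel_epi _).1 this
  have hmon : IsMonHom g := by
    constructor
    · rw [← IsMonHom.one_hom q, Category.assoc, hqg, IsMonHom.one_hom]
    · rw [← cancel_epi (q ⊗ₘ q)]
      rw [← Category.assoc, ← IsMonHom.mul_hom, Category.assoc, hqg, IsMonHom.mul_hom,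
        ← Category.assoc, tensorHom_comp_tensorHom, hqg]
  refine ⟨g, ⟨hqg, hmon⟩, ?_⟩
  rintro g' ⟨hg', -⟩
  rw [← cancel_epi q, hg', hqg]


end


open MonObj GrpObj CartesianMonoidalCategory in
/-- For group schemes and the fppf topology: if `q : G ⟶ Q = G/H` is the fppf quotient of `G` by a
normal subgroup `H`, with its group structure, then a homomorphism `G ⟶ K` that kills `H` factors
uniquely through `q`, and the factorisation is a homomorphism. -/
theorem result {S : Scheme.{u}} {H G Q K : Over S}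
    [GrpObj H] [GrpObj G] [GrpObj Q] [GrpObj K]
    (i : H ⟶ G) [IsMonHom i] [Mono i] (hn : AlgGrp.IsNormalHom i)
    (q : G ⟶ Q) [IsMonHom q] (hq : RedSub.IsQuotient i q)
    (f : G ⟶ K) [IsMonHom f] (hf : i ≫ f = 1) :
    ∃! g : Q ⟶ K, q ≫ g = f ∧ IsMonHom g := by
  classical
  exact main i hn q hq f hf

end Groth.Agent.S5237
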