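import Groth.Statements.S5270
import Groth.Agent.Lib.Helper6.MultType.Rigid

set_option autoImplicit false
universe u
open TensorProduct SGA3b
open SGA3b

namespace Groth.Agent.S5270

/-- Injectivity of the map to formal homomorphisms. Let A be a Noetherian ring, separated and complete
for the I-adic topology, H = Spec B an isotrivial A-group of multiplicative type and G = Spec C an
affine A-group. If two homomorphisms H ⟶ G, given by bialgebra maps φ, ψ : C → B, have the same
reduction modulo I^(n+1) for every n ≥ 0, then φ = ψ. (Affine group schemes over an affine base are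
taken in Hopf-algebra form; base change is the tensor product; a homomorphism of groups Spec A ⟶
Spec C is a bialgebra map C → A.) -/
theorem result (A : Type u) [CommRing A] [IsNoetherianRing A] (I : Ideal A) [IsAdicComplete I A]
    (B : Type u) [CommRing B] [HopfAlgebra A B] (hH : IsIsotrivial A B)
    (C : Type u) [CommRing C] [HopfAlgebra A C] (φ ψ : C →ₐc[A] B)
    (h : ∀ (n : ℕ) (c : C), (1 : A ⧸ I ^ (n + 1)) ⊗ₜ[A] (φ c) = (1 : A ⧸ I ^ (n + 1)) ⊗ₜ[A] (ψ c)) :
    φ = ψ := by
  obtain ⟨A', _, _, _, hfin, hff, M, _, ⟨e⟩⟩ := hH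
  ext c
  rw [← sub_eq_zero]
  set d := φ c - ψ c with hd
  have hinj := Module.FaithfullyFlat.tensorProduct_mk_injective (A := A) (B := A') B
  apply hinj
  rw [map_zero]
  show (1 : A') ⊗ₜ[A] d = 0
  apply e.injective
  rw [map_zero]
  ext m
  have hjac : I ≤ Ideal.jacobson ⊥ := IsAdicComplete.le_jacobson_bot I
  have hbot := Ideal.iInf_pow_smul_eq_bot_of_le_jacobson (M := A') I hjac
  have hmem : (e ((1 : A') ⊗ₜ[A] d)).coeff m ∈ (⨅ i : ℕ, I ^ i • ⊤ : Submodule A A') := by
    rw [Submodule.mem_iInf]
    intro i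
    rcases Nat.eq_zero_or_pos i with rfl | hi
    · rw [pow_zero, Ideal.one_eq_top, Submodule.top_smul]; trivial
    · obtain ⟨n, rfl⟩ : ∃ n, i = n + 1 := ⟨i - 1, by omega⟩
      have h1 : d ∈ Ideal.map (algebraMap A B) (I ^ (n + 1)) := by
        apply Groth.Agent.Lib.Helper6.MultType.mem_map_of_one_tmul_eq_zero
        rw [hd, TensorProduct.tmul_sub, h n c, sub_self]
      have h2 := Groth.Agent.Lib.Helper6.MultType.algHom_mem_map
        (Algebra.TensorProduct.includeRight (R := A) (A := A') (B := B)) (I ^ (n + 1)) h1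
      rw [← Groth.Agent.Lib.Helper6.MultType.map_map_tower (R' := A')] at h2
      have h3 := Groth.Agent.Lib.Helper6.MultType.algHom_mem_map
        (e : A' ⊗[A] B →ₐ[A'] MonoidAlgebra A' M) _ h2
      have h4 := Groth.Agent.Lib.Helper6.MultType.linearMap_mem_of_mem_map A' _
        (Groth.Agent.Lib.Helper6.MultType.coeffL A' M m) h3
      rw [Ideal.smul_top_eq_map]
      exact h4
  rw [hbot, Submodule.mem_bot] at hmem
  exact hmem

end Groth.Agent.S5270
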