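import Groth.Statements.S5280
import Mathlib
import Groth.Agent.Lib.Lead.DiagActS

set_option autoImplicit false
open CategoryTheory MonoidalCategory CartesianMonoidalCategory MonObj GrpObj AlgebraicGeometry
universe u
open SGA3x

namespace Groth.Agent.S5280

/-- Let i₀ : S₀ ⟶ S be a closed immersion whose ideal is locally nilpotent (nilpotent on each member of
an affine open cover of S; in particular S₀ and S have the same underlying space), u : G ⟶ H a
homomorphism of S-groups with G of multiplicative type (fpqc-locally on S isomorphic, as a group, to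
diagonalisable groups D(M), M allowed to vary and taken in Type 0) and H locally of finite
presentation over S. If the restriction u₀ of u to S₀ is central (u(g) commutes with h for all
points g of G and h of H defined over an S₀-scheme), then u is central. -/
theorem result {S S₀ : Scheme.{u}} (i₀ : S₀ ⟶ S) [IsClosedImmersion i₀]
    (hnil : ∀ x : S, ∃ U : S.affineOpens, x ∈ (U : S.Opens) ∧ IsNilpotent (i₀.ker.ideal U))
    (G H : Over S) [GrpObj G] [GrpObj H] (hG : TwC.Locally S TwC.Topology.fpqc (fun S' f => ∃ (M : Type) (_ : AddCommGroup M), Nonempty (Grp.mk (Red.bc f G) ≅ Grp.mk (Red.DS S' M))))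
    [LocallyOfFinitePresentation H.hom] (u : G ⟶ H) [IsMonHom u]
    (h0 : ∀ (Y : Over S) (p : Y ⟶ Over.mk i₀) (g : Y ⟶ G) (h : Y ⟶ H), (g ≫ u) * h = h * (g ≫ u)) :
    ∀ (Y : Over S) (g : Y ⟶ G) (h : Y ⟶ H), (g ≫ u) * h = h * (g ≫ u) := by
  classical
  intro Y g h
  let act : G ⊗ H ⟶ H := ((fst G H ≫ u) * snd G H) * (fst G H ≫ u)⁻¹
  have hop : ∀ (T : Over S) (g : T ⟶ G) (h : T ⟶ H),
      Groth.Agent.Lead.DiagActS.op G H act g h = ((g ≫ u) * h) * (g ≫ u)⁻¹ := by
    intro T g h
    unfold Groth.Agent.Lead.DiagActS.op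
    show lift g h ≫ (((fst G H ≫ u) * snd G H) * (fst G H ≫ u)⁻¹) = _
    rw [MonObj.comp_mul, MonObj.comp_mul, GrpObj.comp_inv, ← Category.assoc, lift_fst, lift_snd]
  have h_one : ∀ (T : Over S) (x : T ⟶ H), Groth.Agent.Lead.DiagActS.op G H act 1 x = x := by
    intro T x
    rw [hop, MonObj.one_comp, _root_.one_mul, _root_.inv_one, _root_.mul_one]
  have h_mul : ∀ (T : Over S) (g h : T ⟶ G) (x : T ⟶ H),
      Groth.Agent.Lead.DiagActS.op G H act (g * h) x =
        Groth.Agent.Lead.DiagActS.op G H act g (Groth.Agent.Lead.DiagActS.op G H act h x) := by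
    intro T g h x
    rw [hop, hop, hop, MonObj.mul_comp, _root_.mul_inv_rev]
    simp only [_root_.mul_assoc]
  have h0' : ∀ (Y : Over S) (_ : Y ⟶ Over.mk i₀) (g : Y ⟶ G) (x : Y ⟶ H),
      Groth.Agent.Lead.DiagActS.op G H act g x = x := by
    intro Y p g x
    rw [hop, h0 Y p g x, _root_.mul_assoc, _root_.mul_inv_cancel, _root_.mul_one]
  have key := Groth.Agent.Lead.DiagActS.action_trivial i₀ G H act h_one h_mul h0' hnil hG Y g h
  rw [hop] at key
  exact mul_inv_eq_iff_eq_mul.mp key

end Groth.Agent.S5280
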