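import Groth.Statements.S5314
import Groth.Agent.Lib.Helper2.Sch.GrpHomSmooth
import Groth.Agent.Lib.Helper7.SmoothBC.Main
import Groth.Agent.S5316


set_option autoImplicit false
universe u
open CategoryTheory CategoryTheory.Limits MonoidalCategory CartesianMonoidalCategory MonObj GrpObj AlgebraicGeometry
open SGA3

namespace Groth.Agent.S5314

/-- Let u : G → H be a homomorphism of S-group schemes, with G flat and locally of finite presentation
over S and H locally of finite type over S. Then the set U of points s of S such that the fibre u_s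
: G_s → H_s over κ(s) is etale is open in S, and the set of points of G at which u is etale (u is
etale on some open neighbourhood) is the inverse image of U in G. (The published statement assumes
the finiteness and flatness conditions only at the points of the unit sections for the openness of
U; this row assumes them on all of G and H, the case in which the second assertion is stated.) -/
theorem result (S : Scheme.{u}) (G H : Over S) [GrpObj G] [GrpObj H] (u : G ⟶ H) [IsMonHom u]
    [Flat G.hom] [LocallyOfFinitePresentation G.hom] [LocallyOfFiniteType H.hom] :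
    IsOpen {s : S | Etale ((Over.pullback (S.fromSpecResidueField s)).map u).left} ∧
    {x : G.left | ∃ W : G.left.Opens, x ∈ W ∧ Etale (W.ι ≫ u.left)} = G.hom.base ⁻¹' {s : S | Etale ((Over.pullback (S.fromSpecResidueField s)).map u).left} := by
  haveI := Groth.Agent.Helper2.GrpHom.lfp_left u
  have hG : ∀ s : S, LocallyOfFiniteType (G.hom.fiberToSpecResidueField s) := fun s =>
    MorphismProperty.pullback_snd _ _ inferInstance
  obtain ⟨ho1, he1⟩ := Groth.Agent.S5316.result S G H u hG
  obtain ⟨ho2, he2⟩ := Groth.Agent.Helper2.GrpHom.S5313_main u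
  have hset : {s : S | Etale ((Over.pullback (S.fromSpecResidueField s)).map u).left} =
      {s : S | FormallyUnramified ((Over.pullback (S.fromSpecResidueField s)).map u).left} ∩
      {s : S | Smooth ((Over.pullback (S.fromSpecResidueField s)).map u).left} := by
    ext s
    exact Groth.Agent.Helper7.SmoothBC.etale_iff_formallyUnramified_and_smooth _
  refine ⟨by rw [hset]; exact ho1.inter ho2, ?_⟩
  rw [hset, Set.preimage_inter, ← he1, ← he2]
  ext x
  constructor
  · rintro ⟨W, hxW, hW⟩
    exact ⟨⟨W, hxW, inferInstance⟩, ⟨W, hxW, inferInstance⟩⟩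
  · rintro ⟨⟨W₁, hx1, h1⟩, ⟨W₂, hx2, h2⟩⟩
    refine ⟨W₁ ⊓ W₂, ⟨hx1, hx2⟩, ?_⟩
    rw [Groth.Agent.Helper7.SmoothBC.etale_iff_formallyUnramified_and_smooth]
    have e1 : (W₁ ⊓ W₂).ι ≫ u.left =
        G.left.homOfLE (inf_le_left : W₁ ⊓ W₂ ≤ W₁) ≫ W₁.ι ≫ u.left := by
      rw [← Category.assoc, Scheme.homOfLE_ι]
    have e2 : (W₁ ⊓ W₂).ι ≫ u.left =
        G.left.homOfLE (inf_le_right : W₁ ⊓ W₂ ≤ W₂) ≫ W₂.ι ≫ u.left := by
      rw [← Category.assoc, Scheme.homOfLE_ι]
    constructor
    · rw [e1]
      exact MorphismProperty.comp_mem (W := @FormallyUnramified) _ _ inferInstance h1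
    · rw [e2]; infer_instance

end Groth.Agent.S5314
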