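import Groth.Statements.S5317
import Groth.Agent.Lib.Helper2.Sch.GrpHomOpenImm
import Groth.Agent.S5314


set_option autoImplicit false
universe u
open CategoryTheory CategoryTheory.Limits MonoidalCategory CartesianMonoidalCategory MonObj GrpObj AlgebraicGeometry
open SGA3

namespace Groth.Agent.S5317

/-- Let u : G → H be a homomorphism of S-group schemes which is universally injective (for instance a
monomorphism), with G flat and locally of finite presentation over S and H locally of finite type
over S. Then the set U of points s of S such that u_s : G_s → H_s is an open immersion is open in S,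
and the restriction of u over every open of S contained in U is an open immersion. -/
theorem result (S : Scheme.{u}) (G H : Over S) [GrpObj G] [GrpObj H]
    (u : G ⟶ H) [IsMonHom u] [UniversallyInjective u.left]
    [Flat G.hom] [LocallyOfFinitePresentation G.hom] [LocallyOfFiniteType H.hom] :
    IsOpen {s : S | IsOpenImmersion ((Over.pullback (S.fromSpecResidueField s)).map u).left} ∧
    ∀ W : S.Opens, (W : Set S) ⊆ {s : S | IsOpenImmersion ((Over.pullback (S.fromSpecResidueField s)).map u).left} → IsOpenImmersion ((G.hom ⁻¹ᵁ W).ι ≫ u.left) := by
  obtain ⟨ho, he⟩ := Groth.Agent.S5314.result S G H u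
  have hset : {s : S | IsOpenImmersion ((Over.pullback (S.fromSpecResidueField s)).map u).left} =
      {s : S | Etale ((Over.pullback (S.fromSpecResidueField s)).map u).left} := by
    ext s
    constructor
    · intro h
      haveI : IsOpenImmersion ((Over.pullback (S.fromSpecResidueField s)).map u).left := h
      exact (inferInstance : Etale ((Over.pullback (S.fromSpecResidueField s)).map u).left)
    · intro h
      haveI : Etale ((Over.pullback (S.fromSpecResidueField s)).map u).left := h
      haveI : UniversallyInjective ((Over.pullback (S.fromSpecResidueField s)).map u).left :=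
        MorphismProperty.of_isPullback (P := @UniversallyInjective)
          (Groth.Agent.Helper2.GrpHom.isPullback_fibHom u s) inferInstance
      exact Groth.Agent.Helper2.GrpHom.isOpenImmersion_of_etale_of_universallyInjective _
  rw [hset]
  refine ⟨ho, fun W hW => ?_⟩
  haveI : Etale ((G.hom ⁻¹ᵁ W).ι ≫ u.left) := by
    apply Groth.Agent.Helper2.GrpHom.etale_comp_of_forall_exists_nhd
    intro v
    have hv : (G.hom ⁻¹ᵁ W).ι v ∈ G.hom.base ⁻¹'
        {s : S | Etale ((Over.pullback (S.fromSpecResidueField s)).map u).left} := hW v.2
    rw [← he] at hv
    exact hv
  haveI : UniversallyInjective ((G.hom ⁻¹ᵁ W).ι ≫ u.left) :=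
    MorphismProperty.comp_mem (W := @UniversallyInjective) _ _ inferInstance inferInstance
  exact Groth.Agent.Helper2.GrpHom.isOpenImmersion_of_etale_of_universallyInjective _

end Groth.Agent.S5317
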