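import Groth.Statements.S5331
import Groth.Agent.Lib.Helper6.GrpSchSep

set_option autoImplicit false
universe u
open CategoryTheory CategoryTheory.Limits MonoidalCategory CartesianMonoidalCategory MonObj GrpObj AlgebraicGeometry
open SGA3

namespace Groth.Agent.S5331

/-- Let S be a scheme whose underlying topological space is discrete. Then every S-group scheme is
separated over S. -/
theorem result (S : Scheme.{u}) [DiscreteTopology S] (G : Over S) [GrpObj G] :
    IsSeparated G.hom := by
  exact Groth.Agent.Helper6.GrpSchSep.isSeparated_of_discrete G

end Groth.Agent.S5331
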