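import Groth.Statements.S5338
import Groth.Agent.Lib.Helper6.NilFP

set_option autoImplicit false
universe u
open CategoryTheory CategoryTheory.Limits MonoidalCategory CartesianMonoidalCategory MonObj GrpObj AlgebraicGeometry
open SGA3

namespace Groth.Agent.S5338

/-- Let A → B → C be homomorphisms of commutative rings and n a nilpotent ideal of A; write nB and nC
for the extended ideals. (i) If C/nC is a (B/nB)-algebra of finite type, then C is a B-algebra of
finite type. (ii) If moreover C is flat over A and C/nC is a (B/nB)-algebra of finite presentation,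
then C is a B-algebra of finite presentation. -/
theorem result (A B C : Type u) [CommRing A] [CommRing B] [CommRing C]
    [Algebra A B] [Algebra B C] [Algebra A C] [IsScalarTower A B C] (n : Ideal A) (hn : IsNilpotent n) :
    (Algebra.FiniteType (B ⧸ n.map (algebraMap A B)) (C ⧸ (n.map (algebraMap A B)).map (algebraMap B C)) →
      Algebra.FiniteType B C) ∧
    (Module.Flat A C →
      Algebra.FinitePresentation (B ⧸ n.map (algebraMap A B)) (C ⧸ (n.map (algebraMap A B)).map (algebraMap B C)) →
      Algebra.FinitePresentation B C) := by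
  classical
  set I : Ideal B := n.map (algebraMap A B) with hI
  set J : Ideal C := I.map (algebraMap B C) with hJ
  have hInil : IsNilpotent I := by
    obtain ⟨k, hk⟩ := hn
    refine ⟨k, ?_⟩
    rw [hI, ← Ideal.map_pow, hk, Ideal.zero_eq_bot, Ideal.map_bot]
    rfl
  -- common construction
  have common : Algebra.FiniteType (B ⧸ I) (C ⧸ J) →
      ∃ (m : ℕ) (g : MvPolynomial (Fin m) B →ₐ[B] C), Function.Surjective g := by
    intro hft
    have hft' : Algebra.FiniteType B (C ⧸ J) :=
      Algebra.FiniteType.trans (S := B ⧸ I)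
        (Algebra.FiniteType.of_surjective (Algebra.ofId B (B ⧸ I))
          Ideal.Quotient.mk_surjective) hft
    obtain ⟨m, f, hf⟩ := Algebra.FiniteType.iff_quotient_mvPolynomial''.mp hft'
    have hmk : Function.Surjective (Ideal.Quotient.mkₐ B J) := Ideal.Quotient.mkₐ_surjective B J
    let g : MvPolynomial (Fin m) B →ₐ[B] C :=
      MvPolynomial.aeval (fun i => Function.surjInv hmk (f (MvPolynomial.X i)))
    have hgf : (Ideal.Quotient.mkₐ B J).comp g = f := by
      apply MvPolynomial.algHom_ext
      intro i
      simp only [AlgHom.comp_apply, g, MvPolynomial.aeval_X]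
      exact Function.surjInv_eq hmk _
    refine ⟨m, g, ?_⟩
    have htop : (⊤ : Submodule B C) ≤ (LinearMap.range g.toLinearMap) := by
      apply Groth.Agent.Lib.Helper6.NilFP.nak I hInil
      intro c _
      obtain ⟨p, hp⟩ := hf (Ideal.Quotient.mkₐ B J c)
      have h1 : c - g p ∈ J := by
        rw [← Ideal.Quotient.eq]
        have := congrArg (fun φ => φ p) hgf
        simp only [AlgHom.comp_apply] at this
        rw [Ideal.Quotient.mkₐ_eq_mk] at this hp
        rw [this, hp]
      have h2 : c - g p ∈ I • (⊤ : Submodule B C) := by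
        rw [Ideal.smul_top_eq_map]
        exact h1
      have : c = g p + (c - g p) := by ring
      rw [this]
      exact Submodule.add_mem_sup ⟨p, rfl⟩ h2
    intro c
    obtain ⟨p, hp⟩ := htop (Submodule.mem_top (x := c))
    exact ⟨p, hp⟩
  refine ⟨fun hft => ?_, fun hflat hfp => ?_⟩
  · obtain ⟨m, g, hg⟩ := common hft
    exact Algebra.FiniteType.of_surjective g hg
  · have hft : Algebra.FiniteType (B ⧸ I) (C ⧸ J) := inferInstance
    obtain ⟨m, g, hg⟩ := common hft
    refine Algebra.FinitePresentation.of_surjective hg ?_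
    let P := MvPolynomial (Fin m) B
    let K : Ideal P := RingHom.ker g.toRingHom
    let π : P →+* MvPolynomial (Fin m) (B ⧸ I) := MvPolynomial.map (Ideal.Quotient.mk I)
    have hπ : Function.Surjective π := MvPolynomial.map_surjective _ Ideal.Quotient.mk_surjective
    let fbar : MvPolynomial (Fin m) (B ⧸ I) →ₐ[B ⧸ I] (C ⧸ J) :=
      MvPolynomial.aeval (fun i => Ideal.Quotient.mk J (g (MvPolynomial.X i)))
    have hcomp : (fbar : MvPolynomial (Fin m) (B ⧸ I) →+* (C ⧸ J)).comp π
        = (Ideal.Quotient.mk J).comp (g : P →+* C) := by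
      apply MvPolynomial.ringHom_ext
      · intro b
        simp [π, fbar]
        rfl
      · intro i
        simp [π, fbar]
    have hcomp' : ∀ p : P, fbar (π p) = Ideal.Quotient.mk J (g p) := fun p => by
      have := congrArg (fun φ => φ p) hcomp
      simpa using this
    have hfbar : Function.Surjective fbar := by
      intro y
      obtain ⟨c, rfl⟩ := Ideal.Quotient.mk_surjective y
      obtain ⟨p, rfl⟩ := hg c
      exact ⟨π p, hcomp' p⟩
    have hKfg : (RingHom.ker fbar.toRingHom).FG :=
      Algebra.FinitePresentation.ker_fG_of_surjective fbar hfbar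
    let 𝔫 : Ideal P := n.map (algebraMap A P)
    have h𝔫nil : IsNilpotent 𝔫 := by
      obtain ⟨k, hk⟩ := hn
      refine ⟨k, ?_⟩
      show (n.map (algebraMap A P)) ^ k = 0
      rw [← Ideal.map_pow, hk, Ideal.zero_eq_bot, Ideal.map_bot]
      rfl
    have hkerπ : RingHom.ker π = 𝔫 := by
      show RingHom.ker (MvPolynomial.map (Ideal.Quotient.mk I)) = _
      rw [MvPolynomial.ker_map, Ideal.mk_ker, hI, Ideal.map_map]
      rfl
    have hJ𝔫 : J = 𝔫.map (g : P →+* C) := by
      show _ = (n.map (algebraMap A P)).map (g : P →+* C)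
      rw [hJ, hI, Ideal.map_map, Ideal.map_map]
      congr 1
      ext a
      simp [IsScalarTower.algebraMap_apply A B C]
    have hflatK : ∀ x ∈ K, x ∈ 𝔫 → x ∈ 𝔫 * K := by
      intro x hxK hx𝔫
      have h1 := Groth.Agent.Lib.Helper6.NilFP.flat_inter ((g.restrictScalars A).toLinearMap) hg n x
        hxK (by rw [Ideal.smul_top_eq_map]; exact hx𝔫)
      have h2 : n • LinearMap.ker ((g.restrictScalars A).toLinearMap)
          ≤ (𝔫 * K).restrictScalars A := by
        rw [Submodule.smul_le]
        intro a ha y hy
        rw [Algebra.smul_def]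
        exact Ideal.mul_mem_mul (Ideal.mem_map_of_mem _ ha) hy
      exact h2 h1
    obtain ⟨s, hs⟩ := hKfg
    have hmapK : ∀ y ∈ RingHom.ker fbar.toRingHom, ∃ k ∈ K, π k = y := by
      intro y hy
      obtain ⟨q, rfl⟩ := hπ y
      have h1 : Ideal.Quotient.mk J (g q) = 0 := by
        rw [← hcomp' q]; exact hy
      rw [Ideal.Quotient.eq_zero_iff_mem, hJ𝔫] at h1
      obtain ⟨r, hr, hrq⟩ := (Ideal.mem_map_iff_of_surjective (g : P →+* C) hg).mp h1
      refine ⟨q - r, ?_, ?_⟩
      · show g (q - r) = 0
        rw [map_sub]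
        have : g r = g q := hrq
        rw [this, sub_self]
      · rw [map_sub]
        have : π r = 0 := by
          rw [← hkerπ] at hr
          exact hr
        rw [this, sub_zero]
    choose! lift hliftK hliftπ using hmapK
    let K₀ : Ideal P := Ideal.span (lift '' (s : Set _))
    have hs_mem : ∀ y ∈ s, y ∈ RingHom.ker fbar.toRingHom := by
      intro y hy
      rw [← hs]
      exact Ideal.subset_span hy
    have hK₀K : K₀ ≤ K := by
      rw [Ideal.span_le]
      rintro _ ⟨y, hy, rfl⟩
      exact hliftK y (hs_mem y hy)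
    have hK₀map : K₀.map π = RingHom.ker fbar.toRingHom := by
      rw [Ideal.map_span, ← hs]
      congr 1
      ext z
      constructor
      · rintro ⟨_, ⟨y, hy, rfl⟩, rfl⟩
        rw [hliftπ y (hs_mem y hy)]
        exact hy
      · intro hz
        exact ⟨lift z, ⟨z, hz, rfl⟩, hliftπ z (hs_mem z hz)⟩
    have hKle : K ≤ K₀ ⊔ 𝔫 • K := by
      intro k hk
      have h1 : π k ∈ K₀.map π := by
        rw [hK₀map]
        show fbar (π k) = 0
        rw [hcomp' k]
        have : g k = 0 := hk
        rw [this, map_zero]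
      obtain ⟨k₀, hk₀, hk₀k⟩ := (Ideal.mem_map_iff_of_surjective π hπ).mp h1
      have h2 : k - k₀ ∈ 𝔫 := by
        rw [← hkerπ]
        show π (k - k₀) = 0
        rw [map_sub, hk₀k, sub_self]
      have h3 : k - k₀ ∈ K := K.sub_mem hk (hK₀K hk₀)
      have h4 := hflatK _ h3 h2
      have : k = k₀ + (k - k₀) := by ring
      rw [this]
      exact Submodule.add_mem_sup hk₀ h4
    have hKK₀ : K ≤ K₀ := Groth.Agent.Lib.Helper6.NilFP.nak 𝔫 h𝔫nil K₀ K hKle
    have : K = K₀ := le_antisymm hKK₀ hK₀K
    show K.FG
    rw [this]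
    exact ⟨s.image lift, by simp [K₀]⟩

end Groth.Agent.S5338
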