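import Groth.Statements.S5343
import Mathlib

set_option autoImplicit false
universe u
open CategoryTheory CategoryTheory.Limits MonoidalCategory CartesianMonoidalCategory MonObj GrpObj AlgebraicGeometry
open SGA3

namespace Groth.Agent.S5343

/-- Let R be a commutative ring and B a commutative R-algebra which is projective as an R-module. Then
the image of Spec B → Spec R is an open and closed subset of Spec R. (The published statement
concerns a quasi-coherent algebra on any scheme which is a direct summand of a free module; this row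
is the affine case.) -/
theorem result (R B : Type u) [CommRing R] [CommRing B] [Algebra R B] [Module.Projective R B] :
    IsClopen (Set.range (PrimeSpectrum.comap (algebraMap R B))) := by
  classical
  obtain ⟨s, hs⟩ := Module.projective_def'.mp (inferInstance : Module.Projective R B)
  let φ : B → (B →ₗ[R] R) := fun b => (Finsupp.lapply b) ∘ₗ s
  have hrec : ∀ x : B, x = ∑ b ∈ (s x).support, φ b x • b := by
    intro x
    have := LinearMap.congr_fun hs x
    simp only [LinearMap.comp_apply, Finsupp.linearCombination_apply, Finsupp.sum, id,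
      LinearMap.id_apply] at this
    exact this.symm
  let τ : Ideal R := Ideal.span (Set.range (fun p : (B →ₗ[R] R) × B => p.1 p.2))
  let J : Ideal R := Ideal.span ((fun b => φ b 1) '' ((s 1).support : Set B))
  have hJτ : J ≤ τ := Ideal.span_mono (by rintro _ ⟨b, _, rfl⟩; exact ⟨(φ b, 1), rfl⟩)
  have hτJ : τ ≤ J := by
    rw [Ideal.span_le]
    rintro _ ⟨⟨ψ, x⟩, rfl⟩
    have h1 : x = ∑ b ∈ (s 1).support, φ b 1 • (x * b) := by
      conv_lhs => rw [← _root_.mul_one x, hrec 1]
      rw [Finset.mul_sum]
      exact Finset.sum_congr rfl (fun b _ => by rw [mul_smul_comm])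
    change ψ x ∈ J
    rw [h1, map_sum]
    refine Ideal.sum_mem _ (fun b hb => ?_)
    rw [map_smul, smul_eq_mul]
    exact Ideal.mul_mem_right _ _ (Ideal.subset_span ⟨b, hb, rfl⟩)
  have hτ : τ = J := le_antisymm hτJ hJτ
  have hfg : τ.FG := by
    rw [hτ]
    exact ⟨(s 1).support.image (fun b => φ b 1), by simp [J]⟩
  have hidem : IsIdempotentElem τ := by
    apply le_antisymm Ideal.mul_le_right
    change τ ≤ τ * τ
    rw [Ideal.span_le]
    rintro _ ⟨⟨ψ, x⟩, rfl⟩
    change ψ x ∈ τ * τ
    rw [hrec x, map_sum]
    refine Ideal.sum_mem _ (fun b _ => ?_)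
    rw [map_smul, smul_eq_mul]
    exact Ideal.mul_mem_mul (Ideal.subset_span ⟨(φ b, x), rfl⟩) (Ideal.subset_span ⟨(ψ, b), rfl⟩)
  obtain ⟨e, he, hτe⟩ := (Ideal.isIdempotentElem_iff_of_fg τ hfg).mp hidem
  have hrange : Set.range (PrimeSpectrum.comap (algebraMap R B)) =
      (PrimeSpectrum.basicOpen e : Set (PrimeSpectrum R)) := by
    ext p
    constructor
    · rintro ⟨q, rfl⟩
      intro hmem
      have hmem' : algebraMap R B e ∈ q.asIdeal := hmem
      apply q.isPrime.ne_top
      rw [Ideal.eq_top_iff_one, hrec 1]
      refine Ideal.sum_mem _ (fun b _ => ?_)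
      have hb : φ b 1 ∈ τ := Ideal.subset_span ⟨(φ b, 1), rfl⟩
      rw [hτe] at hb
      obtain ⟨r, hr⟩ := Ideal.mem_span_singleton'.mp hb
      rw [← hr, Algebra.smul_def, map_mul, _root_.mul_assoc]
      exact Ideal.mul_mem_left _ _ (Ideal.mul_mem_right _ _ hmem')
    · intro hp
      have hp' : e ∉ p.asIdeal := hp
      have hψ : ∀ z ∈ p.asIdeal.map (algebraMap R B), ∀ ψ : B →ₗ[R] R, ψ z ∈ p.asIdeal := by
        intro z hz ψ
        have hz' : z ∈ p.asIdeal • (⊤ : Submodule R B) := by
          have := Ideal.smul_top_eq_map (R := R) (S := B) p.asIdeal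
          rw [this]; exact hz
        refine Submodule.smul_induction_on hz' ?_ ?_
        · intro a ha c _
          rw [map_smul, smul_eq_mul]
          exact Ideal.mul_mem_right _ _ ha
        · intro y z hy hz
          rw [map_add]; exact Ideal.add_mem _ hy hz
      have hcm : (p.asIdeal.map (algebraMap R B)).comap (algebraMap R B) = p.asIdeal := by
        apply le_antisymm _ Ideal.le_comap_map
        intro x hx
        have hx' : algebraMap R B x ∈ p.asIdeal.map (algebraMap R B) := hx
        have hall : ∀ t ∈ τ, x * t ∈ p.asIdeal := by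
          intro t ht
          refine Submodule.span_induction ?_ ?_ ?_ ?_ ht
          · rintro _ ⟨⟨ψ, y⟩, rfl⟩
            have : x * ψ y = ψ (algebraMap R B x * y) := by
              rw [← Algebra.smul_def, map_smul, smul_eq_mul]
            change x * ψ y ∈ p.asIdeal
            rw [this]
            exact hψ _ (Ideal.mul_mem_right _ _ hx') ψ
          · simp
          · intro a b _ _ ha hb
            rw [mul_add]; exact Ideal.add_mem _ ha hb
          · intro a b _ hb
            rw [smul_eq_mul, mul_left_comm]
            exact Ideal.mul_mem_left _ _ hb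
        have hxe : x * e ∈ p.asIdeal := hall e (by rw [hτe]; exact Ideal.mem_span_singleton_self e)
        exact (p.isPrime.mem_or_mem hxe).resolve_right hp'
      obtain ⟨q, hq, hqp⟩ := (Ideal.comap_map_eq_self_iff_of_isPrime p.asIdeal).mp hcm
      exact ⟨⟨q, hq⟩, PrimeSpectrum.ext hqp⟩
  rw [hrange]
  exact PrimeSpectrum.isClopen_basicOpen_of_mul_add e (1 - e)
    (by rw [mul_sub, _root_.mul_one, he.eq, sub_self]) (by ring)

end Groth.Agent.S5343
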