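import Groth.Statements.S5371
import Groth.Agent.Lib.Helper2.Sch.QuotTransfer


set_option autoImplicit false
universe u
open CategoryTheory CategoryTheory.Limits MonoidalCategory CartesianMonoidalCategory MonObj GrpObj AlgebraicGeometry
open SGA3

namespace Groth.Agent.S5371

/-- Let u : G' → G be a monomorphism of S-group schemes and p : G → G'' a morphism of S-schemes which is
covering for the fpqc topology (some Z → G'' which is flat, surjective, with every affine open of
G'' the image of a quasi-compact open of Z, factors through p) and such that the square (g, h) ↦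
g·u(h), first projection G ×_S G' → G, p, p is cartesian, so that G'' represents the fpqc quotient
sheaf G/G'. (xii) G' is flat and locally of finite presentation over S if and only if p is
surjective, flat and locally of finite presentation; in that case, if G is locally of finite
presentation (resp. locally of finite type, of finite type, smooth, etale, unramified, locally
quasi-finite) over S, so is G''. (xiii) If G' is flat and of finite presentation over S then p is of
finite presentation, and G is of finite presentation over S if and only if G'' is. -/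
theorem result (S : Scheme.{u}) (G G' G'' : Over S) [GrpObj G] [GrpObj G']
    (u : G' ⟶ G) [IsMonHom u] [Mono u] (p : G ⟶ G'')
    (hcov : (∃ (Z : Scheme.{u}) (q : Z ⟶ G''.left) (r : Z ⟶ G.left), r ≫ p.left = q ∧ Surjective q ∧ Flat q ∧
        ∀ V : G''.left.Opens, IsAffineOpen V → ∃ W : Z.Opens, IsCompact (W : Set Z) ∧ q.base '' (W : Set Z) = (V : Set G''.left)))
    (hsq : IsPullback ((G ◁ u) ≫ μ[G]) (fst G G') p p) :
    ((Flat G'.hom ∧ LocallyOfFinitePresentation G'.hom) ↔
      (Surjective p.left ∧ Flat p.left ∧ LocallyOfFinitePresentation p.left)) ∧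
    (Flat p.left → LocallyOfFinitePresentation p.left →
      (LocallyOfFinitePresentation G.hom → LocallyOfFinitePresentation G''.hom) ∧
      (LocallyOfFiniteType G.hom → LocallyOfFiniteType G''.hom) ∧
      (LocallyOfFiniteType G.hom → QuasiCompact G.hom → QuasiCompact G''.hom) ∧
      (Smooth G.hom → Smooth G''.hom) ∧ (Etale G.hom → Etale G''.hom) ∧
      (FormallyUnramified G.hom → LocallyOfFinitePresentation G.hom → FormallyUnramified G''.hom) ∧
      (LocallyQuasiFinite G.hom → LocallyOfFiniteType G.hom → LocallyQuasiFinite G''.hom)) ∧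
    (Flat G'.hom → LocallyOfFinitePresentation G'.hom → QuasiCompact G'.hom → QuasiSeparated G'.hom →
      QuasiCompact p.left ∧ QuasiSeparated p.left ∧ LocallyOfFinitePresentation p.left ∧
      ((LocallyOfFinitePresentation G.hom ∧ QuasiCompact G.hom ∧ QuasiSeparated G.hom) ↔
        (LocallyOfFinitePresentation G''.hom ∧ QuasiCompact G''.hom ∧ QuasiSeparated G''.hom))) := by
  classical
  obtain ⟨Z, q, r, hrq, hqs, hqf, hW⟩ := hcov
  have hq : Groth.Agent.Lib.Helper6.FlatQ.FQC q :=
    ⟨hqf, Groth.Agent.Lib.Helper6.FlatQ.WQC.of_forall q hW⟩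
  haveI := hqs
  haveI := hqf
  have hps : Surjective p.left := Groth.Agent.Helper2.QuotTransfer.surjective_of_cover p q r hrq hq
  have hquot := Groth.Agent.Lib.Helper6.FlatQ.quot_props u p q r hrq hsq
  have hw : p.left ≫ G''.hom = G.hom := Over.w p
  haveI hLFPd : MorphismProperty.DescendsAlong (@LocallyOfFinitePresentation) Groth.Agent.Lib.Helper6.FlatQ.FQC.{u} :=
    Groth.Agent.Lib.Helper6.FlatQ.descendsAlong_FQC _
  refine ⟨⟨fun ⟨h1, h2⟩ => ⟨hps, hquot.2.1.mp h1, ?_⟩, fun ⟨_, h2, h3⟩ => ⟨hquot.2.1.mpr h2, ?_⟩⟩,
    ?_, ?_⟩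
  · exact Groth.Agent.Helper2.QuotTransfer.prop_p_of_prop_hom u p q r hrq hq hsq
      @LocallyOfFinitePresentation h2
  · exact Groth.Agent.Helper2.QuotTransfer.prop_hom_of_prop_p u p hsq
      @LocallyOfFinitePresentation h3
  · intro hpf hpl
    haveI := hps
    haveI := hpf
    haveI := hpl
    refine ⟨?_, ?_, ?_, ?_, ?_, ?_, ?_⟩
    · intro h
      haveI : LocallyOfFinitePresentation (p.left ≫ G''.hom) := by rw [hw]; exact h
      exact Groth.Agent.Helper3.FppfDesc.locallyOfFinitePresentation_of_fppf_cover p.left G''.hom
    · intro h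
      haveI : LocallyOfFiniteType (p.left ≫ G''.hom) := by rw [hw]; exact h
      exact Groth.Agent.Helper3.FppfDesc.locallyOfFiniteType_of_fppf_cover p.left G''.hom
    · intro _ h
      haveI : QuasiCompact (p.left ≫ G''.hom) := by rw [hw]; exact h
      exact Groth.Agent.Helper2.FppfSourceDesc.quasiCompact_of_comp_surjective p.left G''.hom
    · intro h
      haveI : Smooth (p.left ≫ G''.hom) := by rw [hw]; exact h
      exact Groth.Agent.Helper3.FppfDesc.smooth_of_fppf_cover p.left G''.hom
    · intro h
      haveI : Etale (p.left ≫ G''.hom) := by rw [hw]; exact h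
      exact Groth.Agent.Helper2.AlgSpBasic.etale_of_fppf_cover p.left G''.hom
    · intro h h'
      haveI : FormallyUnramified (p.left ≫ G''.hom) := by rw [hw]; exact h
      haveI : LocallyOfFiniteType (p.left ≫ G''.hom) := by
        rw [hw]
        haveI := h'
        infer_instance
      exact Groth.Agent.Helper2.FppfSourceDesc.formallyUnramified_of_fppf_cover p.left G''.hom
    · intro h h'
      haveI : LocallyQuasiFinite (p.left ≫ G''.hom) := by rw [hw]; exact h
      haveI : LocallyOfFiniteType (p.left ≫ G''.hom) := by rw [hw]; exact h'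
      exact Groth.Agent.Helper2.FppfSourceDesc.locallyQuasiFinite_of_fppf_cover p.left G''.hom
  · intro h1 h2 h3 h4
    have hpf : Flat p.left := hquot.2.1.mp h1
    have hpl : LocallyOfFinitePresentation p.left :=
      Groth.Agent.Helper2.QuotTransfer.prop_p_of_prop_hom u p q r hrq hq hsq
        @LocallyOfFinitePresentation h2
    have hpqc : QuasiCompact p.left := by
      haveI : MorphismProperty.DescendsAlong (@QuasiCompact) (@Surjective ⊓ @Flat ⊓ @QuasiCompact) :=
        Groth.Agent.S0079.result
      haveI : MorphismProperty.DescendsAlong (@QuasiCompact) Groth.Agent.Lib.Helper6.FlatQ.FQC.{u} :=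
        Groth.Agent.Lib.Helper6.FlatQ.descendsAlong_FQC _
      exact Groth.Agent.Helper2.QuotTransfer.prop_p_of_prop_hom u p q r hrq hq hsq
        @QuasiCompact h3
    have hpqs : QuasiSeparated p.left := by
      haveI : MorphismProperty.DescendsAlong (@QuasiSeparated) (@Surjective ⊓ @Flat ⊓ @QuasiCompact) :=
        Groth.Agent.S0080.result
      haveI : MorphismProperty.DescendsAlong (@QuasiSeparated) Groth.Agent.Lib.Helper6.FlatQ.FQC.{u} :=
        Groth.Agent.Lib.Helper6.FlatQ.descendsAlong_FQC _
      exact Groth.Agent.Helper2.QuotTransfer.prop_p_of_prop_hom u p q r hrq hq hsq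
        @QuasiSeparated h4
    haveI := hps
    haveI := hpf
    haveI := hpl
    haveI := hpqc
    haveI := hpqs
    refine ⟨hpqc, hpqs, hpl, ⟨fun ⟨a, b, c⟩ => ⟨?_, ?_, ?_⟩, fun ⟨a, b, c⟩ => ?_⟩⟩
    · haveI : LocallyOfFinitePresentation (p.left ≫ G''.hom) := by rw [hw]; exact a
      exact Groth.Agent.Helper3.FppfDesc.locallyOfFinitePresentation_of_fppf_cover p.left G''.hom
    · haveI : QuasiCompact (p.left ≫ G''.hom) := by rw [hw]; exact b
      exact Groth.Agent.Helper2.FppfSourceDesc.quasiCompact_of_comp_surjective p.left G''.hom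
    · haveI : QuasiSeparated (p.left ≫ G''.hom) := by rw [hw]; exact c
      exact Groth.Agent.Helper2.FppfSourceDesc.quasiSeparated_of_comp_surjective p.left G''.hom
    · haveI := a
      haveI := b
      haveI := c
      rw [← hw]
      exact ⟨inferInstance, inferInstance, inferInstance⟩

end Groth.Agent.S5371
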