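import Groth.Statements.S5377
import Groth.Agent.Lib.Helper6.FiltColimFF

set_option autoImplicit false
universe u
open CategoryTheory CategoryTheory.Limits MonoidalCategory CartesianMonoidalCategory MonObj GrpObj AlgebraicGeometry
open SGA3

namespace Groth.Agent.S5377

/-- Let (C_i → A_i)_i be a filtered direct system of homomorphisms of commutative rings, each of which
is faithfully flat. Then the induced homomorphism colim C_i → colim A_i is faithfully flat. -/
theorem result (J : Type u) [SmallCategory J] [IsFiltered J]
    (C A : J ⥤ CommRingCat.{u}) (φ : C ⟶ A) (h : ∀ j : J, (φ.app j).hom.FaithfullyFlat) :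
    (colimMap φ).hom.FaithfullyFlat := by
  exact Groth.Agent.Lib.Helper6.FiltColimFF.faithfullyFlat C A φ h

end Groth.Agent.S5377
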