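import Groth.Statements.S5381
import Mathlib.RingTheory.Flat.TorsionFree

set_option autoImplicit false
universe u
open CategoryTheory CategoryTheory.Limits MonoidalCategory CartesianMonoidalCategory MonObj GrpObj AlgebraicGeometry
open SGA3

namespace Groth.Agent.S5381

/-- For S the spectrum of a Dedekind domain R: let X be a scheme which is flat, quasi-compact and
quasi-separated over R. Then the ring of global sections Γ(X, O_X) is a flat R-module. (The
published remark takes S locally noetherian and regular of dimension 1 and also observes, when S is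
local with closed point s and uniformizer π, that Γ(X, O_X)/πΓ(X, O_X) → Γ(X_s, O_{X_s}) is
injective; this row takes S the spectrum of a Dedekind domain and omits the injectivity.) -/
theorem result (R : Type u) [CommRing R] [IsDedekindDomain R]
    (X : Scheme.{u}) (f : X ⟶ Spec (CommRingCat.of R)) [Flat f] [QuasiCompact f] [QuasiSeparated f] :
    letI := ((Scheme.ΓSpecIso (CommRingCat.of R)).inv ≫ f.appTop).hom.toAlgebra
    Module.Flat R Γ(X, ⊤) := by
  let _ := ((Scheme.ΓSpecIso (CommRingCat.of R)).inv ≫ f.appTop).hom.toAlgebra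
  have htf : Module.IsTorsionFree R Γ(X, ⊤) := by
    constructor
    intro r hr s t hst
    have hst' : r • s = r • t := hst
    refine X.sheaf.eq_of_locally_eq' (fun U : X.affineOpens => U.1) ⊤ (fun U => homOfLE le_top)
      (by rw [iSup_affineOpens_eq_top]) s t ?_
    intro U
    -- the ring map Γ(Spec R, ⊤) → Γ(X, U) is flat
    have hflat : (f.appLE ⊤ U.1 le_top).hom.Flat :=
      f.flat_appLE (isAffineOpen_top _) U.2 _
    let φ : R →+* Γ(X, U.1) :=
      ((Scheme.ΓSpecIso (CommRingCat.of R)).inv ≫ f.appLE ⊤ U.1 le_top).hom
    have hφflat : φ.Flat := by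
      have h1 : ((Scheme.ΓSpecIso (CommRingCat.of R)).inv).hom.Flat :=
        RingHom.Flat.of_bijective
          (ConcreteCategory.bijective_of_isIso (Scheme.ΓSpecIso (CommRingCat.of R)).inv)
      exact RingHom.Flat.comp h1 hflat
    letI : Algebra R Γ(X, U.1) := φ.toAlgebra
    have : Module.Flat R Γ(X, U.1) := hφflat
    have hreg : IsSMulRegular Γ(X, U.1) r := Module.Flat.isSMulRegular_of_isRegular hr
    apply hreg
    -- restriction is R-linear
    have hres : ∀ a : Γ(X, ⊤), X.presheaf.map (homOfLE (le_top : U.1 ≤ ⊤)).op (r • a) =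
        r • X.presheaf.map (homOfLE (le_top : U.1 ≤ ⊤)).op a := by
      intro a
      rw [Algebra.smul_def, Algebra.smul_def, map_mul]
      congr 1
    show r • X.presheaf.map (homOfLE (le_top : U.1 ≤ ⊤)).op s =
      r • X.presheaf.map (homOfLE (le_top : U.1 ≤ ⊤)).op t
    rw [← hres, ← hres, hst']
  infer_instance

end Groth.Agent.S5381
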