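import Groth.Statements.S5387
import Mathlib.AlgebraicGeometry.AlgClosed.Basic
import Mathlib.CategoryTheory.Monoidal.Grp

set_option autoImplicit false
universe u
open CategoryTheory CategoryTheory.Limits MonoidalCategory CartesianMonoidalCategory MonObj GrpObj AlgebraicGeometry
open SGA3

namespace Groth.Agent.S5387

/-- Let k be an algebraically closed field, G a group scheme locally of finite type over k and x a
closed point of G. Then the local ring of G at x is isomorphic to the local ring of G at the unit
point (an isomorphism is induced by a translation; this row asserts the existence of an isomorphism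
of rings). -/
theorem result (k : Type u) [Field k] [IsAlgClosed k] (G : Over (Spec (CommRingCat.of k))) [GrpObj G]
    [LocallyOfFiniteType G.hom] (pt : ↥(𝟙_ (Over (Spec (CommRingCat.of k)))).left) (x : G.left) (hx : IsClosed ({x} : Set G.left)) :
    Nonempty (G.left.presheaf.stalk (η[G].left.base pt) ≅ G.left.presheaf.stalk x) := by
  let x' : 𝟙_ (Over (Spec (CommRingCat.of k))) ⟶ G :=
    Over.homMk (pointOfClosedPoint G.hom x hx) (by simp)
  let α := GrpObj.mulRight (A := G) x'
  have hα : η[G] ≫ α.hom = x' := by
    have h1 : (η[G] : 𝟙_ _ ⟶ G) = toUnit _ ≫ η[G] := by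
      rw [toUnit_unit, Category.id_comp]
    have h2 : (η[G] ≫ toUnit G) = 𝟙 _ := toUnit_unique _ _
    simp only [α, GrpObj.mulRight, comp_lift_assoc, Category.comp_id]
    rw [← Category.assoc η[G], h2, Category.id_comp]
    nth_rw 1 [h1]
    exact MonObj.lift_comp_one_left _ _
  have hα' : α.hom.left (η[G].left pt) = x := by
    have := congr(($hα).left pt)
    simpa [x'] using this
  have hiso : IsIso α.hom.left := inferInstanceAs (IsIso ((Over.forget _).map α.hom))
  have e1 : G.left.presheaf.stalk (α.hom.left (η[G].left pt)) ≅ G.left.presheaf.stalk (η[G].left pt) :=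
    asIso (α.hom.left.stalkMap (η[G].left pt))
  have e2 : G.left.presheaf.stalk (α.hom.left (η[G].left pt)) ≅ G.left.presheaf.stalk x :=
    eqToIso (by rw [hα'])
  exact ⟨e1.symm ≪≫ e2⟩

end Groth.Agent.S5387
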