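import Groth.Statements.S5415
import Groth.Agent.Lib.Helper2.Sch.ProperHomKer
import Groth.Agent.S0086


set_option autoImplicit false
universe u
open CategoryTheory MonoidalCategory CartesianMonoidalCategory MonObj GrpObj AlgebraicGeometry CategoryTheory.Limits
open SGA3x

namespace Groth.Agent.S5415

/-- Let G be an S-group scheme of finite presentation over S, p : G → G'' a homomorphism which is
surjective, flat and locally of finite presentation onto an S-group scheme G'' proper and of finite
presentation over S, and i : G' → G its kernel, with G' flat and of finite presentation over S. Let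
H be an S-group scheme which is of finite presentation over S, or locally of finite presentation
over a locally Noetherian S, and u : G → H a homomorphism. If the restriction u ∘ i of u to G' is
proper, then u is proper. -/
theorem result (S : Scheme.{u}) (G G' G'' : Over S) [GrpObj G] [GrpObj G'] [GrpObj G'']
    [QuasiCompact G.hom] [QuasiSeparated G.hom] [LocallyOfFinitePresentation G.hom]
    [IsProper G''.hom] [LocallyOfFinitePresentation G''.hom]
    [Flat G'.hom] [QuasiCompact G'.hom] [QuasiSeparated G'.hom] [LocallyOfFinitePresentation G'.hom]
    (p : G ⟶ G'') [IsMonHom p] [Surjective p.left] [Flat p.left] [LocallyOfFinitePresentation p.left]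
    (i : G' ⟶ G) [IsMonHom i] (hker : AlgGrp.IsKernel i p)
    (H : Over S) [GrpObj H] [LocallyOfFinitePresentation H.hom]
    (hH : (QuasiCompact H.hom ∧ QuasiSeparated H.hom) ∨ IsLocallyNoetherian S)
    (u : G ⟶ H) [IsMonHom u] (hu : IsProper (i ≫ u).left) : IsProper u.left := by
  classical
  haveI := Groth.Agent.S0086.result.{u}
  have sq := Groth.Agent.Lib.Helper4.GrpKer2.isPullback_left
    (Groth.Agent.Helper2.ProperHomKer.isPullback_sq p i hker u)
  have sqW := Groth.Agent.Helper2.Orbit.isPullback_whiskerLeft' (G := H) p
  have hS : Surjective (H ◁ p).left :=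
    MorphismProperty.of_isPullback (P := @Surjective) sqW inferInstance
  have hF : Flat (H ◁ p).left := MorphismProperty.of_isPullback (P := @Flat) sqW inferInstance
  have hL : LocallyOfFinitePresentation (H ◁ p).left :=
    MorphismProperty.of_isPullback (P := @LocallyOfFinitePresentation) sqW inferInstance
  have hβ : IsProper (Groth.Agent.Helper2.ProperHomKer.β i u).left := by
    haveI : IsProper ((i ≫ u) ▷ G).left :=
      MorphismProperty.of_isPullback (P := @IsProper)
        (Groth.Agent.Helper2.SchImage.isPullback_whiskerRight' (G := G) (i ≫ u)) hu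
    haveI : IsIso (Groth.Agent.Helper2.ProperHomKer.σ (G := G) u).left :=
      (Over.forget S).map_isIso (Groth.Agent.Helper2.ProperHomKer.σ (G := G) u)
    rw [Groth.Agent.Helper2.ProperHomKer.β, Over.comp_left]
    infer_instance
  haveI h1 : IsProper (lift u p).left :=
    MorphismProperty.of_isPullback_of_descendsAlong (P := @IsProper)
      (Q := @Surjective ⊓ @Flat ⊓ @LocallyOfFinitePresentation) sq ⟨⟨hS, hF⟩, hL⟩ hβ
  haveI h2 : IsProper (fst H G'').left :=
    Groth.Agent.Lib.Helper4.GrpKer2.prop_fst_left H G'' @IsProper inferInstance
  have e : u.left = (lift u p).left ≫ (fst H G'').left := by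
    rw [← Over.comp_left, lift_fst]
  rw [e]
  infer_instance

end Groth.Agent.S5415
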