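import Groth.Statements.S5423
import Mathlib
import Groth.Agent.Lib.Helper9.Kolchin
import Groth.Agent.Lib.Helper9.ActRep
import Groth.Agent.S7987
-- import your own Groth.Agent.* helpers here

set_option autoImplicit false
universe u
open TensorProduct
open SGA3t2b

namespace Groth.Agent.S5423

/-- Let k be an algebraically closed field and A a reduced finitely generated commutative Hopf algebra
over k (a smooth affine algebraic k-group G). Then G is unipotent (every non-zero finite-dimensional
representation has a non-zero fixed vector) if and only if every element of G(k) is unipotent, i.e.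
every k-point g : A → k acts on every finite-dimensional comodule V by an endomorphism g_V with g_V
− 1 nilpotent. -/
theorem result (k : Type u) [Field k] [IsAlgClosed k] (A : Type u) [CommRing A] [HopfAlgebra k A] [Algebra.FiniteType k A]
    [IsReduced A] :
    HopfRep.IsUnipotent k A ↔
      ∀ (g : A →ₐ[k] k) (V : Type u) [AddCommGroup V] [Module k V] [HopfRep.Comod k A V],
        Module.Finite k V → IsNilpotent (HopfRep.Comod.act k A V g - LinearMap.id) := by
  constructor
  · intro hU g V _ _ _ hV
    exact Groth.Agent.S7987.result k A hU g V
  · intro h V _ _ _ hV hnt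
    have hρ : ∀ g : WithConv (A →ₐ[k] k),
        IsNilpotent (Groth.Agent.Helper9.ActRep.actRep k A V g - 1) := by
      intro g
      exact h g.ofConv V hV
    obtain ⟨v, hv, hfix⟩ := Groth.Agent.Helper9.Kolchin.kolchin
      (Groth.Agent.Helper9.ActRep.actRep k A V) hρ
    intro hbot
    have hmem : v ∈ HopfRep.fixedPts k A V :=
      Groth.Agent.Helper9.ActRep.mem_fixedPts_of_forall_act v (fun g => hfix (WithConv.toConv g))
    rw [hbot] at hmem
    exact hv ((Submodule.mem_bot k).mp hmem)

end Groth.Agent.S5423
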