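import Groth.Statements.S5434
import Groth.Agent.Lib.Helper6.SchDense.Basic

set_option autoImplicit false
universe u
open CategoryTheory MonoidalCategory CartesianMonoidalCategory MonObj GrpObj AlgebraicGeometry CategoryTheory.Limits
open SGA3x

namespace Groth.Agent.S5434

/-- Let X be an S-scheme and U an open subscheme of X which is schematically dense in X relative to S:
for every S′ → S the preimage of U in X ×_S S′ is schematically dense (restriction of functions to
it is injective on every open). Let Y be an S-scheme whose fibres Y_s are separated (over κ(s)). If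
two S-morphisms f, g : X → Y agree on U, then f = g. -/
theorem result (S : Scheme.{u}) (X Y : Over S) (U : X.left.Opens) (hU : (∀ (S' : Scheme.{u}) (g : S' ⟶ S), CInt.IsSchematicallyDense ((pullback.fst X.hom g) ⁻¹ᵁ U)))
    (hY : ∀ s : S, IsSeparated (pullback.snd Y.hom (S.fromSpecResidueField s)))
    (f g : X ⟶ Y) (h : U.ι ≫ f.left = U.ι ≫ g.left) : f = g := by
  have hU0 : CInt.IsSchematicallyDense U :=
    Groth.Agent.Lib.Helper6.SchDense.of_isIso (pullback.fst X.hom (𝟙 S)) U (hU S (𝟙 S))
  -- the equalizer is surjective
  have hsurj : Function.Surjective (equalizer.ι f.left g.left) := by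
    intro x
    let s : S := X.hom x
    let fs : pullback X.hom (S.fromSpecResidueField s) ⟶ pullback Y.hom (S.fromSpecResidueField s) :=
      pullback.lift (pullback.fst _ _ ≫ f.left) (pullback.snd _ _)
        (by rw [Category.assoc, Over.w, pullback.condition])
    let gs : pullback X.hom (S.fromSpecResidueField s) ⟶ pullback Y.hom (S.fromSpecResidueField s) :=
      pullback.lift (pullback.fst _ _ ≫ g.left) (pullback.snd _ _)
        (by rw [Category.assoc, Over.w, pullback.condition])
    have hsep := hY s
    have hfg : fs = gs := by
      apply Groth.Agent.Lib.Helper6.SchDense.ext_of_isSeparated (hU _ (S.fromSpecResidueField s))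
        (pullback.snd Y.hom (S.fromSpecResidueField s))
      · rw [pullback.lift_snd, pullback.lift_snd]
      · apply pullback.hom_ext
        · have h1 : ((pullback.fst X.hom (S.fromSpecResidueField s)) ⁻¹ᵁ U).ι ≫
              pullback.fst X.hom (S.fromSpecResidueField s) =
              (pullback.fst X.hom (S.fromSpecResidueField s) ∣_ U) ≫ U.ι :=
            (morphismRestrict_ι _ _).symm
          rw [Category.assoc, Category.assoc, pullback.lift_fst, pullback.lift_fst,
            ← Category.assoc, h1, Category.assoc, h, ← Category.assoc, ← h1, Category.assoc]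
        · rw [Category.assoc, Category.assoc, pullback.lift_snd, pullback.lift_snd]
    have hfst : pullback.fst X.hom (S.fromSpecResidueField s) ≫ f.left =
        pullback.fst X.hom (S.fromSpecResidueField s) ≫ g.left := by
      have h1 : fs ≫ pullback.fst _ _ = pullback.fst _ _ ≫ f.left := pullback.lift_fst _ _ _
      have h2 : gs ≫ pullback.fst _ _ = pullback.fst _ _ ≫ g.left := pullback.lift_fst _ _ _
      rw [← h1, ← h2, hfg]
    obtain ⟨z, hz, -⟩ := Scheme.Pullback.exists_preimage_pullback (f := X.hom)
      (g := S.fromSpecResidueField s) x (IsLocalRing.closedPoint _)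
      ((Scheme.fromSpecResidueField_apply s _).symm)
    refine ⟨(equalizer.lift _ hfst) z, ?_⟩
    rw [← Scheme.Hom.comp_apply, equalizer.lift_ι, hz]
  have hcl : IsClosedImmersion (equalizer.ι f.left g.left) :=
    IsClosedImmersion.of_isPreimmersion _ (by rw [hsurj.range_eq]; exact isClosed_univ)
  have hiso : IsIso (equalizer.ι f.left g.left) :=
    Groth.Agent.Lib.Helper6.SchDense.isIso_of_isClosedImmersion hU0 _ (equalizer.lift U.ι h)
      (equalizer.lift_ι _ _)
  apply Over.OverMorphism.ext
  rw [← cancel_epi (equalizer.ι f.left g.left)]
  exact equalizer.condition _ _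

end Groth.Agent.S5434
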