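import Groth.Statements.S5435
import Groth.Agent.Lib.Helper6.SchDense.Grp

set_option autoImplicit false
universe u
open CategoryTheory MonoidalCategory CartesianMonoidalCategory MonObj GrpObj AlgebraicGeometry CategoryTheory.Limits
open SGA3x

namespace Groth.Agent.S5435

/-- Let G be an S-group scheme, flat and locally of finite presentation over S, U an open subscheme of G
schematically dense in G relative to S (after every base change), and H an S-group scheme. Then a
homomorphism G → H is determined by its restriction to U: two homomorphisms f, g : G → H with the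
same restriction to U are equal. (No separatedness of H is needed. The published statement allows H
to be any sheaf of groups for the fppf topology; this row takes H a group scheme.) -/
theorem result (S : Scheme.{u}) (G H : Over S) [GrpObj G] [GrpObj H] [Flat G.hom] [LocallyOfFinitePresentation G.hom]
    (U : G.left.Opens) (hU : (∀ (S' : Scheme.{u}) (g : S' ⟶ S), CInt.IsSchematicallyDense ((pullback.fst G.hom g) ⁻¹ᵁ U)))
    (f g : G ⟶ H) [IsMonHom f] [IsMonHom g] (h : U.ι ≫ f.left = U.ι ≫ g.left) : f = g := by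
  -- the open `W = U × U` of `G ⊗ G`
  let W : (G ⊗ G).left.Opens := (fst G G).left ⁻¹ᵁ U ⊓ (snd G G).left ⁻¹ᵁ U
  -- restricted multiplication is flat and surjective, hence epi
  have hflat_snd : Flat (snd G G).left := by
    rw [Over.snd_left]; infer_instance
  have hflat_mu : Flat (μ[G].left) := by
    rw [← Groth.Agent.Lib.Helper6.GrpSch.Cat.shear_hom_snd, Over.comp_left]
    have : IsIso ((Groth.Agent.Lib.Helper6.GrpSch.Cat.shear G).hom.left) :=
      (inferInstance : IsIso ((Over.forget S).map (Groth.Agent.Lib.Helper6.GrpSch.Cat.shear G).hom))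
    infer_instance
  have hflat : Flat (W.ι ≫ μ[G].left) := inferInstance
  have hsurj : Surjective (W.ι ≫ μ[G].left) := by
    refine ⟨fun x => ?_⟩
    obtain ⟨z, hz, hz1, hz2⟩ := Groth.Agent.Lib.Helper6.SchDense.exists_mul_eq G U hU x
    exact ⟨⟨z, hz1, hz2⟩, (Scheme.Hom.comp_apply _ _ _).trans hz⟩
  have hepi : Epi (W.ι ≫ μ[G].left) := Flat.epi_of_flat_of_surjective _
  -- W as an object over S
  let W' : Over S := Over.mk (W.ι ≫ (G ⊗ G).hom)
  let ι' : W' ⟶ G ⊗ G := Over.homMk W.ι rfl
  have hfst : ι' ≫ fst G G ≫ f = ι' ≫ fst G G ≫ g := by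
    ext1
    simp only [Over.comp_left]
    have hr : Set.range (W.ι ≫ (fst G G).left) ⊆ Set.range U.ι := by
      rintro _ ⟨w, rfl⟩
      rw [Scheme.Opens.range_ι, Scheme.Hom.comp_apply]
      exact w.2.1
    have ha : IsOpenImmersion.lift U.ι (W.ι ≫ (fst G G).left) hr ≫ U.ι = W.ι ≫ (fst G G).left :=
      IsOpenImmersion.lift_fac _ _ _
    show W.ι ≫ (fst G G).left ≫ f.left = W.ι ≫ (fst G G).left ≫ g.left
    rw [← Category.assoc, ← ha, Category.assoc, h, ← Category.assoc, ha, Category.assoc]
  have hsnd : ι' ≫ snd G G ≫ f = ι' ≫ snd G G ≫ g := by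
    ext1
    simp only [Over.comp_left]
    have hr : Set.range (W.ι ≫ (snd G G).left) ⊆ Set.range U.ι := by
      rintro _ ⟨w, rfl⟩
      rw [Scheme.Opens.range_ι, Scheme.Hom.comp_apply]
      exact w.2.2
    have ha : IsOpenImmersion.lift U.ι (W.ι ≫ (snd G G).left) hr ≫ U.ι = W.ι ≫ (snd G G).left :=
      IsOpenImmersion.lift_fac _ _ _
    show W.ι ≫ (snd G G).left ≫ f.left = W.ι ≫ (snd G G).left ≫ g.left
    rw [← Category.assoc, ← ha, Category.assoc, h, ← Category.assoc, ha, Category.assoc]
  have hten : ι' ≫ (f ⊗ₘ f) = ι' ≫ (g ⊗ₘ g) := by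
    apply CartesianMonoidalCategory.hom_ext
    · rw [Category.assoc, Category.assoc, tensorHom_fst, tensorHom_fst]; exact hfst
    · rw [Category.assoc, Category.assoc, tensorHom_snd, tensorHom_snd]; exact hsnd
  have hmul : ι' ≫ μ[G] ≫ f = ι' ≫ μ[G] ≫ g := by
    rw [IsMonHom.mul_hom, IsMonHom.mul_hom, ← Category.assoc, hten, Category.assoc]
  apply Over.OverMorphism.ext
  rw [← cancel_epi (W.ι ≫ μ[G].left)]
  have h3 : (ι' ≫ μ[G] ≫ f).left = (ι' ≫ μ[G] ≫ g).left := congrArg (fun k => k.left) hmul
  rw [Over.comp_left, Over.comp_left, Over.comp_left, Over.comp_left] at h3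
  rw [Category.assoc, Category.assoc]
  exact h3

end Groth.Agent.S5435
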