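import Groth.Statements.S5478
-- import your own Groth.Agent.* helpers here
import Groth.Agent.Lib.Helper7.RootD.Radical

set_option autoImplicit false
open RootPairing
open scoped Pointwise
open RootD

namespace Groth.Agent.S5478

/-- The group of automorphisms of a root datum that act trivially on the radical is finite. -/
theorem result {ι M N : Type*} [AddCommGroup M] [AddCommGroup N]
    (P : RootPairing ι ℤ M N) [Finite ι] :
    Set.Finite {u : P.Aut | ∀ m : M, ∃ n : ℕ, 0 < n ∧ n • (u • m - m) ∈ Submodule.span ℤ (Set.range P.root)} := by
  exact Groth.Agent.Helper7.RD.finite_trivRad P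

end Groth.Agent.S5478
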