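import Groth.Statements.S5488
-- import your own Groth.Agent.* helpers here
import Groth.Agent.Lib.Helper7.RootD.Misc2

set_option autoImplicit false
open RootPairing
open scoped Pointwise
open RootD

namespace Groth.Agent.S5488

/-- The reduced datum of indivisible roots has the same Weyl group: the reflections in indivisible roots
generate W. -/
theorem result {ι M N : Type*} [AddCommGroup M] [AddCommGroup N]
    (P : RootPairing ι ℤ M N) [Finite ι] :
    Subgroup.closure ((fun i : ι => Equiv.reflection P i) '' {i : ι | RootD.IsIndiv P i}) = P.weylGroup := by
  exact Groth.Agent.Helper7.RD.closure_reflection_isIndiv P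

end Groth.Agent.S5488
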