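import Groth.Statements.S5492
-- import your own Groth.Agent.* helpers here
import Groth.Agent.Lib.Helper7.RootD.Lemmas

set_option autoImplicit false
open RootD

namespace Groth.Agent.S5492

/-- Off-diagonal entries of the Cartan matrix of a system of simple roots are non-positive: (α^v, β) ≤ 0
for distinct simple roots α, β. -/
theorem result {ι M N : Type*} [AddCommGroup M] [AddCommGroup N]
    (P : RootPairing ι ℤ M N) [Finite ι] (Δ : Set ι) (hΔ : RootD.IsSimpleSys P Δ) (i j : ι)
    (hi : i ∈ Δ) (hj : j ∈ Δ) (hij : i ≠ j) : P.pairing j i ≤ 0 := by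
  exact Groth.Agent.Helper7.RD.pairing_le_zero_of_mem hΔ hi hj hij

end Groth.Agent.S5492
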