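import Groth.Statements.S5580
import Groth.Agent.Lib.Helper5.TFin.Coprod

set_option autoImplicit false
open CategoryTheory CategoryTheory.Limits Opposite
universe u
open ToposFin

open Helper5.TFin

namespace Groth.Agent.S5580

/-- Quasi-compact and coherent cases: for the topos of sheaves of sets on a small site: let (X_i) be a
finite family of objects with coproduct X (given as a colimit cofan) and f : X -> Y a morphism with
components f_i : X_i -> Y. Then f is quasi-compact (resp. coherent) if and only if every f_i is. -/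
theorem result {C : Type u} [SmallCategory C] {J : GrothendieckTopology C}
    {Y : ToposFin.Sh J} {n : ℕ} (X : Fin n → ToposFin.Sh J) (c : Cofan X) (hc : IsColimit c)
    (f : c.pt ⟶ Y) :
    (ToposFin.IsQCHom f ↔ ∀ i, ToposFin.IsQCHom (c.inj i ≫ f)) ∧
    (ToposFin.IsCohHom f ↔ ∀ i, ToposFin.IsCohHom (c.inj i ≫ f)) := by
  have h0 : DisjCover c.inj := disjCover_of_isColimit c hc
  have h : DisjCover (fun i : ULift.{u} (Fin n) => c.inj i.down) :=
    h0.reindex ULift.down ULift.down_bijective
  have hqc : ∀ i, IsQCHom (c.inj i) := fun i => h.isQCHom ⟨i⟩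
  have hqs : ∀ i, IsQSHom (c.inj i) := fun i => by
    have := h0.mono i
    exact isQSHom_of_mono _
  have h1 : ToposFin.IsQCHom f ↔ ∀ i, ToposFin.IsQCHom (c.inj i ≫ f) := by
    constructor
    · intro hf i
      exact isQCHom_comp _ _ (hqc i) hf
    · intro hf
      exact isQCHom_of_finite_JE f c.inj h0.je hf
  refine ⟨h1, ?_⟩
  constructor
  · intro hf i
    exact isCohHom_comp _ _ ⟨hqc i, hqs i⟩ hf
  · intro hf
    exact ⟨h1.2 (fun i => (hf i).1), isQSHom_of_disjCover_source h f (fun i => (hf i.down).2)⟩

end Groth.Agent.S5580
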