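import Groth.Statements.S5587
import Groth.Agent.Lib.Helper5.TFin.Alg

set_option autoImplicit false
open CategoryTheory CategoryTheory.Limits Opposite
universe u
open ToposFin

open Helper5.TFin

namespace Groth.Agent.S5587

/-- For a locally coherent topos of sheaves of sets on a small site (given by a generating set of
quasi-compact objects stable under fibre products): a morphism f : X -> Y is quasi-separated if and
only if for every quasi-separated object Y' over Y the fibre product X x_Y Y' is quasi-separated. -/
theorem result {C : Type u} [SmallCategory C]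
    {J : GrothendieckTopology C} (S : Set (ToposFin.Sh J)) (hqc : ∀ K ∈ S, ToposFin.IsQC K)
    (hgen : ToposFin.IsGenerating S) (hpb : ToposFin.ClosedUnderPullbacks S) {X Y : ToposFin.Sh J} (f : X ⟶ Y) :
    ToposFin.IsQSHom f ↔
      ∀ (Y' : ToposFin.Sh J) (g : Y' ⟶ Y), ToposFin.IsQS Y' → ToposFin.IsQS (pullback f g) := by
  have hE' := hasQCGenerators_of_isGenerating hqc hgen
  constructor
  · intro hf Y' g hY'
    exact isQS_of_isQSHom _ (isQSHom_of_isPullback (IsPullback.of_hasPullback f g) hf) hY'
  · intro h
    obtain ⟨ι, F, π, hF, hπ⟩ := (isGenerating_iff S).1 hgen Y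
    exact (isQSHom_iff_of_cover hE' f F π hπ).2 (fun i =>
      isQSHom_of_isQS_of_mem hqc hgen hpb (hF i) _
        (h _ (π i) (isCoherent_of_mem hqc hgen hpb (hF i)).2))

end Groth.Agent.S5587
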