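import Groth.Statements.S5588
import Groth.Agent.Lib.Helper5.TFin.FP

set_option autoImplicit false
open CategoryTheory CategoryTheory.Limits Opposite
universe u
open ToposFin

open Helper5.TFin

namespace Groth.Agent.S5588

/-- (ii) implies (i), for the topos of sheaves of sets on a small site: let S be an isomorphism-closed
generating set of quasi-compact objects, stable under finite colimits and under fibre products. Then
S is the set of all coherent objects (so the topos is locally coherent), and every object X for
which Hom(X, -) commutes with small filtered colimits is coherent. -/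
theorem result {C : Type u} [SmallCategory C]
    {J : GrothendieckTopology C} (S : Set (ToposFin.Sh J)) (hqc : ∀ K ∈ S, ToposFin.IsQC K)
    (hiso : ∀ ⦃K L : ToposFin.Sh J⦄, K ∈ S → Nonempty (K ≅ L) → L ∈ S)
    (hgen : ToposFin.IsGenerating S) (hpb : ToposFin.ClosedUnderPullbacks S)
    (hcolim : ∀ (K : Type) [SmallCategory K] [FinCategory K] (D : K ⥤ ToposFin.Sh J),
      (∀ k, D.obj k ∈ S) → colimit D ∈ S) :
    (∀ X : ToposFin.Sh J, X ∈ S ↔ ToposFin.IsCoherent X) ∧
    (∀ X : ToposFin.Sh J, ToposFin.IsFP X → ToposFin.IsCoherent X) := by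
  have h1 : ∀ X : Sh J, X ∈ S → IsCoherent X := fun X hX => isCoherent_of_mem hqc hgen hpb hX
  constructor
  · intro X
    refine ⟨h1 X, fun hX => ?_⟩
    obtain ⟨ι₀, _, K, μ₀, _, L, a, b, hK, hL, ⟨e⟩⟩ :=
      exists_iso_coequalizer_of_isCoherent hqc hgen hX
    exact hiso (coequalizer_mem S hcolim a b (sigma_mem_of_finite S hiso hcolim K hK)
      (sigma_mem_of_finite S hiso hcolim L hL)) ⟨e⟩
  · intro X hX
    rw [isFP_iff] at hX
    obtain ⟨ι₀, _, K, μ₀, _, L, a, b, i, p, hK, hL, hip⟩ :=
      exists_retract_of_fp hqc hgen hX.1 hX.2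
    exact isCoherent_retract i p hip (h1 _ (coequalizer_mem S hcolim a b
      (sigma_mem_of_finite S hiso hcolim K hK) (sigma_mem_of_finite S hiso hcolim L hL)))

end Groth.Agent.S5588
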