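import Groth.Statements.S5592
import Mathlib
import Groth.Statements.S5592
import Groth.Agent.S3055
-- import your own Groth.Agent.* helpers here

set_option autoImplicit false
open CategoryTheory CategoryTheory.Limits AlgebraicGeometry Opposite
universe u
open EtDesc

namespace Groth.Agent.S5592

open CategoryTheory CategoryTheory.Limits AlgebraicGeometry Opposite
open EtDesc
namespace Aux

set_option backward.isDefEq.respectTransparency false
set_option linter.style.haveILetI false

/-- global sections functor for sheaves of sets -/
noncomputable abbrev gsecSh (X : Scheme.{u}) : EtDesc.Sh X ⥤ Type (u + 1) :=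
  (sheafSections X.smallEtaleTopology (Type (u + 1))).obj (op (EtCoh.top X))

/-- f_* followed by global sections on Y is global sections on X. -/
noncomputable def pushGsecShIso {X Y : Scheme.{u}} (f : X ⟶ Y) :
    EtDesc.pushSh f ⋙ gsecSh Y ≅ gsecSh X :=
  NatIso.ofComponents (fun F => F.obj.mapIso (EtCore.bcTopIso f).op.symm) (fun {F G} φ => by
    simp only [Functor.comp_map, Functor.mapIso_hom, Iso.symm_hom]
    exact (φ.hom.naturality _).symm)

theorem main (k k' : Type u) [Field k] [IsSepClosed k]
    [Field k'] [IsSepClosed k'] [Algebra k k'] :
    (EtDesc.pullSh (Spec.map (CommRingCat.ofHom (algebraMap k k')))).IsEquivalence := by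
  haveI h1 : (gsecSh (Spec (CommRingCat.of k))).IsEquivalence := Groth.Agent.S3055.result k
  haveI h2 : (gsecSh (Spec (CommRingCat.of k'))).IsEquivalence := Groth.Agent.S3055.result k'
  haveI h3 : (EtDesc.pushSh (Spec.map (CommRingCat.ofHom (algebraMap k k'))) ⋙
      gsecSh (Spec (CommRingCat.of k))).IsEquivalence :=
    Functor.isEquivalence_of_iso (pushGsecShIso (Spec.map (CommRingCat.ofHom (algebraMap k k')))).symm
  haveI h4 : (EtDesc.pushSh (Spec.map (CommRingCat.ofHom (algebraMap k k')))).IsEquivalence :=
    Functor.isEquivalence_of_comp_right _ (gsecSh (Spec (CommRingCat.of k)))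
  exact (EtDesc.adjSh (Spec.map (CommRingCat.ofHom (algebraMap k k')))).isEquivalence_left_of_isEquivalence_right

end Aux

/-- Let k' be a separably closed extension field of a separably closed field k and u : Spec k' -> Spec k
the canonical morphism. Then the inverse image functor u^* from etale sheaves of sets on Spec k to
etale sheaves of sets on Spec k' is an equivalence of categories. -/
theorem result (k k' : Type u) [Field k] [IsSepClosed k]
    [Field k'] [IsSepClosed k'] [Algebra k k'] :
    (EtDesc.pullSh (Spec.map (CommRingCat.ofHom (algebraMap k k')))).IsEquivalence := by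
  exact Aux.main k k'

end Groth.Agent.S5592
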