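import Groth.Statements.S5613
import Groth.Statements.S5613
import Mathlib
import Groth.Agent.Lib.Helper3.K0Tri

set_option autoImplicit false
universe v u
open CategoryTheory CategoryTheory.Limits CategoryTheory.Pretriangulated
open KZero

namespace Groth.Agent.S5613


/-- Let C be a pretriangulated category, L an object of C and n an integer such that the coproduct ∐_{i
≥ 0} L⟦2ni⟧ exists in C. Then cl(L) = 0 in K₀(C). -/
theorem result {C : Type u} [Category.{v} C] [Preadditive C] [HasZeroObject C]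
    [HasShift C ℤ] [∀ n : ℤ, (shiftFunctor C n).Additive] [Pretriangulated C]
    (L : C) (n : ℤ) [HasCoproduct (fun i : ℕ => (shiftFunctor C (2 * n * (i : ℤ))).obj L)] :
    KZero.clTri L = 0 := by
  let Z : ℕ → C := fun i => (shiftFunctor C (2 * n * (i : ℤ))).obj L
  let P : C := ∐ Z
  let Sh := shiftFunctor C (2 * n)
  have hcS : IsColimit (Cofan.mk (Sh.obj P) (fun i => Sh.map (Sigma.ι Z i))) :=
    isColimitCofanMkObjOfIsColimit Sh Z _ (coproductIsCoproduct Z)
  let a : ∀ k : ℕ, Z (k + 1) ≅ Sh.obj (Z k) := fun k =>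
    (shiftFunctorAdd' C (2 * n * (k : ℤ)) (2 * n) (2 * n * ((k + 1 : ℕ) : ℤ))
      (by push_cast; ring)).app L
  let j : ∀ k, Z (k + 1) ⟶ Sh.obj P := fun k => (a k).hom ≫ Sh.map (Sigma.ι Z k)
  let φc : ∀ i, Z i ⟶ Z 0 ⊞ Sh.obj P := fun i =>
    match i with
    | 0 => biprod.inl
    | (k + 1) => j k ≫ biprod.inr
  let φ : P ⟶ Z 0 ⊞ Sh.obj P := Sigma.desc φc
  let ρ : Sh.obj P ⟶ P := Cofan.IsColimit.desc hcS (fun k => (a k).inv ≫ Sigma.ι Z (k + 1))
  have hρ : ∀ k, Sh.map (Sigma.ι Z k) ≫ ρ = (a k).inv ≫ Sigma.ι Z (k + 1) := fun k =>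
    Cofan.IsColimit.fac hcS _ k
  let ψ : Z 0 ⊞ Sh.obj P ⟶ P := biprod.desc (Sigma.ι Z 0) ρ
  have h1 : φ ≫ ψ = 𝟙 P := by
    apply Sigma.hom_ext
    intro i
    rw [← Category.assoc, Sigma.ι_desc, Category.comp_id]
    cases i with
    | zero =>
      change biprod.inl ≫ ψ = _
      rw [biprod.inl_desc]
    | succ k =>
      change (j k ≫ biprod.inr) ≫ ψ = _
      rw [Category.assoc, biprod.inr_desc]
      change ((a k).hom ≫ Sh.map (Sigma.ι Z k)) ≫ ρ = _
      rw [Category.assoc, hρ, Iso.hom_inv_id_assoc]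
  have h2 : ψ ≫ φ = 𝟙 _ := by
    apply biprod.hom_ext'
    · rw [← Category.assoc, biprod.inl_desc, Category.comp_id, Sigma.ι_desc]
    · rw [← Category.assoc, biprod.inr_desc, Category.comp_id]
      apply Cofan.IsColimit.hom_ext hcS
      intro k
      change Sh.map (Sigma.ι Z k) ≫ ρ ≫ φ = Sh.map (Sigma.ι Z k) ≫ biprod.inr
      rw [← Category.assoc, hρ, Category.assoc, Sigma.ι_desc]
      change (a k).inv ≫ ((a k).hom ≫ Sh.map (Sigma.ι Z k)) ≫ biprod.inr = _
      rw [Category.assoc, Iso.inv_hom_id_assoc]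
  let e : P ≅ Z 0 ⊞ Sh.obj P := ⟨φ, ψ, h1, h2⟩
  have h3 := Groth.Agent.Helper3.K0Tri.cl_iso e
  rw [Groth.Agent.Helper3.K0Tri.cl_biprod] at h3
  have h4 : KZero.clTri (Sh.obj P) = KZero.clTri P :=
    Groth.Agent.Helper3.K0Tri.cl_shift_even n P
  rw [h4] at h3
  have h5 : KZero.clTri (Z 0) = 0 := by
    have := add_eq_right.1 h3
    exact this
  have h6 := Groth.Agent.Helper3.K0Tri.cl_iso
    ((shiftFunctorZero' C (2 * n * ((0 : ℕ) : ℤ)) (by simp)).app L)
  change KZero.clTri L = KZero.clTri (Z 0) at h6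
  rw [h6, h5]

end Groth.Agent.S5613
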