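import Groth.Statements.S5622
import Mathlib
import Groth.Agent.Lib.Helper5.DRing.AmpMain

set_option autoImplicit false
universe w v u
open CategoryTheory CategoryTheory.Limits
open PCoh



namespace Groth.Agent.S5622

/-- Let C be an abelian category and C₀ a strictly full additive subcategory, liftable and stable under
kernels of epimorphisms, and a ≤ b. For F', F'' in D(C): (i) ⇒ (ii), where (i) says F' and F'' have
perfect amplitude in [a, b] (each isomorphic to a strictly perfect complex vanishing outside [a, b])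
and (ii) says F' ⊞ F'' does; and (ii) ⇒ (i) when C₀ is stable under direct factors. -/
theorem result {C : Type u} [Category.{v} C] [Abelian C] [HasDerivedCategory.{w} C]
    (P : ObjectProperty C) [P.IsClosedUnderIsomorphisms] [P.ContainsZero] (hsum : ∀ X Y : C, P X → P Y → P (X ⨯ Y))
    (hlift : ∀ (E F : C) (u : E ⟶ F), Epi u → P F → IsSplitEpi u)
    (hst : ∀ (E F : C) (u : E ⟶ F), Epi u → P E → P F → P (kernel u))
    (a b : ℤ) (hab : a ≤ b) (F' F'' : DerivedCategory C) [HasBinaryBiproduct F' F''] :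
    (((∃ E : CochainComplex C ℤ, (∀ i : ℤ, P (E.X i)) ∧ (∀ i : ℤ, i < a ∨ b < i → IsZero (E.X i)) ∧ Nonempty (DerivedCategory.Q.obj E ≅ F')) ∧ (∃ E : CochainComplex C ℤ, (∀ i : ℤ, P (E.X i)) ∧ (∀ i : ℤ, i < a ∨ b < i → IsZero (E.X i)) ∧ Nonempty (DerivedCategory.Q.obj E ≅ F''))) →
        (∃ E : CochainComplex C ℤ, (∀ i : ℤ, P (E.X i)) ∧ (∀ i : ℤ, i < a ∨ b < i → IsZero (E.X i)) ∧ Nonempty (DerivedCategory.Q.obj E ≅ (F' ⊞ F'')))) ∧
      ((∀ (E' E'' : C) [HasBinaryBiproduct E' E''], P (E' ⊞ E'') → P E' ∧ P E'') →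
        (∃ E : CochainComplex C ℤ, (∀ i : ℤ, P (E.X i)) ∧ (∀ i : ℤ, i < a ∨ b < i → IsZero (E.X i)) ∧ Nonempty (DerivedCategory.Q.obj E ≅ (F' ⊞ F''))) →
          (∃ E : CochainComplex C ℤ, (∀ i : ℤ, P (E.X i)) ∧ (∀ i : ℤ, i < a ∨ b < i → IsZero (E.X i)) ∧ Nonempty (DerivedCategory.Q.obj E ≅ F')) ∧ (∃ E : CochainComplex C ℤ, (∀ i : ℤ, P (E.X i)) ∧ (∀ i : ℤ, i < a ∨ b < i → IsZero (E.X i)) ∧ Nonempty (DerivedCategory.Q.obj E ≅ F''))) := by
  classical
  have hproj : ∀ X, P X → Projective X := by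
    intro X hX
    constructor
    intro E X' f e he
    have h1 : Epi (pullback.snd e f) := Abelian.epi_pullback_of_epi_f e f
    have h2 := hlift _ _ (pullback.snd e f) h1 hX
    obtain ⟨s, hs⟩ := h2.exists_splitEpi
    refine ⟨s ≫ pullback.fst e f, ?_⟩
    rw [Category.assoc, pullback.condition, ← Category.assoc, hs, Category.id_comp]
  have hsum' : ∀ X Y : C, P X → P Y → P (X ⊞ Y) := fun X Y hX hY =>
    P.prop_of_iso (biprod.isoProd X Y).symm (hsum X Y hX hY)
  refine ⟨?_, ?_⟩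
  · rintro ⟨h1, h2⟩
    exact Groth.Agent.Helper5.Summand.Amp.biprod hsum' h1 h2
  · intro hfac h
    have H : Groth.Agent.Helper5.Summand.Hyp P :=
      { proj := hproj
        sum := hsum'
        ker := hst
        fac := fun X Y hXY => (hfac X Y hXY).1 }
    exact Groth.Agent.Helper5.Summand.Amp.summand H hab h

end Groth.Agent.S5622
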