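import Groth.Statements.S5625
import Mathlib
import Groth.Agent.Lib.Helper1.PushQc
import Groth.Agent.Lib.Helper1.QCohLib

set_option autoImplicit false
universe u
open CategoryTheory AlgebraicGeometry
open QCohCat

namespace Groth.Agent.S5625

section
open CategoryTheory AlgebraicGeometry
open Groth.Agent Groth.Agent.Helper1 TopologicalSpace CategoryTheory.Limits

variable {X Y : Scheme.{u}}

instance final_opensMap (g : X ⟶ Y) : (Opens.map g.base).Final := by
  apply Functor.final_of_exists_of_isFiltered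
  · intro d
    exact ⟨⊤, ⟨homOfLE le_top⟩⟩
  · intro d c s s'
    exact ⟨c, 𝟙 c, Subsingleton.elim _ _⟩

set_option backward.isDefEq.respectTransparency false in
noncomputable def presentationPullback (g : X ⟶ Y) {M : Y.Modules} (P : M.Presentation) :
    ((Scheme.Modules.pullback g).obj M).Presentation :=
  have : PreservesColimitsOfSize.{u, u} (Scheme.Modules.pullback g) :=
    (Scheme.Modules.pullbackPushforwardAdjunction g).leftAdjoint_preservesColimits
  P.map (Scheme.Modules.pullback g)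
    (asIso (SheafOfModules.pullbackObjUnitToUnit g.toRingCatSheafHom)).symm

theorem isQuasicoherent_pullback (f : X ⟶ Y) (M : Y.Modules) [M.IsQuasicoherent] :
    ((Scheme.Modules.pullback f).obj M).IsQuasicoherent := by
  obtain ⟨ι, U, pres, hU, -⟩ := M.exists_isOpenCover_presentation
  refine QCohLib.isQuasicoherent_of_cover _ (fun i => f ⁻¹ᵁ U i) ?_ (fun i => ⟨?_⟩)
  · rw [← Scheme.Hom.preimage_iSup, hU.iSup_eq_top]
    rfl
  · let g := f ∣_ U i
    have hg : (f ⁻¹ᵁ U i).ι ≫ f = g ≫ (U i).ι := (morphismRestrict_ι f (U i)).symm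
    let iso : Scheme.Modules.pullback f ⋙ Scheme.Modules.restrictFunctor (f ⁻¹ᵁ U i).ι ≅
        Scheme.Modules.restrictFunctor (U i).ι ⋙ Scheme.Modules.pullback g :=
      Functor.isoWhiskerLeft _ (Scheme.Modules.restrictFunctorIsoPullback _) ≪≫
        Scheme.Modules.pullbackComp _ _ ≪≫ Scheme.Modules.pullbackCongr hg ≪≫
        (Scheme.Modules.pullbackComp _ _).symm ≪≫
        Functor.isoWhiskerRight (Scheme.Modules.restrictFunctorIsoPullback _).symm _
    exact SheafOfModules.Presentation.ofIsIso.{u,u,u} (iso.app M).inv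
      (presentationPullback g (pres i))

noncomputable def pushQ (f : X ⟶ Y) [QuasiCompact f] [QuasiSeparated f] :
    QCohCat.QCoh X ⥤ QCohCat.QCoh Y :=
  ObjectProperty.lift (QCohCat.isQCoh Y) ((QCohCat.isQCoh X).ι ⋙ Scheme.Modules.pushforward f)
    (fun M => by
      haveI : (M.obj : X.Modules).IsQuasicoherent := M.property
      exact PushQc.isQuasicoherent_pushforward f M.obj)

noncomputable def pullQ (f : X ⟶ Y) : QCohCat.QCoh Y ⥤ QCohCat.QCoh X :=
  ObjectProperty.lift (QCohCat.isQCoh X) ((QCohCat.isQCoh Y).ι ⋙ Scheme.Modules.pullback f)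
    (fun M => by
      haveI : (M.obj : Y.Modules).IsQuasicoherent := M.property
      exact isQuasicoherent_pullback f M.obj)

noncomputable def adjQ (f : X ⟶ Y) [QuasiCompact f] [QuasiSeparated f] : pullQ f ⊣ pushQ f :=
  (Scheme.Modules.pullbackPushforwardAdjunction f).restrictFullyFaithful
    (ObjectProperty.fullyFaithfulι _) (ObjectProperty.fullyFaithfulι _) (Iso.refl _) (Iso.refl _)

theorem main {X Y : Scheme.{u}} [CompactSpace X] [QuasiSeparatedSpace X]
    [CompactSpace Y] [QuasiSeparatedSpace Y] (f : X ⟶ Y)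
    (QX : X.Modules ⥤ QCohCat.QCoh X) (adjX : (QCohCat.isQCoh X).ι ⊣ QX)
    (QY : Y.Modules ⥤ QCohCat.QCoh Y) (adjY : (QCohCat.isQCoh Y).ι ⊣ QY) :
    Nonempty ((QX ⋙ (QCohCat.isQCoh X).ι ⋙ Scheme.Modules.pushforward f) ≅
      (Scheme.Modules.pushforward f ⋙ QY ⋙ (QCohCat.isQCoh Y).ι)) := by
  haveI : QuasiCompact f := inferInstance
  haveI : QuasiSeparated f := inferInstance
  have a1 : pullQ f ⋙ (QCohCat.isQCoh X).ι ⊣ QX ⋙ pushQ f := (adjQ f).comp adjX
  have a2 : (QCohCat.isQCoh Y).ι ⋙ Scheme.Modules.pullback f ⊣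
      Scheme.Modules.pushforward f ⋙ QY :=
    adjY.comp (Scheme.Modules.pullbackPushforwardAdjunction f)
  have e : QX ⋙ pushQ f ≅ Scheme.Modules.pushforward f ⋙ QY := a1.rightAdjointUniq a2
  exact ⟨Functor.isoWhiskerRight e (QCohCat.isQCoh Y).ι⟩


end


/-- Let f : X ⟶ Y be a morphism of quasi-compact quasi-separated schemes and Q_X, Q_Y coherators (right
adjoints of the inclusions QCoh ⥤ Mod) on X and Y. Then Q_Y ∘ f_* and f_* ∘ Q_X agree: the two
composite functors Mod(O_X) ⥤ Mod(O_Y) are naturally isomorphic (existence of a natural isomorphism;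
the source's isomorphism is the canonical one between two right adjoints of the same functor). -/
theorem result {X Y : Scheme.{u}} [CompactSpace X] [QuasiSeparatedSpace X]
    [CompactSpace Y] [QuasiSeparatedSpace Y] (f : X ⟶ Y)
    (QX : X.Modules ⥤ QCohCat.QCoh X) (adjX : (QCohCat.isQCoh X).ι ⊣ QX)
    (QY : Y.Modules ⥤ QCohCat.QCoh Y) (adjY : (QCohCat.isQCoh Y).ι ⊣ QY) :
    Nonempty ((QX ⋙ (QCohCat.isQCoh X).ι ⋙ Scheme.Modules.pushforward f) ≅
      (Scheme.Modules.pushforward f ⋙ QY ⋙ (QCohCat.isQCoh Y).ι)) := by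
  classical
  exact main f QX adjX QY adjY

end Groth.Agent.S5625
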