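import Groth.Statements.S5632
import Mathlib
import Groth.Agent.Lib.Helper1.DegSec1
import Groth.Agent.Lib.Helper1.VA5
import Groth.Agent.Lib.Helper1.PullAmple
import Groth.Agent.Lib.Helper1.PullGen2
import Groth.Agent.Lib.Lead.HZ1
import Groth.Agent.Lib.Lead.PullTensorAll
import Groth.Agent.Lib.Helper4.PnC7
import Groth.Agent.Lib.Helper1.PullSec

set_option autoImplicit false
universe u
open CategoryTheory CategoryTheory.Limits AlgebraicGeometry
open Pic13

namespace Groth.Agent.S5632

/-- Let k be an algebraically closed field, X ⊆ P^n_k an integral closed subscheme of dimension r = s +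
1 ≥ 1, with O_X(1) and O_X(-1) the restrictions of O(1) and O(-1). Let L be an invertible O_X-module
with inverse L' (L ⊗ L' ≅ O_X) whose degree (c₁(L)·c₁(O_X(1))^{r-1}) is ≤ 0 and with H^0(X, L) ≠ 0.
Then L ≅ O_X (so that its degree is 0 and h^0(L) = 1). Intersection numbers are those of FGA.intNum,
which takes the inverse modules L', O_X(-1) as arguments. -/
theorem result (k : Type u) [Field k] [IsAlgClosed k] (n : ℕ) (X : Scheme.{u}) [X.Over (Spec (CommRingCat.of k))]
    (i : X ⟶ CohB1.ProjSpace n k) [IsClosedImmersion i] (hi : i ≫ CohB1.ProjSpace.toSpec n k = X ↘ Spec (CommRingCat.of k))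
    [IsIntegral X] (s : ℕ) (hdim : topologicalKrullDim X = (s + 1 : ℕ))
    (L L' : X.Modules) (hL : PicF.IsInvertible L) (hLL' : Nonempty (CohB1.tensorMod L L' ≅ Coh.structureModule X))
    (hdeg : FGA.intNum k X (s + 1)
      (Matrix.vecCons L' (fun _ : Fin s => (Scheme.Modules.pullback i).obj (Twist.twistProjSpace n k (-1))))
      (Coh.structureModule X) ≤ 0)
    (hsec : Nontrivial (Coh.HH X L 0)) :
    Nonempty (L ≅ Coh.structureModule X) := by
  haveI : IsProper (CohB1.ProjSpace.toSpec n k) := Groth.Agent.Helper1.VA5.isProper_toSpec n k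
  haveI : IsProper (X ↘ Spec (CommRingCat.of k)) := by
    rw [← hi]; infer_instance
  haveI : AlgebraicGeometry.IsNoetherian X := Groth.Agent.Helper1.Euler.isNoetherian_of_proper k X
  have hH : CohB1.IsAmple ((Scheme.Modules.pullback i).obj (Twist.twistProjSpace n k 1)) :=
    Groth.Agent.Helper1.PullAmple.isAmple_pullback_of_isEmbedding i
      i.isClosedEmbedding.isEmbedding (Groth.Agent.Helper1.VA5.isAmple_twistProjSpace n k)
  have hH' : PicF.IsInvertible ((Scheme.Modules.pullback i).obj (Twist.twistProjSpace n k (-1))) :=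
    Groth.Agent.Helper1.PullGen.isInvertible_pullback i (Groth.Agent.Lead.HZ.pn_inv n k (-1))
  obtain ⟨e1⟩ := Groth.Agent.Lead.PullTensorAll.nonempty_tensor_pullback_iso i
    (Twist.twistProjSpace n k 1) (Twist.twistProjSpace n k (-1))
  obtain ⟨e2⟩ := Groth.Agent.Lead.HZ.pn_add n k 1 (-1)
  have h0 : (1 : ℤ) + -1 = 0 := by norm_num
  rw [h0] at e2
  obtain ⟨e3⟩ := Groth.Agent.Lib.Helper4.PnC7.nonempty_iso_twist_zero n k
  have iH : CohB1.tensorMod ((Scheme.Modules.pullback i).obj (Twist.twistProjSpace n k 1))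
      ((Scheme.Modules.pullback i).obj (Twist.twistProjSpace n k (-1))) ≅
      Coh.structureModule X :=
    e1 ≪≫ (Scheme.Modules.pullback i).mapIso (e2 ≪≫ e3) ≪≫ Groth.Agent.Helper1.PullSec.unitIso i
  obtain ⟨iL⟩ := hLL'
  haveI := hsec
  obtain ⟨σ, hσ⟩ := Groth.Agent.Helper1.SurfNef2.exists_section_of_nontrivial L
  exact Groth.Agent.Helper1.DegSec.main k X s hdim _ _ hH hH' iH L L' hL iL hdeg σ hσ

end Groth.Agent.S5632
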