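import Groth.Statements.S5657
import Mathlib
import Groth.Prelude.Def_W4sga6xxiiiPolyMap
-- import your own Groth.Agent.* helpers here

set_option autoImplicit false
universe u
open TensorProduct
open W4sga6xxiii

namespace Groth.Agent.S5657

open TensorProduct
namespace Aux

variable {A : Type u} [CommRing A]

/-- truncated binomial series -/
noncomputable def E (y : A) (m : ℕ) (n : ℤ) : A :=
  ∑ j ∈ Finset.range (m + 1), Ring.choose n j • y ^ j

lemma E_zero (y : A) (m : ℕ) : E y m 0 = 1 := by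
  unfold E
  rw [Finset.sum_range_succ', Finset.sum_eq_zero, zero_add, Ring.choose_zero_right, pow_zero,
    one_smul]
  intro j _
  rw [Ring.choose_zero_succ, zero_smul]

lemma E_succ (y : A) (m : ℕ) (hy : y ^ (m + 1) = 0) (n : ℤ) :
    E y m (n + 1) = (1 + y) * E y m n := by
  unfold E
  have hA : ∑ j ∈ Finset.range (m + 1), Ring.choose (n + 1) j • y ^ j =
      ∑ j ∈ Finset.range m, Ring.choose (n + 1) (j + 1) • y ^ (j + 1) + 1 := by
    rw [Finset.sum_range_succ', Ring.choose_zero_right, pow_zero, one_smul]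
  have hB : ∑ j ∈ Finset.range (m + 1), Ring.choose n j • y ^ j =
      ∑ j ∈ Finset.range m, Ring.choose n (j + 1) • y ^ (j + 1) + 1 := by
    rw [Finset.sum_range_succ', Ring.choose_zero_right, pow_zero, one_smul]
  have hC : y * ∑ j ∈ Finset.range (m + 1), Ring.choose n j • y ^ j =
      ∑ j ∈ Finset.range m, Ring.choose n j • y ^ (j + 1) := by
    rw [Finset.mul_sum, Finset.sum_range_succ, mul_smul_comm, ← pow_succ', hy, smul_zero, add_zero]
    refine Finset.sum_congr rfl (fun j _ => ?_)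
    rw [mul_smul_comm, ← pow_succ']
  rw [add_mul, one_mul, hC, hA, hB]
  simp only [Ring.choose_succ_succ, add_smul, Finset.sum_add_distrib]
  abel

lemma E_eq (u : Aˣ) (y : A) (m : ℕ) (hu : (u : A) = 1 + y) (hy : y ^ (m + 1) = 0) (n : ℤ) :
    ((u ^ n : Aˣ) : A) = E y m n := by
  induction n using Int.induction_on with
  | zero => rw [zpow_zero, Units.val_one, E_zero]
  | succ i ih =>
    rw [zpow_add_one, Units.val_mul, ih, E_succ y m hy, hu, mul_comm]
  | pred i ih =>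
    have h1 : E y m (-(i : ℤ)) = (1 + y) * E y m (-(i : ℤ) - 1) := by
      have := E_succ y m hy (-(i : ℤ) - 1)
      rwa [sub_add_cancel] at this
    have h2 : ((u ^ (-(i : ℤ)) : Aˣ) : A) = (u : A) * ((u ^ (-(i : ℤ) - 1) : Aˣ) : A) := by
      rw [← Units.val_mul, ← zpow_one_add, add_sub_cancel]
    rw [ih, h1, ← hu] at h2
    exact (u.isUnit.mul_right_injective h2).symm

theorem main (I : Ideal A) (m : ℕ) (hI : I ^ (m + 1) = ⊥)
    (P : Subgroup Aˣ) (hP : ∀ u : Aˣ, u ∈ P ↔ (u : A) - 1 ∈ I) :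
    W4sga6xxiii.IsPolyMapLE
      (fun u : Additive P => (((Additive.toMul u : P) : Aˣ) : A) ⊗ₜ[ℤ] (1 : ℚ)) m := by
  intro r x
  set U : Fin r → Aˣ := fun i => ((Additive.toMul (x i) : P) : Aˣ) with hU
  set y : Fin r → A := fun i => (U i : A) - 1 with hy
  have hyI : ∀ i, y i ∈ I := fun i => (hP (U i)).mp (Additive.toMul (x i) : P).2
  have hUy : ∀ i, (U i : A) = 1 + y i := fun i => by simp only [hy]; ring
  have hprodI : ∀ k : Fin r → Fin (m + 1), ∏ i, y i ^ (k i : ℕ) ∈ I ^ (∑ i, (k i : ℕ)) := by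
    intro k
    rw [← Finset.prod_pow_eq_pow_sum]
    exact Ideal.prod_mem_prod (fun i _ => Ideal.pow_mem_pow (hyI i) _)
  have hy0 : ∀ i, y i ^ (m + 1) = 0 := by
    intro i
    have := Ideal.pow_mem_pow (hyI i) (m + 1)
    rwa [hI, Ideal.mem_bot] at this
  refine ⟨fun k => (∏ i, y i ^ (k i : ℕ)) ⊗ₜ[ℤ] (1 : ℚ), ?_, ?_⟩
  · intro k hk
    have h1 := Ideal.pow_le_pow_right (I := I) (Nat.succ_le_of_lt hk) (hprodI k)
    rw [hI, Ideal.mem_bot] at h1
    show (∏ i, y i ^ (k i : ℕ)) ⊗ₜ[ℤ] (1 : ℚ) = 0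
    rw [h1, TensorProduct.zero_tmul]
  · intro n
    have h1 : (((Additive.toMul (∑ i, n i • x i) : P) : Aˣ) : A) = ∏ i, ((U i ^ n i : Aˣ) : A) := by
      rw [toMul_sum, Subgroup.val_finset_prod, Units.coe_prod]
      refine Finset.prod_congr rfl (fun i _ => ?_)
      rw [toMul_zsmul, Subgroup.coe_zpow]
    show (((Additive.toMul (∑ i, n i • x i) : P) : Aˣ) : A) ⊗ₜ[ℤ] (1 : ℚ) = _
    rw [h1]
    have h2 : ∀ i, ((U i ^ n i : Aˣ) : A) =
        ∑ j : Fin (m + 1), Ring.choose (n i) (j : ℕ) • y i ^ (j : ℕ) := by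
      intro i
      rw [E_eq (U i) (y i) m (hUy i) (hy0 i) (n i)]
      unfold E
      rw [Finset.sum_range]
    simp only [h2]
    rw [Finset.prod_univ_sum, Fintype.piFinset_univ, TensorProduct.sum_tmul]
    refine Finset.sum_congr rfl (fun k _ => ?_)
    have h3 : ∏ i, Ring.choose (n i) (k i : ℕ) • y i ^ (k i : ℕ) =
        (∏ i, Ring.choose (n i) (k i : ℕ)) • ∏ i, y i ^ (k i : ℕ) := by
      simp only [zsmul_eq_mul, Finset.prod_mul_distrib, Int.cast_prod]
    rw [h3, TensorProduct.smul_tmul']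

end Aux

/-- Let A be a commutative ring, I an ideal of A with I^{m+1} = 0, and P ⊆ Aˣ the subgroup of units of
the form 1 + y with y ∈ I. Then the map P → A ⊗_ℤ ℚ, x ↦ x ⊗ 1, is a polynomial map of degree ≤ m on
the abelian group P (written additively): along every finite sequence x_1, …, x_r in P one has
x_1^{n_1}⋯x_r^{n_r} ⊗ 1 = Σ_k Π_i C(n_i, k_i) y_k with y_k = 0 whenever k_1 + ⋯ + k_r > m. -/
theorem result (A : Type u) [CommRing A] (I : Ideal A) (m : ℕ) (hI : I ^ (m + 1) = ⊥)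
    (P : Subgroup Aˣ) (hP : ∀ u : Aˣ, u ∈ P ↔ (u : A) - 1 ∈ I) :
    W4sga6xxiii.IsPolyMapLE (fun u : Additive P => (((Additive.toMul u : P) : Aˣ) : A) ⊗ₜ[ℤ] (1 : ℚ)) m := by
  exact Aux.main I m hI P hP

end Groth.Agent.S5657
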