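import Groth.Statements.S5673
import Mathlib
import Groth.Agent.Lib.Helper1.TorBal
-- import your own Groth.Agent.* helpers here

set_option autoImplicit false
universe u
open CategoryTheory
open Dual

namespace Groth.Agent.S5673

open CategoryTheory
open Groth.Agent.Helper1.TorL Groth.Agent.Helper1.TorBal
namespace Aux

variable {A : Type u} [CommRing A]

/-- elements killed by every entry of the list -/
def annL (ys : List A) (M : Type u) [AddCommGroup M] [Module A M] : Submodule A M where
  carrier := {m | ∀ x ∈ ys, x • m = 0}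
  add_mem' := by
    intro a b ha hb x hx
    rw [smul_add, ha x hx, hb x hx, add_zero]
  zero_mem' := by
    intro x _
    exact smul_zero x
  smul_mem' := by
    intro c a ha x hx
    rw [smul_comm, ha x hx, smul_zero]

theorem mem_annL (ys : List A) (M : Type u) [AddCommGroup M] [Module A M] (m : M) :
    m ∈ annL ys M ↔ ∀ x ∈ ys, x • m = 0 := Iff.rfl

theorem tor'_iso (X Y : ModuleCat.{u} A) (n : ℕ) :
    Nonempty (((Tor' (ModuleCat.{u} A) n).obj X).obj Y ≅ T n X Y) := by
  let P := projectiveResolution X
  obtain ⟨e⟩ := balance Y n P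
  exact ⟨(P.isoLeftDerivedObj (MonoidalCategory.tensorRight Y) n) ≪≫ e.symm⟩

/-- the key module-theoretic step -/
theorem step_equiv {E F : Type u} [AddCommGroup E] [Module A E] [AddCommGroup F] [Module A F]
    (M : Type u) [AddCommGroup M] [Module A M] (ys : List A) (y : A)
    (δ : E →ₗ[A] F) (hδ : Function.Injective δ)
    (hex : ∀ t : F, y • t = 0 ↔ t ∈ LinearMap.range δ) (e : F ≃ₗ[A] annL ys M) :
    Nonempty (E ≃ₗ[A] annL (ys ++ [y]) M) := by
  let φ : E →ₗ[A] M := (annL ys M).subtype ∘ₗ e.toLinearMap ∘ₗ δ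
  have hφ : Function.Injective φ := by
    intro a b hab
    apply hδ
    apply e.injective
    exact Subtype.ext hab
  have hr : LinearMap.range φ = annL (ys ++ [y]) M := by
    ext m
    constructor
    · rintro ⟨t, rfl⟩
      intro x hx
      rw [List.mem_append, List.mem_singleton] at hx
      rcases hx with hx | rfl
      · exact (e (δ t)).2 x hx
      · have h1 : x • δ t = 0 := (hex (δ t)).mpr ⟨t, rfl⟩
        show x • ((e (δ t) : annL ys M) : M) = 0
        rw [← Submodule.coe_smul, ← map_smul, h1, map_zero]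
        rfl
    · intro hm
      have hm1 : m ∈ annL ys M := fun x hx => hm x (List.mem_append_left _ hx)
      have hm2 : y • m = 0 := hm y (by simp)
      have h1 : y • e.symm ⟨m, hm1⟩ = 0 := by
        rw [← map_smul]
        have : y • (⟨m, hm1⟩ : annL ys M) = 0 := Subtype.ext hm2
        rw [this, map_zero]
      obtain ⟨t, ht⟩ := (hex _).mp h1
      refine ⟨t, ?_⟩
      show ((e (δ t) : annL ys M) : M) = m
      rw [ht, LinearEquiv.apply_symm_apply]
  exact ⟨(LinearEquiv.ofInjective φ hφ).trans (LinearEquiv.ofEq _ _ hr)⟩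


open RingTheory.Sequence in
theorem key (M : Type u) [AddCommGroup M] [Module A M] : ∀ ys : List A, IsWeaklyRegular A ys →
    (∀ i, ys.length < i →
      Limits.IsZero (T i (ModuleCat.of A (A ⧸ Ideal.ofList ys)) (ModuleCat.of A M))) ∧
    Nonempty (T ys.length (ModuleCat.of A (A ⧸ Ideal.ofList ys)) (ModuleCat.of A M) ≃ₗ[A]
      annL ys M) := by
  intro ys
  induction ys using List.reverseRecOn with
  | nil =>
    intro _
    have hflat : Module.Flat A (A ⧸ Ideal.ofList ([] : List A)) :=
      Module.Flat.of_linearEquiv (Submodule.quotEquivOfEqBot _ Ideal.ofList_nil)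
    constructor
    · intro i hi
      obtain ⟨n, rfl⟩ : ∃ n, i = n + 1 := ⟨i - 1, by simp at hi; omega⟩
      exact isZero_tor_succ_of_flat _ _ n
    · have e1 : T 0 (ModuleCat.of A (A ⧸ Ideal.ofList ([] : List A))) (ModuleCat.of A M) ≃ₗ[A]
          TensorProduct A (A ⧸ Ideal.ofList ([] : List A)) M :=
        (tor0Iso _ _).toLinearEquiv
      have e2 : TensorProduct A (A ⧸ Ideal.ofList ([] : List A)) M ≃ₗ[A] M :=
        (TensorProduct.congr (Submodule.quotEquivOfEqBot _ Ideal.ofList_nil)
          (LinearEquiv.refl A M)).trans (TensorProduct.lid A M)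
      have htop : annL ([] : List A) M = ⊤ := by
        ext m
        simp [mem_annL]
      have e3 : M ≃ₗ[A] annL ([] : List A) M :=
        (LinearEquiv.ofTop _ htop).symm
      exact ⟨(e1.trans e2).trans e3⟩
  | append_singleton ys y ih =>
    intro hreg
    rw [isWeaklyRegular_append_iff, isWeaklyRegular_singleton_iff] at hreg
    obtain ⟨hreg1, hreg2⟩ := hreg
    have hr : IsSMulRegular (A ⧸ Ideal.ofList ys) y := by
      have e : (A ⧸ (Ideal.ofList ys • ⊤ : Submodule A A)) ≃ₗ[A] (A ⧸ Ideal.ofList ys) :=
        Submodule.quotEquivOfEq _ _ (by simp)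
      exact (e.isSMulRegular_congr y).mp hreg2
    have hI : Ideal.ofList (ys ++ [y]) = Ideal.ofList ys ⊔ Ideal.span {y} := by
      rw [Ideal.ofList_append, Ideal.ofList_singleton]
    obtain ⟨hvan, ⟨e⟩⟩ := ih hreg1
    have hS := quotSC_shortExact _ _ y hI hr
    constructor
    · intro i hi
      rw [List.length_append, List.length_singleton] at hi
      obtain ⟨n, rfl⟩ : ∃ n, i = n + 1 := ⟨i - 1, by omega⟩
      exact isZero_tor_succ_X₃ (quotSC _ _ y hI) hS _ n (hvan (n + 1) (by omega)) (hvan n (by omega))
    · rw [List.length_append, List.length_singleton]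
      have h₂ : Limits.IsZero (T (ys.length + 1) (quotSC _ _ y hI).X₂ (ModuleCat.of A M)) :=
        hvan _ (by omega)
      have hm : Mono (torδ (quotSC _ _ y hI) hS (ModuleCat.of A M) ys.length) :=
        (tor_exact₃ (quotSC _ _ y hI) hS (ModuleCat.of A M) ys.length).mono_g (h₂.eq_of_src _ _)
      have hex := tor_exact₁ (quotSC _ _ y hI) hS (ModuleCat.of A M) ys.length
      rw [ShortComplex.ShortExact.moduleCat_exact_iff_function_exact] at hex
      have hf : ((Tor (ModuleCat.{u} A) ys.length).map (quotSC _ _ y hI).f).app (ModuleCat.of A M) =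
          y • 𝟙 _ := by
        rw [quotSC_f_eq, tor_map_smul_id]
      refine step_equiv M ys y (torδ (quotSC _ _ y hI) hS (ModuleCat.of A M) ys.length).hom
        ((ModuleCat.mono_iff_injective _).mp hm) ?_ e
      intro t
      have h1 : (((Tor (ModuleCat.{u} A) ys.length).map (quotSC _ _ y hI).f).app
          (ModuleCat.of A M)).hom t = 0 ↔
          t ∈ Set.range (torδ (quotSC _ _ y hI) hS (ModuleCat.of A M) ys.length).hom := hex t
      have h2 : (((Tor (ModuleCat.{u} A) ys.length).map (quotSC _ _ y hI).f).app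
          (ModuleCat.of A M)).hom t = y • t := by
        rw [hf]
        rfl
      rw [h2] at h1
      exact h1


/-- `Hom(A/J, M)` is the submodule killed by the generators -/
theorem hom_equiv (M : Type u) [AddCommGroup M] [Module A M] (xs : List A) :
    Nonempty (((A ⧸ Ideal.ofList xs) →ₗ[A] M) ≃ₗ[A] annL xs M) := by
  let Φ : ((A ⧸ Ideal.ofList xs) →ₗ[A] M) →ₗ[A] M := LinearMap.applyₗ (1 : A ⧸ Ideal.ofList xs)
  have hΦ : Function.Injective Φ := by
    intro f g hfg
    apply LinearMap.ext
    intro z
    obtain ⟨a, rfl⟩ := Ideal.Quotient.mk_surjective z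
    have h1 : (Ideal.Quotient.mk (Ideal.ofList xs) a) = a • (1 : A ⧸ Ideal.ofList xs) := by
      rw [Algebra.smul_def, mul_one]
      rfl
    rw [h1, map_smul, map_smul]
    congr 1
  have hr : LinearMap.range Φ = annL xs M := by
    ext m
    constructor
    · rintro ⟨f, rfl⟩
      intro x hx
      show x • f 1 = 0
      rw [← map_smul]
      have : x • (1 : A ⧸ Ideal.ofList xs) = 0 := by
        rw [Algebra.smul_def, mul_one]
        exact Ideal.Quotient.eq_zero_iff_mem.mpr (Ideal.subset_span hx)
      rw [this, map_zero]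
    · intro hm
      have hle : Ideal.ofList xs ≤ LinearMap.ker (LinearMap.toSpanSingleton A M m) := by
        rw [Ideal.ofList, Ideal.span_le]
        intro x hx
        show LinearMap.toSpanSingleton A M m x = 0
        rw [LinearMap.toSpanSingleton_apply]
        exact hm x hx
      refine ⟨Submodule.liftQ (Ideal.ofList xs) (LinearMap.toSpanSingleton A M m) hle, ?_⟩
      show Submodule.liftQ (Ideal.ofList xs) (LinearMap.toSpanSingleton A M m) hle
        (Submodule.Quotient.mk (1 : A)) = m
      rw [Submodule.liftQ_apply, LinearMap.toSpanSingleton_apply, one_smul]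
  exact ⟨(LinearEquiv.ofInjective Φ hΦ).trans (LinearEquiv.ofEq _ _ hr)⟩

theorem main (A : Type u) [CommRing A] (xs : List A) (hreg : RingTheory.Sequence.IsWeaklyRegular A xs) (M : Type u) [AddCommGroup M] [Module A M] : Nonempty (↑(((Tor' (ModuleCat.{u} A) xs.length).obj (ModuleCat.of A (A ⧸ Ideal.ofList xs))).obj (ModuleCat.of A M)) ≃ₗ[A] ((A ⧸ Ideal.ofList xs) →ₗ[A] M)) := by
  obtain ⟨e1⟩ := tor'_iso (ModuleCat.of A (A ⧸ Ideal.ofList xs)) (ModuleCat.of A M) xs.length
  obtain ⟨-, ⟨e2⟩⟩ := key M xs hreg
  obtain ⟨e3⟩ := hom_equiv M xs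
  exact ⟨(e1.toLinearEquiv.trans e2).trans e3.symm⟩

end Aux

/-- Let `A` be a commutative ring, `xs = (x_1, …, x_p)` a sequence in `A` such that each `x_i` is a
non-zero-divisor on `A/(x_1, …, x_{i-1})`, `J` the ideal generated by the `x_i` and `M` any
`A`-module. Then `Tor_p^A(A/J, M)` (Mathlib's `Tor'`, the left derived functors of `- ⊗ M` evaluated
at `A/J`, i.e. computed from a resolution of `A/J`) is isomorphic as an `A`-module to `Hom_A(A/J,
M)`, i.e. to the elements of `M` killed by `J`. (Existence of an `A`-linear isomorphism only; the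
published one is induced by the Koszul complex of `xs`.) -/
theorem result (A : Type u) [CommRing A] (xs : List A) (hreg : RingTheory.Sequence.IsWeaklyRegular A xs) (M : Type u) [AddCommGroup M] [Module A M] : Nonempty (↑(((Tor' (ModuleCat.{u} A) xs.length).obj (ModuleCat.of A (A ⧸ Ideal.ofList xs))).obj (ModuleCat.of A M)) ≃ₗ[A] ((A ⧸ Ideal.ofList xs) →ₗ[A] M)) := by
  exact Aux.main A xs hreg M

end Groth.Agent.S5673
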