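import Groth.Statements.S8874
import Mathlib
import Groth.Agent.Lib.Lead.FittSh
import Groth.Agent.Lib.Helper1.ModTriv
import Groth.Agent.Lib.Helper1.AffPushEpi
import Groth.Agent.S2882

set_option autoImplicit false
universe u
open CategoryTheory CategoryTheory.Limits AlgebraicGeometry TopologicalSpace
open SDiv

namespace Groth.Agent.S8874

section
open CategoryTheory CategoryTheory.Limits AlgebraicGeometry TopologicalSpace
open Groth.Agent.Lead.FittSh Groth.Agent.Helper4.Fitting Groth.Agent.Lead.FLF Groth.Agent.Lead.SD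
open Scheme.Modules

attribute [local instance] Groth.Agent.Lead.SD.basicOpenModule

section K
variable {S : Scheme.{u}} (F : S.Modules) [F.IsQuasicoherent] {V : S.Opens} (hV : IsAffineOpen V)

include hV in
theorem lemmaK {r : ℕ} (f g : Γ(S, V)) (hgf : S.basicOpen g ≤ S.basicOpen f)
    (y : Fin r → Γ(F, V))
    (hy : ∀ m : Γ(F, V), f • m ∈ Submodule.span Γ(S, V) (Set.range y))
    (τ : Γ(F, S.basicOpen g)) :
    τ ∈ Submodule.span Γ(S, S.basicOpen g)
      (Set.range fun j => F.presheaf.map (homOfLE (S.basicOpen_le g)).op (y j)) := by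
  haveI := isLocalizedModule_res F hV g
  obtain ⟨⟨m, ⟨_, n, rfl⟩⟩, hm⟩ := IsLocalizedModule.surj (Submonoid.powers g) (resₗ F g) τ
  -- hm : g ^ n • τ = resₗ F g m
  have hm' : (g ^ n) • τ = resₗ F g m := hm
  have h1 : f • m ∈ Submodule.span Γ(S, V) (Set.range y) := hy m
  -- the restriction of `f * g ^ n` to the basic open of `g` is a unit
  have hu : IsUnit ((S.presheaf.map (homOfLE (S.basicOpen_le g)).op).hom (f * g ^ n)) := by
    rw [map_mul, map_pow]
    refine IsUnit.mul ?_ (IsUnit.pow _ (S.toRingedSpace.isUnit_res_basicOpen g))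
    have h2 : S.presheaf.map (homOfLE (S.basicOpen_le g)).op =
        S.presheaf.map (homOfLE (S.basicOpen_le f)).op ≫ S.presheaf.map (homOfLE hgf).op := by
      rw [← Functor.map_comp]; rfl
    rw [h2]
    exact (S.toRingedSpace.isUnit_res_basicOpen f).map (S.presheaf.map (homOfLE hgf).op).hom
  obtain ⟨u, hu'⟩ := hu
  -- `(f * g ^ n) • τ` lies in the span
  have h3 : (f * g ^ n) • τ ∈ Submodule.span Γ(S, S.basicOpen g)
      (Set.range fun j => F.presheaf.map (homOfLE (S.basicOpen_le g)).op (y j)) := by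
    rw [mul_smul, hm', ← LinearMap.map_smul]
    have h4 : ∀ z ∈ Submodule.span Γ(S, V) (Set.range y), resₗ F g z ∈
        Submodule.span Γ(S, S.basicOpen g)
          (Set.range fun j => F.presheaf.map (homOfLE (S.basicOpen_le g)).op (y j)) := by
      intro z hz
      induction hz using Submodule.span_induction with
      | mem z hz =>
        obtain ⟨j, rfl⟩ := hz
        exact Submodule.subset_span ⟨j, rfl⟩
      | zero => rw [map_zero]; exact Submodule.zero_mem _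
      | add a b _ _ ha hb => rw [map_add]; exact Submodule.add_mem _ ha hb
      | smul c a _ ha =>
        rw [LinearMap.map_smul, smul_basicOpen_def]
        exact Submodule.smul_mem _ _ ha
    exact h4 _ h1
  have h5 : τ = (↑u⁻¹ : Γ(S, S.basicOpen g)) • ((f * g ^ n) • τ) := by
    rw [smul_basicOpen_def, ← hu', smul_smul, Units.inv_mul, one_smul]
  rw [h5]
  exact Submodule.smul_mem _ _ h3

include hV in
theorem lemmaK' {r : ℕ} (f g : Γ(S, V)) (hgf : S.basicOpen g ≤ S.basicOpen f)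
    (y : Fin r → Γ(F, V))
    (hy : ∀ m : Γ(F, V), f • m ∈ Submodule.span Γ(S, V) (Set.range y))
    (W : S.Opens) (hW : W = S.basicOpen g) (hWV : W ≤ V) (τ : Γ(F, W)) :
    τ ∈ Submodule.span Γ(S, W)
      (Set.range fun j => F.presheaf.map (homOfLE hWV).op (y j)) := by
  subst hW
  exact lemmaK F hV f g hgf y hy τ

end K

section conv
variable {S : Scheme.{u}} (F : S.Modules) (U : S.Opens) (B : (U : Scheme.{u}).Opens)

/-- sections of the restriction, viewed as sections of the module -/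
def toF (a : Γ(F.restrict U.ι, B)) : Γ(F, U.ι ''ᵁ B) := a
/-- sections of the module, viewed as sections of the restriction -/
def ofF (a : Γ(F, U.ι ''ᵁ B)) : Γ(F.restrict U.ι, B) := a

theorem toF_ofF (a : Γ(F, U.ι ''ᵁ B)) : toF F U B (ofF F U B a) = a := rfl
theorem ofF_toF (a : Γ(F.restrict U.ι, B)) : ofF F U B (toF F U B a) = a := rfl
theorem toF_add (a b : Γ(F.restrict U.ι, B)) : toF F U B (a + b) = toF F U B a + toF F U B b := rfl
theorem ofF_add (a b : Γ(F, U.ι ''ᵁ B)) : ofF F U B (a + b) = ofF F U B a + ofF F U B b := rfl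
theorem toF_zero : toF F U B 0 = 0 := rfl
theorem ofF_zero : ofF F U B 0 = 0 := rfl

theorem toF_smul (c : Γ((U : Scheme.{u}), B)) (a : Γ(F.restrict U.ι, B)) :
    toF F U B (c • a) = ((U.ι.appIso B).inv c) • toF F U B a := rfl

theorem ofF_smul (c : Γ(S, U.ι ''ᵁ B)) (a : Γ(F, U.ι ''ᵁ B)) :
    ofF F U B (c • a) = ((U.ι.appIso B).hom c) • ofF F U B a := by
  apply_fun toF F U B using (fun _ _ h => h)
  rw [toF_smul, Iso.hom_inv_id_apply]
  rfl

theorem span_restrict (Z : Set Γ(F, U.ι ''ᵁ B)) (t : Γ(F, U.ι ''ᵁ B))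
    (ht : t ∈ Submodule.span Γ(S, U.ι ''ᵁ B) Z) :
    ofF F U B t ∈ Submodule.span Γ((U : Scheme.{u}), B) (ofF F U B '' Z) := by
  induction ht using Submodule.span_induction with
  | mem z hz => exact Submodule.subset_span ⟨z, hz, rfl⟩
  | zero => rw [ofF_zero]; exact Submodule.zero_mem _
  | add a b _ _ ha hb => rw [ofF_add]; exact Submodule.add_mem _ ha hb
  | smul c a _ ha => rw [ofF_smul]; exact Submodule.smul_mem _ _ ha

theorem span_unrestrict (Z : Set Γ(F.restrict U.ι, B)) (t : Γ(F.restrict U.ι, B))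
    (ht : t ∈ Submodule.span Γ((U : Scheme.{u}), B) Z) :
    toF F U B t ∈ Submodule.span Γ(S, U.ι ''ᵁ B) (toF F U B '' Z) := by
  induction ht using Submodule.span_induction with
  | mem z hz => exact Submodule.subset_span ⟨z, hz, rfl⟩
  | zero => rw [toF_zero]; exact Submodule.zero_mem _
  | add a b _ _ ha hb => rw [toF_add]; exact Submodule.add_mem _ ha hb
  | smul c a _ ha => rw [toF_smul]; exact Submodule.smul_mem _ _ ha

end conv

theorem exists_affine (S : Scheme.{u}) (s : S) : ∃ U : S.Opens, IsAffineOpen U ∧ s ∈ U := by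
  obtain ⟨_, ⟨U, hU, rfl⟩, hsU, -⟩ :=
    S.isBasis_affineOpens.exists_subset_of_mem_open (Set.mem_univ s) isOpen_univ
  exact ⟨U, hU, hsU⟩

theorem dirB (S : Scheme.{u}) (F : S.Modules) [F.IsQuasicoherent] (hft : CohB1.IsFT F)
    (s : ↥S) (r : ℕ) (hs : s ∉ (Fitt.sheafIdeal F r).support) :
    ∃ U : S.Opens, s ∈ U ∧ ∃ π : FlatMod.freeMod (↑U) r ⟶ F.restrict U.ι, Epi π := by
  obtain ⟨V, hV, hsV⟩ := exists_affine S s
  haveI := ft_sections F hft hV
  have h1 := mem_support_iff_le (Fitt.sheafIdeal F r) hV ⟨s, hsV⟩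
  rw [sheafIdeal_ideal F hft r ⟨V, hV⟩] at h1
  have hnle : ¬ Fitt.ideal Γ(S, V) Γ(F, V) r ≤ (hV.primeIdealOf ⟨s, hsV⟩).asIdeal :=
    fun h => hs (h1.2 h)
  obtain ⟨n, x, hx⟩ := Module.Finite.exists_fin (R := Γ(S, V)) (M := Γ(F, V))
  obtain ⟨f, hf, -, y, hy⟩ := exists_smul_mem_span_of_not_le x hx r _ hnle
  have hsU : s ∈ S.basicOpen f := (mem_basicOpen_iff hV ⟨s, hsV⟩ f).2 hf
  refine ⟨S.basicOpen f, hsU, ?_⟩
  have hUV : (S.basicOpen f).ι ''ᵁ ⊤ ≤ V := by
    rw [Scheme.Opens.ι_image_top]; exact S.basicOpen_le f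
  let σ : Fin r → Γ(F.restrict (S.basicOpen f).ι, ⊤) :=
    fun j => ofF F (S.basicOpen f) ⊤ (F.presheaf.map (homOfLE hUV).op (y j))
  apply Groth.Agent.Helper1.ModTriv.exists_epi_of_locally_span (F.restrict (S.basicOpen f).ι) σ
  intro A t x hxA
  have hAU : (S.basicOpen f).ι ''ᵁ A ≤ S.basicOpen f := by
    rintro _ ⟨z, -, rfl⟩; exact z.2
  obtain ⟨g, hgA, hxg⟩ := hV.exists_basicOpen_le
    (V := (S.basicOpen f).ι ''ᵁ A) ⟨(S.basicOpen f).ι x, ⟨x, hxA, rfl⟩⟩
    (S.basicOpen_le f x.2)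
  have hgf : S.basicOpen g ≤ S.basicOpen f := hgA.trans hAU
  have hBA : (S.basicOpen f).ι ⁻¹ᵁ (S.basicOpen g) ≤ A := by
    intro z hz
    obtain ⟨z', hz', hzz'⟩ := hgA hz
    have : z' = z := (S.basicOpen f).ι.isOpenEmbedding.injective hzz'
    rw [← this]; exact hz'
  have hW : (S.basicOpen f).ι ''ᵁ ((S.basicOpen f).ι ⁻¹ᵁ (S.basicOpen g)) = S.basicOpen g := by
    rw [Groth.Agent.S2882.image_preimage_ι]; exact inf_eq_right.2 hgf
  have hWV : (S.basicOpen f).ι ''ᵁ ((S.basicOpen f).ι ⁻¹ᵁ (S.basicOpen g)) ≤ V := by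
    rw [hW]; exact S.basicOpen_le g
  refine ⟨(S.basicOpen f).ι ⁻¹ᵁ (S.basicOpen g), hBA, hxg, ?_⟩
  have hK := lemmaK' F hV f g hgf y hy _ hW hWV
    (toF F (S.basicOpen f) _ ((F.restrict (S.basicOpen f).ι).presheaf.map (homOfLE hBA).op t))
  have h2 := span_restrict F (S.basicOpen f) _ _ _ hK
  rw [ofF_toF] at h2
  refine Submodule.span_mono ?_ h2
  rintro _ ⟨_, ⟨j, rfl⟩, rfl⟩
  refine ⟨j, ?_⟩
  show F.presheaf.map (homOfLE (Scheme.Hom.image_mono (S.basicOpen f).ι le_top)).op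
    (F.presheaf.map (homOfLE hUV).op (y j)) = F.presheaf.map (homOfLE hWV).op (y j)
  exact Groth.Agent.S2882.map_map S F _ _ _

theorem span_of_eq {S : Scheme.{u}} (F : S.Modules) {r : ℕ} {V W : S.Opens} (hW : W = V)
    (t : Fin r → Γ(F, W))
    (h : ∀ m : Γ(F, W), m ∈ Submodule.span Γ(S, W) (Set.range t)) :
    ∃ y : Fin r → Γ(F, V), Submodule.span Γ(S, V) (Set.range y) = ⊤ := by
  subst hW; exact ⟨t, eq_top_iff.2 fun m _ => h m⟩

/-- a section of the structure module as a function -/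
def secO {Y : Scheme.{u}} (A : Y.Opens) (a : Γ(Coh.structureModule Y, A)) : Γ(Y, A) := a

theorem isQuasicoherent_free (Y : Scheme.{u}) (r : ℕ) : (FlatMod.freeMod Y r).IsQuasicoherent := by
  apply isQuasicoherent_of_isFinLocFree
  intro x
  exact ⟨⊤, r, trivial, ⟨freeRestrictIso _ r⟩⟩

open Groth.Agent.S2882 in
theorem dirA (S : Scheme.{u}) (F : S.Modules) [F.IsQuasicoherent] (hft : CohB1.IsFT F)
    (s : ↥S) (r : ℕ) (U : S.Opens) (hsU : s ∈ U)
    (π : FlatMod.freeMod (↑U) r ⟶ F.restrict U.ι) [Epi π] :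
    s ∉ (Fitt.sheafIdeal F r).support := by
  obtain ⟨_, ⟨V, hV, rfl⟩, hsV, hVU⟩ := S.isBasis_affineOpens.exists_subset_of_mem_open hsU U.2
  have hA : IsAffineOpen (U.ι ⁻¹ᵁ V) :=
    hV.preimage_of_isOpenImmersion U.ι (by rw [Scheme.Opens.opensRange_ι]; exact hVU)
  haveI : (FlatMod.freeMod (↑U) r).IsQuasicoherent := isQuasicoherent_free _ r
  haveI : (F.restrict U.ι).IsQuasicoherent := inferInstance
  have hsurj := Groth.Agent.Helper1.AffPushEpi.app_surjective_of_epi π (U.ι ⁻¹ᵁ V) hA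
  have hW : U.ι ''ᵁ (U.ι ⁻¹ᵁ V) = V := by
    rw [image_preimage_ι]; exact inf_eq_right.2 hVU
  let t : Fin r → Γ(F.restrict U.ι, U.ι ⁻¹ᵁ V) :=
    fun j => π.app _ ((inj (↑U) r j).app _ (1 : Γ((U : Scheme.{u}), U.ι ⁻¹ᵁ V)))
  have hspanY : ∀ m : Γ(F.restrict U.ι, U.ι ⁻¹ᵁ V),
      m ∈ Submodule.span Γ((U : Scheme.{u}), U.ι ⁻¹ᵁ V) (Set.range t) := by
    intro m
    obtain ⟨a, rfl⟩ := hsurj m
    rw [sum_inj_prj_apply (↑U) r _ a, map_sum]
    refine Submodule.sum_mem _ fun j _ => ?_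
    have h3 : (inj (↑U) r j).app (U.ι ⁻¹ᵁ V) ((prj (↑U) r j).app (U.ι ⁻¹ᵁ V) a) =
        secO (U.ι ⁻¹ᵁ V) ((prj (↑U) r j).app (U.ι ⁻¹ᵁ V) a) •
          (inj (↑U) r j).app (U.ι ⁻¹ᵁ V) (1 : Γ((U : Scheme.{u}), U.ι ⁻¹ᵁ V)) := by
      rw [← Hom.app_smul]
      congr 1
      show secO (U.ι ⁻¹ᵁ V) ((prj (↑U) r j).app (U.ι ⁻¹ᵁ V) a) =
        secO (U.ι ⁻¹ᵁ V) ((prj (↑U) r j).app (U.ι ⁻¹ᵁ V) a) *
          (1 : Γ((U : Scheme.{u}), U.ι ⁻¹ᵁ V))
      rw [mul_one]
    rw [h3, Hom.app_smul]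
    exact Submodule.smul_mem _ _ (Submodule.subset_span ⟨j, rfl⟩)
  obtain ⟨y, hy⟩ := span_of_eq F hW (fun j => toF F U _ (t j)) (fun m => by
    have := span_unrestrict F U _ _ (ofF F U _ m) (hspanY _)
    rw [toF_ofF] at this
    refine Submodule.span_mono ?_ this
    rintro _ ⟨_, ⟨j, rfl⟩, rfl⟩
    exact ⟨j, rfl⟩)
  haveI := ft_sections F hft hV
  have h1 := mem_support_iff_le (Fitt.sheafIdeal F r) hV ⟨s, hsV⟩
  rw [sheafIdeal_ideal F hft r ⟨V, hV⟩, ideal_eq_top_of_span y hy r le_rfl] at h1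
  intro h
  exact (hV.primeIdealOf ⟨s, hsV⟩).isPrime.ne_top (top_le_iff.1 (h1.1 h))

theorem main (S : Scheme.{u}) (F : S.Modules) (hF : Coh.IsQCoh F) (hft : CohB1.IsFT F)
    (s : ↥S) (r : ℕ) :
    (∃ U : S.Opens, s ∈ U ∧ ∃ π : FlatMod.freeMod (↑U) r ⟶ F.restrict U.ι, Epi π) ↔
      s ∉ (Fitt.sheafIdeal F r).support := by
  haveI : F.IsQuasicoherent := hF
  constructor
  · rintro ⟨U, hsU, π, hπ⟩
    exact dirA S F hft s r U hsU π
  · exact dirB S F hft s r


end


/-- Let S be a scheme, F a quasi-coherent O_S-module of finite type, s a point of S and r a natural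
number. Then F can be generated by r sections over some open neighbourhood of s if and only if the
r-th Fitting ideal of F is the unit ideal at s, i.e. s does not lie in the closed subset cut out by
Fit_r(F). -/
theorem result (S : Scheme.{u}) (F : S.Modules) (hF : Coh.IsQCoh F) (hft : CohB1.IsFT F)
    (s : ↥S) (r : ℕ) :
    (∃ U : S.Opens, s ∈ U ∧ ∃ π : FlatMod.freeMod (↑U) r ⟶ F.restrict U.ι, Epi π) ↔
      s ∉ (Fitt.sheafIdeal F r).support := by
  classical
  exact main S F hF hft s r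

end Groth.Agent.S8874
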