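import Groth.Statements.S5705
import Groth.Agent.Lib.Helper8.LocalSN
import Mathlib.Algebra.Azumaya.Basic
import Mathlib.RingTheory.LocalRing.Module
import Mathlib.RingTheory.TensorProduct.Basic

set_option autoImplicit false
universe u v
open TensorProduct
open Dix

namespace Groth.Agent.S5705

/-- Over a local base, where the Zariski-local conclusion becomes global. Let R be a local ring and A an
Azumaya algebra over R. Then every R-algebra automorphism u of A is inner, u(x) = a x a⁻¹ for some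
unit a of A, and the unit a is determined up to multiplication by a unit of R. -/
theorem result (R : Type u) [CommRing R] [IsLocalRing R] (A : Type v) [Ring A] [Algebra R A] [IsAzumaya R A] (u : A ≃ₐ[R] A) : (∃ a : Aˣ, ∀ x : A, u x = (a : A) * x * (a⁻¹ : Aˣ)) ∧ (∀ a a' : Aˣ, (∀ x : A, u x = (a : A) * x * (a⁻¹ : Aˣ)) → (∀ x : A, u x = (a' : A) * x * (a'⁻¹ : Aˣ)) → ∃ c : Rˣ, (a' : A) = algebraMap R A (c : R) * (a : A)) := by
  classical
  haveI : Module.Free R A := Module.free_of_flat_of_isLocalRing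
  haveI : Nontrivial A := by
    have hinj : Function.Injective (algebraMap R A) := FaithfulSMul.algebraMap_injective R A
    exact hinj.nontrivial
  have hbij : Function.Bijective (AlgHom.mulLeftRight R A) := IsAzumaya.bij
  let E : (A ⊗[R] Aᵐᵒᵖ) ≃ₐ[R] Module.End R A :=
    AlgEquiv.ofBijective (AlgHom.mulLeftRight R A) hbij
  -- central elements are scalars
  have hcenter : ∀ z : A, (∀ x : A, z * x = x * z) → ∃ r : R, z = algebraMap R A r := by
    intro z hz
    have hζ : ∀ B : Module.End R A, B * (LinearMap.mulLeft R z) = (LinearMap.mulLeft R z) * B := by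
      intro B
      obtain ⟨t, rfl⟩ := E.surjective B
      induction t using TensorProduct.induction_on with
      | zero => simp
      | tmul a b =>
        apply LinearMap.ext
        intro x
        show E (a ⊗ₜ[R] b) (z * x) = z * E (a ⊗ₜ[R] b) x
        show AlgHom.mulLeftRight R A (a ⊗ₜ[R] b) (z * x) = z * AlgHom.mulLeftRight R A (a ⊗ₜ[R] b) x
        rw [AlgHom.mulLeftRight_apply, AlgHom.mulLeftRight_apply, ← mul_assoc, ← hz a, mul_assoc,
          mul_assoc, mul_assoc]
      | add s t hs ht => rw [map_add, add_mul, mul_add, hs, ht]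
    obtain ⟨r, hr⟩ := Groth.Agent.Helper8.end_central_eq_smul (LinearMap.mulLeft R z) hζ
    refine ⟨r, ?_⟩
    have := hr 1
    rw [LinearMap.mulLeft_apply, mul_one] at this
    rw [this, Algebra.smul_def, mul_one]
  constructor
  · -- existence
    let ψ : (A ⊗[R] Aᵐᵒᵖ) ≃ₐ[R] (A ⊗[R] Aᵐᵒᵖ) := Algebra.TensorProduct.congr u AlgEquiv.refl
    let ρ : Module.End R A ≃ₐ[R] Module.End R A := E.symm.trans (ψ.trans E)
    obtain ⟨T, hT⟩ := Groth.Agent.Helper8.algEquiv_end_eq_conj_of_isLocalRing ρ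
    have hρ : ∀ (a : A) (b : Aᵐᵒᵖ),
        ρ (AlgHom.mulLeftRight R A (a ⊗ₜ[R] b)) = AlgHom.mulLeftRight R A (u a ⊗ₜ[R] b) := by
      intro a b
      show E (ψ (E.symm (AlgHom.mulLeftRight R A (a ⊗ₜ[R] b)))) = _
      have h1 : E.symm (AlgHom.mulLeftRight R A (a ⊗ₜ[R] b)) = a ⊗ₜ[R] b :=
        E.symm_apply_apply (a ⊗ₜ[R] b)
      rw [h1]
      rfl
    have hkey : ∀ (a x b : A), T (a * x * b) = u a * T x * b := by
      intro a x b
      have h2 := hρ a (MulOpposite.op b)
      rw [hT, LinearEquiv.conjAlgEquiv_apply] at h2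
      have h3 := congrArg (fun f : Module.End R A => f (T x)) h2
      simp only [LinearMap.coe_comp, LinearEquiv.coe_coe, Function.comp_apply,
        LinearEquiv.symm_apply_apply, AlgHom.mulLeftRight_apply, MulOpposite.unop_op] at h3
      exact h3
    obtain ⟨c, hc⟩ : ∃ c : A, c = T 1 := ⟨_, rfl⟩
    obtain ⟨v, hv⟩ : ∃ v : A, v = T.symm 1 := ⟨_, rfl⟩
    have hT1 : ∀ x : A, T x = c * x := by
      intro x
      have := hkey 1 1 x
      rw [one_mul, one_mul, map_one, one_mul] at this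
      rw [hc]; exact this
    have hT2 : ∀ a : A, T a = u a * c := by
      intro a
      have := hkey a 1 1
      rw [mul_one, mul_one, mul_one] at this
      rw [hc]; exact this
    have hTs : ∀ y : A, T.symm y = v * y := by
      intro y
      apply T.injective
      rw [T.apply_symm_apply, hT1, ← mul_assoc, ← hT1 v, hv, T.apply_symm_apply, one_mul]
    have hcv : c * v = 1 := by rw [← hT1, hv, T.apply_symm_apply]
    have hvc : v * c = 1 := by rw [← hTs, hc, T.symm_apply_apply]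
    refine ⟨⟨c, v, hcv, hvc⟩, fun a => ?_⟩
    show u a = c * a * v
    have h4 : c * a = u a * c := by rw [← hT1, hT2]
    rw [h4, mul_assoc, hcv, mul_one]
  · -- uniqueness up to scalars
    intro a a' ha ha'
    have hz : ∀ x : A, ((a⁻¹ : Aˣ) : A) * (a' : A) * x = x * (((a⁻¹ : Aˣ) : A) * (a' : A)) := by
      intro x
      have h1 : (a : A) * x * ((a⁻¹ : Aˣ) : A) = (a' : A) * x * ((a'⁻¹ : Aˣ) : A) := by
        rw [← ha, ← ha']
      have h2 : x * ((a⁻¹ : Aˣ) : A) * (a' : A) = ((a⁻¹ : Aˣ) : A) * (a' : A) * x := by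
        calc x * ((a⁻¹ : Aˣ) : A) * (a' : A)
            = ((a⁻¹ : Aˣ) : A) * ((a : A) * x * ((a⁻¹ : Aˣ) : A)) * (a' : A) := by
              simp only [mul_assoc, Units.inv_mul_cancel_left]
          _ = ((a⁻¹ : Aˣ) : A) * ((a' : A) * x * ((a'⁻¹ : Aˣ) : A)) * (a' : A) := by rw [h1]
          _ = ((a⁻¹ : Aˣ) : A) * (a' : A) * x := by
              simp only [mul_assoc, Units.inv_mul, mul_one]
      rw [← h2, mul_assoc]
    obtain ⟨r, hr⟩ := hcenter _ hz
    have hz' : ∀ x : A, ((a'⁻¹ : Aˣ) : A) * (a : A) * x = x * (((a'⁻¹ : Aˣ) : A) * (a : A)) := by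
      intro x
      have h1 := hz (((a'⁻¹ : Aˣ) : A) * (a : A) * x * (((a'⁻¹ : Aˣ) : A) * (a : A)))
      have e1 : ((a⁻¹ : Aˣ) : A) * (a' : A) * (((a'⁻¹ : Aˣ) : A) * (a : A)) = 1 := by
        rw [mul_assoc, ← mul_assoc (a' : A), Units.mul_inv, one_mul, Units.inv_mul]
      have e2 : ((a'⁻¹ : Aˣ) : A) * (a : A) * (((a⁻¹ : Aˣ) : A) * (a' : A)) = 1 := by
        rw [mul_assoc, ← mul_assoc (a : A), Units.mul_inv, one_mul, Units.inv_mul]
      calc ((a'⁻¹ : Aˣ) : A) * (a : A) * x
          = ((a'⁻¹ : Aˣ) : A) * (a : A) * x * (((a'⁻¹ : Aˣ) : A) * (a : A) *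
              (((a⁻¹ : Aˣ) : A) * (a' : A))) := by rw [e2, mul_one]
        _ = (((a'⁻¹ : Aˣ) : A) * (a : A) * x * (((a'⁻¹ : Aˣ) : A) * (a : A))) *
              (((a⁻¹ : Aˣ) : A) * (a' : A)) := by simp only [mul_assoc]
        _ = (((a⁻¹ : Aˣ) : A) * (a' : A)) * (((a'⁻¹ : Aˣ) : A) * (a : A) * x *
              (((a'⁻¹ : Aˣ) : A) * (a : A))) := (h1).symm
        _ = (((a⁻¹ : Aˣ) : A) * (a' : A) * (((a'⁻¹ : Aˣ) : A) * (a : A))) * x *
              (((a'⁻¹ : Aˣ) : A) * (a : A)) := by simp only [mul_assoc]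
        _ = x * (((a'⁻¹ : Aˣ) : A) * (a : A)) := by rw [e1, one_mul]
    obtain ⟨r', hr'⟩ := hcenter _ hz'
    have hrr' : r * r' = 1 := by
      apply FaithfulSMul.algebraMap_injective R A
      rw [map_mul, ← hr, ← hr', map_one, mul_assoc, ← mul_assoc (a' : A), Units.mul_inv, one_mul,
        Units.inv_mul]
    refine ⟨⟨r, r', hrr', by rw [mul_comm]; exact hrr'⟩, ?_⟩
    show (a' : A) = algebraMap R A r * (a : A)
    rw [← hr, mul_assoc]
    have hcomm := hz (a : A)
    rw [mul_assoc] at hcomm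
    rw [hcomm, ← mul_assoc, Units.mul_inv, one_mul]

end Groth.Agent.S5705
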