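import Groth.Statements.S5710
import Mathlib
import Groth.Agent.Lib.Lead.AzReg4

set_option autoImplicit false
universe u v
open TensorProduct
open Dix

namespace Groth.Agent.S5710

section
open TensorProduct Polynomial Module
open Groth.Agent.Lead.AzReg

theorem main (R : Type u) [CommRing R] [IsLocalRing R] (A : Type u) [Ring A] [Algebra R A] [IsAzumaya R A] (r : ℕ) (hA : Module.finrank R A = r ^ 2) : ∃ (E : Type u) (_ : CommRing E) (_ : Algebra R E), Algebra.Etale R E ∧ Module.Finite R E ∧ Module.Free R E ∧ Module.finrank R E = r ∧ ∃ u : E →ₐ[R] A, Function.Injective (u.toLinearMap.lTensor (IsLocalRing.ResidueField R)) := by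
  classical
  obtain ⟨ξ, χ, hmonic, hdeg, hsep, hχξ, hli, hlik⟩ := exists_regular_elt R A r hA
  let pb : PowerBasis R (AdjoinRoot χ) := AdjoinRoot.powerBasis' hmonic
  have hpbdim : pb.dim = r := by
    change χ.natDegree = r
    exact hdeg
  have hvan : ∀ a : R[X], a ∈ Ideal.span {χ} → (aeval ξ : R[X] →ₐ[R] A) a = 0 := by
    intro a ha
    obtain ⟨b, rfl⟩ := Ideal.mem_span_singleton'.mp ha
    rw [map_mul, hχξ, mul_zero]
  let u : AdjoinRoot χ →ₐ[R] A := Ideal.Quotient.liftₐ (Ideal.span {χ}) (aeval ξ) hvan
  have hu : ∀ q : R[X], u (AdjoinRoot.mk χ q) = aeval ξ q := fun q => rfl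
  refine ⟨AdjoinRoot χ, inferInstance, inferInstance, etale_adjoinRoot χ hmonic hsep,
    Module.Finite.of_basis pb.basis, Module.Free.of_basis pb.basis, ?_, u, ?_⟩
  · rw [Module.finrank_eq_card_basis pb.basis, Fintype.card_fin, hpbdim]
  · let k := IsLocalRing.ResidueField R
    have h1 : (u.toLinearMap.lTensor k : k ⊗[R] AdjoinRoot χ → k ⊗[R] A) =
        (u.toLinearMap.baseChange k) := (LinearMap.baseChange_eq_ltensor _).symm
    rw [h1]
    let bk : Module.Basis (Fin pb.dim) k (k ⊗[R] AdjoinRoot χ) :=
      Algebra.TensorProduct.basis k pb.basis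
    rw [← LinearMap.ker_eq_bot, LinearMap.ker_eq_bot']
    intro m hm
    have hlik' : LinearIndependent k (fun i : Fin pb.dim => (u.toLinearMap.baseChange k) (bk i)) := by
      have h2 : ∀ i : Fin pb.dim, (u.toLinearMap.baseChange k) (bk i) =
          ((1 : k) ⊗ₜ[R] ξ) ^ (i : ℕ) := by
        intro i
        rw [Algebra.TensorProduct.basis_apply, LinearMap.baseChange_tmul, PowerBasis.coe_basis,
          Algebra.TensorProduct.tmul_pow, one_pow]
        congr 1
        change u ((AdjoinRoot.root χ) ^ (i : ℕ)) = _
        rw [map_pow]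
        congr 1
        change u (AdjoinRoot.mk χ X) = _
        rw [hu, aeval_X]
      simp_rw [h2]
      exact hlik.comp (fun i : Fin pb.dim => (⟨i, by rw [← hpbdim]; exact i.2⟩ : Fin r))
        (fun i j hij => Fin.ext (by simpa using congrArg Fin.val hij))
    have h3 : m = ∑ i, bk.repr m i • bk i := (bk.sum_repr m).symm
    rw [h3, map_sum] at hm
    simp_rw [map_smul] at hm
    have h4 := Fintype.linearIndependent_iff.mp hlik' _ hm
    rw [h3]
    exact Finset.sum_eq_zero (fun i _ => by rw [h4 i, zero_smul])


end


/-- Over a local base where the open neighbourhood is the whole scheme. Let R be a local ring with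
residue field k and A an Azumaya algebra over R whose rank as a (free) R-module is r². Then A has a
maximal étale subalgebra: there are a commutative R-algebra E, finite étale and free of rank r over
R, and an R-algebra homomorphism u : E → A which is injective on the special fibre, k ⊗_R E → k ⊗_R
A. -/
theorem result (R : Type u) [CommRing R] [IsLocalRing R] (A : Type u) [Ring A] [Algebra R A] [IsAzumaya R A] (r : ℕ) (hA : Module.finrank R A = r ^ 2) : ∃ (E : Type u) (_ : CommRing E) (_ : Algebra R E), Algebra.Etale R E ∧ Module.Finite R E ∧ Module.Free R E ∧ Module.finrank R E = r ∧ ∃ u : E →ₐ[R] A, Function.Injective (u.toLinearMap.lTensor (IsLocalRing.ResidueField R)) := by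
  classical
  exact main R A r hA

end Groth.Agent.S5710
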