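import Groth.Statements.S5717
import Mathlib
import Groth.Agent.Lib.Helper7.Azumaya.BaseChange

set_option autoImplicit false
universe u v
open TensorProduct
open Dix

namespace Groth.Agent.S5717

/-- Implication (iii bis) ⇒ (ii), over an affine base with one faithfully flat cover. Let R be a
commutative ring and A an R-algebra whose underlying R-module is finitely presented. If there are a
faithfully flat commutative R-algebra R' and an integer r ≥ 1 such that R' ⊗_R A is isomorphic as an
R'-algebra to the matrix algebra M_r(R'), then A is an Azumaya algebra over R (finite locally free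
with A ⊗ A° → End_R(A) bijective). (The published condition asks the cover only to be surjective;
with that reading the implication fails — R = k[ε], A = R/(ε), R' = k — so this row asks R' to be
faithfully flat.) -/
theorem result (R : Type u) [CommRing R] (A : Type u) [Ring A] [Algebra R A] [Module.FinitePresentation R A] (R' : Type u) [CommRing R'] [Algebra R R'] [Module.FaithfullyFlat R R'] (r : ℕ) (hr : 1 ≤ r) (e : (R' ⊗[R] A) ≃ₐ[R'] Matrix (Fin r) (Fin r) R') : IsAzumaya R A := by
  classical
  haveI : Module.Finite R A := inferInstance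
  haveI : Module.Free R' (R' ⊗[R] A) := Module.Free.of_equiv e.symm.toLinearEquiv
  haveI : Module.Flat R' (R' ⊗[R] A) := inferInstance
  haveI : Module.Flat R A := Module.Flat.of_flat_tensorProduct R A R'
  haveI : Module.Projective R A := Module.Flat.projective_of_finitePresentation
  haveI : Nonempty (Fin r) := ⟨⟨0, hr⟩⟩
  have hinj : Function.Injective (algebraMap R R') := FaithfulSMul.algebraMap_injective R R'
  haveI : FaithfulSMul R A := by
    refine ⟨fun {r₁ r₂} hr' => ?_⟩
    apply hinj
    have h1 : ∀ x : R' ⊗[R] A, r₁ • x = r₂ • x := by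
      intro x
      induction x using TensorProduct.induction_on with
      | zero => simp
      | tmul s a => rw [← TensorProduct.tmul_smul, ← TensorProduct.tmul_smul, hr' a]
      | add x y hx hy => rw [smul_add, smul_add, hx, hy]
    have h2 := h1 1
    rw [← algebraMap_smul R' r₁ (1 : R' ⊗[R] A), ← algebraMap_smul R' r₂ (1 : R' ⊗[R] A)] at h2
    have h3 := congrArg e h2
    rw [map_smul, map_smul, map_one] at h3
    have h4 := congrFun (congrFun h3 ⟨0, hr⟩) ⟨0, hr⟩
    simpa using h4
  refine ⟨?_⟩
  have h1 := Groth.Agent.Helper7.Azumaya.mulLeftRight_comp_Phi R R' A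
  haveI : IsAzumaya R' (Matrix (Fin r) (Fin r) R') := IsAzumaya.matrix R' (Fin r)
  haveI : IsAzumaya R' (R' ⊗[R] A) := IsAzumaya.of_AlgEquiv R' _ _ e.symm
  have h2 : Function.Bijective ((AlgHom.mulLeftRight R' (R' ⊗[R] A)).toLinearMap ∘ₗ
      (Groth.Agent.Helper7.Azumaya.Phi R R' A).toLinearMap) := by
    rw [LinearMap.coe_comp]
    exact (IsAzumaya.bij (R := R') (A := R' ⊗[R] A)).comp
      (Groth.Agent.Helper7.Azumaya.Phi R R' A).bijective
  rw [h1, LinearMap.coe_comp] at h2
  have h3 := (Function.Bijective.of_comp_iff'
    (Groth.Agent.Helper7.Azumaya.tensorProduct_bijective R R' A A) _).mp h2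
  rw [LinearMap.baseChange_eq_ltensor] at h3
  exact (Module.FaithfullyFlat.lTensor_bijective_iff_bijective R R' _).mp h3

end Groth.Agent.S5717
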