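import Groth.Statements.S5744
import Mathlib
import Groth.Agent.Lib.Helper1.QcProd
import Groth.Agent.Lib.Helper1.PushQc
import Groth.Agent.Lib.Helper1.TCx

set_option autoImplicit false
universe u
open Coherent

namespace Groth.Agent.S5744

open AlgebraicGeometry CategoryTheory in
/-- For the Čech complex of sheaves indexed by all ordered tuples with products as terms; over a finite
index type these terms are finite direct sums. Let X be a separated scheme, (U_i)_{i ∈ ι} a finite
family of affine opens covering X, and F a quasi-coherent O_X-module. Then for every p the degree-p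
term of the Čech complex of sheaves 𝔠(𝒰, F), the product over ordered (p+1)-tuples of the direct
images (j_{i_0…i_p})_*(F|_{U_{i_0…i_p}}), is a quasi-coherent O_X-module. -/
theorem result {X : Scheme.{u}} [X.IsSeparated] {ι : Type u}
    [Finite ι] (𝒰 : ι → X.Opens) (h𝒰 : ∀ i, IsAffineOpen (𝒰 i)) (hcov : ⨆ i, 𝒰 i = ⊤)
    (F : X.Modules) [Coh.IsQCoh F] (p : ℕ) :
    Coh.IsQCoh (((CechOX.cechSh 𝒰).obj F).X p) := by
  have hF : F.IsQuasicoherent := ‹Coh.IsQCoh F›
  have key : ∀ W : X.Opens, IsAffineOpen W → ((CechOX.pushRestr W).obj F).IsQuasicoherent := by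
    intro W hW
    have h1 : IsAffine W.toScheme := hW
    have h2 : IsAffineHom W.ι := by
      have : IsAffineHom (W.ι ≫ Limits.terminal.from X) := by
        rw [Limits.terminal.comp_from]
        infer_instance
      exact IsAffineHom.of_comp (f := W.ι) (g := Limits.terminal.from X)
    have h3 : (F.restrict W.ι).IsQuasicoherent := inferInstance
    exact Groth.Agent.Helper1.PushQc.isQuasicoherent_pushforward W.ι (F.restrict W.ι)
  have key2 : ∀ a : Fin (p + 1) → ι,
      ((CechOX.pushRestr (Limits.piObj fun k => 𝒰 (a k))).obj F).IsQuasicoherent := by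
    intro a
    apply key
    have := Groth.Agent.Helper1.TCx.W_eq_iInf (X := X.toTopCat) 𝒰 a
    rw [Groth.Agent.Helper1.TCx.W] at this
    rw [this]
    exact IsAffineOpen.iInf (fun k => h𝒰 (a k))
  exact Groth.Agent.Helper1.QcAbel.isQuasicoherent_pi
    (fun a : Fin (p + 1) → ι => (CechOX.pushRestr (Limits.piObj fun k => 𝒰 (a k))).obj F)

end Groth.Agent.S5744
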