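import Groth.Statements.S5753
import Groth.Agent.Lib.Helper8.Depth3

set_option autoImplicit false
universe u
open EGA41

namespace Groth.Agent.S5753

/-- Let A be a Noetherian local ring with maximal ideal m and residue field k, and N a finitely
generated A-module. Then no element of m is N-regular (multiplication by it injective) if and only
if Hom_A(k, N) is nonzero. Applied to N = M/(x_1 M + ... + x_n M) for an M-regular sequence (x_i) in
m, this says that the sequence cannot be extended by an element of m if and only if Hom_A(k, M/(x_1
M + ... + x_n M)) ≠ 0. (The published statement allows an arbitrary module; for the direct sum N of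
the quotients of a two-dimensional regular local ring by all its height-one primes no element of m
is N-regular while Hom_A(k, N) = 0, and the published proof uses finiteness of the set of associated
primes, so N is taken finitely generated here.) -/
theorem result (A : Type u) [CommRing A]
    [IsLocalRing A] [IsNoetherianRing A] (N : Type u) [AddCommGroup N] [Module A N] [Module.Finite A N] :
    (∀ x ∈ IsLocalRing.maximalIdeal A, ¬ IsSMulRegular N x) ↔
      Nontrivial (IsLocalRing.ResidueField A →ₗ[A] N) := by
  rw [Groth.Agent.Helper8.Depth.forall_not_isSMulRegular_iff A N, AssociatedPrimes.mem_iff,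
    isAssociatedPrime_iff]
  constructor
  · rintro ⟨-, n, hn⟩
    have hn0 : n ≠ 0 := by
      intro h0
      have : (1 : A) ∈ IsLocalRing.maximalIdeal A := by
        rw [hn, Submodule.mem_colon_singleton, h0]; simp
      exact (IsLocalRing.maximalIdeal.isMaximal A).ne_top ((Ideal.eq_top_iff_one _).mpr this)
    have hle : IsLocalRing.maximalIdeal A ≤ LinearMap.ker (LinearMap.toSpanSingleton A N n) := by
      intro x hx
      rw [hn, Submodule.mem_colon_singleton] at hx
      simpa using hx
    let f : IsLocalRing.ResidueField A →ₗ[A] N :=
      Submodule.liftQ (IsLocalRing.maximalIdeal A) (LinearMap.toSpanSingleton A N n) hle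
    refine ⟨f, 0, fun hf => hn0 ?_⟩
    have h1 : f (IsLocalRing.residue A 1) = n := by
      change Submodule.liftQ _ _ hle (Submodule.Quotient.mk 1) = n
      rw [Submodule.liftQ_apply, LinearMap.toSpanSingleton_apply, one_smul]
    rw [← h1, hf]; rfl
  · intro hnt
    obtain ⟨f, hf⟩ := exists_ne (0 : IsLocalRing.ResidueField A →ₗ[A] N)
    have hn0 : f 1 ≠ 0 := by
      intro h1
      apply hf
      ext z
      obtain ⟨a, rfl⟩ := IsLocalRing.residue_surjective z
      have : IsLocalRing.residue A a = a • (1 : IsLocalRing.ResidueField A) := by
        rw [Algebra.smul_def, mul_one]; rfl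
      rw [this, map_smul, h1, smul_zero]; rfl
    refine ⟨inferInstance, f 1, ?_⟩
    have hle : IsLocalRing.maximalIdeal A ≤ (⊥ : Submodule A N).colon {f 1} := by
      intro x hx
      rw [Submodule.mem_colon_singleton, Submodule.mem_bot, ← map_smul]
      have : x • (1 : IsLocalRing.ResidueField A) = 0 := by
        rw [Algebra.smul_def, mul_one]
        exact (IsLocalRing.residue_eq_zero_iff x).mpr hx
      rw [this, map_zero]
    refine (IsLocalRing.maximalIdeal.isMaximal A).eq_of_le ?_ hle
    intro htop
    have : (1 : A) ∈ (⊥ : Submodule A N).colon {f 1} := htop ▸ Submodule.mem_top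
    rw [Submodule.mem_colon_singleton, one_smul] at this
    exact hn0 (by simpa using this)

end Groth.Agent.S5753
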