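import Groth.Statements.S5755
import Groth.Agent.Lib.Helper8.Depth3

set_option autoImplicit false
universe u
open EGA41

namespace Groth.Agent.S5755

/-- A reduced Noetherian local ring A has depth 0 if and only if A is a field. -/
theorem result (A : Type u) [CommRing A] [IsLocalRing A]
    [IsNoetherianRing A] [IsReduced A] : LocCoh.depth A A = 0 ↔ IsField A := by
  rw [Groth.Agent.Helper8.Depth.depth_eq_zero_iff A A]
  constructor
  · intro h
    obtain ⟨hp, a, ha⟩ := (isAssociatedPrime_iff.mp h)
    have ha0 : a ≠ 0 := by
      intro h0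
      have : (1 : A) ∈ IsLocalRing.maximalIdeal A := by
        rw [ha, Submodule.mem_colon_singleton, h0]; simp
      exact (IsLocalRing.maximalIdeal.isMaximal A).ne_top ((Ideal.eq_top_iff_one _).mpr this)
    by_cases ham : a ∈ IsLocalRing.maximalIdeal A
    · exfalso
      have h1 : a ∈ (⊥ : Submodule A A).colon {a} := ha ▸ ham
      rw [Submodule.mem_colon_singleton] at h1
      have h2 : a * a = 0 := by simpa using h1
      exact ha0 (IsReduced.eq_zero a ⟨2, by rw [pow_two]; exact h2⟩)
    · have hu : IsUnit a := by
        by_contra hnu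
        exact ham ((IsLocalRing.mem_maximalIdeal a).mpr hnu)
      rw [IsLocalRing.isField_iff_maximalIdeal_eq]
      rw [eq_bot_iff]
      intro x hx
      rw [ha, Submodule.mem_colon_singleton] at hx
      have h3 : x * a = 0 := by simpa using hx
      have := hu.mul_left_eq_zero.mp h3
      simpa using this
  · intro hf
    have hm : IsLocalRing.maximalIdeal A = ⊥ := IsLocalRing.isField_iff_maximalIdeal_eq.mp hf
    rw [AssociatedPrimes.mem_iff, isAssociatedPrime_iff]
    refine ⟨inferInstance, 1, ?_⟩
    rw [hm]
    ext x
    rw [Submodule.mem_colon_singleton]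
    simp

end Groth.Agent.S5755
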