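import Groth.Statements.S5764
import Mathlib.RingTheory.Ideal.Height
import Mathlib.RingTheory.Ideal.GoingDown

set_option autoImplicit false
universe u
open EGA41

namespace Groth.Agent.S5764

/-- Let B be an integral domain, A a local subring of B which is integrally closed (in its field of
fractions), and suppose B is integral over A. Then dim(B_n) = dim(A) for every maximal ideal n of B. -/
theorem result (A B : Type u) [CommRing A]
    [CommRing B] [IsDomain B] [Algebra A B] (hinj : Function.Injective (algebraMap A B)) [IsDomain A]
    [IsLocalRing A] [IsIntegrallyClosed A] [Algebra.IsIntegral A B] (n : Ideal B) [n.IsMaximal] :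
    ringKrullDim (Localization.AtPrime n) = ringKrullDim A := by
  have hfs : FaithfulSMul A B := (faithfulSMul_iff_algebraMap_injective A B).mpr hinj
  have hgd : Algebra.HasGoingDown A B := inferInstance
  rw [IsLocalization.AtPrime.ringKrullDim_eq_height n (Localization.AtPrime n),
    ← IsLocalRing.maximalIdeal_height_eq_ringKrullDim (R := A)]
  have hmax : (n.comap (algebraMap A B)).IsMaximal :=
    Ideal.isMaximal_comap_of_isIntegral_of_isMaximal n
  have hcomap : n.comap (algebraMap A B) = IsLocalRing.maximalIdeal A :=
    IsLocalRing.eq_maximalIdeal hmax
  congr 1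
  have e1 : n.height = Order.height (⟨n, inferInstance⟩ : PrimeSpectrum B) :=
    PrimeSpectrum.height_eq_orderHeight ⟨n, inferInstance⟩
  have e2 : (IsLocalRing.maximalIdeal A).height =
      Order.height (⟨IsLocalRing.maximalIdeal A, inferInstance⟩ : PrimeSpectrum A) :=
    PrimeSpectrum.height_eq_orderHeight ⟨IsLocalRing.maximalIdeal A, inferInstance⟩
  rw [e1, e2]
  apply le_antisymm
  · -- comap is strictly monotone on prime spectra for integral extensions
    have hsm : StrictMono (PrimeSpectrum.comap (algebraMap A B)) := by
      intro p q hpq
      have : p.asIdeal < q.asIdeal := hpq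
      exact Ideal.IsIntegral.comap_lt_comap (R := A) this
    have := Order.height_le_height_apply_of_strictMono _ hsm ⟨n, inferInstance⟩
    refine this.trans (le_of_eq ?_)
    congr 1
    exact PrimeSpectrum.ext hcomap
  · apply Order.height_le
    intro l hl
    have lo : n.LiesOver l.last.asIdeal := by
      constructor
      rw [hl]
      exact hcomap.symm
    obtain ⟨L, hlen, hlast, -⟩ := Ideal.exists_ltSeries_of_hasGoingDown l n
    rw [← hlen]
    exact_mod_cast Order.length_le_height (le_of_eq hlast)

end Groth.Agent.S5764
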