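import Groth.Statements.S5765
import Groth.Agent.Lib.Helper8.Depth12

set_option autoImplicit false
universe u
open EGA41

namespace Groth.Agent.S5765

/-- Let A be a ring, M a finitely generated A-module and p a prime ideal of A. Then dim_{A_p}(M_p) +
dim_A(M/pM) ≤ dim_A(M). -/
theorem result (A : Type u) [CommRing A] (M : Type u)
    [AddCommGroup M] [Module A M] [Module.Finite A M] (p : Ideal A) [p.IsPrime] :
    Module.supportDim (Localization.AtPrime p) (LocalizedModule p.primeCompl M) +
        Module.supportDim A (M ⧸ (p • (⊤ : Submodule A M))) ≤ Module.supportDim A M := by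
  open Groth.Agent.Helper8.Depth in
  by_cases hp : (⟨p, inferInstance⟩ : PrimeSpectrum A) ∈ Module.support A M
  · have h1 := supportDim_localizedModule_add_dim_quotient_le p M hp
    have h2 := supportDim_quotient_prime_eq (M := M) (⟨p, inferInstance⟩ : PrimeSpectrum A) hp
    rw [h2]
    exact h1
  · have hs : Subsingleton (LocalizedModule p.primeCompl M) := Module.notMem_support_iff.mp hp
    rw [Module.supportDim_eq_bot_of_subsingleton, WithBot.bot_add]
    exact bot_le

end Groth.Agent.S5765
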