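import Groth.Statements.S5768
import Groth.Agent.Lib.Helper8.KG2

set_option autoImplicit false
universe u
open EGA41

namespace Groth.Agent.S5768

namespace Aux

open Groth.Agent.Helper8.KoszulLib

variable {A : Type u} [CommRing A] (M : Type u) [AddCommGroup M] [Module A M]

/-- `M/(xs ++ ys)M ≅ (M/xs M)/ys (M/xs M)`. -/
noncomputable def appendEquiv (xs ys : List A) :
    (M ⧸ (Ideal.ofList (xs ++ ys) • (⊤ : Submodule A M))) ≃ₗ[A]
      ((M ⧸ (Ideal.ofList xs • (⊤ : Submodule A M))) ⧸
        (Ideal.ofList ys • (⊤ : Submodule A (M ⧸ (Ideal.ofList xs • (⊤ : Submodule A M)))))) := by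
  have h1 : Ideal.ofList (xs ++ ys) • (⊤ : Submodule A M) =
      Ideal.ofList xs • (⊤ : Submodule A M) ⊔ Ideal.ofList ys • (⊤ : Submodule A M) := by
    rw [Ideal.ofList_append, Submodule.sup_smul]
  have h2 : Ideal.ofList ys • (⊤ : Submodule A (M ⧸ (Ideal.ofList xs • (⊤ : Submodule A M)))) =
      (Ideal.ofList ys • (⊤ : Submodule A M)).map
        (Ideal.ofList xs • (⊤ : Submodule A M)).mkQ := by
    rw [Submodule.map_smul'', Submodule.map_top, Submodule.range_mkQ]
  exact (Submodule.quotEquivOfEq _ _ h1).trans
    ((Submodule.quotientQuotientEquivQuotientSup _ _).symm.trans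
      (Submodule.quotEquivOfEq _ _ h2.symm))

theorem main (A : Type u) [CommRing A] [IsNoetherianRing A] [Finite (MaximalSpectrum A)]
    (M : Type u) [AddCommGroup M] [Module A M] [Module.Finite A M] [Nontrivial M]
    (xs : List A) (hxs : ∀ x ∈ xs, x ∈ Ring.jacobson A) :
    Module.supportDim A (M ⧸ (Ideal.ofList xs • (⊤ : Submodule A M))) + xs.length =
        Module.supportDim A M ↔
      ∃ ys : List A, (∀ y ∈ ys, y ∈ Ring.jacobson A) ∧
        ((xs ++ ys).length : WithBot ℕ∞) = Module.supportDim A M ∧
        IsFiniteLength A (M ⧸ (Ideal.ofList (xs ++ ys) • (⊤ : Submodule A M))) := by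
  -- the quotient is nontrivial by Nakayama
  have hle : Ideal.ofList xs ≤ Ideal.jacobson ⊥ := by
    unfold Ideal.ofList
    rw [Ideal.span_le]
    intro x hx
    show x ∈ (⊥ : Ideal A).jacobson
    rw [Ideal.jacobson_bot]
    exact hxs x hx
  haveI hnt : Nontrivial (M ⧸ (Ideal.ofList xs • (⊤ : Submodule A M))) := by
    rw [Submodule.Quotient.nontrivial_iff]
    intro htop
    have h1 : (⊤ : Submodule A M) ≤ Ideal.ofList xs • (⊤ : Submodule A M) := htop.ge
    have h2 := Submodule.eq_bot_of_le_smul_of_le_jacobson_bot (Ideal.ofList xs) ⊤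
      (Module.finite_def.mp inferInstance) h1 hle
    exact top_ne_bot h2
  obtain ⟨e, he⟩ := exists_supportDim_eq (A := A) (M ⧸ (Ideal.ofList xs • (⊤ : Submodule A M)))
  obtain ⟨d, hd⟩ := exists_supportDim_eq (A := A) M
  -- parameters of the quotient
  obtain ⟨zs, hzlen, hzj, hzfl⟩ := exists_parameters_of_supportDim_le e
    (M ⧸ (Ideal.ofList xs • (⊤ : Submodule A M))) he.le
  have hzfl' : IsFiniteLength A (M ⧸ (Ideal.ofList (xs ++ zs) • (⊤ : Submodule A M))) :=
    (appendEquiv M xs zs).symm.isFiniteLength hzfl
  have hmemz : ∀ a ∈ xs ++ zs, a ∈ Ring.jacobson A := by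
    intro a ha
    rcases List.mem_append.mp ha with h | h
    · exact hxs a h
    · exact hzj a h
  have hgen := supportDim_le_length' (xs ++ zs) M hmemz hzfl'
  rw [hd, List.length_append, hzlen] at hgen
  have hgen' : d ≤ xs.length + e := by exact_mod_cast hgen
  rw [he, hd]
  constructor
  · intro h
    have h' : e + xs.length = d := by exact_mod_cast h
    refine ⟨zs, hzj, ?_, hzfl'⟩
    rw [List.length_append, hzlen]
    have : xs.length + e = d := by omega
    exact_mod_cast this
  · rintro ⟨ys, hyj, hylen, hyfl⟩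
    have hyfl' := (appendEquiv M xs ys).isFiniteLength hyfl
    have h1 := supportDim_le_length' ys (M ⧸ (Ideal.ofList xs • (⊤ : Submodule A M))) hyj hyfl'
    rw [he] at h1
    have h1' : e ≤ ys.length := by exact_mod_cast h1
    rw [List.length_append] at hylen
    have h2 : xs.length + ys.length = d := by exact_mod_cast hylen
    have : e + xs.length = d := by omega
    exact_mod_cast this

end Aux

/-- Let A be a semi-local Noetherian ring with Jacobson radical r, M a nonzero finitely generated
A-module and x_1, ..., x_k elements of r. One always has dim(M/(x_1 M + ... + x_k M)) ≥ dim(M) - k,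
and equality holds if and only if there exist further elements of r which together with the x_i form
a system of parameters for M (dim(M) elements of r modulo which M has finite length). -/
theorem result (A : Type u) [CommRing A]
    [IsNoetherianRing A] [Finite (MaximalSpectrum A)] (M : Type u) [AddCommGroup M] [Module A M]
    [Module.Finite A M] [Nontrivial M] (xs : List A) (hxs : ∀ x ∈ xs, x ∈ Ring.jacobson A) :
    Module.supportDim A (M ⧸ (Ideal.ofList xs • (⊤ : Submodule A M))) + xs.length = Module.supportDim A M ↔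
      ∃ ys : List A, (∀ y ∈ ys, y ∈ Ring.jacobson A) ∧
        ((xs ++ ys).length : WithBot ℕ∞) = Module.supportDim A M ∧
        IsFiniteLength A (M ⧸ (Ideal.ofList (xs ++ ys) • (⊤ : Submodule A M))) := by
  exact Aux.main A M xs hxs

end Groth.Agent.S5768
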