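import Groth.Statements.S5769
import Mathlib.RingTheory.Ideal.KrullsHeightTheorem

set_option autoImplicit false
universe u
open EGA41

namespace Groth.Agent.S5769

/-- Let φ : A → B be a local homomorphism of Noetherian local rings, m the maximal ideal of A and k its
residue field. Then dim(B) ≤ dim(A) + dim(B ⊗_A k), where B ⊗_A k = B/mB. -/
theorem result (A B : Type u) [CommRing A] [CommRing B]
    [IsLocalRing A] [IsLocalRing B] [IsNoetherianRing A] [IsNoetherianRing B] [Algebra A B]
    [IsLocalHom (algebraMap A B)] :
    ringKrullDim B ≤ ringKrullDim A +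
      ringKrullDim (B ⧸ (IsLocalRing.maximalIdeal A).map (algebraMap A B)) := by
  have hlo : (IsLocalRing.maximalIdeal B).LiesOver (IsLocalRing.maximalIdeal A) :=
    ⟨(IsLocalRing.maximalIdeal_comap (algebraMap A B)).symm⟩
  have h := Ideal.height_le_height_add_of_liesOver (IsLocalRing.maximalIdeal A)
    (IsLocalRing.maximalIdeal B)
  rw [← IsLocalRing.maximalIdeal_height_eq_ringKrullDim (R := B),
    ← IsLocalRing.maximalIdeal_height_eq_ringKrullDim (R := A)]
  have hne : (IsLocalRing.maximalIdeal B).map
      (Ideal.Quotient.mk ((IsLocalRing.maximalIdeal A).map (algebraMap A B))) ≠ ⊤ := by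
    intro htop
    have h1 := congrArg (Ideal.comap (Ideal.Quotient.mk
      ((IsLocalRing.maximalIdeal A).map (algebraMap A B)))) htop
    rw [Ideal.comap_map_of_surjective _ Ideal.Quotient.mk_surjective, Ideal.comap_top,
      ← RingHom.ker_eq_comap_bot, Ideal.mk_ker,
      sup_eq_left.mpr (IsLocalRing.map_maximalIdeal_le (algebraMap A B))] at h1
    exact (IsLocalRing.maximalIdeal.isMaximal B).ne_top h1
  have h2 := Ideal.height_le_ringKrullDim_of_ne_top hne
  calc ((IsLocalRing.maximalIdeal B).height : WithBot ℕ∞)
      ≤ (((IsLocalRing.maximalIdeal A).height + ((IsLocalRing.maximalIdeal B).map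
        (Ideal.Quotient.mk ((IsLocalRing.maximalIdeal A).map (algebraMap A B)))).height : ℕ∞) :
          WithBot ℕ∞) := by exact_mod_cast h
    _ = ((IsLocalRing.maximalIdeal A).height : WithBot ℕ∞) + (((IsLocalRing.maximalIdeal B).map
        (Ideal.Quotient.mk ((IsLocalRing.maximalIdeal A).map (algebraMap A B)))).height :
          WithBot ℕ∞) := by push_cast; rfl
    _ ≤ _ := by gcongr

end Groth.Agent.S5769
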