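import Groth.Statements.S5771
import Groth.Agent.S5769
import Mathlib.RingTheory.KrullDimension.NonZeroDivisors

set_option autoImplicit false
universe u
open EGA41

namespace Groth.Agent.S5771

/-- Let φ : A → B be a local homomorphism of Noetherian local rings, m the maximal ideal of A, and
suppose mB is an ideal of definition of B (equivalently dim(B/mB) = 0). Then dim(B) ≤ dim(A); if
moreover A is an integral domain and dim(A) = dim(B), then φ is injective. -/
theorem result (A B : Type u) [CommRing A] [CommRing B]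
    [IsLocalRing A] [IsLocalRing B] [IsNoetherianRing A] [IsNoetherianRing B] [Algebra A B]
    [IsLocalHom (algebraMap A B)]
    (hdef : ringKrullDim (B ⧸ (IsLocalRing.maximalIdeal A).map (algebraMap A B)) = 0) :
    ringKrullDim B ≤ ringKrullDim A ∧
      (IsDomain A → ringKrullDim A = ringKrullDim B → Function.Injective (algebraMap A B)) := by
  have part1 : ∀ (A' : Type u) [CommRing A'] [IsLocalRing A'] [IsNoetherianRing A'] [Algebra A' B]
      [IsLocalHom (algebraMap A' B)],
      ringKrullDim (B ⧸ (IsLocalRing.maximalIdeal A').map (algebraMap A' B)) = 0 →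
      ringKrullDim B ≤ ringKrullDim A' := by
    intro A' _ _ _ _ _ h0
    have := Groth.Agent.S5769.result A' B
    rwa [h0, add_zero] at this
  refine ⟨part1 A hdef, ?_⟩
  intro hdom hdim
  rw [injective_iff_map_eq_zero]
  intro a ha
  by_contra hane
  set q := RingHom.ker (algebraMap A B) with hq
  have haq : a ∈ q := ha
  have hqtop : q ≠ ⊤ := RingHom.ker_ne_top _
  have hnt : Nontrivial (A ⧸ q) := Ideal.Quotient.nontrivial_iff.mpr hqtop
  have hloc : IsLocalRing (A ⧸ q) :=
    IsLocalRing.of_surjective' (Ideal.Quotient.mk q) Ideal.Quotient.mk_surjective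
  let _ : Algebra (A ⧸ q) B := (RingHom.kerLift (algebraMap A B)).toAlgebra
  have halg : ∀ x : A, algebraMap (A ⧸ q) B (Ideal.Quotient.mk q x) = algebraMap A B x := by
    intro x
    rfl
  have hlh : IsLocalHom (algebraMap (A ⧸ q) B) := by
    constructor
    intro x hx
    obtain ⟨x, rfl⟩ := Ideal.Quotient.mk_surjective x
    rw [halg] at hx
    exact (isUnit_of_map_unit (algebraMap A B) x hx).map (Ideal.Quotient.mk q)
  have hideal : (IsLocalRing.maximalIdeal (A ⧸ q)).map (algebraMap (A ⧸ q) B) =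
      (IsLocalRing.maximalIdeal A).map (algebraMap A B) := by
    rw [← IsLocalRing.map_maximalIdeal_of_surjective (Ideal.Quotient.mk q)
      Ideal.Quotient.mk_surjective, Ideal.map_map]
    congr 1
  have hdef' : ringKrullDim (B ⧸ (IsLocalRing.maximalIdeal (A ⧸ q)).map (algebraMap (A ⧸ q) B)) = 0 := by
    rw [hideal]
    exact hdef
  have h1 : ringKrullDim B ≤ ringKrullDim (A ⧸ q) := part1 (A ⧸ q) hdef'
  -- the quotient by a nonzero ideal of a domain has smaller dimension
  have hanz : a ∈ nonZeroDivisors A := mem_nonZeroDivisors_of_ne_zero hane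
  have h2 : ringKrullDim (A ⧸ Ideal.span {a}) + 1 ≤ ringKrullDim A :=
    ringKrullDim_quotient_succ_le_of_nonZeroDivisor hanz
  have hle : Ideal.span {a} ≤ q := (Ideal.span_singleton_le_iff_mem q).mpr haq
  have h3 : ringKrullDim (A ⧸ q) ≤ ringKrullDim (A ⧸ Ideal.span {a}) :=
    ringKrullDim_le_of_surjective (Ideal.Quotient.factor hle) (Ideal.Quotient.factor_surjective hle)
  have h4 : ringKrullDim (A ⧸ q) + 1 ≤ ringKrullDim (A ⧸ q) := by
    calc ringKrullDim (A ⧸ q) + 1 ≤ ringKrullDim (A ⧸ Ideal.span {a}) + 1 := by gcongr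
      _ ≤ ringKrullDim A := h2
      _ = ringKrullDim B := hdim
      _ ≤ ringKrullDim (A ⧸ q) := h1
  have hfin : ringKrullDim (A ⧸ q) ≠ ⊤ := ringKrullDim_ne_top
  have hbot : ringKrullDim (A ⧸ q) ≠ ⊥ := ringKrullDim_ne_bot
  obtain ⟨n, hn⟩ : ∃ n : ℕ, ringKrullDim (A ⧸ q) = (n : WithBot ℕ∞) := by
    obtain ⟨m, hm⟩ := WithBot.ne_bot_iff_exists.mp hbot
    rw [← hm] at hfin
    have hm' : m ≠ ⊤ := fun h => hfin (by rw [h]; rfl)
    obtain ⟨n, hn⟩ := ENat.ne_top_iff_exists.mp hm'
    exact ⟨n, by rw [← hm, ← hn]; rfl⟩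
  rw [hn] at h4
  have : ((n + 1 : ℕ) : WithBot ℕ∞) ≤ (n : WithBot ℕ∞) := by exact_mod_cast h4
  have : n + 1 ≤ n := by exact_mod_cast this
  omega

end Groth.Agent.S5771
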