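import Groth.Statements.S5772
import Mathlib.RingTheory.Filtration

set_option autoImplicit false
universe u
open scoped Pointwise
open EGA41

namespace Groth.Agent.S5772

/-- Let A be a Noetherian ring, M a finitely generated A-module and f an element of A. Then f is
M-regular (multiplication by f on M is injective) if and only if f is M-quasi-regular, i.e. the
canonical surjection (M/fM)[T] → gr(M) for the (f)-adic filtration is bijective, which amounts to:
for every k ≥ 0 and x ∈ M, f^k x ∈ f^(k+1) M implies x ∈ fM. -/
theorem result (A : Type u) [CommRing A] [IsNoetherianRing A] (M : Type u)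
    [AddCommGroup M] [Module A M] [Module.Finite A M] (f : A) :
    IsSMulRegular M f ↔
      ∀ (k : ℕ) (x : M), f ^ k • x ∈ f ^ (k + 1) • (⊤ : Submodule A M) → x ∈ f • (⊤ : Submodule A M) := by
  constructor
  · intro hreg k x hx
    obtain ⟨y, -, hy⟩ := (Submodule.mem_smul_pointwise_iff_exists _ _ _).mp hx
    have hk : IsSMulRegular M (f ^ k) := hreg.pow k
    have : f ^ k • (f • y) = f ^ k • x := by
      rw [← hy, pow_succ, mul_smul]
    have hxy : f • y = x := hk this
    rw [← hxy]
    exact Submodule.smul_mem_pointwise_smul y f ⊤ trivial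
  · intro h
    apply IsSMulRegular.of_right_eq_zero_of_smul
    intro x hx
    -- x lies in all f ^ n M
    have hmem : ∀ n : ℕ, ∃ y : M, f ^ n • y = x := by
      intro n
      induction n with
      | zero => exact ⟨x, by simp⟩
      | succ n ih =>
        obtain ⟨y, hy⟩ := ih
        have h1 : f ^ (n + 1) • y ∈ f ^ (n + 1 + 1) • (⊤ : Submodule A M) := by
          have : f ^ (n + 1) • y = 0 := by
            rw [pow_succ', mul_smul, hy, hx]
          rw [this]
          exact zero_mem _
        have h2 := h (n + 1) y h1
        obtain ⟨z, -, hz⟩ := (Submodule.mem_smul_pointwise_iff_exists _ _ _).mp h2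
        refine ⟨z, ?_⟩
        rw [pow_succ, mul_smul, hz, hy]
    have hx' : x ∈ (⨅ i : ℕ, (Ideal.span {f}) ^ i • ⊤ : Submodule A M) := by
      rw [Submodule.mem_iInf]
      intro n
      rw [Ideal.span_singleton_pow, Submodule.ideal_span_singleton_smul]
      obtain ⟨y, hy⟩ := hmem n
      rw [← hy]
      exact Submodule.smul_mem_pointwise_smul y (f ^ n) ⊤ trivial
    obtain ⟨r, hr⟩ := (Ideal.mem_iInf_smul_pow_eq_bot_iff (Ideal.span {f}) x).mp hx'
    obtain ⟨a, ha⟩ := Ideal.mem_span_singleton'.mp r.2
    rw [← hr, ← ha, mul_smul, hx, smul_zero]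

end Groth.Agent.S5772
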