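import Groth.Statements.S5780
import Mathlib.RingTheory.Ideal.AssociatedPrime.Finiteness
import Mathlib.RingTheory.Nakayama

set_option autoImplicit false
universe u
open EGA41

namespace Groth.Agent.S5780

/-- Let A be a Noetherian local ring with maximal ideal m. If every element of m which is not in m² is a
zero divisor in A, then there is a nonzero c in A with c m = 0, i.e. m is an associated prime of A. -/
theorem result (A : Type u) [CommRing A]
    [IsLocalRing A] [IsNoetherianRing A]
    (h : ∀ a ∈ IsLocalRing.maximalIdeal A, a ∉ IsLocalRing.maximalIdeal A ^ 2 → ¬ IsSMulRegular A a) :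
    IsLocalRing.maximalIdeal A ∈ associatedPrimes A A := by
  classical
  set m := IsLocalRing.maximalIdeal A with hm
  have hsub : (m : Set A) ⊆ ⋃ i ∈ insert (m ^ 2) (associatedPrimes A A), ((id i : Ideal A) : Set A) := by
    intro x hx
    by_cases hx2 : x ∈ m ^ 2
    · exact Set.mem_biUnion (Set.mem_insert _ _) hx2
    · have hreg := h x hx hx2
      have hmem : x ∈ ⋃ p ∈ associatedPrimes A A, (p : Set A) := by
        rw [biUnion_associatedPrimes_eq_compl_regular A A]
        exact hreg
      obtain ⟨q, hq, hxq⟩ := Set.mem_iUnion₂.mp hmem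
      exact Set.mem_biUnion (Set.mem_insert_of_mem _ hq) hxq
  have hfin : (insert (m ^ 2) (associatedPrimes A A)).Finite :=
    (associatedPrimes.finite A A).insert _
  obtain ⟨q, hq, hmq⟩ := (m.subset_union_prime_finite hfin (f := id) (m ^ 2) (m ^ 2)
    (fun i hi hne _ => by
      rcases hi with rfl | hi
      · exact absurd rfl hne
      · exact hi.isPrime)).1 hsub
  have hass : ∀ q ∈ associatedPrimes A A, m ≤ q → m ∈ associatedPrimes A A := by
    intro q hq hmq
    have : m = q := (IsLocalRing.maximalIdeal.isMaximal A).eq_of_le hq.isPrime.ne_top hmq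
    rw [this]
    exact hq
  rcases hq with rfl | hq
  · -- m ≤ m ^ 2, so m = ⊥ by Nakayama
    have hbot : m = ⊥ := by
      apply Submodule.eq_bot_of_le_smul_of_le_jacobson_bot m m (IsNoetherian.noetherian m)
      · simpa [pow_two] using hmq
      · exact IsLocalRing.maximalIdeal_le_jacobson ⊥
    obtain ⟨q, hq⟩ := associatedPrimes.nonempty A A
    refine hass q hq ?_
    rw [hbot]
    exact bot_le
  · exact hass q hq hmq

end Groth.Agent.S5780
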