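import Groth.Statements.S5781
import Mathlib.RingTheory.Ideal.Cotangent
import Mathlib.LinearAlgebra.Basis.VectorSpace
import Mathlib.RingTheory.LocalRing.ResidueField.Basic

set_option autoImplicit false
universe u
open EGA41
open scoped Pointwise

namespace Groth.Agent.S5781

/-- Suppose A is a Noetherian local ring whose maximal ideal is m, and take a ∈ m with a ∉ m². Then the
quotient m/am contains a direct summand isomorphic to m/Aa: concretely, one can find A-linear maps f
: m/Aa → m/am and g : m/am → m/Aa such that g ∘ f is the identity. -/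
theorem result (A : Type u) [CommRing A] [IsLocalRing A]
    [IsNoetherianRing A] (a : A) (ha : a ∈ IsLocalRing.maximalIdeal A) (ha2 : a ∉ IsLocalRing.maximalIdeal A ^ 2) :
    ∃ (f : (↥(IsLocalRing.maximalIdeal A) ⧸ Submodule.span A {(⟨a, ha⟩ : ↥(IsLocalRing.maximalIdeal A))}) →ₗ[A]
          QuotSMulTop a ↥(IsLocalRing.maximalIdeal A))
      (g : QuotSMulTop a ↥(IsLocalRing.maximalIdeal A) →ₗ[A]
          (↥(IsLocalRing.maximalIdeal A) ⧸ Submodule.span A {(⟨a, ha⟩ : ↥(IsLocalRing.maximalIdeal A))})),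
      g.comp f = LinearMap.id := by
  classical
  -- notation
  obtain ⟨𝔪, h𝔪⟩ : ∃ 𝔪 : Ideal A, 𝔪 = IsLocalRing.maximalIdeal A := ⟨_, rfl⟩
  subst h𝔪
  let k := IsLocalRing.ResidueField A
  let V := IsLocalRing.CotangentSpace A
  let a' : ↥(IsLocalRing.maximalIdeal A) := ⟨a, ha⟩
  have ha'v : (a' : A) = a := rfl
  let abar : V := (IsLocalRing.maximalIdeal A).toCotangent a'
  have habar : abar ≠ 0 := by
    intro h
    rw [Ideal.toCotangent_eq_zero, ha'v] at h
    exact ha2 h
  obtain ⟨W, hW⟩ := Submodule.exists_isCompl (Submodule.span k {abar})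
  -- the submodules upstairs
  let J : Submodule A ↥(IsLocalRing.maximalIdeal A) :=
    (W.restrictScalars A).comap (IsLocalRing.maximalIdeal A).toCotangent
  let N : Submodule A ↥(IsLocalRing.maximalIdeal A) := Submodule.span A {a'}
  let T : Submodule A ↥(IsLocalRing.maximalIdeal A) := a • (⊤ : Submodule A ↥(IsLocalRing.maximalIdeal A))
  have hTN : T ≤ N := by
    intro x hx
    obtain ⟨y, -, rfl⟩ := (Submodule.mem_smul_pointwise_iff_exists _ _ _).mp hx
    have : a • y = (y : A) • a' := by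
      apply Subtype.ext
      simp [ha'v, mul_comm]
    rw [this]
    exact Submodule.smul_mem _ _ (Submodule.mem_span_singleton_self a')
  have hJN : J ⊔ N = ⊤ := by
    rw [eq_top_iff]
    intro x _
    have hx : (IsLocalRing.maximalIdeal A).toCotangent x ∈ (Submodule.span k {abar}) ⊔ W := by
      rw [hW.sup_eq_top]; trivial
    obtain ⟨y, hy, w, hw, hyw⟩ := Submodule.mem_sup.mp hx
    obtain ⟨c, rfl⟩ := Submodule.mem_span_singleton.mp hy
    obtain ⟨r, rfl⟩ := IsLocalRing.residue_surjective c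
    rw [Submodule.mem_sup]
    refine ⟨x - r • a', ?_, r • a', Submodule.smul_mem _ _ (Submodule.mem_span_singleton_self a'),
      by abel⟩
    show (IsLocalRing.maximalIdeal A).toCotangent (x - r • a') ∈ W
    rw [map_sub, map_smul, ← hyw]
    have : r • (IsLocalRing.maximalIdeal A).toCotangent a' = (IsLocalRing.residue A r) • abar := by
      rw [← IsLocalRing.ResidueField.algebraMap_eq, algebraMap_smul]
    rw [this, add_sub_cancel_left]
    exact hw
  have hJNT : J ⊓ N ≤ T := by
    intro y hy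
    obtain ⟨hyJ, hyN⟩ := Submodule.mem_inf.mp hy
    obtain ⟨r, rfl⟩ := Submodule.mem_span_singleton.mp hyN
    have h1 : (IsLocalRing.maximalIdeal A).toCotangent (r • a') ∈ W := hyJ
    have h2 : (IsLocalRing.maximalIdeal A).toCotangent (r • a') = (IsLocalRing.residue A r) • abar := by
      rw [map_smul, ← IsLocalRing.ResidueField.algebraMap_eq, algebraMap_smul]
    rw [h2] at h1
    have h3 : (IsLocalRing.residue A r) • abar ∈ Submodule.span k {abar} ⊓ W :=
      Submodule.mem_inf.mpr ⟨Submodule.smul_mem _ _ (Submodule.mem_span_singleton_self abar), h1⟩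
    rw [hW.inf_eq_bot, Submodule.mem_bot, smul_eq_zero] at h3
    rcases h3 with h3 | h3
    · have hr : r ∈ IsLocalRing.maximalIdeal A := (IsLocalRing.residue_eq_zero_iff r).mp h3
      have : r • a' = a • (⟨r, hr⟩ : ↥(IsLocalRing.maximalIdeal A)) := by
        apply Subtype.ext
        simp [ha'v, mul_comm]
      rw [this]
      exact Submodule.smul_mem_pointwise_smul _ _ _ Submodule.mem_top
    · exact absurd h3 habar
  -- downstairs
  let π : ↥(IsLocalRing.maximalIdeal A) →ₗ[A] (↥(IsLocalRing.maximalIdeal A) ⧸ T) := T.mkQ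
  let Jb : Submodule A (↥(IsLocalRing.maximalIdeal A) ⧸ T) := J.map π
  let Nb : Submodule A (↥(IsLocalRing.maximalIdeal A) ⧸ T) := N.map π
  let g : (↥(IsLocalRing.maximalIdeal A) ⧸ T) →ₗ[A] (↥(IsLocalRing.maximalIdeal A) ⧸ N) := T.mapQ N LinearMap.id hTN
  have hgπ : ∀ x, g (π x) = N.mkQ x := fun x => rfl
  have hgker : LinearMap.ker g = Nb := by
    show LinearMap.ker (T.liftQ (N.mkQ ∘ₗ LinearMap.id) _) = _
    rw [Submodule.ker_liftQ, LinearMap.comp_id, Submodule.ker_mkQ]
  have hsup : Jb ⊔ Nb = ⊤ := by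
    rw [← Submodule.map_sup, hJN, Submodule.map_top, Submodule.range_mkQ]
  have hinf : Jb ⊓ Nb = ⊥ := by
    rw [eq_bot_iff]
    rintro z ⟨⟨j, hj, rfl⟩, ⟨n', hn', hjn⟩⟩
    have h1 : n' - j ∈ T := by
      have : π (n' - j) = 0 := by rw [map_sub, hjn, sub_self]
      exact (Submodule.Quotient.mk_eq_zero T).mp this
    have h2 : j ∈ N := by
      have : j = n' - (n' - j) := by abel
      rw [this]
      exact N.sub_mem hn' (hTN h1)
    have h3 : j ∈ T := hJNT (Submodule.mem_inf.mpr ⟨hj, h2⟩)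
    exact (Submodule.Quotient.mk_eq_zero T).mpr h3
  have hginj : Function.Injective (g.domRestrict Jb) := by
    rw [injective_iff_map_eq_zero]
    intro x hx
    have h1 : (x : ↥(IsLocalRing.maximalIdeal A) ⧸ T) ∈ LinearMap.ker g := hx
    rw [hgker] at h1
    have h2 : (x : ↥(IsLocalRing.maximalIdeal A) ⧸ T) ∈ Jb ⊓ Nb := Submodule.mem_inf.mpr ⟨x.2, h1⟩
    rw [hinf, Submodule.mem_bot] at h2
    exact Subtype.ext h2
  have hgsurj : Function.Surjective (g.domRestrict Jb) := by
    intro y
    obtain ⟨x, rfl⟩ := N.mkQ_surjective y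
    have hx : π x ∈ Jb ⊔ Nb := by rw [hsup]; trivial
    obtain ⟨u, hu, w, hw, huw⟩ := Submodule.mem_sup.mp hx
    refine ⟨⟨u, hu⟩, ?_⟩
    show g u = N.mkQ x
    have hw0 : g w = 0 := by
      have : w ∈ LinearMap.ker g := hgker ▸ hw
      exact this
    rw [← hgπ, ← huw, map_add, hw0, add_zero]
  let e := LinearEquiv.ofBijective (g.domRestrict Jb) ⟨hginj, hgsurj⟩
  refine ⟨Jb.subtype ∘ₗ e.symm.toLinearMap, g, ?_⟩
  apply LinearMap.ext
  intro y
  show g (Jb.subtype (e.symm y)) = y
  have : (g.domRestrict Jb) (e.symm y) = y := e.apply_symm_apply y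
  exact this

end Groth.Agent.S5781
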