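import Groth.Statements.S5795
import Groth.Agent.Lib.Helper8.TopDim3

set_option autoImplicit false
universe u
open TopDim

namespace Groth.Agent.S5795

/-- Let X be a Noetherian Kolmogoroff space and x a point of X. Then x is isolated in X if and only if
dim_x(X) = 0. -/
theorem result (X : Type u) [TopologicalSpace X]
    [TopologicalSpace.NoetherianSpace X] [T0Space X] (x : X) :
    IsOpen ({x} : Set X) ↔ FlatMor.localDim X x = 0 := by
  exact Groth.Agent.Helper8.TopDim2.isOpen_singleton_iff_localDim_eq_zero X x

end Groth.Agent.S5795
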