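import Groth.Statements.S5800
import Mathlib
import Groth.Prelude.Def_Flat
-- import your own Groth.Agent.* helpers here

set_option autoImplicit false
universe u
open TopDim

namespace Groth.Agent.S5800

open Set Function Order TopologicalSpace Topology
namespace Aux

variable {X : Type u} [TopologicalSpace X]

/-- preimage of an irreducible subset of the range under an inducing map is irreducible -/
theorem irred_preimage {A : Type*} [TopologicalSpace A] {f : A → X} (hf : IsInducing f)
    {Z : Set X} (hZ : IsIrreducible Z) (hsub : Z ⊆ range f) : IsIrreducible (f ⁻¹' Z) := by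
  refine ⟨?_, ?_⟩
  · obtain ⟨z, hz⟩ := hZ.1
    obtain ⟨a, rfl⟩ := hsub hz
    exact ⟨a, hz⟩
  · intro U' V' hU' hV' ⟨a, ha, haU⟩ ⟨b, hb, hbV⟩
    obtain ⟨U, hU, rfl⟩ := hf.isOpen_iff.1 hU'
    obtain ⟨V, hV, rfl⟩ := hf.isOpen_iff.1 hV'
    obtain ⟨z, hz, hzU, hzV⟩ := hZ.2 U V hU hV ⟨f a, ha, haU⟩ ⟨f b, hb, hbV⟩
    obtain ⟨c, rfl⟩ := hsub hz
    exact ⟨c, hz, hzU, hzV⟩

/-- dimension of a finite closed cover -/
theorem dim_le_iSup_of_closed_cover {ι : Type*} [Finite ι] (C : ι → Set X)
    (hC : ∀ i, IsClosed (C i)) (hcov : ⋃ i, C i = Set.univ) :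
    topologicalKrullDim X ≤ ⨆ i, topologicalKrullDim (C i) := by
  classical
  haveI := Fintype.ofFinite ι
  unfold topologicalKrullDim
  rw [Order.krullDim]
  refine iSup_le fun p => ?_
  -- the last element lies in some C i
  have hlast : IsIrreducible (p.last : Set X) := p.last.isIrreducible
  obtain ⟨z, hz, hsub⟩ := isIrreducible_iff_sUnion_isClosed.1 hlast (Finset.univ.image C)
    (by
      intro z hz
      obtain ⟨i, -, rfl⟩ := Finset.mem_image.1 hz
      exact hC i)
    (by
      intro a _
      have : a ∈ ⋃ i, C i := by rw [hcov]; trivial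
      obtain ⟨i, hi⟩ := Set.mem_iUnion.1 this
      exact Set.mem_sUnion.2 ⟨C i, by simp, hi⟩)
  obtain ⟨i, -, rfl⟩ := Finset.mem_image.1 hz
  have hsubj : ∀ j, ((p j : IrreducibleCloseds X) : Set X) ⊆ C i := fun j =>
    (show (p j : Set X) ⊆ (p.last : Set X) from
      (p.strictMono.monotone (Fin.le_last j))).trans hsub
  have hind : IsInducing (Subtype.val : C i → X) := IsInducing.subtypeVal
  let q : LTSeries (IrreducibleCloseds (C i)) :=
    { length := p.length
      toFun := fun j => ⟨Subtype.val ⁻¹' (p j : Set X),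
        irred_preimage hind (p j).isIrreducible (by simpa using hsubj j),
        (p j).isClosed.preimage continuous_subtype_val⟩
      step := by
        intro j
        have hlt : p j.castSucc < p j.succ := p.step j
        show (_ : IrreducibleCloseds (C i)) < _
        rw [lt_iff_le_and_ne]
        refine ⟨?_, ?_⟩
        · intro a ha
          exact hlt.le ha
        · intro heq
          apply hlt.ne
          apply IrreducibleCloseds.ext
          have h1 : Subtype.val ⁻¹' ((p j.castSucc : IrreducibleCloseds X) : Set X) =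
              (Subtype.val : C i → X) ⁻¹' ((p j.succ : IrreducibleCloseds X) : Set X) :=
            congrArg (fun (W : IrreducibleCloseds (C i)) => (W : Set (C i))) heq
          have h2 := congrArg (fun W => (Subtype.val : C i → X) '' W) h1
          simp only [Subtype.image_preimage_coe] at h2
          rwa [Set.inter_eq_right.2 (hsubj _), Set.inter_eq_right.2 (hsubj _)] at h2 }
  calc (p.length : WithBot ℕ∞) = (q.length : WithBot ℕ∞) := rfl
    _ ≤ Order.krullDim (IrreducibleCloseds (C i)) := Order.LTSeries.length_le_krullDim q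
    _ ≤ _ := le_iSup (fun i => Order.krullDim (IrreducibleCloseds (C i))) i

theorem main (X : Type u) [TopologicalSpace X] (x : X)
    (ι : Type u) [Finite ι] (Y : ι → Set X) (hY : ∀ i, IsClosed (Y i)) (hx : ∀ i, x ∈ Y i)
    (hcov : ⋃ i, Y i = Set.univ) :
    FlatMor.localDim X x = ⨆ i, FlatMor.localDim (Y i) ⟨x, hx i⟩ := by
  apply le_antisymm
  · -- ≤
    unfold FlatMor.localDim
    -- choose minimizing opens
    have hmin : ∀ i, ∃ W : {U : Opens (Y i) // (⟨x, hx i⟩ : Y i) ∈ U},
        topologicalKrullDim (W.1 : Set (Y i)) =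
          ⨅ U : {U : Opens (Y i) // (⟨x, hx i⟩ : Y i) ∈ U}, topologicalKrullDim (U.1 : Set (Y i)) := by
      intro i
      haveI : Nonempty {U : Opens (Y i) // (⟨x, hx i⟩ : Y i) ∈ U} := ⟨⟨⊤, trivial⟩⟩
      exact ciInf_mem (fun U : {U : Opens (Y i) // (⟨x, hx i⟩ : Y i) ∈ U} =>
        topologicalKrullDim (U.1 : Set (Y i)))
    choose W hW using hmin
    have hV : ∀ i, ∃ V : Set X, IsOpen V ∧ Subtype.val ⁻¹' V = ((W i).1 : Set (Y i)) := fun i =>
      isOpen_induced_iff.1 (W i).1.isOpen
    choose V hVo hVW using hV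
    have hxV : ∀ i, x ∈ V i := by
      intro i
      have : (⟨x, hx i⟩ : Y i) ∈ ((W i).1 : Set (Y i)) := (W i).2
      rw [← hVW i] at this
      exact this
    let V₀ : Opens X := ⟨⋂ i, V i, isOpen_iInter_of_finite hVo⟩
    have hxV₀ : x ∈ V₀ := Set.mem_iInter.2 hxV
    refine (iInf_le _ (⟨V₀, hxV₀⟩ : {U : Opens X // x ∈ U})).trans ?_
    -- closed cover of V₀
    have h1 := dim_le_iSup_of_closed_cover (X := (V₀ : Set X))
      (fun i => Subtype.val ⁻¹' (Y i))
      (fun i => (hY i).preimage continuous_subtype_val)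
      (by
        rw [← Set.preimage_iUnion, hcov, Set.preimage_univ])
    refine h1.trans (iSup_mono fun i => ?_)
    rw [← hW i]
    -- map from the piece into W i
    let g : ↥((Subtype.val : ↥(V₀ : Set X) → X) ⁻¹' (Y i)) → ↥((W i).1 : Set (Y i)) := fun a =>
      ⟨⟨a.1.1, a.2⟩, by
        have : a.1.1 ∈ V i := Set.mem_iInter.1 a.1.2 i
        rw [← hVW i]
        exact this⟩
    have hg : IsInducing g := by
      have hcomp : IsInducing ((Subtype.val : (Y i) → X) ∘ (Subtype.val : ↥((W i).1 : Set (Y i)) → Y i) ∘ g) := by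
        have : ((Subtype.val : (Y i) → X) ∘ (Subtype.val : ↥((W i).1 : Set (Y i)) → Y i) ∘ g) =
            (Subtype.val : ↥(V₀ : Set X) → X) ∘ (Subtype.val) := rfl
        rw [this]
        exact IsInducing.subtypeVal.comp IsInducing.subtypeVal
      have hgc : Continuous g := by
        apply Continuous.subtype_mk
        apply Continuous.subtype_mk
        exact continuous_subtype_val.comp continuous_subtype_val
      exact IsInducing.of_comp hgc
        (continuous_subtype_val.comp continuous_subtype_val) hcomp
    exact hg.topologicalKrullDim_le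
  · -- ≥
    refine iSup_le fun i => ?_
    unfold FlatMor.localDim
    refine le_iInf fun U => ?_
    let W : Opens (Y i) := ⟨Subtype.val ⁻¹' (U.1 : Set X), U.1.isOpen.preimage continuous_subtype_val⟩
    have hxW : (⟨x, hx i⟩ : Y i) ∈ W := U.2
    refine (iInf_le _ (⟨W, hxW⟩ : {U : Opens (Y i) // (⟨x, hx i⟩ : Y i) ∈ U})).trans ?_
    let g : ↥(W : Set (Y i)) → ↥(U.1 : Set X) := fun a => ⟨a.1.1, a.2⟩
    have hg : IsInducing g := by
      have hcomp : IsInducing ((Subtype.val : ↥(U.1 : Set X) → X) ∘ g) := by
        have : ((Subtype.val : ↥(U.1 : Set X) → X) ∘ g) =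
            (Subtype.val : (Y i) → X) ∘ (Subtype.val) := rfl
        rw [this]
        exact IsInducing.subtypeVal.comp IsInducing.subtypeVal
      have hgc : Continuous g := by
        apply Continuous.subtype_mk
        exact continuous_subtype_val.comp continuous_subtype_val
      exact IsInducing.of_comp hgc continuous_subtype_val hcomp
    exact hg.topologicalKrullDim_le

end Aux

/-- Let X be a topological space, x a point of X and (Y_i) a finite family of closed subsets each
containing x whose union is X. Then dim_x(X) = sup_i dim_x(Y_i). (The published statement lets the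
Y_i be closed subsets of a neighbourhood U of x covering U; this row is the case U = X.) -/
theorem result (X : Type u) [TopologicalSpace X] (x : X)
    (ι : Type u) [Finite ι] (Y : ι → Set X) (hY : ∀ i, IsClosed (Y i)) (hx : ∀ i, x ∈ Y i)
    (hcov : ⋃ i, Y i = Set.univ) :
    FlatMor.localDim X x = ⨆ i, FlatMor.localDim (Y i) ⟨x, hx i⟩ := by
  exact Aux.main X x ι Y hY hx hcov

end Groth.Agent.S5800
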