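import Groth.Statements.S5835
import Mathlib
import Groth.Agent.Lib.Helper2.SepUniv
import Groth.Agent.Lib.Helper2.PBasis2

set_option autoImplicit false
universe v w
open scoped TensorProduct
open EGA41

namespace Groth.Agent.S5835

/-- For fields k₀ ⊆ k ⊆ K ⊆ L, the map of imperfection modules Υ_{L/K/k₀} → Υ_{L/K/k} induced by
Ω_{K/k₀} → Ω_{K/k} is injective (k is k₀-admissible for the extension L of K) in each of the
following cases: L is separable over k; L is separable over K; k lies in k₀(K^p), p the
characteristic exponent. Separable means geometrically reduced (not necessarily algebraic). -/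
theorem result {k : Type v} {k₀ K L : Type w}
    [Field k₀] [Field k] [Field K] [Field L] [Algebra k₀ k] [Algebra k₀ K] [Algebra k₀ L] [Algebra k K]
    [Algebra k L] [Algebra K L] [IsScalarTower k₀ k K] [IsScalarTower k₀ k L] [IsScalarTower k₀ K L]
    [IsScalarTower k K L] (p : ℕ) [ExpChar K p]
    (h : Algebra.IsGeometricallyReduced k L ∨ Algebra.IsGeometricallyReduced K L ∨
      ∀ x : k, algebraMap k K x ∈ EGA41.pPowerSubalgebra p k₀ K) :
    ∀ z : L ⊗[K] Ω[K⁄k₀], z ∈ EGA41.imperfection k₀ K L →
      (KaehlerDifferential.map k₀ k K K).baseChange L z = 0 → z = 0 := by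
  intro z hz1 hz2
  have hz1' : KaehlerDifferential.mapBaseChange k₀ K L z = 0 := hz1
  -- the case where `L` is separable over `K`
  have caseB : Algebra.IsGeometricallyReduced K L → z = 0 := by
    intro hKL
    have hinj := Groth.Agent.Helper2.Sep.injective_mapBaseChange_of_isGeometricallyReduced' k₀ K L
    exact hinj (by rw [hz1', map_zero])
  rcases h with hkL | hKL | hk
  · -- `L` separable over `k`: diagram chase
    have hinj := Groth.Agent.Helper2.Sep.injective_mapBaseChange_of_isGeometricallyReduced' k₀ k L
    have hex : Function.Exact (KaehlerDifferential.mapBaseChange k₀ k K)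
        (KaehlerDifferential.map k₀ k K K) := KaehlerDifferential.exact_mapBaseChange_map k₀ k K
    have hsurj : Function.Surjective (KaehlerDifferential.map k₀ k K K) :=
      KaehlerDifferential.map_surjective k₀ k K
    have hex' := lTensor_exact L hex hsurj
    have hz2' : (KaehlerDifferential.map k₀ k K K).lTensor L z = 0 := hz2
    obtain ⟨y, rfl⟩ := (hex' z).mp hz2'
    -- functoriality of `map`
    have hmm : ∀ ω : Ω[k⁄k₀], KaehlerDifferential.map k₀ k₀ K L
        (KaehlerDifferential.map k₀ k₀ k K ω) = KaehlerDifferential.map k₀ k₀ k L ω := by
      intro ω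
      have hω : ω ∈ Submodule.span k (Set.range (KaehlerDifferential.D k₀ k)) := by
        rw [KaehlerDifferential.span_range_derivation]; trivial
      induction hω using Submodule.span_induction with
      | mem ω h =>
        obtain ⟨a, rfl⟩ := h
        simp only [KaehlerDifferential.map_D]
        rw [← IsScalarTower.algebraMap_apply]
      | zero => simp
      | add a b _ _ ha hb => simp only [map_add, ha, hb]
      | smul r a _ ha =>
        rw [(KaehlerDifferential.map k₀ k₀ k K).map_smul, (KaehlerDifferential.map k₀ k₀ k L).map_smul,
          LinearMap.map_smul_of_tower, ha]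
    have hcomm : ∀ y : L ⊗[K] (K ⊗[k] Ω[k⁄k₀]),
        KaehlerDifferential.mapBaseChange k₀ K L
          ((KaehlerDifferential.mapBaseChange k₀ k K).lTensor L y) =
        KaehlerDifferential.mapBaseChange k₀ k L
          (TensorProduct.AlgebraTensorModule.cancelBaseChange k K L L (Ω[k⁄k₀]) y) := by
      intro y
      induction y using TensorProduct.induction_on with
      | zero => simp
      | add a b ha hb => simp only [map_add, ha, hb]
      | tmul l t =>
        induction t using TensorProduct.induction_on with
        | zero => simp
        | add a b ha hb =>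
          simp only [TensorProduct.tmul_add, map_add, ha, hb]
        | tmul c ω =>
          rw [LinearMap.lTensor_tmul, KaehlerDifferential.mapBaseChange_tmul,
            KaehlerDifferential.mapBaseChange_tmul,
            TensorProduct.AlgebraTensorModule.cancelBaseChange_tmul,
            KaehlerDifferential.mapBaseChange_tmul, map_smul, hmm, smul_assoc, smul_comm]
    have h0 := hcomm y
    rw [hz1', eq_comm] at h0
    have hy : TensorProduct.AlgebraTensorModule.cancelBaseChange k K L L (Ω[k⁄k₀]) y = 0 :=
      hinj (by rw [h0, map_zero])
    have hy0 : y = 0 := by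
      have := congrArg (TensorProduct.AlgebraTensorModule.cancelBaseChange k K L L (Ω[k⁄k₀])).symm hy
      simpa using this
    rw [hy0, map_zero]
  · exact caseB hKL
  · -- `k ⊆ k₀(K^p)`
    rcases ‹ExpChar K p› with _ | ⟨hp⟩
    · -- characteristic zero
      exact caseB Groth.Agent.Helper2.Sep.isGeometricallyReduced_of_charZero
    · haveI : Fact p.Prime := ⟨hp⟩
      have hD : ∀ a : k, KaehlerDifferential.D k₀ K (algebraMap k K a) = 0 := fun a =>
        Groth.Agent.Helper2.PBasis.derivation_eq_zero_of_mem p (KaehlerDifferential.D k₀ K) (hk a)
      let Dk : Derivation k K (Ω[K⁄k₀]) := Derivation.mk'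
        { toFun := fun b => KaehlerDifferential.D k₀ K b
          map_add' := by intro a b; simp
          map_smul' := by
            intro a b
            simp only [RingHom.id_apply]
            rw [Algebra.smul_def, Derivation.leibniz, hD, smul_zero, add_zero, algebraMap_smul] }
        (by intro a b; exact Derivation.leibniz _ a b)
      have hg : Dk.liftKaehlerDifferential.comp (KaehlerDifferential.map k₀ k K K) =
          LinearMap.id := by
        apply Derivation.liftKaehlerDifferential_unique
        ext b
        simp [Dk]
      have h1 := congrArg (fun m => (LinearMap.baseChange L m) z) hg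
      simp only [LinearMap.baseChange_comp, LinearMap.baseChange_id, LinearMap.comp_apply,
        LinearMap.id_apply] at h1
      rw [← h1, hz2, map_zero]

end Groth.Agent.S5835
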