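import Groth.Statements.S5841
import Mathlib
import Groth.Agent.Lib.Helper1.QcAbel
import Groth.Agent.Lib.Helper1.PushQc
import Groth.Agent.S5850

set_option autoImplicit false
universe u
open ZClos

namespace Groth.Agent.S5841

section

open CategoryTheory CategoryTheory.Limits AlgebraicGeometry TopologicalSpace Opposite
open Groth.Agent Groth.Agent.Helper1 ZClos

variable {X : Scheme.{u}}

section
variable {K : Type u} [Preorder K] [IsDirected K (· ≤ ·)] [Nonempty K] (D : K ⥤ X.Modules)

lemma inj_smul (k : K) (V : X.Opens) (r : Γ(X, V)) (s : Γ(D.obj k, V)) :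
    S5850.inj D k V (r • s) = r • S5850.inj D k V s := by
  unfold S5850.inj
  exact Scheme.Modules.Hom.app_smul _ r s

lemma tr_smul {k k' : K} (h : k ≤ k') (V : X.Opens) (r : Γ(X, V)) (s : Γ(D.obj k, V)) :
    S5850.tr D h V (r • s) = r • S5850.tr D h V s := by
  unfold S5850.tr
  exact Scheme.Modules.Hom.app_smul _ r s

theorem isQuasicoherent_colimit [IsLocallyNoetherian X]
    (hD : ∀ k, (D.obj k).IsQuasicoherent) : (colimit D).IsQuasicoherent := by
  apply QcAbel.isQuasicoherent_of_kill_ext
  · -- kill
    intro U hU f O hO t ht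
    have hUc : IsCompact (U : Set X) := hU.isCompact
    have hall : ∀ W : X.Opens, W ≤ U → IsCompact (W : Set X) := S5850.compact_of_le U hUc
    obtain ⟨k, s, rfl⟩ := S5850.sec_rep D hall t
    have hOU : O ≤ U := hO.le.trans (X.basicOpen_le f)
    have h1 : S5850.inj D k O (S5845.res (D.obj k) hOU s) = 0 := by
      rw [S5850.inj_res]; exact ht
    obtain ⟨k', hk, h2⟩ := S5850.sec_zero D (hall O hOU) _ h1
    rw [S5850.tr_res] at h2
    haveI := hD k'
    obtain ⟨n, hn⟩ := QcAbel.killP_of_isQuasicoherent (D.obj k') U hU f O hO (S5850.tr D hk U s) h2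
    refine ⟨n, ?_⟩
    rw [← S5850.inj_tr D hk U s, ← inj_smul, hn, S5850.inj_zero]
  · -- ext
    intro U hU f O hO y
    have hUc : IsCompact (U : Set X) := hU.isCompact
    have hall : ∀ W : X.Opens, W ≤ U → IsCompact (W : Set X) := S5850.compact_of_le U hUc
    have hOU : O ≤ U := hO.le.trans (X.basicOpen_le f)
    have hallO : ∀ W : X.Opens, W ≤ O → IsCompact (W : Set X) := fun W hW => hall W (hW.trans hOU)
    obtain ⟨k, s, rfl⟩ := S5850.sec_rep D hallO y
    haveI := hD k
    obtain ⟨n, t, ht⟩ := QcAbel.extP_of_isQuasicoherent (D.obj k) U hU f O hO s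
    refine ⟨n, S5850.inj D k U t, ?_⟩
    have h3 : QcCech.res (colimit D) hOU (S5850.inj D k U t) =
        S5850.inj D k O (S5845.res (D.obj k) hOU t) := (S5850.inj_res D k hOU t).symm
    rw [h3]
    have h4 : S5845.res (D.obj k) hOU t = (QcCech.resR hOU f) ^ n • s := ht
    rw [h4, inj_smul]

end

theorem main (X : Scheme.{u}) [IsLocallyNoetherian X] (Z : Set X)
    (hZ : StableUnderSpecialization Z) (F : X.Modules) (hF : Coh.IsQCoh F) :
    Coh.IsQCoh ((ZClos.H0 Z).obj F) := by
  haveI : F.IsQuasicoherent := hF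
  change (colimit ((diagram Z).obj F)).IsQuasicoherent
  apply isQuasicoherent_colimit
  intro T
  change ((Scheme.Modules.pushforward T.U.ι).obj ((Scheme.Modules.restrictFunctor T.U.ι).obj F)).IsQuasicoherent
  exact PushQc.isQuasicoherent_pushforward T.U.ι _


end


open CategoryTheory CategoryTheory.Limits AlgebraicGeometry in
/-- For a locally Noetherian scheme X, a subset Z of X stable under specialization and a quasi-coherent
O_X-module F, the Z-closure H⁰_{X/Z}(F) is quasi-coherent. -/
theorem result (X : Scheme.{u}) [IsLocallyNoetherian X] (Z : Set X)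
    (hZ : StableUnderSpecialization Z) (F : X.Modules) (hF : Coh.IsQCoh F) :
    Coh.IsQCoh ((ZClos.H0 Z).obj F) := by
  classical
  exact main X Z hZ F hF

end Groth.Agent.S5841
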