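import Groth.Statements.S5846
import Mathlib
import Groth.Agent.S5852

set_option autoImplicit false
universe u
open ZClos

namespace Groth.Agent.S5846

section

open CategoryTheory Limits AlgebraicGeometry TopologicalSpace Opposite
open Groth.Agent ZClos

variable {X : Scheme.{u}}

lemma inj_congr (F : X.Modules) {A A' B B' : X.Opens} (hA : A = B) (hA' : A' = B')
    (h : A' ≤ A) (h' : B' ≤ B) :
    Function.Injective (F.presheaf.map (homOfLE h).op) ↔
      Function.Injective (F.presheaf.map (homOfLE h').op) := by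
  subst hA hA'; rfl

lemma bij_congr (F : X.Modules) {A A' B B' : X.Opens} (hA : A = B) (hA' : A' = B')
    (h : A' ≤ A) (h' : B' ≤ B) :
    Function.Bijective (F.presheaf.map (homOfLE h).op) ↔
      Function.Bijective (F.presheaf.map (homOfLE h').op) := by
  subst hA hA'; rfl

variable (V0 : X.Opens) (Z : Set X)

/-- pull a closed subset of `X` inside `Z` back to the open subscheme -/
def down (T : Cl Z) : Cl (X := (V0 : Scheme.{u})) (V0.ι.base ⁻¹' Z) :=
  ⟨⟨V0.ι.base ⁻¹' (T.1 : Set X), T.1.2.preimage V0.ι.continuous⟩, fun _ hy => T.2 hy⟩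

lemma image_preimage_of_le (W₀ : X.Opens) (h : W₀ ≤ V0) : V0.ι ''ᵁ (V0.ι ⁻¹ᵁ W₀) = W₀ := by
  rw [ι_image_preimage]; exact inf_eq_right.2 h

lemma image_down (T : Cl Z) (W₀ : X.Opens) (h : W₀ ≤ V0) :
    V0.ι ''ᵁ ((V0.ι ⁻¹ᵁ W₀) ⊓ (down V0 Z T).U) = W₀ ⊓ T.U := by
  ext x
  constructor
  · rintro ⟨y, ⟨hy1, hy2⟩, rfl⟩
    exact ⟨hy1, hy2⟩
  · rintro ⟨hx1, hx2⟩
    exact ⟨⟨x, h hx1⟩, ⟨hx1, hx2⟩, rfl⟩

lemma exists_up [IsLocallyNoetherian X] (hZ : StableUnderSpecialization Z)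
    (T' : Cl (X := (V0 : Scheme.{u})) (V0.ι.base ⁻¹' Z)) (W : (V0 : Scheme.{u}).Opens)
    (hW : IsCompact (W : Set V0)) :
    ∃ T : Cl Z, V0.ι ''ᵁ (W ⊓ T'.U) = (V0.ι ''ᵁ W) ⊓ T.U := by
  have hW₀ : IsCompact ((V0.ι ''ᵁ W : X.Opens) : Set X) := by
    have := hW.image V0.ι.continuous
    simpa using this
  haveI := S5870.noetherianSpace_of_le (V0.ι ''ᵁ W) hW₀ (V0.ι ''ᵁ W) le_rfl
  haveI := S5870.quasiSober_opens (V0.ι ''ᵁ W)
  obtain ⟨C, hC, hCT⟩ := (V0.ι.isOpenEmbedding.isInducing.isClosed_iff).1 T'.1.2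
  let S : Set ((V0.ι ''ᵁ W : X.Opens) : Set X) := {p | p.1 ∈ C}
  have hS : IsClosed S := hC.preimage continuous_subtype_val
  have hSC : Subtype.val '' S ⊆ C := by
    rintro _ ⟨p, hp, rfl⟩; exact hp
  have hSZ : Subtype.val '' S ⊆ Z := by
    rintro _ ⟨⟨x, y, hyW, rfl⟩, hp, rfl⟩
    have hyT : y ∈ (T'.1 : Set V0) := by
      have h0 : y ∈ V0.ι ⁻¹' C := hp
      rw [hCT] at h0; exact h0
    exact T'.2 hyT
  have hcl := S5870.closure_subset_of_noetherian ((V0.ι ''ᵁ W : X.Opens) : Set X) Z hZ S hS hSZ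
  refine ⟨⟨⟨closure (Subtype.val '' S), isClosed_closure⟩, hcl⟩, ?_⟩
  ext x
  constructor
  · rintro ⟨y, ⟨hy1, hy2⟩, rfl⟩
    refine ⟨⟨y, hy1, rfl⟩, ?_⟩
    intro hx
    have hxC : V0.ι y ∈ C := closure_minimal hSC hC hx
    apply hy2
    show y ∈ (T'.1 : Set V0)
    have h0 : y ∈ V0.ι ⁻¹' C := hxC
    rw [hCT] at h0; exact h0
  · rintro ⟨⟨y, hyW, rfl⟩, hx2⟩
    refine ⟨y, ⟨hyW, ?_⟩, rfl⟩
    intro hyT
    apply hx2
    have hyC : V0.ι y ∈ C := by
      have : y ∈ V0.ι.base ⁻¹' C := by rw [hCT]; exact hyT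
      exact this
    exact subset_closure ⟨⟨V0.ι y, y, hyW, rfl⟩, hyC, rfl⟩

lemma compact_image (W : (V0 : Scheme.{u}).Opens) (hW : IsCompact (W : Set V0)) :
    IsCompact ((V0.ι ''ᵁ W : X.Opens) : Set X) := by
  have := hW.image V0.ι.continuous
  simpa using this

lemma compact_preimage (W₀ : X.Opens) (h : W₀ ≤ V0) (hW₀ : IsCompact (W₀ : Set X)) :
    IsCompact ((V0.ι ⁻¹ᵁ W₀ : (V0 : Scheme.{u}).Opens) : Set V0) := by
  refine (V0.ι.isOpenEmbedding.isInducing.isCompact_preimage_iff ?_).2 hW₀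
  rw [Scheme.Opens.range_ι]
  exact h

theorem main (X : Scheme.{u}) [IsLocallyNoetherian X] (Z : Set X)
    (hZ : StableUnderSpecialization Z) (F : X.Modules) {ι : Type u} (V : ι → X.Opens)
    (hV : iSup V = ⊤) :
    ZClos.IsZPure Z F ↔
      ∀ i, ZClos.IsZPure ((V i).ι.base ⁻¹' Z) ((Scheme.Modules.restrictFunctor (V i).ι).obj F) := by
  constructor
  · intro h i
    rw [S5844.main]
    intro T' W hW
    obtain ⟨T, hT⟩ := exists_up (V i) Z hZ T' W hW
    have h1 := (S5844.main X Z F).1 h T ((V i).ι ''ᵁ W) (compact_image (V i) W hW)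
    have hle : (V i).ι ''ᵁ (W ⊓ T'.U) ≤ (V i).ι ''ᵁ W :=
      ((V i).ι.opensFunctor.map (homOfLE (inf_le_left : W ⊓ T'.U ≤ W))).le
    exact (inj_congr F rfl hT hle inf_le_left).2 h1
  · intro h
    rw [S5844.main]
    intro T W hW
    rw [injective_iff_map_eq_zero]
    intro s hs
    apply TopCat.Presheaf.IsSheaf.section_ext F.isSheaf
    intro x hx
    obtain ⟨i, hxi⟩ : ∃ i, x ∈ V i := by
      have : x ∈ (⊤ : X.Opens) := trivial
      rw [← hV] at this; exact Opens.mem_iSup.1 this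
    obtain ⟨W₀, hW₀c, hxW₀, hW₀le⟩ := S5845.basis_compact (W ⊓ V i) x ⟨hx, hxi⟩
    have hW₀V : W₀ ≤ V i := hW₀le.trans inf_le_right
    have hW₀W : W₀ ≤ W := hW₀le.trans inf_le_left
    refine ⟨W₀, hW₀W, hxW₀, ?_⟩
    rw [map_zero]
    have hi := (S5844.main (V i) _ _).1 (h i) (down (V i) Z T) ((V i).ι ⁻¹ᵁ W₀)
      (compact_preimage (V i) W₀ hW₀V hW₀c)
    have hle : (V i).ι ''ᵁ (((V i).ι ⁻¹ᵁ W₀) ⊓ (down (V i) Z T).U) ≤ (V i).ι ''ᵁ ((V i).ι ⁻¹ᵁ W₀) :=
      ((V i).ι.opensFunctor.map (homOfLE (inf_le_left :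
        ((V i).ι ⁻¹ᵁ W₀) ⊓ (down (V i) Z T).U ≤ (V i).ι ⁻¹ᵁ W₀))).le
    have hi' : Function.Injective (F.presheaf.map (homOfLE (inf_le_left : W₀ ⊓ T.U ≤ W₀)).op) :=
      (inj_congr F (image_preimage_of_le (V i) W₀ hW₀V) (image_down (V i) Z T W₀ hW₀V)
        hle inf_le_left).1 hi
    apply hi'
    rw [map_zero]
    change S5845.res F _ (S5845.res F hW₀W s) = 0
    rw [S5845.res_res]
    have hs' : S5845.res F (inf_le_left : W ⊓ T.U ≤ W) s = 0 := hs
    have hle2 : W₀ ⊓ T.U ≤ W ⊓ T.U := inf_le_inf_right _ hW₀W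
    have := congrArg (S5845.res F hle2) hs'
    rw [S5845.res_res] at this
    exact this.trans (S5845.res_zero F hle2)


end


open CategoryTheory CategoryTheory.Limits AlgebraicGeometry in
/-- For a locally Noetherian scheme X, a subset Z of X stable under specialization, an O_X-module F and
an open covering (V_i) of X, F is Z-pure if and only if, for every i, the restriction of F to the
open subscheme V_i is (Z ∩ V_i)-pure. -/
theorem result (X : Scheme.{u}) [IsLocallyNoetherian X] (Z : Set X)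
    (hZ : StableUnderSpecialization Z) (F : X.Modules) {ι : Type u} (V : ι → X.Opens) (hV : iSup V = ⊤) :
    ZClos.IsZPure Z F ↔
      ∀ i, ZClos.IsZPure ((V i).ι.base ⁻¹' Z) ((Scheme.Modules.restrictFunctor (V i).ι).obj F) := by
  classical
  exact main X Z hZ F V hV

end Groth.Agent.S5846
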