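import Groth.Statements.S5847
import Mathlib
import Groth.Agent.S5846

set_option autoImplicit false
universe u
open ZClos

namespace Groth.Agent.S5847

section

open CategoryTheory Limits AlgebraicGeometry TopologicalSpace Opposite
open Groth.Agent ZClos

variable {X : Scheme.{u}}

/-- closedness from bijectivity on a basis of compact opens -/
theorem closed_of_basis (Z : Set X) (F : X.Modules) (P : X.Opens → Prop)
    (hP : ∀ (W : X.Opens) (x : X), x ∈ W → ∃ V : X.Opens, P V ∧ x ∈ V ∧ V ≤ W)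
    (h : ∀ (T : ZClos.Cl Z) (V : X.Opens), P V →
      Function.Bijective (F.presheaf.map (homOfLE (inf_le_left : V ⊓ T.U ≤ V)).op)) :
    ZClos.IsZClosed Z F := by
  apply S5843.isZClosed_of_isIso_toDiagram
  intro T
  change IsIso ((resPushUnit T.U).app F)
  have hsub : ∀ W : X.Opens, T.U.ι ''ᵁ T.U.ι ⁻¹ᵁ W = T.U ⊓ W := fun W => ι_image_preimage _ _
  apply S5845.isIso_of_locally
  · intro W t ht x hx
    obtain ⟨V, hVc, hxV, hVW⟩ := hP W x hx
    refine ⟨V, hVW, hxV, ?_⟩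
    apply (h T V hVc).1
    change S5845.res F _ (S5845.res F hVW t) = S5845.res F _ 0
    rw [S5845.res_res, S5845.res_zero]
    have hle : V ⊓ T.U ≤ T.U.ι ''ᵁ T.U.ι ⁻¹ᵁ W := by
      rw [hsub]; exact le_inf inf_le_right (inf_le_left.trans hVW)
    have ht' : S5845.res F (T.U.ι.image_preimage_le W) t = 0 := ht
    have := congrArg (S5845.res F hle) ht'
    rw [S5845.res_res, S5845.res_zero] at this
    exact this
  · intro W σ x hx
    obtain ⟨V, hVc, hxV, hVW⟩ := hP W x hx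
    refine ⟨V, hVW, hxV, ?_⟩
    obtain ⟨σ', hσ'⟩ : ∃ σ' : Γ(F, T.U.ι ''ᵁ T.U.ι ⁻¹ᵁ W), σ' = σ := ⟨σ, rfl⟩
    have hle : V ⊓ T.U ≤ T.U.ι ''ᵁ T.U.ι ⁻¹ᵁ W := by
      rw [hsub]; exact le_inf inf_le_right (inf_le_left.trans hVW)
    have hle2 : V ⊓ T.U ≤ T.U.ι ''ᵁ T.U.ι ⁻¹ᵁ V := by
      rw [hsub]; exact le_inf inf_le_right inf_le_left
    have hge2 : T.U.ι ''ᵁ T.U.ι ⁻¹ᵁ V ≤ V ⊓ T.U := by
      rw [hsub]; exact le_inf inf_le_right inf_le_left
    have hVW' : T.U.ι ''ᵁ T.U.ι ⁻¹ᵁ V ≤ T.U.ι ''ᵁ T.U.ι ⁻¹ᵁ W := by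
      rw [hsub, hsub]; exact inf_le_inf_left _ hVW
    obtain ⟨t, ht⟩ := (h T V hVc).2 (S5845.res F hle σ')
    refine ⟨t, ?_⟩
    have g1 : ((resPushUnit T.U).app F).app V t = S5845.res F (T.U.ι.image_preimage_le V) t := rfl
    have g2 : ((resPush T.U).obj F).presheaf.map (homOfLE hVW).op σ = S5845.res F hVW' σ' := by
      rw [← hσ']; rfl
    rw [g1, g2]
    apply S5845.res_inj_of_eq F hle2 hge2
    rw [S5845.res_res, S5845.res_res]
    exact ht

theorem main (X : Scheme.{u}) [IsLocallyNoetherian X] (Z : Set X)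
    (hZ : StableUnderSpecialization Z) (F : X.Modules) {ι : Type u} (V : ι → X.Opens)
    (hV : iSup V = ⊤) :
    ZClos.IsZClosed Z F ↔
      ∀ i, ZClos.IsZClosed ((V i).ι.base ⁻¹' Z) ((Scheme.Modules.restrictFunctor (V i).ι).obj F) := by
  constructor
  · intro h i
    rw [S5845.main (V i) _ (hZ.preimage (V i).ι.continuous)]
    intro T' W hW
    obtain ⟨T, hT⟩ := S5846.exists_up (V i) Z hZ T' W hW
    have h1 := (S5845.main X Z hZ F).1 h T ((V i).ι ''ᵁ W) (S5846.compact_image (V i) W hW)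
    have hle : (V i).ι ''ᵁ (W ⊓ T'.U) ≤ (V i).ι ''ᵁ W :=
      ((V i).ι.opensFunctor.map (homOfLE (inf_le_left : W ⊓ T'.U ≤ W))).le
    exact (S5846.bij_congr F rfl hT hle inf_le_left).2 h1
  · intro h
    apply closed_of_basis Z F (fun W₀ => IsCompact (W₀ : Set X) ∧ ∃ i, W₀ ≤ V i)
    · intro W x hx
      obtain ⟨i, hxi⟩ : ∃ i, x ∈ V i := by
        have : x ∈ (⊤ : X.Opens) := trivial
        rw [← hV] at this; exact Opens.mem_iSup.1 this
      obtain ⟨W₀, hW₀c, hxW₀, hW₀le⟩ := S5845.basis_compact (W ⊓ V i) x ⟨hx, hxi⟩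
      exact ⟨W₀, ⟨hW₀c, i, hW₀le.trans inf_le_right⟩, hxW₀, hW₀le.trans inf_le_left⟩
    · rintro T W₀ ⟨hW₀c, i, hW₀V⟩
      have hi := (S5845.main (V i) _ (hZ.preimage (V i).ι.continuous) _).1 (h i)
        (S5846.down (V i) Z T) ((V i).ι ⁻¹ᵁ W₀) (S5846.compact_preimage (V i) W₀ hW₀V hW₀c)
      have hle : (V i).ι ''ᵁ (((V i).ι ⁻¹ᵁ W₀) ⊓ (S5846.down (V i) Z T).U) ≤
          (V i).ι ''ᵁ ((V i).ι ⁻¹ᵁ W₀) :=
        ((V i).ι.opensFunctor.map (homOfLE (inf_le_left :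
          ((V i).ι ⁻¹ᵁ W₀) ⊓ (S5846.down (V i) Z T).U ≤ (V i).ι ⁻¹ᵁ W₀))).le
      exact (S5846.bij_congr F (S5846.image_preimage_of_le (V i) W₀ hW₀V)
        (S5846.image_down (V i) Z T W₀ hW₀V) hle inf_le_left).1 hi


end


open CategoryTheory CategoryTheory.Limits AlgebraicGeometry in
/-- For a locally Noetherian scheme X, a subset Z of X stable under specialization, an O_X-module F and
an open covering (V_i) of X, F is Z-closed if and only if, for every i, the restriction of F to the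
open subscheme V_i is (Z ∩ V_i)-closed. -/
theorem result (X : Scheme.{u}) [IsLocallyNoetherian X] (Z : Set X)
    (hZ : StableUnderSpecialization Z) (F : X.Modules) {ι : Type u} (V : ι → X.Opens) (hV : iSup V = ⊤) :
    ZClos.IsZClosed Z F ↔
      ∀ i, ZClos.IsZClosed ((V i).ι.base ⁻¹' Z) ((Scheme.Modules.restrictFunctor (V i).ι).obj F) := by
  classical
  exact main X Z hZ F V hV

end Groth.Agent.S5847
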