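import Groth.Statements.S5848
import Mathlib
import Groth.Agent.S5843

set_option autoImplicit false
universe u
open ZClos

namespace Groth.Agent.S5848

section

open CategoryTheory CategoryTheory.Limits AlgebraicGeometry TopologicalSpace Opposite
open ZClos
open Groth.Agent

variable {X : Scheme.{u}}

/-- inclusion of index sets -/
def incl {Z Z' : Set X} (h : Z' ⊆ Z) (T : Cl Z') : Cl Z := ⟨T.1, fun _ hx => h (T.2 hx)⟩

theorem incl_mono {Z Z' : Set X} (h : Z' ⊆ Z) {T T' : Cl Z'} (f : T ≤ T') : incl h T ≤ incl h T' := f

theorem main (X : Scheme.{u}) [IsLocallyNoetherian X] (Z Z' : Set X)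
    (hZ : StableUnderSpecialization Z) (hZ' : StableUnderSpecialization Z') (h : Z' ⊆ Z) (F : X.Modules) :
    (ZClos.IsZPure Z F → ZClos.IsZPure Z' F) ∧ (ZClos.IsZClosed Z F → ZClos.IsZClosed Z' F) := by
  constructor
  · intro hp
    -- comparison map
    let c : Cocone ((diagram Z').obj F) :=
      { pt := colimit ((diagram Z).obj F)
        ι :=
          { app := fun T => colimit.ι ((diagram Z).obj F) (incl h T)
            naturality := by
              intro T T' f
              dsimp only [Functor.const_obj_obj, Functor.const_obj_map]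
              rw [Category.comp_id]
              exact colimit.w ((diagram Z).obj F) (homOfLE (incl_mono h f.le)) } }
    let k : colimit ((diagram Z').obj F) ⟶ colimit ((diagram Z).obj F) := colimit.desc _ c
    have hk : rhoApp Z' F ≫ k = rhoApp Z F := by
      rw [rhoApp_eq Z' F ⊥, rhoApp_eq Z F (incl h ⊥)]
      change toDiagram Z' F ⊥ ≫ (colimit.ι ((diagram Z').obj F) ⊥ ≫ k) = _
      rw [colimit.ι_desc]
      rfl
    haveI : Mono (rhoApp Z' F ≫ k) := by rw [hk]; exact hp
    exact mono_of_mono (rhoApp Z' F) k
  · intro hc
    apply S5843.isZClosed_of_isIso_toDiagram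
    intro T
    exact S5843.isIso_toDiagram_of_isZClosed Z F hc (incl h T)


end


open CategoryTheory CategoryTheory.Limits AlgebraicGeometry in
/-- For a locally Noetherian scheme X, subsets Z' ⊆ Z of X both stable under specialization and an
O_X-module F: if F is Z-pure then F is Z'-pure, and if F is Z-closed then F is Z'-closed. -/
theorem result (X : Scheme.{u}) [IsLocallyNoetherian X] (Z Z' : Set X)
    (hZ : StableUnderSpecialization Z) (hZ' : StableUnderSpecialization Z') (h : Z' ⊆ Z) (F : X.Modules) :
    (ZClos.IsZPure Z F → ZClos.IsZPure Z' F) ∧ (ZClos.IsZClosed Z F → ZClos.IsZClosed Z' F) := by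
  classical
  exact main X Z Z' hZ hZ' h F

end Groth.Agent.S5848
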