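import Groth.Statements.S5851
import Mathlib
import Groth.Agent.S5843

set_option autoImplicit false
universe u
open ZClos

namespace Groth.Agent.S5851

section

open CategoryTheory CategoryTheory.Limits AlgebraicGeometry TopologicalSpace Opposite
open ZClos
open Groth.Agent

variable {X : Scheme.{u}}

theorem main (X : Scheme.{u}) [IsLocallyNoetherian X] (Z : Set X)
    (hZ : StableUnderSpecialization Z) (F F' : X.Modules) (hF' : ZClos.IsZClosed Z F') (u : F ⟶ F') :
    ∃! v : (ZClos.H0 Z).obj F ⟶ F', ZClos.rhoApp Z F ≫ v = u := by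
  obtain ⟨r, hr1, hr2⟩ := hF'.out
  have hnat : rhoApp Z F ≫ (H0 Z).map u = u ≫ rhoApp Z F' := ((rho Z).naturality u).symm
  refine ⟨(H0 Z).map u ≫ r, ?_, ?_⟩
  · change rhoApp Z F ≫ (H0 Z).map u ≫ r = u
    rw [← Category.assoc, hnat, Category.assoc, hr1, Category.comp_id]
  · intro v hv
    change colimit ((diagram Z).obj F) ⟶ F' at v
    have key : ∀ (w : colimit ((diagram Z).obj F) ⟶ F'), rhoApp Z F ≫ w = u →
        ∀ T : Cl Z, colimit.ι ((diagram Z).obj F) T ≫ w =
          colimit.ι ((diagram Z).obj F) T ≫ ((H0 Z).map u ≫ r) := by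
      intro w hw T
      haveI : IsIso ((resPushUnit T.U).app F') := S5843.isIso_toDiagram_of_isZClosed Z F' hF' T
      apply S5843.local_ext T.U
      change toDiagram Z F T ≫ _ = toDiagram Z F T ≫ _
      have e : toDiagram Z F T ≫ colimit.ι ((diagram Z).obj F) T = rhoApp Z F :=
        (rhoApp_eq Z F T).symm
      have e1 : toDiagram Z F T ≫ colimit.ι ((diagram Z).obj F) T ≫ w = u := by
        rw [← Category.assoc, e]; exact hw
      have e2 : toDiagram Z F T ≫ colimit.ι ((diagram Z).obj F) T ≫ ((H0 Z).map u ≫ r) = u := by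
        rw [← Category.assoc, e]
        change rhoApp Z F ≫ (H0 Z).map u ≫ r = u
        rw [← Category.assoc, hnat, Category.assoc, hr1, Category.comp_id]
      rw [e1, e2]
    apply colimit.hom_ext
    intro T
    exact key v hv T


end


open CategoryTheory CategoryTheory.Limits AlgebraicGeometry in
/-- For a locally Noetherian scheme X, a subset Z of X stable under specialization, O_X-modules F and F'
with F' Z-closed, and a homomorphism u : F → F', there is exactly one homomorphism v : H⁰_{X/Z}(F) →
F' with u = v ∘ ρ_{X/Z}. -/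
theorem result (X : Scheme.{u}) [IsLocallyNoetherian X] (Z : Set X)
    (hZ : StableUnderSpecialization Z) (F F' : X.Modules) (hF' : ZClos.IsZClosed Z F') (u : F ⟶ F') :
    ∃! v : (ZClos.H0 Z).obj F ⟶ F', ZClos.rhoApp Z F ≫ v = u := by
  classical
  exact main X Z hZ F F' hF' u

end Groth.Agent.S5851
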