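import Groth.Statements.S5862
-- import your own Groth.Agent.* helpers here

set_option autoImplicit false
universe u
open RadPt

namespace Groth.Agent.S5862

open CategoryTheory AlgebraicGeometry in
/-- Let f : X → Y and g : Y → Z be morphisms of schemes and y a point of Y. If f is radicial at y (fibre
with at most one point, purely inseparable residue field extension) and g is radicial at g(y), then
g ∘ f is radicial at g(y). Conversely, if f is surjective and g ∘ f is radicial at g(y), then f is
radicial at y and g is radicial at g(y). -/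
theorem result {X Y Z : Scheme.{u}} (f : X ⟶ Y) (g : Y ⟶ Z) (y : Y) :
    (RadPt.IsRadicialAt f y → RadPt.IsRadicialAt g (g y) → RadPt.IsRadicialAt (f ≫ g) (g y)) ∧
      (Surjective f → RadPt.IsRadicialAt (f ≫ g) (g y) →
        RadPt.IsRadicialAt f y ∧ RadPt.IsRadicialAt g (g y)) := by
  have pi_bot : ∀ {F E K : Type u} [Field F] [Field E] [Field K] (a : F →+* E) (b : E →+* K),
      (b.comp a).IsPurelyInseparable → a.IsPurelyInseparable := by
    intro F E K _ _ _ a b h
    algebraize [a, b, b.comp a]
    exact IsPurelyInseparable.tower_bot F E K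
  have pi_top : ∀ {F E K : Type u} [Field F] [Field E] [Field K] (a : F →+* E) (b : E →+* K),
      (b.comp a).IsPurelyInseparable → b.IsPurelyInseparable := by
    intro F E K _ _ _ a b h
    algebraize [a, b, b.comp a]
    exact IsPurelyInseparable.tower_top F E K
  have hcomp : ∀ x : X, ((f ≫ g).residueFieldMap x).hom =
      (f.residueFieldMap x).hom.comp (g.residueFieldMap (f x)).hom := by
    intro x
    rw [Scheme.residueFieldMap_comp]
    rfl
  refine ⟨fun hf hg => ⟨fun x x' hx hx' => ?_, fun x hx => ?_⟩, fun hs hfg => ⟨⟨fun x x' hx hx' => ?_,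
    fun x hx => ?_⟩, ⟨fun y₁ y₂ hy₁ hy₂ => ?_, fun y₁ hy₁ => ?_⟩⟩⟩
  · have h1 : f x = y := hg.1 (f x) y hx rfl
    have h2 : f x' = y := hg.1 (f x') y hx' rfl
    exact hf.1 x x' h1 h2
  · have h1 : f x = y := hg.1 (f x) y hx rfl
    rw [hcomp]
    exact RingHom.IsPurelyInseparable.comp (hg.2 (f x) hx) (hf.2 x h1)
  · exact hfg.1 x x' (by change g (f x) = g y; rw [hx]) (by change g (f x') = g y; rw [hx'])
  · have h1 := hfg.2 x (by change g (f x) = g y; rw [hx])
    rw [hcomp] at h1
    exact pi_top _ _ h1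
  · obtain ⟨x₁, rfl⟩ := f.surjective y₁
    obtain ⟨x₂, rfl⟩ := f.surjective y₂
    rw [hfg.1 x₁ x₂ hy₁ hy₂]
  · obtain ⟨x₁, rfl⟩ := f.surjective y₁
    have h1 := hfg.2 x₁ hy₁
    rw [hcomp] at h1
    exact pi_bot _ _ h1

end Groth.Agent.S5862
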