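import Groth.Statements.S5913
import Groth.Agent.Lib.Helper4.Jacobson1

set_option autoImplicit false
universe u
open CategoryTheory AlgebraicGeometry
open EGA43

namespace Groth.Agent.S5913

/-- In the locally Noetherian form: a locally Noetherian scheme X is Jacobson if and only if it has no
subscheme isomorphic to the spectrum of a semi-local integral domain of dimension 1, i.e. there is
no immersion Spec R ⟶ X with R an integral domain having finitely many maximal ideals and Krull
dimension 1. -/
theorem result (X : Scheme.{u}) [IsLocallyNoetherian X] :
    JacobsonSpace X ↔
      ∀ (R : CommRingCat.{u}) [IsDomain R] (i : Spec R ⟶ X) [IsImmersion i],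
        ¬ (Finite (MaximalSpectrum R) ∧ ringKrullDim R = 1) := by
  exact Lib.Helper4.Jacobson1.jacobsonSpace_iff X

end Groth.Agent.S5913
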