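import Groth.Statements.S5945
-- import your own Groth.Agent.* helpers here
import Groth.Agent.Lib.Helper7.LimNhd
import Groth.Agent.Lib.Helper7.LimUnr

set_option autoImplicit false
universe u
open CategoryTheory AlgebraicGeometry
open Unram17

namespace Groth.Agent.S5945

/-- Let S = lim S_i be a cofiltered limit of schemes with affine transition maps, let X₀ and Y₀ be
schemes locally of finite presentation over a stage S_{i₀}, f₀ : X₀ ⟶ Y₀ an S_{i₀}-morphism, and f :
X ⟶ Y the base change of f₀ along S ⟶ S_{i₀} (base changes are expressed by pullback squares). Let x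
be a point of X; for a stage j over i₀ the canonical projection X ⟶ X_j is the morphism rX
determined by its composites to X₀ and to S_j. Then f is formally unramified (equivalently
unramified, local finite presentation being automatic here) on some open neighbourhood of x if and
only if, for some index j over i₀, f_j is formally unramified on some open neighbourhood of the
image of x in X_j. This is the case of unramified morphisms. -/
theorem result {I : Type u} [SmallCategory I] [IsCofiltered I]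
    (D : I ⥤ Scheme.{u}) (c : Limits.Cone D) (hc : Limits.IsLimit c)
    [∀ (i j : I) (f : i ⟶ j), IsAffineHom (D.map f)] (i₀ : I)
    {X₀ Y₀ : Scheme.{u}} (f₀ : X₀ ⟶ Y₀) (g₀ : Y₀ ⟶ D.obj i₀)
    [LocallyOfFinitePresentation g₀] [LocallyOfFinitePresentation (f₀ ≫ g₀)]
    {X Y : Scheme.{u}} (f : X ⟶ Y) (g : Y ⟶ c.pt) (qY : Y ⟶ Y₀) (qX : X ⟶ X₀)
    (hY : IsPullback qY g g₀ (c.π.app i₀)) (hX : IsPullback qX f f₀ qY) (x : ↥X) :
    (∃ U : X.Opens, x ∈ U ∧ FormallyUnramified (U.ι ≫ f)) ↔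
      ∃ (j : I) (φ : j ⟶ i₀) (Xj Yj : Scheme.{u}) (fj : Xj ⟶ Yj) (gj : Yj ⟶ D.obj j) (pY : Yj ⟶ Y₀)
        (pX : Xj ⟶ X₀) (rX : X ⟶ Xj), IsPullback pY gj g₀ (D.map φ) ∧ IsPullback pX fj f₀ pY ∧
          rX ≫ pX = qX ∧ rX ≫ fj ≫ gj = f ≫ g ≫ c.π.app j ∧ ∃ V : Xj.Opens, rX.base x ∈ V ∧ FormallyUnramified (V.ι ≫ fj) := by
  have : ∀ {i j : I} (f : i ⟶ j), IsAffineHom (D.map f) := fun f => inferInstance
  have : LocallyOfFinitePresentation f₀ :=
    Groth.Agent.Helper2.locallyOfFinitePresentation_of_comp f₀ g₀ inferInstance inferInstance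
  constructor
  · rintro ⟨U, hxU, hP⟩
    obtain ⟨j, φ, rX, h1, h2, V, hxV, hV⟩ :=
      Groth.Agent.Helper7.LimNhd.exists_stage_nhd D c hc f₀ g₀ @FormallyUnramified
        (fun f₁ g₁ _ _ h => Groth.Agent.Helper7.LimUnr.exists_stage_formallyUnramified' D c hc f₁ g₁ h) hY hX x U hxU hP
    exact ⟨j, φ, _, _, Groth.Agent.Helper7.LimStage.bcHom f₀ g₀ (D.map φ),
      Limits.pullback.snd g₀ (D.map φ), Limits.pullback.fst g₀ (D.map φ),
      Limits.pullback.fst (f₀ ≫ g₀) (D.map φ), rX, IsPullback.of_hasPullback _ _,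
      Groth.Agent.Helper7.LimStage.isPullback_bcHom _ _ _, h1,
      by rw [Groth.Agent.Helper7.LimStage.bcHom_snd, h2], V, hxV, hV⟩
  · rintro ⟨j, φ, Xj, Yj, fj, gj, pY, pX, rX, hYj, hXj, h1, h2, V, hxV, hV⟩
    exact Groth.Agent.Helper7.LimNhd.nhd_of_stage D c f₀ g₀ @FormallyUnramified hY hX x φ hYj hXj h1 h2 V hxV hV

end Groth.Agent.S5945
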