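import Groth.Statements.S5947
import Mathlib
import Groth.Agent.Lib.Lead.OmU2

set_option autoImplicit false
universe u
open CategoryTheory AlgebraicGeometry TopologicalSpace
open Nrm16

namespace Groth.Agent.S5947

section
open CategoryTheory AlgebraicGeometry TopologicalSpace

open Groth.Agent.Lead.OmU Groth.Agent.Lead.DerU OmegaSh

section

variable (A B : CommRingCat.{u}) [Algebra A B]
    (L : Type u) [AddCommGroup L] [Module B L] [Module A L] [IsScalarTower A B L]

/-- `τ` as a linear equivalence. -/
noncomputable def τe : L ≃ₗ[B] Γ(tilde (ModuleCat.of B L), ⊤) :=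
  LinearEquiv.ofBijective (τ B L) (τ_bijective B L)

theorem τe_apply (l : L) : τe B L l = τ B L l := rfl

variable {B L}

/-- the algebraic derivation of a derivation into the associated sheaf. -/
noncomputable def derOf (D : Der (fAB A B) (tilde (ModuleCat.of B L))) : Derivation A B L :=
  Derivation.mk'
    { toFun := fun t => (τe B L).symm (algδ D t)
      map_add' := fun x y => by rw [map_add, map_add]
      map_smul' := fun a b => by
        rw [Algebra.smul_def, algδ_mul, algδ_kill, smul_zero, add_zero, map_smul,
          algebraMap_smul]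
        rfl }
    (fun a b => by
      change (τe B L).symm (algδ D (a * b)) = a • (τe B L).symm (algδ D b) +
        b • (τe B L).symm (algδ D a)
      rw [algδ_mul, map_add, map_smul, map_smul])

theorem derOf_spec (D : Der (fAB A B) (tilde (ModuleCat.of B L))) (t : B) :
    D.app ⊤ ((Scheme.ΓSpecIso B).inv t) = τ B L (derOf A D t) := by
  change _ = τe B L ((τe B L).symm (algδ D t))
  rw [LinearEquiv.apply_symm_apply]
  rfl

theorem main' :
    (∀ D : Der (fAB A B) (tilde (ModuleCat.of B L)),
      ∃ δ : Derivation A B L, ∀ t : B, D.app ⊤ ((Scheme.ΓSpecIso B).inv t) = τ B L (δ t)) ∧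
    ∀ δ : Derivation A B L,
      ∃! D : Der (fAB A B) (tilde (ModuleCat.of B L)),
        ∀ t : B, D.app ⊤ ((Scheme.ΓSpecIso B).inv t) = τ B L (δ t) := by
  refine ⟨fun D => ⟨derOf A D, derOf_spec A D⟩, fun δ => ⟨tildeDer A δ, tildeDer_top A δ, ?_⟩⟩
  intro D hD
  apply specDer_ext
  intro t
  rw [hD, tildeDer_top]

end

theorem main (A B : Type u) [CommRing A] [CommRing B] [Algebra A B]
    (L : Type u) [AddCommGroup L] [Module B L] [Module A L] [IsScalarTower A B L] :
    (∀ D : OmegaSh.Der (Spec.map (CommRingCat.ofHom (algebraMap A B))) (tilde (ModuleCat.of (CommRingCat.of B) L)),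
      ∃ δ : Derivation A B L, ∀ t : B, D.app ⊤ ((Scheme.ΓSpecIso (CommRingCat.of B)).inv t) =
        (tilde.isoTop (ModuleCat.of (CommRingCat.of B) L)).hom (δ t)) ∧
    ∀ δ : Derivation A B L,
      ∃! D : OmegaSh.Der (Spec.map (CommRingCat.ofHom (algebraMap A B))) (tilde (ModuleCat.of (CommRingCat.of B) L)),
        ∀ t : B, D.app ⊤ ((Scheme.ΓSpecIso (CommRingCat.of B)).inv t) =
          (tilde.isoTop (ModuleCat.of (CommRingCat.of B) L)).hom (δ t) :=
  main' (CommRingCat.of A) (B := CommRingCat.of B) (L := L)


end


/-- Let A be a commutative ring, B an A-algebra and L a B-module; put S = Spec A, X = Spec B and let F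
be the O_X-module associated with L. For an S-derivation D of O_X into F write Γ(D) : B → L for its
effect on global sections (global sections of O_X and of F being identified with B and L by the
canonical isomorphisms). Then D ↦ Γ(D) is a bijection from the set of S-derivations of O_X into F
onto the set of A-derivations of B into L: every Γ(D) is an A-derivation, and every A-derivation of
B into L is Γ(D) for exactly one D. (The published statement asserts an isomorphism of B-modules; no
module structure is placed on sheaf derivations here, so this row states the bijection.) -/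
theorem result (A B : Type u) [CommRing A] [CommRing B] [Algebra A B]
    (L : Type u) [AddCommGroup L] [Module B L] [Module A L] [IsScalarTower A B L] :
    (∀ D : OmegaSh.Der (Spec.map (CommRingCat.ofHom (algebraMap A B))) (tilde (ModuleCat.of (CommRingCat.of B) L)),
      ∃ δ : Derivation A B L, ∀ t : B, D.app ⊤ ((Scheme.ΓSpecIso (CommRingCat.of B)).inv t) =
        (tilde.isoTop (ModuleCat.of (CommRingCat.of B) L)).hom (δ t)) ∧
    ∀ δ : Derivation A B L,
      ∃! D : OmegaSh.Der (Spec.map (CommRingCat.ofHom (algebraMap A B))) (tilde (ModuleCat.of (CommRingCat.of B) L)),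
        ∀ t : B, D.app ⊤ ((Scheme.ΓSpecIso (CommRingCat.of B)).inv t) =
          (tilde.isoTop (ModuleCat.of (CommRingCat.of B) L)).hom (δ t) := by
  classical
  exact main A B L

end Groth.Agent.S5947
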