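import Groth.Statements.S5956
import Mathlib
import Groth.Agent.Lib.Lead.PPT

set_option autoImplicit false
universe u
open CategoryTheory CategoryTheory.Limits AlgebraicGeometry TopologicalSpace Opposite
open Nrm16

namespace Groth.Agent.S5956

section
open CategoryTheory CategoryTheory.Limits AlgebraicGeometry TopologicalSpace Opposite

open PrinPart OmegaSh Groth.Agent.Lead.PP Groth.Agent.Lead.PPT

variable {X S : Scheme.{u}} (f : X ⟶ S) {n m : ℕ} (h : n ≤ m)

/-- the transition morphism of infinitesimal neighbourhoods of the diagonal. -/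
noncomputable abbrev τ : nbhd f n ⟶ nbhd f m := infNbhdMap (diagCl f) h

theorem τ_nbhdι : τ f h ≫ nbhdι f m = nbhdι f n := by
  simp only [nbhdι, infNbhdMap_ι_assoc]

theorem τ_pr1 : τ f h ≫ pr1 f m = pr1 f n := by
  simp only [pr1, ← Category.assoc, τ_nbhdι]

theorem τ_pr2 : τ f h ≫ pr2 f m = pr2 f n := by
  simp only [pr2, ← Category.assoc, τ_nbhdι]

variable (F : X.Modules)

/-- the transition map `P^m(F) ⟶ P^n(F)`. -/
noncomputable def trans : PMod f m F ⟶ PMod f n F :=
  ρ (τ f h) (pr1 f m) (pr2 f m) (pr1 f n) (pr2 f n) (τ_pr1 f h) (τ_pr2 f h) F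

theorem trans_dP (U : X.Opens) (t : Γ(F, U)) :
    (trans f h F).app U (dP f m F U t) = dP f n F U t :=
  ρ_res_σ (τ f h) (pr1 f m) (pr2 f m) (pr1 f n) (pr2 f n) (τ_pr1 f h) (τ_pr2 f h) F U
    (preimage_pr1 f m U).le (preimage_pr1 f n U).le t

include h in
theorem main (F G : X.Modules) (D : F.presheaf ⟶ G.presheaf)
    (hD : PrinPart.IsDiffOpLE f F G n D) : PrinPart.IsDiffOpLE f F G m D := by
  obtain ⟨u, hu⟩ := hD
  refine ⟨trans f h F ≫ u, fun U t => ?_⟩
  rw [Scheme.Modules.Hom.comp_app, ConcreteCategory.comp_apply, trans_dP]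
  exact hu U t


end


/-- Let f : X ⟶ S be a morphism of schemes, F and G two O_X-modules and D : F ⟶ G a differential
operator of order at most n relative to S. Then D is a differential operator of order at most m for
every m ≥ n. -/
theorem result {X S : Scheme.{u}} (f : X ⟶ S) (F G : X.Modules) {n m : ℕ} (h : n ≤ m)
    (D : F.presheaf ⟶ G.presheaf) (hD : PrinPart.IsDiffOpLE f F G n D) :
    PrinPart.IsDiffOpLE f F G m D := by
  classical
  exact main f h F G D hD

end Groth.Agent.S5956
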