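import Groth.Statements.S5957
import Mathlib
import Groth.Agent.Lib.Lead.PP3

set_option autoImplicit false
universe u
open CategoryTheory CategoryTheory.Limits AlgebraicGeometry TopologicalSpace Opposite
open Nrm16

namespace Groth.Agent.S5957

section
open CategoryTheory CategoryTheory.Limits AlgebraicGeometry TopologicalSpace Opposite

open PrinPart OmegaSh Groth.Agent.Lead.PP

variable {X S : Scheme.{u}} (f : X ⟶ S) (F G : X.Modules)

theorem dP_zero_smul (U : X.Opens) (a : Γ(X, U)) (t : Γ(F, U)) :
    dP f 0 F U (a • t) = a • dP f 0 F U t := by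
  have h0 := prod_delta f 0 U (pr1 f 0 ⁻¹ᵁ U) le_rfl ![a]
  rw [Fin.prod_univ_one] at h0
  simp only [delta, Matrix.cons_val_zero] at h0
  rw [sub_eq_zero] at h0
  refine (dP_smul f 0 F U a t).trans ?_
  refine Eq.trans ?_ (smul_PMod f 0 F U a (dP f 0 F U t)).symm
  rw [h0, Scheme.Hom.appLE_eq_app]

/-- `d⁰` as an isomorphism of modules. -/
noncomputable def d0Iso : F ≅ PMod f 0 F :=
  asIso ((Scheme.Modules.pullbackPushforwardAdjunction (pr2 f 0)).unit.app F) ≪≫
    (Scheme.Modules.pushforwardCongr ((pr2_zero_eq f).trans (pr1_zero_eq f).symm)).app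
      ((Scheme.Modules.pullback (pr2 f 0)).obj F)

/-- `d⁰` as a morphism of modules. -/
noncomputable def d0Hom : F ⟶ PMod f 0 F := (d0Iso f F).hom

theorem d0Hom_app (U : X.Opens) (t : Γ(F, U)) : (d0Hom f F).app U t = dP f 0 F U t := rfl

instance : IsIso (d0Hom f F) := (d0Iso f F).isIso_hom

variable (D : F.presheaf ⟶ G.presheaf)

/-- a linear map of abelian presheaves as a morphism of modules. -/
noncomputable def linHom
    (hD : ∀ (U : X.Opens) (a : Γ(X, U)) (t : Γ(F, U)), D.app (op U) (a • t) = a • D.app (op U) t) :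
    F ⟶ G :=
  ⟨PresheafOfModules.homMk D (fun U r m => hD U.unop r m)⟩

theorem linHom_app
    (hD : ∀ (U : X.Opens) (a : Γ(X, U)) (t : Γ(F, U)), D.app (op U) (a • t) = a • D.app (op U) t)
    (U : X.Opens) (t : Γ(F, U)) : (linHom F G D hD).app U t = D.app (op U) t := rfl

theorem main :
    PrinPart.IsDiffOpLE f F G 0 D ↔
      ∀ (U : X.Opens) (a : Γ(X, U)) (t : Γ(F, U)), D.app (op U) (a • t) = a • D.app (op U) t := by
  constructor
  · rintro ⟨u, hu⟩ U a t
    rw [hu, hu, dP_zero_smul, Scheme.Modules.Hom.app_smul]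
  · intro hD
    refine ⟨inv (d0Hom f F) ≫ linHom F G D hD, ?_⟩
    intro U t
    have h1 : (d0Hom f F ≫ (inv (d0Hom f F) ≫ linHom F G D hD)).app U t =
        (linHom F G D hD).app U t := by
      rw [IsIso.hom_inv_id_assoc]
    exact h1.symm


end


/-- Let f : X ⟶ S be a morphism of schemes, F and G two O_X-modules and D : F ⟶ G a homomorphism of
sheaves of abelian groups. Then D is a differential operator of order at most 0 relative to S if and
only if D is O_X-linear: D(a·t) = a·D(t) for every open U, every function a on U and every section t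
of F over U. -/
theorem result {X S : Scheme.{u}} (f : X ⟶ S) (F G : X.Modules)
    (D : F.presheaf ⟶ G.presheaf) :
    PrinPart.IsDiffOpLE f F G 0 D ↔
      ∀ (U : X.Opens) (a : Γ(X, U)) (t : Γ(F, U)), D.app (op U) (a • t) = a • D.app (op U) t := by
  classical
  exact main f F G D

end Groth.Agent.S5957
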