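import Groth.Statements.S5961
import Mathlib
import Groth.Agent.Lib.Lead.PP2
import Groth.Agent.Lib.Helper1.TwistAmple

set_option autoImplicit false
universe u
open CategoryTheory CategoryTheory.Limits AlgebraicGeometry TopologicalSpace Opposite
open Nrm16

namespace Groth.Agent.S5961

section
open CategoryTheory CategoryTheory.Limits AlgebraicGeometry TopologicalSpace Opposite

open PrinPart OmegaSh Groth.Agent.Lead.PP

variable {X S : Scheme.{u}} (f : X ⟶ S) (G : X.Modules)
  (D : (Coh.structureModule X).presheaf ⟶ G.presheaf)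

theorem D_map {U V : X.Opens} (e : V ≤ U) (t : Γ(Coh.structureModule X, U)) :
    D.app (op V) ((Coh.structureModule X).presheaf.map (homOfLE e).op t) =
      G.presheaf.map (homOfLE e).op (D.app (op U) t) :=
  congr($(D.naturality (homOfLE e).op) t)

variable (u : PMod f 1 (Coh.structureModule X) ⟶ G)
  (hu : ∀ (U : X.Opens) (t : Γ(Coh.structureModule X, U)),
    D.app (op U) t = u.app U (dP f 1 (Coh.structureModule X) U t))

include hu in
theorem D_mul (U : X.Opens) (a b : Γ(X, U)) :
    D.app (op U) (strSect X U (a * b)) =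
      a • D.app (op U) (strSect X U b) + b • D.app (op U) (strSect X U a) -
        (a * b) • D.app (op U) (strSect X U 1) := by
  have h := dP_one_mul f (Coh.structureModule X) U a b (strSect X U 1)
  have e1 : (a * b) • strSect X U 1 = strSect X U (a * b) := by
    rw [← strSect_mul, mul_one]
  have e2 : b • strSect X U 1 = strSect X U b := by rw [← strSect_mul, mul_one]
  have e3 : a • strSect X U 1 = strSect X U a := by rw [← strSect_mul, mul_one]
  rw [e1, e2, e3] at h
  rw [hu, hu, hu, hu, h, map_sub, map_add, Scheme.Modules.Hom.app_smul,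
    Scheme.Modules.Hom.app_smul, Scheme.Modules.Hom.app_smul]

include hu in
theorem D_base (V : S.Opens) (c : Γ(S, V)) :
    D.app (op (f ⁻¹ᵁ V)) (strSect X (f ⁻¹ᵁ V) (f.app V c)) =
      f.app V c • D.app (op (f ⁻¹ᵁ V)) (strSect X (f ⁻¹ᵁ V) 1) := by
  have h := dP_base_smul f 1 (Coh.structureModule X) V c (f ⁻¹ᵁ V) le_rfl (strSect X (f ⁻¹ᵁ V) 1)
  rw [Scheme.Hom.appLE_eq_app] at h
  have e1 : f.app V c • strSect X (f ⁻¹ᵁ V) 1 = strSect X (f ⁻¹ᵁ V) (f.app V c) := by
    rw [← strSect_mul, mul_one]
  rw [e1] at h
  rw [hu, hu, h, Scheme.Modules.Hom.app_smul]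

theorem D_one_map {U V : X.Opens} (e : V ≤ U) :
    G.presheaf.map (homOfLE e).op (D.app (op U) (strSect X U 1)) =
      D.app (op V) (strSect X V 1) := by
  rw [← D_map]
  congr 1
  exact map_one (X.presheaf.map (homOfLE e).op).hom

/-- the value of the derivation part. -/
noncomputable def dVal (U : X.Opens) (a : Γ(X, U)) : Γ(G, U) :=
  D.app (op U) (strSect X U a) - a • D.app (op U) (strSect X U 1)

theorem dVal_add (U : X.Opens) (a b : Γ(X, U)) :
    dVal G D U (a + b) = dVal G D U a + dVal G D U b := by
  simp only [dVal]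
  rw [map_add, map_add, add_smul]
  abel

include hu in
theorem dVal_mul (U : X.Opens) (a b : Γ(X, U)) :
    dVal G D U (a * b) = a • dVal G D U b + b • dVal G D U a := by
  simp only [dVal]
  rw [D_mul f G D u hu, smul_sub, smul_sub, ← mul_smul, ← mul_smul, mul_comm b a]
  abel

theorem dVal_map {U V : X.Opens} (e : V ≤ U) (a : Γ(X, U)) :
    dVal G D V (X.presheaf.map (homOfLE e).op a) =
      G.presheaf.map (homOfLE e).op (dVal G D U a) := by
  simp only [dVal]
  rw [map_sub, Scheme.Modules.map_smul, D_one_map, ← D_map]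
  rfl

include hu in
theorem dVal_app (V : S.Opens) (c : Γ(S, V)) : dVal G D (f ⁻¹ᵁ V) (f.app V c) = 0 := by
  simp only [dVal]
  rw [D_base f G D u hu, sub_self]

/-- the derivation part of an operator of order at most one. -/
noncomputable def dPart
    (hu : ∀ (U : X.Opens) (t : Γ(Coh.structureModule X, U)),
      D.app (op U) t = u.app U (dP f 1 (Coh.structureModule X) U t)) : Der f G where
  d {U} := AddMonoidHom.mk' (fun a => dVal G D U.unop a) (dVal_add G D U.unop)
  d_mul {U} a b := dVal_mul f G D u hu U.unop a b
  d_map {_ _} i a := dVal_map G D i.unop.le a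
  d_app {V} c := dVal_app f G D u hu V.unop c

theorem dPart_app (hu : ∀ (U : X.Opens) (t : Γ(Coh.structureModule X, U)),
      D.app (op U) t = u.app U (dP f 1 (Coh.structureModule X) U t)) (U : X.Opens) (a : Γ(X, U)) :
    (dPart f G D u hu).app U a = dVal G D U a := rfl

theorem der_one {F : X.Modules} (d : Der f F) (U : X.Opens) : d.app U 1 = 0 :=
  PresheafOfModules.Derivation.d_one d (op U)

theorem main (hD : PrinPart.IsDiffOpLE f (Coh.structureModule X) G 1 D) :
    ∃! p : (Coh.structureModule X ⟶ G) × OmegaSh.Der f G,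
      ∀ (U : X.Opens) (a : Γ(X, U)),
        D.app (op U) (OmegaSh.strSect X U a) = p.1.app U (OmegaSh.strSect X U a) + p.2.app U a := by
  obtain ⟨u, hu⟩ := hD
  let σ : Γ(G, ⊤) := D.app (op ⊤) (strSect X ⊤ 1)
  let v : Coh.structureModule X ⟶ G := Groth.Agent.Helper1.TwistAmple.homOfSec G σ
  have hv : ∀ (U : X.Opens) (a : Γ(X, U)),
      v.app U (strSect X U a) = a • D.app (op U) (strSect X U 1) := by
    intro U a
    have h1 := Groth.Agent.Helper1.TwistAmple.homOfSec_app G σ U a
    rw [D_one_map G D (le_top : U ≤ ⊤)] at h1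
    exact h1
  refine ⟨(v, dPart f G D u hu), ?_, ?_⟩
  · intro U a
    change _ = v.app U (strSect X U a) + (dPart f G D u hu).app U a
    rw [hv, dPart_app, dVal]
    abel
  · rintro ⟨v', d'⟩ h
    have hv' : ∀ (U : X.Opens) (a : Γ(X, U)),
        v'.app U (strSect X U a) = a • D.app (op U) (strSect X U 1) := by
      intro U a
      have h1 := h U 1
      rw [der_one, add_zero] at h1
      have e : strSect X U a = a • strSect X U 1 := by rw [← strSect_mul, mul_one]
      rw [e, Scheme.Modules.Hom.app_smul, h1]
    have e1 : v' = v := by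
      apply Scheme.Modules.hom_ext
      intro U
      ext t
      exact (hv' U t).trans (hv U t).symm
    have e2 : d' = dPart f G D u hu := by
      apply PresheafOfModules.Derivation.ext
      funext U
      apply AddMonoidHom.ext
      intro a
      have h1 := h U.unop a
      change D.app (op U.unop) (strSect X U.unop a) =
        v'.app U.unop (strSect X U.unop a) + d'.app U.unop a at h1
      rw [hv'] at h1
      change d'.app U.unop a = dVal G D U.unop a
      rw [dVal, h1]
      abel
    rw [e1, e2]


end


/-- Let f : X ⟶ S be a morphism of schemes, G an O_X-module and D : O_X ⟶ G a differential operator of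
order at most 1 relative to S. Then D can be written in exactly one way as v + d with v : O_X ⟶ G an
O_X-linear map and d an S-derivation of O_X into G. -/
theorem result {X S : Scheme.{u}} (f : X ⟶ S) (G : X.Modules)
    (D : (Coh.structureModule X).presheaf ⟶ G.presheaf)
    (hD : PrinPart.IsDiffOpLE f (Coh.structureModule X) G 1 D) :
    ∃! p : (Coh.structureModule X ⟶ G) × OmegaSh.Der f G,
      ∀ (U : X.Opens) (a : Γ(X, U)),
        D.app (op U) (OmegaSh.strSect X U a) = p.1.app U (OmegaSh.strSect X U a) + p.2.app U a := by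
  classical
  exact main f G D hD

end Groth.Agent.S5961
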