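import Groth.Statements.S5968
import Mathlib
import Groth.Agent.Lib.Lead.PP4
import Groth.Agent.Lib.Lead.PBQc
import Groth.Agent.Lib.Helper1.FinPush

set_option autoImplicit false
universe u
open CategoryTheory CategoryTheory.Limits AlgebraicGeometry TopologicalSpace Opposite
open Nrm16

namespace Groth.Agent.S5968

section
open CategoryTheory CategoryTheory.Limits AlgebraicGeometry TopologicalSpace Opposite

open PrinPart OmegaSh Groth.Agent.Lead.PP

theorem main {X S : Scheme.{u}} (f : X ⟶ S) [LocallyOfFiniteType f] (n : ℕ)
    (F : X.Modules) (hF : Coh.IsCoh F) :
    Coh.IsCoh (PrinPart.PMod f n F) := by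
  have : F.IsQuasicoherent := hF.1
  have h1 : Coh.IsCoh ((Scheme.Modules.pullback (pr2 f n)).obj F) :=
    ⟨Groth.Agent.Lead.PB.isQuasicoherent_pullback (pr2 f n) F,
      Groth.Agent.Lead.PB.isFT_pullback (pr2 f n) F hF.2⟩
  exact Groth.Agent.Helper1.FinPush.isCoh_pushforward (pr1 f n) _ h1


end


/-- Consider a morphism f : X ⟶ S that is locally of finite type, fix a natural number n, and suppose F
is an O_X-module which is quasi-coherent and of finite type. Regarded as an O_X-module through its
left structure, the sheaf of principal parts P^n_{X/S}(F) is again quasi-coherent and of finite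
type. (The published result covers both O_X-module structures on P^n_{X/S}(F); here only the left
one is treated, since that is the structure the sheaf of principal parts is given in this
formalization.) -/
theorem result {X S : Scheme.{u}} (f : X ⟶ S) [LocallyOfFiniteType f] (n : ℕ)
    (F : X.Modules) (hF : Coh.IsCoh F) :
    Coh.IsCoh (PrinPart.PMod f n F) := by
  classical
  exact main f n F hF

end Groth.Agent.S5968
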