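import Groth.Statements.S5972
import Mathlib
import Groth.Agent.Lib.Lead.PP6
import Groth.Agent.Lib.Helper1.PullSec

set_option autoImplicit false
universe u
open CategoryTheory CategoryTheory.Limits AlgebraicGeometry TopologicalSpace Opposite
open Nrm16

namespace Groth.Agent.S5972

section
open CategoryTheory CategoryTheory.Limits AlgebraicGeometry TopologicalSpace Opposite TensorProduct

open PrinPart OmegaSh Groth.Agent.Lead.PP Groth.Agent.Lead.PPA Groth.Agent.Helper1.PullSec
  Groth.Agent.Helper1.QcCech Groth.Agent.Helper1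

section Gen

variable {Nn X : Scheme.{u}} (p1 p2 : Nn ⟶ X)

example : p1 ⁻¹ᵁ ⊤ = ⊤ := rfl

/-- the comparison `Γ(p1_* p2^* O_X, ⊤) → Γ(Nn, ⊤)`. -/
noncomputable def ε :
    Γ((Scheme.Modules.pushforward p1).obj ((Scheme.Modules.pullback p2).obj (Coh.structureModule X)), ⊤)
      →+ Γ(Nn, ⊤) :=
  ((unitIso p2).hom.app ⊤).hom

theorem ε_bijective : Function.Bijective (ε p1 p2) := by
  have : IsIso ((unitIso p2).hom.app (⊤ : Nn.Opens)) := inferInstance
  exact (ConcreteCategory.isIso_iff_bijective _).1 this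

theorem ε_smul_σ (b b' : Γ(X, ⊤)) :
    ε p1 p2 (b • (show Γ((Scheme.Modules.pushforward p1).obj
        ((Scheme.Modules.pullback p2).obj (Coh.structureModule X)), ⊤) from
        σ p2 (Coh.structureModule X) ⊤ (show Γ(Coh.structureModule X, ⊤) from b'))) =
      p1.appTop b * p2.appTop b' := by
  have h1 := unitIso_σ p2 ⊤ b'
  let y : Γ((Scheme.Modules.pullback p2).obj (Coh.structureModule X), (⊤ : Nn.Opens)) :=
    σ p2 (Coh.structureModule X) ⊤ (show Γ(Coh.structureModule X, ⊤) from b')
  have h2 : (b • (show Γ((Scheme.Modules.pushforward p1).obj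
        ((Scheme.Modules.pullback p2).obj (Coh.structureModule X)), ⊤) from
        σ p2 (Coh.structureModule X) ⊤ (show Γ(Coh.structureModule X, ⊤) from b'))) =
      (show Γ((Scheme.Modules.pullback p2).obj (Coh.structureModule X), (⊤ : Nn.Opens)) from
        (show Γ(Nn, (⊤ : Nn.Opens)) from p1.appTop b) • y) :=
    rfl
  rw [h2]
  change (unitIso p2).hom.app ⊤ ((show Γ(Nn, (⊤ : Nn.Opens)) from p1.appTop b) • y) = _
  rw [Scheme.Modules.Hom.app_smul]
  have h3 : (unitIso p2).hom.app ⊤ y =
      (show Γ(Coh.structureModule Nn, (⊤ : Nn.Opens)) from p2.appTop b') := h1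
  rw [h3]
  rfl

theorem ε_smul_dP (hle : p1 ⁻¹ᵁ ⊤ ≤ p2 ⁻¹ᵁ ⊤) (b b' : Γ(X, ⊤)) :
    ε p1 p2 (b • (show Γ((Scheme.Modules.pushforward p1).obj
        ((Scheme.Modules.pullback p2).obj (Coh.structureModule X)), ⊤) from
        ((Scheme.Modules.pullback p2).obj (Coh.structureModule X)).presheaf.map (homOfLE hle).op
          (pullSect p2 (Coh.structureModule X) ⊤ (strSect X ⊤ b')))) =
      p1.appTop b * p2.appTop b' := by
  have h0 : ((Scheme.Modules.pullback p2).obj (Coh.structureModule X)).presheaf.map (homOfLE hle).op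
      (pullSect p2 (Coh.structureModule X) ⊤ (strSect X ⊤ b')) =
      σ p2 (Coh.structureModule X) ⊤ (show Γ(Coh.structureModule X, ⊤) from b') := by
    change ((Scheme.Modules.pullback p2).obj (Coh.structureModule X)).presheaf.map
      (homOfLE (le_refl (⊤ : Nn.Opens))).op _ = _
    have : (homOfLE (le_refl (⊤ : Nn.Opens))).op = 𝟙 _ := Subsingleton.elim _ _
    rw [this, CategoryTheory.Functor.map_id]
    rfl
  rw [h0]
  exact ε_smul_σ p1 p2 b b'

end Gen

section Main

variable (A B : Type u) [CommRing A] [CommRing B] [Algebra A B] (n : ℕ)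

theorem main
    (ψ : TensorProduct A B B →+
      Γ(PrinPart.P (Spec.map (CommRingCat.ofHom (algebraMap A B))) n, (⊤ : (Spec (CommRingCat.of B)).Opens)))
    (hψ : ∀ b b' : B, ψ (b ⊗ₜ[A] b') =
      (Scheme.ΓSpecIso (CommRingCat.of B)).inv b •
        PrinPart.dn (Spec.map (CommRingCat.ofHom (algebraMap A B))) n ⊤
          ((Scheme.ΓSpecIso (CommRingCat.of B)).inv b')) :
    Function.Surjective ψ ∧ ψ.ker = (KaehlerDifferential.ideal A B ^ (n + 1)).toAddSubgroup := by
  let e : Γ(PrinPart.P (Spec.map (CommRingCat.ofHom (algebraMap A B))) n,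
      (⊤ : (Spec (CommRingCat.of B)).Opens)) →+ Γ(nbhd (fAB A B) n, ⊤) :=
    ε (pr1 (fAB A B) n) (pr2 (fAB A B) n)
  have key : ∀ x : B ⊗[A] B, e (ψ x) = (θ A B n).hom x := by
    intro x
    induction x using TensorProduct.induction_on with
    | zero => rw [map_zero, map_zero, map_zero]
    | tmul b b' =>
      rw [hψ, θ_tmul]
      exact ε_smul_dP (pr1 (fAB A B) n) (pr2 (fAB A B) n) (preimage_pr1 (fAB A B) n ⊤).le _ _
    | add x y hx hy => rw [map_add, map_add, map_add, hx, hy]
  have hb : Function.Bijective e := ε_bijective (pr1 (fAB A B) n) (pr2 (fAB A B) n)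
  constructor
  · intro y
    obtain ⟨x, hx⟩ := θ_surjective A B n (e y)
    refine ⟨x, hb.1 ?_⟩
    rw [key, hx]
  · ext x
    rw [AddMonoidHom.mem_ker, Submodule.mem_toAddSubgroup, ← ker_θ, RingHom.mem_ker, ← key]
    constructor
    · intro h; rw [h, map_zero]
    · intro h
      apply hb.1
      rw [h, map_zero]

end Main


end


/-- Let A → B be a ring homomorphism, X = Spec B, S = Spec A with f : X ⟶ S the induced morphism, and n
a natural number; identify B with the ring of global functions on X through the canonical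
isomorphism. If ψ : B ⊗_A B → Γ(X, P^n_{X/S}) is the additive map with ψ(b ⊗ b') = b · d^n(b') for
all b, b' in B, then ψ is surjective with kernel the (n+1)-st power of the kernel I of the
multiplication map B ⊗_A B → B. -/
theorem result (A B : Type u) [CommRing A] [CommRing B] [Algebra A B] (n : ℕ)
    (ψ : TensorProduct A B B →+
      Γ(PrinPart.P (Spec.map (CommRingCat.ofHom (algebraMap A B))) n, (⊤ : (Spec (CommRingCat.of B)).Opens)))
    (hψ : ∀ b b' : B, ψ (b ⊗ₜ[A] b') =
      (Scheme.ΓSpecIso (CommRingCat.of B)).inv b •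
        PrinPart.dn (Spec.map (CommRingCat.ofHom (algebraMap A B))) n ⊤
          ((Scheme.ΓSpecIso (CommRingCat.of B)).inv b')) :
    Function.Surjective ψ ∧ ψ.ker = (KaehlerDifferential.ideal A B ^ (n + 1)).toAddSubgroup := by
  classical
  exact main A B n ψ hψ

end Groth.Agent.S5972
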