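import Groth.Statements.S5973
import Mathlib
import Groth.Agent.Lib.Lead.IdM2
import Groth.Agent.Lib.Lead.FLF7
import Groth.Agent.Lib.Lead.PBQc

set_option autoImplicit false
universe u
open CategoryTheory CategoryTheory.Limits AlgebraicGeometry TopologicalSpace Opposite
open Nrm16

namespace Groth.Agent.S5973

section
open CategoryTheory CategoryTheory.Limits AlgebraicGeometry TopologicalSpace Opposite

open PrinPart OmegaSh Groth.Agent.Lead.IdM Groth.Agent.Helper1.IdealModL

variable {Y X : Scheme.{u}} (f : Y ⟶ X) [IsClosedImmersion f] [LocallyOfFinitePresentation f]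

theorem ker_fg (U : X.Opens) (hU : IsAffineOpen U) : (f.ker.ideal ⟨U, hU⟩).FG := by
  rw [Scheme.Hom.ker_apply]
  have hV : IsAffineOpen (f ⁻¹ᵁ U) := hU.preimage f
  have hs : Function.Surjective (f.app U).hom := f.app_surjective U hU
  letI := (f.app U).hom.toAlgebra
  have hfp : Algebra.FinitePresentation Γ(X, U) Γ(Y, f ⁻¹ᵁ U) := by
    have := HasRingHomProperty.appLE (P := @LocallyOfFinitePresentation) f inferInstance
      ⟨U, hU⟩ ⟨f ⁻¹ᵁ U, hV⟩ le_rfl
    rw [Scheme.Hom.appLE_eq_app] at this
    exact this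
  exact Algebra.FinitePresentation.ker_fG_of_surjective
    (Algebra.ofId Γ(X, U) Γ(Y, f ⁻¹ᵁ U)) hs

theorem isFT_idealMod_of_fg (J : X.IdealSheafData)
    (hJ : ∀ (U : X.Opens) (hU : IsAffineOpen U), (J.ideal ⟨U, hU⟩).FG) :
    CohB1.IsFT (ClSub.idealMod J) := by
  apply Groth.Agent.Lead.FLF.isFT_of_ft_sections
  intro U hU
  have e : Γ(ClSub.idealMod J, U) ≃ₗ[Γ(X, U)] (J.ideal ⟨U, hU⟩) :=
    (LinearEquiv.ofInjective (ιL J U) (ιL_injective J U)).trans
      (LinearEquiv.ofEq _ _ (range_ιL J ⟨U, hU⟩))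
  haveI : Module.Finite Γ(X, U) (J.ideal ⟨U, hU⟩) := Module.Finite.of_fg (hJ U hU)
  exact Module.Finite.equiv e.symm

theorem main (n : ℕ) : Coh.IsCoh (PrinPart.grMod f n) := by
  have hft : CohB1.IsFT (ClSub.idealMod (f.ker ^ n)) := by
    apply isFT_idealMod_of_fg
    intro U hU
    have : (f.ker ^ n).ideal ⟨U, hU⟩ = (f.ker.ideal ⟨U, hU⟩) ^ n := rfl
    rw [this]
    exact (ker_fg f U hU).pow
  exact ⟨Groth.Agent.Lead.PB.isQuasicoherent_pullback f _,
    Groth.Agent.Lead.PB.isFT_pullback f _ hft⟩


end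


/-- Let f : Y ⟶ X be a closed immersion which is locally of finite presentation. Then for every n the
n-th graded piece Gr_n(f) = I^n/I^(n+1) of the ideal of f, as an O_Y-module, is quasi-coherent of
finite type. (The published statement allows any immersion locally of finite presentation; this row
states the case of a closed immersion.) -/
theorem result {Y X : Scheme.{u}} (f : Y ⟶ X) [IsClosedImmersion f]
    [LocallyOfFinitePresentation f] (n : ℕ) :
    Coh.IsCoh (PrinPart.grMod f n) := by
  classical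
  exact main f n

end Groth.Agent.S5973
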