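import Groth.Statements.S5975
import Mathlib
import Groth.Agent.Lib.Lead.DerU1

set_option autoImplicit false
universe u
open CategoryTheory CategoryTheory.Limits AlgebraicGeometry TopologicalSpace Opposite
open Nrm16

namespace Groth.Agent.S5975

section
open CategoryTheory CategoryTheory.Limits AlgebraicGeometry TopologicalSpace Opposite

open OmegaSh Groth.Agent.Lead.DerU

section Id

variable {X : Scheme.{u}} (M : X.Modules)

theorem pullbackId_hom_pullSect (U : X.Opens) (x : Γ(M, U)) :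
    ((Scheme.Modules.pullbackId X).hom.app M).app U (pullSect (𝟙 X) M U x) = x := by
  have h1 := unit_conjugateEquiv (Adjunction.id (C := X.Modules))
    (Scheme.Modules.pullbackPushforwardAdjunction (𝟙 X)) (Scheme.Modules.pullbackId X).hom M
  rw [Scheme.Modules.conjugateEquiv_pullbackId_hom] at h1
  have h2 := congrArg (fun ψ => Scheme.Modules.Hom.app ψ U x) h1
  exact h2.symm

theorem pullbackId_inv_app (U : X.Opens) (x : Γ(M, U)) :
    ((Scheme.Modules.pullbackId X).inv.app M).app U x = pullSect (𝟙 X) M U x := by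
  have h := pullbackId_hom_pullSect M U x
  have h2 := congrArg (fun y => ((Scheme.Modules.pullbackId X).inv.app M).app U y) h
  refine h2.symm.trans ?_
  change ((Scheme.Modules.pullbackId X).hom.app M ≫ (Scheme.Modules.pullbackId X).inv.app M).app U
    (pullSect (𝟙 X) M U x) = _
  rw [Iso.hom_inv_id_app]
  rfl

end Id

section Kill

variable {X Y Z : Scheme.{u}} {f : X ⟶ Y} {g : Y ⟶ Z} {K : X.Modules}

/-- a derivation over `Z` which kills the functions coming from `Y` is a derivation over `Y`. -/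
noncomputable def derOfKills (D : Der (f ≫ g) K)
    (hD : ∀ (V : Y.Opens) (t : Γ(Y, V)), D.app (f ⁻¹ᵁ V) (f.app V t) = 0) : Der f K where
  d {U} := D.d (X := U)
  d_mul {U} a c := D.d_mul a c
  d_map {_ _} i s := D.d_map i s
  d_app {V} c := hD V.unop c

theorem derOfKills_app (D : Der (f ≫ g) K)
    (hD : ∀ (V : Y.Opens) (t : Γ(Y, V)), D.app (f ⁻¹ᵁ V) (f.app V t) = 0) (U : X.Opens)
    (s : Γ(X, U)) : (derOfKills D hD).app U s = D.app U s := rfl

end Kill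

section Main

variable {X Y Z : Scheme.{u}} (f : X ⟶ Y) (g : Y ⟶ Z)
    (ΩY : Y.Modules) (dY : OmegaSh.Der g ΩY) (hY : OmegaSh.IsUniversal dY)
    (ΩX : X.Modules) (dX : OmegaSh.Der (f ≫ g) ΩX) (hX : OmegaSh.IsUniversal dX)
    (ΩXY : X.Modules) (dXY : OmegaSh.Der f ΩXY) (hXY : OmegaSh.IsUniversal dXY)
    (c₁ : (Scheme.Modules.pullback f).obj ΩY ⟶ ΩX) (hc₁ : OmegaSh.IsDiffCompat f dY dX c₁)
    (c₂ : (Scheme.Modules.pullback (𝟙 X)).obj ΩX ⟶ ΩXY) (hc₂ : OmegaSh.IsDiffCompat (𝟙 X) dX dXY c₂)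

include hc₂ in
theorem c₂'_d (U : X.Opens) (s : Γ(X, U)) :
    ((Scheme.Modules.pullbackId X).inv.app ΩX ≫ c₂).app U (dX.app U s) = dXY.app U s := by
  rw [Scheme.Modules.Hom.comp_app, ConcreteCategory.comp_apply, pullbackId_inv_app]
  have := hc₂ U s
  rw [Scheme.Hom.id_app] at this
  exact this

/-- uniqueness of maps out of a universal receptacle. -/
theorem hom_ext_of_universal {W T : Scheme.{u}} {p : W ⟶ T} {Ω : W.Modules} {d : Der p Ω}
    (hd : IsUniversal d) {F : W.Modules} (a b : Ω ⟶ F)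
    (H : ∀ (U : W.Opens) (s : Γ(W, U)), a.app U (d.app U s) = b.app U (d.app U s)) : a = b := by
  have hab : d.postcomp b.val = d.postcomp a.val := der_ext fun U s => (H U s).symm
  exact (hd F (d.postcomp a.val)).unique rfl hab

include hc₂ hXY in
theorem cokernel_π_eq_zero :
    cokernel.π ((Scheme.Modules.pullbackId X).inv.app ΩX ≫ c₂) = 0 := by
  apply hom_ext_of_universal hXY
  intro U s
  have h1 := c₂'_d f g ΩX dX ΩXY dXY c₂ hc₂ U s
  have h2 : ((Scheme.Modules.pullbackId X).inv.app ΩX ≫ c₂) ≫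
      cokernel.π ((Scheme.Modules.pullbackId X).inv.app ΩX ≫ c₂) = 0 := cokernel.condition _
  have h3 := congrArg (fun ψ => Scheme.Modules.Hom.app ψ U (dX.app U s)) h2
  rw [← h1]
  exact h3

include hc₂ hXY in
theorem epi_c₂' : Epi ((Scheme.Modules.pullbackId X).inv.app ΩX ≫ c₂) :=
  Abelian.epi_of_cokernel_π_eq_zero _ (cokernel_π_eq_zero f g ΩX dX ΩXY dXY hXY c₂ hc₂)

include hc₂ hXY in
theorem epi_c₂ : Epi c₂ := by
  haveI := epi_c₂' f g ΩX dX ΩXY dXY hXY c₂ hc₂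
  have e : c₂ = (Scheme.Modules.pullbackId X).hom.app ΩX ≫
      ((Scheme.Modules.pullbackId X).inv.app ΩX ≫ c₂) := by
    rw [← Category.assoc, Iso.hom_inv_id_app, Category.id_comp]
  rw [e]
  infer_instance

include hY hc₁ hc₂ in
theorem comp_zero' : c₁ ≫ ((Scheme.Modules.pullbackId X).inv.app ΩX ≫ c₂) = 0 := by
  apply (adj_bijective f (Ω := ΩY) (Ω' := ΩXY)).1
  apply hom_ext_of_universal hY
  intro U t
  rw [adj_app, adj_app]
  have h1 := hc₁ U t
  rw [Scheme.Modules.Hom.comp_app, ConcreteCategory.comp_apply]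
  have h2 := c₂'_d f g ΩX dX ΩXY dXY c₂ hc₂ (f ⁻¹ᵁ U) (f.app U t)
  have h3 := der_app dXY U t
  have h4 : ((Scheme.Modules.pullbackId X).inv.app ΩX ≫ c₂).app (f ⁻¹ᵁ U)
      (c₁.app (f ⁻¹ᵁ U) (pullSect f ΩY U (dY.app U t))) = 0 := by
    rw [show c₁.app (f ⁻¹ᵁ U) (pullSect f ΩY U (dY.app U t)) = dX.app (f ⁻¹ᵁ U) (f.app U t) from h1]
    exact h2.trans h3
  refine h4.trans ?_
  rfl

include hc₁ in
theorem kills (V : Y.Opens) (t : Γ(Y, V)) :
    Der.app (dX.postcomp (cokernel.π c₁).val) (f ⁻¹ᵁ V) (f.app V t) = 0 := by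
  rw [postcomp_app]
  have h1 := hc₁ V t
  rw [← show c₁.app (f ⁻¹ᵁ V) (pullSect f ΩY V (dY.app V t)) = dX.app (f ⁻¹ᵁ V) (f.app V t) from h1]
  have h2 : c₁ ≫ cokernel.π c₁ = 0 := cokernel.condition _
  have h3 := congrArg (fun ψ => Scheme.Modules.Hom.app ψ (f ⁻¹ᵁ V)
    (pullSect f ΩY V (dY.app V t))) h2
  exact h3

include hX hXY hc₁ hc₂ in
theorem kernel_ι_comp : kernel.ι ((Scheme.Modules.pullbackId X).inv.app ΩX ≫ c₂) ≫
    cokernel.π c₁ = 0 := by
  obtain ⟨r, hr, -⟩ := hXY (cokernel c₁)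
    (derOfKills (dX.postcomp (cokernel.π c₁).val) (kills f g ΩY dY ΩX dX c₁ hc₁))
  have hr' : ∀ (U : X.Opens) (s : Γ(X, U)), r.app U (dXY.app U s) =
      (cokernel.π c₁).app U (dX.app U s) := by
    intro U s
    have := congrArg (fun D : Der f (cokernel c₁) => D.app U s) hr
    exact this
  have key : ((Scheme.Modules.pullbackId X).inv.app ΩX ≫ c₂) ≫ r = cokernel.π c₁ := by
    apply hom_ext_of_universal hX
    intro U s
    rw [Scheme.Modules.Hom.comp_app, ConcreteCategory.comp_apply,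
      c₂'_d f g ΩX dX ΩXY dXY c₂ hc₂ U s]
    exact hr' U s
  rw [← key, ← Category.assoc, kernel.condition, zero_comp]

include hY hX hXY hc₁ hc₂ in
theorem main : Epi c₂ ∧
    imageSubobject c₁ = kernelSubobject ((Scheme.Modules.pullbackId X).inv.app ΩX ≫ c₂) := by
  refine ⟨epi_c₂ f g ΩX dX ΩXY dXY hXY c₂ hc₂, ?_⟩
  have hz := comp_zero' f g ΩY dY hY ΩX dX ΩXY dXY c₁ hc₁ c₂ hc₂
  have hex : (ShortComplex.mk c₁ ((Scheme.Modules.pullbackId X).inv.app ΩX ≫ c₂) hz).Exact := by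
    rw [ShortComplex.exact_iff_kernel_ι_comp_cokernel_π_zero]
    exact kernel_ι_comp f g ΩY dY ΩX dX hX ΩXY dXY hXY c₁ hc₁ c₂ hc₂
  exact (ShortComplex.exact_iff_image_eq_kernel _).1 hex

end Main


end


/-- Let f : X ⟶ Y and g : Y ⟶ Z be morphisms of schemes. Let (Ω_{Y/Z}, d), (Ω_{X/Z}, d') and (Ω_{X/Y},
d'') be sheaves of differentials (universal derivations) and let c₁ : f^*Ω_{Y/Z} ⟶ Ω_{X/Z} and c₂ :
Ω_{X/Z} ⟶ Ω_{X/Y} be the canonical maps compatible with the derivations. Then c₂ is an epimorphism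
and the image of c₁ is the kernel of c₂: the sequence f^*Ω_{Y/Z} ⟶ Ω_{X/Z} ⟶ Ω_{X/Y} ⟶ 0 is exact. -/
theorem result {X Y Z : Scheme.{u}} (f : X ⟶ Y) (g : Y ⟶ Z)
    (ΩY : Y.Modules) (dY : OmegaSh.Der g ΩY) (hY : OmegaSh.IsUniversal dY)
    (ΩX : X.Modules) (dX : OmegaSh.Der (f ≫ g) ΩX) (hX : OmegaSh.IsUniversal dX)
    (ΩXY : X.Modules) (dXY : OmegaSh.Der f ΩXY) (hXY : OmegaSh.IsUniversal dXY)
    (c₁ : (Scheme.Modules.pullback f).obj ΩY ⟶ ΩX) (hc₁ : OmegaSh.IsDiffCompat f dY dX c₁)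
    (c₂ : (Scheme.Modules.pullback (𝟙 X)).obj ΩX ⟶ ΩXY) (hc₂ : OmegaSh.IsDiffCompat (𝟙 X) dX dXY c₂) :
    Epi c₂ ∧
      imageSubobject c₁ = kernelSubobject ((Scheme.Modules.pullbackId X).inv.app ΩX ≫ c₂) := by
  classical
  exact main f g ΩY dY hY ΩX dX hX ΩXY dXY hXY c₁ hc₁ c₂ hc₂

end Groth.Agent.S5975
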