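import Groth.Statements.S5977
import Mathlib
import Groth.Agent.Lib.Lead.PP7e

set_option autoImplicit false
universe u
open CategoryTheory CategoryTheory.Limits AlgebraicGeometry TopologicalSpace Opposite
open Nrm16

namespace Groth.Agent.S5977

/-- Let f : Y ⟶ Z be a morphism and j : X ⟶ Y a closed immersion, and let φ : j^* P^n_{Y/Z} ⟶ P^n_{X/Z}
be the canonical O_X-linear map of sheaves of principal parts of order n, the one sending the
pullback of d^n b to d^n (j♯ b). Then φ is an epimorphism. (The published statement also identifies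
the kernel of φ as the ideal generated by the pullback of d^n of the ideal of j; this row states the
surjectivity.) -/
theorem result {X Y Z : Scheme.{u}} (f : Y ⟶ Z) (j : X ⟶ Y) [IsClosedImmersion j] (n : ℕ)
    (φ : (Scheme.Modules.pullback j).obj (PrinPart.P f n) ⟶ PrinPart.P (j ≫ f) n)
    (hφ : PrinPart.IsPMap f (j ≫ f) j n φ) :
    Epi φ := by
  classical
  apply Groth.Agent.Helper1.SerreCrit.epi_of_locally_surjective
  intro O t x hx
  obtain ⟨O'', hO''open, hO''⟩ := j.isClosedEmbedding.isInducing.isOpen_iff.mp O.2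
  let O' : Y.Opens := ⟨O'', hO''open⟩
  have hjx : j x ∈ O' := by
    change x ∈ j ⁻¹' O''
    rw [hO'']; exact hx
  obtain ⟨_, ⟨V, hV, rfl⟩, hxV, -⟩ := Z.isBasis_affineOpens.exists_subset_of_mem_open
    (Set.mem_univ (f (j x))) isOpen_univ
  obtain ⟨_, ⟨W, hW, rfl⟩, hxW, hWV⟩ := Y.isBasis_affineOpens.exists_subset_of_mem_open
    (show j x ∈ ((f ⁻¹ᵁ V ⊓ O' : Y.Opens) : Set Y) from ⟨hxV, hjx⟩) (f ⁻¹ᵁ V ⊓ O').2
  have hU : IsAffineOpen (j ⁻¹ᵁ W) := hW.preimage j
  have hUO : j ⁻¹ᵁ W ≤ O := by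
    intro y hy
    have : y ∈ j ⁻¹' O'' := (hWV hy).2
    rw [hO''] at this
    exact this
  have e : j ⁻¹ᵁ W ≤ (j ≫ f) ⁻¹ᵁ V := fun y hy => (hWV hy).1
  refine ⟨j ⁻¹ᵁ W, hUO, hxW, ?_⟩
  have hs := Groth.Agent.Lead.PP7.surjective_of_range_dn (j ≫ f) n hU hV e φ ?_
  · exact hs _
  · intro b
    obtain ⟨c, rfl⟩ := j.app_surjective W hW b
    exact ⟨_, hφ W c⟩

end Groth.Agent.S5977
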