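import Groth.Statements.S5981
import Mathlib
import Groth.Agent.Lib.Lead.PP7e

set_option autoImplicit false
universe u
open CategoryTheory CategoryTheory.Limits AlgebraicGeometry TopologicalSpace Opposite
open Nrm16

namespace Groth.Agent.S5981

/-- Let f : X ⟶ Y and g : Y ⟶ Z be morphisms of schemes and n a natural number, and let φ : (𝟙_X)^*
P^n_{X/Z} ⟶ P^n_{X/Y} be the canonical O_X-linear map of sheaves of principal parts of order n, the
one sending the pullback of d^n b (relative to Z) to d^n b (relative to Y) for every local function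
b. Then φ is an epimorphism. (The published statement also describes the kernel as the ideal
generated by the image of the augmentation ideal of f^* P^n_{Y/Z}; this row states the
surjectivity.) -/
theorem result {X Y Z : Scheme.{u}} (f : X ⟶ Y) (g : Y ⟶ Z) (n : ℕ)
    (φ : (Scheme.Modules.pullback (𝟙 X)).obj (PrinPart.P (f ≫ g) n) ⟶ PrinPart.P f n)
    (hφ : PrinPart.IsPMap (f ≫ g) f (𝟙 X) n φ) :
    Epi φ := by
  classical
  apply Groth.Agent.Helper1.SerreCrit.epi_of_locally_surjective
  intro O t x hx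
  obtain ⟨_, ⟨V, hV, rfl⟩, hxV, -⟩ := Y.isBasis_affineOpens.exists_subset_of_mem_open
    (Set.mem_univ (f x)) isOpen_univ
  obtain ⟨_, ⟨U, hU, rfl⟩, hxU, hUV⟩ := X.isBasis_affineOpens.exists_subset_of_mem_open
    (show x ∈ ((f ⁻¹ᵁ V ⊓ O : X.Opens) : Set X) from ⟨hxV, hx⟩) (f ⁻¹ᵁ V ⊓ O).2
  refine ⟨U, fun y hy => (hUV hy).2, hxU, ?_⟩
  have hs := Groth.Agent.Lead.PP7.surjective_of_range_dn f n hU hV (fun y hy => (hUV hy).1) φ ?_
  · exact hs _
  · intro b
    have h1 := hφ U b
    have h2 : (𝟙 X : X ⟶ X).app U b = b := by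
      rw [Scheme.Hom.id_app]; rfl
    rw [h2] at h1
    exact ⟨_, h1⟩

end Groth.Agent.S5981
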