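import Groth.Statements.S5985
import Groth.Agent.Lib.Helper6.EtLoc.QFPoint
import Groth.Agent.Lib.Helper6.EtLoc.FinUnion
import Groth.Agent.Lib.Helper6.EtLoc.NbhdRes
import Groth.Agent.Lib.Helper6.EtLoc.Sep

set_option autoImplicit false
universe u
open CategoryTheory AlgebraicGeometry
open Unram

namespace Groth.Agent.S5985

/-- Let f : X ⟶ Y be separated and locally of finite type, and y a point of Y whose fibre f⁻¹(y) is
finite (hence discrete). Then there are an étale morphism g : Y' ⟶ Y, a point y' of Y' with g(y') =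
y inducing an isomorphism of residue fields κ(y) ≅ κ(y'), and two complementary open subschemes V, W
of X' = X ×_Y Y' such that V ⟶ Y' is finite and W contains no point of X' lying over y'. -/
theorem result {X Y : Scheme.{u}} (f : X ⟶ Y)
    [LocallyOfFiniteType f] [IsSeparated f] (y : Y) (hfin : (f ⁻¹' {y}).Finite) :
    ∃ (Y' : Scheme.{u}) (g : Y' ⟶ Y) (y' : Y'), Etale g ∧ g y' = y ∧
      IsIso (g.residueFieldMap y') ∧
      ∃ (V W : (Limits.pullback f g).Opens), IsCompl V W ∧
        IsFinite (V.ι ≫ Limits.pullback.snd f g) ∧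
        ∀ x : ↥(Limits.pullback f g), Limits.pullback.snd f g x = y' → x ∈ V := by
  classical
  obtain ⟨m, x, hxr⟩ := hfin.fin_embedding
  have hxs : ∀ i, f (x i) = y := by
    intro i
    have : x i ∈ f ⁻¹' {y} := by rw [← hxr]; exact ⟨i, rfl⟩
    exact this
  have hqf : ∀ i, f.QuasiFiniteAt (x i) := fun i =>
    Groth.Agent.Lib.Helper6.EtLoc.quasiFiniteAt_of_finite_fiber f (x i) (by rw [hxs i]; exact hfin)
  obtain ⟨U, g, u, hg, hgu, hres, hd⟩ :=
    Groth.Agent.Lib.Helper6.EtLoc.exists_common_nbhd_res (P := @IsFinite) (f := f) y (Fin m) x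
      (fun i => by
        obtain ⟨U, g, u, h1, h2, h3, h4⟩ := Groth.Agent.Lib.Helper6.EtLoc.qf_point f (x i) (hqf i)
        exact ⟨U, g, u, h1, h2.trans (hxs i), h3, h4⟩)
  obtain ⟨K, hK, lab, V, h1, h2, h3, h4⟩ :=
    Groth.Agent.Lib.Helper6.EtLoc.assemble x x.injective g u hd
  have hcl : ∀ k, IsClosed (V k : Set ↑(Limits.pullback f g)) := fun k =>
    Groth.Agent.Lib.Helper6.EtLoc.isClosed_of_isFinite (Limits.pullback.snd f g) (V k) (h1 k).1
  obtain ⟨V', hV'le, hV'cl, hV'd, hV'fin, hV'pt⟩ :=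
    Groth.Agent.Lib.Helper6.EtLoc.disjointify (Limits.pullback.snd f g) u V hcl @IsFinite
      (fun i h hi hci hh => by
        have := hh
        infer_instance)
      (fun k => (h1 k).1) h3
  have hVcl : IsClosed ((⨆ k, V' k : (Limits.pullback f g).Opens) : Set ↑(Limits.pullback f g)) := by
    rw [TopologicalSpace.Opens.coe_iSup]
    exact isClosed_iUnion_of_finite hV'cl
  let W : (Limits.pullback f g).Opens := ⟨((⨆ k, V' k : (Limits.pullback f g).Opens) : Set _)ᶜ,
    hVcl.isOpen_compl⟩
  have hiso : IsIso (g.residueFieldMap u) :=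
    Groth.Agent.Lib.Helper6.EtLoc.isIso_of_surjective_field (Field.toIsField _) _ hres
  refine ⟨U, g, u, hg, hgu, hiso, ⨆ k, V' k, W, ?_, ?_, ?_⟩
  · rw [isCompl_iff]
    constructor
    · rw [disjoint_iff]
      ext z
      simp only [TopologicalSpace.Opens.coe_inf, Set.mem_inter_iff, SetLike.mem_coe,
        TopologicalSpace.Opens.coe_bot, Set.mem_empty_iff_false, iff_false, not_and]
      intro hz hzW
      exact hzW hz
    · rw [codisjoint_iff]
      ext z
      simp only [TopologicalSpace.Opens.coe_sup, Set.mem_union, SetLike.mem_coe,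
        TopologicalSpace.Opens.coe_top, Set.mem_univ, iff_true]
      by_cases hz : z ∈ (⨆ k, V' k : (Limits.pullback f g).Opens)
      · exact Or.inl hz
      · exact Or.inr hz
  · exact Groth.Agent.Lib.Helper6.EtLoc.isFinite_iSup (Limits.pullback.snd f g) K V' hV'd hV'fin
  · intro w hwu
    have hwy : f (Limits.pullback.fst f g w) = y := by
      rw [← Scheme.Hom.comp_apply, Limits.pullback.condition, Scheme.Hom.comp_apply, hwu, hgu]
    have hwr : Limits.pullback.fst f g w ∈ Set.range x := by rw [hxr]; exact hwy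
    obtain ⟨i, hi⟩ := hwr
    obtain ⟨k, -, hk⟩ := h4 w i hwu hi.symm
    rw [TopologicalSpace.Opens.mem_iSup]
    exact ⟨k, hV'pt k w hk hwu⟩

end Groth.Agent.S5985
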