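import Groth.Statements.S5999
import Mathlib
import Groth.Agent.Lib.Helper9.JacCrit
-- import your own Groth.Agent.* helpers here

set_option autoImplicit false
universe u
open SGA1

namespace Groth.Agent.S5999

open TensorProduct KaehlerDifferential IsLocalRing Groth.Agent.Helper9
namespace Aux

theorem main (R A : Type u) [CommRing R] [CommRing A] [IsNoetherianRing R] [Algebra R A]
    [Algebra.FiniteType R A]
    (F : A) (P : Ideal (A ⧸ Ideal.span ({F} : Set A))) [P.IsPrime]
    (hX : Algebra.IsSmoothAt R (JacCrit.q A (Ideal.span ({F} : Set A)) P)) :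
    Algebra.IsSmoothAt R P ↔
      algebraMap A (Localization.AtPrime (JacCrit.q A (Ideal.span ({F} : Set A)) P)) F = 0 ∨
      (1 : (JacCrit.q A (Ideal.span ({F} : Set A)) P).ResidueField) ⊗ₜ[A]
        KaehlerDifferential.D R A F ≠ 0 := by
  have : Algebra.FormallySmooth R
    (Localization.AtPrime (JacCrit.q A (Ideal.span ({F} : Set A)) P)) := hX
  rw [JacCrit.main R A (Ideal.span ({F} : Set A)) P]
  have hFq : F ∈ JacCrit.q A (Ideal.span ({F} : Set A)) P :=
    JacCrit.I_le_q A _ P (Ideal.subset_span rfl)
  constructor
  · rintro ⟨s, hsI, hspan, hli⟩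
    by_contra hcon
    push Not at hcon
    obtain ⟨hF0, hdF⟩ := hcon
    -- all differentials vanish
    have hzero : ∀ g : ↥s, (1 : (JacCrit.q A (Ideal.span ({F} : Set A)) P).ResidueField) ⊗ₜ[A]
        KaehlerDifferential.D R A (g : A) = 0 := by
      intro g
      obtain ⟨a, ha⟩ := Ideal.mem_span_singleton'.mp (hsI g.2)
      rw [← ha, Derivation.leibniz, TensorProduct.tmul_add, TensorProduct.tmul_smul,
        TensorProduct.tmul_smul, hdF, smul_zero, zero_add]
      rw [TensorProduct.smul_tmul', Algebra.smul_def, mul_one,
        Ideal.algebraMap_residueField_eq_zero.mpr hFq, TensorProduct.zero_tmul]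
    have hempty : IsEmpty ↥s := by
      by_contra hne
      rw [not_isEmpty_iff] at hne
      obtain ⟨g⟩ := hne
      exact hli.ne_zero g (hzero g)
    have hs : s = ∅ := by
      rw [Finset.eq_empty_iff_forall_notMem]
      intro x hx
      exact hempty.false ⟨x, hx⟩
    rw [hs, Finset.coe_empty, Set.image_empty, Ideal.span_empty, Ideal.map_span,
      Set.image_singleton, Ideal.span_singleton_eq_bot] at hspan
    exact hF0 hspan
  · rintro (h | h)
    · refine ⟨∅, by simp, ?_, ?_⟩
      · rw [Finset.coe_empty, Set.image_empty, Ideal.span_empty, Ideal.map_span,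
          Set.image_singleton, Ideal.span_singleton_eq_bot]
        exact h
      · exact linearIndependent_empty_type
    · classical
      refine ⟨{F}, ?_, ?_, ?_⟩
      · intro x hx
        simp only [Finset.coe_singleton, Set.mem_singleton_iff] at hx
        rw [hx]
        exact Ideal.subset_span rfl
      · rw [Ideal.map_span, Finset.coe_singleton]
      · have : Unique ↥({F} : Finset A) :=
          { default := ⟨F, Finset.mem_singleton_self F⟩
            uniq := fun x => Subtype.ext (Finset.mem_singleton.mp x.2) }
        rw [linearIndependent_unique_iff]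
        have hd : ((default : ↥({F} : Finset A)) : A) = F :=
          Finset.mem_singleton.mp (default : ↥({F} : Finset A)).2
        rw [hd]
        exact h

end Aux

open TensorProduct in
/-- Let R be a Noetherian ring, A an R-algebra of finite type, F an element of A, P a prime ideal of
A/(F) and q its preimage in A, and suppose A is smooth over R at q. Then the hypersurface A/(F) is
smooth over R at P if and only if either F is zero in the local ring A_q (F vanishes on a
neighbourhood of q) or the image dF(q) of the differential of F in κ(q) ⊗_A Ω_{A/R} is nonzero. -/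
theorem result
    (R A : Type u) [CommRing R] [CommRing A] [IsNoetherianRing R] [Algebra R A] [Algebra.FiniteType R A]
    (F : A) (P : Ideal (A ⧸ Ideal.span ({F} : Set A))) [P.IsPrime]
    (hX : Algebra.IsSmoothAt R (P.comap (Ideal.Quotient.mk (Ideal.span ({F} : Set A))))) :
    letI q : Ideal A := P.comap (Ideal.Quotient.mk (Ideal.span ({F} : Set A)))
    Algebra.IsSmoothAt R P ↔ algebraMap A (Localization.AtPrime q) F = 0 ∨
      (1 : q.ResidueField) ⊗ₜ[A] KaehlerDifferential.D R A F ≠ 0 := by
  exact Aux.main R A F P hX

end Groth.Agent.S5999
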