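import Groth.Statements.S6010
import Mathlib
import Groth.Prelude.Def_ChGrp
import Groth.Agent.S14541

set_option autoImplicit false
universe u
open CategoryTheory AlgebraicGeometry MonoidalCategory CartesianMonoidalCategory MonObj GrpObj
open SGA1

namespace Groth.Agent.S6010

section
open CategoryTheory AlgebraicGeometry MonoidalCategory CartesianMonoidalCategory MonObj GrpObj
open Limits
open Groth.Agent

variable {S : Scheme.{u}}

section Ker

variable {G G' G'' : Over S} [GrpObj G] [GrpObj G'] [GrpObj G''] (u : G' ⟶ G) (v : G ⟶ G'')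
  [IsMonHom u] [IsMonHom v]

theorem ker_lift (hpb : IsPullback (fst G G') ((G ◁ u) ≫ μ[G]) v v) {Z : Over S} (g : Z ⟶ G)
    (hg : g ≫ v = 1) : ∃ g' : Z ⟶ G', g' ≫ u = g := by
  have h1 : (1 : Z ⟶ G) ≫ v = g ≫ v := by rw [hg, MonObj.one_comp]
  have hw1 := hpb.lift_fst 1 g h1
  have hw2 := hpb.lift_snd 1 g h1
  obtain ⟨w, hw⟩ : ∃ w, w = hpb.lift 1 g h1 := ⟨_, rfl⟩
  rw [← hw] at hw1 hw2
  refine ⟨w ≫ snd G G', ?_⟩
  have hwl : w = lift 1 (w ≫ snd G G') := by
    rw [← hw1]; exact (lift_comp_fst_snd w).symm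
  have h3 : lift (1 : Z ⟶ G) (w ≫ snd G G') ≫ (G ◁ u) ≫ μ[G] = g := by rw [← hwl]; exact hw2
  rw [← Category.assoc, lift_whiskerLeft, ← Hom.mul_def, _root_.one_mul] at h3
  exact h3

theorem ker_mono (hpb : IsPullback (fst G G') ((G ◁ u) ≫ μ[G]) v v) {Z : Over S} (g₁ g₂ : Z ⟶ G')
    (h : g₁ ≫ u = g₂ ≫ u) : g₁ = g₂ := by
  have h2 : lift (1 : Z ⟶ G) g₁ = lift 1 g₂ := by
    apply hpb.hom_ext
    · rw [lift_fst, lift_fst]
    · rw [← Category.assoc, ← Category.assoc, lift_whiskerLeft, lift_whiskerLeft, h]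
  have h3 := congrArg (fun m => m ≫ snd G G') h2
  simpa using h3

end Ker

section Main

variable {G G' G'' : Over S} [GrpObj G] [GrpObj G'] [GrpObj G''] (u : G' ⟶ G) (v : G ⟶ G'')
  [IsMonHom u] [IsMonHom v] (huv : u ≫ v = 1)
  (hpb : IsPullback (fst G G') ((G ◁ u) ≫ μ[G]) v v)
  {P : Over S} (a : AlgGrp.Action G P) (f : P ⟶ G'')
  (hf : a.act ≫ f = lift (fst G P ≫ v) (snd G P ≫ f) ≫ μ[G''])

include hf in
theorem f_act {Z : Over S} (g : Z ⟶ G) (p : Z ⟶ P) :
    (lift g p ≫ a.act) ≫ f = (g ≫ v) * (p ≫ f) := by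
  rw [Category.assoc, hf, ← Category.assoc, comp_lift, lift_fst_assoc, lift_snd_assoc, Hom.mul_def]

noncomputable abbrev Qx : Over S := equalizer f (1 : P ⟶ G'')

noncomputable def inc : Qx f ⟶ P := equalizer.ι f 1

instance : Mono (inc f) := equalizer.ι_mono

theorem inc_f : inc f ≫ f = 1 := by
  unfold inc
  rw [equalizer.condition, comp_one]

noncomputable def liftQ {Z : Over S} (p : Z ⟶ P) (hp : p ≫ f = 1) : Z ⟶ Qx f :=
  equalizer.lift p (by rw [hp, comp_one])

theorem liftQ_inc {Z : Over S} (p : Z ⟶ P) (hp : p ≫ f = 1) : liftQ f p hp ≫ inc f = p :=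
  equalizer.lift_ι _ _

include huv hf in
theorem act_aux : (lift (fst G' (Qx f) ≫ u) (snd G' (Qx f) ≫ inc f) ≫ a.act) ≫ f = 1 := by
  rw [f_act v a f hf, Category.assoc, huv, comp_one, Category.assoc, inc_f, comp_one, _root_.one_mul]

noncomputable def actm : G' ⊗ Qx f ⟶ Qx f :=
  liftQ f (lift (fst G' (Qx f) ≫ u) (snd G' (Qx f) ≫ inc f) ≫ a.act) (act_aux u v huv a f hf)

theorem actm_inc : actm u v huv a f hf ≫ inc f =
    lift (fst G' (Qx f) ≫ u) (snd G' (Qx f) ≫ inc f) ≫ a.act := liftQ_inc _ _ _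

theorem actm_pt {Z : Over S} (g : Z ⟶ G') (q : Z ⟶ Qx f) :
    (lift g q ≫ actm u v huv a f hf) ≫ inc f = lift (g ≫ u) (q ≫ inc f) ≫ a.act := by
  rw [Category.assoc, actm_inc, ← Category.assoc, comp_lift, lift_fst_assoc, lift_snd_assoc]

noncomputable def actQ : AlgGrp.Action G' (Qx f) where
  act := actm u v huv a f hf
  one_act := by
    rw [← cancel_mono (inc f), Category.assoc, actm_inc, ← Category.assoc, comp_lift,
      whiskerRight_fst_assoc, whiskerRight_snd_assoc, IsMonHom.one_hom, leftUnitor_hom]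
    have : fst (𝟙_ (Over S)) (Qx f) ≫ η[G] = 1 := by
      rw [Hom.one_def]; congr 1
    rw [this, AlgGrp.Action.lift_one_act]
  mul_act := by
    apply AlgGrp.Action.hom_ext_lift₃
    intro T g g' q
    rw [← cancel_mono (inc f)]
    have e1 : lift (lift g g') q ≫ (μ[G'] ▷ Qx f) = lift (g * g') q := by
      rw [lift_whiskerRight, Hom.mul_def]
    have e2 : lift (lift g g') q ≫ (α_ G' G' (Qx f)).hom ≫ (G' ◁ actm u v huv a f hf) =
        lift g (lift g' q ≫ actm u v huv a f hf) := by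
      rw [lift_lift_associator_hom_assoc, lift_whiskerLeft]
    rw [← Category.assoc, e1, actm_pt, MonObj.mul_comp, AlgGrp.Action.lift_mul_act]
    rw [← Category.assoc (lift (lift g g') q), ← Category.assoc (lift (lift g g') q ≫ _)]
    rw [Category.assoc (lift (lift g g') q), e2, actm_pt, actm_pt]

include hpb in
theorem isPseudo [hτ : IsIso (lift a.act (snd G P))] :
    NonAbH1.IsPseudoTorsorSch (actQ u v huv a f hf) := by
  have hd : S14541.dv a (fst (Qx f) (Qx f) ≫ inc f) (snd (Qx f) (Qx f) ≫ inc f) ≫ v = 1 := by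
    have h1 := S14541.dv_act a (fst (Qx f) (Qx f) ≫ inc f) (snd (Qx f) (Qx f) ≫ inc f)
    have h2 := congrArg (fun m => m ≫ f) h1
    rw [f_act v a f hf, Category.assoc, inc_f, comp_one, Category.assoc, inc_f, comp_one,
      _root_.mul_one] at h2
    exact h2
  obtain ⟨κ, hκ⟩ := ker_lift u v hpb _ hd
  refine ⟨⟨lift κ (snd (Qx f) (Qx f)), ?_, ?_⟩⟩
  · apply CartesianMonoidalCategory.hom_ext
    · rw [Category.assoc, lift_fst, Category.id_comp]
      apply ker_mono u v hpb
      rw [Category.assoc, hκ, S14541.comp_dv, lift_fst_assoc, lift_snd_assoc]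
      change S14541.dv a (actm u v huv a f hf ≫ inc f) _ = _
      rw [actm_inc, S14541.dv_of_act]
    · rw [Category.assoc, lift_snd, lift_snd, Category.id_comp]
  · apply CartesianMonoidalCategory.hom_ext
    · rw [Category.assoc, lift_fst, Category.id_comp, ← cancel_mono (inc f)]
      change (lift κ (snd (Qx f) (Qx f)) ≫ actm u v huv a f hf) ≫ inc f = _
      rw [actm_pt, hκ, S14541.dv_act]
    · rw [Category.assoc, lift_snd, lift_snd, Category.id_comp]

include hf in
theorem loc_triv (hP : NonAbH1.IsLocallyTrivialFor Scheme.fpqcPrecoverage P)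
    (hv : NonAbH1.IsLocallyTrivialFor Scheme.fpqcPrecoverage (Over.mk v.left : Over G''.left)) :
    NonAbH1.IsLocallyTrivialFor Scheme.fpqcPrecoverage (Qx f) := by
  obtain ⟨R₁, hR₁, h₁⟩ := hP
  obtain ⟨R₂, hR₂, h₂⟩ := hv
  obtain ⟨ι₁, T, t, rfl⟩ := R₁.exists_eq_ofArrows
  choose p hp using fun i => h₁ (t i) ⟨i⟩
  obtain ⟨ι₂, W, r, rfl⟩ := R₂.exists_eq_ofArrows
  choose s hs using fun j => h₂ (r j) ⟨j⟩
  have hcov : ∀ i, Presieve.ofArrows (fun j => pullback (r j) (p i ≫ f.left))
      (fun j => pullback.snd (r j) (p i ≫ f.left)) ∈ Scheme.fpqcPrecoverage (T i) := by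
    intro i
    rw [Presieve.ofArrows_pullback]
    exact Precoverage.pullbackArrows_mem (p i ≫ f.left) hR₂
  refine ⟨_, Precoverage.comp_mem_coverings t hR₁
    (fun i j => pullback.snd (r j) (p i ≫ f.left)) hcov, ?_⟩
  rintro S' g ⟨⟨i, j⟩⟩
  let Z : Over S := Over.mk (pullback.snd (r j) (p i ≫ f.left) ≫ t i)
  have hs' : s j ≫ v.left = r j := hs j
  let gZ : Z ⟶ G := Over.homMk (pullback.fst (r j) (p i ≫ f.left) ≫ s j) (by
    change (pullback.fst (r j) (p i ≫ f.left) ≫ s j) ≫ G.hom =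
      pullback.snd (r j) (p i ≫ f.left) ≫ t i
    rw [← CategoryTheory.Over.w v, Category.assoc, ← Category.assoc (s j), hs',
      ← Category.assoc, pullback.condition, Category.assoc, Category.assoc,
      CategoryTheory.Over.w f, hp i])
  let pZ : Z ⟶ P := Over.homMk (pullback.snd (r j) (p i ≫ f.left) ≫ p i) (by
    change (pullback.snd (r j) (p i ≫ f.left) ≫ p i) ≫ P.hom = _
    rw [Category.assoc, hp i]
    rfl)
  have hgp : gZ ≫ v = pZ ≫ f := by
    apply Over.OverMorphism.ext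
    change (pullback.fst (r j) (p i ≫ f.left) ≫ s j) ≫ v.left =
      (pullback.snd (r j) (p i ≫ f.left) ≫ p i) ≫ f.left
    rw [Category.assoc, hs', pullback.condition, Category.assoc]
  have hq : (lift gZ⁻¹ pZ ≫ a.act) ≫ f = 1 := by
    rw [f_act v a f hf, GrpObj.inv_comp, hgp, inv_mul_cancel]
  exact ⟨(liftQ f _ hq).left, CategoryTheory.Over.w (liftQ f _ hq)⟩

end Main

theorem main {S : Scheme.{u}}
    {G G' G'' : Over S} [GrpObj G] [GrpObj G'] [GrpObj G'']
    [IsCommMonObj G] [IsCommMonObj G'] [IsCommMonObj G'']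
    [IsAffineHom G.hom] [IsAffineHom G'.hom] [IsAffineHom G''.hom]
    (u : G' ⟶ G) (v : G ⟶ G'') (hex : NonAbH1.IsExactSeq Scheme.fpqcPrecoverage u v)
    (P : NonAbH1.TorsorSch G Scheme.fpqcPrecoverage) :
    NonAbH1.IsPushforwardAlongSch v P.act (NonAbH1.trivialAction G'') ↔
      ∃ Q : NonAbH1.TorsorSch G' Scheme.fpqcPrecoverage, NonAbH1.IsPushforwardAlongSch u Q.act P.act := by
  obtain ⟨hu, hv, huv, hpb, hloc⟩ := hex
  haveI := hu
  haveI := hv
  constructor
  · rintro ⟨f, hf⟩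
    change P.act.act ≫ f = lift (fst G P.X ≫ v) (snd G P.X ≫ f) ≫ μ[G''] at hf
    haveI : IsIso (lift P.act.act (snd G P.X)) := P.isTorsor.1
    refine ⟨⟨Qx f, actQ u v huv P.act f hf, isPseudo u v huv hpb P.act f hf,
      loc_triv v P.act f hf P.isTorsor.2 hloc⟩, inc f, ?_⟩
    exact actm_inc u v huv P.act f hf
  · rintro ⟨Q, φ, hφ⟩
    obtain ⟨r, ⟨hr, -⟩, -⟩ := Groth.Agent.S14541.main u v Q.act P.act (NonAbH1.trivialAction G'')
      Q.isTorsor P.isTorsor (NonAbH1.isTorsorFor_trivialAction G'' _) φ hφ 1 (by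
        change _ = _ ≫ μ[G'']
        rw [comp_one, comp_one, huv, comp_one, ← Hom.mul_def, _root_.one_mul])
    exact ⟨r, hr⟩


end


/-- Exactness of the cohomology sequence at H^1(S, G): let u : G' → G and v : G → G'' be homomorphisms
of affine commutative S-groups forming a sequence 1 → G' → G → G'' → 1 which is exact for the fpqc
topology, and let P be a principal homogeneous bundle under G (fpqc torsor). Then the bundle deduced
from P by extension of the structure group along v is trivial, in the sense that P admits a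
v-equivariant S-morphism to G'' acting on itself by left translation, if and only if P comes from
G': there is a principal homogeneous bundle Q under G' with a u-equivariant S-morphism Q → P. -/
theorem result {S : Scheme.{u}}
    {G G' G'' : Over S} [GrpObj G] [GrpObj G'] [GrpObj G'']
    [IsCommMonObj G] [IsCommMonObj G'] [IsCommMonObj G'']
    [IsAffineHom G.hom] [IsAffineHom G'.hom] [IsAffineHom G''.hom]
    (u : G' ⟶ G) (v : G ⟶ G'') (hex : NonAbH1.IsExactSeq Scheme.fpqcPrecoverage u v)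
    (P : NonAbH1.TorsorSch G Scheme.fpqcPrecoverage) :
    NonAbH1.IsPushforwardAlongSch v P.act (NonAbH1.trivialAction G'') ↔
      ∃ Q : NonAbH1.TorsorSch G' Scheme.fpqcPrecoverage, NonAbH1.IsPushforwardAlongSch u Q.act P.act := by
  classical
  exact main u v hex P

end Groth.Agent.S6010
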