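import Groth.Statements.S6009
import Mathlib
import Groth.Prelude.Def_ChGrp
import Groth.Agent.S14541
import Groth.Agent.S6010

set_option autoImplicit false
universe u
open CategoryTheory AlgebraicGeometry MonoidalCategory CartesianMonoidalCategory MonObj GrpObj
open SGA1

namespace Groth.Agent.S6009

section
open CategoryTheory AlgebraicGeometry MonoidalCategory CartesianMonoidalCategory MonObj GrpObj
open Limits
open Groth.Agent

theorem isPullback_of_existsUnique {C : Type*} [Category C] {P X Y Z : C} {p₁ : P ⟶ X} {p₂ : P ⟶ Y}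
    {f : X ⟶ Z} {g : Y ⟶ Z} (w : p₁ ≫ f = p₂ ≫ g)
    (h : ∀ (W : C) (a : W ⟶ X) (b : W ⟶ Y), a ≫ f = b ≫ g →
      ∃! l : W ⟶ P, l ≫ p₁ = a ∧ l ≫ p₂ = b) : IsPullback p₁ p₂ f g := by
  refine ⟨⟨w⟩, ⟨PullbackCone.IsLimit.mk w
    (fun s => (h s.pt s.fst s.snd s.condition).choose)
    (fun s => (h s.pt s.fst s.snd s.condition).choose_spec.1.1)
    (fun s => (h s.pt s.fst s.snd s.condition).choose_spec.1.2)
    (fun s m h₁ h₂ => (h s.pt s.fst s.snd s.condition).choose_spec.2 m ⟨h₁, h₂⟩)⟩⟩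

variable {S : Scheme.{u}}

section Main

variable {G G' G'' : Over S} [GrpObj G] [GrpObj G'] [GrpObj G''] (u : G' ⟶ G) (v : G ⟶ G'')
  [IsMonHom u] [IsMonHom v] (huv : u ≫ v = 1)
  (hpb : IsPullback (fst G G') ((G ◁ u) ≫ μ[G]) v v)
  {Q : Over S} (a : AlgGrp.Action G' Q) [hτ : IsIso (lift a.act (snd G' Q))]
  (i : Q ⟶ G)
  (hi : ∀ (T : Over S) (g' : T ⟶ G') (p : T ⟶ Q), lift g' p ≫ a.act ≫ i = (p ≫ i) * (g' ≫ u)⁻¹)

include hpb hi in
theorem i_inj {Z : Over S} (q₁ q₂ : Z ⟶ Q) (h : q₁ ≫ i = q₂ ≫ i) : q₁ = q₂ := by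
  have h1 := S14541.dv_act a q₁ q₂
  have h2 := hi Z (S14541.dv a q₁ q₂) q₂
  rw [← Category.assoc, h1, h] at h2
  have h3 : S14541.dv a q₁ q₂ ≫ u = 1 := by
    have := mul_eq_left.1 h2.symm
    rwa [inv_eq_one] at this
  have h4 : S14541.dv a q₁ q₂ = 1 := by
    apply S6010.ker_mono u v hpb
    rw [h3, MonObj.one_comp]
  rw [← h1, h4, AlgGrp.Action.lift_one_act]

include huv hi in
theorem iv_inv {Z : Over S} (q₁ q₂ : Z ⟶ Q) : q₁ ≫ i ≫ v = q₂ ≫ i ≫ v := by
  have h1 := S14541.dv_act a q₁ q₂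
  have h2 := hi Z (S14541.dv a q₁ q₂) q₂
  rw [← Category.assoc, h1] at h2
  rw [← Category.assoc, h2, MonObj.mul_comp, GrpObj.inv_comp]
  rw [Category.assoc _ u v, huv, comp_one, inv_one, _root_.mul_one, Category.assoc]

end Main

theorem main {S : Scheme.{u}}
    {G G' G'' : Over S} [GrpObj G] [GrpObj G'] [GrpObj G'']
    [IsCommMonObj G] [IsCommMonObj G'] [IsCommMonObj G'']
    [IsAffineHom G.hom] [IsAffineHom G'.hom] [IsAffineHom G''.hom]
    (u : G' ⟶ G) (v : G ⟶ G'') (hex : NonAbH1.IsExactSeq Scheme.fpqcPrecoverage u v)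
    (Q : NonAbH1.TorsorSch G' Scheme.fpqcPrecoverage) :
    NonAbH1.IsPushforwardAlongSch u Q.act (NonAbH1.trivialAction G) ↔
      ∃ (f : 𝟙_ (Over S) ⟶ G'') (i : Q.X ⟶ G), NonAbH1.IsPullbackTorsor u v f i Q.act := by
  obtain ⟨hu, hv, huv, hpb, hloc⟩ := hex
  haveI := hu
  haveI := hv
  haveI hτ : IsIso (lift Q.act.act (snd G' Q.X)) := Q.isTorsor.1
  constructor
  · rintro ⟨j, hj⟩
    change Q.act.act ≫ j = lift (fst G' Q.X ≫ u) (snd G' Q.X ≫ j) ≫ μ[G] at hj
    have hjpt : ∀ (T : Over S) (g' : T ⟶ G') (p : T ⟶ Q.X),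
        lift g' p ≫ Q.act.act ≫ j = (g' ≫ u) * (p ≫ j) := by
      intro T g' p
      rw [hj, ← Category.assoc, comp_lift, lift_fst_assoc, lift_snd_assoc, Hom.mul_def]
    have hi : ∀ (T : Over S) (g' : T ⟶ G') (p : T ⟶ Q.X),
        lift g' p ≫ Q.act.act ≫ j⁻¹ = (p ≫ j⁻¹) * (g' ≫ u)⁻¹ := by
      intro T g' p
      rw [← Category.assoc, GrpObj.comp_inv, Category.assoc, hjpt, GrpObj.comp_inv, _root_.mul_inv_rev]
    -- the section f
    haveI : IsAffineHom (𝟙_ (Over S)).hom := by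
      change IsAffineHom (𝟙 S); infer_instance
    obtain ⟨f, ⟨-, hf⟩, -⟩ := S14541.main (toUnit G') (η[G''] : 𝟙_ (Over S) ⟶ G'') Q.act
      (NonAbH1.trivialAction (𝟙_ (Over S))) (NonAbH1.trivialAction G'')
      Q.isTorsor (NonAbH1.isTorsorFor_trivialAction _ _) (NonAbH1.isTorsorFor_trivialAction G'' _)
      (toUnit Q.X) (toUnit_unique _ _) (j⁻¹ ≫ v) (by
        change _ = _ ≫ μ[G'']
        apply AlgGrp.Action.hom_ext_lift₂
        intro T g' p
        rw [show lift g' p ≫ Q.act.act ≫ j⁻¹ ≫ v = (lift g' p ≫ Q.act.act ≫ j⁻¹) ≫ v by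
          simp only [Category.assoc]]
        rw [hi, MonObj.mul_comp, GrpObj.inv_comp, Category.assoc _ u v, huv, comp_one, inv_one,
          _root_.mul_one]
        rw [← Category.assoc (lift g' p), comp_lift, lift_fst_assoc, lift_snd_assoc, ← Hom.mul_def]
        have : (toUnit T ≫ η[G'']) = (1 : T ⟶ G'') := (Hom.one_def).symm
        rw [← Category.assoc, toUnit_unique (g' ≫ toUnit G') (toUnit T), this, _root_.one_mul,
          Category.assoc])
    refine ⟨f, j⁻¹, hu, hv, ?_, hi⟩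
    apply isPullback_of_existsUnique hf.symm
    intro Z g b hgb
    -- existence by glueing
    obtain ⟨R, hR, hsec⟩ := Q.isTorsor.2
    obtain ⟨σ, T, t, rfl⟩ := R.exists_eq_ofArrows
    choose s hs using (fun k => hsec (t k) ⟨k⟩)
    let pt : ∀ (k : σ), S14541.Wo T t Z k ⟶ Q.X := fun k =>
      Over.homMk (pullback.fst (t k) Z.hom ≫ s k) (by
        change (pullback.fst (t k) Z.hom ≫ s k) ≫ Q.X.hom = pullback.snd (t k) Z.hom ≫ Z.hom
        rw [Category.assoc, hs]; exact pullback.condition)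
    have hloc : ∀ k, ∃ x : S14541.Wo T t Z k ⟶ Q.X, x ≫ j⁻¹ = S14541.cov T t Z k ≫ g := by
      intro k
      have h1 : ((S14541.cov T t Z k ≫ g)⁻¹ * (pt k ≫ j⁻¹)) ≫ v = 1 := by
        rw [MonObj.mul_comp, GrpObj.inv_comp, Category.assoc, hgb, Category.assoc, ← hf,
          ← Category.assoc, ← Category.assoc, toUnit_unique (S14541.cov T t Z k ≫ b) (pt k ≫ toUnit Q.X),
          inv_mul_cancel]
      obtain ⟨g', hg'⟩ := S6010.ker_lift u v hpb _ h1
      refine ⟨lift g' (pt k) ≫ Q.act.act, ?_⟩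
      rw [Category.assoc, hi, hg', _root_.mul_inv_rev, _root_.inv_inv, mul_inv_cancel_left]
    choose x hx using hloc
    obtain ⟨m, hm⟩ := S14541.glue_cover T t hR (Z' := Z) (Y := Q.X) x (by
      intro k l Zo gk gl hkl
      apply i_inj u v hpb Q.act j⁻¹ hi
      rw [Category.assoc, Category.assoc, hx, hx, ← Category.assoc, ← Category.assoc, hkl])
    have hmg : m ≫ j⁻¹ = g := by
      apply S14541.ext_cover T t hR
      intro k
      rw [← Category.assoc, hm, hx]
    refine ⟨m, ⟨hmg, toUnit_unique _ _⟩, ?_⟩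
    rintro m' ⟨hm', -⟩
    apply i_inj u v hpb Q.act j⁻¹ hi
    rw [hm', hmg]
  · rintro ⟨f, i, -, -, -, hi⟩
    refine ⟨i⁻¹, ?_⟩
    change _ = _ ≫ μ[G]
    apply AlgGrp.Action.hom_ext_lift₂
    intro T g' p
    rw [← Category.assoc (lift g' p), GrpObj.comp_inv, Category.assoc, hi, _root_.mul_inv_rev, _root_.inv_inv,
      ← Category.assoc, comp_lift, lift_fst_assoc, lift_snd_assoc, ← Hom.mul_def, GrpObj.comp_inv]


end


/-- Exactness of the cohomology sequence at H^1(S, G'): let u : G' → G and v : G → G'' be homomorphisms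
of affine commutative S-groups forming a sequence 1 → G' → G → G'' → 1 which is exact for the fpqc
topology, and let Q be a principal homogeneous bundle under G' (fpqc torsor). Then the bundle
deduced from Q by extension of the structure group along u is trivial, in the sense that Q admits a
u-equivariant S-morphism to G acting on itself by left translation, if and only if Q is the boundary
of some section f of G'' over S: there is a morphism i : Q → G making Q the inverse image of f under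
v, with G' acting through right translation by inverses. -/
theorem result {S : Scheme.{u}}
    {G G' G'' : Over S} [GrpObj G] [GrpObj G'] [GrpObj G'']
    [IsCommMonObj G] [IsCommMonObj G'] [IsCommMonObj G'']
    [IsAffineHom G.hom] [IsAffineHom G'.hom] [IsAffineHom G''.hom]
    (u : G' ⟶ G) (v : G ⟶ G'') (hex : NonAbH1.IsExactSeq Scheme.fpqcPrecoverage u v)
    (Q : NonAbH1.TorsorSch G' Scheme.fpqcPrecoverage) :
    NonAbH1.IsPushforwardAlongSch u Q.act (NonAbH1.trivialAction G) ↔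
      ∃ (f : 𝟙_ (Over S) ⟶ G'') (i : Q.X ⟶ G), NonAbH1.IsPullbackTorsor u v f i Q.act := by
  classical
  exact main u v hex Q

end Groth.Agent.S6009
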