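import Groth.Statements.S6012
import Mathlib

set_option autoImplicit false
open CategoryTheory
universe v₁ v₂ u₁ u₂
open FibCat FibCat.Cleavage

namespace Groth.Agent.S6012

open CategoryTheory.Functor
section


set_option backward.isDefEq.respectTransparency false
set_option backward.isDefEq.respectTransparency.types false

variable {𝒮 : Type u₁} {𝒳 : Type u₂} [Category.{v₁} 𝒮] [Category.{v₂} 𝒳] {p : 𝒳 ⥤ 𝒮}
  (K : FibCat.Cleavage p)

/-- a fibre morphism whose image in `𝒳` has an inverse lying over the identity is an iso -/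
theorem isIso_fiber {S : 𝒮} {a b : p.Fiber S} (φ : a ⟶ b) (ψ : b.1 ⟶ a.1) [p.IsHomLift (𝟙 S) ψ]
    (h1 : Fiber.fiberInclusion.map φ ≫ ψ = 𝟙 _) (h2 : ψ ≫ Fiber.fiberInclusion.map φ = 𝟙 _) :
    IsIso φ := by
  refine ⟨Fiber.homMk p S ψ, ?_, ?_⟩
  · apply Fiber.hom_ext
    rw [Functor.map_comp, Fiber.fiberInclusion_homMk, h1, CategoryTheory.Functor.map_id]
  · apply Fiber.hom_ext
    rw [Functor.map_comp, Fiber.fiberInclusion_homMk, h2, CategoryTheory.Functor.map_id]
    rfl

theorem forward [p.IsFibered] (R S T : 𝒮) (f : T ⟶ S) (g : R ⟶ T) : IsIso (K.comp f g) := by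
  rw [NatTrans.isIso_iff_isIso_app]
  intro a
  let ψ := K.lift (K.obj_proj a.2 f) g ≫ K.lift a.2 f
  haveI : p.IsCartesian (g ≫ f) ψ := inferInstance
  let e := IsCartesian.domainUniqueUpToIso p (g ≫ f) (K.lift a.2 (g ≫ f)) ψ
  refine isIso_fiber ((K.comp f g).app a) e.inv ?_ ?_
  · rw [FibCat.Cleavage.comp_app]
    exact e.hom_inv_id
  · rw [FibCat.Cleavage.comp_app]
    exact e.inv_hom_id

theorem backward (h : ∀ (R S T : 𝒮) (f : T ⟶ S) (g : R ⟶ T), IsIso (K.comp f g)) : p.IsFibered := by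
  haveI := K.isPreFibered
  refine { comp := ?_ }
  intro R S T f g a b c φ ψ hφ hψ
  have hc : p.obj c = T := IsHomLift.codomain_eq p g ψ
  let c' : p.Fiber T := ⟨c, hc⟩
  let ψ₀ := K.lift hc g
  let β := IsCartesian.domainUniqueUpToIso p g ψ₀ ψ
  have hβ : β.hom ≫ ψ₀ = ψ := IsCartesian.fac p g ψ₀ ψ
  let φ₀ := K.lift (K.obj_proj hc g) f
  haveI : p.IsCartesian f (φ ≫ β.hom) := inferInstance
  let α := IsCartesian.domainUniqueUpToIso p f φ₀ (φ ≫ β.hom)
  have hα : α.hom ≫ φ₀ = φ ≫ β.hom := IsCartesian.fac p f φ₀ (φ ≫ β.hom)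
  haveI := h R T S g f
  haveI : IsIso ((K.comp g f).app c') := inferInstance
  let γ := asIso (Fiber.fiberInclusion.map ((K.comp g f).app c'))
  have hγ : γ.hom ≫ K.lift hc (f ≫ g) = φ₀ ≫ ψ₀ := by
    change Fiber.fiberInclusion.map ((K.comp g f).app c') ≫ _ = _
    rw [FibCat.Cleavage.comp_app, IsCartesian.fac]
  have key : φ ≫ ψ = (α ≪≫ γ).hom ≫ K.lift hc (f ≫ g) := by
    rw [Iso.trans_hom, Category.assoc, hγ, ← Category.assoc, hα, Category.assoc, hβ]
  rw [key]
  haveI : p.IsHomLift (𝟙 R) γ.hom := by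
    change p.IsHomLift (𝟙 R) (Fiber.fiberInclusion.map ((K.comp g f).app c'))
    infer_instance
  haveI : p.IsHomLift (𝟙 R) (α ≪≫ γ).hom := by
    rw [Iso.trans_hom]
    have : 𝟙 R = 𝟙 R ≫ 𝟙 R := by simp
    rw [this]
    infer_instance
  infer_instance

theorem main : p.IsFibered ↔ ∀ (R S T : 𝒮) (f : T ⟶ S) (g : R ⟶ T), IsIso (K.comp f g) :=
  ⟨fun _ => forward K, backward K⟩


end


/-- Let `K` be a cleavage of an arbitrary functor `p : 𝒳 ⥤ 𝒮` (one chosen cartesian lift of every base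
morphism at every object over its target; `p` is not assumed fibred). Then `p` is a fibred category
(composites of cartesian morphisms are cartesian) if and only if, for all composable base morphisms
`g : R ⟶ T` and `f : T ⟶ S`, the comparison natural transformation `c_{f,g}` from `g^* f^*` to
`(fg)^*` determined by `K` is an isomorphism. -/
theorem result (𝒮 : Type u₁) (𝒳 : Type u₂) [Category.{v₁} 𝒮] [Category.{v₂} 𝒳] (p : 𝒳 ⥤ 𝒮) (K : FibCat.Cleavage p) :
    p.IsFibered ↔ ∀ (R S T : 𝒮) (f : T ⟶ S) (g : R ⟶ T), IsIso (K.comp f g) := by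
  classical
  exact main K

end Groth.Agent.S6012
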