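import Groth.Statements.S6013
import Mathlib

set_option autoImplicit false
open CategoryTheory
universe v₁ v₂ u₁ u₂
open FibCat FibCat.Cleavage

namespace Groth.Agent.S6013

open CategoryTheory.Functor
section


set_option backward.isDefEq.respectTransparency false
set_option backward.isDefEq.respectTransparency.types false

variable {𝒮 : Type u₁} {𝒳 : Type u₂} [Category.{v₁} 𝒮] [Category.{v₂} 𝒳] {p : 𝒳 ⥤ 𝒮}
  [p.IsFibered] (K : FibCat.Cleavage p)

theorem isIso_lift {R S : 𝒮} {a : 𝒳} (ha : p.obj a = S) (f : R ⟶ S) [IsIso f] :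
    IsIso (K.lift ha f) := by
  haveI : p.IsStronglyCartesian f (K.lift ha f) := inferInstance
  exact IsStronglyCartesian.isIso_of_base_isIso p f (K.lift ha f)

theorem isIso_fiber' {S : 𝒮} {a b : p.Fiber S} (φ : a ⟶ b) [IsIso (Fiber.fiberInclusion.map φ)] :
    IsIso φ := by
  haveI : p.IsHomLift (𝟙 S) (inv (Fiber.fiberInclusion.map φ)) := inferInstance
  refine ⟨Fiber.homMk p S (inv (Fiber.fiberInclusion.map φ)), ?_, ?_⟩
  · apply Fiber.hom_ext
    rw [Functor.map_comp, Fiber.fiberInclusion_homMk, IsIso.hom_inv_id, CategoryTheory.Functor.map_id]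
  · apply Fiber.hom_ext
    rw [Functor.map_comp, Fiber.fiberInclusion_homMk, IsIso.inv_hom_id, CategoryTheory.Functor.map_id]

theorem main (S T : 𝒮) (f : T ⟶ S) [IsIso f] : (K.inverseImage f).IsEquivalence := by
  haveI hiso : ∀ (a : p.Fiber S), IsIso (K.lift a.2 f) := fun a => isIso_lift K a.2 f
  haveI : (K.inverseImage f).Faithful := by
    refine ⟨?_⟩
    intro a b φ φ' h
    apply Fiber.hom_ext
    have h1 := congrArg (fun θ => Fiber.fiberInclusion.map θ ≫ K.lift b.2 f) h
    simp only [FibCat.Cleavage.inverseImage_map, IsCartesian.fac] at h1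
    exact (cancel_epi (K.lift a.2 f)).1 h1
  haveI : (K.inverseImage f).Full := by
    refine ⟨?_⟩
    intro a b θ
    let φ : a.1 ⟶ b.1 := inv (K.lift a.2 f) ≫ Fiber.fiberInclusion.map θ ≫ K.lift b.2 f
    haveI h0 : p.IsHomLift (inv f ≫ 𝟙 T ≫ f) φ := inferInstance
    haveI : p.IsHomLift (𝟙 S) φ := by
      have e : inv f ≫ 𝟙 T ≫ f = 𝟙 S := by simp
      rw [← e]; exact h0
    refine ⟨Fiber.homMk p S φ, ?_⟩
    apply Fiber.hom_ext
    rw [FibCat.Cleavage.inverseImage_map]
    symm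
    apply IsCartesian.map_uniq
    rw [Fiber.fiberInclusion_homMk]
    simp only [φ, IsIso.hom_inv_id_assoc]
  haveI : (K.inverseImage f).EssSurj := by
    refine ⟨?_⟩
    intro b
    let a : p.Fiber S := ⟨K.obj b.2 (inv f), K.obj_proj b.2 (inv f)⟩
    refine ⟨a, ⟨?_⟩⟩
    let ψ : K.obj a.2 f ⟶ b.1 := K.lift a.2 f ≫ K.lift b.2 (inv f)
    haveI h0 : p.IsHomLift (f ≫ inv f) ψ := inferInstance
    haveI : p.IsHomLift (𝟙 T) ψ := by
      have e : f ≫ inv f = 𝟙 T := by simp
      rw [← e]; exact h0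
    haveI : IsIso (K.lift b.2 (inv f)) := isIso_lift K b.2 (inv f)
    haveI : IsIso ψ := inferInstance
    let Ψ : (K.inverseImage f).obj a ⟶ b := Fiber.homMk p T ψ
    haveI : IsIso (Fiber.fiberInclusion.map Ψ) := by
      rw [Fiber.fiberInclusion_homMk]; infer_instance
    haveI : IsIso Ψ := isIso_fiber' Ψ
    exact asIso Ψ
  exact { }


end


/-- Let `p : 𝒳 ⥤ 𝒮` be a fibred category with a cleavage `K`, and let `f : T ⟶ S` be an isomorphism of
the base. Then the inverse-image functor `f^*` of `K`, from the fibre over `S` to the fibre over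
`T`, is an equivalence of categories. -/
theorem result (𝒮 : Type u₁) (𝒳 : Type u₂) [Category.{v₁} 𝒮] [Category.{v₂} 𝒳] (p : 𝒳 ⥤ 𝒮) [p.IsFibered] (K : FibCat.Cleavage p)
    (S T : 𝒮) (f : T ⟶ S) [IsIso f] : (K.inverseImage f).IsEquivalence := by
  classical
  exact main K S T f

end Groth.Agent.S6013
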