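import Groth.Statements.S6017
import Groth.Agent.Lib.Helper6.InvFormal2

set_option autoImplicit false
universe u
open scoped Pointwise
open SGA1

namespace Groth.Agent.S6017

/-- Stated in affine form, at the level of rings: let a finite group `G` act on a commutative ring `R`;
suppose the ring of invariants `B = R^G` is Noetherian and `R` is a finite `B`-module. Let `q` be a
prime of `R`, let `H` be a subgroup of `G` containing the stabilizer of `q` (the decomposition
group), and put `R' = R^H`, `q' = q ∩ R'`, `p = q ∩ B = q' ∩ B`. Then the local homomorphism `B_p →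
R'_{q'}` induces an isomorphism between the completions of these two Noetherian local rings;
equivalently, and this is the form stated, for every `n` the composite `B_p → R'_{q'} → R'_{q'} /
m_{q'}^n` is surjective and its kernel is exactly `m_p^n`. (The published statement concerns a
prescheme `X` finite over a locally Noetherian `Y = X/G` and the local rings of `Y` and `X/H` at the
images of a point `x`; the assertion is local on `Y` and `X` is affine over `Y`, so it is stated for
`X = Spec R`, `Y = Spec R^G`, `X/H = Spec R^H`. The hypothesis `hle` only records the inclusion `R^G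
⊆ R^H`, which always holds.) -/
theorem result
    (G R : Type u) [Group G] [Finite G] [CommRing R] [MulSemiringAction G R]
    [IsNoetherianRing (FixedPoints.subring R G)] [Module.Finite (FixedPoints.subring R G) R]
    (H : Subgroup G) (q : Ideal R) [q.IsPrime] (hD : MulAction.stabilizer G q ≤ H)
    (hle : FixedPoints.subring R G ≤ FixedPoints.subring R H) (n : ℕ) :
    let q' : Ideal (FixedPoints.subring R H) := Ideal.comap (FixedPoints.subring R H).subtype q
    let φ := Localization.localRingHom (Ideal.comap (Subring.inclusion hle) q') q' (Subring.inclusion hle) rfl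
    Function.Surjective ((Ideal.Quotient.mk (IsLocalRing.maximalIdeal (Localization.AtPrime q') ^ n)).comp φ) ∧
      Ideal.comap φ (IsLocalRing.maximalIdeal (Localization.AtPrime q') ^ n) =
        IsLocalRing.maximalIdeal (Localization.AtPrime (Ideal.comap (Subring.inclusion hle) q')) ^ n := by
  intro q' φ
  classical
  cases nonempty_fintype G
  obtain ⟨y, hy1, hy2, hy3⟩ := Groth.Agent.Lib.Helper6.InvFormal.exists_yH q H hD
  have hstab : ∀ σ : G, σ • y = y → σ ∈ H := by
    intro σ hσ
    by_contra hcon
    exact hy1 (hσ ▸ hy3 σ hcon)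
  have hmem : ∀ x : R, x ∈ FixedPoints.subring R H ↔ ∀ τ ∈ H, τ • x = x := by
    intro x
    constructor
    · intro hx τ hτ; exact hx ⟨τ, hτ⟩
    · intro hx τ; exact hx τ.1 τ.2
  have hyR' : y ∈ FixedPoints.subring R H := (hmem y).2 hy2
  have hgR' : Groth.Agent.Lib.Helper6.InvEtale.diffElt G y ∈ FixedPoints.subring R H :=
    (hmem _).2 fun τ hτ => Groth.Agent.Lib.Helper6.InvEtale.smul_diffElt y τ (hy2 τ hτ)
  let g' : FixedPoints.subring R H := ⟨_, hgR'⟩
  have hg'q : g' ∉ q' := by
    show Groth.Agent.Lib.Helper6.InvEtale.diffElt G y ∉ q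
    refine Groth.Agent.Lib.Helper6.InvEtale.diffElt_notMem y q fun σ hσ hmem' => ?_
    have hσH : σ ∉ H := fun h => hσ (hy2 σ h)
    apply hy1
    have := q.add_mem hmem' (hy3 σ hσH)
    rwa [sub_add_cancel] at this
  letI algBR' : Algebra (FixedPoints.subring R G) (FixedPoints.subring R H) :=
    (Subring.inclusion hle).toAlgebra
  haveI hetale : Algebra.Etale (FixedPoints.subring R G) (Localization.Away g') :=
    Groth.Agent.Lib.Helper6.InvEtale.etale_away_diffElt y (FixedPoints.subring R H)
      (fun b => rfl) hyR' (fun s hs σ hσ => (hmem s).1 hs σ (hstab σ hσ)) g' rfl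
  have hy' : ∀ σ : G, σ • y = y ∨ σ • y ∈ q := by
    intro σ
    by_cases hσ : σ ∈ H
    · exact Or.inl (hy2 σ hσ)
    · exact Or.inr (hy3 σ hσ)
  have hres : ∀ r' : FixedPoints.subring R H, ∃ c b : FixedPoints.subring R G,
      c ∉ q'.comap (algebraMap (FixedPoints.subring R G) (FixedPoints.subring R H)) ∧
      algebraMap (FixedPoints.subring R G) (FixedPoints.subring R H) c * r' -
        algebraMap (FixedPoints.subring R G) (FixedPoints.subring R H) b ∈ q' := by
    intro r'
    obtain ⟨c, b, hc, hb, hcq, hcb⟩ :=
      Groth.Agent.Lib.Helper6.InvFormal.exists_residue q y hy1 hy' r'.1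
        (fun σ hσ => (hmem r'.1).1 r'.2 σ (hstab σ hσ))
    exact ⟨⟨c, hc⟩, ⟨b, hb⟩, hcq, hcb⟩
  exact Groth.Agent.Lib.Helper6.InvFormal.formal_of_etale_away q' g' hg'q hres n

end Groth.Agent.S6017
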