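import Groth.Statements.S6018
import Mathlib

set_option autoImplicit false
open CategoryTheory
universe v₁ v₂ v₃ u₁ u₂ u₃
open FibCat FibCat.Cleavage

namespace Groth.Agent.S6018

open CategoryTheory.Functor
section


set_option backward.isDefEq.respectTransparency false
set_option backward.isDefEq.respectTransparency.types false

variable {𝒮 : Type u₁} {𝒳 : Type u₂} [Category.{v₁} 𝒮] [Category.{v₂} 𝒳] {p : 𝒳 ⥤ 𝒮}
  (K : FibCat.Cleavage p) {C : Type u₃} [Category.{v₃} C] (F G : 𝒳 ⥤ C)
  (u : ∀ S : 𝒮, (Functor.Fiber.fiberInclusion ⋙ F : p.Fiber S ⥤ C) ⟶ Functor.Fiber.fiberInclusion ⋙ G)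

theorem app_eq (S : 𝒮) (a : p.Fiber S) :
    (u (p.obj a.1)).app ⟨a.1, rfl⟩ = (u S).app a := by
  obtain ⟨x, hx⟩ := a
  subst hx
  rfl

theorem main
    (hu : ∀ ⦃T S : 𝒮⦄ (f : T ⟶ S) (a : p.Fiber S),
      F.map ((K.transport f).app a) ≫ (u S).app a = (u T).app ((K.inverseImage f).obj a) ≫ G.map ((K.transport f).app a)) :
    ∃! v : F ⟶ G, ∀ (S : 𝒮) (a : p.Fiber S), v.app a.1 = (u S).app a := by
  refine ⟨{ app := fun x => (u (p.obj x)).app ⟨x, rfl⟩, naturality := ?_ }, ?_, ?_⟩
  · intro x y φ
    -- factor φ through the chosen lift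
    let ay : p.Fiber (p.obj y) := ⟨y, rfl⟩
    haveI : p.IsHomLift (p.map φ) φ := inferInstance
    let θ : x ⟶ K.obj ay.2 (p.map φ) := IsCartesian.map p (p.map φ) (K.lift ay.2 (p.map φ)) φ
    have hθ : θ ≫ K.lift ay.2 (p.map φ) = φ := IsCartesian.fac p (p.map φ) (K.lift ay.2 (p.map φ)) φ
    let ax : p.Fiber (p.obj x) := ⟨x, rfl⟩
    let θ' : ax ⟶ (K.inverseImage (p.map φ)).obj ay := Fiber.homMk p (p.obj x) θ
    have h1 := (u (p.obj x)).naturality θ'
    have h2 := hu (p.map φ) ay
    simp only [Functor.comp_map, Fiber.fiberInclusion_homMk, θ'] at h1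
    simp only [FibCat.Cleavage.transport_app] at h2
    change F.map φ ≫ (u (p.obj y)).app ay = (u (p.obj x)).app ax ≫ G.map φ
    calc F.map φ ≫ (u (p.obj y)).app ay
        = F.map θ ≫ F.map (K.lift ay.2 (p.map φ)) ≫ (u (p.obj y)).app ay := by
          rw [← Category.assoc, ← F.map_comp, hθ]
      _ = F.map θ ≫ (u (p.obj x)).app ((K.inverseImage (p.map φ)).obj ay) ≫
            G.map (K.lift ay.2 (p.map φ)) := by rw [h2]
      _ = (u (p.obj x)).app ax ≫ G.map θ ≫ G.map (K.lift ay.2 (p.map φ)) := by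
          rw [← Category.assoc, h1, Category.assoc]
      _ = (u (p.obj x)).app ax ≫ G.map φ := by rw [← G.map_comp, hθ]
  · intro S a
    exact app_eq F G u S a
  · intro v hv
    ext x
    exact hv (p.obj x) ⟨x, rfl⟩


end


/-- Let `K` be a cleavage of a functor `p : 𝒳 ⥤ 𝒮` (neither fibredness nor normalisation is assumed),
let `F, G : 𝒳 ⥤ C` be functors, and for every object `S` of the base let `u_S` be a natural
transformation between the restrictions of `F` and `G` to the fibre over `S`. If the family is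
compatible with the transport morphisms `α_f(a) : f^* a ⟶ a` of `K`, i.e. `G(α_f(a)) ∘ u_T(f^* a) =
u_S(a) ∘ F(α_f(a))` for every base morphism `f : T ⟶ S` and every `a` over `S`, then there is
exactly one natural transformation `F ⟶ G` whose component at every object is the prescribed one.
(The published statement is an isomorphism between the category of all functors `𝒳 ⥤ C` and the
category of compatible families of functors on the fibres of a normalised cloven category; this row
is its assertion on morphisms, whose published proof does not use the normalisation, so none is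
assumed here.) -/
theorem result (𝒮 : Type u₁) (𝒳 : Type u₂) [Category.{v₁} 𝒮]
    [Category.{v₂} 𝒳] (p : 𝒳 ⥤ 𝒮) (K : FibCat.Cleavage p) (C : Type u₃) [Category.{v₃} C] (F G : 𝒳 ⥤ C)
    (u : ∀ S : 𝒮, (Functor.Fiber.fiberInclusion ⋙ F : p.Fiber S ⥤ C) ⟶ Functor.Fiber.fiberInclusion ⋙ G)
    (hu : ∀ ⦃T S : 𝒮⦄ (f : T ⟶ S) (a : p.Fiber S),
      F.map ((K.transport f).app a) ≫ (u S).app a = (u T).app ((K.inverseImage f).obj a) ≫ G.map ((K.transport f).app a)) :
    ∃! v : F ⟶ G, ∀ (S : 𝒮) (a : p.Fiber S), v.app a.1 = (u S).app a := by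
  classical
  exact main K F G u hu

end Groth.Agent.S6018
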