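import Groth.Statements.S6019
import Mathlib

set_option autoImplicit false
open CategoryTheory
universe v₁ v₂ u₁ u₂
open FibCat FibCat.Cleavage

namespace Groth.Agent.S6019

open CategoryTheory.Functor
section


set_option backward.isDefEq.respectTransparency false
set_option backward.isDefEq.respectTransparency.types false

variable {𝒮 : Type u₁} {𝒳 : Type u₂} [Category.{v₁} 𝒮] [Category.{v₂} 𝒳] (p : 𝒳 ⥤ 𝒮)

open Classical in
noncomputable def nobj [p.IsPreFibered] {R S : 𝒮} {a : 𝒳} (ha : p.obj a = S) (f : R ⟶ S) : 𝒳 :=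
  if _ : ∃ e : R = S, f = eqToHom e then a else IsPreFibered.pullbackObj ha f

theorem nobj_pos [p.IsPreFibered] {R S : 𝒮} {a : 𝒳} (ha : p.obj a = S) (f : R ⟶ S)
    (h : ∃ e : R = S, f = eqToHom e) : nobj p ha f = a := by
  unfold nobj; rw [dif_pos h]

theorem nobj_neg [p.IsPreFibered] {R S : 𝒮} {a : 𝒳} (ha : p.obj a = S) (f : R ⟶ S)
    (h : ¬ ∃ e : R = S, f = eqToHom e) : nobj p ha f = IsPreFibered.pullbackObj ha f := by
  unfold nobj; rw [dif_neg h]

open Classical in
noncomputable def nlift [p.IsPreFibered] {R S : 𝒮} {a : 𝒳} (ha : p.obj a = S) (f : R ⟶ S) :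
    nobj p ha f ⟶ a :=
  if h : ∃ e : R = S, f = eqToHom e then eqToHom (nobj_pos p ha f h)
  else eqToHom (nobj_neg p ha f h) ≫ IsPreFibered.pullbackMap ha f

theorem isCart_eqToHom {S : 𝒮} {a b : 𝒳} (ha : p.obj a = S) (hab : b = a) :
    p.IsCartesian (𝟙 S) (eqToHom hab) := by
  subst hab
  subst ha
  rw [eqToHom_refl]
  haveI : p.IsHomLift (𝟙 (p.obj b)) (𝟙 b) := inferInstance
  haveI : p.IsStronglyCartesian (𝟙 (p.obj b)) (𝟙 b) := inferInstance
  infer_instance

theorem isCart_eqToHom_comp {R S : 𝒮} {a b c : 𝒳} (f : R ⟶ S) (φ : b ⟶ a) [p.IsCartesian f φ]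
    (hcb : c = b) : p.IsCartesian f (eqToHom hcb ≫ φ) := by
  subst hcb
  rw [eqToHom_refl, Category.id_comp]
  infer_instance

theorem main [p.IsPreFibered] : ∃ K : FibCat.Cleavage p, K.IsNormalised := by
  refine ⟨{ obj := fun ha f => nobj p ha f, lift := fun ha f => nlift p ha f, isCartesian := ?_ }, ?_⟩
  · intro R S a ha f
    by_cases h : ∃ e : R = S, f = eqToHom e
    · obtain ⟨e, rfl⟩ := h
      subst e
      have h' : ∃ e : R = R, (eqToHom rfl : R ⟶ R) = eqToHom e := ⟨rfl, rfl⟩
      have : nlift p ha (eqToHom rfl) = eqToHom (nobj_pos p ha _ h') := by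
        unfold nlift; rw [dif_pos h']
      rw [this]
      exact isCart_eqToHom p ha _
    · have : nlift p ha f = eqToHom (nobj_neg p ha f h) ≫ IsPreFibered.pullbackMap ha f := by
        unfold nlift; rw [dif_neg h]
      rw [this]
      exact isCart_eqToHom_comp p f _ _
  · intro S a ha
    have h' : ∃ e : S = S, (𝟙 S : S ⟶ S) = eqToHom e := ⟨rfl, rfl⟩
    refine ⟨nobj_pos p ha _ h', ?_⟩
    change nlift p ha (𝟙 S) = _
    unfold nlift; rw [dif_pos h']


end


/-- A pre-fibred category admits a normalised cleavage: if every base morphism `R ⟶ p(a)` has a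
cartesian morphism over it with target `a`, then one cartesian lift can be chosen for every base
morphism at every object over its target in such a way that the chosen lift of each identity `𝟙 S`
at each object `a` over `S` is the identity of `a` (identities are transport morphisms). -/
theorem result (𝒮 : Type u₁) (𝒳 : Type u₂) [Category.{v₁} 𝒮] [Category.{v₂} 𝒳]
    (p : 𝒳 ⥤ 𝒮) [p.IsPreFibered] : ∃ K : FibCat.Cleavage p, K.IsNormalised := by
  classical
  exact main p

end Groth.Agent.S6019
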