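import Groth.Statements.S6024
import Groth.Agent.Lib.Helper3.LocCoh

set_option autoImplicit false
universe u
open CategoryTheory CategoryTheory.Limits TopologicalSpace
open LocCohZ

namespace Groth.Agent.S6024

open Opposite

/-- Consider a topological space X carrying a sheaf of abelian groups F, and assume that H^1_Z(X, F)
vanishes for each closed subset Z of X (writing Z = X − U with U open). Under this assumption, F is
flasque. -/
theorem result {X : TopCat.{u}} (F : CohTop.Ab X)
    (h : ∀ U : Opens X, Subsingleton (LocCohZ.HZc F 1 U)) : TopCat.Sheaf.IsFlasque F := by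
  -- every section over `U` extends to a global section
  have key : ∀ (U : Opens X) (s : F.obj.obj (op U)), ∃ t : F.obj.obj (op ⊤),
      (F.obj.map (homOfLE (le_top : U ≤ ⊤)).op).hom t = s := by
    intro U s
    have hS := LocCohZ.zqSeq_shortExact (le_top : U ≤ ⊤)
    let y := CohFree.ofSect (Opens.grothendieckTopology X) U F s
    have h0 : hS.extClass.comp (Abelian.Ext.mk₀ y) (by omega : 1 + 0 = 1) = 0 := by
      have := h U
      exact Subsingleton.elim (α := LocCohZ.HZc F 1 U) _ _
    obtain ⟨x₂, hx₂⟩ := Abelian.Ext.contravariant_sequence_exact₁ hS F (Abelian.Ext.mk₀ y)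
      (by omega : 1 + 0 = 1) h0
    obtain ⟨y', rfl⟩ := (Abelian.Ext.mk₀_bijective _ _).2 x₂
    rw [Abelian.Ext.mk₀_comp_mk₀] at hx₂
    have hy : CohCx.freeSheafMap (Opens.grothendieckTopology X) (homOfLE (le_top : U ≤ ⊤)) ≫ y' = y :=
      (Abelian.Ext.mk₀_bijective _ _).1 hx₂
    refine ⟨CohFree.evalGen (Opens.grothendieckTopology X) ⊤ F y', ?_⟩
    rw [← CohFree.evalGen_freeSheafMap_comp, hy]
    exact CohFree.evalGen_ofSect _ _ _ _
  constructor
  intro V V' i
  obtain ⟨V⟩ := V
  obtain ⟨V'⟩ := V'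
  have hV'V : V' ≤ V := leOfHom i.unop
  refine (AddCommGrpCat.epi_iff_surjective _).2 fun s => ?_
  obtain ⟨t, ht⟩ := key V' s
  refine ⟨(F.obj.map (homOfLE (le_top : V ≤ ⊤)).op).hom t, ?_⟩
  rw [← ht]
  exact Groth.Agent.Helper3.LocCoh.map_map F (le_top : V ≤ ⊤) hV'V t


end Groth.Agent.S6024
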