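import Groth.Statements.S6037
import Groth.Agent.Lib.Helper3.LocCohPush
import Groth.Agent.Lib.Helper3.LocCohFl
import Groth.Agent.Lib.Helper3.GSS
import Groth.Agent.Lib.Helper3.ExtRD
import Groth.Agent.Lib.Helper3.AbutIf
import Groth.Agent.S0454

set_option autoImplicit false
universe u
open CategoryTheory CategoryTheory.Limits TopologicalSpace
open LocCohZ

namespace Groth.Agent.S6037

open Groth.Agent.Helper3 Opposite

/-- Let f : X → Y be a continuous map of topological spaces, Y' a closed subset of Y with open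
complement V, X' = f⁻¹(Y') and F an abelian sheaf on X. There is an E₂ spectral sequence of abelian
groups with E₂^{p,q} ≅ H^p_{Y'}(Y, R^q f_* F) for p, q ≥ 0 (0 otherwise), bounded, abutting with
finite filtrations to H^n_{X'}(X, F). (The published statement is for a morphism of ringed spaces
and records module structures over the global sections of O_Y; here only abelian groups. Existence
only: the E₂ identifications and abutment isomorphisms are some isomorphisms, not the canonical
ones.) -/
theorem result {X Y : TopCat.{u}} (f : X ⟶ Y)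
    (V : Opens Y) (F : CohTop.Ab X) :
    ∃ (E : E₂CohomologicalSpectralSequence AddCommGrpCat.{u})
      (a : SpSeq.Abutment E (fun n : ℤ =>
        if 0 ≤ n then AddCommGrpCat.of (LocCohZ.HZc F n.toNat ((Opens.map f).obj V))
          else AddCommGrpCat.of PUnit.{u + 1})),
      (∀ n : ℤ, a.IsFinite n) ∧ SpSeq.IsBounded E ∧
      ∀ p q : ℤ, Nonempty ((E.page 2 le_rfl).X (p, q) ≅
        (if 0 ≤ p ∧ 0 ≤ q then AddCommGrpCat.of (LocCohZ.HZc ((CohTop.Rpush f q.toNat).obj F) p.toNat V)
          else AddCommGrpCat.of PUnit.{u + 1})) := by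
  let Z := LocCohZ.zq (le_top : V ≤ ⊤)
  let S := preadditiveCoyoneda.obj (op Z)
  let T := CohTop.push f
  have hT : ∀ Q : CohTop.Ab X, Injective Q → ∀ q : ℕ, 0 < q →
      IsZero ((S.rightDerived q).obj (T.obj Q)) := by
    intro Q hQ q hq
    have h1 : TopCat.Sheaf.IsFlasque Q := Groth.Agent.S0454.result Q
    have h2 : TopCat.Sheaf.IsFlasque (T.obj Q) :=
      TopCat.Sheaf.IsFlasque.pushforward_isFlasque Q f
    have h3 : Subsingleton (LocCohZ.HZ (T.obj Q) q (le_top : V ≤ ⊤)) :=
      LocCohFl.HZ_subsingleton (T.obj Q) _ q hq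
    refine IsZero.of_iso ?_ (ExtRD.rightDerivedIsoExt S Z (Iso.refl _) (T.obj Q) q)
    exact @AddCommGrpCat.isZero_of_subsingleton _ h3
  obtain ⟨E, a, hfin, hbdd, hE⟩ := GSS.main' T S hT F
  obtain ⟨a', ha'⟩ := AbutIf.exists_abutment_if
    (fun k => ((T ⋙ S).rightDerived k).obj F)
    (fun k => AddCommGrpCat.of (LocCohZ.HZc F k ((Opens.map f).obj V))) a hfin
    (fun k => ⟨ExtRD.rightDerivedIsoExt (T ⋙ S) _ (LocCohPush.compIso f V) F k⟩)
  refine ⟨E, a', ha', hbdd, ?_⟩
  intro p q
  refine AbutIf.nonempty_iso_if _ (hE p q) ⟨?_⟩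
  exact ExtRD.rightDerivedIsoExt S Z (Iso.refl _) _ p.toNat


end Groth.Agent.S6037
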