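import Groth.Statements.S6040
import Groth.Agent.Lib.Helper3.RDCompNat
import Groth.Agent.Lib.Helper5.Misc.ShriekTopConst

set_option autoImplicit false
universe u
open CategoryTheory CategoryTheory.Limits TopologicalSpace
open LocCohZ

namespace Groth.Agent.S6040

open Groth.Agent.Lib.Helper5.Misc in
theorem restr_instances {X : TopCat.{u}} (U : Opens X) :
    (CohTop.restrFunctor U).Additive ∧ (CohTop.restrFunctor U).PreservesInjectiveObjects ∧
      (CohTop.restrFunctor U).PreservesHomology := by
  have h1 : (CohTop.restrFunctor U).Additive := (ShriekTop.adjTop U).right_adjoint_additive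
  have h2 : (CohTop.restrFunctor U).PreservesInjectiveObjects :=
    Functor.preservesInjectiveObjects_of_adjunction_of_preservesMonomorphisms (ShriekTop.adjTop U)
  have h3 : PreservesFiniteLimits (CohTop.restrFunctor U) := by
    have := (ShriekTop.adjTop U).rightAdjoint_preservesLimits
    infer_instance
  have h4 : PreservesFiniteColimits (CohTop.restrFunctor U) := inferInstance
  exact ⟨h1, h2, inferInstance⟩

/-- Let X be a topological space, U an open subset and j : U → X the inclusion, so that the sheaf of
sections with supports in the open U is Γ_U(F) = j_*(F|_U). For every q the local cohomology sheaf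
functor ℋ^q_U, i.e. the q-th right derived functor of F ↦ j_*(F|_U), is isomorphic to F ↦ R^q
j_*(F|_U). (Existence of an isomorphism of functors for each q.) -/
theorem result {X : TopCat.{u}} (U : Opens X) (q : ℕ) :
    Nonempty (CohCx.RpushOn (𝟙 X) U q ≅ CohTop.restrFunctor U ⋙ CohTop.Rpush (CohCx.incl U) q) := by
  obtain ⟨h1, h2, h3⟩ := restr_instances U
  have h5 : (CohTop.push (CohCx.incl U)).Additive := { }
  have h6 : (CohTop.push (CohCx.incl U ≫ 𝟙 X)).Additive := { }
  have e : CohTop.push (CohCx.incl U ≫ 𝟙 X) ≅ CohTop.push (CohCx.incl U) :=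
    eqToIso (by rw [Category.comp_id])
  exact ⟨Groth.Agent.Lib.Helper5.Misc.RDComp.natIso
      (Functor.isoWhiskerLeft (CohTop.restrFunctor U) e) q ≪≫
    Groth.Agent.Helper3.RDCompNat.preNatIso (CohTop.restrFunctor U) (CohTop.push (CohCx.incl U)) q⟩


end Groth.Agent.S6040
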