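import Groth.Statements.S6041
import Groth.Agent.Lib.Helper2.Grpd.QuotFppf


set_option autoImplicit false
open CategoryTheory CategoryTheory.Limits AlgebraicGeometry MonoidalCategory
universe u
open GrpQ

namespace Groth.Agent.S6041

open CartesianMonoidalCategory in
/-- For schemes and the fppf topology, easy direction: let `s, t : R ⇉ U` be a pair of morphisms of
schemes over `S` (in the source an equivalence relation), `T` a scheme over `S` and `i : Z ⟶ U ×_S
T` such that `Z ⟶ T` is flat, surjective and locally of finite presentation and any two points of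
`Z` over the same point of `T` have `R`-related images in `U`. Then the composite `h_Z ⟶ h_U ⟶ U/R`
descends to exactly one section of the fppf quotient sheaf `U/R` over `T`. -/
theorem result {S : Scheme.{u}} {R U : Over S} (s t : R ⟶ U)
    (T Z : Over S) (i : Z ⟶ U ⊗ T)
    [Flat (i ≫ snd U T).left] [Surjective (i ≫ snd U T).left] [LocallyOfFinitePresentation (i ≫ snd U T).left]
    (hZZ : ∀ (T' : Over S) (z₁ z₂ : T' ⟶ Z), z₁ ≫ i ≫ snd U T = z₂ ≫ i ≫ snd U T →
      ∃ r : T' ⟶ R, r ≫ s = z₁ ≫ i ≫ fst U T ∧ r ≫ t = z₂ ≫ i ≫ fst U T) :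
    ∃! σ : QuotSh.rep Scheme.fppfPrecoverage T ⟶ QuotSh.quot Scheme.fppfPrecoverage s t,
      QuotSh.repMap Scheme.fppfPrecoverage (i ≫ fst U T) ≫ QuotSh.quotπ Scheme.fppfPrecoverage s t =
        QuotSh.repMap Scheme.fppfPrecoverage (i ≫ snd U T) ≫ σ := by
  classical
  obtain ⟨p, hp⟩ : ∃ p : Z ⟶ T, p = i ≫ snd U T := ⟨_, rfl⟩
  obtain ⟨a, ha⟩ : ∃ a : Z ⟶ U, a = i ≫ fst U T := ⟨_, rfl⟩
  haveI : Flat p.left := by rw [hp]; infer_instance
  haveI : Surjective p.left := by rw [hp]; infer_instance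
  haveI : LocallyOfFinitePresentation p.left := by rw [hp]; infer_instance
  have hZZ' : ∀ (T' : Over S) (z₁ z₂ : T' ⟶ Z), z₁ ≫ p = z₂ ≫ p →
      ∃ r : T' ⟶ R, r ≫ s = z₁ ≫ a ∧ r ≫ t = z₂ ≫ a := by
    intro T' z₁ z₂ h
    rw [ha]
    exact hZZ T' z₁ z₂ (by rw [← hp]; exact h)
  rw [← hp, ← ha]
  haveI hepi : Epi (QuotSh.repMap Scheme.fppfPrecoverage p) :=
    Groth.Agent.Helper2.GrpdLib.epi_repMap_of_fppf p
  have hw2 : pullback.snd p.left p.left ≫ Z.hom = pullback.fst p.left p.left ≫ Z.hom := by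
    rw [← Over.w p, ← Category.assoc, ← Category.assoc, pullback.condition]
  let p₁ : Over.mk (pullback.fst p.left p.left ≫ Z.hom) ⟶ Z :=
    Over.homMk (pullback.fst p.left p.left) rfl
  let p₂ : Over.mk (pullback.fst p.left p.left ≫ Z.hom) ⟶ Z :=
    Over.homMk (pullback.snd p.left p.left) hw2
  have sq : IsPullback p₁ p₂ p p := by
    apply IsPullback.of_map_of_faithful (Over.forget S)
    exact IsPullback.of_hasPullback p.left p.left
  have sq' := sq.map (Groth.Agent.Helper2.QuotRegEpi.repF Scheme.fppfPrecoverage)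
  rw [Groth.Agent.Helper2.QuotRegEpi.repF_map, Groth.Agent.Helper2.QuotRegEpi.repF_map,
    Groth.Agent.Helper2.QuotRegEpi.repF_map] at sq'
  have hreg : IsRegularEpi (QuotSh.repMap Scheme.fppfPrecoverage p) :=
    IsRegularEpiCategory.regularEpiOfEpi _
  have hcol : IsColimit (Cofork.ofπ (QuotSh.repMap Scheme.fppfPrecoverage p) sq'.w) :=
    @IsKernelPair.toCoequalizer' _ _ _ _ _ _ _ _ sq' hreg
  obtain ⟨r, hr1, hr2⟩ := hZZ' _ p₁ p₂ sq.w
  have hmap : ∀ {A B C : Over S} (f : A ⟶ B) (g : B ⟶ C),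
      QuotSh.repMap Scheme.fppfPrecoverage (f ≫ g) =
        QuotSh.repMap Scheme.fppfPrecoverage f ≫ QuotSh.repMap Scheme.fppfPrecoverage g := by
    intro A B C f g
    exact (Groth.Agent.Helper2.QuotRegEpi.repF Scheme.fppfPrecoverage).map_comp f g
  have hm : QuotSh.repMap Scheme.fppfPrecoverage p₁ ≫
      (QuotSh.repMap Scheme.fppfPrecoverage a ≫ QuotSh.quotπ Scheme.fppfPrecoverage s t) =
      QuotSh.repMap Scheme.fppfPrecoverage p₂ ≫
      (QuotSh.repMap Scheme.fppfPrecoverage a ≫ QuotSh.quotπ Scheme.fppfPrecoverage s t) := by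
    rw [← Category.assoc, ← Category.assoc, ← hmap, ← hmap, ← hr1, ← hr2, hmap, hmap,
      Category.assoc, Category.assoc, QuotSh.quot_condition]
  refine ⟨hcol.desc (Cofork.ofπ _ hm), ?_, ?_⟩
  · exact (hcol.fac (Cofork.ofπ _ hm) WalkingParallelPair.one).symm
  · intro σ' hσ'
    rw [← cancel_epi (QuotSh.repMap Scheme.fppfPrecoverage p)]
    rw [← hσ']
    exact (hcol.fac (Cofork.ofπ _ hm) WalkingParallelPair.one).symm

end Groth.Agent.S6041
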