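import Groth.Statements.S6051
import Mathlib

set_option autoImplicit false
open CategoryTheory CategoryTheory.Limits MonoidalCategory
universe w v₁ u₁
open ShfCat

namespace Groth.Agent.S6051

section
open CategoryTheory CategoryTheory.Limits MonoidalCategory
open MonObj CartesianMonoidalCategory SemiCartesianMonoidalCategory
universe v₂ u₂

section sheaf
variable {C : Type u₁} [Category.{v₁} C] (J : GrothendieckTopology C) [HasSheafify J (Type w)]

noncomputable def natIso (X : Sheaf J (Type w)) :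
    tensorLeft ((sheafToPresheaf J (Type w)).obj X) ⋙ presheafToSheaf J (Type w) ≅
      presheafToSheaf J (Type w) ⋙ tensorLeft X :=
  prodComparisonNatIso (presheafToSheaf J (Type w)) ((sheafToPresheaf J (Type w)).obj X) ≪≫
    Functor.isoWhiskerLeft _ ((tensoringLeft _).mapIso
      (asIso ((sheafificationAdjunction J (Type w)).counit.app X)))

theorem preservesCoeq (X : Sheaf J (Type w)) :
    PreservesColimitsOfShape WalkingParallelPair (tensorLeft X) := by
  constructor
  intro D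
  let D' := D ⋙ sheafToPresheaf J (Type w)
  have h1 : PreservesColimit D' (presheafToSheaf J (Type w) ⋙ tensorLeft X) :=
    preservesColimit_of_natIso D' (natIso J X)
  have h2 : PreservesColimit (D' ⋙ presheafToSheaf J (Type w)) (tensorLeft X) := by
    apply preservesColimit_of_preserves_colimit_cocone
      (isColimitOfPreserves (presheafToSheaf J (Type w)) (colimit.isColimit D'))
    exact isColimitOfPreserves (presheafToSheaf J (Type w) ⋙ tensorLeft X) (colimit.isColimit D')
  have e : D' ⋙ presheafToSheaf J (Type w) ≅ D :=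
    Functor.associator _ _ _ ≪≫ Functor.isoWhiskerLeft D
      (asIso (sheafificationAdjunction J (Type w)).counit) ≪≫ Functor.rightUnitor _
  exact preservesColimit_of_iso_diagram _ e

end sheaf

section abstract
variable {𝒞 : Type u₂} [Category.{v₂} 𝒞] [CartesianMonoidalCategory 𝒞]
  (hpres : ∀ X : 𝒞, PreservesColimitsOfShape WalkingParallelPair (tensorLeft X))
  {H G : 𝒞} [hG : GrpObj G] (u : H ⟶ G) [HasCoequalizer (fst G H) ((G ◁ u) ≫ hG.mul)]

include hpres in
/-- the coequalizer cofork tensored on the left is a colimit -/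
theorem isColimitWhisker (X : 𝒞) :
    Nonempty (IsColimit (Cofork.ofπ (X ◁ coequalizer.π (fst G H) ((G ◁ u) ≫ hG.mul))
      (by rw [← whiskerLeft_comp, ← whiskerLeft_comp, coequalizer.condition] :
        (X ◁ fst G H) ≫ (X ◁ coequalizer.π (fst G H) ((G ◁ u) ≫ hG.mul)) =
        (X ◁ ((G ◁ u) ≫ hG.mul)) ≫ (X ◁ coequalizer.π (fst G H) ((G ◁ u) ≫ hG.mul))))) := by
  have := hpres X
  exact ⟨isColimitCoforkMapOfIsColimit (tensorLeft X) _
    (coequalizerIsCoequalizer (fst G H) ((G ◁ u) ≫ hG.mul))⟩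

include hpres in
theorem epi_whisker (X : 𝒞) :
    Epi (X ◁ coequalizer.π (fst G H) ((G ◁ u) ≫ hG.mul)) :=
  Cofork.IsColimit.epi (isColimitWhisker hpres u X).some

theorem key1 : (G ◁ fst G H) ≫ hG.mul = ((α_ G G H).inv ≫ (hG.mul ▷ H)) ≫ fst G H := by
  have h1 : (α_ G G H).inv ≫ fst (G ⊗ G) H = G ◁ fst G H := by
    apply CartesianMonoidalCategory.hom_ext <;> simp
  rw [Category.assoc, whiskerRight_fst, ← Category.assoc, h1]

theorem key2 : (G ◁ ((G ◁ u) ≫ hG.mul)) ≫ hG.mul =
    ((α_ G G H).inv ≫ (hG.mul ▷ H)) ≫ (G ◁ u) ≫ hG.mul := by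
  rw [Category.assoc, ← whisker_exchange_assoc, MonObj.mul_assoc, ← associator_inv_naturality_right_assoc,
    Iso.inv_hom_id_assoc, whiskerLeft_comp, Category.assoc]

theorem compat : (G ◁ fst G H) ≫ hG.mul ≫ coequalizer.π (fst G H) ((G ◁ u) ≫ hG.mul) =
    (G ◁ ((G ◁ u) ≫ hG.mul)) ≫ hG.mul ≫ coequalizer.π (fst G H) ((G ◁ u) ≫ hG.mul) := by
  rw [← Category.assoc, key1, ← Category.assoc (G ◁ ((G ◁ u) ≫ hG.mul)), key2 u, Category.assoc,
    Category.assoc, coequalizer.condition]
  simp only [Category.assoc]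

/-- the action -/
noncomputable def act : G ⊗ coequalizer (fst G H) ((G ◁ u) ≫ hG.mul) ⟶
    coequalizer (fst G H) ((G ◁ u) ≫ hG.mul) :=
  Cofork.IsColimit.desc (isColimitWhisker hpres u G).some
    (hG.mul ≫ coequalizer.π (fst G H) ((G ◁ u) ≫ hG.mul)) (compat u)

theorem π_act : (G ◁ coequalizer.π (fst G H) ((G ◁ u) ≫ hG.mul)) ≫ act hpres u =
    hG.mul ≫ coequalizer.π (fst G H) ((G ◁ u) ≫ hG.mul) :=
  Cofork.IsColimit.π_desc' (isColimitWhisker hpres u G).some _ _


include hpres in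
theorem abstract_main :
    ∃! act : G ⊗ coequalizer (fst G H) ((G ◁ u) ≫ hG.mul) ⟶ coequalizer (fst G H) ((G ◁ u) ≫ hG.mul),
      (hG.one ▷ coequalizer (fst G H) ((G ◁ u) ≫ hG.mul)) ≫ act =
          (λ_ (coequalizer (fst G H) ((G ◁ u) ≫ hG.mul))).hom ∧
        (hG.mul ▷ coequalizer (fst G H) ((G ◁ u) ≫ hG.mul)) ≫ act =
          (α_ G G (coequalizer (fst G H) ((G ◁ u) ≫ hG.mul))).hom ≫ (G ◁ act) ≫ act ∧
        hG.mul ≫ coequalizer.π (fst G H) ((G ◁ u) ≫ hG.mul) =
          (G ◁ coequalizer.π (fst G H) ((G ◁ u) ≫ hG.mul)) ≫ act := by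
  refine ⟨act hpres u, ⟨?_, ?_, (π_act hpres u).symm⟩, ?_⟩
  · have := epi_whisker hpres u (𝟙_ 𝒞)
    rw [← cancel_epi ((𝟙_ 𝒞) ◁ coequalizer.π (fst G H) ((G ◁ u) ≫ hG.mul)),
      whisker_exchange_assoc, π_act, MonObj.one_mul_assoc, leftUnitor_naturality]
  · have := epi_whisker hpres u (G ⊗ G)
    rw [← cancel_epi ((G ⊗ G) ◁ coequalizer.π (fst G H) ((G ◁ u) ≫ hG.mul)),
      whisker_exchange_assoc, π_act, MonObj.mul_assoc_assoc, associator_naturality_right_assoc,
      ← whiskerLeft_comp_assoc, π_act, whiskerLeft_comp, Category.assoc, π_act]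
  · rintro act' ⟨-, -, h3⟩
    have := epi_whisker hpres u G
    rw [← cancel_epi (G ◁ coequalizer.π (fst G H) ((G ◁ u) ≫ hG.mul)), π_act, ← h3]

end abstract


theorem main {C : Type u₁} [Category.{v₁} C]
    (J : GrothendieckTopology C) [HasSheafify J (Type w)]
    {H G : Sheaf J (Type w)} [hH : GrpObj H] [hG : GrpObj G] (u : H ⟶ G) [Mono u]
    (hu : @IsMonHom (Sheaf J (Type w)) _ _ H G hH.toMonObj hG.toMonObj u) :
    ∃! act : G ⊗ coequalizer (fst G H) ((G ◁ u) ≫ hG.mul) ⟶ coequalizer (fst G H) ((G ◁ u) ≫ hG.mul),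
      (hG.one ▷ coequalizer (fst G H) ((G ◁ u) ≫ hG.mul)) ≫ act =
          (λ_ (coequalizer (fst G H) ((G ◁ u) ≫ hG.mul))).hom ∧
        (hG.mul ▷ coequalizer (fst G H) ((G ◁ u) ≫ hG.mul)) ≫ act =
          (α_ G G (coequalizer (fst G H) ((G ◁ u) ≫ hG.mul))).hom ≫ (G ◁ act) ≫ act ∧
        hG.mul ≫ coequalizer.π (fst G H) ((G ◁ u) ≫ hG.mul) =
          (G ◁ coequalizer.π (fst G H) ((G ◁ u) ≫ hG.mul)) ≫ act :=
  abstract_main (preservesCoeq J) u


end


open MonObj CartesianMonoidalCategory SemiCartesianMonoidalCategory in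
/-- Let `u : H ⟶ G` be a monomorphism of sheaves of groups on a site and `G/H` the quotient sheaf
(coequalizer in sheaves of sets of the projection and the multiplication `G × H ⇉ G`), with `π : G ⟶
G/H`. Then `G/H` carries exactly one action of `G` (a unital, associative morphism `G × G/H ⟶ G/H`)
for which `π` is equivariant for the action of `G` on itself by left translations. Stated for
sheaves of sets in `Type w` with sheafification. (The published statement adds that this structure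
is functorial in the pair `(G, H)`; that clause is not stated here.) -/
theorem result {C : Type u₁} [Category.{v₁} C]
    (J : GrothendieckTopology C) [HasSheafify J (Type w)]
    {H G : Sheaf J (Type w)} [hH : GrpObj H] [hG : GrpObj G] (u : H ⟶ G) [Mono u]
    (hu : @IsMonHom (Sheaf J (Type w)) _ _ H G hH.toMonObj hG.toMonObj u) :
    ∃! act : G ⊗ coequalizer (fst G H) ((G ◁ u) ≫ hG.mul) ⟶ coequalizer (fst G H) ((G ◁ u) ≫ hG.mul),
      (hG.one ▷ coequalizer (fst G H) ((G ◁ u) ≫ hG.mul)) ≫ act =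
          (λ_ (coequalizer (fst G H) ((G ◁ u) ≫ hG.mul))).hom ∧
        (hG.mul ▷ coequalizer (fst G H) ((G ◁ u) ≫ hG.mul)) ≫ act =
          (α_ G G (coequalizer (fst G H) ((G ◁ u) ≫ hG.mul))).hom ≫ (G ◁ act) ≫ act ∧
        hG.mul ≫ coequalizer.π (fst G H) ((G ◁ u) ≫ hG.mul) =
          (G ◁ coequalizer.π (fst G H) ((G ◁ u) ≫ hG.mul)) ≫ act := by
  classical
  exact main J u hu

end Groth.Agent.S6051
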