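import Groth.Statements.S6047
import Mathlib
import Groth.Agent.S6051

set_option autoImplicit false
open CategoryTheory CategoryTheory.Limits MonoidalCategory
universe w v₁ u₁
open ShfCat

namespace Groth.Agent.S6047

section
open CategoryTheory CategoryTheory.Limits MonoidalCategory
open MonObj CartesianMonoidalCategory SemiCartesianMonoidalCategory
universe v₂ u₂
open Groth.Agent.S6051

section abstract
variable {𝒞 : Type u₂} [Category.{v₂} 𝒞] [CartesianMonoidalCategory 𝒞]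
  (hpres : ∀ X : 𝒞, PreservesColimitsOfShape WalkingParallelPair (tensorLeft X))
  {H G : 𝒞} [hH : GrpObj H] [hG : GrpObj G] (u : H ⟶ G) (hu : IsMonHom u)
  [HasCoequalizer (fst G H) ((G ◁ u) ≫ hG.mul)]
  (hn : ∀ (Y : 𝒞) (g : Y ⟶ G) (h : Y ⟶ H), ∃ h' : Y ⟶ H, g * (h ≫ u) * g⁻¹ = h' ≫ u)

local notation "Q" => coequalizer (fst G H) ((G ◁ u) ≫ hG.mul)
local notation "π" => coequalizer.π (fst G H) ((G ◁ u) ≫ hG.mul)

include hpres in
theorem presRight (X : 𝒞) : PreservesColimitsOfShape WalkingParallelPair (tensorRight X) := by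
  let _ := BraidedCategory.ofCartesianMonoidalCategory (C := 𝒞)
  have := hpres X
  exact preservesColimitsOfShape_of_natIso (BraidedCategory.tensorLeftIsoTensorRight X)

include hpres in
theorem isColimitWhiskerRight (X : 𝒞) :
    Nonempty (IsColimit (Cofork.ofπ (π ▷ X)
      (by rw [← comp_whiskerRight, ← comp_whiskerRight, coequalizer.condition] :
        (fst G H ▷ X) ≫ (π ▷ X) = (((G ◁ u) ≫ hG.mul) ▷ X) ≫ (π ▷ X)))) := by
  have := presRight hpres X
  exact ⟨isColimitCoforkMapOfIsColimit (tensorRight X) _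
    (coequalizerIsCoequalizer (fst G H) ((G ◁ u) ≫ hG.mul))⟩

include hpres in
theorem epi_whiskerRight (X : 𝒞) : Epi (π ▷ X) :=
  Cofork.IsColimit.epi (isColimitWhiskerRight hpres u X).some

omit hH in
/-- elements differing by `H` on the right have the same image -/
theorem F1 {Y : 𝒞} (a : Y ⟶ G) (h : Y ⟶ H) : (a * (h ≫ u)) ≫ π = a ≫ π := by
  have h1 : a * (h ≫ u) = lift a h ≫ (G ◁ u) ≫ hG.mul := by
    rw [Hom.mul_def, lift_whiskerLeft_assoc]
  have h2 : a = lift a h ≫ fst G H := (lift_fst _ _).symm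
  have h3 : ((G ◁ u) ≫ hG.mul) ≫ π = fst G H ≫ π := (coequalizer.condition _ _).symm
  rw [h1, Category.assoc, h3, ← Category.assoc, ← h2]


omit hH in
theorem f2_eq : (G ◁ u) ≫ hG.mul = fst G H * (snd G H ≫ u) := by
  rw [mul_eq_mul, comp_mul, whiskerLeft_fst, whiskerLeft_snd]

include hn in
theorem compatB : (fst G H ▷ Q) ≫ act hpres u = (((G ◁ u) ≫ hG.mul) ▷ Q) ≫ act hpres u := by
  have := epi_whisker hpres u (G ⊗ H)
  rw [← cancel_epi ((G ⊗ H) ◁ π), whisker_exchange_assoc, whisker_exchange_assoc, π_act]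
  -- now in `Hom((G ⊗ H) ⊗ G, G)`
  set g : (G ⊗ H) ⊗ G ⟶ G := fst (G ⊗ H) G ≫ fst G H with hg
  set h : (G ⊗ H) ⊗ G ⟶ H := fst (G ⊗ H) G ≫ snd G H with hh
  set x : (G ⊗ H) ⊗ G ⟶ G := snd (G ⊗ H) G with hx
  have e1 : (fst G H ▷ G) ≫ hG.mul = g * x := by
    rw [mul_eq_mul, comp_mul, whiskerRight_fst, whiskerRight_snd]
  have e2 : (((G ◁ u) ≫ hG.mul) ▷ G) ≫ hG.mul = (g * (h ≫ u)) * x := by
    rw [f2_eq, mul_eq_mul, comp_mul, whiskerRight_fst, whiskerRight_snd, comp_mul, hg, hh,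
      Category.assoc]
  obtain ⟨h', hh'⟩ := hn _ x⁻¹ h
  have e3 : (g * (h ≫ u)) * x = (g * x) * (h' ≫ u) := by
    rw [← hh']
    group
  rw [← Category.assoc, ← Category.assoc, e1, e2, e3, F1]

include hn in
/-- multiplication on the quotient -/
noncomputable def mulQ : Q ⊗ Q ⟶ Q :=
  Cofork.IsColimit.desc (isColimitWhiskerRight hpres u Q).some (act hpres u) (compatB hpres u hn)

theorem π_mulQ' : (π ▷ Q) ≫ mulQ hpres u hn = act hpres u :=
  Cofork.IsColimit.π_desc' (isColimitWhiskerRight hpres u Q).some _ _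

theorem π_mulQ : (π ⊗ₘ π) ≫ mulQ hpres u hn = hG.mul ≫ π := by
  rw [tensorHom_def', Category.assoc, π_mulQ', π_act]


include hu hn in
theorem compatInv :
    fst G H ≫ hG.inv ≫ π = ((G ◁ u) ≫ hG.mul) ≫ hG.inv ≫ π := by
  have := hu
  obtain ⟨h'', hh''⟩ := hn _ (fst G H) (snd G H)⁻¹
  have e1 : fst G H ≫ hG.inv = (fst G H)⁻¹ := (Hom.inv_def _).symm
  have e2 : ((G ◁ u) ≫ hG.mul) ≫ hG.inv = (fst G H)⁻¹ * (h'' ≫ u) := by
    rw [← Hom.inv_def, f2_eq, ← hh'', GrpObj.inv_comp]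
    group
  rw [← Category.assoc, ← Category.assoc, e1, e2, F1]

/-- inverse on the quotient -/
noncomputable def invQ : Q ⟶ Q :=
  coequalizer.desc (hG.inv ≫ π) (compatInv u hu hn)

theorem π_invQ : π ≫ invQ u hu hn = hG.inv ≫ π := coequalizer.π_desc _ _

/-- a morphism which is the projection of some coequalizer cofork -/
def RegEpi {A B : 𝒞} (e : A ⟶ B) : Prop :=
  ∃ (Z : 𝒞) (f g : Z ⟶ A) (w : f ≫ e = g ≫ e), Nonempty (IsColimit (Cofork.ofπ e w))

omit hG in
theorem RegEpi.epi {A B : 𝒞} {e : A ⟶ B} (he : RegEpi e) : Epi e := by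
  obtain ⟨Z, f, g, w, ⟨hc⟩⟩ := he
  exact Cofork.IsColimit.epi hc

omit hG in
include hpres in
theorem RegEpi.whiskerLeft {A B : 𝒞} {e : A ⟶ B} (he : RegEpi e) (X : 𝒞) : RegEpi (X ◁ e) := by
  obtain ⟨Z, f, g, w, ⟨hc⟩⟩ := he
  have := hpres X
  exact ⟨X ⊗ Z, X ◁ f, X ◁ g, by rw [← whiskerLeft_comp, ← whiskerLeft_comp, w],
    ⟨isColimitCoforkMapOfIsColimit (tensorLeft X) w hc⟩⟩

omit hG in
include hpres in
theorem RegEpi.whiskerRight {A B : 𝒞} {e : A ⟶ B} (he : RegEpi e) (X : 𝒞) : RegEpi (e ▷ X) := by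
  obtain ⟨Z, f, g, w, ⟨hc⟩⟩ := he
  have := presRight hpres X
  exact ⟨Z ⊗ X, f ▷ X, g ▷ X, by rw [← comp_whiskerRight, ← comp_whiskerRight, w],
    ⟨isColimitCoforkMapOfIsColimit (tensorRight X) w hc⟩⟩

omit hH in
theorem regEpi_π : RegEpi π :=
  ⟨_, _, _, coequalizer.condition _ _, ⟨coequalizerIsCoequalizer _ _⟩⟩

omit hH in
theorem act_assoc : (hG.mul ▷ Q) ≫ act hpres u = (α_ G G Q).hom ≫ (G ◁ act hpres u) ≫ act hpres u := by
  have := epi_whisker hpres u (G ⊗ G)
  rw [← cancel_epi ((G ⊗ G) ◁ π),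
    whisker_exchange_assoc, π_act, MonObj.mul_assoc_assoc, associator_naturality_right_assoc,
    ← whiskerLeft_comp_assoc, π_act, whiskerLeft_comp, Category.assoc, π_act]

include hpres in
theorem epi_ππ : Epi (π ⊗ₘ π) := by
  have := epi_whisker hpres u G
  have := epi_whiskerRight hpres u Q
  rw [tensorHom_def']
  infer_instance

/-- the group structure on the quotient -/
noncomputable def grpQ : GrpObj Q where
  one := hG.one ≫ π
  mul := mulQ hpres u hn
  one_mul := by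
    have := epi_whisker hpres u (𝟙_ 𝒞)
    rw [← cancel_epi ((𝟙_ 𝒞) ◁ π), whisker_exchange_assoc, comp_whiskerRight, Category.assoc,
      ← MonoidalCategory.tensorHom_def_assoc, π_mulQ, MonObj.one_mul_assoc, leftUnitor_naturality]
  mul_one := by
    have := epi_whiskerRight hpres u (𝟙_ 𝒞)
    rw [← cancel_epi (π ▷ (𝟙_ 𝒞)), whiskerLeft_comp, Category.assoc, ← whisker_exchange_assoc,
      ← MonoidalCategory.tensorHom_def_assoc, π_mulQ, MonObj.mul_one_assoc, rightUnitor_naturality]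
  mul_assoc := by
    have h1 : Epi ((π ▷ Q) ▷ Q) := (((regEpi_π u).whiskerRight hpres Q).whiskerRight hpres Q).epi
    have h2 : Epi ((G ◁ π) ▷ Q) := (((regEpi_π u).whiskerLeft hpres G).whiskerRight hpres Q).epi
    rw [← cancel_epi ((π ▷ Q) ▷ Q), ← comp_whiskerRight_assoc, π_mulQ',
      associator_naturality_left_assoc, ← whisker_exchange_assoc, π_mulQ',
      ← cancel_epi ((G ◁ π) ▷ Q), ← comp_whiskerRight_assoc, π_act, comp_whiskerRight,
      Category.assoc, π_mulQ', associator_naturality_middle_assoc, ← whiskerLeft_comp_assoc,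
      π_mulQ', act_assoc]
  inv := invQ u hu hn
  left_inv := by
    have : Epi π := coequalizer.π_epi
    rw [← cancel_epi π, comp_lift_assoc, π_invQ, Category.comp_id]
    have e : lift (hG.inv ≫ π) π = lift hG.inv (𝟙 G) ≫ (π ⊗ₘ π) := by
      rw [lift_map, Category.id_comp]
    rw [e, Category.assoc, π_mulQ, GrpObj.left_inv_assoc, ← Category.assoc π,
      toUnit_unique (π ≫ toUnit Q) (toUnit G)]
  right_inv := by
    have : Epi π := coequalizer.π_epi
    rw [← cancel_epi π, comp_lift_assoc, π_invQ, Category.comp_id]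
    have e : lift π (hG.inv ≫ π) = lift (𝟙 G) hG.inv ≫ (π ⊗ₘ π) := by
      rw [lift_map, Category.id_comp]
    rw [e, Category.assoc, π_mulQ, GrpObj.right_inv_assoc, ← Category.assoc π,
      toUnit_unique (π ≫ toUnit Q) (toUnit G)]


omit hG in
theorem grp_ext {X : 𝒞} (g₁ g₂ : GrpObj X) (h : g₁.toMonObj = g₂.toMonObj) : g₁ = g₂ := by
  obtain ⟨inv₁, l₁, r₁⟩ := g₁
  obtain ⟨inv₂, l₂, r₂⟩ := g₂
  dsimp only at h
  subst h
  have e : inv₁ = inv₂ := by
    have a1 : inv₁ * 𝟙 X = 1 := by rw [Hom.mul_def, Hom.one_def]; exact l₁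
    have a2 : 𝟙 X * inv₂ = 1 := by rw [Hom.mul_def, Hom.one_def]; exact r₂
    exact left_inv_eq_right_inv a1 a2
  subst e
  rfl

include hpres hu hn in
theorem abstract_main :
    ∃! str : GrpObj Q, @IsMonHom 𝒞 _ _ G Q hG.toMonObj str.toMonObj π := by
  refine ⟨grpQ hpres u hu hn, ?_, ?_⟩
  · exact @IsMonHom.mk 𝒞 _ _ G Q hG.toMonObj (grpQ hpres u hu hn).toMonObj π rfl
      (π_mulQ hpres u hn).symm
  · intro str hstr
    apply grp_ext
    apply MonObj.ext
    have := epi_ππ hpres u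
    have h1 : hG.mul ≫ π = (π ⊗ₘ π) ≫ str.mul :=
      @IsMonHom.mul_hom 𝒞 _ _ G Q hG.toMonObj str.toMonObj π hstr
    change str.mul = mulQ hpres u hn
    rw [← cancel_epi (π ⊗ₘ π), ← h1, π_mulQ]

end abstract


theorem main {C : Type u₁} [Category.{v₁} C]
    (J : GrothendieckTopology C) [HasSheafify J (Type w)]
    {H G : Sheaf J (Type w)} [hH : GrpObj H] [hG : GrpObj G] (u : H ⟶ G) [Mono u]
    (hu : @IsMonHom (Sheaf J (Type w)) _ _ H G hH.toMonObj hG.toMonObj u)
    (hn : ∀ (Y : Sheaf J (Type w)) (g : Y ⟶ G) (h : Y ⟶ H), ∃ h' : Y ⟶ H, g * (h ≫ u) * g⁻¹ = h' ≫ u) :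
    ∃! str : GrpObj (coequalizer (fst G H) ((G ◁ u) ≫ hG.mul)),
      @IsMonHom (Sheaf J (Type w)) _ _ G (coequalizer (fst G H) ((G ◁ u) ≫ hG.mul)) hG.toMonObj str.toMonObj
        (coequalizer.π (fst G H) ((G ◁ u) ≫ hG.mul)) :=
  abstract_main (preservesCoeq J) u hu hn


end


open MonObj CartesianMonoidalCategory SemiCartesianMonoidalCategory in
/-- Let `u : H ⟶ G` be a monomorphism of sheaves of groups on a site identifying `H` with a normal
subgroup sheaf of `G`. Then the quotient sheaf `G/H` (the coequalizer, in sheaves of sets, of the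
projection and the multiplication `G × H ⇉ G`) carries exactly one structure of sheaf of groups for
which the canonical map `G ⟶ G/H` is a homomorphism. Stated for sheaves of sets valued in `Type w`
whenever sheafification exists; group sheaves are group objects for the cartesian monoidal
structure. -/
theorem result {C : Type u₁} [Category.{v₁} C]
    (J : GrothendieckTopology C) [HasSheafify J (Type w)]
    {H G : Sheaf J (Type w)} [hH : GrpObj H] [hG : GrpObj G] (u : H ⟶ G) [Mono u]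
    (hu : @IsMonHom (Sheaf J (Type w)) _ _ H G hH.toMonObj hG.toMonObj u)
    (hn : ∀ (Y : Sheaf J (Type w)) (g : Y ⟶ G) (h : Y ⟶ H), ∃ h' : Y ⟶ H, g * (h ≫ u) * g⁻¹ = h' ≫ u) :
    ∃! str : GrpObj (coequalizer (fst G H) ((G ◁ u) ≫ hG.mul)),
      @IsMonHom (Sheaf J (Type w)) _ _ G (coequalizer (fst G H) ((G ◁ u) ≫ hG.mul)) hG.toMonObj str.toMonObj
        (coequalizer.π (fst G H) ((G ◁ u) ≫ hG.mul)) := by
  classical
  exact main J u hu hn

end Groth.Agent.S6047
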