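import Groth.Statements.S6048
import Mathlib
import Groth.Agent.S6055

set_option autoImplicit false
open CategoryTheory CategoryTheory.Limits MonoidalCategory
universe w v₁ u₁
open ShfCat

namespace Groth.Agent.S6048

section
open CategoryTheory CategoryTheory.Limits MonoidalCategory
open CartesianMonoidalCategory SemiCartesianMonoidalCategory
open Groth.Agent.S6055
universe v₂ u₂

section abstract
variable {𝒞 : Type u₂} [Category.{v₂} 𝒞] [CartesianMonoidalCategory 𝒞] [HasPullbacks 𝒞]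
  (hpb : ∀ {P X W Y : 𝒞} {fst : P ⟶ X} {snd : P ⟶ W} {f : X ⟶ Y} {g : W ⟶ Y},
    IsPullback fst snd f g → Epi f → Epi snd)
  (hstrong : ∀ {X Y : 𝒞} (f : X ⟶ Y), Epi f → StrongEpi f)
  (hreg : ∀ {X Y : 𝒞} (q : X ⟶ Y), Epi q → ∃ (W : 𝒞) (l r : W ⟶ X) (w : l ≫ q = r ≫ q),
    Nonempty (IsColimit (Cofork.ofπ q w)))
  {R X B : 𝒞} {p₁ p₂ : R ⟶ X} (π : X ⟶ B) [hπ : Epi π] (hkp : IsKernelPair π p₁ p₂) (Y : 𝒞)

omit [CartesianMonoidalCategory 𝒞] [HasPullbacks 𝒞] in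
include hstrong in
theorem strong_lift {A B X Y : 𝒞} (c : A ⟶ B) [hc : Epi c] (j : X ⟶ Y) [Mono j] (f : A ⟶ X)
    (g : B ⟶ Y) (h : c ≫ g = f ≫ j) : ∃ d : B ⟶ X, d ≫ j = g := by
  have := hstrong c hc
  have sq : CommSq f c j g := ⟨h.symm⟩
  exact ⟨sq.lift, sq.fac_right⟩

include hpb hstrong hreg hkp in
theorem partA (Z : 𝒞) (ι : Z ⟶ X ⊗ Y) (hι : Mono ι)
    (hst : ∀ (W : 𝒞) (r : W ⟶ R) (y : W ⟶ Y),
      (∃ z : W ⟶ Z, z ≫ ι = lift (r ≫ p₁) y) ↔ (∃ z : W ⟶ Z, z ≫ ι = lift (r ≫ p₂) y))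
    (hcov : Epi (ι ≫ snd X Y))
    (hfib : ∀ (W : 𝒞) (z₁ z₂ : W ⟶ Z), z₁ ≫ ι ≫ snd X Y = z₂ ≫ ι ≫ snd X Y →
      ∃ r : W ⟶ R, r ≫ p₁ = z₁ ≫ ι ≫ fst X Y ∧ r ≫ p₂ = z₂ ≫ ι ≫ fst X Y) :
    ∃! f : Y ⟶ B, IsPullback (ι ≫ fst X Y) (ι ≫ snd X Y) π f := by
  obtain ⟨W₀, l, r, w, ⟨hc⟩⟩ := hreg (ι ≫ snd X Y) hcov
  have hdesc : l ≫ (ι ≫ fst X Y) ≫ π = r ≫ (ι ≫ fst X Y) ≫ π := by
    obtain ⟨ρ, hρ₁, hρ₂⟩ := hfib W₀ l r w
    rw [Category.assoc, ← reassoc_of% hρ₁, hkp.w, reassoc_of% hρ₂]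
  let f : Y ⟶ B := Cofork.IsColimit.desc hc ((ι ≫ fst X Y) ≫ π) hdesc
  have hf : (ι ≫ snd X Y) ≫ f = (ι ≫ fst X Y) ≫ π := Cofork.IsColimit.π_desc' hc _ _
  refine ⟨f, ?_, ?_⟩
  · refine IsPullback.of_isLimit' ⟨hf.symm⟩ ?_
    have key : ∀ s : PullbackCone π f, ∃ z : s.pt ⟶ Z, z ≫ ι = lift s.fst s.snd := by
      intro s
      have hc' : Epi (pullback.snd (ι ≫ snd X Y) s.snd) :=
        hpb (IsPullback.of_hasPullback _ _) hcov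
      obtain ⟨c, hcdef⟩ : ∃ c, c = pullback.snd (ι ≫ snd X Y) s.snd := ⟨_, rfl⟩
      obtain ⟨z', hz'⟩ : ∃ z', z' = pullback.fst (ι ≫ snd X Y) s.snd := ⟨_, rfl⟩
      rw [← hcdef] at hc'
      have hcond : z' ≫ ι ≫ snd X Y = c ≫ s.snd := by
        rw [hcdef, hz']
        exact pullback.condition
      have h1 : (z' ≫ ι ≫ fst X Y) ≫ π = (c ≫ s.fst) ≫ π := by
        rw [Category.assoc, Category.assoc, ← Category.assoc ι, ← hf, Category.assoc,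
          reassoc_of% hcond, Category.assoc, s.condition]
      obtain ⟨ρ, hρ₁, hρ₂⟩ := hkp.exists_lift _ _ h1
      obtain ⟨z'', hz''⟩ := (hst _ ρ (c ≫ s.snd)).1 ⟨z', by
        apply CartesianMonoidalCategory.hom_ext
        · rw [lift_fst, hρ₁, Category.assoc]
        · rw [lift_snd, ← hcond, Category.assoc]⟩
      have h2 : c ≫ lift s.fst s.snd = z'' ≫ ι := by
        rw [hz'', hρ₂]
        apply CartesianMonoidalCategory.hom_ext <;> simp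
      exact strong_lift hstrong c ι z'' _ h2
    choose z hz using key
    refine PullbackCone.IsLimit.mk _ z ?_ ?_ ?_
    · intro s
      rw [← Category.assoc, hz, lift_fst]
    · intro s
      rw [← Category.assoc, hz, lift_snd]
    · intro s m hm₁ hm₂
      rw [← cancel_mono ι, hz]
      apply CartesianMonoidalCategory.hom_ext
      · rw [lift_fst, ← hm₁, Category.assoc]
      · rw [lift_snd, ← hm₂, Category.assoc]
  · intro f' hf'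
    rw [← cancel_epi (ι ≫ snd X Y), hf, ← hf'.w]


omit [HasPullbacks 𝒞] in
theorem mono_lift_of_isPullback {P A B' D : 𝒞} {a : P ⟶ A} {b : P ⟶ B'} {f : A ⟶ D} {g : B' ⟶ D}
    (h : IsPullback a b f g) : Mono (lift a b) :=
  ⟨fun x y hxy => h.hom_ext (by simpa using congrArg (fun t => t ≫ fst _ _) hxy)
    (by simpa using congrArg (fun t => t ≫ snd _ _) hxy)⟩

include hpb hkp in
theorem partB (f : Y ⟶ B) : ∃ (Z : 𝒞) (ι : Z ⟶ X ⊗ Y), Mono ι ∧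
    (∀ (W : 𝒞) (r : W ⟶ R) (y : W ⟶ Y),
      (∃ z : W ⟶ Z, z ≫ ι = lift (r ≫ p₁) y) ↔ (∃ z : W ⟶ Z, z ≫ ι = lift (r ≫ p₂) y)) ∧
    Epi (ι ≫ snd X Y) ∧
    (∀ (W : 𝒞) (z₁ z₂ : W ⟶ Z), z₁ ≫ ι ≫ snd X Y = z₂ ≫ ι ≫ snd X Y →
      ∃ r : W ⟶ R, r ≫ p₁ = z₁ ≫ ι ≫ fst X Y ∧ r ≫ p₂ = z₂ ≫ ι ≫ fst X Y) ∧
    IsPullback (ι ≫ fst X Y) (ι ≫ snd X Y) π f := by
  have pb := IsPullback.of_hasPullback π f
  have hfac : ∀ {W : 𝒞} (a : W ⟶ X) (y : W ⟶ Y),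
      (∃ z : W ⟶ pullback π f, z ≫ lift (pullback.fst π f) (pullback.snd π f) = lift a y) ↔
        a ≫ π = y ≫ f := by
    intro W a y
    constructor
    · rintro ⟨z, hz⟩
      have h1 : z ≫ pullback.fst π f = a := by
        simpa using congrArg (fun t => t ≫ fst _ _) hz
      have h2 : z ≫ pullback.snd π f = y := by
        simpa using congrArg (fun t => t ≫ snd _ _) hz
      rw [← h1, ← h2, Category.assoc, Category.assoc, pullback.condition]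
    · intro h
      refine ⟨pullback.lift a y h, ?_⟩
      apply CartesianMonoidalCategory.hom_ext
      · rw [Category.assoc, lift_fst, lift_fst, pullback.lift_fst]
      · rw [Category.assoc, lift_snd, lift_snd, pullback.lift_snd]
  refine ⟨pullback π f, lift (pullback.fst π f) (pullback.snd π f), mono_lift_of_isPullback pb,
    ?_, ?_, ?_, ?_⟩
  · intro W r y
    rw [hfac, hfac, Category.assoc, Category.assoc, hkp.w]
  · rw [lift_snd]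
    exact hpb pb hπ
  · intro W z₁ z₂ h
    simp only [lift_snd, lift_fst] at h ⊢
    exact hkp.exists_lift _ _ (by
      rw [Category.assoc, Category.assoc, pullback.condition, reassoc_of% h])
  · rw [lift_fst, lift_snd]
    exact pb

end abstract

section final
variable {C : Type u₁} [Category.{v₁} C] (J : GrothendieckTopology C) [HasSheafify J (Type w)]

theorem main {R X : Sheaf J (Type w)} {p₁ p₂ : R ⟶ X}
    (e : UniversallyEffectiveEquivalenceRelation p₁ p₂) (Y : Sheaf J (Type w)) :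
    (∀ (Z : Sheaf J (Type w)) (ι : Z ⟶ X ⊗ Y), Mono ι →
      (∀ (W : Sheaf J (Type w)) (r : W ⟶ R) (y : W ⟶ Y),
        (∃ z : W ⟶ Z, z ≫ ι = lift (r ≫ p₁) y) ↔ (∃ z : W ⟶ Z, z ≫ ι = lift (r ≫ p₂) y)) →
      Epi (ι ≫ snd X Y) →
      (∀ (W : Sheaf J (Type w)) (z₁ z₂ : W ⟶ Z), z₁ ≫ ι ≫ snd X Y = z₂ ≫ ι ≫ snd X Y →
        ∃ r : W ⟶ R, r ≫ p₁ = z₁ ≫ ι ≫ fst X Y ∧ r ≫ p₂ = z₂ ≫ ι ≫ fst X Y) →
      ∃! f : Y ⟶ e.B, IsPullback (ι ≫ fst X Y) (ι ≫ snd X Y) e.π f) ∧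
    (∀ f : Y ⟶ e.B, ∃ (Z : Sheaf J (Type w)) (ι : Z ⟶ X ⊗ Y), Mono ι ∧
      (∀ (W : Sheaf J (Type w)) (r : W ⟶ R) (y : W ⟶ Y),
        (∃ z : W ⟶ Z, z ≫ ι = lift (r ≫ p₁) y) ↔ (∃ z : W ⟶ Z, z ≫ ι = lift (r ≫ p₂) y)) ∧
      Epi (ι ≫ snd X Y) ∧
      (∀ (W : Sheaf J (Type w)) (z₁ z₂ : W ⟶ Z), z₁ ≫ ι ≫ snd X Y = z₂ ≫ ι ≫ snd X Y →
        ∃ r : W ⟶ R, r ≫ p₁ = z₁ ≫ ι ≫ fst X Y ∧ r ≫ p₂ = z₂ ≫ ι ≫ fst X Y) ∧
      IsPullback (ι ≫ fst X Y) (ι ≫ snd X Y) e.π f) := by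
  have hpb : ∀ {P X W Y : Sheaf J (Type w)} {fst : P ⟶ X} {snd : P ⟶ W} {f : X ⟶ Y} {g : W ⟶ Y},
      IsPullback fst snd f g → Epi f → Epi snd :=
    fun hp hf => @epi_of_isPullback _ _ _ _ _ _ _ _ _ _ _ _ hp hf
  have hstrong : ∀ {X Y : Sheaf J (Type w)} (f : X ⟶ Y), Epi f → StrongEpi f :=
    fun f hf => strongEpi_of_epi f
  have hreg : ∀ {X Y : Sheaf J (Type w)} (q : X ⟶ Y), Epi q →
      ∃ (W : Sheaf J (Type w)) (l r : W ⟶ X) (w : l ≫ q = r ≫ q),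
        Nonempty (IsColimit (Cofork.ofπ q w)) := by
    intro X Y q hq
    have s := regularEpiOfEpi q
    exact ⟨s.W, s.left, s.right, s.w, ⟨s.isColimit⟩⟩
  have hπ : Epi e.π := inferInstance
  exact ⟨fun Z ι hι hst hcov hfib => partA hpb hstrong hreg e.π e.isKernelPair Y Z ι hι hst hcov hfib,
    fun f => partB hpb e.π e.isKernelPair Y f⟩

end final


end


open CartesianMonoidalCategory SemiCartesianMonoidalCategory in
/-- For sheaves of sets on a site with sheafification: let `p₁, p₂ : R ⇉ X` be an equivalence relation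
of sheaves with universally effective quotient `π : X ⟶ X/R` and `Y` a sheaf. (a) A subsheaf `Z ⊆ X
× Y` stable under `R × Y`, covering `Y`, and any two of whose points over the same point of `Y` are
`R`-related, is the pullback of `π` along exactly one `f : Y ⟶ X/R`; (b) every `f : Y ⟶ X/R` arises
in this way. -/
theorem result {C : Type u₁} [Category.{v₁} C]
    (J : GrothendieckTopology C) [HasSheafify J (Type w)]
    {R X : Sheaf J (Type w)} {p₁ p₂ : R ⟶ X}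
    (e : UniversallyEffectiveEquivalenceRelation p₁ p₂) (Y : Sheaf J (Type w)) :
    (∀ (Z : Sheaf J (Type w)) (ι : Z ⟶ X ⊗ Y), Mono ι →
      (∀ (W : Sheaf J (Type w)) (r : W ⟶ R) (y : W ⟶ Y),
        (∃ z : W ⟶ Z, z ≫ ι = lift (r ≫ p₁) y) ↔ (∃ z : W ⟶ Z, z ≫ ι = lift (r ≫ p₂) y)) →
      Epi (ι ≫ snd X Y) →
      (∀ (W : Sheaf J (Type w)) (z₁ z₂ : W ⟶ Z), z₁ ≫ ι ≫ snd X Y = z₂ ≫ ι ≫ snd X Y →
        ∃ r : W ⟶ R, r ≫ p₁ = z₁ ≫ ι ≫ fst X Y ∧ r ≫ p₂ = z₂ ≫ ι ≫ fst X Y) →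
      ∃! f : Y ⟶ e.B, IsPullback (ι ≫ fst X Y) (ι ≫ snd X Y) e.π f) ∧
    (∀ f : Y ⟶ e.B, ∃ (Z : Sheaf J (Type w)) (ι : Z ⟶ X ⊗ Y), Mono ι ∧
      (∀ (W : Sheaf J (Type w)) (r : W ⟶ R) (y : W ⟶ Y),
        (∃ z : W ⟶ Z, z ≫ ι = lift (r ≫ p₁) y) ↔ (∃ z : W ⟶ Z, z ≫ ι = lift (r ≫ p₂) y)) ∧
      Epi (ι ≫ snd X Y) ∧
      (∀ (W : Sheaf J (Type w)) (z₁ z₂ : W ⟶ Z), z₁ ≫ ι ≫ snd X Y = z₂ ≫ ι ≫ snd X Y →
        ∃ r : W ⟶ R, r ≫ p₁ = z₁ ≫ ι ≫ fst X Y ∧ r ≫ p₂ = z₂ ≫ ι ≫ fst X Y) ∧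
      IsPullback (ι ≫ fst X Y) (ι ≫ snd X Y) e.π f) := by
  classical
  exact main J e Y

end Groth.Agent.S6048
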