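import Groth.Statements.S6050
import Mathlib
import Groth.Agent.S6055

set_option autoImplicit false
open CategoryTheory CategoryTheory.Limits MonoidalCategory
universe w v₁ u₁
open ShfCat

namespace Groth.Agent.S6050

section
open CategoryTheory CategoryTheory.Limits MonoidalCategory
open MonObj CartesianMonoidalCategory SemiCartesianMonoidalCategory
open Groth.Agent.S6055
universe v₂ u₂

section abstract
variable {𝒞 : Type u₂} [Category.{v₂} 𝒞] [CartesianMonoidalCategory 𝒞]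

theorem subgrp_of_closed {P G : 𝒞} [hG : GrpObj G] (i : P ⟶ G) [Mono i]
    (hmul : ∃ m : P ⊗ P ⟶ P, m ≫ i = (fst P P ≫ i) * (snd P P ≫ i))
    (hone : ∃ e : 𝟙_ 𝒞 ⟶ P, e ≫ i = hG.one)
    (hinv : ∃ v : P ⟶ P, v ≫ i = i⁻¹) :
    ∃ str : GrpObj P, @IsMonHom _ _ _ P G str.toMonObj hG.toMonObj i := by
  obtain ⟨m, hm⟩ := hmul
  obtain ⟨e, he⟩ := hone
  obtain ⟨v, hv⟩ := hinv
  have hfst1 : ∀ {X : 𝒞} (f : X ⟶ 𝟙_ 𝒞), f ≫ hG.one = (1 : X ⟶ G) := by
    intro X f
    rw [Hom.one_def, toUnit_unique f (toUnit X)]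
  let str : GrpObj P :=
    { one := e
      mul := m
      one_mul := by
        rw [← cancel_mono i, Category.assoc, hm, comp_mul, ← Category.assoc, ← Category.assoc,
          whiskerRight_fst, whiskerRight_snd, Category.assoc, he, hfst1, _root_.one_mul,
          leftUnitor_hom]
      mul_one := by
        rw [← cancel_mono i, Category.assoc, hm, comp_mul, ← Category.assoc, ← Category.assoc,
          whiskerLeft_fst, whiskerLeft_snd, Category.assoc, he, hfst1, _root_.mul_one,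
          rightUnitor_hom]
      mul_assoc := by
        rw [← cancel_mono i]
        simp only [Category.assoc, hm, comp_mul]
        simp only [← Category.assoc, whiskerRight_fst, whiskerRight_snd, whiskerLeft_fst,
          whiskerLeft_snd]
        simp only [Category.assoc, hm, comp_mul]
        simp only [← Category.assoc, associator_hom_fst, associator_hom_snd_fst,
          associator_hom_snd_snd, whiskerLeft_fst, whiskerLeft_snd]
        simp [_root_.mul_assoc]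
      inv := v
      left_inv := by
        rw [← cancel_mono i, Category.assoc, hm, comp_mul, lift_fst_assoc, lift_snd_assoc, hv,
          Category.id_comp, inv_mul_cancel, Category.assoc, he, Hom.one_def]
      right_inv := by
        rw [← cancel_mono i, Category.assoc, hm, comp_mul, lift_fst_assoc, lift_snd_assoc, hv,
          Category.id_comp, mul_inv_cancel, Category.assoc, he, Hom.one_def] }
  refine ⟨str, ?_⟩
  exact @IsMonHom.mk _ _ _ P G str.toMonObj hG.toMonObj i he (by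
    change m ≫ i = (i ⊗ₘ i) ≫ hG.mul
    rw [hm, mul_eq_mul, comp_mul, tensorHom_fst, tensorHom_snd])


theorem isPullback_whiskerLeft (X : 𝒞) {A B : 𝒞} (e : A ⟶ B) :
    IsPullback (snd X A) (X ◁ e) e (snd X B) := by
  refine IsPullback.of_isLimit' ⟨(whiskerLeft_snd _ _).symm⟩ ?_
  refine PullbackCone.IsLimit.mk _ (fun s => lift (s.snd ≫ fst X B) s.fst) ?_ ?_ ?_
  · intro s
    exact lift_snd _ _
  · intro s
    apply CartesianMonoidalCategory.hom_ext
    · rw [Category.assoc, whiskerLeft_fst, lift_fst]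
    · rw [Category.assoc, whiskerLeft_snd, lift_snd_assoc, s.condition]
  · intro s m hm₁ hm₂
    apply CartesianMonoidalCategory.hom_ext
    · rw [lift_fst, ← hm₂, Category.assoc, whiskerLeft_fst]
    · rw [lift_snd, ← hm₁]

theorem isPullback_whiskerRight (X : 𝒞) {A B : 𝒞} (e : A ⟶ B) :
    IsPullback (fst A X) (e ▷ X) e (fst B X) := by
  refine IsPullback.of_isLimit' ⟨(whiskerRight_fst _ _).symm⟩ ?_
  refine PullbackCone.IsLimit.mk _ (fun s => lift s.fst (s.snd ≫ snd B X)) ?_ ?_ ?_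
  · intro s
    exact lift_fst _ _
  · intro s
    apply CartesianMonoidalCategory.hom_ext
    · rw [Category.assoc, whiskerRight_fst, lift_fst_assoc, s.condition]
    · rw [Category.assoc, whiskerRight_snd, lift_snd]
  · intro s m hm₁ hm₂
    apply CartesianMonoidalCategory.hom_ext
    · rw [lift_fst, ← hm₁]
    · rw [lift_snd, ← hm₂, Category.assoc, whiskerRight_snd]


section corr
variable [HasPullbacks 𝒞]
  (hpb : ∀ {P X W Y : 𝒞} {fst : P ⟶ X} {snd : P ⟶ W} {f : X ⟶ Y} {g : W ⟶ Y},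
    IsPullback fst snd f g → Epi f → Epi snd)
  (hstrong : ∀ {X Y : 𝒞} (f : X ⟶ Y), Epi f → StrongEpi f)
  (himg : ∀ {X Y : 𝒞} (f : X ⟶ Y), ∃ (I : 𝒞) (e : X ⟶ I) (m : I ⟶ Y), Epi e ∧ Mono m ∧ e ≫ m = f)
  {H G Q : 𝒞} [hH : GrpObj H] [hG : GrpObj G] [hQ : GrpObj Q] (u : H ⟶ G) [Mono u]
  [hu : IsMonHom u] (π : G ⟶ Q) [hπe : Epi π] [hπ : IsMonHom π]
  (hkp : IsKernelPair π (fst G H) ((G ◁ u) ≫ hG.mul))

omit [CartesianMonoidalCategory 𝒞] [HasPullbacks 𝒞] in
include hstrong in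
theorem strong_lift {A B X Y : 𝒞} (c : A ⟶ B) [hc : Epi c] (j : X ⟶ Y) [Mono j] (f : A ⟶ X)
    (g : B ⟶ Y) (h : c ≫ g = f ≫ j) : ∃ d : B ⟶ X, d ≫ j = g := by
  have := hstrong c hc
  have sq : CommSq f c j g := ⟨h.symm⟩
  exact ⟨sq.lift, sq.fac_right⟩

omit [Mono u] hu hπe [HasPullbacks 𝒞] in
include hkp in
theorem u_π : u ≫ π = 1 := by
  have h1 := congrArg (fun f => lift (1 : H ⟶ G) (𝟙 H) ≫ f) hkp.w
  simp only [lift_fst_assoc] at h1
  rw [← Category.assoc, lift_act, Category.id_comp, _root_.one_mul, MonObj.one_comp] at h1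
  exact h1.symm

omit hπe in
theorem factors_iff (K' : Subobject Q) {Y : 𝒞} (a : Y ⟶ G) :
    (∃ c : Y ⟶ ((Subobject.pullback π).obj K' : 𝒞), c ≫ ((Subobject.pullback π).obj K').arrow = a) ↔
      ∃ d : Y ⟶ (K' : 𝒞), d ≫ K'.arrow = a ≫ π := by
  have pb := Subobject.isPullback π K'
  constructor
  · rintro ⟨c, rfl⟩
    exact ⟨c ≫ Subobject.pullbackπ π K', by rw [Category.assoc, pb.w, Category.assoc]⟩
  · rintro ⟨d, hd⟩
    exact ⟨pb.lift d a hd, pb.lift_snd _ _ _⟩

omit hπe in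
include hkp in
theorem mapsTo (K' : Subobject Q) [str' : GrpObj (K' : 𝒞)] [hj : IsMonHom K'.arrow] :
    Subobject.mk u ≤ (Subobject.pullback π).obj K' ∧
      ∃ str : GrpObj ((Subobject.pullback π).obj K' : 𝒞),
        @IsMonHom _ _ _ _ _ str.toMonObj hG.toMonObj ((Subobject.pullback π).obj K').arrow := by
  have pb := Subobject.isPullback π K'
  constructor
  · obtain ⟨c, hc⟩ := (factors_iff π K' u).2 ⟨1, by rw [MonObj.one_comp, u_π u π hkp]⟩
    exact Subobject.mk_le_of_comm c hc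
  · apply subgrp_of_closed
    · apply (factors_iff π K' _).2
      refine ⟨(fst _ _ ≫ Subobject.pullbackπ π K') * (snd _ _ ≫ Subobject.pullbackπ π K'), ?_⟩
      rw [MonObj.mul_comp, MonObj.mul_comp, Category.assoc, Category.assoc, pb.w, Category.assoc,
        Category.assoc]
    · apply (factors_iff π K' _).2
      refine ⟨str'.one, ?_⟩
      rw [IsMonHom.one_hom, IsMonHom.one_hom]
    · apply (factors_iff π K' _).2
      refine ⟨(Subobject.pullbackπ π K')⁻¹, ?_⟩
      rw [GrpObj.inv_comp, GrpObj.inv_comp, pb.w]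

include hpb hstrong in
theorem le_of_pullback_le (K'₁ K'₂ : Subobject Q)
    (hle : (Subobject.pullback π).obj K'₁ ≤ (Subobject.pullback π).obj K'₂) : K'₁ ≤ K'₂ := by
  have pb₁ := Subobject.isPullback π K'₁
  have pb₂ := Subobject.isPullback π K'₂
  have hepi : Epi (Subobject.pullbackπ π K'₁) := hpb pb₁.flip hπe
  have hcomm : Subobject.pullbackπ π K'₁ ≫ K'₁.arrow =
      (Subobject.ofLE _ _ hle ≫ Subobject.pullbackπ π K'₂) ≫ K'₂.arrow := by
    rw [pb₁.w, Category.assoc, pb₂.w, ← Category.assoc, Subobject.ofLE_arrow]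
  obtain ⟨d, hd⟩ := strong_lift hstrong _ _ _ _ hcomm
  exact Subobject.le_of_comm d hd


omit [CartesianMonoidalCategory 𝒞] [HasPullbacks 𝒞] in
include himg in
theorem img_sub {X Y : 𝒞} (f : X ⟶ Y) :
    ∃ (K' : Subobject Y) (e : X ⟶ (K' : 𝒞)), Epi e ∧ e ≫ K'.arrow = f := by
  obtain ⟨I, e, m, he, hm, hem⟩ := himg f
  refine ⟨Subobject.mk m, e ≫ (Subobject.underlyingIso m).inv, inferInstance, ?_⟩
  rw [Category.assoc, Subobject.underlyingIso_arrow, hem]

omit [HasPullbacks 𝒞] in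
include hpb in
theorem epi_tensorHom {A B A' B' : 𝒞} (e : A ⟶ B) (e' : A' ⟶ B') [he : Epi e] [he' : Epi e'] :
    Epi (e ⊗ₘ e') := by
  have h1 : Epi (e ▷ A') := hpb (isPullback_whiskerRight A' e) he
  have h2 : Epi (B ◁ e') := hpb (isPullback_whiskerLeft B e') he'
  rw [MonoidalCategory.tensorHom_def]
  infer_instance

omit hπe in
include hpb hstrong himg hkp in
theorem surjOn (K : Subobject G) [strK : GrpObj (K : 𝒞)] [hi : IsMonHom K.arrow]
    (hle : Subobject.mk u ≤ K) :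
    ∃ K' : Subobject Q,
      (∃ str' : GrpObj (K' : 𝒞), @IsMonHom _ _ _ _ _ str'.toMonObj hQ.toMonObj K'.arrow) ∧
        (Subobject.pullback π).obj K' = K := by
  obtain ⟨K', e, he, hem⟩ := img_sub himg (K.arrow ≫ π)
  refine ⟨K', ?_, ?_⟩
  · apply subgrp_of_closed
    · have hE : Epi (e ⊗ₘ e) := epi_tensorHom hpb e e
      apply strong_lift hstrong (e ⊗ₘ e) K'.arrow ((fst _ _ * snd _ _) ≫ e)
      have hR : ((fst _ _ * snd _ _) ≫ e) ≫ K'.arrow =
          (fst _ _ ≫ K.arrow ≫ π) * (snd _ _ ≫ K.arrow ≫ π) := by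
        rw [Category.assoc, hem, ← Category.assoc, MonObj.mul_comp, MonObj.mul_comp,
          Category.assoc, Category.assoc]
      rw [hR, comp_mul, tensorHom_fst_assoc, tensorHom_snd_assoc, hem]
    · refine ⟨strK.one ≫ e, ?_⟩
      rw [Category.assoc, hem, ← Category.assoc, IsMonHom.one_hom, IsMonHom.one_hom]
    · apply strong_lift hstrong e K'.arrow ((𝟙 _)⁻¹ ≫ e)
      rw [GrpObj.comp_inv, hem, Category.assoc, hem, ← Category.assoc, GrpObj.inv_comp,
        GrpObj.inv_comp, Category.id_comp]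
  · have pb := Subobject.isPullback π K'
    apply le_antisymm
    · -- `Φ K' ≤ K`
      have hc : Epi (pullback.snd e (Subobject.pullbackπ π K')) :=
        hpb (IsPullback.of_hasPullback e (Subobject.pullbackπ π K')) he
      obtain ⟨c, hcdef⟩ : ∃ c, c = pullback.snd e (Subobject.pullbackπ π K') := ⟨_, rfl⟩
      obtain ⟨kk, hkk⟩ : ∃ kk, kk = pullback.fst e (Subobject.pullbackπ π K') := ⟨_, rfl⟩
      rw [← hcdef] at hc
      have hcond : kk ≫ e = c ≫ Subobject.pullbackπ π K' := by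
        rw [hcdef, hkk]
        exact pullback.condition
      have h1 : (kk ≫ K.arrow) ≫ π = (c ≫ ((Subobject.pullback π).obj K').arrow) ≫ π := by
        rw [Category.assoc, ← hem, reassoc_of% hcond, pb.w, Category.assoc]
      obtain ⟨z, hz₁, hz₂⟩ := hkp.exists_lift _ _ h1
      rw [comp_act, hz₁] at hz₂
      have h2 : c ≫ ((Subobject.pullback π).obj K').arrow =
          (kk * (z ≫ snd G H ≫ Subobject.ofMkLE u K hle)) ≫ K.arrow := by
        rw [MonObj.mul_comp, Category.assoc, Category.assoc, Subobject.ofMkLE_arrow, ← hz₂]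
      obtain ⟨d, hd⟩ := strong_lift hstrong _ _ _ _ h2
      exact Subobject.le_of_comm d hd
    · -- `K ≤ Φ K'`
      obtain ⟨g, hg⟩ := (factors_iff π K' K.arrow).2 ⟨e, hem⟩
      exact Subobject.le_of_comm g hg


omit hH [Mono u] hu in
include hpb hstrong in
theorem normal_corr (K' : Subobject Q) :
    (∀ (Y : 𝒞) (g : Y ⟶ Q) (k : Y ⟶ (K' : 𝒞)),
        ∃ k' : Y ⟶ (K' : 𝒞), g * (k ≫ K'.arrow) * g⁻¹ = k' ≫ K'.arrow) ↔
      (∀ (Y : 𝒞) (g : Y ⟶ G) (k : Y ⟶ ((Subobject.pullback π).obj K' : 𝒞)),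
        ∃ k' : Y ⟶ ((Subobject.pullback π).obj K' : 𝒞),
          g * (k ≫ ((Subobject.pullback π).obj K').arrow) * g⁻¹ =
            k' ≫ ((Subobject.pullback π).obj K').arrow) := by
  have pb := Subobject.isPullback π K'
  constructor
  · intro hN Y g k
    obtain ⟨k'', hk''⟩ := hN Y (g ≫ π) (k ≫ Subobject.pullbackπ π K')
    obtain ⟨c, hc⟩ := (factors_iff π K' (g * (k ≫ ((Subobject.pullback π).obj K').arrow) * g⁻¹)).2
      ⟨k'', by
        rw [← hk'', MonObj.mul_comp, MonObj.mul_comp, GrpObj.inv_comp, Category.assoc,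
          Category.assoc, pb.w]⟩
    exact ⟨c, hc.symm⟩
  · intro hN Y g k
    have hp' : Epi (Subobject.pullbackπ π K') := hpb pb.flip hπe
    have hE : Epi (π ⊗ₘ Subobject.pullbackπ π K') := epi_tensorHom hpb _ _
    have hc : Epi (pullback.snd (π ⊗ₘ Subobject.pullbackπ π K') (lift g k)) :=
      hpb (IsPullback.of_hasPullback _ _) hE
    obtain ⟨c, hcdef⟩ : ∃ c, c = pullback.snd (π ⊗ₘ Subobject.pullbackπ π K') (lift g k) :=
      ⟨_, rfl⟩
    obtain ⟨t, htdef⟩ : ∃ t, t = pullback.fst (π ⊗ₘ Subobject.pullbackπ π K') (lift g k) :=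
      ⟨_, rfl⟩
    rw [← hcdef] at hc
    have hcond : t ≫ (π ⊗ₘ Subobject.pullbackπ π K') = c ≫ lift g k := by
      rw [hcdef, htdef]
      exact pullback.condition
    have e1 : (t ≫ fst _ _) ≫ π = c ≫ g := by
      have := congrArg (fun f => f ≫ fst _ _) hcond
      simpa using this
    have e2 : (t ≫ snd _ _) ≫ Subobject.pullbackπ π K' = c ≫ k := by
      have := congrArg (fun f => f ≫ snd _ _) hcond
      simpa using this
    obtain ⟨k₂, hk₂⟩ := hN _ (t ≫ fst _ _) (t ≫ snd _ _)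
    have h3 : c ≫ (g * (k ≫ K'.arrow) * g⁻¹) = (k₂ ≫ Subobject.pullbackπ π K') ≫ K'.arrow := by
      rw [Category.assoc, pb.w, ← Category.assoc, ← hk₂, MonObj.mul_comp, MonObj.mul_comp,
        GrpObj.inv_comp, e1, Category.assoc (t ≫ snd _ _), ← pb.w, ← Category.assoc (t ≫ snd _ _),
        e2, comp_mul, comp_mul, GrpObj.comp_inv, Category.assoc]
    obtain ⟨d, hd⟩ := strong_lift hstrong _ _ _ _ h3
    exact ⟨d, hd.symm⟩

end corr
end abstract

section absmain
variable {𝒞 : Type u₂} [Category.{v₂} 𝒞] [CartesianMonoidalCategory 𝒞] [HasPullbacks 𝒞]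
  (hpb : ∀ {P X W Y : 𝒞} {fst : P ⟶ X} {snd : P ⟶ W} {f : X ⟶ Y} {g : W ⟶ Y},
    IsPullback fst snd f g → Epi f → Epi snd)
  (hstrong : ∀ {X Y : 𝒞} (f : X ⟶ Y), Epi f → StrongEpi f)
  (himg : ∀ {X Y : 𝒞} (f : X ⟶ Y), ∃ (I : 𝒞) (e : X ⟶ I) (m : I ⟶ Y), Epi e ∧ Mono m ∧ e ≫ m = f)
  {H G Q : 𝒞} [hH : GrpObj H] [hG : GrpObj G] [hQ : GrpObj Q] (u : H ⟶ G) [Mono u]
  [hu : IsMonHom u] (π : G ⟶ Q) [hπe : Epi π] [hπ : IsMonHom π]
  (hkp : IsKernelPair π (fst G H) ((G ◁ u) ≫ hG.mul))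

include hpb hstrong himg hkp in
theorem abstract_main :
    Set.BijOn (Subobject.pullback π).obj
      {K' : Subobject Q |
        ∃ str : GrpObj (K' : 𝒞), @IsMonHom 𝒞 _ _ _ _ str.toMonObj hQ.toMonObj K'.arrow}
      {K : Subobject G | Subobject.mk u ≤ K ∧
        ∃ str : GrpObj (K : 𝒞), @IsMonHom 𝒞 _ _ _ _ str.toMonObj hG.toMonObj K.arrow} ∧
    ∀ (K' : Subobject Q) (str' : GrpObj (K' : 𝒞))
      (str : GrpObj ((Subobject.pullback π).obj K' : 𝒞)),
      @IsMonHom 𝒞 _ _ _ _ str'.toMonObj hQ.toMonObj K'.arrow →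
      @IsMonHom 𝒞 _ _ _ _ str.toMonObj hG.toMonObj ((Subobject.pullback π).obj K').arrow →
      ((∀ (Y : 𝒞) (g : Y ⟶ Q) (k : Y ⟶ (K' : 𝒞)),
          ∃ k' : Y ⟶ (K' : 𝒞), g * (k ≫ K'.arrow) * g⁻¹ = k' ≫ K'.arrow) ↔
        (∀ (Y : 𝒞) (g : Y ⟶ G) (k : Y ⟶ ((Subobject.pullback π).obj K' : 𝒞)),
          ∃ k' : Y ⟶ ((Subobject.pullback π).obj K' : 𝒞),
            g * (k ≫ ((Subobject.pullback π).obj K').arrow) * g⁻¹ =
              k' ≫ ((Subobject.pullback π).obj K').arrow)) := by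
  refine ⟨⟨?_, ?_, ?_⟩, ?_⟩
  · rintro K' ⟨str', hj⟩
    exact @mapsTo _ _ _ _ H G Q hH hG hQ u _ hu π hπ hkp K' str' hj
  · intro K'₁ _ K'₂ _ heq
    exact le_antisymm (le_of_pullback_le hpb hstrong π _ _ heq.le)
      (le_of_pullback_le hpb hstrong π _ _ heq.ge)
  · rintro K ⟨hle, strK, hi⟩
    obtain ⟨K', hK', hΦ⟩ := @surjOn _ _ _ _ hpb hstrong himg H G Q hH hG hQ u _ hu π hπ hkp K strK hi hle
    exact ⟨K', hK', hΦ⟩
  · intro K' _ _ _ _
    exact normal_corr hpb hstrong π K'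

end absmain

section final
variable {C : Type u₁} [Category.{v₁} C] (J : GrothendieckTopology C) [HasSheafify J (Type w)]

theorem main
    {H G : Sheaf J (Type w)} [hH : GrpObj H] [hG : GrpObj G] (u : H ⟶ G) [Mono u]
    (hu : @IsMonHom (Sheaf J (Type w)) _ _ H G hH.toMonObj hG.toMonObj u)
    [hQ : GrpObj (coequalizer (fst G H) ((G ◁ u) ≫ hG.mul))]
    (hπ : @IsMonHom (Sheaf J (Type w)) _ _ G (coequalizer (fst G H) ((G ◁ u) ≫ hG.mul)) hG.toMonObj hQ.toMonObj
      (coequalizer.π (fst G H) ((G ◁ u) ≫ hG.mul))) :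
    Set.BijOn (Subobject.pullback (coequalizer.π (fst G H) ((G ◁ u) ≫ hG.mul))).obj
      {K' : Subobject (coequalizer (fst G H) ((G ◁ u) ≫ hG.mul)) |
        ∃ str : GrpObj (K' : Sheaf J (Type w)),
          @IsMonHom (Sheaf J (Type w)) _ _ _ _ str.toMonObj hQ.toMonObj K'.arrow}
      {K : Subobject G | Subobject.mk u ≤ K ∧
        ∃ str : GrpObj (K : Sheaf J (Type w)),
          @IsMonHom (Sheaf J (Type w)) _ _ _ _ str.toMonObj hG.toMonObj K.arrow} ∧
    ∀ (K' : Subobject (coequalizer (fst G H) ((G ◁ u) ≫ hG.mul)))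
      (str' : GrpObj (K' : Sheaf J (Type w)))
      (str : GrpObj ((Subobject.pullback (coequalizer.π (fst G H) ((G ◁ u) ≫ hG.mul))).obj K' : Sheaf J (Type w))),
      @IsMonHom (Sheaf J (Type w)) _ _ _ _ str'.toMonObj hQ.toMonObj K'.arrow →
      @IsMonHom (Sheaf J (Type w)) _ _ _ _ str.toMonObj hG.toMonObj
        ((Subobject.pullback (coequalizer.π (fst G H) ((G ◁ u) ≫ hG.mul))).obj K').arrow →
      ((∀ (Y : Sheaf J (Type w)) (g : Y ⟶ coequalizer (fst G H) ((G ◁ u) ≫ hG.mul))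
          (k : Y ⟶ (K' : Sheaf J (Type w))),
          ∃ k' : Y ⟶ (K' : Sheaf J (Type w)), g * (k ≫ K'.arrow) * g⁻¹ = k' ≫ K'.arrow) ↔
        (∀ (Y : Sheaf J (Type w)) (g : Y ⟶ G)
          (k : Y ⟶ ((Subobject.pullback (coequalizer.π (fst G H) ((G ◁ u) ≫ hG.mul))).obj K' : Sheaf J (Type w))),
          ∃ k' : Y ⟶ ((Subobject.pullback (coequalizer.π (fst G H) ((G ◁ u) ≫ hG.mul))).obj K' : Sheaf J (Type w)),
            g * (k ≫ ((Subobject.pullback (coequalizer.π (fst G H) ((G ◁ u) ≫ hG.mul))).obj K').arrow) * g⁻¹ =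
              k' ≫ ((Subobject.pullback (coequalizer.π (fst G H) ((G ◁ u) ≫ hG.mul))).obj K').arrow)) := by
  have hpb : ∀ {P X W Y : Sheaf J (Type w)} {fst : P ⟶ X} {snd : P ⟶ W} {f : X ⟶ Y} {g : W ⟶ Y},
      IsPullback fst snd f g → Epi f → Epi snd :=
    fun hp hf => @epi_of_isPullback _ _ _ _ _ _ _ _ _ _ _ _ hp hf
  have hstrong : ∀ {X Y : Sheaf J (Type w)} (f : X ⟶ Y), Epi f → StrongEpi f :=
    fun f hf => strongEpi_of_epi f
  have himg : ∀ {X Y : Sheaf J (Type w)} (f : X ⟶ Y),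
      ∃ (I : Sheaf J (Type w)) (e : X ⟶ I) (m : I ⟶ Y), Epi e ∧ Mono m ∧ e ≫ m = f :=
    fun f => ⟨Sheaf.image f, Sheaf.toImage f, Sheaf.imageι f, inferInstance, inferInstance,
      Sheaf.toImage_ι f⟩
  have hkp := kernelPair_quot J u hu
  exact @abstract_main _ _ _ _ hpb hstrong himg H G _ hH hG hQ u _ hu _ inferInstance hπ hkp

end final


end


open MonObj CartesianMonoidalCategory SemiCartesianMonoidalCategory in
/-- Let `u : H ⟶ G` be a normal subgroup sheaf of a sheaf of groups `G` on a site, `G' = G/H` the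
quotient sheaf with its group structure making `π : G ⟶ G'` a homomorphism. Then `K' ↦ K' ×_{G'} G`
is a bijection from the subgroup sheaves of `G'` onto the subgroup sheaves of `G` containing `H`
(its inverse is `K ↦ K/H`), and normal subgroup sheaves correspond to normal subgroup sheaves.
Stated for sheaves of sets in `Type w` with sheafification; a subgroup sheaf is a subobject
admitting a group structure for which its inclusion is a homomorphism. -/
theorem result {C : Type u₁} [Category.{v₁} C]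
    (J : GrothendieckTopology C) [HasSheafify J (Type w)]
    {H G : Sheaf J (Type w)} [hH : GrpObj H] [hG : GrpObj G] (u : H ⟶ G) [Mono u]
    (hu : @IsMonHom (Sheaf J (Type w)) _ _ H G hH.toMonObj hG.toMonObj u)
    (hn : ∀ (Y : Sheaf J (Type w)) (g : Y ⟶ G) (h : Y ⟶ H), ∃ h' : Y ⟶ H, g * (h ≫ u) * g⁻¹ = h' ≫ u)
    [hQ : GrpObj (coequalizer (fst G H) ((G ◁ u) ≫ hG.mul))]
    (hπ : @IsMonHom (Sheaf J (Type w)) _ _ G (coequalizer (fst G H) ((G ◁ u) ≫ hG.mul)) hG.toMonObj hQ.toMonObj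
      (coequalizer.π (fst G H) ((G ◁ u) ≫ hG.mul))) :
    Set.BijOn (Subobject.pullback (coequalizer.π (fst G H) ((G ◁ u) ≫ hG.mul))).obj
      {K' : Subobject (coequalizer (fst G H) ((G ◁ u) ≫ hG.mul)) |
        ∃ str : GrpObj (K' : Sheaf J (Type w)),
          @IsMonHom (Sheaf J (Type w)) _ _ _ _ str.toMonObj hQ.toMonObj K'.arrow}
      {K : Subobject G | Subobject.mk u ≤ K ∧
        ∃ str : GrpObj (K : Sheaf J (Type w)),
          @IsMonHom (Sheaf J (Type w)) _ _ _ _ str.toMonObj hG.toMonObj K.arrow} ∧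
    ∀ (K' : Subobject (coequalizer (fst G H) ((G ◁ u) ≫ hG.mul)))
      (str' : GrpObj (K' : Sheaf J (Type w)))
      (str : GrpObj ((Subobject.pullback (coequalizer.π (fst G H) ((G ◁ u) ≫ hG.mul))).obj K' : Sheaf J (Type w))),
      @IsMonHom (Sheaf J (Type w)) _ _ _ _ str'.toMonObj hQ.toMonObj K'.arrow →
      @IsMonHom (Sheaf J (Type w)) _ _ _ _ str.toMonObj hG.toMonObj
        ((Subobject.pullback (coequalizer.π (fst G H) ((G ◁ u) ≫ hG.mul))).obj K').arrow →
      ((∀ (Y : Sheaf J (Type w)) (g : Y ⟶ coequalizer (fst G H) ((G ◁ u) ≫ hG.mul))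
          (k : Y ⟶ (K' : Sheaf J (Type w))),
          ∃ k' : Y ⟶ (K' : Sheaf J (Type w)), g * (k ≫ K'.arrow) * g⁻¹ = k' ≫ K'.arrow) ↔
        (∀ (Y : Sheaf J (Type w)) (g : Y ⟶ G)
          (k : Y ⟶ ((Subobject.pullback (coequalizer.π (fst G H) ((G ◁ u) ≫ hG.mul))).obj K' : Sheaf J (Type w))),
          ∃ k' : Y ⟶ ((Subobject.pullback (coequalizer.π (fst G H) ((G ◁ u) ≫ hG.mul))).obj K' : Sheaf J (Type w)),
            g * (k ≫ ((Subobject.pullback (coequalizer.π (fst G H) ((G ◁ u) ≫ hG.mul))).obj K').arrow) * g⁻¹ =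
              k' ≫ ((Subobject.pullback (coequalizer.π (fst G H) ((G ◁ u) ≫ hG.mul))).obj K').arrow)) := by
  classical
  exact main J u hu hπ

end Groth.Agent.S6050
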