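import Groth.Statements.S6053
import Mathlib

set_option autoImplicit false
open CategoryTheory
universe w v₁ u₁
open ShfCat

namespace Groth.Agent.S6053

section
open CategoryTheory CategoryTheory.Limits

section
variable {C : Type u₁} [Category.{v₁} C] (C' : C → Prop) (P P' : Precoverage C)

def GoodI (X : C) (S' : Sieve X) : Prop :=
  ∃ (ι : Type (max u₁ v₁)) (Y : ι → C) (f : ∀ i, Y i ⟶ X) (R' : ∀ i, Presieve (Y i)),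
    Presieve.ofArrows Y f ∈ P X ∧ (∀ i, C' (Y i)) ∧ (∀ i, R' i ∈ P' (Y i)) ∧
    ∀ (i : ι) ⦃Z : C⦄ (g : Z ⟶ Y i), R' i g → S' (g ≫ f i)

def Good (X : C) (S' : Sieve X) : Prop :=
  ∃ (R : Presieve X) (_ : R ∈ P X) (_ : ∀ ⦃Y : C⦄ ⦃f : Y ⟶ X⦄, R f → C' Y)
        (R' : ∀ ⦃Y : C⦄ ⦃f : Y ⟶ X⦄, R f → Presieve Y),
        (∀ ⦃Y : C⦄ ⦃f : Y ⟶ X⦄ (hf : R f), R' hf ∈ P' Y) ∧
        ∀ ⦃Y : C⦄ ⦃f : Y ⟶ X⦄ (hf : R f) ⦃Z : C⦄ ⦃g : Z ⟶ Y⦄, R' hf g → S' (g ≫ f)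

theorem good_of_goodI {X : C} {S' : Sieve X} (h : GoodI C' P P' X S') : Good C' P P' X S' := by
  obtain ⟨ι, Y, f, R', hP, hC', hR', hS⟩ := h
  have key : ∀ ⦃Y' : C⦄ ⦃h : Y' ⟶ X⦄, Presieve.ofArrows Y f h →
      ∃ T : Presieve Y', T ∈ P' Y' ∧ C' Y' ∧ ∀ ⦃Z : C⦄ ⦃g : Z ⟶ Y'⦄, T g → S' (g ≫ h) := by
    rintro Y' h ⟨i⟩
    exact ⟨R' i, hR' i, hC' i, fun Z g hg => hS i g hg⟩
  choose T hT1 hT2 hT3 using key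
  exact ⟨Presieve.ofArrows Y f, hP, fun Y' h hh => hT2 hh, T, fun Y' h hh => hT1 hh,
    fun Y' h hh Z g hg => hT3 hh hg⟩

theorem goodI_of_good {X : C} {S' : Sieve X} (h : Good C' P P' X S') : GoodI C' P P' X S' := by
  obtain ⟨R, hP, hC', R', hR', hS⟩ := h
  let ι := { x : Σ Z, (Z ⟶ X) // R x.2 }
  refine ⟨ι, fun x => x.1.1, fun x => x.1.2, fun x => R' x.2, ?_, fun x => hC' x.2,
    fun x => hR' x.2, fun x Z g hg => hS x.2 hg⟩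
  have : Presieve.ofArrows (fun x : ι => x.1.1) (fun x => x.1.2) = R :=
    le_antisymm (fun Z g ⟨x⟩ ↦ x.2) (fun Z g hg ↦ .mk (⟨⟨_, _⟩, hg⟩ : ι))
  rw [this]
  exact hP


theorem refine_P [P.IsStableUnderComposition]
    (hb : ∀ X : C, ∃ R ∈ P X, ∀ ⦃Y : C⦄ ⦃f : Y ⟶ X⦄, R f → C' Y)
    {X : C} {ι : Type (max u₁ v₁)} (Z : ι → C) (r : ∀ i, Z i ⟶ X)
    (hR : Presieve.ofArrows Z r ∈ P X) :
    ∃ (σ : ι → Type (max u₁ v₁)) (W : ∀ i, σ i → C) (g : ∀ i j, W i j ⟶ Z i),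
      Presieve.ofArrows (fun p : Σ i, σ i => W p.1 p.2) (fun p => g p.1 p.2 ≫ r p.1) ∈ P X ∧
      ∀ i j, C' (W i j) := by
  have key : ∀ i : ι, ∃ (σ : Type (max u₁ v₁)) (W : σ → C) (g : ∀ j, W j ⟶ Z i),
      Presieve.ofArrows W g ∈ P (Z i) ∧ ∀ j, C' (W j) := by
    intro i
    obtain ⟨R, hRP, hRC⟩ := hb (Z i)
    obtain ⟨σ, W, g, rfl⟩ := R.exists_eq_ofArrows
    exact ⟨σ, W, g, hRP, fun j => hRC (Presieve.ofArrows.mk j)⟩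
  choose σ W g h1 h2 using key
  exact ⟨σ, W, g, Precoverage.comp_mem_coverings r hR g h1, h2⟩

theorem good_top [P.IsStableUnderComposition]
    (hP'id : ∀ ⦃X : C⦄, C' X → Presieve.singleton (𝟙 X) ∈ P' X)
    (hb : ∀ X : C, ∃ R ∈ P X, ∀ ⦃Y : C⦄ ⦃f : Y ⟶ X⦄, R f → C' Y) (X : C) :
    Good C' P P' X ⊤ := by
  obtain ⟨R, hRP, hRC⟩ := hb X
  exact ⟨R, hRP, hRC, fun Y f _ => Presieve.singleton (𝟙 Y), fun Y f hf => hP'id (hRC hf),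
    fun Y f hf Z g hg => trivial⟩

theorem good_of_P [P.IsStableUnderComposition]
    (hP'id : ∀ ⦃X : C⦄, C' X → Presieve.singleton (𝟙 X) ∈ P' X)
    (hb : ∀ X : C, ∃ R ∈ P X, ∀ ⦃Y : C⦄ ⦃f : Y ⟶ X⦄, R f → C' Y) {X : C} {R : Presieve X}
    (hR : R ∈ P X) : Good C' P P' X (Sieve.generate R) := by
  apply good_of_goodI
  obtain ⟨ι, Z, r, rfl⟩ := R.exists_eq_ofArrows
  obtain ⟨σ, W, g, h1, h2⟩ := refine_P C' P hb Z r hR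
  refine ⟨Σ i, σ i, fun p => W p.1 p.2, fun p => g p.1 p.2 ≫ r p.1,
    fun p => Presieve.singleton (𝟙 _), h1, fun p => h2 p.1 p.2, fun p => hP'id (h2 p.1 p.2), ?_⟩
  rintro p Z' g' ⟨⟩
  rw [Category.id_comp]
  exact ⟨_, g p.1 p.2, r p.1, Presieve.ofArrows.mk p.1, rfl⟩


theorem good_of_P'
    (ha : ∀ ⦃X : C⦄ ⦃R : Presieve X⦄, R ∈ P' X → ∀ ⦃T : C⦄ (g : T ⟶ X), C' T →
      ∃ _ : R.HasPullbacks g, Presieve.pullbackArrows g R ∈ P' T)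
    (hb : ∀ X : C, ∃ R ∈ P X, ∀ ⦃Y : C⦄ ⦃f : Y ⟶ X⦄, R f → C' Y) {X : C} {R : Presieve X}
    (hR : R ∈ P' X) : Good C' P P' X (Sieve.generate R) := by
  obtain ⟨R₀, hR₀P, hR₀C⟩ := hb X
  have key : ∀ ⦃Y : C⦄ ⦃f : Y ⟶ X⦄, R₀ f → ∃ T : Presieve Y, T ∈ P' Y ∧
      ∀ ⦃Z : C⦄ ⦃g : Z ⟶ Y⦄, T g → Sieve.generate R (g ≫ f) := by
    intro Y f hf
    obtain ⟨hpb, hmem⟩ := ha hR f (hR₀C hf)
    refine ⟨Presieve.pullbackArrows f R, hmem, ?_⟩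
    rintro Z g ⟨Z', h, hRh⟩
    have := R.hasPullback f hRh
    exact ⟨Z', pullback.fst h f, h, hRh, pullback.condition⟩
  choose T hT1 hT2 using key
  exact ⟨R₀, hR₀P, hR₀C, T, hT1, hT2⟩


theorem good_pullback [P.HasPullbacks] [P.IsStableUnderBaseChange] [P.IsStableUnderComposition]
    (ha : ∀ ⦃X : C⦄ ⦃R : Presieve X⦄, R ∈ P' X → ∀ ⦃T : C⦄ (g : T ⟶ X), C' T →
      ∃ _ : R.HasPullbacks g, Presieve.pullbackArrows g R ∈ P' T)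
    (hb : ∀ X : C, ∃ R ∈ P X, ∀ ⦃Y : C⦄ ⦃f : Y ⟶ X⦄, R f → C' Y)
    {X : C} {S : Sieve X} (hS : Good C' P P' X S) {Y : C} (f : Y ⟶ X) :
    Good C' P P' Y (S.pullback f) := by
  obtain ⟨ι, Z, r, R', hP, hC', hR', hS⟩ := goodI_of_good C' P P' hS
  apply good_of_goodI
  have hpb : (Presieve.ofArrows Z r).HasPullbacks f := P.hasPullbacks_of_mem f hP
  have hpbi : ∀ i, HasPullback (r i) f :=
    fun i => Presieve.hasPullback f (Presieve.ofArrows.mk i)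
  have hP2 : Presieve.ofArrows (fun i => pullback (r i) f) (fun i => pullback.snd (r i) f) ∈
      P Y := by
    rw [Presieve.ofArrows_pullback]
    exact Precoverage.pullbackArrows_mem f hP
  obtain ⟨σ, W, g, h1, h2⟩ := refine_P C' P hb _ _ hP2
  have key : ∀ p : Σ i, σ i, ∃ T : Presieve (W p.1 p.2), T ∈ P' (W p.1 p.2) ∧
      ∀ ⦃Z' : C⦄ (q : Z' ⟶ W p.1 p.2), T q →
        (S.pullback f) (q ≫ g p.1 p.2 ≫ pullback.snd (r p.1) f) := by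
    rintro ⟨i, j⟩
    obtain ⟨hpb', hmem⟩ := ha (hR' i) (g i j ≫ pullback.fst (r i) f) (h2 i j)
    refine ⟨Presieve.pullbackArrows (g i j ≫ pullback.fst (r i) f) (R' i), hmem, ?_⟩
    rintro Z' q ⟨V, h, hh⟩
    have := (R' i).hasPullback (g i j ≫ pullback.fst (r i) f) hh
    show S ((pullback.snd h (g i j ≫ pullback.fst (r i) f) ≫ g i j ≫
      pullback.snd (r i) f) ≫ f)
    have e : (pullback.snd h (g i j ≫ pullback.fst (r i) f) ≫ g i j ≫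
        pullback.snd (r i) f) ≫ f =
        pullback.fst h (g i j ≫ pullback.fst (r i) f) ≫ h ≫ r i := by
      simp only [Category.assoc]
      rw [← pullback.condition (f := r i) (g := f), pullback.condition_assoc]
      simp only [Category.assoc]
    rw [e]
    exact S.downward_closed (hS i h hh) _
  choose T hT1 hT2 using key
  exact ⟨Σ i, σ i, fun p => W p.1 p.2, fun p => g p.1 p.2 ≫ pullback.snd (r p.1) f, T, h1,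
    fun p => h2 p.1 p.2, hT1, fun p Z' q hq => hT2 p q hq⟩


theorem good_trans
    (hc : ∀ ⦃S : C⦄ ⦃R₁ : Presieve S⦄, R₁ ∈ P' S →
      ∀ (R₂ : ∀ ⦃Y : C⦄ ⦃f : Y ⟶ S⦄, R₁ f → Presieve Y),
        (∀ ⦃Y : C⦄ ⦃f : Y ⟶ S⦄ (hf : R₁ f), R₂ hf ∈ P Y ∧ ∀ ⦃Z : C⦄ ⦃g : Z ⟶ Y⦄, R₂ hf g → C' Z) →
      ∀ (R₃ : ∀ ⦃Y : C⦄ ⦃f : Y ⟶ S⦄ (hf : R₁ f) ⦃Z : C⦄ ⦃g : Z ⟶ Y⦄, R₂ hf g → Presieve Z),
        (∀ ⦃Y : C⦄ ⦃f : Y ⟶ S⦄ (hf : R₁ f) ⦃Z : C⦄ ⦃g : Z ⟶ Y⦄ (hg : R₂ hf g), R₃ hf hg ∈ P' Z) →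
      ∃ T ∈ P' S, ∀ ⦃W : C⦄ ⦃q : W ⟶ S⦄, T q →
        ∃ (Y Z V : C) (f : Y ⟶ S) (hf : R₁ f) (g : Z ⟶ Y) (hg : R₂ hf g) (h : V ⟶ Z) (_ : R₃ hf hg h)
          (r : W ⟶ V), r ≫ h ≫ g ≫ f = q)
    {X : C} {S T : Sieve X} (hS : Good C' P P' X S)
    (hT : ∀ ⦃Y : C⦄ ⦃f : Y ⟶ X⦄, S f → Good C' P P' Y (T.pullback f)) : Good C' P P' X T := by
  obtain ⟨R, hRP, hRC, R', hR', hRS⟩ := hS
  have key : ∀ ⦃Z : C⦄ ⦃r : Z ⟶ X⦄ (hr : R r), ∃ T' : Presieve Z, T' ∈ P' Z ∧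
      ∀ ⦃W : C⦄ ⦃q : W ⟶ Z⦄, T' q → T (q ≫ r) := by
    intro Z r hr
    have hgood : ∀ ⦃V : C⦄ ⦃h : V ⟶ Z⦄ (hh : R' hr h), Good C' P P' V (T.pullback (h ≫ r)) :=
      fun V h hh => hT (hRS hr hh)
    unfold Good at hgood
    choose R₂ hR₂P hR₂C R₃ hR₃ hR₃T using hgood
    obtain ⟨T', hT', hfac⟩ := hc (hR' hr) R₂ (fun Y f hf => ⟨hR₂P hf, hR₂C hf⟩) R₃
      (fun Y f hf Z g hg => hR₃ hf hg)
    refine ⟨T', hT', ?_⟩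
    intro W q hq
    obtain ⟨Y, Z', V, f, hf, g, hg, h, hh, r', rfl⟩ := hfac hq
    have h1 : T ((h ≫ g) ≫ f ≫ r) := hR₃T hf hg hh
    have h2 := T.downward_closed h1 r'
    simpa only [Category.assoc] using h2
  choose T' hT'1 hT'2 using key
  exact ⟨R, hRP, hRC, T', hT'1, hT'2⟩


theorem main' [P.HasPullbacks] [P.IsStableUnderBaseChange] [P.IsStableUnderComposition]
    (hP'C : ∀ ⦃X : C⦄ ⦃R : Presieve X⦄, R ∈ P' X → C' X ∧ ∀ ⦃Y : C⦄ ⦃f : Y ⟶ X⦄, R f → C' Y)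
    (hP'id : ∀ ⦃X : C⦄, C' X → Presieve.singleton (𝟙 X) ∈ P' X)
    (ha : ∀ ⦃X : C⦄ ⦃R : Presieve X⦄, R ∈ P' X → ∀ ⦃T : C⦄ (g : T ⟶ X), C' T →
      ∃ _ : R.HasPullbacks g, Presieve.pullbackArrows g R ∈ P' T)
    (hb : ∀ X : C, ∃ R ∈ P X, ∀ ⦃Y : C⦄ ⦃f : Y ⟶ X⦄, R f → C' Y)
    (hc : ∀ ⦃S : C⦄ ⦃R₁ : Presieve S⦄, R₁ ∈ P' S →
      ∀ (R₂ : ∀ ⦃Y : C⦄ ⦃f : Y ⟶ S⦄, R₁ f → Presieve Y),
        (∀ ⦃Y : C⦄ ⦃f : Y ⟶ S⦄ (hf : R₁ f), R₂ hf ∈ P Y ∧ ∀ ⦃Z : C⦄ ⦃g : Z ⟶ Y⦄, R₂ hf g → C' Z) →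
      ∀ (R₃ : ∀ ⦃Y : C⦄ ⦃f : Y ⟶ S⦄ (hf : R₁ f) ⦃Z : C⦄ ⦃g : Z ⟶ Y⦄, R₂ hf g → Presieve Z),
        (∀ ⦃Y : C⦄ ⦃f : Y ⟶ S⦄ (hf : R₁ f) ⦃Z : C⦄ ⦃g : Z ⟶ Y⦄ (hg : R₂ hf g), R₃ hf hg ∈ P' Z) →
      ∃ T ∈ P' S, ∀ ⦃W : C⦄ ⦃q : W ⟶ S⦄, T q →
        ∃ (Y Z V : C) (f : Y ⟶ S) (hf : R₁ f) (g : Z ⟶ Y) (hg : R₂ hf g) (h : V ⟶ Z) (_ : R₃ hf hg h)
          (r : W ⟶ V), r ≫ h ≫ g ≫ f = q)
    (X : C) (S' : Sieve X) :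
    S' ∈ (P ⊔ P').toGrothendieck X ↔ Good C' P P' X S' := by
  constructor
  · intro hS
    induction hS with
    | of X R hR =>
      rcases hR with hR | hR
      · exact good_of_P C' P P' hP'id hb hR
      · exact good_of_P' C' P P' ha hb hR
    | top X => exact good_top C' P P' hP'id hb X
    | pullback X S hS Y f ih => exact good_pullback C' P P' ha hb ih f
    | transitive X S R hS hR ih1 ih2 => exact good_trans C' P P' hc ih1 ih2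
  · rintro ⟨R, hRP, hRC, R', hR', hRS⟩
    apply (P ⊔ P').toGrothendieck.transitive (S := Sieve.generate R)
    · exact Precoverage.generate_mem_toGrothendieck (Or.inl hRP)
    · intro Y f hf
      obtain ⟨Z, g, r, hr, rfl⟩ := hf
      rw [Sieve.pullback_comp]
      apply GrothendieckTopology.pullback_stable
      apply GrothendieckTopology.superset_covering _ ?_
        (Precoverage.generate_mem_toGrothendieck (Or.inr (hR' hr)))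
      rw [Sieve.generate_le_iff]
      intro W q hq
      exact hRS hr hq

end

theorem main {C : Type u₁} [Category.{v₁} C]
    (C' : C → Prop) (P P' : Precoverage C)
    [P.HasPullbacks] [P.IsStableUnderBaseChange] [P.IsStableUnderComposition]
    (hP'C : ∀ ⦃X : C⦄ ⦃R : Presieve X⦄, R ∈ P' X → C' X ∧ ∀ ⦃Y : C⦄ ⦃f : Y ⟶ X⦄, R f → C' Y)
    (hP'id : ∀ ⦃X : C⦄, C' X → Presieve.singleton (𝟙 X) ∈ P' X)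
    (ha : ∀ ⦃X : C⦄ ⦃R : Presieve X⦄, R ∈ P' X → ∀ ⦃T : C⦄ (g : T ⟶ X), C' T →
      ∃ _ : R.HasPullbacks g, Presieve.pullbackArrows g R ∈ P' T)
    (hb : ∀ X : C, ∃ R ∈ P X, ∀ ⦃Y : C⦄ ⦃f : Y ⟶ X⦄, R f → C' Y)
    (hc : ∀ ⦃S : C⦄ ⦃R₁ : Presieve S⦄, R₁ ∈ P' S →
      ∀ (R₂ : ∀ ⦃Y : C⦄ ⦃f : Y ⟶ S⦄, R₁ f → Presieve Y),
        (∀ ⦃Y : C⦄ ⦃f : Y ⟶ S⦄ (hf : R₁ f), R₂ hf ∈ P Y ∧ ∀ ⦃Z : C⦄ ⦃g : Z ⟶ Y⦄, R₂ hf g → C' Z) →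
      ∀ (R₃ : ∀ ⦃Y : C⦄ ⦃f : Y ⟶ S⦄ (hf : R₁ f) ⦃Z : C⦄ ⦃g : Z ⟶ Y⦄, R₂ hf g → Presieve Z),
        (∀ ⦃Y : C⦄ ⦃f : Y ⟶ S⦄ (hf : R₁ f) ⦃Z : C⦄ ⦃g : Z ⟶ Y⦄ (hg : R₂ hf g), R₃ hf hg ∈ P' Z) →
      ∃ T ∈ P' S, ∀ ⦃W : C⦄ ⦃q : W ⟶ S⦄, T q →
        ∃ (Y Z V : C) (f : Y ⟶ S) (hf : R₁ f) (g : Z ⟶ Y) (hg : R₂ hf g) (h : V ⟶ Z) (_ : R₃ hf hg h)
          (r : W ⟶ V), r ≫ h ≫ g ≫ f = q)
    (X : C) (S' : Sieve X) :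
    S' ∈ (P ⊔ P').toGrothendieck X ↔
      ∃ (R : Presieve X) (_ : R ∈ P X) (_ : ∀ ⦃Y : C⦄ ⦃f : Y ⟶ X⦄, R f → C' Y)
        (R' : ∀ ⦃Y : C⦄ ⦃f : Y ⟶ X⦄, R f → Presieve Y),
        (∀ ⦃Y : C⦄ ⦃f : Y ⟶ X⦄ (hf : R f), R' hf ∈ P' Y) ∧
        ∀ ⦃Y : C⦄ ⦃f : Y ⟶ X⦄ (hf : R f) ⦃Z : C⦄ ⦃g : Z ⟶ Y⦄, R' hf g → S' (g ≫ f) :=
  main' C' P P' hP'C hP'id ha hb hc X S'


end


/-- Let `C'` be a class of objects of `C`, `P` a precoverage on `C` stable under base change and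
composition, `P'` a precoverage whose families live in `C'` and which contains the identity
singletons of `C'`, such that (a) `P'`-families pull back along morphisms of `C'` to `P'`-families,
(b) every object has a `P`-cover by objects of `C'`, (c) over an object of `C'` every composite `P'
∘ P ∘ P'` family (middle sources in `C'`) is refined by a `P'`-family. Then a sieve on `X` is
covering for the topology generated by `P` and `P'` if and only if it contains a composite family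
`X_ij ⟶ X_i ⟶ X` with `(X_i ⟶ X)_i` in `P`, all `X_i` in `C'` and each `(X_ij ⟶ X_i)_j` in `P'`. -/
theorem result {C : Type u₁} [Category.{v₁} C]
    (C' : C → Prop) (P P' : Precoverage C)
    [P.HasPullbacks] [P.IsStableUnderBaseChange] [P.IsStableUnderComposition]
    (hP'C : ∀ ⦃X : C⦄ ⦃R : Presieve X⦄, R ∈ P' X → C' X ∧ ∀ ⦃Y : C⦄ ⦃f : Y ⟶ X⦄, R f → C' Y)
    (hP'id : ∀ ⦃X : C⦄, C' X → Presieve.singleton (𝟙 X) ∈ P' X)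
    (ha : ∀ ⦃X : C⦄ ⦃R : Presieve X⦄, R ∈ P' X → ∀ ⦃T : C⦄ (g : T ⟶ X), C' T →
      ∃ _ : R.HasPullbacks g, Presieve.pullbackArrows g R ∈ P' T)
    (hb : ∀ X : C, ∃ R ∈ P X, ∀ ⦃Y : C⦄ ⦃f : Y ⟶ X⦄, R f → C' Y)
    (hc : ∀ ⦃S : C⦄ ⦃R₁ : Presieve S⦄, R₁ ∈ P' S →
      ∀ (R₂ : ∀ ⦃Y : C⦄ ⦃f : Y ⟶ S⦄, R₁ f → Presieve Y),
        (∀ ⦃Y : C⦄ ⦃f : Y ⟶ S⦄ (hf : R₁ f), R₂ hf ∈ P Y ∧ ∀ ⦃Z : C⦄ ⦃g : Z ⟶ Y⦄, R₂ hf g → C' Z) →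
      ∀ (R₃ : ∀ ⦃Y : C⦄ ⦃f : Y ⟶ S⦄ (hf : R₁ f) ⦃Z : C⦄ ⦃g : Z ⟶ Y⦄, R₂ hf g → Presieve Z),
        (∀ ⦃Y : C⦄ ⦃f : Y ⟶ S⦄ (hf : R₁ f) ⦃Z : C⦄ ⦃g : Z ⟶ Y⦄ (hg : R₂ hf g), R₃ hf hg ∈ P' Z) →
      ∃ T ∈ P' S, ∀ ⦃W : C⦄ ⦃q : W ⟶ S⦄, T q →
        ∃ (Y Z V : C) (f : Y ⟶ S) (hf : R₁ f) (g : Z ⟶ Y) (hg : R₂ hf g) (h : V ⟶ Z) (_ : R₃ hf hg h)
          (r : W ⟶ V), r ≫ h ≫ g ≫ f = q)
    (X : C) (S' : Sieve X) :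
    S' ∈ (P ⊔ P').toGrothendieck X ↔
      ∃ (R : Presieve X) (_ : R ∈ P X) (_ : ∀ ⦃Y : C⦄ ⦃f : Y ⟶ X⦄, R f → C' Y)
        (R' : ∀ ⦃Y : C⦄ ⦃f : Y ⟶ X⦄, R f → Presieve Y),
        (∀ ⦃Y : C⦄ ⦃f : Y ⟶ X⦄ (hf : R f), R' hf ∈ P' Y) ∧
        ∀ ⦃Y : C⦄ ⦃f : Y ⟶ X⦄ (hf : R f) ⦃Z : C⦄ ⦃g : Z ⟶ Y⦄, R' hf g → S' (g ≫ f) := by
  classical
  exact main C' P P' hP'C hP'id ha hb hc X S'

end Groth.Agent.S6053
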