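import Groth.Statements.S6052
import Mathlib
import Groth.Agent.S6053

set_option autoImplicit false
open CategoryTheory
universe w v₁ u₁
open ShfCat

namespace Groth.Agent.S6052

section
open CategoryTheory CategoryTheory.Limits Opposite

section
variable {C : Type u₁} [Category.{v₁} C]

theorem map_comp' (F : Cᵒᵖ ⥤ Type w) {X Y Z : C} (f : Y ⟶ X) (g : Z ⟶ Y) (t : F.obj (op X)) :
    F.map (g ≫ f).op t = F.map g.op (F.map f.op t) := by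
  rw [op_comp, Functor.map_comp]
  rfl

/-- The statement-form of "contains a composite family". -/
def Good (C' : C → Prop) (P P' : Precoverage C) (X : C) (S' : Sieve X) : Prop :=
  ∃ (R : Presieve X) (_ : R ∈ P X) (_ : ∀ ⦃Y : C⦄ ⦃f : Y ⟶ X⦄, R f → C' Y)
        (R' : ∀ ⦃Y : C⦄ ⦃f : Y ⟶ X⦄, R f → Presieve Y),
        (∀ ⦃Y : C⦄ ⦃f : Y ⟶ X⦄ (hf : R f), R' hf ∈ P' Y) ∧
        ∀ ⦃Y : C⦄ ⦃f : Y ⟶ X⦄ (hf : R f) ⦃Z : C⦄ ⦃g : Z ⟶ Y⦄, R' hf g → S' (g ≫ f)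

variable (C' : C → Prop) (P P' : Precoverage C) (F : Cᵒᵖ ⥤ Type w)

theorem sep_of_good
    (hP : ∀ ⦃X : C⦄ ⦃R : Presieve X⦄, R ∈ P X → Presieve.IsSheafFor F R)
    (hP' : ∀ ⦃X : C⦄ ⦃R : Presieve X⦄, R ∈ P' X → Presieve.IsSheafFor F R)
    {X : C} {S : Sieve X} (hS : Good C' P P' X S) : Presieve.IsSeparatedFor F (S : Presieve X) := by
  obtain ⟨R, hRP, hRC, R', hR', hRS⟩ := hS
  intro x t₁ t₂ h₁ h₂
  apply (hP hRP).isSeparatedFor.ext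
  intro Z r hr
  apply (hP' (hR' hr)).isSeparatedFor.ext
  intro W q hq
  rw [← map_comp', ← map_comp', h₁ (q ≫ r) (hRS hr hq), h₂ (q ≫ r) (hRS hr hq)]


theorem sheaf_of_good
    (K : GrothendieckTopology C)
    (hK : ∀ (X : C) (S : Sieve X), S ∈ K X → Good C' P P' X S)
    (hKP : ∀ ⦃X : C⦄ ⦃R : Presieve X⦄, R ∈ P X → Sieve.generate R ∈ K X)
    (hKP' : ∀ ⦃X : C⦄ ⦃R : Presieve X⦄, R ∈ P' X → Sieve.generate R ∈ K X)
    (hP : ∀ ⦃X : C⦄ ⦃R : Presieve X⦄, R ∈ P X → Presieve.IsSheafFor F R)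
    (hP' : ∀ ⦃X : C⦄ ⦃R : Presieve X⦄, R ∈ P' X → Presieve.IsSheafFor F R)
    {X : C} {S : Sieve X} (hS : S ∈ K X) : Presieve.IsSheafFor F (S : Presieve X) := by
  have hsep : ∀ {Y : C} {T : Sieve Y}, T ∈ K Y → Presieve.IsSeparatedFor F (T : Presieve Y) :=
    fun hT => sep_of_good C' P P' F hP hP' (hK _ _ hT)
  rw [← Presieve.isSeparatedFor_and_exists_isAmalgamation_iff_isSheafFor]
  refine ⟨hsep hS, ?_⟩
  intro x hx
  obtain ⟨R, hRP, hRC, R', hR', hRS⟩ := hK X S hS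
  have hxs := (Presieve.compatible_iff_sieveCompatible x).mp hx
  have xcongr : ∀ {Y : C} {f f' : Y ⟶ X} (e : f = f') (hf : S f) (hf' : S f'),
      x f hf = x f' hf' := by
    intro Y f f' e hf hf'
    subst e
    rfl
  have step1 : ∀ ⦃Z : C⦄ ⦃r : Z ⟶ X⦄ (hr : R r), ∃ z : F.obj (op Z),
      ∀ ⦃W : C⦄ (q : W ⟶ Z) (hq : R' hr q), F.map q.op z = x (q ≫ r) (hRS hr hq) := by
    intro Z r hr
    let y : Presieve.FamilyOfElements F (R' hr) := fun W q hq => x (q ≫ r) (hRS hr hq)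
    have hy : y.Compatible := by
      intro Y₁ Y₂ W g₁ g₂ q₁ q₂ h₁ h₂ e
      exact hx g₁ g₂ (hRS hr h₁) (hRS hr h₂) (by rw [← Category.assoc, e, Category.assoc])
    obtain ⟨z, hz, -⟩ := (hP' (hR' hr)) y hy
    exact ⟨z, fun W q hq => hz q hq⟩
  choose z hz using step1
  have hz' : ∀ ⦃Z : C⦄ ⦃r : Z ⟶ X⦄ (hr : R r) ⦃W : C⦄ (q : W ⟶ Z)
      (hq : Sieve.generate (R' hr) q), ∃ h : S (q ≫ r), F.map q.op (z hr) = x (q ≫ r) h := by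
    intro Z r hr W q hq
    obtain ⟨V, k, q₀, hq₀, rfl⟩ := hq
    have hS' : S ((k ≫ q₀) ≫ r) := by
      rw [Category.assoc]; exact S.downward_closed (hRS hr hq₀) k
    refine ⟨hS', ?_⟩
    rw [map_comp', hz hr q₀ hq₀, ← hxs]
    exact xcongr (Category.assoc _ _ _).symm _ _
  let zz : Presieve.FamilyOfElements F R := fun Z r hr => z hr
  have hzz : zz.Compatible := by
    intro Z₁ Z₂ W g₁ g₂ r₁ r₂ hr₁ hr₂ e
    have hT : (Sieve.generate (R' hr₁)).pullback g₁ ⊓ (Sieve.generate (R' hr₂)).pullback g₂ ∈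
        K W :=
      K.intersection_covering (K.pullback_stable g₁ (hKP' (hR' hr₁)))
        (K.pullback_stable g₂ (hKP' (hR' hr₂)))
    apply (hsep hT).ext
    rintro V h ⟨hh1, hh2⟩
    obtain ⟨s1, e1⟩ := hz' hr₁ (h ≫ g₁) hh1
    obtain ⟨s2, e2⟩ := hz' hr₂ (h ≫ g₂) hh2
    show F.map h.op (F.map g₁.op (z hr₁)) = F.map h.op (F.map g₂.op (z hr₂))
    rw [← map_comp', ← map_comp', e1, e2]
    exact xcongr (by rw [Category.assoc, Category.assoc, e]) _ _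
  obtain ⟨t, ht, -⟩ := (hP hRP) zz hzz
  have hz'' : ∀ ⦃Z : C⦄ ⦃r : Z ⟶ X⦄ (hr : R r) ⦃V : C⦄ (k : V ⟶ Z) (hk : S (k ≫ r)),
      F.map k.op (z hr) = x (k ≫ r) hk := by
    intro Z r hr V k hk
    have hT : (Sieve.generate (R' hr)).pullback k ∈ K V := K.pullback_stable k (hKP' (hR' hr))
    apply (hsep hT).ext
    intro W m hm
    obtain ⟨s1, e1⟩ := hz' hr (m ≫ k) hm
    rw [← map_comp', e1, ← hxs]
    exact xcongr (Category.assoc _ _ _) _ _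
  refine ⟨t, ?_⟩
  intro Y f hf
  have hT : (Sieve.generate R).pullback f ∈ K Y := K.pullback_stable f (hKP hRP)
  apply (hsep hT).ext
  rintro V h ⟨Z, k, r, hr, e⟩
  have hkr : S (k ≫ r) := by rw [e]; exact S.downward_closed hf h
  rw [← map_comp', ← hxs, ← xcongr e hkr _, ← hz'' hr k hkr, ← e, map_comp']
  congr 1
  exact ht r hr

end

theorem main {C : Type u₁} [Category.{v₁} C]
    (C' : C → Prop) (P P' : Precoverage C)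
    [P.HasPullbacks] [P.IsStableUnderBaseChange] [P.IsStableUnderComposition]
    (hP'C : ∀ ⦃X : C⦄ ⦃R : Presieve X⦄, R ∈ P' X → C' X ∧ ∀ ⦃Y : C⦄ ⦃f : Y ⟶ X⦄, R f → C' Y)
    (hP'id : ∀ ⦃X : C⦄, C' X → Presieve.singleton (𝟙 X) ∈ P' X)
    (ha : ∀ ⦃X : C⦄ ⦃R : Presieve X⦄, R ∈ P' X → ∀ ⦃T : C⦄ (g : T ⟶ X), C' T →
      ∃ _ : R.HasPullbacks g, Presieve.pullbackArrows g R ∈ P' T)
    (hb : ∀ X : C, ∃ R ∈ P X, ∀ ⦃Y : C⦄ ⦃f : Y ⟶ X⦄, R f → C' Y)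
    (hc : ∀ ⦃S : C⦄ ⦃R₁ : Presieve S⦄, R₁ ∈ P' S →
      ∀ (R₂ : ∀ ⦃Y : C⦄ ⦃f : Y ⟶ S⦄, R₁ f → Presieve Y),
        (∀ ⦃Y : C⦄ ⦃f : Y ⟶ S⦄ (hf : R₁ f), R₂ hf ∈ P Y ∧ ∀ ⦃Z : C⦄ ⦃g : Z ⟶ Y⦄, R₂ hf g → C' Z) →
      ∀ (R₃ : ∀ ⦃Y : C⦄ ⦃f : Y ⟶ S⦄ (hf : R₁ f) ⦃Z : C⦄ ⦃g : Z ⟶ Y⦄, R₂ hf g → Presieve Z),
        (∀ ⦃Y : C⦄ ⦃f : Y ⟶ S⦄ (hf : R₁ f) ⦃Z : C⦄ ⦃g : Z ⟶ Y⦄ (hg : R₂ hf g), R₃ hf hg ∈ P' Z) →
      ∃ T ∈ P' S, ∀ ⦃W : C⦄ ⦃q : W ⟶ S⦄, T q →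
        ∃ (Y Z V : C) (f : Y ⟶ S) (hf : R₁ f) (g : Z ⟶ Y) (hg : R₂ hf g) (h : V ⟶ Z) (_ : R₃ hf hg h)
          (r : W ⟶ V), r ≫ h ≫ g ≫ f = q)
    (F : Cᵒᵖ ⥤ Type w) :
    Presieve.IsSheaf (P ⊔ P').toGrothendieck F ↔
      (∀ ⦃X : C⦄ ⦃R : Presieve X⦄, R ∈ P X → Presieve.IsSheafFor F R) ∧
      (∀ ⦃X : C⦄ ⦃R : Presieve X⦄, R ∈ P' X → Presieve.IsSheafFor F R) := by
  constructor
  · intro hF
    constructor
    · intro X R hR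
      rw [Presieve.isSheafFor_iff_generate]
      exact hF _ (Precoverage.generate_mem_toGrothendieck (Or.inl hR))
    · intro X R hR
      rw [Presieve.isSheafFor_iff_generate]
      exact hF _ (Precoverage.generate_mem_toGrothendieck (Or.inr hR))
  · rintro ⟨hP, hP'⟩ X S hS
    exact sheaf_of_good C' P P' F (P ⊔ P').toGrothendieck
      (fun X S hS => (Groth.Agent.S6053.result C' P P' hP'C hP'id ha hb hc X S).mp hS)
      (fun X R hR => Precoverage.generate_mem_toGrothendieck (Or.inl hR))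
      (fun X R hR => Precoverage.generate_mem_toGrothendieck (Or.inr hR)) hP hP' hS


end


/-- The sheaf case. Let `C'` be a class of objects of `C`, `P` a precoverage on `C` stable under base
change and composition, `P'` a precoverage whose families live in `C'` and which contains the
identity singletons of `C'`, such that (a) `P'`-families pull back along morphisms of `C'` to
`P'`-families, (b) every object has a `P`-cover by objects of `C'`, (c) over an object of `C'` every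
composite `P' ∘ P ∘ P'` family (middle sources in `C'`) is refined by a `P'`-family. Then a presheaf
of sets is a sheaf for the topology generated by `P` and `P'` if and only if it satisfies the sheaf
condition for every family of `P` and every family of `P'`. (The published statement also treats
separated presheaves; only the sheaf case is stated.) -/
theorem result {C : Type u₁} [Category.{v₁} C]
    (C' : C → Prop) (P P' : Precoverage C)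
    [P.HasPullbacks] [P.IsStableUnderBaseChange] [P.IsStableUnderComposition]
    (hP'C : ∀ ⦃X : C⦄ ⦃R : Presieve X⦄, R ∈ P' X → C' X ∧ ∀ ⦃Y : C⦄ ⦃f : Y ⟶ X⦄, R f → C' Y)
    (hP'id : ∀ ⦃X : C⦄, C' X → Presieve.singleton (𝟙 X) ∈ P' X)
    (ha : ∀ ⦃X : C⦄ ⦃R : Presieve X⦄, R ∈ P' X → ∀ ⦃T : C⦄ (g : T ⟶ X), C' T →
      ∃ _ : R.HasPullbacks g, Presieve.pullbackArrows g R ∈ P' T)
    (hb : ∀ X : C, ∃ R ∈ P X, ∀ ⦃Y : C⦄ ⦃f : Y ⟶ X⦄, R f → C' Y)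
    (hc : ∀ ⦃S : C⦄ ⦃R₁ : Presieve S⦄, R₁ ∈ P' S →
      ∀ (R₂ : ∀ ⦃Y : C⦄ ⦃f : Y ⟶ S⦄, R₁ f → Presieve Y),
        (∀ ⦃Y : C⦄ ⦃f : Y ⟶ S⦄ (hf : R₁ f), R₂ hf ∈ P Y ∧ ∀ ⦃Z : C⦄ ⦃g : Z ⟶ Y⦄, R₂ hf g → C' Z) →
      ∀ (R₃ : ∀ ⦃Y : C⦄ ⦃f : Y ⟶ S⦄ (hf : R₁ f) ⦃Z : C⦄ ⦃g : Z ⟶ Y⦄, R₂ hf g → Presieve Z),
        (∀ ⦃Y : C⦄ ⦃f : Y ⟶ S⦄ (hf : R₁ f) ⦃Z : C⦄ ⦃g : Z ⟶ Y⦄ (hg : R₂ hf g), R₃ hf hg ∈ P' Z) →
      ∃ T ∈ P' S, ∀ ⦃W : C⦄ ⦃q : W ⟶ S⦄, T q →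
        ∃ (Y Z V : C) (f : Y ⟶ S) (hf : R₁ f) (g : Z ⟶ Y) (hg : R₂ hf g) (h : V ⟶ Z) (_ : R₃ hf hg h)
          (r : W ⟶ V), r ≫ h ≫ g ≫ f = q)
    (F : Cᵒᵖ ⥤ Type w) :
    Presieve.IsSheaf (P ⊔ P').toGrothendieck F ↔
      (∀ ⦃X : C⦄ ⦃R : Presieve X⦄, R ∈ P X → Presieve.IsSheafFor F R) ∧
      (∀ ⦃X : C⦄ ⦃R : Presieve X⦄, R ∈ P' X → Presieve.IsSheafFor F R) := by
  classical
  exact main C' P P' hP'C hP'id ha hb hc F

end Groth.Agent.S6052
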