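import Groth.Statements.S6054
import Mathlib
import Groth.Agent.S6047
import Groth.Agent.S6055

set_option autoImplicit false
open CategoryTheory CategoryTheory.Limits MonoidalCategory
universe w v₁ u₁
open ShfCat

namespace Groth.Agent.S6054

section
open CategoryTheory CategoryTheory.Limits MonoidalCategory
open MonObj CartesianMonoidalCategory SemiCartesianMonoidalCategory
open Groth.Agent.S6051 Groth.Agent.S6047 Groth.Agent.S6055
universe v₂ u₂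

section abstract
variable {𝒞 : Type u₂} [Category.{v₂} 𝒞] [CartesianMonoidalCategory 𝒞] [HasPullbacks 𝒞]
  (hpres : ∀ X : 𝒞, PreservesColimitsOfShape WalkingParallelPair (tensorLeft X))
  (hpb : ∀ {P X W Y : 𝒞} {fst : P ⟶ X} {snd : P ⟶ W} {f : X ⟶ Y} {g : W ⟶ Y},
    IsPullback fst snd f g → Epi f → Epi snd)
  {H K G : 𝒞} [hH : GrpObj H] [hK : GrpObj K] [hG : GrpObj G]
  (h : H ⟶ K) (k : K ⟶ G) [Mono h] [Mono k] [hh : IsMonHom h] [hk : IsMonHom k]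
  [HasCoequalizer (fst G H) ((G ◁ (h ≫ k)) ≫ hG.mul)]
  [HasCoequalizer (fst K H) ((K ◁ h) ≫ hK.mul)]
  [HasCoequalizer (fst G K) ((G ◁ k) ≫ hG.mul)]
  (hkp : IsKernelPair (coequalizer.π (fst G H) ((G ◁ (h ≫ k)) ≫ hG.mul)) (fst G H)
    ((G ◁ (h ≫ k)) ≫ hG.mul))

local notation "QH" => coequalizer (fst G H) ((G ◁ (h ≫ k)) ≫ hG.mul)
local notation "πH" => coequalizer.π (fst G H) ((G ◁ (h ≫ k)) ≫ hG.mul)
local notation "KH" => coequalizer (fst K H) ((K ◁ h) ≫ hK.mul)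
local notation "πKH" => coequalizer.π (fst K H) ((K ◁ h) ≫ hK.mul)
local notation "QK" => coequalizer (fst G K) ((G ◁ k) ≫ hG.mul)
local notation "πK" => coequalizer.π (fst G K) ((G ◁ k) ≫ hG.mul)

variable (act : coequalizer (fst G H) ((G ◁ (h ≫ k)) ≫ hG.mul) ⊗ coequalizer (fst K H) ((K ◁ h) ≫ hK.mul) ⟶
      coequalizer (fst G H) ((G ◁ (h ≫ k)) ≫ hG.mul))
    (hact : (coequalizer.π (fst G H) ((G ◁ (h ≫ k)) ≫ hG.mul) ⊗ₘ coequalizer.π (fst K H) ((K ◁ h) ≫ hK.mul)) ≫ act =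
      (G ◁ k) ≫ hG.mul ≫ coequalizer.π (fst G H) ((G ◁ (h ≫ k)) ≫ hG.mul))
    (qbar : coequalizer (fst G H) ((G ◁ (h ≫ k)) ≫ hG.mul) ⟶ coequalizer (fst G K) ((G ◁ k) ≫ hG.mul))
    (hq : coequalizer.π (fst G H) ((G ◁ (h ≫ k)) ≫ hG.mul) ≫ qbar = coequalizer.π (fst G K) ((G ◁ k) ≫ hG.mul))

omit [HasPullbacks 𝒞] hH [Mono h] [Mono k] hh hk [HasCoequalizer (fst G K) ((G ◁ k) ≫ hG.mul)] in
include hpres in
theorem epi_E : Epi (πH ⊗ₘ πKH) := by
  have h1 : Epi (πH ▷ K) := ((regEpi_π (h ≫ k)).whiskerRight hpres K).epi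
  have h2 : Epi (QH ◁ πKH) := ((regEpi_π h).whiskerLeft hpres QH).epi
  rw [MonoidalCategory.tensorHom_def]
  infer_instance

omit [HasPullbacks 𝒞] hH [Mono h] [Mono k] hh hk in
include hpres hact hq in
theorem partB : ∃ wq : fst _ _ ≫ qbar = act ≫ qbar, Nonempty (IsColimit (Cofork.ofπ qbar wq)) := by
  have hE := epi_E hpres h k
  have hπH : Epi πH := coequalizer.π_epi
  have hπK : Epi πK := coequalizer.π_epi
  have wq : fst _ _ ≫ qbar = act ≫ qbar := by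
    rw [← cancel_epi (πH ⊗ₘ πKH), tensorHom_fst_assoc, hq, reassoc_of% hact, hq,
      coequalizer.condition, Category.assoc]
  refine ⟨wq, ⟨?_⟩⟩
  have hcond : ∀ s : Cofork (fst QH KH) act, fst G K ≫ πH ≫ s.π = ((G ◁ k) ≫ hG.mul) ≫ πH ≫ s.π := by
    intro s
    have := s.condition
    have h2 := congrArg (fun f => (πH ⊗ₘ πKH) ≫ f) this
    simp only [tensorHom_fst_assoc] at h2
    rw [h2, reassoc_of% hact, Category.assoc]
  refine Cofork.IsColimit.mk _ (fun s => coequalizer.desc (πH ≫ s.π) (hcond s)) ?_ ?_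
  · intro s
    rw [← cancel_epi πH]
    simp only [Cofork.π_ofπ]
    rw [reassoc_of% hq, coequalizer.π_desc]
  · intro s m hm
    simp only [Cofork.π_ofπ] at hm
    rw [← cancel_epi πK, coequalizer.π_desc, ← hm, reassoc_of% hq]


omit [HasPullbacks 𝒞] hH [Mono h] [Mono k] hh hk [HasCoequalizer (fst G K) ((G ◁ k) ≫ hG.mul)] in
include hpres in
theorem epi_E' : Epi (πH ⊗ₘ (πKH ⊗ₘ πKH)) := by
  have h1 : Epi (πH ▷ (K ⊗ K)) := ((regEpi_π (h ≫ k)).whiskerRight hpres (K ⊗ K)).epi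
  have h2 : Epi (QH ◁ (πKH ▷ K)) :=
    (((regEpi_π h).whiskerRight hpres K).whiskerLeft hpres QH).epi
  have h3 : Epi (QH ◁ (KH ◁ πKH)) :=
    (((regEpi_π h).whiskerLeft hpres KH).whiskerLeft hpres QH).epi
  have e : πH ⊗ₘ (πKH ⊗ₘ πKH) = (πH ▷ (K ⊗ K)) ≫ (QH ◁ (πKH ▷ K)) ≫ (QH ◁ (KH ◁ πKH)) := by
    rw [MonoidalCategory.tensorHom_def, MonoidalCategory.tensorHom_def πKH,
      MonoidalCategory.whiskerLeft_comp QH]
  rw [e]
  infer_instance

omit [Mono h] hh [HasCoequalizer (fst G K) ((G ◁ k) ≫ hG.mul)] in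
include hpres hpb hkp hact in
theorem partA : Mono (lift act (fst QH KH)) := by
  constructor
  intro W a b hab
  have hab1 : a ≫ act = b ≫ act := by
    simpa using congrArg (fun f => f ≫ fst _ _) hab
  have hab2 : a ≫ fst QH KH = b ≫ fst QH KH := by
    simpa using congrArg (fun f => f ≫ snd _ _) hab
  apply CartesianMonoidalCategory.hom_ext _ _ hab2
  -- cover
  have hE' := epi_E' hpres h k
  let T : W ⟶ QH ⊗ (KH ⊗ KH) := lift (a ≫ fst _ _) (lift (a ≫ snd _ _) (b ≫ snd _ _))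
  have hc : Epi (pullback.snd (πH ⊗ₘ (πKH ⊗ₘ πKH)) T) :=
    hpb (IsPullback.of_hasPullback (πH ⊗ₘ (πKH ⊗ₘ πKH)) T) hE'
  obtain ⟨c, hcdef⟩ : ∃ c, c = pullback.snd (πH ⊗ₘ (πKH ⊗ₘ πKH)) T := ⟨_, rfl⟩
  obtain ⟨t, htdef⟩ : ∃ t, t = pullback.fst (πH ⊗ₘ (πKH ⊗ₘ πKH)) T := ⟨_, rfl⟩
  rw [← hcdef] at hc
  have hcond : t ≫ (πH ⊗ₘ (πKH ⊗ₘ πKH)) = c ≫ T := by
    rw [hcdef, htdef]
    exact pullback.condition
  obtain ⟨x, hx⟩ : ∃ x : pullback (πH ⊗ₘ (πKH ⊗ₘ πKH)) T ⟶ G, x = t ≫ fst _ _ := ⟨_, rfl⟩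
  obtain ⟨k₁, hk₁⟩ : ∃ k₁ : pullback (πH ⊗ₘ (πKH ⊗ₘ πKH)) T ⟶ K, k₁ = t ≫ snd _ _ ≫ fst _ _ :=
    ⟨_, rfl⟩
  obtain ⟨k₂, hk₂⟩ : ∃ k₂ : pullback (πH ⊗ₘ (πKH ⊗ₘ πKH)) T ⟶ K, k₂ = t ≫ snd _ _ ≫ snd _ _ :=
    ⟨_, rfl⟩
  have e1 : c ≫ a ≫ fst _ _ = x ≫ πH := by
    have := congrArg (fun f => f ≫ fst _ _) hcond
    simp only [Category.assoc, tensorHom_fst, T, lift_fst] at this
    rw [hx, Category.assoc, this]
  have e2 : c ≫ a ≫ snd _ _ = k₁ ≫ πKH := by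
    have := congrArg (fun f => f ≫ snd _ _ ≫ fst _ _) hcond
    simp only [Category.assoc, tensorHom_snd_assoc, tensorHom_fst, T, lift_snd_assoc, lift_fst] at this
    rw [hk₁, Category.assoc, Category.assoc, this]
  have e3 : c ≫ b ≫ snd _ _ = k₂ ≫ πKH := by
    have := congrArg (fun f => f ≫ snd _ _ ≫ snd _ _) hcond
    simp only [Category.assoc, tensorHom_snd_assoc, tensorHom_snd, T, lift_snd_assoc, lift_snd] at this
    rw [hk₂, Category.assoc, Category.assoc, this]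
  have e4 : c ≫ a = lift x k₁ ≫ (πH ⊗ₘ πKH) := by
    apply CartesianMonoidalCategory.hom_ext
    · rw [Category.assoc, e1, Category.assoc, tensorHom_fst, lift_fst_assoc]
    · rw [Category.assoc, e2, Category.assoc, tensorHom_snd, lift_snd_assoc]
  have e5 : c ≫ b = lift x k₂ ≫ (πH ⊗ₘ πKH) := by
    apply CartesianMonoidalCategory.hom_ext
    · rw [Category.assoc, ← hab2, e1, Category.assoc, tensorHom_fst, lift_fst_assoc]
    · rw [Category.assoc, e3, Category.assoc, tensorHom_snd, lift_snd_assoc]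
  have e6 : (x * (k₁ ≫ k)) ≫ πH = (x * (k₂ ≫ k)) ≫ πH := by
    have h1 : c ≫ a ≫ act = c ≫ b ≫ act := by rw [hab1]
    rw [← Category.assoc, ← Category.assoc, e4, e5, Category.assoc, Category.assoc, hact,
      ← Category.assoc, ← Category.assoc, ← Category.assoc, ← Category.assoc] at h1
    rw [Category.assoc (lift x k₁), Category.assoc (lift x k₂), lift_act, lift_act] at h1
    exact h1
  obtain ⟨z, hz₁, hz₂⟩ := hkp.exists_lift _ _ e6
  rw [comp_act, hz₁] at hz₂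
  have e7 : k₁ * (z ≫ snd G H ≫ h) = k₂ := by
    rw [← cancel_mono k, MonObj.mul_comp]
    have : (z ≫ snd G H ≫ h) ≫ k = z ≫ snd G H ≫ h ≫ k := by simp
    rw [this]
    exact mul_left_cancel (a := x) (by rw [← _root_.mul_assoc]; exact hz₂)
  rw [← cancel_epi c, e2, e3, ← e7]
  have := F1 h k₁ (z ≫ snd G H)
  rw [Category.assoc] at this
  exact this.symm

end abstract
section final
variable {C : Type u₁} [Category.{v₁} C] (J : GrothendieckTopology C) [HasSheafify J (Type w)]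

theorem main
    {H K G : Sheaf J (Type w)} [hH : GrpObj H] [hK : GrpObj K] [hG : GrpObj G]
    (h : H ⟶ K) (k : K ⟶ G) [Mono h] [Mono k]
    (hh : @IsMonHom (Sheaf J (Type w)) _ _ H K hH.toMonObj hK.toMonObj h)
    (hk : @IsMonHom (Sheaf J (Type w)) _ _ K G hK.toMonObj hG.toMonObj k)
    (act : coequalizer (fst G H) ((G ◁ (h ≫ k)) ≫ hG.mul) ⊗ coequalizer (fst K H) ((K ◁ h) ≫ hK.mul) ⟶
      coequalizer (fst G H) ((G ◁ (h ≫ k)) ≫ hG.mul))
    (hact : (coequalizer.π (fst G H) ((G ◁ (h ≫ k)) ≫ hG.mul) ⊗ₘ coequalizer.π (fst K H) ((K ◁ h) ≫ hK.mul)) ≫ act =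
      (G ◁ k) ≫ hG.mul ≫ coequalizer.π (fst G H) ((G ◁ (h ≫ k)) ≫ hG.mul))
    (qbar : coequalizer (fst G H) ((G ◁ (h ≫ k)) ≫ hG.mul) ⟶ coequalizer (fst G K) ((G ◁ k) ≫ hG.mul))
    (hq : coequalizer.π (fst G H) ((G ◁ (h ≫ k)) ≫ hG.mul) ≫ qbar = coequalizer.π (fst G K) ((G ◁ k) ≫ hG.mul)) :
    Mono (lift act (fst _ _)) ∧
    ∃ wq : fst _ _ ≫ qbar = act ≫ qbar, Nonempty (IsColimit (Cofork.ofπ qbar wq)) := by
  have hpres := preservesCoeq J
  have hpb : ∀ {P X W Y : Sheaf J (Type w)} {fst : P ⟶ X} {snd : P ⟶ W} {f : X ⟶ Y} {g : W ⟶ Y},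
      IsPullback fst snd f g → Epi f → Epi snd := fun hp hf => @epi_of_isPullback _ _ _ _ _ _ _ _ _ _ _ _ hp hf
  have hu : @IsMonHom (Sheaf J (Type w)) _ _ H G hH.toMonObj hG.toMonObj (h ≫ k) :=
    @instIsMonHomComp _ _ _ H K G hH.toMonObj hK.toMonObj hG.toMonObj h k hh hk
  have hkp := kernelPair_quot J (h ≫ k) hu
  exact ⟨@partA _ _ _ _ hpres hpb H K G hH hK hG h k _ hk _ _ hkp act hact,
    @partB _ _ _ hpres H K G hK hG h k _ _ _ act hact qbar hq⟩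

end final


end


open MonObj CartesianMonoidalCategory SemiCartesianMonoidalCategory in
/-- Let `G` be a sheaf of groups on a site, `K ⊆ G` a subgroup sheaf and `H ⊆ K` a subgroup sheaf normal
in `K`. With `G/H`, `K/H`, `G/K` the quotient sheaves, the right action of `K/H` on `G/H` induced by
multiplication is free, and the canonical map `G/H ⟶ G/K` identifies `G/K` with the quotient
`(G/H)/(K/H)` (it is a coequalizer of the projection and the action). Sheaves of sets in `Type w`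
with sheafification; the action and the map `G/H ⟶ G/K` are pinned by their compatibility with `G ×
K ⟶ G ⟶ G/H` and with `G ⟶ G/K`. (The published statement adds that for `K` normal in `G` the
identification respects the group structures; that clause is not stated.) -/
theorem result {C : Type u₁} [Category.{v₁} C]
    (J : GrothendieckTopology C) [HasSheafify J (Type w)]
    {H K G : Sheaf J (Type w)} [hH : GrpObj H] [hK : GrpObj K] [hG : GrpObj G]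
    (h : H ⟶ K) (k : K ⟶ G) [Mono h] [Mono k]
    (hh : @IsMonHom (Sheaf J (Type w)) _ _ H K hH.toMonObj hK.toMonObj h)
    (hk : @IsMonHom (Sheaf J (Type w)) _ _ K G hK.toMonObj hG.toMonObj k)
    (hn : ∀ (Y : Sheaf J (Type w)) (x : Y ⟶ K) (y : Y ⟶ H), ∃ y' : Y ⟶ H, x * (y ≫ h) * x⁻¹ = y' ≫ h)
    (act : coequalizer (fst G H) ((G ◁ (h ≫ k)) ≫ hG.mul) ⊗ coequalizer (fst K H) ((K ◁ h) ≫ hK.mul) ⟶
      coequalizer (fst G H) ((G ◁ (h ≫ k)) ≫ hG.mul))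
    (hact : (coequalizer.π (fst G H) ((G ◁ (h ≫ k)) ≫ hG.mul) ⊗ₘ coequalizer.π (fst K H) ((K ◁ h) ≫ hK.mul)) ≫ act =
      (G ◁ k) ≫ hG.mul ≫ coequalizer.π (fst G H) ((G ◁ (h ≫ k)) ≫ hG.mul))
    (qbar : coequalizer (fst G H) ((G ◁ (h ≫ k)) ≫ hG.mul) ⟶ coequalizer (fst G K) ((G ◁ k) ≫ hG.mul))
    (hq : coequalizer.π (fst G H) ((G ◁ (h ≫ k)) ≫ hG.mul) ≫ qbar = coequalizer.π (fst G K) ((G ◁ k) ≫ hG.mul)) :
    Mono (lift act (fst _ _)) ∧
    ∃ wq : fst _ _ ≫ qbar = act ≫ qbar, Nonempty (IsColimit (Cofork.ofπ qbar wq)) := by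
  classical
  exact main J h k hh hk act hact qbar hq

end Groth.Agent.S6054
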