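import Groth.Statements.S6056
import Groth.Agent.Lib.Helper2.Sch.ThirdIsoFppf


set_option autoImplicit false
open CategoryTheory CategoryTheory.Limits AlgebraicGeometry MonoidalCategory
universe u
open RedSub

namespace Groth.Agent.S6056

open MonObj CartesianMonoidalCategory SemiCartesianMonoidalCategory in
/-- For group schemes and fppf quotients: let `K ⊆ G` be a subgroup scheme and `H ⊆ K` a subgroup scheme
normal in `K`; suppose `G/H` is represented by `q_H : G ⟶ Q_H` and `K/H` by a homomorphism `K ⟶ K'`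
of group schemes, and let `act : Q_H ×_S K' ⟶ Q_H` be the right action induced by the multiplication
of `G`. Then: (i) if `G/K` is represented by `q_K : G ⟶ Q_K`, the map `Q_H ⟶ Q_K` under `G` is an
fppf covering whose kernel pair is `Q_H ×_S K' ⇉ Q_H` (projection, action), i.e. `Q_K =
(G/H)/(K/H)`; (ii) conversely, if `p : Q_H ⟶ Y` is an fppf covering with that kernel pair, then `q_H
≫ p` represents `G/K`. -/
theorem result {S : Scheme.{u}} {H K G QH Kb : Over S}
    [hH : GrpObj H] [hK : GrpObj K] [hG : GrpObj G] [hKb : GrpObj Kb]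
    (h : H ⟶ K) (k : K ⟶ G) [Mono h] [Mono k] [IsMonHom h] [IsMonHom k]
    (hn : AlgGrp.IsNormalHom h)
    (qH : G ⟶ QH) (hqH : RedSub.IsQuotient (h ≫ k) qH)
    (qKb : K ⟶ Kb) [IsMonHom qKb] (hqKb : RedSub.IsQuotient h qKb)
    (act : QH ⊗ Kb ⟶ QH) (hact : (qH ⊗ₘ qKb) ≫ act = (G ◁ k) ≫ μ[G] ≫ qH) :
    (∀ (QK : Over S) (qK : G ⟶ QK), RedSub.IsQuotient k qK →
      ∀ qbar : QH ⟶ QK, qH ≫ qbar = qK →
        Surjective qbar.left ∧ Flat qbar.left ∧ LocallyOfFinitePresentation qbar.left ∧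
          IsPullback (fst QH Kb) act qbar qbar) ∧
    (∀ (Y : Over S) (p : QH ⟶ Y),
      Surjective p.left → Flat p.left → LocallyOfFinitePresentation p.left →
      IsPullback (fst QH Kb) act p p → RedSub.IsQuotient k (qH ≫ p)) := by
  obtain ⟨sH, fH, lH, pbH⟩ := hqH
  obtain ⟨sK, fK, lK, pbK⟩ := hqKb
  have cH : Groth.Agent.Helper2.FppfCov.IsCov qH := ⟨fH, sH, lH⟩
  have cK : Groth.Agent.Helper2.FppfCov.IsCov qKb := ⟨fK, sK, lK⟩
  refine ⟨?_, ?_⟩
  · intro QK qK hqK qbar hbar
    obtain ⟨sQ, fQ, lQ, pbQ⟩ := hqK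
    haveI := sH; haveI := fH; haveI := lH
    have e : qH.left ≫ qbar.left = qK.left := by rw [← Over.comp_left, hbar]
    haveI : Surjective (qH.left ≫ qbar.left) := by rw [e]; exact sQ
    haveI : Flat (qH.left ≫ qbar.left) := by rw [e]; exact fQ
    haveI : LocallyOfFinitePresentation (qH.left ≫ qbar.left) := by rw [e]; exact lQ
    exact ⟨Surjective.of_comp qH.left qbar.left,
      Groth.Agent.Helper2.EtaleLocal.flat_of_flat_comp_of_surjective qH.left qbar.left,
      Groth.Agent.Helper3.FppfDesc.locallyOfFinitePresentation_of_fppf_cover qH.left qbar.left,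
      Groth.Agent.Helper2.ThirdIsoFppf.isPullback_act h k qH cH pbH qKb cK pbK act hact qK pbQ
        qbar hbar⟩
  · intro Y p sp fp lp hp
    have cp : Groth.Agent.Helper2.FppfCov.IsCov p := ⟨fp, sp, lp⟩
    have c := cH.comp cp
    exact ⟨c.2.1, c.1, c.2.2,
      Groth.Agent.Helper2.ThirdIsoFppf.isPullback_comp h k qH pbH qKb cK act hact p hp⟩

end Groth.Agent.S6056
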