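import Groth.Statements.S6057
import Mathlib

set_option autoImplicit false
open CategoryTheory
universe v₁ u₁
open ShfCat

namespace Groth.Agent.S6057

section
open CategoryTheory Opposite

variable {C : Type u₁} [Category.{v₁} C] (J : GrothendieckTopology C)
    {S : C} {F : Cᵒᵖ ⥤ Type v₁} (φ : F ⟶ yoneda.obj S)

theorem phi_map {U V : C} (f : V ⟶ U) (x : F.obj (op U)) :
    φ.app (op V) (F.map f.op x) = f ≫ φ.app (op U) x := by
  have := NatTrans.naturality_apply φ f.op x
  rw [this]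
  rfl

theorem sep_of_sep (hF : Presieve.IsSeparated J F) :
    Presieve.IsSeparated (J.over S) (ShfCat.relPsh φ) := by
  intro T R hR x t₁ t₂ h₁ h₂
  rw [GrothendieckTopology.mem_over_iff] at hR
  apply Subtype.ext
  refine hF _ hR (fun Y f hf => (x (Over.homMk f : Over.mk (f ≫ T.hom) ⟶ T)
    ((Sieve.overEquiv_iff _ _).1 hf)).1) t₁.1 t₂.1 ?_ ?_
  · intro Y f hf
    have := h₁ (Over.homMk f : Over.mk (f ≫ T.hom) ⟶ T) ((Sieve.overEquiv_iff _ _).1 hf)
    exact congrArg Subtype.val this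
  · intro Y f hf
    have := h₂ (Over.homMk f : Over.mk (f ≫ T.hom) ⟶ T) ((Sieve.overEquiv_iff _ _).1 hf)
    exact congrArg Subtype.val this

theorem sep_of_sep' (hS : Presieve.IsSheaf J (yoneda.obj S))
    (hF : Presieve.IsSeparated (J.over S) (ShfCat.relPsh φ)) : Presieve.IsSeparated J F := by
  intro U R hR x t₁ t₂ h₁ h₂
  -- the two images in `h_S` agree
  have hφ : φ.app (op U) t₁ = φ.app (op U) t₂ := by
    refine (hS R hR).isSeparatedFor.ext ?_
    intro Y f hf
    show f ≫ φ.app (op U) t₁ = f ≫ φ.app (op U) t₂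
    rw [← phi_map, ← phi_map, h₁ f hf, h₂ f hf]
  let T : Over S := Over.mk (φ.app (op U) t₁)
  let s₁ : (ShfCat.relPsh φ).obj (op T) := ⟨t₁, rfl⟩
  let s₂ : (ShfCat.relPsh φ).obj (op T) := ⟨t₂, hφ.symm⟩
  have hR' : (Sieve.overEquiv T).symm R ∈ (J.over S) T := by
    rw [GrothendieckTopology.mem_over_iff, OrderIso.apply_symm_apply]
    exact hR
  have key : s₁ = s₂ := by
    refine (hF _ hR').ext ?_
    intro T' g hg
    rw [Sieve.overEquiv_symm_iff] at hg
    apply Subtype.ext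
    show F.map g.left.op t₁ = F.map g.left.op t₂
    rw [h₁ g.left hg, h₂ g.left hg]
  exact congrArg Subtype.val key

theorem fam_congr {D : Type*} [Category D] {P : Dᵒᵖ ⥤ Type v₁} {X : D} {R : Presieve X}
    (x : Presieve.FamilyOfElements P R) {Y : D} {f f' : Y ⟶ X} (h : f = f') (hf : R f) (hf' : R f') :
    x f hf = x f' hf' := by
  subst h
  rfl

theorem sheaf_of_sheaf (hS : Presieve.IsSheaf J (yoneda.obj S)) (hF : Presieve.IsSheaf J F) :
    Presieve.IsSheaf (J.over S) (ShfCat.relPsh φ) := by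
  intro T R hR
  rw [← Presieve.isSeparatedFor_and_exists_isAmalgamation_iff_isSheafFor]
  refine ⟨sep_of_sep J φ (fun U R hR => (hF R hR).isSeparatedFor) R hR, ?_⟩
  intro x hx
  have hR0 := hR
  rw [GrothendieckTopology.mem_over_iff] at hR
  rw [Presieve.compatible_iff_sieveCompatible] at hx
  -- the induced family on `T.left`
  let x' : Presieve.FamilyOfElements F (Sieve.overEquiv T R).arrows := fun Y f hf =>
    (x (Over.homMk f : Over.mk (f ≫ T.hom) ⟶ T) ((Sieve.overEquiv_iff _ _).1 hf)).1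
  have hx' : x'.SieveCompatible := by
    intro Y Z f g hf
    let G : Over.mk ((g ≫ f) ≫ T.hom) ⟶ Over.mk (f ≫ T.hom) := Over.homMk g (by simp)
    have e1 : G ≫ (Over.homMk f : Over.mk (f ≫ T.hom) ⟶ T) =
        (Over.homMk (g ≫ f) : Over.mk ((g ≫ f) ≫ T.hom) ⟶ T) := by
      ext; simp [G]
    have h2 := hx (Over.homMk f : Over.mk (f ≫ T.hom) ⟶ T) G ((Sieve.overEquiv_iff _ _).1 hf)
    have h3 := fam_congr x e1 (R.downward_closed ((Sieve.overEquiv_iff _ _).1 hf) G)
      ((Sieve.overEquiv_iff _ _).1 ((Sieve.overEquiv T R).downward_closed hf g))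
    show (x (Over.homMk (g ≫ f) : Over.mk ((g ≫ f) ≫ T.hom) ⟶ T) _).1 =
      F.map g.op (x (Over.homMk f : Over.mk (f ≫ T.hom) ⟶ T) _).1
    rw [← h3, h2]
    rfl
  rw [← Presieve.compatible_iff_sieveCompatible] at hx'
  obtain ⟨t, ht, -⟩ := hF _ hR x' hx'
  have hφt : φ.app (op T.left) t = T.hom := by
    refine (hS _ hR).isSeparatedFor.ext ?_
    intro Y f hf
    show f ≫ φ.app (op T.left) t = f ≫ T.hom
    rw [← phi_map, ht f hf]
    exact (x (Over.homMk f : Over.mk (f ≫ T.hom) ⟶ T) ((Sieve.overEquiv_iff _ _).1 hf)).2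
  refine ⟨⟨t, hφt⟩, ?_⟩
  intro T' g hg
  apply Subtype.ext
  show F.map g.left.op t = (x g hg).1
  have hgl : (Sieve.overEquiv T R) g.left := by
    rw [Sieve.overEquiv_iff]
    let e : Over.mk (g.left ≫ T.hom) ⟶ T' := Over.homMk (𝟙 _) (by simp)
    have : (Over.homMk g.left : Over.mk (g.left ≫ T.hom) ⟶ T) = e ≫ g := by
      ext; simp [e]
    rw [this]
    exact R.downward_closed hg e
  rw [ht g.left hgl]
  let e : Over.mk (g.left ≫ T.hom) ⟶ T' := Over.homMk (𝟙 _) (by simp)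
  have he : e ≫ g = (Over.homMk g.left : Over.mk (g.left ≫ T.hom) ⟶ T) := by
    ext; simp [e]
  have h2 := hx g e hg
  have h3 := fam_congr x he (R.downward_closed hg e) ((Sieve.overEquiv_iff _ _).1 hgl)
  show (x _ _).1 = _
  rw [← h3, h2]
  show F.map (𝟙 _).op (x g hg).1 = (x g hg).1
  simp

theorem sheaf_of_sheaf' (hS : Presieve.IsSheaf J (yoneda.obj S))
    (hF : Presieve.IsSheaf (J.over S) (ShfCat.relPsh φ)) : Presieve.IsSheaf J F := by
  intro U R hR
  rw [← Presieve.isSeparatedFor_and_exists_isAmalgamation_iff_isSheafFor]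
  refine ⟨sep_of_sep' J φ hS (fun T R hR => (hF R hR).isSeparatedFor) R hR, ?_⟩
  intro x hx
  -- the induced compatible family for `h_S`
  let y : Presieve.FamilyOfElements (yoneda.obj S) R.arrows := fun Y f hf => φ.app (op Y) (x f hf)
  have hy : y.Compatible := by
    intro Y₁ Y₂ Z g₁ g₂ f₁ f₂ h₁ h₂ h
    show g₁ ≫ φ.app (op Y₁) (x f₁ h₁) = g₂ ≫ φ.app (op Y₂) (x f₂ h₂)
    rw [← phi_map, ← phi_map, hx g₁ g₂ h₁ h₂ h]
  obtain ⟨t, ht, -⟩ := hS R hR y hy
  have ht' : ∀ {Y : C} (f : Y ⟶ U) (hf : R f), f ≫ t = φ.app (op Y) (x f hf) := fun f hf => ht f hf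
  let T : Over S := Over.mk t
  have hR' : (Sieve.overEquiv T).symm R ∈ (J.over S) T := by
    rw [GrothendieckTopology.mem_over_iff, OrderIso.apply_symm_apply]
    exact hR
  let z : Presieve.FamilyOfElements (ShfCat.relPsh φ) ((Sieve.overEquiv T).symm R).arrows :=
    fun T' g hg => ⟨x g.left ((Sieve.overEquiv_symm_iff _ _).1 hg), by
      rw [← ht' g.left ((Sieve.overEquiv_symm_iff _ _).1 hg)]
      exact Over.w g⟩
  have hz : z.Compatible := by
    intro T₁ T₂ Z G₁ G₂ g₁ g₂ h₁ h₂ h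
    apply Subtype.ext
    show F.map G₁.left.op (x g₁.left _) = F.map G₂.left.op (x g₂.left _)
    refine hx G₁.left G₂.left _ _ ?_
    have := congrArg CommaMorphism.left h
    simpa using this
  obtain ⟨s, hs, -⟩ := hF _ hR' z hz
  refine ⟨s.1, ?_⟩
  intro Y f hf
  have hg : ((Sieve.overEquiv T).symm R) (Over.homMk f : Over.mk (f ≫ t) ⟶ T) := by
    rw [Sieve.overEquiv_symm_iff]
    exact hf
  have := congrArg Subtype.val (hs (Over.homMk f : Over.mk (f ≫ t) ⟶ T) hg)
  exact this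

theorem main (hS : Presieve.IsSheaf J (yoneda.obj S)) :
    (Presieve.IsSeparated (J.over S) (ShfCat.relPsh φ) ↔ Presieve.IsSeparated J F) ∧
    (Presieve.IsSheaf (J.over S) (ShfCat.relPsh φ) ↔ Presieve.IsSheaf J F) :=
  ⟨⟨sep_of_sep' J φ hS, sep_of_sep J φ⟩, ⟨sheaf_of_sheaf' J φ hS, sheaf_of_sheaf J φ hS⟩⟩


end


/-- Let `S` be an object whose representable presheaf is a sheaf for `J` and `φ : F ⟶ h_S` a morphism of
presheaves of sets. The relative presheaf on `C/S` (sections of `F` over `T` lying over the given `T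
⟶ S`) is separated (resp. a sheaf) for the induced topology on `C/S` if and only if `F` is separated
(resp. a sheaf). -/
theorem result {C : Type u₁} [Category.{v₁} C] (J : GrothendieckTopology C)
    {S : C} (hS : Presieve.IsSheaf J (yoneda.obj S)) {F : Cᵒᵖ ⥤ Type v₁} (φ : F ⟶ yoneda.obj S) :
    (Presieve.IsSeparated (J.over S) (ShfCat.relPsh φ) ↔ Presieve.IsSeparated J F) ∧
    (Presieve.IsSheaf (J.over S) (ShfCat.relPsh φ) ↔ Presieve.IsSheaf J F) := by
  classical
  exact main J φ hS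

end Groth.Agent.S6057
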