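import Groth.Statements.S6119
import Groth.Agent.Lib.Helper2.Sch.QuotPreimage


set_option autoImplicit false
open CategoryTheory MonoidalCategory CartesianMonoidalCategory MonObj GrpObj AlgebraicGeometry
universe u
open RedSub

namespace Groth.Agent.S6119

/-- The identification G/H ≅ corad(G)/corad(H): let G be a reductive S-group, d : D ⟶ G its derived
group and f₀ : G ⟶ C its coradical (C commutative, D = Ker f₀, f₀ the fppf quotient G/D, D killed by
every homomorphism to a commutative S-group scheme). Let t : T'' ⟶ C be a subtorus, H = G x_C T''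
its preimage under f₀ (with projections k : H ⟶ G and g : H ⟶ T''), and q : G ⟶ Q the fppf quotient
of G by H. Then q factors uniquely as f₀ followed by q' : C ⟶ Q, and q' exhibits Q as the fppf
quotient of C by T''. -/
theorem result {S : Scheme.{u}} {G D C T'' H Q : Over S} [GrpObj G] [GrpObj D]
    [GrpObj C] [GrpObj T''] [GrpObj H] (hG : Red.IsReductive G) (d : D ⟶ G) [IsMonHom d]
    (f₀ : G ⟶ C) [IsMonHom f₀] (hC : ∀ (X : Over S) (a b : X ⟶ C), a * b = b * a) (hker : AlgGrp.IsKernel d f₀)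
    (hquot : RedSub.IsQuotient d f₀) (hkill : RedSub.KilledByCommutative d)
    (t : T'' ⟶ C) [IsMonHom t] [Mono t] (hT'' : Red.IsTorus T'') (k : H ⟶ G) [IsMonHom k] (g : H ⟶ T'') [IsMonHom g]
    (hsq : IsPullback k g f₀ t) (q : G ⟶ Q) (hq : RedSub.IsQuotient k q) :
    ∃! q' : C ⟶ Q, f₀ ≫ q' = q ∧ RedSub.IsQuotient t q' := by
  obtain ⟨sD, fD, lD, pbD⟩ := hquot
  obtain ⟨sH, fH, lH, pbH⟩ := hq
  have cf : Groth.Agent.Helper2.FppfCov.IsCov f₀ := ⟨fD, sD, lD⟩
  have hd : d ≫ f₀ = 1 := Groth.Agent.Lib.Helper4.GrpKer1.IsKer.comp_eq_one hker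
  haveI := cf.epi
  obtain ⟨q', hq'⟩ := cf.exists_desc q (fun z₁ z₂ hz =>
    Groth.Agent.Helper2.QuotPreimage.comp_q_eq d f₀ pbD hd t k g hsq q pbH z₁ z₂ hz)
  refine ⟨q', ⟨hq', ?_⟩, ?_⟩
  · haveI := sD; haveI := fD; haveI := lD
    have e : f₀.left ≫ q'.left = q.left := by rw [← Over.comp_left, hq']
    haveI : Surjective (f₀.left ≫ q'.left) := by rw [e]; exact sH
    haveI : Flat (f₀.left ≫ q'.left) := by rw [e]; exact fH
    haveI : LocallyOfFinitePresentation (f₀.left ≫ q'.left) := by rw [e]; exact lH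
    exact ⟨Surjective.of_comp f₀.left q'.left,
      Groth.Agent.Helper2.EtaleLocal.flat_of_flat_comp_of_surjective f₀.left q'.left,
      Groth.Agent.Helper3.FppfDesc.locallyOfFinitePresentation_of_fppf_cover f₀.left q'.left,
      Groth.Agent.Helper2.QuotPreimage.isPullback_q' f₀ cf t k g hsq q pbH q' hq'⟩
  · rintro y ⟨hy, -⟩
    rw [← cancel_epi f₀, hy, hq']

end Groth.Agent.S6119
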