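import Groth.Statements.S6120
-- import your own Groth.Agent.* helpers here

set_option autoImplicit false
open CategoryTheory CategoryTheory.Limits Opposite
universe w v₁ v₂ u₁ u₂
open SGA4

namespace Groth.Agent.S6120

section aux

variable {I : Type u₁} [Category.{v₁} I] {C : Type u₂} [Category.{v₂} C] {A : Type w} (i : A → I)
    [∀ α β, HasBinaryProduct (i α) (i β)] (F : Iᵒᵖ ⥤ C)
    [HasProduct (fun α => F.obj (op (i α)))]
    [HasProduct (fun p : A × A => F.obj (op (i p.1 ⨯ i p.2)))]

noncomputable abbrev uMap : (∏ᶜ (fun α => F.obj (op (i α)))) ⟶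
    ∏ᶜ (fun p : A × A => F.obj (op (i p.1 ⨯ i p.2))) :=
  Pi.lift (fun p : A × A =>
    Pi.π (fun α => F.obj (op (i α))) p.1 ≫ F.map (prod.fst : i p.1 ⨯ i p.2 ⟶ i p.1).op)

noncomputable abbrev vMap : (∏ᶜ (fun α => F.obj (op (i α)))) ⟶
    ∏ᶜ (fun p : A × A => F.obj (op (i p.1 ⨯ i p.2))) :=
  Pi.lift (fun p : A × A =>
    Pi.π (fun α => F.obj (op (i α))) p.2 ≫ F.map (prod.snd : i p.1 ⨯ i p.2 ⟶ i p.2).op)

theorem indep {T : C} (t : T ⟶ ∏ᶜ (fun α => F.obj (op (i α))))
    (ht : t ≫ uMap i F = t ≫ vMap i F) {j : I} {α β : A} (m : j ⟶ i α) (m' : j ⟶ i β) :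
    t ≫ Pi.π (fun α => F.obj (op (i α))) α ≫ F.map m.op =
      t ≫ Pi.π (fun α => F.obj (op (i α))) β ≫ F.map m'.op := by
  have h := congrArg (· ≫ Pi.π (fun p : A × A => F.obj (op (i p.1 ⨯ i p.2))) (α, β)) ht
  simp only [Category.assoc, Pi.lift_π] at h
  calc t ≫ Pi.π (fun α => F.obj (op (i α))) α ≫ F.map m.op
      = (t ≫ Pi.π (fun α => F.obj (op (i α))) α ≫
          F.map (prod.fst : i α ⨯ i β ⟶ i α).op) ≫ F.map (prod.lift m m').op := by
        rw [Category.assoc, Category.assoc, ← F.map_comp, ← op_comp, prod.lift_fst]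
    _ = (t ≫ Pi.π (fun α => F.obj (op (i α))) β ≫
          F.map (prod.snd : i α ⨯ i β ⟶ i β).op) ≫ F.map (prod.lift m m').op := by rw [h]
    _ = t ≫ Pi.π (fun α => F.obj (op (i α))) β ≫ F.map m'.op := by
        rw [Category.assoc, Category.assoc, ← F.map_comp, ← op_comp, prod.lift_snd]

noncomputable def coneOf (hcov : ∀ j : I, ∃ α, Nonempty (j ⟶ i α)) {T : C}
    (t : T ⟶ ∏ᶜ (fun α => F.obj (op (i α)))) (ht : t ≫ uMap i F = t ≫ vMap i F) : Cone F where
  pt := T
  π :=
    { app := fun j => t ≫ Pi.π (fun α => F.obj (op (i α))) (hcov j.unop).choose ≫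
        F.map (hcov j.unop).choose_spec.some.op
      naturality := fun j j' k => by
        simp only [Functor.const_obj_obj, Functor.const_obj_map, Category.id_comp, Category.assoc]
        rw [← F.map_comp]
        have : (hcov j.unop).choose_spec.some.op ≫ k =
            (k.unop ≫ (hcov j.unop).choose_spec.some).op := by
          rw [op_comp, Quiver.Hom.op_unop]
        rw [this]
        exact indep i F t ht _ _ }

theorem coneOf_π (hcov : ∀ j : I, ∃ α, Nonempty (j ⟶ i α)) {T : C}
    (t : T ⟶ ∏ᶜ (fun α => F.obj (op (i α)))) (ht : t ≫ uMap i F = t ≫ vMap i F)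
    {j : I} {α : A} (m : j ⟶ i α) :
    (coneOf i F hcov t ht).π.app (op j) = t ≫ Pi.π (fun α => F.obj (op (i α))) α ≫ F.map m.op :=
  indep i F t ht _ _

theorem cone_equalizes (s : Cone F) :
    Pi.lift (fun α => s.π.app (op (i α))) ≫ uMap i F =
      Pi.lift (fun α => s.π.app (op (i α))) ≫ vMap i F := by
  apply Pi.hom_ext
  intro p
  simp only [Category.assoc, Pi.lift_π, Pi.lift_π_assoc]
  rw [s.w, s.w]

end aux

/-- Let `I` be a category with a family of objects `i α` (`α : A`) such that every binary product `i α ⨯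
i β` exists in `I` and every object of `I` admits a morphism to some `i α`. Let `F : Iᵒᵖ ⥤ C` be a
functor, and assume that `C` has equalizers and that the products `∏ F (i α)` and `∏ F (i α ⨯ i β)`
exist in `C`. Then the limit of `F` exists, the canonical map `lim F ⟶ ∏ F (i α)` is a monomorphism,
and a map `t : T ⟶ ∏ F (i α)` factors through `lim F` exactly when its composites with the two maps
`∏ F (i α) ⇉ ∏ F (i α ⨯ i β)` induced by the two projections agree: `lim F` is the equalizer of that
pair. (The published statement assumes that `C` has all limits of the size of `A`; only equalizers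
and the two products named are assumed here, which is what the equalizer construction uses.) -/
theorem result
    {I : Type u₁} [Category.{v₁} I] {C : Type u₂} [Category.{v₂} C] {A : Type w} (i : A → I)
    [∀ α β, HasBinaryProduct (i α) (i β)]
    (hcov : ∀ j : I, ∃ α, Nonempty (j ⟶ i α))
    (F : Iᵒᵖ ⥤ C) [HasEqualizers C]
    [HasProduct (fun α => F.obj (op (i α)))]
    [HasProduct (fun p : A × A => F.obj (op (i p.1 ⨯ i p.2)))] :
    HasLimit F ∧ ∀ [HasLimit F],
      Mono (Pi.lift (fun α => limit.π F (op (i α)))) ∧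
      ∀ (T : C) (t : T ⟶ ∏ᶜ (fun α => F.obj (op (i α)))),
        (∃ s : T ⟶ limit F, s ≫ Pi.lift (fun α => limit.π F (op (i α))) = t) ↔
        t ≫ Pi.lift (fun p : A × A =>
            Pi.π (fun α => F.obj (op (i α))) p.1 ≫ F.map (prod.fst : i p.1 ⨯ i p.2 ⟶ i p.1).op) =
        t ≫ Pi.lift (fun p : A × A =>
            Pi.π (fun α => F.obj (op (i α))) p.2 ≫ F.map (prod.snd : i p.1 ⨯ i p.2 ⟶ i p.2).op) := by
  classical
  have hlim : IsLimit (coneOf i F hcov (equalizer.ι (uMap i F) (vMap i F))
      (equalizer.condition _ _)) :=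
    { lift := fun s => equalizer.lift (Pi.lift (fun α => s.π.app (op (i α)))) (cone_equalizes i F s)
      fac := fun s j => by
        dsimp only [coneOf]
        rw [equalizer.lift_ι_assoc, Pi.lift_π_assoc]
        exact s.w (hcov j.unop).choose_spec.some.op
      uniq := fun s m hm => by
        apply equalizer.hom_ext
        rw [equalizer.lift_ι]
        apply Pi.hom_ext
        intro α
        rw [Pi.lift_π, ← hm (op (i α)),
          coneOf_π i F hcov (equalizer.ι (uMap i F) (vMap i F)) (equalizer.condition _ _) (𝟙 (i α))]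
        simp
        rfl }
  refine ⟨⟨⟨⟨_, hlim⟩⟩⟩, ?_⟩
  intro _
  refine ⟨⟨fun {T} a b hab => ?_⟩, ?_⟩
  · apply limit.hom_ext
    intro j
    obtain ⟨α, ⟨m⟩⟩ := hcov j.unop
    have hw : limit.π F (op (i α)) ≫ F.map m.op = limit.π F j := limit.w F m.op
    have h := congrArg (· ≫ Pi.π (fun α => F.obj (op (i α))) α) hab
    simp only [Category.assoc, Pi.lift_π] at h
    rw [← hw, ← Category.assoc, h, Category.assoc]
  · intro T t
    constructor
    · rintro ⟨s, rfl⟩
      rw [Category.assoc, Category.assoc]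
      congr 1
      exact cone_equalizes i F (limit.cone F)
    · intro ht
      refine ⟨limit.lift F (coneOf i F hcov t ht), ?_⟩
      apply Pi.hom_ext
      intro α
      rw [Category.assoc, Pi.lift_π]
      have h1 := limit.lift_π (coneOf i F hcov t ht) (op (i α))
      have h2 := coneOf_π i F hcov t ht (𝟙 (i α))
      rw [h2] at h1
      exact h1.trans (by simp)

end Groth.Agent.S6120
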