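import Groth.Statements.S6121
-- import your own Groth.Agent.* helpers here

set_option autoImplicit false
open CategoryTheory
universe v₁ v₂ u₁ u₂
open SGA4

namespace Groth.Agent.S6121

/-- For a fibered functor `p : E ⥤ B` (every morphism of `B` has a cartesian lift with prescribed
codomain, and cartesian morphisms compose), `p` reflects isomorphisms if and only if every fibre
category of `p` (objects over `b`, morphisms lying over the identity of `b`) is a groupoid. -/
theorem result
    {B : Type u₁} [Category.{v₁} B] {E : Type u₂} [Category.{v₂} E] (p : E ⥤ B) [p.IsFibered] :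
    p.ReflectsIsomorphisms ↔ ∀ b : B, IsGroupoid (p.Fiber b) := by
  constructor
  · intro hr b
    refine ⟨fun {x y} φ => ?_⟩
    have hφ2 : p.IsHomLift (𝟙 b) φ.1 := φ.2
    have h1 := IsHomLift.fac' p (𝟙 b) φ.1
    have hiso : IsIso (p.map φ.1) := by
      rw [h1]
      infer_instance
    have hφ : IsIso φ.1 := isIso_of_reflects_iso φ.1 p
    have hinv : p.IsHomLift (𝟙 b) (inv φ.1) := inferInstance
    refine ⟨⟨⟨inv φ.1, hinv⟩, ?_, ?_⟩⟩
    · apply Subtype.ext
      exact IsIso.hom_inv_id φ.1
    · apply Subtype.ext
      exact IsIso.inv_hom_id φ.1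
  · intro h
    refine ⟨fun {X Y} f hf => ?_⟩
    obtain ⟨b, φ, hφ⟩ := Functor.IsPreFibered.exists_isCartesian' (p := p) (p.map f)
    have hφiso : IsIso φ := Functor.IsStronglyCartesian.isIso_of_base_isIso p (p.map f) φ
    have hf' := Functor.IsCartesian.fac p (p.map f) φ f
    let x : p.Fiber (p.obj X) := ⟨X, rfl⟩
    let y : p.Fiber (p.obj X) := ⟨b, IsHomLift.domain_eq p (p.map f) φ⟩
    let f' : x ⟶ y := ⟨Functor.IsCartesian.map p (p.map f) φ f, inferInstance⟩
    have hf'iso : IsIso f' := (h (p.obj X)).all_isIso f'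
    have h2 : IsIso (Functor.Fiber.fiberInclusion.map f') := inferInstance
    have h3 : IsIso (Functor.IsCartesian.map p (p.map f) φ f) := h2
    rw [← hf']
    infer_instance

end Groth.Agent.S6121
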