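import Groth.Statements.S6122
-- import your own Groth.Agent.* helpers here

set_option autoImplicit false
open CategoryTheory
universe v₁ v₂ u₁ u₂
open SGA4

namespace Groth.Agent.S6122

/-- For a fibered functor `p : E ⥤ B` (every morphism of `B` has a cartesian lift with prescribed
codomain, and cartesian morphisms compose), `p` is faithful if and only if every fibre category of
`p` (objects over `b`, morphisms lying over the identity of `b`) has at most one morphism between
any two objects. -/
theorem result
    {B : Type u₁} [Category.{v₁} B] {E : Type u₂} [Category.{v₂} E] (p : E ⥤ B) [p.IsFibered] :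
    p.Faithful ↔ ∀ (b : B) (x y : p.Fiber b), Subsingleton (x ⟶ y) := by
  constructor
  · intro hf b x y
    refine ⟨fun φ ψ => ?_⟩
    apply Functor.Fiber.hom_ext
    apply p.map_injective
    have h1 := IsHomLift.fac' p (𝟙 b) (Functor.Fiber.fiberInclusion.map φ)
    have h2 := IsHomLift.fac' p (𝟙 b) (Functor.Fiber.fiberInclusion.map ψ)
    rw [h1, h2]
  · intro h
    refine ⟨fun {X Y} f g hfg => ?_⟩
    obtain ⟨b, φ, hφ⟩ := Functor.IsPreFibered.exists_isCartesian' (p := p) (p.map f)
    haveI : p.IsHomLift (p.map f) g := by rw [hfg]; infer_instance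
    have hf' := Functor.IsCartesian.fac p (p.map f) φ f
    have hg' := Functor.IsCartesian.fac p (p.map f) φ g
    let x : p.Fiber (p.obj X) := ⟨X, rfl⟩
    let y : p.Fiber (p.obj X) := ⟨b, IsHomLift.domain_eq p (p.map f) φ⟩
    let f' : x ⟶ y := ⟨Functor.IsCartesian.map p (p.map f) φ f, inferInstance⟩
    let g' : x ⟶ y := ⟨Functor.IsCartesian.map p (p.map f) φ g, inferInstance⟩
    have hfg' : f' = g' := (h _ x y).elim f' g'
    have : Functor.IsCartesian.map p (p.map f) φ f = Functor.IsCartesian.map p (p.map f) φ g :=
      congrArg Subtype.val hfg'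
    rw [← hf', ← hg', this]

end Groth.Agent.S6122
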