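import Groth.Statements.S6124
import Mathlib

set_option autoImplicit false
open CategoryTheory CategoryTheory.Limits Opposite
universe w v₁ v₂ u₁ u₂
open SGA4

namespace Groth.Agent.S6124



section
variable {E : Type u₁} [Category.{v₁} E] [HasPullbacks E] (P : ObjectProperty E) (hP : P.IsDetecting)
    {κ : Type w} {E' : κ → Type u₂} [∀ k, Category.{v₂} (E' k)] (φ : ∀ k, E ⥤ E' k)
    [∀ k, PreservesLimitsOfShape WalkingCospan (φ k)]

include hP in
theorem lemA (H : ∀ (X : E), P X → ∀ (X' : Subobject X), X' ≠ ⊤ → ∃ k, ¬ IsIso ((φ k).map X'.arrow))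
    {X' X : E} (m : X' ⟶ X) [Mono m] (hm : ∀ k, IsIso ((φ k).map m)) : IsIso m := by
  rw [hP.isIso_iff_of_mono m]
  intro G hG h
  let π := pullback.fst h m
  have hS : Subobject.mk π = ⊤ := by
    by_contra hne
    obtain ⟨k, hk⟩ := H G hG _ hne
    apply hk
    have hpb : IsPullback ((φ k).map (pullback.fst h m)) ((φ k).map (pullback.snd h m))
        ((φ k).map h) ((φ k).map m) := (IsPullback.of_hasPullback h m).map (φ k)
    haveI := hm k
    haveI : IsIso ((φ k).map π) := hpb.isIso_fst_of_isIso
    have e : (Subobject.mk π).arrow = (Subobject.underlyingIso π).hom ≫ π := by simp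
    rw [e, Functor.map_comp]
    infer_instance
  haveI : IsIso π := (Subobject.isIso_iff_mk_eq_top π).2 hS
  refine ⟨inv π ≫ pullback.snd h m, ?_⟩
  change (inv π ≫ pullback.snd h m) ≫ m = h
  rw [Category.assoc, ← pullback.condition, IsIso.inv_hom_id_assoc]

include hP in
theorem main :
    (∀ ⦃X Y : E⦄ (f : X ⟶ Y), (∀ k, IsIso ((φ k).map f)) → IsIso f) ↔
      ∀ (X : E), P X → ∀ (X' : Subobject X), X' ≠ ⊤ → ∃ k, ¬ IsIso ((φ k).map X'.arrow) := by
  constructor
  · intro h X _ X' hX'
    by_contra hcon
    simp only [not_exists, not_not] at hcon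
    haveI := h X'.arrow hcon
    exact hX' (Subobject.eq_top_of_isIso_arrow X')
  · intro H X Y f hf
    -- f is mono
    have hΔ : ∀ k, IsIso ((φ k).map (pullback.diagonal f)) := by
      intro k
      have hpb : IsPullback ((φ k).map (pullback.fst f f)) ((φ k).map (pullback.snd f f))
          ((φ k).map f) ((φ k).map f) := (IsPullback.of_hasPullback f f).map (φ k)
      haveI := hf k
      haveI : IsIso ((φ k).map (pullback.fst f f)) := hpb.isIso_fst_of_isIso
      have e : (φ k).map (pullback.diagonal f) ≫ (φ k).map (pullback.fst f f) = 𝟙 _ := by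
        rw [← Functor.map_comp, pullback.diagonal_fst, CategoryTheory.Functor.map_id]
      haveI : IsIso ((φ k).map (pullback.diagonal f) ≫ (φ k).map (pullback.fst f f)) := by
        rw [e]; infer_instance
      exact IsIso.of_isIso_comp_right _ ((φ k).map (pullback.fst f f))
    haveI : IsIso (pullback.diagonal f) := lemA P hP φ H _ hΔ
    haveI : Mono f := by
      refine ⟨fun {Z} a b hab => ?_⟩
      have h1 : pullback.fst f f = pullback.snd f f := by
        rw [← cancel_epi (pullback.diagonal f), pullback.diagonal_fst, pullback.diagonal_snd]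
      calc a = pullback.lift a b hab ≫ pullback.fst f f := (pullback.lift_fst _ _ _).symm
        _ = pullback.lift a b hab ≫ pullback.snd f f := by rw [h1]
        _ = b := pullback.lift_snd _ _ _
    exact lemA P hP φ H f hf

end


/-- Let `E` have pullbacks, let `P` be a detecting family of objects of `E` (a morphism `f` is
invertible as soon as every map out of an object of `P` factors uniquely through `f`), and let `φ i
: E ⥤ E' i` be functors preserving pullbacks. Then the `φ i` jointly reflect isomorphisms if and
only if, for every `X` with `P X` and every subobject `X'` of `X` other than `⊤`, some `φ i` takes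
the inclusion `X' ⟶ X` to a morphism that is not invertible. -/
theorem result
    {E : Type u₁} [Category.{v₁} E] [HasPullbacks E] (P : ObjectProperty E) (hP : P.IsDetecting)
    {κ : Type w} {E' : κ → Type u₂} [∀ k, Category.{v₂} (E' k)] (φ : ∀ k, E ⥤ E' k)
    [∀ k, PreservesLimitsOfShape WalkingCospan (φ k)] :
    (∀ ⦃X Y : E⦄ (f : X ⟶ Y), (∀ k, IsIso ((φ k).map f)) → IsIso f) ↔
      ∀ (X : E), P X → ∀ (X' : Subobject X), X' ≠ ⊤ → ∃ k, ¬ IsIso ((φ k).map X'.arrow) := by
  classical
  exact main P hP φ

end Groth.Agent.S6124
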