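import Groth.Statements.S6126
import Mathlib

set_option autoImplicit false
open CategoryTheory CategoryTheory.Limits
universe v₁ u₁
open SGA4

namespace Groth.Agent.S6126

section
variable {E : Type u₁} [Category.{v₁} E] {ι : Type v₁} (G : ι → E)

/-- the relation cut out on maps from generators -/
def Rel {Z Q : E} (e : Z ⟶ Q) : Set (Σ t' : ι, (G t' ⟶ Z) × (G t' ⟶ Z)) :=
  {p | p.2.1 ≫ e = p.2.2 ≫ e}

theorem exists_desc (hG : (ObjectProperty.ofObj G).IsSeparating) {Z Q Q' : E} (e : Z ⟶ Q)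
    [EffectiveEpi e] (e' : Z ⟶ Q') (h : Rel G e ⊆ Rel G e') : ∃ d : Q ⟶ Q', e ≫ d = e' := by
  have hcompat : ∀ {V : E} (a b : V ⟶ Z), a ≫ e = b ≫ e → a ≫ e' = b ≫ e' := ?_
  · exact ⟨EffectiveEpi.desc e e' hcompat, EffectiveEpi.fac _ _ _⟩
  intro V a b hab
  apply hG
  rintro _ ⟨t'⟩ w
  have : (⟨t', (w ≫ a, w ≫ b)⟩ : Σ t' : ι, (G t' ⟶ Z) × (G t' ⟶ Z)) ∈ Rel G e := by
    change (w ≫ a) ≫ e = (w ≫ b) ≫ e
    rw [Category.assoc, Category.assoc, hab]
  have := h this
  change (w ≫ a) ≫ e' = (w ≫ b) ≫ e' at this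
  simpa using this

theorem main (hG : (ObjectProperty.ofObj G).IsSeparating)
    [EnoughInjectives E] [∀ t, HasBinaryCoproduct (G t) (G t)]
    (hfac : ∀ (t : ι) (X : E) (f : G t ⨿ G t ⟶ X),
      ∃ (Y : E) (e : G t ⨿ G t ⟶ Y) (m : Y ⟶ X), EffectiveEpi e ∧ Mono m ∧ e ≫ m = f) :
    ∃ (κ : Type v₁) (H : κ → E),
      (∀ k, Injective (H k)) ∧ (ObjectProperty.ofObj H).IsCoseparating := by
  classical
  let κ : Type v₁ := Σ t : ι, Set (Σ t' : ι, (G t' ⟶ G t ⨿ G t) × (G t' ⟶ G t ⨿ G t))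
  let P : κ → Prop := fun k => ∃ (Q : E) (e : G k.1 ⨿ G k.1 ⟶ Q), EffectiveEpi e ∧ Rel G e = k.2
  let H : κ → E := fun k => if h : P k then Injective.under h.choose else Injective.under (G k.1)
  have hH : ∀ k, Injective (H k) := by
    intro k
    simp only [H]
    split_ifs <;> infer_instance
  refine ⟨κ, H, hH, ?_⟩
  intro X Y f g hfg
  by_contra hne
  have : ∃ (t : ι) (u : G t ⟶ X), u ≫ f ≠ u ≫ g := by
    by_contra hcon
    apply hne
    apply hG
    rintro _ ⟨t⟩ u
    by_contra h'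
    exact hcon ⟨t, u, h'⟩
  obtain ⟨t, u, hu⟩ := this
  obtain ⟨Q, e, m, he, hm, hem⟩ := hfac t Y (coprod.desc (u ≫ f) (u ≫ g))
  let k : κ := ⟨t, Rel G e⟩
  have hPk : P k := ⟨Q, e, he, rfl⟩
  obtain ⟨he₀, hrel⟩ := hPk.choose_spec.choose_spec
  have hHk : H k = Injective.under hPk.choose := by
    simp only [H]; rw [dif_pos hPk]
  obtain ⟨Q₀, hQ₀⟩ : ∃ Q₀, Q₀ = hPk.choose := ⟨_, rfl⟩
  obtain ⟨e₀, he₀def⟩ : ∃ e₀ : G t ⨿ G t ⟶ hPk.choose, e₀ = hPk.choose_spec.choose := ⟨_, rfl⟩
  rw [← he₀def] at he₀ hrel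
  change Rel G e₀ = Rel G e at hrel
  obtain ⟨d', hd'⟩ := exists_desc G hG e e₀ hrel.ge
  -- the map Y ⟶ H k
  let j : Q ⟶ H k := d' ≫ Injective.ι hPk.choose ≫ eqToHom hHk.symm
  let h : Y ⟶ H k := Injective.factorThru j m
  have hmh : m ≫ h = j := Injective.comp_factorThru j m
  have key := hfg (H k) ⟨k⟩ h
  have h1 : coprod.inl ≫ e ≫ j = coprod.inr ≫ e ≫ j := by
    rw [← hmh, ← Category.assoc e, hem]
    rw [← Category.assoc, ← Category.assoc, coprod.inl_desc, coprod.inr_desc]
    rw [Category.assoc, Category.assoc, key]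
  have h2 : coprod.inl ≫ e₀ = coprod.inr ≫ e₀ := by
    simp only [j] at h1
    rw [← Category.assoc e, hd'] at h1
    have h3 : (coprod.inl ≫ e₀) ≫ (Injective.ι hPk.choose ≫ eqToHom hHk.symm)
        = (coprod.inr ≫ e₀) ≫ (Injective.ι hPk.choose ≫ eqToHom hHk.symm) := by
      simpa using h1
    exact (cancel_mono _).mp h3
  have h4 : (⟨t, (coprod.inl, coprod.inr)⟩ : Σ t' : ι, (G t' ⟶ G t ⨿ G t) × (G t' ⟶ G t ⨿ G t))
      ∈ Rel G e₀ := h2
  rw [hrel] at h4
  have h5 : coprod.inl ≫ e = coprod.inr ≫ e := h4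
  apply hu
  have h6 : coprod.inl ≫ e ≫ m = coprod.inr ≫ e ≫ m := by
    rw [← Category.assoc, h5, Category.assoc]
  rw [hem, coprod.inl_desc, coprod.inr_desc] at h6
  exact h6

end


/-- Let `E` be a category with `v₁`-small hom-sets admitting a separating family of objects `G t`
indexed by a `v₁`-small type, in which every object admits a monomorphism into an injective object.
Assume that each coproduct `G t ⨿ G t` exists and that every morphism out of `G t ⨿ G t` factors as
an effective epimorphism followed by a monomorphism. Then `E` admits a coseparating family of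
injective objects indexed by a `v₁`-small type. (The published statement moreover bounds the size of
this family in terms of the hom-sets `Hom (G t', G t ⨿ G t)`; only existence is stated here. The
published statement speaks of generating and cogenerating families; its proof uses and produces
joint faithfulness of maps out of, resp. into, the family, which is the sense taken here.) -/
theorem result
    {E : Type u₁} [Category.{v₁} E] {ι : Type v₁} (G : ι → E)
    (hG : (ObjectProperty.ofObj G).IsSeparating)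
    [EnoughInjectives E] [∀ t, HasBinaryCoproduct (G t) (G t)]
    (hfac : ∀ (t : ι) (X : E) (f : G t ⨿ G t ⟶ X),
      ∃ (Y : E) (e : G t ⨿ G t ⟶ Y) (m : Y ⟶ X), EffectiveEpi e ∧ Mono m ∧ e ≫ m = f) :
    ∃ (κ : Type v₁) (H : κ → E),
      (∀ k, Injective (H k)) ∧ (ObjectProperty.ofObj H).IsCoseparating := by
  classical
  exact main G hG hfac

end Groth.Agent.S6126
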