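import Groth.Statements.S6127
import Mathlib

set_option autoImplicit false
open CategoryTheory CategoryTheory.Limits Opposite
universe u
open SGA4

namespace Groth.Agent.S6127

section
open CategoryTheory CategoryTheory.Limits Opposite

variable {C : Type u} [SmallCategory C] (P : ObjectProperty (Cᵒᵖ ⥤ Type u))
    [P.IsClosedUnderIsomorphisms] [Reflective P.ι]

/-- Objects of `P` are local with respect to morphisms inverted by the reflector. -/
theorem local_of_P {A B : Cᵒᵖ ⥤ Type u} (u : A ⟶ B) (hu : IsIso ((reflector P.ι).map u))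
    (F : Cᵒᵖ ⥤ Type u) (hF : P F) : Function.Bijective (fun g : B ⟶ F => u ≫ g) := by
  let adj := reflectorAdjunction P.ι
  let F' : P.FullSubcategory := ⟨F, hF⟩
  have hnat : ∀ g : B ⟶ P.ι.obj F', (adj.homEquiv A F').symm (u ≫ g) =
      (reflector P.ι).map u ≫ (adj.homEquiv B F').symm g := fun g =>
    adj.homEquiv_naturality_left_symm u g
  constructor
  · intro g₁ g₂ h
    have h1 : (adj.homEquiv A F').symm (u ≫ g₁) = (adj.homEquiv A F').symm (u ≫ g₂) :=
      congrArg _ h
    rw [hnat, hnat, cancel_epi] at h1
    exact (adj.homEquiv B F').symm.injective h1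
  · intro g
    refine ⟨(adj.homEquiv B F') (inv ((reflector P.ι).map u) ≫ (adj.homEquiv A F').symm g), ?_⟩
    apply (adj.homEquiv A F').symm.injective
    show (adj.homEquiv A F').symm (u ≫ _) = _
    rw [hnat]
    simp

theorem isIso_of_local {A B : Cᵒᵖ ⥤ Type u} (u : A ⟶ B)
    (h : ∀ F : Cᵒᵖ ⥤ Type u, P F → Function.Bijective (fun g : B ⟶ F => u ≫ g)) :
    IsIso ((reflector P.ι).map u) := by
  let adj := reflectorAdjunction P.ι
  rw [isIso_iff_coyoneda_map_bijective]
  intro F'
  have hnat : ∀ g : B ⟶ P.ι.obj F', (adj.homEquiv A F').symm (u ≫ g) =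
      (reflector P.ι).map u ≫ (adj.homEquiv B F').symm g := fun g =>
    adj.homEquiv_naturality_left_symm u g
  have hb := h F'.obj F'.property
  constructor
  · intro g₁ g₂ h12
    apply (adj.homEquiv B F').injective
    apply hb.1
    apply (adj.homEquiv A F').symm.injective
    show (adj.homEquiv A F').symm (u ≫ _) = (adj.homEquiv A F').symm (u ≫ _)
    rw [hnat, hnat]
    simpa using h12
  · intro g
    obtain ⟨g', hg'⟩ := hb.2 ((adj.homEquiv A F') g)
    refine ⟨(adj.homEquiv B F').symm g', ?_⟩
    show (reflector P.ι).map u ≫ (adj.homEquiv B F').symm g' = g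
    rw [← hnat]
    have : u ≫ g' = (adj.homEquiv A F') g := hg'
    rw [this]
    simp

section sieves

variable {X Y : C}

/-- the canonical map `(f^* S).functor ⟶ S.functor` -/
def pbTop (S : Sieve X) (f : Y ⟶ X) : (S.pullback f).functor ⟶ S.functor where
  app Z := ↾fun g => ⟨g.1 ≫ f, g.2⟩
  naturality Z W h := by
    ext g
    apply Subtype.ext
    exact Category.assoc _ _ _

theorem pb_isPullback (S : Sieve X) (f : Y ⟶ X) :
    IsPullback (pbTop S f) (S.pullback f).functorInclusion S.functorInclusion (yoneda.map f) := by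
  refine IsPullback.of_forall_isPullback_app (fun Z => ?_)
  rw [Types.isPullback_iff]
  refine ⟨?_, ?_, ?_⟩
  · ext g
    rfl
  · rintro ⟨g₁, h₁⟩ ⟨g₂, h₂⟩ ⟨-, h⟩
    apply Subtype.ext
    exact h
  · rintro ⟨g, hg⟩ (k : Z.unop ⟶ Y) (h : g = k ≫ f)
    subst h
    exact ⟨⟨k, hg⟩, rfl, rfl⟩

end sieves

/-- the topology -/
def topo : GrothendieckTopology C := Sheaf.finestTopology {F | P F}

theorem bij_iff_ysc {X : C} (S : Sieve X) (F : Cᵒᵖ ⥤ Type u) :
    Function.Bijective (fun g : yoneda.obj X ⟶ F => S.functorInclusion ≫ g) ↔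
      Presieve.IsSheafFor F S.arrows := by
  rw [Presieve.isSheafFor_iff_yonedaSheafCondition]
  constructor
  · intro h f
    obtain ⟨g, hg⟩ := h.2 f
    exact ⟨g, hg, fun g' hg' => h.1 (hg'.trans hg.symm)⟩
  · intro h
    constructor
    · intro g₁ g₂ h12
      obtain ⟨g, -, hg⟩ := h (S.functorInclusion ≫ g₁)
      rw [hg g₁ rfl, hg g₂ h12.symm]
    · intro f
      obtain ⟨g, hg, -⟩ := h f
      exact ⟨g, hg⟩

variable [PreservesFiniteLimits (reflector P.ι)]

theorem mem_topo_iff {X : C} (S : Sieve X) :
    S ∈ topo P X ↔ IsIso ((reflector P.ι).map S.functorInclusion) := by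
  constructor
  · intro hS
    apply isIso_of_local
    intro F hF
    rw [bij_iff_ysc]
    exact Sheaf.sheaf_for_finestTopology {F | P F} hF S hS
  · intro hS
    apply Sheaf.mem_finestTopology_of_forall_isSheafFor
    intro F hF Y f
    rw [← bij_iff_ysc]
    apply local_of_P P _ _ F hF
    have hpb := (pb_isPullback S f).map (reflector P.ι)
    exact hpb.isIso_snd_of_isIso

theorem locSurj {A B : Cᵒᵖ ⥤ Type u} (u : A ⟶ B) (hu : IsIso ((reflector P.ι).map u)) :
    Presheaf.IsLocallySurjective (topo P) u := by
  constructor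
  intro X b
  rw [mem_topo_iff]
  let bh : yoneda.obj X ⟶ B := yonedaEquiv.symm b
  let S := Presheaf.imageSieve u b
  have hpb := (IsPullback.of_hasPullback u bh).map (reflector P.ι)
  have hsnd : IsIso ((reflector P.ι).map (pullback.snd u bh)) := hpb.isIso_snd_of_isIso
  -- the factorisation through the image sieve
  let φ : pullback u bh ⟶ S.functor :=
    { app := fun Z => ↾fun a' => ⟨(pullback.snd u bh).app Z a', ⟨(pullback.fst u bh).app Z a', by
        have h1 := congrArg (fun t => t.app Z a') (pullback.condition (f := u) (g := bh))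
        simp only [NatTrans.comp_app_apply] at h1
        rw [h1]
        exact yonedaEquiv_symm_app_apply _ _ _⟩⟩
      naturality := fun Z W h => by
        ext a'
        apply Subtype.ext
        exact congrArg (fun t => t a') ((pullback.snd u bh).naturality h) }
  have hφ : φ ≫ S.functorInclusion = pullback.snd u bh := by
    ext Z a'
    rfl
  have hmono : Mono ((reflector P.ι).map S.functorInclusion) := inferInstance
  have hsplit : IsSplitEpi ((reflector P.ι).map S.functorInclusion) :=
    IsSplitEpi.mk' ⟨inv ((reflector P.ι).map (pullback.snd u bh)) ≫ (reflector P.ι).map φ, by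
      rw [Category.assoc, ← Functor.map_comp, hφ]
      simp⟩
  exact isIso_of_mono_of_isSplitEpi _

theorem locInj {A B : Cᵒᵖ ⥤ Type u} (u : A ⟶ B) (hu : IsIso ((reflector P.ι).map u)) :
    Presheaf.IsLocallyInjective (topo P) u := by
  constructor
  intro X a a' haa'
  rw [mem_topo_iff]
  let ah : yoneda.obj X.unop ⟶ A := yonedaEquiv.symm a
  let ah' : yoneda.obj X.unop ⟶ A := yonedaEquiv.symm a'
  let E := Presheaf.equalizerSieve a a'
  have hu_eq : ah ≫ u = ah' ≫ u := by
    apply yonedaEquiv.injective
    rw [yonedaEquiv_comp, yonedaEquiv_comp]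
    simp only [ah, ah', Equiv.apply_symm_apply]
    exact haa'
  have hL : (reflector P.ι).map ah = (reflector P.ι).map ah' := by
    rw [← cancel_mono ((reflector P.ι).map u), ← Functor.map_comp, ← Functor.map_comp, hu_eq]
  have hw : E.functorInclusion ≫ ah = E.functorInclusion ≫ ah' := by
    ext Z ⟨k, hk⟩
    exact (yonedaEquiv_symm_app_apply a Z k).trans
      (hk.trans (yonedaEquiv_symm_app_apply a' Z k).symm)
  have hlim : IsLimit (Fork.ofι E.functorInclusion hw) := by
    refine Fork.IsLimit.mk' _ (fun s => ?_)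
    have hs : ∀ (Z : Cᵒᵖ) (t : s.pt.obj Z), E.arrows (s.ι.app Z t) := by
      intro Z t
      have h1 := congrArg (fun m => m.app Z t) s.condition
      simp only [NatTrans.comp_app_apply] at h1
      exact (yonedaEquiv_symm_app_apply a Z _).symm.trans
        (h1.trans (yonedaEquiv_symm_app_apply a' Z _))
    refine ⟨{ app := fun Z => ↾fun t => ⟨s.ι.app Z t, hs Z t⟩
              naturality := fun Z W h => by
                ext t
                apply Subtype.ext
                exact congrArg (fun m => m t) (s.ι.naturality h) }, ?_, ?_⟩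
    · ext Z t
      rfl
    · intro m hm
      ext Z t
      apply Subtype.ext
      exact congrArg (fun n => n.app Z t) hm
  have hlim' := isLimitForkMapOfIsLimit (reflector P.ι) hw hlim
  exact isIso_limit_cone_parallelPair_of_eq hL hlim'

theorem P_of_sheaf (F : Cᵒᵖ ⥤ Type u) (hF : Presieve.IsSheaf (topo P) F) : P F := by
  let adj := reflectorAdjunction P.ι
  let η : F ⟶ P.ι.obj ((reflector P.ι).obj F) := adj.unit.app F
  have hLη : IsIso ((reflector P.ι).map η) := inferInstance
  have hW : (topo P).W η := by
    rw [GrothendieckTopology.W_iff_isLocallyBijective]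
    exact ⟨locInj P η hLη, locSurj P η hLη⟩
  have hF' : Presheaf.IsSheaf (topo P) F := (isSheaf_iff_isSheaf_of_type _ _).2 hF
  have hG' : Presheaf.IsSheaf (topo P) (P.ι.obj ((reflector P.ι).obj F)) :=
    (isSheaf_iff_isSheaf_of_type _ _).2
      (Sheaf.sheaf_for_finestTopology {F | P F} ((reflector P.ι).obj F).property)
  obtain ⟨r, hr⟩ := (hW F hF').2 (𝟙 F)
  have hr' : η ≫ r = 𝟙 F := hr
  have hr2 : r ≫ η = 𝟙 _ := by
    apply (hW _ hG').1
    show η ≫ r ≫ η = η ≫ 𝟙 _
    rw [← Category.assoc, hr', Category.id_comp, Category.comp_id]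
  let e : F ≅ P.ι.obj ((reflector P.ι).obj F) := ⟨η, r, hr', hr2⟩
  exact P.prop_of_iso e.symm ((reflector P.ι).obj F).property

theorem main :
    ∃ J : GrothendieckTopology C,
      (∀ (X : C) (S : Sieve X), S ∈ J X ↔ IsIso ((reflector P.ι).map S.functorInclusion)) ∧
      ∀ F : Cᵒᵖ ⥤ Type u, P F ↔ Presieve.IsSheaf J F :=
  ⟨topo P, fun X S => mem_topo_iff P S, fun F =>
    ⟨fun hF => Sheaf.sheaf_for_finestTopology {F | P F} hF, P_of_sheaf P F⟩⟩


end


/-- Let `C` be a small category and `P` a strictly full subcategory of the category of presheaves of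
sets on `C` whose inclusion admits a left adjoint (a reflector) preserving finite limits. Call a
sieve `S` on `X` covering when the reflector inverts the inclusion of `S`, viewed as a subpresheaf,
into the presheaf represented by `X`. Then these covering sieves form a Grothendieck topology `J` on
`C`, and a presheaf lies in `P` if and only if it is a sheaf for `J`. (This is the half of the
correspondence between topologies on `C` and such reflective subcategories that produces the
topology; the topology is pinned down by its covering sieves.) -/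
theorem result
    {C : Type u} [SmallCategory C] (P : ObjectProperty (Cᵒᵖ ⥤ Type u))
    [P.IsClosedUnderIsomorphisms] [Reflective P.ι] [PreservesFiniteLimits (reflector P.ι)] :
    ∃ J : GrothendieckTopology C,
      (∀ (X : C) (S : Sieve X), S ∈ J X ↔ IsIso ((reflector P.ι).map S.functorInclusion)) ∧
      ∀ F : Cᵒᵖ ⥤ Type u, P F ↔ Presieve.IsSheaf J F := by
  classical
  exact main P

end Groth.Agent.S6127
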