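import Groth.Statements.S6128
import Mathlib
import Groth.Agent.S12108

set_option autoImplicit false
open CategoryTheory
universe u
open SGA4

namespace Groth.Agent.S6128

section
open CategoryTheory CategoryTheory.Limits
open Opposite

variable {C : Type u} [SmallCategory C] {C' : Type u} [SmallCategory C']
  (J : GrothendieckTopology C) (J' : GrothendieckTopology C') (u : C ⥤ C')

/-- the map `h_Y ⟶ u^* h_{uY}` -/
def yu (Y : C) : yoneda.obj Y ⟶ u.op ⋙ yoneda.obj (u.obj Y) where
  app Z := ↾fun g => u.map g
  naturality Z W h := by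
    ext g
    exact u.map_comp _ _

/-- the map `S.functor ⟶ u^* R.functor` -/
def topMap {Y : C} (R : Sieve (u.obj Y)) : (R.functorPullback u).functor ⟶ u.op ⋙ R.functor where
  app Z := ↾fun g => ⟨u.map g.1, g.2⟩
  naturality Z W h := by
    ext g
    apply Subtype.ext
    exact u.map_comp _ _

theorem pb {Y : C} (R : Sieve (u.obj Y)) :
    IsPullback (topMap u R) (R.functorPullback u).functorInclusion
      (Functor.whiskerLeft u.op R.functorInclusion) (yu u Y) := by
  refine IsPullback.of_forall_isPullback_app (fun Z => ?_)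
  rw [Types.isPullback_iff]
  refine ⟨?_, ?_, ?_⟩
  · ext g
    rfl
  · rintro ⟨g₁, h₁⟩ ⟨g₂, h₂⟩ ⟨-, h⟩
    apply Subtype.ext
    exact h
  · rintro ⟨g, hg⟩ (k : Z.unop ⟶ Y) (h : g = u.map k)
    subst h
    exact ⟨⟨k, hg⟩, rfl, rfl⟩

theorem W_whisker (h : ∀ G : Sheaf J (Type u), Presheaf.IsSheaf J' ((u.op.ran).obj G.obj))
    {Y : C} (R : Sieve (u.obj Y)) (hR : R ∈ J' (u.obj Y)) :
    J.W (Functor.whiskerLeft u.op R.functorInclusion) := by
  intro F hF
  have hs : Presieve.IsSheafFor ((u.op.ran).obj F) R.arrows :=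
    ((isSheaf_iff_isSheaf_of_type _ _).1 (h ⟨F, hF⟩)) R hR
  rw [← Groth.Agent.S12108.bij_iff_ysc] at hs
  have hnat : ∀ g : u.op ⋙ yoneda.obj (u.obj Y) ⟶ F,
      (u.op.ranAdjunction (Type u)).homEquiv _ _ (Functor.whiskerLeft u.op R.functorInclusion ≫ g) =
        R.functorInclusion ≫ (u.op.ranAdjunction (Type u)).homEquiv _ _ g := fun g =>
    (u.op.ranAdjunction (Type u)).homEquiv_naturality_left _ _
  constructor
  · intro g₁ g₂ h12
    apply ((u.op.ranAdjunction (Type u)).homEquiv _ _).injective
    apply hs.1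
    show R.functorInclusion ≫ _ = R.functorInclusion ≫ _
    rw [← hnat, ← hnat]
    exact congrArg _ h12
  · intro g
    obtain ⟨g', hg'⟩ := hs.2 ((u.op.ranAdjunction (Type u)).homEquiv _ _ g)
    refine ⟨((u.op.ranAdjunction (Type u)).homEquiv _ _).symm g', ?_⟩
    apply ((u.op.ranAdjunction (Type u)).homEquiv _ _).injective
    show (u.op.ranAdjunction (Type u)).homEquiv _ _ (Functor.whiskerLeft u.op R.functorInclusion ≫ _) = _
    rw [hnat, Equiv.apply_symm_apply]
    exact hg'

theorem main (h : ∀ G : Sheaf J (Type u), Presheaf.IsSheaf J' ((u.op.ran).obj G.obj)) :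
    u.IsCocontinuous J J' := by
  constructor
  intro Y R hR
  have hW := W_whisker J J' u h R hR
  rw [J.W_iff] at hW
  have hpb := (pb u R).map (presheafToSheaf J (Type u))
  have hiso : IsIso ((presheafToSheaf J (Type u)).map (R.functorPullback u).functorInclusion) :=
    hpb.isIso_snd_of_isIso
  have hW2 : J.W (R.functorPullback u).functorInclusion := (J.W_iff _).2 hiso
  have hLS : Presheaf.IsLocallySurjective J (R.functorPullback u).functorInclusion :=
    GrothendieckTopology.W.isLocallySurjective hW2
  have h1 := Presheaf.imageSieve_mem J (R.functorPullback u).functorInclusion (U := op Y) (𝟙 Y)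
  refine J.superset_covering ?_ h1
  rintro W f ⟨v, hv⟩
  have : v.1 = f ≫ 𝟙 Y := hv
  rw [Category.comp_id] at this
  rw [← this]
  exact v.2


end


/-- Let `u : C ⥤ C'` be a functor between small sites. If the right Kan extension along `u` of the
underlying presheaf of every sheaf of sets on `C` is a sheaf on `C'`, then `u` is cocontinuous: for
every object `Y` of `C` and every covering sieve `R` of `u Y`, the sieve of morphisms `g : Z ⟶ Y`
with `u g ∈ R` covers `Y`. -/
theorem result
    {C : Type u} [SmallCategory C] {C' : Type u} [SmallCategory C']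
    (J : GrothendieckTopology C) (J' : GrothendieckTopology C') (u : C ⥤ C')
    (h : ∀ G : Sheaf J (Type u), Presheaf.IsSheaf J' ((u.op.ran).obj G.obj)) :
    u.IsCocontinuous J J' := by
  classical
  exact main J J' u h

end Groth.Agent.S6128
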