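import Groth.Statements.S6129
import Mathlib
import Groth.Agent.S6135

set_option autoImplicit false
open CategoryTheory CategoryTheory.Limits
universe u
open SGA4

namespace Groth.Agent.S6129

section
open CategoryTheory CategoryTheory.Limits Opposite Functor
open Groth.Agent.S6135

variable {C : Type u} [SmallCategory C] {C' : Type u} [SmallCategory C'] (u : C ⥤ C')

section slice
variable (hu : ∀ X : C, (Over.post (X := X) u).Full ∧ (Over.post (X := X) u).Faithful)

include hu in
/-- the slice condition: lifting of triangles -/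
theorem lift_tri {Z X₁ X₂ : C} (s : X₂ ⟶ X₁) (t₁ : Z ⟶ X₁) (f₂ : u.obj Z ⟶ u.obj X₂)
    (h : f₂ ≫ u.map s = u.map t₁) : ∃ t₂ : Z ⟶ X₂, u.map t₂ = f₂ := by
  have := (hu X₁).1
  let φ : (Over.post (X := X₁) u).obj (Over.mk t₁) ⟶ (Over.post (X := X₁) u).obj (Over.mk s) :=
    Over.homMk f₂ h
  obtain ⟨ψ, hψ⟩ := (Over.post (X := X₁) u).map_surjective φ
  refine ⟨ψ.left, ?_⟩
  have := congrArg CommaMorphism.left hψ
  exact this

end slice

section det
variable [u.Faithful] (H : Cᵒᵖ ⥤ Type u) (Z : C)

/-- the detecting map on a component -/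
noncomputable def det (g : CostructuredArrow u.op (op (u.obj Z))) (x : H.obj g.left) :
    Option (H.obj (op Z)) :=
  open Classical in
  if h : ∃ t : Z ⟶ g.left.unop, u.map t = g.hom.unop then some (H.map h.choose.op x) else none

theorem det_of (g : CostructuredArrow u.op (op (u.obj Z))) (x : H.obj g.left)
    (t : Z ⟶ g.left.unop) (ht : u.map t = g.hom.unop) : det u H Z g x = some (H.map t.op x) := by
  have h : ∃ t : Z ⟶ g.left.unop, u.map t = g.hom.unop := ⟨t, ht⟩
  have h1 : h.choose = t := u.map_injective (h.choose_spec.trans ht.symm)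
  rw [det, dif_pos h, h1]

theorem det_not (g : CostructuredArrow u.op (op (u.obj Z))) (x : H.obj g.left)
    (h : ¬ ∃ t : Z ⟶ g.left.unop, u.map t = g.hom.unop) : det u H Z g x = none := by
  rw [det, dif_neg h]

end det

section main
variable [u.Faithful]
  (hu : ∀ X : C, (Over.post (X := X) u).Full ∧ (Over.post (X := X) u).Faithful)
  (H : Cᵒᵖ ⥤ Type u) (Z : C)

include hu in
theorem det_nat {g₁ g₂ : CostructuredArrow u.op (op (u.obj Z))} (φ : g₁ ⟶ g₂)
    (x : H.obj g₁.left) :
    det u H Z g₂ (H.map φ.left x) = det u H Z g₁ x := by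
  have hw : g₂.hom.unop ≫ u.map φ.left.unop = g₁.hom.unop :=
    congrArg Quiver.Hom.unop (CostructuredArrow.w φ)
  by_cases h₂ : ∃ t : Z ⟶ g₂.left.unop, u.map t = g₂.hom.unop
  · obtain ⟨t₂, ht₂⟩ := h₂
    have ht₁ : u.map (t₂ ≫ φ.left.unop) = g₁.hom.unop := by rw [u.map_comp, ht₂, hw]
    rw [det_of u H Z g₂ _ t₂ ht₂, det_of u H Z g₁ _ _ ht₁]
    congr 1
    rw [op_comp, Functor.map_comp_apply]
    rfl
  · have h₁ : ¬ ∃ t : Z ⟶ g₁.left.unop, u.map t = g₁.hom.unop := by
      rintro ⟨t₁, ht₁⟩
      exact h₂ (lift_tri u hu φ.left.unop t₁ g₂.hom.unop (hw.trans ht₁.symm))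
    rw [det_not _ _ _ _ _ h₂, det_not _ _ _ _ _ h₁]

/-- the detecting cocone -/
noncomputable def detCocone : Cocone (CostructuredArrow.proj u.op (op (u.obj Z)) ⋙ H) where
  pt := Option (H.obj (op Z))
  ι :=
    { app := fun g => ↾(det u H Z g)
      naturality := fun g₁ g₂ φ => by
        ext x
        exact det_nat u hu H Z φ x }

/-- the pointwise colimit -/
noncomputable def hcol : IsColimit
    ((LeftExtension.mk (u.op.leftKanExtension H) (u.op.leftKanExtensionUnit H)).coconeAt
      (op (u.obj Z))) :=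
  isPointwiseLeftKanExtensionLeftKanExtensionUnit u.op H (op (u.obj Z))

theorem unit_eq : (adj u).unit.app H = u.op.leftKanExtensionUnit H := by
  rw [lanAdjunction_unit]
  rfl

/-- the detecting map -/
noncomputable def detMap : ((L u).obj H).obj (op (u.obj Z)) ⟶ Option (H.obj (op Z)) :=
  (hcol u H Z).desc (detCocone u hu H Z)

end main

section legs
variable [u.Faithful]
  (hu : ∀ X : C, (Over.post (X := X) u).Full ∧ (Over.post (X := X) u).Faithful)
  (H : Cᵒᵖ ⥤ Type u) (Z : C)

/-- the legs of the pointwise colimit -/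
noncomputable def leg (g : CostructuredArrow u.op (op (u.obj Z))) (x : H.obj g.left) :
    ((L u).obj H).obj (op (u.obj Z)) :=
  ((L u).obj H).map g.hom (((adj u).unit.app H).app g.left x)

theorem detMap_leg (g : CostructuredArrow u.op (op (u.obj Z))) (x : H.obj g.left) :
    detMap u hu H Z (leg u H Z g x) = det u H Z g x := by
  have h1 := (hcol u H Z).fac (detCocone u hu H Z) g
  have h2 := ConcreteCategory.congr_hom h1 x
  unfold leg
  rw [unit_eq]
  exact h2

theorem leg_surj (ξ : ((L u).obj H).obj (op (u.obj Z))) :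
    ∃ (g : CostructuredArrow u.op (op (u.obj Z))) (x : H.obj g.left), leg u H Z g x = ξ := by
  obtain ⟨g, x, hx⟩ := Types.jointly_surjective_of_isColimit (hcol u H Z) ξ
  refine ⟨g, x, ?_⟩
  unfold leg
  rw [unit_eq]
  exact hx

theorem leg_of_t (g : CostructuredArrow u.op (op (u.obj Z))) (x : H.obj g.left)
    (t : Z ⟶ g.left.unop) (ht : u.map t = g.hom.unop) :
    leg u H Z g x = ((adj u).unit.app H).app (op Z) (H.map t.op x) := by
  have h1 := NatTrans.naturality_apply ((adj u).unit.app H) t.op x
  have h2 : g.hom = (u.map t).op := by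
    rw [ht]
    rfl
  unfold leg
  rw [h2]
  exact h1.symm

theorem detMap_unit (x : H.obj (op Z)) :
    detMap u hu H Z (((adj u).unit.app H).app (op Z) x) = some x := by
  let g : CostructuredArrow u.op (op (u.obj Z)) :=
    CostructuredArrow.mk (Y := op Z) (𝟙 (u.op.obj (op Z)))
  have ht : u.map (𝟙 Z) = g.hom.unop := u.map_id Z
  have h1 := leg_of_t u H Z g x (𝟙 Z) ht
  have h2 := detMap_leg u hu H Z g x
  rw [det_of u H Z g x (𝟙 Z) ht] at h2
  have h3 : H.map (𝟙 Z).op x = x := by
    rw [op_id]
    simp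
  rw [h3] at h1 h2
  rw [← h1, h2]

theorem leg_nat {K : Cᵒᵖ ⥤ Type u} (α : H ⟶ K) (g : CostructuredArrow u.op (op (u.obj Z)))
    (x : H.obj g.left) :
    ((L u).map α).app (op (u.obj Z)) (leg u H Z g x) = leg u K Z g (α.app g.left x) := by
  have h1 := NatTrans.naturality_apply ((L u).map α) g.hom (((adj u).unit.app H).app g.left x)
  unfold leg
  rw [h1]
  congr 1
  exact unit_nat_apply u α g.left.unop x

end legs

section fin
variable [u.Faithful]
  (hu : ∀ X : C, (Over.post (X := X) u).Full ∧ (Over.post (X := X) u).Faithful)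

include hu in
theorem unit_inj' (H : Cᵒᵖ ⥤ Type u) (Z : C) :
    Function.Injective (((adj u).unit.app H).app (op Z)) := by
  intro x y hxy
  have h1 := detMap_unit u hu H Z x
  rw [hxy, detMap_unit u hu H Z y] at h1
  exact (Option.some.inj h1).symm

include hu in
theorem main :
    (u.op.lan : (Cᵒᵖ ⥤ Type u) ⥤ (C'ᵒᵖ ⥤ Type u)).Faithful ∧
    (∀ H : Cᵒᵖ ⥤ Type u, Mono ((u.op.lanAdjunction (Type u)).unit.app H)) ∧
    ∀ (H K : Cᵒᵖ ⥤ Type u) (α : H ⟶ K),
      IsPullback ((u.op.lanAdjunction (Type u)).unit.app H) α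
        (((Functor.whiskeringLeft Cᵒᵖ C'ᵒᵖ (Type u)).obj u.op).map (u.op.lan.map α))
        ((u.op.lanAdjunction (Type u)).unit.app K) := by
  refine ⟨⟨fun {H K} φ ψ h => ?_⟩, fun H => ?_, fun H K α => ?_⟩
  · have h' : (L u).map φ = (L u).map ψ := h
    ext ⟨Z⟩ x
    apply unit_inj' u hu K Z
    exact ((unit_nat_apply u φ Z x).symm.trans (by rw [h'])).trans (unit_nat_apply u ψ Z x)
  · have : ∀ Z : Cᵒᵖ, Mono (((adj u).unit.app H).app Z) := by
      rintro ⟨Z⟩
      rw [mono_iff_injective]
      exact unit_inj' u hu H Z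
    exact NatTrans.mono_of_mono_app _
  · refine IsPullback.of_forall_isPullback_app (fun Z => ?_)
    obtain ⟨Z⟩ := Z
    rw [Types.isPullback_iff]
    refine ⟨?_, ?_, ?_⟩
    · ext x
      exact unit_nat_apply u α Z x
    · rintro x y ⟨h1, -⟩
      exact unit_inj' u hu H Z h1
    · intro ξ k hξ
      obtain ⟨g, x, rfl⟩ := leg_surj u H Z ξ
      have h1 : ((L u).map α).app (op (u.obj Z)) (leg u H Z g x) =
          ((adj u).unit.app K).app (op Z) k := hξ
      rw [leg_nat] at h1
      have h2 := congrArg (detMap u hu K Z) h1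
      rw [detMap_leg, detMap_unit] at h2
      by_cases ht : ∃ t : Z ⟶ g.left.unop, u.map t = g.hom.unop
      · obtain ⟨t, ht⟩ := ht
        rw [det_of u K Z g _ t ht] at h2
        refine ⟨H.map t.op x, (leg_of_t u H Z g x t ht).symm, ?_⟩
        have h3 := NatTrans.naturality_apply α t.op x
        exact h3.trans (Option.some.inj h2)
      · rw [det_not u K Z g _ ht] at h2
        exact absurd h2 (by simp)

end fin


end


/-- Let `u : C ⥤ C'` be a faithful functor between small categories such that for every object `X` of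
`C` the induced functor on over-categories `C/X ⥤ C'/u X` is full and faithful. Then the left Kan
extension functor `u_!` on presheaves of sets is faithful, the unit `H ⟶ u^* u_! H` of the
adjunction `u_! ⊣ u^*` is a monomorphism for every presheaf `H`, and for every morphism of
presheaves `α : H ⟶ K` the naturality square of the unit at `α` (with sides `α` and `u^* u_! α`) is
cartesian. (The published statement assumes only the condition on the slice functors, and its proof
uses that `u` is faithful; the slice condition alone does not suffice: for a nontrivial group viewed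
as a one-object category mapping to the point every slice functor is an equivalence, while `u_!` is
the orbit-set functor on `G`-sets, which is not faithful, and the unit `G ⟶ G/G` is not a
monomorphism. So `u` is taken faithful here.) -/
theorem result
    {C : Type u} [SmallCategory C] {C' : Type u} [SmallCategory C'] (u : C ⥤ C') [u.Faithful]
    (hu : ∀ X : C, (Over.post (X := X) u).Full ∧ (Over.post (X := X) u).Faithful) :
    (u.op.lan : (Cᵒᵖ ⥤ Type u) ⥤ (C'ᵒᵖ ⥤ Type u)).Faithful ∧
    (∀ H : Cᵒᵖ ⥤ Type u, Mono ((u.op.lanAdjunction (Type u)).unit.app H)) ∧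
    ∀ (H K : Cᵒᵖ ⥤ Type u) (α : H ⟶ K),
      IsPullback ((u.op.lanAdjunction (Type u)).unit.app H) α
        (((Functor.whiskeringLeft Cᵒᵖ C'ᵒᵖ (Type u)).obj u.op).map (u.op.lan.map α))
        ((u.op.lanAdjunction (Type u)).unit.app K) := by
  classical
  exact main u hu

end Groth.Agent.S6129
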