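import Groth.Statements.S6131
import Mathlib.CategoryTheory.Sites.Closed
import Mathlib.CategoryTheory.Sites.Sheafification

set_option autoImplicit false
open CategoryTheory CategoryTheory.Limits
universe u
open SGA4

namespace Groth.Agent.S6131

/-- For a small site `(C, J)` and an object `X` of `C`, the sheaf associated to the presheaf represented
by `X` is an initial object of the category of sheaves of sets if and only if the empty sieve covers
`X`. -/
theorem result
    {C : Type u} [SmallCategory C] (J : GrothendieckTopology C) (X : C) :
    Nonempty (IsInitial ((presheafToSheaf J (Type u)).obj (yoneda.obj X))) ↔ (⊥ : Sieve X) ∈ J X := by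
  constructor
  · rintro ⟨hI⟩
    rw [GrothendieckTopology.mem_iff_isSheafFor_closedSieves]
    let F : Sheaf J (Type u) := ⟨(Functor.closedSieves J).toFunctor,
      (isSheaf_iff_isSheaf_of_type J _).mpr (classifier_isSheaf J)⟩
    let e : ((presheafToSheaf J (Type u)).obj (yoneda.obj X) ⟶ F) ≃ F.obj.obj (Opposite.op X) :=
      ((sheafificationAdjunction J (Type u)).homEquiv (yoneda.obj X) F).trans yonedaEquiv
    have hsub : Subsingleton (F.obj.obj (Opposite.op X)) := by
      refine ⟨fun a b => ?_⟩
      have := hI.hom_ext (e.symm a) (e.symm b)
      exact e.symm.injective this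
    intro x hx
    refine ⟨e (hI.to F), ?_, ?_⟩
    · intro Y f hf
      exact absurd hf (by simp)
    · intro y _
      exact hsub.elim _ _
  · intro H
    refine ⟨@IsInitial.ofUnique _ _ _ (fun F => ?_)⟩
    let e : ((presheafToSheaf J (Type u)).obj (yoneda.obj X) ⟶ F) ≃ F.obj.obj (Opposite.op X) :=
      ((sheafificationAdjunction J (Type u)).homEquiv (yoneda.obj X) F).trans yonedaEquiv
    have hT := Sheaf.isTerminalOfBotCover F X H
    have hU : Unique (F.obj.obj (Opposite.op X)) := (Types.isTerminalEquivUnique _) hT
    exact Equiv.unique e

end Groth.Agent.S6131
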