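import Groth.Statements.S6137
import Mathlib

set_option autoImplicit false
open CategoryTheory CategoryTheory.Limits
universe v u
open SGA4

namespace Groth.Agent.S6137

section
open CategoryTheory CategoryTheory.Limits Opposite
variable {C : Type u} [Category.{v} C]

/-- the presheaf on `Cᵒᵖ` attached to a corepresentable functor is representable -/
def isoYoneda (X : C) : unopUnop C ⋙ coyoneda.obj (op X) ≅ yoneda.obj (op X) :=
  NatIso.ofComponents (fun Z =>
    { hom := TypeCat.ofHom (fun (f : X ⟶ Z.unop.unop) => (Quiver.Hom.op f : Z.unop ⟶ op X))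
      inv := TypeCat.ofHom (fun (g : Z.unop ⟶ op X) => (Quiver.Hom.unop g : X ⟶ Z.unop.unop))
      hom_inv_id := by ext f; rfl
      inv_hom_id := by ext f; rfl })
    (by
      intro Z Z' g
      ext f
      rfl)

theorem forward (F : C ⥤ Type v) (h : F.IsCorepresentable) :
    IsIndObject (unopUnop C ⋙ F) ∧ PreservesLimitsOfSize.{v, v} F := by
  constructor
  · have e : unopUnop C ⋙ F ≅ yoneda.obj (op F.coreprX) :=
      Functor.isoWhiskerLeft (unopUnop C) F.coreprW.symm ≪≫ isoYoneda F.coreprX
    exact IsIndObject.map e.inv (isIndObject_yoneda _)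
  · exact preservesLimits_of_natIso F.coreprW

theorem backward [HasLimitsOfSize.{v, v} C] (F : C ⥤ Type v)
    (h1 : IsIndObject (unopUnop C ⋙ F)) (h2 : PreservesLimitsOfSize.{v, v} F) :
    F.IsCorepresentable := by
  obtain ⟨⟨P⟩⟩ := h1
  have : HasProducts.{v} F.Elements := fun J => inferInstance
  have : HasWideEqualizers.{v} F.Elements := fun J => inferInstance
  let B : P.I → F.Elements := fun i =>
    ⟨(P.F.obj i).unop, (P.ι.app i).app (op (P.F.obj i)) (𝟙 (P.F.obj i))⟩
  have hB : ∀ A : F.Elements, ∃ i, Nonempty (B i ⟶ A) := by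
    rintro ⟨Y, y⟩
    have hcol := isColimitOfPreserves ((evaluation _ _).obj (op (op Y))) P.isColimit
    obtain ⟨i, f, hf⟩ := Types.jointly_surjective_of_isColimit hcol y
    obtain ⟨f', hf'⟩ : ∃ f' : op Y ⟶ P.F.obj i, f' = f := ⟨_, rfl⟩
    have hf2 : (P.ι.app i).app (op (op Y)) f' = y := by rw [hf']; exact hf
    refine ⟨i, ⟨⟨f'.unop, ?_⟩⟩⟩
    have hnat : (P.ι.app i).app (op (op Y)) ((yoneda.obj (P.F.obj i)).map f'.op (𝟙 (P.F.obj i)))
        = (unopUnop C ⋙ F).map f'.op ((P.ι.app i).app (op (P.F.obj i)) (𝟙 (P.F.obj i))) :=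
      NatTrans.naturality_apply (P.ι.app i) f'.op (𝟙 (P.F.obj i))
    have h3 : (yoneda.obj (P.F.obj i)).map f'.op (𝟙 (P.F.obj i)) = f' := by
      simp
    rw [h3, hf2] at hnat
    exact hnat.symm
  obtain ⟨T, hT⟩ := has_weakly_initial_of_weakly_initial_set_and_hasProducts hB
  haveI := hasInitial_of_weakly_initial_and_hasWideEqualizers hT
  exact Functor.Elements.isCorepresentable_of_hasInitial F

theorem main [HasLimitsOfSize.{v, v} C] (F : C ⥤ Type v) :
    F.IsCorepresentable ↔
      IsIndObject (unopUnop C ⋙ F) ∧ PreservesLimitsOfSize.{v, v} F :=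
  ⟨forward F, fun h => backward F h.1 h.2⟩

end


/-- Let `C` be a category with `v`-small hom-sets admitting all `v`-small limits, and `F : C ⥤ Type v` a
functor. Then `F` is corepresentable if and only if it is pro-representable (viewed as a presheaf on
`Cᵒᵖ` it is an ind-object, i.e. a small filtered colimit of corepresentable functors) and preserves
all `v`-small limits. -/
theorem result
    {C : Type u} [Category.{v} C] [HasLimitsOfSize.{v, v} C] (F : C ⥤ Type v) :
    F.IsCorepresentable ↔
      IsIndObject (unopUnop C ⋙ F) ∧ PreservesLimitsOfSize.{v, v} F := by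
  classical
  exact main F

end Groth.Agent.S6137
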