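import Groth.Statements.S6138
import Mathlib

set_option autoImplicit false
open CategoryTheory CategoryTheory.Limits Opposite
universe v u
open SGA4

namespace Groth.Agent.S6138



theorem main
    {C : Type u} [Category.{v} C] [HasCoequalizers C] [HasPullbacks C]
    (F : Cᵒᵖ ⥤ Type v) [PreservesLimitsOfShape WalkingParallelPair F]
    {X : C} (u : F.obj (op X)) :
    (∀ (Y : C) (v v' : Y ⟶ X), F.map v.op u = F.map v'.op u → v = v') ↔
      ∀ (X' : C) (p : X ⟶ X') (u' : F.obj (op X')),
        EffectiveEpi p → F.map p.op u' = u → IsIso p := by
  constructor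
  · intro hinj X' p u' hp hu
    have h1 : pullback.fst p p = pullback.snd p p := by
      apply hinj
      rw [← hu]
      have e1 : F.map (pullback.fst p p).op (F.map p.op u') = F.map ((pullback.fst p p) ≫ p).op u' := by
        rw [op_comp, F.map_comp]; rfl
      have e2 : F.map (pullback.snd p p).op (F.map p.op u') = F.map ((pullback.snd p p) ≫ p).op u' := by
        rw [op_comp, F.map_comp]; rfl
      rw [e1, e2, pullback.condition]
    haveI : Mono p := by
      refine ⟨fun {Z} a b hab => ?_⟩
      have ha : a = pullback.lift a b hab ≫ pullback.fst p p := (pullback.lift_fst _ _ _).symm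
      have hb : b = pullback.lift a b hab ≫ pullback.snd p p := (pullback.lift_snd _ _ _).symm
      calc a = pullback.lift a b hab ≫ pullback.fst p p := ha
        _ = pullback.lift a b hab ≫ pullback.snd p p := by rw [h1]
        _ = b := hb.symm
    exact isIso_of_regularEpi_of_mono p (regularEpiOfEffectiveEpi p)
  · intro hmin Y v v' hvv
    let q := coequalizer.π v v'
    have hq : v ≫ q = v' ≫ q := coequalizer.condition v v'
    have hcolim : IsColimit (Cofork.ofπ q hq) := coequalizerIsCoequalizer v v'
    have hq' : q.op ≫ v.op = q.op ≫ v'.op := by rw [← op_comp, ← op_comp, hq]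
    have hlim : IsLimit (Fork.ofι q.op hq') :=
      Cofork.isColimitOfπEquivIsLimitOp q q hq hq' rfl hcolim
    have hlimF := isLimitForkMapOfIsLimit F hq' hlim
    obtain ⟨u', hu', -⟩ := Types.unique_of_type_equalizer _ _ hlimF u hvv
    haveI : IsIso q := hmin _ q u' (RegularEpi.effectiveEpi
      { W := Y, left := v, right := v', w := hq, isColimit := hcolim }) hu'
    exact (cancel_mono q).1 hq



/-- Let `C` have coequalizers and pullbacks, let `F` be a presheaf of sets on `C` taking coequalizers of
`C` to equalizers, and let `u ∈ F(X)`, viewed as a morphism `h_X ⟶ F`. Then this morphism is a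
monomorphism (the map `v ↦ F(v)(u)` is injective on `Hom(Y, X)` for every `Y`) if and only if `u` is
minimal: whenever `u = F(p)(u')` for an effective epimorphism `p : X ⟶ X'` and some `u' ∈ F(X')`,
`p` is an isomorphism. (Coequalizers are used for one implication and pullbacks for the other; both
are assumed here.) -/
theorem result
    {C : Type u} [Category.{v} C] [HasCoequalizers C] [HasPullbacks C]
    (F : Cᵒᵖ ⥤ Type v) [PreservesLimitsOfShape WalkingParallelPair F]
    {X : C} (u : F.obj (op X)) :
    (∀ (Y : C) (v v' : Y ⟶ X), F.map v.op u = F.map v'.op u → v = v') ↔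
      ∀ (X' : C) (p : X ⟶ X') (u' : F.obj (op X')),
        EffectiveEpi p → F.map p.op u' = u → IsIso p := by
  classical
  exact main F u

end Groth.Agent.S6138
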