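import Groth.Statements.S6139
-- import your own Groth.Agent.* helpers here

set_option autoImplicit false
open CategoryTheory CategoryTheory.Limits
universe v u
open SGA4

namespace Groth.Agent.S6139

/-- For an object `X` of a category `C`, the empty sieve on `X` is covering for the canonical topology
of `C` (the finest topology for which every representable presheaf is a sheaf) if and only if `X` is
a strict initial object: `X` is initial and every morphism with target `X` is an isomorphism. (The
source phrases the first condition as: for some topology coarser than the canonical one the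
associated sheaf of `h_X` is initial; that sheaf is initial exactly when the empty sieve covers `X`,
and coverage by the empty sieve passes to the finer canonical topology.) -/
theorem result
    {C : Type u} [Category.{v} C] (X : C) :
    (⊥ : Sieve X) ∈ Sheaf.canonicalTopology C X ↔
      (Nonempty (IsInitial X) ∧ ∀ (Y : C) (f : Y ⟶ X), IsIso f) := by
  constructor
  · intro h
    -- every object mapping to X is initial
    have key : ∀ (Y : C) (f : Y ⟶ X) (Z : C), ∃! t : Y ⟶ Z, True := by
      intro Y f Z
      have h1 : (⊥ : Sieve X).pullback f ∈ Sheaf.canonicalTopology C Y :=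
        (Sheaf.canonicalTopology C).pullback_stable f h
      have h2 := Sheaf.isSheaf_yoneda_obj Z _ h1
      have hfalse : ∀ {W : C} (g : W ⟶ Y), ((⊥ : Sieve X).pullback f).arrows g → False := by
        intro W g hg
        exact hg
      obtain ⟨t, -, ht⟩ := h2 (fun W g hg ↦ (hfalse g hg).elim) (fun _ _ _ _ _ _ _ h₁ _ _ ↦ (hfalse _ h₁).elim)
      exact ⟨t, trivial, fun t' _ ↦ ht t' (fun W g hg ↦ (hfalse g hg).elim)⟩
    have init : ∀ (Y : C) (f : Y ⟶ X), IsInitial Y := fun Y f ↦
      IsInitial.ofUniqueHom (fun Z ↦ (key Y f Z).choose) (fun Z m ↦ (key Y f Z).choose_spec.2 m trivial)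
    refine ⟨⟨init X (𝟙 X)⟩, fun Y f ↦ ?_⟩
    have hY := init Y f
    have hX := init X (𝟙 X)
    refine ⟨hX.to Y, hY.hom_ext _ _, hX.hom_ext _ _⟩
  · rintro ⟨⟨hX⟩, hiso⟩
    apply Sheaf.mem_finestTopology_of_forall_isSheafFor
    rintro P ⟨Z, rfl⟩ Y f
    have := hiso Y f
    have hY : IsInitial Y := hX.ofIso (asIso f).symm
    intro x hx
    refine ⟨hY.to Z, fun W g hg ↦ (hg : False).elim, fun t _ ↦ hY.hom_ext _ _⟩

end Groth.Agent.S6139
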