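import Groth.Statements.S6140
import Mathlib
import Groth.Agent.S12108

set_option autoImplicit false
open CategoryTheory CategoryTheory.Limits
universe u
open SGA4

namespace Groth.Agent.S6140

section
open CategoryTheory CategoryTheory.Limits
open Opposite

variable {C : Type u} [SmallCategory C]

section general
variable (J : GrothendieckTopology C) {R X B : C} (p₁ p₂ : R ⟶ X) (π : X ⟶ B)

/-- the elementary coequalizer property -/
def Ecoeq : Prop := ∀ F : Cᵒᵖ ⥤ Type u, Presheaf.IsSheaf J F →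
  ∀ x : F.obj (op X), F.map p₁.op x = F.map p₂.op x → ∃! t : F.obj (op B), F.map π.op t = x

/-- the sieve generated by `π` -/
abbrev Sπ : Sieve B := Sieve.ofArrows (fun _ : Unit => X) (fun _ => π)

/-- local effectivity -/
def B'' : Prop := ∀ (Z : C) (g₁ g₂ : Z ⟶ X), g₁ ≫ π = g₂ ≫ π →
  ∃ S ∈ J Z, ∀ W (k : W ⟶ Z), S k → ∃ r : W ⟶ R, r ≫ p₁ = k ≫ g₁ ∧ r ≫ p₂ = k ≫ g₂

theorem map_comp_apply' (F : Cᵒᵖ ⥤ Type u) {U V W : C} (f : U ⟶ V) (g : V ⟶ W)
    (x : F.obj (op W)) : F.map (f ≫ g).op x = F.map f.op (F.map g.op x) := by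
  rw [op_comp, Functor.map_comp]
  rfl

theorem Ecoeq_of (hA : Sπ π ∈ J B) (hB : B'' J p₁ p₂ π) : Ecoeq J p₁ p₂ π := by
  intro F hF x hx
  have hF' : Presieve.IsSheaf J F := (isSheaf_iff_isSheaf_of_type J F).1 hF
  have hS := hF' _ hA
  have hS' : Presieve.IsSheafFor F (Presieve.ofArrows (fun _ : Unit => X) (fun _ => π)) :=
    (Presieve.isSheafFor_iff_generate _).2 hS
  rw [Presieve.isSheafFor_arrows_iff] at hS'
  have hcomp : Presieve.Arrows.Compatible F (fun _ : Unit => π) (fun _ => x) := by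
    intro _ _ Z g₁ g₂ h12
    obtain ⟨S, hS, hk⟩ := hB Z g₁ g₂ h12
    apply (hF' S hS).isSeparatedFor.ext
    intro W k hkS
    obtain ⟨r, hr1, hr2⟩ := hk W k hkS
    rw [← map_comp_apply', ← map_comp_apply', ← hr1, ← hr2, map_comp_apply', map_comp_apply', hx]
  obtain ⟨t, ht, huniq⟩ := hS' (fun _ => x) hcomp
  exact ⟨t, ht (), fun t' ht' => huniq t' (fun _ => ht')⟩

theorem A_of_Ecoeq (w : p₁ ≫ π = p₂ ≫ π) (hE : Ecoeq J p₁ p₂ π) : Sπ π ∈ J B := by
  have hW : J.W (Sπ π).functorInclusion := by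
    intro F hF
    rw [Groth.Agent.S12108.bij_iff_ysc]
    show Presieve.IsSheafFor F (Sieve.generate (Presieve.ofArrows _ _)).arrows
    rw [← Presieve.isSheafFor_iff_generate, Presieve.isSheafFor_arrows_iff]
    intro x hx
    have h12 : F.map p₁.op (x ()) = F.map p₂.op (x ()) := hx () () R p₁ p₂ w
    obtain ⟨t, ht, huniq⟩ := hE F hF (x ()) h12
    exact ⟨t, fun _ => ht, fun t' ht' => huniq t' (ht' ())⟩
  have hLS : Presheaf.IsLocallySurjective J (Sπ π).functorInclusion :=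
    GrothendieckTopology.W.isLocallySurjective hW
  have h1 := Presheaf.imageSieve_mem J (Sπ π).functorInclusion (U := op B) (𝟙 B)
  refine J.superset_covering ?_ h1
  rintro W f ⟨u, hu⟩
  have : u.1 = f ≫ 𝟙 B := hu
  rw [Category.comp_id] at this
  rw [← this]
  exact u.2

/-- the relation on `W ⟶ X` induced by `R` -/
def rel (W : C) (a b : W ⟶ X) : Prop := ∃ f : W ⟶ R, f ≫ p₁ = a ∧ f ≫ p₂ = b

/-- the presheaf quotient of `h_X` by `h_R` -/
def Q : Cᵒᵖ ⥤ Type u where
  obj W := Quot (rel p₁ p₂ W.unop)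
  map {W V} k := ↾(Quot.map (fun g => k.unop ≫ g) (by
    rintro a b ⟨f, hf1, hf2⟩
    exact ⟨k.unop ≫ f, by rw [Category.assoc, hf1], by rw [Category.assoc, hf2]⟩))
  map_id W := by
    ext q
    induction q using Quot.inductionOn with
    | h a => exact congrArg (Quot.mk _) (Category.id_comp a)
  map_comp k l := by
    ext q
    induction q using Quot.inductionOn with
    | h a => exact congrArg (Quot.mk _) (Category.assoc _ _ _)

/-- the class of a morphism -/
def qmk {W : C} (g : W ⟶ X) : (Q p₁ p₂).obj (op W) := Quot.mk _ g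

theorem Q_map_qmk {W V : C} (k : V ⟶ W) (g : W ⟶ X) :
    (Q p₁ p₂).map k.op (qmk p₁ p₂ g) = qmk p₁ p₂ (k ≫ g) := rfl

theorem qmk_eq_iff (hR : SGA4.IsEquivRel p₁ p₂) {W : C} (a b : W ⟶ X) :
    qmk p₁ p₂ a = qmk p₁ p₂ b ↔ ∃ f : W ⟶ R, f ≫ p₁ = a ∧ f ≫ p₂ = b := by
  have h1 : qmk p₁ p₂ a = qmk p₁ p₂ b ↔
      (Quot.mk (rel p₁ p₂ W) a : Quot (rel p₁ p₂ W)) = Quot.mk (rel p₁ p₂ W) b := Iff.rfl
  rw [h1, Quot.eq]
  exact (hR W).2.eqvGen_iff

theorem B_of_Ecoeq (hR : SGA4.IsEquivRel p₁ p₂) (hE : Ecoeq J p₁ p₂ π) : B'' J p₁ p₂ π := by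
  have hη : ∀ (Z W : C) (g : W ⟶ Z) (o : (Q p₁ p₂).obj (op Z)),
      (sheafify J (Q p₁ p₂)).map g.op ((toSheafify J (Q p₁ p₂)).app (op Z) o) =
        (toSheafify J (Q p₁ p₂)).app (op W) ((Q p₁ p₂).map g.op o) := by
    intro Z W g o
    exact (congrArg (fun m => m o) ((toSheafify J (Q p₁ p₂)).naturality g.op)).symm
  have hx : (sheafify J (Q p₁ p₂)).map p₁.op ((toSheafify J (Q p₁ p₂)).app (op X) (qmk p₁ p₂ (𝟙 X))) =
      (sheafify J (Q p₁ p₂)).map p₂.op ((toSheafify J (Q p₁ p₂)).app (op X) (qmk p₁ p₂ (𝟙 X))) := by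
    rw [hη, hη, Q_map_qmk, Q_map_qmk]
    congr 1
    rw [qmk_eq_iff p₁ p₂ hR]
    exact ⟨𝟙 R, by simp, by simp⟩
  obtain ⟨t, ht, -⟩ := hE (sheafify J (Q p₁ p₂))
    ((presheafToSheaf J (Type u)).obj (Q p₁ p₂)).property _ hx
  intro Z g₁ g₂ h12
  have e : ∀ g : Z ⟶ X, (toSheafify J (Q p₁ p₂)).app (op Z) (qmk p₁ p₂ g) =
      (sheafify J (Q p₁ p₂)).map (g ≫ π).op t := by
    intro g
    rw [map_comp_apply', ht, hη, Q_map_qmk, Category.comp_id]
  have h3 : (toSheafify J (Q p₁ p₂)).app (op Z) (qmk p₁ p₂ g₁) =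
      (toSheafify J (Q p₁ p₂)).app (op Z) (qmk p₁ p₂ g₂) := by rw [e, e, h12]
  refine ⟨_, Presheaf.equalizerSieve_mem J _ _ _ h3, ?_⟩
  intro W k hk
  exact (qmk_eq_iff p₁ p₂ hR _ _).1 hk

theorem Ecoeq_iff (hR : SGA4.IsEquivRel p₁ p₂) (w : p₁ ≫ π = p₂ ≫ π) :
    Ecoeq J p₁ p₂ π ↔ (Sπ π ∈ J B ∧ B'' J p₁ p₂ π) :=
  ⟨fun hE => ⟨A_of_Ecoeq J p₁ p₂ π w hE, B_of_Ecoeq J p₁ p₂ π hR hE⟩,
    fun h => Ecoeq_of J p₁ p₂ π h.1 h.2⟩

open Groth.Agent.S12108 in
theorem ii_iff_Ecoeq (c : Cofork p₁ p₂) :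
    Nonempty (IsColimit ((yoneda ⋙ presheafToSheaf J (Type u)).mapCocone c)) ↔
      Ecoeq J p₁ p₂ c.π := by
  have e1 : IsColimit ((yoneda ⋙ presheafToSheaf J (Type u)).mapCocone c) ≃
      IsColimit ((yoneda ⋙ presheafToSheaf J (Type u)).mapCocone (Cofork.ofπ c.π c.condition)) :=
    IsColimit.equivIsoColimit ((Cocone.functoriality _ (yoneda ⋙ presheafToSheaf J (Type u))).mapIso
      (Cofork.isoCoforkOfπ c))
  have e2 := isColimitMapCoconeCoforkEquiv (yoneda ⋙ presheafToSheaf J (Type u)) c.condition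
  rw [(e1.trans e2).nonempty_congr]
  constructor
  · rintro ⟨hc⟩ F hF x hx
    let F' : Sheaf J (Type u) := ⟨F, hF⟩
    have hφ : (yoneda ⋙ presheafToSheaf J (Type u)).map p₁ ≫ (ev J X F').symm x =
        (yoneda ⋙ presheafToSheaf J (Type u)).map p₂ ≫ (ev J X F').symm x := by
      apply (ev J R F').injective
      show ev J R F' ((presheafToSheaf J (Type u)).map (yoneda.map p₁) ≫ _) =
        ev J R F' ((presheafToSheaf J (Type u)).map (yoneda.map p₂) ≫ _)
      rw [ev_nat, ev_nat, Equiv.apply_symm_apply]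
      exact hx
    obtain ⟨m, hm⟩ := Cofork.IsColimit.desc' hc _ hφ
    have hm' : (presheafToSheaf J (Type u)).map (yoneda.map c.π) ≫ m = (ev J X F').symm x := hm
    refine ⟨ev J c.pt F' m, ?_, ?_⟩
    · show F'.obj.map c.π.op _ = x
      rw [← ev_nat, hm', Equiv.apply_symm_apply]
    · intro t' ht'
      have h1 : (ev J c.pt F').symm t' = m := by
        apply Cofork.IsColimit.hom_ext hc
        show (presheafToSheaf J (Type u)).map (yoneda.map c.π) ≫ _ =
          (presheafToSheaf J (Type u)).map (yoneda.map c.π) ≫ _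
        rw [hm']
        apply (ev J X F').injective
        rw [ev_nat, Equiv.apply_symm_apply, Equiv.apply_symm_apply]
        exact ht'
      rw [← h1, Equiv.apply_symm_apply]
  · intro hE
    refine ⟨Cofork.IsColimit.mk' _ (fun s => ?_)⟩
    have hcond : (presheafToSheaf J (Type u)).map (yoneda.map p₁) ≫ s.π =
        (presheafToSheaf J (Type u)).map (yoneda.map p₂) ≫ s.π := s.condition
    have hx : s.pt.obj.map p₁.op (ev J X s.pt s.π) = s.pt.obj.map p₂.op (ev J X s.pt s.π) := by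
      rw [← ev_nat, ← ev_nat, hcond]
    have hex := hE s.pt.obj s.pt.property _ hx
    have ht := hex.choose_spec.1
    have huniq := hex.choose_spec.2
    refine ⟨(ev J c.pt s.pt).symm hex.choose, ?_, ?_⟩
    · apply (ev J X s.pt).injective
      show ev J X s.pt ((presheafToSheaf J (Type u)).map (yoneda.map c.π) ≫ _) = _
      rw [ev_nat, Equiv.apply_symm_apply]
      exact ht
    · intro m hm
      have hm' : (presheafToSheaf J (Type u)).map (yoneda.map c.π) ≫ m = s.π := hm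
      apply (ev J c.pt s.pt).injective
      rw [Equiv.apply_symm_apply]
      apply huniq
      show s.pt.obj.map c.π.op _ = _
      rw [← ev_nat, hm']

end general

section canonical

theorem pullback_sieve_eq {X B Z : C} (π : X ⟶ B) (g : Z ⟶ B) [HasPullback π g] :
    (Sπ π).pullback g = Sieve.generate (Presieve.singleton (pullback.snd π g)) := by
  rw [Sieve.generateSingleton_eq]
  ext W h
  rw [Sieve.pullback_apply, Sieve.mem_ofArrows_iff]
  constructor
  · rintro ⟨_, u, hu⟩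
    exact ⟨pullback.lift u h hu.symm, pullback.lift_snd _ _ _⟩
  · rintro ⟨e, rfl⟩
    exact ⟨(), e ≫ pullback.fst π g, by rw [Category.assoc, Category.assoc, pullback.condition]⟩

theorem isSheafFor_pullback_of_effectiveEpi {X B Z : C} (π : X ⟶ B) (g : Z ⟶ B) [HasPullback π g]
    (h : EffectiveEpi (pullback.snd π g)) (T : C) :
    Presieve.IsSheafFor (yoneda.obj T) ((Sπ π).pullback g).arrows := by
  rw [pullback_sieve_eq, ← Presieve.isSheafFor_iff_generate]
  exact (Presieve.EffectiveEpimorphic.iff_forall_isSheafFor_yoneda _).1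
    ((Sieve.effectiveEpimorphic_singleton _).2 h) T

theorem effectiveEpi_of_mem {X B Z : C} (π : X ⟶ B) (g : Z ⟶ B) [HasPullback π g]
    (h : Sπ π ∈ Sheaf.canonicalTopology C B) : EffectiveEpi (pullback.snd π g) := by
  rw [← Sieve.effectiveEpimorphic_singleton, Presieve.EffectiveEpimorphic.iff_forall_isSheafFor_yoneda]
  intro T
  rw [Presieve.isSheafFor_iff_generate, ← pullback_sieve_eq]
  exact Sheaf.isSheaf_yoneda_obj T _ ((Sheaf.canonicalTopology C).pullback_stable g h)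

variable [HasPullbacks C] {R X : C} (p₁ p₂ : R ⟶ X) (hR : SGA4.IsEquivRel p₁ p₂)
  (c : Cofork p₁ p₂) (hc : IsColimit c)

include hR in
theorem inj_R {V : C} (a b : V ⟶ R) (h1 : a ≫ p₁ = b ≫ p₁) (h2 : a ≫ p₂ = b ≫ p₂) : a = b :=
  (hR V).1 (Prod.ext h1 h2)

include hR hc in
theorem effUniv_of (hA : Sπ c.π ∈ Sheaf.canonicalTopology C c.pt)
    (hB : B'' (Sheaf.canonicalTopology C) p₁ p₂ c.π) :
    SGA4.IsEffectiveUniversalEquivRel p₁ p₂ := by
  have hglob : ∀ (Z : C) (g₁ g₂ : Z ⟶ X), g₁ ≫ c.π = g₂ ≫ c.π →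
      ∃ r : Z ⟶ R, r ≫ p₁ = g₁ ∧ r ≫ p₂ = g₂ := by
    intro Z g₁ g₂ h12
    obtain ⟨S, hS, hk⟩ := hB Z g₁ g₂ h12
    let x : Presieve.FamilyOfElements (yoneda.obj R) S.arrows :=
      fun W k hkS => (hk W k hkS).choose
    have hxs : ∀ W (k : W ⟶ Z) (hkS : S k), x k hkS ≫ p₁ = k ≫ g₁ ∧ x k hkS ≫ p₂ = k ≫ g₂ :=
      fun W k hkS => (hk W k hkS).choose_spec
    have hcompat : x.Compatible := by
      intro Y₁ Y₂ V h₁ h₂ f₁ f₂ hf₁ hf₂ hcomm
      apply inj_R p₁ p₂ hR
      · show (h₁ ≫ x f₁ hf₁) ≫ p₁ = (h₂ ≫ x f₂ hf₂) ≫ p₁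
        rw [Category.assoc, Category.assoc, (hxs _ f₁ hf₁).1, (hxs _ f₂ hf₂).1, ← Category.assoc,
          ← Category.assoc, hcomm]
      · show (h₁ ≫ x f₁ hf₁) ≫ p₂ = (h₂ ≫ x f₂ hf₂) ≫ p₂
        rw [Category.assoc, Category.assoc, (hxs _ f₁ hf₁).2, (hxs _ f₂ hf₂).2, ← Category.assoc,
          ← Category.assoc, hcomm]
    obtain ⟨t, ht, -⟩ := Sheaf.isSheaf_yoneda_obj R S hS x hcompat
    have ht' : ∀ W (k : W ⟶ Z) (hkS : S k), k ≫ t = x k hkS := fun W k hkS => ht k hkS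
    refine ⟨t, ?_, ?_⟩
    · apply (Sheaf.isSheaf_yoneda_obj X S hS).isSeparatedFor.ext
      intro W k hkS
      show k ≫ t ≫ p₁ = k ≫ g₁
      rw [← Category.assoc, ht' W k hkS, (hxs W k hkS).1]
    · apply (Sheaf.isSheaf_yoneda_obj X S hS).isSeparatedFor.ext
      intro W k hkS
      show k ≫ t ≫ p₂ = k ≫ g₂
      rw [← Category.assoc, ht' W k hkS, (hxs W k hkS).2]
  obtain ⟨δ, hδ1, hδ2⟩ := (hR X).2.refl (𝟙 X)
  refine ⟨c.pt, c.π, ?_, ?_, ?_⟩
  · refine ⟨⟨c.condition⟩, ⟨PullbackCone.IsLimit.mk _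
      (fun s => (hglob s.pt s.fst s.snd s.condition).choose)
      (fun s => (hglob s.pt s.fst s.snd s.condition).choose_spec.1)
      (fun s => (hglob s.pt s.fst s.snd s.condition).choose_spec.2) ?_⟩⟩
    intro s m hm1 hm2
    apply inj_R p₁ p₂ hR
    · rw [hm1, (hglob s.pt s.fst s.snd s.condition).choose_spec.1]
    · rw [hm2, (hglob s.pt s.fst s.snd s.condition).choose_spec.2]
  · have hs : ∀ s : PushoutCocone p₁ p₂, s.inl = s.inr := by
      intro s
      calc s.inl = δ ≫ p₁ ≫ s.inl := by rw [← Category.assoc, hδ1, Category.id_comp]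
        _ = δ ≫ p₂ ≫ s.inr := by rw [s.condition]
        _ = s.inr := by rw [← Category.assoc, hδ2, Category.id_comp]
    have hs' : ∀ s : PushoutCocone p₁ p₂, p₁ ≫ s.inl = p₂ ≫ s.inl := by
      intro s
      rw [s.condition, hs s]
    refine ⟨⟨c.condition⟩, ⟨PushoutCocone.IsColimit.mk _
      (fun s => Cofork.IsColimit.desc hc s.inl (hs' s))
      (fun s => Cofork.IsColimit.π_desc' hc _ _)
      (fun s => (Cofork.IsColimit.π_desc' hc _ _).trans (hs s)) ?_⟩⟩
    intro s m hm1 hm2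
    apply Cofork.IsColimit.hom_ext hc
    rw [hm1]
    exact (Cofork.IsColimit.π_desc' hc _ _).symm
  · intro B' g
    exact effectiveEpi_of_mem c.π g hA

include hc in
omit hR in
theorem AB_of_effUniv (h : SGA4.IsEffectiveUniversalEquivRel p₁ p₂) :
    Sπ c.π ∈ Sheaf.canonicalTopology C c.pt ∧ B'' (Sheaf.canonicalTopology C) p₁ p₂ c.π := by
  obtain ⟨B₀, π₀, hpb, hpo, heff⟩ := h
  have hc₀ : IsColimit (Cofork.ofπ π₀ hpb.w) := by
    refine Cofork.IsColimit.mk' _ (fun s => ⟨hpo.desc s.π s.π s.condition, hpo.inl_desc _ _ _, ?_⟩)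
    intro m hm
    apply hpo.hom_ext
    · rw [hpo.inl_desc]
      exact hm
    · rw [hpo.inr_desc]
      exact hm
  obtain ⟨e, he⟩ : ∃ e : c.pt ≅ B₀, c.π ≫ e.hom = π₀ :=
    ⟨hc.coconePointUniqueUpToIso hc₀,
      IsColimit.comp_coconePointUniqueUpToIso_hom hc hc₀ WalkingParallelPair.one⟩
  clear hc₀
  constructor
  · apply Sheaf.mem_finestTopology_of_forall_isSheafFor
    rintro P ⟨T, rfl⟩ Z g
    have hs : (Sπ c.π).pullback g = (Sπ π₀).pullback (g ≫ e.hom) := by
      ext W k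
      rw [Sieve.pullback_apply, Sieve.pullback_apply, Sieve.mem_ofArrows_iff, Sieve.mem_ofArrows_iff]
      constructor
      · rintro ⟨_, u, hu⟩
        refine ⟨(), u, ?_⟩
        calc k ≫ g ≫ e.hom = (k ≫ g) ≫ e.hom := (Category.assoc _ _ _).symm
          _ = (u ≫ c.π) ≫ e.hom := by rw [hu]
          _ = u ≫ π₀ := by rw [Category.assoc, he]
      · rintro ⟨_, u, hu⟩
        refine ⟨(), u, ?_⟩
        rw [← cancel_mono e.hom, Category.assoc, Category.assoc, he]
        exact hu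
    rw [hs]
    exact isSheafFor_pullback_of_effectiveEpi π₀ _ (heff _ _) T
  · intro Z g₁ g₂ h12
    have h12' : g₁ ≫ π₀ = g₂ ≫ π₀ := by
      calc g₁ ≫ π₀ = (g₁ ≫ c.π) ≫ e.hom := by rw [Category.assoc, he]
        _ = (g₂ ≫ c.π) ≫ e.hom := by rw [h12]
        _ = g₂ ≫ π₀ := by rw [Category.assoc, he]
    refine ⟨⊤, (Sheaf.canonicalTopology C).top_mem Z, fun W k _ => ⟨k ≫ hpb.lift g₁ g₂ h12', ?_, ?_⟩⟩
    · rw [Category.assoc, hpb.lift_fst]
    · rw [Category.assoc, hpb.lift_snd]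

include hR hc in
theorem main :
    SGA4.IsEffectiveUniversalEquivRel p₁ p₂ ↔
      Nonempty (IsColimit ((yoneda ⋙ presheafToSheaf (Sheaf.canonicalTopology C) (Type u)).mapCocone c)) := by
  rw [ii_iff_Ecoeq, Ecoeq_iff _ p₁ p₂ c.π hR c.condition]
  constructor
  · exact AB_of_effUniv p₁ p₂ c hc
  · rintro ⟨hA, hB⟩
    exact effUniv_of p₁ p₂ hR c hc hA hB

end canonical


end


/-- Let `C` be a small category with pullbacks, `p₁ p₂ : R ⇉ X` an equivalence relation in `C` admitting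
a coequalizer cofork `c`, and `ε` the canonical functor to sheaves of sets for the canonical
topology of `C`. Then the equivalence relation is effective and universal (`R` is the kernel pair of
the quotient map, which is a coequalizer all of whose base changes are effective epimorphisms) if
and only if `ε` takes `c` to a coequalizer of `ε p₁, ε p₂`. (For a small category every topology has
a small topologically generating family, so both implications of the published statement apply. The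
published statement asks only that the quotient map have all base changes; this row assumes that `C`
has all pullbacks.) -/
theorem result
    {C : Type u} [SmallCategory C] [HasPullbacks C] {R X : C} (p₁ p₂ : R ⟶ X)
    (hR : SGA4.IsEquivRel p₁ p₂) (c : Cofork p₁ p₂) (hc : IsColimit c) :
    SGA4.IsEffectiveUniversalEquivRel p₁ p₂ ↔
      Nonempty (IsColimit ((yoneda ⋙ presheafToSheaf (Sheaf.canonicalTopology C) (Type u)).mapCocone c)) := by
  classical
  exact main p₁ p₂ hR c hc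

end Groth.Agent.S6140
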