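import Groth.Statements.S6142
import Groth.Agent.Lib.Lead.ShYoneda

set_option autoImplicit false
open CategoryTheory
universe u
open SGA4

namespace Groth.Agent.S6142

/-- Let `u : C ⥤ C'` be a continuous and cocontinuous functor between small sites whose topologies are
subcanonical. If the left adjoint `u_!` of the restriction functor `u^*` on sheaves of sets is full
and faithful, then `u` is full and faithful. -/
theorem result
    {C : Type u} [SmallCategory C] {C' : Type u} [SmallCategory C']
    (J : GrothendieckTopology C) (K : GrothendieckTopology C') [J.Subcanonical] [K.Subcanonical]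
    (u : C ⥤ C') [u.IsContinuous J K] [u.IsCocontinuous J K]
    (h : (u.sheafPullback (Type u) J K).Full ∧ (u.sheafPullback (Type u) J K).Faithful) :
    u.Full ∧ u.Faithful := by
  obtain ⟨hfull, hfaith⟩ := h
  have hnat := fun {X X' : C} (f : X' ⟶ X) => Groth.Agent.Lead.psi_naturality J K u f
  constructor
  · refine ⟨fun {X' X} g => ?_⟩
    let k : (u.sheafPullback (Type u) J K).obj (J.yoneda.obj X') ⟶
        (u.sheafPullback (Type u) J K).obj (J.yoneda.obj X) :=
      Groth.Agent.Lead.psi J K u X' ≫ K.yoneda.map g ≫ inv (Groth.Agent.Lead.psi J K u X)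
    obtain ⟨k', hk'⟩ := (u.sheafPullback (Type u) J K).map_surjective k
    obtain ⟨f, hf⟩ := J.yoneda.map_surjective k'
    refine ⟨f, ?_⟩
    apply K.yoneda.map_injective
    rw [← cancel_epi (Groth.Agent.Lead.psi J K u X'), ← hnat f, hf, hk']
    simp [k]
  · refine ⟨fun {X' X} f f' hff' => ?_⟩
    apply J.yoneda.map_injective
    apply (u.sheafPullback (Type u) J K).map_injective
    rw [← cancel_mono (Groth.Agent.Lead.psi J K u X), hnat f, hnat f', hff']

end Groth.Agent.S6142
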