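import Groth.Statements.S6143
import Mathlib
import Groth.Agent.S12108

set_option autoImplicit false
open CategoryTheory CategoryTheory.Limits
universe u
open SGA4

namespace Groth.Agent.S6143

section
open CategoryTheory CategoryTheory.Limits
open Groth.Agent.S12108

variable {C : Type u} [SmallCategory C]

section general
variable (J : GrothendieckTopology C) {X : C} {ι : Type u} (Y : ι → C) (s : ∀ i, Y i ⟶ X)

theorem E_iff_abc : E J Y s ↔ (Sieve.ofArrows Y s ∈ J X ∧ B' J Y s ∧ C' J Y s) := by
  constructor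
  · intro hE
    obtain ⟨hB, hC⟩ := BC_of_E J Y s hE
    exact ⟨a_of_E J Y s hE, hB, hC⟩
  · rintro ⟨ha, hB, hC⟩
    refine E_of_i J Y s ha (fun i => b_of_B' J Y s hB i) ?_
    intro i j hij F hF α β
    obtain ⟨hI⟩ := c_of_C' J Y s hC i j hij
    let F' : Sheaf J (Type u) := ⟨F, hF⟩
    have h1 : ((sheafificationAdjunction J (Type u)).homEquiv _ F').symm α =
        ((sheafificationAdjunction J (Type u)).homEquiv _ F').symm β := hI.hom_ext _ _
    exact ((sheafificationAdjunction J (Type u)).homEquiv _ F').symm.injective h1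

/-- stability of the elementary conditions under base change -/
theorem abc_pullback (h : Sieve.ofArrows Y s ∈ J X ∧ B' J Y s ∧ C' J Y s)
    {Z : C} (f : Z ⟶ X) (Y' : ι → C) (s' : ∀ i, Y' i ⟶ Z) (α : ∀ i, Y' i ⟶ Y i)
    (hpb : ∀ i, IsPullback (s' i) (α i) f (s i)) :
    Sieve.ofArrows Y' s' ∈ J Z ∧ B' J Y' s' ∧ C' J Y' s' := by
  obtain ⟨ha, hB, hC⟩ := h
  refine ⟨?_, ?_, ?_⟩
  · refine J.superset_covering ?_ (J.pullback_stable f ha)
    intro W h hh
    have hh' : Sieve.ofArrows Y s (h ≫ f) := hh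
    rw [Sieve.mem_ofArrows_iff] at hh'
    obtain ⟨k, u, hu⟩ := hh'
    rw [Sieve.mem_ofArrows_iff]
    exact ⟨k, (hpb k).lift h u hu, ((hpb k).lift_fst h u hu).symm⟩
  · intro k W g₁ g₂ h12
    have h12' : (g₁ ≫ α k) ≫ s k = (g₂ ≫ α k) ≫ s k := by
      rw [Category.assoc, Category.assoc, ← (hpb k).w, ← Category.assoc, ← Category.assoc, h12]
    obtain ⟨S, hS, hk⟩ := hB k W _ _ h12'
    refine ⟨S, hS, fun V m hm => ?_⟩
    apply (hpb k).hom_ext
    · rw [Category.assoc, Category.assoc, h12]
    · have := hk V m hm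
      simpa only [Category.assoc] using this
  · intro i j hij W g₁ g₂ h12
    refine hC i j hij W (g₁ ≫ α i) (g₂ ≫ α j) ?_
    rw [Category.assoc, Category.assoc, ← (hpb i).w, ← (hpb j).w, ← Category.assoc,
      ← Category.assoc, h12]

end general

section canonical
open Opposite

theorem bot_mem_iff (Z : C) : ⊥ ∈ Sheaf.canonicalTopology C Z ↔
    ∀ W (_ : W ⟶ Z), Nonempty (IsInitial W) := by
  constructor
  · intro h W f
    have hW : (⊥ : Sieve W) ∈ Sheaf.canonicalTopology C W := by
      refine (Sheaf.canonicalTopology C).superset_covering ?_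
        ((Sheaf.canonicalTopology C).pullback_stable f h)
      intro V k hk
      exact hk
    have key : ∀ T : C, ∃ t : W ⟶ T, ∀ t' : W ⟶ T, t' = t := by
      intro T
      obtain ⟨t, _, ht⟩ := Sheaf.isSheaf_yoneda_obj T ⊥ hW (fun V k hk => (hk : False).elim)
        (fun _ _ _ _ _ _ _ h1 => (h1 : False).elim)
      exact ⟨t, fun t' => ht t' (fun V k hk => (hk : False).elim)⟩
    exact ⟨IsInitial.ofUniqueHom (fun T => (key T).choose) (fun T m => (key T).choose_spec m)⟩
  · intro h
    apply Sheaf.mem_finestTopology_of_forall_isSheafFor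
    rintro P ⟨T, rfl⟩ W f x hx
    obtain ⟨hI⟩ := h W f
    refine ⟨hI.to T, ?_, ?_⟩
    · intro V k hk
      exact (hk : False).elim
    · intro t' _
      exact hI.hom_ext _ _

variable {X : C} {ι : Type u} (Y : ι → C) (s : ∀ i, Y i ⟶ X)
  [∀ (i : ι) (Z : C) (g : Z ⟶ X), HasPullback (s i) g]

theorem pulled_colimit (huniv : IsUniversalColimit (Cofan.mk X s)) {Z : C} (g : Z ⟶ X) :
    Nonempty (IsColimit (Cofan.mk Z (fun k => pullback.snd (s k) g))) := by
  refine huniv (Cofan.mk Z (fun k => pullback.snd (s k) g))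
    (Discrete.natTrans (fun k => pullback.fst (s k.as) g)) g ?_
    (NatTrans.Equifibered.of_discrete _) (fun j => ?_)
  · ext ⟨k⟩
    simp [pullback.condition]
  · exact (IsPullback.of_hasPullback (s j.as) g).flip

theorem init_of (hcol : IsColimit (Cofan.mk X s)) (hdis : CoproductDisjoint Y)
    (huniv : IsUniversalColimit (Cofan.mk X s)) {i j : ι} (hij : i ≠ j) {W : C}
    (h₁ : W ⟶ Y i) (h₂ : W ⟶ Y j) (hc : h₁ ≫ s i = h₂ ≫ s j) : Nonempty (IsInitial W) := by
  classical
  have hmono : ∀ k, Mono (s k) := fun k => hdis.mono_inj hcol k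
  obtain ⟨hI⟩ := hdis.nonempty_isInitial_of_ne hcol hij
    (PullbackCone.mk (pullback.fst (s i) (s j)) (pullback.snd (s i) (s j)) pullback.condition)
    (IsPullback.of_hasPullback (s i) (s j)).isLimit
  obtain ⟨hW⟩ := pulled_colimit Y s huniv (h₁ ≫ s i)
  have hi : IsIso (pullback.snd (s i) (h₁ ≫ s i)) := by
    have : IsSplitEpi (pullback.snd (s i) (h₁ ≫ s i)) :=
      IsSplitEpi.mk' ⟨pullback.lift h₁ (𝟙 W) (by simp), pullback.lift_snd _ _ _⟩
    exact isIso_of_mono_of_isSplitEpi _
  have hj : IsIso (pullback.snd (s j) (h₁ ≫ s i)) := by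
    have : IsSplitEpi (pullback.snd (s j) (h₁ ≫ s i)) :=
      IsSplitEpi.mk' ⟨pullback.lift h₂ (𝟙 W) (by simp [hc]), pullback.lift_snd _ _ _⟩
    exact isIso_of_mono_of_isSplitEpi _
  have key : ∀ (T : C) (t t' : W ⟶ T), t = t' := by
    intro T t t'
    let fam : ∀ k, pullback (s k) (h₁ ≫ s i) ⟶ T := fun k =>
      if k = i then pullback.snd _ _ ≫ t else pullback.snd _ _ ≫ t'
    have hm := Cofan.IsColimit.fac hW fam
    have h1 := hm i
    have h2 := hm j
    simp only [fam, if_pos rfl] at h1
    simp only [fam, if_neg (Ne.symm hij)] at h2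
    have e1 : Cofan.IsColimit.desc hW fam = t := (cancel_epi (pullback.snd (s i) _)).1 h1
    have e2 : Cofan.IsColimit.desc hW fam = t' := (cancel_epi (pullback.snd (s j) _)).1 h2
    exact e1.symm.trans e2
  exact ⟨IsInitial.ofUniqueHom (fun T => pullback.lift h₁ h₂ hc ≫ hI.to T) (fun T m => key T _ _)⟩

theorem abc_of_rhs (hcol : IsColimit (Cofan.mk X s)) (hdis : CoproductDisjoint Y)
    (huniv : IsUniversalColimit (Cofan.mk X s)) :
    Sieve.ofArrows Y s ∈ Sheaf.canonicalTopology C X ∧
      B' (Sheaf.canonicalTopology C) Y s ∧ C' (Sheaf.canonicalTopology C) Y s := by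
  have hmono : ∀ k, Mono (s k) := fun k => hdis.mono_inj hcol k
  refine ⟨?_, ?_, ?_⟩
  · apply Sheaf.mem_finestTopology_of_forall_isSheafFor
    rintro P ⟨T, rfl⟩ Z g
    have hsieve : (Sieve.ofArrows Y s).pullback g =
        Sieve.ofArrows (fun k => pullback (s k) g) (fun k => pullback.snd (s k) g) := by
      ext W h
      rw [Sieve.pullback_apply, Sieve.mem_ofArrows_iff, Sieve.mem_ofArrows_iff]
      constructor
      · rintro ⟨k, u, hu⟩
        exact ⟨k, pullback.lift u h hu.symm, (pullback.lift_snd _ _ _).symm⟩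
      · rintro ⟨k, v, rfl⟩
        exact ⟨k, v ≫ pullback.fst _ _, by
          rw [Category.assoc, Category.assoc, pullback.condition]⟩
    rw [hsieve]
    show Presieve.IsSheafFor _ (Sieve.generate (Presieve.ofArrows _ _)).arrows
    rw [← Presieve.isSheafFor_iff_generate, Presieve.isSheafFor_arrows_iff]
    intro x _
    obtain ⟨hZ⟩ := pulled_colimit Y s huniv g
    refine ⟨Cofan.IsColimit.desc hZ x, fun k => Cofan.IsColimit.fac hZ x k, fun t ht => ?_⟩
    exact Cofan.IsColimit.hom_ext hZ _ _ (fun k => (ht k).trans (Cofan.IsColimit.fac hZ x k).symm)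
  · intro k Z g₁ g₂ h12
    exact ⟨⊤, (Sheaf.canonicalTopology C).top_mem Z, fun W m _ => by
      rw [(cancel_mono (s k)).1 h12]⟩
  · intro i j hij Z g₁ g₂ h12
    rw [bot_mem_iff]
    intro W f
    exact init_of Y s hcol hdis huniv hij (f ≫ g₁) (f ≫ g₂) (by
      rw [Category.assoc, Category.assoc, h12])

omit [∀ (i : ι) (Z : C) (g : Z ⟶ X), HasPullback (s i) g] in
theorem bij_of_E (hE : E (Sheaf.canonicalTopology C) Y s) (T : C) :
    Function.Bijective (fun (t : X ⟶ T) (i : ι) => s i ≫ t) :=
  hE (yoneda.obj T) ((isSheaf_iff_isSheaf_of_type _ _).2 (Sheaf.isSheaf_yoneda_obj T))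

omit [∀ (i : ι) (Z : C) (g : Z ⟶ X), HasPullback (s i) g] in
theorem rhs_of_abc (h : Sieve.ofArrows Y s ∈ Sheaf.canonicalTopology C X ∧
      B' (Sheaf.canonicalTopology C) Y s ∧ C' (Sheaf.canonicalTopology C) Y s) :
    Nonempty (IsColimit (Cofan.mk X s)) ∧ CoproductDisjoint Y ∧
        IsUniversalColimit (Cofan.mk X s) := by
  have hbij := bij_of_E Y s ((E_iff_abc _ Y s).2 h)
  have hcol : IsColimit (Cofan.mk X s) := by
    refine Cofan.IsColimit.mk _ (fun c => ((hbij c.pt).2 (fun i => c.inj i)).choose) ?_ ?_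
    · intro c i
      exact congrFun ((hbij c.pt).2 (fun i => c.inj i)).choose_spec i
    · intro c m hm
      apply (hbij c.pt).1
      funext k
      exact (hm k).trans (congrFun ((hbij c.pt).2 (fun i => c.inj i)).choose_spec k).symm
  have hmono : ∀ k, Mono (s k) := by
    intro k
    constructor
    intro Z g₁ g₂ h12
    obtain ⟨S, hS, hk⟩ := h.2.1 k Z g₁ g₂ h12
    exact (Sheaf.isSheaf_yoneda_obj (Y k) S hS).isSeparatedFor.ext (fun W m hm => hk W m hm)
  refine ⟨⟨hcol⟩, ⟨?_, ?_⟩, ?_⟩
  · intro c hc i j hij pc hpc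
    have he : ∀ k, c.inj k ≫ (hc.coconePointUniqueUpToIso hcol).hom = s k := fun k =>
      IsColimit.comp_coconePointUniqueUpToIso_hom hc hcol ⟨k⟩
    have h12 : pc.fst ≫ s i = pc.snd ≫ s j := by
      rw [← he i, ← he j, ← Category.assoc, ← Category.assoc, pc.condition]
    exact (bot_mem_iff _).1 (h.2.2 i j hij _ _ _ h12) _ (𝟙 _)
  · intro c hc i
    have he : c.inj i ≫ (hc.coconePointUniqueUpToIso hcol).hom = s i :=
      IsColimit.comp_coconePointUniqueUpToIso_hom hc hcol ⟨i⟩
    have := hmono i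
    exact mono_of_mono_fac he
  · intro F' c' α f hcomm heq hpb
    have h' := abc_pullback _ Y s h f (fun k => F'.obj ⟨k⟩) (fun k => c'.ι.app ⟨k⟩)
      (fun k => α.app ⟨k⟩) (fun k => hpb ⟨k⟩)
    have hbij' := bij_of_E _ _ ((E_iff_abc _ _ _).2 h')
    refine ⟨{ desc := fun t => ((hbij' t.pt).2 (fun k => t.ι.app ⟨k⟩)).choose
              fac := ?_
              uniq := ?_ }⟩
    · rintro t ⟨k⟩
      exact congrFun ((hbij' t.pt).2 (fun k => t.ι.app ⟨k⟩)).choose_spec k
    · intro t m hm
      apply (hbij' t.pt).1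
      funext k
      exact (hm ⟨k⟩).trans (congrFun ((hbij' t.pt).2 (fun k => t.ι.app ⟨k⟩)).choose_spec k).symm

theorem main :
    Nonempty (IsColimit (Cofan.mk
        ((presheafToSheaf (Sheaf.canonicalTopology C) (Type u)).obj (yoneda.obj X))
        (fun i => (presheafToSheaf (Sheaf.canonicalTopology C) (Type u)).map (yoneda.map (s i))))) ↔
      (Nonempty (IsColimit (Cofan.mk X s)) ∧ CoproductDisjoint Y ∧
        IsUniversalColimit (Cofan.mk X s)) := by
  rw [ii_iff_E, E_iff_abc]
  constructor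
  · exact rhs_of_abc Y s
  · rintro ⟨⟨hcol⟩, hdis, huniv⟩
    exact abc_of_rhs Y s hcol hdis huniv

end canonical


end


/-- Let `C` be a small category, `X` an object and `s i : Y i ⟶ X` a family of morphisms all of whose
base changes exist. Then the associated sheaf of `h_X` for the canonical topology, with the maps
induced by the `s i`, is a coproduct of the associated sheaves of the `h_{Y i}` (in sheaves of sets
for the canonical topology) if and only if `X` is a disjoint universal coproduct of the `Y i` in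
`C`: the cofan `(X, s)` is a colimit, the injections of a coproduct of the family are monomorphisms
with pairwise pullbacks initial, and the colimit is stable under base change. (The source asks for
the coproduct decomposition after sheafification for some topology coarser than the canonical one;
this is equivalent to asking it for the canonical topology itself.) -/
theorem result
    {C : Type u} [SmallCategory C] {X : C} {ι : Type u} (Y : ι → C) (s : ∀ i, Y i ⟶ X)
    [∀ (i : ι) (Z : C) (g : Z ⟶ X), HasPullback (s i) g] :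
    Nonempty (IsColimit (Cofan.mk
        ((presheafToSheaf (Sheaf.canonicalTopology C) (Type u)).obj (yoneda.obj X))
        (fun i => (presheafToSheaf (Sheaf.canonicalTopology C) (Type u)).map (yoneda.map (s i))))) ↔
      (Nonempty (IsColimit (Cofan.mk X s)) ∧ CoproductDisjoint Y ∧
        IsUniversalColimit (Cofan.mk X s)) := by
  classical
  exact main Y s

end Groth.Agent.S6143
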