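import Groth.Statements.S6144
import Mathlib

set_option autoImplicit false
open CategoryTheory CategoryTheory.Limits
universe w v u
open SGA4

namespace Groth.Agent.S6144



section
variable {E : Type u} [Category.{v} E] [HasPullbacks E]

/-- a detecting property detects proper subobjects -/
theorem exists_not_factors {Q : ObjectProperty E} (hQ : Q.IsDetecting) {X : E} (S : Subobject X)
    (hS : S ≠ ⊤) : ∃ (G : E) (_ : Q G) (g : G ⟶ X), ¬ S.Factors g := by
  by_contra hcon
  simp only [not_exists, not_not] at hcon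
  apply hS
  haveI : IsIso S.arrow := by
    rw [hQ.isIso_iff_of_mono S.arrow]
    intro G hG g
    refine ⟨S.factorThru g (hcon G hG g), ?_⟩
    change S.factorThru g (hcon G hG g) ≫ S.arrow = g
    simp
  exact Subobject.eq_top_of_isIso_arrow S

/-- conversely, a property which detects proper subobjects is detecting -/
theorem isDetecting_of_forall {Q : ObjectProperty E}
    (H : ∀ (X : E) (S : Subobject X), S ≠ ⊤ → ∃ (G : E) (_ : Q G) (g : G ⟶ X), ¬ S.Factors g) :
    Q.IsDetecting := by
  intro A B f hf
  -- f is mono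
  haveI : IsIso (pullback.diagonal f) := by
    rw [Subobject.isIso_iff_mk_eq_top]
    by_contra hne
    obtain ⟨G, hG, y, hy⟩ := H _ _ hne
    apply hy
    rw [Subobject.mk_factors_iff]
    have h1 : (y ≫ pullback.fst f f) ≫ f = (y ≫ pullback.snd f f) ≫ f := by
      rw [Category.assoc, Category.assoc, pullback.condition]
    obtain ⟨h', -, huniq⟩ := hf G hG ((y ≫ pullback.fst f f) ≫ f)
    have h2 : y ≫ pullback.fst f f = y ≫ pullback.snd f f :=
      (huniq _ rfl).trans (huniq _ h1.symm).symm
    have h3 : (y ≫ pullback.fst f f) ≫ pullback.diagonal f = y := by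
      apply pullback.hom_ext
      · rw [Category.assoc, pullback.diagonal_fst, Category.comp_id]
      · rw [Category.assoc, pullback.diagonal_snd, Category.comp_id, h2]
    exact ⟨y ≫ pullback.fst f f, h3⟩
  haveI : Mono f := (pullback.isIso_diagonal_iff f).1 inferInstance
  rw [Subobject.isIso_iff_mk_eq_top]
  by_contra hne
  obtain ⟨G, hG, y, hy⟩ := H _ _ hne
  apply hy
  rw [Subobject.mk_factors_iff]
  obtain ⟨h', hh', -⟩ := hf G hG y
  exact ⟨h', hh'⟩

theorem main {κ : Type v} (G : κ → E)
    (hG : (ObjectProperty.ofObj G).IsDetecting) {I : Type w} (Y : I → E)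
    (hY : (ObjectProperty.ofObj Y).IsDetecting) :
    ∃ J : Set I, Small.{v} J ∧ (ObjectProperty.ofObj (fun j : J => Y j)).IsDetecting := by
  haveI : WellPowered.{v} E := wellPowered_of_isDetecting hG
  have hex : ∀ (x : Σ k : κ, {S : Subobject (G k) // S ≠ ⊤}),
      ∃ (i : I) (y : Y i ⟶ G x.1), ¬ x.2.1.Factors y := by
    rintro ⟨k, S, hS⟩
    obtain ⟨_, ⟨i⟩, y, hy⟩ := exists_not_factors hY S hS
    exact ⟨i, y, hy⟩
  choose ι yy hyy using hex
  refine ⟨Set.range ι, inferInstance, ?_⟩
  apply isDetecting_of_forall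
  intro X S hS
  obtain ⟨_, ⟨k⟩, g, hg⟩ := exists_not_factors hG S hS
  have hS' : (Subobject.pullback g).obj S ≠ ⊤ := by
    intro h
    apply hg
    have := (Limits.pullback_factors_iff g S (𝟙 _)).1 (h ▸ Subobject.top_factors _)
    simpa using this
  let x : Σ k : κ, {S : Subobject (G k) // S ≠ ⊤} := ⟨k, ⟨_, hS'⟩⟩
  refine ⟨Y (ι x), ⟨(⟨ι x, ⟨x, rfl⟩⟩ : Set.range ι)⟩, yy x ≫ g, ?_⟩
  intro hfac
  exact hyy x ((Limits.pullback_factors_iff g S (yy x)).2 hfac)

end


/-- Let `E` be a category with `v`-small hom-sets and pullbacks, admitting a detecting family of objects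
indexed by a `v`-small type (maps out of the family jointly reflect isomorphisms). Then every
detecting family `Y : I → E`, indexed by an arbitrary type, contains a detecting subfamily indexed
by a `v`-small subset of `I`. -/
theorem result
    {E : Type u} [Category.{v} E] [HasPullbacks E] {κ : Type v} (G : κ → E)
    (hG : (ObjectProperty.ofObj G).IsDetecting) {I : Type w} (Y : I → E)
    (hY : (ObjectProperty.ofObj Y).IsDetecting) :
    ∃ J : Set I, Small.{v} J ∧ (ObjectProperty.ofObj (fun j : J => Y j)).IsDetecting := by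
  classical
  exact main G hG Y hY

end Groth.Agent.S6144
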