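import Groth.Statements.S6153
import Mathlib
import Mathlib
import Groth.Agent.Lib.Helper5.Misc.FreeOn

set_option autoImplicit false
universe u
open CategoryTheory
open ModSite

open CategoryTheory CategoryTheory.Limits
open Groth.Agent.Lib.Helper5.FreeOn Opposite

namespace Groth.Agent.S6153

/-- Morphisms of ringed sites between small sites with commutative structure sheaves: for a morphism of
ringed sites f : (C, O_C) -> (D, O_D) given by a functor u : D -> C and every object X of D, the
inverse image f^*(A'_X) of the free O_D-module on X is isomorphic to the free O_C-module A_{u(X)} on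
u(X). Existence of an isomorphism of modules only (the source's isomorphism is the canonical one). -/
theorem result {C D : Type u} [SmallCategory C] [SmallCategory D] {J : GrothendieckTopology C}
    {K : GrothendieckTopology D} {O_C : Sheaf J CommRingCat.{u}} {O_D : Sheaf K CommRingCat.{u}}
    (f : ModSite.RMor O_C O_D) (X : D) :
    Nonempty (f.pull.obj (ModSite.freeOn O_D X) ≅ ModSite.freeOn O_C (f.fn.obj X)) := by
  let Ψ : ∀ F : ModSite.Mod O_C, (f.pull.obj (ModSite.freeOn O_D X) ⟶ F) ≃
      (ModSite.freeOn O_C (f.fn.obj X) ⟶ F) := fun F =>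
    { toFun := fun φ => (freeOnHomEquiv O_C (f.fn.obj X) F).symm
        (freeOnHomEquiv O_D X (f.push.obj F) (f.adj.homEquiv _ F φ))
      invFun := fun ψ => (f.adj.homEquiv _ F).symm
        ((freeOnHomEquiv O_D X (f.push.obj F)).symm (freeOnHomEquiv O_C (f.fn.obj X) F ψ))
      left_inv := fun φ => by
        have h1 := (freeOnHomEquiv O_C (f.fn.obj X) F).apply_symm_apply
          (freeOnHomEquiv O_D X (f.push.obj F) (f.adj.homEquiv _ F φ))
        have h2 := (freeOnHomEquiv O_D X (f.push.obj F)).symm_apply_apply (f.adj.homEquiv _ F φ)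
        have h3 := (f.adj.homEquiv _ F).symm_apply_apply φ
        exact (congrArg (f.adj.homEquiv _ F).symm
          ((congrArg (freeOnHomEquiv O_D X (f.push.obj F)).symm h1).trans h2)).trans h3
      right_inv := fun ψ => by
        have h1 := (f.adj.homEquiv _ F).apply_symm_apply
          ((freeOnHomEquiv O_D X (f.push.obj F)).symm (freeOnHomEquiv O_C (f.fn.obj X) F ψ))
        have h2 := (freeOnHomEquiv O_D X (f.push.obj F)).apply_symm_apply
          (freeOnHomEquiv O_C (f.fn.obj X) F ψ)
        have h3 := (freeOnHomEquiv O_C (f.fn.obj X) F).symm_apply_apply ψ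
        exact (congrArg (freeOnHomEquiv O_C (f.fn.obj X) F).symm
          ((congrArg (freeOnHomEquiv O_D X (f.push.obj F)) h1).trans h2)).trans h3 }
  refine ⟨isoOfHomEquiv Ψ ?_⟩
  intro F F' φ g
  have h1 : f.adj.homEquiv _ F' (φ ≫ g) = f.adj.homEquiv _ F φ ≫ f.push.map g :=
    Adjunction.homEquiv_naturality_right _ _ _
  have h2 := freeOnHomEquiv_naturality O_D X (f.adj.homEquiv _ F φ) (f.push.map g)
  have h3 := freeOnHomEquiv_symm_naturality O_C (f.fn.obj X)
    (freeOnHomEquiv O_D X (f.push.obj F) (f.adj.homEquiv _ F φ)) g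
  show (freeOnHomEquiv O_C (f.fn.obj X) F').symm
        (freeOnHomEquiv O_D X (f.push.obj F') (f.adj.homEquiv _ F' (φ ≫ g))) = _
  rw [h1, h2]
  exact h3

end Groth.Agent.S6153
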