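import Groth.Statements.S6159
import Groth.Agent.Lib.Helper6.Giraud.CanonLim

set_option autoImplicit false
universe u
open CategoryTheory
open SGA4

namespace Groth.Agent.S6159

open CategoryTheory.Limits in
/-- Sheaf topoi on small sites (C, J), (D, K), each with its canonical topology: a functor f from
sheaves of sets on C to sheaves of sets on D commutes with all u-small colimits if and only if it is
continuous, i.e. composition with f carries every sheaf of sets for the canonical topology of the
target to a sheaf for the canonical topology of the source. (Continuity is Mathlib's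
`Functor.IsContinuous`: on these large sites it tests sheaves with values in the next universe,
`Type (u+1)`, which is the source's choice of a larger universe for the test sheaves; the hom
universe is u. The equivalence of both conditions with f being a left adjoint is a separate result,
not stated here.) -/
theorem result {C D : Type u} [SmallCategory C] [SmallCategory D]
    (J : GrothendieckTopology C) (K : GrothendieckTopology D) (f : Sheaf J (Type u) ⥤ Sheaf K (Type u)) :
    PreservesColimitsOfSize.{u, u} f ↔
      f.IsContinuous.{u} (Sheaf.canonicalTopology (Sheaf J (Type u))) (Sheaf.canonicalTopology (Sheaf K (Type u))) := by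
  constructor
  · intro hf
    constructor
    intro G
    have h1 : PreservesLimitsOfSize.{u, u} G.obj :=
      (Groth.Agent.Helper6.Giraud.isSheaf_canonical_iff_preservesLimits G.obj).1 G.property
    haveI : PreservesLimitsOfSize.{u, u} f.op := preservesLimitsOfSize_op f
    haveI := h1
    exact (Groth.Agent.Helper6.Giraud.isSheaf_canonical_iff_preservesLimits_type _).2 inferInstance
  · intro hf
    have key : ∀ Z : Sheaf K (Type u), PreservesLimitsOfSize.{u, u} (f.op ⋙ yoneda.obj Z) := by
      intro Z
      let GZ : Sheaf (Sheaf.canonicalTopology (Sheaf K (Type u))) (Type (u + 1)) :=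
        ⟨yoneda.obj Z ⋙ uliftFunctor.{u + 1},
          (isSheaf_iff_isSheaf_of_type _ _).2
            (Presieve.isSheaf_comp_uliftFunctor _ (Sheaf.isSheaf_yoneda_obj Z))⟩
      have h1 := hf.op_comp_isSheaf_of_types GZ
      have h2 : PreservesLimitsOfSize.{u, u} (f.op ⋙ GZ.obj) :=
        (Groth.Agent.Helper6.Giraud.isSheaf_canonical_iff_preservesLimits_type _).1 h1
      haveI h3 : PreservesLimitsOfSize.{u, u} ((f.op ⋙ yoneda.obj Z) ⋙ uliftFunctor.{u + 1}) := h2
      exact preservesLimits_of_reflects_of_preserves (f.op ⋙ yoneda.obj Z) uliftFunctor.{u + 1}
    haveI : PreservesLimitsOfSize.{u, u} f.op := by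
      constructor
      intro I _
      constructor
      intro K'
      constructor
      intro c hc
      refine ⟨yonedaJointlyReflectsLimits _ _ (fun Z => ?_)⟩
      haveI := key Z
      exact isLimitOfPreserves (f.op ⋙ yoneda.obj Z) hc
    exact preservesColimitsOfSize_of_op f

end Groth.Agent.S6159
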