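import Groth.Statements.S6162
import Groth.Agent.Lib.Helper3.GSS
import Groth.Agent.Lib.Helper3.ShGrpPull
import Groth.Agent.Lib.Helper3.SiteSec
import Groth.Agent.Lib.Helper3.AbutIf

set_option autoImplicit false
universe u
open CategoryTheory
open CohSite

namespace Groth.Agent.S6162

open CategoryTheory.Limits in
/-- Existence form of the Leray spectral sequence; abelian sheaves on small sites: let u : D -> C be a
continuous functor between small sites whose pullback on sheaves of sets is exact (a morphism of
topoi), u_* M = M o u the direct image and R^q u_* its right derived functors. For an abelian sheaf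
M on C and an object V of D there is an E_2 spectral sequence of abelian groups, bounded, with
E_2^{p,q} isomorphic to H^p(V, R^q u_* M) for p, q >= 0 and zero otherwise, together with abutment
data whose filtrations are finite on H^n(u(V), M) (n >= 0; zero for n < 0). The E_2 identifications
and the abutment isomorphisms are asserted to exist only; they are not pinned to the canonical maps
of the construction, so edge maps and low-degree exact sequences are not part of this statement. -/
theorem result {C D : Type u} [SmallCategory C] [SmallCategory D]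
    (J : GrothendieckTopology C) (K : GrothendieckTopology D) (u : D ⥤ C) [u.IsContinuous K J]
    [PreservesFiniteLimits (u.sheafPullback (Type u) K J)] (M : Sheaf J AddCommGrpCat.{u}) (V : D) :
    ∃ (E : E₂CohomologicalSpectralSequence AddCommGrpCat.{u})
      (a : SpSeq.Abutment E (fun n : ℤ =>
        if 0 ≤ n then AddCommGrpCat.of (CohSite.HU M n.toNat (u.obj V)) else AddCommGrpCat.of PUnit.{u + 1})),
      (∀ n, a.IsFinite n) ∧ SpSeq.IsBounded E ∧
      ∀ p q : ℤ, Nonempty ((E.page 2 le_rfl).X (p, q) ≅
        (if 0 ≤ p ∧ 0 ≤ q then AddCommGrpCat.of (CohSite.HU ((CohSite.Rpush J K u q.toNat).obj M) p.toNat V)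
         else AddCommGrpCat.of PUnit.{u + 1})) := by
  have hS : PreservesFiniteLimits (Groth.Agent.Helper3.SiteSec.Γ K V) :=
    preservesFiniteLimits_of_natIso (Groth.Agent.Helper3.SiteSec.coyonedaIsoΓ K V)
  have hinj := Groth.Agent.Helper3.ShGrp.pushAb_preservesInjectiveObjects J K u
  have hT : ∀ Q : Sheaf J AddCommGrpCat.{u}, Injective Q → ∀ q : ℕ, 0 < q →
      Limits.IsZero (((Groth.Agent.Helper3.SiteSec.Γ K V).rightDerived q).obj
        ((CohSite.push J K u).obj Q)) := by
    intro Q hQ q hq
    have : Injective ((CohSite.push J K u).obj Q) :=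
      (CohSite.push J K u).injective_obj_of_injective hQ
    obtain ⟨m, rfl⟩ : ∃ m, q = m + 1 := ⟨q - 1, by omega⟩
    exact (Groth.Agent.Helper3.SiteSec.Γ K V).isZero_rightDerived_obj_injective_succ m _
  obtain ⟨E, a, hfin, hbdd, hE⟩ := Groth.Agent.Helper3.GSS.main' (CohSite.push J K u)
    (Groth.Agent.Helper3.SiteSec.Γ K V) hT M
  obtain ⟨a', ha'⟩ := Groth.Agent.Helper3.AbutIf.exists_abutment_if
    (fun k => ((CohSite.push J K u ⋙ Groth.Agent.Helper3.SiteSec.Γ K V).rightDerived k).obj M)
    (fun k => AddCommGrpCat.of (CohSite.HU M k (u.obj V))) a hfin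
    (fun k => ⟨Groth.Agent.Helper3.SiteSec.rightDerivedΓIso J (u.obj V) M k⟩)
  refine ⟨E, a', ha', hbdd, ?_⟩
  intro p q
  exact Groth.Agent.Helper3.AbutIf.nonempty_iso_if _ (hE p q)
    ⟨Groth.Agent.Helper3.SiteSec.rightDerivedΓIso K V _ p.toNat⟩

end Groth.Agent.S6162
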