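import Groth.Statements.S6163
import Groth.Agent.Lib.Helper3.GSS
import Groth.Agent.Lib.Helper3.ShGrpPull

set_option autoImplicit false
universe u
open CategoryTheory
open scoped ZeroObject
open CohSite

namespace Groth.Agent.S6163

open CategoryTheory.Limits in
/-- Existence form (abelian sheaves; the two morphisms of topoi are given by continuous functors u : D
-> C and w : B -> D between small sites with exact pullback on sheaves of sets; the composite
morphism is given by w followed by u, whose continuity is recorded by a binder that always holds):
for an abelian sheaf M on C there is a bounded E_2 spectral sequence of abelian sheaves on B with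
E_2^{p,q} isomorphic to R^p w_*(R^q u_* M) for p, q >= 0 and zero otherwise, with abutment data
whose filtrations are finite on R^n (u w)_* M (n >= 0; zero for n < 0). The E_2 identifications and
abutment isomorphisms are asserted to exist only, not pinned to the canonical maps. -/
theorem result {C D B : Type u} [SmallCategory C] [SmallCategory D]
    [SmallCategory B] (J : GrothendieckTopology C) (K : GrothendieckTopology D) (L : GrothendieckTopology B)
    (u : D ⥤ C) [u.IsContinuous K J] [PreservesFiniteLimits (u.sheafPullback (Type u) K J)]
    (w : B ⥤ D) [w.IsContinuous L K] [PreservesFiniteLimits (w.sheafPullback (Type u) L K)]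
    [(w ⋙ u).IsContinuous L J] (M : Sheaf J AddCommGrpCat.{u}) :
    ∃ (E : E₂CohomologicalSpectralSequence (Sheaf L AddCommGrpCat.{u}))
      (a : SpSeq.Abutment E (fun n : ℤ =>
        if 0 ≤ n then (CohSite.Rpush J L (w ⋙ u) n.toNat).obj M else 0)),
      (∀ n, a.IsFinite n) ∧ SpSeq.IsBounded E ∧
      ∀ p q : ℤ, Nonempty ((E.page 2 le_rfl).X (p, q) ≅
        (if 0 ≤ p ∧ 0 ≤ q then (CohSite.Rpush K L w p.toNat).obj ((CohSite.Rpush J K u q.toNat).obj M) else 0)) := by
  have hS : PreservesFiniteLimits (CohSite.push K L w) := by
    have : PreservesLimitsOfSize.{0, 0} (CohSite.push K L w) :=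
      (w.sheafAdjunctionContinuous AddCommGrpCat.{u} L K).rightAdjoint_preservesLimits
    infer_instance
  have hinj := Groth.Agent.Helper3.ShGrp.pushAb_preservesInjectiveObjects J K u
  have hT : ∀ Q : Sheaf J AddCommGrpCat.{u}, Injective Q → ∀ q : ℕ, 0 < q →
      Limits.IsZero (((CohSite.push K L w).rightDerived q).obj ((CohSite.push J K u).obj Q)) := by
    intro Q hQ q hq
    have : Injective ((CohSite.push J K u).obj Q) :=
      (CohSite.push J K u).injective_obj_of_injective hQ
    obtain ⟨m, rfl⟩ : ∃ m, q = m + 1 := ⟨q - 1, by omega⟩
    exact (CohSite.push K L w).isZero_rightDerived_obj_injective_succ m _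
  exact Groth.Agent.Helper3.GSS.main' (CohSite.push J K u) (CohSite.push K L w) hT M

end Groth.Agent.S6163
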