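import Groth.Statements.S6166
import Groth.Agent.Lib.Helper3.GSS
import Groth.Agent.Lib.Helper3.ShGrpPull
import Groth.Agent.Lib.Helper3.SiteSec
import Groth.Agent.Lib.Helper3.SpVan
import Groth.Agent.Lib.Helper3.RDAdd
import Groth.Agent.Lib.Helper3.ShHom
import Groth.Agent.Lib.Helper3.CohPre

set_option autoImplicit false
universe u
open CategoryTheory
open CohSite

namespace Groth.Agent.S6166

open Groth.Agent.Helper3 CategoryTheory CategoryTheory.Limits Opposite

open CategoryTheory.Limits in
/-- Let u : D -> C be a continuous functor between small sites with exact pullback on sheaves of sets (a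
morphism of topoi), and take the topologically generating families to be all objects of C, resp. of
D, so that the inverse image of the second lies in the first. For an abelian sheaf F on C: if H^q(U,
F) = 0 for all objects U of C and all q > 0, then H^q(V, u_* F) = 0 for all objects V of D and all q
> 0, where u_* F = F o u. -/
theorem result {C D : Type u} [SmallCategory C] [SmallCategory D]
    (J : GrothendieckTopology C) (K : GrothendieckTopology D) (u : D ⥤ C) [u.IsContinuous K J]
    [PreservesFiniteLimits (u.sheafPullback (Type u) K J)] (F : Sheaf J AddCommGrpCat.{u})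
    (hF : ∀ (U : C) (q : ℕ), Subsingleton (CohSite.HU F (q + 1) U)) (V : D) (q : ℕ) :
    Subsingleton (CohSite.HU ((CohSite.push J K u).obj F) (q + 1) V) := by
  have hR : ∀ m : ℕ, IsZero ((CohSite.Rpush J K u (m + 1)).obj F) := by
    intro m
    refine IsZero.of_iso ?_ ((injectiveResolution F).isoRightDerivedObj (CohSite.push J K u) (m + 1) ≪≫
      ShHom.homologyIsoSheafify K _ (m + 1))
    apply Functor.map_isZero
    apply Functor.isZero
    intro W
    obtain ⟨W⟩ := W
    refine IsZero.of_iso ?_ ((CohPre.evH _ W (m + 1)).symm ≪≫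
      (CohPre.cU J (injectiveResolution F) (u.obj W) (m + 1)))
    exact @AddCommGrpCat.isZero_of_subsingleton _ (hF (u.obj W) m)
  let T := CohSite.push J K u
  let S := SiteSec.Γ K V
  have hS : PreservesFiniteLimits S :=
    preservesFiniteLimits_of_natIso (SiteSec.coyonedaIsoΓ K V)
  have hinj := ShGrp.pushAb_preservesInjectiveObjects J K u
  have hT : ∀ Q : Sheaf J AddCommGrpCat.{u}, Injective Q → ∀ q : ℕ, 0 < q →
      IsZero ((S.rightDerived q).obj (T.obj Q)) := by
    intro Q hQ q hq
    have : Injective (T.obj Q) := T.injective_obj_of_injective hQ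
    obtain ⟨m, rfl⟩ : ∃ m, q = m + 1 := ⟨q - 1, by omega⟩
    exact S.isZero_rightDerived_obj_injective_succ m _
  obtain ⟨E, a, hfin, hbdd, hE⟩ := GSS.main' T S hT F
  have hz : ∀ p q' : ℤ, q' ≠ 0 → IsZero ((E.page 2 le_rfl).X (p, q')) := by
    intro p q' hq'
    obtain ⟨e⟩ := hE p q'
    refine IsZero.of_iso ?_ e
    split_ifs with hpq
    · obtain ⟨m, rfl⟩ : ∃ m : ℕ, q' = (m : ℤ) + 1 := ⟨(q' - 1).toNat, by omega⟩
      have : ((m : ℤ) + 1).toNat = m + 1 := by omega
      rw [this]
      exact RDAdd.isZero_rightDerived_obj _ _ (hR m)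
    · exact isZero_zero _
  obtain ⟨e1⟩ := SpVan.iso_row0 E a 2 le_rfl le_rfl ((q + 1 : ℕ) : ℤ) (hfin _) hz
  obtain ⟨e2⟩ := hE ((q + 1 : ℕ) : ℤ) 0
  rw [if_pos (by omega)] at e1
  rw [if_pos (by omega)] at e2
  simp only [Int.toNat_natCast, Int.toNat_zero] at e1 e2
  have e3 : ((T ⋙ S).rightDerived (q + 1)).obj F ≅ AddCommGrpCat.of (CohSite.HU F (q + 1) (u.obj V)) :=
    SiteSec.rightDerivedΓIso J (u.obj V) F (q + 1)
  haveI : T.IsRightAdjoint := (u.sheafAdjunctionContinuous AddCommGrpCat.{u} K J).isRightAdjoint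
  haveI : PreservesFiniteLimits T := inferInstance
  have e4 := (S.rightDerived (q + 1)).mapIso ((T.rightDerivedZeroIsoSelf).app F)
  have e5 := SiteSec.rightDerivedΓIso K V (T.obj F) (q + 1)
  have hz' : IsZero (AddCommGrpCat.of (CohSite.HU F (q + 1) (u.obj V))) :=
    @AddCommGrpCat.isZero_of_subsingleton _ (hF (u.obj V) q)
  have hfinal : IsZero (AddCommGrpCat.of (CohSite.HU (T.obj F) (q + 1) V)) :=
    hz'.of_iso (e5.symm ≪≫ e4.symm ≪≫ e2.symm ≪≫ e1.symm ≪≫ e3)
  exact AddCommGrpCat.subsingleton_of_isZero hfinal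


end Groth.Agent.S6166
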