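import Groth.Statements.S6170
import Mathlib
import Groth.Agent.S6155
import Groth.Agent.Lib.Helper5.Misc.FreeOn
import Groth.Agent.Lib.Helper5.Misc.TensorSES

set_option autoImplicit false
universe u
open CategoryTheory
open ModSite

open CategoryTheory CategoryTheory.Limits Opposite MonoidalCategory
open Groth.Agent.Lib.Helper5.TensorSheaf Groth.Agent.Lib.Helper5

namespace Groth.Agent.S6170

/-- Ringed topos of sheaves on a small site with commutative structure sheaf O: the sections of the
internal hom Hom_O(M, N) over an object X form a group isomorphic to Hom_{O|X}(j_X^* M, j_X^* N).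
Existence of an additive isomorphism only (the source's is canonical); the internal-hom binder
always holds. -/
theorem result {C : Type u} [SmallCategory C] {J : GrothendieckTopology C} (O : Sheaf J CommRingCat.{u})
    (M N : ModSite.Mod O) [ModSite.HasSheafHom M] (X : C) :
    Nonempty (ModSite.sect ((ModSite.sheafHom M).obj N) X ≃+ ((ModSite.restr O X).obj M ⟶ (ModSite.restr O X).obj N)) := by
  have hadd3 : (restr O X).Additive := ⟨by intros; rfl⟩
  have hadd2 : (extZero O X).Additive := (extZeroAdj O X).left_adjoint_additive
  have e1 : (freeOn O X ⟶ (sheafHom M).obj N) ≃+ sect ((sheafHom M).obj N) X :=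
    { FreeOn.freeOnHomEquiv O X ((sheafHom M).obj N) with
      map_add' := by
        intro f g
        show FreeOn.freeOnHomEquiv O X _ (f + g) =
          FreeOn.freeOnHomEquiv O X _ f + FreeOn.freeOnHomEquiv O X _ g
        unfold FreeOn.freeOnHomEquiv
        simp only [Equiv.trans_apply]
        rw [Adjunction.homAddEquiv_add]
        rfl }
  have hadd : ((tensorBi O).flip.obj M).Additive := TensorSES.additive_flip_obj M
  have e2 : (((tensorBi O).flip.obj M).obj (freeOn O X) ⟶ N) ≃+
      (freeOn O X ⟶ (sheafHom M).obj N) := (sheafHomAdj M).homAddEquiv _ _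
  obtain ⟨i⟩ := Groth.Agent.S6155.result O X M
  have e3 : (((tensorBi O).flip.obj M).obj (freeOn O X) ⟶ N) ≃+
      ((extZero O X).obj ((restr O X).obj M) ⟶ N) :=
    { toFun := fun f => i.inv ≫ f
      invFun := fun g => i.hom ≫ g
      left_inv := fun f => by simp
      right_inv := fun g => by simp
      map_add' := fun f g => Preadditive.comp_add _ _ _ _ _ _ }
  have e4 : ((extZero O X).obj ((restr O X).obj M) ⟶ N) ≃+
      ((restr O X).obj M ⟶ (restr O X).obj N) := (extZeroAdj O X).homAddEquiv _ _
  exact ⟨e1.symm.trans (e2.symm.trans (e3.trans e4))⟩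

end Groth.Agent.S6170
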