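import Groth.Statements.S6172
import Mathlib
import Groth.Agent.Lib.Lead.CartProd

set_option autoImplicit false
universe u
open CategoryTheory
open SGA4

namespace Groth.Agent.S6172

open CategoryTheory.Limits MonoidalCategory in
/-- Topos E of sheaves of sets on a small site, localised at an object Z: with j_Z : E/Z -> E the
localisation morphism, j_Z^* X = Z x X over Z, and j_{Z*} its right adjoint (taken as an instance
hypothesis, which holds in any topos), j_{Z*} j_Z^* Y is isomorphic to the internal hom Hom(Z, Y)
for every object Y. Existence of an isomorphism only (the source's is canonical). -/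
theorem result {C : Type u} [SmallCategory C] (J : GrothendieckTopology C)
    (Z Y : Sheaf J (Type u)) [(Over.star Z).IsLeftAdjoint] :
    Nonempty (((Over.star Z).rightAdjoint).obj ((Over.star Z).obj Y) ≅ (ihom Z).obj Y) := by
  classical
let adj := Adjunction.ofIsLeftAdjoint (Over.star Z)
let adj1 : MonoidalCategory.tensorLeft Z ⊣ Over.star Z ⋙ (Over.star Z).rightAdjoint :=
  (adj.comp (Over.forgetAdjStar Z)).ofNatIsoLeft (Groth.Agent.Lead.tensorLeftIsoStarForget Z)
let adj2 : MonoidalCategory.tensorLeft Z ⊣ ihom Z := ihom.adjunction Z
exact ⟨(adj1.rightAdjointUniq adj2).app Y⟩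

end Groth.Agent.S6172
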