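import Groth.Statements.S6173
import Mathlib

set_option autoImplicit false
universe u
open CategoryTheory
open SGA4

namespace Groth.Agent.S6173

section
open CategoryTheory Limits GrothendieckTopology

open GrothendieckTopology.Point.ofIsCofiltered in
theorem main {C : Type u} [SmallCategory C] (J : GrothendieckTopology C) {ι : Type u}
    (X : ι → C) (hX : J.CoversTop X) (h : ∀ i, GrothendieckTopology.HasEnoughPoints.{u} (J.over (X i))) :
    GrothendieckTopology.HasEnoughPoints.{u} J := by
  choose P hPs hP using fun i => (h i).exists_objectProperty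
  refine ⟨ObjectProperty.ofObj (fun (ψ : Σ i, (P i).FullSubcategory) =>
    ψ.2.obj.map (Over.forget (X ψ.1)) J), inferInstance, ?_⟩
  refine ObjectProperty.IsConservativeFamilyOfPoints.mk' ?_
  intro X₀ S hS
  refine J.transitive (hX X₀) S ?_
  rintro W f ⟨i, ⟨a⟩⟩
  let T : Over (X i) := Over.mk a
  suffices hsuff : (Sieve.overEquiv T).symm (S.pullback f) ∈ (J.over (X i)) T by
    rw [GrothendieckTopology.mem_over_iff, OrderIso.apply_symm_apply] at hsuff
    exact hsuff
  obtain ⟨κ, Z, g, hZ⟩ := ((Sieve.overEquiv T).symm (S.pullback f)).exists_eq_ofArrows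
  rw [hZ, (hP i).jointly_reflect_ofArrows_mem_of_small]
  intro Φ x
  -- the point of `J` obtained from `Φ`
  let pF : Φ.obj.fiber.Elements ⥤ C := CategoryOfElements.π Φ.obj.fiber ⋙ Over.forget (X i)
  have hΨ : (ObjectProperty.ofObj (fun (ψ : Σ i, (P i).FullSubcategory) =>
      ψ.2.obj.map (Over.forget (X ψ.1)) J)) (Φ.obj.map (Over.forget (X i)) J) :=
    ObjectProperty.ofObj_apply (fun (ψ : Σ i, (P i).FullSubcategory) =>
      ψ.2.obj.map (Over.forget (X ψ.1)) J) (⟨i, Φ⟩ : Σ i, (P i).FullSubcategory)
  let U₀ : Φ.obj.fiber.Elements := Φ.obj.fiber.elementsMk T x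
  let f₀ : pF.obj U₀ ⟶ X₀ := f
  let ξ : (Φ.obj.map (Over.forget (X i)) J).fiber.obj X₀ := fiberMk (p := pF) (U := U₀) f₀
  obtain ⟨Y, g', hg', y, hy⟩ := hS ⟨_, hΨ⟩ ξ
  obtain ⟨U₁, h', rfl⟩ := fiberMk_jointly_surjective (p := pF) y
  have e1 : fiberMk (p := pF) (U := U₁) (h' ≫ g') = fiberMk (p := pF) (U := U₀) f₀ := by
    rw [← fiber_map_fiberMk]
    exact hy
  -- a common refinement
  let V := IsCofiltered.min U₀ U₁
  let q₀ : V ⟶ U₀ := IsCofiltered.minToLeft U₀ U₁
  let q₁ : V ⟶ U₁ := IsCofiltered.minToRight U₀ U₁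
  have e2 : fiberMk (p := pF) (U := V) (pF.map q₁ ≫ h' ≫ g') =
      fiberMk (p := pF) (U := V) (pF.map q₀ ≫ f₀) :=
    (fiberMk_map_comp (p := pF) q₁ (h' ≫ g')).trans
      (e1.trans (fiberMk_map_comp (p := pF) q₀ f₀).symm)
  obtain ⟨V', r, hr⟩ := exists_of_fiberMk_eq_fiberMk e2
  -- the resulting arrow of `Over (X i)`
  let q : V' ⟶ U₀ := r ≫ q₀
  have hq1 : Φ.obj.fiber.map q.1 V'.2 = x := q.2
  have hq2 : S.pullback f (q.1.left) := by
    show S (q.1.left ≫ f)
    have : q.1.left ≫ f = (pF.map r ≫ pF.map q₁ ≫ h') ≫ g' := by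
      have : q.1.left ≫ f = pF.map r ≫ pF.map q₀ ≫ f₀ := by
        simp [q, pF, f₀]
        rfl
      rw [this, ← hr]
      first
        | (simp only [Category.assoc]; done)
        | (simp only [Category.assoc]; rfl)
    rw [this]
    exact S.downward_closed hg' _
  have hq3 : (Sieve.overEquiv T).symm (S.pullback f) q.1 := by
    rw [Sieve.overEquiv_symm_iff]
    exact hq2
  rw [hZ] at hq3
  obtain ⟨Z', b, g₀, ⟨j⟩, hb⟩ := hq3
  refine ⟨j, Φ.obj.fiber.map b V'.2, ?_⟩
  rw [← hq1, ← hb]
  simp


end


/-- Second assertion (topos of sheaves on a small site (C, J); E/X_i the induced topoi, modelled by the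
sites (C/X_i, J/X_i); 'enough points' = a small conservative family of points, equivalently all
fibre functors together are conservative): if (X_i) is a family of objects covering the final object
and every E/X_i has enough points, then E has enough points. (The first assertion, that E/X inherits
enough points from E, is Mathlib's instance.) -/
theorem result {C : Type u} [SmallCategory C] (J : GrothendieckTopology C) {ι : Type u}
    (X : ι → C) (hX : J.CoversTop X) (h : ∀ i, GrothendieckTopology.HasEnoughPoints.{u} (J.over (X i))) :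
    GrothendieckTopology.HasEnoughPoints.{u} J := by
  classical
  exact main J X hX h

end Groth.Agent.S6173
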