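import Groth.Statements.S6176
import Mathlib

set_option autoImplicit false
universe u
open CategoryTheory
open SGA4

namespace Groth.Agent.S6176

section
open CategoryTheory CategoryTheory.Limits

variable {𝓔 : Type*} [Category 𝓔] [HasTerminal 𝓔] (U : 𝓔) (hU : Mono (terminal.from U))

include hU in
theorem sub_ext {T : 𝓔} (f g : T ⟶ U) : f = g :=
  (cancel_mono (terminal.from U)).1 (Subsingleton.elim _ _)

include hU in
theorem pres (I : Type*) [Nonempty I] : PreservesLimitsOfShape (Discrete I) (Over.forget U) := by
  classical
  obtain ⟨i₀⟩ := ‹Nonempty I›
  refine ⟨fun {K} => ⟨fun {c} hc => ?_⟩⟩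
  -- the cone over `K` built from a cone over `K ⋙ forget`
  let mkCone : Cone (K ⋙ Over.forget U) → Cone K := fun s =>
    { pt := Over.mk (s.π.app ⟨i₀⟩ ≫ (K.obj ⟨i₀⟩).hom)
      π := { app := fun i => Over.homMk (s.π.app i) (sub_ext U hU _ _)
             naturality := by
               rintro ⟨i⟩ ⟨j⟩ f
               obtain rfl : i = j := Discrete.eq_of_hom f
               have hf : f = 𝟙 _ := Subsingleton.elim _ _
               subst hf
               simp } }
  refine ⟨{ lift := fun s => (hc.lift (mkCone s)).left
            fac := ?_
            uniq := ?_ }⟩
  · intro s i
    exact congrArg (fun t => t.left) (hc.fac (mkCone s) i)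
  · intro s m hm
    have h1 : (Over.homMk m (sub_ext U hU _ _) : (mkCone s).pt ⟶ c.pt) = hc.lift (mkCone s) := by
      apply hc.uniq (mkCone s)
      intro i
      ext
      exact hm i
    exact congrArg (fun t => t.left) h1


end


open CategoryTheory.Limits in
/-- The clause on products (topos of sheaves of sets on a small site; j : E/U -> E the open embedding
defined by an open U, i.e. a subobject of the final object, so that j_! is the forgetful functor
from objects over U): j_! commutes with products indexed by a nonempty u-small set. (Commutation
with fibre products and cofiltered limits, the other clauses, holds for the forgetful functor of any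
slice.) -/
theorem result {C : Type u} [SmallCategory C] (J : GrothendieckTopology C)
    (U : Sheaf J (Type u)) (hU : SGA4.IsOpen U) (I : Type u) [Nonempty I] :
    PreservesLimitsOfShape (Discrete I) (Over.forget U) := by
  classical
  exact pres U hU I

end Groth.Agent.S6176
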