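import Groth.Statements.S6177
import Mathlib

set_option autoImplicit false
universe u
open CategoryTheory
open SGA4

namespace Groth.Agent.S6177

section
open CategoryTheory CategoryTheory.Limits

section general
variable {𝓔 : Type*} [Category 𝓔] [HasBinaryProducts 𝓔] [HasPushouts 𝓔] [HasTerminal 𝓔]
  (U : 𝓔) (hU : Mono (terminal.from U))

include hU in
theorem sub_ext {T : 𝓔} (f g : T ⟶ U) : f = g :=
  (cancel_mono (terminal.from U)).1 (Subsingleton.elim _ _)

theorem cc_of_iso {X X' : 𝓔} (e : X ≅ X') (h : IsIso (prod.fst : U ⨯ X ⟶ U)) :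
    IsIso (prod.fst : U ⨯ X' ⟶ U) := by
  have h1 : (prod.fst : U ⨯ X' ⟶ U) = prod.map (𝟙 U) e.inv ≫ (prod.fst : U ⨯ X ⟶ U) := by simp
  rw [h1]
  infer_instance

include hU in
theorem cc_pushout [PreservesColimitsOfShape WalkingSpan (prod.functor.obj U)] (Y : 𝓔) :
    IsIso (prod.fst : U ⨯ pushout (prod.fst : U ⨯ Y ⟶ U) (prod.snd : U ⨯ Y ⟶ Y) ⟶ U) := by
  have hpo := (IsPushout.of_hasPushout (prod.fst : U ⨯ Y ⟶ U) (prod.snd : U ⨯ Y ⟶ Y)).map
    (prod.functor.obj U)
  have hsnd' : IsIso (prod.map (𝟙 U) (prod.snd : U ⨯ Y ⟶ Y)) := by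
    refine ⟨prod.lift prod.fst (𝟙 (U ⨯ Y)), ?_, ?_⟩
    · apply Limits.prod.hom_ext
      · simp [prod.lift_fst, prod.lift_snd]
      · apply Limits.prod.hom_ext
        · exact sub_ext U hU _ _
        · simp [prod.lift_fst, prod.lift_snd]
    · simp [prod.lift_fst, prod.lift_snd]
  have hsnd : IsIso ((prod.functor.obj U).map (prod.snd : U ⨯ Y ⟶ Y)) := hsnd'
  have hinl := hpo.isIso_inl_of_isIso hsnd
  have hUU : IsIso (prod.fst : U ⨯ U ⟶ U) := by
    refine ⟨prod.lift (𝟙 U) (𝟙 U), ?_, ?_⟩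
    · apply Limits.prod.hom_ext
      · simp [prod.lift_fst, prod.lift_snd]
      · exact sub_ext U hU _ _
    · simp [prod.lift_fst, prod.lift_snd]
  have hm : IsIso (prod.map (𝟙 U)
      (pushout.inl (prod.fst : U ⨯ Y ⟶ U) (prod.snd : U ⨯ Y ⟶ Y))) := hinl
  have h1 : (prod.fst : U ⨯ pushout (prod.fst : U ⨯ Y ⟶ U) (prod.snd : U ⨯ Y ⟶ Y) ⟶ U) =
      inv (prod.map (𝟙 U) (pushout.inl (prod.fst : U ⨯ Y ⟶ U) (prod.snd : U ⨯ Y ⟶ Y))) ≫
        (prod.fst : U ⨯ U ⟶ U) := by
    rw [IsIso.eq_inv_comp]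
    simp
  rw [h1]
  infer_instance

end general

theorem main {C : Type u} [SmallCategory C] (J : GrothendieckTopology C)
    (U : Sheaf J (Type u)) (hU : SGA4.IsOpen U) (X : Sheaf J (Type u)) :
    (SGA4.closedCompl U X ↔ IsIso (pushout.inr (prod.fst : U ⨯ X ⟶ U) (prod.snd : U ⨯ X ⟶ X))) ∧
    ((∃ Y : Sheaf J (Type u), Nonempty (X ≅ pushout (prod.fst : U ⨯ Y ⟶ U) (prod.snd : U ⨯ Y ⟶ Y))) →
      SGA4.closedCompl U X) := by
  have hc : Closed U := inferInstance
  have hl : (prod.functor.obj U).IsLeftAdjoint :=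
    @CartesianMonoidalCategory.isLeftAdjoint_prod_functor _ _ _ U hc
  have hp : PreservesColimitsOfSize.{0, 0} (prod.functor.obj U) :=
    (Adjunction.ofIsLeftAdjoint (prod.functor.obj U)).leftAdjoint_preservesColimits
  have hpres : PreservesColimitsOfShape WalkingSpan (prod.functor.obj U) :=
    hp.preservesColimitsOfShape
  have h2 : ∀ Y : Sheaf J (Type u),
      (X ≅ pushout (prod.fst : U ⨯ Y ⟶ U) (prod.snd : U ⨯ Y ⟶ Y)) → SGA4.closedCompl U X :=
    fun Y e => cc_of_iso U e.symm (cc_pushout U hU Y)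
  refine ⟨⟨fun h => ?_, fun h => ?_⟩, ?_⟩
  · have : IsIso (prod.fst : U ⨯ X ⟶ U) := h
    infer_instance
  · exact h2 X (asIso (pushout.inr (prod.fst : U ⨯ X ⟶ U) (prod.snd : U ⨯ X ⟶ X)))
  · rintro ⟨Y, ⟨e⟩⟩
    exact h2 Y e


end


open CategoryTheory.Limits in
/-- Topos of sheaves of sets on a small site; U an open, i.e. a subobject of the final object; X_CU the
pushout of U <- U x X -> X along the two projections: (ii) <=> (iii): the canonical map X -> X_CU is
an isomorphism if and only if the projection U x X -> U is an isomorphism (X belongs to the closed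
complement of U); and (i) => (iii): if X is isomorphic to Y_CU for some Y then X belongs to the
closed complement of U ((iii) => (i) with Y = X is then immediate from (ii)). -/
theorem result {C : Type u} [SmallCategory C] (J : GrothendieckTopology C)
    (U : Sheaf J (Type u)) (hU : SGA4.IsOpen U) (X : Sheaf J (Type u)) :
    (SGA4.closedCompl U X ↔ IsIso (pushout.inr (prod.fst : U ⨯ X ⟶ U) (prod.snd : U ⨯ X ⟶ X))) ∧
    ((∃ Y : Sheaf J (Type u), Nonempty (X ≅ pushout (prod.fst : U ⨯ Y ⟶ U) (prod.snd : U ⨯ Y ⟶ Y))) →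
      SGA4.closedCompl U X) := by
  classical
  exact main J U hU X

end Groth.Agent.S6177
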