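import Groth.Statements.S6179
import Mathlib
import Groth.Prelude.Def_SGA4b
import Groth.Prelude.Def_EtBase
import Groth.Prelude.Def_EtCore
import Groth.Agent.S5062
import Groth.Agent.S0074
-- import your own Groth.Agent.* helpers here

set_option autoImplicit false
open CategoryTheory CategoryTheory.Limits AlgebraicGeometry Opposite
universe u
open EtDesc

namespace Groth.Agent.S6179

open CategoryTheory CategoryTheory.Limits AlgebraicGeometry Opposite
open CategoryTheory CategoryTheory.Limits AlgebraicGeometry Opposite
namespace Aux
set_option linter.unusedSectionVars false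
set_option backward.isDefEq.respectTransparency false
set_option linter.style.haveILetI false
open Groth.Agent.S0074.Aux

theorem main (R : Type u) [CommRing R] [HenselianLocalRing R]
    [IsSepClosed (IsLocalRing.ResidueField R)] (F : EtDesc.Sh (Spec (CommRingCat.of R))) :
    Function.Bijective ((Scheme.pointSmallEtale
      (Spec.map (CommRingCat.ofHom (IsLocalRing.residue R)))).toPresheafFiber (A := Type (u + 1))
        (EtCoh.top (Spec (CommRingCat.of R)))
        (Over.homMk (Spec.map (CommRingCat.ofHom (IsLocalRing.residue R))) (Category.comp_id _))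
        F.obj) := by
  haveI : PreservesFilteredColimitsOfSize.{u, u} (forget (Type (u + 1))) :=
    preservesFilteredColimitsOfSize_shrink.{u, u + 1, u, u + 1} _
  let S := Spec (CommRingCat.of R)
  let ξ : Spec (CommRingCat.of (IsLocalRing.ResidueField R)) ⟶ S :=
    Spec.map (CommRingCat.ofHom (IsLocalRing.residue R))
  let Φ := Scheme.pointSmallEtale ξ
  let T := EtCoh.top S
  let x₀ : Φ.fiber.obj T := Over.homMk ξ (Category.comp_id _)
  have hξpt : ξ (IsLocalRing.closedPoint (IsLocalRing.ResidueField R)) =
      IsLocalRing.closedPoint R :=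
    IsLocalRing.comap_closedPoint (IsLocalRing.residue R)
  -- sections through fibre points
  have hsec : ∀ (Y : S.Etale) (y : Φ.fiber.obj Y),
      ∃ ū : T ⟶ Y, (∀ f : Y ⟶ T, ū ≫ f = 𝟙 T) ∧ Φ.fiber.map ū x₀ = y := by
    intro Y y
    let b : Spec (CommRingCat.of (IsLocalRing.ResidueField R)) ⟶ Y.left := y.left
    have hb : b ≫ Y.hom = ξ := Over.w y
    have hYe : Etale Y.hom := Y.prop
    have hy₀ : Y.hom (b (IsLocalRing.closedPoint _)) = IsLocalRing.closedPoint R := by
      rw [← hξpt, ← hb]; rfl
    obtain ⟨u, hu, hupt⟩ := (Groth.Agent.S5062.result R).1 ⟨inferInstance, inferInstance⟩ Y.left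
      Y.hom hYe _ hy₀
    let ū : T ⟶ Y := MorphismProperty.Over.homMk u hu
    refine ⟨ū, fun f => (EtCore.topIsTerminal S).hom_ext _ _, ?_⟩
    have hab : ξ ≫ u = b := by
      apply spec_lift_unique Y.hom ξ (surjective_residue_point R)
      · rw [Category.assoc, hu, Category.comp_id]
      · exact hb
      · show u (ξ _) = _
        rw [hξpt, hupt]
        rfl
    apply Over.OverMorphism.ext
    exact hab
  constructor
  · intro z₁ z₂ h
    rw [GrothendieckTopology.Point.toPresheafFiber_eq_iff'] at h
    obtain ⟨Y, f, y, -, hz⟩ := h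
    obtain ⟨ū, hū, -⟩ := hsec Y y
    have h1 : ∀ z, F.obj.map (ū ≫ f).op z = z := by
      intro z
      rw [hū f, op_id, F.obj.map_id]; rfl
    rw [← h1 z₁, ← h1 z₂, op_comp, Functor.map_comp, ConcreteCategory.comp_apply,
      ConcreteCategory.comp_apply, hz]
  · intro p
    obtain ⟨Y, y, z, rfl⟩ := GrothendieckTopology.Point.toPresheafFiber_jointly_surjective
      (A := Type (u + 1)) Φ (P := F.obj) p
    obtain ⟨ū, -, hū⟩ := hsec Y y
    refine ⟨F.obj.map ū.op z, ?_⟩
    rw [← hū]
    exact GrothendieckTopology.Point.toPresheafFiber_w_apply Φ ū x₀ F.obj z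

end Aux

/-- Let R be a strictly henselian local ring, X = Spec R and x̄ : Spec κ(R) -> X the closed geometric
point. For every etale sheaf of sets F on X the canonical map Γ(X, F) -> F_x̄ into the stalk (the
colimit of F(X') over the x̄-pointed etale X-schemes X', taken at X' = X) is bijective; in
particular the global-sections functor is isomorphic to the fibre functor at x̄ and commutes with
all colimits. -/
theorem result (R : Type u) [CommRing R]
    [HenselianLocalRing R] [IsSepClosed (IsLocalRing.ResidueField R)]
    (F : EtDesc.Sh (Spec (CommRingCat.of R))) :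
    Function.Bijective ((Scheme.pointSmallEtale
      (Spec.map (CommRingCat.ofHom (IsLocalRing.residue R)))).toPresheafFiber (A := Type (u + 1))
        (EtCoh.top (Spec (CommRingCat.of R)))
        (Over.homMk (Spec.map (CommRingCat.ofHom (IsLocalRing.residue R))) (Category.comp_id _)) F.obj) := by
  exact Aux.main R F

end Groth.Agent.S6179
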