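import Groth.Statements.S6181
import Mathlib
import Groth.Prelude.Def_SGA4b
import Groth.Agent.Lib.Helper5.Misc.EtStalk
import Groth.Agent.Lib.Helper5.Misc.EtSiteBasic
import Groth.Agent.Lib.Helper5.Misc.EtGlue
import Groth.Agent.Lib.Helper9.FE.FinGeoPt
import Groth.Agent.Lib.Helper9.FE.FinGeoDecomp
import Groth.Agent.Lib.Helper9.FE.FinDisjFib
import Groth.Agent.S0728
import Groth.Agent.S0072
-- import your own Groth.Agent.* helpers here

set_option autoImplicit false
open CategoryTheory CategoryTheory.Limits AlgebraicGeometry Opposite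
universe u
open EtDesc

namespace Groth.Agent.S6181

open CategoryTheory CategoryTheory.Limits AlgebraicGeometry Opposite
namespace Aux

set_option backward.isDefEq.respectTransparency false
set_option linter.style.haveILetI false
set_option linter.unusedSectionVars false

open Groth.Agent.Lib.Helper5 Groth.Agent.S0728 H9FE Groth.Agent.S0072.Aux

variable {X Y : Scheme.{u}} (f : X ⟶ Y)
variable {Ω : Type u} [Field Ω] [IsSepClosed Ω] (η : Spec (CommRingCat.of Ω) ⟶ Y)

/-- the comparison map on fibres, for sheaves of sets -/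
noncomputable def phiSh (ξ : Spec (CommRingCat.of Ω) ⟶ X) (hξ : ξ ≫ f = η) (F : EtDesc.Sh X) :
    (Scheme.pointSmallEtale η).presheafFiber.obj ((EtDesc.pushSh f).obj F).obj ⟶
      (Scheme.pointSmallEtale ξ).presheafFiber.obj F.obj :=
  (Scheme.pointSmallEtale η).presheafFiberDesc (P := ((EtDesc.pushSh f).obj F).obj)
    (fun V v => (Scheme.pointSmallEtale ξ).toPresheafFiber ((EtCoh.bc f).obj V)
      (liftPt f η ξ hξ V v) F.obj)
    (by
      intro V' V g v'
      have h1 := (Scheme.pointSmallEtale ξ).toPresheafFiber_w ((EtCoh.bc f).map g)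
        (liftPt f η ξ hξ V' v') F.obj
      rw [liftPt_map] at h1
      exact h1)

lemma toPF_phiSh (ξ : Spec (CommRingCat.of Ω) ⟶ X) (hξ : ξ ≫ f = η) (F : EtDesc.Sh X)
    (V : Y.Etale) (v : (Scheme.pointSmallEtale η).fiber.obj V) :
    (Scheme.pointSmallEtale η).toPresheafFiber V v ((EtDesc.pushSh f).obj F).obj ≫
      phiSh f η ξ hξ F =
    (Scheme.pointSmallEtale ξ).toPresheafFiber ((EtCoh.bc f).obj V) (liftPt f η ξ hξ V v) F.obj :=
  (Scheme.pointSmallEtale η).toPresheafFiber_presheafFiberDesc _ _ V v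

lemma phiSh_germ (ξ : Spec (CommRingCat.of Ω) ⟶ X) (hξ : ξ ≫ f = η) (F : EtDesc.Sh X)
    (V : Y.Etale) (v : (Scheme.pointSmallEtale η).fiber.obj V)
    (s : F.obj.obj (op ((EtCoh.bc f).obj V))) :
    (phiSh f η ξ hξ F) ((Scheme.pointSmallEtale η).toPresheafFiber V v
      ((EtDesc.pushSh f).obj F).obj s) =
    (Scheme.pointSmallEtale ξ).toPresheafFiber ((EtCoh.bc f).obj V) (liftPt f η ξ hξ V v) F.obj s := by
  have := ConcreteCategory.congr_hom (toPF_phiSh f η ξ hξ F V v) s
  simp only [ConcreteCategory.comp_apply] at this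
  exact this

/-- the comparison, as a natural transformation -/
noncomputable def phiNat (ξ : Spec (CommRingCat.of Ω) ⟶ X) (hξ : ξ ≫ f = η) :
    EtDesc.pushSh f ⋙ (Scheme.pointSmallEtale η).sheafFiber (A := Type (u + 1)) ⟶
      ((Scheme.pointSmallEtale ξ).sheafFiber (A := Type (u + 1)) : EtDesc.Sh X ⥤ Type (u + 1)) where
  app F := phiSh f η ξ hξ F
  naturality F G α := by
    apply (Scheme.pointSmallEtale η).presheafFiber_hom_ext
    intro V v
    change (Scheme.pointSmallEtale η).toPresheafFiber V v ((EtDesc.pushSh f).obj F).obj ≫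
      (Scheme.pointSmallEtale η).presheafFiber.map ((EtDesc.pushSh f).map α).hom ≫
        phiSh f η ξ hξ G =
      (Scheme.pointSmallEtale η).toPresheafFiber V v ((EtDesc.pushSh f).obj F).obj ≫
        phiSh f η ξ hξ F ≫ (Scheme.pointSmallEtale ξ).presheafFiber.map α.hom
    rw [(Scheme.pointSmallEtale η).toPresheafFiber_naturality_assoc, toPF_phiSh,
      ← Category.assoc, toPF_phiSh, (Scheme.pointSmallEtale ξ).toPresheafFiber_naturality]
    rfl

/-- Sections of a sheaf of sets which agree étale locally are equal. -/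
lemma sect_ext_localSh (F : EtDesc.Sh X) {V : X.Etale} (s t : F.obj.obj (op V))
    (h : ∀ v : V.left, ∃ (W : X.Etale) (g : W ⟶ V) (w : W.left), g.left w = v ∧
      F.obj.map g.op s = F.obj.map g.op t) : s = t := by
  let R : Sieve V :=
    { arrows := fun W g => F.obj.map g.op s = F.obj.map g.op t
      downward_closed := by
        intro Y Z f hf g
        change F.obj.map (g ≫ f).op s = F.obj.map (g ≫ f).op t
        rw [op_comp, Functor.map_comp]
        change F.obj.map g.op (F.obj.map f.op s) = F.obj.map g.op (F.obj.map f.op t)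
        rw [hf] }
  have hR : R ∈ X.smallEtaleTopology V := by
    rw [EtSiteBasic.mem_smallEtale_iff]
    intro v
    obtain ⟨W, g, w, hw, hg⟩ := h v
    exact ⟨W, g, w, hg, hw⟩
  exact EtSiteBasic.sect_ext F R hR s t (fun W g hg => hg)

lemma map_comp_applySh (F : EtDesc.Sh X) {V W Z : X.Etale} (f : W ⟶ V) (g : Z ⟶ W)
    (s : F.obj.obj (op V)) : F.obj.map (g ≫ f).op s = F.obj.map g.op (F.obj.map f.op s) := by
  rw [op_comp, Functor.map_comp]
  rfl

theorem phiSh_injective [IsFinite f] (hac : IsAlgClosed Ω) (F : EtDesc.Sh X)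
    (a b : (Scheme.pointSmallEtale η).presheafFiber.obj ((EtDesc.pushSh f).obj F).obj)
    (hab : ∀ (ξ : Spec (CommRingCat.of Ω) ⟶ X) (hξ : ξ ≫ f = η),
      phiSh f η ξ hξ F a = phiSh f η ξ hξ F b) :
    a = b := by
  obtain ⟨V, v, s, s₂, rfl, rfl⟩ := (Scheme.pointSmallEtale η).toPresheafFiber_jointly_surjective₂
    (P := ((EtDesc.pushSh f).obj F).obj) a b
  let s' : F.obj.obj (op ((EtCoh.bc f).obj V)) := s
  let s₂' : F.obj.obj (op ((EtCoh.bc f).obj V)) := s₂
  have h1 : ∀ ξ : {ξ : Spec (CommRingCat.of Ω) ⟶ X // ξ ≫ f = η}, ∃ (U : X.Etale)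
      (k : U ⟶ (EtCoh.bc f).obj V) (uu : (Scheme.pointSmallEtale ξ.1).fiber.obj U),
      (Scheme.pointSmallEtale ξ.1).fiber.map k uu = liftPt f η ξ.1 ξ.2 V v ∧
        F.obj.map k.op s' = F.obj.map k.op s₂' := by
    intro ξ
    have h0 := hab ξ.1 ξ.2
    rw [phiSh_germ, phiSh_germ] at h0
    rw [(Scheme.pointSmallEtale ξ.1).toPresheafFiber_eq_iff'] at h0
    exact h0
  choose U k uu hk hres using h1
  let v₀ : V.left := v.left (default : Spec (CommRingCat.of Ω))
  haveI : IsFinite (pullback.fst V.hom f) := inferInstance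
  have hcov : ∀ z : ↑(pullback V.hom f), pullback.fst V.hom f z = v₀ →
      ∃ ξ : {ξ : Spec (CommRingCat.of Ω) ⟶ X // ξ ≫ f = η}, z ∈ Set.range (k ξ).left := by
    intro z hz
    obtain ⟨ζ, hζ1, hζ2⟩ := @FinGeoPt.exists_lift _ _ (pullback.fst V.hom f) _ Ω _ hac v.left z
      (fun a => by
        rw [hz, Subsingleton.elim a (default : Spec (CommRingCat.of Ω))]
        rfl)
    have hξ : (ζ ≫ pullback.snd V.hom f) ≫ f = η := by
      rw [Category.assoc, ← pullback.condition, ← Category.assoc, hζ1]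
      exact Over.w v
    let ξ : {ξ : Spec (CommRingCat.of Ω) ⟶ X // ξ ≫ f = η} := ⟨ζ ≫ pullback.snd V.hom f, hξ⟩
    refine ⟨ξ, ?_⟩
    have e1 : (liftPt f η ξ.1 ξ.2 V v).left = ζ := by
      rw [liftPt_left]
      apply pullback.hom_ext
      · rw [pullback.lift_fst, hζ1]
      · rw [pullback.lift_snd]
    have e2 : (uu ξ).left ≫ (k ξ).left = ζ := by
      rw [← e1]
      exact congrArg (fun a => a.left) (hk ξ)
    refine ⟨(uu ξ).left (default : Spec (CommRingCat.of Ω)), ?_⟩
    exact (congrArg (fun m => m.base (default : Spec (CommRingCat.of Ω))) e2).trans (hζ2 _)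
  obtain ⟨V', p, y', hp, hpy, μ, hμ, O, hdisj, hcovO, hfac⟩ :=
    FinDisjFib.coreB' (pullback.fst V.hom f) v₀ (fun ξ => (U ξ).left) (fun ξ => (k ξ).left)
      (fun ξ => inferInstance) hcov
  haveI := hp
  haveI : Etale V.hom := V.prop
  let V'o : Y.Etale := EtSiteBasic.ofEtale (p ≫ V.hom)
  let π : V'o ⟶ V := MorphismProperty.Over.homMk p rfl trivial
  obtain ⟨v', hv'⟩ := exists_fiber_lift η π v y' hpy
  have w := fun (z : ((EtDesc.pushSh f).obj F).obj.obj (op V)) => ConcreteCategory.congr_hom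
    ((Scheme.pointSmallEtale η).toPresheafFiber_w π v' ((EtDesc.pushSh f).obj F).obj) z
  simp only [ConcreteCategory.comp_apply] at w
  have w2 : ∀ z : ((EtDesc.pushSh f).obj F).obj.obj (op V),
      ((Scheme.pointSmallEtale η).toPresheafFiber V'o v' ((EtDesc.pushSh f).obj F).obj)
      (((EtDesc.pushSh f).obj F).obj.map π.op z) =
      ((Scheme.pointSmallEtale η).toPresheafFiber V v ((EtDesc.pushSh f).obj F).obj) z := by
    intro z
    refine (w z).trans ?_
    exact congrArg (fun z' => ((Scheme.pointSmallEtale η).toPresheafFiber V z'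
      ((EtDesc.pushSh f).obj F).obj) z) hv'
  have hz : ((EtDesc.pushSh f).obj F).obj.map π.op s =
      ((EtDesc.pushSh f).obj F).obj.map π.op s₂ := by
    change F.obj.map ((EtCoh.bc f).map π).op s' = F.obj.map ((EtCoh.bc f).map π).op s₂'
    have sq := EtCoh.isPullback_bc_map f π
    let e := sq.isoPullback
    have he1 : e.hom ≫ pullback.fst (pullback.fst V.hom f) p = ((EtCoh.bc f).map π).left :=
      sq.isoPullback_hom_fst
    apply sect_ext_localSh
    intro x
    obtain ⟨a, hxa⟩ := hcovO (e.hom x)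
    obtain ⟨ξ, h, hh⟩ := hfac a
    let N : X.Etale := restrictOpen ((EtCoh.bc f).obj V'o) (e.hom ⁻¹ᵁ (O a))
    let ν : N ⟶ (EtCoh.bc f).obj V'o := restrictOpenι _ _
    have hrange : Set.range ((e.hom ⁻¹ᵁ (O a)).ι ≫ e.hom).base ⊆ Set.range (O a).ι.base := by
      rintro _ ⟨n, rfl⟩
      rw [Scheme.Opens.range_ι]
      exact n.2
    let r : (N.left : Scheme.{u}) ⟶ ((O a : (pullback (pullback.fst V.hom f) p).Opens) : Scheme.{u}) :=
      IsOpenImmersion.lift (O a).ι ((e.hom ⁻¹ᵁ (O a)).ι ≫ e.hom) hrange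
    have hr : r ≫ (O a).ι = (e.hom ⁻¹ᵁ (O a)).ι ≫ e.hom := IsOpenImmersion.lift_fac _ _ _
    have hk1 : (k ξ).left ≫ pullback.snd V.hom f = (U ξ).hom := Over.w (k ξ).hom
    have hm : (r ≫ h) ≫ (U ξ).hom = N.hom := by
      rw [Category.assoc, ← hk1, ← Category.assoc h, hh, ← Category.assoc, ← Category.assoc, hr,
        Category.assoc, Category.assoc, ← Category.assoc e.hom, he1, bc_map_snd]
      rfl
    let m : N ⟶ U ξ := MorphismProperty.Over.homMk (r ≫ h) hm trivial
    have hcomp : ν ≫ (EtCoh.bc f).map π = m ≫ k ξ := by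
      apply MorphismProperty.Over.Hom.ext
      change (e.hom ⁻¹ᵁ (O a)).ι ≫ ((EtCoh.bc f).map π).left = (r ≫ h) ≫ (k ξ).left
      rw [Category.assoc, hh, ← Category.assoc, hr, Category.assoc, he1]
    refine ⟨N, ν, ⟨x, hxa⟩, rfl, ?_⟩
    rw [← map_comp_applySh, ← map_comp_applySh, hcomp, map_comp_applySh, map_comp_applySh, hres ξ]
  rw [← w2 s, ← w2 s₂, hz]

theorem phiSh_surjective [IsFinite f] (hac : IsAlgClosed Ω) (F : EtDesc.Sh X)
    (t : ∀ ξ : {ξ : Spec (CommRingCat.of Ω) ⟶ X // ξ ≫ f = η},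
      (Scheme.pointSmallEtale ξ.1).presheafFiber.obj F.obj) :
    ∃ a : (Scheme.pointSmallEtale η).presheafFiber.obj ((EtDesc.pushSh f).obj F).obj,
      ∀ ξ : {ξ : Spec (CommRingCat.of Ω) ⟶ X // ξ ≫ f = η}, phiSh f η ξ.1 ξ.2 F a = t ξ := by
  haveI : Finite {ξ : Spec (CommRingCat.of Ω) ⟶ X // ξ ≫ f = η} := FinGeoPt.finite_lifts f η
  obtain ⟨n, ⟨e⟩⟩ := Finite.exists_equiv_fin {ξ : Spec (CommRingCat.of Ω) ⟶ X // ξ ≫ f = η}
  have hgerm : ∀ k : Fin n, ∃ (U : X.Etale)
      (uk : (Scheme.pointSmallEtale (e.symm k).1).fiber.obj U) (τ : F.obj.obj (op U)),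
      (Scheme.pointSmallEtale (e.symm k).1).toPresheafFiber U uk F.obj τ = t (e.symm k) := by
    intro k
    exact (Scheme.pointSmallEtale (e.symm k).1).toPresheafFiber_jointly_surjective
      (P := F.obj) (t (e.symm k))
  choose U uk τ hτ using hgerm
  haveI : ∀ k, Etale (U k).hom := fun k => (U k).prop
  have haff : ∀ k : Fin n, ∃ U₀ : (U k).left.Opens, IsAffineOpen U₀ ∧
      (uk k).left (default : Spec (CommRingCat.of Ω)) ∈ U₀ := by
    intro k
    obtain ⟨_, ⟨U₀, hU₀, rfl⟩, hu, -⟩ := (U k).left.isBasis_affineOpens.exists_subset_of_mem_open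
      (Set.mem_univ ((uk k).left (default : Spec (CommRingCat.of Ω)))) isOpen_univ
    exact ⟨U₀, hU₀, hu⟩
  choose U₀ hU₀ huU₀ using haff
  haveI : ∀ k, IsAffine ((U₀ k : (U k).left.Opens) : Scheme.{u}) := fun k => hU₀ k
  let T : Fin n → Scheme.{u} := fun k => ((U₀ k : (U k).left.Opens) : Scheme.{u})
  let tk : ∀ k, T k ⟶ X := fun k => (U₀ k).ι ≫ (U k).hom
  haveI : ∀ k, IsAffine (T k) := fun k => hU₀ k
  haveI : ∀ k, Etale (tk k) := fun k => by
    change Etale ((U₀ k).ι ≫ (U k).hom)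
    infer_instance
  have hlift : ∀ k, ∃ u' : Spec (CommRingCat.of Ω) ⟶ T k, u' ≫ (U₀ k).ι = (uk k).left :=
    fun k => lift_open (U₀ k) (uk k).left (huU₀ k)
  choose u' hu' using hlift
  have hu't : ∀ k, u' k ≫ tk k = (e.symm k).1 := by
    intro k
    change u' k ≫ (U₀ k).ι ≫ (U k).hom = _
    rw [← Category.assoc, hu']
    exact Over.w (uk k)
  obtain ⟨V, p, v, hp, hvη, E, h, hdisj, hcov, hfac, hc⟩ :=
    FinGeoDecomp.main f hac η (fun k => (e.symm k).1) (fun k => (e.symm k).2)
      (fun k k' hkk => e.symm.injective (Subtype.ext hkk))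
      (fun ζ hζ => ⟨e ⟨ζ, hζ⟩, by rw [Equiv.symm_apply_apply]⟩) T tk u' hu't
  haveI := hp
  let Vo : Y.Etale := EtSiteBasic.ofEtale p
  let vpt : (Scheme.pointSmallEtale η).fiber.obj Vo := Over.homMk v hvη
  let XV : X.Etale := (EtCoh.bc f).obj Vo
  let σ : pullback f p ≅ pullback p f := pullbackSymmetry f p
  have hσ1 : σ.hom ≫ pullback.snd p f = pullback.fst f p := pullbackSymmetry_hom_comp_snd f p
  have hσ2 : σ.hom ≫ pullback.fst p f = pullback.snd f p := pullbackSymmetry_hom_comp_fst f p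
  have hσ3 : σ.inv ≫ pullback.fst f p = pullback.snd p f := pullbackSymmetry_inv_comp_fst f p
  have hσ4 : σ.inv ≫ pullback.snd f p = pullback.fst p f := pullbackSymmetry_inv_comp_snd f p
  let E' : Fin n → XV.left.Opens := fun k => σ.inv ⁻¹ᵁ (E k)
  let D : Fin n → X.Etale := fun k => restrictOpen XV (E' k)
  have hrE : ∀ k, Set.range ((E' k).ι ≫ σ.inv).base ⊆ Set.range (E k).ι.base := by
    intro k
    rintro _ ⟨m, rfl⟩
    rw [Scheme.Opens.range_ι]
    exact m.2
  let rE : ∀ k, ((E' k : XV.left.Opens) : Scheme.{u}) ⟶ ((E k : (pullback f p).Opens) : Scheme.{u}) :=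
    fun k => IsOpenImmersion.lift (E k).ι ((E' k).ι ≫ σ.inv) (hrE k)
  have hrEf : ∀ k, rE k ≫ (E k).ι = (E' k).ι ≫ σ.inv := fun k => IsOpenImmersion.lift_fac _ _ _
  have hDhom : ∀ k, (D k).hom = (E' k).ι ≫ pullback.snd p f := fun k => rfl
  have hm : ∀ k, (rE k ≫ h k ≫ (U₀ k).ι) ≫ (U k).hom = (D k).hom := by
    intro k
    rw [hDhom, Category.assoc, Category.assoc]
    change rE k ≫ h k ≫ tk k = _
    rw [hfac, ← Category.assoc, hrEf, Category.assoc, hσ3]
  let hD : ∀ k, D k ⟶ U k := fun k =>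
    MorphismProperty.Over.homMk (rE k ≫ h k ≫ (U₀ k).ι) (hm k) trivial
  have hrange : ∀ k, Set.range (restrictOpenι XV (E' k)).left = ((E' k : XV.left.Opens) : Set XV.left) := by
    intro k
    change Set.range (E' k).ι = _
    exact Scheme.Opens.range_ι (E' k)
  obtain ⟨s, hs⟩ := EtGlue.glue_disjoint F D (fun k => restrictOpenι XV (E' k))
    (fun k => by
      change Mono (E' k).ι
      infer_instance)
    (fun k k' hkk => by
      rw [hrange, hrange, Set.disjoint_left]
      intro x hx hx'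
      have h1 : σ.inv x ∈ E k := hx
      have h2 : σ.inv x ∈ E k' := hx'
      exact Set.disjoint_left.1 (show Disjoint ((E k : (pullback f p).Opens) : Set ↑(pullback f p))
        ((E k' : (pullback f p).Opens) : Set ↑(pullback f p)) from by
          have := hdisj k k' hkk
          rw [disjoint_iff] at this ⊢
          have h3 := congrArg (fun O : (pullback f p).Opens => (O : Set ↑(pullback f p))) this
          simpa using h3) h1 h2)
    (fun x => by
      obtain ⟨k, hk⟩ := hcov (σ.inv x)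
      refine ⟨k, ?_⟩
      rw [hrange]
      exact hk)
    (fun k => F.obj.map (hD k).op (τ k))
  refine ⟨(Scheme.pointSmallEtale η).toPresheafFiber Vo vpt ((EtDesc.pushSh f).obj F).obj s, ?_⟩
  intro ξ
  obtain ⟨k, rfl⟩ := e.symm.surjective ξ
  rw [phiSh_germ]
  obtain ⟨c, hc1, hc2⟩ := hc k
  have hcE' : (c ≫ (E k).ι ≫ σ.hom) (default : Spec (CommRingCat.of Ω)) ∈ E' k := by
    change σ.inv ((c ≫ (E k).ι ≫ σ.hom) default) ∈ E k
    rw [← Scheme.Hom.comp_apply]
    simp only [Category.assoc, Iso.hom_inv_id, Category.comp_id]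
    rw [Scheme.Hom.comp_apply]
    exact (c default).2
  obtain ⟨c', hc'⟩ := lift_open (E' k) (c ≫ (E k).ι ≫ σ.hom) hcE'
  have hcξ : c ≫ (E k).ι ≫ pullback.fst f p = (e.symm k).1 := by
    rw [← hfac, ← Category.assoc, hc1, hu't]
  have hd : c' ≫ (D k).hom = (e.symm k).1 := by
    rw [hDhom, ← Category.assoc, hc']
    simp only [Category.assoc, hσ1]
    exact hcξ
  let d : (Scheme.pointSmallEtale (e.symm k).1).fiber.obj (D k) := Over.homMk c' hd
  have hd1 : (Scheme.pointSmallEtale (e.symm k).1).fiber.map (restrictOpenι XV (E' k)) d =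
      liftPt f η (e.symm k).1 (e.symm k).2 Vo vpt := by
    apply Over.OverMorphism.ext
    change c' ≫ (E' k).ι = (liftPt f η (e.symm k).1 (e.symm k).2 Vo vpt).left
    rw [liftPt_left, hc']
    apply pullback.hom_ext
    · refine Eq.trans ?_ (pullback.lift_fst _ _ _).symm
      change (c ≫ (E k).ι ≫ σ.hom) ≫ pullback.fst p f = v
      rw [Category.assoc, Category.assoc, hσ2]
      exact hc2
    · refine Eq.trans ?_ (pullback.lift_snd _ _ _).symm
      change (c ≫ (E k).ι ≫ σ.hom) ≫ pullback.snd p f = (e.symm k).1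
      rw [Category.assoc, Category.assoc, hσ1]
      exact hcξ
  have hcr : c' ≫ rE k = c := by
    apply (cancel_mono (E k).ι).1
    rw [Category.assoc, hrEf, ← Category.assoc, hc']
    simp only [Category.assoc, Iso.hom_inv_id, Category.comp_id]
  have hd2 : (Scheme.pointSmallEtale (e.symm k).1).fiber.map (hD k) d = uk k := by
    apply Over.OverMorphism.ext
    change c' ≫ rE k ≫ h k ≫ (U₀ k).ι = (uk k).left
    rw [← Category.assoc, hcr, ← Category.assoc, hc1, hu']
  have w1 := ConcreteCategory.congr_hom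
    ((Scheme.pointSmallEtale (e.symm k).1).toPresheafFiber_w (restrictOpenι XV (E' k)) d F.obj) s
  simp only [ConcreteCategory.comp_apply] at w1
  rw [hd1] at w1
  rw [← w1, hs k, ← hτ k]
  have w2 := ConcreteCategory.congr_hom
    ((Scheme.pointSmallEtale (e.symm k).1).toPresheafFiber_w (hD k) d F.obj) (τ k)
  simp only [ConcreteCategory.comp_apply] at w2
  rw [hd2] at w2
  exact w2

/-- the family of fibre functors -/
noncomputable abbrev G : {ξ : Spec (CommRingCat.of Ω) ⟶ X // ξ ≫ f = η} →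
    (EtDesc.Sh X ⥤ Type (u + 1)) := fun ξ =>
  ((Scheme.pointSmallEtale ξ.1).sheafFiber (A := Type (u + 1)) : EtDesc.Sh X ⥤ Type (u + 1))

/-- the comparison natural transformation into the product -/
noncomputable def Psi :
    EtDesc.pushSh f ⋙ (Scheme.pointSmallEtale η).sheafFiber (A := Type (u + 1)) ⟶ ∏ᶜ (G f η) :=
  Pi.lift (fun ξ => phiNat f η ξ.1 ξ.2)

lemma Psi_π (ξ : {ξ : Spec (CommRingCat.of Ω) ⟶ X // ξ ≫ f = η}) :
    Psi f η ≫ Pi.π (G f η) ξ = phiNat f η ξ.1 ξ.2 :=
  Pi.lift_π _ _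

lemma Psi_π_app (ξ : {ξ : Spec (CommRingCat.of Ω) ⟶ X // ξ ≫ f = η}) (F : EtDesc.Sh X)
    (a : (Scheme.pointSmallEtale η).presheafFiber.obj ((EtDesc.pushSh f).obj F).obj) :
    (Pi.π (G f η) ξ).app F ((Psi f η).app F a) = phiSh f η ξ.1 ξ.2 F a := by
  have h := congrArg (fun α => α.app F) (Psi_π f η ξ)
  exact ConcreteCategory.congr_hom h a

lemma pi_ext (F : EtDesc.Sh X) (x y : (∏ᶜ (G f η)).obj F)
    (h : ∀ ξ, (Pi.π (G f η) ξ).app F x = (Pi.π (G f η) ξ).app F y) : x = y := by
  have hl := isLimitOfPreserves ((evaluation (EtDesc.Sh X) (Type (u + 1))).obj F)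
    (limit.isLimit (Discrete.functor (G f η)))
  apply Concrete.isLimit_ext _ hl
  rintro ⟨ξ⟩
  exact h ξ

theorem main [IsFinite f] (hac : IsAlgClosed Ω) :
    Nonempty (EtDesc.pushSh f ⋙ (Scheme.pointSmallEtale η).sheafFiber (A := Type (u + 1)) ≅
      ∏ᶜ fun ξ : {ξ : Spec (CommRingCat.of Ω) ⟶ X // ξ ≫ f = η} =>
        ((Scheme.pointSmallEtale ξ.1).sheafFiber (A := Type (u + 1)) :
          EtDesc.Sh X ⥤ Type (u + 1))) := by
  haveI : ∀ F : EtDesc.Sh X, IsIso ((Psi f η).app F) := by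
    intro F
    rw [isIso_iff_bijective]
    constructor
    · intro a b hab
      apply phiSh_injective f η hac F a b
      intro ξ hξ
      have h1 := Psi_π_app f η ⟨ξ, hξ⟩ F a
      have h2 := Psi_π_app f η ⟨ξ, hξ⟩ F b
      rw [← h1, ← h2, hab]
    · intro x
      obtain ⟨a, ha⟩ := phiSh_surjective f η hac F (fun ξ => (Pi.π (G f η) ξ).app F x)
      refine ⟨a, ?_⟩
      apply pi_ext
      intro ξ
      rw [Psi_π_app]
      exact ha ξ
  haveI : IsIso (Psi f η) := NatIso.isIso_of_isIso_app _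
  exact ⟨asIso (Psi f η)⟩

end Aux

/-- Let f : X -> Y be a finite morphism of schemes, Ω an algebraically closed field and η : Spec Ω -> Y
a geometric point. The functor F ↦ (f_* F)_η on etale sheaves of sets on X is isomorphic to the
product, over the geometric points ξ : Spec Ω -> X lying over η, of the fibre functors F ↦ F_ξ. (The
published statement gives a canonical isomorphism and indexes the product by the points of the
geometric fibre over a separable closure of the residue field; this row asserts only that an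
isomorphism of functors exists and indexes the product by the Ω-valued points of X over η, which for
Ω algebraically closed correspond to those points.) -/
theorem result {X Y : Scheme.{u}} (f : X ⟶ Y) [IsFinite f]
    {Ω : Type u} [Field Ω] [IsAlgClosed Ω] (η : Spec (CommRingCat.of Ω) ⟶ Y) :
    Nonempty (EtDesc.pushSh f ⋙ (Scheme.pointSmallEtale η).sheafFiber (A := Type (u + 1)) ≅
      ∏ᶜ fun ξ : {ξ : Spec (CommRingCat.of Ω) ⟶ X // ξ ≫ f = η} =>
        ((Scheme.pointSmallEtale ξ.1).sheafFiber (A := Type (u + 1)) : EtDesc.Sh X ⥤ Type (u + 1))) := by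
  exact Aux.main f η inferInstance

end Groth.Agent.S6181
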