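import Groth.Statements.S6186
import Mathlib
import Groth.Statements.S6186
import Groth.Agent.Lib.Helper9.FE.SHNbhd3
import Groth.Agent.Lib.Helper9.FE.StkNat
import Groth.Agent.Lib.Helper9.FE.SHModel
-- import your own Groth.Agent.* helpers here

set_option autoImplicit false
open CategoryTheory CategoryTheory.Limits AlgebraicGeometry Opposite
universe u
open EtCore

namespace Groth.Agent.S6186

open CategoryTheory CategoryTheory.Limits AlgebraicGeometry Opposite
namespace Aux
open Groth.Agent.Helper7.SHens IsLocalRing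

lemma hS_eq {S : Scheme.{u}} (s : S) {V₀ : S.Opens} (hV₀ : IsAffineOpen V₀) (hs : s ∈ V₀)
    (R : Type u) [CommRing R] [IsLocalRing R] [Algebra (S.presheaf.stalk s) R]
    [Algebra Γ(S, V₀) R]
    (hcomp : algebraMap Γ(S, V₀) R =
      (algebraMap (S.presheaf.stalk s) R).comp (S.presheaf.germ V₀ s hs).hom) :
    H9FE.SHNbhd.hS hV₀ R = Hens2.specOf S s R := by
  change Spec.map (CommRingCat.ofHom (algebraMap Γ(S, V₀) R)) ≫ hV₀.fromSpec =
    Spec.map (CommRingCat.ofHom (algebraMap (S.presheaf.stalk s) R)) ≫ S.fromSpecStalk s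
  rw [← hV₀.fromSpecStalk_eq_fromSpecStalk hs]
  change _ = Spec.map (CommRingCat.ofHom (algebraMap (S.presheaf.stalk s) R)) ≫
    Spec.map (S.presheaf.germ V₀ s hs) ≫ hV₀.fromSpec
  rw [← Category.assoc, ← Spec.map_comp, hcomp]
  rfl

theorem main {X S : Scheme.{u}} (f : X ⟶ S)
    [QuasiCompact f] [QuasiSeparated f] (s : S) (R : Type u) [CommRing R] [IsLocalRing R]
    [Algebra (S.presheaf.stalk s) R] [IsLocalHom (algebraMap (S.presheaf.stalk s) R)]
    [Hensel.IsStrictHenselization (S.presheaf.stalk s) R] [IsSepClosed (IsLocalRing.ResidueField R)] (n : ℕ) :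
    Nonempty (EtCoh.Rpush f n ⋙ EtCoh.stalk (Hens2.geomPt S s R) ≅
      EtCoh.pull (pullback.fst f (Hens2.specOf S s R)) ⋙ EtCoh.HF (pullback f (Hens2.specOf S s R)) n) := by
  classical
  haveI hRh : HenselianLocalRing R :=
    (inferInstance : Hensel.IsStrictHenselization (S.presheaf.stalk s) R).henselian
  obtain ⟨V₀, hV₀, hs, -⟩ := exists_isAffineOpen_mem_and_subset (x := s) (U := ⊤) trivial
  letI algStalk : Algebra Γ(S, V₀) (S.presheaf.stalk s) :=
    TopCat.Presheaf.algebra_section_stalk S.presheaf ⟨s, hs⟩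
  letI algR : Algebra Γ(S, V₀) R :=
    ((algebraMap (S.presheaf.stalk s) R).comp
      (algebraMap Γ(S, V₀) (S.presheaf.stalk s))).toAlgebra
  haveI : IsScalarTower Γ(S, V₀) (S.presheaf.stalk s) R :=
    IsScalarTower.of_algebraMap_eq (fun _ => rfl)
  haveI hloc : IsLocalization.AtPrime (S.presheaf.stalk s)
      (hV₀.primeIdealOf ⟨s, hs⟩).asIdeal := hV₀.isLocalization_stalk ⟨s, hs⟩
  obtain ⟨e, he⟩ := H9FE.SHModel.exists_model Γ(S, V₀) (S.presheaf.stalk s)
    (hV₀.primeIdealOf ⟨s, hs⟩).asIdeal R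
  obtain ⟨α, _, _, _, Fα, _⟩ := IsFiltered.exists_directed (Nbhd Γ(S, V₀) (ResidueField R))
  have hSeq : H9FE.SHNbhd.hS hV₀ R = Hens2.specOf S s R := hS_eq s hV₀ hs R rfl
  have key : ∀ h' : Spec (CommRingCat.of R) ⟶ S, H9FE.SHNbhd.hS hV₀ R = h' →
      Nonempty (EtCoh.Rpush f n ⋙
        EtCoh.stalk (Spec.map (CommRingCat.ofHom (IsLocalRing.residue R)) ≫ h') ≅
      EtCoh.pull (pullback.fst f h') ⋙ EtCoh.HF (pullback f h') n) := by
    rintro _ rfl
    exact H9FE.StkTheta.mainNat f (H9FE.SHNbhd.Us hV₀ R Fα) (H9FE.SHNbhd.cU hV₀ R Fα e)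
      (H9FE.SHNbhd.hS hV₀ R) (H9FE.SHNbhd.cU_hh hV₀ R Fα e) (H9FE.SLocSect.cpt R)
      (H9FE.SHNbhd.lift hV₀ R Fα e) (H9FE.SHNbhd.lift_hom hV₀ R Fα e)
      (H9FE.SHNbhd.lift_nat hV₀ R Fα e) (H9FE.SHNbhd.lift_tower hV₀ R Fα e)
      (H9FE.SHNbhd.dom hV₀ R Fα e he) (H9FE.SHNbhd.cUIsLimit hV₀ R Fα e)
      (H9FE.SHNbhd.us_affine hV₀ R Fα) n
  exact key _ hSeq

end Aux

/-- With its functoriality in F: let f : X -> S be quasi-compact and quasi-separated, s a point of S, R
a strict henselisation of O_{S,s}, S̄ = Spec R -> S the strict localisation with geometric point s̄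
: Spec κ(R) -> S, X̄ = X x_S S̄ and g : X̄ -> X the projection. For every n the functors F ↦ (R^n
f_* F)_s̄ and F ↦ H^n(X̄, g^* F), from abelian etale sheaves on X to abelian groups, are isomorphic.
(The published statement asserts that a canonical map, built from the colimit description of the
stalk and passage to the limit in cohomology, is an isomorphism; this row asserts only that an
isomorphism of functors exists.) -/
theorem result {X S : Scheme.{u}} (f : X ⟶ S)
    [QuasiCompact f] [QuasiSeparated f] (s : S) (R : Type u) [CommRing R] [IsLocalRing R]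
    [Algebra (S.presheaf.stalk s) R] [IsLocalHom (algebraMap (S.presheaf.stalk s) R)]
    [Hensel.IsStrictHenselization (S.presheaf.stalk s) R] [IsSepClosed (IsLocalRing.ResidueField R)] (n : ℕ) :
    Nonempty (EtCoh.Rpush f n ⋙ EtCoh.stalk (Hens2.geomPt S s R) ≅
      EtCoh.pull (pullback.fst f (Hens2.specOf S s R)) ⋙ EtCoh.HF (pullback f (Hens2.specOf S s R)) n) := by
  exact Aux.main f s R n

end Groth.Agent.S6186
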