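import Groth.Statements.S6213
import Mathlib
import Mathlib
import Groth.Agent.Lib.Helper5.RelPC.FlatTerms
import Groth.Agent.Lib.Helper5.RelPC.FlatSingle

set_option autoImplicit false
universe u
open CategoryTheory CategoryTheory.Limits AlgebraicGeometry
attribute [local instance] HasDerivedCategory.standard
open KSix



namespace Groth.Agent.S6213

/-- Let f : X ⟶ Y be locally of finite type and M an O_X-module. Then M placed in degree 0 has perfect
amplitude in [0, 0] relative to f (pseudo-coherent relative to f in chart form and of stalkwise tor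
amplitude in [0, 0] over the local rings of Y) if and only if M is flat over Y at every point of X
and M placed in degree 0 is (-1)-pseudo-coherent relative to f (that is, finitely presented relative
to f). -/
theorem result {X Y : Scheme.{u}} (f : X ⟶ Y)
    [LocallyOfFiniteType f] (M : X.Modules) :
    DerSch.HasPerfAmplitudeRel f 0 0 ((HomologicalComplex.single _ (ComplexShape.up ℤ) 0).obj M) ↔
      (FlatMod.IsFlatOver f M ∧ DerSch.IsPseudoCoherentRel f (-1) (DCoh.toD X ((HomologicalComplex.single _ (ComplexShape.up ℤ) 0).obj M))) := by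
  constructor
  · rintro ⟨hpc, htor⟩
    exact ⟨Groth.Agent.Lib.Helper5.FlatSingle.isFlatOver_of_hasTorAmplitude_single f M htor,
      hpc (-1)⟩
  · rintro ⟨hfl, hfp⟩
    refine ⟨fun m => ?_, ?_⟩
    · exact Groth.Agent.Lib.Helper5.BCGeo.isPseudoCoherentRel_of_iso f
        (Groth.Agent.Lib.Helper5.FlatTerms.toDSingleIso M).symm m
        (Groth.Agent.Lib.Helper5.FlatTerms.isPseudoCoherentRelAll_inD_of_flat f M hfl
          (Groth.Agent.Lib.Helper5.BCGeo.isPseudoCoherentRel_of_iso f
            (Groth.Agent.Lib.Helper5.FlatTerms.toDSingleIso M) (-1) hfp) m)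
    · refine Groth.Agent.Lib.Helper5.FlatTerms.hasTorAmplitude_of_flat_terms f _ 0 0
        (fun i hi => HomologicalComplex.isZero_single_obj_X _ _ _ _ (by omega)) (fun i => ?_)
      by_cases hi : i = 0
      · subst hi
        exact Groth.Agent.Lib.Helper5.FlatSingle.isFlatOver_of_iso f
          (HomologicalComplex.singleObjXSelf (ComplexShape.up ℤ) 0 M).symm hfl
      · exact Groth.Agent.Lib.Helper5.FlatSingle.isFlatOver_of_isZero f
          (HomologicalComplex.isZero_single_obj_X _ _ _ _ hi)

end Groth.Agent.S6213
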