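import Groth.Statements.S6214
import Mathlib
import Groth.Agent.Lib.Helper5.RelPC.FlatLfp
import Groth.Agent.Lib.Helper5.KSix.TorComp
import Groth.Agent.S6946

set_option autoImplicit false
universe u
open CategoryTheory CategoryTheory.Limits AlgebraicGeometry
attribute [local instance] HasDerivedCategory.standard
open KSix



namespace Groth.Agent.S6214

/-- A morphism f : X ⟶ Y locally of finite type has perfect dimension at most 0 (O_X placed in degree 0
is pseudo-coherent relative to f in chart form and has stalkwise tor amplitude in [0, 0] over the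
local rings of Y) if and only if f is flat and locally of finite presentation. -/
theorem result {X Y : Scheme.{u}} (f : X ⟶ Y) [LocallyOfFiniteType f] :
    DerSch.HasPerfDimLE f 0 ↔ (Flat f ∧ LocallyOfFinitePresentation f) := by
  have htor : DerSch.HasTorAmplitude f (-((0 : ℕ) : ℤ)) 0 (DerSch.unitCx X) ↔ Flat f := by
    rw [Flat.iff_flat_stalkMap]
    refine forall_congr' (fun x => ?_)
    letI : Algebra (Y.presheaf.stalk (f.base x)) (X.presheaf.stalk x) :=
      (f.stalkMap x).hom.toAlgebra
    have h := Groth.Agent.S6946.result (Y.presheaf.stalk (f.base x)) (X.presheaf.stalk x) 0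
    have h3 : (f.stalkMap x).hom.Flat ↔
        Module.Flat (Y.presheaf.stalk (f.base x)) (X.presheaf.stalk x) := Iff.rfl
    rw [h3, ← h.2, h.1]
    exact ⟨Groth.Agent.Helper5.TorAmp.hasTorAmplitudeIn_of_iso
        (Groth.Agent.Lib.Helper5.KSixTor.stalkUnitCxIso f x),
      Groth.Agent.Helper5.TorAmp.hasTorAmplitudeIn_of_iso
        (Groth.Agent.Lib.Helper5.KSixTor.stalkUnitCxIso f x).symm⟩
  show (DerSch.IsPseudoCoherentRelAll f (DCoh.toD X (DerSch.unitCx X)) ∧
    DerSch.HasTorAmplitude f (-((0 : ℕ) : ℤ)) 0 (DerSch.unitCx X)) ↔ _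
  rw [htor]
  constructor
  · rintro ⟨h1, h2⟩
    exact ⟨h2, (Groth.Agent.Lib.Helper5.CPAtLib.isNPC_neg_one_iff f).1 (h1 (-1))⟩
  · rintro ⟨h1, h2⟩
    exact ⟨fun n => Groth.Agent.Lib.Helper5.FlatLfp.isNPC_of_flat_lfp f n, h1⟩

end Groth.Agent.S6214
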