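import Groth.Statements.S6218
import Mathlib
import Groth.Agent.Lib.Helper5.Stalk.ClPushStalk
import Groth.Agent.Lib.Helper5.Perf.PerfAmp
import Groth.Agent.Lib.Helper5.RelPC.ClImmRel
import Groth.Agent.Lib.Helper5.RelPC.FlatLfp

set_option autoImplicit false
universe u
open CategoryTheory CategoryTheory.Limits AlgebraicGeometry
attribute [local instance] HasDerivedCategory.standard
open KSix



namespace Groth.Agent.S6218

/-- Let i : X ⟶ Y be a closed immersion, g : Y ⟶ S smooth, a and b integers, and F a cochain complex of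
O_X-modules such that the termwise direct image i_* F has perfect amplitude in [a, b] on Y in the
absolute sense (locally isomorphic in D to a complex of finite locally free modules placed in [a,
b]). Then F has perfect amplitude in [a, b] relative to i ≫ g (pseudo-coherent relative to it in
chart form, with stalkwise tor amplitude in [a, b] over the local rings of S). -/
theorem result {X Y S : Scheme.{u}} (i : X ⟶ Y) [IsClosedImmersion i]
    (g : Y ⟶ S) [Smooth g] (a b : ℤ) (F : CochainComplex X.Modules ℤ)
    (hF : KSix.HasPerfectAmplitudeIn a b (DCoh.toD Y (((Scheme.Modules.pushforward i).mapHomologicalComplex (ComplexShape.up ℤ)).obj F))) :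
    DerSch.HasPerfAmplitudeRel (i ≫ g) a b F := by
  have hperf := Groth.Agent.Lib.Helper5.PerfAmpl.isPerfect_of_hasPerfectAmplitudeIn hF
  refine ⟨fun m => ?_, ?_⟩
  · rw [Groth.Agent.Lib.Helper5.ClImmRel.isPseudoCoherentRel_closed_comp_iff_isPC i g
      (fun n => Groth.Agent.Lib.Helper5.FlatLfp.isNPC_of_flat_lfp g n) m F]
    exact Groth.Agent.Lib.Helper5.LpullLib.isPseudoCoherentD_of_isPerfect _ hperf m
  · by_cases hab : a ≤ b
    · exact Groth.Agent.Lib.Helper5.ClPushStalk.hasTorAmplitude_of_flatAmplitude_push i g F a b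
        (Groth.Agent.Lib.Helper5.PerfAmpl.hasFlatAmplitudeIn_of_hasPerfectAmplitudeIn hab hF)
    · have mono : ∀ c : ℤ, KSix.HasPerfectAmplitudeIn c c
          (DCoh.toD Y (((Scheme.Modules.pushforward i).mapHomologicalComplex
            (ComplexShape.up ℤ)).obj F)) := by
        intro c x
        obtain ⟨V, hxV, hV⟩ := hF x
        refine ⟨V, hxV, fun F' hF' => ?_⟩
        obtain ⟨E, hE, hfl, hi⟩ := hV F' hF'
        exact ⟨E, fun j _ => hE j (by omega), hfl, hi⟩
      have h1 := Groth.Agent.Lib.Helper5.ClPushStalk.hasTorAmplitude_of_flatAmplitude_push i g F a a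
        (Groth.Agent.Lib.Helper5.PerfAmpl.hasFlatAmplitudeIn_of_hasPerfectAmplitudeIn le_rfl (mono a))
      have h2 := Groth.Agent.Lib.Helper5.ClPushStalk.hasTorAmplitude_of_flatAmplitude_push i g F b b
        (Groth.Agent.Lib.Helper5.PerfAmpl.hasFlatAmplitudeIn_of_hasPerfectAmplitudeIn le_rfl (mono b))
      intro x
      haveI := Groth.Agent.Helper5.TorAmp.isLE_of_hasTorAmplitudeIn (h2 x)
      exact Groth.Agent.Helper5.TorAmp.hasTorAmplitudeIn_trim (h1 x)

end Groth.Agent.S6218
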