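import Groth.Statements.S6238
import Mathlib
import Groth.Agent.Lib.Helper5.Perf.KoszulDim

set_option autoImplicit false
universe u
open CategoryTheory CategoryTheory.Limits AlgebraicGeometry
attribute [local instance] HasDerivedCategory.standard
open KSix



namespace Groth.Agent.S6238

/-- An immersion i : Z ⟶ X which is Koszul-regular of codimension d (around every point, over an affine
open of X on which i is a closed immersion, the ideal is generated by d sections whose Koszul
complex is acyclic in positive degrees) has perfect dimension at most d: O_Z placed in degree 0 is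
pseudo-coherent relative to i (chart form) with stalkwise tor amplitude in [-d, 0] over the local
rings of X. -/
theorem result {Z X : Scheme.{u}} (i : Z ⟶ X) (d : ℕ)
    (hi : RegImm.IsRegularImmersionOfCodim RegImm.Kind.koszul d i) :
    DerSch.HasPerfDimLE i d := by
  obtain ⟨himm, h⟩ := hi
  haveI := himm
  refine ⟨?_, ?_⟩
  · apply Groth.Agent.Lib.Helper5.KoszulDim.isPseudoCoherentRelAll_unit_of_koszul i
    intro z
    obtain ⟨U, hzU, hcl, rs, -, hrs, hker⟩ := h z
    exact ⟨U, hzU, hcl, rs, hrs, hker⟩
  · intro z
    obtain ⟨U, hzU, hcl, rs, hlen, hrs, hker⟩ := h z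
    haveI := hcl
    have := Groth.Agent.Lib.Helper5.KoszulDim.hasTorAmplitudeAt_unit_of_koszul i z U.1 U.2 hzU rs
      hrs hker
    rwa [hlen] at this

end Groth.Agent.S6238
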