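import Groth.Statements.S6239
import Mathlib

set_option autoImplicit false
universe u
open CategoryTheory CategoryTheory.Limits AlgebraicGeometry
attribute [local instance] HasDerivedCategory.standard
open KSix

namespace Groth.Agent.S6239

/-- Let f : X ⟶ Y be a morphism with X quasi-compact and F a cochain complex of O_X-modules which is
perfect relative to f (pseudo-coherent relative to f in chart form, and locally on X of finite
stalkwise tor amplitude over the local rings of Y). Then F has finite perfect amplitude relative to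
f: one interval [a, b] works at every point of X. -/
theorem result {X Y : Scheme.{u}} [CompactSpace X] (f : X ⟶ Y)
    (F : CochainComplex X.Modules ℤ) (hF : DerSch.IsPerfectRel f F) :
    DerSch.HasFinitePerfAmplitudeRel f F := by
  classical
  obtain ⟨hpc, hloc⟩ := hF
  choose V a b hxV hV using hloc
  obtain ⟨s, hs⟩ := CompactSpace.elim_nhds_subcover (fun x => (V x : Set X))
    (fun x => (V x).isOpen.mem_nhds (hxV x))
  obtain ⟨b₀, hb₀⟩ := Finset.exists_le (s.image b)
  obtain ⟨a₁, ha₁⟩ := Finset.exists_le (s.image (fun x => - a x))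
  refine ⟨-a₁, b₀, hpc, fun x' => ?_⟩
  have hx' : x' ∈ ⋃ x ∈ s, (V x : Set X) := by
    rw [hs]
    trivial
  simp only [Set.mem_iUnion] at hx'
  obtain ⟨x, hxs, hx'V⟩ := hx'
  obtain ⟨E, hv, hf, e⟩ := hV x x' hx'V
  have h1 : b x ≤ b₀ := hb₀ _ (Finset.mem_image_of_mem b hxs)
  have h2 : - a x ≤ a₁ := ha₁ _ (Finset.mem_image_of_mem (fun x => - a x) hxs)
  exact ⟨E, fun i hi => hv i (by omega), hf, e⟩

end Groth.Agent.S6239
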