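import Groth.Statements.S6242
import Mathlib
import Groth.Agent.Lib.Helper5.FibStalk.ProdTor
import Groth.Agent.Lib.Helper5.DerSchTor.StalkOverB

set_option autoImplicit false
universe u
open CategoryTheory CategoryTheory.Limits AlgebraicGeometry
attribute [local instance] HasDerivedCategory.standard
open KSix



namespace Groth.Agent.S6242

/-- Flat second factor: let S be a scheme and, for i = 1, 2, f_i : X_i ⟶ Y_i a morphism of S-schemes
(structure morphisms q_i : Y_i ⟶ S, and X_i over S through f_i ≫ q_i), with X₂ and Y₂ flat over S.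
Let X = X₁ ×_S X₂ and Y = Y₁ ×_S Y₂, given by pullback squares, and f : X ⟶ Y the morphism
compatible with the two projections. If f₁ has tor dimension at most n₁ and f₂ has tor dimension at
most n₂ (stalkwise: the local ring of the source at each point is isomorphic, in the derived
category of the local ring of the target, to a complex of flat modules placed in [-n_i, 0]), then f
has tor dimension at most n₁ + n₂; in particular f has finite tor dimension. (The published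
statement assumes only that X₁, X₂ and Y₁, Y₂ are tor-independent over S; this row takes X₂ and Y₂
flat over S, which implies both conditions, and records the bound n₁ + n₂ that the published proof
gives.) -/
theorem result {S X₁ Y₁ X₂ Y₂ X Y : Scheme.{u}} (f₁ : X₁ ⟶ Y₁) (q₁ : Y₁ ⟶ S)
    (f₂ : X₂ ⟶ Y₂) (q₂ : Y₂ ⟶ S) [Flat q₂] [Flat (f₂ ≫ q₂)]
    (pX₁ : X ⟶ X₁) (pX₂ : X ⟶ X₂) (hX : IsPullback pX₁ pX₂ (f₁ ≫ q₁) (f₂ ≫ q₂))
    (pY₁ : Y ⟶ Y₁) (pY₂ : Y ⟶ Y₂) (hY : IsPullback pY₁ pY₂ q₁ q₂)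
    (f : X ⟶ Y) (hf₁ : f ≫ pY₁ = pX₁ ≫ f₁) (hf₂ : f ≫ pY₂ = pX₂ ≫ f₂)
    (n₁ n₂ : ℕ) (h₁ : DerSch.HasTorDimLE f₁ n₁) (h₂ : DerSch.HasTorDimLE f₂ n₂) :
    DerSch.HasTorDimLE f (n₁ + n₂) := by
  have hf := Groth.Agent.Lib.Helper5.FibStalk.eq_uW_vW f₁ q₁ f₂ q₂ hX hY f hf₁ hf₂
  subst hf
  intro x
  haveI : Flat pY₁ := MorphismProperty.of_isPullback (P := @Flat) hY.flip inferInstance
  have sqA := Groth.Agent.Lib.Helper5.FibStalk.isPullback_sqA f₁ q₁ q₂ hY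
  have hA := Groth.Agent.Lib.Helper5.FibStalk.hasTorAmplitudeAt_pullback_fibre sqA
    ((Groth.Agent.Lib.Helper5.FibStalk.uW f₁ q₁ f₂ q₂ hX).base x)
    (Groth.Agent.Lib.Helper5.FibStalk.torIndep_of_flat_g sqA _) (DerSch.unitCx X₁)
    (Groth.Agent.Lib.Helper5.FibStalk.isKFlat_unitCx X₁) (-(n₁ : ℤ)) 0 (h₁ _)
  have hPG := Groth.Agent.Lib.Helper5.DerSchTor.hasTorAmplitudeAt_of_iso _ _
    (DerivedCategory.Q.mapIso (Groth.Agent.Lib.Helper5.FibStalk.pullUnitCxIso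
      (Groth.Agent.Lib.Helper5.FibStalk.w₁ f₁ q₁ q₂))) _ _ hA
  have hU : IsPullback (Groth.Agent.Lib.Helper5.FibStalk.uW f₁ q₁ f₂ q₂ hX ≫
      Groth.Agent.Lib.Helper5.FibStalk.w₁ f₁ q₁ q₂) pX₂ (f₁ ≫ q₁) (f₂ ≫ q₂) := by
    rw [Groth.Agent.Lib.Helper5.FibStalk.uW_w₁]
    exact hX
  have hB := Groth.Agent.Lib.Helper5.FibStalk.hasTorAmplitudeAt_pullback_nf
    (IsPullback.of_hasPullback (f₁ ≫ q₁) q₂) hU
    (Groth.Agent.Lib.Helper5.FibStalk.uW_w₂ f₁ q₁ f₂ q₂ hX) x (DerSch.unitCx X₂)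
    (Groth.Agent.Lib.Helper5.FibStalk.isKFlat_unitCx X₂) (-(n₂ : ℤ)) 0 (h₂ _)
  have hF := Groth.Agent.Lib.Helper5.DerSchTor.hasTorAmplitudeAt_of_iso _ x
    (DerivedCategory.Q.mapIso (Groth.Agent.Lib.Helper5.FibStalk.pullUnitCxIso pX₂)) _ _ hB
  have hT := Groth.Agent.Lib.Helper5.DerSchTor.hasTorAmplitudeAt_pull
    (Groth.Agent.Lib.Helper5.FibStalk.uW f₁ q₁ f₂ q₂ hX)
    (Groth.Agent.Lib.Helper5.FibStalk.vW f₁ q₁ q₂ hY) x (-(n₂ : ℤ)) 0 hF (DerSch.unitCx _)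
    (Groth.Agent.Lib.Helper5.FibStalk.isKFlat_unitCx _) (-(n₁ : ℤ)) 0 hPG
  have hT' := Groth.Agent.Lib.Helper5.DerSchTor.hasTorAmplitudeAt_of_iso _ x
    (DerivedCategory.Q.mapIso (Groth.Agent.Lib.Helper5.FibStalk.pullUnitCxIso
      (Groth.Agent.Lib.Helper5.FibStalk.uW f₁ q₁ f₂ q₂ hX))) _ _ hT
  have e1 : (-(n₁ : ℤ)) + (-(n₂ : ℤ)) = -((n₁ + n₂ : ℕ) : ℤ) := by push_cast; ring
  have e2 : (0 : ℤ) + 0 = 0 := by ring
  rw [e1, e2] at hT'
  exact hT'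

end Groth.Agent.S6242
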