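import Groth.Statements.S6243
import Mathlib
import Groth.Agent.Lib.Helper5.CBC.Assemble
import Groth.Agent.Lib.Helper5.ExactPQ.Single
import Groth.Agent.Lib.Helper5.ProjF3.LTenWT
import Groth.Agent.Lib.Helper5.Stalk.LpullComp

set_option autoImplicit false
universe u
open CategoryTheory CategoryTheory.Limits AlgebraicGeometry
attribute [local instance] HasDerivedCategory.standard
open KSix



namespace Groth.Agent.S6243

/-- Let X be a scheme, p an integer and E ∈ D⁻(O_X), given by a cochain complex F, a
(p-1)-pseudo-coherent object. If, the derived tensor product with F being assumed to exist, the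
functor M ↦ H^p(M ⊗^L F) from O_X-modules to O_X-modules is exact (preserves finite limits and
finite colimits), then the cohomology sheaf H^p(E) is finite locally free and, the derived pullbacks
to the points Spec κ(x) ⟶ X being assumed to exist, the function x ↦ dim_{κ(x)} H^p(E ⊗^L κ(x)) is
locally constant. (The published statement is for a locally ringed topos with enough points and
writes the functor as M ↦ H^p(E ⊗^L M); this row is the case of the Zariski topos of a scheme, with
the derived tensor product taken with F as the fixed right-hand factor.) -/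
theorem result {X : Scheme.{u}} (F : CochainComplex X.Modules ℤ) (e : ℤ)
    [(DCoh.toD X F).IsLE e] (p : ℤ) (hE : DCoh.IsPseudoCoherentD (p - 1) (DCoh.toD X F))
    [DCoh.HasLTensorCx F]
    [PreservesFiniteLimits (DerivedCategory.singleFunctor X.Modules 0 ⋙ DCoh.LTensorCx F ⋙ DerivedCategory.homologyFunctor X.Modules p)]
    [PreservesFiniteColimits (DerivedCategory.singleFunctor X.Modules 0 ⋙ DCoh.LTensorCx F ⋙ DerivedCategory.homologyFunctor X.Modules p)]
    [∀ x : X, DCoh.HasLpull (X.fromSpecResidueField x)] :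
    FlatMod.IsFinLocFree (DCoh.HD (DCoh.toD X F) p) ∧
      IsLocallyConstant (fun x : X => PerfD.betti (DCoh.toD X F) x p) := by
  classical
  obtain ⟨Pc, hPc, ⟨eP⟩⟩ := Groth.Agent.Lib.Helper5.LpullLib.exists_cell_repr (DCoh.toD X F)
  haveI : DCoh.HasLTensorCx Pc := Groth.Agent.Lib.Helper5.LTenAll.hasLTensorCx Pc
  obtain ⟨φ⟩ := Groth.Agent.Lib.Helper5.LTenCongr.nonempty_ltensor_iso_of_iso
    (K := F) (K' := Pc) eP.symm
  have ψ : ∀ i : ℤ, Groth.Agent.Lib.Helper5.CBC.TX F i ≅ Groth.Agent.Lib.Helper5.CBC.TX Pc i :=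
    fun i => Functor.isoWhiskerLeft _ (Functor.isoWhiskerRight φ _)
  haveI hl : PreservesFiniteLimits (Groth.Agent.Lib.Helper5.CBC.TX Pc p) :=
    preservesFiniteLimits_of_natIso (ψ p)
  haveI hc : PreservesFiniteColimits (Groth.Agent.Lib.Helper5.CBC.TX Pc p) :=
    preservesFiniteColimits_of_natIso (ψ p)
  haveI hl' : PreservesFiniteLimits (Groth.Agent.Lib.Helper5.CBC.TX Pc (p + 1)) :=
    (Groth.Agent.Lib.Helper5.ExactPQ.preserves_iff_single (DCoh.LTensorCx Pc)
      (Groth.Agent.Lib.Helper5.ProjF3.weakTri_LTensorCx Pc) p).1 hc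
  have hm : ∀ i : ℤ, (i = p ∨ i = p + 1) → ∀ {N' N : X.Modules} (f : N' ⟶ N), Mono f →
      Mono ((Groth.Agent.Lib.Helper5.CBC.TX Pc i).map f) := by
    rintro i (rfl | rfl) N' N f hf
    · haveI := hf
      infer_instance
    · haveI := hf
      infer_instance
  apply Groth.Agent.Lib.Helper5.CBC.main_of_approxFlat (DCoh.toD X F) Pc hPc eP p
  intro x
  obtain ⟨V, hxV, hV⟩ := Groth.Agent.Lib.Helper5.PCApprox.exists_approx_of_isPC hE x
  refine ⟨V, hxV, ?_⟩
  have hA := hV.of_iso ((DCoh.restrictD V.ι).mapIso eP.symm)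
  exact (Groth.Agent.Lib.Helper5.CBC.approxFlat_of_mono_all V.ι Pc p hm hA).of_iso
    ((DCoh.restrictD V.ι).mapIso eP)

end Groth.Agent.S6243
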