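import Groth.Statements.S6244
import Mathlib
import Groth.Agent.Lib.Helper5.CBC.Assemble
import Groth.Agent.Lib.Helper5.CBC.QcohMono
import Groth.Agent.Lib.Helper5.ExactPQ.Main
import Groth.Agent.Lib.Helper5.ProjF3.LTenWT
import Groth.Agent.Lib.Helper5.Stalk.LpullComp
import Groth.Agent.Lib.Helper5.RHomQC.PCLocal

set_option autoImplicit false
universe u
open CategoryTheory CategoryTheory.Limits AlgebraicGeometry
attribute [local instance] HasDerivedCategory.standard
open KSix



namespace Groth.Agent.S6244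

/-- Let X be a quasi-separated scheme, p an integer, and E ∈ D⁻(O_X), given by a cochain complex F, a
(p-1)-pseudo-coherent object with quasi-coherent and locally bounded cohomology (every point has an
open neighbourhood over which the cohomology sheaves of E vanish below some degree). If, the derived
tensor product with F being assumed to exist, the functor M ↦ H^p(M ⊗^L F) is exact on the full
subcategory of quasi-coherent O_X-modules (preserves finite limits and finite colimits there), then,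
the derived pullbacks to the points Spec κ(x) ⟶ X being assumed to exist, the function x ↦
dim_{κ(x)} H^p(E ⊗^L κ(x)) is locally constant and the cohomology sheaf H^p(E) is finite locally
free. (The published statement writes the functor as M ↦ H^p(E ⊗^L M); this row takes the derived
tensor product with F as the fixed right-hand factor, and quasi-coherence of the test modules in
Mathlib's local-presentation sense.) -/
theorem result {X : Scheme.{u}} [QuasiSeparatedSpace X]
    (F : CochainComplex X.Modules ℤ) (e : ℤ) [(DCoh.toD X F).IsLE e] (p : ℤ)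
    (hq : DCoh.IsQCohD (DCoh.toD X F))
    (hb : ∀ x : X, ∃ (U : X.Opens) (a : ℤ), x ∈ U ∧ ∀ i : ℤ, i < a →
      IsZero ((Scheme.Modules.restrictFunctor U.ι).obj (DCoh.HD (DCoh.toD X F) i)))
    (hE : DCoh.IsPseudoCoherentD (p - 1) (DCoh.toD X F)) [DCoh.HasLTensorCx F]
    [PreservesFiniteLimits ((QCohCat.isQCoh X).ι ⋙ DerivedCategory.singleFunctor X.Modules 0 ⋙ DCoh.LTensorCx F ⋙ DerivedCategory.homologyFunctor X.Modules p)]
    [PreservesFiniteColimits ((QCohCat.isQCoh X).ι ⋙ DerivedCategory.singleFunctor X.Modules 0 ⋙ DCoh.LTensorCx F ⋙ DerivedCategory.homologyFunctor X.Modules p)]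
    [∀ x : X, DCoh.HasLpull (X.fromSpecResidueField x)] :
    IsLocallyConstant (fun x : X => PerfD.betti (DCoh.toD X F) x p) ∧
      FlatMod.IsFinLocFree (DCoh.HD (DCoh.toD X F) p) := by
  classical
  obtain ⟨Pc, hPc, ⟨eP⟩⟩ := Groth.Agent.Lib.Helper5.LpullLib.exists_cell_repr (DCoh.toD X F)
  haveI : DCoh.HasLTensorCx Pc := Groth.Agent.Lib.Helper5.LTenAll.hasLTensorCx Pc
  obtain ⟨φ⟩ := Groth.Agent.Lib.Helper5.LTenCongr.nonempty_ltensor_iso_of_iso
    (K := F) (K' := Pc) eP.symm
  have ψ : ∀ i : ℤ, (QCohCat.isQCoh X).ι ⋙ Groth.Agent.Lib.Helper5.CBC.TX F i ≅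
      (QCohCat.isQCoh X).ι ⋙ Groth.Agent.Lib.Helper5.CBC.TX Pc i :=
    fun i => Functor.isoWhiskerLeft _ (Functor.isoWhiskerLeft _ (Functor.isoWhiskerRight φ _))
  haveI hl : PreservesFiniteLimits
      ((QCohCat.isQCoh X).ι ⋙ Groth.Agent.Lib.Helper5.CBC.TX Pc p) :=
    preservesFiniteLimits_of_natIso (ψ p)
  haveI hc : PreservesFiniteColimits
      ((QCohCat.isQCoh X).ι ⋙ Groth.Agent.Lib.Helper5.CBC.TX Pc p) :=
    preservesFiniteColimits_of_natIso (ψ p)
  haveI hl' : PreservesFiniteLimits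
      ((QCohCat.isQCoh X).ι ⋙ Groth.Agent.Lib.Helper5.CBC.TX Pc (p + 1)) :=
    (Groth.Agent.Lib.Helper5.ExactPQ.preserves_iff_qcoh (DCoh.LTensorCx Pc)
      (Groth.Agent.Lib.Helper5.ProjF3.weakTri_LTensorCx Pc) p).1 hc
  have hm : ∀ i : ℤ, (i = p ∨ i = p + 1) → ∀ {N' N : X.Modules} (f : N' ⟶ N), Mono f →
      N'.IsQuasicoherent → N.IsQuasicoherent →
      Mono ((Groth.Agent.Lib.Helper5.CBC.TX Pc i).map f) := by
    rintro i (rfl | rfl) N' N f hf h' h
    · exact Groth.Agent.Lib.Helper5.CBC.mono_map_qcoh _ f hf h' h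
    · exact Groth.Agent.Lib.Helper5.CBC.mono_map_qcoh _ f hf h' h
  have key := Groth.Agent.Lib.Helper5.CBC.main_of_approxFlat (DCoh.toD X F) Pc hPc eP p ?_
  · exact ⟨key.2, key.1⟩
  intro x
  obtain ⟨V, hV, hxV, hA₀⟩ := Groth.Agent.Lib.Helper5.RHomQC.exists_affine_approx hE x
  refine ⟨V, hxV, ?_⟩
  have hA := hA₀.of_iso ((DCoh.restrictD V.ι).mapIso eP.symm)
  have hA' : Groth.Agent.Lib.Helper5.PCApprox.Approx (p - 1)
      ((DCoh.restrictD hV.fromSpec).obj (DerivedCategory.Q.obj Pc)) :=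
    Groth.Agent.Lib.Helper5.PCApprox.approx_comp hV.isoSpec.inv V.ι hA
  have h1 := Groth.Agent.Lib.Helper5.CBC.approxFlat_of_mono_qcoh Γ(X, V) hV.fromSpec Pc p hm hA'
  have h2 := Groth.Agent.Lib.Helper5.CBC.approxFlat_comp hV.isoSpec.hom hV.fromSpec h1
  have h3 : hV.isoSpec.hom ≫ hV.fromSpec = V.ι := by
    rw [← hV.isoSpec_inv_ι, Iso.hom_inv_id_assoc]
  exact (Groth.Agent.Lib.Helper5.CBC.approxFlat_congr h3 h2).of_iso
    ((DCoh.restrictD V.ι).mapIso eP)

end Groth.Agent.S6244
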