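import Groth.Statements.S6248
import Mathlib
import Groth.Agent.S6244
import Groth.Agent.Lib.Helper5.CBC.ProjT
import Groth.Agent.Lib.Helper5.ProperPush.Main
import Groth.Agent.Lib.Helper5.ProperPush.NPCNoeth
import Groth.Agent.Lib.Helper5.RelPC.CPAt5
import Groth.Agent.Lib.Helper5.Stalk.RpushGE
import Groth.Agent.Lib.Helper5.QC.RpushPC
import Groth.Agent.Lib.Helper5.Euler.OnePoint
import Groth.Agent.Lib.Helper5.Perf.PCTri

set_option autoImplicit false
universe u
open CategoryTheory CategoryTheory.Limits AlgebraicGeometry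
attribute [local instance] HasDerivedCategory.standard
open KSix



namespace Groth.Agent.S6248

/-- Let Y be a Noetherian scheme, f : X ⟶ Y a proper morphism, p an integer, and E ∈ D^b(O_X), given by
a cochain complex F, perfect relative to f (pseudo-coherent relative to f in chart form and locally
on X of finite stalkwise tor amplitude over the local rings of Y). The derived functors Lf^*, − ⊗^L
F and Rf_* and the derived pullbacks to the points Spec κ(y) ⟶ Y being assumed to exist: if the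
functor M ↦ R^p f_*(Lf^* M ⊗^L F) is exact on the full subcategory of quasi-coherent O_Y-modules
(preserves finite limits and finite colimits there), then R^p f_*(E) = H^p(Rf_* E) is a finite
locally free O_Y-module and the function y ↦ dim_{κ(y)} H^p(Rf_* E ⊗^L κ(y)) is locally constant on
Y. (The published statement is for a proper morphism of quasi-compact schemes with Y
quasi-separated, under the finiteness property for proper pseudo-coherent direct images, which holds
over a Noetherian base; it writes the functor as M ↦ R^p f_*(E ⊗_Y^L M) with E ⊗_Y^L M = E ⊗^L Lf^*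
M, and this row takes the derived tensor product with F as the fixed right-hand factor.) -/
theorem result {X Y : Scheme.{u}} [IsNoetherian Y]
    (f : X ⟶ Y) [IsProper f] (F : CochainComplex X.Modules ℤ) (a b : ℤ) [(DCoh.toD X F).IsGE a]
    [(DCoh.toD X F).IsLE b] (hF : DerSch.IsPerfectRel f F) (p : ℤ) [DCoh.HasLpull f]
    [DCoh.HasLTensorCx F] [DCoh.HasRpush f]
    [PreservesFiniteLimits ((QCohCat.isQCoh Y).ι ⋙ DerivedCategory.singleFunctor Y.Modules 0 ⋙ DCoh.Lpull f ⋙ DCoh.LTensorCx F ⋙ DCoh.Rpush f ⋙ DerivedCategory.homologyFunctor Y.Modules p)]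
    [PreservesFiniteColimits ((QCohCat.isQCoh Y).ι ⋙ DerivedCategory.singleFunctor Y.Modules 0 ⋙ DCoh.Lpull f ⋙ DCoh.LTensorCx F ⋙ DCoh.Rpush f ⋙ DerivedCategory.homologyFunctor Y.Modules p)]
    [∀ y : Y, DCoh.HasLpull (Y.fromSpecResidueField y)] :
    FlatMod.IsFinLocFree (DCoh.HD ((DCoh.Rpush f).obj (DCoh.toD X F)) p) ∧
      IsLocallyConstant (fun y : Y => PerfD.betti ((DCoh.Rpush f).obj (DCoh.toD X F)) y p) := by
  classical
  haveI : IsLocallyNoetherian Y := inferInstance
  have hp := Groth.Agent.Lib.Helper5.NPCNoeth.isNPC_of_locallyNoetherian f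
  have hpc : ∀ m : ℤ, DCoh.IsPseudoCoherentD m (DCoh.toD X F) := fun m =>
    (Groth.Agent.Lib.Helper5.CPAtLib.isPC_iff_rel_of_isNPC f hp m _).2 (hF.1 m)
  have hqF : DCoh.IsQCohD (DCoh.toD X F) := Groth.Agent.Lib.Helper5.QC.isQCohD_of_isPC _ hpc
  obtain ⟨I, hI, ⟨eI⟩⟩ := Groth.Agent.Lib.Helper5.RpushOpen.exists_kInjective_repr (DCoh.toD X F)
  haveI := hI
  haveI : DCoh.HasLTensorCx I := Groth.Agent.Lib.Helper5.LTenAll.hasLTensorCx I
  let G : CochainComplex Y.Modules ℤ := (Groth.Agent.Lib.Helper5.ProjF2.pushCx f).obj I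
  haveI : DCoh.HasLTensorCx G := Groth.Agent.Lib.Helper5.LTenAll.hasLTensorCx G
  have hIQ : DCoh.IsQCohD (DerivedCategory.Q.obj I) :=
    Groth.Agent.Lib.Helper5.QC.isQCohD_of_iso eI hqF
  haveI := Groth.Agent.Lib.Helper5.ProjF2.isIso_uCx_of_isKInjective f I
  let eG : DCoh.toD Y G ≅ (DCoh.Rpush f).obj (DCoh.toD X F) :=
    asIso (Groth.Agent.Lib.Helper5.ProjF2.uCx f I) ≪≫ (DCoh.Rpush f).mapIso eI.symm
  obtain ⟨φ⟩ := Groth.Agent.Lib.Helper5.LTenCongr.nonempty_ltensor_iso_of_iso
    (K := F) (K' := I) eI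
  let Ψ : (QCohCat.isQCoh Y).ι ⋙ DerivedCategory.singleFunctor Y.Modules 0 ⋙ DCoh.Lpull f ⋙
        DCoh.LTensorCx F ⋙ DCoh.Rpush f ⋙ DerivedCategory.homologyFunctor Y.Modules p ≅
      (QCohCat.isQCoh Y).ι ⋙ DerivedCategory.singleFunctor Y.Modules 0 ⋙
        DCoh.LTensorCx G ⋙ DerivedCategory.homologyFunctor Y.Modules p :=
    Functor.isoWhiskerLeft _ (Functor.isoWhiskerLeft _ (Functor.isoWhiskerLeft _
      (Functor.isoWhiskerRight φ _))) ≪≫
      (Groth.Agent.Lib.Helper5.CBC.projTIso f I hIQ p).symm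
  haveI : PreservesFiniteLimits ((QCohCat.isQCoh Y).ι ⋙ DerivedCategory.singleFunctor Y.Modules 0 ⋙
      DCoh.LTensorCx G ⋙ DerivedCategory.homologyFunctor Y.Modules p) :=
    preservesFiniteLimits_of_natIso Ψ
  haveI : PreservesFiniteColimits ((QCohCat.isQCoh Y).ι ⋙
      DerivedCategory.singleFunctor Y.Modules 0 ⋙
      DCoh.LTensorCx G ⋙ DerivedCategory.homologyFunctor Y.Modules p) :=
    preservesFiniteColimits_of_natIso Ψ
  haveI hge' : ((DCoh.Rpush f).obj (DCoh.toD X F)).IsGE a :=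
    Groth.Agent.Lib.Helper5.RpushGE.rpush_isGE f (DCoh.toD X F) a
  haveI hge : (DCoh.toD Y G).IsGE a := DerivedCategory.TStructure.t.isGE_of_iso eG.symm a
  obtain ⟨N, hN⟩ := Groth.Agent.Lib.Helper5.QC.exists_bound_shift f
  have hle' : ((DCoh.Rpush f).obj (DCoh.toD X F)).IsLE (N + b - 1) := by
    rw [DerivedCategory.isLE_iff]
    intro i hi
    exact hN (DCoh.toD X F) b hqF inferInstance i (by omega)
  haveI := hle'
  haveI hle : (DCoh.toD Y G).IsLE (N + b - 1) :=
    DerivedCategory.TStructure.t.isLE_of_iso eG.symm (N + b - 1)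
  have hq : DCoh.IsQCohD (DCoh.toD Y G) :=
    Groth.Agent.Lib.Helper5.QC.isQCohD_of_iso eG.symm
      (Groth.Agent.Lib.Helper5.QC.isQCohD_rpush f _ hqF)
  have hb : ∀ x : Y, ∃ (U : Y.Opens) (a' : ℤ), x ∈ U ∧ ∀ i : ℤ, i < a' →
      IsZero ((Scheme.Modules.restrictFunctor U.ι).obj (DCoh.HD (DCoh.toD Y G) i)) := fun x =>
    ⟨⊤, a, trivial, fun i hi => Functor.map_isZero _
      (DerivedCategory.isZero_of_isGE (DCoh.toD Y G) a i hi)⟩
  have hE : DCoh.IsPseudoCoherentD (p - 1) (DCoh.toD Y G) :=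
    Groth.Agent.Lib.Helper5.PCTri.isPC_of_iso eG.symm
      (Groth.Agent.Lib.Helper5.ProperPush.isPC_rpush_noetherian f (DCoh.toD X F) a hpc (p - 1))
  have key := Groth.Agent.S6244.result (X := Y) G (N + b - 1) p hq hb hE
  refine ⟨Groth.Agent.Lead.FLF.isFinLocFree_of_iso
    ((DerivedCategory.homologyFunctor Y.Modules p).mapIso eG) key.2, ?_⟩
  have hbetti : ∀ y : Y, PerfD.betti ((DCoh.Rpush f).obj (DCoh.toD X F)) y p =
      PerfD.betti (DCoh.toD Y G) y p := fun y =>
    Groth.Agent.Lib.Helper5.OnePoint.finrank_eq_of_iso _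
      ((DerivedCategory.homologyFunctor _ p).mapIso
        ((DCoh.Lpull (Y.fromSpecResidueField y)).mapIso eG.symm))
  have hfun : (fun y : Y => PerfD.betti ((DCoh.Rpush f).obj (DCoh.toD X F)) y p) =
      fun y : Y => PerfD.betti (DCoh.toD Y G) y p := funext hbetti
  rw [hfun]
  exact key.1

end Groth.Agent.S6248
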