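import Groth.Statements.S6250
import Mathlib
import Groth.Agent.Lib.Helper5.CBC.ExactOfFlat
import Groth.Agent.Lib.Helper5.CBC.BettiFlat
import Groth.Agent.Lib.Helper5.RHomQC.PCLocal
import Groth.Agent.Lib.Helper5.Stalk.LpullComp

set_option autoImplicit false
universe u
open CategoryTheory CategoryTheory.Limits AlgebraicGeometry
attribute [local instance] HasDerivedCategory.standard
open KSix



namespace Groth.Agent.S6250

/-- Let X be a locally Noetherian, reduced and quasi-separated scheme, p an integer, and E ∈ D⁻(O_X),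
given by a cochain complex F, a (p-1)-pseudo-coherent object with quasi-coherent and locally bounded
cohomology. The derived pullbacks to the points Spec κ(x) ⟶ X and the derived tensor product with F
being assumed to exist: if the function x ↦ dim_{κ(x)} H^p(E ⊗^L κ(x)) is locally constant on X,
then the functor M ↦ H^p(M ⊗^L F) is exact on the full subcategory of quasi-coherent O_X-modules
(preserves finite limits and finite colimits there). (The published statement writes the functor as
M ↦ H^p(E ⊗^L M); this row takes the derived tensor product with F as the fixed right-hand factor.) -/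
theorem result {X : Scheme.{u}} [IsLocallyNoetherian X]
    [IsReduced X] [QuasiSeparatedSpace X] (F : CochainComplex X.Modules ℤ) (e : ℤ) [(DCoh.toD X F).IsLE e]
    (p : ℤ) (hq : DCoh.IsQCohD (DCoh.toD X F))
    (hb : ∀ x : X, ∃ (U : X.Opens) (a : ℤ), x ∈ U ∧ ∀ i : ℤ, i < a →
      IsZero ((Scheme.Modules.restrictFunctor U.ι).obj (DCoh.HD (DCoh.toD X F) i)))
    (hE : DCoh.IsPseudoCoherentD (p - 1) (DCoh.toD X F))
    [∀ x : X, DCoh.HasLpull (X.fromSpecResidueField x)] [DCoh.HasLTensorCx F]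
    (hc : IsLocallyConstant (fun x : X => PerfD.betti (DCoh.toD X F) x p)) :
    PreservesFiniteLimits ((QCohCat.isQCoh X).ι ⋙ DerivedCategory.singleFunctor X.Modules 0 ⋙ DCoh.LTensorCx F ⋙ DerivedCategory.homologyFunctor X.Modules p) ∧ PreservesFiniteColimits ((QCohCat.isQCoh X).ι ⋙ DerivedCategory.singleFunctor X.Modules 0 ⋙ DCoh.LTensorCx F ⋙ DerivedCategory.homologyFunctor X.Modules p) := by
  classical
  obtain ⟨Pc, hPc, ⟨eP⟩⟩ := Groth.Agent.Lib.Helper5.LpullLib.exists_cell_repr (DCoh.toD X F)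
  haveI : DCoh.HasLTensorCx Pc := Groth.Agent.Lib.Helper5.LTenAll.hasLTensorCx Pc
  obtain ⟨φ⟩ := Groth.Agent.Lib.Helper5.LTenCongr.nonempty_ltensor_iso_of_iso
    (K := F) (K' := Pc) eP.symm
  have ψ : (QCohCat.isQCoh X).ι ⋙ Groth.Agent.Lib.Helper5.CBC.TX F p ≅
      (QCohCat.isQCoh X).ι ⋙ Groth.Agent.Lib.Helper5.CBC.TX Pc p :=
    Functor.isoWhiskerLeft _ (Functor.isoWhiskerLeft _ (Functor.isoWhiskerRight φ _))
  have hloc : ∀ x : X, ∃ W : X.Opens, x ∈ W ∧ Groth.Agent.Lib.Helper5.CBC.ApproxFlat p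
      ((DCoh.restrictD W.ι).obj (DerivedCategory.Q.obj Pc)) := by
    intro x
    obtain ⟨V, hV, hxV, hA⟩ := Groth.Agent.Lib.Helper5.RHomQC.exists_affine_approx hE x
    obtain ⟨W, hxW, hW⟩ := Groth.Agent.Lib.Helper5.CBC.exists_approxFlat_of_betti_locConst
      (DCoh.toD X F) Pc hPc eP p hc V hA x hxV
    exact ⟨W, hxW, hW.of_iso ((DCoh.restrictD W.ι).mapIso eP.symm)⟩
  obtain ⟨k1, k2⟩ := Groth.Agent.Lib.Helper5.CBC.exact_of_approxFlat Pc p hloc
  haveI := k1
  haveI := k2
  exact ⟨preservesFiniteLimits_of_natIso ψ.symm, preservesFiniteColimits_of_natIso ψ.symm⟩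

end Groth.Agent.S6250
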