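import Groth.Statements.S6268
import Mathlib
import Groth.Agent.Lib.Helper1.UnivInj

set_option autoImplicit false
universe u
open CAlg

namespace Groth.Agent.S6268

/-- Suppose the structure map R → S of an R-algebra S is universally injective as an R-linear map. Then
tensoring with S detects injectivity and surjectivity of R-linear maps (and hence reflects
isomorphisms): for an R-linear g : M → N, if S ⊗ g is injective then so is g, and if S ⊗ g is
surjective then so is g. -/
theorem result {R S : Type u} [CommRing R] [CommRing S] [Algebra R S] (hS : CAlgX.UniversallyInjective R (Algebra.linearMap R S)) {M N : Type u} [AddCommGroup M] [Module R M] [AddCommGroup N] [Module R N] (g : M →ₗ[R] N) : (Function.Injective (g.lTensor S) → Function.Injective g) ∧ (Function.Surjective (g.lTensor S) → Function.Surjective g) := by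
  constructor
  · intro hinj
    intro a b hab
    apply Groth.Agent.Helper1.UnivInj.one_tmul_injective hS M
    apply hinj
    simp only [LinearMap.lTensor_tmul, hab]
  · intro hsurj
    rw [← LinearMap.range_eq_top]
    set C := N ⧸ LinearMap.range g
    have hsub : Subsingleton (TensorProduct R S C) := by
      refine ⟨fun a b => ?_⟩
      have hq : Function.Surjective ((LinearMap.range g).mkQ.lTensor S) :=
        LinearMap.lTensor_surjective _ (Submodule.mkQ_surjective _)
      have hz : ∀ c : TensorProduct R S C, c = 0 := by
        intro c
        obtain ⟨n, rfl⟩ := hq c
        obtain ⟨m, rfl⟩ := hsurj n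
        rw [← LinearMap.comp_apply, ← LinearMap.lTensor_comp]
        have : (LinearMap.range g).mkQ ∘ₗ g = 0 := by
          ext x
          simp
        rw [this, LinearMap.lTensor_zero, LinearMap.zero_apply]
      rw [hz a, hz b]
    have hC : Subsingleton C := by
      refine ⟨fun a b => ?_⟩
      apply Groth.Agent.Helper1.UnivInj.one_tmul_injective hS C
      exact Subsingleton.elim _ _
    exact Submodule.Quotient.subsingleton_iff.mp hC

end Groth.Agent.S6268
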