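import Groth.Statements.S6273
import Mathlib

set_option autoImplicit false
universe u
open CAlg

namespace Groth.Agent.S6273

/-- Let R be a ring, S ⊆ R a multiplicative subset and A = S⁻¹R. If the image of Spec(A) → Spec(R) is
closed, then the localization map R → A is surjective; in particular A is isomorphic to R/I for the
ideal I = ker(R → A). -/
theorem result {R : Type u} [CommRing R] (S : Submonoid R) (A : Type u) [CommRing A] [Algebra R A] [IsLocalization S A] (hcl : IsClosed (Set.range (PrimeSpectrum.comap (algebraMap R A)))) : Function.Surjective (algebraMap R A) := by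
  set I := RingHom.ker (algebraMap R A) with hI
  have himg : Set.range (PrimeSpectrum.comap (algebraMap R A)) =
      PrimeSpectrum.zeroLocus (I : Set R) := by
    rw [← hcl.closure_eq, PrimeSpectrum.closure_range_comap]
  -- every s ∈ S is a unit modulo I
  have hunit : ∀ s ∈ S, ∃ t : R, s * t - 1 ∈ I := by
    intro s hs
    by_contra hcon
    push Not at hcon
    have hne : I ⊔ Ideal.span {s} ≠ ⊤ := by
      intro htop
      have h1 : (1 : R) ∈ I ⊔ Ideal.span {s} := by rw [htop]; trivial
      obtain ⟨i, hi, j, hj, hij⟩ := Submodule.mem_sup.mp h1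
      obtain ⟨t, rfl⟩ := Ideal.mem_span_singleton'.mp hj
      apply hcon t
      have : s * t - 1 = -i := by linear_combination hij
      rw [this]
      exact I.neg_mem hi
    obtain ⟨m, hm, hle⟩ := Ideal.exists_le_maximal _ hne
    have hmem : (⟨m, hm.isPrime⟩ : PrimeSpectrum R) ∈ PrimeSpectrum.zeroLocus (I : Set R) := by
      rw [PrimeSpectrum.mem_zeroLocus]
      exact fun x hx => hle (Ideal.mem_sup_left hx)
    rw [← himg] at hmem
    obtain ⟨q, hq⟩ := hmem
    have hsm : s ∈ m := hle (Ideal.mem_sup_right (Ideal.mem_span_singleton_self s))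
    have hsq : algebraMap R A s ∈ q.asIdeal := by
      have : s ∈ (PrimeSpectrum.comap (algebraMap R A) q).asIdeal := by rw [hq]; exact hsm
      exact this
    have hu : IsUnit (algebraMap R A s) := IsLocalization.map_units A ⟨s, hs⟩
    exact q.isPrime.ne_top (Ideal.eq_top_of_isUnit_mem _ hsq hu)
  intro a
  obtain ⟨r, s, rfl⟩ := IsLocalization.exists_mk'_eq S a
  obtain ⟨t, ht⟩ := hunit s s.2
  refine ⟨r * t, ?_⟩
  rw [IsLocalization.eq_mk'_iff_mul_eq]
  have h0 : algebraMap R A (s * t - 1) = 0 := ht
  rw [map_sub, map_mul, map_one, sub_eq_zero] at h0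
  rw [map_mul, mul_assoc, mul_comm (algebraMap R A t), h0, mul_one]

end Groth.Agent.S6273
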