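import Groth.Statements.S6275
import Mathlib

set_option autoImplicit false
universe u
open CAlg

namespace Groth.Agent.S6275

/-- Let R be a Noetherian ring and p ⊆ R a prime. Then there is f ∈ R, f ∉ p, such that R_f → R_p is
injective; equivalently every x ∈ R mapping to zero in R_p maps to zero in R_f. (The cases of a
domain and of a reduced ring with finitely many minimal primes are not included here.) -/
theorem result {R : Type u} [CommRing R] [IsNoetherianRing R] (p : Ideal R) [p.IsPrime] : ∃ f : R, f ∉ p ∧ ∀ x : R, algebraMap R (Localization.AtPrime p) x = 0 → algebraMap R (Localization.Away f) x = 0 := by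
  classical
  set K := RingHom.ker (algebraMap R (Localization.AtPrime p)) with hK
  obtain ⟨s, hs⟩ := (isNoetherianRing_iff_ideal_fg R).mp inferInstance K
  have hkill : ∀ k ∈ s, ∃ t : R, t ∉ p ∧ t * k = 0 := by
    intro k hk
    have hkK : k ∈ K := by rw [← hs]; exact Ideal.subset_span hk
    have h0 : algebraMap R (Localization.AtPrime p) k = 0 := hkK
    rw [IsLocalization.map_eq_zero_iff p.primeCompl] at h0
    obtain ⟨m, hm⟩ := h0
    exact ⟨m, m.2, hm⟩
  choose! t ht1 ht2 using hkill
  refine ⟨∏ k ∈ s, t k, ?_, ?_⟩
  · intro hmem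
    rw [Ideal.IsPrime.prod_mem_iff] at hmem
    obtain ⟨k, hk, hk'⟩ := hmem
    exact ht1 k hk hk'
  · intro x hx
    have hxK : x ∈ Ideal.span (s : Set R) := by rw [hs]; exact hx
    have hall : ∀ y ∈ Ideal.span (s : Set R), (∏ k ∈ s, t k) * y = 0 := by
      intro y hy
      induction hy using Submodule.span_induction with
      | mem k hk =>
        rw [← Finset.mul_prod_erase s t hk, mul_right_comm, ht2 k hk, zero_mul]
      | zero => simp
      | add a b _ _ ha hb => rw [mul_add, ha, hb, add_zero]
      | smul r a _ ha => rw [smul_eq_mul, mul_left_comm, ha, mul_zero]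
    have hfx := hall x hxK
    rw [IsLocalization.map_eq_zero_iff (Submonoid.powers (∏ k ∈ s, t k))]
    exact ⟨⟨_, Submonoid.mem_powers _⟩, hfx⟩

end Groth.Agent.S6275
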