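import Groth.Statements.S6282
import Mathlib
import Groth.Agent.Lib.Helper1.LocalCrit

set_option autoImplicit false
universe u
open scoped TensorProduct
open CAlg

namespace Groth.Agent.S6282

/-- Let S → S' be a homomorphism of R-algebras, M an S-module, and M' = S' ⊗_S M with its induced
R-module structure. (1) When S' is flat over S, R-flatness of M passes to M'. (2) When S' is
faithfully flat over S, M is R-flat exactly when M' is. -/
theorem result {R S S' : Type u} [CommRing R] [CommRing S] [CommRing S'] [Algebra R S] [Algebra R S'] [Algebra S S'] [IsScalarTower R S S'] (M : Type u) [AddCommGroup M] [Module S M] [Module R M] [IsScalarTower R S M] : ([Module.Flat S S'] → Module.Flat R M → Module.Flat R (S' ⊗[S] M)) ∧ ([Module.FaithfullyFlat S S'] → (Module.Flat R M ↔ Module.Flat R (S' ⊗[S] M))) := by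
  constructor
  · intro _ hM
    exact Groth.Agent.Helper1.LocalCrit.flat_tensorProduct_of_flat S' M
  · intro _
    constructor
    · intro hM
      exact Groth.Agent.Helper1.LocalCrit.flat_tensorProduct_of_flat S' M
    · intro hM'
      exact Groth.Agent.Helper1.LocalCrit.flat_of_flat_tensorProduct_of_faithfullyFlat (S := S) S' M

end Groth.Agent.S6282
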