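import Groth.Statements.S6287
import Mathlib

set_option autoImplicit false
universe u
open CAlg

namespace Groth.Agent.S6287

/-- Let (A_i) be a directed system of valuation rings. Then the colimit A = colim A_i is a valuation
ring (in particular a domain). -/
theorem result {ι : Type u} [Preorder ι] [Nonempty ι] [IsDirected ι (· ≤ ·)] (G : ι → Type u) [∀ i, CommRing (G i)] [∀ i, IsDomain (G i)] [∀ i, ValuationRing (G i)] (f : ∀ i j, i ≤ j → G i →+* G j) [DirectedSystem G fun i j h => f i j h] : ∃ _ : IsDomain (Ring.DirectLimit G fun i j h => f i j h), ValuationRing (Ring.DirectLimit G fun i j h => f i j h) := by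
  -- lifting two elements to a common index
  have lift2 : ∀ a b : Ring.DirectLimit G fun i j h => f i j h, ∃ (i : ι) (x y : G i),
      Ring.DirectLimit.of G (fun i j h => f i j h) i x = a ∧
      Ring.DirectLimit.of G (fun i j h => f i j h) i y = b := by
    intro a b
    obtain ⟨i, x, rfl⟩ := Ring.DirectLimit.exists_of a
    obtain ⟨j, y, rfl⟩ := Ring.DirectLimit.exists_of b
    obtain ⟨k, hik, hjk⟩ := exists_ge_ge i j
    exact ⟨k, f i k hik x, f j k hjk y, Ring.DirectLimit.of_f _ _, Ring.DirectLimit.of_f _ _⟩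
  have hnt : Nontrivial (Ring.DirectLimit G fun i j h => f i j h) := by
    refine ⟨0, 1, fun h01 => ?_⟩
    obtain ⟨i⟩ := ‹Nonempty ι›
    have h1 : Ring.DirectLimit.of G (fun i j h => f i j h) i 1 = 0 := by
      rw [map_one]; exact h01.symm
    obtain ⟨j, hij, hj⟩ := Ring.DirectLimit.of.zero_exact h1
    rw [map_one] at hj
    exact one_ne_zero hj
  have hnzd : NoZeroDivisors (Ring.DirectLimit G fun i j h => f i j h) := by
    refine ⟨fun {a b} hab => ?_⟩
    obtain ⟨i, x, y, rfl, rfl⟩ := lift2 a b
    rw [← map_mul] at hab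
    obtain ⟨j, hij, hj⟩ := Ring.DirectLimit.of.zero_exact hab
    rw [map_mul] at hj
    rcases mul_eq_zero.mp hj with h1 | h1
    · left
      rw [← Ring.DirectLimit.of_f hij x, h1, map_zero]
    · right
      rw [← Ring.DirectLimit.of_f hij y, h1, map_zero]
  have hdom : IsDomain (Ring.DirectLimit G fun i j h => f i j h) := NoZeroDivisors.to_isDomain _
  refine ⟨hdom, { cond' := fun a b => ?_ }⟩
  obtain ⟨i, x, y, rfl, rfl⟩ := lift2 a b
  obtain ⟨c, hc | hc⟩ := ValuationRing.cond x y
  · exact ⟨Ring.DirectLimit.of G (fun i j h => f i j h) i c, Or.inl (by rw [← map_mul, hc])⟩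
  · exact ⟨Ring.DirectLimit.of G (fun i j h => f i j h) i c, Or.inr (by rw [← map_mul, hc])⟩

end Groth.Agent.S6287
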