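import Groth.Statements.S6289
import Mathlib

set_option autoImplicit false
universe u
open CAlg

namespace Groth.Agent.S6289

/-- Let A' be a valuation ring with residue field K and A ⊆ K a valuation ring with fraction field K.
Then the subring C of A' consisting of the elements whose residue class lies in A is a valuation
ring. -/
theorem result (A' : Type u) [CommRing A'] [IsDomain A'] [ValuationRing A'] (A : ValuationSubring (IsLocalRing.ResidueField A')) : ValuationRing (A.toSubring.comap (IsLocalRing.residue A')) := by
  have key : ∀ a b : A', ∀ c : A', a * c = b →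
      ∃ d : A', IsLocalRing.residue A' d ∈ A ∧ (a * d = b ∨ b * d = a) := by
    intro a b c hc
    by_cases hu : IsUnit c
    · rcases A.mem_or_inv_mem (IsLocalRing.residue A' c) with h | h
      · exact ⟨c, h, Or.inl hc⟩
      · obtain ⟨u, rfl⟩ := hu
        refine ⟨((u⁻¹ : A'ˣ) : A'), ?_, Or.inr ?_⟩
        · have : IsLocalRing.residue A' ((u⁻¹ : A'ˣ) : A') = (IsLocalRing.residue A' (u : A'))⁻¹ := by
            apply eq_inv_of_mul_eq_one_left
            rw [← map_mul, Units.inv_mul, map_one]
          rw [this]; exact h
        · rw [← hc, mul_assoc, Units.mul_inv, mul_one]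
    · refine ⟨c, ?_, Or.inl hc⟩
      have : IsLocalRing.residue A' c = 0 := by
        rw [IsLocalRing.residue_eq_zero_iff]
        exact (IsLocalRing.mem_maximalIdeal c).mpr hu
      rw [this]; exact A.zero_mem
  refine @ValuationRing.mk _ _ _ ⟨fun a b => ?_⟩
  obtain ⟨c, hc⟩ := ValuationRing.cond (a : A') (b : A')
  rcases hc with hc | hc
  · obtain ⟨d, hd, h⟩ := key a b c hc
    refine ⟨⟨d, hd⟩, ?_⟩
    rcases h with h | h
    · left; exact Subtype.ext h
    · right; exact Subtype.ext h
  · obtain ⟨d, hd, h⟩ := key b a c hc
    refine ⟨⟨d, hd⟩, ?_⟩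
    rcases h with h | h
    · right; exact Subtype.ext h
    · left; exact Subtype.ext h

end Groth.Agent.S6289
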