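import Groth.Statements.S6291
import Mathlib

set_option autoImplicit false
universe u
open CAlg

namespace Groth.Agent.S6291

/-- Let R be a local ring with maximal ideal m and M an R-module of finite length. Then mⁿM = 0 for some
n. -/
theorem result {R : Type u} [CommRing R] [IsLocalRing R] (M : Type u) [AddCommGroup M] [Module R M] (hM : IsFiniteLength R M) : ∃ n : ℕ, (IsLocalRing.maximalIdeal R) ^ n • (⊤ : Submodule R M) = ⊥ := by
  obtain ⟨hN, hA⟩ := isFiniteLength_iff_isNoetherian_isArtinian.mp hM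
  have hanti : ∀ n : ℕ, (IsLocalRing.maximalIdeal R) ^ (n + 1) • (⊤ : Submodule R M) ≤
      (IsLocalRing.maximalIdeal R) ^ n • (⊤ : Submodule R M) := by
    intro n
    apply Submodule.smul_mono_left
    exact Ideal.pow_le_pow_right (Nat.le_succ n)
  let f : ℕ →o (Submodule R M)ᵒᵈ :=
    ⟨fun n => OrderDual.toDual ((IsLocalRing.maximalIdeal R) ^ n • (⊤ : Submodule R M)),
      monotone_nat_of_le_succ fun n => hanti n⟩
  obtain ⟨n, hn⟩ := IsArtinian.monotone_stabilizes f
  refine ⟨n, ?_⟩
  apply Submodule.eq_bot_of_le_smul_of_le_jacobson_bot (IsLocalRing.maximalIdeal R)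
  · exact IsNoetherian.noetherian _
  · have h1 : (IsLocalRing.maximalIdeal R) ^ n • (⊤ : Submodule R M) =
        (IsLocalRing.maximalIdeal R) ^ (n + 1) • (⊤ : Submodule R M) :=
      hn (n+1) (Nat.le_succ n)
    conv_lhs => rw [h1]
    rw [pow_succ', mul_smul]
  · exact IsLocalRing.maximalIdeal_le_jacobson _

end Groth.Agent.S6291
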