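import Groth.Statements.S6295
import Mathlib

set_option autoImplicit false
universe u
open CAlg

namespace Groth.Agent.S6295

/-- Let R be a reduced ring. Then every localization R_p at a minimal prime p is a field and the map R →
∏_{p minimal} R_p is injective (so R is a subring of a product of fields); moreover the set of
zerodivisors of R is the union of the minimal primes. -/
theorem result (R : Type u) [CommRing R] [IsReduced R] : (∀ p : PrimeSpectrum R, p.asIdeal ∈ minimalPrimes R → IsField (Localization.AtPrime p.asIdeal)) ∧ Function.Injective (algebraMap R (∀ p : {p : PrimeSpectrum R // p.asIdeal ∈ minimalPrimes R}, Localization.AtPrime p.1.asIdeal)) ∧ (∀ x : R, x ∉ nonZeroDivisors R ↔ ∃ p ∈ minimalPrimes R, x ∈ p) := by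
  have hnil : ∀ y : R, (∀ p ∈ minimalPrimes R, y ∈ p) → y = 0 := by
    intro y hy
    have h1 : y ∈ sInf (minimalPrimes R) := by
      rw [Submodule.mem_sInf]; exact hy
    have h2 : sInf (minimalPrimes R) = (⊥ : Ideal R).radical := Ideal.sInf_minimalPrimes
    rw [h2] at h1
    have h3 : (⊥ : Ideal R).radical = ⊥ := nilradical_eq_zero R
    rw [h3] at h1
    exact h1
  refine ⟨?_, ?_, ?_⟩
  · intro p hp
    have : Ring.KrullDimLE 0 (Localization.AtPrime p.asIdeal) :=
      Ring.KrullDimLE.of_isLocalization p.asIdeal hp _
    have : IsReduced (Localization.AtPrime p.asIdeal) := inferInstance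
    exact Ring.KrullDimLE.isField_of_isReduced
  · rw [injective_iff_map_eq_zero]
    intro x hx
    apply hnil
    intro p hp
    have hp' : p.IsPrime := hp.1.1
    have h0 := congrFun hx ⟨⟨p, hp'⟩, hp⟩
    simp only [Pi.algebraMap_apply, Pi.zero_apply] at h0
    rw [IsLocalization.map_eq_zero_iff p.primeCompl] at h0
    obtain ⟨m, hm⟩ := h0
    have : (m : R) * x ∈ p := by rw [hm]; exact p.zero_mem
    exact (hp'.mem_or_mem this).resolve_left m.2
  · intro x
    constructor
    · intro hx
      rw [mem_nonZeroDivisors_iff_right] at hx
      push Not at hx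
      obtain ⟨y, hxy, hy⟩ := hx
      by_contra hcon
      push Not at hcon
      apply hy
      apply hnil
      intro p hp
      have hp' : p.IsPrime := hp.1.1
      have : y * x ∈ p := by rw [hxy]; exact p.zero_mem
      exact (hp'.mem_or_mem this).resolve_right (hcon p hp)
    · rintro ⟨p, hp, hxp⟩
      exact notMem_nonZeroDivisors_of_mem_mem_minimalPrimes hxp hp

end Groth.Agent.S6295
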