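import Groth.Statements.S6297
import Mathlib
import Groth.Agent.Lib.Helper1.Minors

set_option autoImplicit false
universe u
open CAlg

namespace Groth.Agent.S6297

/-- Let R be a ring, m ≤ n, A an n × m matrix over R and J the ideal generated by the m × m minors of A.
(1) For every f ∈ J there is an m × n matrix B with BA = f · 1. (2) If BA = f · 1 for some m × n
matrix B, then f^m ∈ J. -/
theorem result {R : Type u} [CommRing R] {n m : ℕ} (hmn : m ≤ n) (A : Matrix (Fin n) (Fin m) R) : (∀ f ∈ CAlgX.minorIdeal A m, ∃ B : Matrix (Fin m) (Fin n) R, B * A = f • (1 : Matrix (Fin m) (Fin m) R)) ∧ (∀ (f : R) (B : Matrix (Fin m) (Fin n) R), B * A = f • (1 : Matrix (Fin m) (Fin m) R) → f ^ m ∈ CAlgX.minorIdeal A m) := by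
  constructor
  · intro f hf
    unfold CAlgX.minorIdeal at hf
    induction hf using Submodule.span_induction with
    | mem x hx =>
      obtain ⟨⟨r, c⟩, rfl⟩ := hx
      exact Groth.Agent.Helper1.Minors.exists_left_inv_of_minor A r c
    | zero => exact ⟨0, by simp⟩
    | add x y _ _ hx hy =>
      obtain ⟨B₁, h₁⟩ := hx
      obtain ⟨B₂, h₂⟩ := hy
      exact ⟨B₁ + B₂, by rw [Matrix.add_mul, h₁, h₂, add_smul]⟩
    | smul a x _ hx =>
      obtain ⟨B, h⟩ := hx
      exact ⟨a • B, by rw [Matrix.smul_mul, h, smul_smul, smul_eq_mul]⟩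
  · intro f B h
    have hdet : (B * A).det = f ^ m := by
      rw [h, Matrix.det_smul, Matrix.det_one, mul_one, Fintype.card_fin]
    rw [← hdet, Groth.Agent.Helper1.Minors.weak_cauchy_binet]
    refine Ideal.sum_mem _ (fun k _ => ?_)
    apply Ideal.mul_mem_left
    exact Ideal.subset_span ⟨(k, id), rfl⟩

end Groth.Agent.S6297
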