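import Groth.Statements.S6298
import Mathlib

set_option autoImplicit false
universe u
open CAlg

namespace Groth.Agent.S6298

theorem aux {R : Type u} [CommRing R] (x : R) (I : Ideal R) :
    ∀ (n : ℕ) (t : Finset (Ideal R)), t.card = n → (∀ q ∈ t, q.IsPrime ∧ ∃ y ∈ I, x + y ∉ q) →
      ∃ y ∈ I, ∀ q ∈ t, x + y ∉ q := by
  classical
  intro n
  induction n with
  | zero =>
    intro t ht _
    rw [Finset.card_eq_zero] at ht
    subst ht
    exact ⟨0, I.zero_mem, by simp⟩
  | succ n ih =>
    intro t ht h
    have hne : t.Nonempty := by rw [← Finset.card_pos]; omega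
    obtain ⟨m, hm, hmin⟩ := t.exists_minimal hne
    have hcard : (t.erase m).card = n := by rw [Finset.card_erase_of_mem hm]; omega
    obtain ⟨y, hyI, hy⟩ := ih (t.erase m) hcard (fun q hq => h q (Finset.mem_of_mem_erase hq))
    by_cases hxm : x + y ∉ m
    · refine ⟨y, hyI, fun q hq => ?_⟩
      by_cases hqm : q = m
      · rw [hqm]; exact hxm
      · exact hy q (Finset.mem_erase.mpr ⟨hqm, hq⟩)
    · push_neg at hxm
      have hmprime : m.IsPrime := (h m hm).1
      obtain ⟨y0, hy0I, hy0⟩ := (h m hm).2
      have hInm : ∃ z ∈ I, z ∉ m := by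
        by_contra hcon
        push_neg at hcon
        apply hy0
        have h1 : y ∈ m := hcon y hyI
        have h2 : y0 ∈ m := hcon y0 hy0I
        have h3 : x ∈ m := by have := m.sub_mem hxm h1; simpa using this
        exact m.add_mem h3 h2
      obtain ⟨z, hzI, hzm⟩ := hInm
      have hex : ∀ q ∈ t.erase m, ∃ a, a ∈ q ∧ a ∉ m := by
        intro q hq
        have hqt := Finset.mem_of_mem_erase hq
        have hqne := Finset.ne_of_mem_erase hq
        by_contra hcon
        push_neg at hcon
        have hle : q ≤ m := fun a ha => hcon a ha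
        exact hqne (le_antisymm hle (hmin hqt hle))
      choose! a ha1 ha2 using hex
      refine ⟨y + z * ∏ q ∈ t.erase m, a q, I.add_mem hyI (I.mul_mem_right _ hzI), fun q hq => ?_⟩
      by_cases hqm : q = m
      · subst hqm
        intro hcon
        have h4 : z * ∏ q' ∈ t.erase q, a q' ∈ q := by
          have := q.sub_mem hcon hxm
          convert this using 1; ring
        rcases hmprime.mem_or_mem h4 with h1 | h1
        · exact hzm h1
        · rw [Ideal.IsPrime.prod_mem_iff] at h1
          obtain ⟨i, hi, hi'⟩ := h1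
          exact ha2 i hi hi'
      · have hq' : q ∈ t.erase m := Finset.mem_erase.mpr ⟨hqm, hq⟩
        intro hcon
        apply hy q hq'
        have hprod : z * ∏ q' ∈ t.erase m, a q' ∈ q := by
          apply q.mul_mem_left
          rw [← Finset.mul_prod_erase _ _ hq']
          exact q.mul_mem_right _ (ha1 q hq')
        have := q.sub_mem hcon hprod
        convert this using 1; ring

/-- Let R be a ring, x ∈ R, I ⊆ R an ideal and p₁, …, p_r prime ideals such that for each i the coset x
+ I is not contained in p_i. Then there is y ∈ I with x + y ∉ p_i for all i. -/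
theorem result {R : Type u} [CommRing R] (x : R) (I : Ideal R) {r : ℕ} (p : Fin r → Ideal R) [∀ i, (p i).IsPrime] (h : ∀ i, ∃ y ∈ I, x + y ∉ p i) : ∃ y ∈ I, ∀ i, x + y ∉ p i := by
  classical
  obtain ⟨y, hy, hy'⟩ := aux x I _ (Finset.univ.image p) rfl (by
    intro q hq
    rw [Finset.mem_image] at hq
    obtain ⟨i, _, rfl⟩ := hq
    exact ⟨inferInstance, h i⟩)
  exact ⟨y, hy, fun i => hy' (p i) (Finset.mem_image_of_mem p (Finset.mem_univ i))⟩

end Groth.Agent.S6298
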