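import Groth.Statements.S6301
import Mathlib

set_option autoImplicit false
universe u
open CAlg

namespace Groth.Agent.S6301

/-- An R-module M is flat exactly when, for every finitely presented R-module P and every surjective
R-module map N → M, the induced map Hom_R(P, N) → Hom_R(P, M) is surjective (modules P, N taken in
the same universe). -/
theorem result {R : Type u} [CommRing R] (M : Type u) [AddCommGroup M] [Module R M] : Module.Flat R M ↔ ∀ (P : Type u) [AddCommGroup P] [Module R P], Module.FinitePresentation R P → ∀ (N : Type u) [AddCommGroup N] [Module R N] (g : N →ₗ[R] M), Function.Surjective g → ∀ h : P →ₗ[R] M, ∃ h' : P →ₗ[R] N, g.comp h' = h := by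
  classical
  constructor
  · intro hflat P _ _ hP N _ _ g hg h
    obtain ⟨k, h₂, h₃, rfl⟩ := Module.Flat.exists_factorization_of_finitePresentation h
    obtain ⟨l, hl⟩ := Module.projective_lifting_property g h₃ hg
    exact ⟨l ∘ₗ h₂, by rw [← LinearMap.comp_assoc, hl]⟩
  · intro H
    refine ((Module.Flat.tfae_equational_criterion R M).out 0 4).mpr ?_
    intro l f x hxf
    -- the finitely presented module
    let K : Submodule R (Fin l →₀ R) := Submodule.span R {f}
    have hP : Module.FinitePresentation R ((Fin l →₀ R) ⧸ K) :=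
      Module.finitePresentation_of_surjective K.mkQ K.mkQ_surjective
        (by rw [Submodule.ker_mkQ]; exact Submodule.fg_span_singleton f)
    have hK : K ≤ LinearMap.ker x := by
      rw [Submodule.span_le]
      intro y hy
      rw [Set.mem_singleton_iff.mp hy]
      exact hxf
    let g : (M →₀ R) →ₗ[R] M := Finsupp.linearCombination R (id : M → M)
    obtain ⟨h', hh'⟩ := H ((Fin l →₀ R) ⧸ K) hP (M →₀ R) g
      (Finsupp.linearCombination_id_surjective R M) (K.liftQ x hK)
    let a₀ : (Fin l →₀ R) →ₗ[R] (M →₀ R) := h' ∘ₗ K.mkQ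
    have ha₀f : a₀ f = 0 := by
      show h' (K.mkQ f) = 0
      have : K.mkQ f = 0 := by
        rw [Submodule.mkQ_apply, Submodule.Quotient.mk_eq_zero]
        exact Submodule.mem_span_singleton_self f
      rw [this, map_zero]
    have hga₀ : g ∘ₗ a₀ = x := by
      show g ∘ₗ h' ∘ₗ K.mkQ = x
      rw [← LinearMap.comp_assoc, hh']
      exact K.liftQ_mkQ x hK
    let s : Finset M := Finset.univ.biUnion fun i : Fin l => (a₀ (Finsupp.single i 1)).support
    let r : (M →₀ R) →ₗ[R] (s →₀ R) := Finsupp.lsubtypeDomain (s : Set M)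
    let ι : (s →₀ R) →ₗ[R] (M →₀ R) := Finsupp.lmapDomain R R (Subtype.val : s → M)
    have hιr : ∀ i : Fin l, ι (r (a₀ (Finsupp.single i 1))) = a₀ (Finsupp.single i 1) := by
      intro i
      ext m
      by_cases hm : m ∈ s
      · have : ι (r (a₀ (Finsupp.single i 1))) ((⟨m, hm⟩ : s) : M) =
            (r (a₀ (Finsupp.single i 1))) ⟨m, hm⟩ :=
          Finsupp.mapDomain_apply Subtype.val_injective _ _
        exact this
      · have h1 : a₀ (Finsupp.single i 1) m = 0 := by
          by_contra hne
          apply hm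
          exact Finset.mem_biUnion.mpr ⟨i, Finset.mem_univ _, Finsupp.mem_support_iff.mpr hne⟩
        rw [h1]
        apply Finsupp.mapDomain_of_notMem_range
        rintro ⟨⟨m', hm'⟩, rfl⟩
        exact hm hm'
    let e : (s →₀ R) ≃ₗ[R] (Fin (Fintype.card s) →₀ R) :=
      Finsupp.domLCongr (Fintype.equivFin s)
    refine ⟨Fintype.card s, e.toLinearMap ∘ₗ r ∘ₗ a₀, g ∘ₗ ι ∘ₗ e.symm.toLinearMap, ?_, ?_⟩
    · apply Finsupp.lhom_ext'
      intro i
      apply LinearMap.ext_ring
      simp only [LinearMap.comp_apply, Finsupp.lsingle_apply, LinearEquiv.coe_coe,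
        LinearEquiv.symm_apply_apply]
      rw [hιr i, ← hga₀]
      rfl
    · simp only [LinearMap.comp_apply, ha₀f, map_zero]

end Groth.Agent.S6301
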