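import Groth.Statements.S6303
import Mathlib

set_option autoImplicit false
universe u
open CAlg

namespace Groth.Agent.S6303

open TensorProduct in
/-- Let R be a ring, I, J ⊆ R ideals and M a flat R-module. Then IM ∩ JM = (I ∩ J)M. -/
theorem result {R : Type u} [CommRing R] (I J : Ideal R) (M : Type u) [AddCommGroup M] [Module R M] [Module.Flat R M] : (I • (⊤ : Submodule R M)) ⊓ (J • ⊤) = (I ⊓ J) • (⊤ : Submodule R M) := by
  apply le_antisymm
  · rintro m ⟨hmI, hmJ⟩
    rw [← Ideal.subtype_rTensor_range M I] at hmI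
    obtain ⟨t, ht⟩ := hmI
    let ι : ↥(I ⊓ J) →ₗ[R] ↥I := Submodule.inclusion inf_le_left
    let φ : ↥I →ₗ[R] R ⧸ J := J.mkQ ∘ₗ I.subtype
    have hex : Function.Exact ι φ := by
      intro y
      constructor
      · intro hy
        have hyJ : (y : R) ∈ J := by
          have : (Submodule.Quotient.mk (y : R) : R ⧸ J) = 0 := hy
          rwa [Submodule.Quotient.mk_eq_zero] at this
        exact ⟨⟨y, ⟨y.2, hyJ⟩⟩, rfl⟩
      · rintro ⟨z, rfl⟩
        show (Submodule.Quotient.mk (z : R) : R ⧸ J) = 0
        rw [Submodule.Quotient.mk_eq_zero]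
        exact z.2.2
    have hex' := Module.Flat.rTensor_exact M hex
    have hφt : φ.rTensor M t = 0 := by
      apply (TensorProduct.quotTensorEquivQuotSMul M J).injective
      rw [map_zero]
      have h1 : (TensorProduct.quotTensorEquivQuotSMul M J) (φ.rTensor M t) =
          ((J • ⊤ : Submodule R M).mkQ ∘ₗ TensorProduct.lid R M) (I.subtype.rTensor M t) := by
        rw [← TensorProduct.quotTensorEquivQuotSMul_comp_mkQ_rTensor]
        simp only [LinearMap.coe_comp, LinearEquiv.coe_coe, Function.comp_apply]
        rw [← LinearMap.comp_apply, ← LinearMap.rTensor_comp]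
      rw [h1]
      have : (TensorProduct.lid R M) (I.subtype.rTensor M t) = m := ht
      rw [LinearMap.comp_apply, LinearEquiv.coe_coe, this, Submodule.mkQ_apply,
        Submodule.Quotient.mk_eq_zero]
      exact hmJ
    obtain ⟨s, hs⟩ := (hex' t).mp hφt
    rw [← Ideal.subtype_rTensor_range M (I ⊓ J)]
    refine ⟨s, ?_⟩
    rw [← ht, ← hs]
    simp only [LinearMap.coe_comp, LinearEquiv.coe_coe, Function.comp_apply]
    rw [← LinearMap.comp_apply (I.subtype.rTensor M), ← LinearMap.rTensor_comp]
    rfl
  · apply le_inf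
    · exact Submodule.smul_mono_left inf_le_left
    · exact Submodule.smul_mono_left inf_le_right

end Groth.Agent.S6303
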