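import Groth.Statements.S6304
import Mathlib

set_option autoImplicit false
universe u
open CAlg

namespace Groth.Agent.S6304

/-- In a short exact sequence 0 → M' → M → M'' → 0 of R-modules whose right-hand term M'' is flat, the
middle term M is flat when M' is, and M' is flat when M is. -/
theorem result {R : Type u} [CommRing R] {M' M M'' : Type u} [AddCommGroup M'] [Module R M'] [AddCommGroup M] [Module R M] [AddCommGroup M''] [Module R M''] (f : M' →ₗ[R] M) (g : M →ₗ[R] M'') (hf : Function.Injective f) (hexact : Function.Exact f g) (hg : Function.Surjective g) [Module.Flat R M''] : (Module.Flat R M' → Module.Flat R M) ∧ (Module.Flat R M → Module.Flat R M') := by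
  constructor
  · intro hM'
    rw [Module.Flat.iff_rTensor_injective']
    intro J
    rw [injective_iff_map_eq_zero]
    intro x hx
    have h1 : g.lTensor J x = 0 := by
      apply Module.Flat.rTensor_preserves_injective_linearMap (M := M'') J.subtype
        J.subtype_injective
      rw [map_zero, ← LinearMap.comp_apply, LinearMap.rTensor_comp_lTensor,
        ← LinearMap.lTensor_comp_rTensor, LinearMap.comp_apply, hx, map_zero]
    obtain ⟨y, rfl⟩ := (lTensor_exact J hexact hg x).mp h1
    have h2 : f.lTensor R (J.subtype.rTensor M' y) = 0 := by
      rw [← LinearMap.comp_apply, LinearMap.lTensor_comp_rTensor,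
        ← LinearMap.rTensor_comp_lTensor, LinearMap.comp_apply, hx]
    have h3 : J.subtype.rTensor M' y = 0 := by
      apply Module.Flat.lTensor_preserves_injective_linearMap (M := R) f hf
      rw [h2, map_zero]
    have h4 : y = 0 := by
      apply Module.Flat.rTensor_preserves_injective_linearMap (M := M') J.subtype
        J.subtype_injective
      rw [h3, map_zero]
    rw [h4, map_zero]
  · intro hM
    rw [Module.Flat.iff_rTensor_injective']
    intro J
    have h1 : Function.Injective (f.lTensor J) :=
      LinearMap.lTensor_injective_of_exact_of_flat g hg f hf hexact J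
    have h2 : Function.Injective (J.subtype.rTensor M) :=
      Module.Flat.rTensor_preserves_injective_linearMap _ J.subtype_injective
    intro x y hxy
    apply h1
    apply h2
    rw [← LinearMap.comp_apply, ← LinearMap.comp_apply, LinearMap.rTensor_comp_lTensor,
      ← LinearMap.lTensor_comp_rTensor, LinearMap.comp_apply, LinearMap.comp_apply, hxy]

end Groth.Agent.S6304
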