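import Groth.Statements.S6307
import Mathlib

set_option autoImplicit false
universe u
open CAlg

namespace Groth.Agent.S6307

/-- Let R be a ring, J ⊆ R a principal ideal and I ⊆ J an ideal. Then I = J · (I : J). -/
theorem result {R : Type u} [CommRing R] (I J : Ideal R) (hJ : J.IsPrincipal) (hIJ : I ≤ J) : I = J * I.colon J := by
  obtain ⟨a, ha⟩ := hJ.principal
  have haJ : a ∈ J := by rw [ha]; exact Submodule.mem_span_singleton_self a
  apply le_antisymm
  · intro x hx
    have hxJ := hIJ hx
    rw [ha] at hxJ
    obtain ⟨y, rfl⟩ := Submodule.mem_span_singleton.mp hxJ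
    rw [smul_eq_mul, mul_comm y a]
    apply Ideal.mul_mem_mul haJ
    rw [Submodule.mem_colon]
    intro s hs
    have hs' : s ∈ Submodule.span R {a} := by rw [← ha]; exact hs
    obtain ⟨r, rfl⟩ := Submodule.mem_span_singleton.mp hs'
    have : y • r • a = r * (y • a) := by simp only [smul_eq_mul]; ring
    rw [this]
    exact I.mul_mem_left r hx
  · rw [Ideal.mul_le]
    intro r hr s hs
    rw [Submodule.mem_colon] at hs
    have := hs r hr
    rwa [smul_eq_mul, mul_comm] at this

end Groth.Agent.S6307
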