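import Groth.Statements.S6311
import Mathlib
import Groth.Agent.S3194

set_option autoImplicit false
universe u
open CategoryTheory
open CAlg

namespace Groth.Agent.S6311

section
open CategoryTheory
open Groth.Agent.S3194

variable (R : Type u) [CommRing R] [IsLocalRing R]

abbrev PP : ObjectProperty (ModuleCat.{u} R) :=
  fun M : ModuleCat.{u} R => Module.Finite R M ∧ Module.Projective R M

theorem pp_of (X : Type u) [AddCommGroup X] [Module R X] [Module.Finite R X] [Module.Projective R X] :
    PP R (ModuleCat.of R X) := ⟨‹Module.Finite R X›, ‹Module.Projective R X›⟩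

theorem cl_prod (X Y : Type u) [AddCommGroup X] [Module R X] [AddCommGroup Y] [Module R Y]
    [Module.Finite R X] [Module.Projective R X] [Module.Finite R Y] [Module.Projective R Y] :
    KZero.clSub (PP R) (ModuleCat.of R (X × Y)) =
      KZero.clSub (PP R) (ModuleCat.of R X) + KZero.clSub (PP R) (ModuleCat.of R Y) := by
  refine cl_ses (PP R) (LinearMap.inl R X Y) (LinearMap.snd R X Y) LinearMap.inl_injective
    LinearMap.snd_surjective ?_ (pp_of R X) (pp_of R (X × Y)) (pp_of R Y)
  intro a
  constructor
  · intro ha
    refine ⟨a.1, ?_⟩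
    ext
    · rfl
    · exact ha.symm
  · rintro ⟨b, rfl⟩
    rfl

theorem cl_pi (n : ℕ) : KZero.clSub (PP R) (ModuleCat.of R (Fin n → R)) =
    (n : ℤ) • KZero.clSub (PP R) (ModuleCat.of R R) := by
  induction n with
  | zero =>
    rw [cl_subsingleton (PP R) (pp_of R (Fin 0 → R))]
    simp
  | succ n ih =>
    have e := Fin.consLinearEquiv R (fun _ : Fin (n + 1) => R)
    have h1 := cl_equiv (PP R) e (pp_of R _) (pp_of R _) (pp_of R PUnit)
    rw [← h1, cl_prod, ih]
    push_cast
    rw [add_smul, one_smul, add_comm]

theorem cl_free (X : Type u) [AddCommGroup X] [Module R X] [Module.Finite R X] [Module.Projective R X] :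
    KZero.clSub (PP R) (ModuleCat.of R X) =
      (Module.finrank R X : ℤ) • KZero.clSub (PP R) (ModuleCat.of R R) := by
  haveI : Module.Free R X := Module.free_of_flat_of_isLocalRing
  have e := (Module.finBasis R X).equivFun
  rw [cl_equiv (PP R) e (pp_of R _) (pp_of R _) (pp_of R PUnit), cl_pi]

noncomputable def rk : KZero.K0sub (PP R) →+ ℤ :=
  lift (PP R) (fun M => (Module.finrank R M.1 : ℤ)) (by
    intro S h₁ h₂ h₃ hS
    haveI : Module.Finite R S.X₁ := h₁.1
    haveI : Module.Finite R S.X₂ := h₂.1
    haveI : Module.Finite R S.X₃ := h₃.1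
    haveI : Module.Projective R S.X₁ := h₁.2
    haveI : Module.Projective R S.X₃ := h₃.2
    haveI : Module.Free R S.X₁ := Module.free_of_flat_of_isLocalRing
    haveI : Module.Free R S.X₃ := Module.free_of_flat_of_isLocalRing
    have hinj : Function.Injective S.f.hom := (ModuleCat.mono_iff_injective S.f).1 hS.mono_f
    have hsurj : Function.Surjective S.g.hom := (ModuleCat.epi_iff_surjective S.g).1 hS.epi_g
    have hex : Function.Exact S.f.hom S.g.hom :=
      (ShortComplex.ShortExact.moduleCat_exact_iff_function_exact S).1 hS.exact
    obtain ⟨l, hl⟩ := Module.projective_lifting_property S.g.hom LinearMap.id hsurj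
    have e := (hex.splitSurjectiveEquiv hinj ⟨l, hl⟩).1
    have h1 := e.finrank_eq
    rw [Module.finrank_prod] at h1
    show (Module.finrank R S.X₂ : ℤ) = Module.finrank R S.X₁ + Module.finrank R S.X₃
    omega)

theorem rk_cl (X : ModuleCat.{u} R) (h : PP R X) :
    rk R (KZero.clSub (PP R) X) = Module.finrank R X :=
  lift_clSub (PP R) _ _ X h

theorem main : ∃ e : KZero.K0sub (fun M : ModuleCat.{u} R => Module.Finite R M ∧ Module.Projective R M) ≃+ ℤ,
    e (KZero.clSub (fun M : ModuleCat.{u} R => Module.Finite R M ∧ Module.Projective R M) (ModuleCat.of R R)) = 1 := by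
  have hR : rk R (KZero.clSub (PP R) (ModuleCat.of R R)) = 1 := by
    rw [rk_cl R _ (pp_of R R)]
    simp [Module.finrank_self]
  have hleft : ∀ x, (rk R x) • KZero.clSub (PP R) (ModuleCat.of R R) = x := by
    intro x
    induction x using K0_induction (PP R) with
    | zero => simp
    | cl X hX =>
      haveI : Module.Finite R X := hX.1
      haveI : Module.Projective R X := hX.2
      rw [rk_cl R X hX]
      exact (cl_free R X).symm
    | add x y hx hy => rw [map_add, add_smul, hx, hy]
    | neg x hx => rw [map_neg, neg_smul, hx]
  refine ⟨{ toFun := rk R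
            invFun := fun k => k • KZero.clSub (PP R) (ModuleCat.of R R)
            left_inv := hleft
            right_inv := fun k => by
              show rk R (k • _) = k
              rw [map_zsmul, hR]; simp
            map_add' := map_add _ }, hR⟩


end


/-- Let R be a local ring. Then K₀(R), the Grothendieck group of the category of finite projective
R-modules, is isomorphic to ℤ via the rank; precisely, there is an isomorphism K₀(R) ≅ ℤ of abelian
groups sending the class [R] to 1 (such an isomorphism is then unique, K₀(R) being generated by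
[R]). -/
theorem result (R : Type u) [CommRing R] [IsLocalRing R] : ∃ e : KZero.K0sub (fun M : ModuleCat.{u} R => Module.Finite R M ∧ Module.Projective R M) ≃+ ℤ, e (KZero.clSub (fun M : ModuleCat.{u} R => Module.Finite R M ∧ Module.Projective R M) (ModuleCat.of R R)) = 1 := by
  classical
  exact main R

end Groth.Agent.S6311
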