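import Groth.Statements.S6324
import Mathlib
import Groth.Prelude.Def_W4stkalgebra1Int
-- import your own Groth.Agent.* helpers here

set_option autoImplicit false
universe u
open CAlg

namespace Groth.Agent.S6324

namespace Aux
open Polynomial W4stkalgebra1

variable {R S : Type u} [CommRing R] [CommRing S] [Algebra R S] (I : Ideal R)

/-- the ring hom from the Rees algebra to `S[t]` -/
noncomputable abbrev ρ : reesAlgebra I →+* S[X] :=
  (Polynomial.mapRingHom (algebraMap R S)).comp (reesAlgebra I).val.toRingHom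

/-- a monic polynomial given by a coefficient function with top coefficient 1 -/
theorem monic_sum {A : Type u} [CommRing A] (d : ℕ) (a : ℕ → A) (had : a d = 1) :
    (∑ j ∈ Finset.range (d + 1), C (a j) * X ^ j : A[X]).Monic ∧
    (Nontrivial A → (∑ j ∈ Finset.range (d + 1), C (a j) * X ^ j : A[X]).natDegree = d) ∧
    ∀ j, j ≤ d → (∑ j ∈ Finset.range (d + 1), C (a j) * X ^ j : A[X]).coeff j = a j := by
  have hcoeff : ∀ j, j ≤ d → (∑ j ∈ Finset.range (d + 1), C (a j) * X ^ j : A[X]).coeff j = a j := by
    intro j hj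
    rw [finsetSum_coeff]
    rw [Finset.sum_eq_single j]
    · rw [coeff_C_mul_X_pow, if_pos rfl]
    · intro i _ hij
      rw [coeff_C_mul_X_pow, if_neg (fun h => hij h.symm)]
    · intro h
      exact absurd (Finset.mem_range.mpr (Nat.lt_succ_of_le hj)) h
  have hsplit : (∑ j ∈ Finset.range (d + 1), C (a j) * X ^ j : A[X]) =
      X ^ d + ∑ j ∈ Finset.range d, C (a j) * X ^ j := by
    rw [Finset.sum_range_succ, had, map_one, one_mul, add_comm]
  have hdeg : (∑ j ∈ Finset.range d, C (a j) * X ^ j : A[X]).degree < d := by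
    rw [degree_lt_iff_coeff_zero]
    intro m hm
    rw [finsetSum_coeff]
    apply Finset.sum_eq_zero
    intro i hi
    rw [coeff_C_mul_X_pow, if_neg]
    have := Finset.mem_range.mp hi
    omega
  have hmonic : (∑ j ∈ Finset.range (d + 1), C (a j) * X ^ j : A[X]).Monic := by
    rw [hsplit]; exact monic_X_pow_add hdeg
  refine ⟨hmonic, ?_, hcoeff⟩
  intro hnt
  rw [hsplit, add_comm]
  rw [natDegree_add_eq_right_of_degree_lt (by rw [degree_X_pow]; exact hdeg), natDegree_X_pow]


theorem fwd (s : S) (h : IsIntegralOverIdeal I s) :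
    (ρ (S := S) I).IsIntegralElem (C s * X) := by
  obtain ⟨p, hp, hcoef, heval⟩ := h
  set d := p.natDegree with hd
  have hmem : ∀ j, j ≤ d → monomial (d - j) (p.coeff j) ∈ reesAlgebra I := by
    intro j hj
    rw [reesAlgebra.monomial_mem]
    rcases lt_or_eq_of_le hj with h | h
    · exact hcoef j h
    · subst h; simp
  let a : ℕ → reesAlgebra I :=
    fun j => if h : j ≤ d then ⟨monomial (d - j) (p.coeff j), hmem j h⟩ else 0
  have had : a d = 1 := by
    simp only [a, dif_pos le_rfl]
    apply Subtype.ext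
    show monomial (d - d) (p.coeff d) = 1
    rw [Nat.sub_self, hd, hp.coeff_natDegree]
    rfl
  obtain ⟨hmonic, -, -⟩ := monic_sum d a had
  refine ⟨_, hmonic, ?_⟩
  rw [eval₂_finsetSum]
  have hterm : ∀ j ∈ Finset.range (d + 1),
      eval₂ (ρ (S := S) I) (C s * X) (C (a j) * X ^ j) =
        C (algebraMap R S (p.coeff j) * s ^ j) * X ^ d := by
    intro j hj
    have hj' : j ≤ d := Nat.lt_succ_iff.mp (Finset.mem_range.mp hj)
    rw [eval₂_mul, eval₂_C, eval₂_X_pow]
    simp only [a, dif_pos hj']
    show Polynomial.map (algebraMap R S) (monomial (d - j) (p.coeff j)) * (C s * X) ^ j = _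
    rw [map_monomial, mul_pow, ← C_pow, ← C_mul_X_pow_eq_monomial, C_mul]
    have hX : (X : S[X]) ^ (d - j) * X ^ j = X ^ d := by
      rw [← pow_add, Nat.sub_add_cancel hj']
    calc C (algebraMap R S (p.coeff j)) * X ^ (d - j) * (C (s ^ j) * X ^ j)
        = C (algebraMap R S (p.coeff j)) * C (s ^ j) * (X ^ (d - j) * X ^ j) := by ring
      _ = _ := by rw [hX]
  rw [Finset.sum_congr rfl hterm, ← Finset.sum_mul, ← map_sum]
  rw [eval₂_eq_sum_range] at heval
  rw [heval, map_zero, zero_mul]


theorem bwd (s : S) (h : (ρ (S := S) I).IsIntegralElem (C s * X)) :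
    IsIntegralOverIdeal I s := by
  obtain ⟨P, hP, heval⟩ := h
  rcases subsingleton_or_nontrivial R with hR | hR
  · refine ⟨1, monic_one, ?_, ?_⟩
    · intro j hj
      rw [natDegree_one] at hj
      exact absurd hj (Nat.not_lt_zero j)
    · have : Subsingleton S := by
        constructor
        intro x y
        have h1 : (1 : S) = 0 := by
          rw [← map_one (algebraMap R S), Subsingleton.elim (1 : R) 0, map_zero]
        rw [← one_mul x, ← one_mul y, h1, zero_mul, zero_mul]
      exact Subsingleton.elim _ _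
  set d := P.natDegree with hd
  let b : ℕ → R := fun j => ((P.coeff j : reesAlgebra I) : R[X]).coeff (d - j)
  have hbd : b d = 1 := by
    simp only [b]
    rw [hd, hP.coeff_natDegree, Nat.sub_self]
    show (1 : R[X]).coeff 0 = 1
    exact coeff_one_zero
  obtain ⟨hmonic, hnat, hcoeff⟩ := monic_sum d b hbd
  refine ⟨_, hmonic, ?_, ?_⟩
  · intro j hj
    rw [hnat hR] at hj ⊢
    rw [hcoeff j hj.le]
    exact (mem_reesAlgebra_iff I _).mp (P.coeff j).2 (d - j)
  · rw [eval₂_finsetSum]
    simp only [eval₂_mul, eval₂_C, eval₂_X_pow]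
    have h0 := congrArg (fun q => q.coeff d) heval
    rw [eval₂_eq_sum_range] at h0
    simp only [finsetSum_coeff, coeff_zero] at h0
    rw [← h0]
    apply Finset.sum_congr rfl
    intro j hj
    have hj' : j ≤ d := Nat.lt_succ_iff.mp (Finset.mem_range.mp hj)
    rw [mul_pow, ← C_pow, ← mul_assoc, coeff_mul_X_pow', if_pos hj', coeff_mul_C]
    show _ = (Polynomial.map (algebraMap R S) (P.coeff j).1).coeff (d - j) * s ^ j
    rw [coeff_map]

theorem main (s : S) : IsIntegralOverIdeal I s ↔
    ((Polynomial.mapRingHom (algebraMap R S)).comp (reesAlgebra I).val.toRingHom).IsIntegralElem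
      (C s * X) :=
  ⟨fwd I s, bwd I s⟩

end Aux

/-- Let R → S be a ring map, I ⊆ R an ideal and A = Σ Iⁿtⁿ ⊆ R[t] the Rees algebra of I. For s ∈ S,
being integral over I is equivalent to s·t ∈ S[t] being integral over A (via A ⊆ R[t] → S[t]). -/
theorem result {R S : Type u} [CommRing R] [CommRing S] [Algebra R S] (I : Ideal R) (s : S) : W4stkalgebra1.IsIntegralOverIdeal I s ↔ ((Polynomial.mapRingHom (algebraMap R S)).comp (reesAlgebra I).val.toRingHom).IsIntegralElem (Polynomial.C s * Polynomial.X) := by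
  exact Aux.main I s

end Groth.Agent.S6324
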