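import Groth.Statements.S6325
import Mathlib
import Groth.Prelude.Def_W4stkalgebra1Int
import Groth.Agent.S6324
-- import your own Groth.Agent.* helpers here

set_option autoImplicit false
universe u
open CAlg

namespace Groth.Agent.S6325

namespace Aux
open Polynomial W4stkalgebra1 Groth.Agent.S6324.Aux

variable {R S : Type u} [CommRing R] [CommRing S] [Algebra R S] (I : Ideal R)

theorem rho_algebraMap (r : R) :
    ρ (S := S) I (algebraMap R ↥(reesAlgebra I) r) = C (algebraMap R S r) := by
  show Polynomial.map (algebraMap R S) (C r) = _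
  rw [map_C]

theorem isIntegralElem_C (s : S) (hs : IsIntegral R s) : (ρ (S := S) I).IsIntegralElem (C s) := by
  obtain ⟨p, hp, heval⟩ := hs
  let φ : R →+* ↥(reesAlgebra I) := algebraMap R ↥(reesAlgebra I)
  refine ⟨p.map φ, ?_, ?_⟩
  · exact Polynomial.Monic.map φ hp
  rw [eval₂_map]
  have hcomp : (ρ (S := S) I).comp (algebraMap R ↥(reesAlgebra I)) =
      (C : S →+* S[X]).comp (algebraMap R S) := by
    apply RingHom.ext
    intro r
    exact rho_algebraMap (S := S) I r
  rw [hcomp, ← hom_eval₂, heval, map_zero]

theorem main : (∃ N : Submodule R S, ∀ s : S, s ∈ N ↔ IsIntegralOverIdeal I s) ∧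
    (∀ s s' : S, IsIntegral R s → IsIntegralOverIdeal I s' → IsIntegralOverIdeal I (s * s')) := by
  constructor
  · have hadd : ∀ {a b : S}, IsIntegralOverIdeal I a → IsIntegralOverIdeal I b →
        IsIntegralOverIdeal I (a + b) := by
      intro a b ha hb
      rw [Groth.Agent.S6324.Aux.main] at ha hb ⊢
      rw [map_add, add_mul]
      exact RingHom.IsIntegralElem.add _ ha hb
    have hzero : IsIntegralOverIdeal I (0 : S) := by
      rw [Groth.Agent.S6324.Aux.main, map_zero, zero_mul]
      exact RingHom.isIntegralElem_zero _
    have hsmul : ∀ (c : R) {s : S}, IsIntegralOverIdeal I s → IsIntegralOverIdeal I (c • s) := by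
      intro c s hs
      rw [Groth.Agent.S6324.Aux.main] at hs ⊢
      have : (C (c • s) * X : S[X]) =
          ρ (S := S) I (algebraMap R ↥(reesAlgebra I) c) * (C s * X) := by
        rw [rho_algebraMap (S := S), Algebra.smul_def, C_mul, mul_assoc]
      rw [this]
      exact RingHom.IsIntegralElem.mul _ (RingHom.isIntegralElem_map _) hs
    exact ⟨{ carrier := {s | IsIntegralOverIdeal I s}
             add_mem' := hadd
             zero_mem' := hzero
             smul_mem' := fun c _ hs => hsmul c hs }, fun s => Iff.rfl⟩
  · intro s s' hs hs'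
    rw [Groth.Agent.S6324.Aux.main] at hs' ⊢
    rw [C_mul, mul_assoc]
    exact RingHom.IsIntegralElem.mul _ (isIntegralElem_C I s hs) hs'

end Aux

/-- Let R → S be a ring map and I ⊆ R an ideal. The elements of S integral over I form an R-submodule of
S; moreover, the product s s' is integral over I for any s ∈ S integral over R and any s' ∈ S
integral over I. -/
theorem result {R S : Type u} [CommRing R] [CommRing S] [Algebra R S] (I : Ideal R) : (∃ N : Submodule R S, ∀ s : S, s ∈ N ↔ W4stkalgebra1.IsIntegralOverIdeal I s) ∧ (∀ s s' : S, IsIntegral R s → W4stkalgebra1.IsIntegralOverIdeal I s' → W4stkalgebra1.IsIntegralOverIdeal I (s * s')) := by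
  exact Aux.main I

end Groth.Agent.S6325
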