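import Groth.Statements.S6337
import Mathlib
import Groth.Agent.Lib.Helper1.ML

set_option autoImplicit false
universe u
open CAlg

namespace Groth.Agent.S6337

/-- A direct sum of modules is Mittag-Leffler if and only if each summand is Mittag-Leffler. -/
theorem result (R : Type u) [CommRing R] {ι : Type u} (M : ι → Type u)
    [∀ i, AddCommGroup (M i)] [∀ i, Module R (M i)] :
    CAlg.IsMittagLeffler R (DirectSum ι M) ↔ ∀ i, CAlg.IsMittagLeffler R (M i) := by
  classical
  constructor
  · intro h i
    refine Groth.Agent.Helper1.ML.of_univInj (DirectSum.lof R ι M i) ?_ h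
    intro Q _ _
    have : (DirectSum.component R ι M i).rTensor Q ∘ₗ (DirectSum.lof R ι M i).rTensor Q =
        LinearMap.id := by
      rw [← LinearMap.rTensor_comp]
      have : (DirectSum.component R ι M i) ∘ₗ (DirectSum.lof R ι M i) = LinearMap.id := by
        ext x; simp
      rw [this, LinearMap.rTensor_id]
    intro a b hab
    have h2 := congrArg ((DirectSum.component R ι M i).rTensor Q) hab
    rw [← LinearMap.comp_apply, ← LinearMap.comp_apply, this] at h2
    exact h2
  · intro h κ Q _ _
    rw [injective_iff_map_eq_zero]
    intro x hx
    have hcomp : ∀ (N : Type u) [AddCommGroup N] [Module R N] (y : TensorProduct R (DirectSum ι M) N)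
        (i : ι), TensorProduct.directSumLeft R R M N y i =
          ((DirectSum.component R ι M i).rTensor N) y := by
      intro N _ _ y i
      induction y using TensorProduct.induction_on with
      | zero => simp
      | tmul m n =>
        rw [TensorProduct.directSumLeft_tmul, LinearMap.rTensor_tmul]
        rfl
      | add y z hy hz => simp only [map_add, DirectSum.add_apply, hy, hz]
    apply (TensorProduct.directSumLeft R R M (∀ k, Q k)).injective
    rw [map_zero]
    ext i
    rw [hcomp, DirectSum.zero_apply]
    apply h i κ Q
    rw [map_zero]
    funext k
    rw [Groth.Agent.Helper1.ML.piRightHom_natural, hx]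
    simp

end Groth.Agent.S6337
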