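import Groth.Statements.S6341
import Mathlib
import Groth.Agent.Lib.Helper1.ML

set_option autoImplicit false
universe u
open CAlg

namespace Groth.Agent.S6341

/-- The colimit of a directed system of Mittag-Leffler modules with universally injective transition
maps is Mittag-Leffler. -/
theorem result (R : Type u) [CommRing R] {ι : Type u}
    [Preorder ι] [IsDirected ι (· ≤ ·)] [DecidableEq ι] (G : ι → Type u) [∀ i, AddCommGroup (G i)]
    [∀ i, Module R (G i)] (f : ∀ i j, i ≤ j → G i →ₗ[R] G j) [DirectedSystem G fun i j h => f i j h]
    (hf : ∀ i j (h : i ≤ j), CAlgX.UniversallyInjective R (f i j h))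
    (hG : ∀ i, CAlg.IsMittagLeffler R (G i)) :
    CAlg.IsMittagLeffler R (Module.DirectLimit G f) := by
  classical
  -- each structure map is universally injective
  have hof : ∀ i, CAlgX.UniversallyInjective R (Module.DirectLimit.of R ι G f i) := by
    intro i Q _ _
    rw [injective_iff_map_eq_zero]
    intro x hx
    have h1 := congrArg (TensorProduct.directLimitLeft f Q) hx
    rw [TensorProduct.directLimitLeft_rTensor_of, map_zero] at h1
    obtain ⟨j, hij, hj⟩ := Module.DirectLimit.of.zero_exact h1
    exact hf i j hij Q (by rw [hj, map_zero])
  intro κ Q _ _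
  rw [injective_iff_map_eq_zero]
  intro x hx
  by_cases hne : Nonempty ι
  · -- x comes from some stage
    obtain ⟨i, y, hy⟩ := Module.DirectLimit.exists_of
      (TensorProduct.directLimitLeft f (∀ k, Q k) x)
    have hxy : x = ((Module.DirectLimit.of R ι G f i).rTensor (∀ k, Q k)) y := by
      apply (TensorProduct.directLimitLeft f (∀ k, Q k)).injective
      rw [TensorProduct.directLimitLeft_rTensor_of, hy]
    have hy0 : y = 0 := by
      apply hG i κ Q
      rw [map_zero]
      funext k
      apply hof i (Q k)
      rw [← Groth.Agent.Helper1.ML.piRightHom_natural, ← hxy, hx]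
      simp
    rw [hxy, hy0, map_zero]
  · have : IsEmpty ι := not_nonempty_iff.mp hne
    have hsub : Subsingleton (Module.DirectLimit G f) := by
      refine ⟨fun a b => ?_⟩
      induction a using Quotient.inductionOn' with
      | h a =>
        induction b using Quotient.inductionOn' with
        | h b =>
          congr 1
          exact Subsingleton.elim _ _
    exact Subsingleton.elim _ _

end Groth.Agent.S6341
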