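import Groth.Statements.S6342
import Mathlib

set_option autoImplicit false
universe u
open CAlg

namespace Groth.Agent.S6342

/-- Let R → S be a ring map such that S is Mittag-Leffler as an R-module, and let M be an S-module which
is flat and Mittag-Leffler over S. Then M is Mittag-Leffler as an R-module. -/
theorem result (R S : Type u) [CommRing R] [CommRing S] [Algebra R S]
    (M : Type u) [AddCommGroup M] [Module S M] [Module R M] [IsScalarTower R S M]
    (hS : CAlg.IsMittagLeffler R S) [Module.Flat S M] (hM : CAlg.IsMittagLeffler S M) :
    CAlg.IsMittagLeffler R M := by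
  intro ι Q _ _
  let P : (TensorProduct R S (∀ i, Q i)) →ₗ[S] (∀ i, TensorProduct R S (Q i)) :=
    TensorProduct.piRightHom R S S Q
  have hP : Function.Injective P := by
    have h0 := hS ι Q
    have : ∀ x, P x = TensorProduct.piRightHom R R S Q x := by
      intro x
      induction x using TensorProduct.induction_on with
      | zero => simp
      | tmul s q => rfl
      | add x y hx hy => simp only [map_add, hx, hy]
    intro a b hab
    apply h0
    rw [← this, ← this, hab]
  have hPM : Function.Injective (P.lTensor M) :=
    Module.Flat.lTensor_preserves_injective_linearMap P hP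
  have hMS := hM ι (fun i => TensorProduct R S (Q i))
  let e : ∀ (N : Type u) [AddCommGroup N] [Module R N],
      (TensorProduct S M (TensorProduct R S N)) ≃ₗ[S] (TensorProduct R M N) := fun N _ _ =>
    TensorProduct.AlgebraTensorModule.cancelBaseChange R S S M N
  have hsq : ∀ (x' : TensorProduct S M (TensorProduct R S (∀ i, Q i))) (i : ι),
      e (Q i) (TensorProduct.piRightHom S S M (fun i => TensorProduct R S (Q i))
        ((P.lTensor M) x') i) =
        TensorProduct.piRightHom R R M Q (e (∀ i, Q i) x') i := by
    intro x' i
    induction x' using TensorProduct.induction_on with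
    | zero => simp
    | tmul m y =>
      induction y using TensorProduct.induction_on with
      | zero => simp
      | tmul s q =>
        simp only [LinearMap.lTensor_tmul, TensorProduct.piRightHom_tmul, e, P,
          TensorProduct.AlgebraTensorModule.cancelBaseChange_tmul]
      | add y z hy hz =>
        simp only [TensorProduct.tmul_add, map_add, Pi.add_apply, hy, hz]
    | add x y hx hy => simp only [map_add, Pi.add_apply, hx, hy]
  rw [injective_iff_map_eq_zero]
  intro x hx
  obtain ⟨x', rfl⟩ := (e (∀ i, Q i)).surjective x
  have h1 : (P.lTensor M) x' = 0 := by
    apply hMS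
    rw [map_zero]
    funext i
    apply (e (Q i)).injective
    rw [hsq, hx]
    simp
  have h2 : x' = 0 := hPM (by rw [h1, map_zero])
  rw [h2, map_zero]

end Groth.Agent.S6342
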