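import Groth.Statements.S6348
import Mathlib

set_option autoImplicit false
universe u
open scoped TensorProduct
open CAlg

namespace Groth.Agent.S6348

/-- For a ring map R → S and a Mittag-Leffler R-module M, the S-module S ⊗_R M is Mittag-Leffler. (The
companion parts on flat modules, projective modules and direct sums of countably generated modules
are standard base-change facts.) -/
theorem result (R S : Type u) [CommRing R] [CommRing S] [Algebra R S] (M : Type u)
    [AddCommGroup M] [Module R M] (hM : CAlg.IsMittagLeffler R M) :
    CAlg.IsMittagLeffler S (S ⊗[R] M) := by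
  intro ι Q _ _
  letI instR : ∀ i, Module R (Q i) := fun i => Module.compHom (Q i) (algebraMap R S)
  haveI : ∀ i, IsScalarTower R S (Q i) := fun i => IsScalarTower.of_algebraMap_smul fun _ _ => rfl
  -- the identification (S ⊗ M) ⊗[S] N ≃ M ⊗[R] N
  let e : ∀ (N : Type u) [AddCommGroup N] [Module S N] [Module R N] [IsScalarTower R S N],
      ((S ⊗[R] M) ⊗[S] N) ≃ₗ[R] (M ⊗[R] N) := fun N _ _ _ _ =>
    ((TensorProduct.comm S (S ⊗[R] M) N).restrictScalars R).trans
      (((TensorProduct.AlgebraTensorModule.cancelBaseChange R S S N M).restrictScalars R).trans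
        (TensorProduct.comm R N M))
  have he : ∀ (N : Type u) [AddCommGroup N] [Module S N] [Module R N] [IsScalarTower R S N]
      (s : S) (m : M) (n : N), e N ((s ⊗ₜ[R] m) ⊗ₜ[S] n) = m ⊗ₜ[R] (s • n) := by
    intro N _ _ _ _ s m n
    simp [e]
  have hsq : ∀ (x : (S ⊗[R] M) ⊗[S] (∀ i, Q i)) (i : ι),
      e (Q i) (TensorProduct.piRightHom S S (S ⊗[R] M) Q x i) =
        TensorProduct.piRightHom R R M Q (e (∀ i, Q i) x) i := by
    intro x i
    induction x using TensorProduct.induction_on with
    | zero => simp
    | tmul y q =>
      induction y using TensorProduct.induction_on with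
      | zero => simp
      | tmul s m =>
        rw [TensorProduct.piRightHom_tmul, he, he, TensorProduct.piRightHom_tmul]
        rfl
      | add y z hy hz =>
        simp only [TensorProduct.add_tmul, map_add, Pi.add_apply, hy, hz]
    | add x y hx hy => simp only [map_add, Pi.add_apply, hx, hy]
  rw [injective_iff_map_eq_zero]
  intro x hx
  apply (e (∀ i, Q i)).injective
  rw [map_zero]
  apply hM ι Q
  rw [map_zero]
  funext i
  rw [← hsq, hx]
  simp

end Groth.Agent.S6348
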