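import Groth.Statements.S6351
import Mathlib
import Groth.Agent.Lib.Helper1.LocalCrit

set_option autoImplicit false
universe u
open scoped TensorProduct
open CAlg

namespace Groth.Agent.S6351

/-- Let I be a nilpotent ideal of a commutative ring R and M an R-module with Tor_1^R(R/I, M) = 0, i.e.
I ⊗_R M → M injective. If a family of elements of M maps to a basis of the R/I-module M/IM = R/I ⊗
M, then it is a basis of M over R. -/
theorem result (R : Type u) [CommRing R] (I : Ideal R)
    (hI : IsNilpotent I) (M : Type u) [AddCommGroup M] [Module R M]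
    (htor : Function.Injective ((Submodule.subtype I).rTensor M)) {A : Type u} (x : A → M)
    (hli : LinearIndependent (R ⧸ I) (fun a => (1 : R ⧸ I) ⊗ₜ[R] x a))
    (hsp : Submodule.span (R ⧸ I) (Set.range fun a => (1 : R ⧸ I) ⊗ₜ[R] x a) = ⊤) :
    LinearIndependent R x ∧ Submodule.span R (Set.range x) = ⊤ := by
  obtain ⟨n, hn⟩ := hI
  have hb := Groth.Agent.Helper1.LocalCrit.linearCombination_bijective_of_basis_quotient_of_pow_eq_bot
    I htor n hn x hli hsp
  refine ⟨linearIndependent_iff_injective_finsuppLinearCombination.mpr hb.1, ?_⟩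
  rw [← Finsupp.range_linearCombination]
  exact LinearMap.range_eq_top.mpr hb.2

end Groth.Agent.S6351
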