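import Groth.Statements.S6368
import Mathlib

set_option autoImplicit false
universe u
open scoped TensorProduct
open CAlg

namespace Groth.Agent.S6368

/-- Let R → S be faithfully flat and M an R-module. If the S-module S ⊗_R M is countably generated then
M is countably generated. -/
theorem result (R S : Type u) [CommRing R] [CommRing S] [Algebra R S]
    [Module.FaithfullyFlat R S] (M : Type u) [AddCommGroup M] [Module R M]
    (h : CAlg.IsCountablyGenerated S (S ⊗[R] M)) : CAlg.IsCountablyGenerated R M := by
  obtain ⟨s, hs, hspan⟩ := h
  -- for each y pick a finite set of elements of M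
  have key : ∀ y : S ⊗[R] M, ∃ t : Finset M,
      y ∈ (Submodule.span R (t : Set M)).baseChange S := by
    intro y
    obtain ⟨N, hN, hy⟩ := TensorProduct.exists_finite_submodule_right_of_setFinite
      ({y} : Set (S ⊗[R] M)) (Set.finite_singleton y)
    obtain ⟨t, ht⟩ := (Module.Finite.iff_fg.mp hN)
    refine ⟨t, ?_⟩
    rw [ht]
    obtain ⟨z, hz⟩ := hy (Set.mem_singleton y)
    exact ⟨z, hz⟩
  choose t ht using key
  refine ⟨⋃ y ∈ s, (t y : Set M), ?_, ?_⟩
  · exact hs.biUnion (fun y _ => (t y).countable_toSet)
  · apply Submodule.baseChange_injective (A := S)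
    rw [Submodule.baseChange_top, eq_top_iff, ← hspan, Submodule.span_le]
    intro y hy
    have hle : Submodule.span R (t y : Set M) ≤ Submodule.span R (⋃ y ∈ s, (t y : Set M)) :=
      Submodule.span_mono (Set.subset_biUnion_of_mem (u := fun y => (t y : Set M)) hy)
    exact Submodule.baseChange_mono S hle (ht y)

end Groth.Agent.S6368
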