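import Groth.Statements.S6371
import Mathlib
import Groth.Agent.Lib.Helper1.EpiRing

set_option autoImplicit false
universe u
open CAlg

namespace Groth.Agent.S6371

/-- A ring map R → S is an epimorphism of rings if and only if for every prime p of R the localized map
R_p → S_p is an epimorphism, where S_p is S localized at the image of R ∖ p. -/
theorem result (R S : Type u) [CommRing R] [CommRing S] [Algebra R S] :
    Algebra.IsEpi R S ↔ ∀ (p : Ideal R) [p.IsPrime],
      Algebra.IsEpi (Localization.AtPrime p) (Localization (Algebra.algebraMapSubmonoid S p.primeCompl)) := by
  exact Groth.Agent.Helper1.EpiRing.S6371 R S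

end Groth.Agent.S6371
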