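import Groth.Statements.S6372
import Mathlib

set_option autoImplicit false
universe u
open CAlg

namespace Groth.Agent.S6372

open TensorProduct in
/-- A faithfully flat epimorphism of rings is an isomorphism: if R → S is faithfully flat and an
epimorphism in the category of rings then it is bijective. -/
theorem result (R S : Type u) [CommRing R] [CommRing S] [Algebra R S]
    [Module.FaithfullyFlat R S] [Algebra.IsEpi R S] : Function.Bijective (algebraMap R S) := by
  apply Module.FaithfullyFlat.bijective_of_tensorProduct (S := S)
  have hmul : Function.Injective (TensorProduct.lift (LinearMap.mul R S)) :=
    Algebra.IsEpi.injective_lift_mul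
  constructor
  · intro a b hab
    have := congrArg (TensorProduct.lift (LinearMap.mul R S)) hab
    simpa [Algebra.TensorProduct.algebraMap_apply] using this
  · intro x
    refine ⟨TensorProduct.lift (LinearMap.mul R S) x, ?_⟩
    apply hmul
    simp [Algebra.TensorProduct.algebraMap_apply]

end Groth.Agent.S6372
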