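import Groth.Statements.S6381
import Mathlib
import Groth.Agent.Lib.Helper9.CA.ResExt
-- import your own Groth.Agent.* helpers here

set_option autoImplicit false
universe u
open CAlg

namespace Groth.Agent.S6381

open H9CA
namespace Aux
set_option linter.style.haveILetI false

theorem main (R : Type u) [CommRing R] (p : Ideal R) [p.IsPrime]
    (L : Type u) [Field L] [Algebra p.ResidueField L] [FiniteDimensional p.ResidueField L]
    [Algebra R L] [IsScalarTower R p.ResidueField L] :
    ∃ (S : Type u) (_ : CommRing S) (_ : Algebra R S) (_ : Module.Finite R S) (_ : Module.Free R S)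
      (_ : (p.map (algebraMap R S)).IsPrime)
      (e : (p.map (algebraMap R S)).ResidueField ≃+* L),
      ∀ r : R, e (algebraMap R (p.map (algebraMap R S)).ResidueField r) = algebraMap R L r := by
  obtain ⟨S, _, _, hfin, hfree, ψ, h1, h2, h3⟩ := goodFor_top R p L
  have hq : (p.map (algebraMap R S)).IsPrime := by
    rw [← h2]; exact RingHom.ker_isPrime ψ
  have hle : p.map (algebraMap R S) ≤ RingHom.ker ψ := h2.ge
  have hun : (p.map (algebraMap R S)).primeCompl ≤ (IsUnit.submonoid L).comap ψ := by
    intro s hs
    rw [Submonoid.mem_comap]
    show IsUnit (ψ s)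
    rw [isUnit_iff_ne_zero]
    intro h0
    exact hs (h2 ▸ (RingHom.mem_ker.mpr h0))
  let l : (p.map (algebraMap R S)).ResidueField →+* L :=
    Ideal.ResidueField.lift (p.map (algebraMap R S)) ψ hle hun
  have hlsurj : Function.Surjective l := by
    intro y
    obtain ⟨a, b, hb, hab⟩ := (mem_closure_range_iff ψ y).mp ((h3 y).mpr trivial)
    refine ⟨algebraMap S _ a / algebraMap S _ b, ?_⟩
    rw [map_div₀, Ideal.ResidueField.lift_algebraMap, Ideal.ResidueField.lift_algebraMap, ← hab,
      mul_div_cancel_right₀ _ hb]
  refine ⟨S, inferInstance, inferInstance, hfin, hfree, hq,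
    RingEquiv.ofBijective l ⟨l.injective, hlsurj⟩, ?_⟩
  intro r
  show l (algebraMap R _ r) = _
  rw [IsScalarTower.algebraMap_apply R S (p.map (algebraMap R S)).ResidueField,
    Ideal.ResidueField.lift_algebraMap, ← h1]
  rfl

end Aux

/-- Let R be a ring, p ⊆ R a prime and L a finite extension of the residue field κ(p). Then one can find
a ring map R → S, with S finite free over R, for which q = pS is a prime of S and the residue field
κ(q) is isomorphic to L over κ(p) (stated as a ring isomorphism κ(q) ≅ L compatible with the maps
from R, which determines compatibility with κ(p)). -/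
theorem result (R : Type u) [CommRing R] (p : Ideal R) [p.IsPrime]
    (L : Type u) [Field L] [Algebra p.ResidueField L] [FiniteDimensional p.ResidueField L]
    [Algebra R L] [IsScalarTower R p.ResidueField L] :
    ∃ (S : Type u) (_ : CommRing S) (_ : Algebra R S) (_ : Module.Finite R S) (_ : Module.Free R S)
      (_ : (p.map (algebraMap R S)).IsPrime)
      (e : (p.map (algebraMap R S)).ResidueField ≃+* L),
      ∀ r : R, e (algebraMap R (p.map (algebraMap R S)).ResidueField r) = algebraMap R L r := by
  exact Aux.main R p L

end Groth.Agent.S6381
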