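import Groth.Statements.S6382
import Mathlib
import Groth.Agent.Lib.Helper1.LocalCrit

set_option autoImplicit false
universe u
open CAlg TensorProduct Groth.Agent.Helper1.LocalCrit

namespace Groth.Agent.S6382

/-- Consider a commutative square of local rings and local homomorphisms R → S, R → R', S → S', R' → S',
and a finite S-module M. Assume the maps R → R' and S → S' are flat, M is flat over R, the maximal
ideal of R generates the maximal ideal of R', and R', S' are Noetherian. Then M' = M ⊗_S S' (any
base change of M along S → S') is flat over R'. -/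
theorem result (R S R' S' : Type u) [CommRing R] [CommRing S]
    [CommRing R'] [CommRing S'] [IsLocalRing R] [IsLocalRing S] [IsLocalRing R'] [IsLocalRing S']
    [Algebra R S] [Algebra R R'] [Algebra S S'] [Algebra R' S'] [Algebra R S']
    [IsScalarTower R S S'] [IsScalarTower R R' S']
    [IsLocalHom (algebraMap R S)] [IsLocalHom (algebraMap R R')] [IsLocalHom (algebraMap S S')]
    [IsLocalHom (algebraMap R' S')] [Module.Flat R R'] [Module.Flat S S']
    [IsNoetherianRing R'] [IsNoetherianRing S']
    (hm : (IsLocalRing.maximalIdeal R).map (algebraMap R R') = IsLocalRing.maximalIdeal R')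
    (M : Type u) [AddCommGroup M] [Module S M] [Module R M] [IsScalarTower R S M] [Module.Finite S M]
    [Module.Flat R M]
    (M' : Type u) [AddCommGroup M'] [Module S' M'] [Module S M'] [IsScalarTower S S' M'] [Module R' M']
    [IsScalarTower R' S' M'] (j : M →ₗ[S] M') (hj : IsBaseChange S' j) :
    Module.Flat R' M' := by
  let _ : Module R M' := Module.compHom M' (algebraMap R S')
  have hRS' : IsScalarTower R S' M' := IsScalarTower.of_algebraMap_smul (fun r x => rfl)
  have hRR' : IsScalarTower R R' M' := by
    refine IsScalarTower.of_algebraMap_smul (fun r x => ?_)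
    show algebraMap R R' r • x = algebraMap R S' r • x
    rw [IsScalarTower.algebraMap_apply R R' S']
    exact (algebraMap_smul S' (algebraMap R R' r) x).symm
  have hfin : Module.Finite S' M' := Module.Finite.equiv hj.equiv
  have hflat0 : Module.Flat R (S' ⊗[S] M) := flat_tensorProduct_of_flat S' M
  have hflat : Module.Flat R M' :=
    Module.Flat.of_linearEquiv (hj.equiv.restrictScalars R).symm
  have h1 := rTensor_map_subtype_injective (S := R') (IsLocalRing.maximalIdeal R) M'
    (Module.Flat.rTensor_preserves_injective_linearMap _ (Submodule.subtype_injective _))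
  have hmax : ((IsLocalRing.maximalIdeal R).map (algebraMap R R')).IsMaximal := by
    rw [hm]; exact IsLocalRing.maximalIdeal.isMaximal R'
  let _ : Field (R' ⧸ (IsLocalRing.maximalIdeal R).map (algebraMap R R')) :=
    Ideal.Quotient.field _
  have h2 : Module.Flat (R' ⧸ (IsLocalRing.maximalIdeal R).map (algebraMap R R'))
      ((R' ⧸ (IsLocalRing.maximalIdeal R).map (algebraMap R R')) ⊗[R'] M') := inferInstance
  exact flat_of_rTensor_injective_of_flat_quotient (S := S')
    ((IsLocalRing.maximalIdeal R).map (algebraMap R R'))
    (map_ne_top_of_isLocalHom _ hmax.ne_top) h1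

end Groth.Agent.S6382
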