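import Groth.Statements.S6388
import Mathlib

set_option autoImplicit false
universe u
open CAlg

namespace Groth.Agent.S6388

/-- Let f : M → N and g : M → M' be maps of R-modules and let N' be their pushout, realised as the
quotient of M' × N by the submodule of elements (g x, -f x). Then g dominates f — for every module Q
the kernel of f ⊗ id_Q is contained in the kernel of g ⊗ id_Q — if and only if the canonical map M'
→ N' is universally injective. -/
theorem result (R : Type u) [CommRing R] {M N M' : Type u}
    [AddCommGroup M] [Module R M] [AddCommGroup N] [Module R N] [AddCommGroup M'] [Module R M']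
    (f : M →ₗ[R] N) (g : M →ₗ[R] M') :
    (∀ (Q : Type u) [AddCommGroup Q] [Module R Q], LinearMap.ker (f.rTensor Q) ≤ LinearMap.ker (g.rTensor Q)) ↔
      CAlgX.UniversallyInjective R
        ((LinearMap.range (g.prod (-f))).mkQ ∘ₗ LinearMap.inl R M' N) := by
  set φ : M →ₗ[R] M' × N := g.prod (-f) with hφ
  have hdec : ∀ (Q : Type u) [AddCommGroup Q] [Module R Q] (u : TensorProduct R M Q),
      (φ.rTensor Q) u = ((LinearMap.inl R M' N).rTensor Q) ((g.rTensor Q) u) -
        ((LinearMap.inr R M' N).rTensor Q) ((f.rTensor Q) u) := by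
    intro Q _ _ u
    have : φ = (LinearMap.inl R M' N) ∘ₗ g - (LinearMap.inr R M' N) ∘ₗ f := by
      ext x <;> simp [hφ]
    rw [this, LinearMap.rTensor_sub, LinearMap.sub_apply, LinearMap.rTensor_comp,
      LinearMap.rTensor_comp, LinearMap.comp_apply, LinearMap.comp_apply]
  have hfst : ∀ (Q : Type u) [AddCommGroup Q] [Module R Q] (u : TensorProduct R M Q),
      ((LinearMap.fst R M' N).rTensor Q) ((φ.rTensor Q) u) = (g.rTensor Q) u := by
    intro Q _ _ u
    rw [← LinearMap.comp_apply, ← LinearMap.rTensor_comp]
    congr 2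
  have hsnd : ∀ (Q : Type u) [AddCommGroup Q] [Module R Q] (u : TensorProduct R M Q),
      ((LinearMap.snd R M' N).rTensor Q) ((φ.rTensor Q) u) = - (f.rTensor Q) u := by
    intro Q _ _ u
    rw [← LinearMap.comp_apply, ← LinearMap.rTensor_comp]
    have : (LinearMap.snd R M' N) ∘ₗ φ = -f := by
      ext x; simp [hφ]
    rw [this, LinearMap.rTensor_neg, LinearMap.neg_apply]
  have hex : Function.Exact φ (LinearMap.range φ).mkQ := LinearMap.exact_map_mkQ_range φ
  constructor
  · intro hdom Q _ _
    rw [injective_iff_map_eq_zero]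
    intro t ht
    rw [LinearMap.rTensor_comp, LinearMap.comp_apply] at ht
    obtain ⟨u, hu⟩ := (rTensor_exact Q hex (Submodule.mkQ_surjective _) _).mp ht
    have h1 := congrArg ((LinearMap.fst R M' N).rTensor Q) hu
    have h2 := congrArg ((LinearMap.snd R M' N).rTensor Q) hu
    rw [hfst] at h1
    rw [hsnd] at h2
    have e1 : ((LinearMap.fst R M' N).rTensor Q) (((LinearMap.inl R M' N).rTensor Q) t) = t := by
      rw [← LinearMap.comp_apply, ← LinearMap.rTensor_comp]
      have : (LinearMap.fst R M' N) ∘ₗ (LinearMap.inl R M' N) = LinearMap.id := by ext; simp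
      rw [this, LinearMap.rTensor_id, LinearMap.id_apply]
    have e2 : ((LinearMap.snd R M' N).rTensor Q) (((LinearMap.inl R M' N).rTensor Q) t) = 0 := by
      rw [← LinearMap.comp_apply, ← LinearMap.rTensor_comp]
      have : (LinearMap.snd R M' N) ∘ₗ (LinearMap.inl R M' N) = 0 := by ext; simp
      rw [this, LinearMap.rTensor_zero, LinearMap.zero_apply]
    rw [e1] at h1
    rw [e2, neg_eq_zero] at h2
    have : u ∈ LinearMap.ker (g.rTensor Q) := hdom Q (LinearMap.mem_ker.mpr h2)
    rw [← h1]
    exact LinearMap.mem_ker.mp this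
  · intro hui Q _ _ u hu
    rw [LinearMap.mem_ker] at hu ⊢
    apply hui Q
    rw [map_zero, LinearMap.rTensor_comp, LinearMap.comp_apply]
    have := hdec Q u
    rw [hu, map_zero, sub_zero] at this
    rw [← this]
    exact (rTensor_exact Q hex (Submodule.mkQ_surjective _) _).mpr ⟨u, rfl⟩

end Groth.Agent.S6388
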