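import Groth.Statements.S6391
import Groth.Agent.Lib.Helper6.HensIndEt

set_option autoImplicit false
universe u
open CAlg

namespace Groth.Agent.S6391

/-- Let R be a ring, S and S' henselian local rings which are filtered colimits of étale R-algebras, and
K a field together with R-algebra maps S → K and S' → K identifying K with the residue field of each
(surjective with kernel the maximal ideal). Then exactly one isomorphism of R-algebras S → S'
commutes with the two maps to K. -/
theorem result (R S S' K : Type u) [CommRing R]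
    [CommRing S] [CommRing S'] [Field K] [HenselianLocalRing S] [HenselianLocalRing S']
    [Algebra R S] [Algebra R S'] [Algebra R K] (hS : EtPBC.IsIndEtale R S) (hS' : EtPBC.IsIndEtale R S')
    (u : S →ₐ[R] K) (u' : S' →ₐ[R] K) (hu : Function.Surjective u) (hu' : Function.Surjective u')
    (hku : RingHom.ker u.toRingHom = IsLocalRing.maximalIdeal S)
    (hku' : RingHom.ker u'.toRingHom = IsLocalRing.maximalIdeal S') :
    ∃! e : S ≃ₐ[R] S', u'.comp (e : S →ₐ[R] S') = u := by
  obtain ⟨e₁, he₁, he₁u⟩ :=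
    Groth.Agent.Lib.Helper6.HensIndEt.existsUnique_lift_indEtale hS u' hu' u
  obtain ⟨e₂, he₂, he₂u⟩ :=
    Groth.Agent.Lib.Helper6.HensIndEt.existsUnique_lift_indEtale hS' u hu u'
  obtain ⟨i, hi, hiu⟩ :=
    Groth.Agent.Lib.Helper6.HensIndEt.existsUnique_lift_indEtale hS u hu u
  obtain ⟨i', hi', hiu'⟩ :=
    Groth.Agent.Lib.Helper6.HensIndEt.existsUnique_lift_indEtale hS' u' hu' u'
  have h21 : e₂.comp e₁ = AlgHom.id R S := by
    have a1 : e₂.comp e₁ = i := hiu _ (by show u.comp (e₂.comp e₁) = u; rw [← AlgHom.comp_assoc, he₂, he₁])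
    have a2 : AlgHom.id R S = i := hiu _ (AlgHom.comp_id u)
    rw [a1, a2]
  have h12 : e₁.comp e₂ = AlgHom.id R S' := by
    have a1 : e₁.comp e₂ = i' := hiu' _ (by show u'.comp (e₁.comp e₂) = u'; rw [← AlgHom.comp_assoc, he₁, he₂])
    have a2 : AlgHom.id R S' = i' := hiu' _ (AlgHom.comp_id u')
    rw [a1, a2]
  refine ⟨AlgEquiv.ofAlgHom e₁ e₂ h12 h21, ?_, ?_⟩
  · ext x
    exact AlgHom.congr_fun he₁ x
  · intro e' he'
    have : (e' : S →ₐ[R] S') = e₁ := he₁u _ he'
    ext x
    exact AlgHom.congr_fun this x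

end Groth.Agent.S6391
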