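import Groth.Statements.S6393
import Mathlib
import Groth.Agent.Lib.Helper1.FibCatL

set_option autoImplicit false
open CategoryTheory
universe v₂ u₂ v u
open FibCat

namespace Groth.Agent.S6393

/-- Given `p : S ⥤ C`, saying that p is fibred in groupoids is equivalent to saying that p is a fibred
functor whose fibre category over every object of C is a groupoid. -/
theorem result {C : Type u} [Category.{v} C] {S : Type u₂} [Category.{v₂} S] (p : S ⥤ C) :
    FibCat.IsFibGrpd p ↔ (p.IsFibered ∧ ∀ U : C, IsGroupoid (p.Fiber U)) := by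
  open CategoryTheory.Functor Groth.Agent.Helper1.FibCatL in
  constructor
  · intro h
    refine ⟨?_, ?_⟩
    · apply IsFibered.of_exists_isStronglyCartesian
      intro a R f
      obtain ⟨y, φ, hφ⟩ := h.exists_lift f
      exact ⟨y, φ, isStronglyCartesian_of_map p f φ (h.isStronglyCartesian φ)⟩
    · intro U
      refine ⟨fun {X Y} φ => ?_⟩
      have hφ : p.IsHomLift (𝟙 U) φ.1 := φ.2
      have hsc : p.IsStronglyCartesian (𝟙 U) φ.1 :=
        isStronglyCartesian_of_map p (𝟙 U) φ.1 (h.isStronglyCartesian φ.1)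
      have hiso : IsIso φ.1 := IsStronglyCartesian.isIso_of_base_isIso p (𝟙 U) φ.1
      refine ⟨⟨Fiber.homMk p U (inv φ.1), ?_, ?_⟩⟩
      · apply Fiber.hom_ext
        exact IsIso.hom_inv_id φ.1
      · apply Fiber.hom_ext
        exact IsIso.inv_hom_id φ.1
  · rintro ⟨hfib, hgrp⟩
    refine ⟨?_, ?_⟩
    · intro x V f
      obtain ⟨y, φ, hφ⟩ := IsPreFibered.exists_isCartesian' (p := p) f
      exact ⟨y, φ, inferInstance⟩
    · intro y x φ
      obtain ⟨y', ψ, hψ⟩ := IsPreFibered.exists_isCartesian' (p := p) (p.map φ)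
      let τ := IsCartesian.map p (p.map φ) ψ φ
      have hτ : p.IsHomLift (𝟙 (p.obj y)) τ := inferInstance
      have hfac : τ ≫ ψ = φ := IsCartesian.fac p (p.map φ) ψ φ
      have hy' : p.obj y' = p.obj y := IsHomLift.domain_eq p (p.map φ) ψ
      let τ' : (Fiber.mk (p := p) (S := p.obj y) rfl) ⟶ (Fiber.mk hy') := Fiber.homMk p _ τ
      have : IsIso τ' := (hgrp (p.obj y)).all_isIso τ'
      have hτiso : IsIso τ := by
        have := (Fiber.fiberInclusion (p := p) (S := p.obj y)).map_isIso τ'
        simpa [τ'] using this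
      have h1 : p.IsStronglyCartesian (𝟙 (p.obj y)) τ := IsStronglyCartesian.of_isIso p _ τ
      have h2 : p.IsStronglyCartesian (p.map φ) ψ := inferInstance
      have h3 : p.IsStronglyCartesian (𝟙 (p.obj y) ≫ p.map φ) (τ ≫ ψ) := inferInstance
      rw [Category.id_comp, hfac] at h3
      exact h3

end Groth.Agent.S6393
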