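import Groth.Statements.S6400
import Groth.Agent.Lib.Helper2.FibProd

set_option autoImplicit false
open CategoryTheory
universe v u
open FibCat

namespace Groth.Agent.S6400

open Groth.Agent.Helper2 CategoryTheory.Limits

theorem lift_iff {C : Type u} [Category.{v} C] {𝒳 𝒴 𝒮 : BasedCategory.{v, max u v} C}
    (F : 𝒳 ⥤ᵇ 𝒮) (G : 𝒴 ⥤ᵇ 𝒮) {R S : C} (g : R ⟶ S) {w₁ w₂ : (FibCat.fp F G).obj} (X : w₁ ⟶ w₂) :
    (FibCat.fp F G).p.IsHomLift g X ↔ 𝒳.p.IsHomLift g X.hom.fst := by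
  constructor
  · intro hX
    have e1 := IsHomLift.domain_eq (FibCat.fp F G).p g X
    have e2 := IsHomLift.codomain_eq (FibCat.fp F G).p g X
    apply IsHomLift.of_fac 𝒳.p g X.hom.fst e1 e2
    exact IsHomLift.fac (FibCat.fp F G).p g X
  · intro hX
    have e1 := IsHomLift.domain_eq 𝒳.p g X.hom.fst
    have e2 := IsHomLift.codomain_eq 𝒳.p g X.hom.fst
    apply IsHomLift.of_fac (FibCat.fp F G).p g X e1 e2
    exact IsHomLift.fac 𝒳.p g X.hom.fst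

theorem result {C : Type u} [Category.{v} C] {𝒳 𝒴 𝒮 : BasedCategory.{v, max u v} C} (F : 𝒳 ⥤ᵇ 𝒮) (G : 𝒴 ⥤ᵇ 𝒮) [𝒳.p.IsFibered] [𝒴.p.IsFibered] [𝒮.p.IsFibered]
    (hF : ∀ {R S : C} (f : R ⟶ S) {a b : 𝒳.obj} (φ : a ⟶ b), 𝒳.p.IsStronglyCartesian f φ → 𝒮.p.IsStronglyCartesian f (F.map φ))
    (hG : ∀ {R S : C} (f : R ⟶ S) {a b : 𝒴.obj} (φ : a ⟶ b), 𝒴.p.IsStronglyCartesian f φ → 𝒮.p.IsStronglyCartesian f (G.map φ)) :
    (FibCat.fp F G).p.IsFibered := by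
  apply Functor.IsFibered.of_exists_isStronglyCartesian
  intro w R u
  change R ⟶ 𝒳.p.obj w.obj.fst at u
  have hw : 𝒮.p.IsHomLift (𝟙 (𝒳.p.obj w.obj.fst)) w.obj.iso.hom := w.property
  have hy := fp_snd_proj F G w
  obtain ⟨x', a, ha⟩ := Functor.IsPreFibered.exists_isCartesian' (p := 𝒳.p) (a := w.obj.fst) u
  obtain ⟨y', b, hb⟩ := CategoryTheory.IsPreFibered.exists_isCartesian 𝒴.p hy u
  have hsa : 𝒳.p.IsStronglyCartesian u a := inferInstance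
  have hsb : 𝒴.p.IsStronglyCartesian u b := inferInstance
  have hFa : 𝒮.p.IsStronglyCartesian u (F.map a) := hF u a hsa
  have hGb : 𝒮.p.IsStronglyCartesian u (G.map b) := hG u b hsb
  have hcomp : 𝒮.p.IsHomLift u (F.map a ≫ w.obj.iso.hom) := inferInstance
  obtain ⟨χ, ⟨hχ1, hχ2⟩, -⟩ := Functor.IsStronglyCartesian.universal_property 𝒮.p u (G.map b)
    (𝟙 R) u (Category.id_comp _).symm (F.map a ≫ w.obj.iso.hom)
  -- `χ` is an isomorphism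
  have hiso : IsIso χ := by
    have s1 : 𝒮.p.IsStronglyCartesian (𝟙 (𝒳.p.obj w.obj.fst)) w.obj.iso.hom := inferInstance
    have s2 : 𝒮.p.IsStronglyCartesian (u ≫ 𝟙 (𝒳.p.obj w.obj.fst)) (F.map a ≫ w.obj.iso.hom) :=
      inferInstance
    have s3 : 𝒮.p.IsStronglyCartesian (𝟙 R ≫ u) (χ ≫ G.map b) := by
      rw [hχ2, Category.id_comp]
      rw [Category.comp_id] at s2
      exact s2
    have s4 : 𝒮.p.IsStronglyCartesian (𝟙 R) χ :=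
      Functor.IsStronglyCartesian.of_comp 𝒮.p (f := 𝟙 R) (g := u) (φ := χ) (ψ := G.map b)
    exact Functor.IsStronglyCartesian.isIso_of_base_isIso 𝒮.p (𝟙 R) χ
  have hx' : 𝒳.p.obj x' = R := IsHomLift.domain_eq 𝒳.p u a
  have hχ1' : 𝒮.p.IsHomLift (𝟙 (𝒳.p.obj x')) χ := isHomLift_id_of_eq 𝒮.p hx'.symm χ
  let w' : (FibCat.fp F G).obj := ⟨⟨x', y', asIso χ⟩, hχ1'⟩
  let Φ : w' ⟶ w := ObjectProperty.homMk ⟨a, b, hχ2.symm⟩
  have hΦ : (FibCat.fp F G).p.IsHomLift u Φ := (lift_iff F G u Φ).2 (inferInstanceAs (𝒳.p.IsHomLift u a))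
  refine ⟨w', Φ, { toIsHomLift := hΦ, universal_property' := ?_ }⟩
  intro w₂ g Ψ hΨ
  change 𝒳.p.obj w₂.obj.fst ⟶ R at g
  have hΨ' : (FibCat.fp F G).p.IsHomLift (g ≫ u) Ψ := hΨ
  have ha₂ : 𝒳.p.IsHomLift (g ≫ u) Ψ.hom.fst := (lift_iff F G (g ≫ u) Ψ).1 hΨ'
  have hb₂0 : 𝒴.p.IsHomLift (𝒳.p.map Ψ.hom.fst) Ψ.hom.snd := FibCat.fp_isHomLift_snd F G Ψ
  have hy₂ := fp_snd_proj F G w₂
  have hb₂ : 𝒴.p.IsHomLift (g ≫ u) Ψ.hom.snd := by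
    have e2 : 𝒴.p.obj w.obj.snd = 𝒳.p.obj w.obj.fst := hy
    apply IsHomLift.of_fac 𝒴.p (g ≫ u) Ψ.hom.snd hy₂ e2
    have f1 := IsHomLift.fac' 𝒴.p (𝒳.p.map Ψ.hom.fst) Ψ.hom.snd
    have f2 := IsHomLift.fac 𝒳.p (g ≫ u) Ψ.hom.fst
    rw [f1, f2]
    simp
  have hw₂ : 𝒮.p.IsHomLift (𝟙 (𝒳.p.obj w₂.obj.fst)) w₂.obj.iso.hom := w₂.property
  obtain ⟨c₁, ⟨hc11, hc12⟩, hc13⟩ := Functor.IsStronglyCartesian.universal_property' (p := 𝒳.p)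
    (f := u) (φ := a) g Ψ.hom.fst
  obtain ⟨c₂, ⟨hc21, hc22⟩, hc23⟩ := Functor.IsStronglyCartesian.universal_property 𝒴.p u b g (g ≫ u)
    rfl Ψ.hom.snd
  have l1 : 𝒮.p.IsHomLift g (F.map c₁) := inferInstance
  have l2 : 𝒮.p.IsHomLift g (G.map c₂) := inferInstance
  have hχ1R : 𝒮.p.IsHomLift (𝟙 R) χ := hχ1
  have l3 : 𝒮.p.IsHomLift g (F.map c₁ ≫ χ) := inferInstance
  have l4 : 𝒮.p.IsHomLift g (w₂.obj.iso.hom ≫ G.map c₂) := inferInstance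
  have compat : F.map c₁ ≫ χ = w₂.obj.iso.hom ≫ G.map c₂ := by
    apply Functor.IsStronglyCartesian.ext 𝒮.p u (G.map b) g
    have e2 := Ψ.hom.w
    rw [Category.assoc, Category.assoc, hχ2, ← G.map_comp, hc22, ← e2, ← Category.assoc,
      ← F.map_comp, hc12]
  refine ⟨ObjectProperty.homMk ⟨c₁, c₂, compat⟩, ⟨(lift_iff F G g _).2 hc11, ?_⟩, ?_⟩
  · apply ObjectProperty.hom_ext
    apply CategoricalPullback.hom_ext
    · exact hc12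
    · exact hc22
  · rintro X ⟨k1, k2⟩
    have k1' : 𝒳.p.IsHomLift g X.hom.fst := (lift_iff F G g X).1 k1
    have k2a : X.hom.fst ≫ a = Ψ.hom.fst := congrArg (fun t => t.hom.fst) k2
    have k2b : X.hom.snd ≫ b = Ψ.hom.snd := congrArg (fun t => t.hom.snd) k2
    have hX0 : 𝒴.p.IsHomLift (𝒳.p.map X.hom.fst) X.hom.snd := FibCat.fp_isHomLift_snd F G X
    have hy' : 𝒴.p.obj y' = R := IsHomLift.domain_eq 𝒴.p u b
    have hXs : 𝒴.p.IsHomLift g X.hom.snd := by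
      apply IsHomLift.of_fac 𝒴.p g X.hom.snd hy₂ hy'
      have f1 := IsHomLift.fac' 𝒴.p (𝒳.p.map X.hom.fst) X.hom.snd
      have f2 := IsHomLift.fac 𝒳.p g X.hom.fst
      rw [f1, f2]
      simp
    apply ObjectProperty.hom_ext
    apply CategoricalPullback.hom_ext
    · exact hc13 X.hom.fst ⟨k1', k2a⟩
    · exact hc23 X.hom.snd ⟨hXs, k2b⟩

end Groth.Agent.S6400
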