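import Groth.Statements.S6403
import Groth.Agent.Lib.Helper2.EquivOver

set_option autoImplicit false
open CategoryTheory
universe v u
open FibCat

namespace Groth.Agent.S6403

open Groth.Agent.Helper2

/-- For a functor `F : 𝒳 ⟶ 𝒴` of fibred categories over `C` preserving strongly cartesian morphisms, the
relative inertia `I_{𝒳/𝒴}` is a fibred category over `C`. -/
theorem result {C : Type u} [Category.{v} C] {𝒳 𝒴 : BasedCategory.{v, max u v} C} [𝒳.p.IsFibered] [𝒴.p.IsFibered] (F : 𝒳 ⥤ᵇ 𝒴) (hF : FibCat.PreservesStronglyCartesian F) :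
    (FibCat.inertia F).p.IsFibered := by
  apply Functor.IsFibered.of_exists_isStronglyCartesian
  intro A R f
  change R ⟶ 𝒳.p.obj A.pt at f
  -- a strongly cartesian lift in `𝒳`
  obtain ⟨y, φ, hφ⟩ := Functor.IsPreFibered.exists_isCartesian' (p := 𝒳.p) (a := A.pt) f
  have hs : 𝒳.p.IsStronglyCartesian f φ := inferInstance
  have hFs : 𝒴.p.IsStronglyCartesian f (F.map φ) := hF f φ hs
  -- the automorphism of `A.pt` lies over the identity
  have hα : 𝒳.p.IsHomLift (𝟙 (𝒳.p.obj A.pt)) A.aut.hom := by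
    have : 𝒴.p.IsHomLift (𝟙 (𝒳.p.obj A.pt)) (F.map A.aut.hom) := by
      rw [A.map_aut]; infer_instance
    exact BasedFunctor.isHomLift_map F _ _
  have hαi : 𝒳.p.IsHomLift (𝟙 (𝒳.p.obj A.pt)) A.aut.inv := IsHomLift.lift_id_inv 𝒳.p _ A.aut
  have hc1 : 𝒳.p.IsHomLift f (φ ≫ A.aut.hom) := inferInstance
  have hc2 : 𝒳.p.IsHomLift f (φ ≫ A.aut.inv) := inferInstance
  obtain ⟨β, ⟨hβ1, hβ2⟩, -⟩ := Functor.IsStronglyCartesian.universal_property 𝒳.p f φ (𝟙 R) f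
    (Category.id_comp _).symm (φ ≫ A.aut.hom)
  obtain ⟨β', ⟨hβ'1, hβ'2⟩, -⟩ := Functor.IsStronglyCartesian.universal_property 𝒳.p f φ (𝟙 R) f
    (Category.id_comp _).symm (φ ≫ A.aut.inv)
  have hy : 𝒳.p.obj y = R := IsHomLift.domain_eq 𝒳.p f φ
  have hid : 𝒳.p.IsHomLift (𝟙 R) (𝟙 y) := IsHomLift.id hy
  have h1 : β ≫ β' = 𝟙 y := by
    have : 𝒳.p.IsHomLift (𝟙 R) (β ≫ β') := inferInstance
    apply Functor.IsStronglyCartesian.ext 𝒳.p f φ (𝟙 R)
    rw [Category.assoc, hβ'2, ← Category.assoc, hβ2, Category.assoc, Iso.hom_inv_id,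
      Category.comp_id, Category.id_comp]
  have h2 : β' ≫ β = 𝟙 y := by
    have : 𝒳.p.IsHomLift (𝟙 R) (β' ≫ β) := inferInstance
    apply Functor.IsStronglyCartesian.ext 𝒳.p f φ (𝟙 R)
    rw [Category.assoc, hβ2, ← Category.assoc, hβ'2, Category.assoc, Iso.inv_hom_id,
      Category.comp_id, Category.id_comp]
  have hFβ : F.map β = 𝟙 (F.obj y) := by
    have a1 : 𝒴.p.IsHomLift (𝟙 R) (F.map β) := inferInstance
    have a2 : 𝒴.p.IsHomLift (𝟙 R) (𝟙 (F.obj y)) := IsHomLift.id ((F.w_obj y).trans hy)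
    apply Functor.IsStronglyCartesian.ext 𝒴.p f (F.map φ) (𝟙 R)
    rw [← F.map_comp, hβ2, F.map_comp, A.map_aut, Category.comp_id, Category.id_comp]
  let B : (FibCat.inertia F).obj := ⟨y, ⟨β, β', h1, h2⟩, hFβ⟩
  let Φ : B ⟶ A := ⟨φ, hβ2⟩
  refine ⟨B, Φ, ?_⟩
  have hΦ : (FibCat.inertia F).p.IsHomLift f Φ := by
    have hφ' : 𝒳.p.IsHomLift f φ := inferInstance
    apply IsHomLift.of_fac (FibCat.inertia F).p f Φ hy rfl
    have := IsHomLift.fac 𝒳.p f φ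
    exact this
  refine { toIsHomLift := hΦ, universal_property' := ?_ }
  intro Z g Ψ hΨ
  change 𝒳.p.obj Z.pt ⟶ R at g
  have hΨ' : (FibCat.inertia F).p.IsHomLift (g ≫ f) Ψ := hΨ
  have hψ : 𝒳.p.IsHomLift (g ≫ f) Ψ.hom := by
    have e1 := IsHomLift.domain_eq (FibCat.inertia F).p (g ≫ f) Ψ
    have e2 := IsHomLift.codomain_eq (FibCat.inertia F).p (g ≫ f) Ψ
    apply IsHomLift.of_fac 𝒳.p (g ≫ f) Ψ.hom e1 e2
    exact IsHomLift.fac (FibCat.inertia F).p (g ≫ f) Ψ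
  obtain ⟨χ, ⟨hχ1, hχ2⟩, hχ3⟩ := Functor.IsStronglyCartesian.universal_property' (p := 𝒳.p)
    (f := f) (φ := φ) g Ψ.hom
  have hγ : 𝒳.p.IsHomLift (𝟙 (𝒳.p.obj Z.pt)) Z.aut.hom := by
    have : 𝒴.p.IsHomLift (𝟙 (𝒳.p.obj Z.pt)) (F.map Z.aut.hom) := by
      rw [Z.map_aut]; infer_instance
    exact BasedFunctor.isHomLift_map F _ _
  have hcomm : Z.aut.hom ≫ χ = χ ≫ β := by
    have a1 : 𝒳.p.IsHomLift g (Z.aut.hom ≫ χ) := inferInstance
    have a2 : 𝒳.p.IsHomLift g (χ ≫ β) := inferInstance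
    apply Functor.IsStronglyCartesian.ext 𝒳.p f φ g
    rw [Category.assoc, hχ2, Ψ.comm, Category.assoc, hβ2, ← Category.assoc, hχ2]
  have lift_iff : ∀ (X : Z ⟶ B), (FibCat.inertia F).p.IsHomLift g X ↔ 𝒳.p.IsHomLift g X.hom := by
    intro X
    constructor
    · intro hX
      have e1 := IsHomLift.domain_eq (FibCat.inertia F).p g X
      have e2 := IsHomLift.codomain_eq (FibCat.inertia F).p g X
      apply IsHomLift.of_fac 𝒳.p g X.hom e1 e2
      exact IsHomLift.fac (FibCat.inertia F).p g X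
    · intro hX
      have e1 := IsHomLift.domain_eq 𝒳.p g X.hom
      have e2 := IsHomLift.codomain_eq 𝒳.p g X.hom
      apply IsHomLift.of_fac (FibCat.inertia F).p g X e1 e2
      exact IsHomLift.fac 𝒳.p g X.hom
  refine ⟨⟨χ, hcomm⟩, ⟨(lift_iff _).2 hχ1, ?_⟩, ?_⟩
  · apply InertiaObj.hom_ext
    exact hχ2
  · rintro X ⟨k1, k2⟩
    apply InertiaObj.hom_ext
    apply hχ3
    exact ⟨(lift_iff X).1 k1, congrArg (fun t => t.hom) k2⟩

end Groth.Agent.S6403
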