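import Groth.Statements.S6404
import Groth.Agent.Lib.Helper2.FibGrpd

set_option autoImplicit false
open CategoryTheory
universe v u
open FibCat

namespace Groth.Agent.S6404

open Groth.Agent.Helper2 in
/-- The inertia of a category fibred in groupoids over `C` is fibred in groupoids over `C`. -/
theorem result {C : Type u} [Category.{v} C] {𝒳 : BasedCategory.{v, max u v} C} (h𝒳 : FibCat.IsFibGrpd 𝒳.p) :
    FibCat.IsFibGrpd (FibCat.inertia (FibCat.toSelf 𝒳)).p := by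
  apply IsFibGrpd.mk'
  · intro x V f
    change V ⟶ 𝒳.p.obj x.pt at f
    obtain ⟨y, φ, e, hφ⟩ := IsFibGrpd.exists_lift' 𝒳.p h𝒳 x.pt f
    have hα : 𝒳.p.map x.aut.hom = 𝟙 _ := x.map_aut
    have hαi : 𝒳.p.map x.aut.inv = 𝟙 _ := by
      have : 𝒳.p.map x.aut.hom ≫ 𝒳.p.map x.aut.inv = 𝟙 _ := by
        rw [← Functor.map_comp, Iso.hom_inv_id, Functor.map_id]
      rw [hα, Category.id_comp] at this
      exact this
    obtain ⟨β, ⟨hβ1, hβ2⟩, -⟩ := IsFibGrpd.existsUnique_lift 𝒳.p h𝒳 φ (φ ≫ x.aut.hom) (𝟙 _)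
      (by rw [Functor.map_comp, hα, Category.id_comp, Category.comp_id])
    obtain ⟨β', ⟨hβ'1, hβ'2⟩, -⟩ := IsFibGrpd.existsUnique_lift 𝒳.p h𝒳 φ (φ ≫ x.aut.inv) (𝟙 _)
      (by rw [Functor.map_comp, hαi, Category.id_comp, Category.comp_id])
    obtain ⟨ι, -, hι⟩ := IsFibGrpd.existsUnique_lift 𝒳.p h𝒳 φ φ (𝟙 _) (by rw [Category.id_comp])
    have h1 : β ≫ β' = 𝟙 y := by
      rw [hι (β ≫ β') ⟨by rw [Functor.map_comp, hβ1, hβ'1, Category.id_comp], by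
        rw [Category.assoc, hβ'2, ← Category.assoc, hβ2, Category.assoc, Iso.hom_inv_id,
          Category.comp_id]⟩]
      exact (hι (𝟙 y) ⟨by simp, by simp⟩).symm
    have h2 : β' ≫ β = 𝟙 y := by
      rw [hι (β' ≫ β) ⟨by rw [Functor.map_comp, hβ1, hβ'1, Category.id_comp], by
        rw [Category.assoc, hβ2, ← Category.assoc, hβ'2, Category.assoc, Iso.inv_hom_id,
          Category.comp_id]⟩]
      exact (hι (𝟙 y) ⟨by simp, by simp⟩).symm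
    refine ⟨⟨y, ⟨β, β', h1, h2⟩, hβ1⟩, ⟨φ, hβ2⟩, e, hφ⟩
  · intro y x z φ ψ g hg
    change 𝒳.p.obj z.pt ⟶ 𝒳.p.obj y.pt at g
    have hg' : g ≫ 𝒳.p.map φ.hom = 𝒳.p.map ψ.hom := hg
    have hα : 𝒳.p.map x.aut.hom = 𝟙 _ := x.map_aut
    have hβ : 𝒳.p.map y.aut.hom = 𝟙 _ := y.map_aut
    have hγ : 𝒳.p.map z.aut.hom = 𝟙 _ := z.map_aut
    obtain ⟨χ, ⟨h1, h2⟩, h3⟩ := IsFibGrpd.existsUnique_lift 𝒳.p h𝒳 φ.hom ψ.hom g hg'
    obtain ⟨ι, -, hι⟩ := IsFibGrpd.existsUnique_lift 𝒳.p h𝒳 φ.hom (ψ.hom ≫ x.aut.hom) g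
      (by rw [Functor.map_comp, hα, Category.comp_id, hg'])
    have hcomm : z.aut.hom ≫ χ = χ ≫ y.aut.hom := by
      rw [hι (z.aut.hom ≫ χ) ⟨by rw [Functor.map_comp, hγ, Category.id_comp, h1], by
        rw [Category.assoc, h2, ψ.comm]⟩]
      refine (hι (χ ≫ y.aut.hom) ⟨by rw [Functor.map_comp, hβ, Category.comp_id, h1], ?_⟩).symm
      rw [Category.assoc, φ.comm, ← Category.assoc, h2]
    refine ⟨⟨χ, hcomm⟩, ⟨h1, ?_⟩, ?_⟩
    · apply InertiaObj.hom_ext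
      exact h2
    · rintro χ' ⟨k1, k2⟩
      apply InertiaObj.hom_ext
      apply h3
      exact ⟨k1, congrArg (fun t => t.hom) k2⟩

end Groth.Agent.S6404
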