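import Groth.Statements.S6405
import Groth.Agent.Lib.Helper2.EquivOver

set_option autoImplicit false
open CategoryTheory
universe v u
open FibCat

namespace Groth.Agent.S6405

open Groth.Agent.Helper2 in
/-- (2) ⇒ (1): if `𝒳` is fibred in groupoids over `C` and the canonical functor `I_𝒳 ⟶ 𝒳` from its
inertia is an equivalence over `C`, then `𝒳` is fibred in setoids. (The published statement is an
equivalence; this row states only that the inertia condition implies that `𝒳` is fibred in setoids.) -/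
theorem result {C : Type u} [Category.{v} C] {𝒳 : BasedCategory.{v, max u v} C} (h𝒳 : FibCat.IsFibGrpd 𝒳.p)
    (h : FibCat.IsEquivOver (FibCat.inertiaToBase (FibCat.toSelf 𝒳))) : FibCat.IsFibSetoid 𝒳.p := by
  refine ⟨h𝒳, ?_⟩
  intro U a b
  constructor
  intro φ ψ
  have hE := isEquivalence_of_isEquivOver _ h
  have hφ : 𝒳.p.IsHomLift (𝟙 U) φ.1 := φ.2
  have hψ : 𝒳.p.IsHomLift (𝟙 U) ψ.1 := ψ.2
  have iφ : IsIso φ.1 := IsFibGrpd.isIso_of_isHomLift_id 𝒳.p h𝒳 (S := U) φ.1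
  have iψ : IsIso ψ.1 := IsFibGrpd.isIso_of_isHomLift_id 𝒳.p h𝒳 (S := U) ψ.1
  -- the automorphism `α = φ ≫ ψ⁻¹` of `a`
  let α : a.1 ≅ a.1 := asIso φ.1 ≪≫ (asIso ψ.1).symm
  have hα : 𝒳.p.IsHomLift (𝟙 U) α.hom := by
    have : 𝒳.p.IsHomLift (𝟙 U) (inv ψ.1) := IsHomLift.lift_id_inv_isIso 𝒳.p U ψ.1
    change 𝒳.p.IsHomLift (𝟙 U) (φ.1 ≫ inv ψ.1)
    infer_instance
  have hαm : 𝒳.p.map α.hom = 𝟙 (𝒳.p.obj a.1) := by
    have ha : 𝒳.p.obj a.1 = U := a.2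
    have := IsHomLift.fac' 𝒳.p (𝟙 U) α.hom
    rw [this]
    simp
  let A : (FibCat.inertia (FibCat.toSelf 𝒳)).obj := ⟨a.1, α, hαm⟩
  let A₀ : (FibCat.inertia (FibCat.toSelf 𝒳)).obj := ⟨a.1, Iso.refl _, by simp⟩
  have hfull : (FibCat.inertiaToBase (FibCat.toSelf 𝒳)).toFunctor.Full := inferInstance
  obtain ⟨θ, hθ⟩ := (FibCat.inertiaToBase (FibCat.toSelf 𝒳)).toFunctor.map_surjective
    (X := A) (Y := A₀) (𝟙 a.1)
  have hθ' : θ.hom = 𝟙 a.1 := hθ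
  have hc := θ.comm
  rw [hθ'] at hc
  have hα1 : α.hom = 𝟙 a.1 := by simpa [A, A₀] using hc
  have : φ.1 = ψ.1 := by
    have h2 : φ.1 ≫ inv ψ.1 = 𝟙 a.1 := hα1
    have h3 := congrArg (fun t => t ≫ ψ.1) h2
    simpa using h3
  exact Subtype.ext this

end Groth.Agent.S6405
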