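import Groth.Statements.S6407
import Groth.Agent.Lib.Helper2.EquivOver

set_option autoImplicit false
open CategoryTheory
universe v u
open FibCat

namespace Groth.Agent.S6407

open Groth.Agent.Helper2

/-- In a category fibred in setoids, two parallel morphisms over the same base morphism agree. -/
theorem eq_of_isFibSetoid {C : Type u} [Category.{v} C] {𝒴 : BasedCategory.{v, max u v} C}
    (h𝒴 : FibCat.IsFibSetoid 𝒴.p) {R S : C} (f : R ⟶ S) {a b : 𝒴.obj} (φ ψ : a ⟶ b)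
    [𝒴.p.IsHomLift f φ] [𝒴.p.IsHomLift f ψ] : φ = ψ := by
  obtain ⟨χ, ⟨h1, h2⟩, -⟩ := IsFibGrpd.existsUnique 𝒴.p h𝒴.1 (𝟙 R) f f (Category.id_comp _).symm ψ φ
  have ha : 𝒴.p.obj a = R := IsHomLift.domain_eq 𝒴.p f φ
  have : 𝒴.p.IsHomLift (𝟙 R) (𝟙 a) := IsHomLift.id ha
  have : χ = 𝟙 a := eq_of_isThin_fiber 𝒴.p (h𝒴.2 R) χ (𝟙 a)
  rw [← h2, this, Category.id_comp]

/-- For categories `𝒳, 𝒴` fibred in setoids over `C` and functors `f, g : 𝒳 ⟶ 𝒴` over `C` that agree on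
isomorphism classes of objects of each fibre category, there is a unique 2-isomorphism `f ≅ g` over
`C`. -/
theorem result {C : Type u} [Category.{v} C] {𝒳 𝒴 : BasedCategory.{v, max u v} C} (h𝒳 : FibCat.IsFibSetoid 𝒳.p) (h𝒴 : FibCat.IsFibSetoid 𝒴.p) (f g : 𝒳 ⥤ᵇ 𝒴)
    (hfg : ∀ (U : C) (x : 𝒳.p.Fiber U), Nonempty ((FibCat.fiberFunctor f U).obj x ≅ (FibCat.fiberFunctor g U).obj x)) :
    Nonempty (Unique (f ≅ g)) := by
  -- the components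
  have comp : ∀ x : 𝒳.obj, ∃ t : f.obj x ≅ g.obj x, 𝒴.p.IsHomLift (𝟙 (𝒳.p.obj x)) t.hom := by
    intro x
    obtain ⟨e⟩ := hfg (𝒳.p.obj x) ⟨x, rfl⟩
    refine ⟨Functor.Fiber.fiberInclusion.mapIso e, ?_⟩
    exact e.hom.2
  choose t ht using comp
  have nat : ∀ {x y : 𝒳.obj} (φ : x ⟶ y), f.map φ ≫ (t y).hom = (t x).hom ≫ g.map φ := by
    intro x y φ
    have := ht x
    have := ht y
    have h1 : 𝒴.p.IsHomLift (𝒳.p.map φ) (f.map φ) := inferInstance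
    have h2 : 𝒴.p.IsHomLift (𝒳.p.map φ) (g.map φ) := inferInstance
    have h3 : 𝒴.p.IsHomLift (𝒳.p.map φ) (f.map φ ≫ (t y).hom) := inferInstance
    have h4 : 𝒴.p.IsHomLift (𝒳.p.map φ) ((t x).hom ≫ g.map φ) := inferInstance
    exact eq_of_isFibSetoid h𝒴 (𝒳.p.map φ) _ _
  let E : f ≅ g := BasedNatIso.mkNatIso (NatIso.ofComponents t (fun φ => nat φ)) (fun a => ht a)
  refine ⟨⟨⟨E⟩, ?_⟩⟩
  intro E'
  apply Iso.ext
  apply BasedNatTrans.ext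
  ext x
  have h1 : 𝒴.p.IsHomLift (𝟙 (𝒳.p.obj x)) (E'.hom.toNatTrans.app x) := inferInstance
  have h2 : 𝒴.p.IsHomLift (𝟙 (𝒳.p.obj x)) (E.hom.toNatTrans.app x) := inferInstance
  exact eq_of_isThin_fiber 𝒴.p (S := 𝒳.p.obj x) (h𝒴.2 _) _ _

end Groth.Agent.S6407
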