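import Groth.Statements.S6408
import Groth.Agent.Lib.Helper2.FibGrpd

set_option autoImplicit false
open CategoryTheory
universe v u
open FibCat

namespace Groth.Agent.S6408

open Groth.Agent.Helper2 in
/-- Between categories fibred in sets over `C` the only 2-morphisms over `C` are identities. -/
theorem result {C : Type u} [Category.{v} C] {𝒳 𝒴 : BasedCategory.{v, max u v} C} (h𝒳 : FibCat.IsFibSet 𝒳.p) (h𝒴 : FibCat.IsFibSet 𝒴.p) {F G : 𝒳 ⥤ᵇ 𝒴} (α : F ⟶ G) :
    ∃ h : F = G, α = eqToHom h := by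
  have key : ∀ x : 𝒳.obj, ∃ h : F.obj x = G.obj x, α.toNatTrans.app x = eqToHom h := by
    intro x
    exact eq_eqToHom_of_isDiscrete_fiber 𝒴.p (h𝒴.2 (𝒳.p.obj x)) (α.toNatTrans.app x)
  obtain ⟨F', wF⟩ := F
  obtain ⟨G', wG⟩ := G
  have hFG : F' = G' := by
    refine Functor.ext (fun x => (key x).1) ?_
    intro x y f
    have nat := α.toNatTrans.naturality f
    obtain ⟨hx, hx'⟩ := key x
    obtain ⟨hy, hy'⟩ := key y
    rw [hx', hy'] at nat
    have : F'.map f = (F'.map f ≫ eqToHom hy) ≫ eqToHom hy.symm := by simp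
    rw [this]
    rw [← Category.assoc]
    exact congrArg (fun t => t ≫ eqToHom hy.symm) nat
  subst hFG
  refine ⟨rfl, ?_⟩
  apply BasedNatTrans.ext
  ext x
  obtain ⟨hx, hx'⟩ := key x
  rw [hx']
  rfl

end Groth.Agent.S6408
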