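import Groth.Statements.S6414
-- import your own Groth.Agent.* helpers here

set_option autoImplicit false
open CategoryTheory
universe v₁ u₁ v₂ u₂ v₃ u₃
open FibCat

namespace Groth.Agent.S6414

theorem isHomLift_iff_eq {𝒳 : Type u₁} [Category.{v₁} 𝒳] {𝒮 : Type u₂} [Category.{v₂} 𝒮]
    (p : 𝒳 ⥤ 𝒮) {a b : 𝒳} (f : p.obj a ⟶ p.obj b) (φ : a ⟶ b) :
    p.IsHomLift f φ ↔ f = p.map φ := by
  constructor
  · intro h
    exact IsHomLift.eq_of_isHomLift p f φ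
  · rintro rfl
    infer_instance

/-- A morphism that is strongly cartesian with respect to `F : 𝒜 ⥤ ℬ` and whose image is strongly
cartesian with respect to `G : ℬ ⥤ 𝒞` is strongly cartesian with respect to `F ⋙ G`. -/
theorem result {𝒜 : Type u₁} [Category.{v₁} 𝒜] {ℬ : Type u₂} [Category.{v₂} ℬ] {𝒞 : Type u₃} [Category.{v₃} 𝒞] (F : 𝒜 ⥤ ℬ) (G : ℬ ⥤ 𝒞) {x y : 𝒜} (φ : x ⟶ y)
    [F.IsStronglyCartesian (F.map φ) φ] [G.IsStronglyCartesian (G.map (F.map φ)) (F.map φ)] :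
    (F ⋙ G).IsStronglyCartesian ((F ⋙ G).map φ) φ := by
  refine { toIsHomLift := inferInstance, universal_property' := ?_ }
  intro a' g φ' hφ'
  have h1 : g ≫ (F ⋙ G).map φ = (F ⋙ G).map φ' := (isHomLift_iff_eq (F ⋙ G) _ φ').mp hφ'
  have h1' : g ≫ G.map (F.map φ) = G.map (F.map φ') := h1
  have hG : G.IsHomLift (g ≫ G.map (F.map φ)) (F.map φ') :=
    (isHomLift_iff_eq G _ _).mpr h1'
  obtain ⟨χ', ⟨hχ'1, hχ'2⟩, hχ'u⟩ :=
    Functor.IsStronglyCartesian.universal_property' (p := G) (f := G.map (F.map φ))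
      (φ := F.map φ) g (F.map φ')
  have hχ'1' : g = G.map χ' := (isHomLift_iff_eq G _ _).mp hχ'1
  have hF : F.IsHomLift (χ' ≫ F.map φ) φ' := (isHomLift_iff_eq F _ _).mpr hχ'2
  obtain ⟨χ, ⟨hχ1, hχ2⟩, hχu⟩ :=
    Functor.IsStronglyCartesian.universal_property' (p := F) (f := F.map φ)
      (φ := φ) χ' φ'
  have hχ1' : χ' = F.map χ := (isHomLift_iff_eq F _ _).mp hχ1
  refine ⟨χ, ⟨(isHomLift_iff_eq (F ⋙ G) _ _).mpr ?_, hχ2⟩, ?_⟩
  · rw [hχ'1', hχ1']; rfl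
  · rintro χ₂ ⟨h21, h22⟩
    have h21' : g = G.map (F.map χ₂) := (isHomLift_iff_eq (F ⋙ G) _ _).mp h21
    have e1 : F.map χ₂ = χ' := by
      apply hχ'u
      refine ⟨(isHomLift_iff_eq G _ _).mpr h21', ?_⟩
      rw [← F.map_comp, h22]
    apply hχu
    exact ⟨(isHomLift_iff_eq F _ _).mpr e1.symm, h22⟩

end Groth.Agent.S6414
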