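import Groth.Statements.S6416
import Groth.Agent.Lib.Helper2.FibGrpd

set_option autoImplicit false
open CategoryTheory
universe v₁ u₁ v₂ u₂ v₃ u₃
open FibCat

namespace Groth.Agent.S6416

open Groth.Agent.Helper2 in
/-- The composite of two functors fibred in groupoids is fibred in groupoids. -/
theorem result {𝒜 : Type u₁} [Category.{v₁} 𝒜] {ℬ : Type u₂} [Category.{v₂} ℬ] {𝒞 : Type u₃} [Category.{v₃} 𝒞] (F : 𝒜 ⥤ ℬ) (G : ℬ ⥤ 𝒞) (hF : FibCat.IsFibGrpd F) (hG : FibCat.IsFibGrpd G) : FibCat.IsFibGrpd (F ⋙ G) := by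
  apply IsFibGrpd.mk'
  · intro x V f
    obtain ⟨y', φ', e', h'⟩ := IsFibGrpd.exists_lift' G hG (F.obj x) f
    obtain ⟨y, φ, e, h⟩ := IsFibGrpd.exists_lift' F hF x φ'
    subst e
    refine ⟨y, φ, e', ?_⟩
    simp only [Functor.comp_map, h, eqToHom_refl, Category.id_comp, h']
  · intro y x z φ ψ g hg
    obtain ⟨χ', ⟨h1', h2'⟩, h3'⟩ := IsFibGrpd.existsUnique_lift G hG (F.map φ) (F.map ψ) g hg
    obtain ⟨χ, ⟨h1, h2⟩, h3⟩ := IsFibGrpd.existsUnique_lift F hF φ ψ χ' h2'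
    refine ⟨χ, ⟨by simp [h1, h1'], h2⟩, ?_⟩
    rintro χ₂ ⟨k1, k2⟩
    apply h3
    refine ⟨?_, k2⟩
    apply h3'
    refine ⟨k1, ?_⟩
    rw [← F.map_comp, k2]

end Groth.Agent.S6416
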