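import Groth.Statements.S6417
import Groth.Agent.Lib.Helper2.FibGrpd
import Mathlib.Tactic

set_option autoImplicit false
open CategoryTheory CategoryTheory.Limits
universe v₁ u₁ v₂ u₂
open FibCat

namespace Groth.Agent.S6417


/-- Universal property of a strongly cartesian arrow in `map`-form. -/
theorem sc_existsUnique {𝒮 : Type u₁} [Category.{v₁} 𝒮] {C : Type u₂} [Category.{v₂} C] (p : 𝒮 ⥤ C)
    {x y t : 𝒮} (φ : x ⟶ y) [p.IsStronglyCartesian (p.map φ) φ] (ψ : t ⟶ y)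
    (g : p.obj t ⟶ p.obj x) (hg : g ≫ p.map φ = p.map ψ) :
    ∃! χ : t ⟶ x, p.map χ = g ∧ χ ≫ φ = ψ := by
  have hl : p.IsHomLift (g ≫ p.map φ) ψ := by
    rw [hg]; infer_instance
  obtain ⟨χ, ⟨h1, h2⟩, h3⟩ := Functor.IsStronglyCartesian.universal_property' (p := p)
    (f := p.map φ) (φ := φ) g ψ
  refine ⟨χ, ⟨(Groth.Agent.Helper2.isHomLift_iff_map_eq p g χ).1 h1, h2⟩, ?_⟩
  rintro χ' ⟨h1', h2'⟩
  exact h3 χ' ⟨(Groth.Agent.Helper2.isHomLift_iff_map_eq p g χ').2 h1', h2'⟩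

theorem aux {𝒮 : Type u₁} [Category.{v₁} 𝒮] {C : Type u₂} [Category.{v₂} C] (p : 𝒮 ⥤ C)
    {x y z w : 𝒮} (φ : x ⟶ y) (ψ : z ⟶ y) [p.IsStronglyCartesian (p.map φ) φ]
    {P : C} (fst : P ⟶ p.obj x) (snd : P ⟶ p.obj z) (hP : IsPullback fst snd (p.map φ) (p.map ψ))
    (a : w ⟶ z) [hs : p.IsStronglyCartesian snd a] :
    ∃ b : w ⟶ x, p.IsHomLift fst b ∧ IsPullback b a φ ψ := by
  have e : p.obj w = P := IsHomLift.domain_eq p snd a
  subst e
  have e2 : p.map a = snd := (Groth.Agent.Helper2.isHomLift_iff_map_eq p snd a).1 inferInstance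
  subst e2
  obtain ⟨b, ⟨hb1, hb2⟩, -⟩ := sc_existsUnique p φ (a ≫ ψ) fst (by rw [hP.w, p.map_comp])
  refine ⟨b, (Groth.Agent.Helper2.isHomLift_iff_map_eq p fst b).2 hb1, ?_⟩
  refine ⟨⟨hb2⟩, ⟨PullbackCone.IsLimit.mk _ ?_ ?_ ?_ ?_⟩⟩
  · intro s
    exact (sc_existsUnique p a s.snd (hP.lift (p.map s.fst) (p.map s.snd)
      (by rw [← p.map_comp, ← p.map_comp, s.condition])) (by simp)).exists.choose
  · intro s
    have hc := (sc_existsUnique p a s.snd (hP.lift (p.map s.fst) (p.map s.snd)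
      (by rw [← p.map_comp, ← p.map_comp, s.condition])) (by simp)).exists.choose_spec
    set χ := (sc_existsUnique p a s.snd (hP.lift (p.map s.fst) (p.map s.snd)
      (by rw [← p.map_comp, ← p.map_comp, s.condition])) (by simp)).exists.choose with hχ
    obtain ⟨c1, c2⟩ := hc
    have hu := sc_existsUnique p φ (s.fst ≫ φ) (p.map s.fst) (by rw [p.map_comp])
    apply hu.unique
    · refine ⟨?_, ?_⟩
      · rw [p.map_comp, c1, hb1]; simp
      · rw [Category.assoc, hb2, ← Category.assoc, c2, s.condition]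
    · exact ⟨rfl, rfl⟩
  · intro s
    exact (sc_existsUnique p a s.snd (hP.lift (p.map s.fst) (p.map s.snd)
      (by rw [← p.map_comp, ← p.map_comp, s.condition])) (by simp)).exists.choose_spec.2
  · intro s m hm1 hm2
    have hu := sc_existsUnique p a s.snd (hP.lift (p.map s.fst) (p.map s.snd)
      (by rw [← p.map_comp, ← p.map_comp, s.condition])) (by simp)
    apply hu.unique
    · refine ⟨?_, hm2⟩
      apply hP.hom_ext
      · rw [IsPullback.lift_fst, ← hm1, p.map_comp, hb1]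
      · rw [IsPullback.lift_snd, ← hm2, p.map_comp]
    · exact hu.exists.choose_spec

/-- For `p : 𝒮 ⥤ C`, a strongly cartesian `φ : x ⟶ y`, any `ψ : z ⟶ y`, and a strongly cartesian `a : w
⟶ z` lying over the second projection of `p x ×_{p y} p z`, the object `w` is a fibre product `x ×_y
z`: there is `b : w ⟶ x` over the first projection with `(b, a)` a pullback square. -/
theorem result {𝒮 : Type u₁} [Category.{v₁} 𝒮] {C : Type u₂} [Category.{v₂} C] (p : 𝒮 ⥤ C) {x y z w : 𝒮} (φ : x ⟶ y) (ψ : z ⟶ y)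
    [p.IsStronglyCartesian (p.map φ) φ] [HasPullback (p.map φ) (p.map ψ)] (a : w ⟶ z)
    [p.IsStronglyCartesian (pullback.snd (p.map φ) (p.map ψ)) a] :
    ∃ b : w ⟶ x, p.IsHomLift (pullback.fst (p.map φ) (p.map ψ)) b ∧ IsPullback b a φ ψ := by
  exact aux p φ ψ _ _ (IsPullback.of_hasPullback _ _) a

end Groth.Agent.S6417
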