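import Groth.Statements.S6419
import Groth.Agent.Lib.Helper2.FibGrpd

set_option autoImplicit false
open CategoryTheory
universe v₁ u₁ v₂ u₂
open FibCat

namespace Groth.Agent.S6419

theorem over_obj_ext {C : Type u₂} [Category.{v₂} C] {U : C} (A B : Over U) (e : A.left = B.left)
    (h : A.hom = eqToHom e ≫ B.hom) : A = B := by
  obtain ⟨a, ⟨⟨⟩⟩, f⟩ := A
  obtain ⟨b, ⟨⟨⟩⟩, g⟩ := B
  change a = b at e
  subst e
  simp at h
  subst h
  rfl

theorem over_eqToHom_left {C : Type u₂} [Category.{v₂} C] {U : C} (A B : Over U) (e : A = B) :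
    (eqToHom e).left = eqToHom (by rw [e]) := by
  subst e
  rfl

open Groth.Agent.Helper2 in
/-- If `p' : 𝒮 ⥤ C/U` composed with the forgetful functor `C/U ⥤ C` is fibred in groupoids, then so is
`p'`. -/
theorem result {𝒮 : Type u₁} [Category.{v₁} 𝒮] {C : Type u₂} [Category.{v₂} C] {U : C} (p' : 𝒮 ⥤ Over U) (h : FibCat.IsFibGrpd (p' ⋙ Over.forget U)) : FibCat.IsFibGrpd p' := by
  apply IsFibGrpd.mk'
  · intro x V f
    obtain ⟨y, φ, e, hφ⟩ := IsFibGrpd.exists_lift' _ h x ((Over.forget U).map f)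
    simp only [Functor.comp_obj, Over.forget_obj, Functor.comp_map, Over.forget_map] at e hφ
    have e' : p'.obj y = V := by
      apply over_obj_ext _ _ e
      rw [← Over.w f, ← Category.assoc, ← hφ, Over.w]
    refine ⟨y, φ, e', ?_⟩
    apply Over.OverMorphism.ext
    rw [hφ, Over.comp_left, over_eqToHom_left]
  · intro y x z φ ψ g hg
    obtain ⟨χ, ⟨h1, h2⟩, h3⟩ := IsFibGrpd.existsUnique_lift _ h φ ψ ((Over.forget U).map g) (by
      simp only [Functor.comp_map, ← Functor.map_comp, hg])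
    refine ⟨χ, ⟨?_, h2⟩, ?_⟩
    · apply Over.OverMorphism.ext
      simpa using h1
    · rintro χ' ⟨k1, k2⟩
      apply h3
      refine ⟨?_, k2⟩
      simp [k1]

end Groth.Agent.S6419
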