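import Groth.Statements.S6418
import Groth.Agent.S6419

set_option autoImplicit false
open CategoryTheory
universe v₁ u₁ v₂ u₂
open FibCat

namespace Groth.Agent.S6418

/-- A lift along `p' ⋙ Over.forget U` with the right target is a lift along `p'`. -/
theorem isHomLift_of_forget {𝒮 : Type u₁} [Category.{v₁} 𝒮] {C : Type u₂} [Category.{v₂} C] {U : C}
    (p' : 𝒮 ⥤ Over U) {R S : Over U} (f : R ⟶ S) {a b : 𝒮} (φ : a ⟶ b) (hb : p'.obj b = S)
    [hl : (p' ⋙ Over.forget U).IsHomLift f.left φ] : p'.IsHomLift f φ := by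
  subst hb
  have e : (p'.obj a).left = R.left := IsHomLift.domain_eq (p' ⋙ Over.forget U) f.left φ
  have hm : (p'.map φ).left = eqToHom e ≫ f.left := by
    have := IsHomLift.fac' (p' ⋙ Over.forget U) f.left φ
    simpa using this
  have e' : p'.obj a = R := by
    apply Groth.Agent.S6419.over_obj_ext _ _ e
    rw [← Over.w f, ← Category.assoc, ← hm, Over.w]
  subst e'
  have : f = p'.map φ := by
    apply Over.OverMorphism.ext
    simpa using hm.symm
  subst this
  infer_instance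

theorem isHomLift_forget {𝒮 : Type u₁} [Category.{v₁} 𝒮] {C : Type u₂} [Category.{v₂} C] {U : C}
    (p' : 𝒮 ⥤ Over U) {R S : Over U} (f : R ⟶ S) {a b : 𝒮} (φ : a ⟶ b)
    [hl : p'.IsHomLift f φ] : (p' ⋙ Over.forget U).IsHomLift f.left φ := by
  obtain ⟨⟩ := hl
  exact IsHomLift.map (p' ⋙ Over.forget U) φ

/-- If `p' : 𝒮 ⥤ C/U` composed with the forgetful functor `C/U ⥤ C` is a fibred category, then so is
`p'`. -/
theorem result {𝒮 : Type u₁} [Category.{v₁} 𝒮] {C : Type u₂} [Category.{v₂} C] {U : C} (p' : 𝒮 ⥤ Over U) [(p' ⋙ Over.forget U).IsFibered] : p'.IsFibered := by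
  apply Functor.IsFibered.of_exists_isStronglyCartesian
  intro a R f
  obtain ⟨b, φ, hφ⟩ := Functor.IsPreFibered.exists_isCartesian' (p := p' ⋙ Over.forget U)
    (a := a) f.left
  have hs : (p' ⋙ Over.forget U).IsStronglyCartesian f.left φ :=
    @Functor.IsFibered.isStronglyCartesian_of_isCartesian _ _ _ _ (p' ⋙ Over.forget U) _ _ _ f.left _ _ φ hφ
  have hlift : p'.IsHomLift f φ := isHomLift_of_forget p' f φ rfl
  refine ⟨b, φ, { toIsHomLift := hlift, universal_property' := ?_ }⟩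
  intro a' g φ' hφ'
  have h1 : (p' ⋙ Over.forget U).IsHomLift (g ≫ f).left φ' := isHomLift_forget p' (g ≫ f) φ'
  have h1' : (p' ⋙ Over.forget U).IsHomLift (g.left ≫ f.left) φ' := h1
  obtain ⟨χ, ⟨hχ1, hχ2⟩, hχ3⟩ := Functor.IsStronglyCartesian.universal_property
    (p' ⋙ Over.forget U) f.left φ g.left (g.left ≫ f.left) rfl φ'
  have hbR : p'.obj b = R := IsHomLift.domain_eq p' f φ
  refine ⟨χ, ⟨isHomLift_of_forget p' g χ hbR, hχ2⟩, ?_⟩
  rintro χ' ⟨k1, k2⟩
  exact hχ3 χ' ⟨isHomLift_forget p' g χ', k2⟩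

end Groth.Agent.S6418
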