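import Groth.Statements.S6425
import Mathlib.Tactic
import Mathlib.CategoryTheory.Limits.Preserves.Shapes.BinaryProducts
import Mathlib.CategoryTheory.Limits.FunctorCategory.Basic

set_option autoImplicit false
open CategoryTheory CategoryTheory.Limits
universe v
open CatLim

namespace Groth.Agent.S6425


open CategoryTheory.Limits in
theorem exists_of_isLimit_binaryFan {A B : Type v} (c : BinaryFan A B) (hc : IsLimit c) (a : A) (b : B) :
    ∃ w : c.pt, c.fst w = a ∧ c.snd w = b := by
  let s : BinaryFan A B := BinaryFan.mk (P := PUnit.{v+1}) (TypeCat.ofHom fun _ => a)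
    (TypeCat.ofHom fun _ => b)
  refine ⟨hc.lift s PUnit.unit, ?_, ?_⟩
  · exact ConcreteCategory.congr_hom (hc.fac s ⟨WalkingPair.left⟩) PUnit.unit
  · exact ConcreteCategory.congr_hom (hc.fac s ⟨WalkingPair.right⟩) PUnit.unit

open CategoryTheory.Limits in
theorem ext_of_isLimit_binaryFan {A B : Type v} (c : BinaryFan A B) (hc : IsLimit c) (t t' : c.pt)
    (h1 : c.fst t = c.fst t') (h2 : c.snd t = c.snd t') : t = t' := by
  let u : (PUnit.{v+1} : Type v) ⟶ c.pt := TypeCat.ofHom fun _ => t
  let u' : (PUnit.{v+1} : Type v) ⟶ c.pt := TypeCat.ofHom fun _ => t'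
  have : u = u' := by
    apply BinaryFan.IsLimit.hom_ext hc
    · ext x
      exact h1
    · ext x
      exact h2
  exact ConcreteCategory.congr_hom this PUnit.unit

/-- Over an index category in which any two objects map to a common object, the comparison map `colim (M
× N) → colim M × colim N` for diagrams of sets is surjective. -/
theorem result {I : Type v} [SmallCategory I]
    (hI : ∀ x y : I, ∃ (z : I) (_ : x ⟶ z) (_ : y ⟶ z), True) (M N : I ⥤ Type v) :
    Function.Surjective (prodComparison (colim : (I ⥤ Type v) ⥤ Type v) M N) := by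
  intro t
  obtain ⟨i, x, hx⟩ := Types.jointly_surjective'
    ((prod.fst : colim.obj M ⨯ colim.obj N ⟶ colim.obj M) t)
  obtain ⟨j, y, hy⟩ := Types.jointly_surjective'
    ((prod.snd : colim.obj M ⨯ colim.obj N ⟶ colim.obj N) t)
  obtain ⟨z, f, g, -⟩ := hI i j
  obtain ⟨w, hw1, hw2⟩ := exists_of_isLimit_binaryFan _
    (isLimitOfHasBinaryProductOfPreservesLimit ((evaluation I (Type v)).obj z) M N)
    (M.map f x) (N.map g y)
  dsimp at hw1 hw2
  refine ⟨colimit.ι (M ⨯ N) z w, ?_⟩
  apply ext_of_isLimit_binaryFan _ (prodIsProd (colim.obj M) (colim.obj N))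
  · have e : (prodComparison (colim : (I ⥤ Type v) ⥤ Type v) M N ≫ prod.fst) (colimit.ι (M ⨯ N) z w)
        = colimit.ι M i x := by
      rw [prodComparison_fst]
      have := colimit.ι_map_apply (prod.fst : M ⨯ N ⟶ M) z w
      erw [this, hw1]
      exact colimit.w_apply M f x
    exact e.trans hx
  · have e : (prodComparison (colim : (I ⥤ Type v) ⥤ Type v) M N ≫ prod.snd) (colimit.ι (M ⨯ N) z w)
        = colimit.ι N j y := by
      rw [prodComparison_snd]
      have := colimit.ι_map_apply (prod.snd : M ⨯ N ⟶ N) z w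
      erw [this, hw2]
      exact colimit.w_apply N g y
    exact e.trans hy

end Groth.Agent.S6425
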