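import Groth.Statements.S6426
import Mathlib.Tactic

set_option autoImplicit false
open CategoryTheory CategoryTheory.Limits
universe v
open CatLim

namespace Groth.Agent.S6426

/-- Over a nonempty index category in which any two objects map to a common object, the set-theoretic
colimit of a diagram of abelian groups surjects onto its colimit in abelian groups. (The published
statement does not require the index category to be nonempty; this row assumes it, because for the
empty index category the colimit of sets is empty while the colimit of abelian groups is the zero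
group.) -/
theorem result {I : Type v} [SmallCategory I] [Nonempty I]
    (hI : ∀ x y : I, ∃ (z : I) (_ : x ⟶ z) (_ : y ⟶ z), True) (M : I ⥤ AddCommGrpCat.{v}) :
    Function.Surjective (colimit.post M (forget AddCommGrpCat.{v})) := by
  classical
  -- elementwise formula for `colimit.post`
  have hpost : ∀ (i : I) (x : M.obj i),
      colimit.post M (forget AddCommGrpCat.{v}) (colimit.ι (M ⋙ forget AddCommGrpCat.{v}) i x)
        = (colimit.ι M i) x := by
    intro i x
    exact ConcreteCategory.congr_hom (colimit.ι_post M (forget AddCommGrpCat.{v}) i) x
  let H : AddSubgroup ((colimit M : AddCommGrpCat.{v}) : Type v) :=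
    { carrier := Set.range (colimit.post M (forget AddCommGrpCat.{v}))
      zero_mem' := by
        obtain ⟨i0⟩ := ‹Nonempty I›
        refine ⟨colimit.ι (M ⋙ forget AddCommGrpCat.{v}) i0 (0 : M.obj i0), ?_⟩
        rw [hpost]
        exact map_zero (colimit.ι M i0).hom
      add_mem' := by
        rintro a b ⟨u, rfl⟩ ⟨u', rfl⟩
        obtain ⟨i, x, rfl⟩ := Types.jointly_surjective' u
        obtain ⟨j, y, rfl⟩ := Types.jointly_surjective' u'
        obtain ⟨z, f, g, -⟩ := hI i j
        refine ⟨colimit.ι (M ⋙ forget AddCommGrpCat.{v}) z ((M.map f) x + (M.map g) y), ?_⟩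
        erw [hpost, hpost, hpost]
        have e1 : (colimit.ι M z) ((M.map f) x) = (colimit.ι M i) x :=
          ConcreteCategory.congr_hom (colimit.w M f) x
        have e2 : (colimit.ι M z) ((M.map g) y) = (colimit.ι M j) y :=
          ConcreteCategory.congr_hom (colimit.w M g) y
        rw [← e1, ← e2]
        exact map_add (colimit.ι M z).hom _ _
      neg_mem' := by
        rintro a ⟨u, rfl⟩
        obtain ⟨i, x, rfl⟩ := Types.jointly_surjective' u
        refine ⟨colimit.ι (M ⋙ forget AddCommGrpCat.{v}) i (-x), ?_⟩
        erw [hpost, hpost]
        exact map_neg (colimit.ι M i).hom _ }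
  have hH : ∀ (i : I) (x : M.obj i), (colimit.ι M i) x ∈ H := by
    intro i x
    exact ⟨colimit.ι (M ⋙ forget AddCommGrpCat.{v}) i x, hpost i x⟩
  have hq : AddCommGrpCat.ofHom (QuotientAddGroup.mk' H) = 0 := by
    apply colimit.hom_ext
    intro i
    ext x
    change QuotientAddGroup.mk' H ((colimit.ι M i) x) = 0
    rw [QuotientAddGroup.mk'_apply, QuotientAddGroup.eq_zero_iff]
    exact hH i x
  intro a
  have : QuotientAddGroup.mk' H a = 0 := by
    have := ConcreteCategory.congr_hom hq a
    exact this
  rw [QuotientAddGroup.mk'_apply, QuotientAddGroup.eq_zero_iff] at this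
  exact this

end Groth.Agent.S6426
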