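import Groth.Statements.S6427
import Mathlib.Tactic

set_option autoImplicit false
open CategoryTheory CategoryTheory.Limits
universe v
open CatLim

namespace Groth.Agent.S6427


theorem cospan_of_eqvGen {I : Type v} [SmallCategory I]
    (hI : ∀ ⦃x y z : I⦄ (f : x ⟶ y) (g : x ⟶ z), ∃ (w : I) (f' : y ⟶ w) (g' : z ⟶ w), f ≫ f' = g ≫ g')
    (M : I ⥤ Type v) (p q : Σ j, M.obj j) (h : Relation.EqvGen M.ColimitTypeRel p q) :
    ∃ (w : I) (f : p.1 ⟶ w) (g : q.1 ⟶ w), M.map f p.2 = M.map g q.2 := by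
  induction h with
  | rel x y h =>
    obtain ⟨f, hf⟩ := h
    exact ⟨y.1, f, 𝟙 _, by rw [hf, Functor.map_id_apply]⟩
  | refl x => exact ⟨x.1, 𝟙 _, 𝟙 _, rfl⟩
  | symm x y _ ih =>
    obtain ⟨w, f, g, h⟩ := ih
    exact ⟨w, g, f, h.symm⟩
  | trans x y z _ _ ih1 ih2 =>
    obtain ⟨w, f, g, h⟩ := ih1
    obtain ⟨w', f', g', h'⟩ := ih2
    obtain ⟨z', a, b, hab⟩ := hI g f'
    refine ⟨z', f ≫ a, g' ≫ b, ?_⟩
    rw [Functor.map_comp_apply, Functor.map_comp_apply, h, ← h', ← Functor.map_comp_apply,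
      ← Functor.map_comp_apply, hab]

/-- Over an index category in which every pair of morphisms with common source can be completed to a
commutative square, colimits of sets preserve injective morphisms of diagrams. -/
theorem result {I : Type v} [SmallCategory I]
    (hI : ∀ ⦃x y z : I⦄ (f : x ⟶ y) (g : x ⟶ z), ∃ (w : I) (f' : y ⟶ w) (g' : z ⟶ w), f ≫ f' = g ≫ g')
    {M N : I ⥤ Type v} (φ : M ⟶ N) (hφ : ∀ i, Function.Injective (φ.app i)) :
    Function.Injective (colimMap φ) := by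
  intro a b hab
  obtain ⟨i, x, rfl⟩ := Types.jointly_surjective' a
  obtain ⟨j, y, rfl⟩ := Types.jointly_surjective' b
  have e1 : colimMap φ (colimit.ι M i x) = colimit.ι N i (φ.app i x) :=
    colimit.ι_map_apply φ i x
  have e2 : colimMap φ (colimit.ι M j y) = colimit.ι N j (φ.app j y) :=
    colimit.ι_map_apply φ j y
  rw [e1, e2] at hab
  obtain ⟨w, f, g, h⟩ := cospan_of_eqvGen hI N ⟨i, φ.app i x⟩ ⟨j, φ.app j y⟩ (Types.colimit_eq hab)
  dsimp at f g h
  apply Types.colimit_sound' f g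
  apply hφ w
  have n1 := NatTrans.naturality_apply φ f x
  have n2 := NatTrans.naturality_apply φ g y
  rw [n1, n2, h]

end Groth.Agent.S6427
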