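import Groth.Statements.S6428
import Mathlib
import Mathlib

set_option autoImplicit false
open CategoryTheory CategoryTheory.Limits
universe v₁ u₁ v₂ u₂ v₃ u₃
open CatLim


namespace Groth.Agent.S6428

section
variable {I : Type u₁} [Category.{v₁} I] {I' : Type u₂} [Category.{v₂} I'] (F : I ⥤ I')

/-- The functor from a fibre to a structured arrow category. -/
def Psi {d y' : I'} (a : d ⟶ y') : F.Fiber y' ⥤ StructuredArrow d F where
  obj b := StructuredArrow.mk (a ≫ eqToHom b.2.symm)
  map {b c} φ := StructuredArrow.homMk φ.1 (by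
    have := φ.2
    have h := IsHomLift.fac' F (𝟙 y') φ.1
    simp only [StructuredArrow.mk_hom_eq_self, Category.assoc]
    rw [h]
    simp)
  map_id b := by
    apply StructuredArrow.hom_ext
    rfl
  map_comp φ ψ := by
    apply StructuredArrow.hom_ext
    rfl


lemma final_of_fibers
    (h1 : ∀ x' : I', IsConnected (F.Fiber x'))
    (h2 : ∀ ⦃x' y' : I'⦄ (α' : x' ⟶ y'), ∃ (x y : I) (hx : F.obj x = x') (hy : F.obj y = y')
      (α : x ⟶ y), F.map α = eqToHom hx ≫ α' ≫ eqToHom hy.symm) : F.Final := by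
  constructor
  intro d
  have := h1 d
  -- every object is connected to one in the image of `Psi (𝟙 d)`
  have key : ∀ s : StructuredArrow d F, ∃ c : F.Fiber d, Zigzag s ((Psi F (𝟙 d)).obj c) := by
    intro s
    obtain ⟨x0, x1, hx0, hx1, α, hα⟩ := h2 s.hom
    refine ⟨⟨x0, hx0⟩, ?_⟩
    have := h1 (F.obj s.right)
    -- zigzag in the fibre over `F.obj s.right`
    have z : Zigzag (Functor.Fiber.mk hx1 : F.Fiber (F.obj s.right))
        (Functor.Fiber.mk (rfl : F.obj s.right = F.obj s.right)) := isPreconnected_zigzag _ _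
    have z' := zigzag_obj_of_zigzag (Psi F s.hom) z
    have e1 : (Psi F s.hom).obj (Functor.Fiber.mk (rfl : F.obj s.right = F.obj s.right)) = s := by
      show StructuredArrow.mk (s.hom ≫ eqToHom rfl) = s
      rw [eqToHom_refl, Category.comp_id]
      exact (StructuredArrow.eq_mk s).symm
    rw [e1] at z'
    refine Zigzag.symm (Zigzag.trans (Zigzag.of_hom ?_) z')
    refine StructuredArrow.homMk α ?_
    show (𝟙 d ≫ eqToHom hx0.symm) ≫ F.map α = s.hom ≫ eqToHom hx1.symm
    rw [hα]
    simp
  have hne : Nonempty (StructuredArrow d F) := by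
    obtain ⟨c⟩ := (inferInstance : Nonempty (F.Fiber d))
    exact ⟨(Psi F (𝟙 d)).obj c⟩
  apply zigzag_isConnected
  intro s1 s2
  obtain ⟨c1, z1⟩ := key s1
  obtain ⟨c2, z2⟩ := key s2
  exact z1.trans ((zigzag_obj_of_zigzag (Psi F (𝟙 d)) (isPreconnected_zigzag c1 c2)).trans z2.symm)

end

end Groth.Agent.S6428

namespace Groth.Agent.S6428

/-- If `F : I ⥤ I'` has connected fibre categories and is surjective on morphisms, then for every
diagram `M : I' ⥤ C` the colimit of `F ⋙ M` exists if and only if that of `M` does, and the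
canonical comparison between them is then an isomorphism. -/
theorem result {I : Type u₁} [Category.{v₁} I] {I' : Type u₂} [Category.{v₂} I'] {C : Type u₃} [Category.{v₃} C] (F : I ⥤ I')
    (h1 : ∀ x' : I', IsConnected (F.Fiber x'))
    (h2 : ∀ ⦃x' y' : I'⦄ (α' : x' ⟶ y'), ∃ (x y : I) (hx : F.obj x = x') (hy : F.obj y = y') (α : x ⟶ y), F.map α = eqToHom hx ≫ α' ≫ eqToHom hy.symm)
    (M : I' ⥤ C) :
    (HasColimit (F ⋙ M) ↔ HasColimit M) ∧ ∀ [HasColimit (F ⋙ M)] [HasColimit M], IsIso (colimit.pre M F) := by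
  have : F.Final := final_of_fibers F h1 h2
  refine ⟨⟨fun h => ?_, fun h => ?_⟩, ?_⟩
  · exact Functor.Final.hasColimit_of_comp F
  · exact Functor.Final.comp_hasColimit F
  · intro _ _
    exact Functor.Final.colimit_pre_isIso F

end Groth.Agent.S6428
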