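import Groth.Statements.S6430
import Groth.Agent.Lib.Helper2.FibGrpd

set_option autoImplicit false
open CategoryTheory
universe v₂ u₂ v u
open FibCat

namespace Groth.Agent.S6430

open Groth.Agent.Helper2 in
/-- For a fibred category `p : 𝒮 ⥤ C`, the wide subcategory of `𝒮` on the strongly cartesian morphisms
is fibred in groupoids over `C`. -/
theorem result {C : Type u} [Category.{v} C] {𝒮 : Type u₂} [Category.{v₂} 𝒮] (p : 𝒮 ⥤ C) [p.IsFibered] :
    FibCat.IsFibGrpd (FibCat.cartSubProj p) := by
  apply IsFibGrpd.mk'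
  · intro x V f
    change V ⟶ p.obj x.obj at f
    obtain ⟨b, φ, hφ⟩ := Functor.IsPreFibered.exists_isCartesian' (p := p) (a := x.obj) f
    have hs : p.IsStronglyCartesian f φ := inferInstance
    have e : p.obj b = V := IsHomLift.domain_eq p f φ
    have hm : p.map φ = eqToHom e ≫ f := by
      have := IsHomLift.fac' p f φ
      simpa using this
    have hc : FibCat.cartMor p φ := by
      change p.IsStronglyCartesian (p.map φ) φ
      subst e
      have : f = p.map φ := by simpa using hm.symm
      rw [← this]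
      exact hs
    exact ⟨⟨b⟩, ⟨φ, hc⟩, e, hm⟩
  · intro y x z φ ψ g hg
    change p.obj z.obj ⟶ p.obj y.obj at g
    have hφ : p.IsStronglyCartesian (p.map φ.hom) φ.hom := φ.property
    have hψ : p.IsStronglyCartesian (p.map ψ.hom) ψ.hom := ψ.property
    have hg' : g ≫ p.map φ.hom = p.map ψ.hom := hg
    have hl : p.IsHomLift (g ≫ p.map φ.hom) ψ.hom := by
      rw [hg']; infer_instance
    obtain ⟨χ, ⟨h1, h2⟩, h3⟩ := Functor.IsStronglyCartesian.universal_property' (p := p)
      (f := p.map φ.hom) (φ := φ.hom) g ψ.hom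
    have hχ : p.IsStronglyCartesian g χ := by
      have : p.IsStronglyCartesian (g ≫ p.map φ.hom) (χ ≫ φ.hom) := by
        rw [h2, hg']; exact hψ
      exact Functor.IsStronglyCartesian.of_comp p (f := g) (g := p.map φ.hom) (φ := χ) (ψ := φ.hom)
    have hm : p.map χ = g := (isHomLift_iff_map_eq p g χ).1 h1
    refine ⟨⟨χ, ?_⟩, ⟨hm, ?_⟩, ?_⟩
    · change p.IsStronglyCartesian (p.map χ) χ
      rw [hm]; exact hχ
    · apply WideSubcategory.hom_ext
      exact h2
    · rintro χ' ⟨k1, k2⟩
      apply WideSubcategory.hom_ext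
      apply h3
      refine ⟨?_, ?_⟩
      · have k1' : p.map χ'.hom = g := k1
        exact (isHomLift_iff_map_eq p g χ'.hom).2 k1'
      · exact congrArg (fun t => t.hom) k2

end Groth.Agent.S6430
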