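import Groth.Statements.S6434
import Groth.Agent.S6433
import Mathlib.Tactic
import Mathlib.CategoryTheory.Localization.CalculusOfFractions.Fractions

set_option autoImplicit false
open CategoryTheory
universe v u v' u'
open CatLoc

namespace Groth.Agent.S6434


open CategoryTheory.Limits in
/-- Finitely many pairs of parallel arrows identified by `L` are equalized by one arrow of `W`. -/
theorem exists_common_equalizer {C : Type u} [Category.{v} C] {D : Type u'} [Category.{v'} D]
    (W : MorphismProperty C) (L : C ⥤ D) [L.IsLocalization W] [W.HasLeftCalculusOfFractions]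
    {ι : Type} [Finite ι] (A : ι → C) (Y' : C) (u u' : ∀ i, A i ⟶ Y')
    (h : ∀ i, L.map (u i) = L.map (u' i)) :
    ∃ (Z : C) (r : Y' ⟶ Z), W r ∧ ∀ i, u i ≫ r = u' i ≫ r := by
  classical
  have : Fintype ι := Fintype.ofFinite ι
  have key : ∀ S : Finset ι, ∃ (Z : C) (r : Y' ⟶ Z), W r ∧ ∀ i ∈ S, u i ≫ r = u' i ≫ r := by
    intro S
    induction S using Finset.induction_on with
    | empty => exact ⟨Y', 𝟙 Y', W.id_mem Y', by simp⟩
    | insert a S ha ih =>
      obtain ⟨Z, r, hr, hS⟩ := ih
      have e : L.map (u a ≫ r) = L.map (u' a ≫ r) := by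
        rw [L.map_comp, L.map_comp, h a]
      obtain ⟨Z', r', hr', hfr⟩ := (MorphismProperty.map_eq_iff_postcomp L W _ _).1 e
      refine ⟨Z', r ≫ r', W.comp_mem _ _ hr hr', ?_⟩
      intro i hi
      rcases Finset.mem_insert.1 hi with rfl | hi
      · simpa only [Category.assoc] using hfr
      · rw [← Category.assoc, hS i hi, Category.assoc]
  obtain ⟨Z, r, hr, hS⟩ := key Finset.univ
  exact ⟨Z, r, hr, fun i => hS i (Finset.mem_univ i)⟩

open CategoryTheory.Limits in
theorem exists_desc {C : Type u} [Category.{v} C] {D : Type u'} [Category.{v'} D]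
    (W : MorphismProperty C) (L : C ⥤ D) [L.IsLocalization W] [W.HasLeftCalculusOfFractions]
    {J : Type} [SmallCategory J] [FinCategory J] {K : J ⥤ C} {c : Cocone K} (hc : IsColimit c)
    (Y0 : C) (g : ∀ j, L.obj (K.obj j) ⟶ L.obj Y0)
    (hg : ∀ {j j' : J} (α : j ⟶ j'), L.map (K.map α) ≫ g j' = g j) :
    ∃ d : L.obj c.pt ⟶ L.obj Y0, ∀ j, L.map (c.ι.app j) ≫ d = g j := by
  have hLW := Localization.inverts L W
  obtain ⟨Y', s, hs, f, hf⟩ := Groth.Agent.S6433.result W L (fun j => K.obj j) Y0 g
  obtain ⟨Z, r, hr, hru⟩ := exists_common_equalizer W L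
    (ι := Σ (j : J) (j' : J), (j ⟶ j')) (fun i => K.obj i.1) Y'
    (fun i => f i.1) (fun i => K.map i.2.2 ≫ f i.2.1) (by
      rintro ⟨j, j', α⟩
      dsimp
      rw [L.map_comp, ← hf j', ← Category.assoc, hg α, hf j])
  let t : Cocone K :=
    { pt := Z
      ι := { app := fun j => f j ≫ r
             naturality := by
               intro j j' α
               have := hru ⟨j, j', α⟩
               dsimp at this ⊢
               rw [Category.comp_id, this, Category.assoc] } }
  haveI : IsIso (L.map (s ≫ r)) := hLW _ (W.comp_mem _ _ hs hr)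
  refine ⟨L.map (hc.desc t) ≫ inv (L.map (s ≫ r)), ?_⟩
  intro j
  rw [← Category.assoc, ← L.map_comp, hc.fac t j]
  dsimp [t]
  rw [IsIso.comp_inv_eq, L.map_comp, ← hf j, L.map_comp, Category.assoc]

open CategoryTheory.Limits in
theorem hom_ext_of_colimit {C : Type u} [Category.{v} C] {D : Type u'} [Category.{v'} D]
    (W : MorphismProperty C) (L : C ⥤ D) [L.IsLocalization W] [W.HasLeftCalculusOfFractions]
    {J : Type} [SmallCategory J] [FinCategory J] {K : J ⥤ C} {c : Cocone K} (hc : IsColimit c)
    (Y0 : C) (m m' : L.obj c.pt ⟶ L.obj Y0)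
    (hm : ∀ j, L.map (c.ι.app j) ≫ m = L.map (c.ι.app j) ≫ m') : m = m' := by
  have hLW := Localization.inverts L W
  obtain ⟨φ, h1, h2⟩ := Localization.exists_leftFraction₂ L W m m'
  have e1 : m ≫ L.map φ.s = L.map φ.f := by
    rw [h1]; exact MorphismProperty.LeftFraction.map_comp_map_s φ.fst L hLW
  have e2 : m' ≫ L.map φ.s = L.map φ.f' := by
    rw [h2]; exact MorphismProperty.LeftFraction.map_comp_map_s φ.snd L hLW
  obtain ⟨Z, r, hr, hru⟩ := exists_common_equalizer W L (ι := J) (fun j => K.obj j) φ.Y'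
    (fun j => c.ι.app j ≫ φ.f) (fun j => c.ι.app j ≫ φ.f') (by
      intro j
      dsimp
      rw [L.map_comp, L.map_comp, ← e1, ← e2, ← Category.assoc, hm j, Category.assoc])
  have e3 : φ.f ≫ r = φ.f' ≫ r := by
    apply hc.hom_ext
    intro j
    have := hru j
    simpa only [Category.assoc] using this
  haveI : IsIso (L.map r) := hLW _ hr
  haveI : IsIso (L.map φ.s) := hLW _ φ.hs
  have e4 : L.map φ.f = L.map φ.f' := by
    rw [← cancel_mono (L.map r), ← L.map_comp, ← L.map_comp, e3]
  rw [← cancel_mono (L.map φ.s), e1, e2, e4]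

/-- The localization functor at a left multiplicative system commutes with finite colimits. -/
theorem result {C : Type u} [Category.{v} C] {D : Type u'} [Category.{v'} D] (W : MorphismProperty C) (L : C ⥤ D) [L.IsLocalization W] [W.HasLeftCalculusOfFractions] :
    Limits.PreservesFiniteColimits L := by
  have hLW := Localization.inverts L W
  haveI : L.EssSurj := Localization.essSurj L W
  refine ⟨fun J _ _ => ⟨fun {K} => ⟨fun {c} hc => ⟨?_⟩⟩⟩⟩
  apply Limits.IsColimit.ofExistsUnique
  intro t
  let Y0 := L.objPreimage t.pt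
  let e : L.obj Y0 ≅ t.pt := L.objObjPreimageIso t.pt
  obtain ⟨d, hd⟩ := exists_desc W L hc Y0 (fun j => t.ι.app j ≫ e.inv) (by
    intro j j' α
    have := t.w α
    dsimp at this ⊢
    rw [← Category.assoc, this])
  refine ⟨d ≫ e.hom, ?_, ?_⟩
  · intro j
    have := hd j
    dsimp at this ⊢
    rw [← Category.assoc, this, Category.assoc, e.inv_hom_id, Category.comp_id]
  · intro m hm
    have : m ≫ e.inv = d := by
      apply hom_ext_of_colimit W L hc Y0
      intro j
      have h1 := hd j
      have h2 := hm j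
      dsimp at h1 h2 ⊢
      rw [h1, ← Category.assoc, h2]
    rw [← this, Category.assoc, e.inv_hom_id, Category.comp_id]

end Groth.Agent.S6434
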