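import Groth.Statements.S6435
import Mathlib.Tactic

set_option autoImplicit false
open CategoryTheory
universe v u v' u'
open CatLoc

namespace Groth.Agent.S6435

/-- For a multiplicative system `W` (left and right calculus of fractions) with localization functor
`L`, a morphism `f` becomes an isomorphism under `L` if and only if `g ∘ f ∈ W` and `f ∘ h ∈ W` for
some `g, h`. -/
theorem result {C : Type u} [Category.{v} C] {D : Type u'} [Category.{v'} D] (W : MorphismProperty C) (L : C ⥤ D) [L.IsLocalization W] [W.HasLeftCalculusOfFractions] [W.HasRightCalculusOfFractions]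
    {X Y : C} (f : X ⟶ Y) :
    IsIso (L.map f) ↔ ∃ (Z Z' : C) (g : Y ⟶ Z) (h : Z' ⟶ X), W (f ≫ g) ∧ W (h ≫ f) := by
  have hLW := Localization.inverts L W
  constructor
  · intro hf
    obtain ⟨α, hα⟩ := Localization.exists_leftFraction L W (inv (L.map f))
    obtain ⟨β, hβ⟩ := Localization.exists_rightFraction L W (inv (L.map f))
    have h1 : L.map (f ≫ α.f) = L.map α.s := by
      have := MorphismProperty.LeftFraction.map_comp_map_s α L hLW
      rw [← hα] at this
      rw [L.map_comp, ← this, IsIso.hom_inv_id_assoc]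
    have h2 : L.map (β.f ≫ f) = L.map β.s := by
      have := MorphismProperty.RightFraction.map_s_comp_map β L hLW
      rw [← hβ] at this
      rw [L.map_comp, ← this, Category.assoc, IsIso.inv_hom_id, Category.comp_id]
    obtain ⟨Z, r, hr, hfr⟩ := (MorphismProperty.map_eq_iff_postcomp L W _ _).1 h1
    obtain ⟨Z', r', hr', hfr'⟩ := (MorphismProperty.map_eq_iff_precomp L W _ _).1 h2
    refine ⟨Z, Z', α.f ≫ r, r' ≫ β.f, ?_, ?_⟩
    · rw [← Category.assoc, hfr]
      exact W.comp_mem _ _ α.hs hr
    · rw [Category.assoc, hfr']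
      exact W.comp_mem _ _ hr' β.hs
  · rintro ⟨Z, Z', g, h, h1, h2⟩
    have i1 : IsIso (L.map f ≫ L.map g) := by
      rw [← L.map_comp]; exact hLW _ h1
    have i2 : IsIso (L.map h ≫ L.map f) := by
      rw [← L.map_comp]; exact hLW _ h2
    have hmono : Mono (L.map f) := mono_of_mono (L.map f) (L.map g)
    have hsplit : IsSplitEpi (L.map f) :=
      ⟨⟨⟨inv (L.map h ≫ L.map f) ≫ L.map h, by simp⟩⟩⟩
    exact isIso_of_mono_of_isSplitEpi (L.map f)

end Groth.Agent.S6435
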