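import Groth.Statements.S6437
import Mathlib
import Mathlib
import Groth.Agent.Lib.Helper5.Misc.AlmostFiltered

set_option autoImplicit false
open CategoryTheory CategoryTheory.Limits
universe v
open CatLim

open Groth.Agent.Lib.Helper5.AlmostFiltered

namespace Groth.Agent.S6437

/-- Over an index category in which spans can be completed to commutative squares and parallel pairs can
be coequalized (a disjoint union of filtered categories), colimits of sets commute with finite
connected limits. -/
theorem result {I : Type v} [SmallCategory I]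
    (h1 : ∀ ⦃w x y : I⦄ (a : w ⟶ x) (b : w ⟶ y), ∃ (z : I) (c : x ⟶ z) (d : y ⟶ z), a ≫ c = b ≫ d)
    (h2 : ∀ ⦃x y : I⦄ (a b : x ⟶ y), ∃ (z : I) (c : y ⟶ z), a ≫ c = b ≫ c)
    (J : Type) [SmallCategory J] [FinCategory J] [IsConnected J] :
    PreservesLimitsOfShape J (colim : (I ⥤ Type v) ⥤ Type v) := by
  constructor
  intro K
  constructor
  intro c hc
  rw [Types.isLimit_iff]
  intro s hs
  obtain ⟨X, hX⟩ := surj_aux h1 h2 hc s (fun {j j'} f => hs f)
  refine ⟨X, hX, ?_⟩
  intro Y hY
  have : Finite J := Finite.of_fintype J
  exact inj_aux h1 h2 hc Y X (fun j => (hY j).trans (hX j).symm)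

end Groth.Agent.S6437
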