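import Groth.Statements.S6439

set_option autoImplicit false
open CategoryTheory
universe v u
open FibCat

namespace Groth.Agent.S6439

open Bicategory

universe w₁ v₁ u₁

section

variable {B : Type u₁} [Bicategory.{w₁, v₁} B] {a b : B}

/-- Precomposition with a 1-morphism having a quasi-inverse is an equivalence. -/
theorem precomp_isEquivalence (c : B) (f : a ⟶ b) (g : b ⟶ a) (e₁ : f ≫ g ≅ 𝟙 a) (e₂ : g ≫ f ≅ 𝟙 b) :
    (Bicategory.precomp c f).IsEquivalence := by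
  let i₁ : Bicategory.precomp c f ⋙ Bicategory.precomp c g ≅ 𝟭 (b ⟶ c) :=
    (associatorNatIsoRight g f c).symm ≪≫ (precomposing b b c).mapIso e₂ ≪≫ leftUnitorNatIso b c
  let i₂ : Bicategory.precomp c g ⋙ Bicategory.precomp c f ≅ 𝟭 (a ⟶ c) :=
    (associatorNatIsoRight f g c).symm ≪≫ (precomposing a a c).mapIso e₁ ≪≫ leftUnitorNatIso a c
  exact (CategoryTheory.Equivalence.mk _ _ i₁.symm i₂).isEquivalence_functor

/-- Postcomposition with a 1-morphism having a quasi-inverse is an equivalence. -/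
theorem postcomp_isEquivalence (c : B) (f : a ⟶ b) (g : b ⟶ a) (e₁ : f ≫ g ≅ 𝟙 a) (e₂ : g ≫ f ≅ 𝟙 b) :
    (Bicategory.postcomp c f).IsEquivalence := by
  let i₁ : Bicategory.postcomp c f ⋙ Bicategory.postcomp c g ≅ 𝟭 (c ⟶ a) :=
    associatorNatIsoLeft c f g ≪≫ (postcomposing c a a).mapIso e₁ ≪≫ rightUnitorNatIso c a
  let i₂ : Bicategory.postcomp c g ⋙ Bicategory.postcomp c f ≅ 𝟭 (c ⟶ b) :=
    associatorNatIsoLeft c g f ≪≫ (postcomposing c b b).mapIso e₂ ≪≫ rightUnitorNatIso c b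
  exact (CategoryTheory.Equivalence.mk _ _ i₁.symm i₂).isEquivalence_functor

end

theorem result {C : Type u} [Category.{v} C] {𝒮₁ 𝒮₂ 𝒮₃ 𝒮₄ : BasedCategory.{v, max u v} C}
    (h₁ : FibCat.IsFibGrpd 𝒮₁.p) (h₂ : FibCat.IsFibGrpd 𝒮₂.p) (h₃ : FibCat.IsFibGrpd 𝒮₃.p) (h₄ : FibCat.IsFibGrpd 𝒮₄.p)
    (φ : 𝒮₁ ⟶ 𝒮₂) (ψ : 𝒮₃ ⟶ 𝒮₄) (hφ : FibCat.IsEquivOver φ) (hψ : FibCat.IsEquivOver ψ) :
    (Bicategory.precomp 𝒮₃ φ ⋙ Bicategory.postcomp 𝒮₁ ψ).IsEquivalence := by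
  obtain ⟨G, ⟨e1⟩, ⟨e2⟩⟩ := hφ
  obtain ⟨G', ⟨e1'⟩, ⟨e2'⟩⟩ := hψ
  have i1 : (Bicategory.precomp 𝒮₃ φ).IsEquivalence :=
    precomp_isEquivalence 𝒮₃ φ (G : 𝒮₂ ⟶ 𝒮₁) e1 e2
  have i2 : (Bicategory.postcomp 𝒮₁ ψ).IsEquivalence :=
    postcomp_isEquivalence 𝒮₁ ψ (G' : 𝒮₄ ⟶ 𝒮₃) e1' e2'
  infer_instance

end Groth.Agent.S6439
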