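import Groth.Statements.S6440
import Mathlib
import Mathlib
import Groth.Agent.Lib.Helper5.Misc.AlmostCocont
import Groth.Agent.S6441

set_option autoImplicit false
open CategoryTheory CategoryTheory.Limits Opposite
universe u
open SiteMisc

open Groth.Agent.Lib.Helper5.AlmostCocont

namespace Groth.Agent.S6440

section

/-- The colimit of a connected diagram of singletons is a singleton. -/
lemma unique_of_isColimit {I : Type} [SmallCategory I] [IsConnected I] {H : I ⥤ Type u}
    (h : ∀ i, Nonempty (Unique (H.obj i))) {t : Cocone H} (ht : IsColimit t) :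
    Nonempty (Unique t.pt) := by
  classical
  have hu : ∀ i, Unique (H.obj i) := fun i => (h i).some
  obtain ⟨i0⟩ := (inferInstance : Nonempty I)
  let φ : I → t.pt := fun i => t.ι.app i (hu i).default
  have hφ : ∀ i j, φ i = φ j := by
    apply constant_of_preserves_morphisms φ
    intro i j f
    have h1 : H.map f (hu i).default = (hu j).default := (hu j).uniq _
    have h2 := ConcreteCategory.congr_hom (t.w f) (hu i).default
    simp only [φ]
    rw [← h1]
    exact h2.symm
  refine ⟨⟨⟨φ i0⟩, ?_⟩⟩
  intro y
  obtain ⟨j, z, rfl⟩ := Types.jointly_surjective_of_isColimit ht y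
  have : z = (hu j).default := (hu j).uniq z
  rw [this]
  exact hφ j i0


variable {C D : Type u} [SmallCategory C] [SmallCategory D]
    (J : GrothendieckTopology C) (K : GrothendieckTopology D) (u : C ⥤ D) [u.IsContinuous J K]

lemma hG_colimit {I : Type} [SmallCategory I] [IsConnected I] (F : I ⥤ Sheaf K (Type u))
    (E : Cocone (F ⋙ sheafToPresheaf K (Type u))) (hE : IsColimit E)
    (V : D) (hV : (⊥ : Sieve V) ∈ K V) : Nonempty (Unique (E.pt.obj (op V))) := by
  have hE' := isColimitOfPreserves ((evaluation Dᵒᵖ (Type u)).obj (op V)) hE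
  refine unique_of_isColimit (fun i => ?_) hE'
  have ht := Sheaf.isTerminalOfBotCover (F.obj i) V hV
  exact ⟨(Types.isTerminalEquivUnique _).1 ht⟩


lemma preserves_aux (hu : BigSite.IsAlmostCocontinuous u J K)
    {I : Type} [SmallCategory I] [FinCategory I] [IsConnected I] (F : I ⥤ Sheaf K (Type u)) :
    PreservesColimit F (u.sheafPushforwardContinuous (Type u) J K) := by
  -- the presheaf colimit cocone
  let E : Cocone (F ⋙ sheafToPresheaf K (Type u)) := colimit.cocone _
  have hE : IsColimit E := colimit.isColimit _
  have hG := hG_colimit K F E hE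
  -- its image under `u^p`
  let up : (Dᵒᵖ ⥤ Type u) ⥤ (Cᵒᵖ ⥤ Type u) := (Functor.whiskeringLeft _ _ (Type u)).obj u.op
  let E' : Cocone ((F ⋙ u.sheafPushforwardContinuous (Type u) J K) ⋙ sheafToPresheaf J (Type u)) :=
    up.mapCocone E
  have hE' : IsColimit E' := isColimitOfPreserves up hE
  apply preservesColimit_of_preserves_colimit_cocone (Sheaf.isColimitSheafifyCocone E hE)
  refine IsColimit.ofIsoColimit (Sheaf.isColimitSheafifyCocone E' hE') ?_
  let θ := ((sheafificationAdjunction J (Type u)).homEquiv (u.op ⋙ E.pt)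
      ((u.sheafPushforwardContinuous (Type u) J K).obj ((presheafToSheaf K (Type u)).obj E.pt))).symm
        (Functor.whiskerLeft u.op (toSheafify K E.pt))
  have hθ : IsIso θ := Groth.Agent.S6441.result J K u hu E.pt hG
  have hθ' : toSheafify J (u.op ⋙ E.pt) ≫ θ.hom = Functor.whiskerLeft u.op (toSheafify K E.pt) := by
    have := ((sheafificationAdjunction J (Type u)).homEquiv (u.op ⋙ E.pt)
      ((u.sheafPushforwardContinuous (Type u) J K).obj
        ((presheafToSheaf K (Type u)).obj E.pt))).apply_symm_apply
        (Functor.whiskerLeft u.op (toSheafify K E.pt))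
    rw [Adjunction.homEquiv_unit] at this
    exact this
  refine Cocone.ext (@asIso _ _ _ _ θ hθ) (fun i => ?_)
  apply Sheaf.hom_ext
  have e1 := Sheaf.sheafifyCocone_ι_app_val E' i
  have e2 := Sheaf.sheafifyCocone_ι_app_val E i
  let a : (u.op ⋙ (F.obj i).obj) ⟶ (u.op ⋙ E.pt) := Functor.whiskerLeft u.op (E.ι.app i)
  let b : (u.op ⋙ (F.obj i).obj) ⟶ (sheafify J (u.op ⋙ E.pt)) :=
    ((Sheaf.sheafifyCocone E').ι.app i).hom
  have e1' : b = a ≫ toSheafify J (u.op ⋙ E.pt) := e1
  have key : b ≫ θ.hom = Functor.whiskerLeft u.op ((Sheaf.sheafifyCocone E).ι.app i).hom := by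
    rw [e1', e2, Category.assoc, hθ']
    rfl
  exact key

end

end Groth.Agent.S6440

namespace Groth.Agent.S6440

/-- For a continuous and almost cocontinuous functor `u` between small sites, the functor `u^s` on
sheaves of sets preserves finite connected colimits. -/
theorem result {C D : Type u} [SmallCategory C] [SmallCategory D]
    (J : GrothendieckTopology C) (K : GrothendieckTopology D) (u : C ⥤ D) [u.IsContinuous J K]
    (hu : BigSite.IsAlmostCocontinuous u J K) (I : Type) [SmallCategory I] [FinCategory I] [IsConnected I] :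
    PreservesColimitsOfShape I (u.sheafPushforwardContinuous (Type u) J K) := by
  constructor
  intro F
  exact preserves_aux J K u hu F

end Groth.Agent.S6440
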