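import Groth.Statements.S6442
import Mathlib

set_option autoImplicit false
open CategoryTheory CategoryTheory.Limits Opposite
universe u
open SiteMisc

namespace Groth.Agent.S6442

section
open CategoryTheory CategoryTheory.Limits Opposite

variable {C : Type u} [SmallCategory C] (J : GrothendieckTopology C)

noncomputable def secEquiv (F : Sheaf J (Type u)) (X : C) :
    ((presheafToSheaf J (Type u)).obj (yoneda.obj X) ⟶ F) ≃ F.obj.obj (op X) :=
  ((sheafificationAdjunction J (Type u)).homEquiv _ _).trans yonedaEquiv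

lemma secEquiv_comp {F F' : Sheaf J (Type u)} (f : F ⟶ F') (X : C)
    (a : (presheafToSheaf J (Type u)).obj (yoneda.obj X) ⟶ F) :
    secEquiv J F' X (a ≫ f) = f.hom.app (op X) (secEquiv J F X a) := by
  unfold secEquiv
  simp only [Equiv.trans_apply]
  rw [Adjunction.homEquiv_naturality_right]
  exact yonedaEquiv_comp _ _

/-- the index type -/
abbrev Idx {U : C} (S : Sieve U) : Type u := Σ V : C, {f : V ⟶ U // S f}

/-- the coproduct presheaf -/
noncomputable abbrev PS {U : C} (S : Sieve U) : Cᵒᵖ ⥤ Type u :=
  ∐ fun i : Idx S => yoneda.obj i.1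

noncomputable abbrev dS {U : C} (S : Sieve U) : PS S ⟶ yoneda.obj U :=
  Sigma.desc (fun i : Idx S => yoneda.map i.2.1)

lemma dS_locSurj {U : C} (S : Sieve U) (hS : S ∈ J U) :
    Presheaf.IsLocallySurjective J (dS S) := by
  refine ⟨fun {X} s => ?_⟩
  refine J.superset_covering ?_ (J.pullback_stable (s : X ⟶ U) hS)
  intro Y g hg
  let i : Idx S := ⟨Y, g ≫ (s : X ⟶ U), hg⟩
  refine ⟨(Sigma.ι (fun i : Idx S => yoneda.obj i.1) i).app (op Y) (𝟙 Y), ?_⟩
  have h1 : Sigma.ι (fun i : Idx S => yoneda.obj i.1) i ≫ dS S = yoneda.map i.2.1 :=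
    Sigma.ι_desc _ _
  have h2 := ConcreteCategory.congr_hom (NatTrans.congr_app h1 (op Y)) (𝟙 Y)
  simp only [NatTrans.comp_app, ConcreteCategory.comp_apply] at h2
  rw [h2]
  simp [i]


theorem main (U : C) :
    (∀ S : Sieve U, S ∈ J U →
      IsSplitEpi ((presheafToSheaf J (Type u)).map
        (Sigma.desc (fun i : (Σ V : C, {f : V ⟶ U // S f}) => yoneda.map i.2.1) :
          (∐ fun i : (Σ V : C, {f : V ⟶ U // S f}) => yoneda.obj i.1) ⟶ yoneda.obj U))) ↔
    ∀ (F G : Sheaf J (Type u)) (φ : F ⟶ G), Epi φ → Function.Surjective (φ.hom.app (op U)) := by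
  constructor
  · intro H F G φ hφ t
    have hls : Sheaf.IsLocallySurjective φ := (Sheaf.isLocallySurjective_iff_epi φ).2 hφ
    let S : Sieve U := Presheaf.imageSieve φ.hom t
    have hS : S ∈ J U := Presheaf.imageSieve_mem J φ.hom t
    obtain ⟨⟨σ, hσ⟩⟩ := H S hS
    have hex : ∀ i : Idx S, ∃ s : F.obj.obj (op i.1),
        φ.hom.app (op i.1) s = G.obj.map i.2.1.op t := fun i => i.2.2
    choose s hs using hex
    let a : PS S ⟶ F.obj := Sigma.desc (fun i => yonedaEquiv.symm (s i))
    let a' : (presheafToSheaf J (Type u)).obj (PS S) ⟶ F :=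
      ((sheafificationAdjunction J (Type u)).homEquiv _ _).symm a
    let t' : (presheafToSheaf J (Type u)).obj (yoneda.obj U) ⟶ G := (secEquiv J G U).symm t
    have key : a' ≫ φ = (presheafToSheaf J (Type u)).map (dS S) ≫ t' := by
      apply ((sheafificationAdjunction J (Type u)).homEquiv _ _).injective
      rw [Adjunction.homEquiv_naturality_right, Adjunction.homEquiv_naturality_left]
      simp only [a', Equiv.apply_symm_apply]
      apply Sigma.hom_ext
      intro i
      have e1 : ((sheafificationAdjunction J (Type u)).homEquiv _ _) t' = yonedaEquiv.symm t := by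
        apply yonedaEquiv.injective
        rw [Equiv.apply_symm_apply]
        exact (secEquiv J G U).apply_symm_apply t
      rw [e1, ← Category.assoc, ← Category.assoc, Sigma.ι_desc, Sigma.ι_desc]
      apply yonedaEquiv.injective
      rw [yonedaEquiv_comp, Equiv.apply_symm_apply]
      refine (hs i).trans ?_
      have h3 := yonedaEquiv_naturality (yonedaEquiv.symm t) i.2.1
      rw [Equiv.apply_symm_apply] at h3
      exact h3
    refine ⟨secEquiv J F U (σ ≫ a'), ?_⟩
    rw [← secEquiv_comp, Category.assoc, key, ← Category.assoc, hσ, Category.id_comp]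
    exact Equiv.apply_symm_apply _ _
  · intro H S hS
    have hls := dS_locSurj J S hS
    haveI : Sheaf.IsLocallySurjective ((presheafToSheaf J (Type u)).map (dS S)) :=
      (Presheaf.isLocallySurjective_presheafToSheaf_map_iff J (dS S)).2 hls
    have hepi : Epi ((presheafToSheaf J (Type u)).map (dS S)) := inferInstance
    obtain ⟨s, hs⟩ := H _ _ _ hepi (secEquiv J _ U (𝟙 _))
    refine ⟨⟨(secEquiv J _ U).symm s, ?_⟩⟩
    apply (secEquiv J _ U).injective
    rw [secEquiv_comp, Equiv.apply_symm_apply]
    exact hs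


end


/-- An object `U` of a site is weakly contractible, i.e. for every covering sieve `S` the sheafified map
`(∐_{V → U ∈ S} h_V)^# ⟶ h_U^#` has a section, if and only if taking sections over `U` turns
epimorphisms of sheaves of sets into surjections. (Coverings are taken as covering sieves; the
coproduct is formed in presheaves and then sheafified.) -/
theorem result {C : Type u} [SmallCategory C] (J : GrothendieckTopology C) (U : C) :
    (∀ S : Sieve U, S ∈ J U →
      IsSplitEpi ((presheafToSheaf J (Type u)).map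
        (Sigma.desc (fun i : (Σ V : C, {f : V ⟶ U // S f}) => yoneda.map i.2.1) :
          (∐ fun i : (Σ V : C, {f : V ⟶ U // S f}) => yoneda.obj i.1) ⟶ yoneda.obj U))) ↔
    ∀ (F G : Sheaf J (Type u)) (φ : F ⟶ G), Epi φ → Function.Surjective (φ.hom.app (op U)) := by
  classical
  exact main J U

end Groth.Agent.S6442
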