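import Groth.Statements.S6443
import Mathlib
import Groth.Agent.Lib.Helper2.FibCat.OverFun

set_option autoImplicit false
open CategoryTheory
universe v u
open FibCat

namespace Groth.Agent.S6443

/-- If a category `𝒮` fibred in groupoids over `C` is represented by `X` via `j : 𝒮 ⟶ C/X` and by `X'`
via `j' : 𝒮 ⟶ C/X'` (equivalences over `C`), then there is an isomorphism `X' ≅ X` under which `j'`
becomes 2-isomorphic to `j` over `C`. -/
theorem result {C : Type u} [Category.{v} C] {𝒮 : BasedCategory.{v, max u v} C} (h𝒮 : FibCat.IsFibGrpd 𝒮.p)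
    {X X' : C} (j : 𝒮 ⥤ᵇ FibCat.overCat X) (j' : 𝒮 ⥤ᵇ FibCat.overCat X') (hj : FibCat.IsEquivOver j) (hj' : FibCat.IsEquivOver j') :
    ∃ e : X' ≅ X, Nonempty (BasedFunctor.comp j' (⟨Over.map e.hom, Over.mapForget_eq e.hom⟩ : FibCat.overCat X' ⥤ᵇ FibCat.overCat X) ≅ j) := by
  obtain ⟨k', hk', ⟨e1⟩, ⟨e2⟩⟩ := Groth.Agent.Helper2.FibCatLib.isEquivOver_inverse hj'
  let Φ : FibCat.overCat X' ⥤ᵇ FibCat.overCat X := BasedFunctor.comp k' j
  have h1 : k'.toFunctor.IsEquivalence := Groth.Agent.Helper2.FibCatLib.isEquivalence_of_isEquivOver hk'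
  have h2 : j.toFunctor.IsEquivalence := Groth.Agent.Helper2.FibCatLib.isEquivalence_of_isEquivOver hj
  have h3 : Φ.toFunctor.IsEquivalence :=
    inferInstanceAs (k'.toFunctor ⋙ j.toFunctor).IsEquivalence
  have hiso := Groth.Agent.Helper2.FibCatLib.OverFun.isIso_classify Φ
  obtain ⟨i⟩ := Groth.Agent.Helper2.FibCatLib.OverFun.nonempty_iso_overMapBased Φ
  refine ⟨asIso (Groth.Agent.Helper2.FibCatLib.OverFun.classify Φ), ⟨?_⟩⟩
  exact (Groth.Agent.Helper2.whiskerLeftIso j' i).symm ≪≫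
    (Groth.Agent.Helper2.postF 𝒮 j).mapIso e1

end Groth.Agent.S6443
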