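import Groth.Statements.S6446
import Mathlib.CategoryTheory.Limits.Types.Filtered

set_option autoImplicit false
open CategoryTheory CategoryTheory.Limits Opposite
universe v u
open CatLim

namespace Groth.Agent.S6446

/-- (2) ⇒ (1): over a filtered index category, a diagram `M` with a cocone `(X, M_i → X)` inducing
bijections `colim_i Mor(W, M_i) → Mor(W, X)` for all `W` is essentially constant as an ind-object
with value `X`. -/
theorem result {I : Type v} [SmallCategory I] [IsFiltered I] {C : Type u} [Category.{v} C]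
    (M : I ⥤ C) (c : Cocone M)
    (h : ∀ W : C, Function.Bijective (colimit.desc (M ⋙ coyoneda.obj (op W)) ((coyoneda.obj (op W)).mapCocone c))) :
    CatLim.IsEssConstInd M c := by
  -- the identity of `c.pt` comes from some stage
  obtain ⟨x, hx⟩ := (h c.pt).2 (𝟙 c.pt)
  obtain ⟨i, s, rfl⟩ := Types.jointly_surjective' x
  have hs : s ≫ c.ι.app i = 𝟙 c.pt := by
    have := hx
    rw [← ConcreteCategory.comp_apply, colimit.ι_desc] at this
    exact this
  refine ⟨i, s, hs, ?_⟩
  intro j
  -- compare the classes of `𝟙 (M j)` and `c_j ≫ s`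
  let F := M ⋙ coyoneda.obj (op (M.obj j))
  have e : colimit.ι F j (𝟙 (M.obj j)) = colimit.ι F i (c.ι.app j ≫ s) := by
    apply (h (M.obj j)).1
    rw [← ConcreteCategory.comp_apply, ← ConcreteCategory.comp_apply, colimit.ι_desc,
      colimit.ι_desc]
    change 𝟙 (M.obj j) ≫ c.ι.app j = (c.ι.app j ≫ s) ≫ c.ι.app i
    rw [Category.assoc, hs, Category.id_comp]
    exact (Category.comp_id _).symm
  obtain ⟨k, b, a, hk⟩ := (Types.FilteredColimit.colimit_eq_iff F).1 e
  refine ⟨k, a, b, ?_⟩
  have hk' : 𝟙 (M.obj j) ≫ M.map b = (c.ι.app j ≫ s) ≫ M.map a := hk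
  rw [Category.id_comp, Category.assoc] at hk'
  exact hk'

end Groth.Agent.S6446
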