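import Groth.Statements.S6448
import Mathlib.Tactic

set_option autoImplicit false
open CategoryTheory
universe v u
open CatLim

namespace Groth.Agent.S6448


theorem cospan_of_zigzag {I : Type u} [Category.{v} I]
    (h1 : ∀ ⦃w x y : I⦄ (a : w ⟶ x) (b : w ⟶ y), ∃ (z : I) (c : x ⟶ z) (d : y ⟶ z), a ≫ c = b ≫ d)
    {x y : I} (h : Zigzag x y) : ∃ (z : I), Nonempty (x ⟶ z) ∧ Nonempty (y ⟶ z) := by
  induction h with
  | refl => exact ⟨x, ⟨𝟙 x⟩, ⟨𝟙 x⟩⟩
  | tail _ hz ih =>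
    obtain ⟨z, ⟨f⟩, ⟨g⟩⟩ := ih
    rcases hz with ⟨⟨k⟩⟩ | ⟨⟨k⟩⟩
    · obtain ⟨t, c, d, -⟩ := h1 g k
      exact ⟨t, ⟨f ≫ c⟩, ⟨d⟩⟩
    · exact ⟨z, ⟨f⟩, ⟨k ≫ g⟩⟩

/-- In a category where spans complete to commutative squares and parallel pairs are coequalized by a
later arrow, every connected component is filtered (so the category is a disjoint union of filtered
categories). -/
theorem result {I : Type u} [Category.{v} I]
    (h1 : ∀ ⦃w x y : I⦄ (a : w ⟶ x) (b : w ⟶ y), ∃ (z : I) (c : x ⟶ z) (d : y ⟶ z), a ≫ c = b ≫ d)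
    (h2 : ∀ ⦃x y : I⦄ (a b : x ⟶ y), ∃ (z : I) (c : y ⟶ z), a ≫ c = b ≫ c)
    (j : ConnectedComponents I) : IsFiltered j.Component := by
  have hfe : IsFilteredOrEmpty j.Component := by
    refine ⟨?_, ?_⟩
    · rintro ⟨X, hX⟩ ⟨Y, hY⟩
      have hz : Zigzag X Y := Quotient.exact' (hX.trans hY.symm)
      obtain ⟨z, ⟨f⟩, ⟨g⟩⟩ := cospan_of_zigzag h1 hz
      have hZ : j.objectProperty z := by
        have : Zigzag z X := Relation.ReflTransGen.single (Zag.of_inv f)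
        exact (Quotient.sound' this).trans hX
      exact ⟨⟨z, hZ⟩, ObjectProperty.homMk f, ObjectProperty.homMk g, trivial⟩
    · rintro ⟨X, hX⟩ ⟨Y, hY⟩ f g
      obtain ⟨z, c, hc⟩ := h2 f.hom g.hom
      have hZ : j.objectProperty z := by
        have : Zigzag z Y := Relation.ReflTransGen.single (Zag.of_inv c)
        exact (Quotient.sound' this).trans hY
      refine ⟨⟨z, hZ⟩, ObjectProperty.homMk c, ?_⟩
      ext
      exact hc
  exact { toIsFilteredOrEmpty := hfe, nonempty := inferInstance }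

end Groth.Agent.S6448
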