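import Groth.Statements.S6457
import Mathlib

set_option autoImplicit false
universe u
open CategoryTheory AlgebraicGeometry
open Cyc

namespace Groth.Agent.S6457

/-- Let f : X → Y be a quasi-compact morphism of schemes and {Z_i} a locally finite collection of closed
subsets of X. Then the closures of the images f(Z_i) form a locally finite collection of closed
subsets of Y. (The published statement takes X and Y locally of finite type over a base; this row
allows arbitrary schemes, only quasi-compactness of f being used.) -/
theorem result (X Y : Scheme.{u}) (f : X ⟶ Y) [QuasiCompact f] (ι : Type u) (Z : ι → Set X) (hZ : ∀ i, IsClosed (Z i)) (hlf : LocallyFinite Z) : LocallyFinite (fun i => closure (f '' Z i)) := by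
  intro y
  obtain ⟨V, hV, hyV, -⟩ := exists_isAffineOpen_mem_and_subset (x := y) (U := ⊤) trivial
  have hc : IsCompact ((f ⁻¹ᵁ V : X.Opens) : Set X) :=
    QuasiCompact.isCompact_preimage (f := f) _ V.isOpen hV.isCompact
  have hfin := hlf.finite_nonempty_inter_compact hc
  refine ⟨V, V.isOpen.mem_nhds hyV, hfin.subset ?_⟩
  rintro i ⟨z, hz1, hz2⟩
  -- the open V meets closure (f '' Z i), hence meets f '' Z i
  have hne : (f '' Z i ∩ (V : Set Y)).Nonempty := by
    by_contra hcon
    rw [Set.not_nonempty_iff_eq_empty] at hcon
    have hsub : f '' Z i ⊆ (V : Set Y)ᶜ := by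
      intro w hw hwV
      have : w ∈ f '' Z i ∩ (V : Set Y) := ⟨hw, hwV⟩
      rw [hcon] at this
      exact this
    have hcl : closure (f '' Z i) ⊆ (V : Set Y)ᶜ :=
      closure_minimal hsub V.isOpen.isClosed_compl
    exact hcl hz1 hz2
  obtain ⟨_, ⟨x, hxZ, rfl⟩, hxV⟩ := hne
  exact ⟨x, hxZ, hxV⟩

end Groth.Agent.S6457
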