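import Groth.Statements.S6459
-- import your own Groth.Agent.* helpers here
import Groth.Agent.Lib.Helper7.DimFun.Codim1

set_option autoImplicit false
universe u
open CategoryTheory AlgebraicGeometry
open Cyc

namespace Groth.Agent.S6459

/-- (b) ⇔ (c): let X be integral with generic point η and Z ⊂ X an integral closed subscheme with
generic point ξ. Then Z has codimension 1 in X (the local ring O_{X,ξ} is one-dimensional; Z is a
prime divisor) if and only if dim_δ(Z) = dim_δ(X) − 1. Here a pair (X, δ) with Cyc.IsSetup plays the
role of a scheme locally of finite type over the base (S, δ) (X locally Noetherian with universally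
catenary local rings, δ a dimension function). -/
theorem result (X : Scheme.{u}) [IsIntegral X] (δ : X → ℤ) (hX : Cyc.IsSetup X δ) (ξ : X) : ringKrullDim ↑(X.presheaf.stalk ξ) = 1 ↔ δ ξ = δ (genericPoint X) - 1 := by
  have hgen : ∀ z : X, genericPoint X ⤳ z := fun z =>
    (genericPoint_spec X).specializes (by trivial)
  have hdim := hX.2.2
  rw [Groth.Agent.Helper7.DimFun.ringKrullDim_stalk_eq_one_iff X ξ]
  constructor
  · rintro ⟨hne, himm⟩
    have h1 := hdim (genericPoint X) ξ (hgen ξ) (Ne.symm hne)
    have h2 := h1.2 himm
    omega
  · intro h
    have hne : ξ ≠ genericPoint X := by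
      intro heq
      rw [heq] at h
      omega
    refine ⟨hne, ?_⟩
    intro z hz1 hz2
    by_contra hcon
    push Not at hcon
    have h1 := (hdim (genericPoint X) z hz1 (Ne.symm hcon.1)).1
    have h2 := (hdim z ξ hz2 hcon.2).1
    omega

end Groth.Agent.S6459
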