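import Groth.Statements.S6458
-- import your own Groth.Agent.* helpers here
import Groth.Agent.S6459

set_option autoImplicit false
universe u
open CategoryTheory AlgebraicGeometry
open Cyc

namespace Groth.Agent.S6458

/-- Let X be integral with generic point η and ξ the generic point of an irreducible component of an
effective Cartier divisor on X; locally: g ∈ 𝔪_ξ ⊂ O_{X,ξ} is nonzero and O_{X,ξ}/(g) is
zero-dimensional. Then dim_δ of the closure of ξ is dim_δ(X) − 1, i.e. δ(ξ) = δ(η) − 1. Here a pair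
(X, δ) with Cyc.IsSetup plays the role of a scheme locally of finite type over the base (S, δ) (X
locally Noetherian with universally catenary local rings, δ a dimension function). -/
theorem result (X : Scheme.{u}) [IsIntegral X] (δ : X → ℤ) (hX : Cyc.IsSetup X δ) (ξ : X) (g : ↑(X.presheaf.stalk ξ)) (hg0 : g ≠ 0) (hgm : g ∈ IsLocalRing.maximalIdeal (X.presheaf.stalk ξ)) (hdim : ringKrullDim (↑(X.presheaf.stalk ξ) ⧸ Ideal.span {g}) = 0) : δ ξ = δ (genericPoint X) - 1 := by
  haveI : IsLocallyNoetherian X := hX.1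
  rw [← Groth.Agent.S6459.result X δ hX ξ]
  haveI : IsNoetherianRing (X.presheaf.stalk ξ) := inferInstance
  haveI : IsDomain (X.presheaf.stalk ξ) := inferInstance
  have hle : Ideal.span {g} ≤ IsLocalRing.maximalIdeal (X.presheaf.stalk ξ) := by
    rw [Ideal.span_le]
    intro y hy
    rw [Set.mem_singleton_iff] at hy
    rw [hy]
    exact hgm
  have h0 : Ring.KrullDimLE 0 ((X.presheaf.stalk ξ) ⧸ Ideal.span {g}) := by
    rw [Ring.krullDimLE_iff, hdim]
    exact le_rfl
  have hmin : IsLocalRing.maximalIdeal (X.presheaf.stalk ξ) ∈ (Ideal.span {g}).minimalPrimes := by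
    obtain ⟨p, hp, hpm⟩ := Ideal.exists_minimalPrimes_le hle
    have hpmax := Ideal.krullDimLE_zero_quotient_iff_forall_minimalPrimes_isMaximal.mp h0 p hp
    have : p = IsLocalRing.maximalIdeal (X.presheaf.stalk ξ) := IsLocalRing.eq_maximalIdeal hpmax
    rw [← this]
    exact hp
  have h1 : (IsLocalRing.maximalIdeal (X.presheaf.stalk ξ)).height ≤ 1 :=
    Ideal.height_le_one_of_isPrincipal_of_mem_minimalPrimes (Ideal.span {g}) _ hmin
  have hlt : (⊥ : Ideal (X.presheaf.stalk ξ)) < IsLocalRing.maximalIdeal (X.presheaf.stalk ξ) := by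
    rw [bot_lt_iff_ne_bot]
    intro hbot
    rw [hbot, Ideal.mem_bot] at hgm
    exact hg0 hgm
  haveI : (⊥ : Ideal (X.presheaf.stalk ξ)).IsPrime := Ideal.isPrime_bot
  have h2 : (1 : ℕ∞) ≤ (IsLocalRing.maximalIdeal (X.presheaf.stalk ξ)).height :=
    le_trans (by simp) (Ideal.height_add_one_le_of_lt_of_isPrime hlt)
  have h3 : (IsLocalRing.maximalIdeal (X.presheaf.stalk ξ)).height = 1 := le_antisymm h1 h2
  rw [← IsLocalRing.maximalIdeal_height_eq_ringKrullDim, h3]
  rfl

end Groth.Agent.S6458
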