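import Groth.Statements.S6464
import Mathlib

set_option autoImplicit false
universe u v
open CycAlg

namespace Groth.Agent.S6464

/-- Let (M, N, φ, ψ) be a 2-periodic complex over a ring R with M and N of finite length. Then its
cohomology modules have finite length and e_R(M, N, φ, ψ) = length_R(M) − length_R(N). (The case M =
N, where the conclusion reads e_R(M, φ, ψ) = 0, is the special case and is not restated.) -/
theorem result {R : Type u} [CommRing R] {M N : Type v} [AddCommGroup M] [Module R M] [AddCommGroup N] [Module R N] (φ : M →ₗ[R] N) (ψ : N →ₗ[R] M) (h : CycAlg.IsPeriodic φ ψ) (hM : Module.length R M < ⊤) (hN : Module.length R N < ⊤) : CycAlg.FinCoh R φ ψ ∧ CycAlg.herbrand R φ ψ = ((Module.length R M).toNat : ℤ) - ((Module.length R N).toNat : ℤ) := by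
  have key : ∀ {M N : Type v} [AddCommGroup M] [Module R M] [AddCommGroup N] [Module R N]
      (φ : M →ₗ[R] N) (ψ : N →ₗ[R] M) (h : φ ∘ₗ ψ = 0),
      Module.length R M = Module.length R (LinearMap.range ψ) + Module.length R (CycAlg.perH φ ψ)
        + Module.length R (LinearMap.range φ) := by
    intro M N _ _ _ _ φ ψ h
    have hle : LinearMap.range ψ ≤ LinearMap.ker φ := by
      rintro _ ⟨n, rfl⟩
      exact LinearMap.congr_fun h n
    have e1 : Module.length R M = Module.length R (LinearMap.ker φ)
        + Module.length R (LinearMap.range φ) :=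
      Module.length_eq_add_of_exact (LinearMap.ker φ).subtype φ.rangeRestrict
        (Submodule.subtype_injective _) φ.surjective_rangeRestrict
        (by
          rw [LinearMap.exact_iff]
          ext x
          simp)
    have e2 : Module.length R (LinearMap.ker φ) =
        Module.length R ((LinearMap.range ψ).submoduleOf (LinearMap.ker φ))
        + Module.length R (CycAlg.perH φ ψ) :=
      Module.length_eq_add_of_exact ((LinearMap.range ψ).submoduleOf (LinearMap.ker φ)).subtype
        ((LinearMap.range ψ).submoduleOf (LinearMap.ker φ)).mkQ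
        (Submodule.subtype_injective _) (Submodule.mkQ_surjective _)
        (by
          rw [LinearMap.exact_iff]
          simp)
    have e3 : Module.length R ((LinearMap.range ψ).submoduleOf (LinearMap.ker φ))
        = Module.length R (LinearMap.range ψ) :=
      (Submodule.submoduleOfEquivOfLe hle).length_eq
    rw [e1, e2, e3]
  have k1 := key φ ψ h.1
  have k2 := key ψ φ h.2
  have hne1 : Module.length R M ≠ ⊤ := hM.ne
  have hne2 : Module.length R N ≠ ⊤ := hN.ne
  have a1 : Module.length R (LinearMap.range ψ) ≠ ⊤ := by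
    intro hh; rw [hh] at k1; simp at k1; exact hne1 k1
  have a2 : Module.length R (CycAlg.perH φ ψ) ≠ ⊤ := by
    intro hh; rw [hh] at k1; simp at k1; exact hne1 k1
  have a3 : Module.length R (LinearMap.range φ) ≠ ⊤ := by
    intro hh; rw [hh] at k1; simp at k1; exact hne1 k1
  have a4 : Module.length R (CycAlg.perH ψ φ) ≠ ⊤ := by
    intro hh; rw [hh] at k2; simp at k2; exact hne2 k2
  refine ⟨⟨lt_top_iff_ne_top.mpr a2, lt_top_iff_ne_top.mpr a4⟩, ?_⟩
  unfold CycAlg.herbrand
  obtain ⟨m, hm⟩ := ENat.ne_top_iff_exists.mp hne1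
  obtain ⟨n, hn⟩ := ENat.ne_top_iff_exists.mp hne2
  obtain ⟨x1, hx1⟩ := ENat.ne_top_iff_exists.mp a1
  obtain ⟨x2, hx2⟩ := ENat.ne_top_iff_exists.mp a2
  obtain ⟨x3, hx3⟩ := ENat.ne_top_iff_exists.mp a3
  obtain ⟨x4, hx4⟩ := ENat.ne_top_iff_exists.mp a4
  rw [← hm, ← hx1, ← hx2, ← hx3] at k1
  rw [← hn, ← hx1, ← hx4, ← hx3] at k2
  rw [← hm, ← hn, ← hx2, ← hx4]
  simp only [ENat.toNat_natCast]
  have k1' : m = x1 + x2 + x3 := by exact_mod_cast k1
  have k2' : n = x3 + x4 + x1 := by exact_mod_cast k2
  omega

end Groth.Agent.S6464
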