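import Groth.Statements.S6476
import Mathlib
import Groth.Agent.Lib.Helper2.FinLen

set_option autoImplicit false
universe u v
open CycAlg

namespace Groth.Agent.S6476

/-- Let A be a Noetherian local ring, M a finite A-module of dimension 1, and φ, ψ : M → M injective
with φ(ψ(M)) = ψ(φ(M)) (e.g. φ, ψ commute). Then length_A(M/φψM) is finite and (M/φψM, φ, ψ) is an
exact (2, 1)-periodic complex; here φ', ψ' denote the endomorphisms of M/φψM induced by φ and ψ, and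
exactness says both cohomology modules (CycAlg.perH) are trivial. -/
theorem result {A : Type u} [CommRing A] [IsNoetherianRing A] [IsLocalRing A] {M : Type v} [AddCommGroup M] [Module A M] [Module.Finite A M] (hdim : Module.supportDim A M = 1) (φ ψ : M →ₗ[A] M) (hφ : Function.Injective φ) (hψ : Function.Injective ψ) (hcomm : Submodule.map φ (LinearMap.range ψ) = Submodule.map ψ (LinearMap.range φ)) (φ' ψ' : (M ⧸ LinearMap.range (φ ∘ₗ ψ)) →ₗ[A] (M ⧸ LinearMap.range (φ ∘ₗ ψ))) (hφ' : φ' ∘ₗ (LinearMap.range (φ ∘ₗ ψ)).mkQ = (LinearMap.range (φ ∘ₗ ψ)).mkQ ∘ₗ φ) (hψ' : ψ' ∘ₗ (LinearMap.range (φ ∘ₗ ψ)).mkQ = (LinearMap.range (φ ∘ₗ ψ)).mkQ ∘ₗ ψ) : Module.length A (M ⧸ LinearMap.range (φ ∘ₗ ψ)) < ⊤ ∧ CycAlg.IsPeriodic φ' ψ' ∧ Subsingleton (CycAlg.perH φ' ψ') ∧ Subsingleton (CycAlg.perH ψ' φ') := by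
  have hφ'a : ∀ m, φ' ((LinearMap.range (φ ∘ₗ ψ)).mkQ m) = (LinearMap.range (φ ∘ₗ ψ)).mkQ (φ m) := fun m => LinearMap.congr_fun hφ' m
  have hψ'a : ∀ m, ψ' ((LinearMap.range (φ ∘ₗ ψ)).mkQ m) = (LinearMap.range (φ ∘ₗ ψ)).mkQ (ψ m) := fun m => LinearMap.congr_fun hψ' m
  have hK1 : LinearMap.range (φ ∘ₗ ψ) = Submodule.map φ (LinearMap.range ψ) := by
    rw [LinearMap.range_comp]
  have hK2 : LinearMap.range (φ ∘ₗ ψ) = Submodule.map ψ (LinearMap.range φ) := hK1.trans hcomm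
  have hzero : ∀ x : M, (LinearMap.range (φ ∘ₗ ψ)).mkQ x = 0 ↔ x ∈ LinearMap.range (φ ∘ₗ ψ) := fun x => by
    simp [Submodule.Quotient.mk_eq_zero]
  refine ⟨?_, ⟨?_, ?_⟩, ?_, ?_⟩
  · have hinj : Function.Injective (φ ∘ₗ ψ) := by
      rw [LinearMap.coe_comp]
      exact hφ.comp hψ
    have := Groth.Agent.Helper2.FinLen.isFiniteLength_quotient_range (le_of_eq hdim) (φ ∘ₗ ψ) hinj
    exact lt_top_iff_ne_top.mpr (Module.length_ne_top_iff.mpr this)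
  · apply LinearMap.ext
    intro q
    obtain ⟨m, rfl⟩ := (LinearMap.range (φ ∘ₗ ψ)).mkQ_surjective q
    rw [LinearMap.comp_apply, hψ'a, hφ'a, LinearMap.zero_apply, hzero]
    exact ⟨m, rfl⟩
  · apply LinearMap.ext
    intro q
    obtain ⟨m, rfl⟩ := (LinearMap.range (φ ∘ₗ ψ)).mkQ_surjective q
    rw [LinearMap.comp_apply, hφ'a, hψ'a, LinearMap.zero_apply, hzero, hK2]
    exact ⟨φ m, ⟨m, rfl⟩, rfl⟩
  · rw [Submodule.Quotient.subsingleton_iff, Submodule.submoduleOf_eq_top]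
    intro q hq
    obtain ⟨m, rfl⟩ := (LinearMap.range (φ ∘ₗ ψ)).mkQ_surjective q
    rw [LinearMap.mem_ker, hφ'a, hzero] at hq
    obtain ⟨n, hn⟩ := hq
    rw [LinearMap.comp_apply] at hn
    have := hφ hn
    exact ⟨(LinearMap.range (φ ∘ₗ ψ)).mkQ n, by rw [hψ'a, this]⟩
  · rw [Submodule.Quotient.subsingleton_iff, Submodule.submoduleOf_eq_top]
    intro q hq
    obtain ⟨m, rfl⟩ := (LinearMap.range (φ ∘ₗ ψ)).mkQ_surjective q
    rw [LinearMap.mem_ker, hψ'a, hzero, hK2] at hq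
    obtain ⟨_, ⟨n, rfl⟩, hn⟩ := hq
    have := hψ hn
    exact ⟨(LinearMap.range (φ ∘ₗ ψ)).mkQ n, by rw [hφ'a, this]⟩

end Groth.Agent.S6476
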