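import Groth.Statements.S6481
import Groth.Agent.Lib.Helper8.GlueH1a
import Groth.Agent.Lib.Helper8.GlueH1b

set_option autoImplicit false
universe u
open CycAlg

namespace Groth.Agent.S6481

/-- Let (A, 𝔪) be a 2-dimensional Noetherian local ring, t ∈ 𝔪 a nonzerodivisor with V(t) = {𝔪, 𝔮_1, …,
𝔮_r}, and A_{𝔮_i} ⊂ B_i finite ring extensions with B_i/A_{𝔮_i} annihilated by a power of t and with
t a nonzerodivisor on each B_i. Then A admits some finite extension A ⊂ B whose quotient B/A is
killed by some power of t, such that for every i the localization B_{𝔮_i} = B ⊗_A A_{𝔮_i} is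
isomorphic to B_i (existence of an A_{𝔮_i}-algebra isomorphism; B itself is only asserted to exist).
(The published statement allows any finite ring extensions A_{𝔮_i} ⊂ B_i; this row asks t to be a
nonzerodivisor on each B_i, the case its proof treats, where B_i sits inside t^{-n}A_{𝔮_i}. The
published statement also makes B local with the same residue field as A; this row omits that
clause.) Finite extension with quotient killed by a power of t: CycAlg.IsFinExt with the ideal (t). -/
theorem result (A : Type u) [CommRing A] [IsNoetherianRing A] [IsLocalRing A] (hA : ringKrullDim A = 2) (t : A) (ht : t ∈ IsLocalRing.maximalIdeal A) (htnz : t ∈ nonZeroDivisors A) (r : ℕ) (q : Fin r → Ideal A) (hq : ∀ i, (q i).IsPrime) (hinj : Function.Injective q) (hqm : ∀ i, q i ≠ IsLocalRing.maximalIdeal A) (htq : ∀ i, t ∈ q i) (hV : ∀ p : Ideal A, p.IsPrime → t ∈ p → p = IsLocalRing.maximalIdeal A ∨ ∃ i, p = q i) (B : Fin r → Type u) [∀ i, CommRing (B i)] [∀ i, Algebra (Localization.AtPrime (q i)) (B i)] (hB : ∀ i, CycAlg.IsFinExt (Localization.AtPrime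 (q i)) (B i) (Ideal.span {algebraMap A (Localization.AtPrime (q i)) t})) (htB : ∀ i, IsSMulRegular (B i) (algebraMap A (Localization.AtPrime (q i)) t)) : ∃ (C : Type u) (_ : CommRing C) (_ : Algebra A C), CycAlg.IsFinExt A C (Ideal.span {t}) ∧ ∀ i, Nonempty (TensorProduct A (Localization.AtPrime (q i)) C ≃ₐ[Localization.AtPrime (q i)] B i) := by
  classical
  have hinjB : ∀ i, Function.Injective (algebraMap (Localization.AtPrime (q i)) (B i)) :=
    fun i => (hB i).1
  have hex : ∀ i, ∃ n : ℕ, ∀ r ∈ (Ideal.span {algebraMap A (Localization.AtPrime (q i)) t}) ^ n,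
      ∀ b : B i, r • b ∈ (algebraMap (Localization.AtPrime (q i)) (B i)).range :=
    fun i => (hB i).2.2
  choose nn hnn using hex
  let n : ℕ := ∑ i, nn i
  have hn_i : ∀ i, ∀ b : B i, ∃ α, algebraMap (Localization.AtPrime (q i)) (B i) α
      = algebraMap (Localization.AtPrime (q i)) (B i)
          (algebraMap A (Localization.AtPrime (q i)) (t ^ n)) * b := by
    intro i b
    have hle : nn i ≤ n := Finset.single_le_sum (fun _ _ => Nat.zero_le _) (Finset.mem_univ i)
    have hmem : algebraMap A (Localization.AtPrime (q i)) (t ^ n) ∈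
        (Ideal.span {algebraMap A (Localization.AtPrime (q i)) t}) ^ (nn i) := by
      rw [map_pow]
      exact Ideal.pow_le_pow_right hle (Ideal.pow_mem_pow (Ideal.mem_span_singleton_self _) n)
    obtain ⟨α, hα⟩ := RingHom.mem_range.mp (hnn i _ hmem b)
    exact ⟨α, by rw [hα, Algebra.smul_def]⟩
  obtain ⟨𝔠, hτ𝔠, h𝔠mul, h𝔠J, h𝔠surj⟩ := Groth.Agent.Helper8.GlueH1.exists_glue_ideal q (t ^ n)
    (fun k => Groth.Agent.Helper8.GlueH1.JI (Localization.AtPrime (q k)) (B k)
      (algebraMap A (Localization.AtPrime (q k)) (t ^ n)))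
    (fun k => Groth.Agent.Helper8.GlueH1.self_mem_JI _)
    (fun k => Groth.Agent.Helper8.GlueH1.JI_mul_le _ (hinjB k) (hn_i k))
    (fun i k hik => Groth.Agent.Helper8.GlueH1.exists_sep hA t htnz q hinj hqm htq hV n i k hik)
  have hu : IsUnit (algebraMap A (Localization.Away t) (t ^ n)) := by
    rw [map_pow]; exact (IsLocalization.Away.algebraMap_isUnit t).pow n
  have hinjL : Function.Injective (algebraMap A (Localization.Away t)) :=
    IsLocalization.injective _ (Submonoid.powers_le.mpr htnz)
  refine ⟨↥(Groth.Agent.Helper8.GlueH1.twSub (L := Localization.Away t) (t ^ n) 𝔠 hτ𝔠 h𝔠mul hu),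
    inferInstance, inferInstance, ⟨?_, ?_, ?_⟩, ?_⟩
  · intro a b h
    exact hinjL (congrArg Subtype.val h)
  · exact Groth.Agent.Helper8.GlueH1.finite_twSub hinjL
  · refine ⟨n, fun r hr b => ?_⟩
    rw [Ideal.span_singleton_pow, Ideal.mem_span_singleton'] at hr
    obtain ⟨e, rfl⟩ := hr
    refine ⟨e * Groth.Agent.Helper8.GlueH1.num b, ?_⟩
    apply Subtype.ext
    show algebraMap A (Localization.Away t) (e * Groth.Agent.Helper8.GlueH1.num b)
      = (e * t ^ n) • (b : Localization.Away t)
    rw [map_mul, Groth.Agent.Helper8.GlueH1.num_spec, Algebra.smul_def, map_mul]; ring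
  · intro i
    letI : Algebra A (B i) := ((algebraMap (Localization.AtPrime (q i)) (B i)).comp
      (algebraMap A (Localization.AtPrime (q i)))).toAlgebra
    haveI : IsScalarTower A (Localization.AtPrime (q i)) (B i) :=
      IsScalarTower.of_algebraMap_eq (fun _ => rfl)
    have hJ : ∀ c ∈ 𝔠, ∃ b : B i, algebraMap A (B i) (t ^ n) * b = algebraMap A (B i) c := by
      intro c hc
      obtain ⟨b, hb⟩ := h𝔠J i c hc
      exact ⟨b, hb.symm⟩
    have hreg : ∀ b b' : B i,
        algebraMap A (B i) (t ^ n) * b = algebraMap A (B i) (t ^ n) * b' → b = b' := by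
      intro b b' h
      have hr : IsSMulRegular (B i) ((algebraMap A (Localization.AtPrime (q i)) t) ^ n) :=
        (htB i).pow n
      apply hr
      show (algebraMap A (Localization.AtPrime (q i)) t) ^ n • b
        = (algebraMap A (Localization.AtPrime (q i)) t) ^ n • b'
      rw [Algebra.smul_def, Algebra.smul_def, ← map_pow]
      exact h
    have hloc : IsLocalizedModule (q i).primeCompl
        (Groth.Agent.Helper8.GlueH1.psi (hτ := hτ𝔠) (hmul := h𝔠mul) (hu := hu)
          hinjL hJ hreg).toLinearMap := by
      apply Groth.Agent.Helper8.GlueH1.isLocalizedModule_psi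
      · intro s hs
        exact (IsLocalization.map_units (Localization.AtPrime (q i))
          (⟨s, hs⟩ : (q i).primeCompl)).map (algebraMap (Localization.AtPrime (q i)) (B i))
      · intro b
        obtain ⟨α, hα⟩ := hn_i i b
        obtain ⟨s, hs, c, hc, hsc⟩ := h𝔠surj i α ⟨b, hα⟩
        refine ⟨s, hs, c, hc, ?_⟩
        show algebraMap (Localization.AtPrime (q i)) (B i)
            (algebraMap A (Localization.AtPrime (q i)) s)
          * (algebraMap (Localization.AtPrime (q i)) (B i)
            (algebraMap A (Localization.AtPrime (q i)) (t ^ n)) * b)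
          = algebraMap (Localization.AtPrime (q i)) (B i)
            (algebraMap A (Localization.AtPrime (q i)) c)
        rw [← hα, ← map_mul, hsc]
      · intro a ha
        have h0 : algebraMap A (Localization.AtPrime (q i)) a = 0 :=
          hinjB i (by rw [map_zero]; exact ha)
        obtain ⟨m, hm⟩ := (IsLocalization.map_eq_zero_iff (q i).primeCompl _ a).mp h0
        exact ⟨m, m.2, hm⟩
    exact Groth.Agent.Helper8.GlueH1.nonempty_algEquiv_of_isLocalizedModule (q i).primeCompl _ hloc

end Groth.Agent.S6481
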