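import Groth.Statements.S6484
import Mathlib

set_option autoImplicit false
universe u
open CategoryTheory AlgebraicGeometry
open CategoryTheory.Limits
open Cyc

namespace Groth.Agent.S6484

section
open CategoryTheory AlgebraicGeometry
open CategoryTheory.Limits

theorem key {P X' : Scheme.{u}} {K : Type u} [Field K] (q : P ⟶ X') (x' : X')
    (h : Spec (.of K) ⟶ P) (ι : X'.residueField x' ⟶ .of K) (hι : Function.Surjective ι.hom)
    (hq : h ≫ q = Spec.map ι ≫ X'.fromSpecResidueField x') :
    ∃ z : P, q z = x' ∧ Function.Surjective (q.residueFieldMap z).hom := by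
  have e : q (h (IsLocalRing.closedPoint K)) = x' := by
    have : (h ≫ q) (IsLocalRing.closedPoint K) = x' := by
      rw [hq]; simp
    simpa using this
  refine ⟨h (IsLocalRing.closedPoint K), e, ?_⟩
  have h1 : Spec.map (Scheme.descResidueField (Scheme.stalkClosedPointTo h)) ≫
      P.fromSpecResidueField (h (IsLocalRing.closedPoint K)) = h :=
    Scheme.descResidueField_stalkClosedPointTo_fromSpecResidueField K P h
  generalize Scheme.descResidueField (Scheme.stalkClosedPointTo h) = ψ at h1
  generalize h (IsLocalRing.closedPoint K) = z at *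
  have h2 : Spec.map ((X'.residueFieldCongr e).inv ≫ q.residueFieldMap z ≫ ψ) ≫
      X'.fromSpecResidueField x' = Spec.map ι ≫ X'.fromSpecResidueField x' := by
    rw [Spec.map_comp, Spec.map_comp, Category.assoc, Category.assoc]
    rw [Scheme.residueFieldCongr_inv, Scheme.residueFieldCongr_fromSpecResidueField]
    rw [Scheme.Hom.SpecMap_residueFieldMap_fromSpecResidueField, reassoc_of% h1, hq]
  have h3 : (X'.residueFieldCongr e).inv ≫ q.residueFieldMap z ≫ ψ = ι := by
    apply Spec.map_injective
    rw [← cancel_mono (X'.fromSpecResidueField x'), h2]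
  intro t
  have hinj : Function.Injective ψ.hom := ψ.hom.injective
  obtain ⟨s, hs⟩ := hι (ψ.hom t)
  refine ⟨(X'.residueFieldCongr e).inv.hom s, hinj ?_⟩
  rw [← hs, ← h3]
  rfl

theorem main (X X' Y : Scheme.{u}) (f : Y ⟶ X) (g : X' ⟶ X) (hcd : Cyc.IsCompletelyDecomposed f) :
    Cyc.IsCompletelyDecomposed (pullback.snd f g) := by
  intro x'
  obtain ⟨y, hy, hsurj⟩ := hcd (g x')
  have hbij : Function.Bijective (f.residueFieldMap y).hom :=
    ⟨(f.residueFieldMap y).hom.injective, hsurj⟩
  let eq : X.residueField (f y) ≅ Y.residueField y :=
    (RingEquiv.ofBijective _ hbij).toCommRingCatIso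
  have heq : eq.hom = f.residueFieldMap y := rfl
  let φ : Y.residueField y ⟶ X'.residueField x' :=
    eq.inv ≫ (X.residueFieldCongr hy).hom ≫ g.residueFieldMap x'
  have w : (Spec.map φ ≫ Y.fromSpecResidueField y) ≫ f = X'.fromSpecResidueField x' ≫ g := by
    rw [Category.assoc, ← Scheme.Hom.SpecMap_residueFieldMap_fromSpecResidueField,
      ← Scheme.Hom.SpecMap_residueFieldMap_fromSpecResidueField, ← Spec.map_comp_assoc]
    have : f.residueFieldMap y ≫ φ = (X.residueFieldCongr hy).hom ≫ g.residueFieldMap x' := by
      simp only [φ]
      rw [← heq, Iso.hom_inv_id_assoc]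
    rw [this, Spec.map_comp, Category.assoc, Scheme.residueFieldCongr_fromSpecResidueField]
  refine key (K := X'.residueField x') (pullback.snd f g) x' (pullback.lift _ _ w) (𝟙 _) (fun t => ⟨t, rfl⟩) ?_
  rw [pullback.lift_snd, Spec.map_id]
  exact (Category.id_comp _).symm


end


/-- If f : Y → X is completely decomposed (this prelude's Cyc.IsCompletelyDecomposed: over every point
of X lies a point of Y with trivial residue field extension) and g : X' → X is any morphism of
schemes, then the base change Y ×_X X' → X' is completely decomposed. Consequently the base change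
of an envelope (a proper completely decomposed morphism) is an envelope, properness being preserved
by base change. (The published envelope statement takes X′ → X between schemes locally of finite
type over a base; this row allows any g.) -/
theorem result (X X' Y : Scheme.{u}) (f : Y ⟶ X) (g : X' ⟶ X) (hcd : Cyc.IsCompletelyDecomposed f) : Cyc.IsCompletelyDecomposed (pullback.snd f g) := by
  classical
  exact main X X' Y f g hcd

end Groth.Agent.S6484
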