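import Groth.Statements.S6501
import Mathlib

set_option autoImplicit false
universe u
open DPow

namespace Groth.Agent.S6501

section
open scoped BigOperators TensorProduct

variable {A : Type u} [CommRing A] [IsAddTorsionFree A]

theorem fact_cancel (n : ℕ) (a b : A) (h : (n.factorial : A) * a = (n.factorial : A) * b) :
    a = b := by
  have h2 : n.factorial • a = n.factorial • b := by simpa [nsmul_eq_mul] using h
  exact IsAddTorsionFree.nsmul_right_injective (Nat.factorial_ne_zero n) h2

/-- the predicate: all powers divisible by factorials inside I -/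
def Q (I : Ideal A) (x : A) : Prop :=
  ∀ n : ℕ, ∃ y : A, (n ≠ 0 → y ∈ I) ∧ (n.factorial : A) * y = x ^ n

theorem Q_zero (I : Ideal A) : Q I (0 : A) := by
  intro n
  by_cases hn : n = 0
  · subst hn; exact ⟨1, fun h => absurd rfl h, by simp⟩
  · exact ⟨0, fun _ => I.zero_mem, by simp [hn]⟩

theorem Q_smul (I : Ideal A) (c x : A) (hx : Q I x) : Q I (c * x) := by
  intro n
  obtain ⟨y, hy1, hy2⟩ := hx n
  refine ⟨c ^ n * y, fun h => I.mul_mem_left _ (hy1 h), ?_⟩
  rw [mul_pow, ← hy2]; ring

theorem Q_add (I : Ideal A) (x y : A) (hx : Q I x) (hy : Q I y) : Q I (x + y) := by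
  intro n
  choose a ha1 ha2 using hx
  choose b hb1 hb2 using hy
  refine ⟨∑ k ∈ Finset.range (n + 1), a k * b (n - k), ?_, ?_⟩
  · intro hn
    apply Ideal.sum_mem
    intro k hk
    by_cases hk0 : k = 0
    · have : n - k ≠ 0 := by omega
      exact I.mul_mem_left _ (hb1 _ this)
    · exact I.mul_mem_right _ (ha1 _ hk0)
  · rw [add_pow, Finset.mul_sum]
    apply Finset.sum_congr rfl
    intro k hk
    have hk' : k ≤ n := by
      rw [Finset.mem_range] at hk; omega
    rw [← ha2 k, ← hb2 (n - k), ← Nat.choose_mul_factorial_mul_factorial hk']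
    push_cast
    ring

theorem Q_of_span (I : Ideal A) (S : Set A) (hS : Ideal.span S = I)
    (h : ∀ x ∈ S, ∀ n : ℕ, 1 ≤ n → x ^ n ∈ Ideal.span {(Nat.factorial n : A)} * I) :
    ∀ x ∈ I, Q I x := by
  intro x hx
  rw [← hS] at hx
  induction hx using Submodule.span_induction with
  | mem x hx =>
    intro n
    by_cases hn : n = 0
    · subst hn; exact ⟨1, fun h => absurd rfl h, by simp⟩
    · have := h x hx n (by omega)
      rw [Ideal.mem_span_singleton_mul] at this
      obtain ⟨z, hz, hz2⟩ := this
      exact ⟨z, fun _ => hz, hz2⟩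
  | zero => exact Q_zero I
  | add x y _ _ hx hy => exact Q_add I x y hx hy
  | smul c x _ hx => exact Q_smul I c x hx

theorem main {A : Type u} [CommRing A] [IsAddTorsionFree A] (I : Ideal A) :
    Subsingleton (DividedPowers I) ∧
    (Nonempty (DividedPowers I) ↔ ∃ S : Set A, Ideal.span S = I ∧
      ∀ x ∈ S, ∀ n : ℕ, 1 ≤ n → x ^ n ∈ Ideal.span {(Nat.factorial n : A)} * I) := by
  classical
  refine ⟨⟨fun hI hI' => ?_⟩, ⟨?_, ?_⟩⟩
  · apply DividedPowers.ext
    intro n x hx
    apply fact_cancel n
    rw [DividedPowers.factorial_mul_dpow_eq_pow hI hx, DividedPowers.factorial_mul_dpow_eq_pow hI' hx]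
  · rintro ⟨hI⟩
    refine ⟨(I : Set A), Ideal.span_eq I, ?_⟩
    intro x hx n hn
    rw [← DividedPowers.factorial_mul_dpow_eq_pow hI hx]
    exact Ideal.mul_mem_mul (Ideal.mem_span_singleton_self _) (hI.dpow_mem (by omega) hx)
  · rintro ⟨S, hS, h⟩
    have hQ := Q_of_span I S hS h
    let f : A →+* (ℚ ⊗[ℤ] A) := (Algebra.TensorProduct.includeRight : A →ₐ[ℤ] ℚ ⊗[ℤ] A).toRingHom
    have hf : Function.Injective f :=
      Algebra.TensorProduct.includeRight_injective (R := ℤ) (A := ℚ) (B := A)
        (RingHom.injective_int (algebraMap ℤ ℚ))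
    refine ⟨DividedPowers.ofInjective I (I.map f) f hf
      (DividedPowers.RatAlgebra.dividedPowers (I.map f)) rfl ?_⟩
    intro n x hx
    obtain ⟨y, hy1, hy2⟩ := hQ x hx n
    refine ⟨y, hy1, ?_⟩
    rw [DividedPowers.RatAlgebra.dpow_apply, if_pos (Ideal.mem_map_of_mem f hx)]
    have hu : IsUnit ((n.factorial : ℕ) : ℚ ⊗[ℤ] A) :=
      IsUnit.natCast_factorial_of_algebra ℚ n
    rw [eq_comm, Ring.inverse_mul_eq_iff_eq_mul _ _ _ hu, ← map_pow, ← hy2, map_mul, map_natCast]


end


/-- Let A be a commutative ring whose additive group is torsion free and I an ideal of A. Then I carries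
at most one divided power structure, and it carries one if and only if I is generated by a set S
such that for every x in S and every n ≥ 1 the power x^n lies in the ideal generated by the products
of n! with elements of I. -/
theorem result {A : Type u} [CommRing A] [IsAddTorsionFree A] (I : Ideal A) :
    Subsingleton (DividedPowers I) ∧
    (Nonempty (DividedPowers I) ↔ ∃ S : Set A, Ideal.span S = I ∧
      ∀ x ∈ S, ∀ n : ℕ, 1 ≤ n → x ^ n ∈ Ideal.span {(Nat.factorial n : A)} * I) := by
  classical
  exact main I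

end Groth.Agent.S6501
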