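import Groth.Statements.S6575
import Mathlib
import Groth.Agent.S17662

set_option autoImplicit false
universe u
open Curves

namespace Groth.Agent.S6575

section

open Groth.Agent.S17662

variable (k : Type u) [Field k] (n : ℕ)

/-- the Jacobian matrix -/
noncomputable def Jac {m : ℕ} (f : Fin m → MvPowerSeries (Fin n) k) :
    Matrix (Fin m) (Fin n) (MvPowerSeries (Fin n) k) :=
  Matrix.of fun (j : Fin m) (i : Fin n) => MvPowerSeries.pderiv k i (f j)

theorem one_dir (m l r : ℕ)
    (f : Fin m → MvPowerSeries (Fin n) k) (g : Fin l → MvPowerSeries (Fin n) k)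
    (hfg : Ideal.span (Set.range f) = Ideal.span (Set.range g)) :
    Ideal.span {d : MvPowerSeries (Fin n) k | ∃ (ρ : Fin r → Fin m) (γ : Fin r → Fin n), Function.Injective ρ ∧ Function.Injective γ ∧
          d = ((Jac k n f).submatrix ρ γ).det} ⊔ Ideal.span (Set.range f) ≤
      Ideal.span {d : MvPowerSeries (Fin n) k | ∃ (ρ : Fin r → Fin l) (γ : Fin r → Fin n), Function.Injective ρ ∧ Function.Injective γ ∧
          d = ((Jac k n g).submatrix ρ γ).det} ⊔ Ideal.span (Set.range g) := by
  classical
  apply sup_le
  swap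
  · rw [hfg]; exact le_sup_right
  rw [Ideal.span_le]
  rintro _ ⟨ρ, γ, hρ, hγ, rfl⟩
  -- coefficients
  have hex : ∀ j : Fin m, ∃ c : Fin l → MvPowerSeries (Fin n) k, ∑ s, c s • g s = f j := by
    intro j
    have : f j ∈ Ideal.span (Set.range g) := by
      rw [← hfg]; exact Ideal.subset_span ⟨j, rfl⟩
    exact (Submodule.mem_span_range_iff_exists_fun _).mp this
  choose a ha using hex
  let amat : Matrix (Fin m) (Fin l) (MvPowerSeries (Fin n) k) := Matrix.of fun j s => a j s
  let π := Ideal.Quotient.mk (Ideal.span (Set.range g))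
  have hJ : (Jac k n f).map π = (amat.map π) * ((Jac k n g).map π) := by
    ext j i
    simp only [Matrix.map_apply, Matrix.mul_apply, Jac, Matrix.of_apply, amat]
    rw [← ha j, map_sum, map_sum]
    apply Finset.sum_congr rfl
    intro s _
    rw [smul_eq_mul, Derivation.leibniz, map_add, smul_eq_mul, smul_eq_mul, map_mul, map_mul]
    have : π (g s) = 0 := Ideal.Quotient.eq_zero_iff_mem.mpr (Ideal.subset_span ⟨s, rfl⟩)
    rw [this, zero_mul, add_zero]
  -- the combination
  let comb : MvPowerSeries (Fin n) k :=
    ∑ S : {s : Finset (Fin l) // s.card = r},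
      (amat.submatrix ρ (S.1.orderEmbOfFin S.2)).det * ((Jac k n g).submatrix (S.1.orderEmbOfFin S.2) γ).det
  have hπ : π (((Jac k n f).submatrix ρ γ).det) = π comb := by
    rw [RingHom.map_det, RingHom.mapMatrix_apply, ← Matrix.submatrix_map, hJ]
    have h1 : (amat.map π * (Jac k n g).map π).submatrix ρ γ =
        ((amat.map π).submatrix ρ id) * (((Jac k n g).map π).submatrix id γ) :=
      Matrix.submatrix_mul _ _ ρ id γ Function.bijective_id
    rw [h1, cauchy_binet]
    simp only [comb, map_sum, map_mul, RingHom.map_det, RingHom.mapMatrix_apply]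
    rfl
  have hdiff : ((Jac k n f).submatrix ρ γ).det - comb ∈ Ideal.span (Set.range g) := by
    rw [← Ideal.Quotient.eq_zero_iff_mem, map_sub, hπ, sub_self]
  have : ((Jac k n f).submatrix ρ γ).det = (((Jac k n f).submatrix ρ γ).det - comb) + comb := by ring
  rw [SetLike.mem_coe, this]
  apply add_mem
  · exact Ideal.mem_sup_right hdiff
  · apply Ideal.mem_sup_left
    apply Ideal.sum_mem
    intro S _
    apply Ideal.mul_mem_left
    apply Ideal.subset_span
    exact ⟨S.1.orderEmbOfFin S.2, γ, (S.1.orderEmbOfFin S.2).injective, hγ, rfl⟩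

theorem main (m l r : ℕ)
    (f : Fin m → MvPowerSeries (Fin n) k) (g : Fin l → MvPowerSeries (Fin n) k)
    (hfg : Ideal.span (Set.range f) = Ideal.span (Set.range g)) :
    Ideal.span {d : MvPowerSeries (Fin n) k | ∃ (ρ : Fin r → Fin m) (γ : Fin r → Fin n), Function.Injective ρ ∧ Function.Injective γ ∧
          d = ((Matrix.of fun (j : Fin m) (i : Fin n) => MvPowerSeries.pderiv k i (f j)).submatrix ρ γ).det} ⊔ Ideal.span (Set.range f) =
      Ideal.span {d : MvPowerSeries (Fin n) k | ∃ (ρ : Fin r → Fin l) (γ : Fin r → Fin n), Function.Injective ρ ∧ Function.Injective γ ∧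
          d = ((Matrix.of fun (j : Fin l) (i : Fin n) => MvPowerSeries.pderiv k i (g j)).submatrix ρ γ).det} ⊔ Ideal.span (Set.range g) :=
  le_antisymm (one_dir k n m l r f g hfg) (one_dir k n l m r g f hfg.symm)


end


/-- Let k be a field, A = k[[x_1, …, x_n]] and I ⊆ A an ideal generated by f_1, …, f_m and also by g_1,
…, g_l. Then for every r ≥ 0 the ideal of A/I generated by the r × r minors of (∂f_j/∂x_i) equals
the one generated by the r × r minors of (∂g_s/∂x_i); stated in A as equality of the ideals
generated by the minors together with I. (The published result also asserts independence of the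
regular system of parameters x_1, …, x_n, which is not stated here.) -/
theorem result (k : Type u) [Field k] (n m l r : ℕ)
    (f : Fin m → MvPowerSeries (Fin n) k) (g : Fin l → MvPowerSeries (Fin n) k)
    (hfg : Ideal.span (Set.range f) = Ideal.span (Set.range g)) :
    Ideal.span {d : MvPowerSeries (Fin n) k | ∃ (ρ : Fin r → Fin m) (γ : Fin r → Fin n), Function.Injective ρ ∧ Function.Injective γ ∧
          d = ((Matrix.of fun (j : Fin m) (i : Fin n) => MvPowerSeries.pderiv k i (f j)).submatrix ρ γ).det} ⊔ Ideal.span (Set.range f) =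
      Ideal.span {d : MvPowerSeries (Fin n) k | ∃ (ρ : Fin r → Fin l) (γ : Fin r → Fin n), Function.Injective ρ ∧ Function.Injective γ ∧
          d = ((Matrix.of fun (j : Fin l) (i : Fin n) => MvPowerSeries.pderiv k i (g j)).submatrix ρ γ).det} ⊔ Ideal.span (Set.range g) := by
  classical
  exact main k n m l r f g hfg

end Groth.Agent.S6575
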