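import Groth.Statements.S6580
import Mathlib.CategoryTheory.Triangulated.Pretriangulated
import Mathlib.Tactic

set_option autoImplicit false
universe v u
open CategoryTheory CategoryTheory.Limits
open CohDer

namespace Groth.Agent.S6580

theorem ring_idem {R : Type*} [Ring R] (e : R) (h : (e * e - e) * (e * e - e) = 0) :
    (3 • (e * e) - 2 • (e * e * e)) * (3 • (e * e) - 2 • (e * e * e))
      = 3 • (e * e) - 2 • (e * e * e) := by
  have key : (3 • (e * e) - 2 • (e * e * e)) * (3 • (e * e) - 2 • (e * e * e))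
      - (3 • (e * e) - 2 • (e * e * e))
      = -(((e * e - e) * (e * e - e)) * ((3 - 2 * e) * (1 + 2 * e))) := by
    noncomm_ring
  rw [h, zero_mul, neg_zero, sub_eq_zero] at key
  exact key

open CategoryTheory.Pretriangulated in

/-- Let (X, Y, Z, f, g, h) be a distinguished triangle of a pretriangulated category, and let a : X ⟶ X
and c : Z ⟶ Z be idempotents with h ≫ a⟦1⟧ = c ≫ h. Then there is an idempotent b : Y ⟶ Y such that
(a, b, c) is an endomorphism of the triangle. -/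
theorem result {D : Type u} [Category.{v} D] [Preadditive D] [HasZeroObject D] [HasShift D ℤ]
    [∀ n : ℤ, (shiftFunctor D n).Additive] [Pretriangulated D]
    (T : Triangle D) (hT : T ∈ distinguishedTriangles) (a : T.obj₁ ⟶ T.obj₁) (c : T.obj₃ ⟶ T.obj₃)
    (ha : a ≫ a = a) (hc : c ≫ c = c) (comm : T.mor₃ ≫ (shiftFunctor D (1 : ℤ)).map a = c ≫ T.mor₃) :
    ∃ b : T.obj₂ ⟶ T.obj₂, b ≫ b = b ∧ T.mor₁ ≫ b = a ≫ T.mor₁ ∧ T.mor₂ ≫ c = b ≫ T.mor₂ := by
  obtain ⟨b₀, hb1, hb2⟩ := Pretriangulated.complete_distinguished_triangle_morphism₂ T T hT hT a c comm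
  -- `d = b₀² - b₀` squares to zero
  set d : T.obj₂ ⟶ T.obj₂ := b₀ ≫ b₀ - b₀ with hd
  have hfd : T.mor₁ ≫ d = 0 := by
    rw [hd, Preadditive.comp_sub, ← Category.assoc, hb1, Category.assoc, hb1, ← Category.assoc, ha,
      sub_self]
  have hdg : d ≫ T.mor₂ = 0 := by
    rw [hd, Preadditive.sub_comp, Category.assoc, ← hb2, ← Category.assoc, ← hb2, Category.assoc, hc,
      sub_self]
  obtain ⟨d', hd'⟩ := Pretriangulated.Triangle.coyoneda_exact₂ T hT d hdg
  obtain ⟨d'', hd''⟩ := Pretriangulated.Triangle.yoneda_exact₂ T hT d hfd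
  have hdd : d ≫ d = 0 := by
    have e : d ≫ d = d' ≫ (T.mor₁ ≫ d) := by rw [← Category.assoc, ← hd']
    rw [e, hfd, comp_zero]
  -- work in the endomorphism ring
  let e₀ : End T.obj₂ := b₀
  have hring := ring_idem (R := End T.obj₂) e₀ (by
    change (b₀ ≫ b₀ - b₀) ≫ (b₀ ≫ b₀ - b₀) = 0
    exact hdd)
  refine ⟨3 • (b₀ ≫ b₀) - 2 • (b₀ ≫ b₀ ≫ b₀), ?_, ?_, ?_⟩
  · have e : (3 • (e₀ * e₀) - 2 • (e₀ * e₀ * e₀) : End T.obj₂)
        = (3 • (b₀ ≫ b₀) - 2 • (b₀ ≫ b₀ ≫ b₀) : T.obj₂ ⟶ T.obj₂) := by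
      simp only [End.mul_def, Category.assoc, e₀]
    rw [e] at hring
    exact hring
  · have h1 : T.mor₁ ≫ b₀ ≫ b₀ = a ≫ T.mor₁ := by
      rw [← Category.assoc, hb1, Category.assoc, hb1, ← Category.assoc, ha]
    have h2 : T.mor₁ ≫ b₀ ≫ b₀ ≫ b₀ = a ≫ T.mor₁ := by
      rw [← Category.assoc, hb1, Category.assoc, h1, ← Category.assoc, ha]
    rw [Preadditive.comp_sub, Preadditive.comp_nsmul, Preadditive.comp_nsmul, h1, h2]
    abel
  · have h1 : b₀ ≫ b₀ ≫ T.mor₂ = T.mor₂ ≫ c := by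
      rw [← hb2, ← Category.assoc, ← hb2, Category.assoc, hc]
    have h2 : b₀ ≫ b₀ ≫ b₀ ≫ T.mor₂ = T.mor₂ ≫ c := by
      rw [h1, ← Category.assoc, ← hb2, Category.assoc, hc]
    rw [Preadditive.sub_comp, Preadditive.nsmul_comp, Preadditive.nsmul_comp, Category.assoc,
      Category.assoc, Category.assoc, h2, h1]
    abel

end Groth.Agent.S6580
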