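import Groth.Statements.S6581
import Mathlib

set_option autoImplicit false
universe v u
open CategoryTheory CategoryTheory.Limits
open CohDer

namespace Groth.Agent.S6581

section
open CategoryTheory.Pretriangulated
variable {D : Type u} [Category.{v} D] [Preadditive D] [HasZeroObject D] [HasShift D ℤ]
    [∀ n : ℤ, (shiftFunctor D n).Additive] [Pretriangulated D]

/-- the direct sum triangle -/
noncomputable abbrev bt (T T' : Triangle D) : Triangle D :=
  Triangle.mk (biprod.map T.mor₁ T'.mor₁) (biprod.map T.mor₂ T'.mor₂)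
    (biprod.desc (T.mor₃ ≫ (shiftFunctor D (1 : ℤ)).map biprod.inl)
      (T'.mor₃ ≫ (shiftFunctor D (1 : ℤ)).map biprod.inr))

lemma shift_decomp (X X' : D) :
    (shiftFunctor D (1 : ℤ)).map (biprod.fst : X ⊞ X' ⟶ X) ≫ (shiftFunctor D (1 : ℤ)).map biprod.inl +
      (shiftFunctor D (1 : ℤ)).map (biprod.snd : X ⊞ X' ⟶ X') ≫ (shiftFunctor D (1 : ℤ)).map biprod.inr = 𝟙 _ := by
  rw [← Functor.map_comp, ← Functor.map_comp, ← Functor.map_add, biprod.total, CategoryTheory.Functor.map_id]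

lemma inl_fst_shift (X X' : D) :
    (shiftFunctor D (1 : ℤ)).map (biprod.inl : X ⟶ X ⊞ X') ≫ (shiftFunctor D (1 : ℤ)).map biprod.fst = 𝟙 _ := by
  rw [← Functor.map_comp, biprod.inl_fst, CategoryTheory.Functor.map_id]

lemma inr_snd_shift (X X' : D) :
    (shiftFunctor D (1 : ℤ)).map (biprod.inr : X' ⟶ X ⊞ X') ≫ (shiftFunctor D (1 : ℤ)).map biprod.snd = 𝟙 _ := by
  rw [← Functor.map_comp, biprod.inr_snd, CategoryTheory.Functor.map_id]

lemma inl_snd_shift (X X' : D) :
    (shiftFunctor D (1 : ℤ)).map (biprod.inl : X ⟶ X ⊞ X') ≫ (shiftFunctor D (1 : ℤ)).map biprod.snd = 0 := by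
  rw [← Functor.map_comp, biprod.inl_snd, Functor.map_zero]

lemma inr_fst_shift (X X' : D) :
    (shiftFunctor D (1 : ℤ)).map (biprod.inr : X' ⟶ X ⊞ X') ≫ (shiftFunctor D (1 : ℤ)).map biprod.fst = 0 := by
  rw [← Functor.map_comp, biprod.inr_fst, Functor.map_zero]

set_option backward.defeqAttrib.useBackward true in
set_option backward.isDefEq.respectTransparency false in
lemma bt_distinguished (T T' : Triangle D) (hT : T ∈ distTriang D) (hT' : T' ∈ distTriang D) :
    bt T T' ∈ distTriang D := by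
  set f₁ := biprod.map T.mor₁ T'.mor₁ with hf₁
  obtain ⟨Z, f₂, f₃, hT''⟩ := distinguished_cocone_triangle f₁
  obtain ⟨c, hc₂, hc₃⟩ := complete_distinguished_triangle_morphism T _ hT hT''
      biprod.inl biprod.inl (by simp [hf₁])
  obtain ⟨c', hc₂', hc₃'⟩ := complete_distinguished_triangle_morphism T' _ hT' hT''
      biprod.inr biprod.inr (by simp [hf₁])
  dsimp at c hc₂ hc₃ c' hc₂' hc₃'
  set h : T.obj₃ ⊞ T'.obj₃ ⟶ Z := biprod.desc c c' with hh
  have c2 : biprod.map T.mor₂ T'.mor₂ ≫ h = f₂ := by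
    apply biprod.hom_ext' <;> simp [hh, hc₂, hc₂']
  have c3 : h ≫ f₃ = biprod.desc (T.mor₃ ≫ (shiftFunctor D (1 : ℤ)).map biprod.inl)
      (T'.mor₃ ≫ (shiftFunctor D (1 : ℤ)).map biprod.inr) := by
    apply biprod.hom_ext' <;> simp [hh, hc₃, hc₃']
  suffices IsIso h by
    refine isomorphic_distinguished _ hT'' _ ?_
    refine Triangle.isoMk _ _ (Iso.refl _) (Iso.refl _) (@asIso _ _ _ _ h this) ?_ ?_ ?_
    · simp [hf₁]
    · simp [c2]
    · simp [c3]
  refine isIso_of_coyoneda_map_bijective _ (fun A => ⟨?_, ?_⟩)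
  · suffices Epi h by
      intro a₁ a₂ ha
      simpa only [← cancel_epi h] using ha
    rw [Preadditive.epi_iff_cancel_zero]
    intro A a ha
    have h1 : f₂ ≫ a = 0 := by rw [← c2, Category.assoc, ha, comp_zero]
    obtain ⟨g, hg⟩ := Triangle.yoneda_exact₃ _ hT'' a h1
    dsimp at g hg
    have h3 : T.mor₃ ≫ ((shiftFunctor D (1 : ℤ)).map biprod.inl ≫ g) = 0 := by
      rw [← Category.assoc, hc₃, Category.assoc, ← hg]
      have : c = biprod.inl ≫ h := by simp [hh]
      rw [this, Category.assoc, ha, comp_zero]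
    have h3' : T'.mor₃ ≫ ((shiftFunctor D (1 : ℤ)).map biprod.inr ≫ g) = 0 := by
      rw [← Category.assoc, hc₃', Category.assoc, ← hg]
      have : c' = biprod.inr ≫ h := by simp [hh]
      rw [this, Category.assoc, ha, comp_zero]
    obtain ⟨β, hβ⟩ := Triangle.yoneda_exact₃ _ (rot_of_distTriang _ hT) _ h3
    obtain ⟨β', hβ'⟩ := Triangle.yoneda_exact₃ _ (rot_of_distTriang _ hT') _ h3'
    dsimp at β hβ β' hβ'
    have h5 : g = (shiftFunctor D (1:ℤ)).map f₁ ≫
        (- ((shiftFunctor D (1:ℤ)).map biprod.fst ≫ β + (shiftFunctor D (1:ℤ)).map biprod.snd ≫ β')) := by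
      have e1 : g = ((shiftFunctor D (1 : ℤ)).map biprod.fst ≫ (shiftFunctor D (1 : ℤ)).map biprod.inl +
        (shiftFunctor D (1 : ℤ)).map biprod.snd ≫ (shiftFunctor D (1 : ℤ)).map biprod.inr) ≫ g := by
        rw [shift_decomp, Category.id_comp]
      rw [e1, Preadditive.add_comp, Category.assoc, Category.assoc, hβ, hβ']
      simp only [Preadditive.comp_neg, Preadditive.neg_comp, Preadditive.comp_add, ← Category.assoc,
        ← Functor.map_comp, hf₁, biprod.map_fst, biprod.map_snd]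
      abel
    rw [hg, h5]
    have := comp_distTriang_mor_zero₃₁ _ hT''
    dsimp at this
    rw [reassoc_of% this, zero_comp]
  · intro b
    have h1 : f₁ ≫ (biprod.map T.mor₂ T'.mor₂ ≫ b) = 0 := by
      have e1 := comp_distTriang_mor_zero₁₂ _ hT
      have e2 := comp_distTriang_mor_zero₁₂ _ hT'
      apply biprod.hom_ext' <;> simp [hf₁, reassoc_of% e1, reassoc_of% e2]
    obtain ⟨a', ha'⟩ := Triangle.yoneda_exact₂ _ hT'' _ h1
    dsimp at a' ha'
    have h2 : T.mor₂ ≫ (biprod.inl ≫ (b - h ≫ a')) = 0 := by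
      have : T.mor₂ ≫ (biprod.inl : _ ⟶ T.obj₃ ⊞ T'.obj₃) = biprod.inl ≫ biprod.map T.mor₂ T'.mor₂ := by simp
      rw [reassoc_of% this, Preadditive.comp_sub, ha', reassoc_of% c2, sub_self, comp_zero]
    have h2' : T'.mor₂ ≫ (biprod.inr ≫ (b - h ≫ a')) = 0 := by
      have : T'.mor₂ ≫ (biprod.inr : _ ⟶ T.obj₃ ⊞ T'.obj₃) = biprod.inr ≫ biprod.map T.mor₂ T'.mor₂ := by simp
      rw [reassoc_of% this, Preadditive.comp_sub, ha', reassoc_of% c2, sub_self, comp_zero]
    obtain ⟨γ, hγ⟩ := Triangle.yoneda_exact₃ _ hT _ h2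
    obtain ⟨γ', hγ'⟩ := Triangle.yoneda_exact₃ _ hT' _ h2'
    refine ⟨a' + f₃ ≫ ((shiftFunctor D (1:ℤ)).map biprod.fst ≫ γ + (shiftFunctor D (1:ℤ)).map biprod.snd ≫ γ'), ?_⟩
    dsimp
    rw [Preadditive.comp_add, reassoc_of% c3]
    have : b - h ≫ a' = biprod.desc (T.mor₃ ≫ (shiftFunctor D (1 : ℤ)).map biprod.inl)
      (T'.mor₃ ≫ (shiftFunctor D (1 : ℤ)).map biprod.inr) ≫
        ((shiftFunctor D (1:ℤ)).map biprod.fst ≫ γ + (shiftFunctor D (1:ℤ)).map biprod.snd ≫ γ') := by
      apply biprod.hom_ext'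
      · rw [hγ, biprod.inl_desc_assoc, Category.assoc, Preadditive.comp_add,
          reassoc_of% inl_fst_shift, reassoc_of% inl_snd_shift, zero_comp, add_zero]
      · rw [hγ', biprod.inr_desc_assoc, Category.assoc, Preadditive.comp_add,
          reassoc_of% inr_fst_shift, reassoc_of% inr_snd_shift, zero_comp, zero_add]
    rw [← this]
    abel

set_option backward.defeqAttrib.useBackward true in
set_option backward.isDefEq.respectTransparency false in
lemma left_distinguished_aux (T T' T₀ T₀' : Triangle D) (hS : bt T T' ∈ distTriang D)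
    (hT₀ : T₀ ∈ distTriang D) (hT₀' : T₀' ∈ distTriang D)
    (a : T₀.obj₁ ≅ T.obj₁) (b : T₀.obj₂ ≅ T.obj₂) (comm : T₀.mor₁ ≫ b.hom = a.hom ≫ T.mor₁)
    (a' : T₀'.obj₁ ≅ T'.obj₁) (b' : T₀'.obj₂ ≅ T'.obj₂) (comm' : T₀'.mor₁ ≫ b'.hom = a'.hom ≫ T'.mor₁) :
    T ∈ distTriang D := by
  obtain ⟨u, hu₂, hu₃⟩ := complete_distinguished_triangle_morphism _ _ hT₀ hS
      (a.hom ≫ biprod.inl) (b.hom ≫ biprod.inl) (by simp [reassoc_of% comm])
  obtain ⟨u', hu₂', hu₃'⟩ := complete_distinguished_triangle_morphism _ _ hT₀' hS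
      (a'.hom ≫ biprod.inr) (b'.hom ≫ biprod.inr) (by simp [reassoc_of% comm'])
  dsimp at u hu₂ hu₃ u' hu₂' hu₃'
  have k1 : biprod.desc (T.mor₃ ≫ (shiftFunctor D (1 : ℤ)).map biprod.inl)
      (T'.mor₃ ≫ (shiftFunctor D (1 : ℤ)).map biprod.inr) ≫ (shiftFunctor D (1 : ℤ)).map biprod.fst =
      biprod.fst ≫ T.mor₃ := by
    apply biprod.hom_ext'
    · rw [biprod.inl_desc_assoc, Category.assoc, inl_fst_shift, Category.comp_id, biprod.inl_fst_assoc]
    · rw [biprod.inr_desc_assoc, Category.assoc, inr_fst_shift, comp_zero, biprod.inr_fst_assoc, zero_comp]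
  have k2 : biprod.desc (T.mor₃ ≫ (shiftFunctor D (1 : ℤ)).map biprod.inl)
      (T'.mor₃ ≫ (shiftFunctor D (1 : ℤ)).map biprod.inr) ≫ (shiftFunctor D (1 : ℤ)).map biprod.snd =
      biprod.snd ≫ T'.mor₃ := by
    apply biprod.hom_ext'
    · rw [biprod.inl_desc_assoc, Category.assoc, inl_snd_shift, comp_zero, biprod.inl_snd_assoc, zero_comp]
    · rw [biprod.inr_desc_assoc, Category.assoc, inr_snd_shift, Category.comp_id, biprod.inr_snd_assoc]
  set φ : T₀.obj₃ ⟶ T.obj₃ := u ≫ biprod.fst with hφ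
  set φ' : T₀'.obj₃ ⟶ T'.obj₃ := u' ≫ biprod.snd with hφ'
  have hφ₂ : T₀.mor₂ ≫ φ = b.hom ≫ T.mor₂ := by
    rw [hφ, reassoc_of% hu₂]; simp
  have hφ₃ : φ ≫ T.mor₃ = T₀.mor₃ ≫ (shiftFunctor D (1 : ℤ)).map a.hom := by
    rw [hφ, Category.assoc, ← k1, ← reassoc_of% hu₃, CategoryTheory.Functor.map_comp, Category.assoc,
      inl_fst_shift, Category.comp_id]
  have hφ₂' : T₀'.mor₂ ≫ φ' = b'.hom ≫ T'.mor₂ := by
    rw [hφ', reassoc_of% hu₂']; simp
  have hφ₃' : φ' ≫ T'.mor₃ = T₀'.mor₃ ≫ (shiftFunctor D (1 : ℤ)).map a'.hom := by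
    rw [hφ', Category.assoc, ← k2, ← reassoc_of% hu₃', CategoryTheory.Functor.map_comp, Category.assoc,
      inr_snd_shift, Category.comp_id]
  let Φ : bt T₀ T₀' ⟶ bt T T' :=
    { hom₁ := biprod.map a.hom a'.hom
      hom₂ := biprod.map b.hom b'.hom
      hom₃ := biprod.map φ φ'
      comm₁ := by
        dsimp
        apply biprod.hom_ext'
        · simp only [biprod.inl_map_assoc, biprod.inl_map, Category.assoc, reassoc_of% comm]
        · simp only [biprod.inr_map_assoc, biprod.inr_map, Category.assoc, reassoc_of% comm']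
      comm₂ := by
        dsimp
        apply biprod.hom_ext'
        · simp only [biprod.inl_map_assoc, biprod.inl_map, Category.assoc, reassoc_of% hφ₂]
        · simp only [biprod.inr_map_assoc, biprod.inr_map, Category.assoc, reassoc_of% hφ₂']
      comm₃ := by
        dsimp
        apply biprod.hom_ext'
        · simp only [biprod.inl_desc_assoc, Category.assoc, biprod.inl_map_assoc, biprod.inl_desc,
            ← CategoryTheory.Functor.map_comp, biprod.inl_map, reassoc_of% hφ₃]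
        · simp only [biprod.inr_desc_assoc, Category.assoc, biprod.inr_map_assoc, biprod.inr_desc,
            ← CategoryTheory.Functor.map_comp, biprod.inr_map, reassoc_of% hφ₃'] }
  have i1 : IsIso Φ.hom₁ := by
    change IsIso (biprod.mapIso a a').hom
    infer_instance
  have i2 : IsIso Φ.hom₂ := by
    change IsIso (biprod.mapIso b b').hom
    infer_instance
  have i3 : IsIso (biprod.map φ φ') :=
    isIso₃_of_isIso₁₂ Φ (bt_distinguished _ _ hT₀ hT₀') hS i1 i2
  have i4 : IsIso φ := by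
    refine ⟨biprod.inl ≫ inv (biprod.map φ φ') ≫ biprod.fst, ?_, ?_⟩
    · have : φ ≫ (biprod.inl : _ ⟶ T.obj₃ ⊞ T'.obj₃) = biprod.inl ≫ biprod.map φ φ' := by simp
      rw [reassoc_of% this, IsIso.hom_inv_id_assoc, biprod.inl_fst]
    · have : (biprod.fst : T₀.obj₃ ⊞ T₀'.obj₃ ⟶ _) ≫ φ = biprod.map φ φ' ≫ biprod.fst := by simp
      rw [Category.assoc, Category.assoc, this, IsIso.inv_hom_id_assoc, biprod.inl_fst]
  refine isomorphic_distinguished _ hT₀ _ (Iso.symm ?_)
  exact Triangle.isoMk _ _ a b (@asIso _ _ _ _ φ i4) comm hφ₂ hφ₃.symm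

set_option backward.defeqAttrib.useBackward true in
set_option backward.isDefEq.respectTransparency false in
lemma left_distinguished (T T' : Triangle D) (hS : bt T T' ∈ distTriang D) : T ∈ distTriang D := by
  obtain ⟨Z₀, g₀, h₀, hT₀⟩ := distinguished_cocone_triangle T.mor₁
  obtain ⟨Z₀', g₀', h₀', hT₀'⟩ := distinguished_cocone_triangle T'.mor₁
  exact left_distinguished_aux T T' _ _ hS hT₀ hT₀' (Iso.refl _) (Iso.refl _)
    (by simp)
    (Iso.refl _) (Iso.refl _) (by simp)

lemma inl_braiding (P Q : D) : biprod.inl ≫ (biprod.braiding P Q).hom = biprod.inr := by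
  apply biprod.hom_ext <;> simp

lemma inr_braiding (P Q : D) : biprod.inr ≫ (biprod.braiding P Q).hom = biprod.inl := by
  apply biprod.hom_ext <;> simp

set_option backward.defeqAttrib.useBackward true in
set_option backward.isDefEq.respectTransparency false in
noncomputable def btSwap (T T' : Triangle D) : bt T' T ≅ bt T T' :=
  Triangle.isoMk _ _ (biprod.braiding _ _) (biprod.braiding _ _) (biprod.braiding _ _)
    (biprod.braid_natural _ _)
    (biprod.braid_natural _ _)
    (by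
      dsimp only [Triangle.mk_mor₃, Triangle.mk_obj₁, Triangle.mk_obj₃]
      apply biprod.hom_ext'
      · rw [biprod.inl_desc_assoc, Category.assoc, ← CategoryTheory.Functor.map_comp, inl_braiding,
          reassoc_of% inl_braiding, biprod.inr_desc]
      · rw [biprod.inr_desc_assoc, Category.assoc, ← CategoryTheory.Functor.map_comp, inr_braiding,
          reassoc_of% inr_braiding, biprod.inl_desc])

end

open CategoryTheory.Pretriangulated in
/-- Let T = (X, Y, Z, f, g, h) and T' = (X', Y', Z', f', g', h') be triangles in a pretriangulated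
category. The direct sum triangle (X ⊞ X', Y ⊞ Y', Z ⊞ Z', f ⊕ f', g ⊕ g', h ⊕ h') (whose third map
Z ⊞ Z' ⟶ (X ⊞ X')⟦1⟧ has components h ≫ inl⟦1⟧ and h' ≫ inr⟦1⟧) is distinguished if and only if T
and T' are both distinguished. -/
theorem result {D : Type u} [Category.{v} D] [Preadditive D] [HasZeroObject D] [HasShift D ℤ]
    [∀ n : ℤ, (shiftFunctor D n).Additive] [Pretriangulated D]
    (T T' : Triangle D) :
    Triangle.mk (biprod.map T.mor₁ T'.mor₁) (biprod.map T.mor₂ T'.mor₂)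
        (biprod.desc (T.mor₃ ≫ (shiftFunctor D (1 : ℤ)).map biprod.inl) (T'.mor₃ ≫ (shiftFunctor D (1 : ℤ)).map biprod.inr)) ∈ distinguishedTriangles ↔
      (T ∈ distinguishedTriangles ∧ T' ∈ distinguishedTriangles) := by
  constructor
  · intro hS
    exact ⟨left_distinguished T T' hS,
      left_distinguished T' T (isomorphic_distinguished _ hS _ (btSwap T T'))⟩
  · rintro ⟨h1, h2⟩
    exact bt_distinguished T T' h1 h2

end Groth.Agent.S6581
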