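import Groth.Statements.S6584
import Mathlib.CategoryTheory.Triangulated.Subcategory
import Mathlib.CategoryTheory.Triangulated.HomologicalFunctor
import Mathlib.Tactic

set_option autoImplicit false
universe v u v' u'
open CategoryTheory CategoryTheory.Limits
open CohDer
open ZeroObject

namespace Groth.Agent.S6584

open CategoryTheory.Pretriangulated in
/-- Let H : D ⥤ A be a homological functor from a pretriangulated category to an abelian category. The
full subcategory of D on the objects X with H(X⟦n⟧) = 0 for all n ≫ 0 is a strictly full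
pretriangulated subcategory (zero object, stable under shifts and isomorphisms, closed under
extensions) and is saturated: if X ⊞ Y belongs to it then so do X and Y. -/
theorem result {D : Type u} [Category.{v} D] [Preadditive D] [HasZeroObject D] [HasShift D ℤ]
    [∀ n : ℤ, (shiftFunctor D n).Additive] [Pretriangulated D]
    {A : Type u'} [Category.{v'} A] [Abelian A] (H : D ⥤ A) [H.IsHomological] :
    (ObjectProperty.IsTriangulated (fun X : D => ∃ N : ℤ, ∀ n : ℤ, N ≤ n → IsZero (H.obj ((shiftFunctor D n).obj X)))) ∧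
    (ObjectProperty.IsClosedUnderIsomorphisms (fun X : D => ∃ N : ℤ, ∀ n : ℤ, N ≤ n → IsZero (H.obj ((shiftFunctor D n).obj X)))) ∧
    (∀ X Y : D, (∃ N : ℤ, ∀ n : ℤ, N ≤ n → IsZero (H.obj ((shiftFunctor D n).obj (X ⊞ Y)))) →
      (∃ N : ℤ, ∀ n : ℤ, N ≤ n → IsZero (H.obj ((shiftFunctor D n).obj X))) ∧
      (∃ N : ℤ, ∀ n : ℤ, N ≤ n → IsZero (H.obj ((shiftFunctor D n).obj Y)))) := by
  have hiso : ObjectProperty.IsClosedUnderIsomorphisms
      (fun X : D => ∃ N : ℤ, ∀ n : ℤ, N ≤ n → IsZero (H.obj ((shiftFunctor D n).obj X))) :=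
    ⟨fun e ⟨N, hN⟩ => ⟨N, fun n hn => (hN n hn).of_iso ((shiftFunctor D n ⋙ H).mapIso e.symm)⟩⟩
  refine ⟨?_, hiso, ?_⟩
  · exact
      { exists_zero := ⟨(0 : D), isZero_zero D, 0,
          fun n _ => (shiftFunctor D n ⋙ H).map_isZero (isZero_zero D)⟩
        toIsStableUnderShift := ⟨fun a => ⟨fun X ⟨N, hN⟩ => by
          refine ⟨N - a, fun n hn => ?_⟩
          exact (hN (a + n) (by omega)).of_iso (H.mapIso ((shiftFunctorAdd D a n).app X).symm)⟩⟩
        toIsTriangulatedClosed₂ :=
          ObjectProperty.IsTriangulatedClosed₂.mk' (fun T hT ⟨N₁, h₁⟩ ⟨N₃, h₃⟩ =>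
            ⟨max N₁ N₃, fun n hn =>
              (H.map_distinguished_exact _
                (Pretriangulated.Triangle.shift_distinguished T hT n)).isZero_of_both_zeros
                  ((h₁ n (le_trans (le_max_left _ _) hn)).eq_of_src _ _) ((h₃ n (le_trans (le_max_right _ _) hn)).eq_of_tgt _ _)⟩) }
  · rintro X Y ⟨N, hN⟩
    constructor
    · refine ⟨N, fun n hn => ?_⟩
      rw [IsZero.iff_id_eq_zero]
      have e : 𝟙 (H.obj ((shiftFunctor D n).obj X)) =
          (shiftFunctor D n ⋙ H).map (biprod.inl : X ⟶ X ⊞ Y) ≫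
            (shiftFunctor D n ⋙ H).map (biprod.fst : X ⊞ Y ⟶ X) := by
        rw [← Functor.map_comp, biprod.inl_fst, CategoryTheory.Functor.map_id]; rfl
      rw [e, (hN n hn).eq_of_tgt ((shiftFunctor D n ⋙ H).map (biprod.inl : X ⟶ X ⊞ Y)) 0, zero_comp]
    · refine ⟨N, fun n hn => ?_⟩
      rw [IsZero.iff_id_eq_zero]
      have e : 𝟙 (H.obj ((shiftFunctor D n).obj Y)) =
          (shiftFunctor D n ⋙ H).map (biprod.inr : Y ⟶ X ⊞ Y) ≫
            (shiftFunctor D n ⋙ H).map (biprod.snd : X ⊞ Y ⟶ Y) := by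
        rw [← Functor.map_comp, biprod.inr_snd, CategoryTheory.Functor.map_id]; rfl
      rw [e, (hN n hn).eq_of_tgt ((shiftFunctor D n ⋙ H).map (biprod.inr : Y ⟶ X ⊞ Y)) 0, zero_comp]

end Groth.Agent.S6584
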