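import Groth.Statements.S6585
import Mathlib

set_option autoImplicit false
universe v u
open CategoryTheory CategoryTheory.Limits
open CohDer

namespace Groth.Agent.S6585


open CategoryTheory.Pretriangulated in
/-- Let D be a triangulated category and E, K objects of D. Then Hom(E, K⟦i⟧) = 0 for all integers i if
and only if Hom(E', K) = 0 for every E' in ⟨E⟩, the smallest strictly full saturated triangulated
subcategory of D containing E (the objects obtained from E by shifts, finite direct sums, direct
summands and extensions). -/
theorem result {D : Type u} [Category.{v} D] [Preadditive D] [HasZeroObject D] [HasShift D ℤ]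
    [∀ n : ℤ, (shiftFunctor D n).Additive] [Pretriangulated D] [IsTriangulated D]
    (E K : D) :
    (∀ (i : ℤ) (f : E ⟶ (shiftFunctor D i).obj K), f = 0) ↔
      ∀ (E' : D), (ObjectProperty.singleton E).triangEnvelope E' → ∀ f : E' ⟶ K, f = 0 := by
  let P₀ : ObjectProperty D := (ObjectProperty.singleton K).shiftClosure ℤ
  let Q : ObjectProperty D := P₀.leftOrthogonal
  have hQr : Q.IsStableUnderRetracts := ⟨by
    intro X Y r hY Z f hZ
    have h1 : f = r.i ≫ (r.r ≫ f) := by rw [r.retract_assoc]
    rw [h1, hY (r.r ≫ f) hZ, comp_zero]⟩
  have hQt : Q.IsTriangulated := inferInstance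
  constructor
  · intro h E' hE' f
    have h1 : ObjectProperty.singleton E ≤ Q := by
      rw [ObjectProperty.singleton_le_iff]
      intro Y g hY
      obtain ⟨Y', a, e, hY'⟩ := hY
      rw [ObjectProperty.singleton_iff] at hY'
      subst hY'
      have := h a (g ≫ e.hom)
      rw [← cancel_mono e.hom, zero_comp]
      exact this
    have h2 := (ObjectProperty.triangEnvelope_le_iff (P := ObjectProperty.singleton E) (Q := Q)).2 h1
    exact h2 E' hE' f (ObjectProperty.le_shiftClosure (A := ℤ) _ K
      (by rw [ObjectProperty.singleton_iff]))
  · intro h i f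
    have h1 : (ObjectProperty.singleton E).triangEnvelope ((shiftFunctor D (-i)).obj E) :=
      ObjectProperty.le_shift (ObjectProperty.singleton E).triangEnvelope (-i) _
        (ObjectProperty.le_triangEnvelope _ _ (by rw [ObjectProperty.singleton_iff]))
    have h2 := h _ h1 ((shiftFunctor D (-i)).map f ≫ (shiftShiftNeg K i).hom)
    rw [← cancel_mono (shiftShiftNeg K i).inv, Category.assoc, zero_comp,
      Iso.hom_inv_id, Category.comp_id] at h2
    exact (shiftFunctor D (-i)).map_injective (by rw [h2, Functor.map_zero])

end Groth.Agent.S6585
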