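import Groth.Statements.S6586
import Mathlib.CategoryTheory.Triangulated.Orthogonal

set_option autoImplicit false
universe v u
open CategoryTheory CategoryTheory.Limits
open CohDer

namespace Groth.Agent.S6586

/-- Fix a triangulated category D together with an object E in it. Suppose E classically generates D,
i.e. ⟨E⟩ = D; then E is a generator of D: an object K with Hom(E, K⟦n⟧) = 0 for all n is zero. -/
theorem result {D : Type u} [Category.{v} D] [Preadditive D] [HasZeroObject D] [HasShift D ℤ]
    [∀ n : ℤ, (shiftFunctor D n).Additive] [Pretriangulated D] [IsTriangulated D]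
    (E : D) (hE : (ObjectProperty.singleton E).IsClassicalTriangulatedGenerator) :
    CohDer.Generates (fun _ : PUnit.{1} => E) := by
  intro K hK
  let P₀ : ObjectProperty D := (ObjectProperty.singleton K).shiftClosure ℤ
  let Q : ObjectProperty D := P₀.leftOrthogonal
  have hQr : Q.IsStableUnderRetracts := by
    refine ⟨?_⟩
    intro X Y r hY Z f hZ
    have h0 : r.r ≫ f = 0 := hY (r.r ≫ f) hZ
    have : f = r.i ≫ r.r ≫ f := by simp
    rw [this, h0, comp_zero]
  have hQt : Q.IsTriangulated := inferInstance
  have hEQ : ObjectProperty.singleton E ≤ Q := by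
    intro X hX Z f hZ
    rw [ObjectProperty.singleton_iff] at hX
    subst hX
    obtain ⟨Y, n, e, hY⟩ := hZ
    rw [ObjectProperty.singleton_iff] at hY
    subst hY
    have := hK PUnit.unit n (f ≫ e.hom)
    have h2 : f = (f ≫ e.hom) ≫ e.inv := by simp
    rw [h2, this, zero_comp]
  have hle : (ObjectProperty.singleton E).triangEnvelope ≤ Q :=
    (ObjectProperty.triangEnvelope_le_iff _).2 hEQ
  have htop : (ObjectProperty.singleton E).triangEnvelope = ⊤ := hE
  have hQK : Q K := hle K (by rw [htop]; trivial)
  have hP₀K : P₀ K := ObjectProperty.le_shiftClosure (A := ℤ) _ K (by simp)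
  have : 𝟙 K = 0 := hQK (𝟙 K) hP₀K
  exact (IsZero.iff_id_eq_zero K).2 this

end Groth.Agent.S6586
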