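import Groth.Statements.S6587
import Groth.Statements.S6587
import Mathlib

set_option autoImplicit false
universe v u
open CategoryTheory CategoryTheory.Limits Opposite
open CohDer

namespace Groth.Agent.S6587

section aux

variable {C : Type u} [Category.{v} C]

lemma tr_comp (X : ARSys.PS C) {n m l : ℕ} (h₁ : n ≤ m) (h₂ : m ≤ l) :
    ARSys.tr X h₂ ≫ ARSys.tr X h₁ = ARSys.tr X (h₁.trans h₂) := by
  rw [ARSys.tr, ARSys.tr, ARSys.tr, ← X.map_comp]
  congr 1

lemma tr_naturality {X Y : ARSys.PS C} (f : X ⟶ Y) {n m : ℕ} (h : n ≤ m) :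
    ARSys.tr X h ≫ f.app (op n) = f.app (op m) ≫ ARSys.tr Y h :=
  f.naturality _

end aux

open CategoryTheory.Pretriangulated in
/-- Let D be a triangulated category and let X_n → Y_n → Z_n → X_n⟦1⟧ be an inverse system of
distinguished triangles of D indexed by ℕ (levelwise maps f, g, h of inverse systems, each level
distinguished). If the inverse system (Z_n) is pro-zero, then the levelwise map f : (X_n) → (Y_n) is
a pro-isomorphism. -/
theorem result {D : Type u} [Category.{v} D] [Preadditive D] [HasZeroObject D] [HasShift D ℤ]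
    [∀ n : ℤ, (shiftFunctor D n).Additive] [Pretriangulated D] [IsTriangulated D]
    (X Y Z : ARSys.PS D) (f : X ⟶ Y) (g : Y ⟶ Z) (h : Z ⟶ X ⋙ shiftFunctor D (1 : ℤ))
    (hT : ∀ n : ℕ, Triangle.mk (f.app (op n)) (g.app (op n)) (h.app (op n)) ∈ distinguishedTriangles)
    (hZ : DerCA.IsProZero Z) :
    DerCA.IsProIso f := by
  intro n
  obtain ⟨m, hnm, hz1⟩ := hZ n
  obtain ⟨l, hml, hz2⟩ := hZ m
  have hA : ARSys.tr Y hml ≫ g.app (op m) = 0 := by
    rw [tr_naturality g hml, hz2, comp_zero]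
  obtain ⟨b'', hb⟩ : ∃ b'' : Y.obj (op l) ⟶ X.obj (op m),
      ARSys.tr Y hml = b'' ≫ f.app (op m) :=
    CategoryTheory.Pretriangulated.Triangle.coyoneda_exact₂ _ (hT m) (ARSys.tr Y hml) hA
  refine ⟨l, hnm.trans hml, b'' ≫ ARSys.tr X hnm, ?_, ?_⟩
  · -- f_l ≫ b = tr X
    have hd : (f.app (op l) ≫ b'' - ARSys.tr X hml) ≫ f.app (op m) = 0 := by
      rw [Preadditive.sub_comp, Category.assoc, ← hb, tr_naturality f hml, sub_self]
    obtain ⟨e, he'⟩ : ∃ e : (shiftFunctor D (1 : ℤ)).obj (X.obj (op l)) ⟶ Z.obj (op m),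
        (shiftFunctor D (1 : ℤ)).map (f.app (op l) ≫ b'' - ARSys.tr X hml) =
          e ≫ h.app (op m) :=
      CategoryTheory.Pretriangulated.Triangle.coyoneda_exact₁ _ (hT m)
        ((shiftFunctor D (1 : ℤ)).map (f.app (op l) ≫ b'' - ARSys.tr X hml))
        (by
          change (shiftFunctor D (1 : ℤ)).map _ ≫ (shiftFunctor D (1 : ℤ)).map (f.app (op m)) = 0
          rw [← Functor.map_comp, hd, Functor.map_zero])
    have hnat : h.app (op m) ≫ (shiftFunctor D (1 : ℤ)).map (ARSys.tr X hnm) =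
        ARSys.tr Z hnm ≫ h.app (op n) := (h.naturality (homOfLE hnm).op).symm
    have h0 : (f.app (op l) ≫ b'' - ARSys.tr X hml) ≫ ARSys.tr X hnm = 0 := by
      apply (shiftFunctor D (1 : ℤ)).map_injective
      rw [Functor.map_comp, he', Category.assoc, hnat, hz1, zero_comp, comp_zero,
        Functor.map_zero]
    rw [Preadditive.sub_comp, sub_eq_zero, Category.assoc, tr_comp] at h0
    exact h0
  · rw [Category.assoc, tr_naturality f hnm, ← Category.assoc, ← hb, tr_comp]

end Groth.Agent.S6587
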