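import Groth.Statements.S6591
import Mathlib
import Groth.Agent.Lib.Helper3.IRes

set_option autoImplicit false
universe v u
open CategoryTheory
open CohDer

namespace Groth.Agent.S6591


/-- Let I be a class of objects in an abelian category containing a zero object and such that every
object is a subobject of an object in I. A cochain complex K with Hⁿ(K) = 0 for n < a admits a
quasi-isomorphism K ⟶ L where L has all terms in I and vanishes below degree a. -/
theorem result {A : Type u} [Category.{v} A] [Abelian A] (I : A → Prop)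
    (hI0 : ∃ Z : A, Limits.IsZero Z ∧ I Z) (hI : ∀ X : A, ∃ (Y : A) (ι : X ⟶ Y), I Y ∧ Mono ι)
    (K : CochainComplex A ℤ) (a : ℤ) (hK : ∀ n : ℤ, n < a → Limits.IsZero (K.homology n)) :
    ∃ (L : CochainComplex A ℤ) (α : K ⟶ L), L.IsStrictlyGE a ∧ (∀ n, I (L.X n)) ∧ QuasiIso α := by
  have hGE : K.IsGE a := by
    rw [CochainComplex.isGE_iff]
    intro i hi
    rw [HomologicalComplex.exactAt_iff_isZero_homology]
    exact hK i hi
  have hq : QuasiIso (K.πTruncGE a) := (CochainComplex.quasiIso_πTruncGE_iff K a).2 hGE
  obtain ⟨L, α, h1, h2, _, h4⟩ :=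
    Groth.Agent.Helper3.IRes.exists_resolution_int I hI0 hI (K.truncGE a) a
  exact ⟨L, K.πTruncGE a ≫ α, h1, h2, inferInstance⟩

end Groth.Agent.S6591
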