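import Groth.Statements.S6593
import Mathlib

set_option autoImplicit false
universe w v u
open CategoryTheory CategoryTheory.Limits
open CohDer

namespace Groth.Agent.S6593

set_option backward.defeqAttrib.useBackward true in
set_option backward.isDefEq.respectTransparency false in
open CategoryTheory.Pretriangulated in
/-- Let D be a pretriangulated category and (X_i → Y_i → Z_i → X_i⟦1⟧)_{i ∈ I} a family of distinguished
triangles. If the direct sums ⨁ X_i, ⨁ Y_i, ⨁ Z_i exist, then ⨁ X_i → ⨁ Y_i → ⨁ Z_i → (⨁ X_i)⟦1⟧ is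
a distinguished triangle (the last map is induced by the composites Z_i → X_i⟦1⟧ → (⨁ X_i)⟦1⟧). -/
theorem result {D : Type u} [Category.{v} D] [Preadditive D] [HasZeroObject D] [HasShift D ℤ]
    [∀ n : ℤ, (shiftFunctor D n).Additive] [Pretriangulated D]
    {J : Type w} (T : J → Triangle D) (hT : ∀ j, T j ∈ distinguishedTriangles)
    [HasCoproduct (fun j => (T j).obj₁)] [HasCoproduct (fun j => (T j).obj₂)] [HasCoproduct (fun j => (T j).obj₃)] :
    Triangle.mk (Limits.Sigma.map (fun j => (T j).mor₁)) (Limits.Sigma.map (fun j => (T j).mor₂))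
      (Sigma.desc (fun j => (T j).mor₃ ≫ (shiftFunctor D (1 : ℤ)).map (Sigma.ι (fun j => (T j).obj₁) j))) ∈ distinguishedTriangles := by
  set f₁ := Limits.Sigma.map (fun j => (T j).mor₁) with hf₁
  obtain ⟨Z, f₂, f₃, hT'⟩ := distinguished_cocone_triangle f₁
  have hφ : ∀ j, ∃ c : (T j).obj₃ ⟶ Z, (T j).mor₂ ≫ c = Sigma.ι (fun j => (T j).obj₂) j ≫ f₂ ∧
      (T j).mor₃ ≫ (shiftFunctor D (1 : ℤ)).map (Sigma.ι (fun j => (T j).obj₁) j) = c ≫ f₃ := fun j =>
    complete_distinguished_triangle_morphism (T j) _ (hT j) hT'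
      (Sigma.ι (fun j => (T j).obj₁) j) (Sigma.ι (fun j => (T j).obj₂) j) (by simp [hf₁])
  choose c hc₂ hc₃ using hφ
  set h : (∐ fun j => (T j).obj₃) ⟶ Z := Sigma.desc c with hh
  have c2 : Limits.Sigma.map (fun j => (T j).mor₂) ≫ h = f₂ := by
    apply Sigma.hom_ext
    intro j
    simp [hh, hc₂]
  have c3 : h ≫ f₃ = Sigma.desc (fun j => (T j).mor₃ ≫
      (shiftFunctor D (1 : ℤ)).map (Sigma.ι (fun j => (T j).obj₁) j)) := by
    apply Sigma.hom_ext
    intro j
    simp [hh, hc₃]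
  have hX : IsColimit (Cofan.mk ((shiftFunctor D (1:ℤ)).obj (∐ fun j => (T j).obj₁))
      (fun j => (shiftFunctor D (1:ℤ)).map (Sigma.ι (fun j => (T j).obj₁) j))) :=
    isColimitCofanMkObjOfIsColimit (shiftFunctor D (1:ℤ)) _ _ (coproductIsCoproduct _)
  have hY : IsColimit (Cofan.mk ((shiftFunctor D (1:ℤ)).obj (∐ fun j => (T j).obj₂))
      (fun j => (shiftFunctor D (1:ℤ)).map (Sigma.ι (fun j => (T j).obj₂) j))) :=
    isColimitCofanMkObjOfIsColimit (shiftFunctor D (1:ℤ)) _ _ (coproductIsCoproduct _)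
  suffices IsIso h by
    refine isomorphic_distinguished _ hT' _ ?_
    refine Triangle.isoMk _ _ (Iso.refl _) (Iso.refl _) (@asIso _ _ _ _ h this) ?_ ?_ ?_
    · simp [hf₁]
    · simp [c2]
    · simp [c3]
  refine isIso_of_coyoneda_map_bijective _ (fun A => ⟨?_, ?_⟩)
  · suffices Epi h by
      intro a₁ a₂ ha
      simpa only [← cancel_epi h] using ha
    rw [Preadditive.epi_iff_cancel_zero]
    intro A a ha
    have h1 : f₂ ≫ a = 0 := by rw [← c2, Category.assoc, ha, comp_zero]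
    obtain ⟨g, hg⟩ := Triangle.yoneda_exact₃ _ hT' a h1
    dsimp at g hg
    have h3 : ∀ j, (T j).mor₃ ≫ ((shiftFunctor D (1 : ℤ)).map (Sigma.ι (fun j => (T j).obj₁) j) ≫ g) = 0 := by
      intro j
      rw [← Category.assoc, hc₃, Category.assoc, ← hg]
      have : c j = Sigma.ι (fun j => (T j).obj₃) j ≫ h := by simp [hh]
      rw [this, Category.assoc, ha, comp_zero]
    have h4 : ∀ j, ∃ β : (shiftFunctor D (1:ℤ)).obj (T j).obj₂ ⟶ A,
        (shiftFunctor D (1 : ℤ)).map (Sigma.ι (fun j => (T j).obj₁) j) ≫ g =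
          (shiftFunctor D (1:ℤ)).map (T j).mor₁ ≫ β := by
      intro j
      obtain ⟨β, hβ⟩ := Triangle.yoneda_exact₃ _ (rot_of_distTriang _ (hT j)) _ (h3 j)
      refine ⟨-β, ?_⟩
      rw [hβ]
      simp
    choose β hβ using h4
    have h5 : g = (shiftFunctor D (1:ℤ)).map f₁ ≫ Cofan.IsColimit.desc hY β := by
      refine Cofan.IsColimit.hom_ext hX _ _ (fun j => ?_)
      dsimp
      rw [hβ, ← Category.assoc, ← Functor.map_comp, hf₁, Limits.Sigma.ι_map,
        Functor.map_comp, Category.assoc]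
      congr 1
      exact (Cofan.IsColimit.fac hY β j).symm
    rw [hg, h5]
    have := comp_distTriang_mor_zero₃₁ _ hT'
    dsimp at this
    rw [reassoc_of% this, zero_comp]
  · intro b
    have h1 : f₁ ≫ (Limits.Sigma.map (fun j => (T j).mor₂) ≫ b) = 0 := by
      apply Sigma.hom_ext
      intro j
      have := comp_distTriang_mor_zero₁₂ _ (hT j)
      simp [hf₁, reassoc_of% this]
    obtain ⟨a', ha'⟩ := Triangle.yoneda_exact₂ _ hT' _ h1
    dsimp at a' ha'
    have h2 : ∀ j, (T j).mor₂ ≫ (Sigma.ι (fun j => (T j).obj₃) j ≫ (b - h ≫ a')) = 0 := by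
      intro j
      have : (T j).mor₂ ≫ Sigma.ι (fun j => (T j).obj₃) j =
          Sigma.ι (fun j => (T j).obj₂) j ≫ Limits.Sigma.map (fun j => (T j).mor₂) := by simp
      rw [reassoc_of% this, Preadditive.comp_sub, ha', reassoc_of% c2, sub_self, comp_zero]
    have h3 : ∀ j, ∃ γ : (shiftFunctor D (1:ℤ)).obj (T j).obj₁ ⟶ A,
        Sigma.ι (fun j => (T j).obj₃) j ≫ (b - h ≫ a') = (T j).mor₃ ≫ γ := fun j =>
      Triangle.yoneda_exact₃ _ (hT j) _ (h2 j)
    choose γ hγ using h3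
    refine ⟨a' + f₃ ≫ Cofan.IsColimit.desc hX γ, ?_⟩
    dsimp
    rw [Preadditive.comp_add, reassoc_of% c3]
    have : b - h ≫ a' = Sigma.desc (fun j => (T j).mor₃ ≫
      (shiftFunctor D (1 : ℤ)).map (Sigma.ι (fun j => (T j).obj₁) j)) ≫ Cofan.IsColimit.desc hX γ := by
      apply Sigma.hom_ext
      intro j
      rw [hγ, Sigma.ι_desc_assoc, Category.assoc]
      congr 1
      exact (Cofan.IsColimit.fac hX γ j).symm
    rw [← this]
    abel

end Groth.Agent.S6593
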