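import Groth.Statements.S6594
import Mathlib

set_option autoImplicit false
universe v u
open CategoryTheory CategoryTheory.Limits
open CohDer

namespace Groth.Agent.S6594


set_option backward.defeqAttrib.useBackward true in
set_option backward.isDefEq.respectTransparency false in
open CategoryTheory.Pretriangulated in
/-- (1) ⇔ (3): let D be a pretriangulated category and f : X ⟶ Y a morphism. Then f has a kernel if and
only if f is isomorphic to a composite K ⊞ Z → Z → Z ⊞ Q of a projection and a coprojection for some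
objects K, Z, Q. -/
theorem result {D : Type u} [Category.{v} D] [Preadditive D] [HasZeroObject D] [HasShift D ℤ]
    [∀ n : ℤ, (shiftFunctor D n).Additive] [Pretriangulated D]
    {X Y : D} (f : X ⟶ Y) :
    HasKernel f ↔ ∃ (K Z Q : D) (e₁ : X ≅ K ⊞ Z) (e₂ : Y ≅ Z ⊞ Q),
      f = e₁.hom ≫ biprod.snd ≫ biprod.inl ≫ e₂.inv := by
  constructor
  · intro hk
    obtain ⟨Z, p, q, hT⟩ := distinguished_cocone_triangle (kernel.ι f)
    have hq : q = 0 := Triangle.mor₃_eq_zero_of_mono₁ _ hT (by dsimp; infer_instance)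
    obtain ⟨e, he₁, he₂⟩ := exists_iso_binaryBiproduct_of_distTriang _ hT hq
    dsimp at e he₁ he₂
    have hinl : (biprod.inl : kernel f ⟶ kernel f ⊞ Z) ≫ e.inv = kernel.ι f := by
      rw [← he₁, Category.assoc, Iso.hom_inv_id, Category.comp_id]
    set f' : Z ⟶ Y := biprod.inr ≫ e.inv ≫ f with hf'
    have hff' : f = e.hom ≫ biprod.snd ≫ f' := by
      have h1 : f = e.hom ≫ (biprod.fst ≫ biprod.inl + biprod.snd ≫ biprod.inr) ≫ e.inv ≫ f := by
        rw [biprod.total, Category.id_comp, Iso.hom_inv_id_assoc]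
      rw [Preadditive.add_comp, Category.assoc, Category.assoc, reassoc_of% hinl, kernel.condition,
        comp_zero, zero_add] at h1
      exact h1
    have hmono : Mono f' := by
      rw [Preadditive.mono_iff_cancel_zero]
      intro A a ha
      have h1 : (a ≫ biprod.inr ≫ e.inv) ≫ f = 0 := by
        rw [Category.assoc, Category.assoc]; exact ha
      have h2 : a ≫ biprod.inr = kernel.lift f _ h1 ≫ (biprod.inl : kernel f ⟶ kernel f ⊞ Z) := by
        rw [← he₁, ← Category.assoc, kernel.lift_ι, Category.assoc, Category.assoc, Iso.inv_hom_id,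
          Category.comp_id]
      have h3 := h2 =≫ biprod.snd
      rw [Category.assoc, Category.assoc, biprod.inr_snd, biprod.inl_snd, Category.comp_id,
        comp_zero] at h3
      exact h3
    obtain ⟨Q, p', q', hT'⟩ := distinguished_cocone_triangle f'
    have hq' : q' = 0 := Triangle.mor₃_eq_zero_of_mono₁ _ hT' (by dsimp; exact hmono)
    obtain ⟨e₂, he₂₁, he₂₂⟩ := exists_iso_binaryBiproduct_of_distTriang _ hT' hq'
    dsimp at e₂ he₂₁ he₂₂
    refine ⟨kernel f, Z, Q, e, e₂, ?_⟩
    have : f' = biprod.inl ≫ e₂.inv := by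
      rw [← he₂₁, Category.assoc, Iso.hom_inv_id, Category.comp_id]
    rw [← this]
    exact hff'
  · rintro ⟨K, Z, Q, e₁, e₂, hf⟩
    have w : (biprod.inl ≫ e₁.inv : K ⟶ X) ≫ f = 0 := by
      rw [hf]; simp
    have hm : Mono (biprod.inl ≫ e₁.inv : K ⟶ X) := mono_comp _ _
    refine ⟨⟨⟨KernelFork.ofι (biprod.inl ≫ e₁.inv : K ⟶ X) w, ?_⟩⟩⟩
    refine KernelFork.IsLimit.ofι' _ _ (fun {A} g hg => ⟨g ≫ e₁.hom ≫ biprod.fst, ?_⟩)
    have h1 : g ≫ e₁.hom ≫ biprod.snd = 0 := by
      have h2 : (g ≫ e₁.hom ≫ biprod.snd) ≫ (biprod.inl ≫ e₂.inv : Z ⟶ Y) = 0 := by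
        rw [← hg, hf]; simp
      exact (cancel_mono (biprod.inl ≫ e₂.inv : Z ⟶ Y)).1 (by rw [h2, zero_comp])
    have h3 : g = g ≫ e₁.hom ≫ (biprod.fst ≫ biprod.inl + biprod.snd ≫ biprod.inr) ≫ e₁.inv := by
      rw [biprod.total, Category.id_comp, Iso.hom_inv_id, Category.comp_id]
    rw [Preadditive.add_comp, Preadditive.comp_add, Preadditive.comp_add] at h3
    have h4 : g ≫ e₁.hom ≫ (biprod.snd ≫ biprod.inr) ≫ e₁.inv = 0 := by
      rw [Category.assoc, ← Category.assoc e₁.hom, ← Category.assoc g, h1, zero_comp]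
    rw [h4, add_zero] at h3
    rw [Category.assoc, Category.assoc]
    rw [Category.assoc] at h3
    exact h3.symm

end Groth.Agent.S6594
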