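import Groth.Statements.S6596
import Groth.Statements.S6596
import Mathlib
import Groth.Agent.Lib.Helper3.HomZero

set_option autoImplicit false
universe v u
open CategoryTheory CategoryTheory.Limits
open CohDer

namespace Groth.Agent.S6596

section Helpers

open CategoryTheory.Pretriangulated Groth.Agent.Helper3.HomZero

variable {D : Type u} [Category.{v} D] [Preadditive D] [HasZeroObject D] [HasShift D ℤ]
  [∀ n : ℤ, (shiftFunctor D n).Additive] [Pretriangulated D]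

lemma vanish (X X' : ChainComplex D ℕ) (n : ℕ)
    (qY : ℕ → D) (qa : ∀ k, qY k ⟶ X'.X k) (qb : ∀ k, X'.X (k + 1) ⟶ qY k)
    (qc : ∀ k, qY k ⟶ (shiftFunctor D (1 : ℤ)).obj (qY (k + 1)))
    (qh0 : IsIso (qa 0))
    (qhP : ∀ k, k < n → Triangle.mk (qa (k + 1)) (qb k) (qc k) ∈ distinguishedTriangles ∧
      qb k ≫ qa k = X'.d (k + 1) k)
    (hX : ∀ i j : ℕ, j + 1 < i → i ≤ n → HZ (X.X i) (X'.X j) ((j : ℤ) + 1 - i)) :
    ∀ m i : ℕ, m + 1 < i → i ≤ n → HZ (X.X i) (qY m) ((m : ℤ) + 1 - i) := by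
  intro m
  induction m with
  | zero =>
    intro i h1 h2
    exact (hX i 0 h1 h2).iso_right (asIso (qa 0)).symm
  | succ m ih =>
    intro i h1 h2
    have hT := (qhP m (by omega)).1
    have hT' := inv_rot_of_distTriang _ hT
    refine HZ.tri_right _ hT' ?_ ?_
    · exact HZ.shift_right (-1) ((ih i (by omega) h2).congr (by push_cast; ring))
    · exact hX i (m + 1) (by omega) h2

end Helpers

open CategoryTheory.Pretriangulated in
/-- Let D be a triangulated category and φ : X ⟶ X' a morphism of chain complexes in D considered in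
degrees ≤ n, where a Postnikov system for the complex X_n → … → X_0 consists of objects Y_k, an
isomorphism Y_0 ⟶ X_0, and for 0 ≤ k < n distinguished triangles Y_{k+1} ⟶ X_{k+1} ⟶ Y_k ⟶
Y_{k+1}⟦1⟧ with X_{k+1} ⟶ Y_k ⟶ X_k the differential. Suppose X and X' carry Postnikov systems (Y,
a, b, c) and (Y', a', b', c'). If Hom(X_i⟦i - j - 1⟧, X'_j) = 0 for all j + 1 < i ≤ n, then φ
extends to a morphism of Postnikov systems: morphisms y_k : Y_k ⟶ Y'_k for k ≤ n forming, with the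
φ_k, morphisms of the distinguished triangles and compatible with Y_0 ⟶ X_0 and Y'_0 ⟶ X'_0. -/
theorem result {D : Type u} [Category.{v} D] [Preadditive D] [HasZeroObject D] [HasShift D ℤ]
    [∀ n : ℤ, (shiftFunctor D n).Additive] [Pretriangulated D] [IsTriangulated D]
    (X X' : ChainComplex D ℕ) (φ : X ⟶ X') (n : ℕ)
    (Y : ℕ → D) (a : ∀ k, Y k ⟶ X.X k) (b : ∀ k, X.X (k + 1) ⟶ Y k)
    (c : ∀ k, Y k ⟶ (shiftFunctor D (1 : ℤ)).obj (Y (k + 1)))
    (h0 : IsIso (a 0))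
    (hP : ∀ k, k < n → Triangle.mk (a (k + 1)) (b k) (c k) ∈ distinguishedTriangles ∧ b k ≫ a k = X.d (k + 1) k)
    (qY : ℕ → D) (qa : ∀ k, qY k ⟶ X'.X k) (qb : ∀ k, X'.X (k + 1) ⟶ qY k)
    (qc : ∀ k, qY k ⟶ (shiftFunctor D (1 : ℤ)).obj (qY (k + 1)))
    (qh0 : IsIso (qa 0))
    (qhP : ∀ k, k < n → Triangle.mk (qa (k + 1)) (qb k) (qc k) ∈ distinguishedTriangles ∧ qb k ≫ qa k = X'.d (k + 1) k)
    (hX : ∀ i j : ℕ, j + 1 < i → i ≤ n → ∀ ψ : (shiftFunctor D ((i : ℤ) - j - 1)).obj (X.X i) ⟶ X'.X j, ψ = 0) :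
    ∃ y : ∀ k, Y k ⟶ qY k,
      (∀ k, k ≤ n → y k ≫ qa k = a k ≫ φ.f k) ∧
      (∀ k, k < n → b k ≫ y k = φ.f (k + 1) ≫ qb k ∧ c k ≫ (shiftFunctor D (1 : ℤ)).map (y (k + 1)) = y k ≫ qc k) := by
  have hX' : ∀ i j : ℕ, j + 1 < i → i ≤ n →
      Groth.Agent.Helper3.HomZero.HZ (X.X i) (X'.X j) ((j : ℤ) + 1 - i) := by
    intro i j h1 h2
    exact (Groth.Agent.Helper3.HomZero.HZ.of_left _ (hX i j h1 h2)).congr (by ring)
  have hV := vanish X X' n qY qa qb qc qh0 qhP hX'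
  have step : ∀ k (yk : Y k ⟶ qY k), (k ≤ n → yk ≫ qa k = a k ≫ φ.f k) →
      ∃ yk1 : Y (k + 1) ⟶ qY (k + 1), (k + 1 ≤ n → yk1 ≫ qa (k + 1) = a (k + 1) ≫ φ.f (k + 1)) ∧
        (k < n → b k ≫ yk = φ.f (k + 1) ≫ qb k ∧
          c k ≫ (shiftFunctor D (1 : ℤ)).map yk1 = yk ≫ qc k) := by
    intro k yk hk
    by_cases hkn : k < n
    · have hδ : b k ≫ yk = φ.f (k + 1) ≫ qb k := by
        rw [← sub_eq_zero]
        have h1 : (b k ≫ yk - φ.f (k + 1) ≫ qb k) ≫ qa k = 0 := by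
          rw [Preadditive.sub_comp, Category.assoc, hk (by omega), ← Category.assoc, (hP k hkn).2,
            Category.assoc, (qhP k hkn).2, φ.comm, sub_self]
        cases k with
        | zero =>
          rw [← cancel_mono (qa 0), h1, zero_comp]
        | succ k' =>
          have hT := (qhP k' (by omega)).1
          obtain ⟨δ', hδ'⟩ := Triangle.coyoneda_exact₂ _ (inv_rot_of_distTriang _ hT) _ h1
          have h0 : δ' = 0 :=
            (hV k' (k' + 1 + 1) (by omega) (by omega)).congr (by push_cast; ring) δ'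
          rw [hδ', h0]
          exact zero_comp
      obtain ⟨y1, hy1, hy2⟩ := complete_distinguished_triangle_morphism₁ _ _ (hP k hkn).1
        (qhP k hkn).1 (φ.f (k + 1)) yk hδ
      exact ⟨y1, fun _ => hy1.symm, fun _ => ⟨hδ, hy2⟩⟩
    · exact ⟨0, fun h => absurd h (by omega), fun h => absurd h hkn⟩
  let P : ℕ → Type v := fun k => { y : Y k ⟶ qY k // k ≤ n → y ≫ qa k = a k ≫ φ.f k }
  let y0 : P 0 := ⟨a 0 ≫ φ.f 0 ≫ inv (qa 0), fun _ => by simp⟩
  let f : ∀ k, P k := fun k => Nat.rec y0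
    (fun k p => ⟨(step k p.1 p.2).choose, (step k p.1 p.2).choose_spec.1⟩) k
  refine ⟨fun k => (f k).1, fun k hk => (f k).2 hk, fun k hk => ?_⟩
  exact (step k (f k).1 (f k).2).choose_spec.2 hk

end Groth.Agent.S6596
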