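import Groth.Statements.S6598
import Mathlib

set_option autoImplicit false
universe v u
open CategoryTheory CategoryTheory.Limits
open CohDer

namespace Groth.Agent.S6598

section aux

variable {V : Type u} [Category.{v} V] [Preadditive V] [HasBinaryBiproducts V]

/-- shear: a split monomorphism that is the first component of an isomorphism to a biproduct
is isomorphic to `biprod.inl` -/
lemma exists_iso_inl {A B C : V} (e' : B ≅ A ⊞ C) (i : A ⟶ B)
    (h : i ≫ e'.hom ≫ biprod.fst = 𝟙 A) : ∃ e : B ≅ A ⊞ C, i ≫ e.hom = biprod.inl := by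
  let c : A ⟶ C := i ≫ e'.hom ≫ biprod.snd
  let sh : A ⊞ C ≅ A ⊞ C :=
    { hom := biprod.lift biprod.fst (biprod.snd - biprod.fst ≫ c)
      inv := biprod.lift biprod.fst (biprod.snd + biprod.fst ≫ c)
      hom_inv_id := by ext <;> simp
      inv_hom_id := by ext <;> simp }
  refine ⟨e' ≪≫ sh, ?_⟩
  ext
  · simp [sh, h]
  · simp [sh, c, reassoc_of% h]

end aux

section

open CochainComplex HomComplex

variable {V : Type u} [Category.{v} V] [Preadditive V] [HasBinaryBiproducts V]
  (K L : CochainComplex V ℤ) (α : K ⟶ L)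

/-- the factorization object -/
noncomputable abbrev L' : CochainComplex V ℤ := mappingCone (𝟙 K) ⊞ L

noncomputable def α' : K ⟶ L' K L := biprod.lift (mappingCone.inr (𝟙 K)) α

noncomputable def termIso (n : ℤ) : (L' K L).X n ≅ K.X n ⊞ (K.X (n + 1) ⊞ L.X n) where
  hom := biprod.lift
    ((biprod.fst : L' K L ⟶ _).f n ≫ (mappingCone.snd (𝟙 K)).v n n (add_zero n))
    (biprod.lift ((biprod.fst : L' K L ⟶ _).f n ≫ (mappingCone.fst (𝟙 K)).1.v n (n + 1) rfl)
      ((biprod.snd : L' K L ⟶ _).f n))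
  inv := biprod.desc ((mappingCone.inr (𝟙 K)).f n ≫ (biprod.inl : _ ⟶ L' K L).f n)
    (biprod.desc ((mappingCone.inl (𝟙 K)).v (n + 1) n (by omega) ≫ (biprod.inl : _ ⟶ L' K L).f n)
      ((biprod.inr : _ ⟶ L' K L).f n))
  hom_inv_id := by
    simp only [biprod.lift_desc, Category.assoc]
    have h1 := mappingCone.id_X (𝟙 K) n (n + 1) rfl
    have h2 := HomologicalComplex.biprod_total_f (mappingCone (𝟙 K)) L n
    rw [← h2, ← add_assoc]
    congr 1
    rw [← Preadditive.comp_add]
    congr 1
    rw [← Category.assoc, ← Category.assoc, ← Preadditive.add_comp, add_comm, h1,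
      Category.id_comp]
  inv_hom_id := by
    ext <;> simp

end

/-- Let α : K ⟶ L be a morphism of cochain complexes over an additive category. There is a factorization
K ⟶ L' ⟶ L of α such that (1) K ⟶ L' is a termwise split injection (in each degree isomorphic to the
inclusion of a direct summand) and (2) L' ⟶ L admits a section s : L ⟶ L' (s followed by L' ⟶ L is
the identity) such that L' ⟶ L followed by s is homotopic to the identity of L'. Moreover if K and L
are both bounded below, resp. both bounded above, then L' may be chosen bounded below, resp. bounded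
above. -/
theorem result {V : Type u} [Category.{v} V] [Preadditive V] [HasBinaryBiproducts V] [HasZeroObject V]
    (K L : CochainComplex V ℤ) (α : K ⟶ L) :
    ∃ (L' : CochainComplex V ℤ) (α' : K ⟶ L') (π : L' ⟶ L) (s : L ⟶ L'),
      α' ≫ π = α ∧ s ≫ π = 𝟙 L ∧ Nonempty (Homotopy (π ≫ s) (𝟙 L')) ∧
      (∀ n : ℤ, ∃ (C : V) (e : L'.X n ≅ K.X n ⊞ C), α'.f n ≫ e.hom = biprod.inl) ∧
      (∀ a : ℤ, K.IsStrictlyGE a → L.IsStrictlyGE a → ∃ a' : ℤ, L'.IsStrictlyGE a') ∧
      (∀ a : ℤ, K.IsStrictlyLE a → L.IsStrictlyLE a → ∃ a' : ℤ, L'.IsStrictlyLE a') := by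
  refine ⟨L' K L, α' K L α, biprod.snd, biprod.inr, ?_, ?_, ⟨?_⟩, ?_, ?_, ?_⟩
  · simp [α']
  · simp
  · let h₀ : Homotopy (𝟙 (CochainComplex.mappingCone (𝟙 K))) 0 :=
      CochainComplex.mappingCone.liftHomotopy _ _ _ (CochainComplex.mappingCone.snd _) 0
        (by simp) (by simp)
    let h₁ := (h₀.compRight (biprod.inl : _ ⟶ L' K L)).compLeft (biprod.fst : L' K L ⟶ _)
    let h₂ := Homotopy.add h₁ (Homotopy.refl (biprod.snd ≫ biprod.inr))
    exact (Homotopy.ofEq (by simp)).trans (h₂.symm.trans (Homotopy.ofEq (by simp)))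
  · intro n
    obtain ⟨e, he⟩ := exists_iso_inl (termIso K L n) ((α' K L α).f n) (by simp [termIso, α'])
    exact ⟨_, e, he⟩
  · intro a hK hL
    refine ⟨a - 1, ?_⟩
    rw [CochainComplex.isStrictlyGE_iff]
    intro i hi
    refine IsZero.of_iso ?_ (HomologicalComplex.biprodXIso _ _ i)
    simp only [biprod_isZero_iff, CochainComplex.mappingCone.isZero_X_iff]
    exact ⟨⟨K.isZero_of_isStrictlyGE a _ (by omega), K.isZero_of_isStrictlyGE a _ (by omega)⟩,
      L.isZero_of_isStrictlyGE a _ (by omega)⟩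
  · intro a hK hL
    refine ⟨a, ?_⟩
    rw [CochainComplex.isStrictlyLE_iff]
    intro i hi
    refine IsZero.of_iso ?_ (HomologicalComplex.biprodXIso _ _ i)
    simp only [biprod_isZero_iff, CochainComplex.mappingCone.isZero_X_iff]
    exact ⟨⟨K.isZero_of_isStrictlyLE a _ (by omega), K.isZero_of_isStrictlyLE a _ (by omega)⟩,
      L.isZero_of_isStrictlyLE a _ (by omega)⟩

end Groth.Agent.S6598
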