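import Groth.Statements.S6599
import Mathlib

set_option autoImplicit false
universe v u
open CategoryTheory CategoryTheory.Limits
open CohDer

namespace Groth.Agent.S6599

section aux

variable {V : Type u} [Category.{v} V] [Preadditive V] [HasBinaryBiproducts V]

/-- shear: a split epimorphism that is the second component of an isomorphism from a biproduct
is isomorphic to `biprod.snd` -/
lemma exists_iso_snd {A B C : V} (e' : B ≅ C ⊞ A) (p : B ⟶ A)
    (h : biprod.inr ≫ e'.inv ≫ p = 𝟙 A) : ∃ e : B ≅ C ⊞ A, e.inv ≫ p = biprod.snd := by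
  let c : C ⟶ A := biprod.inl ≫ e'.inv ≫ p
  let sh : C ⊞ A ≅ C ⊞ A :=
    { hom := biprod.desc (biprod.inl + c ≫ biprod.inr) biprod.inr
      inv := biprod.desc (biprod.inl - c ≫ biprod.inr) biprod.inr
      hom_inv_id := by ext <;> simp
      inv_hom_id := by ext <;> simp }
  refine ⟨e' ≪≫ sh, ?_⟩
  ext
  · simp [sh, c, h]
  · simp [sh, h]

end aux

section

open CochainComplex HomComplex

variable {V : Type u} [Category.{v} V] [Preadditive V] [HasBinaryBiproducts V]
  (K L : CochainComplex V ℤ) (α : K ⟶ L)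

/-- the factorization object -/
noncomputable abbrev K' : CochainComplex V ℤ := K ⊞ mappingCocone (𝟙 L)

noncomputable def α' : K' K L ⟶ L := biprod.desc α (mappingCocone.fst (𝟙 L))

noncomputable def termIso (n : ℤ) : (K' K L).X n ≅ (K.X n ⊞ L.X (n - 1)) ⊞ L.X n where
  hom := biprod.lift
    (biprod.lift ((biprod.fst : K' K L ⟶ _).f n)
      ((biprod.snd : K' K L ⟶ _).f n ≫ (mappingCocone.snd (𝟙 L)).v n (n - 1) (by omega)))
    ((biprod.snd : K' K L ⟶ _).f n ≫ (mappingCocone.fst (𝟙 L)).f n)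
  inv := biprod.desc
    (biprod.desc ((biprod.inl : _ ⟶ K' K L).f n)
      ((mappingCocone.inr (𝟙 L)).1.v (n - 1) n (by omega) ≫ (biprod.inr : _ ⟶ K' K L).f n))
    ((mappingCocone.inl (𝟙 L)).v n n (add_zero n) ≫ (biprod.inr : _ ⟶ K' K L).f n)
  hom_inv_id := by
    simp only [biprod.lift_desc, Category.assoc]
    have h1 := mappingCocone.id_X (𝟙 L) n (n - 1) (by omega)
    have h2 := HomologicalComplex.biprod_total_f K (mappingCocone (𝟙 L)) n
    rw [← h2, add_assoc]
    congr 1
    rw [← Preadditive.comp_add]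
    congr 1
    rw [← Category.assoc, ← Category.assoc, ← Preadditive.add_comp, add_comm, h1,
      Category.id_comp]
  inv_hom_id := by
    ext <;> simp

noncomputable def nullHomotopy : Homotopy (𝟙 (mappingCocone (𝟙 L))) 0 := by
  let h₀ : Homotopy (𝟙 (mappingCone (𝟙 L))) 0 :=
    mappingCone.liftHomotopy _ _ _ (mappingCone.snd _) 0 (by simp) (by simp)
  have h₁ := h₀.shift (-1)
  exact (Homotopy.ofEq (by simp [mappingCocone])).trans (h₁.trans (Homotopy.ofEq (by
    rw [Functor.map_zero]; rfl)))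

lemma isZero_mappingCocone_X (n : ℤ) (h₁ : IsZero (L.X n)) (h₂ : IsZero (L.X (n - 1))) :
    IsZero ((mappingCocone (𝟙 L)).X n) := by
  rw [IsZero.iff_id_eq_zero, ← mappingCocone.id_X (𝟙 L) n (n - 1) (by omega)]
  rw [h₁.eq_of_tgt ((mappingCocone.fst (𝟙 L)).f n) 0,
    h₂.eq_of_tgt ((mappingCocone.snd (𝟙 L)).v n (n - 1) (by omega)) 0, zero_comp, zero_comp,
    add_zero]

end

/-- Let α : K ⟶ L be a morphism of cochain complexes over an additive category. There is a factorization
K ⟶ K' ⟶ L of α such that (1) K' ⟶ L is a termwise split surjection (in each degree isomorphic to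
the projection onto a direct summand) and (2) K ⟶ K' admits a retraction s : K' ⟶ K (K ⟶ K' followed
by s is the identity) such that s followed by K ⟶ K' is homotopic to the identity of K'. Moreover if
K and L are both bounded below, resp. both bounded above, then K' may be chosen bounded below, resp.
bounded above. -/
theorem result {V : Type u} [Category.{v} V] [Preadditive V] [HasBinaryBiproducts V] [HasZeroObject V]
    (K L : CochainComplex V ℤ) (α : K ⟶ L) :
    ∃ (K' : CochainComplex V ℤ) (i : K ⟶ K') (α' : K' ⟶ L) (s : K' ⟶ K),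
      i ≫ α' = α ∧ i ≫ s = 𝟙 K ∧ Nonempty (Homotopy (s ≫ i) (𝟙 K')) ∧
      (∀ n : ℤ, ∃ (C : V) (e : K'.X n ≅ C ⊞ L.X n), e.inv ≫ α'.f n = biprod.snd) ∧
      (∀ a : ℤ, K.IsStrictlyGE a → L.IsStrictlyGE a → ∃ a' : ℤ, K'.IsStrictlyGE a') ∧
      (∀ a : ℤ, K.IsStrictlyLE a → L.IsStrictlyLE a → ∃ a' : ℤ, K'.IsStrictlyLE a') := by
  refine ⟨K' K L, biprod.inl, α' K L α, biprod.fst, ?_, ?_, ⟨?_⟩, ?_, ?_, ?_⟩
  · simp [α']
  · simp
  · let h₁ := ((nullHomotopy L).compRight (biprod.inr : _ ⟶ K' K L)).compLeft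
      (biprod.snd : K' K L ⟶ _)
    let h₂ := Homotopy.add (Homotopy.refl (biprod.fst ≫ (biprod.inl : _ ⟶ K' K L))) h₁
    exact (Homotopy.ofEq (by simp)).trans (h₂.symm.trans (Homotopy.ofEq (by simp)))
  · intro n
    obtain ⟨e, he⟩ := exists_iso_snd (termIso K L n) ((α' K L α).f n) (by simp [termIso, α'])
    exact ⟨_, e, he⟩
  · intro a hK hL
    refine ⟨a, ?_⟩
    rw [CochainComplex.isStrictlyGE_iff]
    intro i hi
    refine IsZero.of_iso ?_ (HomologicalComplex.biprodXIso _ _ i)
    rw [biprod_isZero_iff]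
    exact ⟨K.isZero_of_isStrictlyGE a _ (by omega),
      isZero_mappingCocone_X L i (L.isZero_of_isStrictlyGE a _ (by omega))
        (L.isZero_of_isStrictlyGE a _ (by omega))⟩
  · intro a hK hL
    refine ⟨a + 1, ?_⟩
    rw [CochainComplex.isStrictlyLE_iff]
    intro i hi
    refine IsZero.of_iso ?_ (HomologicalComplex.biprodXIso _ _ i)
    rw [biprod_isZero_iff]
    exact ⟨K.isZero_of_isStrictlyLE a _ (by omega),
      isZero_mappingCocone_X L i (L.isZero_of_isStrictlyLE a _ (by omega))
        (L.isZero_of_isStrictlyLE a _ (by omega))⟩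

end Groth.Agent.S6599
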