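import Groth.Statements.S6600
import Groth.Agent.Lib.Helper3.Triang
open CategoryTheory.Pretriangulated

set_option autoImplicit false
universe v u
open CategoryTheory CategoryTheory.Limits
open CohDer

namespace Groth.Agent.S6600

open CategoryTheory.Pretriangulated in
/-- Let D be a triangulated category, A ⊂ D a full subcategory invariant under all shifts, and X → Y → Z
→ X⟦1⟧ a distinguished triangle. Then Z lies in the right orthogonal A^⊥ if and only if Hom(A, X) →
Hom(A, Y) is bijective for every object A of A. -/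
theorem result {D : Type u} [Category.{v} D] [Preadditive D] [HasZeroObject D] [HasShift D ℤ]
    [∀ n : ℤ, (shiftFunctor D n).Additive] [Pretriangulated D] [IsTriangulated D]
    (P : ObjectProperty D) [P.IsStableUnderShift ℤ] (T : Triangle D) (hT : T ∈ distinguishedTriangles) :
    P.rightOrthogonal T.obj₃ ↔ ∀ A : D, P A → Function.Bijective (fun u : A ⟶ T.obj₁ => u ≫ T.mor₁) := by
  constructor
  · intro hZ A hA
    constructor
    · intro u₁ u₂ h
      dsimp only at h
      have h0 : (u₁ - u₂) ≫ T.invRotate.mor₂ = 0 := by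
        change (u₁ - u₂) ≫ T.mor₁ = 0
        rw [Preadditive.sub_comp, h, sub_self]
      obtain ⟨v, hv⟩ := Triangle.coyoneda_exact₂ T.invRotate (inv_rot_of_distTriang _ hT)
        (u₁ - u₂) h0
      have hv0 : v = 0 := by
        refine Groth.Agent.Helper3.hom_shift_neg_eq_zero (A := A) (Z := T.obj₃) ?_ v
        intro w
        exact hZ w (P.le_shift (1 : ℤ) _ hA)
      rw [hv0, zero_comp] at hv
      exact sub_eq_zero.mp hv
    · intro w
      have h0 : w ≫ T.mor₂ = 0 := hZ _ hA
      obtain ⟨u, hu⟩ := Triangle.coyoneda_exact₂ T hT w h0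
      exact ⟨u, hu.symm⟩
  · intro hb A z hA
    have ht : (z ≫ T.mor₃) ≫ (shiftFunctor D (1 : ℤ)).map T.mor₁ = 0 := by
      rw [Category.assoc, comp_distTriang_mor_zero₃₁ _ hT, comp_zero]
    have ht0 : z ≫ T.mor₃ = 0 := by
      refine Groth.Agent.Helper3.hom_shift_one_eq_zero T.mor₁ ?_ _ ht
      intro u hu
      apply (hb _ (P.le_shift (-1 : ℤ) _ hA)).1
      dsimp only
      rw [hu, zero_comp]
    obtain ⟨w, hw⟩ := Triangle.coyoneda_exact₃ T hT z ht0
    obtain ⟨u, hu⟩ := (hb A hA).2 w
    dsimp only at hu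
    rw [hw, ← hu, Category.assoc, comp_distTriang_mor_zero₁₂ _ hT, comp_zero]

end Groth.Agent.S6600
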