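import Groth.Statements.S6601
import Groth.Agent.Lib.Helper3.Triang
open CategoryTheory.Pretriangulated

set_option autoImplicit false
universe v u
open CategoryTheory CategoryTheory.Limits
open CohDer

namespace Groth.Agent.S6601

open CategoryTheory.Pretriangulated in
/-- Let D be a triangulated category, B ⊂ D a full subcategory invariant under all shifts, and X → Y → Z
→ X⟦1⟧ a distinguished triangle. Then X lies in the left orthogonal ^⊥B if and only if Hom(Z, B) →
Hom(Y, B) is bijective for every object B of B. -/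
theorem result {D : Type u} [Category.{v} D] [Preadditive D] [HasZeroObject D] [HasShift D ℤ]
    [∀ n : ℤ, (shiftFunctor D n).Additive] [Pretriangulated D] [IsTriangulated D]
    (P : ObjectProperty D) [P.IsStableUnderShift ℤ] (T : Triangle D) (hT : T ∈ distinguishedTriangles) :
    P.leftOrthogonal T.obj₁ ↔ ∀ B : D, P B → Function.Bijective (fun u : T.obj₃ ⟶ B => T.mor₂ ≫ u) := by
  constructor
  · intro hX B hB
    constructor
    · intro u₁ u₂ h
      dsimp only at h
      have h0 : T.mor₂ ≫ (u₁ - u₂) = 0 := by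
        rw [Preadditive.comp_sub, h, sub_self]
      obtain ⟨w, hw⟩ := Triangle.yoneda_exact₃ T hT (u₁ - u₂) h0
      have hw0 : w = 0 := by
        refine Groth.Agent.Helper3.hom_shift_one_eq_zero' (A := T.obj₁) (Z := B) ?_ w
        intro w'
        exact hX w' (P.le_shift (-1 : ℤ) _ hB)
      rw [hw0, comp_zero] at hw
      exact sub_eq_zero.mp hw
    · intro w
      have h0 : T.mor₁ ≫ w = 0 := hX _ hB
      obtain ⟨u, hu⟩ := Triangle.yoneda_exact₂ T hT w h0
      exact ⟨u, hu.symm⟩
  · intro hb B x hB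
    have hs : T.mor₂ ≫ (T.mor₃ ≫ (shiftFunctor D (1 : ℤ)).map x) = 0 := by
      rw [← Category.assoc, comp_distTriang_mor_zero₂₃ _ hT, zero_comp]
    have hs0 : T.mor₃ ≫ (shiftFunctor D (1 : ℤ)).map x = 0 := by
      apply (hb _ (P.le_shift (1 : ℤ) _ hB)).1
      dsimp only
      rw [hs, comp_zero]
    obtain ⟨w, hw⟩ := Triangle.yoneda_exact₂ T.rotate.rotate
      (rot_of_distTriang _ (rot_of_distTriang _ hT)) ((shiftFunctor D (1 : ℤ)).map x) hs0
    obtain ⟨w₀, hw₀⟩ := (shiftFunctor D (1 : ℤ)).map_surjective w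
    have hx : (shiftFunctor D (1 : ℤ)).map x =
        (shiftFunctor D (1 : ℤ)).map (-(T.mor₁ ≫ w₀)) := by
      rw [hw, ← hw₀, Functor.map_neg, Functor.map_comp]
      exact Preadditive.neg_comp _ _
    have hx' := (shiftFunctor D (1 : ℤ)).map_injective hx
    obtain ⟨u, hu⟩ := (hb B hB).2 w₀
    dsimp only at hu
    rw [hx', ← hu, ← Category.assoc, comp_distTriang_mor_zero₁₂ _ hT, zero_comp, neg_zero]

end Groth.Agent.S6601
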