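import Groth.Statements.S6602
import Groth.Agent.S6601
import Mathlib.CategoryTheory.Adjunction.Comma
open CategoryTheory.Pretriangulated

set_option autoImplicit false
universe v u
open CategoryTheory CategoryTheory.Limits
open CohDer

namespace Groth.Agent.S6602

open CategoryTheory.Pretriangulated in
/-- (1) ⇔ (2): let D be a triangulated category and B a full triangulated subcategory. The inclusion
functor B → D has a left adjoint if and only if for every X in D there is a distinguished triangle A
→ X → B → A⟦1⟧ with B in B and A in the left orthogonal ^⊥B. (The published statement further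
asserts that B is then saturated and, when strictly full, equals the right orthogonal of its left
orthogonal; this row asserts only the equivalence.) -/
theorem result {D : Type u} [Category.{v} D] [Preadditive D] [HasZeroObject D] [HasShift D ℤ]
    [∀ n : ℤ, (shiftFunctor D n).Additive] [Pretriangulated D] [IsTriangulated D]
    (P : ObjectProperty D) [P.IsTriangulated] :
    P.ι.IsRightAdjoint ↔ ∀ X : D, ∃ (A B : D) (f : A ⟶ X) (g : X ⟶ B) (h : B ⟶ (shiftFunctor D (1 : ℤ)).obj A),
      Triangle.mk f g h ∈ distinguishedTriangles ∧ P B ∧ P.leftOrthogonal A := by
  rw [isRightAdjoint_iff_hasInitial_structuredArrow]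
  constructor
  · intro h X
    have := h X
    let I : StructuredArrow X P.ι := ⊥_ _
    have hI : IsInitial I := initialIsInitial
    obtain ⟨A, f, h', hT⟩ := distinguished_cocone_triangle₁ I.hom
    refine ⟨A, I.right.obj, f, I.hom, h', hT, I.right.property, ?_⟩
    refine (Groth.Agent.S6601.result P _ hT).2 ?_
    intro B hB
    constructor
    · intro u₁ u₂ h
      let J : StructuredArrow X P.ι :=
        StructuredArrow.mk (Y := (⟨B, hB⟩ : P.FullSubcategory)) (I.hom ≫ u₁)
      let m₁ : I ⟶ J := StructuredArrow.homMk (ObjectProperty.homMk u₁) rfl
      let m₂ : I ⟶ J := StructuredArrow.homMk (ObjectProperty.homMk u₂) h.symm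
      have := hI.hom_ext m₁ m₂
      exact congrArg (fun m => m.right.hom) this
    · intro w
      let J : StructuredArrow X P.ι :=
        StructuredArrow.mk (Y := (⟨B, hB⟩ : P.FullSubcategory)) w
      exact ⟨(hI.to J).right.hom, StructuredArrow.w (hI.to J)⟩
  · intro h X
    obtain ⟨A, B, f, g, k, hT, hB, hA⟩ := h X
    have hbij := (Groth.Agent.S6601.result P _ hT).1 hA
    let I : StructuredArrow X P.ι :=
      StructuredArrow.mk (Y := (⟨B, hB⟩ : P.FullSubcategory)) g
    have hI : IsInitial I := by
      refine IsInitial.ofUniqueHom
        (fun J => StructuredArrow.homMk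
          (ObjectProperty.homMk ((hbij J.right.obj J.right.property).2 J.hom).choose)
          ((hbij J.right.obj J.right.property).2 J.hom).choose_spec) ?_
      intro J m
      ext
      apply (hbij J.right.obj J.right.property).1
      change g ≫ m.right.hom = g ≫ _
      have h1 : g ≫ m.right.hom = J.hom := StructuredArrow.w m
      rw [h1]
      exact ((hbij J.right.obj J.right.property).2 J.hom).choose_spec.symm
    exact hI.hasInitial

end Groth.Agent.S6602
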