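import Groth.Statements.S6606
import Mathlib

set_option autoImplicit false
universe v u
open CategoryTheory CategoryTheory.Limits
open CohDer

namespace Groth.Agent.S6606

section aux

variable {A : Type u} [Category.{v} A] [Abelian A]

/-- a map from a bounded complex of projectives in degrees `≥ n` to a complex exact in degrees
`≥ n` is null-homotopic -/
lemma homotopy_zero_of_exact_above (P C : CochainComplex A ℤ) (n b : ℤ) [P.IsStrictlyGE n]
    [P.IsStrictlyLE b] [∀ i, Projective (P.X i)] (hC : ∀ i, n ≤ i → C.ExactAt i) (f : P ⟶ C) :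
    Nonempty (Homotopy f 0) := by
  let _ : HasDerivedCategory A := HasDerivedCategory.standard A
  have hP : P.IsKProjective := CochainComplex.isKProjective_of_projective P b
  have hLE : C.IsLE (n - 1) := by
    rw [CochainComplex.isLE_iff]
    intro i hi
    exact hC i (by omega)
  have hq : QuasiIso (C.ιTruncLE (n - 1)) := (C.quasiIso_ιTruncLE_iff (n - 1)).2 hLE
  let q := HomotopyCategory.quotient A (ComplexShape.up ℤ)
  have hiso : IsIso (DerivedCategory.Qh.map (q.map (C.ιTruncLE (n - 1)))) := by
    rw [DerivedCategory.isIso_Qh_map_iff, HomotopyCategory.quotient_map_mem_quasiIso_iff,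
      HomologicalComplex.mem_quasiIso_iff]
    exact hq
  obtain ⟨g, hg⟩ := (CochainComplex.IsKProjective.Qh_map_bijective P
    (q.obj (C.truncLE (n - 1)))).surjective
      (DerivedCategory.Qh.map (q.map f) ≫ inv (DerivedCategory.Qh.map (q.map (C.ιTruncLE (n - 1)))))
  obtain ⟨g', rfl⟩ := q.map_surjective g
  have hg'0 : g' = 0 := by
    ext i
    by_cases hi : i ≤ n - 1
    · exact (P.isZero_of_isStrictlyGE n i (by omega)).eq_of_src _ _
    · exact ((C.truncLE (n - 1)).isZero_of_isStrictlyLE (n - 1) i (by omega)).eq_of_tgt _ _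
  have h1 : DerivedCategory.Qh.map (q.map f) = 0 := by
    have h2 : DerivedCategory.Qh.map (q.map f) =
        DerivedCategory.Qh.map (q.map g') ≫ DerivedCategory.Qh.map (q.map (C.ιTruncLE (n - 1))) := by
      rw [hg, Category.assoc, IsIso.inv_hom_id, Category.comp_id]
    rw [h2, hg'0, Functor.map_zero, Functor.map_zero, zero_comp]
  have h0 : q.map f = 0 :=
    (CochainComplex.IsKProjective.Qh_map_bijective P _).injective (by rw [h1, Functor.map_zero])
  exact ⟨HomotopyCategory.homotopyOfEq _ _ (by rw [h0, Functor.map_zero])⟩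

/-- the cone of a map which is `n`-connected on cohomology is exact in degrees `≥ n` -/
lemma exactAt_mappingCone {E L : CochainComplex A ℤ} (α : E ⟶ L) (i : ℤ)
    (h1 : Epi (HomologicalComplex.homologyMap α i))
    (h2 : Mono (HomologicalComplex.homologyMap α (i + 1))) :
    (CochainComplex.mappingCone α).ExactAt i := by
  let F₀ := HomotopyCategory.homologyFunctor A (ComplexShape.up ℤ) 0
  let q := HomotopyCategory.quotient A (ComplexShape.up ℤ)
  let T := CochainComplex.mappingCone.triangleh α
  have hT : T ∈ distTriang _ := HomotopyCategory.mappingCone_triangleh_distinguished α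
  let e (j : ℤ) := HomotopyCategory.homologyFunctorFactors A (ComplexShape.up ℤ) j
  have hmap : ∀ j, (F₀.shift j).map T.mor₁ =
      (e j).hom.app E ≫ (HomologicalComplex.homologyFunctor A (ComplexShape.up ℤ) j).map α ≫
        (e j).inv.app L := by
    intro j
    have := (e j).hom.naturality α
    rw [← Category.assoc, ← this, Category.assoc, Iso.hom_inv_id_app, Category.comp_id]
    rfl
  have hepi : Epi ((F₀.shift i).map T.mor₁) := by
    rw [hmap]
    have a0 : Epi ((HomologicalComplex.homologyFunctor A (ComplexShape.up ℤ) i).map α) := h1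
    have a1 : IsIso ((e i).hom.app E) := inferInstance
    have a2 : IsIso ((e i).inv.app L) := inferInstance
    have a3 : Epi ((HomologicalComplex.homologyFunctor A (ComplexShape.up ℤ) i).map α ≫
        (e i).inv.app L) := epi_comp _ _
    have a4 : Epi ((e i).hom.app E) := IsIso.epi_of_iso _
    exact @epi_comp _ _ _ _ _ _ a4 _ a3
  have hmono : Mono ((F₀.shift (i + 1)).map T.mor₁) := by
    rw [hmap]
    have a0 : Mono ((HomologicalComplex.homologyFunctor A (ComplexShape.up ℤ) (i + 1)).map α) := h2
    have a1 : IsIso ((e (i + 1)).hom.app E) := inferInstance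
    have a2 : IsIso ((e (i + 1)).inv.app L) := inferInstance
    have a3 : Mono ((HomologicalComplex.homologyFunctor A (ComplexShape.up ℤ) (i + 1)).map α ≫
        (e (i + 1)).inv.app L) := mono_comp _ _
    have a4 : Mono ((e (i + 1)).hom.app E) := IsIso.mono_of_iso _
    exact @mono_comp _ _ _ _ _ _ a4 _ a3
  have hz : IsZero ((F₀.shift i).obj T.obj₃) := by
    rw [(F₀.homologySequence_exact₃ T hT i (i + 1) rfl).isZero_X₂_iff]
    exact ⟨(F₀.homologySequence_epi_shift_map_mor₁_iff T hT i).1 hepi,
      (F₀.homologySequence_mono_shift_map_mor₁_iff T hT i (i + 1) rfl).1 hmono⟩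
  rw [HomologicalComplex.exactAt_iff_isZero_homology]
  exact IsZero.of_iso hz ((e i).app (CochainComplex.mappingCone α)).symm

end aux

/-- Let A be an abelian category, β : P ⟶ L and α : E ⟶ L morphisms of cochain complexes and n an
integer. Assume P is a bounded complex of projective objects with Pⁱ = 0 for i < n, and that Hⁱ(α)
is an isomorphism for i > n and an epimorphism for i = n. Then there is γ : P ⟶ E such that γ ≫ α is
homotopic to β. -/
theorem result {A : Type u} [Category.{v} A] [Abelian A]
    (P E L : CochainComplex A ℤ) (β : P ⟶ L) (α : E ⟶ L) (n b : ℤ) [P.IsStrictlyGE n] [P.IsStrictlyLE b]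
    (hP : ∀ i : ℤ, Projective (P.X i))
    (hiso : ∀ i : ℤ, n < i → IsIso (HomologicalComplex.homologyMap α i)) (hepi : Epi (HomologicalComplex.homologyMap α n)) :
    ∃ γ : P ⟶ E, Nonempty (Homotopy (γ ≫ α) β) := by
  have hC : ∀ i, n ≤ i → (CochainComplex.mappingCone α).ExactAt i := by
    intro i hi
    have h1 : Epi (HomologicalComplex.homologyMap α i) := by
      rcases hi.eq_or_lt with rfl | hlt
      · exact hepi
      · have := hiso i hlt
        infer_instance
    have h2 : Mono (HomologicalComplex.homologyMap α (i + 1)) := by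
      have := hiso (i + 1) (by omega)
      infer_instance
    exact exactAt_mappingCone α i h1 h2
  obtain ⟨h⟩ := homotopy_zero_of_exact_above P (CochainComplex.mappingCone α) n b hC
    (β ≫ CochainComplex.mappingCone.inr α)
  let q := HomotopyCategory.quotient A (ComplexShape.up ℤ)
  have hT := HomotopyCategory.mappingCone_triangleh_distinguished α
  have hz : q.map β ≫ (CochainComplex.mappingCone.triangleh α).mor₂ = 0 := by
    change q.map β ≫ q.map (CochainComplex.mappingCone.inr α) = 0
    rw [← q.map_comp, HomotopyCategory.eq_of_homotopy _ _ h, Functor.map_zero]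
  obtain ⟨γ, hγ⟩ := Pretriangulated.Triangle.coyoneda_exact₂ _ hT (q.map β) hz
  obtain ⟨γ', rfl⟩ := q.map_surjective γ
  refine ⟨γ', ⟨HomotopyCategory.homotopyOfEq _ _ ?_⟩⟩
  rw [q.map_comp]
  exact hγ.symm

end Groth.Agent.S6606
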