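import Groth.Statements.S6607
import Mathlib.CategoryTheory.Triangulated.Orthogonal
import Mathlib.CategoryTheory.Localization.Triangulated
open CategoryTheory.Pretriangulated
open scoped ZeroObject

set_option autoImplicit false
universe v u
open CategoryTheory CategoryTheory.Limits
open CohDer

namespace Groth.Agent.S6607

open CategoryTheory.Pretriangulated in
/-- Let D be a triangulated category and B a full triangulated subcategory. Let P(X) be the property:
there is a distinguished triangle A → X → B → A⟦1⟧ with B in B and A in ^⊥B. Then P satisfies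
two-out-of-three in distinguished triangles, i.e. it is stable under all shifts and closed under
extensions (a triangulated object property). -/
theorem result {D : Type u} [Category.{v} D] [Preadditive D] [HasZeroObject D] [HasShift D ℤ]
    [∀ n : ℤ, (shiftFunctor D n).Additive] [Pretriangulated D] [IsTriangulated D]
    (B : ObjectProperty D) [B.IsTriangulated] :
    ObjectProperty.IsTriangulated (fun X : D => ∃ (A Y : D) (f : A ⟶ X) (g : X ⟶ Y) (h : Y ⟶ (shiftFunctor D (1 : ℤ)).obj A),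
      Triangle.mk f g h ∈ distinguishedTriangles ∧ B Y ∧ B.leftOrthogonal A) := by
  have key : (fun X : D => ∃ (A Y : D) (f : A ⟶ X) (g : X ⟶ Y) (h : Y ⟶ (shiftFunctor D (1 : ℤ)).obj A),
      Triangle.mk f g h ∈ distinguishedTriangles ∧ B Y ∧ B.leftOrthogonal A) =
      (fun X : D => ∃ (A : D) (f : A ⟶ X), B.leftOrthogonal A ∧ B.trW f) := by
    funext X
    apply propext
    constructor
    · rintro ⟨A, Y, f, g, h, hT, hY, hA⟩
      exact ⟨A, f, hA, ⟨Y, g, h, hT, hY⟩⟩
    · rintro ⟨A, f, hA, ⟨Y, g, h, hT, hY⟩⟩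
      exact ⟨A, Y, f, g, h, hT, hY, hA⟩
  rw [key]
  refine { toContainsZero := ⟨?_⟩, toIsStableUnderShift := ⟨fun n => ⟨?_⟩⟩,
           toIsTriangulatedClosed₂ := ⟨?_⟩ }
  · exact ⟨0, isZero_zero D, 0, 𝟙 0, (B.leftOrthogonal).prop_of_isZero (isZero_zero D),
      MorphismProperty.id_mem _ _⟩
  · rintro X ⟨A, f, hA, hf⟩
    exact ⟨(shiftFunctor D n).obj A, (shiftFunctor D n).map f, B.leftOrthogonal.le_shift n _ hA,
      hf.shift n⟩
  · rintro T hT ⟨A₁, f₁, hA₁, hf₁⟩ ⟨A₃, f₃, hA₃, hf₃⟩
    refine ObjectProperty.le_isoClosure _ _ ?_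
    have hcol : B.trW.isColocal A₃ := by rw [B.isColocal_trW]; exact hA₃
    obtain ⟨φ, hφ⟩ := (hcol ((shiftFunctor D (1 : ℤ)).map f₁) (hf₁.shift 1)).2 (f₃ ≫ T.mor₃)
    dsimp only at hφ
    obtain ⟨A₂, i, p, hTA⟩ := distinguished_cocone_triangle₂ φ
    have hA₂ : B.leftOrthogonal A₂ :=
      B.leftOrthogonal.ext_of_isTriangulatedClosed₂ _ hTA hA₁ hA₃
    obtain ⟨c, hc, -, -⟩ := MorphismProperty.compatible_with_triangulation (W := B.trW)
      (Triangle.mk i p φ).rotate.rotate T.rotate.rotate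
      (rot_of_distTriang _ (rot_of_distTriang _ hTA)) (rot_of_distTriang _ (rot_of_distTriang _ hT))
      f₃ ((shiftFunctor D (1 : ℤ)).map f₁) hf₃ (hf₁.shift 1) hφ
    obtain ⟨f₂, hf₂⟩ := (shiftFunctor D (1 : ℤ)).map_surjective c
    refine ⟨A₂, f₂, hA₂, ?_⟩
    rw [← hf₂] at hc
    exact hc.unshift

end Groth.Agent.S6607
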