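import Groth.Statements.S6608
-- import your own Groth.Agent.* helpers here

set_option autoImplicit false
universe v u
open CategoryTheory CategoryTheory.Limits
open CohDer

namespace Groth.Agent.S6608

open CategoryTheory.Pretriangulated in
/-- Let D be a pretriangulated category and S a set of arrows of D containing the identities and
satisfying MS6 (compatibility with the triangulated structure; here together with stability under
shifts, MS5). Then every isomorphism of D lies in S. -/
theorem result {D : Type u} [Category.{v} D] [Preadditive D] [HasZeroObject D] [HasShift D ℤ]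
    [∀ n : ℤ, (shiftFunctor D n).Additive] [Pretriangulated D]
    (S : MorphismProperty D) [S.ContainsIdentities] [S.IsCompatibleWithTriangulation]
    {X Y : D} (f : X ⟶ Y) [IsIso f] : S f := by
  obtain ⟨Z, u, h, hT⟩ := Pretriangulated.distinguished_cocone_triangle₁ (𝟙 X)
  have hT₂ : Triangle.mk u f (inv f ≫ h) ∈ distTriang D := by
    refine isomorphic_distinguished _ hT _
      (Triangle.isoMk (Triangle.mk u f (inv f ≫ h)) (Triangle.mk u (𝟙 X) h)
        (Iso.refl Z) (Iso.refl X) (asIso f).symm ?_ ?_ ?_)
    · exact (Category.comp_id u).trans (Category.id_comp u).symm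
    · exact (IsIso.hom_inv_id f).trans (Category.comp_id (𝟙 X)).symm
    · have h2 : (shiftFunctor D (1 : ℤ)).map (𝟙 Z) = 𝟙 _ := CategoryTheory.Functor.map_id _ _
      exact (congrArg (fun t => (inv f ≫ h) ≫ t) h2).trans (Category.comp_id _)
  obtain ⟨c, hc, h1, -⟩ := MorphismProperty.compatible_with_triangulation
    (W := S) (Triangle.mk u (𝟙 X) h) (Triangle.mk u f (inv f ≫ h)) hT hT₂ (𝟙 Z) (𝟙 X)
    (S.id_mem _) (S.id_mem _) ((Category.comp_id u).trans (Category.id_comp u).symm)
  have : c = f := (Category.id_comp c).symm.trans (h1.trans (Category.id_comp f))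
  exact this ▸ hc

end Groth.Agent.S6608
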