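import Groth.Statements.S6609
open CategoryTheory.Pretriangulated

set_option autoImplicit false
universe v u
open CategoryTheory CategoryTheory.Limits
open CohDer

namespace Groth.Agent.S6609

open CategoryTheory.Pretriangulated in
/-- Let D be a pretriangulated category and S a set of arrows satisfying MS1 (identities, stable under
composition), MS5 (stable under shifts in both directions) and MS6 (compatibility with distinguished
triangles). Then MS2 holds: (LMS2) for f : X ⟶ Y and t : X ⟶ X' in S there are f' : X' ⟶ Y' and s' :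
Y ⟶ Y' in S with f ≫ s' = t ≫ f'; (RMS2) for f : X ⟶ Y and s : Y' ⟶ Y in S there are f' : X' ⟶ Y'
and t' : X' ⟶ X in S with t' ≫ f = f' ≫ s. -/
theorem result {D : Type u} [Category.{v} D] [Preadditive D] [HasZeroObject D] [HasShift D ℤ]
    [∀ n : ℤ, (shiftFunctor D n).Additive] [Pretriangulated D]
    (S : MorphismProperty D) [S.IsMultiplicative] [S.IsCompatibleWithTriangulation] :
    (∀ {X Y X' : D} (f : X ⟶ Y) (t : X ⟶ X'), S t →
      ∃ (Y' : D) (f' : X' ⟶ Y') (s' : Y ⟶ Y'), S s' ∧ f ≫ s' = t ≫ f') ∧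
    (∀ {X Y Y' : D} (f : X ⟶ Y) (s : Y' ⟶ Y), S s →
      ∃ (X' : D) (f' : X' ⟶ Y') (t' : X' ⟶ X), S t' ∧ t' ≫ f = f' ≫ s) := by
  constructor
  · intro X Y X' f t ht
    obtain ⟨Z, u, h, hT₁⟩ := distinguished_cocone_triangle₁ f
    obtain ⟨Y', f', h', hT₂⟩ := distinguished_cocone_triangle (u ≫ t)
    obtain ⟨c, hc, h1, -⟩ := MorphismProperty.compatible_with_triangulation (W := S)
      (Triangle.mk u f h) (Triangle.mk (u ≫ t) f' h') hT₁ hT₂ (𝟙 Z) t (S.id_mem _) ht
      (Category.id_comp _).symm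
    exact ⟨Y', f', c, hc, h1⟩
  · intro X Y Y' f s hs
    obtain ⟨Z, v, h, hT₁⟩ := distinguished_cocone_triangle f
    obtain ⟨X', f', h', hT₂⟩ := distinguished_cocone_triangle₁ (s ≫ v)
    obtain ⟨c, hc, -, h3⟩ := MorphismProperty.compatible_with_triangulation (W := S)
      (Triangle.mk f' (s ≫ v) h').rotate (Triangle.mk f v h).rotate
      (rot_of_distTriang _ hT₂) (rot_of_distTriang _ hT₁) s (𝟙 Z) hs (S.id_mem _)
      (Category.comp_id _)
    let c' : (shiftFunctor D (1 : ℤ)).obj X' ⟶ (shiftFunctor D (1 : ℤ)).obj X := c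
    have hc' : S c' := hc
    have h3' : (-(shiftFunctor D (1 : ℤ)).map f') ≫ (shiftFunctor D (1 : ℤ)).map s =
        c' ≫ (-(shiftFunctor D (1 : ℤ)).map f) := h3
    clear_value c'
    obtain ⟨t', ht'⟩ := (shiftFunctor D (1 : ℤ)).map_surjective c'
    refine ⟨X', f', t', ?_, ?_⟩
    · rw [← MorphismProperty.IsCompatibleWithShift.iff S t' (1 : ℤ), ht']
      exact hc'
    · apply (shiftFunctor D (1 : ℤ)).map_injective
      rw [Functor.map_comp, Functor.map_comp, ht']
      rw [Preadditive.neg_comp, Preadditive.comp_neg, neg_inj] at h3'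
      exact h3'.symm

end Groth.Agent.S6609
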