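import Groth.Statements.S6610
import Mathlib
import Groth.Agent.Lib.Helper3.IResDual

set_option autoImplicit false
universe v u
open CategoryTheory CategoryTheory.Limits
open CohDer

namespace Groth.Agent.S6610

section aux

variable {𝒜 : Type u} [Category.{v} 𝒜] [Abelian 𝒜]

/-- the pullback of an epimorphism `g` along `f`: `0 → ker g → X₂ ×_{X₄} X₃ → X₂ → 0`. -/
lemma pullback_shortExact {X₂ X₃ X₄ : 𝒜} (f : X₂ ⟶ X₄) (g : X₃ ⟶ X₄) [Epi g] :
    (ShortComplex.mk
      (pullback.lift (0 : kernel g ⟶ X₂) (kernel.ι g) (by rw [zero_comp, kernel.condition]))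
      (pullback.fst f g) (by rw [pullback.lift_fst])).ShortExact := by
  refine { exact := ?_, mono_f := ?_, epi_g := inferInstanceAs (Epi (pullback.fst f g)) }
  · rw [ShortComplex.exact_iff_exact_up_to_refinements]
    intro W x hx
    dsimp at x hx
    have h1 : (x ≫ pullback.snd f g) ≫ g = 0 := by
      rw [Category.assoc, ← pullback.condition, reassoc_of% hx, zero_comp]
    refine ⟨W, 𝟙 W, inferInstance, kernel.lift g (x ≫ pullback.snd f g) h1, ?_⟩
    dsimp
    rw [Category.id_comp]
    apply pullback.hom_ext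
    · rw [Category.assoc, pullback.lift_fst, comp_zero, hx]
    · rw [Category.assoc, pullback.lift_snd, kernel.lift_ι]
  · exact mono_of_mono_fac (pullback.lift_snd _ _ _)

variable {C : Type u} [Category.{v} C] [Abelian C]

lemma quasiIso_g_of_acyclic_X₁ {S : ShortComplex (CochainComplex C ℤ)} (hS : S.ShortExact)
    (h : S.X₁.Acyclic) : QuasiIso S.g := by
  rw [quasiIso_iff]
  intro n
  rw [quasiIsoAt_iff_isIso_homologyMap]
  have hz : ∀ m, IsZero (S.X₁.homology m) := fun m =>
    (HomologicalComplex.exactAt_iff_isZero_homology _ _).1 (h m)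
  have hm : Mono (HomologicalComplex.homologyMap S.g n) :=
    (hS.homology_exact₂ n).mono_g ((hz n).eq_of_src _ _)
  have he : Epi (HomologicalComplex.homologyMap S.g n) :=
    (hS.homology_exact₃ n (n + 1) (by simp)).epi_f ((hz (n + 1)).eq_of_tgt _ _)
  exact isIso_of_mono_of_epi _

set_option backward.defeqAttrib.useBackward true in
set_option backward.isDefEq.respectTransparency false in
lemma quasiIso_τ₁ {S₁ S₂ : ShortComplex (CochainComplex C ℤ)} (φ : S₁ ⟶ S₂)
    (hS₁ : S₁.ShortExact) (hS₂ : S₂.ShortExact) (h₂ : QuasiIso φ.τ₂) (h₃ : QuasiIso φ.τ₃) :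
    QuasiIso φ.τ₁ := by
  rw [quasiIso_iff]
  intro j
  rw [quasiIsoAt_iff_isIso_homologyMap]
  have hij : (ComplexShape.up ℤ).Rel (j - 1) j := by simp
  exact Abelian.isIso_of_epi_of_isIso_of_isIso_of_mono
    (HomologicalComplex.HomologySequence.composableArrows₅_exact hS₁ (j - 1) j hij).δ₀
    (HomologicalComplex.HomologySequence.composableArrows₅_exact hS₂ (j - 1) j hij).δ₀
    (ComposableArrows.δ₀Functor.map
      (HomologicalComplex.HomologySequence.mapComposableArrows₅ φ hS₁ hS₂ (j - 1) j hij))
    (by change Epi (HomologicalComplex.homologyMap φ.τ₂ (j - 1)); infer_instance)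
    (by change IsIso (HomologicalComplex.homologyMap φ.τ₃ (j - 1)); infer_instance)
    (by change IsIso (HomologicalComplex.homologyMap φ.τ₂ j); infer_instance)
    (by change Mono (HomologicalComplex.homologyMap φ.τ₃ j); infer_instance)

end aux

/-- Let A be an abelian category with enough projectives and S : 0 → A• → B• → C• → 0 a short exact
sequence of cochain complexes all vanishing above degree n. Then there are a short exact sequence T
: 0 → P₁ → P₂ → P₃ → 0 of complexes of projective objects vanishing above degree n and a morphism of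
short exact sequences T ⟶ S whose three components are quasi-isomorphisms (projective resolutions).
(The published statement is phrased for bounded below complexes; projective resolutions are bounded
above by definition and exist only for complexes with cohomology bounded above, so the statement is
given here for bounded above complexes, the case dual to the injective one.) -/
theorem result {A : Type u} [Category.{v} A] [Abelian A] [EnoughProjectives A]
    (S : ShortComplex (CochainComplex A ℤ)) (hS : S.ShortExact) (n : ℤ)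
    [S.X₁.IsStrictlyLE n] [S.X₂.IsStrictlyLE n] [S.X₃.IsStrictlyLE n] :
    ∃ (T : ShortComplex (CochainComplex A ℤ)) (φ : T ⟶ S), T.ShortExact ∧
      T.X₁.IsStrictlyLE n ∧ T.X₂.IsStrictlyLE n ∧ T.X₃.IsStrictlyLE n ∧
      (∀ k : ℤ, Projective (T.X₁.X k) ∧ Projective (T.X₂.X k) ∧ Projective (T.X₃.X k)) ∧
      QuasiIso φ.τ₁ ∧ QuasiIso φ.τ₂ ∧ QuasiIso φ.τ₃ := by
  classical
  have hP0 : ∃ Z : A, IsZero Z ∧ Projective Z := ⟨_, isZero_zero A, inferInstance⟩
  have hP : ∀ X : A, ∃ (Y : A) (π : Y ⟶ X), Projective Y ∧ Epi π :=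
    fun X => ⟨Projective.over X, Projective.π X, inferInstance, inferInstance⟩
  obtain ⟨P₃, γ, hP₃LE, hP₃proj, hγe, hγq⟩ :=
    Groth.Agent.Helper3.IResDual.exists_left_resolution_int (fun X => Projective X) hP0 hP S.X₃ n
  have hγ : Epi γ := HomologicalComplex.epi_of_epi_f γ hγe
  have hg : Epi S.g := hS.epi_g
  have hfst : QuasiIso (pullback.fst S.g γ) := by
    have hP := pullback_shortExact S.g γ
    have hC : (ShortComplex.mk (kernel.ι γ) γ (kernel.condition γ)).ShortExact :=
      { exact := ShortComplex.exact_kernel γ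
        mono_f := inferInstanceAs (Mono (kernel.ι γ))
        epi_g := hγ }
    exact quasiIso_g_of_acyclic_X₁ hP (hC.acyclic_X₁ hγq)
  have hB'LE : (pullback S.g γ).IsStrictlyLE n := by
    rw [CochainComplex.isStrictlyLE_iff]
    intro i hi
    let p : pullback S.g γ ⟶ S.X₂ ⊞ P₃ := biprod.lift (pullback.fst _ _) (pullback.snd _ _)
    have hp : Mono p := (IsPullback.of_hasPullback S.g γ).mono_shortComplex'_f
    have hp' : Mono (p.f i) := inferInstance
    refine IsZero.of_mono (p.f i) ?_
    refine IsZero.of_iso ?_ (HomologicalComplex.biprodXIso _ _ i)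
    rw [biprod_isZero_iff]
    exact ⟨S.X₂.isZero_of_isStrictlyLE n _ hi, P₃.isZero_of_isStrictlyLE n _ hi⟩
  obtain ⟨P₂, β, hP₂LE, hP₂proj, hβe, hβq⟩ :=
    Groth.Agent.Helper3.IResDual.exists_left_resolution_int (fun X => Projective X) hP0 hP
      (pullback S.g γ) n
  have hβ : Epi β := HomologicalComplex.epi_of_epi_f β hβe
  have hsnd : Epi (pullback.snd S.g γ) := inferInstance
  have ht : Epi (β ≫ pullback.snd S.g γ) := epi_comp _ _
  have hT : (ShortComplex.mk (kernel.ι (β ≫ pullback.snd S.g γ)) (β ≫ pullback.snd S.g γ)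
      (kernel.condition _)).ShortExact :=
    { exact := ShortComplex.exact_kernel _
      mono_f := inferInstanceAs (Mono (kernel.ι _))
      epi_g := ht }
  have w : (kernel.ι (β ≫ pullback.snd S.g γ) ≫ β ≫ pullback.fst S.g γ) ≫ S.g = 0 := by
    rw [Category.assoc, Category.assoc, pullback.condition, ← Category.assoc β,
      kernel.condition_assoc, zero_comp]
  have hτ₁ := hS.fIsKernel.fac (KernelFork.ofι _ w) WalkingParallelPair.zero
  dsimp at hτ₁
  refine ⟨_, { τ₁ := show kernel (β ≫ pullback.snd S.g γ) ⟶ S.X₁ from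
                 hS.fIsKernel.lift (KernelFork.ofι _ w)
               τ₂ := β ≫ pullback.fst S.g γ
               τ₃ := γ
               comm₁₂ := ?_, comm₂₃ := ?_ }, hT, ?_, hP₂LE, hP₃LE, ?_, ?_, ?_, hγq⟩
  · dsimp
    rw [hτ₁]
  · dsimp
    rw [Category.assoc, Category.assoc, pullback.condition]
  · dsimp
    rw [CochainComplex.isStrictlyLE_iff]
    intro i hi
    have hp' : Mono ((kernel.ι (β ≫ pullback.snd S.g γ)).f i) := inferInstance
    exact IsZero.of_mono ((kernel.ι (β ≫ pullback.snd S.g γ)).f i)
      (P₂.isZero_of_isStrictlyLE n _ hi)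
  · intro k
    refine ⟨?_, hP₂proj k, hP₃proj k⟩
    have hk := hT.map_of_exact (HomologicalComplex.eval A (ComplexShape.up ℤ) k)
    have : Projective (P₂.X k) := hP₂proj k
    have hproj : Projective ((ShortComplex.mk (kernel.ι (β ≫ pullback.snd S.g γ))
      (β ≫ pullback.snd S.g γ) (kernel.condition _)).map
        (HomologicalComplex.eval A (ComplexShape.up ℤ) k)).X₃ := hP₃proj k
    exact Retract.projective (Y := P₂.X k)
      { i := _, r := _, retract := (hk.splittingOfProjective).f_r }
  · exact quasiIso_τ₁ _ hT hS (by dsimp; infer_instance) hγq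
  · dsimp
    infer_instance

end Groth.Agent.S6610
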