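import Groth.Statements.S6612
import Mathlib

set_option autoImplicit false
universe v u
open CategoryTheory CategoryTheory.Limits
open CohDer

namespace Groth.Agent.S6612


/-- Let A be an additive category and 0 → A₂ → B₂ → C₂ → 0 a termwise split exact sequence of complexes.
Given a chain map b from a complex B₁ into B₂ and a chain map b' from B₂ into a complex B₃, suppose
that both composites b ≫ (B₂ → C₂) and (A₂ → B₂) ≫ b' are null-homotopic. Then b ≫ b' is homotopic
to zero. (The published statement has three termwise split sequences Aᵢ → Bᵢ → Cᵢ and asks both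
squares of each diagram to commute up to homotopy; this row keeps only the middle sequence and the
two conditions at B₂ that the argument uses, so it is more general.) -/
theorem result {V : Type u} [Category.{v} V] [Preadditive V] [HasBinaryBiproducts V]
    (S : ShortComplex (CochainComplex V ℤ))
    (σ : ∀ n : ℤ, (S.map (HomologicalComplex.eval V (ComplexShape.up ℤ) n)).Splitting)
    {B₁ B₃ : CochainComplex V ℤ} (b : B₁ ⟶ S.X₂) (b' : S.X₂ ⟶ B₃)
    (hb : Nonempty (Homotopy (b ≫ S.g) 0)) (hb' : Nonempty (Homotopy (S.f ≫ b') 0)) :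
    Nonempty (Homotopy (b ≫ b') 0) := by
  obtain ⟨h⟩ := hb
  obtain ⟨h'⟩ := hb'
  -- splitting data
  let r : ∀ n : ℤ, S.X₂.X n ⟶ S.X₁.X n := fun n => (σ n).r
  let s : ∀ n : ℤ, S.X₃.X n ⟶ S.X₂.X n := fun n => (σ n).s
  have hsg : ∀ n, s n ≫ S.g.f n = 𝟙 _ := fun n => (σ n).s_g
  have hfr : ∀ n, S.f.f n ≫ r n = 𝟙 _ := fun n => (σ n).f_r
  have hid : ∀ n, r n ≫ S.f.f n + S.g.f n ≫ s n = 𝟙 _ := fun n => (σ n).id
  have hbg : b ≫ S.g = Homotopy.nullHomotopicMap h.hom := by
    ext i
    have := h.comm i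
    rw [HomologicalComplex.zero_f_apply, add_zero] at this
    exact this
  let hom' : ∀ i j, B₁.X i ⟶ S.X₂.X j := fun i j => h.hom i j ≫ s j
  have hz : ∀ i j, ¬ (ComplexShape.up ℤ).Rel j i → hom' i j = 0 := by
    intro i j hij
    show h.hom i j ≫ s j = 0
    rw [h.zero i j hij, zero_comp]
  let N : B₁ ⟶ S.X₂ := Homotopy.nullHomotopicMap hom'
  have hN : Homotopy N 0 := Homotopy.nullHomotopy hom' hz
  have hNg : N ≫ S.g = b ≫ S.g := by
    rw [hbg, Homotopy.nullHomotopicMap_comp]
    congr 1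
    funext i j
    show (h.hom i j ≫ s j) ≫ S.g.f j = h.hom i j
    rw [Category.assoc, hsg, Category.comp_id]
  have hb₁ : ∀ n, (b - N).f n ≫ S.g.f n = 0 := by
    intro n
    have : (b - N) ≫ S.g = 0 := by rw [Preadditive.sub_comp, hNg, sub_self]
    have := congrArg (fun φ => φ.f n) this
    simpa using this
  have hb₁' : ∀ n, ((b - N).f n ≫ r n) ≫ S.f.f n = (b - N).f n := by
    intro n
    have e : r n ≫ S.f.f n = 𝟙 _ - S.g.f n ≫ s n := by rw [← hid n]; abel
    rw [Category.assoc, e, Preadditive.comp_sub, Category.comp_id, ← Category.assoc, hb₁ n, zero_comp,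
      sub_zero]
  have hmono : ∀ n, Mono (S.f.f n) := fun n => mono_of_mono_fac (hfr n)
  let a : B₁ ⟶ S.X₁ :=
    { f := fun n => (b - N).f n ≫ r n
      comm' := by
        intro i j _
        haveI := hmono j
        have e1 : ((b - N).f i ≫ r i) ≫ S.X₁.d i j ≫ S.f.f j = (b - N).f i ≫ S.X₂.d i j := by
          rw [← S.f.comm, ← Category.assoc, hb₁' i]
        have e2 : (B₁.d i j ≫ (b - N).f j ≫ r j) ≫ S.f.f j = B₁.d i j ≫ (b - N).f j := by
          rw [Category.assoc, hb₁' j]
        rw [← cancel_mono (S.f.f j), Category.assoc, e1, e2, (b - N).comm] }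
  have ha : a ≫ S.f = b - N := by
    ext n
    exact hb₁' n
  have e1 : b ≫ b' = a ≫ (S.f ≫ b') + N ≫ b' := by
    rw [← Category.assoc, ha, Preadditive.sub_comp]; abel
  have H1 : Homotopy (a ≫ (S.f ≫ b')) 0 := (h'.compLeft a).trans (Homotopy.ofEq comp_zero)
  have H2 : Homotopy (N ≫ b') 0 := (hN.compRight b').trans (Homotopy.ofEq zero_comp)
  exact ⟨(Homotopy.ofEq e1).trans ((H1.add H2).trans (Homotopy.ofEq (add_zero 0)))⟩

end Groth.Agent.S6612
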