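import Groth.Statements.S6613
import Mathlib

set_option autoImplicit false
universe v u v' u'
open CategoryTheory CategoryTheory.Limits
open CohDer

namespace Groth.Agent.S6613

section aux

variable {D : Type u} [Category.{v} D] (P : ObjectProperty D) (S : MorphismProperty D)
  [S.HasRightCalculusOfFractions]

/-- right calculus of fractions restricts to a full subcategory with enough left resolutions -/
lemma hasRightCalculusOfFractions_inverseImage
    (hP : ∀ X : D, ∃ (X' : D) (s : X' ⟶ X), P X' ∧ S s) :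
    (S.inverseImage P.ι).HasRightCalculusOfFractions where
  exists_rightFraction := by
    intro X Y φ
    let φ' : S.LeftFraction X.obj Y.obj := ⟨φ.f.hom, φ.s.hom, φ.hs⟩
    obtain ⟨ψ, hψ⟩ := φ'.exists_rightFraction
    obtain ⟨Z', u, hZ', hu⟩ := hP ψ.X'
    refine ⟨⟨ObjectProperty.homMk (X := ⟨Z', hZ'⟩) (u ≫ ψ.s), ?_,
      ObjectProperty.homMk (u ≫ ψ.f)⟩, ?_⟩
    · exact S.comp_mem _ _ hu ψ.hs
    · apply ObjectProperty.hom_ext
      change (u ≫ ψ.s) ≫ φ.f.hom = (u ≫ ψ.f) ≫ φ.s.hom
      rw [Category.assoc, Category.assoc]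
      congr 1
  ext := by
    intro X Y Y' f₁ f₂ s hs h
    obtain ⟨Z, t, ht, h'⟩ := MorphismProperty.HasRightCalculusOfFractions.ext
      f₁.hom f₂.hom s.hom hs (by
        have := congrArg (fun a => a.hom) h
        exact this)
    obtain ⟨Z', u, hZ', hu⟩ := hP Z
    refine ⟨⟨Z', hZ'⟩, ObjectProperty.homMk (u ≫ t), S.comp_mem _ _ hu ht, ?_⟩
    apply ObjectProperty.hom_ext
    change (u ≫ t) ≫ f₁.hom = (u ≫ t) ≫ f₂.hom
    rw [Category.assoc, Category.assoc, h']

end aux

/-- Let D be a pretriangulated category, D' ⊂ D a full pretriangulated subcategory, S a saturated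
multiplicative system of D compatible with the triangulated structure and Q : D → S⁻¹D the
localization. Assume every X in D admits some s : X' ⟶ X in S with X' in D'. Then, with S' = S ∩
Arrows(D'), the functor (S')⁻¹D' → S⁻¹D is an equivalence; equivalently the composite D' → D → S⁻¹D
is a localization of D' at S'. (The published result additionally claims that the intersection S' =
S ∩ Arrows(D') forms a multiplicative system on D' which is saturated and respects the triangulated
structure of D'; this row asserts only the localization property.) -/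
theorem result {D : Type u} [Category.{v} D] [Preadditive D] [HasZeroObject D] [HasShift D ℤ]
    [∀ n : ℤ, (shiftFunctor D n).Additive] [Pretriangulated D]
    (P : ObjectProperty D) [P.IsTriangulated]
    (S : MorphismProperty D) [S.HasLeftCalculusOfFractions] [S.HasRightCalculusOfFractions] [S.IsCompatibleWithTriangulation]
    {E : Type u'} [Category.{v'} E] (Q : D ⥤ E) [Q.IsLocalization S]
    (hsat : ∀ {X Y : D} (f : X ⟶ Y), IsIso (Q.map f) → S f)
    (hP : ∀ X : D, ∃ (X' : D) (s : X' ⟶ X), P X' ∧ S s) :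
    (P.ι ⋙ Q).IsLocalization (S.inverseImage P.ι) := by
  have hS' : (S.inverseImage P.ι).HasRightCalculusOfFractions :=
    hasRightCalculusOfFractions_inverseImage P S hP
  let Φ : LocalizerMorphism (S.inverseImage P.ι) S := ⟨P.ι, fun _ _ _ hf => hf⟩
  let L₁ := (S.inverseImage P.ι).Q
  let G := Φ.localizedFunctor L₁ Q
  let e : P.ι ⋙ Q ≅ L₁ ⋙ G := (Φ.catCommSq L₁ Q).iso
  have hL₁ : L₁.EssSurj := Localization.essSurj L₁ (S.inverseImage P.ι)
  have hQ : Q.EssSurj := Localization.essSurj Q S
  -- essential surjectivity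
  have hess : G.EssSurj := ⟨fun Y => by
    obtain ⟨X, ⟨i⟩⟩ : ∃ X : D, Nonempty (Q.obj X ≅ Y) := ⟨_, ⟨Q.objObjPreimageIso Y⟩⟩
    obtain ⟨X', s, hX', hs⟩ := hP X
    have : IsIso (Q.map s) := Localization.inverts Q S s hs
    exact ⟨L₁.obj ⟨X', hX'⟩, ⟨(e.app ⟨X', hX'⟩).symm ≪≫ asIso (Q.map s) ≪≫ i⟩⟩⟩
  -- fullness
  have hfull : G.Full := by
    refine G.full_of_comp_essSurj L₁ (fun X₁ X₂ φ => ?_)
    obtain ⟨φ', hφ'⟩ : ∃ φ', φ = e.inv.app X₁ ≫ φ' ≫ e.hom.app X₂ :=
      ⟨e.hom.app X₁ ≫ φ ≫ e.inv.app X₂, by simp⟩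
    obtain ⟨f, hf⟩ := Localization.exists_rightFraction Q S φ'
    obtain ⟨Z', u, hZ', hu⟩ := hP f.X'
    let g : (S.inverseImage P.ι).RightFraction X₁ X₂ :=
      { X' := ⟨Z', hZ'⟩
        s := ObjectProperty.homMk (u ≫ f.s)
        hs := S.comp_mem _ _ hu f.hs
        f := ObjectProperty.homMk (u ≫ f.f) }
    refine ⟨g.map L₁ (Localization.inverts _ _), ?_⟩
    have hgs : IsIso (L₁.map g.s) := Localization.inverts L₁ _ _ g.hs
    rw [← cancel_epi (G.map (L₁.map g.s)), ← Functor.map_comp,
      MorphismProperty.RightFraction.map_s_comp_map, hφ', hf]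
    have n1 := e.hom.naturality g.s
    have n2 := e.hom.naturality g.f
    dsimp at n1 n2
    have h3 : G.map (L₁.map g.s) ≫ e.inv.app X₁ = e.inv.app _ ≫ Q.map (u ≫ f.s) := by
      rw [← cancel_epi (e.hom.app _), ← reassoc_of% n1]
      simp [g]
    rw [reassoc_of% h3, Q.map_comp, Category.assoc,
      MorphismProperty.RightFraction.map_s_comp_map_assoc, ← Q.map_comp_assoc]
    rw [← cancel_epi (e.hom.app _), ← n2]
    simp [g]
  -- faithfulness
  have hfaith : G.Faithful := by
    have hop : G.op.Faithful := by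
      refine Functor.faithful_of_comp_of_hasLeftCalculusOfFractions L₁.op
        (S.inverseImage P.ι).op G.op ?_
      intro X₁ X₂ f g h
      have h' : G.map (L₁.map f.unop) = G.map (L₁.map g.unop) := Quiver.Hom.op_inj h
      have hQ' : Q.map f.unop.hom = Q.map g.unop.hom := by
        have n1 := e.hom.naturality f.unop
        have n2 := e.hom.naturality g.unop
        dsimp at n1 n2
        rw [← cancel_mono (e.hom.app _), n1, n2, h']
      rw [MorphismProperty.map_eq_iff_precomp Q S] at hQ'
      obtain ⟨Z, s, hs, fac⟩ := hQ'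
      obtain ⟨Z', u, hZ', hu⟩ := hP Z
      let t : (⟨Z', hZ'⟩ : P.FullSubcategory) ⟶ X₂.unop := ObjectProperty.homMk (u ≫ s)
      have ht : IsIso (L₁.map t) :=
        Localization.inverts L₁ (S.inverseImage P.ι) t (S.comp_mem _ _ hu hs)
      apply Quiver.Hom.unop_inj
      change L₁.map f.unop = L₁.map g.unop
      rw [← cancel_epi (L₁.map t), ← L₁.map_comp, ← L₁.map_comp]
      congr 1
      apply ObjectProperty.hom_ext
      change (u ≫ s) ≫ f.unop.hom = (u ≫ s) ≫ g.unop.hom
      rw [Category.assoc, Category.assoc, fac]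
    exact ⟨fun {X Y} f g h =>
      Quiver.Hom.op_inj (G.op.map_injective (congrArg Quiver.Hom.op h))⟩
  have hequiv : G.IsEquivalence := {}
  have hsq : CatCommSq Φ.functor L₁ Q G := Φ.catCommSq L₁ Q
  have hΦ : Φ.IsLocalizedEquivalence := LocalizerMorphism.IsLocalizedEquivalence.mk' Φ L₁ Q G
  exact LocalizerMorphism.IsLocalizedEquivalence.isLocalization Φ Q

end Groth.Agent.S6613
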