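import Groth.Statements.S6614
import Groth.Statements.S6614
import Mathlib

set_option autoImplicit false
universe v u
open CategoryTheory CategoryTheory.Limits Opposite
open CohDer

namespace Groth.Agent.S6614

section aux

variable {D : Type u} [Category.{v} D] [Preadditive D] [HasZeroObject D] [HasShift D ℤ]
  [∀ n : ℤ, (shiftFunctor D n).Additive] [Pretriangulated D]

open Pretriangulated

/-- a split monomorphism in a pretriangulated category has a complement -/
lemma exists_complement {A X : D} (c : A ⟶ X) (s : X ⟶ A) (hcs : c ≫ s = 𝟙 A) :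
    ∃ (Z : D) (p : X ⟶ Z) (σ : Z ⟶ X), c ≫ p = 0 ∧ σ ≫ p = 𝟙 Z ∧ σ ≫ s = 0 ∧
      s ≫ c + p ≫ σ = 𝟙 X := by
  obtain ⟨Z, p, δ, hT⟩ := distinguished_cocone_triangle c
  have hmono : Mono c := SplitMono.mono ⟨s, hcs⟩
  have hδ : δ = 0 := Triangle.mor₃_eq_zero_of_mono₁ _ hT hmono
  have hepi : Epi p := Triangle.epi₂ _ hT hδ
  have hcp : c ≫ p = 0 := comp_distTriang_mor_zero₁₂ _ hT
  obtain ⟨σ, hσ⟩ := Triangle.yoneda_exact₂ _ hT (𝟙 X - s ≫ c) (by
    change c ≫ (𝟙 X - s ≫ c) = 0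
    rw [Preadditive.comp_sub, Category.comp_id, ← Category.assoc, hcs, Category.id_comp,
      sub_self])
  have hσ' : 𝟙 X - s ≫ c = p ≫ σ := hσ
  refine ⟨Z, p, σ, hcp, ?_, ?_, ?_⟩
  · rw [← cancel_epi p, ← Category.assoc, ← hσ', Preadditive.sub_comp, Category.id_comp,
      Category.assoc, hcp, comp_zero, sub_zero, Category.comp_id]
  · rw [← cancel_epi p, ← Category.assoc, ← hσ', Preadditive.sub_comp, Category.id_comp,
      Category.assoc, hcs, Category.comp_id, sub_self, comp_zero]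
  · rw [← hσ', add_sub_cancel]

/-- the resulting decomposition -/
noncomputable def decompIso {A X Z : D} (c : A ⟶ X) (s : X ⟶ A) (p : X ⟶ Z) (σ : Z ⟶ X)
    (hcs : c ≫ s = 𝟙 A) (hcp : c ≫ p = 0) (hσp : σ ≫ p = 𝟙 Z) (hσs : σ ≫ s = 0)
    (hid : s ≫ c + p ≫ σ = 𝟙 X) : X ≅ A ⊞ Z where
  hom := biprod.lift s p
  inv := biprod.desc c σ
  hom_inv_id := by rw [biprod.lift_desc, hid]
  inv_hom_id := by
    ext <;> simp [hcs, hcp, hσp, hσs]

end aux

section tr

variable {C : Type u} [Category.{v} C]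

lemma tr_comp (X : ARSys.PS C) {n m l : ℕ} (h₁ : n ≤ m) (h₂ : m ≤ l) :
    ARSys.tr X h₂ ≫ ARSys.tr X h₁ = ARSys.tr X (h₁.trans h₂) := by
  rw [ARSys.tr, ARSys.tr, ARSys.tr, ← X.map_comp]
  congr 1

lemma cone_tr (X : ARSys.PS C) (A : C) (c : (Functor.const ℕᵒᵖ).obj A ⟶ X) {n m : ℕ}
    (h : n ≤ m) : c.app (op m) ≫ ARSys.tr X h = c.app (op n) := by
  have := c.naturality (homOfLE h).op
  simpa using this.symm

end tr

/-- Let D be a triangulated category and (A_n) an ℕ-indexed inverse system of D which is essentially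
constant with value A relative to the cone c. Then there are an index i and direct sum
decompositions A_{i+j} ≅ A ⊞ Z_j (j ≥ 0) such that (a) c_{i+j} is the inclusion of the summand A and
the transition maps A_{i+k} → A_{i+j} are 𝟙_A ⊕ (Z_k → Z_j), and (b) for every j there is k ≥ j with
Z_k → Z_j zero. (The published statement is an equivalence whose converse is given without proof;
this row states only the forward implication.) -/
theorem result {D : Type u} [Category.{v} D] [Preadditive D] [HasZeroObject D] [HasShift D ℤ]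
    [∀ n : ℤ, (shiftFunctor D n).Additive] [Pretriangulated D] [IsTriangulated D]
    (X : ARSys.PS D) (A : D) (c : (Functor.const ℕᵒᵖ).obj A ⟶ X) (hX : DerCA.IsEssConstant X A c) :
    ∃ (i : ℕ) (Z : ℕ → D) (e : ∀ j : ℕ, X.obj (op (i + j)) ≅ A ⊞ Z j) (z : ∀ j k : ℕ, j ≤ k → (Z k ⟶ Z j)),
      (∀ j : ℕ, c.app (op (i + j)) ≫ (e j).hom = biprod.inl) ∧
      (∀ (j k : ℕ) (hjk : j ≤ k), (e k).inv ≫ ARSys.tr X (Nat.add_le_add_left hjk i) = biprod.map (𝟙 A) (z j k hjk) ≫ (e j).inv) ∧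
      (∀ j : ℕ, ∃ (k : ℕ) (hjk : j ≤ k), z j k hjk = 0) := by
  obtain ⟨i, s, hs, hk⟩ := hX
  let sj : ∀ j, X.obj (op (i + j)) ⟶ A := fun j => ARSys.tr X (Nat.le_add_right i j) ≫ s
  have hsj : ∀ j, c.app (op (i + j)) ≫ sj j = 𝟙 A := fun j => by
    change c.app (op (i + j)) ≫ ARSys.tr X (Nat.le_add_right i j) ≫ s = 𝟙 A
    rw [← Category.assoc, cone_tr, hs]
  choose Z p σ hcp hσp hσs hid using
    fun j => exists_complement (c.app (op (i + j))) (sj j) (hsj j)
  let e : ∀ j, X.obj (op (i + j)) ≅ A ⊞ Z j := fun j =>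
    decompIso (c.app (op (i + j))) (sj j) (p j) (σ j) (hsj j) (hcp j) (hσp j) (hσs j) (hid j)
  have he_hom : ∀ j, (e j).hom = biprod.lift (sj j) (p j) := fun j => rfl
  have he_inv : ∀ j, (e j).inv = biprod.desc (c.app (op (i + j))) (σ j) := fun j => rfl
  refine ⟨i, Z, e, fun j k hjk => σ k ≫ ARSys.tr X (Nat.add_le_add_left hjk i) ≫ p j,
    ?_, ?_, ?_⟩
  · intro j
    rw [he_hom]
    ext
    · simp [hsj j]
    · simp [hcp j]
  · intro j k hjk
    rw [← cancel_mono (e j).hom]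
    simp only [Category.assoc, Iso.inv_hom_id, Category.comp_id]
    rw [he_hom, he_inv]
    have h1 : c.app (op (i + k)) ≫ ARSys.tr X (Nat.add_le_add_left hjk i) =
        c.app (op (i + j)) := cone_tr X A c _
    have h2 : ARSys.tr X (Nat.add_le_add_left hjk i) ≫ sj j = sj k := by
      change ARSys.tr X (Nat.add_le_add_left hjk i) ≫ ARSys.tr X (Nat.le_add_right i j) ≫ s =
        ARSys.tr X (Nat.le_add_right i k) ≫ s
      rw [← Category.assoc, tr_comp]
    ext
    · simp [reassoc_of% h1, hsj j]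
    · simp [reassoc_of% h1, hcp j]
    · simp [h2, hσs k]
    · simp
  · intro j
    obtain ⟨k', hi', hj', h⟩ := hk (i + j)
    obtain ⟨k, rfl⟩ := Nat.exists_eq_add_of_le hi'
    have hjk : j ≤ k := by lia
    refine ⟨k, hjk, ?_⟩
    change σ k ≫ ARSys.tr X (Nat.add_le_add_left hjk i) ≫ p j = 0
    have h3 : ARSys.tr X (Nat.add_le_add_left hjk i) = ARSys.tr X hj' := rfl
    rw [h3, h]
    simp [hcp j]

end Groth.Agent.S6614
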