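import Groth.Statements.S6617
import Mathlib
import Groth.Agent.S6598

set_option autoImplicit false
universe v u
open CategoryTheory CategoryTheory.Limits
open CohDer

namespace Groth.Agent.S6617

section aux

variable {V : Type u} [Category.{v} V] [Preadditive V] [HasBinaryBiproducts V]

/-- the projection `L' K L ⟶ L` is a homotopy equivalence -/
noncomputable def heq (K L : CochainComplex V ℤ) : HomotopyEquiv (S6598.L' K L) L where
  hom := biprod.snd
  inv := biprod.inr
  homotopyHomInvId := by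
    let h₀ : Homotopy (𝟙 (CochainComplex.mappingCone (𝟙 K))) 0 :=
      CochainComplex.mappingCone.liftHomotopy _ _ _ (CochainComplex.mappingCone.snd _) 0
        (by simp) (by simp)
    let h₁ := (h₀.compRight (biprod.inl : _ ⟶ S6598.L' K L)).compLeft
      (biprod.fst : S6598.L' K L ⟶ _)
    let h₂ := Homotopy.add h₁ (Homotopy.refl (biprod.snd ≫ biprod.inr))
    exact (Homotopy.ofEq (by simp)).trans (h₂.symm.trans (Homotopy.ofEq (by simp)))
  homotopyInvHomId := Homotopy.ofEq (by simp)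

lemma isStrictlyGE_L' (K L : CochainComplex V ℤ) (a : ℤ) [K.IsStrictlyGE a] [L.IsStrictlyGE a] :
    (S6598.L' K L).IsStrictlyGE (a - 1) := by
  rw [CochainComplex.isStrictlyGE_iff]
  intro i hi
  refine IsZero.of_iso ?_ (HomologicalComplex.biprodXIso _ _ i)
  simp only [biprod_isZero_iff, CochainComplex.mappingCone.isZero_X_iff]
  exact ⟨⟨K.isZero_of_isStrictlyGE a _ (by omega), K.isZero_of_isStrictlyGE a _ (by omega)⟩,
    L.isZero_of_isStrictlyGE a _ (by omega)⟩

lemma isStrictlyLE_L' (K L : CochainComplex V ℤ) (a : ℤ) [K.IsStrictlyLE a] [L.IsStrictlyLE a] :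
    (S6598.L' K L).IsStrictlyLE a := by
  rw [CochainComplex.isStrictlyLE_iff]
  intro i hi
  refine IsZero.of_iso ?_ (HomologicalComplex.biprodXIso _ _ i)
  simp only [biprod_isZero_iff, CochainComplex.mappingCone.isZero_X_iff]
  exact ⟨⟨K.isZero_of_isStrictlyLE a _ (by omega), K.isZero_of_isStrictlyLE a _ (by omega)⟩,
    L.isZero_of_isStrictlyLE a _ (by omega)⟩

variable (X : ℕ → CochainComplex V ℤ) (a : ∀ i, X i ⟶ X (i + 1))

/-- the recursive construction -/
noncomputable def st : (i : ℕ) → Σ' B : CochainComplex V ℤ, HomotopyEquiv B (X i)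
  | 0 => ⟨X 0, HomotopyEquiv.refl _⟩
  | i + 1 => ⟨S6598.L' (st i).1 (X (i + 1)), heq (st i).1 (X (i + 1))⟩

noncomputable def bb (i : ℕ) : (st X i).1 ⟶ (st X (i + 1)).1 :=
  S6598.α' (st X i).1 (X (i + 1)) ((st X i).2.hom ≫ a i)

end aux

/-- Let A be an additive category and A₀ → A₁ → A₂ → … a sequence of composable morphisms of complexes.
There are complexes Bᵢ, homotopy equivalences Bᵢ ⟶ Aᵢ and termwise split injections Bᵢ ⟶ Bᵢ₊₁
forming a commutative ladder over the given sequence. Moreover if all Aᵢ are bounded below, resp.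
bounded above, then the Bᵢ may be chosen bounded below, resp. bounded above. (The published
statement is for finite sequences A₁ → … → A_n; this row takes a sequence indexed by ℕ, built by the
same step-by-step construction.) -/
theorem result {V : Type u} [Category.{v} V] [Preadditive V] [HasBinaryBiproducts V] [HasZeroObject V]
    (X : ℕ → CochainComplex V ℤ) (a : ∀ i, X i ⟶ X (i + 1)) :
    ∃ (B : ℕ → CochainComplex V ℤ) (b : ∀ i, B i ⟶ B (i + 1)) (e : ∀ i, HomotopyEquiv (B i) (X i)),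
      (∀ i, b i ≫ (e (i + 1)).hom = (e i).hom ≫ a i) ∧
      (∀ (i : ℕ) (n : ℤ), ∃ (C : V) (ε : (B (i + 1)).X n ≅ (B i).X n ⊞ C), (b i).f n ≫ ε.hom = biprod.inl) ∧
      ((∀ i, ∃ m : ℤ, (X i).IsStrictlyGE m) → ∀ i, ∃ m : ℤ, (B i).IsStrictlyGE m) ∧
      ((∀ i, ∃ m : ℤ, (X i).IsStrictlyLE m) → ∀ i, ∃ m : ℤ, (B i).IsStrictlyLE m) := by
  refine ⟨fun i => (st X i).1, bb X a, fun i => (st X i).2, ?_, ?_, ?_, ?_⟩
  · intro i
    change S6598.α' (st X i).1 (X (i + 1)) ((st X i).2.hom ≫ a i) ≫ biprod.snd = _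
    simp [S6598.α']
  · intro i n
    obtain ⟨e, he⟩ := S6598.exists_iso_inl (S6598.termIso (st X i).1 (X (i + 1)) n)
      ((bb X a i).f n) (by simp [S6598.termIso, S6598.α', bb])
    exact ⟨_, e, he⟩
  · intro h i
    induction i with
    | zero => exact h 0
    | succ i ih =>
      obtain ⟨m₁, h₁⟩ := ih
      obtain ⟨m₂, h₂⟩ := h (i + 1)
      have h₁' : ((st X i).1).IsStrictlyGE (min m₁ m₂) :=
        CochainComplex.isStrictlyGE_of_ge _ _ m₁ (min_le_left _ _)
      have h₂' : (X (i + 1)).IsStrictlyGE (min m₁ m₂) :=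
        CochainComplex.isStrictlyGE_of_ge _ _ m₂ (min_le_right _ _)
      exact ⟨min m₁ m₂ - 1, isStrictlyGE_L' _ _ _⟩
  · intro h i
    induction i with
    | zero => exact h 0
    | succ i ih =>
      obtain ⟨m₁, h₁⟩ := ih
      obtain ⟨m₂, h₂⟩ := h (i + 1)
      have h₁' : ((st X i).1).IsStrictlyLE (max m₁ m₂) :=
        CochainComplex.isStrictlyLE_of_le _ m₁ _ (le_max_left _ _)
      have h₂' : (X (i + 1)).IsStrictlyLE (max m₁ m₂) :=
        CochainComplex.isStrictlyLE_of_le _ m₂ _ (le_max_right _ _)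
      exact ⟨max m₁ m₂, isStrictlyLE_L' _ _ _⟩

end Groth.Agent.S6617
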