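import Groth.Statements.S6618
import Mathlib
import Groth.Agent.Lib.Helper3.RDTwo

set_option autoImplicit false
universe v v' u u'
open CategoryTheory CategoryTheory.Limits
open CohDer

namespace Groth.Agent.S6618

section aux

variable {C : Type u} [Category.{v} C] [Abelian C] [HasInjectiveResolutions C]

instance injectiveResolutions_additive : (injectiveResolutions C).Additive where
  map_add {X Y f g} := by
    have h : (HomotopyCategory.quotient C (ComplexShape.up ℕ)).map
        (InjectiveResolution.desc (f + g) (injectiveResolution Y) (injectiveResolution X)) =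
        (HomotopyCategory.quotient C (ComplexShape.up ℕ)).map
          (InjectiveResolution.desc f (injectiveResolution Y) (injectiveResolution X) +
            InjectiveResolution.desc g (injectiveResolution Y) (injectiveResolution X)) := by
      apply HomotopyCategory.eq_of_homotopy
      apply InjectiveResolution.descHomotopy (f + g)
      · simp
      · simp [Functor.map_add]
    exact h.trans (Functor.map_add _)

variable {D : Type u'} [Category.{v'} D] [Abelian D]

instance rightDerived_additive (F : C ⥤ D) [F.Additive] (n : ℕ) : (F.rightDerived n).Additive := by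
  dsimp only [Functor.rightDerived, Functor.rightDerivedToHomotopyCategory]
  infer_instance

end aux

/-- Part (2): (3), in the case where A has enough injectives: let F : A ⥤ B be an additive functor
between abelian categories, A with enough injectives. Then R⁰F is left exact; moreover, F itself is
left exact exactly when the canonical comparison morphism from F to R⁰F is invertible. -/
theorem result {A : Type u} [Category.{v} A] [Abelian A] [EnoughInjectives A]
    {B : Type u'} [Category.{v'} B] [Abelian B] (F : A ⥤ B) [F.Additive] :
    PreservesFiniteLimits (F.rightDerived 0) ∧ (IsIso F.toRightDerivedZero ↔ PreservesFiniteLimits F) := by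
  let _ : HasDerivedCategory.{max u v} A := MorphismProperty.HasLocalization.standard _
  let _ : HasDerivedCategory.{max u' v'} B := MorphismProperty.HasLocalization.standard _
  have h1 : PreservesFiniteLimits (F.rightDerived 0) := by
    rw [Functor.preservesFiniteLimits_iff_forall_exact_map_and_mono]
    intro S hS
    let e := Groth.Agent.Helper3.RDBridge.HB F 0
    have hadd : (Groth.Agent.Helper3.RDBridge.sgDF ⋙
        Groth.Agent.Helper3.RDPlus.HF F ((0 : ℕ) : ℤ)).Additive := Functor.additive_of_iso e
    obtain ⟨⟨w, hex⟩, -⟩ := Groth.Agent.Helper3.RDTwo.les F S hS ((0 : ℕ) : ℤ) 1 (by norm_num)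
    obtain ⟨-, δ, w₁, w₂, -, hex₂⟩ :=
      Groth.Agent.Helper3.RDTwo.les F S hS (-1) ((0 : ℕ) : ℤ) (by norm_num)
    constructor
    · refine (ShortComplex.exact_iff_of_iso (S.mapNatIso e)).2 ?_
      exact hex
    · have hm : Mono ((Groth.Agent.Helper3.RDPlus.HF F ((0 : ℕ) : ℤ)).map
          (Groth.Agent.Helper3.RDBridge.sgDF.map S.f)) :=
        hex₂.mono_g ((Groth.Agent.Helper3.RDBridge.isZero_HF_neg F S.X₃ (-1)
          (by norm_num)).eq_of_src _ _)
      have hn := e.hom.naturality S.f
      have a1 : Mono (e.hom.app S.X₁) := IsIso.mono_of_iso _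
      have hm' : Mono (e.hom.app S.X₁ ≫ (Groth.Agent.Helper3.RDPlus.HF F ((0 : ℕ) : ℤ)).map
          (Groth.Agent.Helper3.RDBridge.sgDF.map S.f)) := @mono_comp _ _ _ _ _ _ a1 _ hm
      exact @mono_of_mono_fac _ _ _ _ _ _ _ _ hm' (hn.trans rfl)
  refine ⟨h1, ?_, ?_⟩
  · intro hiso
    exact preservesFiniteLimits_of_natIso (asIso F.toRightDerivedZero).symm
  · intro h
    infer_instance

end Groth.Agent.S6618
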