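import Groth.Statements.S6621
import Groth.Agent.S6788
open CategoryTheory.Pretriangulated

set_option autoImplicit false
universe v u v' u'
open CategoryTheory CategoryTheory.Limits
open CohDer

namespace Groth.Agent.S6621

/-- Let D be a triangulated category, S a multiplicative system compatible with the triangulated
structure, Q : D → S⁻¹D the localization and B(S) = Ker(Q) the full subcategory of objects Z with
Q(Z) = 0. Then the multiplicative system S(B(S)) attached to B(S) (morphisms whose cone lies in B(S)
up to isomorphism) consists exactly of the morphisms f such that Q(f) is an isomorphism, i.e. it is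
the saturation of S. -/
theorem result {D : Type u} [Category.{v} D] [Preadditive D] [HasZeroObject D] [HasShift D ℤ]
    [∀ n : ℤ, (shiftFunctor D n).Additive] [Pretriangulated D] [IsTriangulated D]
    (S : MorphismProperty D) [S.HasLeftCalculusOfFractions] [S.HasRightCalculusOfFractions] [S.IsCompatibleWithTriangulation]
    {E : Type u'} [Category.{v'} E] (Q : D ⥤ E) [Q.IsLocalization S] {X Y : D} (f : X ⟶ Y) :
    ObjectProperty.trW (fun Z : D => IsZero (Q.obj Z)) f ↔ IsIso (Q.map f) := by
  have hzero : ∀ Z, IsZero (Q.obj Z) ↔ IsZero (S.Q.obj Z) := fun Z => by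
    rw [(Groth.Agent.S6788.result Q S Z).1, (Groth.Agent.S6788.result S.Q S Z).1]
  have hiso : IsIso (Q.map f) ↔ IsIso (S.Q.map f) := by
    let F := (Localization.uniq Q S.Q S).functor
    let e : Q ⋙ F ≅ S.Q := Localization.compUniqFunctor Q S.Q S
    rw [← NatIso.isIso_map_iff e f]
    change _ ↔ IsIso (F.map (Q.map f))
    constructor
    · intro; infer_instance
    · intro h; exact isIso_of_reflects_iso (Q.map f) F
  rw [hiso]
  have hP : (fun Z : D => IsZero (Q.obj Z)) = (fun Z : D => IsZero (S.Q.obj Z)) :=
    funext fun Z => propext (hzero Z)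
  rw [hP]
  constructor
  · rintro ⟨C, g, h, hT, hC⟩
    have := S.Q.map_distinguished _ hT
    exact (Triangle.isZero₃_iff_isIso₁ _ this).mp hC
  · intro hf
    obtain ⟨C, g, h, hT⟩ := distinguished_cocone_triangle f
    refine ⟨C, g, h, hT, ?_⟩
    have := S.Q.map_distinguished _ hT
    exact (Triangle.isZero₃_iff_isIso₁ _ this).mpr hf

end Groth.Agent.S6621
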