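import Groth.Statements.S6622
import Mathlib

set_option autoImplicit false
universe v u
open CategoryTheory CategoryTheory.Limits
open CohDer

namespace Groth.Agent.S6622

section aux

open ZeroObject

variable {V : Type u} [Category.{v} V] [Preadditive V] [HasZeroObject V] [HasBinaryBiproducts V]

set_option backward.defeqAttrib.useBackward true in
set_option backward.isDefEq.respectTransparency false in
lemma isTriangulated_of (R : CochainComplex V ℤ → Prop) (h0 : R 0)
    (hs : ∀ (K : CochainComplex V ℤ) (n : ℤ), R K → R ((shiftFunctor _ n).obj K))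
    (hc : ∀ {K L : CochainComplex V ℤ} (f : K ⟶ L), R K → R L → R (CochainComplex.mappingCone f)) :
    ObjectProperty.IsTriangulated
      (fun K : HomotopyCategory V (ComplexShape.up ℤ) => R K.as) := by
  let P : ObjectProperty (HomotopyCategory V (ComplexShape.up ℤ)) := fun K => R K.as
  have h1 : P.ContainsZero :=
    ⟨⟨(HomotopyCategory.quotient _ _).obj 0, Functor.map_isZero _ (isZero_zero _), h0⟩⟩
  have h2 : P.IsStableUnderShift ℤ := ⟨fun n => ⟨fun K hK => by
    obtain ⟨K, rfl⟩ := K.quotient_obj_surjective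
    rw [ObjectProperty.prop_shift_iff, HomotopyCategory.shift_quotient_obj]
    exact hs K n hK⟩⟩
  have h3 : P.IsTriangulatedClosed₃ := ⟨fun T hT h₁ h₂ => by
    obtain ⟨f, hf⟩ : ∃ f : T.obj₁.as ⟶ T.obj₂.as, (HomotopyCategory.quotient _ _).map f = T.mor₁ :=
      (HomotopyCategory.quotient _ _).map_surjective T.mor₁
    refine ⟨_, ?_, ⟨Pretriangulated.Triangle.π₃.mapIso
      (Pretriangulated.isoTriangleOfIso₁₂ T _ hT
        (HomotopyCategory.mappingCone_triangleh_distinguished f)
        (Iso.refl _) (Iso.refl _) ?_)⟩⟩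
    · exact hc f h₁ h₂
    · simp [hf]⟩
  exact { toIsTriangulatedClosed₂ := .of_isTriangulatedClosed₃ }

lemma isStrictlyLE_mappingCone {K L : CochainComplex V ℤ} (f : K ⟶ L)
    (n₁ n₂ n : ℤ) [K.IsStrictlyLE n₁] [L.IsStrictlyLE n₂] (hn₁ : n₁ - 1 ≤ n)
    (hn₂ : n₂ ≤ n) :
    (CochainComplex.mappingCone f).IsStrictlyLE n := by
  rw [CochainComplex.isStrictlyLE_iff]
  intro i hi
  simp only [CochainComplex.mappingCone.isZero_X_iff]
  exact ⟨K.isZero_of_isStrictlyLE n₁ _ (by omega), L.isZero_of_isStrictlyLE n₂ _ (by omega)⟩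

end aux

/-- Let A be an additive category. The full subcategories K⁻(A) (complexes K with Kⁿ = 0 for n ≫ 0) and
Kᵇ(A) (Kⁿ = 0 for |n| ≫ 0) of the homotopy category K(A) are full triangulated subcategories. -/
theorem result {V : Type u} [Category.{v} V] [Preadditive V] [HasZeroObject V] [HasBinaryBiproducts V] :
    (ObjectProperty.IsTriangulated (fun K : HomotopyCategory V (ComplexShape.up ℤ) => ∃ n : ℤ, CochainComplex.IsStrictlyLE K.as n)) ∧
    (ObjectProperty.IsTriangulated (fun K : HomotopyCategory V (ComplexShape.up ℤ) =>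
      ∃ a b : ℤ, CochainComplex.IsStrictlyGE K.as a ∧ CochainComplex.IsStrictlyLE K.as b)) := by
  constructor
  · refine isTriangulated_of (fun K => ∃ n : ℤ, CochainComplex.IsStrictlyLE K n)
      ⟨0, inferInstance⟩ ?_ ?_
    · rintro K n ⟨q, hq⟩
      exact ⟨q - n, K.isStrictlyLE_shift q n (q - n) (by omega)⟩
    · rintro K L f ⟨n₁, h₁⟩ ⟨n₂, h₂⟩
      exact ⟨max (n₁ - 1) n₂, isStrictlyLE_mappingCone f n₁ n₂ _ (le_max_left _ _)
        (le_max_right _ _)⟩
  · refine isTriangulated_of (fun K => ∃ a b : ℤ, CochainComplex.IsStrictlyGE K a ∧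
      CochainComplex.IsStrictlyLE K b) ⟨0, 0, inferInstance, inferInstance⟩ ?_ ?_
    · rintro K n ⟨a, b, ha, hb⟩
      exact ⟨a - n, b - n, K.isStrictlyGE_shift a n (a - n) (by omega),
        K.isStrictlyLE_shift b n (b - n) (by omega)⟩
    · rintro K L f ⟨a₁, b₁, ha₁, hb₁⟩ ⟨a₂, b₂, ha₂, hb₂⟩
      exact ⟨min (a₁ - 1) a₂, max (b₁ - 1) b₂,
        CochainComplex.isStrictlyGE_mappingCone f a₁ a₂ _
          (by have := min_le_left (a₁ - 1) a₂; omega) (min_le_right _ _),
        isStrictlyLE_mappingCone f b₁ b₂ _ (le_max_left _ _) (le_max_right _ _)⟩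

end Groth.Agent.S6622
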