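import Groth.Statements.S6623
import Groth.Statements.S6623
import Mathlib
import Groth.Agent.Lib.Helper3.HomZero

set_option autoImplicit false
universe v u
open CategoryTheory CategoryTheory.Limits
open CohDer

namespace Groth.Agent.S6623

section Helpers

open CategoryTheory.Pretriangulated Groth.Agent.Helper3.HomZero

variable {D : Type u} [Category.{v} D] [Preadditive D] [HasZeroObject D] [HasShift D ℤ]
  [∀ n : ℤ, (shiftFunctor D n).Additive] [Pretriangulated D]

lemma vanishA (X X' : ChainComplex D ℕ) (n : ℕ)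
    (Y : ℕ → D) (a : ∀ k, Y k ⟶ X.X k) (b : ∀ k, X.X (k + 1) ⟶ Y k)
    (c : ∀ k, Y k ⟶ (shiftFunctor D (1 : ℤ)).obj (Y (k + 1)))
    (h0 : IsIso (a 0))
    (hP : ∀ k, k < n → Triangle.mk (a (k + 1)) (b k) (c k) ∈ distinguishedTriangles ∧
      b k ≫ a k = X.d (k + 1) k)
    (hA : ∀ m j : ℕ, m < j → j ≤ n → HZ (X.X m) (X'.X j) ((j : ℤ) - m - 1)) :
    ∀ m j : ℕ, m < j → j ≤ n → HZ (Y m) (X'.X j) ((j : ℤ) - m - 1) := by
  intro m
  induction m with
  | zero =>
    intro j h1 h2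
    exact (hA 0 j h1 h2).iso_left (asIso (a 0)).symm
  | succ m ih =>
    intro j h1 h2
    have hT := (hP m (by omega)).1
    have hT' := inv_rot_of_distTriang _ hT
    refine HZ.tri_left _ hT' ?_ ?_
    · exact HZ.shift_left (-1) ((ih j (by omega) h2).congr (by push_cast; ring))
    · exact hA (m + 1) j h1 h2

lemma vanishB (X X' : ChainComplex D ℕ) (n : ℕ)
    (qY : ℕ → D) (qa : ∀ k, qY k ⟶ X'.X k) (qb : ∀ k, X'.X (k + 1) ⟶ qY k)
    (qc : ∀ k, qY k ⟶ (shiftFunctor D (1 : ℤ)).obj (qY (k + 1)))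
    (qh0 : IsIso (qa 0))
    (qhP : ∀ k, k < n → Triangle.mk (qa (k + 1)) (qb k) (qc k) ∈ distinguishedTriangles ∧
      qb k ≫ qa k = X'.d (k + 1) k)
    (hB : ∀ m j : ℕ, m < j → j ≤ n → HZ (X.X j) (X'.X m) ((m : ℤ) - j)) :
    ∀ m j : ℕ, m < j → j ≤ n → HZ (X.X j) (qY m) ((m : ℤ) - j) := by
  intro m
  induction m with
  | zero =>
    intro j h1 h2
    exact (hB 0 j h1 h2).iso_right (asIso (qa 0)).symm
  | succ m ih =>
    intro j h1 h2
    have hT := (qhP m (by omega)).1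
    have hT' := inv_rot_of_distTriang _ hT
    refine HZ.tri_right _ hT' ?_ ?_
    · exact HZ.shift_right (-1) ((ih j (by omega) h2).congr (by push_cast; ring))
    · exact hB (m + 1) j h1 h2

end Helpers

open CategoryTheory.Pretriangulated in
/-- Let D be a triangulated category, φ : X ⟶ X' a morphism of chain complexes in D considered in
degrees ≤ n, where a Postnikov system for the complex X_n → … → X_0 consists of objects Y_k, an
isomorphism Y_0 ⟶ X_0, and for 0 ≤ k < n distinguished triangles Y_{k+1} ⟶ X_{k+1} ⟶ Y_k ⟶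
Y_{k+1}⟦1⟧ with X_{k+1} ⟶ Y_k ⟶ X_k the differential; let (Y, a, b, c) and (Y', a', b', c') be
Postnikov systems for X and X'. If Hom(X_{j-i}⟦1-i⟧, X'_j) = 0 and Hom(X_j, X'_{j-i}⟦-i⟧) = 0 for
all 0 < i ≤ j ≤ n, then there is at most one morphism of Postnikov systems extending φ: two such
morphisms agree on Y_k for every k ≤ n. -/
theorem result {D : Type u} [Category.{v} D] [Preadditive D] [HasZeroObject D] [HasShift D ℤ]
    [∀ n : ℤ, (shiftFunctor D n).Additive] [Pretriangulated D] [IsTriangulated D]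
    (X X' : ChainComplex D ℕ) (φ : X ⟶ X') (n : ℕ)
    (Y : ℕ → D) (a : ∀ k, Y k ⟶ X.X k) (b : ∀ k, X.X (k + 1) ⟶ Y k)
    (c : ∀ k, Y k ⟶ (shiftFunctor D (1 : ℤ)).obj (Y (k + 1)))
    (h0 : IsIso (a 0))
    (hP : ∀ k, k < n → Triangle.mk (a (k + 1)) (b k) (c k) ∈ distinguishedTriangles ∧ b k ≫ a k = X.d (k + 1) k)
    (qY : ℕ → D) (qa : ∀ k, qY k ⟶ X'.X k) (qb : ∀ k, X'.X (k + 1) ⟶ qY k)
    (qc : ∀ k, qY k ⟶ (shiftFunctor D (1 : ℤ)).obj (qY (k + 1)))
    (qh0 : IsIso (qa 0))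
    (qhP : ∀ k, k < n → Triangle.mk (qa (k + 1)) (qb k) (qc k) ∈ distinguishedTriangles ∧ qb k ≫ qa k = X'.d (k + 1) k)
    (hv : ∀ i j : ℕ, 0 < i → i ≤ j → j ≤ n →
      (∀ ψ : (shiftFunctor D (1 - (i : ℤ))).obj (X.X (j - i)) ⟶ X'.X j, ψ = 0) ∧
      (∀ ψ : X.X j ⟶ (shiftFunctor D (-(i : ℤ))).obj (X'.X (j - i)), ψ = 0))
    (y z : ∀ k, Y k ⟶ qY k)
    (hy : (∀ k, k ≤ n → y k ≫ qa k = a k ≫ φ.f k) ∧
      (∀ k, k < n → b k ≫ y k = φ.f (k + 1) ≫ qb k ∧ c k ≫ (shiftFunctor D (1 : ℤ)).map (y (k + 1)) = y k ≫ qc k))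
    (hz : (∀ k, k ≤ n → z k ≫ qa k = a k ≫ φ.f k) ∧
      (∀ k, k < n → b k ≫ z k = φ.f (k + 1) ≫ qb k ∧ c k ≫ (shiftFunctor D (1 : ℤ)).map (z (k + 1)) = z k ≫ qc k))
    (k : ℕ) (hk : k ≤ n) :
    y k = z k := by
  have hA : ∀ m j : ℕ, m < j → j ≤ n →
      Groth.Agent.Helper3.HomZero.HZ (X.X m) (X'.X j) ((j : ℤ) - m - 1) := by
    intro m j hmj hj
    have h := (hv (j - m) j (by omega) (by omega) hj).1
    have e : j - (j - m) = m := by omega
    rw [e] at h
    exact (Groth.Agent.Helper3.HomZero.HZ.of_left _ h).congr (by omega)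
  have hB : ∀ m j : ℕ, m < j → j ≤ n →
      Groth.Agent.Helper3.HomZero.HZ (X.X j) (X'.X m) ((m : ℤ) - j) := by
    intro m j hmj hj
    have h := (hv (j - m) j (by omega) (by omega) hj).2
    have e : j - (j - m) = m := by omega
    rw [e] at h
    exact Groth.Agent.Helper3.HomZero.HZ.congr (by omega) h
  have hVA := vanishA X X' n Y a b c h0 hP hA
  have hVB := vanishB X X' n qY qa qb qc qh0 qhP hB
  have main : ∀ k, k ≤ n → y k - z k = 0 := by
    intro k
    induction k with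
    | zero =>
      intro _
      rw [← cancel_mono (qa 0), Preadditive.sub_comp, hy.1 0 (Nat.zero_le _),
        hz.1 0 (Nat.zero_le _), sub_self, zero_comp]
    | succ k ih =>
      intro hk
      have hwk := ih (by omega)
      have h1 : (y (k + 1) - z (k + 1)) ≫ qa (k + 1) = 0 := by
        rw [Preadditive.sub_comp, hy.1 (k + 1) hk, hz.1 (k + 1) hk, sub_self]
      have h2 : c k ≫ (shiftFunctor D (1 : ℤ)).map (y (k + 1) - z (k + 1)) = 0 := by
        rw [Functor.map_sub, Preadditive.comp_sub, (hy.2 k (by omega)).2, (hz.2 k (by omega)).2,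
          ← Preadditive.sub_comp, hwk, zero_comp]
      have hT0 := (hP k (by omega)).1
      have hT2 := rot_of_distTriang _ (rot_of_distTriang _ hT0)
      obtain ⟨t, ht⟩ := Triangle.yoneda_exact₂ _ hT2 _ h2
      obtain ⟨t0, rfl⟩ : ∃ t0 : X.X (k + 1) ⟶ qY (k + 1), (shiftFunctor D (1 : ℤ)).map t0 = t :=
        (shiftFunctor D (1 : ℤ)).map_surjective t
      have ht' : (shiftFunctor D (1 : ℤ)).map (y (k + 1) - z (k + 1)) =
          (-(shiftFunctor D (1 : ℤ)).map (a (k + 1))) ≫ (shiftFunctor D (1 : ℤ)).map t0 := ht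
      have hw : y (k + 1) - z (k + 1) = a (k + 1) ≫ (-t0) := by
        apply (shiftFunctor D (1 : ℤ)).map_injective
        rw [ht', Functor.map_comp, Functor.map_neg, Preadditive.neg_comp, Preadditive.comp_neg]
      have h3 : a (k + 1) ≫ ((-t0) ≫ qa (k + 1)) = 0 := by
        rw [← Category.assoc, ← hw, h1]
      obtain ⟨r, hr⟩ := Triangle.yoneda_exact₂ _ hT0 _ h3
      have hr0 : r = 0 := Groth.Agent.Helper3.HomZero.HZ.plain
        ((hVA k (k + 1) (by omega) hk).congr (by push_cast; ring)) r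
      have h4 : (-t0) ≫ qa (k + 1) = 0 := by
        rw [hr, hr0]
        exact comp_zero
      have hT0' := (qhP k (by omega)).1
      obtain ⟨s', hs'⟩ := Triangle.coyoneda_exact₂ _ (inv_rot_of_distTriang _ hT0') _ h4
      have hs0 : s' = 0 :=
        (hVB k (k + 1) (by omega) hk).congr (by push_cast; ring) s'
      have h5 : -t0 = 0 := by
        rw [hs', hs0]
        exact zero_comp
      rw [hw, h5, comp_zero]
  exact sub_eq_zero.1 (main k hk)

end Groth.Agent.S6623
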