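import Groth.Statements.S6625
import Mathlib
import Groth.Agent.Lib.Helper3.RDAcyc
import Groth.Agent.Lib.Helper3.Splice
import Groth.Agent.Lib.Helper3.IRes
import Groth.Agent.Lib.Helper3.Retract

set_option autoImplicit false
universe w w' v v' u u'
open CategoryTheory CategoryTheory.Limits
open CohDer

namespace Groth.Agent.S6625

/-- the iso-closure of `I` together with the zero objects -/
def I' {A : Type u} [Category.{v} A] [Abelian A] (I : ObjectProperty A) (Y : A) : Prop :=
  IsZero Y ∨ ∃ Y₀, I Y₀ ∧ Nonempty (Y ≅ Y₀)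

lemma I'_of_iso {A : Type u} [Category.{v} A] [Abelian A] (I : ObjectProperty A) {Y Y' : A}
    (e : Y ≅ Y') (h : I' I Y) : I' I Y' := by
  rcases h with h | ⟨Y₀, h₀, ⟨e₀⟩⟩
  · exact Or.inl (h.of_iso e.symm)
  · exact Or.inr ⟨Y₀, h₀, ⟨e.symm ≪≫ e₀⟩⟩

lemma adapted {A : Type u} [Category.{v} A] [Abelian A]
    {B : Type u'} [Category.{v'} B] [Abelian B] (F : A ⥤ B) [F.Additive] (I : ObjectProperty A)
    (h2 : ∀ S : ShortComplex A, S.ShortExact → I S.X₁ → I S.X₂ → I S.X₃ ∧ (S.map F).ShortExact) :
    Groth.Agent.Helper3.Splice.Adapted F (I' I) where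
  zero Z hZ := Or.inl hZ
  two S hS h₁ h₂ := by
    have := hS.mono_f
    have := hS.epi_g
    by_cases hz : IsZero S.X₁
    · -- `S.g` is an isomorphism
      have hg : IsIso S.g := by
        have : Mono S.g := hS.exact.mono_g (hz.eq_of_src _ _)
        exact isIso_of_mono_of_epi _
      refine ⟨I'_of_iso I (asIso S.g) h₂, ?_⟩
      have hz' : IsZero (F.obj S.X₁) := F.map_isZero hz
      have : IsIso (F.map S.g) := inferInstance
      exact
        { exact := (ShortComplex.exact_iff_mono _ (hz'.eq_of_src _ _)).2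
            (inferInstanceAs (Mono (F.map S.g)))
          mono_f := ⟨fun _ _ _ => hz'.eq_of_tgt _ _⟩
          epi_g := inferInstanceAs (Epi (F.map S.g)) }
    · rcases h₁ with h₁ | ⟨P₀, hP₀, ⟨e₁⟩⟩
      · exact absurd h₁ hz
      · rcases h₂ with h₂ | ⟨Q₀, hQ₀, ⟨e₂⟩⟩
        · exfalso
          apply hz
          rw [IsZero.iff_id_eq_zero, ← cancel_mono S.f]
          exact h₂.eq_of_tgt _ _
        · let S' : ShortComplex A := ShortComplex.mk (e₁.inv ≫ S.f ≫ e₂.hom) (e₂.inv ≫ S.g)
            (by simp)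
          let φ : S ≅ S' := ShortComplex.isoMk e₁ e₂ (Iso.refl _) (by simp [S']) (by simp [S'])
          have hS' : S'.ShortExact := ShortComplex.shortExact_of_iso φ hS
          obtain ⟨h3, h4⟩ := h2 S' hS' hP₀ hQ₀
          exact ⟨Or.inr ⟨S.X₃, h3, ⟨Iso.refl _⟩⟩,
            ShortComplex.shortExact_of_iso ((F.mapShortComplex).mapIso φ.symm) h4⟩

/-- In the case where A has enough injectives: let F : A ⥤ B be an additive functor between abelian
categories, A with enough injectives, and I a class of objects of A such that (1) each object of A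
embeds by a monomorphism into some object of I, and (2) whenever 0 → P → Q → R → 0 is a short exact
sequence whose terms P and Q lie in I, the third term R also lies in I, and applying F to the
sequence yields a short exact sequence in B. Under these assumptions, each X belonging to I is right
acyclic for F, meaning the map F(X)[0] ⟶ RF(X[0]) is an isomorphism. -/
theorem result {A : Type u} [Category.{v} A] [Abelian A] [HasDerivedCategory.{w} A] [EnoughInjectives A]
    {B : Type u'} [Category.{v'} B] [Abelian B] [HasDerivedCategory.{w'} B]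
    (F : A ⥤ B) [F.Additive] (I : ObjectProperty A)
    (h1 : ∀ X : A, ∃ (Y : A) (ι : X ⟶ Y), I Y ∧ Mono ι)
    (h2 : ∀ S : ShortComplex A, S.ShortExact → I S.X₁ → I S.X₂ → I S.X₃ ∧ (S.map F).ShortExact)
    (X : A) (hX : I X) :
    IsIso (F.rightDerivedFunctorPlusUnit.app ((HomotopyCategory.Plus.singleFunctor A 0).obj X)) := by
  let R := injectiveResolution X
  have hP := adapted F I h2
  change IsIso (F.rightDerivedFunctorPlusUnit.app
    ((HomotopyCategory.Plus.quotient A).obj (Groth.Agent.Helper3.RDAcyc.sg X)))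
  rw [Groth.Agent.Helper3.RDAcyc.unit_isIso_iff F (Groth.Agent.Helper3.RDAcyc.sg X)
    (Groth.Agent.Helper3.RDAcyc.RJ R) (Groth.Agent.Helper3.RDAcyc.rj R)
    (inferInstanceAs (QuasiIso R.ι'))]
  change QuasiIso ((F.mapHomologicalComplex (.up ℤ)).map R.ι')
  have h1' : ∀ Y : A, ∃ (Z : A) (ι : Y ⟶ Z), I' I Z ∧ Mono ι := by
    intro Y
    obtain ⟨Z, ι, hZ, hι⟩ := h1 Y
    exact ⟨Z, ι, Or.inr ⟨Z, hZ, ⟨Iso.refl _⟩⟩, hι⟩
  obtain ⟨L, s, hLge, hLI, hsmono, hsq⟩ := Groth.Agent.Helper3.IRes.exists_resolution_int (I' I)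
    ⟨_, isZero_zero A, Or.inl (isZero_zero A)⟩ h1' R.cochainComplex 0
  have hKI : R.cochainComplex.IsKInjective := CochainComplex.isKInjective_of_injective _ 0
  obtain ⟨r, hr⟩ := Groth.Agent.Helper3.Retract.exists_retraction s
  refine Groth.Agent.Helper3.Retract.quasiIso_map_of_retraction F R.ι' s r hr ?_
  have hmono : Mono (R.ι' ≫ s) := by
    refine HomologicalComplex.mono_of_mono_f _ (fun n => ?_)
    have := hsmono n
    have : Mono (R.ι'.f n) := by
      by_cases hn : n = 0
      · subst hn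
        rw [InjectiveResolution.ι'_f_zero]
        have h0 : Mono (R.ι.f 0) := inferInstance
        exact @mono_comp _ _ _ _ _ _ inferInstance _ (@mono_comp _ _ _ _ _ _ h0 _ inferInstance)
      · exact ⟨fun _ _ _ => (HomologicalComplex.isZero_single_obj_X (.up ℤ) 0 X n hn).eq_of_tgt _ _⟩
    rw [HomologicalComplex.comp_f]
    infer_instance
  have hK : ∀ n, I' I (((CochainComplex.singleFunctor A 0).obj X).X n) := by
    intro n
    by_cases hn : n = 0
    · subst hn
      exact Or.inr ⟨X, hX, ⟨HomologicalComplex.singleObjXSelf (.up ℤ) 0 X⟩⟩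
    · exact Or.inl (HomologicalComplex.isZero_single_obj_X (.up ℤ) 0 X n hn)
  exact Groth.Agent.Helper3.Splice.quasiIso_map_of_mono hP 0 (R.ι' ≫ s) hK hLI

end Groth.Agent.S6625
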