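import Groth.Statements.S6628
import Mathlib
import Groth.Statements.S6628
import Groth.Agent.Lib.Helper9.FE.IntPropA
-- import your own Groth.Agent.* helpers here

set_option autoImplicit false
open CategoryTheory CategoryTheory.Limits AlgebraicGeometry Opposite
universe u
open EtCore

namespace Groth.Agent.S6628

open CategoryTheory CategoryTheory.Limits AlgebraicGeometry Opposite
namespace Aux
theorem main {X Y : Scheme.{u}} (f : X ⟶ Y) [IsIntegralHom f] : BigSite.PropA f :=
  H9FE.IntPropA.propA f
end Aux

/-- An integral morphism of schemes satisfies condition (A): for every etale U ⟶ X and every point u of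
U there are an etale V ⟶ Y, an open and closed subscheme W of X ×_Y V and an X-morphism W ⟶ U whose
image contains u. -/
theorem result {X Y : Scheme.{u}} (f : X ⟶ Y) [IsIntegralHom f] : BigSite.PropA f := by
  exact Aux.main f

end Groth.Agent.S6628
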