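import Groth.Statements.S6637
import Mathlib

set_option autoImplicit false
open CategoryTheory CategoryTheory.Limits AlgebraicGeometry Opposite
universe u
open BigSite

namespace Groth.Agent.S6637

universe v' u'

section
variable {C : Type*} [Category C] [HasPullbacks C] {X Y : C} (f : X ⟶ Y) [Mono f]

omit [HasPullbacks C] in
theorem isPullback_of_mono (U : Over X) : IsPullback (𝟙 U.left) U.hom (U.hom ≫ f) f :=
  IsPullback.of_isLimit (PullbackCone.IsLimit.mk (by simp)
    (fun s => s.fst)
    (fun s => by simp)
    (fun s => by
      rw [← cancel_mono f, Category.assoc, s.condition])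
    (fun s m h₁ _ => by simpa using h₁))

/-- the unit as an isomorphism -/
noncomputable def unitIso (U : Over X) : U ≅ (Over.pullback f).obj ((Over.map f).obj U) :=
  Over.isoMk (isPullback_of_mono f U).isoPullback (by
    dsimp
    exact (isPullback_of_mono f U).isoPullback_hom_snd)

theorem unitIso_hom (U : Over X) : (unitIso f U).hom = (Over.mapPullbackAdj f).unit.app U := by
  ext
  dsimp [unitIso]
  apply pullback.hom_ext
  · change (isPullback_of_mono f U).isoPullback.hom ≫ pullback.fst (U.hom ≫ f) f =
      pullback.lift (𝟙 _) U.hom _ ≫ pullback.fst (U.hom ≫ f) f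
    exact ((isPullback_of_mono f U).isoPullback_hom_fst).trans (pullback.lift_fst _ _ _).symm
  · change (isPullback_of_mono f U).isoPullback.hom ≫ pullback.snd (U.hom ≫ f) f =
      pullback.lift (𝟙 _) U.hom _ ≫ pullback.snd (U.hom ≫ f) f
    exact ((isPullback_of_mono f U).isoPullback_hom_snd).trans (pullback.lift_snd _ _ _).symm

instance isIso_unit_app (U : Over X) : IsIso ((Over.mapPullbackAdj f).unit.app U) := by
  rw [← unitIso_hom]
  infer_instance

theorem isIso_counit_app (J : GrothendieckTopology C) (A : Type u') [Category.{v'} A]
    (F : Sheaf (J.over X) A) :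
    IsIso (((Over.mapPullbackAdj f).sheafPushforwardContinuous (E := A) (J.over X) (J.over Y)).counit.app F) := by
  have h : IsIso ((sheafToPresheaf _ _).map
      (((Over.mapPullbackAdj f).sheafPushforwardContinuous (E := A) (J.over X) (J.over Y)).counit.app F)) := by
    apply (config := { allowSynthFailures := true }) NatIso.isIso_of_isIso_app
    intro U
    have : IsIso (F.obj.map ((Over.mapPullbackAdj f).unit.app U.unop).op) := inferInstance
    have e : ((sheafToPresheaf (J.over X) A).map
          (((Over.mapPullbackAdj f).sheafPushforwardContinuous (E := A) (J.over X) (J.over Y)).counit.app F)).app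
        U = F.obj.map ((Over.mapPullbackAdj f).unit.app U.unop).op := by
      simp
    rw [e]
    exact this
  exact isIso_of_reflects_iso _ (sheafToPresheaf _ _)

end

end Groth.Agent.S6637

namespace Groth.Agent.S6637

/-- For the Zariski, etale, smooth and fppf topologies: for a monomorphism of schemes f : X ⟶ Y the
counit f_big⁻¹ f_big,* F ⟶ F is an isomorphism for every sheaf of sets F on the big site of X, and
for every abelian sheaf. (The published statement also covers the syntomic topology; this row treats
the Zariski, etale, smooth and fppf topologies only.) -/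
theorem result {X Y : Scheme.{u}} (f : X ⟶ Y) [Mono f]
    (K : Precoverage Scheme.{u}) (hK : K = Scheme.zariskiPrecoverage ∨ K = Scheme.etalePrecoverage ∨
      K = Scheme.precoverage @Smooth ∨ K = Scheme.fppfPrecoverage) :
    (∀ F : QuotSh.Sh K X, IsIso ((BigSite.bigAdj K f (Type (u + 1))).counit.app F)) ∧
      (∀ F : BigSite.Ab K X, IsIso ((BigSite.bigAdj K f AddCommGrpCat.{u + 1}).counit.app F)) := by
  exact ⟨fun F => isIso_counit_app f K.toGrothendieck (Type (u + 1)) F,
    fun F => isIso_counit_app f K.toGrothendieck AddCommGrpCat.{u + 1} F⟩

end Groth.Agent.S6637
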