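import Groth.Statements.S6639
import Groth.Agent.Lib.Helper6.FrobSL.BaseChange

set_option autoImplicit false
universe u
open scoped TensorProduct
open EtBase

namespace Groth.Agent.S6639

/-- Let k ⟶ k' be a homomorphism of algebraically closed fields of characteristic p > 0 (an extension of
algebraically closed fields), V a finite-dimensional k-vector space, F : V ⟶ V additive with F(c •
v) = c^p • F(v), and F' the additive endomorphism of V' = k' ⊗_k V satisfying F'(c ⊗ v) = c^p ⊗
F(v). Then v ↦ 1 ⊗ v maps the fixed vectors of F bijectively onto the fixed vectors of F'. -/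
theorem result {k k' V : Type u} [Field k] [IsAlgClosed k] [Field k']
    [IsAlgClosed k'] [Algebra k k'] (p : ℕ) [Fact p.Prime] [CharP k p]
    [AddCommGroup V] [Module k V] [FiniteDimensional k V] (F : V →+ V)
    (hF : ∀ (c : k) (v : V), F (c • v) = c ^ p • F v)
    (F' : k' ⊗[k] V →+ k' ⊗[k] V) (hF' : ∀ (c : k') (v : V), F' (c ⊗ₜ[k] v) = (c ^ p) ⊗ₜ[k] F v) :
    Set.BijOn (fun v : V => (1 : k') ⊗ₜ[k] v) {v : V | F v = v} {w : k' ⊗[k] V | F' w = w} := by
  open Groth.Agent.Lib.Helper6.FrobSL in
  classical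
  have hF1 : ∀ (c : k) (v : V), F (c • v) = c ^ (p ^ 1) • F v := by
    intro c v; rw [pow_one]; exact hF c v
  set Φ := ofAdd p 1 F hF1 with hΦ
  have hF'1 : ∀ (c : k') (v : V), F' (c ⊗ₜ[k] v) = (c ^ (p ^ 1)) ⊗ₜ[k] Φ v := by
    intro c v; rw [pow_one]; exact hF' c v
  obtain ⟨b, hb, -⟩ := exists_basis_Vss Φ (by norm_num : 0 < 1)
  refine ⟨?_, ?_, ?_⟩
  · intro v hv
    show F' ((1 : k') ⊗ₜ[k] v) = (1 : k') ⊗ₜ[k] v
    have hv' : F v = v := hv
    rw [hF', one_pow, hv']
  · intro v _ v' _ h
    exact Module.Flat.tensorProduct_mk_injective k V k' h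
  · intro w hw
    obtain ⟨c, hc, hw'⟩ := bc_fixed Φ F' hF'1 b hb (by norm_num) w hw
    haveI : CharP k' p := charP_of_injective_algebraMap (algebraMap k k').injective p
    have hmem : ∀ i, ∃ a : k, algebraMap k k' a = c i := by
      intro i
      have h0 : c i ^ p = c i := by
        have := hc i
        rw [pow_one] at this
        exact this
      have h1 : c i ∈ (⊥ : Subfield k') := (Subfield.mem_bot_iff_pow_eq_self k' p).2 h0
      have h2 : (⊥ : Subfield k') ≤ (algebraMap k k').fieldRange := bot_le
      exact h2 h1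
    choose a ha using hmem
    refine ⟨∑ i, a i • (b i : V), ?_, ?_⟩
    · show F (∑ i, a i • (b i : V)) = ∑ i, a i • (b i : V)
      rw [map_sum]
      refine Finset.sum_congr rfl fun i _ => ?_
      rw [hF, show F (b i : V) = (b i : V) from hb i]
      congr 1
      apply (algebraMap k k').injective
      rw [map_pow, ha]
      have := hc i
      rw [pow_one] at this
      exact this
    · show (1 : k') ⊗ₜ[k] (∑ i, a i • (b i : V)) = w
      rw [hw', TensorProduct.tmul_sum]
      refine Finset.sum_congr rfl fun i _ => ?_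
      rw [TensorProduct.tmul_smul, ← ha i, algebraMap_smul]

end Groth.Agent.S6639
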