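import Groth.Statements.S6640
import Mathlib
import Groth.Prelude.Def_EtBase
import Groth.Agent.Lib.Helper9.FE.ConstUnit
import Groth.Agent.Lib.Helper9.FE.ConstSiteIso
import Groth.Agent.Lib.Helper9.FE.ConstSiteGen
import Groth.Agent.Lib.Helper9.FE.PointGerm
-- import your own Groth.Agent.* helpers here

set_option autoImplicit false
open CategoryTheory CategoryTheory.Limits AlgebraicGeometry Opposite
universe u
open EtCore

namespace Groth.Agent.S6640

open CategoryTheory CategoryTheory.Limits AlgebraicGeometry Opposite
open CategoryTheory CategoryTheory.Limits AlgebraicGeometry Opposite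
namespace Aux
set_option backward.isDefEq.respectTransparency false
set_option linter.style.haveILetI false
set_option linter.unusedSectionVars false
open H9FE H9FE.ConstSite Groth.Agent.S14453.Aux

theorem bot_not_mem_of_point {X : Scheme.{u}} (W : X.Etale) (w : W.left) :
    (⊥ : Sieve W) ∉ X.smallEtaleTopology W := by
  intro h
  rw [mem_et_iff] at h
  obtain ⟨_, _, _, hg, -, -⟩ := h w
  exact hg

theorem nonempty_of_bot_not_mem {X : Scheme.{u}} (W : X.Etale)
    (h : (⊥ : Sieve W) ∉ X.smallEtaleTopology W) : Nonempty W.left := by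
  by_contra hne
  apply h
  rw [mem_et_iff]
  intro x
  exact absurd ⟨x⟩ hne

/-- a nonempty étale scheme over an irreducible scheme has a lift of a generic geometric point -/
theorem exists_fiber_point {X : Scheme.{u}} [IrreducibleSpace ↥X]
    {Ω : Type u} [Field Ω] [IsSepClosed Ω] (ξ : Spec (CommRingCat.of Ω) ⟶ X)
    (hξ : ξ.base default = genericPoint ↥X) (W : X.Etale) (hW : Nonempty W.left) :
    Nonempty ((Scheme.pointSmallEtale ξ).fiber.obj W) := by
  obtain ⟨w⟩ := hW
  have hopen : IsOpen (Set.range W.hom) := W.hom.isOpenMap.isOpen_range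
  have hgen : genericPoint ↥X ∈ Set.range W.hom := by
    rw [(genericPoint_spec ↥X).mem_open_set_iff hopen]
    exact ⟨W.hom w, trivial, ⟨w, rfl⟩⟩
  obtain ⟨w', hw'⟩ := hgen
  have hs₀ : ξ default = genericPoint ↥X := hξ
  obtain ⟨t, -⟩ := Scheme.pointSmallEtaleFiberObjToPreimage_surjective ξ hs₀ W ⟨w', hw'⟩
  exact ⟨t⟩

theorem main {X : Scheme.{u}} [IrreducibleSpace ↥X]
    {Ω : Type u} [Field Ω] [IsSepClosed Ω] (ξ : Spec (CommRingCat.of Ω) ⟶ X)
    (hξ : ξ.base default = genericPoint ↥X)
    (A : Type) [AddCommGroup A] (A' : AddSubgroup A) (G : EtCoh.Ab X)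
    (a : EtCoh.const X ↥A' ⟶ G) (b : G ⟶ EtCoh.const X A) [Mono a] [Mono b]
    (hab : a ≫ b = (constantSheaf X.smallEtaleTopology AddCommGrpCat.{u + 1}).map
      (AddCommGrpCat.ofHom (AddEquiv.ulift.symm.toAddMonoidHom.comp
        (A'.subtype.comp AddEquiv.ulift.toAddMonoidHom))))
    (hst : IsIso ((EtCoh.stalk ξ).map a)) : IsIso a := by
  classical
  let J := X.smallEtaleTopology
  let Φ := Scheme.pointSmallEtale ξ
  let MA : AddCommGrpCat.{u + 1} := AddCommGrpCat.of (ULift.{u + 1} A)
  let MA' : AddCommGrpCat.{u + 1} := AddCommGrpCat.of (ULift.{u + 1} ↥A')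
  let incl : MA' →+ MA := AddEquiv.ulift.symm.toAddMonoidHom.comp
    (A'.subtype.comp AddEquiv.ulift.toAddMonoidHom)
  have hincl : Function.Injective incl := by
    intro x y hxy
    have h1 : ((x.down : ↥A') : A) = ((y.down : ↥A') : A) := congrArg ULift.down hxy
    exact ULift.ext _ _ (Subtype.ext h1)
  haveI : PreservesFilteredColimitsOfSize.{u, u} (forget AddCommGrpCat.{u + 1}) :=
    preservesFilteredColimitsOfSize_shrink.{u, u + 1, u, u + 1} _
  have hsurj : Function.Surjective (Φ.presheafFiber.map a.hom) := by
    have h1 : IsIso (Φ.presheafFiber.map a.hom) := hst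
    exact ((ConcreteCategory.isIso_iff_bijective _).1 h1).2
  -- b ∘ a on constants
  have hba : ∀ (W : X.Etale) (c' : MA'), b.hom.app (op W) (a.hom.app (op W) (ts J MA' W c')) =
      ts J MA W (incl c') := by
    intro W c'
    have h1 := congrArg (fun η => η.hom.app (op W) (ts J MA' W c')) hab
    refine h1.trans ?_
    exact const_map_ts J (AddCommGrpCat.ofHom incl) W c'
  have hloc : Presheaf.IsLocallySurjective J a.hom := by
    constructor
    intro V g
    let bg := b.hom.app (op V) g
    have h1 := imageSieve_ts_mem J MA V bg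
    refine J.transitive h1 _ ?_
    intro W k hk
    obtain ⟨c, hc⟩ := hk
    by_cases hbot : (⊥ : Sieve W) ∈ J W
    · exact J.superset_covering bot_le hbot
    · obtain ⟨t⟩ := exists_fiber_point ξ hξ W (nonempty_of_bot_not_mem W hbot)
      obtain ⟨Y, l, y, s, hy, hs⟩ := PointGerm.exists_local_preimage Φ a.hom hsurj W t
        (G.obj.map k.op g)
      have hY : (⊥ : Sieve Y) ∉ J Y := bot_not_mem_of_point Y (y.left (default : Spec (CommRingCat.of Ω)))
      obtain ⟨Y', l', ⟨c', hc'⟩, hY'⟩ := exists_arrow_not_bot J hY _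
        (imageSieve_ts_mem J MA' Y s)
      have hcc : incl c' = c := by
        have e1 : ts J MA Y' (incl c') = ts J MA Y' c := by
          rw [← hba Y' c']
          have hc2 : ts J MA' Y' c' = (cS J MA').obj.map l'.op s := hc'
          have hc3 : b.hom.app (op W) (G.obj.map k.op g) = ts J MA W c := by
            rw [nat_app J b k]
            exact hc.symm
          rw [hc2, nat_app J a l', hs, nat_app J b l', nat_app J b l, hc3]
          exact (congrArg (fun z => (cS J MA).obj.map l'.op z) (ts_map J MA l c)).trans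
            (ts_map J MA l' c)
        rcases ts_eq_or_bot J MA Y' _ _ e1 with h | h
        · exact h
        · exact absurd h hY'
      have key : a.hom.app (op W) (ts J MA' W c') = G.obj.map k.op g := by
        apply injective_of_mono J b W
        rw [hba W c', hcc, nat_app J b k]
        exact hc
      apply J.covering_of_eq_top
      rw [← Sieve.id_mem_iff_eq_top]
      refine ⟨ts J MA' W c', ?_⟩
      rw [key, Category.id_comp]
  haveI : Epi a := (Sheaf.isLocallySurjective_iff_epi' (φ := a)).1 hloc
  exact isIso_of_mono_of_epi a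

end Aux

/-- Let X be an irreducible scheme, ξ a geometric point over its generic point, A' an additive subgroup
of an abelian group A, and G an abelian sheaf on the small etale site of X with monomorphisms a :
const A' ⟶ G and b : G ⟶ const A whose composite is the map of constant sheaves induced by the
inclusion. If the stalk of a at ξ is an isomorphism, then a is an isomorphism. -/
theorem result {X : Scheme.{u}} [IrreducibleSpace ↥X]
    {Ω : Type u} [Field Ω] [IsSepClosed Ω] (ξ : Spec (CommRingCat.of Ω) ⟶ X)
    (hξ : ξ.base default = genericPoint ↥X)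
    (A : Type) [AddCommGroup A] (A' : AddSubgroup A) (G : EtCoh.Ab X)
    (a : EtCoh.const X ↥A' ⟶ G) (b : G ⟶ EtCoh.const X A) [Mono a] [Mono b]
    (hab : a ≫ b = (constantSheaf X.smallEtaleTopology AddCommGrpCat.{u + 1}).map
      (AddCommGrpCat.ofHom (AddEquiv.ulift.symm.toAddMonoidHom.comp (A'.subtype.comp AddEquiv.ulift.toAddMonoidHom))))
    (hst : IsIso ((EtCoh.stalk ξ).map a)) : IsIso a := by
  exact Aux.main ξ hξ A A' G a b hab hst

end Groth.Agent.S6640
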