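import Groth.Statements.S6641
import Mathlib
import Groth.Statements.S6641
import Groth.Agent.S0099
import Groth.Agent.S14451
import Groth.Agent.S0071
import Groth.Agent.S0073
import Groth.Agent.S0101
-- import your own Groth.Agent.* helpers here

set_option autoImplicit false
open CategoryTheory CategoryTheory.Limits AlgebraicGeometry Opposite
universe u
open Curves

namespace Groth.Agent.S6641

open CategoryTheory CategoryTheory.Limits AlgebraicGeometry Opposite
namespace Aux
set_option backward.isDefEq.respectTransparency false
set_option linter.style.haveILetI false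
set_option linter.unusedSectionVars false

instance HF_additive (X : Scheme.{u}) (n : ℕ) : (EtCoh.HF X n).Additive := by
  unfold EtCoh.HF; infer_instance

/-- colimit of zero objects is zero. -/
lemma isZero_of_isColimit {J : Type*} [Category J] {C : Type*} [Category C] [HasZeroMorphisms C]
    {G : J ⥤ C} (c : Cocone G) (hc : IsColimit c) (h : ∀ j, IsZero (G.obj j)) : IsZero c.pt := by
  rw [IsZero.iff_id_eq_zero]
  apply hc.hom_ext
  intro j
  exact (h j).eq_of_src _ _

/-- A functor preserving finite coproducts and filtered colimits indexed by finite subsets, and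
killing each summand, kills the coproduct. -/
theorem isZero_coprod {C D : Type*} [Category C] [Category D] [HasZeroMorphisms D]
    [HasFiniteCoproducts C] {α : Type*} [HasColimitsOfShape (Finset (Discrete α)) C]
    (G : C ⥤ D) [PreservesFiniteCoproducts G] [PreservesColimitsOfShape (Finset (Discrete α)) G]
    (F : α → C) (c : Cofan F) (hc : IsColimit c) (h : ∀ a, IsZero (G.obj (F a))) :
    IsZero (G.obj c.pt) := by
  classical
  let Dg := CoproductsFromFiniteFiltered.liftToFinsetObj (Discrete.functor F)
  let cc := CoproductsFromFiniteFiltered.liftToFinsetColimitCocone (Discrete.functor F)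
  have e : c.pt ≅ colimit Dg := hc.coconePointUniqueUpToIso cc.isColimit
  refine IsZero.of_iso ?_ (G.mapIso e)
  have hcol := isColimitOfPreserves G (colimit.isColimit Dg)
  refine isZero_of_isColimit _ hcol ?_
  intro S
  change IsZero (G.obj (∐ fun x : S => (Discrete.functor F).obj x))
  have hfin := isColimitOfPreserves G
    (colimit.isColimit (Discrete.functor fun x : S => (Discrete.functor F).obj x))
  refine isZero_of_isColimit _ hfin ?_
  rintro ⟨x⟩
  exact h _

lemma sepClosed_residue (K : Type u) [Field K] [IsAlgClosed K] :
    IsSepClosed (IsLocalRing.ResidueField K) := by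
  have e : K ≃+* IsLocalRing.ResidueField K :=
    RingEquiv.ofBijective (IsLocalRing.residue K)
      ⟨(IsLocalRing.residue K).injective, IsLocalRing.residue_surjective⟩
  have : IsAlgClosed (IsLocalRing.ResidueField K) := IsAlgClosed.of_ringEquiv K _ e
  infer_instance

theorem H_point (k : Type u) [Field k] [IsAlgClosed k] (X : Scheme.{u})
    (f : X ⟶ Spec (CommRingCat.of k)) [LocallyOfFiniteType f] (x : X) (hx : IsClosed ({x} : Set X))
    (F : EtCoh.Ab (Spec (X.residueField x))) (q : ℕ) (hq : 1 ≤ q) :
    Subsingleton (EtCoh.H (Spec (X.residueField x)) F q) := by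
  have e : k ≃+* X.residueField x := (residueFieldIsoBase f x hx).symm.commRingCatIsoToRingEquiv
  haveI : IsAlgClosed (X.residueField x) := IsAlgClosed.of_ringEquiv k _ e
  haveI := sepClosed_residue (X.residueField x)
  exact Groth.Agent.S0073.result (X.residueField x) F q hq

theorem H_push_point (k : Type u) [Field k] [IsAlgClosed k] (X : Scheme.{u})
    (f : X ⟶ Spec (CommRingCat.of k)) [LocallyOfFiniteType f] (x : X) (hx : IsClosed ({x} : Set X))
    (F : EtCoh.Ab (Spec (X.residueField x))) (q : ℕ) (hq : 1 ≤ q) :
    Subsingleton (EtCoh.H X ((EtCoh.push (X.fromSpecResidueField x)).obj F) q) := by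
  haveI : IsClosedImmersion (X.fromSpecResidueField x) := isClosed_singleton_iff_isClosedImmersion.mp hx
  haveI : PreservesFiniteLimits (EtCoh.pull (X.fromSpecResidueField x)) :=
    Groth.Agent.S0101.result _
  have hb := Groth.Agent.S14451.result (X.fromSpecResidueField x) F
    (fun p hp => Groth.Agent.S0071.result (X.fromSpecResidueField x) F p hp) q
  haveI := H_point k X f x hx F q hq
  exact hb.injective.subsingleton

theorem main (k : Type u) [Field k] [IsAlgClosed k] (X : Scheme.{u})
    (f : X ⟶ Spec (CommRingCat.of k)) [IsSeparated f] [LocallyOfFiniteType f] [QuasiCompact f]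
    (c : Cofan fun x : {x : ↥X // IsClosed ({x} : Set ↥X)} =>
      (EtCoh.push (X.fromSpecResidueField x.1)).obj (EtCoh.const (Spec (X.residueField x.1)) ℤ))
    (hc : IsColimit c) (q : ℕ) (hq : 1 ≤ q) :
    Subsingleton (EtCoh.H X c.pt q) := by
  haveI : CompactSpace X := (quasiCompact_iff_compactSpace (f := f)).mp inferInstance
  haveI : QuasiSeparatedSpace X := (quasiSeparated_iff_quasiSeparatedSpace f).mp inferInstance
  haveI := Groth.Agent.S0099.result X q (Finset (Discrete {x : ↥X // IsClosed ({x} : Set ↥X)}))
  have hz : IsZero ((EtCoh.HF X q).obj c.pt) := by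
    refine isZero_coprod (EtCoh.HF X q) _ c hc ?_
    intro a
    have hs := H_push_point k X f a.1 a.2 (EtCoh.const (Spec (X.residueField a.1)) ℤ) q hq
    exact @AddCommGrpCat.isZero_of_subsingleton _ hs
  exact AddCommGrpCat.subsingleton_of_isZero hz

end Aux

/-- Let X be a smooth curve over an algebraically closed field k (here: X integral of dimension one,
smooth, separated and of finite type over k), and for a closed point x let i_x : Spec κ(x) ⟶ X be
its inclusion. Then H^q of the direct sum, over all closed points x, of the sheaves (i_x)_* Z (given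
here as any colimit cofan of that family) vanishes for every q ≥ 1. -/
theorem result (k : Type u) [Field k] [IsAlgClosed k] (X : Scheme.{u})
    (f : X ⟶ Spec (CommRingCat.of k)) [Smooth f] [IsSeparated f] [LocallyOfFiniteType f] [QuasiCompact f] [IsIntegral X]
    (hdim : topologicalKrullDim ↥X = 1)
    (c : Cofan fun x : {x : ↥X // IsClosed ({x} : Set ↥X)} =>
      (EtCoh.push (X.fromSpecResidueField x.1)).obj (EtCoh.const (Spec (X.residueField x.1)) ℤ))
    (hc : IsColimit c) (q : ℕ) (hq : 1 ≤ q) :
    Subsingleton (EtCoh.H X c.pt q) := by
  exact Aux.main k X f c hc q hq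

end Groth.Agent.S6641
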