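import Groth.Statements.S6642
import Mathlib
import Groth.Prelude.Def_EtRestW
import Groth.Prelude.Def_EtMod2
import Groth.Agent.Lib.Helper9.FE.CsPull
import Groth.Agent.Lib.Helper9.FE.ModCsPull
-- import your own Groth.Agent.* helpers here

set_option autoImplicit false
open CategoryTheory CategoryTheory.Limits AlgebraicGeometry Opposite
universe u
open EtCore

namespace Groth.Agent.S6642

open CategoryTheory Limits Opposite AlgebraicGeometry
namespace Aux

theorem main {X Y : Scheme.{u}} (f : X ⟶ Y) :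
    (∀ G : EtCoh.Ab Y, EtRest.IsLocallyConstant G → EtRest.IsLocallyConstant ((EtCoh.pull f).obj G)) ∧
    (∀ G : EtCoh.Ab Y, EtCoh.IsFiniteLocallyConstant G → EtCoh.IsFiniteLocallyConstant ((EtCoh.pull f).obj G)) ∧
    (∀ (Λ : Type (u + 1)) [CommRing Λ] (G : EtModW.Mod Λ Y),
      EtModW.IsFTLocConst Λ G → EtModW.IsFTLocConst Λ ((EtModW.pull Λ f).obj G)) := by
  refine ⟨fun G hG => ?_, fun G hG => H9FE.CsPull.flc_pull f G hG,
    fun Λ _ G hG => H9FE.ModCsPull.ftlc_pull f G hG⟩
  obtain ⟨ι, U, hU, hα⟩ := hG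
  refine ⟨ι, fun i => (EtCoh.bc f).obj (U i), ?_, fun i => ?_⟩
  · intro x
    obtain ⟨i, y, hy⟩ := hU (f.base x)
    obtain ⟨z, -, hz2⟩ := Scheme.Pullback.exists_preimage_pullback (f := (U i).hom) (g := f) y x hy
    exact ⟨i, z, hz2⟩
  · obtain ⟨M, iM, ⟨α⟩⟩ := hα i
    exact ⟨M, iM, H9FE.CsPull.over_pull_const f G (U i) _ α⟩

end Aux

/-- Abelian sheaves and sheaves of modules: for a morphism of schemes f : X ⟶ Y, inverse image along f
on the small etale sites preserves locally constant abelian sheaves, finite locally constant abelian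
sheaves, and finite type locally constant sheaves of Λ-modules. (The published statement also covers
sheaves of sets and all locally constant sheaves of modules; this row treats the abelian and
finite-type module cases.) -/
theorem result {X Y : Scheme.{u}} (f : X ⟶ Y) :
    (∀ G : EtCoh.Ab Y, EtRest.IsLocallyConstant G → EtRest.IsLocallyConstant ((EtCoh.pull f).obj G)) ∧
    (∀ G : EtCoh.Ab Y, EtCoh.IsFiniteLocallyConstant G → EtCoh.IsFiniteLocallyConstant ((EtCoh.pull f).obj G)) ∧
    (∀ (Λ : Type (u + 1)) [CommRing Λ] (G : EtModW.Mod Λ Y),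
      EtModW.IsFTLocConst Λ G → EtModW.IsFTLocConst Λ ((EtModW.pull Λ f).obj G)) := by
  exact Aux.main f

end Groth.Agent.S6642
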