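import Groth.Statements.S6648
import Mathlib
import Groth.Agent.Lib.Helper5.Misc.EtStalk
import Groth.Agent.Lib.Helper5.Misc.EtSiteBasic

set_option autoImplicit false
open CategoryTheory CategoryTheory.Limits AlgebraicGeometry Opposite
universe u
open EtCore

open Groth.Agent.Lib.Helper5

namespace Groth.Agent.S6648

/-- For a sheaf of (commutative) rings O on the small etale site of a scheme S, the set of points s of S
over which some geometric stalk of O is a nonzero ring is closed in S. (Rings are taken in the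
universe of the schemes, as for the structure presheaf of the prelude.) -/
theorem result {S : Scheme.{u}} (O : Sheaf S.smallEtaleTopology CommRingCat.{u}) :
    IsClosed {s : ↥S | ∃ (Ω : Type u) (_ : Field Ω) (_ : IsSepClosed Ω) (ξ : Spec (CommRingCat.of Ω) ⟶ S),
      ξ.base default = s ∧ Nontrivial ↑((Scheme.pointSmallEtale ξ).presheafFiber.obj O.obj)} := by
  rw [← isOpen_compl_iff, isOpen_iff_forall_mem_open]
  intro s hs
  have h0 : ¬ Nontrivial ↑((Scheme.pointSmallEtale (EtStalk.geomPtAt s).ξ).presheafFiber.obj O.obj) :=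
    fun hn => hs ⟨(EtStalk.geomPtAt s).Ω, (EtStalk.geomPtAt s).field, (EtStalk.geomPtAt s).sepClosed,
      (EtStalk.geomPtAt s).ξ, EtStalk.geomPtAt_default s, hn⟩
  rw [not_nontrivial_iff_subsingleton] at h0
  let T : S.Etale := EtSiteBasic.ofEtale (𝟙 S)
  let x₀ : (Scheme.pointSmallEtale (EtStalk.geomPtAt s).ξ).fiber.obj T :=
    Over.homMk (EtStalk.geomPtAt s).ξ (Category.comp_id _)
  have e : (Scheme.pointSmallEtale (EtStalk.geomPtAt s).ξ).toPresheafFiber T x₀ O.obj
      (1 : O.obj.obj (op T)) =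
      (Scheme.pointSmallEtale (EtStalk.geomPtAt s).ξ).toPresheafFiber T x₀ O.obj 0 :=
    Subsingleton.elim _ _
  obtain ⟨V, f, y, hy, hf⟩ :=
    ((Scheme.pointSmallEtale (EtStalk.geomPtAt s).ξ).toPresheafFiber_eq_iff' T x₀ _ _).1 e
  have hV : (0 : O.obj.obj (op V)) = 1 := by
    have h1 := map_one (O.obj.map f.op).hom
    have h2 := map_zero (O.obj.map f.op).hom
    exact h2.symm.trans (hf.symm.trans h1)
  haveI : Etale V.hom := V.prop
  refine ⟨Set.range V.hom.base, ?_, V.hom.isOpenMap.isOpen_range, ?_⟩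
  · rintro _ ⟨v, rfl⟩ ⟨Ω, _, _, ξ, hξ, hn⟩
    obtain ⟨x, -⟩ := Scheme.pointSmallEtaleFiberObjToPreimage_surjective ξ hξ V ⟨v, rfl⟩
    have h1 := map_one ((Scheme.pointSmallEtale ξ).toPresheafFiber V x O.obj).hom
    have h2 := map_zero ((Scheme.pointSmallEtale ξ).toPresheafFiber V x O.obj).hom
    have h3 : (0 : ↑((Scheme.pointSmallEtale ξ).presheafFiber.obj O.obj)) = 1 :=
      h2.symm.trans ((congrArg _ hV).trans h1)
    exact zero_ne_one h3
  · refine ⟨y.left (default : Spec (CommRingCat.of (EtStalk.geomPtAt s).Ω)), ?_⟩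
    have e1 : y.left ≫ V.hom = (EtStalk.geomPtAt s).ξ := Over.w y
    exact (congrArg (fun f : Spec (CommRingCat.of (EtStalk.geomPtAt s).Ω) ⟶ S => f default) e1).trans
      (EtStalk.geomPtAt_default s)

end Groth.Agent.S6648
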