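import Groth.Statements.S6649
import Mathlib
import Groth.Agent.S0212
import Groth.Agent.S0214
import Groth.Agent.Lib.Helper4.DimFT4

set_option autoImplicit false
open CategoryTheory CategoryTheory.Limits AlgebraicGeometry Opposite
universe u
open Curves

namespace Groth.Agent.S6649

/-- For a curve C over an algebraically closed field k (C integral of dimension one, separated and of
finite type over k) the Brauer group of the function field of C is zero: every finite-dimensional
central division algebra over the function field has dimension one. -/
theorem result (k : Type u) [Field k] [IsAlgClosed k] (C : Scheme.{u})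
    (f : C ⟶ Spec (CommRingCat.of k)) [IsSeparated f] [LocallyOfFiniteType f] [QuasiCompact f] [IsIntegral C]
    (hdim : topologicalKrullDim ↥C = 1)
    (D : Type u) [DivisionRing D] [Algebra ↑C.functionField D] [Algebra.IsCentral ↑C.functionField D]
    [FiniteDimensional ↑C.functionField D] : Module.finrank ↑C.functionField D = 1 := by
  classical
  letI : C.Over (Spec (CommRingCat.of k)) := ⟨f⟩
  haveI : LocallyOfFiniteType (C ↘ (Spec (CommRingCat.of k))) := ‹LocallyOfFiniteType f›
  obtain ⟨U, hU, hx, -⟩ := exists_isAffineOpen_mem_and_subset (U := (⊤ : C.Opens))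
    (x := genericPoint C) (by simp)
  obtain ⟨n, h1, -⟩ := Groth.Agent.Lib.Helper4.DimFT4.exists_dim_affineOpen_eq_trdeg k C hU hx
  have h2 := Groth.Agent.Lib.Helper4.DimFT4.S1619_main k C n h1
  have hn : n = 1 := by
    rw [hdim] at h2
    exact_mod_cast h2.symm
  letI : Algebra k ↑C.functionField := Curv2.stalkAlgebra k C (genericPoint C)
  letI : Algebra k (C.residueField (genericPoint C)) := Curv2.resAlgebra k C (genericPoint C)
  let φ : ↑C.functionField →ₐ[k] C.residueField (genericPoint C) :=
    { (C.residue (genericPoint C)).hom with
      commutes' := fun c => rfl }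
  have hφ : Function.Bijective φ := by
    refine ⟨φ.toRingHom.injective, ?_⟩
    exact IsLocalRing.residue_surjective
  have htr : Algebra.trdeg k ↑C.functionField = 1 := by
    rw [(AlgEquiv.ofBijective φ hφ).trdeg_eq, h1, hn]
    norm_cast
  have hCi := Groth.Agent.S0212.result k ↑C.functionField 1 htr
  have hCr : Curves.IsCr ↑C.functionField 1 := by
    intro m d g hg hd hlt
    obtain ⟨a, ha, h⟩ := hCi 1 m (fun _ => g) (fun _ => d) (fun _ => hg) (fun _ => hd)
      (by simpa using hlt)
    exact ⟨a, ha, h 0⟩
  exact Groth.Agent.S0214.result ↑C.functionField hCr D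

end Groth.Agent.S6649
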