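import Groth.Statements.S6654
import Mathlib
import Groth.Prelude.Def_EtBase
import Groth.Prelude.Def_EtMod2
import Groth.Agent.Lib.Helper9.FE.ConstSiteIso
import Groth.Agent.Lib.Helper9.FE.ModConstSiteGen
import Groth.Agent.Lib.Helper9.FE.PointGermMod
import Groth.Agent.S6640
-- import your own Groth.Agent.* helpers here

set_option autoImplicit false
open CategoryTheory CategoryTheory.Limits AlgebraicGeometry Opposite
universe u
open EtModW

namespace Groth.Agent.S6654

open CategoryTheory CategoryTheory.Limits AlgebraicGeometry Opposite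
open CategoryTheory CategoryTheory.Limits AlgebraicGeometry Opposite
namespace Aux
set_option backward.isDefEq.respectTransparency false
set_option linter.style.haveILetI false
set_option linter.unusedSectionVars false
open H9FE H9FE.ModConstSite Groth.Agent.S6640.Aux

theorem main (Λ : Type (u + 1)) [CommRing Λ] {X : Scheme.{u}} [IrreducibleSpace ↥X]
    {Ω : Type u} [Field Ω] [IsSepClosed Ω] (ξ : Spec (CommRingCat.of Ω) ⟶ X)
    (hξ : ξ.base default = genericPoint ↥X)
    (M : Type (u + 1)) [AddCommGroup M] [Module Λ M] (M' : Submodule Λ M) (G : EtModW.Mod Λ X)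
    (a : EtModW.constMod Λ X ↥M' ⟶ G) (b : G ⟶ EtModW.constMod Λ X M) [Mono a] [Mono b]
    (hab : a ≫ b = (constantSheaf X.smallEtaleTopology (ModuleCat.{u + 1} Λ)).map (ModuleCat.ofHom M'.subtype))
    (hst : IsIso ((EtModW.stalk Λ ξ).map a)) : IsIso a := by
  classical
  let J := X.smallEtaleTopology
  let Φ := Scheme.pointSmallEtale ξ
  let MA : ModuleCat.{u + 1} Λ := ModuleCat.of Λ M
  let MA' : ModuleCat.{u + 1} Λ := ModuleCat.of Λ ↥M'
  let incl : MA' →ₗ[Λ] MA := M'.subtype
  have hincl : Function.Injective incl := Subtype.val_injective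
  haveI : PreservesFilteredColimitsOfSize.{u, u} (forget (ModuleCat.{u + 1} Λ)) :=
    preservesFilteredColimitsOfSize_shrink.{u, u + 1, u, u + 1} _
  have hsurj : Function.Surjective (Φ.presheafFiber.map a.hom) := by
    have h1 : IsIso (Φ.presheafFiber.map a.hom) := hst
    exact ((ConcreteCategory.isIso_iff_bijective _).1 h1).2
  -- b ∘ a on constants
  have hba : ∀ (W : X.Etale) (c' : MA'), b.hom.app (op W) (a.hom.app (op W) (ts J MA' W c')) =
      ts J MA W (incl c') := by
    intro W c'
    have h1 := congrArg (fun η => η.hom.app (op W) (ts J MA' W c')) hab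
    refine h1.trans ?_
    exact const_map_ts J (ModuleCat.ofHom incl) W c'
  have hloc : Presheaf.IsLocallySurjective J a.hom := by
    constructor
    intro V g
    let bg := b.hom.app (op V) g
    have h1 := imageSieve_ts_mem J MA V bg
    refine J.transitive h1 _ ?_
    intro W k hk
    obtain ⟨c, hc⟩ := hk
    by_cases hbot : (⊥ : Sieve W) ∈ J W
    · exact J.superset_covering bot_le hbot
    · obtain ⟨t⟩ := exists_fiber_point ξ hξ W (nonempty_of_bot_not_mem W hbot)
      obtain ⟨Y, l, y, s, hy, hs⟩ := PointGermMod.exists_local_preimage Φ a.hom hsurj W t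
        (G.obj.map k.op g)
      have hY : (⊥ : Sieve Y) ∉ J Y := bot_not_mem_of_point Y (y.left (default : Spec (CommRingCat.of Ω)))
      obtain ⟨Y', l', ⟨c', hc'⟩, hY'⟩ := ConstSite.exists_arrow_not_bot J hY _
        (imageSieve_ts_mem J MA' Y s)
      have hcc : incl c' = c := by
        have e1 : ts J MA Y' (incl c') = ts J MA Y' c := by
          rw [← hba Y' c']
          have hc2 : ts J MA' Y' c' = (cS J MA').obj.map l'.op s := hc'
          have hc3 : b.hom.app (op W) (G.obj.map k.op g) = ts J MA W c := by
            rw [nat_app J b k]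
            exact hc.symm
          rw [hc2, nat_app J a l', hs, nat_app J b l', nat_app J b l, hc3]
          exact (congrArg (fun z => (cS J MA).obj.map l'.op z) (ts_map J MA l c)).trans
            (ts_map J MA l' c)
        rcases ts_eq_or_bot J MA Y' _ _ e1 with h | h
        · exact h
        · exact absurd h hY'
      have key : a.hom.app (op W) (ts J MA' W c') = G.obj.map k.op g := by
        apply injective_of_mono J b W
        rw [hba W c', hcc, nat_app J b k]
        exact hc
      apply J.covering_of_eq_top
      rw [← Sieve.id_mem_iff_eq_top]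
      refine ⟨ts J MA' W c', ?_⟩
      rw [key, Category.id_comp]
  haveI : Epi a := (Sheaf.isLocallySurjective_iff_epi' (φ := a)).1 hloc
  exact isIso_of_mono_of_epi a

end Aux

/-- Let X be an irreducible scheme, ξ a geometric point over its generic point, Λ a commutative ring, M'
a submodule of a Λ-module M, and G a sheaf of Λ-modules on the small etale site of X with
monomorphisms a : const M' ⟶ G and b : G ⟶ const M whose composite is the map of constant sheaves
induced by the inclusion. If the stalk of a at ξ is an isomorphism, then a is an isomorphism. -/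
theorem result (Λ : Type (u + 1)) [CommRing Λ] {X : Scheme.{u}} [IrreducibleSpace ↥X]
    {Ω : Type u} [Field Ω] [IsSepClosed Ω] (ξ : Spec (CommRingCat.of Ω) ⟶ X)
    (hξ : ξ.base default = genericPoint ↥X)
    (M : Type (u + 1)) [AddCommGroup M] [Module Λ M] (M' : Submodule Λ M) (G : EtModW.Mod Λ X)
    (a : EtModW.constMod Λ X ↥M' ⟶ G) (b : G ⟶ EtModW.constMod Λ X M) [Mono a] [Mono b]
    (hab : a ≫ b = (constantSheaf X.smallEtaleTopology (ModuleCat.{u + 1} Λ)).map (ModuleCat.ofHom M'.subtype))
    (hst : IsIso ((EtModW.stalk Λ ξ).map a)) : IsIso a := by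
  exact Aux.main Λ ξ hξ M M' G a b hab hst

end Groth.Agent.S6654
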