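import Groth.Statements.S6655
import Mathlib
import Groth.Prelude.Def_EtMod2
import Groth.Agent.Lib.Helper9.FE.ConstUnit
import Groth.Agent.Lib.Helper9.FE.ModConstSiteOver
import Groth.Agent.S6647
-- import your own Groth.Agent.* helpers here

set_option autoImplicit false
open CategoryTheory CategoryTheory.Limits AlgebraicGeometry Opposite
universe u
open EtModW

namespace Groth.Agent.S6655

open CategoryTheory CategoryTheory.Limits AlgebraicGeometry Opposite
open CategoryTheory CategoryTheory.Limits AlgebraicGeometry Opposite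
namespace Aux
set_option backward.isDefEq.respectTransparency false
set_option linter.style.haveILetI false
set_option linter.unusedSectionVars false
open H9FE H9FE.ConstUnit H9FE.ModConstSite Groth.Agent.S14453.Aux Groth.Agent.S6647.Aux

/-- joint refinement of two coverings by covering sieves on the pairwise products -/
theorem cover_of_sieves {X : Scheme.{u}} {ι₁ ι₂ : Type u} (U₁ : ι₁ → X.Etale)
    (U₂ : ι₂ → X.Etale) (hU₁ : EtCoh.Covers U₁) (hU₂ : EtCoh.Covers U₂) (Q : X.Etale → Prop)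
    (hQ : ∀ i j, ∃ S : Sieve (prodObj X (toTop (U₁ i)) (toTop (U₂ j))),
      S ∈ X.smallEtaleTopology _ ∧ ∀ {W : X.Etale} (g : W ⟶ _), S g → Q W) :
    ∃ (ι : Type u) (U : ι → X.Etale), EtCoh.Covers U ∧ ∀ i, Q (U i) := by
  classical
  choose S hS hprop using hQ
  have hpt : ∀ (ij : ι₁ × ι₂) (x : (prodObj X (toTop (U₁ ij.1)) (toTop (U₂ ij.2))).left),
      ∃ (W : X.Etale) (g : W ⟶ prodObj X (toTop (U₁ ij.1)) (toTop (U₂ ij.2))) (y : W.left),
        (S ij.1 ij.2) g ∧ g.left y = x := by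
    intro ij x
    have := hS ij.1 ij.2
    rw [mem_et_iff] at this
    obtain ⟨W, g, y, hg, -, hy⟩ := this x
    exact ⟨W, g, y, hg, hy⟩
  choose W g y hg hy using hpt
  refine ⟨Σ ij : ι₁ × ι₂, (prodObj X (toTop (U₁ ij.1)) (toTop (U₂ ij.2))).left,
    fun k => W k.1 k.2, ?_, ?_⟩
  · intro x
    obtain ⟨i, y₁, hy₁⟩ := hU₁ x
    obtain ⟨j, y₂, hy₂⟩ := hU₂ x
    obtain ⟨p, hp⟩ := exists_prod_point y₁ y₂ (hy₁.trans hy₂.symm)
    refine ⟨⟨(i, j), p⟩, y (i, j) p, ?_⟩
    have h1 : (g (i, j) p).left ≫ (prodObj X (toTop (U₁ i)) (toTop (U₂ j))).hom =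
        (W (i, j) p).hom := MorphismProperty.Over.w (g (i, j) p)
    have h2 : (W (i, j) p).hom (y (i, j) p) =
        (prodObj X (toTop (U₁ i)) (toTop (U₂ j))).hom ((g (i, j) p).left (y (i, j) p)) := by
      rw [← h1]; rfl
    refine (h2.trans ?_).trans hy₁
    rw [hy (i, j) p]
    exact hp
  · rintro ⟨ij, x⟩
    exact hprop ij.1 ij.2 (g ij x) (hg ij x)

theorem main (Λ : Type (u + 1)) [CommRing Λ] {X : Scheme.{u}} (F G : EtModW.Mod Λ X)
    (φ : F ⟶ G) (hF : EtModW.IsFTLocConst Λ F) (hG : EtModW.IsFTLocConst Λ G) :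
    ∃ (ι : Type u) (U : ι → X.Etale), EtCoh.Covers U ∧ ∀ i, ∃ (M N : Type (u + 1))
      (_ : AddCommGroup M) (_ : AddCommGroup N) (_ : Module Λ M) (_ : Module Λ N)
      (h : M →ₗ[Λ] N)
      (α : EtModW.restr Λ F (U i) ≅ (constantSheaf (X.smallEtaleTopology.over (U i))
        (ModuleCat.{u + 1} Λ)).obj (ModuleCat.of Λ M))
      (β : EtModW.restr Λ G (U i) ≅ (constantSheaf (X.smallEtaleTopology.over (U i))
        (ModuleCat.{u + 1} Λ)).obj (ModuleCat.of Λ N)),
      (X.smallEtaleTopology.overPullback (ModuleCat.{u + 1} Λ) (U i)).map φ ≫ β.hom =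
        α.hom ≫ (constantSheaf (X.smallEtaleTopology.over (U i)) (ModuleCat.{u + 1} Λ)).map
          (ModuleCat.ofHom h) := by
  classical
  let J := X.smallEtaleTopology
  obtain ⟨ι₁, U₁, hU₁, hα⟩ := hF
  obtain ⟨ι₂, U₂, hU₂, hβ⟩ := hG
  choose M₁ iM₁ mM₁ fM₁ α₁ using hα
  choose N₂ iN₂ mN₂ fN₂ β₂ using hβ
  refine cover_of_sieves U₁ U₂ hU₁ hU₂ (fun W => ∃ (M N : Type (u + 1))
      (_ : AddCommGroup M) (_ : AddCommGroup N) (_ : Module Λ M) (_ : Module Λ N)
      (h : M →ₗ[Λ] N)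
      (α : EtModW.restr Λ F W ≅ (constantSheaf (X.smallEtaleTopology.over W)
        (ModuleCat.{u + 1} Λ)).obj (ModuleCat.of Λ M))
      (β : EtModW.restr Λ G W ≅ (constantSheaf (X.smallEtaleTopology.over W)
        (ModuleCat.{u + 1} Λ)).obj (ModuleCat.of Λ N)),
      (X.smallEtaleTopology.overPullback (ModuleCat.{u + 1} Λ) W).map φ ≫ β.hom =
        α.hom ≫ (constantSheaf (X.smallEtaleTopology.over W) (ModuleCat.{u + 1} Λ)).map
          (ModuleCat.ofHom h)) ?_
  intro i j
  letI := iM₁ i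
  letI := iN₂ j
  letI := mM₁ i
  letI := mN₂ j
  haveI := fM₁ i
  let P := prodObj X (toTop (U₁ i)) (toTop (U₂ j))
  let αP := restrictIso.{u+1, u, u+1} J (prodFst X (toTop (U₁ i)) (toTop (U₂ j))) (α₁ i).some
  let βP := restrictIso.{u+1, u, u+1} J (prodSnd X (toTop (U₁ i)) (toTop (U₂ j))) (β₂ j).some
  haveI : Module.Finite Λ (ModuleCat.of Λ (M₁ i)) :=
    inferInstanceAs (Module.Finite Λ (M₁ i))
  obtain ⟨S, hS, hprop⟩ := constSieve_mem.{u+1, u, u+1} J φ P αP βP
  refine ⟨S, hS, ?_⟩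
  intro W g hg
  obtain ⟨h, hh⟩ := hprop g hg
  exact ⟨M₁ i, N₂ j, inferInstance, inferInstance, inferInstance, inferInstance, h,
    restrictIso.{u+1, u, u+1} J g αP, restrictIso.{u+1, u, u+1} J g βP, hh⟩

end Aux

/-- Part (3): with both sheaves of finite type: let Λ be a commutative ring and φ : F ⟶ G a map of
finite type locally constant sheaves of Λ-modules on the small etale site of a scheme X. Then on the
members of some etale covering of X the restriction of φ is, up to isomorphisms with constant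
sheaves on both sides, the map of constant sheaves induced by a Λ-linear map. (The published
statement allows G to be any locally constant sheaf of Λ-modules; this row assumes G of finite type
as well.) -/
theorem result (Λ : Type (u + 1)) [CommRing Λ] {X : Scheme.{u}} (F G : EtModW.Mod Λ X)
    (φ : F ⟶ G) (hF : EtModW.IsFTLocConst Λ F) (hG : EtModW.IsFTLocConst Λ G) :
    ∃ (ι : Type u) (U : ι → X.Etale), EtCoh.Covers U ∧ ∀ i, ∃ (M N : Type (u + 1)) (_ : AddCommGroup M) (_ : AddCommGroup N)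
      (_ : Module Λ M) (_ : Module Λ N) (h : M →ₗ[Λ] N)
      (α : EtModW.restr Λ F (U i) ≅ (constantSheaf (X.smallEtaleTopology.over (U i)) (ModuleCat.{u + 1} Λ)).obj (ModuleCat.of Λ M))
      (β : EtModW.restr Λ G (U i) ≅ (constantSheaf (X.smallEtaleTopology.over (U i)) (ModuleCat.{u + 1} Λ)).obj (ModuleCat.of Λ N)),
      (X.smallEtaleTopology.overPullback (ModuleCat.{u + 1} Λ) (U i)).map φ ≫ β.hom =
        α.hom ≫ (constantSheaf (X.smallEtaleTopology.over (U i)) (ModuleCat.{u + 1} Λ)).map (ModuleCat.ofHom h) := by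
  exact Aux.main Λ F G φ hF hG

end Groth.Agent.S6655
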