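import Groth.Statements.S6656
import Mathlib
import Groth.Statements.S6656
-- import your own Groth.Agent.* helpers here

set_option autoImplicit false
open CategoryTheory CategoryTheory.Limits AlgebraicGeometry Opposite
universe u
open EtCore

namespace Groth.Agent.S6656

open CategoryTheory CategoryTheory.Limits AlgebraicGeometry Opposite
namespace Aux
universe w v v' u₁ u₁'
set_option backward.isDefEq.respectTransparency false
set_option linter.style.haveILetI false

section General

variable {C : Type u₁} [Category.{v} C] [HasFiniteProducts C]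
  {A : Type u₁'} [Category.{v'} A] [HasProducts.{w} A] [Preadditive A]
  {K L : FormalCoproduct.{w} C}

/-- the map of Čech complexes induced by a morphism of formal coproducts -/
noncomputable def cechMap (Φ : K ⟶ L) (P : Cᵒᵖ ⥤ A) :
    (FormalCoproduct.cochainComplexFunctor (A := A) L.cech).obj P ⟶
      (FormalCoproduct.cochainComplexFunctor (A := A) K.cech).obj P :=
  (AlgebraicTopology.alternatingCofaceMapComplex A).map
    (Functor.whiskerRight (NatTrans.rightOp (FormalCoproduct.cechFunctor.map Φ))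
      ((FormalCoproduct.evalOp.{w} C A).obj P))

lemma isIso_cechMap (Φ : K ⟶ L) (P : Cᵒᵖ ⥤ A)
    (h : ∀ n : SimplexCategory, IsIso (((FormalCoproduct.evalOp.{w} C A).obj P).map
      (FormalCoproduct.powerMap Φ (ToType n)).op)) : IsIso (cechMap Φ P) := by
  unfold cechMap
  haveI : ∀ n : SimplexCategory, IsIso ((Functor.whiskerRight (NatTrans.rightOp
      (FormalCoproduct.cechFunctor.map Φ)) ((FormalCoproduct.evalOp.{w} C A).obj P)).app n) := by
    intro n
    exact h n
  haveI : IsIso (Functor.whiskerRight (NatTrans.rightOp (FormalCoproduct.cechFunctor.map Φ))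
      ((FormalCoproduct.evalOp.{w} C A).obj P)) := NatIso.isIso_of_isIso_app _
  infer_instance

lemma isIso_pi_π_of_subsingleton {β : Type w} [Subsingleton β] (f : β → A) (b : β) :
    IsIso (Pi.π f b) := by
  refine ⟨Pi.lift (fun b' => eqToHom (congrArg f (Subsingleton.elim b b'))), ?_, ?_⟩
  · apply Pi.hom_ext
    intro b'
    obtain rfl := Subsingleton.elim b b'
    simp
  · simp

end General

section Specific

variable {X : Scheme.{u}} (F : EtCoh.Ab X) (U : X.Etale) {ι : Type (u + 1)} [Finite ι]
  (Uf : ι → Over U) (V : Over U) (incl : ∀ i, Uf i ⟶ V)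
  (hV : IsColimit (Cofan.mk V.left.left fun i => (incl i).left.left))

include hV in
lemma inj_eq (i : ι) : Sigma.ι (fun i => (Uf i).left.left) i ≫
    ((colimit.isColimit (Discrete.functor fun i => (Uf i).left.left)).coconePointUniqueUpToIso
      hV).hom = (incl i).left.left :=
  IsColimit.comp_coconePointUniqueUpToIso_hom (colimit.isColimit _) hV ⟨i⟩

include hV in
lemma isOpenImmersion_incl (i : ι) : IsOpenImmersion (incl i).left.left := by
  rw [← inj_eq U Uf V incl hV i]
  infer_instance

/-- the comparison iso between the chosen coproduct and `V` -/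
noncomputable def eIso : (∐ fun i => (Uf i).left.left) ≅ V.left.left :=
  (colimit.isColimit (Discrete.functor fun i => (Uf i).left.left)).coconePointUniqueUpToIso hV

lemma inj_eq' (i : ι) : Sigma.ι (fun i => (Uf i).left.left) i ≫ (eIso U Uf V incl hV).hom =
    (incl i).left.left :=
  inj_eq U Uf V incl hV i

lemma eIso_hom_inv (z : (∐ fun i => (Uf i).left.left : Scheme.{u})) :
    (eIso U Uf V incl hV).inv ((eIso U Uf V incl hV).hom z) = z := by
  rw [← Scheme.Hom.comp_apply, (eIso U Uf V incl hV).hom_inv_id]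
  rfl

lemma eIso_inv_hom (v : V.left.left) :
    (eIso U Uf V incl hV).hom ((eIso U Uf V incl hV).inv v) = v := by
  rw [← Scheme.Hom.comp_apply, (eIso U Uf V incl hV).inv_hom_id]
  rfl

include hV in
lemma exists_preimage (v : V.left.left) :
    ∃ (i : ι) (p : (Uf i).left.left), (incl i).left.left p = v := by
  obtain ⟨i, p, hp⟩ := (sigmaOpenCover (fun i => (Uf i).left.left)).exists_eq
    ((eIso U Uf V incl hV).inv v)
  refine ⟨i, p, ?_⟩
  have hp' : (Sigma.ι (fun i => (Uf i).left.left) i) p = (eIso U Uf V incl hV).inv v := hp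
  rw [← inj_eq' U Uf V incl hV i, Scheme.Hom.comp_apply, hp', eIso_inv_hom]

include hV in
lemma incl_ne {i j : ι} (hij : i ≠ j) (p : (Uf i).left.left) (q : (Uf j).left.left) :
    (incl i).left.left p ≠ (incl j).left.left q := by
  intro h
  rw [← inj_eq' U Uf V incl hV i, ← inj_eq' U Uf V incl hV j, Scheme.Hom.comp_apply,
    Scheme.Hom.comp_apply] at h
  have h2 : Sigma.ι (fun i => (Uf i).left.left) i p = Sigma.ι (fun i => (Uf i).left.left) j q := by
    have := congrArg (fun z => (eIso U Uf V incl hV).inv z) h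
    simp only [eIso_hom_inv] at this
    exact this
  have h3 := (sigmaι_eq_iff (fun i => (Uf i).left.left) i j p q).mp h2
  exact hij (congrArg Sigma.fst h3)

include hV in
lemma mono_incl (i : ι) : Mono (incl i) := by
  haveI := isOpenImmersion_incl U Uf V incl hV i
  haveI : Mono ((Over.forget U ⋙ Scheme.Etale.forget X ⋙ Over.forget X).map (incl i)) := by
    show Mono (incl i).left.left
    infer_instance
  exact (Over.forget U ⋙ Scheme.Etale.forget X ⋙ Over.forget X).mono_of_mono_map this

variable (α : Type) [Finite α] [HasProductsOfShape α (Over U)]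

/-- the maps `∏ Uf (x a) ⟶ ∏ V` -/
noncomputable abbrev mx (x : α → ι) : (∏ᶜ fun a => Uf (x a)) ⟶ ∏ᶜ fun _ : α => V :=
  Limits.Pi.map (fun a => incl (x a))

include hV in
lemma jointly_surj (w : (∏ᶜ fun _ : α => V).left.left) :
    ∃ (x : α → ι) (p : (∏ᶜ fun a => Uf (x a)).left.left),
      (mx U Uf V incl α x).left.left p = w := by
  haveI : ∀ i, IsOpenImmersion (incl i).left.left := isOpenImmersion_incl U Uf V incl hV
  let W : Over U := ∏ᶜ fun _ : α => V
  have hex := fun a : α => exists_preimage U Uf V incl hV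
    ((Pi.π (fun _ : α => V) a).left.left w)
  choose x p hp using hex
  refine ⟨x, ?_⟩
  let O : α → V.left.left.Opens := fun a => ((incl (x a)).left.left).opensRange
  let Wx : W.left.left.Opens := ⨅ a, (Pi.π (fun _ : α => V) a).left.left ⁻¹ᵁ O a
  have hmem : ∀ z : W.left.left, z ∈ Wx ↔ ∀ a, (Pi.π (fun _ : α => V) a).left.left z ∈ O a := by
    intro z
    rw [← SetLike.mem_coe, TopologicalSpace.Opens.coe_iInf, Set.mem_iInter]
    rfl
  have hw : w ∈ Wx := (hmem w).mpr (fun a => ⟨p a, hp a⟩)
  -- the relevant identities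
  have hA : ∀ a, (incl (x a)).left.left ≫ V.left.hom = (Uf (x a)).left.hom :=
    fun a => MorphismProperty.Over.w (incl (x a)).left
  have hB : ∀ a, (incl (x a)).left.left ≫ V.hom.left = (Uf (x a)).hom.left :=
    fun a => congrArg (fun f => f.left) (Over.w (incl (x a)))
  have hC : ∀ a, (Pi.π (fun _ : α => V) a).left.left ≫ V.left.hom = W.left.hom :=
    fun a => MorphismProperty.Over.w (Pi.π (fun _ : α => V) a).left
  have hD : ∀ a, (Pi.π (fun _ : α => V) a).left.left ≫ V.hom.left = W.hom.left :=
    fun a => congrArg (fun f => f.left) (Over.w (Pi.π (fun _ : α => V) a))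
  let Wxo : X.Etale := Scheme.Etale.mk (Wx.ι ≫ W.left.hom)
  let jx : Wxo ⟶ W.left := MorphismProperty.Over.homMk Wx.ι rfl
  let Wx' : Over U := Over.mk (jx ≫ W.hom)
  have hrange : ∀ a, Set.range (Wx.ι ≫ (Pi.π (fun _ : α => V) a).left.left) ⊆
      Set.range (incl (x a)).left.left := by
    rintro a _ ⟨z, rfl⟩
    rw [Scheme.Hom.comp_apply]
    exact (hmem (Wx.ι z)).mp z.2 a
  let lft : ∀ a, (Wx : Scheme.{u}) ⟶ (Uf (x a)).left.left := fun a =>
    IsOpenImmersion.lift (incl (x a)).left.left
      (Wx.ι ≫ (Pi.π (fun _ : α => V) a).left.left) (hrange a)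
  have hlft : ∀ a, lft a ≫ (incl (x a)).left.left = Wx.ι ≫ (Pi.π (fun _ : α => V) a).left.left :=
    fun a => IsOpenImmersion.lift_fac _ _ _
  let ta : ∀ a, Wxo ⟶ (Uf (x a)).left := fun a =>
    MorphismProperty.Over.homMk (lft a) (by
      show lft a ≫ (Uf (x a)).left.hom = Wx.ι ≫ W.left.hom
      rw [← hA a, ← Category.assoc, hlft a, Category.assoc, hC a])
  let t : ∀ a, Wx' ⟶ Uf (x a) := fun a =>
    Over.homMk (ta a) (by
      apply MorphismProperty.Over.Hom.ext
      show lft a ≫ (Uf (x a)).hom.left = Wx.ι ≫ W.hom.left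
      rw [← hB a, ← Category.assoc, hlft a, Category.assoc, hD a])
  have key : Pi.lift t ≫ mx U Uf V incl α x = Over.homMk jx rfl := by
    apply Pi.hom_ext
    intro a
    rw [Category.assoc, Limits.Pi.map_π, Pi.lift_π_assoc]
    apply Over.OverMorphism.ext
    apply MorphismProperty.Over.Hom.ext
    exact hlft a
  refine ⟨(Pi.lift t).left.left ⟨w, hw⟩, ?_⟩
  have h1 := congrArg (fun f : Wx' ⟶ W => f.left.left) key
  have h2 : ((Pi.lift t).left.left ≫ (mx U Uf V incl α x).left.left) ⟨w, hw⟩ = Wx.ι ⟨w, hw⟩ :=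
    congrArg (fun f : (Wx : Scheme.{u}) ⟶ W.left.left => f ⟨w, hw⟩) h1
  rw [Scheme.Hom.comp_apply] at h2
  have h3 : Wx.ι ⟨w, hw⟩ = w := rfl
  exact h2.trans h3

include hV in
lemma isEmpty_of_ne {x y : α → ι} (hxy : x ≠ y) {Z : X.Etale}
    (g₁ : Z ⟶ (∏ᶜ fun a => Uf (x a)).left) (g₂ : Z ⟶ (∏ᶜ fun a => Uf (y a)).left)
    (h : g₁ ≫ (mx U Uf V incl α x).left = g₂ ≫ (mx U Uf V incl α y).left) :
    IsEmpty Z.left := by
  obtain ⟨a, ha⟩ := Function.ne_iff.mp hxy
  refine ⟨fun z => ?_⟩
  have e1 : mx U Uf V incl α x ≫ Pi.π (fun _ : α => V) a =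
      Pi.π (fun a => Uf (x a)) a ≫ incl (x a) := Limits.Pi.map_π _ _
  have e2 : mx U Uf V incl α y ≫ Pi.π (fun _ : α => V) a =
      Pi.π (fun a => Uf (y a)) a ≫ incl (y a) := Limits.Pi.map_π _ _
  have e1' : (mx U Uf V incl α x).left ≫ (Pi.π (fun _ : α => V) a).left =
      (Pi.π (fun a => Uf (x a)) a).left ≫ (incl (x a)).left :=
    congrArg (fun f => f.left) e1
  have e2' : (mx U Uf V incl α y).left ≫ (Pi.π (fun _ : α => V) a).left =
      (Pi.π (fun a => Uf (y a)) a).left ≫ (incl (y a)).left :=
    congrArg (fun f => f.left) e2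
  have key : g₁ ≫ (Pi.π (fun a => Uf (x a)) a).left ≫ (incl (x a)).left =
      g₂ ≫ (Pi.π (fun a => Uf (y a)) a).left ≫ (incl (y a)).left := by
    rw [← e1', ← e2', ← Category.assoc, ← Category.assoc, h]
  have key2 := congrArg (fun f : Z ⟶ V.left => f.left z) key
  have key3 : (incl (x a)).left.left ((Pi.π (fun a => Uf (x a)) a).left.left (g₁.left z)) =
      (incl (y a)).left.left ((Pi.π (fun a => Uf (y a)) a).left.left (g₂.left z)) := by
    have : (g₁.left ≫ (Pi.π (fun a => Uf (x a)) a).left.left ≫ (incl (x a)).left.left) z =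
      (g₂.left ≫ (Pi.π (fun a => Uf (y a)) a).left.left ≫ (incl (y a)).left.left) z := key2
    simpa only [Scheme.Hom.comp_apply] using this
  exact incl_ne U Uf V incl hV ha _ _ key3

include hV in
lemma eq_of_comp_mx {x : α → ι} {Z : X.Etale}
    (g₁ g₂ : Z ⟶ (∏ᶜ fun a => Uf (x a)).left)
    (h : g₁ ≫ (mx U Uf V incl α x).left = g₂ ≫ (mx U Uf V incl α x).left) : g₁ = g₂ := by
  haveI : ∀ i, Mono (incl i) := mono_incl U Uf V incl hV
  haveI : Mono (mx U Uf V incl α x) := by
    unfold mx
    infer_instance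
  have hh : g₂ ≫ (∏ᶜ fun a => Uf (x a)).hom = g₁ ≫ (∏ᶜ fun a => Uf (x a)).hom := by
    rw [← Over.w (mx U Uf V incl α x), ← Category.assoc, ← Category.assoc, h]
  let Z' : Over U := Over.mk (g₁ ≫ (∏ᶜ fun a => Uf (x a)).hom)
  let G₁ : Z' ⟶ ∏ᶜ fun a => Uf (x a) := Over.homMk g₁ rfl
  let G₂ : Z' ⟶ ∏ᶜ fun a => Uf (x a) := Over.homMk g₂ hh
  have hG : G₁ ≫ mx U Uf V incl α x = G₂ ≫ mx U Uf V incl α x := by
    apply Over.OverMorphism.ext
    exact h
  have := (cancel_mono (mx U Uf V incl α x)).mp hG
  exact congrArg (fun f => f.left) this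

include hV in
lemma core : IsIso (Pi.lift (fun x : α → ι => F.obj.map (mx U Uf V incl α x).left.op) :
    F.obj.obj (op (∏ᶜ fun _ : α => V).left) ⟶
      ∏ᶜ fun x : α → ι => F.obj.obj (op (∏ᶜ fun a => Uf (x a)).left)) := by
  rw [ConcreteCategory.isIso_iff_bijective]
  let W : Over U := ∏ᶜ fun _ : α => V
  let fam : ∀ x : α → ι, (∏ᶜ fun a => Uf (x a)).left ⟶ W.left :=
    fun x => (mx U Uf V incl α x).left
  have hcov : Sieve.ofArrows _ fam ∈ X.smallEtaleTopology W.left := by
    rw [Scheme.ofArrows_mem_smallEtaleTopology_iff]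
    ext w
    simp only [Set.mem_iUnion, Set.mem_range, Set.mem_univ, iff_true]
    obtain ⟨x, p, hp⟩ := jointly_surj U Uf V incl hV α w
    exact ⟨x, p, hp⟩
  have hsh : Presieve.IsSheafFor (F.obj ⋙ forget AddCommGrpCat) (Presieve.ofArrows _ fam) := by
    have h1 := (Presheaf.isSheaf_iff_isSheaf_forget X.smallEtaleTopology F.obj
      (forget AddCommGrpCat)).mp F.cond
    have h2 := (isSheaf_iff_isSheaf_of_type _ _).mp h1
    exact h2.isSheafFor _ hcov
  rw [Presieve.isSheafFor_arrows_iff] at hsh
  have hcompat : ∀ r : ∀ x : α → ι, (F.obj ⋙ forget AddCommGrpCat).obj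
      (op (∏ᶜ fun a => Uf (x a)).left),
      Presieve.Arrows.Compatible (F.obj ⋙ forget AddCommGrpCat) fam r := by
    intro r x y Z g₁ g₂ hg
    by_cases hxy : x = y
    · subst hxy
      rw [eq_of_comp_mx U Uf V incl hV α g₁ g₂ hg]
    · haveI : IsEmpty Z.left := isEmpty_of_ne U Uf V incl hV α hxy g₁ g₂ hg
      -- sections over the empty scheme form a subsingleton
      have hemp : (⊥ : Sieve Z) ∈ X.smallEtaleTopology Z := by
        have h0 : Sieve.ofArrows (fun e : PEmpty.{1} => (e.elim : X.Etale))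
            (fun e => (e.elim : (e.elim : X.Etale) ⟶ Z)) ∈ X.smallEtaleTopology Z := by
          rw [Scheme.ofArrows_mem_smallEtaleTopology_iff]
          ext z
          exact (IsEmpty.false z).elim
        refine X.smallEtaleTopology.superset_covering ?_ h0
        rintro T f ⟨_, _, _, ⟨e⟩, _⟩
        exact e.elim
      have h1 := (Presheaf.isSheaf_iff_isSheaf_forget X.smallEtaleTopology F.obj
        (forget AddCommGrpCat)).mp F.cond
      have h2 := (isSheaf_iff_isSheaf_of_type _ _).mp h1
      have h3 := (h2 (⊥ : Sieve Z) hemp).isSeparatedFor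
      exact h3.ext (fun T f hf => hf.elim)
  constructor
  · intro s t hst
    have hx : ∀ x, F.obj.map (fam x).op s = F.obj.map (fam x).op t := by
      intro x
      have h5 := congrArg (fun r => (Pi.π (fun x : α → ι =>
        F.obj.obj (op (∏ᶜ fun a => Uf (x a)).left)) x) r) hst
      simp only [← ConcreteCategory.comp_apply, Pi.lift_π] at h5
      exact h5
    obtain ⟨t₀, -, huniq⟩ := hsh (fun x => F.obj.map (fam x).op s) (hcompat _)
    exact (huniq s (fun x => rfl)).trans (huniq t (fun x => (hx x).symm)).symm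
  · intro r
    obtain ⟨t, ht, -⟩ := hsh (fun x => (Pi.π (fun x : α → ι =>
        F.obj.obj (op (∏ᶜ fun a => Uf (x a)).left)) x) r) (hcompat _)
    refine ⟨t, ?_⟩
    apply (Concrete.productEquiv (fun x : α → ι =>
        F.obj.obj (op (∏ᶜ fun a => Uf (x a)).left))).injective
    funext x
    rw [Concrete.productEquiv_apply_apply, Concrete.productEquiv_apply_apply,
      ← ConcreteCategory.comp_apply, Pi.lift_π]
    exact ht x

end Specific

theorem main {X : Scheme.{u}} (F : EtCoh.Ab X) (U : X.Etale)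
    [HasFiniteProducts (Over U)] {ι : Type (u + 1)} [Finite ι] (Uf : ι → Over U)
    (V : Over U) (incl : ∀ i, Uf i ⟶ V)
    (hV : IsColimit (Cofan.mk V.left.left fun i => (incl i).left.left)) :
    Nonempty (EtCech.cechComplex Uf F.obj ≅
      EtCech.cechComplex (fun _ : PUnit.{u + 2} => V) F.obj) := by
  let K : FormalCoproduct.{u + 1} (Over U) := FormalCoproduct.mk ι Uf
  let L : FormalCoproduct.{u + 1} (Over U) := FormalCoproduct.mk PUnit.{u + 2} (fun _ => V)
  let Φ : K ⟶ L := ⟨fun _ => PUnit.unit, fun i => incl i⟩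
  let P : (Over U)ᵒᵖ ⥤ AddCommGrpCat.{u + 1} := (Over.forget U).op ⋙ F.obj
  haveI : IsIso (cechMap Φ P) := by
    apply isIso_cechMap
    intro n
    haveI : Finite (ToType n) := inferInstanceAs (Finite (Fin (n.len + 1)))
    have hcore := core F U Uf V incl hV (ToType n)
    let y₀ : ToType n → PUnit.{u + 2} := fun _ => PUnit.unit
    haveI hπ : IsIso (Pi.π (fun y : ToType n → PUnit.{u + 2} =>
        P.obj (op (∏ᶜ ((fun _ : PUnit.{u + 2} => V) ∘ y)))) y₀) :=
      isIso_pi_π_of_subsingleton _ _
    have heq : ((FormalCoproduct.evalOp.{u + 1} (Over U) AddCommGrpCat.{u + 1}).obj P).map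
        (FormalCoproduct.powerMap Φ (ToType n)).op =
        Pi.π (fun y : ToType n → PUnit.{u + 2} =>
          P.obj (op (∏ᶜ ((fun _ : PUnit.{u + 2} => V) ∘ y)))) y₀ ≫
        (Pi.lift (fun x : ToType n → ι => F.obj.map (mx U Uf V incl (ToType n) x).left.op) :
          F.obj.obj (op (∏ᶜ fun _ : ToType n => V).left) ⟶
          ∏ᶜ fun x : ToType n → ι => F.obj.obj (op (∏ᶜ fun a => Uf (x a)).left)) := by
      apply Pi.hom_ext
      intro x
      simp only [FormalCoproduct.evalOp_obj_map, Pi.lift_π, Category.assoc]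
      erw [Pi.lift_π]
      rfl
    rw [heq]
    haveI := hcore
    infer_instance
  exact ⟨(asIso (cechMap Φ P)).symm⟩

end Aux

/-- Let F be an abelian sheaf on the small etale site of a scheme X, U an etale X-scheme, {U_i ⟶ U} a
finite family of etale X-schemes over U, and V ⟶ U an etale X-scheme over U with U-morphisms U_i ⟶ V
making the underlying scheme of V the coproduct (disjoint union) of the U_i. Then the Čech complex
of F for the family {U_i ⟶ U} and the Čech complex of F for the single morphism {V ⟶ U} are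
isomorphic cochain complexes (existence of an isomorphism; fibre products over U in the small etale
site are carried as the finite-products binder of the Čech complex). (The published statement is for
a standard covering, whose members are affine; this row allows any finite family with V their
disjoint union, which the same argument covers.) -/
theorem result {X : Scheme.{u}} (F : EtCoh.Ab X) (U : X.Etale)
    [HasFiniteProducts (Over U)] {ι : Type (u + 1)} [Finite ι] (Uf : ι → Over U)
    (V : Over U) (incl : ∀ i, Uf i ⟶ V)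
    (hV : IsColimit (Cofan.mk V.left.left fun i => (incl i).left.left)) :
    Nonempty (EtCech.cechComplex Uf F.obj ≅ EtCech.cechComplex (fun _ : PUnit.{u + 2} => V) F.obj) := by
  exact Aux.main F U Uf V incl hV

end Groth.Agent.S6656
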