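import Groth.Statements.S6659
import Mathlib
import Groth.Agent.Lib.Helper5.Misc.DerAdj
import Groth.Agent.Lib.Helper5.Misc.DerAdjFF
import Groth.Agent.Lib.Helper5.Misc.EtClosedDense
import Groth.Agent.Lib.Helper5.Misc.JContGen
import Groth.Agent.Lib.Helper5.DMod.DCRestrict
import Groth.Agent.S0623
import Groth.Agent.S0654
import Groth.Agent.S0175

set_option autoImplicit false
universe u
open CategoryTheory CategoryTheory.Limits AlgebraicGeometry Opposite
attribute [local instance] HasDerivedCategory.standard
open EtDual

open Groth.Agent.Lib.Helper5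

namespace Groth.Agent.S6659

/-- Let i : Z → X be a closed immersion of schemes with open complement j : U → X. The direct image i_*
of abelian etale sheaves is exact (its right exactness is carried as an instance hypothesis), and
the induced functor D(Z_et) → D(X_et) is fully faithful; an object K of D(X_et) lies in its
essential image if and only if every cohomology sheaf of K has zero restriction to U, i.e. K has
cohomology sheaves supported on Z. (The identification of the quasi-inverse with the derived functor
of sections supported on Z is not part of this row.) -/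
theorem result {Z X U : Scheme.{u}} (i : Z ⟶ X)
    [IsClosedImmersion i] (j : U ⟶ X) [IsOpenImmersion j] (hZU : Set.range j = (Set.range i)ᶜ)
    [PreservesFiniteColimits (EtCoh.push i)] :
    ((EtCoh.push i).mapDerivedCategory.Full ∧ (EtCoh.push i).mapDerivedCategory.Faithful) ∧
      ∀ K : DCoh.DEt X,
        (EtCoh.push i).mapDerivedCategory.essImage K ↔
          ∀ n : ℤ, IsZero ((EtCoh.pull j).obj (DCoh.HDEt K n)) := by
  haveI : EtShriek.JCont j := Misc.JContGen.jCont j
  haveI : (EtCoh.push i).Full := EtClosedDense.full_pushA i AddCommGrpCat.{u + 1}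
  haveI : (EtCoh.push i).Faithful := EtClosedDense.faithful_pushA i AddCommGrpCat.{u + 1}
  haveI : PreservesFiniteLimits (EtCoh.pull i) := Groth.Agent.S0623.lexPull i
  haveI : PreservesFiniteColimits (EtCoh.pull i) := by
    haveI := (EtCoh.pullPushAdj i).leftAdjoint_preservesColimits
    exact PreservesColimitsOfSize.preservesFiniteColimits.{0, 0} (EtCoh.pull i)
  haveI : PreservesFiniteLimits (EtCoh.push i) := by
    haveI := (EtCoh.pullPushAdj i).rightAdjoint_preservesLimits
    exact PreservesLimitsOfSize.preservesFiniteLimits.{0, 0} (EtCoh.push i)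
  have hd : Disjoint (Set.range j.base) (Set.range i.base) := by
    rw [Set.disjoint_left]
    intro a ha hb
    have ha' : a ∈ Set.range j := ha
    rw [hZU] at ha'
    exact ha' hb
  refine ⟨⟨DerAdj.full_mapDerivedCategory (EtCoh.pullPushAdj i),
    DerAdj.faithful_mapDerivedCategory (EtCoh.pullPushAdj i)⟩, fun K => ⟨?_, ?_⟩⟩
  · rintro ⟨M, ⟨e⟩⟩ n
    have e1 : DCoh.HDEt K n ≅ (EtCoh.push i).obj ((DerivedCategory.homologyFunctor _ n).obj M) :=
      (DerivedCategory.homologyFunctor _ n).mapIso e.symm ≪≫
        Helper5.DMod.mapDerivedCategoryHomologyIso (EtCoh.push i) M n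
    have hz : IsZero ((EtCoh.pull j).obj ((EtCoh.push i).obj
        ((DerivedCategory.homologyFunctor _ n).obj M))) :=
      (Groth.Agent.S0654.isZero_restr_push i j hd _).of_iso
        ((Groth.Agent.S0623.pullIso j).app _)
    exact hz.of_iso ((EtCoh.pull j).mapIso e1)
  · intro h
    apply DerAdj.mem_essImage_of_isIso_unit (EtCoh.pullPushAdj i) K
    intro n
    exact Groth.Agent.S0175.isIso_unit_of_isZero_pull i j hZU _ (h n)

end Groth.Agent.S6659
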