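import Groth.Statements.S6660
import Mathlib
import Groth.Statements.S6660
import Groth.Agent.Lib.Helper5.RDerPaste.Concrete
import Groth.Agent.Lib.Helper9.FE.DeltaBcT
import Groth.Agent.Lib.Helper9.FE.Efface
import Groth.Agent.Lib.Helper9.FE.GabB
-- import your own Groth.Agent.* helpers here

set_option autoImplicit false
universe u
open CategoryTheory CategoryTheory.Limits AlgebraicGeometry Opposite
open EtBC

namespace Groth.Agent.S6660

open CategoryTheory CategoryTheory.Limits AlgebraicGeometry Opposite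
namespace Aux
open EtCoh Groth.Agent.Lib.Helper5.RDerPaste

attribute [local instance] H9FE.GabB.pullLex

section Killed

variable {X : Scheme.{u}}

theorem killedBy_of_nsmul {H : EtCoh.Ab X} (n : ℕ) (hn : n • 𝟙 H = 0) : EtCoh.KilledBy n H := by
  intro U s
  have := congrArg (fun f : H ⟶ H => f.hom.app (op U) s) hn
  exact this

theorem killedBy_cokernel {F G : EtCoh.Ab X} (ι : F ⟶ G) (n : ℕ) (hG : EtCoh.KilledBy n G) :
    EtCoh.KilledBy n (cokernel ι) := by
  apply killedBy_of_nsmul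
  rw [← cancel_epi (cokernel.π ι), Preadditive.comp_nsmul, Category.comp_id, comp_zero]
  have h1 : n • cokernel.π ι = (n • 𝟙 G) ≫ cokernel.π ι := by
    rw [Preadditive.nsmul_comp, Category.id_comp]
  rw [h1, H9FE.Efface.nsmul_id_of_killedBy n hG, zero_comp]

theorem killedBy_kernel_nsmul (I : EtCoh.Ab X) (n : ℕ) :
    EtCoh.KilledBy n (kernel (n • 𝟙 I)) := by
  apply killedBy_of_nsmul
  rw [← cancel_mono (kernel.ι (n • 𝟙 I)), Preadditive.nsmul_comp, Category.id_comp, zero_comp]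
  have h1 : n • kernel.ι (n • 𝟙 I) = kernel.ι (n • 𝟙 I) ≫ (n • 𝟙 I) := by
    rw [Preadditive.comp_nsmul, Category.comp_id]
  rw [h1, kernel.condition]

end Killed

theorem enoughInj (X : Scheme.{u}) : EnoughInjectives (EtCoh.Ab X) :=
  H9FE.DeltaBcT.enoughInjectives_of_hasInjectiveResolutions

attribute [local instance] enoughInj

/-- the `n`-torsion of an injective sheaf is acyclic for direct images -/
theorem isZero_Rpush_torsion {T S' : Scheme.{u}} (g : T ⟶ S') (I : EtCoh.Ab T) [Injective I]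
    (n : ℕ) (hn : 0 < n) (m : ℕ) :
    IsZero ((EtCoh.Rpush g (m + 1)).obj (kernel (n • 𝟙 I))) := by
  let D := Groth.Agent.Helper3.RDerL.derivedLES (EtCoh.push g)
  haveI := H9FE.Efface.epi_nsmul I n hn
  let S : ShortComplex (EtCoh.Ab T) :=
    ShortComplex.mk (kernel.ι (n • 𝟙 I)) (n • 𝟙 I) (kernel.condition _)
  have hS : S.ShortExact :=
    { exact := ShortComplex.exact_of_f_is_kernel _ (kernelIsKernel _)
      mono_f := inferInstanceAs (Mono (kernel.ι (n • 𝟙 I)))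
      epi_g := inferInstanceAs (Epi (n • 𝟙 I)) }
  have hzI : IsZero (((EtCoh.push g).rightDerived (m + 1)).obj I) :=
    Functor.isZero_rightDerived_obj_injective_succ (EtCoh.push g) m I
  haveI hδ : Epi (D.δ S hS m (m + 1) rfl) :=
    (D.exact₁ S hS m (m + 1) rfl).epi_f (hzI.eq_of_tgt _ _)
  rcases m with _ | k
  · -- degree one
    have hc := D.comp_δ S hS 0 1 rfl
    haveI : (EtCoh.push g).PreservesInjectiveObjects := EtBC.push_preservesInjectiveObjects g
    haveI : Injective ((EtCoh.push g).obj I) := (EtCoh.push g).injective_obj I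
    haveI : Injective (((EtCoh.push g).rightDerived 0).obj I) :=
      Injective.of_iso ((EtCoh.push g).rightDerivedZeroIsoSelf.app I).symm inferInstance
    haveI : Epi (((EtCoh.push g).rightDerived 0).map S.g) := by
      have : ((EtCoh.push g).rightDerived 0).map S.g =
          n • 𝟙 (((EtCoh.push g).rightDerived 0).obj I) := by
        show ((EtCoh.push g).rightDerived 0).map (n • 𝟙 I) = _
        rw [Functor.map_nsmul, CategoryTheory.Functor.map_id]
      rw [this]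
      exact H9FE.Efface.epi_nsmul _ n hn
    have h0 : D.δ S hS 0 1 rfl = 0 := by
      rw [← cancel_epi (((EtCoh.push g).rightDerived 0).map S.g), hc, comp_zero]
    exact IsZero.of_epi_eq_zero _ h0
  · have hz' : IsZero (((EtCoh.push g).rightDerived (k + 1)).obj I) :=
      Functor.isZero_rightDerived_obj_injective_succ (EtCoh.push g) k I
    exact IsZero.of_epi (D.δ S hS (k + 1) (k + 1 + 1) rfl) hz'

section Main

variable {X' S' T Y : Scheme.{u}} (f' : X' ⟶ S') (g : T ⟶ S') (h : Y ⟶ X') (e : Y ⟶ T)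
  (w : e ≫ g = h ≫ f') [PreservesFiniteLimits (EtCoh.pull e)]

lemma bcQ_eq_bcT (q : ℕ) (F : EtCoh.Ab T) :
    EtBC.bcQ g f' h e w q F =
      H9FE.DeltaBcT.bcT (push g) (push e) (push h) (push f') (pullPushAdj e)
        (pushComp g e ≪≫ pushCongr w ≪≫ (pushComp f' h).symm) (pullPushAdj f') q F := rfl

/-- part (1) -/
theorem part1 (n q₀ : ℕ)
    (hBC : ∀ G : EtCoh.Ab T, EtCoh.KilledBy n G → IsIso (EtBC.bcQ g f' h e w q₀ G))
    (F : EtCoh.Ab T) (hF : EtCoh.KilledBy n F) :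
    Mono (EtBC.bcQ g f' h e w (q₀ + 1) F) := by
  let D := Groth.Agent.Helper3.RDerL.derivedLES (EtCoh.push g)
  let D' := Groth.Agent.Helper3.RDerL.derivedLES (EtCoh.push h)
  -- an embedding into an acyclic sheaf killed by `n`
  obtain ⟨J, ν, hν, hJ, hz⟩ : ∃ (J : EtCoh.Ab T) (ν : F ⟶ J), Mono ν ∧ EtCoh.KilledBy n J ∧
      IsZero ((EtCoh.Rpush g (q₀ + 1)).obj J) := by
    rcases Nat.eq_zero_or_pos n with hn | hn
    · subst hn
      refine ⟨Injective.under F, Injective.ι F, inferInstance, fun U s => zero_nsmul _, ?_⟩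
      exact Functor.isZero_rightDerived_obj_injective_succ (EtCoh.push g) q₀ _
    · let I := Injective.under F
      have hNF : n • 𝟙 F = 0 := H9FE.Efface.nsmul_id_of_killedBy n hF
      have hι : Injective.ι F ≫ (n • 𝟙 I) = 0 := by
        rw [Preadditive.comp_nsmul, Category.comp_id]
        have h1 : n • Injective.ι F = (n • 𝟙 F) ≫ Injective.ι F := by
          rw [Preadditive.nsmul_comp, Category.id_comp]
        rw [h1, hNF, zero_comp]
      refine ⟨kernel (n • 𝟙 I), kernel.lift _ (Injective.ι F) hι, ?_, killedBy_kernel_nsmul I n,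
        isZero_Rpush_torsion g I n hn q₀⟩
      exact mono_of_mono_fac (kernel.lift_ι _ _ hι)
  haveI := hν
  let S : ShortComplex (EtCoh.Ab T) := ShortComplex.mk ν (cokernel.π ν) (cokernel.condition ν)
  have hS : S.ShortExact :=
    { exact := ShortComplex.exact_cokernel ν
      mono_f := hν
      epi_g := inferInstanceAs (Epi (cokernel.π ν)) }
  haveI h2 := hBC J hJ
  haveI h3 := hBC (cokernel ν) (killedBy_cokernel ν n hJ)
  rw [bcQ_eq_bcT] at h2 h3 ⊢
  exact H9FE.DeltaBcT.mono_bcT_succ (push g) (push e) (push h) (push f') (pullPushAdj e)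
    (pushComp g e ≪≫ pushCongr w ≪≫ (pushComp f' h).symm) (pullPushAdj f') D D' S hS q₀ (q₀ + 1)
    rfl hz inferInstance inferInstance

/-- part (2) -/
theorem part2 (n q₀ : ℕ)
    (hBC : ∀ G : EtCoh.Ab T, EtCoh.KilledBy n G → IsIso (EtBC.bcQ g f' h e w q₀ G))
    (F G : EtCoh.Ab T) (ι : F ⟶ G) [Mono ι] (hG : EtCoh.KilledBy n G) :
    ∃ φ : cokernel (EtBC.bcQ g f' h e w (q₀ + 1) F) ⟶ cokernel (EtBC.bcQ g f' h e w (q₀ + 1) G),
      Mono φ ∧ cokernel.π (EtBC.bcQ g f' h e w (q₀ + 1) F) ≫ φ =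
        (EtCoh.Rpush h (q₀ + 1)).map ((EtCoh.pull e).map ι) ≫
          cokernel.π (EtBC.bcQ g f' h e w (q₀ + 1) G) := by
  let D := Groth.Agent.Helper3.RDerL.derivedLES (EtCoh.push g)
  let D' := Groth.Agent.Helper3.RDerL.derivedLES (EtCoh.push h)
  let S : ShortComplex (EtCoh.Ab T) := ShortComplex.mk ι (cokernel.π ι) (cokernel.condition ι)
  have hS : S.ShortExact :=
    { exact := ShortComplex.exact_cokernel ι
      mono_f := inferInstanceAs (Mono ι)
      epi_g := inferInstanceAs (Epi (cokernel.π ι)) }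
  have hH : EtCoh.KilledBy n (cokernel ι) := killedBy_cokernel ι n hG
  haveI h1 := hBC (cokernel ι) hH
  haveI h2 := part1 f' g h e w n q₀ hBC (cokernel ι) hH
  have nat := H9FE.DeltaBcT.bcT_naturality (push g) (push e) (push h) (push f') (pullPushAdj e)
    (pushComp g e ≪≫ pushCongr w ≪≫ (pushComp f' h).symm) (pullPushAdj f') (q₀ + 1) ι
  have hdesc : EtBC.bcQ g f' h e w (q₀ + 1) F ≫
      (EtCoh.Rpush h (q₀ + 1)).map ((EtCoh.pull e).map ι) ≫
        cokernel.π (EtBC.bcQ g f' h e w (q₀ + 1) G) = 0 := by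
    rw [bcQ_eq_bcT, bcQ_eq_bcT]
    rw [← Category.assoc]
    erw [← nat]
    rw [Category.assoc, cokernel.condition, comp_zero]
  refine ⟨cokernel.desc _ _ hdesc, ?_, cokernel.π_desc _ _ _⟩
  rw [bcQ_eq_bcT] at h1 h2
  exact H9FE.DeltaBcT.coker_mono_bcT (push g) (push e) (push h) (push f') (pullPushAdj e)
    (pushComp g e ≪≫ pushCongr w ≪≫ (pushComp f' h).symm) (pullPushAdj f') D D' S hS q₀ (q₀ + 1)
    rfl inferInstance h2 (cokernel.desc _ _ hdesc) (cokernel.π_desc _ _ _)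

end Main

theorem main {X S : Scheme.{u}} (f : X ⟶ S) (n q : ℕ) (hq : 1 ≤ q)
    (hBC : (∀ ⦃S₁ X₁ T₁ Y₁ : Scheme.{u}⦄ (p₁ : S₁ ⟶ S) (f₁ : X₁ ⟶ S₁) (r₁ : X₁ ⟶ X),
        IsPullback r₁ f₁ f p₁ →
        ∀ (g₁ : T₁ ⟶ S₁) (h₁ : Y₁ ⟶ X₁) (e₁ : Y₁ ⟶ T₁) (c₁ : IsPullback e₁ h₁ g₁ f₁)
          [QuasiCompact g₁] [QuasiSeparated g₁] [PreservesFiniteLimits (EtCoh.pull e₁)]
          (G₁ : EtCoh.Ab T₁), EtCoh.KilledBy n G₁ →
          ∀ q₁ : ℕ, q₁ ≤ q - 1 → IsIso (EtBC.bcQ g₁ f₁ h₁ e₁ c₁.w q₁ G₁)))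
    {S' X' T Y : Scheme.{u}} (p : S' ⟶ S) (f' : X' ⟶ S') (r : X' ⟶ X) (hX : IsPullback r f' f p)
    (g : T ⟶ S') (h : Y ⟶ X') (e : Y ⟶ T) (c : IsPullback e h g f') [QuasiCompact g] [QuasiSeparated g]
    [PreservesFiniteLimits (EtCoh.pull e)] (F : EtCoh.Ab T) (hF : EtCoh.KilledBy n F) :
    Mono (EtBC.bcQ g f' h e c.w q F) ∧
      ∀ (G : EtCoh.Ab T) (ι : F ⟶ G) [Mono ι], EtCoh.KilledBy n G →
        ∃ φ : cokernel (EtBC.bcQ g f' h e c.w q F) ⟶ cokernel (EtBC.bcQ g f' h e c.w q G), Mono φ ∧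
          cokernel.π (EtBC.bcQ g f' h e c.w q F) ≫ φ =
            (EtCoh.Rpush h q).map ((EtCoh.pull e).map ι) ≫ cokernel.π (EtBC.bcQ g f' h e c.w q G) := by
  obtain ⟨q₀, rfl⟩ : ∃ q₀, q = q₀ + 1 := ⟨q - 1, by omega⟩
  have hBC' : ∀ G : EtCoh.Ab T, EtCoh.KilledBy n G → IsIso (EtBC.bcQ g f' h e c.w q₀ G) :=
    fun G hG => hBC p f' r hX g h e c G hG q₀ (by omega)
  refine ⟨part1 f' g h e c.w n q₀ hBC' F hF, ?_⟩
  intro G ι _ hG
  exact part2 f' g h e c.w n q₀ hBC' F G ι hG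

end Aux

/-- Let f : X → S be a morphism of schemes and n, q integers with q ≥ 1, and assume BC(f, n, q − 1).
Here BC(f, n, q − 1) means: for every base change f₁ : X₁ → S₁ of f along a morphism S₁ → S, every
cartesian square Y₁ = X₁ ×_{S₁} T₁ over a quasi-compact quasi-separated g₁ : T₁ → S₁ (with h₁ : Y₁ →
X₁, e₁ : Y₁ → T₁), and every abelian sheaf G on the small etale site of T₁ killed by n, the base
change map f₁⁻¹ R^a g₁,_* G → R^a h₁,_* e₁⁻¹ G is an isomorphism for all a ≤ q − 1. Then for every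
base change f' : X' → S' of f, every cartesian square Y = X' ×_{S'} T over a quasi-compact
quasi-separated g : T → S' (h : Y → X', e : Y → T) and every abelian sheaf F on the small etale site
of T killed by n: (1) the degree-q base change map f'⁻¹ R^q g_* F → R^q h_* e⁻¹ F is a monomorphism;
(2) for every monomorphism F → G with G killed by n, the map from the cokernel of the degree-q base
change map for F to the cokernel of the one for G induced by F → G is a monomorphism. -/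
theorem result {X S : Scheme.{u}} (f : X ⟶ S) (n q : ℕ) (hq : 1 ≤ q)
    (hBC : (∀ ⦃S₁ X₁ T₁ Y₁ : Scheme.{u}⦄ (p₁ : S₁ ⟶ S) (f₁ : X₁ ⟶ S₁) (r₁ : X₁ ⟶ X),
        IsPullback r₁ f₁ f p₁ →
        ∀ (g₁ : T₁ ⟶ S₁) (h₁ : Y₁ ⟶ X₁) (e₁ : Y₁ ⟶ T₁) (c₁ : IsPullback e₁ h₁ g₁ f₁)
          [QuasiCompact g₁] [QuasiSeparated g₁] [PreservesFiniteLimits (EtCoh.pull e₁)]
          (G₁ : EtCoh.Ab T₁), EtCoh.KilledBy n G₁ →
          ∀ q₁ : ℕ, q₁ ≤ q - 1 → IsIso (EtBC.bcQ g₁ f₁ h₁ e₁ c₁.w q₁ G₁)))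
    {S' X' T Y : Scheme.{u}} (p : S' ⟶ S) (f' : X' ⟶ S') (r : X' ⟶ X) (hX : IsPullback r f' f p)
    (g : T ⟶ S') (h : Y ⟶ X') (e : Y ⟶ T) (c : IsPullback e h g f') [QuasiCompact g] [QuasiSeparated g]
    [PreservesFiniteLimits (EtCoh.pull e)] (F : EtCoh.Ab T) (hF : EtCoh.KilledBy n F) :
    Mono (EtBC.bcQ g f' h e c.w q F) ∧
      ∀ (G : EtCoh.Ab T) (ι : F ⟶ G) [Mono ι], EtCoh.KilledBy n G →
        ∃ φ : cokernel (EtBC.bcQ g f' h e c.w q F) ⟶ cokernel (EtBC.bcQ g f' h e c.w q G), Mono φ ∧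
          cokernel.π (EtBC.bcQ g f' h e c.w q F) ≫ φ =
            (EtCoh.Rpush h q).map ((EtCoh.pull e).map ι) ≫ cokernel.π (EtBC.bcQ g f' h e c.w q G) := by
  exact Aux.main f n q hq hBC p f' r hX g h e c F hF

end Groth.Agent.S6660
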