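import Groth.Statements.S6661
import Mathlib
import Groth.Statements.S6661
import Groth.Agent.S6660
import Groth.Agent.S0655
import Groth.Agent.S0630
import Groth.Agent.Lib.Helper9.FE.BcQSPaste
import Groth.Agent.Lib.Helper9.FE.BcQSConcrete
import Groth.Agent.Lib.Helper9.FE.SurjUnit
-- import your own Groth.Agent.* helpers here

set_option autoImplicit false
universe u
open CategoryTheory CategoryTheory.Limits AlgebraicGeometry Opposite
open EtBC

namespace Groth.Agent.S6661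

open CategoryTheory CategoryTheory.Limits AlgebraicGeometry Opposite
namespace Aux
open EtCoh Groth.Agent.Lib.Helper5.RDerPaste

attribute [local instance] H9FE.GabB.pullLex

theorem killedBy_push_pull {T' T : Scheme.{u}} (π : T' ⟶ T) (n : ℕ) (F : EtCoh.Ab T)
    (hF : EtCoh.KilledBy n F) :
    EtCoh.KilledBy n ((EtCoh.push π).obj ((EtCoh.pull π).obj F)) := by
  apply Groth.Agent.S6660.Aux.killedBy_of_nsmul
  have h : n • 𝟙 F = 0 := H9FE.Efface.nsmul_id_of_killedBy n hF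
  have h2 : (EtCoh.push π).map ((EtCoh.pull π).map (n • 𝟙 F)) =
      n • 𝟙 ((EtCoh.push π).obj ((EtCoh.pull π).obj F)) := by
    rw [Functor.map_nsmul, Functor.map_nsmul, CategoryTheory.Functor.map_id,
      CategoryTheory.Functor.map_id]
  rw [← h2, h, Functor.map_zero, Functor.map_zero]

/-- the base change map for `π_* G` is an isomorphism as soon as the one of the composite square
is an isomorphism at `G` -/
theorem isIso_bcQ_push {X' S' T Y T' Y' : Scheme.{u}} (f' : X' ⟶ S') (g : T ⟶ S') (h : Y ⟶ X')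
    (e : Y ⟶ T) (w : e ≫ g = h ≫ f') (π : T' ⟶ T) [IsIntegralHom π] (π' : Y' ⟶ Y) (e' : Y' ⟶ T')
    (c' : IsPullback e' π' π e) (w'' : e' ≫ (π ≫ g) = (π' ≫ h) ≫ f')
    [PreservesFiniteLimits (EtCoh.pull e)] [PreservesFiniteLimits (EtCoh.pull e')]
    (q : ℕ) (G : EtCoh.Ab T')
    (hiso : IsIso (EtBC.bcQ (π ≫ g) f' (π' ≫ h) e' w'' q G)) :
    IsIso (EtBC.bcQ g f' h e w q ((EtCoh.push π).obj G)) := by
  haveI : IsIntegralHom π' := MorphismProperty.of_isPullback c' inferInstance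
  haveI := Groth.Agent.S0630.Aux.main π
  haveI := Groth.Agent.S0630.Aux.main π'
  haveI : (EtCoh.push π).PreservesInjectiveObjects := EtBC.push_preservesInjectiveObjects π
  haveI : (EtCoh.push π').PreservesInjectiveObjects := EtBC.push_preservesInjectiveObjects π'
  haveI : (EtCoh.push π).PreservesHomology := inferInstance
  haveI : (EtCoh.push π').PreservesHomology := inferInstance
  haveI hb : IsIso (H9FE.BcQSPaste.bS (push e) (pullPushAdj e) (push π) (push π') (push e')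
      (pullPushAdj e') (pushComp π e' ≪≫ pushCongr c'.w ≪≫ (pushComp e π').symm) G) :=
    Groth.Agent.S0655.result π e π' e' c' G
  exact H9FE.BcQSPaste.isIso_transpose_inner (push g) (push e) (push h) (push f') (pullPushAdj e)
    (pushComp g e ≪≫ pushCongr w ≪≫ (pushComp f' h).symm) (push π) (push π')
    (push (π ≫ g)) (push (π' ≫ h)) (push e') (pullPushAdj e')
    (pushComp (π ≫ g) e' ≪≫ pushCongr w'' ≪≫ (pushComp f' (π' ≫ h)).symm)
    (pushComp π e' ≪≫ pushCongr c'.w ≪≫ (pushComp e π').symm) (pushComp g π) (pushComp h π')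
    (pullPushAdj f')
    (fun M => H9FE.BcQSConcrete.c2s f' g h e w π π' e' c'.w w'' M) q G hiso

theorem main {X S : Scheme.{u}} (f : X ⟶ S) (n q : ℕ) (hq : 1 ≤ q)
    (hBC : (∀ ⦃S₁ X₁ T₁ Y₁ : Scheme.{u}⦄ (p₁ : S₁ ⟶ S) (f₁ : X₁ ⟶ S₁) (r₁ : X₁ ⟶ X),
        IsPullback r₁ f₁ f p₁ →
        ∀ (g₁ : T₁ ⟶ S₁) (h₁ : Y₁ ⟶ X₁) (e₁ : Y₁ ⟶ T₁) (c₁ : IsPullback e₁ h₁ g₁ f₁)
          [QuasiCompact g₁] [QuasiSeparated g₁] [PreservesFiniteLimits (EtCoh.pull e₁)]
          (G₁ : EtCoh.Ab T₁), EtCoh.KilledBy n G₁ →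
          ∀ q₁ : ℕ, q₁ ≤ q - 1 → IsIso (EtBC.bcQ g₁ f₁ h₁ e₁ c₁.w q₁ G₁)))
    {S' X' T Y T' Y' : Scheme.{u}} (p : S' ⟶ S) (f' : X' ⟶ S') (r : X' ⟶ X) (hX : IsPullback r f' f p)
    (g : T ⟶ S') (h : Y ⟶ X') (e : Y ⟶ T) (c : IsPullback e h g f') [QuasiCompact g] [QuasiSeparated g]
    (π : T' ⟶ T) [IsIntegralHom π] [Surjective π] (π' : Y' ⟶ Y) (e' : Y' ⟶ T') (c' : IsPullback e' π' π e)
    (c'' : IsPullback e' (π' ≫ h) (π ≫ g) f')
    [PreservesFiniteLimits (EtCoh.pull e)] [PreservesFiniteLimits (EtCoh.pull e')]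
    (F : EtCoh.Ab T) (hF : EtCoh.KilledBy n F)
    (hiso : IsIso (EtBC.bcQ (π ≫ g) f' (π' ≫ h) e' c''.w q ((EtCoh.pull π).obj F))) :
    IsIso (EtBC.bcQ g f' h e c.w q F) := by
  obtain ⟨q₀, rfl⟩ : ∃ q₀, q = q₀ + 1 := ⟨q - 1, by omega⟩
  have hBC' : ∀ G : EtCoh.Ab T, EtCoh.KilledBy n G → IsIso (EtBC.bcQ g f' h e c.w q₀ G) :=
    fun G hG => hBC p f' r hX g h e c G hG q₀ (by omega)
  haveI hm := Groth.Agent.S6660.Aux.part1 f' g h e c.w n q₀ hBC' F hF
  haveI := H9FE.SurjUnit.mono_unit_of_surjective π F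
  have hF' := killedBy_push_pull π n F hF
  obtain ⟨φ, hφ, hφ'⟩ := Groth.Agent.S6660.Aux.part2 f' g h e c.w n q₀ hBC' F
    ((EtCoh.push π).obj ((EtCoh.pull π).obj F)) ((EtCoh.pullPushAdj π).unit.app F) hF'
  haveI hi := isIso_bcQ_push f' g h e c.w π π' e' c' c''.w (q₀ + 1) ((EtCoh.pull π).obj F) hiso
  have hz : IsZero (cokernel (EtBC.bcQ g f' h e c.w (q₀ + 1)
      ((EtCoh.push π).obj ((EtCoh.pull π).obj F)))) := isZero_cokernel_of_epi _
  haveI := hφ
  have hz' : IsZero (cokernel (EtBC.bcQ g f' h e c.w (q₀ + 1) F)) := IsZero.of_mono φ hz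
  haveI : Epi (EtBC.bcQ g f' h e c.w (q₀ + 1) F) := Preadditive.epi_of_isZero_cokernel _ hz'
  exact isIso_of_mono_of_epi _

end Aux

/-- Let f : X → S be a morphism of schemes, n and q ≥ 1 integers, and assume BC(f, n, q − 1). Here BC(f,
n, q − 1) means: for every base change f₁ : X₁ → S₁ of f along a morphism S₁ → S, every cartesian
square Y₁ = X₁ ×_{S₁} T₁ over a quasi-compact quasi-separated g₁ : T₁ → S₁ (with h₁ : Y₁ → X₁, e₁ :
Y₁ → T₁), and every abelian sheaf G on the small etale site of T₁ killed by n, the base change map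
f₁⁻¹ R^a g₁,_* G → R^a h₁,_* e₁⁻¹ G is an isomorphism for all a ≤ q − 1. Let f' : X' → S' be a base
change of f, Y = X' ×_{S'} T a cartesian square over a quasi-compact quasi-separated g : T → S' (h :
Y → X', e : Y → T), π : T' → T integral and surjective, Y' = Y ×_T T' (π' : Y' → Y, e' : Y' → T'),
so that the composite square Y' → X' over T' → S' is cartesian too, and F an abelian sheaf on the
small etale site of T killed by n. If the degree-q base change map for the composite square and the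
sheaf π⁻¹ F is an isomorphism, then the degree-q base change map f'⁻¹ R^q g_* F → R^q h_* e⁻¹ F is
an isomorphism. -/
theorem result {X S : Scheme.{u}} (f : X ⟶ S) (n q : ℕ) (hq : 1 ≤ q)
    (hBC : (∀ ⦃S₁ X₁ T₁ Y₁ : Scheme.{u}⦄ (p₁ : S₁ ⟶ S) (f₁ : X₁ ⟶ S₁) (r₁ : X₁ ⟶ X),
        IsPullback r₁ f₁ f p₁ →
        ∀ (g₁ : T₁ ⟶ S₁) (h₁ : Y₁ ⟶ X₁) (e₁ : Y₁ ⟶ T₁) (c₁ : IsPullback e₁ h₁ g₁ f₁)
          [QuasiCompact g₁] [QuasiSeparated g₁] [PreservesFiniteLimits (EtCoh.pull e₁)]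
          (G₁ : EtCoh.Ab T₁), EtCoh.KilledBy n G₁ →
          ∀ q₁ : ℕ, q₁ ≤ q - 1 → IsIso (EtBC.bcQ g₁ f₁ h₁ e₁ c₁.w q₁ G₁)))
    {S' X' T Y T' Y' : Scheme.{u}} (p : S' ⟶ S) (f' : X' ⟶ S') (r : X' ⟶ X) (hX : IsPullback r f' f p)
    (g : T ⟶ S') (h : Y ⟶ X') (e : Y ⟶ T) (c : IsPullback e h g f') [QuasiCompact g] [QuasiSeparated g]
    (π : T' ⟶ T) [IsIntegralHom π] [Surjective π] (π' : Y' ⟶ Y) (e' : Y' ⟶ T') (c' : IsPullback e' π' π e)
    (c'' : IsPullback e' (π' ≫ h) (π ≫ g) f')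
    [PreservesFiniteLimits (EtCoh.pull e)] [PreservesFiniteLimits (EtCoh.pull e')]
    (F : EtCoh.Ab T) (hF : EtCoh.KilledBy n F)
    (hiso : IsIso (EtBC.bcQ (π ≫ g) f' (π' ≫ h) e' c''.w q ((EtCoh.pull π).obj F))) :
    IsIso (EtBC.bcQ g f' h e c.w q F) := by
  exact Aux.main f n q hq hBC p f' r hX g h e c π π' e' c' c'' F hF hiso

end Groth.Agent.S6661
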