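import Groth.Statements.S6662
import Mathlib
import Groth.Statements.S6662
import Groth.Agent.S0630
import Groth.Agent.S0655
import Groth.Agent.Lib.Helper5.RDerPaste.Concrete
import Groth.Agent.Lib.Helper9.FE.BcQHPaste
import Groth.Agent.Lib.Helper9.FE.BcQHConcrete
import Groth.Agent.Lib.Helper9.FE.IntConserv
-- import your own Groth.Agent.* helpers here

set_option autoImplicit false
universe u
open CategoryTheory CategoryTheory.Limits AlgebraicGeometry Opposite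
open EtBC

namespace Groth.Agent.S6662

open CategoryTheory CategoryTheory.Limits AlgebraicGeometry Opposite
namespace Aux
open EtCoh Groth.Agent.Lib.Helper5.RDerPaste H9FE.BcQHPaste

attribute [local instance] Groth.Agent.Lib.Helper5.Misc.JContGen.jCont

theorem core {S' X' S'' X'' T Y : Scheme.{u}} (f' : X' ⟶ S')
    (π : S'' ⟶ S') [IsIntegralHom π] (f'' : X'' ⟶ S'') (π' : X'' ⟶ X') (hX'' : IsPullback π' f'' f' π)
    (g' : T ⟶ S'') (h' : Y ⟶ X'') (e : Y ⟶ T)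
    (w : e ≫ g' = h' ≫ f'') (w' : e ≫ (g' ≫ π) = (h' ≫ π') ≫ f')
    [PreservesFiniteLimits (EtCoh.pull e)] (q : ℕ) (F : EtCoh.Ab T)
    (hiso : IsIso (EtBC.bcQ (g' ≫ π) f' (h' ≫ π') e w' q F)) :
    IsIso (EtBC.bcQ g' f'' h' e w q F) := by
  have wπ : f'' ≫ π = π' ≫ f' := hX''.w.symm
  haveI : IsIntegralHom π' := MorphismProperty.of_isPullback (P := @IsIntegralHom) hX''.flip inferInstance
  haveI := Groth.Agent.S0630.Aux.main π
  haveI := Groth.Agent.S0630.Aux.main π'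
  haveI := H9FE.IntConserv.reflectsIsomorphisms_push π'
  let α₂ : push e ⋙ push g' ≅ push h' ⋙ push f'' :=
    pushComp g' e ≪≫ pushCongr w ≪≫ (pushComp f'' h').symm
  let α₁ : push e ⋙ push (g' ≫ π) ≅ push (h' ≫ π') ⋙ push f' :=
    pushComp (g' ≫ π) e ≪≫ pushCongr w' ≪≫ (pushComp f' (h' ≫ π')).symm
  let σ : push f'' ⋙ push π ≅ push π' ⋙ push f' :=
    pushComp π f'' ≪≫ pushCongr wπ ≪≫ (pushComp f' π').symm
  have hp := bcAdj_hpaste (push g') (push π) (push (g' ≫ π)) (push e) (push h') (push π')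
    (push (h' ≫ π')) (push f'') (push f') (pullPushAdj e) α₂ α₁ σ (pushComp π g') (pushComp π' h')
    (fun M => H9FE.BcQHConcrete.c2h f' π f'' π' wπ g' h' e w w' M) q F
  haveI := isIso_cmp (push g') (push π) (push (g' ≫ π)) (pushComp π g') q F
  haveI := isIso_cmp (push h') (push π') (push (h' ≫ π')) (pushComp π' h') q ((pull e).obj F)
  have h0 : IsIso (bc0 (pullPushAdj f'') (pullPushAdj f') σ (((push g').rightDerived q).obj F)) :=
    Groth.Agent.S0655.result π f' π' f'' hX''.flip (((push g').rightDerived q).obj F)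
  exact isIso_inner_of_outer (pullPushAdj f'') (pullPushAdj f') σ
    (EtBC.bcQAdj (g' ≫ π) f' (h' ≫ π') e w' q F) (EtBC.bcQAdj g' f'' h' e w q F)
    (cmp (push g') (push π) (push (g' ≫ π)) (pushComp π g') q F)
    (cmp (push h') (push π') (push (h' ≫ π')) (pushComp π' h') q ((pull e).obj F))
    hp hiso h0

theorem main {X S : Scheme.{u}} (f : X ⟶ S) (n q : ℕ) (hq : 1 ≤ q)
    (hBC : (∀ ⦃S₁ X₁ T₁ Y₁ : Scheme.{u}⦄ (p₁ : S₁ ⟶ S) (f₁ : X₁ ⟶ S₁) (r₁ : X₁ ⟶ X),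
        IsPullback r₁ f₁ f p₁ →
        ∀ (g₁ : T₁ ⟶ S₁) (h₁ : Y₁ ⟶ X₁) (e₁ : Y₁ ⟶ T₁) (c₁ : IsPullback e₁ h₁ g₁ f₁)
          [QuasiCompact g₁] [QuasiSeparated g₁] [PreservesFiniteLimits (EtCoh.pull e₁)]
          (G₁ : EtCoh.Ab T₁), EtCoh.KilledBy n G₁ →
          ∀ q₁ : ℕ, q₁ ≤ q - 1 → IsIso (EtBC.bcQ g₁ f₁ h₁ e₁ c₁.w q₁ G₁)))
    {S' X' S'' X'' T Y : Scheme.{u}} (p : S' ⟶ S) (f' : X' ⟶ S') (r : X' ⟶ X) (hX : IsPullback r f' f p)
    (π : S'' ⟶ S') [IsIntegralHom π] (f'' : X'' ⟶ S'') (π' : X'' ⟶ X') (hX'' : IsPullback π' f'' f' π)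
    (g' : T ⟶ S'') [QuasiCompact g'] [QuasiSeparated g'] (h' : Y ⟶ X'') (e : Y ⟶ T)
    (c : IsPullback e h' g' f'') (c' : IsPullback e (h' ≫ π') (g' ≫ π) f')
    [PreservesFiniteLimits (EtCoh.pull e)] (F : EtCoh.Ab T) (hF : EtCoh.KilledBy n F)
    (hiso : IsIso (EtBC.bcQ (g' ≫ π) f' (h' ≫ π') e c'.w q F)) :
    IsIso (EtBC.bcQ g' f'' h' e c.w q F) :=
  core f' π f'' π' hX'' g' h' e c.w c'.w q F hiso

end Aux

/-- Let f : X → S be a morphism of schemes, n and q ≥ 1 integers, and assume BC(f, n, q − 1). Here BC(f,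
n, q − 1) means: for every base change f₁ : X₁ → S₁ of f along a morphism S₁ → S, every cartesian
square Y₁ = X₁ ×_{S₁} T₁ over a quasi-compact quasi-separated g₁ : T₁ → S₁ (with h₁ : Y₁ → X₁, e₁ :
Y₁ → T₁), and every abelian sheaf G on the small etale site of T₁ killed by n, the base change map
f₁⁻¹ R^a g₁,_* G → R^a h₁,_* e₁⁻¹ G is an isomorphism for all a ≤ q − 1. Let f' : X' → S' be a base
change of f, π : S'' → S' an integral morphism with base change f'' : X'' = X' ×_{S'} S'' → S'' (π'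
: X'' → X'), g' : T → S'' quasi-compact and quasi-separated, Y = X'' ×_{S''} T (h' : Y → X'', e : Y
→ T), so that the outer square Y → X' over T → S' (with maps h' ≫ π' and g' ≫ π) is cartesian too,
and F an abelian sheaf on the small etale site of T killed by n. If the degree-q base change map for
the outer square is an isomorphism, then the degree-q base change map f''⁻¹ R^q g'_* F → R^q h'_*
e⁻¹ F is an isomorphism. -/
theorem result {X S : Scheme.{u}} (f : X ⟶ S) (n q : ℕ) (hq : 1 ≤ q)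
    (hBC : (∀ ⦃S₁ X₁ T₁ Y₁ : Scheme.{u}⦄ (p₁ : S₁ ⟶ S) (f₁ : X₁ ⟶ S₁) (r₁ : X₁ ⟶ X),
        IsPullback r₁ f₁ f p₁ →
        ∀ (g₁ : T₁ ⟶ S₁) (h₁ : Y₁ ⟶ X₁) (e₁ : Y₁ ⟶ T₁) (c₁ : IsPullback e₁ h₁ g₁ f₁)
          [QuasiCompact g₁] [QuasiSeparated g₁] [PreservesFiniteLimits (EtCoh.pull e₁)]
          (G₁ : EtCoh.Ab T₁), EtCoh.KilledBy n G₁ →
          ∀ q₁ : ℕ, q₁ ≤ q - 1 → IsIso (EtBC.bcQ g₁ f₁ h₁ e₁ c₁.w q₁ G₁)))
    {S' X' S'' X'' T Y : Scheme.{u}} (p : S' ⟶ S) (f' : X' ⟶ S') (r : X' ⟶ X) (hX : IsPullback r f' f p)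
    (π : S'' ⟶ S') [IsIntegralHom π] (f'' : X'' ⟶ S'') (π' : X'' ⟶ X') (hX'' : IsPullback π' f'' f' π)
    (g' : T ⟶ S'') [QuasiCompact g'] [QuasiSeparated g'] (h' : Y ⟶ X'') (e : Y ⟶ T)
    (c : IsPullback e h' g' f'') (c' : IsPullback e (h' ≫ π') (g' ≫ π) f')
    [PreservesFiniteLimits (EtCoh.pull e)] (F : EtCoh.Ab T) (hF : EtCoh.KilledBy n F)
    (hiso : IsIso (EtBC.bcQ (g' ≫ π) f' (h' ≫ π') e c'.w q F)) :
    IsIso (EtBC.bcQ g' f'' h' e c.w q F) := by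
  exact Aux.main f n q hq hBC p f' r hX π f'' π' hX'' g' h' e c c' F hF hiso

end Groth.Agent.S6662
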