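import Groth.Statements.S6668
import Mathlib
import Groth.Statements.S6668
import Groth.Agent.Lib.Helper9.FE.BcQEt
-- import your own Groth.Agent.* helpers here

set_option autoImplicit false
universe u
open CategoryTheory CategoryTheory.Limits AlgebraicGeometry Opposite
open EtBC

namespace Groth.Agent.S6668

open CategoryTheory CategoryTheory.Limits AlgebraicGeometry Opposite
open EtBC
namespace Aux
set_option linter.style.haveILetI false
set_option linter.unusedSectionVars false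
set_option backward.isDefEq.respectTransparency false

attribute [local instance] Groth.Agent.S0623.lexPull

theorem main {X S Y T : Scheme.{u}} (f : X ⟶ S) (g : T ⟶ S) (h : Y ⟶ X) (e : Y ⟶ T)
    (c : IsPullback e h g f) [PreservesFiniteLimits (EtCoh.pull e)] (F : EtCoh.Ab T) (q : ℕ)
    {ι : Type u} (U : ι → X.Etale) (hU : EtCoh.Covers U) (V : ι → S.Etale)
    (a : ∀ i, (U i).left ⟶ (V i).left) (ha : ∀ i, a i ≫ (V i).hom = (U i).hom ≫ f)
    (Ti Yi : ι → Scheme.{u}) (gi : ∀ i, Ti i ⟶ (V i).left) (ti : ∀ i, Ti i ⟶ T)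
    (cT : ∀ i, IsPullback (ti i) (gi i) g (V i).hom)
    (hi : ∀ i, Yi i ⟶ (U i).left) (ei : ∀ i, Yi i ⟶ Ti i) (cY : ∀ i, IsPullback (ei i) (hi i) (gi i) (a i))
    [∀ i, PreservesFiniteLimits (EtCoh.pull (ei i))]
    (hloc : ∀ i, IsIso (EtBC.bcQ (gi i) (a i) (hi i) (ei i) (cY i).w q ((EtCoh.pull (ti i)).obj F))) :
    IsIso (EtBC.bcQ g f h e c.w q F) := by
  apply H9FE.BcQEt.isIso_of_cover U hU
  intro i
  -- the outer rectangle
  have hout : IsPullback (ei i ≫ ti i) (hi i) g (a i ≫ (V i).hom) :=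
    (cY i).paste_horiz (cT i)
  have hw : (ei i ≫ ti i) ≫ g = (hi i ≫ (U i).hom) ≫ f := by
    rw [hout.w, Category.assoc, ha i]
  let k : Yi i ⟶ Y := c.lift (ei i ≫ ti i) (hi i ≫ (U i).hom) hw
  have hke : k ≫ e = ei i ≫ ti i := c.lift_fst _ _ _
  have hkh : k ≫ h = hi i ≫ (U i).hom := c.lift_snd _ _ _
  have hout' : IsPullback (k ≫ e) (hi i) g ((U i).hom ≫ f) := by
    rw [hke, ← ha i]
    exact hout
  have hleft : IsPullback k (hi i) h (U i).hom := IsPullback.of_right hout' hkh c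
  haveI : Etale (ti i) :=
    MorphismProperty.of_isPullback (P := @Etale) (cT i).flip inferInstance
  haveI : Etale k :=
    MorphismProperty.of_isPullback (P := @Etale) hleft.flip inferInstance
  -- decomposition through `V i`
  have h1 : IsIso (EtBC.bcQ g (V i).hom (gi i) (ti i) (cT i).w q F) :=
    H9FE.BcQEt.bcQ_isIso_of_etale g (V i).hom (gi i) (ti i) (cT i) q F
  have h12 : IsIso (EtBC.bcQ g (a i ≫ (V i).hom) (hi i) (ei i ≫ ti i) hout.w q F) :=
    Groth.Agent.Lib.Helper5.RDerPaste.bcQ_isIso_vcomp (V i).hom g (gi i) (ti i) (cT i).w (a i)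
      (hi i) (ei i) (cY i).w hout.w F q h1 (hloc i)
  have h3 : IsIso (EtBC.bcQ g ((U i).hom ≫ f) (hi i) (k ≫ e) hout'.w q F) :=
    H9FE.BcQEt.bcQ_isIso_congr g _ _ (hi i) _ _ (ha i) hke.symm hout.w hout'.w q F h12
  have h2 : IsIso (EtBC.bcQ h (U i).hom (hi i) k hleft.w q ((EtCoh.pull e).obj F)) :=
    H9FE.BcQEt.bcQ_isIso_of_etale h (U i).hom (hi i) k hleft q ((EtCoh.pull e).obj F)
  exact H9FE.BcQEt.bcQ_vcomp_cancel f g h e c.w (U i).hom (hi i) k hleft.w hout'.w F q h3 h2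

end Aux

/-- Let Y = X ×_S T be a cartesian square of schemes with f : X → S, g : T → S, h : Y → X, e : Y → T,
let F be an abelian sheaf on the small etale site of T and q ≥ 0. Let (U_i → X) be a jointly
surjective family of etale X-schemes such that every U_i → S factors as a_i : U_i → V_i followed by
an etale V_i → S, and let T_i = V_i ×_S T (projections g_i : T_i → V_i, t_i : T_i → T) and Y_i = U_i
×_{V_i} T_i (projections h_i : Y_i → U_i, e_i : Y_i → T_i). If for every i the degree-q base change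
map a_i⁻¹ R^q g_i,_* (t_i⁻¹ F) → R^q h_i,_* e_i⁻¹ (t_i⁻¹ F) is an isomorphism, then the degree-q
base change map f⁻¹ R^q g_* F → R^q h_* e⁻¹ F is an isomorphism. -/
theorem result {X S Y T : Scheme.{u}} (f : X ⟶ S) (g : T ⟶ S) (h : Y ⟶ X) (e : Y ⟶ T)
    (c : IsPullback e h g f) [PreservesFiniteLimits (EtCoh.pull e)] (F : EtCoh.Ab T) (q : ℕ)
    {ι : Type u} (U : ι → X.Etale) (hU : EtCoh.Covers U) (V : ι → S.Etale)
    (a : ∀ i, (U i).left ⟶ (V i).left) (ha : ∀ i, a i ≫ (V i).hom = (U i).hom ≫ f)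
    (Ti Yi : ι → Scheme.{u}) (gi : ∀ i, Ti i ⟶ (V i).left) (ti : ∀ i, Ti i ⟶ T)
    (cT : ∀ i, IsPullback (ti i) (gi i) g (V i).hom)
    (hi : ∀ i, Yi i ⟶ (U i).left) (ei : ∀ i, Yi i ⟶ Ti i) (cY : ∀ i, IsPullback (ei i) (hi i) (gi i) (a i))
    [∀ i, PreservesFiniteLimits (EtCoh.pull (ei i))]
    (hloc : ∀ i, IsIso (EtBC.bcQ (gi i) (a i) (hi i) (ei i) (cY i).w q ((EtCoh.pull (ti i)).obj F))) :
    IsIso (EtBC.bcQ g f h e c.w q F) := by
  exact Aux.main f g h e c F q U hU V a ha Ti Yi gi ti cT hi ei cY hloc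

end Groth.Agent.S6668
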