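import Groth.Statements.S6691
import Mathlib
import Groth.Statements.S6691
import Groth.Agent.Lib.Helper9.FE.ShBC0Et
import Groth.Agent.Lib.Helper9.FE.ShBCPaste
import Groth.Agent.Lib.Helper9.FE.ShIsoLocal
-- import your own Groth.Agent.* helpers here

set_option autoImplicit false
universe u
open CategoryTheory CategoryTheory.Limits AlgebraicGeometry Opposite
open EtBC

namespace Groth.Agent.S6691

open CategoryTheory CategoryTheory.Limits AlgebraicGeometry Opposite
open EtBC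
namespace Aux
set_option linter.style.haveILetI false
set_option linter.unusedSectionVars false
set_option backward.isDefEq.respectTransparency false

theorem main {X S Y T : Scheme.{u}} (f : X ⟶ S) (g : T ⟶ S) (h : Y ⟶ X) (e : Y ⟶ T)
    (c : IsPullback e h g f) (F : EtDesc.Sh T)
    {ι : Type u} (U : ι → X.Etale) (hU : EtCoh.Covers U) (V : ι → S.Etale)
    (a : ∀ i, (U i).left ⟶ (V i).left) (ha : ∀ i, a i ≫ (V i).hom = (U i).hom ≫ f)
    (Ti Yi : ι → Scheme.{u}) (gi : ∀ i, Ti i ⟶ (V i).left) (ti : ∀ i, Ti i ⟶ T)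
    (cT : ∀ i, IsPullback (ti i) (gi i) g (V i).hom)
    (hi : ∀ i, Yi i ⟶ (U i).left) (ei : ∀ i, Yi i ⟶ Ti i) (cY : ∀ i, IsPullback (ei i) (hi i) (gi i) (a i))
    (hloc : ∀ i, IsIso (EtBC.baseChange0Sh (gi i) (a i) (hi i) (ei i) (cY i).w ((EtDesc.pullSh (ti i)).obj F))) :
    IsIso (EtBC.baseChange0Sh g f h e c.w F) := by
  apply H9FE.ShIsoLocal.isIso_of_cover_sh U hU
  intro i
  have hout : IsPullback (ei i ≫ ti i) (hi i) g (a i ≫ (V i).hom) :=
    (cY i).paste_horiz (cT i)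
  have hw : (ei i ≫ ti i) ≫ g = (hi i ≫ (U i).hom) ≫ f := by
    rw [hout.w, Category.assoc, ha i]
  let k : Yi i ⟶ Y := c.lift (ei i ≫ ti i) (hi i ≫ (U i).hom) hw
  have hke : k ≫ e = ei i ≫ ti i := c.lift_fst _ _ _
  have hkh : k ≫ h = hi i ≫ (U i).hom := c.lift_snd _ _ _
  have hout' : IsPullback (k ≫ e) (hi i) g ((U i).hom ≫ f) := by
    rw [hke, ← ha i]
    exact hout
  have hleft : IsPullback k (hi i) h (U i).hom := IsPullback.of_right hout' hkh c
  haveI : Etale (ti i) :=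
    MorphismProperty.of_isPullback (P := @Etale) (cT i).flip inferInstance
  haveI : Etale k :=
    MorphismProperty.of_isPullback (P := @Etale) hleft.flip inferInstance
  have h1 : IsIso (EtBC.baseChange0Sh g (V i).hom (gi i) (ti i) (cT i).w F) :=
    H9FE.ShBC0Et.isIso_baseChange0Sh g (V i).hom (gi i) (ti i) (cT i) F
  have h12 : IsIso (EtBC.baseChange0Sh g (a i ≫ (V i).hom) (hi i) (ei i ≫ ti i) hout.w F) :=
    H9FE.ShBCPaste.baseChange0Sh_isIso_vcomp (V i).hom g (gi i) (ti i) (cT i).w (a i)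
      (hi i) (ei i) (cY i).w hout.w F h1 (hloc i)
  have h3 : IsIso (EtBC.baseChange0Sh g ((U i).hom ≫ f) (hi i) (k ≫ e) hout'.w F) :=
    H9FE.ShBCPaste.baseChange0Sh_isIso_congr g _ _ (hi i) _ _ (ha i) hke.symm hout.w hout'.w F h12
  have h2 : IsIso (EtBC.baseChange0Sh h (U i).hom (hi i) k hleft.w ((EtDesc.pullSh e).obj F)) :=
    H9FE.ShBC0Et.isIso_baseChange0Sh h (U i).hom (hi i) k hleft ((EtDesc.pullSh e).obj F)
  exact H9FE.ShBCPaste.baseChange0Sh_vcomp_cancel f g h e c.w (U i).hom (hi i) k hleft.w hout'.w F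
    h3 h2

end Aux

/-- Let Y = X ×_S T be a cartesian square of schemes with f : X → S, g : T → S, h : Y → X, e : Y → T,
and F a sheaf of sets on the small etale site of T. Let (U_i → X) be a jointly surjective family of
etale X-schemes such that every U_i → S factors as a_i : U_i → V_i followed by an etale V_i → S, and
let T_i = V_i ×_S T (projections g_i, t_i) and Y_i = U_i ×_{V_i} T_i (projections h_i, e_i). If for
every i the base change map a_i⁻¹ g_i,_* (t_i⁻¹ F) → h_i,_* e_i⁻¹ (t_i⁻¹ F) is an isomorphism, then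
the base change map f⁻¹ g_* F → h_* e⁻¹ F is an isomorphism. -/
theorem result {X S Y T : Scheme.{u}} (f : X ⟶ S) (g : T ⟶ S) (h : Y ⟶ X) (e : Y ⟶ T)
    (c : IsPullback e h g f) (F : EtDesc.Sh T)
    {ι : Type u} (U : ι → X.Etale) (hU : EtCoh.Covers U) (V : ι → S.Etale)
    (a : ∀ i, (U i).left ⟶ (V i).left) (ha : ∀ i, a i ≫ (V i).hom = (U i).hom ≫ f)
    (Ti Yi : ι → Scheme.{u}) (gi : ∀ i, Ti i ⟶ (V i).left) (ti : ∀ i, Ti i ⟶ T)
    (cT : ∀ i, IsPullback (ti i) (gi i) g (V i).hom)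
    (hi : ∀ i, Yi i ⟶ (U i).left) (ei : ∀ i, Yi i ⟶ Ti i) (cY : ∀ i, IsPullback (ei i) (hi i) (gi i) (a i))
    (hloc : ∀ i, IsIso (EtBC.baseChange0Sh (gi i) (a i) (hi i) (ei i) (cY i).w ((EtDesc.pullSh (ti i)).obj F))) :
    IsIso (EtBC.baseChange0Sh g f h e c.w F) := by
  exact Aux.main f g h e c F U hU V a ha Ti Yi gi ti cT hi ei cY hloc

end Groth.Agent.S6691
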