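import Groth.Statements.S6698
import Mathlib
import Groth.Statements.S6698
import Groth.Agent.Lib.Helper9.FE.DBcEtLoc
-- import your own Groth.Agent.* helpers here

set_option autoImplicit false
universe u
open CategoryTheory CategoryTheory.Limits AlgebraicGeometry Opposite
attribute [local instance] HasDerivedCategory.standard
open EtBC

namespace Groth.Agent.S6698

open CategoryTheory CategoryTheory.Limits AlgebraicGeometry Opposite
open EtBC
namespace Aux
set_option linter.style.haveILetI false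
set_option linter.unusedSectionVars false

open Groth.Agent.Lib.Helper9.DBcEt

attribute [local instance] Groth.Agent.S0623.lexPull

theorem main {X S Y T : Scheme.{u}} (f : X ⟶ S) (g : T ⟶ S) (h : Y ⟶ X) (e : Y ⟶ T)
    (c : IsPullback e h g f) [PreservesFiniteLimits (EtCoh.pull e)] [PreservesFiniteLimits (EtCoh.pull f)]
    [DCoh.HasRpushEt T g] [DCoh.HasRpushEt Y h] [DCoh.HasRpushEt X f] (adj : EtBC.pullD f ⊣ DCoh.RpushEt X f)
    (K : DCoh.DEt T)
    {ι : Type u} (U : ι → X.Etale) (hU : EtCoh.Covers U) (V : ι → S.Etale)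
    (a : ∀ i, (U i).left ⟶ (V i).left) (ha : ∀ i, a i ≫ (V i).hom = (U i).hom ≫ f)
    (Ti Yi : ι → Scheme.{u}) (gi : ∀ i, Ti i ⟶ (V i).left) (ti : ∀ i, Ti i ⟶ T)
    (cT : ∀ i, IsPullback (ti i) (gi i) g (V i).hom)
    (hi : ∀ i, Yi i ⟶ (U i).left) (ei : ∀ i, Yi i ⟶ Ti i) (cY : ∀ i, IsPullback (ei i) (hi i) (gi i) (a i))
    [∀ i, PreservesFiniteLimits (EtCoh.pull (ei i))] [∀ i, PreservesFiniteLimits (EtCoh.pull (a i))]
    [∀ i, PreservesFiniteLimits (EtCoh.pull (ti i))]
    [∀ i, DCoh.HasRpushEt (Ti i) (gi i)] [∀ i, DCoh.HasRpushEt (Yi i) (hi i)] [∀ i, DCoh.HasRpushEt (U i).left (a i)]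
    (adji : ∀ i, EtBC.pullD (a i) ⊣ DCoh.RpushEt (U i).left (a i))
    (hloc : ∀ i, IsIso (EtBC.bcMap (gi i) (a i) (hi i) (ei i) (cY i).w (adji i) ((EtBC.pullD (ti i)).obj K))) :
    IsIso (EtBC.bcMap g f h e c.w adj K) := by
  apply isIso_of_cover_D U hU
  intro i
  have hout : IsPullback (ei i ≫ ti i) (hi i) g (a i ≫ (V i).hom) :=
    (cY i).paste_horiz (cT i)
  have hw : (ei i ≫ ti i) ≫ g = (hi i ≫ (U i).hom) ≫ f := by
    rw [hout.w, Category.assoc, ha i]
  let k : Yi i ⟶ Y := c.lift (ei i ≫ ti i) (hi i ≫ (U i).hom) hw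
  have hke : k ≫ e = ei i ≫ ti i := c.lift_fst _ _ _
  have hkh : k ≫ h = hi i ≫ (U i).hom := c.lift_snd _ _ _
  have hout' : IsPullback (k ≫ e) (hi i) g ((U i).hom ≫ f) := by
    rw [hke, ← ha i]
    exact hout
  have hleft : IsPullback k (hi i) h (U i).hom := IsPullback.of_right hout' hkh c
  haveI : Etale (ti i) :=
    MorphismProperty.of_isPullback (P := @Etale) (cT i).flip inferInstance
  haveI : Etale k :=
    MorphismProperty.of_isPullback (P := @Etale) hleft.flip inferInstance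
  have h1 : IsIso (EtBC.bcMap g (V i).hom (gi i) (ti i) (cT i).w (adjD (V i).hom) K) :=
    bcMap_isIso_of_etale g (V i).hom (gi i) (ti i) (cT i) _ K
  have h12 : IsIso (EtBC.bcMap g (a i ≫ (V i).hom) (hi i) (ei i ≫ ti i) hout.w
      (adjD (a i ≫ (V i).hom)) K) :=
    bcMap_isIso_vcomp (V i).hom g (gi i) (ti i) (cT i).w (a i) (hi i) (ei i) (cY i).w hout.w
      (adjD (V i).hom) (adji i) (adjD (a i ≫ (V i).hom)) K h1 (hloc i)
  have h3 : IsIso (EtBC.bcMap g ((U i).hom ≫ f) (hi i) (k ≫ e) hout'.w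
      (adjD ((U i).hom ≫ f)) K) :=
    bcMap_isIso_congr g _ _ (hi i) _ _ (ha i) hke.symm hout.w hout'.w _ _ K h12
  have h2 : IsIso (EtBC.bcMap h (U i).hom (hi i) k hleft.w (adjD (U i).hom)
      ((EtBC.pullD e).obj K)) :=
    bcMap_isIso_of_etale h (U i).hom (hi i) k hleft _ _
  exact bcMap_vcomp_cancel f g h e c.w (U i).hom (hi i) k hleft.w hout'.w adj
    (adjD (U i).hom) (adjD ((U i).hom ≫ f)) K h3 h2

end Aux

/-- Let Y = X ×_S T be a cartesian square of schemes with f : X → S, g : T → S, h : Y → X, e : Y → T,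
and K an object of D(T_et). Let (U_i → X) be a jointly surjective family of etale X-schemes such
that every U_i → S factors as a_i : U_i → V_i followed by an etale V_i → S, and let T_i = V_i ×_S T
(projections g_i, t_i) and Y_i = U_i ×_{V_i} T_i (projections h_i, e_i). If for every i the base
change morphism a_i⁻¹ Rg_i,_* (t_i⁻¹ K) → Rh_i,_* e_i⁻¹ (t_i⁻¹ K) is an isomorphism, then the base
change morphism f⁻¹ Rg_* K → Rh_* e⁻¹ K is an isomorphism. (Unbounded derived direct images exist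
under the stated binders; each base change morphism is the transpose under an adjunction between
inverse image and derived direct image on derived categories, supplied as data; left exactness of
the inverse images is carried as instance hypotheses.) -/
theorem result {X S Y T : Scheme.{u}} (f : X ⟶ S) (g : T ⟶ S) (h : Y ⟶ X) (e : Y ⟶ T)
    (c : IsPullback e h g f) [PreservesFiniteLimits (EtCoh.pull e)] [PreservesFiniteLimits (EtCoh.pull f)]
    [DCoh.HasRpushEt T g] [DCoh.HasRpushEt Y h] [DCoh.HasRpushEt X f] (adj : EtBC.pullD f ⊣ DCoh.RpushEt X f)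
    (K : DCoh.DEt T)
    {ι : Type u} (U : ι → X.Etale) (hU : EtCoh.Covers U) (V : ι → S.Etale)
    (a : ∀ i, (U i).left ⟶ (V i).left) (ha : ∀ i, a i ≫ (V i).hom = (U i).hom ≫ f)
    (Ti Yi : ι → Scheme.{u}) (gi : ∀ i, Ti i ⟶ (V i).left) (ti : ∀ i, Ti i ⟶ T)
    (cT : ∀ i, IsPullback (ti i) (gi i) g (V i).hom)
    (hi : ∀ i, Yi i ⟶ (U i).left) (ei : ∀ i, Yi i ⟶ Ti i) (cY : ∀ i, IsPullback (ei i) (hi i) (gi i) (a i))
    [∀ i, PreservesFiniteLimits (EtCoh.pull (ei i))] [∀ i, PreservesFiniteLimits (EtCoh.pull (a i))]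
    [∀ i, PreservesFiniteLimits (EtCoh.pull (ti i))]
    [∀ i, DCoh.HasRpushEt (Ti i) (gi i)] [∀ i, DCoh.HasRpushEt (Yi i) (hi i)] [∀ i, DCoh.HasRpushEt (U i).left (a i)]
    (adji : ∀ i, EtBC.pullD (a i) ⊣ DCoh.RpushEt (U i).left (a i))
    (hloc : ∀ i, IsIso (EtBC.bcMap (gi i) (a i) (hi i) (ei i) (cY i).w (adji i) ((EtBC.pullD (ti i)).obj K))) :
    IsIso (EtBC.bcMap g f h e c.w adj K) := by
  exact Aux.main f g h e c adj K U hU V a ha Ti Yi gi ti cT hi ei cY adji hloc

end Groth.Agent.S6698
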