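import Groth.Statements.S6708
open CategoryTheory CategoryTheory.Limits CategoryTheory.Pretriangulated

set_option autoImplicit false
universe v u
open CategoryTheory
open DEquiv

namespace Groth.Agent.S6708

open CategoryTheory.Limits CategoryTheory.Pretriangulated in
/-- Let D be a pretriangulated category, D' ⊆ D a full triangulated subcategory (given as a property of
objects that is triangulated in Mathlib's sense) and X an object of D. Then the category of arrows E
⟶ X with E in D' is filtered. -/
theorem result
    {D : Type u} [Category.{v} D] [Preadditive D] [HasZeroObject D] [HasShift D ℤ]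
    [∀ n : ℤ, (shiftFunctor D n).Additive] [Pretriangulated D]
    (P : ObjectProperty D) [P.IsTriangulated] (X : D) :
    IsFiltered (CostructuredArrow P.ι X) := by
  have hne : Nonempty (CostructuredArrow P.ι X) := by
    obtain ⟨Z, hZ, hPZ⟩ := P.exists_prop_of_containsZero
    exact ⟨CostructuredArrow.mk (Y := (⟨Z, hPZ⟩ : P.FullSubcategory)) (0 : Z ⟶ X)⟩
  have hobjs : ∀ (A B : CostructuredArrow P.ι X), ∃ (Z : CostructuredArrow P.ι X)
      (_ : A ⟶ Z) (_ : B ⟶ Z), True := by
    intro A B
    obtain ⟨E, hE, ⟨e⟩⟩ := P.ext_of_isTriangulatedClosed₂' _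
      (binaryBiproductTriangle_distinguished A.left.obj B.left.obj) A.left.property B.left.property
    replace e : E ≅ A.left.obj ⊞ B.left.obj := e.symm
    let Z : CostructuredArrow P.ι X :=
      CostructuredArrow.mk (Y := (⟨E, hE⟩ : P.FullSubcategory)) (e.hom ≫ biprod.desc A.hom B.hom)
    refine ⟨Z, CostructuredArrow.homMk (ObjectProperty.homMk (biprod.inl ≫ e.inv)) ?_,
      CostructuredArrow.homMk (ObjectProperty.homMk (biprod.inr ≫ e.inv)) ?_, trivial⟩
    · change (biprod.inl ≫ e.inv) ≫ (e.hom ≫ biprod.desc A.hom B.hom) = A.hom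
      simp
    · change (biprod.inr ≫ e.inv) ≫ (e.hom ≫ biprod.desc A.hom B.hom) = B.hom
      simp
  have hmaps : ∀ {A B : CostructuredArrow P.ι X} (f g : A ⟶ B), ∃ (Z : CostructuredArrow P.ι X)
      (h : B ⟶ Z), f ≫ h = g ≫ h := by
    intro A B f g
    obtain ⟨C, hC, b, c, hT⟩ := P.distinguished_cocone_triangle (f.left.hom - g.left.hom)
      A.left.property B.left.property
    have hw : (f.left.hom - g.left.hom) ≫ B.hom = 0 := by
      have h1 : f.left.hom ≫ B.hom = A.hom := CostructuredArrow.w f
      have h2 : g.left.hom ≫ B.hom = A.hom := CostructuredArrow.w g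
      rw [Preadditive.sub_comp, h1, h2, sub_self]
    obtain ⟨k, hk⟩ := Triangle.yoneda_exact₂ _ hT B.hom hw
    change B.hom = b ≫ k at hk
    let Z : CostructuredArrow P.ι X :=
      CostructuredArrow.mk (Y := (⟨C, hC⟩ : P.FullSubcategory)) k
    refine ⟨Z, CostructuredArrow.homMk (ObjectProperty.homMk b) hk.symm, ?_⟩
    ext
    change f.left.hom ≫ b = g.left.hom ≫ b
    have := comp_distTriang_mor_zero₁₂ _ hT
    change (f.left.hom - g.left.hom) ≫ b = 0 at this
    rw [Preadditive.sub_comp, sub_eq_zero] at this
    exact this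
  exact { cocone_objs := hobjs, cocone_maps := fun _ _ f g => hmaps f g, nonempty := hne }

end Groth.Agent.S6708
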