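import Groth.Statements.S6710
import Mathlib

set_option autoImplicit false
universe u v
open CategoryTheory
open FunMor

namespace Groth.Agent.S6710

section
open scoped BigOperators

theorem exists_cyclic_quot (R : Type u) [CommRing R] : ∀ (n : ℕ) (M : Type v) [AddCommGroup M]
    [Module R M] [Module.FinitePresentation R M] [Nontrivial M] (s : Fin n → M)
    (_ : Submodule.span R (Set.range s) = ⊤),
    ∃ J : Ideal R, J.FG ∧ J ≠ ⊤ ∧ ∃ q : M →ₗ[R] R ⧸ J, Function.Surjective q := by
  intro n
  induction n with
  | zero =>
    intro M _ _ _ _ s hs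
    exfalso
    have h0 : Set.range s = ∅ := Set.range_eq_empty s
    rw [h0, Submodule.span_empty] at hs
    have : Subsingleton M := by
      constructor
      intro a b
      have ha : a ∈ (⊥ : Submodule R M) := hs ▸ Submodule.mem_top
      have hb : b ∈ (⊥ : Submodule R M) := hs ▸ Submodule.mem_top
      rw [Submodule.mem_bot] at ha hb
      rw [ha, hb]
    exact not_subsingleton M this
  | succ n ih =>
    intro M _ _ _ _ s hs
    let L : Submodule R M := Submodule.span R {s 0}
    have hLfg : L.FG := Submodule.fg_span_singleton _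
    have hfp : Module.FinitePresentation R (M ⧸ L) :=
      Module.finitePresentation_of_surjective L.mkQ (Submodule.mkQ_surjective L)
        (by rw [Submodule.ker_mkQ]; exact hLfg)
    by_cases hnt : Nontrivial (M ⧸ L)
    · have hs1 : Submodule.span R (Set.range fun i : Fin n => L.mkQ (s i.succ)) = ⊤ := by
        rw [eq_top_iff]
        have h1 : (⊤ : Submodule R (M ⧸ L)) = Submodule.map L.mkQ ⊤ := by
          rw [Submodule.map_top, Submodule.range_mkQ]
        rw [h1, ← hs, Submodule.map_span, Submodule.span_le]
        rintro _ ⟨_, ⟨i, rfl⟩, rfl⟩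
        refine Fin.cases ?_ (fun j => ?_) i
        · have : L.mkQ (s 0) = 0 := by
            rw [Submodule.mkQ_apply, Submodule.Quotient.mk_eq_zero]
            exact Submodule.mem_span_singleton_self _
          rw [this]
          exact Submodule.zero_mem _
        · exact Submodule.subset_span ⟨j, rfl⟩
      obtain ⟨J, hJ1, hJ2, q, hq⟩ := ih (M ⧸ L) (fun i : Fin n => L.mkQ (s i.succ)) hs1
      exact ⟨J, hJ1, hJ2, q ∘ₗ L.mkQ, hq.comp (Submodule.mkQ_surjective L)⟩
    · rw [not_nontrivial_iff_subsingleton, Submodule.Quotient.subsingleton_iff] at hnt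
      let l : R →ₗ[R] M := LinearMap.toSpanSingleton R M (s 0)
      have hl : Function.Surjective l := by
        rw [← LinearMap.range_eq_top, LinearMap.range_toSpanSingleton]
        exact hnt
      refine ⟨LinearMap.ker l, Module.FinitePresentation.fg_ker l hl, ?_,
        (l.quotKerEquivOfSurjective hl).symm.toLinearMap, (l.quotKerEquivOfSurjective hl).symm.surjective⟩
      intro htop
      obtain ⟨a, b, hab⟩ := exists_pair_ne M
      apply hab
      obtain ⟨ra, rfl⟩ := hl a
      obtain ⟨rb, rfl⟩ := hl b
      have h1 : ra ∈ LinearMap.ker l := htop ▸ Submodule.mem_top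
      have h2 : rb ∈ LinearMap.ker l := htop ▸ Submodule.mem_top
      rw [LinearMap.mem_ker] at h1 h2
      rw [h1, h2]

theorem main (A : Type u) [CommRing A] (M : Type v) [AddCommGroup M] [Module A M]
    [Module.FinitePresentation A M] (N : Type v) [AddCommGroup N] [Module A N] [Nontrivial N]
    (h : Module.support A N ⊆ Module.support A M) : Nontrivial (M →ₗ[A] N) := by
  classical
  obtain ⟨x, hx⟩ := exists_ne (0 : N)
  let I : Ideal A := LinearMap.ker (LinearMap.toSpanSingleton A N x)
  have hImem : ∀ a : A, a ∈ I ↔ a • x = 0 := by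
    intro a
    rw [LinearMap.mem_ker, LinearMap.toSpanSingleton_apply]
  have hI : I ≠ ⊤ := by
    intro hI
    have : (1 : A) ∈ I := hI ▸ Submodule.mem_top
    rw [hImem, one_smul] at this
    exact hx this
  obtain ⟨𝔪, h𝔪, hI𝔪⟩ := Ideal.exists_le_maximal I hI
  have h𝔪p : 𝔪.IsPrime := h𝔪.isPrime
  obtain ⟨p, hp, _⟩ := Ideal.exists_minimalPrimes_le (J := 𝔪) hI𝔪
  have hpp : p.IsPrime := hp.1.1
  let P : PrimeSpectrum A := ⟨p, hpp⟩
  have hPN : P ∈ Module.support A N := by
    rw [Module.mem_support_iff_exists_annihilator]
    refine ⟨x, ?_⟩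
    intro a ha
    rw [Submodule.mem_annihilator_span_singleton] at ha
    exact hp.1.2 ((hImem a).mpr ha)
  have hPM : Nontrivial (LocalizedModule p.primeCompl M) := Module.mem_support_iff.mp (h hPN)
  -- generating family of the localized module
  obtain ⟨n, s, hs⟩ := Module.Finite.exists_fin (R := Localization.AtPrime p)
    (M := LocalizedModule p.primeCompl M)
  obtain ⟨J, hJfg, hJtop, q, hq⟩ :=
    exists_cyclic_quot (Localization.AtPrime p) n (LocalizedModule p.primeCompl M) s hs
  have hJm : J ≤ (I.map (algebraMap A (Localization.AtPrime p))).radical := by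
    rw [IsLocalization.AtPrime.radical_map_of_mem_minimalPrimes (Localization.AtPrime p) p I hp,
      IsLocalization.AtPrime.map_eq_maximalIdeal p (Localization.AtPrime p)]
    exact IsLocalRing.le_maximalIdeal hJtop
  obtain ⟨k, hk⟩ := Ideal.exists_pow_le_of_le_radical_of_fg hJm hJfg
  -- the element x' of the localization of N
  let x' : LocalizedModule p.primeCompl N := LocalizedModule.mkLinearMap p.primeCompl N x
  have hx' : x' ≠ 0 := by
    intro h0
    have : x ∈ LinearMap.ker (LocalizedModule.mkLinearMap p.primeCompl N) := h0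
    rw [LocalizedModule.mem_ker_mkLinearMap_iff] at this
    obtain ⟨r, hr, hrx⟩ := this
    exact hr (hp.1.2 ((hImem r).mpr hrx))
  let annx' : Ideal (Localization.AtPrime p) :=
    LinearMap.ker (LinearMap.toSpanSingleton (Localization.AtPrime p)
      (LocalizedModule p.primeCompl N) x')
  have hann : ∀ a : Localization.AtPrime p, a ∈ annx' ↔ a • x' = 0 := by
    intro a
    rw [LinearMap.mem_ker, LinearMap.toSpanSingleton_apply]
  have hImap : I.map (algebraMap A (Localization.AtPrime p)) ≤ annx' := by
    rw [Ideal.map_le_iff_le_comap]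
    intro i hi
    rw [Ideal.mem_comap, hann, algebraMap_smul]
    show i • LocalizedModule.mkLinearMap p.primeCompl N x = 0
    rw [← map_smul, (hImem i).mp hi, map_zero]
  have H : ∃ k, J ^ k ≤ annx' := ⟨k, hk.trans hImap⟩
  have hk0 : Nat.find H ≠ 0 := by
    intro h0
    have h1 := Nat.find_spec H
    rw [h0, pow_zero, Ideal.one_eq_top, top_le_iff] at h1
    have h2 : (1 : Localization.AtPrime p) ∈ annx' := h1 ▸ Submodule.mem_top
    rw [hann, one_smul] at h2
    exact hx' h2
  obtain ⟨k1, hk1⟩ := Nat.exists_eq_succ_of_ne_zero hk0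
  have hmin : ¬ (J ^ k1 ≤ annx') := Nat.find_min H (by omega)
  obtain ⟨a, haJ, hay⟩ := SetLike.not_le_iff_exists.mp hmin
  have hy : a • x' ≠ 0 := fun h0 => hay ((hann a).mpr h0)
  have hJy : ∀ j ∈ J, j • (a • x') = 0 := by
    intro j hj
    have h1 : j * a ∈ J ^ (k1 + 1) := by
      rw [pow_succ']; exact Ideal.mul_mem_mul hj haJ
    have h2 := Nat.find_spec H
    rw [hk1] at h2
    have h3 := h2 h1
    rw [hann, mul_smul] at h3
    exact h3
  have hle : J ≤ LinearMap.ker (LinearMap.toSpanSingleton (Localization.AtPrime p)
      (LocalizedModule p.primeCompl N) (a • x')) := by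
    intro j hj
    rw [LinearMap.mem_ker, LinearMap.toSpanSingleton_apply]
    exact hJy j hj
  let g' : LocalizedModule p.primeCompl M →ₗ[Localization.AtPrime p]
      LocalizedModule p.primeCompl N :=
    (Submodule.liftQ J (LinearMap.toSpanSingleton (Localization.AtPrime p)
      (LocalizedModule p.primeCompl N) (a • x')) hle) ∘ₗ q
  let g : M →ₗ[A] LocalizedModule p.primeCompl N :=
    (g'.restrictScalars A) ∘ₗ (LocalizedModule.mkLinearMap p.primeCompl M)
  have hg : g ≠ 0 := by
    intro hg0
    obtain ⟨m', hm'⟩ := hq (Submodule.Quotient.mk 1)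
    have h1 : g' m' = a • x' := by
      show Submodule.liftQ J _ hle (q m') = _
      rw [hm', Submodule.liftQ_apply, LinearMap.toSpanSingleton_apply, one_smul]
    have h2 : g' m' = 0 := by
      induction m' using LocalizedModule.induction_on with
      | h m t =>
        have h3 : LocalizedModule.mk m t =
            (Localization.mk 1 t : Localization.AtPrime p) • LocalizedModule.mk m (1 : p.primeCompl) := by
          rw [LocalizedModule.mk_smul_mk, one_smul, mul_one]
        rw [h3, map_smul]
        have h4 : g' (LocalizedModule.mk m (1 : p.primeCompl)) = g m := rfl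
        rw [h4, hg0, LinearMap.zero_apply, smul_zero]
    exact hy (h1 ▸ h2)
  obtain ⟨hh, t, e⟩ := Module.FinitePresentation.exists_lift_of_isLocalizedModule p.primeCompl
    (LocalizedModule.mkLinearMap p.primeCompl N) g
  refine ⟨hh, 0, ?_⟩
  intro hh0
  apply hg
  ext m
  have h1 : (t • g) m = 0 := by
    rw [← e, hh0, LinearMap.comp_zero, LinearMap.zero_apply]
  rw [LinearMap.smul_apply] at h1
  rw [LinearMap.zero_apply]
  have h2 : t • g m = t • (0 : LocalizedModule p.primeCompl N) := by rw [h1, smul_zero]
  exact (IsLocalizedModule.smul_inj (LocalizedModule.mkLinearMap p.primeCompl N) t _ _).mp h2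


end


/-- The statement for an affine scheme written in terms of modules: let A be a commutative ring, M a
finitely presented A-module and N a nonzero A-module with Supp(N) ⊆ Supp(M). Then Hom_A(M, N) is
nonzero. -/
theorem result
    (A : Type u) [CommRing A] (M : Type v) [AddCommGroup M] [Module A M]
    [Module.FinitePresentation A M] (N : Type v) [AddCommGroup N] [Module A N] [Nontrivial N]
    (h : Module.support A N ⊆ Module.support A M) : Nontrivial (M →ₗ[A] N) := by
  classical
  exact main A M N h

end Groth.Agent.S6710
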