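import Groth.Statements.S6775
import Mathlib.CategoryTheory.Abelian.CommSq

set_option autoImplicit false
open CategoryTheory CategoryTheory.Limits
universe v u
open CategoryTheory CategoryTheory.Abelian

namespace Groth.Agent.S6775

/-- In an abelian category a cartesian square whose bottom arrow `k` is an epimorphism is also
cocartesian, and the arrow `f` opposite to `k` is an epimorphism. -/
theorem result {A : Type u} [Category.{v} A] [Abelian A] {w x y z : A} (f : w ⟶ y) (g : w ⟶ x) (h : y ⟶ z) (k : x ⟶ z) (sq : IsPullback f g h k) [Epi k] : IsPushout f g h k ∧ Epi f := by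
  have hf : Epi f :=
    (MorphismProperty.epimorphisms A).of_isPullback sq.flip
      (show (MorphismProperty.epimorphisms A) k from ‹Epi k›)
  have key : ∀ {T : A} (a : y ⟶ T) (b : x ⟶ T), f ≫ a = g ≫ b →
      ∃ d : z ⟶ T, h ≫ d = a ∧ k ≫ d = b := by
    intro T a b hab
    have hl : (0 : kernel k ⟶ y) ≫ h = kernel.ι k ≫ k := by simp
    have h1 : sq.lift 0 (kernel.ι k) hl ≫ g = kernel.ι k := sq.lift_snd _ _ _
    have h2 : sq.lift 0 (kernel.ι k) hl ≫ f = 0 := sq.lift_fst _ _ _
    have hb : kernel.ι k ≫ b = 0 := by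
      rw [← h1, Category.assoc, ← hab, ← Category.assoc, h2, zero_comp]
    refine ⟨Abelian.epiDesc k b hb, ?_, Abelian.comp_epiDesc k b hb⟩
    rw [← cancel_epi f, ← Category.assoc, sq.w, Category.assoc, Abelian.comp_epiDesc, hab]
  refine ⟨⟨sq.toCommSq, ⟨PushoutCocone.IsColimit.mk _
    (fun s => (key s.inl s.inr s.condition).choose) ?_ ?_ ?_⟩⟩, hf⟩
  · intro s
    exact (key s.inl s.inr s.condition).choose_spec.1
  · intro s
    exact (key s.inl s.inr s.condition).choose_spec.2
  · intro s m _ hm
    rw [← cancel_epi k, hm]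
    exact (key s.inl s.inr s.condition).choose_spec.2.symm

end Groth.Agent.S6775
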