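import Groth.Statements.S6776
import Mathlib.CategoryTheory.Abelian.CommSq

set_option autoImplicit false
open CategoryTheory CategoryTheory.Limits
universe v u
open CategoryTheory CategoryTheory.Abelian

namespace Groth.Agent.S6776

/-- In an abelian category a cocartesian square whose left arrow `g` is a monomorphism is also
cartesian, and the arrow `h` opposite to `g` is a monomorphism. -/
theorem result {A : Type u} [Category.{v} A] [Abelian A] {w x y z : A} (f : w ⟶ y) (g : w ⟶ x) (h : y ⟶ z) (k : x ⟶ z) (sq : IsPushout f g h k) [Mono g] : IsPullback f g h k ∧ Mono h := by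
  have hh : Mono h :=
    (MorphismProperty.monomorphisms A).of_isPushout sq
      (show (MorphismProperty.monomorphisms A) g from ‹Mono g›)
  have key : ∀ {T : A} (a : T ⟶ y) (b : T ⟶ x), a ≫ h = b ≫ k →
      ∃ d : T ⟶ w, d ≫ f = a ∧ d ≫ g = b := by
    intro T a b hab
    have hl : f ≫ (0 : y ⟶ cokernel g) = g ≫ cokernel.π g := by simp
    have h1 : k ≫ sq.desc 0 (cokernel.π g) hl = cokernel.π g := sq.inr_desc _ _ _
    have h2 : h ≫ sq.desc 0 (cokernel.π g) hl = 0 := sq.inl_desc _ _ _
    have hb : b ≫ cokernel.π g = 0 := by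
      rw [← h1, ← Category.assoc, ← hab, Category.assoc, h2, comp_zero]
    refine ⟨Abelian.monoLift g b hb, ?_, Abelian.monoLift_comp g b hb⟩
    rw [← cancel_mono h, Category.assoc, sq.w, ← Category.assoc, Abelian.monoLift_comp, hab]
  refine ⟨⟨sq.toCommSq, ⟨PullbackCone.IsLimit.mk _
    (fun s => (key s.fst s.snd s.condition).choose) ?_ ?_ ?_⟩⟩, hh⟩
  · intro s
    exact (key s.fst s.snd s.condition).choose_spec.1
  · intro s
    exact (key s.fst s.snd s.condition).choose_spec.2
  · intro s m _ hm
    rw [← cancel_mono g, hm]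
    exact (key s.fst s.snd s.condition).choose_spec.2.symm

end Groth.Agent.S6776
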