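import Groth.Statements.S6786
import Groth.Statements.S6786
import Mathlib
import Groth.Agent.Lib.Helper3.MLLim

set_option autoImplicit false
open CategoryTheory CategoryTheory.Limits
universe u
open HomAlg3

namespace Groth.Agent.S6786

open Groth.Agent.Helper3.MLLim Opposite

/-- For a sequence `(A_i) ⟶ (B_i) ⟶ (C_i) ⟶ (D_i)` of inverse systems of abelian groups over `ℕ` that is
exact levelwise at the two middle places, if `(A_i)` is Mittag-Leffler then `lim B_i ⟶ lim C_i ⟶ lim
D_i` is exact. -/
theorem result {A B C D : ℕᵒᵖ ⥤ AddCommGrpCat.{u}} (a : A ⟶ B) (b : B ⟶ C) (c : C ⟶ D) (hB : ∀ i, (b.app i).hom.ker = (a.app i).hom.range) (hC : ∀ i, (c.app i).hom.ker = (b.app i).hom.range) (hA : (A ⋙ forget AddCommGrpCat).IsMittagLeffler) : (limMap c).hom.ker = (limMap b).hom.range := by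
  ext x
  constructor
  · intro hx
    rw [AddMonoidHom.mem_ker] at hx
    -- components of `x`
    let xn : ∀ n, C.obj (Opposite.op n) := fun n => (limit.π C (Opposite.op n)).hom x
    have hxn : ∀ n, (c.app (Opposite.op n)).hom (xn n) = 0 := fun n => by
      have := Groth.Agent.Helper3.MLLim.limMap_π_apply c x n
      rw [hx, map_zero] at this
      exact this.symm
    obtain ⟨y, hyT, hy⟩ := Groth.Agent.Helper3.MLLim.exists_compatible a hA
      (fun n => {t | (b.app (Opposite.op n)).hom t = xn n})
      (fun n => by
        have : xn n ∈ (c.app (Opposite.op n)).hom.ker := hxn n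
        rw [hC] at this
        obtain ⟨t, ht⟩ := this
        exact ⟨t, ht⟩)
      (fun {n m} h t ht => by
        change (b.app (Opposite.op n)).hom _ = xn n
        rw [Groth.Agent.Helper3.MLLim.nat_res, show (b.app (Opposite.op m)).hom t = xn m from ht]
        exact Groth.Agent.Helper3.MLLim.limit_π_res C x h)
      (fun n t t' ht ht' => by
        have : t - t' ∈ (b.app (Opposite.op n)).hom.ker := by
          rw [AddMonoidHom.mem_ker, map_sub,
            show (b.app (Opposite.op n)).hom t = xn n from ht,
            show (b.app (Opposite.op n)).hom t' = xn n from ht', sub_self]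
        rw [hB] at this
        exact this)
      (fun n t α ht => by
        change (b.app (Opposite.op n)).hom _ = xn n
        have h0 : (b.app (Opposite.op n)).hom ((a.app (Opposite.op n)).hom α) = 0 := by
          have : (a.app (Opposite.op n)).hom α ∈ (a.app (Opposite.op n)).hom.range := ⟨α, rfl⟩
          rw [← hB] at this
          exact this
        rw [map_add, h0, add_zero]
        exact ht)
    obtain ⟨z, hz⟩ := Groth.Agent.Helper3.MLLim.exists_limit_elt B y hy
    refine ⟨z, ?_⟩
    apply Groth.Agent.Helper3.MLLim.limit_ext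
    intro n
    rw [Groth.Agent.Helper3.MLLim.limMap_π_apply, hz]
    exact hyT n
  · rintro ⟨z, rfl⟩
    rw [AddMonoidHom.mem_ker]
    apply Groth.Agent.Helper3.MLLim.limit_ext
    intro n
    rw [Groth.Agent.Helper3.MLLim.limMap_π_apply, Groth.Agent.Helper3.MLLim.limMap_π_apply,
      map_zero]
    have : (b.app (Opposite.op n)).hom ((limit.π B (Opposite.op n)).hom z) ∈
        (b.app (Opposite.op n)).hom.range := ⟨_, rfl⟩
    rw [← hC] at this
    exact this

end Groth.Agent.S6786
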