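import Groth.Statements.S6787
import Groth.Statements.S6787
import Mathlib
import Groth.Agent.Lib.Helper3.MLLim

set_option autoImplicit false
open CategoryTheory CategoryTheory.Limits
universe u
open HomAlg3

namespace Groth.Agent.S6787

section aux

open Groth.Agent.Helper3.MLLim Opposite

variable {C : ℕᵒᵖ ⥤ AddCommGrpCat.{u}}

lemma cone_res (C₀ : AddCommGrpCat.{u}) (c : (Functor.const ℕᵒᵖ).obj C₀ ⟶ C) {n m : ℕ}
    (h : n ≤ m) (γ : C₀) : res C h ((c.app (op m)).hom γ) = (c.app (op n)).hom γ := by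
  have := c.naturality (homOfLE h).op
  have h' := congrArg (fun φ => φ.hom γ) this
  simpa [res] using h'.symm

end aux

/-- Take inverse systems `(A_i)`, `(B_i)`, `(C_i)` of abelian groups over `ℕ`, with morphisms of systems
`(A_i) ⟶ (B_i) ⟶ (C_i)` that give a short exact sequence at every index, and suppose `(C_i)` is
essentially constant. Then `(A_i)` is Mittag-Leffler if and only if `(B_i)` is. -/
theorem result {A B C : ℕᵒᵖ ⥤ AddCommGrpCat.{u}} (a : A ⟶ B) (b : B ⟶ C) (ha : ∀ i, Function.Injective (a.app i).hom) (hb : ∀ i, Function.Surjective (b.app i).hom) (hex : ∀ i, (b.app i).hom.ker = (a.app i).hom.range) (hC : ∃ (C₀ : AddCommGrpCat.{u}) (c : (Functor.const ℕᵒᵖ).obj C₀ ⟶ C), DerCA.IsEssConstant C C₀ c) : (A ⋙ forget AddCommGrpCat).IsMittagLeffler ↔ (B ⋙ forget AddCommGrpCat).IsMittagLeffler := by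
  obtain ⟨C₀, c, i₀, s, hs, hess⟩ := hC
  -- elementwise form of essential constancy
  have hess' : ∀ j : ℕ, ∃ (k : ℕ) (hi : i₀ ≤ k) (hj : j ≤ k), ∀ w : C.obj (Opposite.op k),
      Groth.Agent.Helper3.MLLim.res C hj w =
        (c.app (Opposite.op j)).hom (s.hom (Groth.Agent.Helper3.MLLim.res C hi w)) := by
    intro j
    obtain ⟨k, hi, hj, h⟩ := hess j
    refine ⟨k, hi, hj, fun w => ?_⟩
    have h' := congrArg (fun φ => φ.hom w) h
    exact h'
  have hba : ∀ (n : ℕ) (α : A.obj (Opposite.op n)),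
      (b.app (Opposite.op n)).hom ((a.app (Opposite.op n)).hom α) = 0 := by
    intro n α
    have : (a.app (Opposite.op n)).hom α ∈ (a.app (Opposite.op n)).hom.range := ⟨α, rfl⟩
    rw [← hex] at this
    exact this
  have hker : ∀ (n : ℕ) (β : B.obj (Opposite.op n)), (b.app (Opposite.op n)).hom β = 0 →
      ∃ α : A.obj (Opposite.op n), (a.app (Opposite.op n)).hom α = β := by
    intro n β hβ
    have : β ∈ (b.app (Opposite.op n)).hom.ker := hβ
    rw [hex] at this
    exact this
  constructor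
  · intro hA
    apply Groth.Agent.Helper3.MLLim.ml_of_index
    intro n
    obtain ⟨j₀, hj₀, HA⟩ := Groth.Agent.Helper3.MLLim.ml_index A hA n
    obtain ⟨j, hi, hj, hfac⟩ := hess' j₀
    refine ⟨j, hj₀.trans hj, fun m hm β => ?_⟩
    have hm' : m ≤ max m j := le_max_left _ _
    have hjm' : j ≤ max m j := le_max_right _ _
    set γ : C₀ := s.hom (Groth.Agent.Helper3.MLLim.res C hi ((b.app (Opposite.op j)).hom β))
      with hγ
    obtain ⟨β'', hβ''⟩ := hb (Opposite.op (max m j)) ((c.app (Opposite.op (max m j))).hom γ)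
    have h1 : (b.app (Opposite.op j₀)).hom
        (Groth.Agent.Helper3.MLLim.res B (hj.trans hjm') β'' -
          Groth.Agent.Helper3.MLLim.res B hj β) = 0 := by
      rw [map_sub, Groth.Agent.Helper3.MLLim.nat_res, Groth.Agent.Helper3.MLLim.nat_res, hβ'',
        cone_res, hfac, sub_self]
    obtain ⟨α, hα⟩ := hker j₀ _ h1
    obtain ⟨α', hα'⟩ := HA (max m j) (hm.trans hm') α
    refine ⟨Groth.Agent.Helper3.MLLim.res B hm' (β'' - (a.app (Opposite.op (max m j))).hom α'), ?_⟩
    rw [Groth.Agent.Helper3.MLLim.res_res, map_sub, ← Groth.Agent.Helper3.MLLim.nat_res, hα',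
      Groth.Agent.Helper3.MLLim.nat_res, hα, map_sub, Groth.Agent.Helper3.MLLim.res_res,
      Groth.Agent.Helper3.MLLim.res_res]
    abel
  · intro hB
    apply Groth.Agent.Helper3.MLLim.ml_of_index
    intro n
    have hn' : n ≤ max n i₀ := le_max_left _ _
    have hi' : i₀ ≤ max n i₀ := le_max_right _ _
    obtain ⟨kB, hkB, HB⟩ := Groth.Agent.Helper3.MLLim.ml_index B hB (max n i₀)
    refine ⟨kB, hn'.trans hkB, fun m hm α => ?_⟩
    obtain ⟨k', hik', hmk', hfac⟩ := hess' m
    have hi'k' : max n i₀ ≤ k' := max_le (hm.trans hmk') hik'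
    obtain ⟨β, hβ⟩ := HB k' hi'k' ((a.app (Opposite.op kB)).hom α)
    have h0 : Groth.Agent.Helper3.MLLim.res C hik' ((b.app (Opposite.op k')).hom β) = 0 := by
      rw [← Groth.Agent.Helper3.MLLim.res_res C hi' hi'k',
        ← Groth.Agent.Helper3.MLLim.nat_res b hi'k', hβ,
        ← Groth.Agent.Helper3.MLLim.nat_res a hkB, hba, map_zero]
    have h1 : (b.app (Opposite.op m)).hom (Groth.Agent.Helper3.MLLim.res B hmk' β) = 0 := by
      rw [Groth.Agent.Helper3.MLLim.nat_res, hfac, h0, map_zero, map_zero]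
    obtain ⟨α', hα'⟩ := hker m _ h1
    refine ⟨α', ha (Opposite.op n) ?_⟩
    calc (a.app (Opposite.op n)).hom (Groth.Agent.Helper3.MLLim.res A hm α')
        = Groth.Agent.Helper3.MLLim.res B (hm.trans hmk') β := by
          rw [Groth.Agent.Helper3.MLLim.nat_res a hm, hα', Groth.Agent.Helper3.MLLim.res_res]
      _ = Groth.Agent.Helper3.MLLim.res B hn' (Groth.Agent.Helper3.MLLim.res B hi'k' β) := by
          rw [Groth.Agent.Helper3.MLLim.res_res]
      _ = (a.app (Opposite.op n)).hom (Groth.Agent.Helper3.MLLim.res A (hn'.trans hkB) α) := by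
          rw [hβ, Groth.Agent.Helper3.MLLim.res_res, Groth.Agent.Helper3.MLLim.nat_res a]

end Groth.Agent.S6787
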