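import Groth.Statements.S6789
import Mathlib
import Groth.Agent.Lib.Helper3.CechHtpy

set_option autoImplicit false
open CategoryTheory CategoryTheory.Limits
universe v u
open CategoryTheory CategoryTheory.SimplicialObject

namespace Groth.Agent.S6789

/-- For a morphism `f : Y ⟶ X` with a section `s`, the endomorphism of the Čech nerve of `f` (the
simplicial object of iterated fibre products of `Y` over `X`) that applies `s ∘ f` factorwise admits
simplicial homotopies to and from the identity: the published formula gives one direction and its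
mirror image (exchange the roles of the identity and `s ∘ f`) gives the other. -/
theorem result {C : Type u} [Category.{v} C] {Y X : C} (f : Y ⟶ X) (s : X ⟶ Y) (hs : s ≫ f = 𝟙 X) [∀ n : ℕ, HasWidePullback (Arrow.mk f).right (fun _ : Fin (n + 1) => (Arrow.mk f).left) (fun _ => (Arrow.mk f).hom)] (φ : Arrow.mk f ⟶ Arrow.mk f) (hφl : φ.left = f ≫ s) (hφr : φ.right = 𝟙 X) : Nonempty (SimplicialObject.Homotopy (𝟙 (Arrow.mk f).cechNerve) (Arrow.mapCechNerve φ)) ∧ Nonempty (SimplicialObject.Homotopy (Arrow.mapCechNerve φ) (𝟙 (Arrow.mk f).cechNerve)) := by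
  have ha : (𝟙 Y : Y ⟶ Y) ≫ f = f := Category.id_comp _
  have hb : (f ≫ s) ≫ f = f := by rw [Category.assoc, hs, Category.comp_id]
  have h1 : ∀ (n : ℕ) (k : Fin (n + 1)),
      (𝟙 (Arrow.mk f).cechNerve : (Arrow.mk f).cechNerve ⟶ _).app (Opposite.op (SimplexCategory.mk n)) ≫
        Groth.Agent.Helper3.CechHtpy.pr f n k = Groth.Agent.Helper3.CechHtpy.pr f n k ≫ 𝟙 Y := by
    intro n k
    rw [NatTrans.id_app, Category.id_comp, Category.comp_id]
  have h1b : ∀ (n : ℕ),
      (𝟙 (Arrow.mk f).cechNerve : (Arrow.mk f).cechNerve ⟶ _).app (Opposite.op (SimplexCategory.mk n)) ≫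
        Groth.Agent.Helper3.CechHtpy.bs f n = Groth.Agent.Helper3.CechHtpy.bs f n := by
    intro n
    rw [NatTrans.id_app, Category.id_comp]
  have h2 : ∀ (n : ℕ) (k : Fin (n + 1)),
      (Arrow.mapCechNerve φ).app (Opposite.op (SimplexCategory.mk n)) ≫
        Groth.Agent.Helper3.CechHtpy.pr f n k = Groth.Agent.Helper3.CechHtpy.pr f n k ≫ (f ≫ s) := by
    intro n k
    rw [← hφl]
    exact WidePullback.lift_π (fun _ : Fin (n + 1) => (Arrow.mk f).hom) _ _ _ _
  have h2b : ∀ (n : ℕ),
      (Arrow.mapCechNerve φ).app (Opposite.op (SimplexCategory.mk n)) ≫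
        Groth.Agent.Helper3.CechHtpy.bs f n = Groth.Agent.Helper3.CechHtpy.bs f n := by
    intro n
    have := WidePullback.lift_base (fun _ : Fin (n + 1) => (Arrow.mk f).hom)
      (WidePullback.base (fun _ : Fin (n + 1) => (Arrow.mk f).hom) ≫ φ.right)
      (fun i => WidePullback.π (fun _ : Fin (n + 1) => (Arrow.mk f).hom) i ≫ φ.left)
      (fun j => by simp)
    refine this.trans ?_
    rw [hφr]
    exact Category.comp_id _
  exact ⟨⟨Groth.Agent.Helper3.CechHtpy.htpy f (𝟙 Y) (f ≫ s) ha hb _ _ h1 h1b h2 h2b⟩,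
    ⟨Groth.Agent.Helper3.CechHtpy.htpy f (f ≫ s) (𝟙 Y) hb ha _ _ h2 h2b h1 h1b⟩⟩

end Groth.Agent.S6789
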