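import Groth.Statements.S6795
-- import your own Groth.Agent.* helpers here

set_option autoImplicit false
open CategoryTheory CategoryTheory.Limits
universe v u
open CategoryTheory CategoryTheory.Preadditive

namespace Groth.Agent.S6795

/-- A preadditive category with countable products in which split epimorphisms have kernels is
idempotent complete (Karoubian). -/
theorem result {D : Type u} [Category.{v} D] [Preadditive D] [HasCountableProducts D] (hk : ∀ ⦃X Y : D⦄ (f : X ⟶ Y), IsSplitEpi f → HasKernel f) : IsIdempotentComplete D := by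
  refine ⟨fun X p hp => ?_⟩
  have hX : HasProduct (fun _ : ℕ => X) := inferInstance
  set q : X ⟶ X := 𝟙 X - p with hq
  have hpq : p ≫ q = 0 := by rw [hq, Preadditive.comp_sub, Category.comp_id, hp, sub_self]
  have hqp : q ≫ p = 0 := by rw [hq, Preadditive.sub_comp, Category.id_comp, hp, sub_self]
  have hqq : q ≫ q = q := by
    rw [hq, Preadditive.comp_sub, Category.comp_id, Preadditive.sub_comp, Category.id_comp, hp,
      sub_self, sub_zero]
  have hpq1 : p + q = 𝟙 X := by rw [hq]; abel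
  let P : D := ∏ᶜ (fun _ : ℕ => X)
  let π : ∀ n : ℕ, P ⟶ X := fun n => Pi.π (fun _ : ℕ => X) n
  let Φ : P ⟶ P := Pi.lift (fun n => π n ≫ q + π (n + 1) ≫ p)
  let Ψ : P ⟶ P := Pi.lift (fun n => Nat.casesOn n (π 0 ≫ q) (fun m => π m ≫ p + π (m + 1) ≫ q))
  have hΦ : ∀ n, Φ ≫ π n = π n ≫ q + π (n + 1) ≫ p := fun n => Pi.lift_π _ n
  have hΨ0 : Ψ ≫ π 0 = π 0 ≫ q := Pi.lift_π _ 0
  have hΨs : ∀ m, Ψ ≫ π (m + 1) = π m ≫ p + π (m + 1) ≫ q := fun m => Pi.lift_π _ (m + 1)
  have hΨΦ : Ψ ≫ Φ = 𝟙 P := by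
    apply Pi.hom_ext
    intro n
    show (Ψ ≫ Φ) ≫ π n = 𝟙 P ≫ π n
    rw [Category.assoc, hΦ, Preadditive.comp_add, ← Category.assoc, ← Category.assoc, hΨs,
      Category.id_comp]
    cases n with
    | zero =>
      rw [hΨ0, Category.assoc, hqq, Preadditive.add_comp, Category.assoc, Category.assoc, hp, hqp,
        comp_zero, add_zero, add_comm, ← Preadditive.comp_add, hpq1, Category.comp_id]
    | succ m =>
      rw [hΨs, Preadditive.add_comp, Preadditive.add_comp, Category.assoc, Category.assoc,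
        Category.assoc, Category.assoc, hpq, hqq, hp, hqp, comp_zero, comp_zero, zero_add,
        add_zero, add_comm, ← Preadditive.comp_add, hpq1, Category.comp_id]
  have hsplit : IsSplitEpi Φ := IsSplitEpi.mk' ⟨Ψ, hΨΦ⟩
  have hker : HasKernel Φ := hk Φ hsplit
  let j : X ⟶ P := Pi.lift (fun n => Nat.casesOn n p (fun _ => 0))
  have hj0 : j ≫ π 0 = p := Pi.lift_π _ 0
  have hjs : ∀ m, j ≫ π (m + 1) = 0 := fun m => Pi.lift_π _ (m + 1)
  have hjΦ : j ≫ Φ = 0 := by
    apply Pi.hom_ext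
    intro n
    show (j ≫ Φ) ≫ π n = 0 ≫ π n
    rw [Category.assoc, hΦ, Preadditive.comp_add, ← Category.assoc, ← Category.assoc, hjs,
      zero_comp, zero_comp, add_zero]
    cases n with
    | zero => rw [hj0, hpq]
    | succ m => rw [hjs, zero_comp]
  let ι : kernel Φ ⟶ P := kernel.ι Φ
  have hι : ∀ n, ι ≫ π n ≫ q + ι ≫ π (n + 1) ≫ p = 0 := by
    intro n
    have h1 : ι ≫ Φ = 0 := kernel.condition Φ
    have h2 : (ι ≫ Φ) ≫ π n = 0 := by rw [h1, zero_comp]
    rw [Category.assoc, hΦ, Preadditive.comp_add] at h2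
    exact h2
  have hιq : ∀ n, ι ≫ π n ≫ q = 0 := by
    intro n
    have h := congrArg (fun f => f ≫ q) (hι n)
    simp only [Preadditive.add_comp, Category.assoc, hqq, hpq, comp_zero, add_zero, zero_comp] at h
    exact h
  have hιp : ∀ n, ι ≫ π (n + 1) ≫ p = 0 := by
    intro n
    have h := congrArg (fun f => f ≫ p) (hι n)
    simp only [Preadditive.add_comp, Category.assoc, hp, hqp, comp_zero, zero_add, zero_comp] at h
    exact h
  have hιs : ∀ n, ι ≫ π (n + 1) = 0 := by
    intro n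
    have : ι ≫ π (n + 1) = ι ≫ π (n + 1) ≫ p + ι ≫ π (n + 1) ≫ q := by
      rw [← Preadditive.comp_add, ← Preadditive.comp_add, hpq1, Category.comp_id]
    rw [this, hιp, hιq, add_zero]
  have hι0 : ι ≫ π 0 ≫ p = ι ≫ π 0 := by
    have : ι ≫ π 0 = ι ≫ π 0 ≫ p + ι ≫ π 0 ≫ q := by
      rw [← Preadditive.comp_add, ← Preadditive.comp_add, hpq1, Category.comp_id]
    rw [hιq, add_zero] at this
    exact this.symm
  refine ⟨kernel Φ, ι ≫ π 0, kernel.lift Φ j hjΦ, ?_, ?_⟩
  · rw [← cancel_mono ι]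
    show ((ι ≫ π 0) ≫ kernel.lift Φ j hjΦ) ≫ kernel.ι Φ = 𝟙 _ ≫ ι
    rw [Category.assoc, kernel.lift_ι, Category.id_comp]
    apply Pi.hom_ext
    intro n
    show ((ι ≫ π 0) ≫ j) ≫ π n = ι ≫ π n
    rw [Category.assoc, Category.assoc]
    cases n with
    | zero => rw [hj0, hι0]
    | succ m => rw [hjs, comp_zero, comp_zero, hιs]
  · show kernel.lift Φ j hjΦ ≫ kernel.ι Φ ≫ π 0 = p
    rw [← Category.assoc, kernel.lift_ι, hj0]

end Groth.Agent.S6795
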