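import Groth.Statements.S6796
-- import your own Groth.Agent.* helpers here

set_option autoImplicit false
open CategoryTheory CategoryTheory.Limits
universe v u
open CategoryTheory CategoryTheory.Preadditive

namespace Groth.Agent.S6796

/-- A preadditive category with countable coproducts in which split monomorphisms have cokernels is
idempotent complete (Karoubian). -/
theorem result {D : Type u} [Category.{v} D] [Preadditive D] [HasCountableCoproducts D] (hk : ∀ ⦃X Y : D⦄ (f : X ⟶ Y), IsSplitMono f → HasCokernel f) : IsIdempotentComplete D := by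
  refine ⟨fun X p hp => ?_⟩
  have hX : HasCoproduct (fun _ : ℕ => X) := inferInstance
  set q : X ⟶ X := 𝟙 X - p with hq
  have hpq : p ≫ q = 0 := by rw [hq, Preadditive.comp_sub, Category.comp_id, hp, sub_self]
  have hqp : q ≫ p = 0 := by rw [hq, Preadditive.sub_comp, Category.id_comp, hp, sub_self]
  have hqq : q ≫ q = q := by
    rw [hq, Preadditive.comp_sub, Category.comp_id, Preadditive.sub_comp, Category.id_comp, hp,
      sub_self, sub_zero]
  have hpq1 : p + q = 𝟙 X := by rw [hq]; abel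
  let P : D := ∐ (fun _ : ℕ => X)
  let ι : ∀ n : ℕ, X ⟶ P := fun n => Sigma.ι (fun _ : ℕ => X) n
  let Φ : P ⟶ P := Sigma.desc (fun n => q ≫ ι n + p ≫ ι (n + 1))
  let Ψ : P ⟶ P := Sigma.desc (fun n => Nat.casesOn n (q ≫ ι 0) (fun m => p ≫ ι m + q ≫ ι (m + 1)))
  have hΦ : ∀ n, ι n ≫ Φ = q ≫ ι n + p ≫ ι (n + 1) := fun n => Sigma.ι_desc _ n
  have hΨ0 : ι 0 ≫ Ψ = q ≫ ι 0 := Sigma.ι_desc _ 0
  have hΨs : ∀ m, ι (m + 1) ≫ Ψ = p ≫ ι m + q ≫ ι (m + 1) := fun m => Sigma.ι_desc _ (m + 1)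
  have hΦΨ : Φ ≫ Ψ = 𝟙 P := by
    apply Sigma.hom_ext
    intro n
    show ι n ≫ Φ ≫ Ψ = ι n ≫ 𝟙 P
    rw [← Category.assoc, hΦ, Preadditive.add_comp, Category.assoc, Category.assoc, hΨs,
      Category.comp_id]
    cases n with
    | zero =>
      rw [hΨ0, ← Category.assoc, hqq, Preadditive.comp_add, ← Category.assoc, ← Category.assoc,
        hp, hpq, zero_comp, add_zero, add_comm, ← Preadditive.add_comp, hpq1, Category.id_comp]
    | succ m =>
      rw [hΨs, Preadditive.comp_add, Preadditive.comp_add, ← Category.assoc, ← Category.assoc,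
        ← Category.assoc, ← Category.assoc, hqp, hqq, hp, hpq, zero_comp, zero_comp, zero_add,
        add_zero, add_comm, ← Preadditive.add_comp, hpq1, Category.id_comp]
  have hsplit : IsSplitMono Φ := IsSplitMono.mk' ⟨Ψ, hΦΨ⟩
  have hcoker : HasCokernel Φ := hk Φ hsplit
  let j : P ⟶ X := Sigma.desc (fun n => Nat.casesOn n p (fun _ => 0))
  have hj0 : ι 0 ≫ j = p := Sigma.ι_desc _ 0
  have hjs : ∀ m, ι (m + 1) ≫ j = 0 := fun m => Sigma.ι_desc _ (m + 1)
  have hΦj : Φ ≫ j = 0 := by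
    apply Sigma.hom_ext
    intro n
    show ι n ≫ Φ ≫ j = ι n ≫ 0
    rw [← Category.assoc, hΦ, Preadditive.add_comp, Category.assoc, Category.assoc, hjs,
      comp_zero, comp_zero, add_zero]
    cases n with
    | zero => rw [hj0, hqp]
    | succ m => rw [hjs, comp_zero]
  let π : P ⟶ cokernel Φ := cokernel.π Φ
  have hπ : ∀ n, q ≫ ι n ≫ π + p ≫ ι (n + 1) ≫ π = 0 := by
    intro n
    have h1 : Φ ≫ π = 0 := cokernel.condition Φ
    have h2 : ι n ≫ Φ ≫ π = 0 := by rw [h1, comp_zero]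
    rw [← Category.assoc, hΦ, Preadditive.add_comp, Category.assoc, Category.assoc] at h2
    exact h2
  have hπq : ∀ n, q ≫ ι n ≫ π = 0 := by
    intro n
    have h := congrArg (fun f => q ≫ f) (hπ n)
    simp only [Preadditive.comp_add, ← Category.assoc, hqq, hqp, comp_zero, add_zero, zero_comp] at h
    simpa only [Category.assoc] using h
  have hπp : ∀ n, p ≫ ι (n + 1) ≫ π = 0 := by
    intro n
    have h := congrArg (fun f => p ≫ f) (hπ n)
    simp only [Preadditive.comp_add, ← Category.assoc, hp, hpq, comp_zero, zero_add, zero_comp] at h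
    simpa only [Category.assoc] using h
  have hπs : ∀ n, ι (n + 1) ≫ π = 0 := by
    intro n
    have : ι (n + 1) ≫ π = p ≫ ι (n + 1) ≫ π + q ≫ ι (n + 1) ≫ π := by
      rw [← Preadditive.add_comp, hpq1, Category.id_comp]
    rw [this, hπp, hπq, add_zero]
  have hπ0 : p ≫ ι 0 ≫ π = ι 0 ≫ π := by
    have : ι 0 ≫ π = p ≫ ι 0 ≫ π + q ≫ ι 0 ≫ π := by
      rw [← Preadditive.add_comp, hpq1, Category.id_comp]
    rw [hπq, add_zero] at this
    exact this.symm
  refine ⟨cokernel Φ, cokernel.desc Φ j hΦj, ι 0 ≫ π, ?_, ?_⟩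
  · rw [← cancel_epi π]
    show cokernel.π Φ ≫ cokernel.desc Φ j hΦj ≫ ι 0 ≫ π = π ≫ 𝟙 _
    rw [← Category.assoc, cokernel.π_desc, Category.comp_id]
    apply Sigma.hom_ext
    intro n
    show ι n ≫ j ≫ ι 0 ≫ π = ι n ≫ π
    rw [← Category.assoc]
    cases n with
    | zero => rw [hj0, hπ0]
    | succ m => rw [hjs, zero_comp, hπs]
  · show (ι 0 ≫ cokernel.π Φ) ≫ cokernel.desc Φ j hΦj = p
    rw [Category.assoc, cokernel.π_desc, hj0]

end Groth.Agent.S6796
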