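import Groth.Statements.S6805
import Mathlib
import Mathlib

set_option autoImplicit false
open CategoryTheory
universe u
open SSet

namespace Groth.Agent.S6805

open CategoryTheory
open SSet

namespace H6805
open Simplicial Opposite

theorem main (m : ℕ) (U : SSet.Truncated.{u} m) : ((SSet.Truncated.sk m).obj U).HasDimensionLT (m + 1) := by
  constructor
  intro n hn
  rw [Set.top_eq_univ, Set.eq_univ_iff_forall]
  intro x
  let L := (SimplexCategory.Truncated.inclusion m).op
  let F' : SSet.{u} := (SSet.Truncated.sk m).obj U
  let α : U ⟶ L ⋙ F' := L.lanUnit.app U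
  have hF' : F'.IsLeftKanExtension α := by
    dsimp only [F', α, SSet.Truncated.sk, SimplicialObject.Truncated.sk]
    infer_instance
  have hP := Functor.isPointwiseLeftKanExtensionOfIsLeftKanExtension F' α
  have hc := hP (op ⦋n⦌)
  obtain ⟨g, y, hy⟩ := Limits.Types.jointly_surjective_of_isColimit hc x
  have hlen : (g.left.unop.obj).len ≤ m := g.left.unop.property
  have hf : g.hom.unop = (g.hom.unop : ⦋n⦌ ⟶ ⦋(g.left.unop.obj).len⦌) := rfl
  refine ⟨(g.left.unop.obj).len, by omega, g.hom.unop, α.app g.left y, ?_⟩
  rw [← hy]
  rfl

end H6805

/-- The simplicial set freely generated by an `m`-truncated simplicial set (its image under the left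
adjoint of `m`-truncation) has only degenerate simplices above dimension `m`. -/
theorem result (m : ℕ) (U : SSet.Truncated.{u} m) : ((SSet.Truncated.sk m).obj U).HasDimensionLT (m + 1) := by
  exact H6805.main m U

end Groth.Agent.S6805
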