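import Groth.Statements.S6806
import Mathlib
import Groth.Agent.Lib.Helper4.Cosk1

set_option autoImplicit false
open CategoryTheory CategoryTheory.Limits
universe v u
open CategoryTheory CategoryTheory.Abelian

namespace Groth.Agent.S6806

open CategoryTheory CategoryTheory.Limits
open CategoryTheory CategoryTheory.Abelian

namespace H6806
open Simplicial Opposite AlgebraicTopology AlgebraicTopology.DoldKan

variable {A : Type u} [Category.{v} A] [Abelian A]

lemma objX_eq_bot_of_PInfty_eq_zero (X : SimplicialObject A) (n : ℕ)
    (h : (PInfty : (AlternatingFaceMapComplex.obj X) ⟶ _).f n = 0) :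
    NormalizedMooreComplex.objX X n = ⊥ := by
  have h1 := congr_arg (fun φ => φ.f n) (inclusionOfMooreComplexMap_comp_PInfty X)
  simp only [HomologicalComplex.comp_f, h, comp_zero] at h1
  have h2 : (inclusionOfMooreComplexMap X).f n = (NormalizedMooreComplex.objX X n).arrow := rfl
  rw [h2] at h1
  rw [← Subobject.mk_arrow (NormalizedMooreComplex.objX X n), Subobject.mk_eq_bot_iff_zero]
  exact h1.symm

theorem main (m : ℕ) [∀ F : (SimplexCategory.Truncated m)ᵒᵖ ⥤ A, (SimplexCategory.Truncated.inclusion m).op.HasLeftKanExtension F] (U : SimplicialObject.Truncated A m) (n : ℕ) (hn : m < n) : AlgebraicTopology.NormalizedMooreComplex.objX ((SimplicialObject.Truncated.sk m).obj U) n = ⊥ := by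
  apply objX_eq_bot_of_PInfty_eq_zero
  obtain ⟨n, rfl⟩ : ∃ k, n = k + 1 := ⟨n - 1, by omega⟩
  let L := (SimplexCategory.Truncated.inclusion m).op
  let F' : SimplicialObject A := (SimplicialObject.Truncated.sk m).obj U
  let α : U ⟶ L ⋙ F' := L.lanUnit.app U
  have hF' : F'.IsLeftKanExtension α := by
    dsimp only [F', α, SimplicialObject.Truncated.sk]
    infer_instance
  have : L.HasPointwiseLeftKanExtension U :=
    Groth.Agent.Helper4.SK.hasPointwiseLeftKanExtension_of_hasFiniteColimits m U
  have hP := Functor.isPointwiseLeftKanExtensionOfIsLeftKanExtension F' α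
  have hc := hP (op ⦋n + 1⦌)
  let p : F'.obj (op ⦋n + 1⦌) ⟶ F'.obj (op ⦋n + 1⦌) :=
    (PInfty : (AlternatingFaceMapComplex.obj F') ⟶ _).f (n + 1)
  have hσ : ∀ i : Fin (n + 1), F'.σ i ≫ p = 0 := fun i => σ_comp_PInfty F' i
  suffices hp : p = 0 from hp
  have key : ∀ g, ((Functor.LeftExtension.mk F' α).coconeAt (op ⦋n + 1⦌)).ι.app g ≫ p =
      ((Functor.LeftExtension.mk F' α).coconeAt (op ⦋n + 1⦌)).ι.app g ≫ 0 := by
    intro g
    rw [comp_zero]
    have hlen : (g.left.unop.obj).len ≤ m := g.left.unop.property
    let θ : ⦋n + 1⦌ ⟶ g.left.unop.obj := g.hom.unop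
    have hni : ¬ Function.Injective θ.toOrderHom := by
      intro hinj
      have : Mono θ := by
        rw [SimplexCategory.mono_iff_injective]; exact hinj
      have h5 : (⦋n + 1⦌ : SimplexCategory).len ≤ (g.left.unop.obj).len :=
        SimplexCategory.len_le_of_mono θ
      change n + 1 ≤ _ at h5
      omega
    obtain ⟨i, θ', hθ⟩ := SimplexCategory.eq_σ_comp_of_not_injective θ hni
    have h4 : F'.map θ.op ≫ p = 0 := by
      rw [hθ, op_comp, Functor.map_comp, Category.assoc]
      have h3 : F'.map (SimplexCategory.σ i).op ≫ p = 0 := hσ i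
      rw [h3, comp_zero]
    have h1 : ((Functor.LeftExtension.mk F' α).coconeAt (op ⦋n + 1⦌)).ι.app g ≫ p =
        α.app g.left ≫ F'.map θ.op ≫ p := Category.assoc _ _ _
    rw [h1, h4, comp_zero]
    rfl
  exact hc.hom_ext key

end H6806

/-- For an `m`-truncated simplicial object `U` of an abelian category, the normalized Moore complex of
its free extension `i_{m!} U` (left adjoint of truncation) is zero in every degree `n > m`. Here the
normalized complex in degree `n` is the intersection of the kernels of the faces `d_1, …, d_n`; the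
published statement intersects the kernels of `d_0, …, d_{n-1}` instead, and the two versions
correspond under reversal of the ordering of each `[n]`, so both vanish. -/
theorem result {A : Type u} [Category.{v} A] [Abelian A] (m : ℕ) [∀ F : (SimplexCategory.Truncated m)ᵒᵖ ⥤ A, (SimplexCategory.Truncated.inclusion m).op.HasLeftKanExtension F] (U : SimplicialObject.Truncated A m) (n : ℕ) (hn : m < n) : AlgebraicTopology.NormalizedMooreComplex.objX ((SimplicialObject.Truncated.sk m).obj U) n = ⊥ := by
  exact H6806.main m U n hn

end Groth.Agent.S6806
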