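import Groth.Statements.S6807
import Groth.Statements.S6807
import Mathlib
import Groth.Agent.Lib.Helper3.LimHom
import Groth.Agent.S6787

set_option autoImplicit false
open CategoryTheory CategoryTheory.Limits
universe u
open HomAlg3

namespace Groth.Agent.S6807

section

open Opposite Groth.Agent.Helper3.LimCplx Groth.Agent.Helper3.MLLim Groth.Agent.Helper3.LimHom

variable (K : ℕᵒᵖ ⥤ HomologicalComplex AddCommGrpCat.{u} (ComplexShape.up ℤ))

/-- the tower of cycles is Mittag-Leffler if the previous terms are and the cohomology is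
essentially constant -/
theorem cycles_ml (l m : ℤ) (hlm : l + 1 = m)
    (h2 : ((K ⋙ HomologicalComplex.eval _ _ l) ⋙ forget AddCommGrpCat).IsMittagLeffler)
    (hH : ∃ (C₀ : AddCommGrpCat.{u})
      (c : (Functor.const ℕᵒᵖ).obj C₀ ⟶ K ⋙ HomologicalComplex.homologyFunctor _ _ m),
      DerCA.IsEssConstant (K ⋙ HomologicalComplex.homologyFunctor _ _ m) C₀ c) :
    ((K ⋙ HomologicalComplex.cyclesFunctor _ _ m) ⋙ forget AddCommGrpCat).IsMittagLeffler := by
  let B : ℕᵒᵖ ⥤ AddCommGrpCat.{u} :=
    K ⋙ HomologicalComplex.cyclesFunctor AddCommGrpCat.{u} (ComplexShape.up ℤ) m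
  let C : ℕᵒᵖ ⥤ AddCommGrpCat.{u} :=
    K ⋙ HomologicalComplex.homologyFunctor AddCommGrpCat.{u} (ComplexShape.up ℤ) m
  let b : B ⟶ C := Functor.whiskerLeft K
    (HomologicalComplex.natTransHomologyπ AddCommGrpCat.{u} (ComplexShape.up ℤ) m)
  have hb : ∀ i, Function.Surjective (b.app i).hom := fun i =>
    homologyπ_surjective (K.obj i) m
  haveI : ∀ i, Epi (b.app i) := fun i => (AddCommGrpCat.epi_iff_surjective _).2 (hb i)
  haveI : Epi b := NatTrans.epi_of_epi_app b
  let S : ShortComplex (ℕᵒᵖ ⥤ AddCommGrpCat.{u}) :=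
    ShortComplex.mk (kernel.ι b) b (kernel.condition b)
  have hS : S.ShortExact :=
    { exact := ShortComplex.exact_kernel b
      mono_f := by dsimp [S]; infer_instance
      epi_g := by dsimp [S]; infer_instance }
  have ha : ∀ i, Function.Injective ((kernel.ι b).app i).hom := by
    intro i
    haveI : Mono (kernel.ι b) := inferInstance
    haveI : Mono ((kernel.ι b).app i) := inferInstance
    exact (AddCommGrpCat.mono_iff_injective _).1 inferInstance
  have hex : ∀ i, (b.app i).hom.ker = ((kernel.ι b).app i).hom.range := by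
    intro i
    have h := hS.map_of_exact ((evaluation ℕᵒᵖ AddCommGrpCat.{u}).obj i)
    exact (ShortComplex.ab_exact_iff_range_eq_ker.1 h.exact).symm
  refine (Groth.Agent.S6787.result (kernel.ι b) b ha hb hex hH).1 ?_
  -- the tower of boundaries is Mittag-Leffler
  refine ml_of_index _ (fun j => ?_)
  obtain ⟨k, hk, hML⟩ := ml_index _ h2 j
  refine ⟨k, hk, fun i hi x => ?_⟩
  -- `x` is a boundary
  have hx : (b.app (op k)).hom (((kernel.ι b).app (op k)).hom x) = 0 := by
    have : ((kernel.ι b).app (op k)).hom x ∈ ((kernel.ι b).app (op k)).hom.range := ⟨x, rfl⟩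
    rw [← hex] at this
    exact this
  obtain ⟨w, hw⟩ : ∃ w : (K.obj (op k)).X l, ((K.obj (op k)).toCycles l m).hom w =
      ((kernel.ι b).app (op k)).hom x := by
    let S' : ShortComplex AddCommGrpCat.{u} :=
      ShortComplex.mk ((K.obj (op k)).toCycles l m) ((K.obj (op k)).homologyπ m)
        ((K.obj (op k)).toCycles_comp_homologyπ l m)
    have hS' : S'.Exact :=
      ShortComplex.exact_of_g_is_cokernel S' ((K.obj (op k)).homologyIsCokernel l m
        (by simp [← hlm]))
    exact (ShortComplex.ab_exact_iff S').1 hS' _ hx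
  obtain ⟨w', hw'⟩ := hML i hi w
  -- the boundary of `w'` lies in the kernel tower
  have hw'0 : (b.app (op i)).hom (((K.obj (op i)).toCycles l m).hom w') = 0 := by
    have := (K.obj (op i)).toCycles_comp_homologyπ l m
    exact congrArg (fun φ => φ.hom w') this
  obtain ⟨y, hy⟩ : ∃ y, ((kernel.ι b).app (op i)).hom y = ((K.obj (op i)).toCycles l m).hom w' := by
    have : ((K.obj (op i)).toCycles l m).hom w' ∈ (b.app (op i)).hom.ker := hw'0
    rw [hex] at this
    exact this
  refine ⟨y, ha (op j) ?_⟩
  rw [nat_res (kernel.ι b) hi y, nat_res (kernel.ι b) hk x, hy, ← hw]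
  -- naturality of `toCycles`
  have key : ∀ {p q : ℕ} (hpq : p ≤ q) (v : (K.obj (op q)).X l),
      res B hpq (((K.obj (op q)).toCycles l m).hom v) =
        ((K.obj (op p)).toCycles l m).hom
          (res (K ⋙ HomologicalComplex.eval AddCommGrpCat.{u} (ComplexShape.up ℤ) l) hpq v) := by
    intro p q hpq v
    apply iCycles_injective (K.obj (op p)) m
    have e1 := HomologicalComplex.cyclesMap_i (K.map (homOfLE hpq).op) m
    have e1' := congrArg (fun φ => φ.hom (((K.obj (op q)).toCycles l m).hom v)) e1
    have e2 := (K.obj (op q)).toCycles_i l m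
    have e2' := congrArg (fun φ => φ.hom v) e2
    have e3 := (K.obj (op p)).toCycles_i l m
    have e3' := congrArg (fun φ => φ.hom (((K.map (homOfLE hpq).op).f l).hom v)) e3
    have e4 := (K.map (homOfLE hpq).op).comm l m
    have e4' := congrArg (fun φ => φ.hom v) e4
    change ((K.obj (op p)).iCycles m).hom
      ((HomologicalComplex.cyclesMap (K.map (homOfLE hpq).op) m).hom
        (((K.obj (op q)).toCycles l m).hom v)) = _
    refine e1'.trans ?_
    refine Eq.trans ?_ e3'.symm
    refine Eq.trans ?_ e4'.symm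
    exact congrArg (fun t => ((K.map (homOfLE hpq).op).f m).hom t) e2'
  rw [key hi w', key hk w, hw']

end

/-- For an inverse system of cochain complexes of abelian groups over `ℕ` whose terms in degrees `n-2`
and `n-1` form Mittag-Leffler systems and whose degree-`(n-1)` cohomologies form an essentially
constant system, the canonical map from the degree-`n` cohomology of the limit complex to the limit
of the degree-`n` cohomologies is an isomorphism. (The published statement is for four-term
complexes in degrees `-2, …, 1`; only those four degrees of a longer complex enter.) -/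
theorem result (K : ℕᵒᵖ ⥤ HomologicalComplex AddCommGrpCat.{u} (ComplexShape.up ℤ)) (n : ℤ) (h2 : ((K ⋙ HomologicalComplex.eval _ _ (n - 2)) ⋙ forget AddCommGrpCat).IsMittagLeffler) (h1 : ((K ⋙ HomologicalComplex.eval _ _ (n - 1)) ⋙ forget AddCommGrpCat).IsMittagLeffler) (hH : ∃ (C₀ : AddCommGrpCat.{u}) (c : (Functor.const ℕᵒᵖ).obj C₀ ⟶ K ⋙ HomologicalComplex.homologyFunctor _ _ (n - 1)), DerCA.IsEssConstant (K ⋙ HomologicalComplex.homologyFunctor _ _ (n - 1)) C₀ c) : IsIso (limit.post K (HomologicalComplex.homologyFunctor _ _ n)) := by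
  rw [ConcreteCategory.isIso_iff_bijective]
  exact ⟨Groth.Agent.Helper3.LimHom.post_injective_nat K (n - 1) n (by ring)
      (cycles_ml K (n - 2) (n - 1) (by ring) h2 hH),
    Groth.Agent.Helper3.LimHom.post_surjective_nat K (n - 1) n (n + 1) (by ring) rfl h1⟩

end Groth.Agent.S6807
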