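import Groth.Statements.S6811
import Mathlib
import Groth.Agent.Lib.Helper4.Cosk1
import Mathlib

set_option autoImplicit false
open CategoryTheory CategoryTheory.Limits
universe v u
open CategoryTheory CategoryTheory.SimplicialObject

namespace Groth.Agent.S6811

open CategoryTheory CategoryTheory.Limits

namespace H6811
open Functor

universe v₁ v₂ v₃ v₄ u₁ u₂ u₃ u₄

/-- Transitivity of "being a right Kan extension of one's restriction" along a full functor. -/
theorem isRightKanExtension_of_comp {A₁ : Type u₁} [Category.{v₁} A₁] {A₂ : Type u₂} [Category.{v₂} A₂]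
    {B : Type u₃} [Category.{v₃} B] {C : Type u₄} [Category.{v₄} C]
    (J : A₁ ⥤ A₂) (L : A₂ ⥤ B) [L.Full] (X : B ⥤ C)
    (hP : (RightExtension.mk X (𝟙 ((J ⋙ L) ⋙ X))).IsPointwiseRightKanExtension) :
    X.IsRightKanExtension (𝟙 (L ⋙ X)) := by
  have : X.IsRightKanExtension (𝟙 ((J ⋙ L) ⋙ X)) := hP.isRightKanExtension
  have hne : ∀ G : RightExtension L (L ⋙ X), Nonempty (G ⟶ RightExtension.mk X (𝟙 (L ⋙ X))) := by
    intro G
    refine ⟨?_⟩
    let β : (J ⋙ L) ⋙ G.left ⟶ (J ⋙ L) ⋙ X := whiskerLeft J G.hom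
    let α' : G.left ⟶ X := X.liftOfIsRightKanExtension (𝟙 ((J ⋙ L) ⋙ X)) G.left β
    have hα' : whiskerLeft (J ⋙ L) α' = β := by
      have := X.liftOfIsRightKanExtension_fac (𝟙 ((J ⋙ L) ⋙ X)) G.left β
      rwa [Category.comp_id] at this
    have key : ∀ d : A₂, α'.app (L.obj d) = G.hom.app d := by
      intro d
      apply (hP (L.obj d)).hom_ext'
      intro a φ
      show α'.app (L.obj d) ≫ X.map φ ≫ 𝟙 _ = G.hom.app d ≫ X.map φ ≫ 𝟙 _
      rw [Category.comp_id]
      obtain ⟨ψ, rfl⟩ := L.map_surjective φ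
      have h1 : α'.app (L.obj d) ≫ X.map (L.map ψ) =
          G.left.map (L.map ψ) ≫ α'.app (L.obj (J.obj a)) :=
        (α'.naturality (L.map ψ)).symm
      have h2 : α'.app (L.obj (J.obj a)) = G.hom.app (J.obj a) := by
        have := congr($(hα').app a)
        simpa [β] using this
      have h3 : G.hom.app d ≫ X.map (L.map ψ) = G.left.map (L.map ψ) ≫ G.hom.app (J.obj a) :=
        (G.hom.naturality ψ).symm
      rw [h1, h2, h3]
    refine CostructuredArrow.homMk α' ?_
    ext d
    show α'.app (L.obj d) ≫ 𝟙 _ = G.hom.app d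
    rw [Category.comp_id, key]
  have hss : ∀ G : RightExtension L (L ⋙ X),
      Subsingleton (G ⟶ RightExtension.mk X (𝟙 (L ⋙ X))) := by
    intro G
    refine ⟨fun m₁ m₂ => ?_⟩
    have hw : ∀ m' : G ⟶ RightExtension.mk X (𝟙 (L ⋙ X)), whiskerLeft L m'.left = G.hom := by
      intro m'
      have := CostructuredArrow.w m'
      simp only [whiskeringLeft_obj_map, RightExtension.mk_hom] at this
      exact (Category.comp_id _).symm.trans this
    apply CostructuredArrow.hom_ext
    apply X.hom_ext_of_isRightKanExtension (𝟙 ((J ⋙ L) ⋙ X))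
    rw [Category.comp_id, Category.comp_id]
    ext a
    have h4 := congr($(hw m₁).app (J.obj a))
    have h5 := congr($(hw m₂).app (J.obj a))
    simp only [whiskerLeft_app, Functor.comp_obj] at h4 h5 ⊢
    rw [h4, h5]
  exact ⟨⟨IsTerminal.ofUniqueHom (fun G => (hne G).some) (fun G m => Subsingleton.elim _ _)⟩⟩


theorem main {C : Type u} [Category.{v} C] [HasFiniteLimits C] (U : SimplicialObject C) {n m : ℕ}
    (h : n ≤ m) [U.IsCoskeletal n] : U.IsCoskeletal m := by
  have := Groth.Agent.Helper4.SK.hasPointwiseRightKanExtension_of_hasFiniteLimits (C := C) n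
    ((SimplexCategory.Truncated.inclusion n).op ⋙ U)
  have hP := isPointwiseRightKanExtensionOfIsRightKanExtension U
    (𝟙 ((SimplexCategory.Truncated.inclusion n).op ⋙ U))
  exact ⟨isRightKanExtension_of_comp (SimplexCategory.Truncated.incl n m h).op
    (SimplexCategory.Truncated.inclusion m).op U hP⟩

end H6811

/-- In a category with finite limits, an `n`-coskeletal simplicial object is `m`-coskeletal for every `m
≥ n`. -/
theorem result {C : Type u} [Category.{v} C] [HasFiniteLimits C] (U : SimplicialObject C) {n m : ℕ} (h : n ≤ m) [U.IsCoskeletal n] : U.IsCoskeletal m := by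
  exact H6811.main U h

end Groth.Agent.S6811
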