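import Groth.Statements.S6812
import Mathlib
import Mathlib

set_option autoImplicit false
open CategoryTheory
universe u
open SSet

namespace Groth.Agent.S6812

open CategoryTheory
open SSet

namespace H6812
open Simplicial Opposite

variable (U : SSet.{u}) (n : ℕ)

/-- the n-skeleton object -/
noncomputable abbrev F' : SSet.{u} := (SSet.Truncated.sk n).obj ((SSet.truncation n).obj U)

noncomputable abbrev L := (SimplexCategory.Truncated.inclusion n).op

noncomputable abbrev α : (SSet.truncation n).obj U ⟶ L n ⋙ F' U n := (L n).lanUnit.app _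

noncomputable abbrev ε : F' U n ⟶ U := (SSet.skAdj n).counit.app U

lemma ε_α : α U n ≫ Functor.whiskerLeft (L n) (ε U n) = 𝟙 _ := by
  have := (SSet.skAdj n).right_triangle_components U
  exact this

lemma ε_α_apply {a : ℕ} (ha : a ≤ n) (y : U _⦋a⦌) :
    (ε U n).app (op ⦋a⦌) ((α U n).app (op ⟨⦋a⦌, ha⟩) y) = y := by
  have := congr_fun (congr_arg (fun t => (ConcreteCategory.hom (t.app (op ⟨⦋a⦌, ha⟩)) : _ → _)) (ε_α U n)) y
  exact this

/-- naturality of `α` in elementwise form. -/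
lemma α_nat {a b : ℕ} (ha : a ≤ n) (hb : b ≤ n) (f : ⦋b⦌ ⟶ ⦋a⦌) (y : U _⦋a⦌) :
    (α U n).app (op ⟨⦋b⦌, hb⟩) (U.map f.op y) =
      (F' U n).map f.op ((α U n).app (op ⟨⦋a⦌, ha⟩) y) := by
  let A : (SimplexCategory.Truncated n)ᵒᵖ := op ⟨⦋a⦌, ha⟩
  let B : (SimplexCategory.Truncated n)ᵒᵖ := op ⟨⦋b⦌, hb⟩
  let f' : A ⟶ B := Quiver.Hom.op (InducedCategory.homMk f)
  have := congr_fun (congr_arg (fun t => (ConcreteCategory.hom t : _ → _)) ((α U n).naturality f')) y
  exact this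

lemma ε_nat {a b : ℕ} (f : ⦋b⦌ ⟶ ⦋a⦌) (z : (F' U n) _⦋a⦌) :
    (ε U n).app (op ⦋b⦌) ((F' U n).map f.op z) = U.map f.op ((ε U n).app (op ⦋a⦌) z) := by
  have := congr_fun (congr_arg (fun t => (ConcreteCategory.hom t : _ → _)) ((ε U n).naturality f.op)) z
  exact this

/-- first normal form: every simplex of the skeleton comes from a low-dimensional simplex. -/
lemma exists_rep {j : ℕ} (z : (F' U n) _⦋j⦌) :
    ∃ (a : ℕ) (ha : a ≤ n) (f : ⦋j⦌ ⟶ ⦋a⦌) (y : U _⦋a⦌),
      z = (F' U n).map f.op ((α U n).app (op ⟨⦋a⦌, ha⟩) y) := by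
  have hF' : (F' U n).IsLeftKanExtension (α U n) :=
    inferInstanceAs (((L n).lan.obj ((SSet.truncation n).obj U)).IsLeftKanExtension
      ((L n).lanUnit.app ((SSet.truncation n).obj U)))
  have hP := Functor.isPointwiseLeftKanExtensionOfIsLeftKanExtension (F' U n) (α U n)
  have hc := hP (op ⦋j⦌)
  obtain ⟨g, y, hy⟩ := Limits.Types.jointly_surjective_of_isColimit hc z
  have hlen : (g.left.unop.obj).len ≤ n := g.left.unop.property
  refine ⟨(g.left.unop.obj).len, hlen, g.hom.unop, y, ?_⟩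
  rw [← hy]
  rfl

lemma exists_fac {j a : ℕ} (f : ⦋j⦌ ⟶ ⦋a⦌) :
    ∃ (b : ℕ) (e : ⦋j⦌ ⟶ ⦋b⦌) (i : ⦋b⦌ ⟶ ⦋a⦌), Epi e ∧ Mono i ∧ e ≫ i = f :=
  ⟨(Limits.image f).len, Limits.factorThruImage f, Limits.image.ι f, inferInstance, inferInstance,
    Limits.image.fac f⟩

/-- normal form: epi + nondegenerate. -/
lemma exists_normal {j : ℕ} (z : (F' U n) _⦋j⦌) :
    ∃ (c : ℕ) (hc : c ≤ n) (e : ⦋j⦌ ⟶ ⦋c⦌) (_ : Epi e) (y : U.nonDegenerate c),
      z = (F' U n).map e.op ((α U n).app (op ⟨⦋c⦌, hc⟩) y.1) := by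
  obtain ⟨a, ha, f, y, rfl⟩ := exists_rep U n z
  obtain ⟨b, e, i, he, hi, rfl⟩ := exists_fac f
  have hb : b ≤ a := SimplexCategory.len_le_of_mono i
  obtain ⟨c, e', he', y0, hy0⟩ := U.exists_nonDegenerate (U.map i.op y)
  have hcb : c ≤ b := SimplexCategory.len_le_of_epi e'
  refine ⟨c, by omega, e ≫ e', inferInstance, y0, ?_⟩
  rw [op_comp, Functor.map_comp, op_comp, Functor.map_comp]
  simp only [comp_apply]
  rw [← α_nat U n ha (by omega) i y, hy0, α_nat U n (by omega) (by omega) e' y0.1]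

lemma ε_normal {j c : ℕ} (hc : c ≤ n) (e : ⦋j⦌ ⟶ ⦋c⦌) (y : U _⦋c⦌) :
    (ε U n).app (op ⦋j⦌) ((F' U n).map e.op ((α U n).app (op ⟨⦋c⦌, hc⟩) y)) = U.map e.op y := by
  rw [ε_nat, ε_α_apply]

lemma ε_injective (j : ℕ) : Function.Injective ((ε U n).app (op ⦋j⦌)) := by
  intro z z' h
  obtain ⟨c, hc, e, he, y, rfl⟩ := exists_normal U n z
  obtain ⟨c', hc', e', he', y', rfl⟩ := exists_normal U n z'
  rw [ε_normal, ε_normal] at h
  obtain rfl : c = c' := U.unique_nonDegenerate_dim _ e y rfl e' y' h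
  obtain rfl : y = y' := U.unique_nonDegenerate_simplex _ e y rfl e' y' h
  obtain rfl : e = e' := U.unique_nonDegenerate_map _ e y rfl e' y h
  rfl

lemma mono_ε : Mono (ε U n) := by
  rw [NatTrans.mono_iff_mono_app]
  intro X
  rw [CategoryTheory.mono_iff_injective]
  obtain ⟨X⟩ := X
  induction X using SimplexCategory.rec with | _ j
  exact ε_injective U n j

lemma range_ε : SSet.Subcomplex.range (ε U n) = U.skeleton (n + 1) := by
  apply le_antisymm
  · rintro ⟨X⟩ x ⟨z, rfl⟩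
    induction X using SimplexCategory.rec with | _ j
    obtain ⟨a, ha, f, y, rfl⟩ := exists_rep U n z
    rw [ε_normal]
    exact (U.skeleton (n + 1)).map f.op (U.mem_skeleton y (by omega))
  · simp only [SSet.skeleton, OrderHom.coe_mk, iSup_le_iff]
    intro i x
    rw [SSet.Subcomplex.ofSimplex_le_iff]
    have hi : i.1 ≤ n := Nat.lt_succ_iff.mp i.2
    exact ⟨(α U n).app (op ⟨⦋i.1⦌, hi⟩) x.1, ε_α_apply U n hi x.1⟩

theorem main : Mono ((SSet.skAdj n).counit.app U) ∧ SSet.Subcomplex.range ((SSet.skAdj n).counit.app U) = U.skeleton (n + 1) :=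
  ⟨mono_ε U n, range_ε U n⟩

end H6812

/-- For a simplicial set `U`, the counit `i_{n!} sk_n U ⟶ U` of the skeleton adjunction is a
monomorphism whose image is the subcomplex of `U` generated by its simplices of dimension `≤ n`. -/
theorem result (U : SSet.{u}) (n : ℕ) : Mono ((SSet.skAdj n).counit.app U) ∧ SSet.Subcomplex.range ((SSet.skAdj n).counit.app U) = U.skeleton (n + 1) := by
  exact H6812.main U n

end Groth.Agent.S6812
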