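import Groth.Statements.S6813
import Mathlib
import Groth.Agent.Lib.Helper4.Cosk1
import Mathlib

set_option autoImplicit false
open CategoryTheory CategoryTheory.Limits
universe v u
open CategoryTheory CategoryTheory.SimplicialObject

namespace Groth.Agent.S6813

open CategoryTheory CategoryTheory.Limits

namespace H6813
open Functor

theorem main {C : Type u} [Category.{v} C] [HasFiniteLimits C] (X : C) (k : ℕ) (hk : 1 ≤ k)
    (V : SimplicialObject (Over X)) [V.IsCoskeletal k] :
    SimplicialObject.IsCoskeletal (V ⋙ Over.forget X) k := by
  have : NeZero k := ⟨by omega⟩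
  let L := (SimplexCategory.Truncated.inclusion k).op
  have : HasFiniteLimits (Over X) := inferInstance
  have : L.HasPointwiseRightKanExtension (L ⋙ V) :=
    Groth.Agent.Helper4.SK.hasPointwiseRightKanExtension_of_hasFiniteLimits k _
  have : ∀ c, PreservesLimit (StructuredArrow.proj c L ⋙ (L ⋙ V)) (Over.forget X) := fun c => by
    have : IsConnected (StructuredArrow c L) := Functor.Final.out c
    infer_instance
  have h : (Over.forget X).PreservesRightKanExtension (L ⋙ V) L := inferInstance
  have h2 := h.preserves V (𝟙 _)
  constructor
  have e : (Functor.associator L V (Over.forget X)).inv ≫ whiskerRight (𝟙 (L ⋙ V)) (Over.forget X) =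
      𝟙 (L ⋙ V ⋙ Over.forget X) := by
    ext; simp
  rw [e] at h2
  exact h2

end H6813

/-- For `k ≥ 1` the forgetful functor from the over category `C/X` to `C` (with `C` having finite
limits) commutes with `cosk_k`; stated as: a `k`-coskeletal simplicial object of `C/X` has
`k`-coskeletal underlying simplicial object in `C`. -/
theorem result {C : Type u} [Category.{v} C] [HasFiniteLimits C] (X : C) (k : ℕ) (hk : 1 ≤ k) (V : SimplicialObject (Over X)) [V.IsCoskeletal k] : SimplicialObject.IsCoskeletal (V ⋙ Over.forget X) k := by
  exact H6813.main X k hk V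

end Groth.Agent.S6813
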