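import Groth.Statements.S6814
import Mathlib
import Groth.Statements.S6814
-- import your own Groth.Agent.* helpers here

set_option autoImplicit false
open CategoryTheory CategoryTheory.Limits Opposite
universe v u
open CategoryTheory CategoryTheory.SimplicialObject CategoryTheory.SimplicialObject.Truncated

namespace Groth.Agent.S6814

open CategoryTheory CategoryTheory.Limits Opposite
namespace Aux
set_option backward.isDefEq.respectTransparency false
set_option linter.style.haveILetI false

open SimplexCategory Simplicial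

section
variable {C : Type u} [Category.{v} C] (n : ℕ) (U : (SimplexCategory.Truncated (n + 1))ᵒᵖ ⥤ C)
  (T : C)
  (π : Fin (n + 3) → (T ⟶ U.obj (op ⟨SimplexCategory.mk (n + 1), (SimplexCategory.len_mk (n + 1)).le⟩)))
  (hπ : ∀ i j : Fin (n + 2), i ≤ j →
    π (Fin.castSucc i) ≫ U.map (SimplexCategory.Truncated.δ (n + 1) j ((SimplexCategory.len_mk n).trans_le (Nat.le_succ n)) (SimplexCategory.len_mk (n + 1)).le).op
    = π j.succ ≫ U.map (SimplexCategory.Truncated.δ (n + 1) i ((SimplexCategory.len_mk n).trans_le (Nat.le_succ n)) (SimplexCategory.len_mk (n + 1)).le).op)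

/-- the functor along which we extend -/
abbrev D₀ : (SimplexCategory.Truncated (n + 1))ᵒᵖ ⥤ (SimplexCategory.Truncated (n + 2))ᵒᵖ :=
  (SimplexCategory.Truncated.incl (n + 1) (n + 2) (Nat.le_succ _)).op

/-- the top object -/
abbrev S₀ : (SimplexCategory.Truncated (n + 2))ᵒᵖ :=
  op ⟨SimplexCategory.mk (n + 2), (SimplexCategory.len_mk (n + 2)).le⟩

include hπ in
lemma indep_lt (a : SimplexCategory) (ha : a.len ≤ n + 1) (i j : Fin (n + 2)) (hij : i ≤ j)
    (θ' θ'' : a ⟶ ⦋n + 1⦌)
    (h : θ' ≫ SimplexCategory.δ (Fin.castSucc i) = θ'' ≫ SimplexCategory.δ j.succ) :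
    π (Fin.castSucc i) ≫ U.map (Truncated.Hom.tr θ' ha (SimplexCategory.len_mk (n + 1)).le).op =
      π j.succ ≫ U.map (Truncated.Hom.tr θ'' ha (SimplexCategory.len_mk (n + 1)).le).op := by
  have hmiss : ∀ x, θ'.toOrderHom x ≠ j := by
    intro x hx
    have e : (Fin.castSucc i).succAbove (θ'.toOrderHom x) =
        (j.succ).succAbove (θ''.toOrderHom x) := by
      have := congrArg (fun φ => φ.toOrderHom x) h
      simpa [SimplexCategory.δ] using this
    rw [hx, Fin.succAbove_of_le_castSucc _ _ (Fin.castSucc_le_castSucc_iff.2 hij)] at e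
    exact Fin.succAbove_ne _ _ e.symm
  obtain ⟨h0, hh0⟩ := SimplexCategory.eq_comp_δ_of_not_surjective' θ' j hmiss
  have e2 : θ'' = h0 ≫ SimplexCategory.δ i := by
    have : θ'' ≫ SimplexCategory.δ j.succ = (h0 ≫ SimplexCategory.δ i) ≫ SimplexCategory.δ j.succ := by
      rw [← h, hh0, Category.assoc, Category.assoc, SimplexCategory.δ_comp_δ hij]
    exact (cancel_mono (SimplexCategory.δ j.succ)).1 this
  subst hh0
  subst e2
  have hn : (⦋n⦌ : SimplexCategory).len ≤ n + 1 := (SimplexCategory.len_mk n).trans_le (Nat.le_succ n)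
  calc π (Fin.castSucc i) ≫ U.map (Truncated.Hom.tr (h0 ≫ SimplexCategory.δ j) ha
          (SimplexCategory.len_mk (n + 1)).le).op
      = (π (Fin.castSucc i) ≫ U.map (SimplexCategory.Truncated.δ (n + 1) j hn
          (SimplexCategory.len_mk (n + 1)).le).op) ≫ U.map (Truncated.Hom.tr h0 ha hn).op := by
        rw [Category.assoc, ← U.map_comp, ← op_comp]; rfl
    _ = (π j.succ ≫ U.map (SimplexCategory.Truncated.δ (n + 1) i hn
          (SimplexCategory.len_mk (n + 1)).le).op) ≫ U.map (Truncated.Hom.tr h0 ha hn).op := by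
        rw [hπ i j hij]
    _ = π j.succ ≫ U.map (Truncated.Hom.tr (h0 ≫ SimplexCategory.δ i) ha
          (SimplexCategory.len_mk (n + 1)).le).op := by
        rw [Category.assoc, ← U.map_comp, ← op_comp]; rfl

include hπ in
lemma indep (a : SimplexCategory) (ha : a.len ≤ n + 1) (k l : Fin (n + 3))
    (θ' θ'' : a ⟶ ⦋n + 1⦌)
    (h : θ' ≫ SimplexCategory.δ k = θ'' ≫ SimplexCategory.δ l) :
    π k ≫ U.map (Truncated.Hom.tr θ' ha (SimplexCategory.len_mk (n + 1)).le).op =
      π l ≫ U.map (Truncated.Hom.tr θ'' ha (SimplexCategory.len_mk (n + 1)).le).op := by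
  have aux : ∀ (k l : Fin (n + 3)) (θ' θ'' : a ⟶ ⦋n + 1⦌), k < l →
      θ' ≫ SimplexCategory.δ k = θ'' ≫ SimplexCategory.δ l →
      π k ≫ U.map (Truncated.Hom.tr θ' ha (SimplexCategory.len_mk (n + 1)).le).op =
        π l ≫ U.map (Truncated.Hom.tr θ'' ha (SimplexCategory.len_mk (n + 1)).le).op := by
    intro k l θ' θ'' hkl h
    have hk : k ≠ Fin.last _ := ne_of_lt (lt_of_lt_of_le hkl (Fin.le_last l))
    have hl : l ≠ 0 := by
      intro h0
      rw [h0] at hkl
      exact absurd hkl (Fin.not_lt_zero k)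
    obtain ⟨i, rfl⟩ : ∃ i : Fin (n + 2), k = Fin.castSucc i :=
      ⟨k.castPred hk, (Fin.castSucc_castPred k hk).symm⟩
    obtain ⟨j, rfl⟩ : ∃ j : Fin (n + 2), l = j.succ := ⟨l.pred hl, (Fin.succ_pred l hl).symm⟩
    have hij : i ≤ j := by
      have h1 : (i : ℕ) < (j : ℕ) + 1 := by simpa [Fin.lt_def] using hkl
      exact Fin.le_def.2 (by omega)
    exact indep_lt n U T π hπ a ha i j hij θ' θ'' h
  rcases lt_trichotomy k l with hkl | hkl | hkl
  · exact aux k l θ' θ'' hkl h
  · subst hkl
    have := (cancel_mono (SimplexCategory.δ k)).1 h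
    subst this
    rfl
  · exact (aux l k θ'' θ' hkl h.symm).symm

lemma exists_fac (a : SimplexCategory) (ha : a.len ≤ n + 1) (θ : a ⟶ ⦋n + 2⦌) :
    ∃ (k : Fin (n + 3)) (θ' : a ⟶ ⦋n + 1⦌), θ = θ' ≫ SimplexCategory.δ k := by
  apply SimplexCategory.eq_comp_δ_of_not_surjective
  intro hs
  haveI : Epi θ := SimplexCategory.epi_iff_surjective.2 hs
  have h1 := SimplexCategory.len_le_of_epi θ
  simp only [] at h1
  omega

/-- the legs of the cone -/
noncomputable def leg (A : SimplexCategory.Truncated (n + 1)) (θ : A.obj ⟶ ⦋n + 2⦌) :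
    T ⟶ U.obj (op A) :=
  π (exists_fac n A.obj A.property θ).choose ≫
    U.map (Truncated.Hom.tr (exists_fac n A.obj A.property θ).choose_spec.choose A.property
      (SimplexCategory.len_mk (n + 1)).le).op

include hπ in
lemma leg_eq (A : SimplexCategory.Truncated (n + 1)) (θ : A.obj ⟶ ⦋n + 2⦌) (k : Fin (n + 3))
    (θ' : A.obj ⟶ ⦋n + 1⦌) (h : θ = θ' ≫ SimplexCategory.δ k) :
    leg n U T π A θ =
      π k ≫ U.map (Truncated.Hom.tr θ' A.property (SimplexCategory.len_mk (n + 1)).le).op := by
  have h' := (exists_fac n A.obj A.property θ).choose_spec.choose_spec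
  exact indep n U T π hπ A.obj A.property _ _ _ _ (h'.symm.trans h)

lemma theta_comp {X Y : StructuredArrow (S₀ n) (D₀ n)} (φ : X ⟶ Y) :
    Y.hom.unop.hom = φ.right.unop.hom ≫ X.hom.unop.hom := by
  have := StructuredArrow.w φ
  rw [← this]
  rfl

include hπ in
/-- the cone with apex `T` -/
noncomputable def cone : Cone (StructuredArrow.proj (S₀ n) (D₀ n) ⋙ U) where
  pt := T
  π :=
    { app := fun X => leg n U T π X.right.unop X.hom.unop.hom
      naturality := by
        intro X Y φ
        obtain ⟨k, θ', h⟩ := exists_fac n X.right.unop.obj X.right.unop.property X.hom.unop.hom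
        have hY : Y.hom.unop.hom = (φ.right.unop.hom ≫ θ') ≫ SimplexCategory.δ k := by
          rw [theta_comp n φ, h, Category.assoc]
        dsimp only [Functor.const_obj_obj, Functor.const_obj_map, Functor.comp_obj,
          Functor.comp_map, StructuredArrow.proj_obj, StructuredArrow.proj_map]
        rw [Category.id_comp, leg_eq n U T π hπ _ _ k θ' h, leg_eq n U T π hπ _ _ k _ hY,
          Category.assoc, ← U.map_comp]
        rfl }

/-- the objects given by the faces -/
noncomputable def objK (k : Fin (n + 3)) : StructuredArrow (S₀ n) (D₀ n) :=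
  StructuredArrow.mk (Y := op ⟨SimplexCategory.mk (n + 1), (SimplexCategory.len_mk (n + 1)).le⟩)
    (SimplexCategory.Truncated.δ (n + 2) k
      ((SimplexCategory.len_mk (n + 1)).trans_le (Nat.le_succ (n + 1)))
      (SimplexCategory.len_mk (n + 2)).le).op

include hπ in
lemma cone_objK (k : Fin (n + 3)) : (cone n U T π hπ).π.app (objK n k) = π k := by
  have h : (objK n k).hom.unop.hom = 𝟙 _ ≫ SimplexCategory.δ k := (Category.id_comp _).symm
  show leg n U T π _ _ = _
  rw [leg_eq n U T π hπ _ _ k (𝟙 _) h]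
  have : (Truncated.Hom.tr (𝟙 (⦋n + 1⦌ : SimplexCategory)) (SimplexCategory.len_mk (n + 1)).le
      (SimplexCategory.len_mk (n + 1)).le).op = 𝟙 _ := rfl
  erw [this, U.map_id, Category.comp_id]

/-- morphism from a face object -/
noncomputable def homK (X : StructuredArrow (S₀ n) (D₀ n)) (k : Fin (n + 3))
    (θ' : X.right.unop.obj ⟶ ⦋n + 1⦌) (h : X.hom.unop.hom = θ' ≫ SimplexCategory.δ k) :
    objK n k ⟶ X :=
  StructuredArrow.homMk
    (Truncated.Hom.tr θ' X.right.unop.property (SimplexCategory.len_mk (n + 1)).le).op (by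
      apply Quiver.Hom.unop_inj
      apply ObjectProperty.hom_ext
      exact h.symm)

include hπ in
/-- the cone is a limit cone -/
noncomputable def isLimitCone
    (huniv : ∀ (S : C) (g : Fin (n + 3) → (S ⟶ U.obj (op ⟨SimplexCategory.mk (n + 1), (SimplexCategory.len_mk (n + 1)).le⟩))), (∀ i j : Fin (n + 2), i ≤ j → g (Fin.castSucc i) ≫ U.map (SimplexCategory.Truncated.δ (n + 1) j ((SimplexCategory.len_mk n).trans_le (Nat.le_succ n)) (SimplexCategory.len_mk (n + 1)).le).op = g j.succ ≫ U.map (SimplexCategory.Truncated.δ (n + 1) i ((SimplexCategory.len_mk n).trans_le (Nat.le_succ n)) (SimplexCategory.len_mk (n + 1)).le).op) → ∃! t : S ⟶ T, ∀ k : Fin (n + 3), t ≫ π k = g k) :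
    IsLimit (cone n U T π hπ) := by
  have rel : ∀ (s : Cone (StructuredArrow.proj (S₀ n) (D₀ n) ⋙ U)) (i j : Fin (n + 2)), i ≤ j →
      s.π.app (objK n (Fin.castSucc i)) ≫ U.map (SimplexCategory.Truncated.δ (n + 1) j ((SimplexCategory.len_mk n).trans_le (Nat.le_succ n)) (SimplexCategory.len_mk (n + 1)).le).op =
      s.π.app (objK n j.succ) ≫ U.map (SimplexCategory.Truncated.δ (n + 1) i ((SimplexCategory.len_mk n).trans_le (Nat.le_succ n)) (SimplexCategory.len_mk (n + 1)).le).op := by
    intro s i j hij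
    have hn : (⦋n⦌ : SimplexCategory).len ≤ n + 1 :=
      (SimplexCategory.len_mk n).trans_le (Nat.le_succ n)
    let Z : StructuredArrow (S₀ n) (D₀ n) :=
      StructuredArrow.mk (Y := op ⟨SimplexCategory.mk n, hn⟩)
        (Truncated.Hom.tr (SimplexCategory.δ j ≫ SimplexCategory.δ (Fin.castSucc i))
          ((SimplexCategory.len_mk n).trans_le (by omega))
          (SimplexCategory.len_mk (n + 2)).le).op
    let m1 : objK n (Fin.castSucc i) ⟶ Z :=
      homK n Z (Fin.castSucc i) (SimplexCategory.δ j) rfl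
    let m2 : objK n j.succ ⟶ Z :=
      homK n Z j.succ (SimplexCategory.δ i) (SimplexCategory.δ_comp_δ hij).symm
    have e1 := s.w m1
    have e2 := s.w m2
    exact e1.trans e2.symm
  have spec : ∀ (s : Cone (StructuredArrow.proj (S₀ n) (D₀ n) ⋙ U)),
      ∃! t : s.pt ⟶ T, ∀ k : Fin (n + 3), t ≫ π k = s.π.app (objK n k) :=
    fun s => huniv s.pt (fun k => s.π.app (objK n k)) (rel s)
  refine
    { lift := fun s => (spec s).exists.choose
      fac := ?_
      uniq := ?_ }
  · intro s X
    have hl := (spec s).exists.choose_spec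
    obtain ⟨k, θ', h⟩ := exists_fac n X.right.unop.obj X.right.unop.property X.hom.unop.hom
    have e := s.w (homK n X k θ' h)
    show _ ≫ leg n U T π _ _ = _
    rw [leg_eq n U T π hπ _ _ k θ' h, ← Category.assoc, hl k]
    exact e
  · intro s m hm
    refine (spec s).unique (fun k => ?_) (spec s).exists.choose_spec
    rw [← hm (objK n k), cone_objK n U T π hπ k]

include hπ in
theorem main
    (huniv : ∀ (S : C) (g : Fin (n + 3) → (S ⟶ U.obj (op ⟨SimplexCategory.mk (n + 1), (SimplexCategory.len_mk (n + 1)).le⟩))), (∀ i j : Fin (n + 2), i ≤ j → g (Fin.castSucc i) ≫ U.map (SimplexCategory.Truncated.δ (n + 1) j ((SimplexCategory.len_mk n).trans_le (Nat.le_succ n)) (SimplexCategory.len_mk (n + 1)).le).op = g j.succ ≫ U.map (SimplexCategory.Truncated.δ (n + 1) i ((SimplexCategory.len_mk n).trans_le (Nat.le_succ n)) (SimplexCategory.len_mk (n + 1)).le).op) → ∃! t : S ⟶ T, ∀ k : Fin (n + 3), t ≫ π k = g k) :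
    (SimplexCategory.Truncated.incl (n + 1) (n + 2) (Nat.le_succ _)).op.HasPointwiseRightKanExtension U ∧ ∀ (V : (SimplexCategory.Truncated (n + 2))ᵒᵖ ⥤ C) (α : (SimplexCategory.Truncated.incl (n + 1) (n + 2) (Nat.le_succ _)).op ⋙ V ⟶ U) [V.IsRightKanExtension α] (t : V.obj (op ⟨SimplexCategory.mk (n + 2), (SimplexCategory.len_mk (n + 2)).le⟩) ⟶ T), (∀ k : Fin (n + 3), t ≫ π k = V.map (SimplexCategory.Truncated.δ (n + 2) k ((SimplexCategory.len_mk (n + 1)).trans_le (Nat.le_succ (n + 1))) (SimplexCategory.len_mk (n + 2)).le).op ≫ α.app (op ⟨SimplexCategory.mk (n + 1), (SimplexCategory.len_mk (n + 1)).le⟩)) → IsIso t := by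
  have hT : IsLimit (cone n U T π hπ) := isLimitCone n U T π hπ huniv
  have part1 : (D₀ n).HasPointwiseRightKanExtension U := by
    intro Y
    induction Y using Opposite.rec with
    | op Y =>
      obtain ⟨a, ha⟩ := Y
      have ha' : a.len ≤ n + 2 := ha
      by_cases h : a.len ≤ n + 1
      · have hinit : IsInitial (StructuredArrow.mk (𝟙 ((D₀ n).obj (op ⟨a, h⟩)))) :=
          StructuredArrow.mkIdInitial
        haveI : HasInitial (StructuredArrow ((D₀ n).obj (op ⟨a, h⟩)) (D₀ n)) := hinit.hasInitial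
        exact (hasLimit_of_domain_hasInitial :
          HasLimit (StructuredArrow.proj ((D₀ n).obj (op ⟨a, h⟩)) (D₀ n) ⋙ U))
      · have : a = ⦋n + 2⦌ := by
          rw [← SimplexCategory.mk_len a]
          congr 1
          omega
        subst this
        exact ⟨⟨⟨cone n U T π hπ, hT⟩⟩⟩
  refine ⟨part1, ?_⟩
  intro V α _ t ht
  haveI := part1
  have hE : (Functor.RightExtension.mk V α).IsPointwiseRightKanExtension :=
    Functor.isPointwiseRightKanExtensionOfIsRightKanExtension V α
  have hV : IsLimit ((Functor.RightExtension.mk V α).coneAt (S₀ n)) := hE (S₀ n)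
  have key : t = (IsLimit.conePointUniqueUpToIso hV hT).hom := by
    apply hT.hom_ext
    intro X
    rw [IsLimit.conePointUniqueUpToIso_hom_comp]
    obtain ⟨k, θ', h⟩ := exists_fac n X.right.unop.obj X.right.unop.property X.hom.unop.hom
    show t ≫ leg n U T π _ _ = V.map X.hom ≫ α.app X.right
    rw [leg_eq n U T π hπ _ _ k θ' h, ← Category.assoc, ht k, Category.assoc]
    have nat := α.naturality
      (Truncated.Hom.tr θ' X.right.unop.property (SimplexCategory.len_mk (n + 1)).le).op
    erw [← nat]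
    rw [← Category.assoc]
    congr 1
    rw [Functor.comp_map, ← V.map_comp]
    congr 1
    exact StructuredArrow.w (homK n X k θ' h)
  rw [key]
  infer_instance

end

end Aux

/-- Let `U` be an `(n+1)`-truncated simplicial object of a category `C` (so the truncation level is at
least `1`), and let `T` be an object with morphisms `π_0, …, π_{n+2} : T ⟶ U_{n+1}` satisfying the
face relations `d_j π_i = d_i π_{j+1}` for `i ≤ j` and universal among such families (that is, `T`
represents the functor of `(n+3)`-tuples of morphisms to `U_{n+1}` satisfying the face relations).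
Then `U` extends to an `(n+2)`-truncated simplicial object right adjoint to restriction: the
pointwise right Kan extension of `U` along the inclusion of `(n+1)`-truncated into `(n+2)`-truncated
simplex categories exists, and for any right Kan extension `V` of `U` the morphism `V_{n+2} ⟶ T`
matching the faces of `V` with the `π_k` is an isomorphism (the new top term is the representing
object). -/
theorem result {C : Type u} [Category.{v} C] (n : ℕ) (U : (SimplexCategory.Truncated (n + 1))ᵒᵖ ⥤ C) (T : C) (π : Fin (n + 3) → (T ⟶ U.obj (op ⟨SimplexCategory.mk (n + 1), (SimplexCategory.len_mk (n + 1)).le⟩))) (hπ : ∀ i j : Fin (n + 2), i ≤ j → π (Fin.castSucc i) ≫ U.map (SimplexCategory.Truncated.δ (n + 1) j ((SimplexCategory.len_mk n).trans_le (Nat.le_succ n)) (SimplexCategory.len_mk (n + 1)).le).op = π j.succ ≫ U.map (SimplexCategory.Truncated.δ (n + 1) i ((SimplexCategory.len_mk n).trans_le (Nat.le_succ n)) (SimplexCategory.len_mk (n + 1)).le).op) (huniv : ∀ (S : C) (g : Fin (n + 3) → (S ⟶ U.obj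 (op ⟨SimplexCategory.mk (n + 1), (SimplexCategory.len_mk (n + 1)).le⟩))), (∀ i j : Fin (n + 2), i ≤ j → g (Fin.castSucc i) ≫ U.map (SimplexCategory.Truncated.δ (n + 1) j ((SimplexCategory.len_mk n).trans_le (Nat.le_succ n)) (SimplexCategory.len_mk (n + 1)).le).op = g j.succ ≫ U.map (SimplexCategory.Truncated.δ (n + 1) i ((SimplexCategory.len_mk n).trans_le (Nat.le_succ n)) (SimplexCategory.len_mk (n + 1)).le).op) → ∃! t : S ⟶ T, ∀ k : Fin (n + 3), t ≫ π k = g k) : (SimplexCategory.Truncated.incl (n + 1) (n + 2) (Nat.le_succ _)).op.HasPointwiseRightKanExtension U ∧ ∀ (V : (SimplexCategory.Truncated (n + 2))ᵒᵖ ⥤ C) (α : (SimplexCategory.Truncated.incl (n + 1) (n + 2) (Nat.le_succ _)).op ⋙ V ⟶ U) [V.IsRightKanExtension α] (t : V.obj (op ⟨SimplexCategory.mk (n + 2), (SimplexCategory.len_mk (n + 2)).le⟩) ⟶ T), (∀ k : Fin (n + 3), t ≫ π k = V.map (SimplexCategory.Truncated.δ (n + 2) k ((SimplexCategory.len_mk (n + 1)).trans_le (Nat.le_succ (n + 1))) (SimplexCategory.len_mk (n + 2)).le).op ≫ α.app (op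 ⟨SimplexCategory.mk (n + 1), (SimplexCategory.len_mk (n + 1)).le⟩)) → IsIso t := by
  exact Aux.main n U T π hπ huniv

end Groth.Agent.S6814
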