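import Groth.Statements.S6815
import Mathlib

set_option autoImplicit false
open CategoryTheory CategoryTheory.Limits
universe w v u
open CategoryTheory CategoryTheory.SimplicialObject

namespace Groth.Agent.S6815

open CategoryTheory CategoryTheory.Limits CategoryTheory.SimplicialObject Opposite Simplicial


section
variable {C : Type u} [Category.{v} C] {T : Type w} [HasLimitsOfShape (Discrete T) C]

/-- the product of simplicial objects is computed degreewise -/
noncomputable def evIsLimit (Y : T → SimplicialObject C) (k : SimplexCategoryᵒᵖ) :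
    IsLimit (((evaluation _ C).obj k).mapCone (limit.cone (Discrete.functor Y))) :=
  isLimitOfPreserves ((evaluation _ C).obj k) (limit.isLimit _)

theorem pi_hom_ext (Y : T → SimplicialObject C) (k : SimplexCategoryᵒᵖ) {W : C}
    (f g : W ⟶ (∏ᶜ Y).obj k) (h : ∀ t, f ≫ (Pi.π Y t).app k = g ≫ (Pi.π Y t).app k) : f = g := by
  apply (evIsLimit Y k).hom_ext
  rintro ⟨t⟩
  exact h t

noncomputable def piLift (Y : T → SimplicialObject C) (k : SimplexCategoryᵒᵖ) {W : C}
    (f : ∀ t, W ⟶ (Y t).obj k) : W ⟶ (∏ᶜ Y).obj k :=
  (evIsLimit Y k).lift ⟨W, Discrete.natTrans (fun ⟨t⟩ => f t)⟩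

@[reassoc (attr := simp)]
theorem piLift_π (Y : T → SimplicialObject C) (k : SimplexCategoryᵒᵖ) {W : C}
    (f : ∀ t, W ⟶ (Y t).obj k) (t : T) : piLift Y k f ≫ (Pi.π Y t).app k = f t :=
  (evIsLimit Y k).fac _ ⟨t⟩

theorem nonempty_homotopy_pi {X Y : T → SimplicialObject C} (a b : ∀ t, X t ⟶ Y t)
    (h : ∀ t, Nonempty (SimplicialObject.Homotopy (a t) (b t))) :
    Nonempty (SimplicialObject.Homotopy (Limits.Pi.map a) (Limits.Pi.map b)) := by
  have H := fun t => (h t).some
  have hmap : ∀ (c : ∀ t, X t ⟶ Y t) (k : SimplexCategoryᵒᵖ) (t : T),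
      (Limits.Pi.map c).app k ≫ (Pi.π Y t).app k = (Pi.π X t).app k ≫ (c t).app k := by
    intro c k t
    rw [← NatTrans.comp_app, ← NatTrans.comp_app, Limits.Pi.map_π]
  refine ⟨{
    h := fun {n} i => piLift Y (op ⦋n + 1⦌) (fun t => (Pi.π X t).app (op ⦋n⦌) ≫ (H t).h i)
    h_zero_comp_δ_zero := ?_
    h_last_comp_δ_last := ?_
    h_succ_comp_δ_castSucc_of_lt := ?_
    h_succ_comp_δ_castSucc_succ := ?_
    h_castSucc_comp_δ_succ_of_lt := ?_
    h_comp_σ_castSucc_of_le := ?_
    h_comp_σ_succ_of_lt := ?_ }⟩
  · intro n
    apply pi_hom_ext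
    intro t
    rw [Category.assoc, SimplicialObject.δ_naturality, piLift_π_assoc, Category.assoc,
      (H t).h_zero_comp_δ_zero, hmap]
  · intro n
    apply pi_hom_ext
    intro t
    rw [Category.assoc, SimplicialObject.δ_naturality, piLift_π_assoc, Category.assoc,
      (H t).h_last_comp_δ_last, hmap]
  · intro n i j hij
    apply pi_hom_ext
    intro t
    rw [Category.assoc, SimplicialObject.δ_naturality, piLift_π_assoc, Category.assoc,
      (H t).h_succ_comp_δ_castSucc_of_lt i j hij, Category.assoc, piLift_π,
      SimplicialObject.δ_naturality_assoc]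
  · intro n j
    apply pi_hom_ext
    intro t
    rw [Category.assoc, SimplicialObject.δ_naturality, piLift_π_assoc, Category.assoc,
      (H t).h_succ_comp_δ_castSucc_succ j, Category.assoc, SimplicialObject.δ_naturality,
      piLift_π_assoc, Category.assoc]
  · intro n i j hji
    apply pi_hom_ext
    intro t
    rw [Category.assoc, SimplicialObject.δ_naturality, piLift_π_assoc, Category.assoc,
      (H t).h_castSucc_comp_δ_succ_of_lt i j hji, Category.assoc, piLift_π,
      SimplicialObject.δ_naturality_assoc]
  · intro n i j hij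
    apply pi_hom_ext
    intro t
    rw [Category.assoc, SimplicialObject.σ_naturality, piLift_π_assoc, Category.assoc,
      (H t).h_comp_σ_castSucc_of_le i j hij, Category.assoc, piLift_π,
      SimplicialObject.σ_naturality_assoc]
  · intro n i j hji
    apply pi_hom_ext
    intro t
    rw [Category.assoc, SimplicialObject.σ_naturality, piLift_π_assoc, Category.assoc,
      (H t).h_comp_σ_succ_of_lt i j hji, Category.assoc, piLift_π,
      SimplicialObject.σ_naturality_assoc]
end

/-- Homotopies between the factors of two product morphisms of simplicial objects assemble to a homotopy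
between the products. -/
theorem result {C : Type u} [Category.{v} C] {T : Type w} [HasLimitsOfShape (Discrete T) C] {X Y : T → SimplicialObject C} (a b : ∀ t, X t ⟶ Y t) (h : ∀ t, Nonempty (SimplicialObject.Homotopy (a t) (b t))) : Nonempty (SimplicialObject.Homotopy (Limits.Pi.map a) (Limits.Pi.map b)) := by
  exact nonempty_homotopy_pi a b h

end Groth.Agent.S6815
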