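import Groth.Statements.S6816
import Mathlib

set_option autoImplicit false
open CategoryTheory CategoryTheory.Limits
universe v u
open CochainComplex

namespace Groth.Agent.S6816

open CategoryTheory Limits

theorem alg_split {C : Type*} [Category C] [Preadditive C] {A₁ A₂ A₃ B₁ B₂ B₃ : C}
    (f : A₁ ⟶ A₂) (g : A₂ ⟶ A₃) (f' : B₁ ⟶ B₂) (g' : B₂ ⟶ B₃)
    (d₁ : A₁ ⟶ B₁) (d₂ : A₂ ⟶ B₂) (d₃ : A₃ ⟶ B₃)
    (c1 : f ≫ d₂ = d₁ ≫ f') (c2 : g ≫ d₃ = d₂ ≫ g')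
    (s s₀ : A₃ ⟶ A₂) (r₀ : A₂ ⟶ A₁) (hs : s ≫ g = 𝟙 _) (hs₀ : s₀ ≫ g = 𝟙 _)
    (hid₀ : r₀ ≫ f + g ≫ s₀ = 𝟙 A₂)
    (S S₀ : B₃ ⟶ B₂) (R R₀ : B₂ ⟶ B₁) (hR : R ≫ f' + g' ≫ S = 𝟙 _)
    (hR₀ : R₀ ≫ f' + g' ≫ S₀ = 𝟙 _) (hS : S ≫ g' = 𝟙 _) (hfR : f' ≫ R = 𝟙 _) :
    s ≫ d₂ ≫ R = (s ≫ r₀) ≫ d₁ - d₃ ≫ (S ≫ R₀) + s₀ ≫ d₂ ≫ R₀ := by
  have : Mono f' := mono_of_mono_fac hfR
  rw [← cancel_mono f']
  have eR : R ≫ f' = 𝟙 _ - g' ≫ S := eq_sub_of_add_eq hR
  have eR₀ : R₀ ≫ f' = 𝟙 _ - g' ≫ S₀ := eq_sub_of_add_eq hR₀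
  have er₀ : r₀ ≫ f = 𝟙 _ - g ≫ s₀ := eq_sub_of_add_eq hid₀
  have L : (s ≫ d₂ ≫ R) ≫ f' = s ≫ d₂ - d₃ ≫ S := by
    rw [Category.assoc, Category.assoc, eR, Preadditive.comp_sub, Preadditive.comp_sub,
      Category.comp_id, ← Category.assoc d₂, ← c2, Category.assoc, ← Category.assoc s,
      hs, Category.id_comp]
  have R1 : ((s ≫ r₀) ≫ d₁) ≫ f' = s ≫ d₂ - s₀ ≫ d₂ := by
    rw [Category.assoc, Category.assoc, ← c1, ← Category.assoc r₀, er₀, Preadditive.sub_comp,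
      Preadditive.comp_sub, Category.id_comp, Category.assoc, ← Category.assoc s, hs,
      Category.id_comp]
  have R2 : (d₃ ≫ (S ≫ R₀)) ≫ f' = d₃ ≫ S - d₃ ≫ S₀ := by
    rw [Category.assoc, Category.assoc, eR₀, Preadditive.comp_sub, Preadditive.comp_sub,
      Category.comp_id, ← Category.assoc S, hS, Category.id_comp]
  have R3 : (s₀ ≫ d₂ ≫ R₀) ≫ f' = s₀ ≫ d₂ - d₃ ≫ S₀ := by
    rw [Category.assoc, Category.assoc, eR₀, Preadditive.comp_sub, Preadditive.comp_sub,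
      Category.comp_id, ← Category.assoc d₂, ← c2, Category.assoc, ← Category.assoc s₀,
      hs₀, Category.id_comp]
  rw [L, Preadditive.add_comp, Preadditive.sub_comp, R1, R2, R3]
  abel

open CochainComplex HomComplex HomologicalComplex

theorem homotopy_two_splittings {C : Type*} [Category C] [Preadditive C] [HasBinaryBiproducts C]
    (S : ShortComplex (CochainComplex C ℤ))
    (σ σ' : ∀ n : ℤ, (S.map (HomologicalComplex.eval C (ComplexShape.up ℤ) n)).Splitting) :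
    Nonempty (Homotopy (CochainComplex.homOfDegreewiseSplit S σ)
      (CochainComplex.homOfDegreewiseSplit S σ')) := by
  let t : Cochain S.X₃ S.X₁ 0 := Cochain.ofHoms (fun n => (σ n).s ≫ (σ' n).r)
  have key : (cocycleOfDegreewiseSplit S σ).1 = δ 0 1 t + (cocycleOfDegreewiseSplit S σ').1 := by
    ext p q hpq
    obtain rfl : q = p + 1 := by omega
    rw [Cochain.add_v, δ_v 0 1 (by omega) t p (p + 1) rfl p (p + 1) (by omega) rfl]
    simp only [cocycleOfDegreewiseSplit, Cocycle.mk_coe, Cochain.mk_v, t, Cochain.ofHoms_v,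
      Int.negOnePow_one, Units.neg_smul, one_smul]
    have := alg_split (S.f.f p) (S.g.f p) (S.f.f (p + 1)) (S.g.f (p + 1))
      (S.X₁.d p (p + 1)) (S.X₂.d p (p + 1)) (S.X₃.d p (p + 1)) (S.f.comm p (p + 1))
      (S.g.comm p (p + 1)) (σ p).s (σ' p).s (σ' p).r (σ p).s_g (σ' p).s_g (σ' p).id
      (σ (p + 1)).s (σ' (p + 1)).s (σ (p + 1)).r (σ' (p + 1)).r (σ (p + 1)).id (σ' (p + 1)).id
      (σ (p + 1)).s_g (σ (p + 1)).f_r
    rw [sub_eq_add_neg] at this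
    exact this
  refine ⟨(Cochain.equivHomotopy _ _).symm ⟨-(t.rightShift 1 (-1) (by omega)), ?_⟩⟩
  have h1 : ∀ τ : ∀ n : ℤ, (S.map (HomologicalComplex.eval C (ComplexShape.up ℤ) n)).Splitting,
      Cochain.ofHom (homOfDegreewiseSplit S τ) =
        (cocycleOfDegreewiseSplit S τ).1.rightShift 1 0 (zero_add 1) := by
    intro τ
    rw [homOfDegreewiseSplit]
    exact Cocycle.cochain_ofHom_homOf_eq_coe _
  rw [h1 σ, h1 σ', key, Cochain.rightShift_add, δ_neg,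
    Cochain.δ_rightShift t 1 (-1) 0 (by omega) 1 (by omega)]
  simp

/-- The boundary morphisms `C ⟶ A⟦1⟧` attached to two degreewise splittings of a degreewise split
sequence `A ⟶ B ⟶ C` of cochain complexes are homotopic. -/
theorem result {C : Type u} [Category.{v} C] [Preadditive C] [HasBinaryBiproducts C] (S : ShortComplex (CochainComplex C ℤ)) (σ σ' : ∀ n : ℤ, (S.map (HomologicalComplex.eval C (ComplexShape.up ℤ) n)).Splitting) : Nonempty (Homotopy (CochainComplex.homOfDegreewiseSplit S σ) (CochainComplex.homOfDegreewiseSplit S σ')) := by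
  exact homotopy_two_splittings S σ σ'

end Groth.Agent.S6816
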