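import Groth.Statements.S6818
import Mathlib

set_option autoImplicit false
open CategoryTheory CategoryTheory.Limits Opposite
universe v u
open CategoryTheory CategoryTheory.Abelian

namespace Groth.Agent.S6818

open CategoryTheory CategoryTheory.Limits
open CategoryTheory CategoryTheory.Abelian Opposite

namespace H6818
open Simplicial AlgebraicTopology AlgebraicTopology.DoldKan

variable {A : Type u} [Category.{v} A] [Abelian A]

lemma image_le_iff {X Y : A} (T : Subobject Y) (f : X ⟶ Y) :
    imageSubobject f ≤ T ↔ T.Factors f := by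
  constructor
  · intro h
    have := Subobject.factors_of_le (factorThruImageSubobject f ≫ (imageSubobject f).arrow) h
      (Subobject.factors_comp_arrow _)
    simpa using this
  · intro h
    exact imageSubobject_le f (T.factorThru f h) (Subobject.factorThru_arrow _ _ h)

lemma le_pullback_iff {X Y : A} (S : Subobject X) (T : Subobject Y) (f : X ⟶ Y) :
    S ≤ (Subobject.pullback f).obj T ↔ imageSubobject (S.arrow ≫ f) ≤ T := by
  rw [image_le_iff, ← pullback_factors_iff]
  constructor
  · intro h
    exact Subobject.factors_of_le _ h (Subobject.factors_self S)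
  · intro h
    exact Subobject.le_of_factors h

lemma image_le_pullback_iff {W X Y : A} (g : W ⟶ X) (T : Subobject Y) (f : X ⟶ Y) :
    imageSubobject g ≤ (Subobject.pullback f).obj T ↔ imageSubobject (g ≫ f) ≤ T := by
  rw [image_le_iff, image_le_iff, pullback_factors_iff]

theorem main (U : SimplicialObject A) (n : ℕ) (U' : ∀ m : ℕ, Subobject (U.obj (op (SimplexCategory.mk m)))) (hU' : ∀ m : ℕ, IsLUB (Set.range (fun φ : Σ i : Fin (n + 1), (SimplexCategory.mk m ⟶ SimplexCategory.mk i) => imageSubobject (U.map φ.2.op))) (U' m)) : (∀ (m m' : ℕ) (ψ : SimplexCategory.mk m' ⟶ SimplexCategory.mk m), imageSubobject ((U' m).arrow ≫ U.map ψ.op) ≤ U' m') ∧ (∀ i : ℕ, i ≤ n → U' i = ⊤) ∧ (∀ m : ℕ, n < m → U' m ⊓ AlgebraicTopology.NormalizedMooreComplex.objX U m = ⊥) := by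
  refine ⟨?_, ?_, ?_⟩
  · intro m m' ψ
    rw [← le_pullback_iff]
    apply (hU' m).2
    rintro _ ⟨⟨i, φ⟩, rfl⟩
    dsimp only
    rw [image_le_pullback_iff, ← Functor.map_comp, ← op_comp]
    exact (hU' m').1 ⟨⟨i, ψ ≫ φ⟩, rfl⟩
  · intro i hi
    rw [eq_top_iff]
    refine le_trans ?_ ((hU' i).1 ⟨⟨⟨i, Nat.lt_succ_of_le hi⟩, 𝟙 _⟩, rfl⟩)
    dsimp only
    rw [op_id, U.map_id, imageSubobject_mono, Subobject.mk_eq_top_of_isIso]
  · intro m hm
    obtain ⟨m, rfl⟩ : ∃ k, m = k + 1 := ⟨m - 1, by omega⟩
    let p : U.obj (op ⦋m + 1⦌) ⟶ U.obj (op ⦋m + 1⦌) :=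
      (PInfty : (AlternatingFaceMapComplex.obj U) ⟶ _).f (m + 1)
    have hσ : ∀ i : Fin (m + 1), U.σ i ≫ p = 0 := fun i => σ_comp_PInfty U i
    have hN : (NormalizedMooreComplex.objX U (m + 1)).arrow ≫ p =
        (NormalizedMooreComplex.objX U (m + 1)).arrow := by
      have h1 := congr_arg (fun φ => φ.f (m + 1)) (inclusionOfMooreComplexMap_comp_PInfty U)
      exact h1
    have hle : U' (m + 1) ≤ kernelSubobject p := by
      apply (hU' (m + 1)).2
      rintro _ ⟨⟨i, φ⟩, rfl⟩
      dsimp only
      rw [image_le_iff]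
      apply kernelSubobject_factors
      have hni : ¬ Function.Injective φ.toOrderHom := by
        intro hinj
        have : Mono φ := by
          rw [SimplexCategory.mono_iff_injective]; exact hinj
        have h5 : (⦋m + 1⦌ : SimplexCategory).len ≤ (⦋i.1⦌ : SimplexCategory).len :=
          SimplexCategory.len_le_of_mono φ
        change m + 1 ≤ i.1 at h5
        have := i.2
        omega
      obtain ⟨j, θ', hθ⟩ := SimplexCategory.eq_σ_comp_of_not_injective φ hni
      rw [hθ, op_comp, Functor.map_comp, Category.assoc]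
      have h3 : U.map (SimplexCategory.σ j).op ≫ p = 0 := hσ j
      rw [h3, comp_zero]
    rw [eq_bot_iff]
    set S := U' (m + 1) ⊓ NormalizedMooreComplex.objX U (m + 1) with hS
    have h1 : S.arrow ≫ p = 0 := by
      have : (kernelSubobject p).Factors S.arrow :=
        Subobject.factors_of_le _ (inf_le_left.trans hle) (Subobject.factors_self S)
      rw [← kernelSubobject_factors_iff]
      exact this
    have h2 : S.arrow ≫ p = S.arrow := by
      have : (NormalizedMooreComplex.objX U (m + 1)).Factors S.arrow :=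
        Subobject.factors_of_le _ inf_le_right (Subobject.factors_self S)
      rw [← Subobject.factorThru_arrow _ _ this, Category.assoc, hN]
    rw [h1] at h2
    rw [← Subobject.mk_arrow S, Subobject.mk_eq_bot_iff_zero.mpr h2.symm]

end H6818

/-- For a simplicial object `U` of an abelian category and `n ≥ 0`, the subobjects `U'_m ⊆ U_m`
generated by the images of all `U_i ⟶ U_m` induced by maps `[m] ⟶ [i]` with `i ≤ n` form a
simplicial subobject equal to `U` in dimensions `≤ n` whose normalized part vanishes in dimensions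
`> n`. Here the normalized subobject of `U_m` is the joint kernel of the faces `d_1, …, d_m`; the
published statement uses the faces `d_0, …, d_{m-1}`, the mirror-image convention, and both versions
hold. -/
theorem result {A : Type u} [Category.{v} A] [Abelian A] (U : SimplicialObject A) (n : ℕ) (U' : ∀ m : ℕ, Subobject (U.obj (op (SimplexCategory.mk m)))) (hU' : ∀ m : ℕ, IsLUB (Set.range (fun φ : Σ i : Fin (n + 1), (SimplexCategory.mk m ⟶ SimplexCategory.mk i) => imageSubobject (U.map φ.2.op))) (U' m)) : (∀ (m m' : ℕ) (ψ : SimplexCategory.mk m' ⟶ SimplexCategory.mk m), imageSubobject ((U' m).arrow ≫ U.map ψ.op) ≤ U' m') ∧ (∀ i : ℕ, i ≤ n → U' i = ⊤) ∧ (∀ m : ℕ, n < m → U' m ⊓ AlgebraicTopology.NormalizedMooreComplex.objX U m = ⊥) := by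
  exact H6818.main U n U' hU'

end Groth.Agent.S6818
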