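import Groth.Statements.S6819
import Mathlib
import Groth.Agent.Lib.Helper4.Cosk1

set_option autoImplicit false
open CategoryTheory CategoryTheory.Limits Opposite
universe v u
open CategoryTheory CategoryTheory.Abelian

namespace Groth.Agent.S6819

open CategoryTheory CategoryTheory.Limits
open CategoryTheory CategoryTheory.Abelian Opposite

namespace H6819
open Simplicial AlgebraicTopology AlgebraicTopology.DoldKan

variable {A : Type u} [Category.{v} A] [Abelian A]

/-- every simplicial object of an abelian category is split (Dold–Kan). -/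
noncomputable def splitting (U : SimplicialObject A) : SimplicialObject.Splitting U :=
  (Γ₀.splitting ((CategoryTheory.Abelian.DoldKan.N).obj U)).ofIso
    ((CategoryTheory.Abelian.DoldKan.equivalence (A := A)).unitIso.app U).symm

lemma image_le_iff {X Y : A} (T : Subobject Y) (f : X ⟶ Y) :
    imageSubobject f ≤ T ↔ T.Factors f := by
  constructor
  · intro h
    have := Subobject.factors_of_le (factorThruImageSubobject f ≫ (imageSubobject f).arrow) h
      (Subobject.factors_comp_arrow _)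
    simpa using this
  · intro h
    exact imageSubobject_le f (T.factorThru f h) (Subobject.factorThru_arrow _ _ h)

lemma factors_of_isColimit {J : Type*} [Category J] {F : J ⥤ A} {c : Cocone F} (hc : IsColimit c)
    {Y : A} (T : Subobject Y) (f : c.pt ⟶ Y) (h : ∀ j, T.Factors (c.ι.app j ≫ f)) :
    T.Factors f := by
  let c' : Cocone F :=
    { pt := (T : A)
      ι :=
        { app := fun j => T.factorThru _ (h j)
          naturality := by
            intro j j' u
            rw [← cancel_mono T.arrow]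
            simp } }
  have key : hc.desc c' ≫ T.arrow = f := by
    apply hc.hom_ext
    intro j
    rw [hc.fac_assoc]
    exact Subobject.factorThru_arrow _ _ (h j)
  rw [← key]
  exact Subobject.factors_comp_arrow _


section
variable (U : SimplicialObject A) (n : ℕ)
  [∀ F : (SimplexCategory.Truncated n)ᵒᵖ ⥤ A, (SimplexCategory.Truncated.inclusion n).op.HasLeftKanExtension F]

/-- the n-skeleton object -/
noncomputable abbrev F' : SimplicialObject A :=
  (SimplicialObject.Truncated.sk n).obj ((SimplicialObject.truncation n).obj U)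

noncomputable abbrev L := (SimplexCategory.Truncated.inclusion n).op

noncomputable abbrev α : (SimplicialObject.truncation n).obj U ⟶ L n ⋙ F' U n := (L n).lanUnit.app _

noncomputable abbrev ε : F' U n ⟶ U := (SimplicialObject.skAdj n).counit.app U

lemma ε_α : α U n ≫ Functor.whiskerLeft (L n) (ε U n) = 𝟙 _ := by
  exact (L n).lanUnit_app_whiskerLeft_lanAdjunction_counit_app U

/-- components of the unit, with convenient typing -/
noncomputable def a {Δ' : SimplexCategory} (h : Δ'.len ≤ n) :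
    U.obj (op Δ') ⟶ (F' U n).obj (op Δ') :=
  (α U n).app (op ⟨Δ', h⟩)

lemma a_ε {Δ' : SimplexCategory} (h : Δ'.len ≤ n) :
    a U n h ≫ (ε U n).app (op Δ') = 𝟙 _ :=
  (L n).lanUnit_app_app_lanAdjunction_counit_app_app U (op ⟨Δ', h⟩)

lemma a_nat {Δ' Δ'' : SimplexCategory} (h : Δ'.len ≤ n) (h' : Δ''.len ≤ n) (ψ : Δ' ⟶ Δ'') :
    U.map ψ.op ≫ a U n h = a U n h' ≫ (F' U n).map ψ.op := by
  let X' : (SimplexCategory.Truncated n)ᵒᵖ := op ⟨Δ', h⟩
  let X'' : (SimplexCategory.Truncated n)ᵒᵖ := op ⟨Δ'', h'⟩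
  let f' : X'' ⟶ X' := Quiver.Hom.op (InducedCategory.homMk ψ)
  exact (α U n).naturality f'

/-- the canonical maps into the skeleton -/
noncomputable def J {m : ℕ} {Δ' : SimplexCategory} (φ : ⦋m⦌ ⟶ Δ') (h : Δ'.len ≤ n) :
    U.obj (op Δ') ⟶ (F' U n).obj (op ⦋m⦌) :=
  a U n h ≫ (F' U n).map φ.op

lemma J_ε {m : ℕ} {Δ' : SimplexCategory} (φ : ⦋m⦌ ⟶ Δ') (h : Δ'.len ≤ n) :
    J U n φ h ≫ (ε U n).app (op ⦋m⦌) = U.map φ.op := by
  rw [J, Category.assoc, (ε U n).naturality, reassoc_of% (a_ε U n h)]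

lemma map_J {m : ℕ} {Δ' Δ'' : SimplexCategory} (φ : ⦋m⦌ ⟶ Δ') (h : Δ'.len ≤ n)
    (ψ : Δ' ⟶ Δ'') (h' : Δ''.len ≤ n) :
    U.map ψ.op ≫ J U n φ h = J U n (φ ≫ ψ) h' := by
  rw [J, J, reassoc_of% (a_nat U n h h' ψ), op_comp, Functor.map_comp]

lemma hom_ext_F' {m : ℕ} {Z : A} (f g : (F' U n).obj (op ⦋m⦌) ⟶ Z)
    (h : ∀ (Δ' : SimplexCategory) (h : Δ'.len ≤ n) (φ : ⦋m⦌ ⟶ Δ'), J U n φ h ≫ f = J U n φ h ≫ g) :
    f = g := by
  have hF' : (F' U n).IsLeftKanExtension (α U n) :=
    inferInstanceAs (((L n).lan.obj ((SimplicialObject.truncation n).obj U)).IsLeftKanExtension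
      ((L n).lanUnit.app ((SimplicialObject.truncation n).obj U)))
  have : (L n).HasPointwiseLeftKanExtension ((SimplicialObject.truncation n).obj U) :=
    Groth.Agent.Helper4.SK.hasPointwiseLeftKanExtension_of_hasFiniteColimits n _
  have hP := Functor.isPointwiseLeftKanExtensionOfIsLeftKanExtension (F' U n) (α U n)
  have hc := hP (op ⦋m⦌)
  apply hc.hom_ext
  intro g'
  exact h g'.left.unop.obj g'.left.unop.property g'.hom.unop


open SimplicialObject in
/-- the retraction of the counit -/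
noncomputable def r (m : ℕ) : U.obj (op ⦋m⦌) ⟶ (F' U n).obj (op ⦋m⦌) :=
  (splitting U).desc (op ⦋m⦌) (fun B =>
    if h : B.1.unop.len ≤ n then (splitting U).ι B.1.unop.len ≫ J U n B.e h else 0)

open SimplicialObject in
lemma map_r {m : ℕ} {Δ' : SimplexCategory} (e : ⦋m⦌ ⟶ Δ') [Epi e] (h : Δ'.len ≤ n) :
    U.map e.op ≫ r U n m = J U n e h := by
  apply (splitting U).hom_ext'
  intro C
  obtain ⟨⟨Δ''⟩, e'', he''⟩ := C
  have : Epi e'' := he''
  have hC : Δ''.len ≤ n := (SimplexCategory.len_le_of_epi e'').trans h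
  let B : Splitting.IndexSet (op ⦋m⦌) := Splitting.IndexSet.mk (e ≫ e'')
  have hB : ((splitting U).cofan (op ⦋m⦌)).inj B ≫ r U n m =
      (splitting U).ι Δ''.len ≫ J U n (e ≫ e'') hC :=
    ((splitting U).ι_desc (op ⦋m⦌) _ B).trans (dif_pos hC)
  have hB' : ((splitting U).cofan (op ⦋m⦌)).inj B =
      (splitting U).ι Δ''.len ≫ U.map (e ≫ e'').op := rfl
  change ((splitting U).ι Δ''.len ≫ U.map e''.op) ≫ U.map e.op ≫ r U n m =
    ((splitting U).ι Δ''.len ≫ U.map e''.op) ≫ J U n e h
  have hB'' : ((splitting U).ι Δ''.len ≫ U.map (e ≫ e'').op) ≫ r U n m =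
      (splitting U).ι Δ''.len ≫ J U n (e ≫ e'') hC := hB
  rw [Category.assoc, Category.assoc, map_J U n e h e'' hC, ← hB'', Category.assoc,
    op_comp, Functor.map_comp, Category.assoc]

lemma ε_r (m : ℕ) : (ε U n).app (op ⦋m⦌) ≫ r U n m = 𝟙 _ := by
  apply hom_ext_F' U n
  intro Δ' h φ
  rw [reassoc_of% (J_ε U n φ h), Category.comp_id]
  have hfac := image.fac φ
  have hlen : (image φ).len ≤ n := (SimplexCategory.len_le_of_mono (image.ι φ)).trans h
  conv_lhs => rw [← hfac, op_comp, Functor.map_comp, Category.assoc,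
    map_r U n (factorThruImage φ) hlen, map_J U n (factorThruImage φ) hlen (image.ι φ) h]
  congr 1

lemma mono_ε (m : ℕ) : Mono ((ε U n).app (op ⦋m⦌)) :=
  mono_of_mono_fac (ε_r U n m)


lemma image_ε (m : ℕ) (T : Subobject (U.obj (op ⦋m⦌)))
    (hT : IsLUB (Set.range (fun φ : Σ i : Fin (n + 1), (SimplexCategory.mk m ⟶ SimplexCategory.mk i) =>
      imageSubobject (U.map φ.2.op))) T) :
    imageSubobject ((ε U n).app (op ⦋m⦌)) = T := by
  apply le_antisymm
  · rw [image_le_iff]
    have hF' : (F' U n).IsLeftKanExtension (α U n) :=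
      inferInstanceAs (((L n).lan.obj ((SimplicialObject.truncation n).obj U)).IsLeftKanExtension
        ((L n).lanUnit.app ((SimplicialObject.truncation n).obj U)))
    have : (L n).HasPointwiseLeftKanExtension ((SimplicialObject.truncation n).obj U) :=
      Groth.Agent.Helper4.SK.hasPointwiseLeftKanExtension_of_hasFiniteColimits n _
    have hP := Functor.isPointwiseLeftKanExtensionOfIsLeftKanExtension (F' U n) (α U n)
    have hc := hP (op ⦋m⦌)
    apply factors_of_isColimit hc
    intro g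
    have h1 : ((Functor.LeftExtension.mk (F' U n) (α U n)).coconeAt (op ⦋m⦌)).ι.app g ≫
        (ε U n).app (op ⦋m⦌) = U.map (g.hom.unop : ⦋m⦌ ⟶ ⦋g.left.unop.obj.len⦌).op :=
      J_ε U n g.hom.unop g.left.unop.property
    rw [h1, ← image_le_iff]
    exact hT.1 ⟨⟨⟨g.left.unop.obj.len, Nat.lt_succ_of_le g.left.unop.property⟩, g.hom.unop⟩, rfl⟩
  · apply hT.2
    rintro _ ⟨⟨i, φ⟩, rfl⟩
    dsimp only
    have hi : (⦋i.1⦌ : SimplexCategory).len ≤ n := Nat.lt_succ_iff.mp i.2
    rw [← J_ε U n φ hi]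
    exact imageSubobject_comp_le _ _

end

theorem main (U : SimplicialObject A) (n : ℕ) (U' : ∀ m : ℕ, Subobject (U.obj (op (SimplexCategory.mk m)))) (hU' : ∀ m : ℕ, IsLUB (Set.range (fun φ : Σ i : Fin (n + 1), (SimplexCategory.mk m ⟶ SimplexCategory.mk i) => imageSubobject (U.map φ.2.op))) (U' m)) [∀ F : (SimplexCategory.Truncated n)ᵒᵖ ⥤ A, (SimplexCategory.Truncated.inclusion n).op.HasLeftKanExtension F] (m : ℕ) : Mono (((SimplicialObject.skAdj n).counit.app U).app (op (SimplexCategory.mk m))) ∧ imageSubobject (((SimplicialObject.skAdj n).counit.app U).app (op (SimplexCategory.mk m))) = U' m :=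
  ⟨mono_ε U n m, image_ε U n m (U' m) (hU' m)⟩

end H6819

/-- For a simplicial object `U` of an abelian category, the counit `i_{n!} sk_n U ⟶ U` of the skeleton
adjunction is a monomorphism in each degree, with image the subobject generated by the images of the
maps `U_i ⟶ U_m` induced by `[m] ⟶ [i]`, `i ≤ n`. -/
theorem result {A : Type u} [Category.{v} A] [Abelian A] (U : SimplicialObject A) (n : ℕ) (U' : ∀ m : ℕ, Subobject (U.obj (op (SimplexCategory.mk m)))) (hU' : ∀ m : ℕ, IsLUB (Set.range (fun φ : Σ i : Fin (n + 1), (SimplexCategory.mk m ⟶ SimplexCategory.mk i) => imageSubobject (U.map φ.2.op))) (U' m)) [∀ F : (SimplexCategory.Truncated n)ᵒᵖ ⥤ A, (SimplexCategory.Truncated.inclusion n).op.HasLeftKanExtension F] (m : ℕ) : Mono (((SimplicialObject.skAdj n).counit.app U).app (op (SimplexCategory.mk m))) ∧ imageSubobject (((SimplicialObject.skAdj n).counit.app U).app (op (SimplexCategory.mk m))) = U' m := by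
  exact H6819.main U n U' hU' m

end Groth.Agent.S6819
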