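import Groth.Statements.S6825
import Groth.Agent.Lib.Helper8.AppB2
import Groth.Agent.S0600

set_option autoImplicit false
universe u
open Smoothing

namespace Groth.Agent.S6825

/-- Let R be a Noetherian local ring with maximal ideal m which is a G-ring, R^ its m-adic completion,
and F₁, …, F_m polynomials in n variables over R having a solution a = (a₁, …, a_n) in R^. Then for
every N there are an étale R-algebra R', an R-algebra map ψ : R' → R^, a maximal ideal m' of R'
lying over m with κ(m) = κ(m') and ψ(m') ⊆ mR^, and a solution b = (b₁, …, b_n) of the system in R'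
with a_i − ψ(b_i) ∈ m^N R^ for all i. (The source compares a and b inside R^ through the
identification of R^ with the completion of R' at m'; here that comparison map is the R-algebra map
ψ.) -/
theorem result {R : Type u} [CommRing R] [IsLocalRing R] (hG : CAlg.IsGRing R)
    {n m : ℕ} (F : Fin m → MvPolynomial (Fin n) R)
    (a : Fin n → AdicCompletion (IsLocalRing.maximalIdeal R) R) (ha : ∀ j, MvPolynomial.aeval a (F j) = 0)
    (N : ℕ) :
    ∃ (R' : Type u) (_ : CommRing R') (_ : Algebra R R'), Algebra.Etale R R' ∧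
      ∃ (ψ : R' →ₐ[R] AdicCompletion (IsLocalRing.maximalIdeal R) R) (m' : Ideal R'), m'.IsMaximal ∧
        m'.comap (algebraMap R R') = IsLocalRing.maximalIdeal R ∧
        (∀ x : R', ∃ r : R, x - algebraMap R R' r ∈ m') ∧
        (∀ x ∈ m', ψ x ∈ (IsLocalRing.maximalIdeal R).map
          (algebraMap R (AdicCompletion (IsLocalRing.maximalIdeal R) R))) ∧
        ∃ b : Fin n → R', (∀ j, MvPolynomial.aeval b (F j) = 0) ∧
          ∀ i, a i - ψ (b i) ∈ (IsLocalRing.maximalIdeal R ^ N).map
            (algebraMap R (AdicCompletion (IsLocalRing.maximalIdeal R) R)) := by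
  classical
  haveI : IsNoetherianRing R := hG.1
  haveI : IsNoetherianRing (AdicCompletion (IsLocalRing.maximalIdeal R) R) :=
    Groth.Agent.Helper8.AdicReg.isNoetherianRing R _
  have fg : (IsLocalRing.maximalIdeal R).FG := IsNoetherian.noetherian _
  have hreg := Groth.Agent.S0600.result R hG (IsLocalRing.maximalIdeal R)
  haveI hHens := Groth.Agent.Helper8.AppB.henselianRing_map_pow (IsLocalRing.maximalIdeal R) fg N
  haveI hmax : ((IsLocalRing.maximalIdeal R).map
      (algebraMap R (AdicCompletion (IsLocalRing.maximalIdeal R) R))).IsMaximal :=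
    AdicCompletion.isMaximal_map_of_le _ _ (le_refl _) fg
  obtain ⟨R', _, _, het, ψ, b, hb, hab⟩ := Groth.Agent.Helper8.AppB.exists_etale_solution hreg
    ((IsLocalRing.maximalIdeal R ^ (N + 1)).map
      (algebraMap R (AdicCompletion (IsLocalRing.maximalIdeal R) R)))
    (fun k c' => by
      choose c hc using fun i => Groth.Agent.Helper8.AppB.exists_sub_mem_map_pow
        (IsLocalRing.maximalIdeal R) fg (c' i) (N + 1)
      exact ⟨R, inferInstance, inferInstance, inferInstance, inferInstance, inferInstance, c, hc⟩)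
    F a ha
  -- the residue map
  have hsurj : ∀ z : AdicCompletion (IsLocalRing.maximalIdeal R) R, ∃ r : R,
      z - algebraMap R _ r ∈ (IsLocalRing.maximalIdeal R).map
        (algebraMap R (AdicCompletion (IsLocalRing.maximalIdeal R) R)) := by
    intro z
    obtain ⟨r, hr⟩ := Groth.Agent.Helper8.AppB.exists_sub_mem_map_pow
      (IsLocalRing.maximalIdeal R) fg z 1
    rw [pow_one] at hr
    exact ⟨r, hr⟩
  let φ : R' →+* (AdicCompletion (IsLocalRing.maximalIdeal R) R ⧸ (IsLocalRing.maximalIdeal R).map
      (algebraMap R (AdicCompletion (IsLocalRing.maximalIdeal R) R))) :=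
    (Ideal.Quotient.mk _).comp ψ.toRingHom
  letI : Field (AdicCompletion (IsLocalRing.maximalIdeal R) R ⧸ (IsLocalRing.maximalIdeal R).map
      (algebraMap R (AdicCompletion (IsLocalRing.maximalIdeal R) R))) := Ideal.Quotient.field _
  have hφsurj : Function.Surjective φ := by
    intro y
    obtain ⟨z, rfl⟩ := Ideal.Quotient.mk_surjective y
    obtain ⟨r, hr⟩ := hsurj z
    refine ⟨algebraMap R R' r, ?_⟩
    change Ideal.Quotient.mk _ (ψ (algebraMap R R' r)) = Ideal.Quotient.mk _ z
    rw [ψ.commutes]
    exact (Ideal.Quotient.eq.mpr hr).symm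
  have hker : RingHom.ker φ = ((IsLocalRing.maximalIdeal R).map
      (algebraMap R (AdicCompletion (IsLocalRing.maximalIdeal R) R))).comap ψ.toRingHom := by
    rw [← RingHom.comap_ker, Ideal.mk_ker]
  refine ⟨R', inferInstance, inferInstance, het, ψ, ((IsLocalRing.maximalIdeal R).map
      (algebraMap R (AdicCompletion (IsLocalRing.maximalIdeal R) R))).comap ψ.toRingHom,
    ?_, ?_, ?_, ?_, b, hb, ?_⟩
  · rw [← hker]
    exact RingHom.ker_isMaximal_of_surjective φ hφsurj
  · rw [Ideal.comap_comap]
    have h1 : ψ.toRingHom.comp (algebraMap R R') =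
        algebraMap R (AdicCompletion (IsLocalRing.maximalIdeal R) R) := ψ.comp_algebraMap
    rw [h1]
    exact (Ideal.IsMaximal.eq_of_le (IsLocalRing.maximalIdeal.isMaximal R)
      (Ideal.comap_ne_top _ hmax.ne_top) Ideal.le_comap_map).symm
  · intro x
    obtain ⟨r, hr⟩ := hsurj (ψ x)
    refine ⟨r, ?_⟩
    rw [Ideal.mem_comap]
    change ψ (x - algebraMap R R' r) ∈ _
    rw [map_sub, ψ.commutes]
    exact hr
  · intro x hx
    exact hx
  · intro i
    have hle : (IsLocalRing.maximalIdeal R ^ (N + 1)).map
        (algebraMap R (AdicCompletion (IsLocalRing.maximalIdeal R) R)) ≤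
        (IsLocalRing.maximalIdeal R ^ N).map
          (algebraMap R (AdicCompletion (IsLocalRing.maximalIdeal R) R)) :=
      Ideal.map_mono (Ideal.pow_le_pow_right (Nat.le_succ N))
    exact hle (hab i)

end Groth.Agent.S6825
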