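import Groth.Statements.S6828
import Groth.Agent.Lib.Helper8.SyR1
import Groth.Agent.Lib.Helper8.SyR5
import Groth.Agent.Lib.Helper8.SyR7
import Groth.Agent.Lib.Helper2.Synt.RelGCISynt

set_option autoImplicit false
universe u
open Smoothing

namespace Groth.Agent.S6828

/-- Let R → A be a syntomic ring map. Then there are a smooth R-algebra map A → C with an R-algebra
retraction C → A, where C = R[x₁, …, x_n]/(f₁, …, f_c) is a relative global complete intersection
over R (all nonempty fibres of dimension n − c) and flat over R. -/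
theorem result {R A : Type u} [CommRing R] [CommRing A] [Algebra R A]
    (h : Synt.IsSyntomic R A) :
    ∃ (n c : ℕ) (F : Fin c → MvPolynomial (Fin n) R), Synt.IsRelGCI R n c F ∧
      Module.Flat R (Synt.RelGCIRing R n c F) ∧
      ∃ (_ : Algebra A (Synt.RelGCIRing R n c F)) (_ : IsScalarTower R A (Synt.RelGCIRing R n c F)),
        Algebra.Smooth A (Synt.RelGCIRing R n c F) ∧
        ∃ ρ : Synt.RelGCIRing R n c F →ₐ[R] A, ∀ a : A, ρ (algebraMap A (Synt.RelGCIRing R n c F) a) = a := by
  classical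
  obtain ⟨n, f, hf, hkerfg⟩ := h.2.1.out
  obtain ⟨m, g, hg⟩ := (Submodule.fg_iff_exists_fin_generating_family).mp hkerfg
  have hker : RingHom.ker f.toRingHom = Ideal.span (Set.range g) := hg.symm
  -- projectivity of the conormal module
  have e₀ : A ≃ₐ[R] (MvPolynomial (Fin n) R ⧸ Ideal.span (Set.range g)) :=
    (Ideal.quotientKerAlgEquivOfSurjective hf).symm.trans (Ideal.quotientEquivAlgOfEq R hker)
  have hsyn' := Groth.Agent.Helper2.Synt.isSyntomic_of_algEquiv e₀ h
  have hproj := Groth.Agent.Helper8.SyR.cotangent_projective_of_isSyntomic R n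
    (Ideal.span (Set.range g)) (Submodule.fg_span (Set.finite_range g)) hsyn'
  obtain ⟨E, hP1, hP3⟩ := Groth.Agent.Helper8.SyR.exists_matrix_of_projective g hproj
  obtain ⟨G, hG1, hGK, hgood⟩ := Groth.Agent.Helper8.SyR.exists_good_G g E f hf hker h hP1 hP3
  -- the relative global complete intersection
  have hgood' : Groth.Agent.Helper2.Synt.FibreDimLE R
      (Synt.RelGCIRing R (n + m) m (Groth.Agent.Helper8.SyR.Frel g E)) (n + m - m)
      (Ideal.Quotient.mk (Ideal.span (Set.range (Groth.Agent.Helper8.SyR.Frel g E))) G) := by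
    have : n + m - m = n := by omega
    rw [this]
    exact hgood
  have hrel : Synt.IsRelGCI R (n + m + 1) (m + 1)
      (Groth.Agent.Helper2.Synt.awayRel' R (n + m) m (Groth.Agent.Helper8.SyR.Frel g E) G) :=
    Groth.Agent.Helper2.Synt.isRelGCI_away_of_fibreDimLE (by omega) hgood'
  let e' := Groth.Agent.Helper2.Synt.awayEquivRelGCIRing R (n + m) m
    (Groth.Agent.Helper8.SyR.Frel g E) G
  refine ⟨n + m + 1, m + 1, _, hrel, Groth.Agent.Helper2.Synt.flat_of_isRelGCI R _ _ _ hrel, ?_⟩
  -- the algebra structure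
  let α := Groth.Agent.Helper8.SyR.algA g E G f hf hker hGK
  let φ : A →ₐ[R] Synt.RelGCIRing R (n + m + 1) (m + 1)
      (Groth.Agent.Helper2.Synt.awayRel' R (n + m) m (Groth.Agent.Helper8.SyR.Frel g E) G) :=
    e'.toAlgHom.comp α
  letI algC : Algebra A (Synt.RelGCIRing R (n + m + 1) (m + 1)
      (Groth.Agent.Helper2.Synt.awayRel' R (n + m) m (Groth.Agent.Helper8.SyR.Frel g E) G)) :=
    φ.toRingHom.toAlgebra
  have towerC : IsScalarTower R A (Synt.RelGCIRing R (n + m + 1) (m + 1)
      (Groth.Agent.Helper2.Synt.awayRel' R (n + m) m (Groth.Agent.Helper8.SyR.Frel g E) G)) :=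
    IsScalarTower.of_algebraMap_eq fun r => (φ.commutes r).symm
  letI algC' : Algebra A (Groth.Agent.Helper8.SyR.Cq g E G) := α.toRingHom.toAlgebra
  haveI towerC' : IsScalarTower R A (Groth.Agent.Helper8.SyR.Cq g E G) :=
    IsScalarTower.of_algebraMap_eq fun r => (α.commutes r).symm
  have hA : ∀ b, algebraMap A (Groth.Agent.Helper8.SyR.Cq g E G) (f b) =
      Groth.Agent.Helper8.SyR.tau g E G (Groth.Agent.Helper8.SyR.inc R n m b) := fun b =>
    Groth.Agent.Helper8.SyR.algA_apply g E G f hf hker hGK b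
  haveI hfs : Algebra.FormallySmooth A (Groth.Agent.Helper8.SyR.Cq g E G) :=
    Groth.Agent.Helper8.SyR.formallySmooth_Cq g E G f hf hker hP1 hP3 hGK hA
  haveI hfpR : Algebra.FinitePresentation R (Groth.Agent.Helper8.SyR.Cq g E G) := by
    haveI : Algebra.FinitePresentation R (Groth.Agent.Helper8.SyR.Sq g E) :=
      Algebra.FinitePresentation.quotient (Submodule.fg_span (Set.finite_range _))
    haveI : Algebra.FinitePresentation (Groth.Agent.Helper8.SyR.Sq g E)
        (Groth.Agent.Helper8.SyR.Cq g E G) :=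
      IsLocalization.Away.finitePresentation
        (Ideal.Quotient.mk (Ideal.span (Set.range (Groth.Agent.Helper8.SyR.Frel g E))) G)
    exact Algebra.FinitePresentation.trans R (Groth.Agent.Helper8.SyR.Sq g E)
      (Groth.Agent.Helper8.SyR.Cq g E G)
  haveI : Algebra.FinitePresentation R A := h.2.1
  haveI hfpA : Algebra.FinitePresentation A (Groth.Agent.Helper8.SyR.Cq g E G) :=
    Algebra.FinitePresentation.of_restrict_scalars_finitePresentation R A _
  haveI hsm : Algebra.Smooth A (Groth.Agent.Helper8.SyR.Cq g E G) := ⟨hfs, hfpA⟩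
  let e'A : Groth.Agent.Helper8.SyR.Cq g E G ≃ₐ[A] Synt.RelGCIRing R (n + m + 1) (m + 1)
      (Groth.Agent.Helper2.Synt.awayRel' R (n + m) m (Groth.Agent.Helper8.SyR.Frel g E) G) :=
    { e'.toRingEquiv with commutes' := fun a => rfl }
  refine ⟨algC, towerC, Algebra.Smooth.of_equiv e'A, ?_⟩
  obtain ⟨ρ', hρ'⟩ := Groth.Agent.Helper8.SyR.exists_retraction g E G f hker hG1
  refine ⟨ρ'.comp e'.symm.toAlgHom, fun a => ?_⟩
  obtain ⟨b, rfl⟩ := hf a
  change ρ' (e'.symm (e' (α (f b)))) = f b
  rw [AlgEquiv.symm_apply_apply]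
  have : α (f b) = Groth.Agent.Helper8.SyR.tau g E G (Groth.Agent.Helper8.SyR.inc R n m b) :=
    Groth.Agent.Helper8.SyR.algA_apply g E G f hf hker hGK b
  rw [this, hρ']

end Groth.Agent.S6828
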