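import Groth.Statements.S6837
import Mathlib
import Mathlib
import Groth.Agent.Lib.Helper5.Misc.TensorSES

set_option autoImplicit false
universe u
open CategoryTheory CategoryTheory.Limits TopologicalSpace
open ModSite

open CategoryTheory CategoryTheory.Limits

namespace Groth.Agent.S6837

/-- On a ringed space (X, O), let 0 → F₂ → F₁ → F₀ → 0 be a short exact sequence of O-modules. (1) If F₂
and F₀ are flat then F₁ is flat. (2) If F₁ and F₀ are flat then F₂ is flat. (Flat: − ⊗_O F is
exact.) -/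
theorem result {X : TopCat.{u}} (O : TopCat.Sheaf CommRingCat.{u} X)
    (S : ShortComplex (ModSite.Mod O)) (hS : S.ShortExact) (h₀ : ModSite.IsFlat S.X₃) :
    (ModSite.IsFlat S.X₁ → ModSite.IsFlat S.X₂) ∧ (ModSite.IsFlat S.X₂ → ModSite.IsFlat S.X₁) := by
  exact ⟨fun h₁ => Groth.Agent.Lib.Helper5.TensorSES.isFlat_X₂ S hS h₁ h₀,
    fun h₂ => Groth.Agent.Lib.Helper5.TensorSES.isFlat_X₁ S hS h₂ h₀⟩

end Groth.Agent.S6837
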