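import Groth.Statements.S6841
import Groth.Agent.Lib.Helper8.NerD2
import Groth.Agent.Lib.Helper8.NerD3
import Groth.Agent.Lib.Helper8.NerD6

set_option autoImplicit false
universe u
open Smoothing

namespace Groth.Agent.S6841

open TensorProduct in
/-- Let R ⊆ Λ be an extension of discrete valuation rings of ramification index 1 (m_R Λ = m_Λ), A a
flat R-algebra of finite type with an R-algebra map A → Λ, 𝔮 its kernel and 𝔭 the inverse image of
the maximal ideal of Λ. Assume R → A is smooth at 𝔮. Provided the Λ-module Ω_{A/R} ⊗_A Λ is free,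
the map R → A is also smooth at the prime 𝔭. (The published statement phrases the freeness
hypothesis through a surjection B → A from an R-algebra smooth at the point, with kernel I, as
freeness of the cokernel of I/I² ⊗_A Λ → Ω_{B/R} ⊗_B Λ; that cokernel is Ω_{A/R} ⊗_A Λ, which is how
its proof begins, so the two forms are equivalent.) -/
theorem result {R Λ A : Type u} [CommRing R] [IsDomain R]
    [IsDiscreteValuationRing R] [CommRing Λ] [IsDomain Λ] [IsDiscreteValuationRing Λ] [Algebra R Λ]
    [NoZeroSMulDivisors R Λ] (he : (IsLocalRing.maximalIdeal R).map (algebraMap R Λ) = IsLocalRing.maximalIdeal Λ)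
    [CommRing A] [Algebra R A] [Module.Flat R A] [Algebra.FiniteType R A] [Algebra A Λ] [IsScalarTower R A Λ]
    [(RingHom.ker (algebraMap A Λ)).IsPrime]
    (hq : Algebra.IsSmoothAt R (RingHom.ker (algebraMap A Λ)))
    (hfree : Module.Free Λ (Λ ⊗[A] Ω[A⁄R])) :
    Algebra.IsSmoothAt R ((IsLocalRing.maximalIdeal Λ).comap (algebraMap A Λ)) := by
  classical
  haveI := hq
  haveI : IsNoetherianRing R := inferInstance
  obtain ⟨n, φ, hφ⟩ := Algebra.FiniteType.iff_quotient_mvPolynomial''.mp ‹Algebra.FiniteType R A›
  have hfg : (RingHom.ker φ.toRingHom).FG := IsNoetherian.noetherian _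
  obtain ⟨m, f, hf⟩ := Submodule.fg_iff_exists_fin_generating_family.mp hfg
  have hker : RingHom.ker φ.toRingHom = Ideal.span (Set.range f) := hf.symm
  let G : Algebra.Generators R A (Fin n) := Algebra.Generators.ofAlgHom φ hφ
  have hval : MvPolynomial.aeval G.val = φ := by
    apply MvPolynomial.algHom_ext
    intro i
    simp [G, Algebra.Generators.ofAlgHom]
  have hGker : Ideal.span (Set.range f) = G.ker := by
    rw [← hker]
    exact (Algebra.Generators.ker_ofAlgHom φ hφ).symm
  obtain ⟨c, rows, cols, hunit, hrel⟩ :=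
    Groth.Agent.Helper8.NerD.exists_rows_cols_of_projective (Λ := Λ) G f hGker
      (Module.Projective.of_free)
  rw [hval] at hunit
  have hqp : RingHom.ker (algebraMap A Λ) ≤
      (IsLocalRing.maximalIdeal Λ).comap (algebraMap A Λ) := by
    intro a ha
    rw [RingHom.mem_ker] at ha
    rw [Ideal.mem_comap, ha]
    exact Ideal.zero_mem _
  have hδp : φ (Matrix.det (Matrix.of fun j k : Fin c =>
      MvPolynomial.pderiv (cols k) (f (rows j)))) ∉
      (IsLocalRing.maximalIdeal Λ).comap (algebraMap A Λ) := by
    intro h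
    rw [Ideal.mem_comap] at h
    exact h hunit
  have hδq : MvPolynomial.aeval G.val (Matrix.det (Matrix.of fun j k : Fin c =>
      MvPolynomial.pderiv (cols k) (f (rows j)))) ∉ RingHom.ker (algebraMap A Λ) := by
    rw [hval]
    exact fun h => hδp (hqp h)
  obtain ⟨u, hu, hmem⟩ := Groth.Agent.Helper8.NerD.exists_mul_mem_of_rows (Λ := Λ) G f hGker
    (RingHom.ker (algebraMap A Λ)) le_rfl rows cols hδq hrel
  rw [hval] at hu
  haveI : ((IsLocalRing.maximalIdeal Λ).comap (algebraMap A Λ)).IsPrime :=
    Ideal.comap_isPrime _ _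
  refine Groth.Agent.Helper8.NerD.isSmoothAt_of_rows_cols f φ hφ hker _
    (RingHom.ker (algebraMap A Λ)) hqp ?_ rows cols cols.injective hδp u hu hmem
  intro r hr
  rw [Ideal.mem_comap, ← IsScalarTower.algebraMap_apply, ← he]
  exact Ideal.mem_map_of_mem _ hr

end Groth.Agent.S6841
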