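import Groth.Statements.S6842
import Mathlib
import Groth.Agent.S5849
import Groth.Agent.S11320

set_option autoImplicit false
universe u
open CategoryTheory CategoryTheory.Limits TopologicalSpace
open ModSite

namespace Groth.Agent.S6842

section
open CategoryTheory CategoryTheory.Limits TopologicalSpace
open Opposite Groth.Agent

/-- in abelian groups, every element of a coproduct is a finite sum of images -/
lemma exists_finset_sum_of_isColimit {I : Type u} (A : I → AddCommGrpCat.{u})
    (c : Cofan A) (hc : IsColimit c) (a : c.pt) :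
    ∃ (S : Finset I) (b : ∀ i, A i), a = ∑ i ∈ S, (c.inj i) (b i) := by
  classical
  let H : AddSubgroup c.pt := ⨆ i, (c.inj i).hom.range
  suffices h : H = ⊤ by
    have ha : a ∈ H := by rw [h]; trivial
    refine AddSubgroup.iSup_induction (fun i => (c.inj i).hom.range)
      (C := fun a => ∃ (S : Finset I) (b : ∀ i, A i), a = ∑ i ∈ S, (c.inj i) (b i)) ha ?_ ?_ ?_
    · intro i x hx
      obtain ⟨y, rfl⟩ := hx
      refine ⟨{i}, fun j => if h : j = i then h ▸ y else 0, ?_⟩
      simp
    · exact ⟨∅, fun _ => 0, by simp⟩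
    · intro x y hx hy
      obtain ⟨S1, b1, rfl⟩ := hx
      obtain ⟨S2, b2, rfl⟩ := hy
      refine ⟨S1 ∪ S2, fun i => (if i ∈ S1 then b1 i else 0) + (if i ∈ S2 then b2 i else 0), ?_⟩
      simp only [map_add, Finset.sum_add_distrib]
      congr 1
      · rw [← Finset.sum_subset (Finset.subset_union_left (s₂ := S2))]
        · exact Finset.sum_congr rfl (fun i hi => by simp [hi])
        · intro i _ hi; simp [hi]
      · rw [← Finset.sum_subset (Finset.subset_union_right (s₁ := S1))]
        · exact Finset.sum_congr rfl (fun i hi => by simp [hi])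
        · intro i _ hi; simp [hi]
  -- the quotient map and zero agree on all injections
  let q : c.pt ⟶ AddCommGrpCat.of (c.pt ⧸ H) := AddCommGrpCat.ofHom (QuotientAddGroup.mk' H)
  have hq : q = 0 := by
    apply Cofan.IsColimit.hom_ext hc
    intro i
    ext y
    simp only [AddCommGrpCat.hom_comp, AddMonoidHom.coe_comp, Function.comp_apply, comp_zero]
    show QuotientAddGroup.mk' H ((c.inj i) y) = 0
    rw [QuotientAddGroup.mk'_apply, QuotientAddGroup.eq_zero_iff]
    exact AddSubgroup.mem_iSup_of_mem i ⟨y, rfl⟩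
  rw [eq_top_iff]
  intro y _
  have : q y = 0 := by rw [hq]; rfl
  rwa [show q y = QuotientAddGroup.mk' H y from rfl, QuotientAddGroup.mk'_apply,
    QuotientAddGroup.eq_zero_iff] at this

variable {X : TopCat.{u}} (O : TopCat.Sheaf CommRingCat.{u} X)

/-- stalk functor on modules over a ringed space -/
noncomputable abbrev Phi (x : X) : ModSite.Mod O ⥤ AddCommGrpCat.{u} :=
  SheafOfModules.toSheaf (ModSite.ringSh O) ⋙ S11320.Psi x

instance Phi_pres (x : X) : PreservesColimitsOfSize.{u, u} (Phi O x) := by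
  haveI h1 : PreservesColimitsOfSize.{u, u} (SheafOfModules.toSheaf.{u} (ModSite.ringSh O)) :=
    S5849.toSheaf_preservesColimits _
  haveI h2 : PreservesColimitsOfSize.{u, u} (S11320.Psi x) := S11320.stalk_pres x
  exact @comp_preservesColimits _ _ _ _ _ _ (SheafOfModules.toSheaf.{u} (ModSite.ringSh O))
    (S11320.Psi x) h1 h2

variable {O}

/-- restriction of sections -/
noncomputable def res (F : ModSite.Mod O) {A B : Opens X} (h : A ≤ B) (t : ModSite.sect F B) :
    ModSite.sect F A :=
  F.val.presheaf.map (homOfLE h).op t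

/-- germ of a section -/
noncomputable def grm (F : ModSite.Mod O) (x : X) {U : Opens X} (hx : x ∈ U) (t : ModSite.sect F U) :
    (Phi O x).obj F :=
  TopCat.Presheaf.germ F.val.presheaf U x hx t

/-- action of a morphism on sections -/
noncomputable def ap {F G : ModSite.Mod O} (φ : F ⟶ G) (U : Opens X) (t : ModSite.sect F U) :
    ModSite.sect G U :=
  (φ.val.app (op U)).hom t

lemma Phi_map_grm {F G : ModSite.Mod O} (φ : F ⟶ G) (x : X) {U : Opens X} (hx : x ∈ U)
    (t : ModSite.sect F U) : (Phi O x).map φ (grm F x hx t) = grm G x hx (ap φ U t) :=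
  S11320.Psi_map_germ ((SheafOfModules.toSheaf (ModSite.ringSh O)).map φ) x hx t

lemma grm_res (F : ModSite.Mod O) (x : X) {A B : Opens X} (h : A ≤ B) (hx : x ∈ A)
    (t : ModSite.sect F B) : grm F x hx (res F h t) = grm F x (h hx) t :=
  TopCat.Presheaf.germ_res_apply F.val.presheaf (homOfLE h) x hx t

lemma ap_res {F G : ModSite.Mod O} (φ : F ⟶ G) {A B : Opens X} (h : A ≤ B)
    (t : ModSite.sect F B) : ap φ A (res F h t) = res G h (ap φ B t) := by
  have hnat := ((SheafOfModules.toSheaf (ModSite.ringSh O)).map φ).hom.naturality (homOfLE h).op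
  exact ConcreteCategory.congr_hom hnat t

lemma res_res (F : ModSite.Mod O) {A B C : Opens X} (h : A ≤ B) (h' : B ≤ C)
    (t : ModSite.sect F C) : res F h (res F h' t) = res F (h.trans h') t := by
  unfold res
  rw [← ConcreteCategory.comp_apply, ← Functor.map_comp, ← op_comp]
  rfl

lemma res_sum (F : ModSite.Mod O) {A B : Opens X} (h : A ≤ B) {I : Type u} (S : Finset I)
    (f : I → ModSite.sect F B) : res F h (∑ i ∈ S, f i) = ∑ i ∈ S, res F h (f i) := by
  unfold res
  exact map_sum (F.val.presheaf.map (homOfLE h).op).hom f S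

lemma grm_sum (F : ModSite.Mod O) (x : X) {U : Opens X} (hx : x ∈ U) {I : Type u} (S : Finset I)
    (f : I → ModSite.sect F U) : grm F x hx (∑ i ∈ S, f i) = ∑ i ∈ S, grm F x hx (f i) := by
  unfold grm
  exact map_sum (TopCat.Presheaf.germ F.val.presheaf U x hx).hom f S

lemma ap_sum {F G : ModSite.Mod O} (φ : F ⟶ G) (U : Opens X) {I : Type u} (S : Finset I)
    (f : I → ModSite.sect F U) : ap φ U (∑ i ∈ S, f i) = ∑ i ∈ S, ap φ U (f i) := by
  unfold ap
  exact map_sum (φ.val.app (op U)).hom f S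

lemma mem_finset_inf {I : Type u} (S : Finset I) (W : I → Opens X) (x : X) :
    x ∈ S.inf W ↔ ∀ i ∈ S, x ∈ W i := by
  classical
  induction S using Finset.induction_on with
  | empty => simp
  | insert a S ha ih =>
    rw [Finset.inf_insert]
    constructor
    · rintro ⟨h1, h2⟩ i hi
      rcases Finset.mem_insert.1 hi with rfl | hi
      · exact h1
      · exact ih.1 h2 i hi
    · intro h
      exact ⟨h a (Finset.mem_insert_self _ _), ih.2 fun i hi => h i (Finset.mem_insert_of_mem hi)⟩

lemma local_sum {I : Type u} (F : I → ModSite.Mod O) [HasCoproduct F] (x : X) {U : Opens X}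
    (hxU : x ∈ U) (s : ModSite.sect (∐ F) U) :
    ∃ (W : Opens X) (hWU : W ≤ U) (S : Finset I) (t : ∀ i, ModSite.sect (F i) W), x ∈ W ∧
      res (∐ F) hWU s = ∑ i ∈ S, ap (Sigma.ι F i) W (t i) := by
  classical
  have hc : IsColimit (Cofan.mk ((Phi O x).obj (∐ F)) fun i => (Phi O x).map (Sigma.ι F i)) :=
    isColimitCofanMkObjOfIsColimit (Phi O x) F _ (coproductIsCoproduct F)
  obtain ⟨S, b, hb⟩ := exists_finset_sum_of_isColimit _ _ hc (grm (∐ F) x hxU s)
  have hrep : ∀ i, ∃ (W : Opens X) (hWU : W ≤ U) (hxW : x ∈ W) (t : ModSite.sect (F i) W),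
      grm (F i) x hxW t = b i := by
    intro i
    obtain ⟨W, hWU, hxW, t, ht⟩ := TopCat.Presheaf.exists_le_germ_eq (F i).val.presheaf (b i) hxU
    exact ⟨W, hWU, hxW, t, ht⟩
  choose W hWU hxW t ht using hrep
  let W' : Opens X := U ⊓ S.inf W
  have hxW' : x ∈ W' := ⟨hxU, (mem_finset_inf S W x).2 fun i _ => hxW i⟩
  have hW'i : ∀ i ∈ S, W' ≤ W i := fun i hi => inf_le_right.trans (Finset.inf_le hi)
  let t' : ∀ i, ModSite.sect (F i) W' := fun i =>
    if hi : i ∈ S then res (F i) (hW'i i hi) (t i) else 0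
  have hgerm : grm (∐ F) x hxW' (∑ i ∈ S, ap (Sigma.ι F i) W' (t' i)) =
      grm (∐ F) x hxU s := by
    rw [grm_sum, hb]
    apply Finset.sum_congr rfl
    intro i hi
    rw [← Phi_map_grm]
    have : t' i = res (F i) (hW'i i hi) (t i) := dif_pos hi
    rw [this, grm_res, ht]
    rfl
  obtain ⟨W'', hxW'', iU, iV, e⟩ := TopCat.Presheaf.germ_eq (∐ F).val.presheaf x hxW' hxU _ _ hgerm
  refine ⟨W'', iV.le, S, fun i => res (F i) iU.le (t' i), hxW'', ?_⟩
  have e' : res (∐ F) iU.le (∑ i ∈ S, ap (Sigma.ι F i) W' (t' i)) = res (∐ F) iV.le s := e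
  rw [← e', res_sum]
  apply Finset.sum_congr rfl
  intro i _
  rw [ap_res]

lemma ap_comp {F G H : ModSite.Mod O} (φ : F ⟶ G) (ψ : G ⟶ H) (U : Opens X)
    (t : ModSite.sect F U) : ap (φ ≫ ψ) U t = ap ψ U (ap φ U t) := rfl

lemma ap_id (F : ModSite.Mod O) (U : Opens X) (t : ModSite.sect F U) : ap (𝟙 F) U t = t := rfl

lemma ap_zero' (F G : ModSite.Mod O) (U : Opens X) (t : ModSite.sect F U) :
    ap (0 : F ⟶ G) U t = 0 := rfl

lemma ap_map_zero {F G : ModSite.Mod O} (φ : F ⟶ G) (U : Opens X) :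
    ap φ U 0 = 0 := by
  unfold ap; exact map_zero _

section Proj
variable {I : Type u} (F : I → ModSite.Mod O) [HasCoproduct F]

open Classical in
/-- projection from the coproduct -/
noncomputable def proj (j : I) : ∐ F ⟶ F j :=
  Sigma.desc (fun i => if h : i = j then eqToHom (by rw [h]) else 0)

lemma ι_proj_self (j : I) : Sigma.ι F j ≫ proj F j = 𝟙 _ := by
  unfold proj
  rw [Sigma.ι_desc, dif_pos rfl]
  rfl

lemma ι_proj_ne {i j : I} (h : i ≠ j) : Sigma.ι F i ≫ proj F j = 0 := by
  unfold proj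
  rw [Sigma.ι_desc, dif_neg h]

open Classical in
lemma ap_proj_sum (j : I) (U : Opens X) (S : Finset I) (t : ∀ i, ModSite.sect (F i) U) :
    ap (proj F j) U (∑ i ∈ S, ap (Sigma.ι F i) U (t i)) = if j ∈ S then t j else 0 := by
  rw [ap_sum]
  have h1 : ∀ i ∈ S, ap (proj F j) U (ap (Sigma.ι F i) U (t i)) =
      if i = j then (if j ∈ S then t j else 0) else 0 := by
    intro i hi
    rw [← ap_comp]
    by_cases h : i = j
    · subst h
      rw [ι_proj_self, ap_id, if_pos rfl, if_pos hi]
    · rw [ι_proj_ne F h, ap_zero', if_neg h]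
  rw [Finset.sum_congr rfl h1, Finset.sum_ite_eq' S j]
  split_ifs <;> rfl

end Proj

theorem main {X : TopCat.{u}} (O : TopCat.Sheaf CommRingCat.{u} X)
    {I : Type u} (F : I → ModSite.Mod O) [HasCoproduct F] (U : Opens X) (hU : IsCompact (U : Set X)) :
    (∀ s : ModSite.sect (∐ F) U, ∃ (S : Finset I) (t : ∀ i, ModSite.sect (F i) U),
        s = ∑ i ∈ S, ((Sigma.ι F i).val.app (Opposite.op U)).hom (t i)) ∧
      ∀ (S : Finset I) (t : ∀ i, ModSite.sect (F i) U),
        ∑ i ∈ S, ((Sigma.ι F i).val.app (Opposite.op U)).hom (t i) = 0 → ∀ i ∈ S, t i = 0 := by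
  classical
  constructor
  · intro s
    have hloc : ∀ x : U, ∃ (W : Opens X) (hWU : W ≤ U) (S : Finset I)
        (t : ∀ i, ModSite.sect (F i) W), x.1 ∈ W ∧
        res (∐ F) hWU s = ∑ i ∈ S, ap (Sigma.ι F i) W (t i) := fun x => local_sum F x.1 x.2 s
    choose W hWU Sx tx hxW hsx using hloc
    obtain ⟨P, hP⟩ := hU.elim_finite_subcover (fun x : U => (W x : Set X))
      (fun x => (W x).2) (fun y hy => Set.mem_iUnion.2 ⟨⟨y, hy⟩, hxW ⟨y, hy⟩⟩)
    let S : Finset I := P.biUnion Sx
    refine ⟨S, fun i => ap (proj F i) U s, ?_⟩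
    change s = ∑ i ∈ S, ap (Sigma.ι F i) U (ap (proj F i) U s)
    apply TopCat.Presheaf.IsSheaf.section_ext (∐ F).isSheaf
    intro y hy
    obtain ⟨x, hx⟩ := Set.mem_iUnion.1 (hP hy)
    obtain ⟨hxP, hyW⟩ := Set.mem_iUnion.1 hx
    refine ⟨W x, hWU x, hyW, ?_⟩
    change res (∐ F) (hWU x) s = res (∐ F) (hWU x) (∑ i ∈ S, ap (Sigma.ι F i) U (ap (proj F i) U s))
    rw [res_sum]
    have h1 : ∀ i ∈ S, res (∐ F) (hWU x) (ap (Sigma.ι F i) U (ap (proj F i) U s)) =
        ap (Sigma.ι F i) (W x) (if i ∈ Sx x then tx x i else 0) := by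
      intro i _
      rw [← ap_res, ← ap_res, hsx x, ap_proj_sum]
    rw [Finset.sum_congr rfl h1, hsx x]
    have hsub : Sx x ⊆ S := Finset.subset_biUnion_of_mem Sx hxP
    rw [← Finset.sum_subset hsub]
    · apply Finset.sum_congr rfl
      intro i hi
      rw [if_pos hi]
    · intro i _ hi
      rw [if_neg hi, ap_map_zero]
  · intro S t h j hj
    have h' : ∑ i ∈ S, ap (Sigma.ι F i) U (t i) = 0 := h
    have := congrArg (ap (proj F j) U) h'
    rw [ap_proj_sum, if_pos hj, ap_map_zero] at this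
    exact this


end


/-- Let (X, O) be a ringed space, (F_i)_{i ∈ I} a family of O-modules and U ⊆ X a quasi-compact open.
Then the canonical map ⊕_i F_i(U) → (⊕_i F_i)(U) is bijective: every section of the direct sum over
U is a finite sum of images of sections of the F_i over U (surjectivity), and such a finite sum
vanishes only if each term's section is zero (injectivity). -/
theorem result {X : TopCat.{u}} (O : TopCat.Sheaf CommRingCat.{u} X)
    {I : Type u} (F : I → ModSite.Mod O) [HasCoproduct F] (U : Opens X) (hU : IsCompact (U : Set X)) :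
    (∀ s : ModSite.sect (∐ F) U, ∃ (S : Finset I) (t : ∀ i, ModSite.sect (F i) U),
        s = ∑ i ∈ S, ((Sigma.ι F i).val.app (Opposite.op U)).hom (t i)) ∧
      ∀ (S : Finset I) (t : ∀ i, ModSite.sect (F i) U),
        ∑ i ∈ S, ((Sigma.ι F i).val.app (Opposite.op U)).hom (t i) = 0 → ∀ i ∈ S, t i = 0 := by
  classical
  exact main O F U hU

end Groth.Agent.S6842
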