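import Groth.Statements.S6855
import Mathlib
import Mathlib

set_option autoImplicit false
universe u
open CategoryTheory CategoryTheory.Limits TopologicalSpace
open ModSite

namespace Groth.Agent.S6855

open CategoryTheory CategoryTheory.Limits TopologicalSpace

namespace H6855

theorem main {X : TopCat.{u}} (O : TopCat.Sheaf CommRingCat.{u} X) :
    IsClosed {x : X | Nontrivial (O.presheaf.stalk x)} := by
  rw [← isOpen_compl_iff, isOpen_iff_forall_mem_open]
  intro x hx
  rw [Set.mem_compl_iff, Set.mem_ofPred_eq, not_nontrivial_iff_subsingleton] at hx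
  have h : O.presheaf.germ ⊤ x trivial 1 = O.presheaf.germ ⊤ x trivial 0 := Subsingleton.elim _ _
  obtain ⟨W, hxW, iU, iV, e⟩ := O.presheaf.germ_eq (U := ⊤) (V := ⊤) x trivial trivial 1 0 h
  refine ⟨W, ?_, W.2, hxW⟩
  intro y hy
  rw [Set.mem_compl_iff, Set.mem_ofPred_eq, not_nontrivial_iff_subsingleton]
  have h10 : (1 : O.presheaf.stalk y) = 0 := by
    calc (1 : O.presheaf.stalk y) = O.presheaf.germ W y hy (O.presheaf.map iU.op 1) := by
          rw [map_one, map_one]
      _ = O.presheaf.germ W y hy (O.presheaf.map iV.op 0) := by rw [e]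
      _ = 0 := by rw [map_zero, map_zero]
  exact subsingleton_of_zero_eq_one h10.symm

end H6855

/-- Let X be a topological space and O a sheaf of rings on X. Then the support of O, the set of points x
with nonzero stalk O_x, is closed in X. -/
theorem result {X : TopCat.{u}} (O : TopCat.Sheaf CommRingCat.{u} X) :
    IsClosed {x : X | Nontrivial (O.presheaf.stalk x)} := by
  exact H6855.main O

end Groth.Agent.S6855
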