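import Groth.Statements.S6860
import Mathlib

set_option autoImplicit false
universe u
open Smoothing

namespace Groth.Agent.S6860

namespace H6860
open MvPolynomial

variable {A : Type*} [CommRing A]

lemma sub_C_aeval_mem {ι : Type*} (v : ι → A) (p : MvPolynomial ι A) :
    p - C (aeval v p) ∈ Ideal.span (Set.range fun i => (X i - C (v i) : MvPolynomial ι A)) := by
  induction p using MvPolynomial.induction_on with
  | C a => simp
  | add p q hp hq =>
    have : p + q - C (aeval v (p + q)) = (p - C (aeval v p)) + (q - C (aeval v q)) := by
      simp only [map_add]; ring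
    rw [this]
    exact Ideal.add_mem _ hp hq
  | mul_X p i hp =>
    have : p * X i - C (aeval v (p * X i)) =
        (p - C (aeval v p)) * X i + C (aeval v p) * (X i - C (v i)) := by
      simp only [map_mul, aeval_X]; ring
    rw [this]
    exact Ideal.add_mem _ (Ideal.mul_mem_right _ _ hp)
      (Ideal.mul_mem_left _ _ (Ideal.subset_span ⟨i, rfl⟩))

lemma ker_aeval_eq {ι : Type*} (v : ι → A) :
    Ideal.span (Set.range fun i => (X i - C (v i) : MvPolynomial ι A)) =
      RingHom.ker (aeval v : MvPolynomial ι A →ₐ[A] A) := by
  apply le_antisymm
  · rw [Ideal.span_le]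
    rintro _ ⟨i, rfl⟩
    simp [RingHom.mem_ker]
  · intro p hp
    rw [RingHom.mem_ker] at hp
    have := sub_C_aeval_mem v p
    rwa [hp, map_zero, sub_zero] at this

/-- generators of `A` over `A` with prescribed values -/
noncomputable def gens {ι : Type*} (v : ι → A) : Algebra.Generators A A ι :=
  Algebra.Generators.ofSurjective v (fun s => ⟨C s, by simp⟩)

noncomputable def pres {ι : Type*} (v : ι → A) : Algebra.Presentation A A ι ι where
  __ := gens v
  relation i := X i - C (v i)
  span_range_relation_eq_ker := by
    rw [Algebra.Generators.ker_eq_ker_aeval_val]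
    exact ker_aeval_eq v

noncomputable def preSub {ι : Type*} (v : ι → A) : Algebra.PreSubmersivePresentation A A ι ι where
  __ := pres v
  map := id
  map_inj := Function.injective_id

lemma preSub_jacobian {ι : Type*} [Finite ι] (v : ι → A) : (preSub v).jacobian = 1 := by
  classical
  cases nonempty_fintype ι
  rw [Algebra.PreSubmersivePresentation.jacobian_eq_jacobiMatrix_det]
  have : (preSub v).jacobiMatrix = 1 := by
    refine Matrix.ext fun i j => ?_
    rw [Algebra.PreSubmersivePresentation.jacobiMatrix_apply]
    show pderiv i (X j - C (v j) : MvPolynomial ι A) = _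
    rw [map_sub, pderiv_C, sub_zero, pderiv_X, Matrix.one_apply]
    simp [Pi.single_apply, eq_comm]
  rw [this, Matrix.det_one, map_one]

noncomputable def sub {ι : Type*} [Finite ι] (v : ι → A) : Algebra.SubmersivePresentation A A ι ι where
  __ := preSub v
  jacobian_isUnit := by rw [preSub_jacobian]; exact isUnit_one

end H6860

namespace H6860

theorem main {R A : Type*} [CommRing R] [CommRing A] [Algebra R A]
    [Algebra.IsStandardSmooth R A] (E : Finset A) :
    ∃ (ι σ : Type) (_ : Finite ι) (_ : Finite σ) (P : Algebra.SubmersivePresentation R A ι σ),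
      (↑E : Set A) ⊆ Set.range (P.val ∘ P.map) := by
  obtain ⟨ι₀, σ₀, hσ₀, hι₀, ⟨P₀⟩⟩ := (inferInstance : Algebra.IsStandardSmooth R A).out
  let n := E.card
  let v : Fin n → A := fun i => (E.equivFin.symm i : A)
  let Q := sub v
  refine ⟨Fin n ⊕ ι₀, Fin n ⊕ σ₀, inferInstance, inferInstance, Q.comp P₀, ?_⟩
  intro e he
  refine ⟨Sum.inl (E.equivFin ⟨e, he⟩), ?_⟩
  show (Q.comp P₀).val ((Q.comp P₀).map (Sum.inl (E.equivFin ⟨e, he⟩))) = e
  show Sum.elim Q.val (algebraMap A A ∘ P₀.val) (Sum.inl (Q.map (E.equivFin ⟨e, he⟩))) = e
  show v (E.equivFin ⟨e, he⟩) = e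
  simp [v]

end H6860

/-- Let R → A be standard smooth and E ⊆ A a finite subset. Then A admits a standard smooth presentation
A = R[x₁, …, x_N]/(f₁, …, f_c) (a submersive presentation: finitely many generators and relations,
an injection from the relations to the variables picking the distinguished variables, and the
Jacobian of the relations with respect to the distinguished variables invertible in A) in which
every element of E is the class of a distinguished variable. (The published statement arranges E to
be exactly the classes of the first n = |E| variables, all of them distinguished, with c ≥ n; this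
row states that E is contained in the set of classes of the distinguished variables, which is what
that arrangement gives.) -/
theorem result {R A : Type u} [CommRing R] [CommRing A] [Algebra R A]
    [Algebra.IsStandardSmooth R A] (E : Finset A) :
    ∃ (ι σ : Type) (_ : Finite ι) (_ : Finite σ) (P : Algebra.SubmersivePresentation R A ι σ),
      (↑E : Set A) ⊆ Set.range (P.val ∘ P.map) := by
  exact H6860.main E

end Groth.Agent.S6860
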