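import Groth.Statements.S6862
import Mathlib

set_option autoImplicit false
universe u
set_option linter.unusedVariables false
open TensorProduct
open CAlg

namespace Groth.Agent.S6862

section
variable {R : Type u} [CommRing R] {A B C D : Type u} [AddCommGroup A] [Module R A]
  [AddCommGroup B] [Module R B] [AddCommGroup C] [Module R C] [AddCommGroup D] [Module R D]

/-- `C × ((A × B) × D) ≃ ((A × C) × D) × B` -/
def rearr : (C × ((A × B) × D)) ≃ₗ[R] (((A × C) × D) × B) where
  toFun x := (((x.2.1.1, x.1), x.2.2), x.2.1.2)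
  invFun y := (y.1.1.2, ((y.1.1.1, y.2), y.1.2))
  map_add' x y := rfl
  map_smul' r x := rfl
  left_inv x := rfl
  right_inv y := rfl

/-- `A × ((C × B) × D) ≃ ((A × C) × D) × B` -/
def rearr' : (A × ((C × B) × D)) ≃ₗ[R] (((A × C) × D) × B) where
  toFun x := (((x.1, x.2.1.1), x.2.2), x.2.1.2)
  invFun y := (y.1.1.1, ((y.1.1.2, y.2), y.1.2))
  map_add' x y := rfl
  map_smul' r x := rfl
  left_inv x := rfl
  right_inv y := rfl

end

theorem result {R : Type u} [CommRing R] {P' P P'' : Type u}
    [AddCommGroup P'] [Module R P'] [Module.Finite R P'] [Module.Projective R P']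
    [AddCommGroup P] [Module R P] [Module.Finite R P] [Module.Projective R P]
    [AddCommGroup P''] [Module R P''] [Module.Finite R P''] [Module.Projective R P'']
    (f : P' →ₗ[R] P) (g : P →ₗ[R] P'') (hf : Function.Injective f) (hg : Function.Surjective g)
    (hfg : Function.Exact f g) :
    (Module.IsStablyFree R P' → Module.IsStablyFree R P → Module.IsStablyFree R P'') ∧
    (Module.IsStablyFree R P' → Module.IsStablyFree R P'' → Module.IsStablyFree R P) ∧
    (Module.IsStablyFree R P → Module.IsStablyFree R P'' → Module.IsStablyFree R P') := by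
  obtain ⟨l, hl⟩ := Module.projective_lifting_property g LinearMap.id hg
  obtain ⟨e, -, -⟩ := hfg.splitSurjectiveEquiv hf ⟨l, hl⟩
  refine ⟨?_, ?_, ?_⟩
  · intro h1 h2
    obtain ⟨F₁, _, _, _, _, hF₁⟩ := Module.IsStablyFree.exist_free_prod R P'
    obtain ⟨F₂, _, _, _, _, hF₂⟩ := Module.IsStablyFree.exist_free_prod R P
    -- `P'' × ((P' × F₁) × F₂) ≃ ((P' × P'') × F₂) × F₁ ≃ (P × F₂) × F₁`
    haveI : Module.Free R ((P × F₂) × F₁) := by
      -- `(P × F₂) × F₁ ≃ (P × F₁) × F₂`... use freeness of `P × F₂` and `F₁`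
      infer_instance
    haveI : Module.Free R (P'' × ((P' × F₁) × F₂)) :=
      Module.Free.of_equiv
        ((((e.prodCongr (LinearEquiv.refl R F₂)).prodCongr (LinearEquiv.refl R F₁)).trans
          (rearr (A := P') (B := F₁) (C := P'') (D := F₂)).symm))
    exact Module.IsStablyFree.of_free_prod R P'' ((P' × F₁) × F₂)
  · intro h1 h2
    obtain ⟨F₁, _, _, _, _, hF₁⟩ := Module.IsStablyFree.exist_free_prod R P'
    obtain ⟨F₂, _, _, _, _, hF₂⟩ := Module.IsStablyFree.exist_free_prod R P''
    haveI : Module.Free R (P × (F₁ × F₂)) :=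
      Module.Free.of_equiv
        ((LinearEquiv.prodProdProdComm R P' F₁ P'' F₂).trans
          (e.symm.prodCongr (LinearEquiv.refl R (F₁ × F₂))))
    exact Module.IsStablyFree.of_free_prod R P (F₁ × F₂)
  · intro h1 h2
    obtain ⟨F₁, _, _, _, _, hF₁⟩ := Module.IsStablyFree.exist_free_prod R P
    obtain ⟨F₂, _, _, _, _, hF₂⟩ := Module.IsStablyFree.exist_free_prod R P''
    haveI : Module.Free R (P' × ((P'' × F₂) × F₁)) :=
      Module.Free.of_equiv
        ((((e.prodCongr (LinearEquiv.refl R F₁)).prodCongr (LinearEquiv.refl R F₂)).trans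
          (rearr' (A := P') (B := F₂) (C := P'') (D := F₁)).symm))
    exact Module.IsStablyFree.of_free_prod R P' ((P'' × F₂) × F₁)

end Groth.Agent.S6862
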