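import Groth.Statements.S6873
import Mathlib
import Groth.Agent.Lib.Helper4.TF4

set_option autoImplicit false
universe u
open CAlg

namespace Groth.Agent.S6873

/-- For a Noetherian domain `R`, a finite `R`-module `M` is reflexive if and only if `M` admits an
injective `R`-linear map into `Rⁿ`, for some `n`, whose cokernel is torsion free. -/
theorem result (R : Type u) [CommRing R] [IsDomain R]
    [IsNoetherianRing R] (M : Type u) [AddCommGroup M] [Module R M] [Module.Finite R M] :
    Module.IsReflexive R M ↔ ∃ (n : ℕ) (f : M →ₗ[R] (Fin n → R)), Function.Injective f ∧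
      Module.IsTorsionFree R ((Fin n → R) ⧸ LinearMap.range f) := by
  constructor
  · intro h
    exact Groth.Agent.Helper4.TF.exists_injective_torsionFree_coker R M
  · rintro ⟨n, f, hf, h⟩
    exact Groth.Agent.Helper4.TF.isReflexive_of_injective_torsionFree_coker R n f hf h

end Groth.Agent.S6873
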