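import Groth.Statements.S6881
import Mathlib
-- import your own Groth.Agent.* helpers here

set_option autoImplicit false
universe u
open CAlg

namespace Groth.Agent.S6881

namespace Aux

open IsLocalization Module

variable (A K L : Type u) [CommRing A] [IsDomain A] [IsNoetherianRing A] [IsIntegrallyClosed A]
  [Field K] [Algebra A K] [IsFractionRing A K] [Field L] [Algebra K L] [FiniteDimensional K L]
  [Algebra A L] [IsScalarTower A K L]

/-- `K`-linear functionals that are `A`-valued on integral elements -/
def IntOn (lam : L →ₗ[K] K) : Prop := ∀ y : L, IsIntegral A y → IsInteger A (lam y)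

/-- the double dual inside `L` -/
def Bdd : Submodule A L where
  carrier := {z | ∀ lam : L →ₗ[K] K, IntOn A K L lam → IsInteger A (lam z)}
  add_mem' := by
    intro x y hx hy lam hlam
    rw [map_add]
    exact isInteger_add (hx lam hlam) (hy lam hlam)
  zero_mem' := by
    intro lam _
    rw [map_zero]
    exact isInteger_zero
  smul_mem' := by
    intro a x hx lam hlam
    rw [LinearMap.map_smul_of_tower]
    exact isInteger_smul (hx lam hlam)

variable {A K L}

theorem intOn_comp_mul {lam : L →ₗ[K] K} (h : IntOn A K L lam) {y : L} (hy : IsIntegral A y) :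
    IntOn A K L (lam ∘ₗ LinearMap.mulLeft K y) := by
  intro y' hy'
  exact h _ (hy.mul hy')

theorem intOn_comp_mul' {lam : L →ₗ[K] K} (h : IntOn A K L lam) {x : L} (hx : x ∈ Bdd A K L) :
    IntOn A K L (lam ∘ₗ LinearMap.mulLeft K x) := by
  intro y hy
  have h1 := hx _ (intOn_comp_mul h hy)
  simp only [LinearMap.comp_apply, LinearMap.mulLeft_apply] at h1 ⊢
  rwa [mul_comm]

theorem mul_mem_Bdd {x z : L} (hx : x ∈ Bdd A K L) (hz : z ∈ Bdd A K L) : x * z ∈ Bdd A K L := by
  intro lam hlam
  exact hz _ (intOn_comp_mul' hlam hx)

theorem one_mem_Bdd : (1 : L) ∈ Bdd A K L := by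
  intro lam hlam
  exact hlam 1 isIntegral_one

section withBasis
variable {ι : Type} [Fintype ι] [DecidableEq ι] (b : Basis ι K L) (hb : ∀ i, IsIntegral A (b i))
  (d : A) (hd0 : d ≠ 0)
  (hd : ∀ y : L, IsIntegral A y → ∀ i, IsInteger A (algebraMap A K d * b.repr y i))

include hd in
theorem intOn_coord (i : ι) : IntOn A K L ((algebraMap A K d) • b.coord i) := by
  intro y hy
  have h1 : ((algebraMap A K d) • b.coord i) y = algebraMap A K d * b.repr y i := by
    rw [LinearMap.smul_apply, Basis.coord_apply, smul_eq_mul]
  rw [h1]
  exact hd y hy i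

include hd0 hd in
theorem Bdd_le : Bdd A K L ≤
    Submodule.span A (Set.range fun i => (algebraMap A K d)⁻¹ • b i) := by
  intro z hz
  have h1 : ∀ i, ∃ a : A, algebraMap A K a = algebraMap A K d * b.repr z i := by
    intro i
    have := hz _ (intOn_coord b d hd i)
    have h1 : ((algebraMap A K d) • b.coord i) z = algebraMap A K d * b.repr z i := by
      rw [LinearMap.smul_apply, Basis.coord_apply, smul_eq_mul]
    rw [h1] at this
    exact this
  choose a ha using h1
  have hdK : algebraMap A K d ≠ 0 := by
    rwa [Ne, map_eq_zero_iff _ (IsFractionRing.injective A K)]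
  have h2 : z = ∑ i, a i • ((algebraMap A K d)⁻¹ • b i) := by
    conv_lhs => rw [← b.sum_repr z]
    refine Finset.sum_congr rfl (fun i _ => ?_)
    rw [← algebraMap_smul K (a i), ha, smul_smul, mul_comm, ← mul_assoc, inv_mul_cancel₀ hdK,
      one_mul]
  rw [h2]
  exact sum_mem (fun i _ => Submodule.smul_mem _ _ (Submodule.subset_span ⟨i, rfl⟩))

include hd0 hd in
theorem isIntegral_of_mem_Bdd {z : L} (hz : z ∈ Bdd A K L) : IsIntegral A z := by
  have hfg : (Bdd A K L).FG :=
    Submodule.FG.of_le (Submodule.fg_span (Set.finite_range _)) (Bdd_le b d hd0 hd)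
  have hne : Bdd A K L ≠ ⊥ := by
    intro h
    have := one_mem_Bdd (A := A) (K := K) (L := L)
    rw [h, Submodule.mem_bot] at this
    exact one_ne_zero this
  exact isIntegral_of_smul_mem_submodule (Bdd A K L) hne hfg z (fun n hn => mul_mem_Bdd hz hn)

end withBasis

section dexists
variable {ι : Type} [Fintype ι] [DecidableEq ι] (b : Basis ι K L)

/-- a common denominator for the coordinates of the integral closure -/
theorem exists_denominator [Module.Finite A ↥(integralClosure A L)] :
    ∃ d : A, d ≠ 0 ∧ ∀ y : L, IsIntegral A y → ∀ i, IsInteger A (algebraMap A K d * b.repr y i) := by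
  classical
  obtain ⟨G, hG⟩ := (Module.Finite.fg_top : (⊤ : Submodule A ↥(integralClosure A L)).FG)
  set S : Finset K := G.biUnion (fun y => Finset.univ.image (fun i => b.repr (y : L) i)) with hS
  obtain ⟨d, hd⟩ := IsLocalization.exist_integer_multiples_of_finset (nonZeroDivisors A) S
  refine ⟨d, nonZeroDivisors.ne_zero d.2, ?_⟩
  have key : ∀ y : ↥(integralClosure A L), y ∈ Submodule.span A (G : Set ↥(integralClosure A L)) →
      ∀ i, IsInteger A (algebraMap A K d * b.repr (y : L) i) := by
    intro y hy
    refine Submodule.span_induction ?_ ?_ ?_ ?_ hy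
    · intro y hyG i
      have h1 : b.repr (y : L) i ∈ S := by
        rw [hS, Finset.mem_biUnion]
        exact ⟨y, hyG, Finset.mem_image.mpr ⟨i, Finset.mem_univ _, rfl⟩⟩
      have h2 := hd _ h1
      rwa [Algebra.smul_def] at h2
    · intro i
      simp only [ZeroMemClass.coe_zero, map_zero, Finsupp.coe_zero, Pi.zero_apply, mul_zero]
      exact isInteger_zero
    · intro x y _ _ hx hy i
      have : algebraMap A K d * b.repr ((x + y : ↥(integralClosure A L)) : L) i =
          algebraMap A K d * b.repr (x : L) i + algebraMap A K d * b.repr (y : L) i := by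
        rw [Subalgebra.coe_add, map_add, Finsupp.add_apply, mul_add]
      rw [this]
      exact isInteger_add (hx i) (hy i)
    · intro a x _ hx i
      have : algebraMap A K d * b.repr ((a • x : ↥(integralClosure A L)) : L) i =
          a • (algebraMap A K d * b.repr (x : L) i) := by
        rw [Subalgebra.coe_smul, ← algebraMap_smul K a (x : L), map_smul, Finsupp.smul_apply,
          smul_eq_mul, Algebra.smul_def]
        ring
      rw [this]
      exact isInteger_smul (hx i)
  intro y hy i
  exact key ⟨y, hy⟩ (by rw [hG]; trivial) i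

end dexists

section res

theorem linMap_inj : Function.Injective (Algebra.linearMap A K) := IsFractionRing.injective A K

/-- restriction of an integral functional to the integral closure -/
noncomputable def res (lam : L →ₗ[K] K) (h : IntOn A K L lam) : ↥(integralClosure A L) →ₗ[A] A :=
  ((LinearEquiv.ofInjective (Algebra.linearMap A K) linMap_inj).symm.toLinearMap).comp
    (LinearMap.codRestrict (LinearMap.range (Algebra.linearMap A K))
      ((lam.restrictScalars A).comp (integralClosure A L).val.toLinearMap)
      (fun y => by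
        obtain ⟨a, ha⟩ := h y y.2
        exact ⟨a, ha⟩))

theorem algebraMap_res (lam : L →ₗ[K] K) (h : IntOn A K L lam) (y : ↥(integralClosure A L)) :
    algebraMap A K (res lam h y) = lam y := by
  have h1 := congrArg Subtype.val
    ((LinearEquiv.ofInjective (Algebra.linearMap A K) (linMap_inj (A := A) (K := K))).apply_symm_apply
      ((LinearMap.codRestrict (LinearMap.range (Algebra.linearMap A K))
      ((lam.restrictScalars A).comp (integralClosure A L).val.toLinearMap)
      (fun y => by
        obtain ⟨a, ha⟩ := h y y.2
        exact ⟨a, ha⟩)) y))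
  rw [LinearEquiv.ofInjective_apply] at h1
  exact h1

end res

section main
variable {ι : Type} [Fintype ι] [DecidableEq ι] (b : Basis ι K L)
  (hb : ∀ i, b i ∈ integralClosure A L)
  (d : A) (hd0 : d ≠ 0)
  (hd : ∀ y : L, IsIntegral A y → ∀ i, IsInteger A (algebraMap A K d * b.repr y i))

/-- extension of a functional on the integral closure -/
noncomputable def ext (φ : ↥(integralClosure A L) →ₗ[A] A) : L →ₗ[K] K :=
  b.constr K (fun i => algebraMap A K (φ ⟨b i, hb i⟩))

include hd0 hd in
theorem ext_apply (φ : ↥(integralClosure A L) →ₗ[A] A) (y : ↥(integralClosure A L)) :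
    ext b hb φ (y : L) = algebraMap A K (φ y) := by
  have hdK : algebraMap A K d ≠ 0 := by
    rwa [Ne, map_eq_zero_iff _ (IsFractionRing.injective A K)]
  have h1 : ∀ i, ∃ a : A, algebraMap A K a = algebraMap A K d * b.repr (y : L) i :=
    fun i => hd y y.2 i
  choose a ha using h1
  have h2 : d • y = ∑ i, a i • (⟨b i, hb i⟩ : ↥(integralClosure A L)) := by
    apply Subtype.ext
    rw [Subalgebra.coe_smul, AddSubmonoidClass.coe_finset_sum]
    conv_lhs => rw [← b.sum_repr (y : L), Finset.smul_sum]
    refine Finset.sum_congr rfl (fun i _ => ?_)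
    rw [Subalgebra.coe_smul, ← algebraMap_smul K (a i), ha, ← algebraMap_smul K d, smul_smul]
  have h3 := congrArg φ h2
  rw [map_smul, map_sum] at h3
  have h4 := congrArg (algebraMap A K) h3
  rw [smul_eq_mul, map_mul, map_sum] at h4
  apply mul_left_cancel₀ hdK
  rw [h4, ext, Basis.constr_apply_fintype, Finset.mul_sum]
  refine Finset.sum_congr rfl (fun i _ => ?_)
  have e1 : φ (a i • (⟨b i, hb i⟩ : ↥(integralClosure A L))) = a i * φ ⟨b i, hb i⟩ := by
    rw [map_smul, smul_eq_mul]
  rw [e1, map_mul, ha, Basis.equivFun_apply, smul_eq_mul]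
  ring

include hd0 hd in
theorem intOn_ext (φ : ↥(integralClosure A L) →ₗ[A] A) : IntOn A K L (ext b hb φ) := by
  intro y hy
  exact ⟨φ ⟨y, hy⟩, (ext_apply b hb d hd0 hd φ ⟨y, hy⟩).symm⟩

include hd0 hd in
theorem res_ext (φ : ↥(integralClosure A L) →ₗ[A] A) :
    res (ext b hb φ) (intOn_ext b hb d hd0 hd φ) = φ := by
  apply LinearMap.ext
  intro y
  apply IsFractionRing.injective A K
  rw [algebraMap_res, ext_apply b hb d hd0 hd]

include hb hd0 hd in
theorem reflexive : Module.IsReflexive A ↥(integralClosure A L) := by
  have hdK : algebraMap A K d ≠ 0 := by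
    rwa [Ne, map_eq_zero_iff _ (IsFractionRing.injective A K)]
  -- the coordinate functionals
  set φc : ι → (↥(integralClosure A L) →ₗ[A] A) :=
    fun i => res ((algebraMap A K d) • b.coord i) (intOn_coord b d hd i) with hφc
  have hφc_apply : ∀ i (y : ↥(integralClosure A L)),
      algebraMap A K (φc i y) = algebraMap A K d * b.repr (y : L) i := by
    intro i y
    rw [hφc, algebraMap_res, LinearMap.smul_apply, Basis.coord_apply, smul_eq_mul]
  refine ⟨⟨?_, ?_⟩⟩
  · rw [injective_iff_map_eq_zero]
    intro y hy
    have h1 : ∀ i, b.repr (y : L) i = 0 := by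
      intro i
      have h2 : φc i y = 0 := by
        have := LinearMap.congr_fun hy (φc i)
        simpa using this
      have h3 := hφc_apply i y
      rw [h2, map_zero] at h3
      rcases mul_eq_zero.mp h3.symm with h | h
      · exact absurd h hdK
      · exact h
    apply Subtype.ext
    rw [ZeroMemClass.coe_zero, ← b.sum_repr (y : L)]
    exact Finset.sum_eq_zero (fun i _ => by rw [h1 i, zero_smul])
  · intro Φ
    set x : L := ∑ i, (algebraMap A K (Φ (φc i)) / algebraMap A K d) • b i with hx
    have hreprx : ∀ i, b.repr x i = algebraMap A K (Φ (φc i)) / algebraMap A K d := by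
      intro i
      rw [hx, map_sum, Finsupp.finset_sum_apply, Finset.sum_eq_single i]
      · simp
      · intro j _ hj
        simp [Finsupp.single_apply, hj]
      · intro h; exact absurd (Finset.mem_univ _) h
    have key : ∀ (lam : L →ₗ[K] K) (h : IntOn A K L lam),
        algebraMap A K (Φ (res lam h)) = lam x := by
      intro lam h
      -- d • res lam = ∑ r_i • φc i
      have h1 : d • res lam h = ∑ i, (res lam h ⟨b i, hb i⟩) • φc i := by
        apply LinearMap.ext
        intro y
        apply IsFractionRing.injective A K
        rw [LinearMap.smul_apply, smul_eq_mul, map_mul, algebraMap_res, LinearMap.sum_apply,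
          map_sum]
        have h2 : lam (y : L) = ∑ i, b.repr (y : L) i * lam (b i) := by
          conv_lhs => rw [← b.sum_repr (y : L), map_sum]
          refine Finset.sum_congr rfl (fun i _ => ?_)
          rw [map_smul, smul_eq_mul]
        rw [h2, Finset.mul_sum]
        refine Finset.sum_congr rfl (fun i _ => ?_)
        rw [LinearMap.smul_apply, smul_eq_mul, map_mul, algebraMap_res, hφc_apply]
        ring
      have h3 := congrArg Φ h1
      rw [map_smul, map_sum] at h3
      have h4 := congrArg (algebraMap A K) h3
      rw [smul_eq_mul, map_mul, map_sum] at h4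
      apply mul_left_cancel₀ hdK
      rw [h4]
      have h5 : lam x = ∑ i, b.repr x i * lam (b i) := by
        conv_lhs => rw [← b.sum_repr x, map_sum]
        refine Finset.sum_congr rfl (fun i _ => ?_)
        rw [map_smul, smul_eq_mul]
      rw [h5, Finset.mul_sum]
      refine Finset.sum_congr rfl (fun i _ => ?_)
      rw [map_smul, smul_eq_mul, map_mul, algebraMap_res, hreprx]
      field_simp
    have hxB : x ∈ Bdd A K L := by
      intro lam h
      exact ⟨Φ (res lam h), key lam h⟩
    have hxint : IsIntegral A x := isIntegral_of_mem_Bdd b d hd0 hd hxB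
    refine ⟨⟨x, hxint⟩, ?_⟩
    apply LinearMap.ext
    intro φ
    apply IsFractionRing.injective A K
    rw [Module.Dual.eval_apply]
    have h6 := key (ext b hb φ) (intOn_ext b hb d hd0 hd φ)
    rw [res_ext b hb d hd0 hd φ] at h6
    rw [h6]
    exact (ext_apply b hb d hd0 hd φ ⟨x, hxint⟩).symm

end main

theorem main' (A K L : Type u) [CommRing A] [IsDomain A] [IsNoetherianRing A]
    [IsIntegrallyClosed A] [Field K] [Algebra A K] [IsFractionRing A K] [Field L] [Algebra K L]
    [FiniteDimensional K L] [Algebra A L] [IsScalarTower A K L]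
    [Module.Finite A ↥(integralClosure A L)] :
    Module.IsReflexive A ↥(integralClosure A L) := by
  classical
  obtain ⟨s, b, hb⟩ := FiniteDimensional.exists_is_basis_integral A K L
  -- reindex to a type in `Type`
  let e : ↥s ≃ Fin (Fintype.card ↥s) := Fintype.equivFin _
  let b' : Basis (Fin (Fintype.card ↥s)) K L := b.reindex e
  have hb' : ∀ i, IsIntegral A (b' i) := by
    intro i
    rw [Basis.reindex_apply]
    exact hb _
  obtain ⟨d, hd0, hd⟩ := exists_denominator (A := A) b'
  exact reflexive b' hb' d hd0 hd


end Aux

/-- For `A` a Noetherian integrally closed domain with fraction field `K` and `L/K` a finite field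
extension, if the integral closure of `A` in `L` is a finitely generated `A`-module then it is a
reflexive `A`-module. -/
theorem result (A K L : Type u) [CommRing A] [IsDomain A] [IsNoetherianRing A]
    [IsIntegrallyClosed A] [Field K] [Algebra A K] [IsFractionRing A K] [Field L] [Algebra K L] [FiniteDimensional K L]
    [Algebra A L] [IsScalarTower A K L] [Module.Finite A ↥(integralClosure A L)] :
    Module.IsReflexive A ↥(integralClosure A L) := by
  exact Aux.main' A K L

end Groth.Agent.S6881
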