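import Groth.Statements.S6882
import Mathlib
set_option linter.style.haveILetI false

set_option autoImplicit false
universe u
open CAlg

namespace Groth.Agent.S6882

/-- For a finite module `M` over a discrete valuation ring `R`, the evaluation map from `M` to its
double dual `M**` is surjective. -/
theorem result (R : Type u) [CommRing R] [IsDomain R]
    [IsDiscreteValuationRing R] (M : Type u) [AddCommGroup M] [Module R M] [Module.Finite R M] :
    Function.Surjective (Module.Dual.eval R M) := by
  classical
  intro η
  let T := Submodule.torsion R M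
  let Q := M ⧸ T
  haveI : Module.Free R Q := Module.free_of_finite_type_torsion_free'
  have hker : ∀ φ : Module.Dual R M, T ≤ LinearMap.ker φ := by
    intro φ x hx
    obtain ⟨a, ha⟩ := (Submodule.mem_torsion_iff x).mp hx
    rw [LinearMap.mem_ker]
    have h1 : (a : R) * φ x = 0 := by
      rw [← smul_eq_mul, ← map_smul]
      have : (a : R) • x = 0 := ha
      rw [this, map_zero]
    rcases mul_eq_zero.mp h1 with h2 | h2
    · exact absurd h2 (nonZeroDivisors.ne_zero a.2)
    · exact h2
  let η' : Module.Dual R (Module.Dual R Q) := η ∘ₗ T.mkQ.dualMap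
  obtain ⟨q, hq⟩ := (Module.bijective_dual_eval R Q).2 η'
  obtain ⟨m, rfl⟩ := Submodule.Quotient.mk_surjective T q
  refine ⟨m, ?_⟩
  ext φ
  rw [Module.Dual.eval_apply]
  have h1 := LinearMap.congr_fun hq (T.liftQ φ (hker φ))
  rw [Module.Dual.eval_apply, Submodule.liftQ_apply] at h1
  rw [h1]
  simp only [η', LinearMap.coe_comp, Function.comp_apply]
  congr 1

end Groth.Agent.S6882
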