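import Groth.Statements.S6886
import Mathlib

set_option autoImplicit false
universe u
open TensorProduct
open CAlg

namespace Groth.Agent.S6886

namespace H6886
open Polynomial TensorProduct


/-- simultaneous splitting of a list of monic polynomials in a finite free extension -/
lemma exists_splits_list_aux (n : ℕ) : ∀ (R : Type u) [CommRing R] [Nontrivial R] (L : List R[X]),
    L.length = n → (∀ p ∈ L, p.Monic) →
    ∃ (S : Type u) (_ : CommRing S) (_ : Algebra R S) (_ : Module.Finite R S) (_ : Module.Free R S)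
      (_ : Nontrivial S), ∀ p ∈ L, (p.map (algebraMap R S)).Splits := by
  induction n with
  | zero =>
    intro R _ _ L hn hL
    rw [List.length_eq_zero_iff] at hn
    subst hn
    exact ⟨R, inferInstance, inferInstance, inferInstance, inferInstance, inferInstance, by simp⟩
  | succ n ih =>
    intro R _ _ L hn hL
    match L, hn, hL with
    | p :: L, hn, hL =>
      obtain ⟨S₁, _, _, _, _, _, h₁⟩ := (hL p (List.mem_cons_self)).exists_splits_map
      obtain ⟨S₂, _, _, _, _, _, h₂⟩ := ih S₁ (L.map (Polynomial.map (algebraMap R S₁))) (by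
        simpa using hn) (by
        intro q hq
        rw [List.mem_map] at hq
        obtain ⟨q', hq', rfl⟩ := hq
        exact (hL q' (List.mem_cons_of_mem _ hq')).map _)
      algebraize [(algebraMap S₁ S₂).comp (algebraMap R S₁)]
      refine ⟨S₂, ‹_›, ‹_›, .trans S₁ _, .trans (S := S₁), ‹_›, ?_⟩
      intro q hq
      rw [IsScalarTower.algebraMap_eq R S₁ S₂, ← Polynomial.map_map]
      rcases List.mem_cons.mp hq with rfl | hq
      · exact h₁.map _
      · exact h₂ _ (List.mem_map_of_mem hq)

end H6886

namespace H6886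
open Polynomial TensorProduct


lemma exists_fin_prod {R' : Type u} [CommRing R'] (p : R'[X]) (hp : p.Monic) (hs : p.Splits) :
    ∃ (d : ℕ) (α : Fin d → R'), p = ∏ j, (X - C (α j)) := by
  obtain ⟨m, hm⟩ := splits_iff_exists_multiset.mp hs
  rw [hp.leadingCoeff, C_1, one_mul] at hm
  obtain ⟨l, rfl⟩ := Quotient.exists_rep m
  refine ⟨l.length, fun j => l.get j, ?_⟩
  rw [hm]
  simp only [Multiset.quot_mk_to_coe, Multiset.map_coe, Multiset.prod_coe]
  rw [← List.prod_ofFn]
  congr 1
  rw [show (fun x : Fin l.length => X - C (l.get x)) = (fun x => (X - C x : R'[X])) ∘ l.get from rfl,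
    ← List.map_ofFn, List.ofFn_get]

theorem main (R S : Type u) [CommRing R] [CommRing S] [Algebra R S] [Module.Finite R S] :
    ∃ (R' : Type u) (_ : CommRing R') (_ : Algebra R R'), Module.Finite R R' ∧ Module.Free R R' ∧
      Function.Injective (algebraMap R R') ∧
      ∃ (n : ℕ) (d : Fin n → ℕ) (α : (i : Fin n) → Fin (d i) → R')
        (φ : MvPolynomial (Fin n) R' →ₐ[R'] R' ⊗[R] S), Function.Surjective φ ∧
          ∀ i, φ (∏ j, (MvPolynomial.X i - MvPolynomial.C (α i j))) = 0 := by
  rcases subsingleton_or_nontrivial R with hR | hR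
  · refine ⟨R, inferInstance, inferInstance, inferInstance, inferInstance, Function.injective_id,
      0, Fin.elim0, fun i => Fin.elim0 i, MvPolynomial.aeval Fin.elim0, ?_, fun i => Fin.elim0 i⟩
    have : Subsingleton (R ⊗[R] S) := Module.subsingleton R _
    intro y
    exact ⟨0, Subsingleton.elim _ _⟩
  · have hft : Algebra.FiniteType R S := inferInstance
    obtain ⟨n, f, hf⟩ := Algebra.FiniteType.iff_quotient_mvPolynomial''.mp hft
    have hint : ∀ i : Fin n, ∃ p : R[X], p.Monic ∧ Polynomial.aeval (f (MvPolynomial.X i)) p = 0 := by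
      intro i
      obtain ⟨p, hp, hp0⟩ := Algebra.IsIntegral.isIntegral (R := R) (f (MvPolynomial.X i))
      exact ⟨p, hp, hp0⟩
    choose P hPm hP0 using hint
    obtain ⟨R', _, _, _, _, _, hsplit⟩ := exists_splits_list_aux n R (List.ofFn P) (by simp) (by
      intro p hp
      rw [List.mem_ofFn] at hp
      obtain ⟨i, rfl⟩ := hp
      exact hPm i)
    have hroots : ∀ i : Fin n, ∃ (d : ℕ) (α : Fin d → R'),
        (P i).map (algebraMap R R') = ∏ j, (X - C (α j)) := fun i =>
      exists_fin_prod _ ((hPm i).map _) (hsplit _ (by rw [List.mem_ofFn]; exact ⟨i, rfl⟩))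
    choose d α hα using hroots
    let g : R' ⊗[R] MvPolynomial (Fin n) R →ₐ[R'] R' ⊗[R] S :=
      Algebra.TensorProduct.map (AlgHom.id R' R') f
    have hg : Function.Surjective g := Algebra.FiniteType.baseChangeAux_surj R' hf
    let φ : MvPolynomial (Fin n) R' →ₐ[R'] R' ⊗[R] S :=
      g.comp (MvPolynomial.algebraTensorAlgEquiv R R').symm.toAlgHom
    have hφX : ∀ i, φ (MvPolynomial.X i) = (1 : R') ⊗ₜ[R] f (MvPolynomial.X i) := by
      intro i
      simp [φ, g]
    refine ⟨R', ‹_›, ‹_›, ‹_›, ‹_›, ?_, n, d, α, φ, ?_, ?_⟩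
    · exact FaithfulSMul.algebraMap_injective R R'
    · exact hg.comp (MvPolynomial.algebraTensorAlgEquiv R R').symm.surjective
    · intro i
      have h1 : (∏ j, (MvPolynomial.X i - MvPolynomial.C (α i j)) : MvPolynomial (Fin n) R') =
          Polynomial.aeval (MvPolynomial.X i : MvPolynomial (Fin n) R')
            ((P i).map (algebraMap R R')) := by
        rw [hα i, map_prod]
        apply Finset.prod_congr rfl
        intro j _
        rw [map_sub, aeval_X, aeval_C, MvPolynomial.algebraMap_eq]
      rw [h1, ← Polynomial.aeval_algHom_apply, hφX, Polynomial.aeval_map_algebraMap]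
      have h2 : (1 : R') ⊗ₜ[R] f (MvPolynomial.X i) =
          (Algebra.TensorProduct.includeRight : S →ₐ[R] R' ⊗[R] S) (f (MvPolynomial.X i)) := rfl
      rw [h2, Polynomial.aeval_algHom_apply, hP0, map_zero]

end H6886

/-- Let `R → S` be a finite ring map. One can find an extension `R ⊆ R'` of rings, with `R'` finite and
free as an `R`-module, for which the ring `S ⊗_R R'` arises as a quotient of `R'[T_1, …,
T_n]/(P_1(T_1), …, P_n(T_n))` with each `P_i(T) = ∏_j (T - α_{ij})` a product of linear factors over
`R'`. -/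
theorem result (R S : Type u) [CommRing R] [CommRing S] [Algebra R S]
    [Module.Finite R S] :
    ∃ (R' : Type u) (_ : CommRing R') (_ : Algebra R R'), Module.Finite R R' ∧ Module.Free R R' ∧
      Function.Injective (algebraMap R R') ∧
      ∃ (n : ℕ) (d : Fin n → ℕ) (α : (i : Fin n) → Fin (d i) → R')
        (φ : MvPolynomial (Fin n) R' →ₐ[R'] R' ⊗[R] S), Function.Surjective φ ∧
          ∀ i, φ (∏ j, (MvPolynomial.X i - MvPolynomial.C (α i j))) = 0 := by
  exact H6886.main R S

end Groth.Agent.S6886
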