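import Groth.Statements.S6887
import Mathlib

set_option autoImplicit false
universe u
open Polynomial
open CAlg

namespace Groth.Agent.S6887

/-- Cayley–Hamilton for a matrix representing an endomorphism with respect to a spanning family -/
theorem aeval_charpoly_of_represents {R M ι : Type*} [CommRing R] [AddCommGroup M] [Module R M]
    [Fintype ι] [DecidableEq ι] (y : ι → M) (hy : Submodule.span R (Set.range y) = ⊤)
    (T : Matrix ι ι R) (φ : Module.End R M) (h : T.Represents y φ) :
    Polynomial.aeval φ T.charpoly = 0 := by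
  let T' : Matrix.isRepresentation R y := ⟨T, φ, h⟩
  have h1 : Matrix.isRepresentation.toEnd R y hy T' = φ :=
    Matrix.isRepresentation.eq_toEnd_of_represents R y hy T' h
  rw [← h1, Polynomial.aeval_algHom_apply, ← map_zero (Matrix.isRepresentation.toEnd R y hy)]
  congr 1
  ext1
  rw [Polynomial.aeval_subalgebra_coe, Matrix.aeval_self_charpoly, Subalgebra.coe_zero]


/-- Let `(A, I)` be a Zariski pair (`I` inside the Jacobson radical) and `A → B` a finite ring map.
Suppose `B/IB ≅ B₁ × B₂` as `A`-algebras with `A → B₁` surjective, and `b ∈ B` maps to `(1, 0)`.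
Then there is a monic `f ∈ A[x]` with `f(b) = 0` whose reduction modulo `I` is `(x - 1) x^d` for
some `d ≥ 1`. -/
theorem result (A B : Type u) [CommRing A] [CommRing B]
    [Algebra A B] [Module.Finite A B] (I : Ideal A) (hI : I ≤ Ideal.jacobson (⊥ : Ideal A))
    (B₁ B₂ : Type u) [CommRing B₁] [CommRing B₂] [Algebra A B₁] [Algebra A B₂]
    (e : (B ⧸ I.map (algebraMap A B)) ≃ₐ[A] B₁ × B₂) (h₁ : Function.Surjective (algebraMap A B₁)) (b : B)
    (hb : e (Ideal.Quotient.mk (I.map (algebraMap A B)) b) = (1, 0)) :
    ∃ (f : A[X]) (d : ℕ), f.Monic ∧ Polynomial.aeval b f = 0 ∧ 1 ≤ d ∧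
      f.map (Ideal.Quotient.mk I) = (X - 1) * X ^ d := by
  classical
  obtain ⟨n, s, hs⟩ := Module.Finite.exists_fin (R := A) (M := B)
  revert e hb
  generalize hJ : I.map (algebraMap A B) = J
  intro e hb
  have hmem : ∀ x : B, x ∈ J ↔ e (Ideal.Quotient.mk J x) = 0 := by
    intro x
    rw [EmbeddingLike.map_eq_zero_iff]
    exact Ideal.Quotient.eq_zero_iff_mem.symm
  have hsmulmk : ∀ (c : A) (x : B), Ideal.Quotient.mk J (c • x) = c • Ideal.Quotient.mk J x :=
    fun c x => rfl
  have hbb : b * b - b ∈ J := by
    rw [hmem, map_sub, map_mul, map_sub, map_mul, hb]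
    ext <;> simp
  have hb1 : ∀ x : B, b * ((1 - b) * x) ∈ J := by
    intro x
    have : b * ((1 - b) * x) = -(b * b - b) * x := by ring
    rw [this]
    exact J.mul_mem_right _ (J.neg_mem hbb)
  have hbx : ∀ x : B, ∃ c : A, b * x - c • b ∈ J := by
    intro x
    obtain ⟨c, hc⟩ := h₁ (e (Ideal.Quotient.mk J x)).1
    refine ⟨c, ?_⟩
    rw [hmem, map_sub, map_mul, hsmulmk, map_sub, map_mul, map_smul, hb]
    ext
    · simp [← hc, Algebra.smul_def]
    · simp
  have hsmul : I • (⊤ : Submodule A B) = J.restrictScalars A := by
    rw [← hJ]; exact Ideal.smul_top_eq_map I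
  -- the generating family
  let s' : Fin (n + 1) → B := Fin.cons 0 s
  let y : Option (Fin (n + 1)) → B := fun o => Option.elim o b (fun i => (1 - b) * s' i)
  have hy : Submodule.span A (Set.range y) = ⊤ := by
    rw [eq_top_iff]
    apply Submodule.le_of_le_smul_of_le_jacobson_bot (I := I) Module.Finite.fg_top hI
    intro x _
    have h1 : b * x ∈ Submodule.span A (Set.range y) ⊔ I • (⊤ : Submodule A B) := by
      obtain ⟨c, hc⟩ := hbx x
      have : b * x = c • b + (b * x - c • b) := by ring
      rw [this]
      refine Submodule.add_mem_sup ?_ ?_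
      · exact Submodule.smul_mem _ _ (Submodule.subset_span ⟨none, rfl⟩)
      · rw [hsmul]; exact hc
    have h2 : (1 - b) * x ∈ Submodule.span A (Set.range y) := by
      have hx : x ∈ Submodule.span A (Set.range s) := by rw [hs]; trivial
      refine Submodule.span_induction (p := fun x _ => (1 - b) * x ∈ Submodule.span A (Set.range y))
        ?_ ?_ ?_ ?_ hx
      · rintro _ ⟨i, rfl⟩
        exact Submodule.subset_span ⟨some i.succ, by simp [y, s']⟩
      · simp
      · intro u v _ _ hu hv
        rw [mul_add]; exact Submodule.add_mem _ hu hv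
      · intro c u _ hu
        rw [mul_smul_comm]; exact Submodule.smul_mem _ _ hu
    have : x = b * x + (1 - b) * x := by ring
    rw [this]
    exact Submodule.add_mem _ h1 (Submodule.mem_sup_left h2)
  -- the matrix of multiplication by `b`
  let δ : Option (Fin (n + 1)) → B := fun o => Option.elim o b (fun _ => 0)
  have hrel : ∀ j, ∃ (a : Option (Fin (n + 1)) →₀ A) (_ : ∀ i, a i ∈ I),
      (a.sum fun i c => c • y i) = b * y j - δ j := by
    intro j
    rw [← Submodule.mem_ideal_smul_span_iff_exists_sum, hy, hsmul]
    cases j with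
    | none => exact hbb
    | some i =>
      change b * ((1 - b) * s' i) - 0 ∈ J
      rw [sub_zero]; exact hb1 _
  choose c hcI hcsum using hrel
  let T : Matrix (Option (Fin (n + 1))) (Option (Fin (n + 1))) A :=
    fun i j => (if i = none ∧ j = none then 1 else 0) + c j i
  have hT : T.Represents y (Algebra.lmul A B b) := by
    rw [Matrix.represents_iff']
    intro j
    have h1 : ∑ i, c j i • y i = b * y j - δ j := by
      rw [← hcsum j, Finsupp.sum_fintype]
      intro i; simp
    have h2 : ∑ i, ((if i = none ∧ j = none then (1 : A) else 0)) • y i = δ j := by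
      cases j with
      | none =>
        rw [Finset.sum_eq_single none]
        · simp [δ, y]
        · intro i _ hi; simp [hi]
        · intro h; exact absurd (Finset.mem_univ _) h
      | some k =>
        simp [δ]
    simp only [T, add_smul, Finset.sum_add_distrib, h1, h2]
    simp
  refine ⟨T.charpoly, n + 1, Matrix.charpoly_monic T, ?_, by omega, ?_⟩
  · have h0 := aeval_charpoly_of_represents y hy T _ hT
    rw [Polynomial.aeval_algHom_apply] at h0
    have := LinearMap.congr_fun h0 1
    simpa using this
  · rw [← Matrix.charpoly_map]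
    have hmap : T.map (Ideal.Quotient.mk I) =
        Matrix.diagonal (fun i : Option (Fin (n + 1)) => if i = none then (1 : A ⧸ I) else 0) := by
      ext i j
      have hc0 : Ideal.Quotient.mk I (c j i) = 0 := Ideal.Quotient.eq_zero_iff_mem.mpr (hcI j i)
      simp only [Matrix.map_apply, T, map_add, hc0, add_zero, Matrix.diagonal_apply]
      cases i <;> cases j <;> simp
    rw [hmap, Matrix.charpoly_diagonal, Fintype.prod_option]
    simp

end Groth.Agent.S6887
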