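import Groth.Statements.S6888
import Mathlib

set_option autoImplicit false
universe u
open Polynomial
open CAlg

namespace Groth.Agent.S6888

/-- Let `A` be absolutely integrally closed (every monic polynomial over `A` is a product of linear
factors) and `I ⊆ A` an ideal contained in the Jacobson radical such that `A → A/I` is surjective
(hence bijective) on idempotents. Then `(A, I)` is a henselian pair. (The published statement also
records the converse, which holds for every henselian pair; this row states the sufficiency only.) -/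
theorem result (A : Type u) [CommRing A]
    (hA : ∀ f : A[X], f.Monic → ∃ s : Multiset A, f = (s.map fun a => X - C a).prod) (I : Ideal A)
    (hI : I ≤ Ideal.jacobson (⊥ : Ideal A))
    (hidem : ∀ e : A ⧸ I, IsIdempotentElem e → ∃ e' : A, IsIdempotentElem e' ∧ Ideal.Quotient.mk I e' = e) :
    HenselianRing A I := by
  classical
  refine ⟨hI, ?_⟩
  intro f hf a₀ hfa₀ hder
  obtain ⟨s, hs⟩ := hA f hf
  obtain ⟨l, rfl⟩ := Quot.exists_rep s
  -- index the roots by `Fin n`
  set n := l.length with hn
  set a : Fin n → A := fun i => l.get i with ha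
  have hl : l = List.ofFn a := (List.ofFn_get l).symm
  have hfprod : f = ∏ i : Fin n, (X - C (a i)) := by
    rw [hs]
    change (Multiset.map (fun a => X - C a) (l : Multiset A)).prod = _
    rw [Multiset.map_coe, Multiset.prod_coe, hl, List.map_ofFn, List.prod_ofFn]
    rfl
  -- evaluate
  set u : Fin n → A := fun j => a₀ - a j with hu
  have hfa : f.eval a₀ = ∏ j, u j := by
    rw [hfprod, Polynomial.eval_prod]
    simp [hu]
  have hfder : f.derivative.eval a₀ = ∑ j, ∏ i ∈ Finset.univ.erase j, u i := by
    rw [hfprod, Polynomial.derivative_prod_finset, Polynomial.eval_finset_sum]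
    refine Finset.sum_congr rfl fun j _ => ?_
    simp [Polynomial.eval_prod, hu]
  -- pass to the quotient
  set mk := Ideal.Quotient.mk I with hmk
  have hP : ∏ j, mk (u j) = 0 := by
    rw [← map_prod, ← hfa]
    exact Ideal.Quotient.eq_zero_iff_mem.mpr hfa₀
  obtain ⟨v, hv⟩ := hder
  have hvsum : (v : A ⧸ I) = ∑ j, ∏ i ∈ Finset.univ.erase j, mk (u i) := by
    rw [hv, hfder, map_sum]
    refine Finset.sum_congr rfl fun j _ => ?_
    rw [map_prod]
  set w : Fin n → A ⧸ I := fun j => (↑v⁻¹ : A ⧸ I) * ∏ i ∈ Finset.univ.erase j, mk (u i) with hw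
  have hwsum : ∑ j, w j = 1 := by
    simp only [hw]
    rw [← Finset.mul_sum, ← hvsum]
    exact v.inv_mul
  have hwu : ∀ j, w j * mk (u j) = 0 := by
    intro j
    simp only [hw]
    rw [mul_assoc, mul_comm (∏ i ∈ Finset.univ.erase j, mk (u i)),
      Finset.mul_prod_erase Finset.univ (fun i => mk (u i)) (Finset.mem_univ j), hP, mul_zero]
  have hworth : ∀ j k, j ≠ k → w j * w k = 0 := by
    intro j k hjk
    have hk : k ∈ Finset.univ.erase j := Finset.mem_erase.mpr ⟨hjk.symm, Finset.mem_univ k⟩
    have h1 : w j = (↑v⁻¹ : A ⧸ I) * (mk (u k) * ∏ i ∈ (Finset.univ.erase j).erase k, mk (u i)) := by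
      simp only [hw]
      rw [Finset.mul_prod_erase (Finset.univ.erase j) (fun i => mk (u i)) hk]
    rw [h1]
    have h2 := hwu k
    calc (↑v⁻¹ : A ⧸ I) * (mk (u k) * ∏ i ∈ (Finset.univ.erase j).erase k, mk (u i)) * w k
        = (↑v⁻¹ : A ⧸ I) * (∏ i ∈ (Finset.univ.erase j).erase k, mk (u i)) * (w k * mk (u k)) := by
          ring
      _ = 0 := by rw [h2, mul_zero]
  have hwidem : ∀ j, IsIdempotentElem (w j) := by
    intro j
    have : w j = w j * ∑ k, w k := by rw [hwsum, mul_one]
    rw [Finset.mul_sum, Finset.sum_eq_single j] at this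
    · exact this.symm
    · intro k _ hkj
      exact hworth j k (Ne.symm hkj)
    · intro h
      exact absurd (Finset.mem_univ j) h
  -- lift the idempotents
  choose e' he'idem he'mk using fun j => hidem (w j) (hwidem j)
  -- idempotents in the Jacobson radical vanish
  have hzero : ∀ x : A, IsIdempotentElem x → x ∈ I → x = 0 := by
    intro x hx hxI
    have hunit := (Ideal.mem_jacobson_bot.mp (hI hxI)) (-1)
    have h0 : x * (x * -1 + 1) = 0 := by
      have := hx.eq
      calc x * (x * -1 + 1) = x - x * x := by ring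
        _ = 0 := by rw [this, sub_self]
    exact (hunit.mul_left_eq_zero).mp h0
  have he'orth : ∀ j k, j ≠ k → e' j * e' k = 0 := by
    intro j k hjk
    apply hzero
    · exact (he'idem j).mul (he'idem k)
    · rw [← Ideal.Quotient.eq_zero_iff_mem, map_mul, he'mk, he'mk]
      exact hworth j k hjk
  have hEidem : IsIdempotentElem (∑ j, e' j) := by
    unfold IsIdempotentElem
    rw [Finset.sum_mul]
    refine Finset.sum_congr rfl fun j _ => ?_
    rw [Finset.mul_sum, Finset.sum_eq_single j]
    · exact (he'idem j).eq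
    · intro k _ hkj
      exact he'orth j k (Ne.symm hkj)
    · intro h
      exact absurd (Finset.mem_univ j) h
  have hE : ∑ j, e' j = 1 := by
    have h1 : (1 - ∑ j, e' j) = 0 := by
      apply hzero
      · exact hEidem.one_sub
      · rw [← Ideal.Quotient.eq_zero_iff_mem, map_sub, map_one, map_sum]
        rw [Finset.sum_congr rfl (fun j _ => he'mk j), hwsum, sub_self]
    exact (sub_eq_zero.mp h1).symm
  -- the root
  refine ⟨∑ j, e' j * a j, ?_, ?_⟩
  · -- `f` vanishes at the glued root
    change f.eval (∑ j, e' j * a j) = 0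
    have hroot : ∀ k, f.eval (a k) = 0 := by
      intro k
      rw [hfprod, Polynomial.eval_prod]
      exact Finset.prod_eq_zero (Finset.mem_univ k) (by simp)
    have hk : ∀ k, e' k * f.eval (∑ j, e' j * a j) = 0 := by
      intro k
      obtain ⟨g, hg⟩ := Polynomial.sub_dvd_eval_sub (∑ j, e' j * a j) (a k) f
      have h1 : e' k * ((∑ j, e' j * a j) - a k) = 0 := by
        have h2 : a k = ∑ j, e' j * a k := by rw [← Finset.sum_mul, hE, one_mul]
        conv_lhs => rw [h2]
        rw [← Finset.sum_sub_distrib, Finset.mul_sum]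
        refine Finset.sum_eq_zero fun j _ => ?_
        by_cases hjk : j = k
        · subst hjk; ring
        · rw [← mul_sub, ← mul_assoc, he'orth k j (Ne.symm hjk), zero_mul]
      have h3 : f.eval (∑ j, e' j * a j) = ((∑ j, e' j * a j) - a k) * g := by
        rw [← hg, hroot k, sub_zero]
      rw [h3, ← mul_assoc, h1, zero_mul]
    calc f.eval (∑ j, e' j * a j) = (∑ k, e' k) * f.eval (∑ j, e' j * a j) := by rw [hE, one_mul]
      _ = 0 := by rw [Finset.sum_mul]; exact Finset.sum_eq_zero fun k _ => hk k
  · have h2 : (∑ j, e' j * a j) - a₀ = ∑ j, e' j * (a j - a₀) := by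
      have h3 : a₀ = ∑ j, e' j * a₀ := by rw [← Finset.sum_mul, hE, one_mul]
      conv_lhs => rw [h3]
      rw [← Finset.sum_sub_distrib]
      refine Finset.sum_congr rfl fun j _ => ?_
      ring
    rw [h2]
    refine Ideal.sum_mem _ fun j _ => ?_
    rw [← Ideal.Quotient.eq_zero_iff_mem, map_mul]
    change mk (e' j) * mk (a j - a₀) = 0
    rw [he'mk]
    have : mk (a j - a₀) = - mk (u j) := by simp [hu]
    rw [this, mul_neg, hwu, neg_zero]

end Groth.Agent.S6888
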