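import Groth.Statements.S6893
import Mathlib
import Groth.Agent.Lib.Helper4.MilnorFlat

set_option autoImplicit false
universe u
set_option linter.style.haveILetI false
open TensorProduct
open CAlg
open Groth.Agent.Helper4.Milnor

namespace Groth.Agent.S6893

/-- Let `M` be a module over a ring `R` and `I₁, I₂ ⊆ R` ideals. Suppose flatness of `M/I₁M` as an
`R/I₁`-module holds, and likewise `M/I₂M` is a flat `R/I₂`-module; then the quotient `M/(I₁ ∩ I₂)M`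
is also flat as a module over `R/(I₁ ∩ I₂)`. -/
theorem result {R : Type u} [CommRing R] (M : Type u) [AddCommGroup M] [Module R M]
    (I₁ I₂ : Ideal R) [Module.Flat (R ⧸ I₁) ((R ⧸ I₁) ⊗[R] M)] [Module.Flat (R ⧸ I₂) ((R ⧸ I₂) ⊗[R] M)] :
    Module.Flat (R ⧸ (I₁ ⊓ I₂)) ((R ⧸ (I₁ ⊓ I₂)) ⊗[R] M) := by
  letI a1 : Algebra (R ⧸ (I₁ ⊓ I₂)) (R ⧸ I₁) :=
    (Ideal.Quotient.factor (inf_le_left : I₁ ⊓ I₂ ≤ I₁)).toAlgebra
  letI a2 : Algebra (R ⧸ (I₁ ⊓ I₂)) (R ⧸ I₂) :=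
    (Ideal.Quotient.factor (inf_le_right : I₁ ⊓ I₂ ≤ I₂)).toAlgebra
  letI a3 : Algebra (R ⧸ I₁) (R ⧸ (I₁ ⊔ I₂)) :=
    (Ideal.Quotient.factor (le_sup_left : I₁ ≤ I₁ ⊔ I₂)).toAlgebra
  letI a4 : Algebra (R ⧸ I₂) (R ⧸ (I₁ ⊔ I₂)) :=
    (Ideal.Quotient.factor (le_sup_right : I₂ ≤ I₁ ⊔ I₂)).toAlgebra
  letI a5 : Algebra (R ⧸ (I₁ ⊓ I₂)) (R ⧸ (I₁ ⊔ I₂)) :=
    (Ideal.Quotient.factor (inf_le_left.trans le_sup_left : I₁ ⊓ I₂ ≤ I₁ ⊔ I₂)).toAlgebra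
  haveI t1 : IsScalarTower (R ⧸ (I₁ ⊓ I₂)) (R ⧸ I₁) (R ⧸ (I₁ ⊔ I₂)) :=
    IsScalarTower.of_algebraMap_eq (by
      intro x
      obtain ⟨r, rfl⟩ := Ideal.Quotient.mk_surjective x
      rfl)
  haveI t2 : IsScalarTower (R ⧸ (I₁ ⊓ I₂)) (R ⧸ I₂) (R ⧸ (I₁ ⊔ I₂)) :=
    IsScalarTower.of_algebraMap_eq (by
      intro x
      obtain ⟨r, rfl⟩ := Ideal.Quotient.mk_surjective x
      rfl)
  haveI t3 : IsScalarTower R (R ⧸ (I₁ ⊓ I₂)) (R ⧸ I₁) :=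
    IsScalarTower.of_algebraMap_eq (by intro x; rfl)
  haveI t4 : IsScalarTower R (R ⧸ (I₁ ⊓ I₂)) (R ⧸ I₂) :=
    IsScalarTower.of_algebraMap_eq (by intro x; rfl)
  have hsq : EtMil.IsFibreSquare (R ⧸ (I₁ ⊓ I₂)) (R ⧸ I₁) (R ⧸ I₂) (R ⧸ (I₁ ⊔ I₂)) := by
    constructor
    · intro x
      obtain ⟨r, rfl⟩ := Ideal.Quotient.mk_surjective x
      exact ⟨Ideal.Quotient.mk I₂ r, rfl⟩
    · intro b a' h
      obtain ⟨r₁, rfl⟩ := Ideal.Quotient.mk_surjective b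
      obtain ⟨r₂, rfl⟩ := Ideal.Quotient.mk_surjective a'
      have h' : Ideal.Quotient.mk (I₁ ⊔ I₂) r₁ = Ideal.Quotient.mk (I₁ ⊔ I₂) r₂ := h
      rw [Ideal.Quotient.eq, Submodule.mem_sup] at h'
      obtain ⟨u, hu, v, hv, huv⟩ := h'
      -- r₁ - u = r₂ + v
      refine ⟨Ideal.Quotient.mk _ (r₁ - u), ⟨?_, ?_⟩, ?_⟩
      · change Ideal.Quotient.mk I₁ (r₁ - u) = Ideal.Quotient.mk I₁ r₁
        rw [Ideal.Quotient.eq]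
        simpa using I₁.neg_mem hu
      · change Ideal.Quotient.mk I₂ (r₁ - u) = Ideal.Quotient.mk I₂ r₂
        rw [Ideal.Quotient.eq]
        have : r₁ - u - r₂ = v := by linear_combination -huv
        rw [this]; exact hv
      · rintro y ⟨hy1, hy2⟩
        obtain ⟨s, rfl⟩ := Ideal.Quotient.mk_surjective y
        have hy1' : Ideal.Quotient.mk I₁ s = Ideal.Quotient.mk I₁ r₁ := hy1
        have hy2' : Ideal.Quotient.mk I₂ s = Ideal.Quotient.mk I₂ r₂ := hy2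
        rw [Ideal.Quotient.eq] at hy1' hy2' ⊢
        refine ⟨?_, ?_⟩
        · have : s - (r₁ - u) = (s - r₁) + u := by ring
          rw [this]; exact I₁.add_mem hy1' hu
        · have : s - (r₁ - u) = (s - r₂) - v := by linear_combination huv
          rw [this]; exact I₂.sub_mem hy2' hv
  haveI f1 : Module.Flat (R ⧸ I₁) ((R ⧸ I₁) ⊗[R ⧸ (I₁ ⊓ I₂)] ((R ⧸ (I₁ ⊓ I₂)) ⊗[R] M)) :=
    Module.Flat.of_linearEquiv
      (TensorProduct.AlgebraTensorModule.cancelBaseChange R (R ⧸ (I₁ ⊓ I₂)) (R ⧸ I₁) (R ⧸ I₁) M)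
  haveI f2 : Module.Flat (R ⧸ I₂) ((R ⧸ I₂) ⊗[R ⧸ (I₁ ⊓ I₂)] ((R ⧸ (I₁ ⊓ I₂)) ⊗[R] M)) :=
    Module.Flat.of_linearEquiv
      (TensorProduct.AlgebraTensorModule.cancelBaseChange R (R ⧸ (I₁ ⊓ I₂)) (R ⧸ I₂) (R ⧸ I₂) M)
  exact flat_of_tensor _ hsq


end Groth.Agent.S6893
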