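import Groth.Statements.S6898
import Mathlib
import Mathlib

set_option autoImplicit false
universe u
open TensorProduct
open CAlg

namespace Groth.Agent.S6898

open TensorProduct

namespace H6898
open IsLocalRing Module

variable {R : Type u} [CommRing R] [IsLocalRing R] {M : Type u} [AddCommGroup M] [Module R M]

local notation "k" => ResidueField R
local notation "𝔪" => maximalIdeal R

/-- Over a local ring, vectors of a flat module which are independent mod `𝔪` are "independent
modulo every ideal". -/
theorem mem_of_sum_mem [Flat R M] (J : Ideal R) {ι : Type*} (s : Finset ι) :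
    ∀ (v : ι → M) (_ : LinearIndependent k (TensorProduct.mk R k M 1 ∘ v)) (f : ι → R),
      ∑ i ∈ s, f i • v i ∈ J • (⊤ : Submodule R M) → ∀ i ∈ s, f i ∈ J := by
  classical
  induction s using Finset.induction with
  | empty => intro v h f _ i hi; exact (Finset.notMem_empty _ hi).elim
  | insert n s hn ih =>
    intro v h f hfv
    -- write the element of `J • ⊤` as a combination
    have hfv' := hfv
    rw [← Submodule.span_univ (R := R), ← Set.range_id,
      Submodule.mem_ideal_smul_span_iff_exists_sum] at hfv'
    obtain ⟨a, haJ, hasum⟩ := hfv'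
    let T := a.support
    let κ₀ := {i // i ∈ insert n s} ⊕ {m // m ∈ T}
    let F : κ₀ → R := Sum.elim (fun i => f i.1) (fun m => -a m.1)
    let X : κ₀ → M := Sum.elim (fun i => v i.1) (fun m => m.1)
    have hrel : ∑ c, F c • X c = 0 := by
      rw [Fintype.sum_sum_type]
      simp only [F, X, Sum.elim_inl, Sum.elim_inr, neg_smul, Finset.sum_neg_distrib]
      rw [Finset.sum_coe_sort (insert n s) (fun i => f i • v i),
        Finset.sum_coe_sort T (fun m => a m • m)]
      rw [← hasum]
      exact add_neg_cancel _
    obtain ⟨l, A, y, hay, hfa⟩ := Flat.isTrivialRelation_of_sum_smul_eq_zero hrel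
    have hvn : v n ∉ 𝔪 • (⊤ : Submodule R M) := by
      simpa only [← LinearMap.ker_tensorProductMk] using! h.ne_zero n
    let n' : κ₀ := Sum.inl ⟨n, Finset.mem_insert_self n s⟩
    obtain ⟨j, hj⟩ : ∃ j, IsUnit (A n' j) := by
      contrapose! hvn
      rw [show v n = _ from hay n']
      exact sum_mem fun _ _ ↦ Submodule.smul_mem_smul (hvn _) ⟨⟩
    let a' (i : ι) : R := if hi : i ∈ insert n s then A (Sum.inl ⟨i, hi⟩) j else 0
    have ha'n : a' n = A n' j := by simp [a', n']
    -- the relation modulo J
    have hε : f n * a' n + ∑ i ∈ s, f i * a' i ∈ J := by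
      have h1 := hfa j
      rw [Fintype.sum_sum_type] at h1
      simp only [F, Sum.elim_inl, Sum.elim_inr, neg_mul, Finset.sum_neg_distrib] at h1
      have h2 : ∑ i : {i // i ∈ insert n s}, f i.1 * A (Sum.inl i) j =
          ∑ i ∈ insert n s, f i * a' i := by
        rw [← Finset.sum_coe_sort (insert n s) (fun i => f i * a' i)]
        refine Finset.sum_congr rfl fun i _ => ?_
        simp only [a']
        rw [dif_pos i.2]
      rw [h2, Finset.sum_insert hn, ← sub_eq_add_neg, sub_eq_zero] at h1
      rw [h1]
      exact sum_mem fun m _ => J.mul_mem_right _ (haJ m.1)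
    set ε := f n * a' n + ∑ i ∈ s, f i * a' i with hεdef
    have hu : IsUnit (a' n) := ha'n ▸ hj
    let c (i : ι) : R := -(if i = n then 0 else a' i) * ↑hu.unit⁻¹
    have hcn : c n = 0 := by simp [c]
    have h' : LinearIndependent k (TensorProduct.mk R k M 1 ∘ (v + (c · • v n))) := by
      have e : TensorProduct.mk R k M 1 ∘ (v + (c · • v n)) =
          (TensorProduct.mk R k M 1 ∘ v) +
            (fun i => (residue R ∘ c) i • (TensorProduct.mk R k M 1 ∘ v) n) := by
        ext i
        simp only [Function.comp_apply, Pi.add_apply, TensorProduct.mk_apply, tmul_add,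
          tmul_smul]
        congr 1
      rw [e]
      exact (linearIndependent_add_smul_iff (c := residue R ∘ c) (i := n)
        (by simp [hcn])).mpr h
    have hsum : ∑ i ∈ s, f i • (v + (c · • v n)) i ∈ J • (⊤ : Submodule R M) := by
      have e : ∑ i ∈ s, f i • (v + (c · • v n)) i =
          (∑ i ∈ insert n s, f i • v i) - (ε * ↑hu.unit⁻¹) • v n := by
        have hc : ∀ i ∈ s, c i = -(a' i) * ↑hu.unit⁻¹ := by
          intro i hi
          simp only [c]
          rw [if_neg (ne_of_mem_of_not_mem hi hn)]
        have h1 : ∑ i ∈ s, f i • (v + (c · • v n)) i =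
            ∑ i ∈ s, f i • v i + (∑ i ∈ s, f i * c i) • v n := by
          simp only [Pi.add_apply, smul_add, Finset.sum_add_distrib, smul_smul, Finset.sum_smul]
        have h2 : ∑ i ∈ s, f i * c i = f n - ε * ↑hu.unit⁻¹ := by
          have : ∑ i ∈ s, f i * c i = -(∑ i ∈ s, f i * a' i) * ↑hu.unit⁻¹ := by
            rw [Finset.sum_congr rfl (fun i hi => by rw [hc i hi])]
            rw [neg_mul, Finset.sum_mul, ← Finset.sum_neg_distrib]
            refine Finset.sum_congr rfl fun i _ => by ring
          rw [this, hεdef]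
          have hinv : a' n * ↑hu.unit⁻¹ = 1 := IsUnit.mul_val_inv hu
          linear_combination (f n) * hinv
        rw [h1, h2, Finset.sum_insert hn, sub_smul]
        abel
      rw [e]
      exact sub_mem hfv (Submodule.smul_mem_smul (J.mul_mem_right _ hε) ⟨⟩)
    have hs := ih _ h' f hsum
    intro i hi
    rcases Finset.mem_insert.mp hi with rfl | hi
    · have h3 : f i * a' i ∈ J := by
        have : f i * a' i = ε - ∑ i ∈ s, f i * a' i := by rw [hεdef]; ring
        rw [this]
        exact sub_mem hε (sum_mem fun l hl => J.mul_mem_right _ (hs l hl))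
      have := J.mul_mem_right (↑hu.unit⁻¹) h3
      rwa [mul_assoc, IsUnit.mul_val_inv, mul_one] at this
    · exact hs i hi


theorem main {A : Type u} [CommRing A] [IsLocalRing A] {M N : Type u}
    [AddCommGroup M] [Module A M] [Module.Flat A M] [AddCommGroup N] [Module A N] [Module.Flat A N]
    (u : M →ₗ[A] N)
    (hu : Function.Injective (u.baseChange (IsLocalRing.ResidueField A))) (x : M) (I : Ideal A)
    (hx : IsLeast {J : Ideal A | x ∈ J • (⊤ : Submodule A M)} I) :
    IsLeast {J : Ideal A | u x ∈ J • (⊤ : Submodule A N)} I := by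
  classical
  have hxI : x ∈ I • (⊤ : Submodule A M) := hx.1
  have hmin : ∀ J : Ideal A, x ∈ J • (⊤ : Submodule A M) → I ≤ J := fun J hJ => hx.2 hJ
  -- I is finitely generated
  have hFG : I.FG := by
    have h1 := hxI
    rw [← Submodule.span_univ (R := A), ← Set.range_id,
      Submodule.mem_ideal_smul_span_iff_exists_sum] at h1
    obtain ⟨a, haI, hasum⟩ := h1
    let I₀ : Ideal A := Ideal.span ((a.support.image a : Finset A) : Set A)
    have h2 : I₀ ≤ I := by
      rw [Ideal.span_le]
      intro c hc
      simp only [Finset.coe_image, Set.mem_image] at hc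
      obtain ⟨m, -, rfl⟩ := hc
      exact haI m
    have h3 : x ∈ I₀ • (⊤ : Submodule A M) := by
      rw [← hasum]
      refine Submodule.sum_mem _ fun m hm => ?_
      refine Submodule.smul_mem_smul (Ideal.subset_span ?_) trivial
      simp only [Finset.coe_image, Set.mem_image]
      exact ⟨m, hm, rfl⟩
    have : I = I₀ := le_antisymm (hmin _ h3) h2
    rw [this]
    exact ⟨_, rfl⟩
  have hex : ∃ r : ℕ, ∃ a : Fin r → A, Ideal.span (Set.range a) = I :=
    Submodule.fg_iff_exists_fin_generating_family.mp hFG
  obtain ⟨r, ⟨a, ha⟩, hrmin⟩ : ∃ r, (∃ a : Fin r → A, Ideal.span (Set.range a) = I) ∧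
      ∀ n, (∃ a : Fin n → A, Ideal.span (Set.range a) = I) → r ≤ n :=
    ⟨Nat.find hex, Nat.find_spec hex, fun n hn => Nat.find_min' hex hn⟩
  have haI : ∀ i, a i ∈ I := fun i => ha ▸ Ideal.subset_span (Set.mem_range_self i)
  -- representation of x
  have key3 : ∀ y ∈ (Ideal.span (Set.range a)) • (⊤ : Submodule A M),
      ∃ m : Fin r → M, y = ∑ i, a i • m i := by
    intro y hy
    refine Submodule.smul_induction_on hy ?_ ?_
    · intro c hc n _
      obtain ⟨g, rfl⟩ := (Ideal.mem_span_range_iff_exists_fun).mp hc
      refine ⟨fun i => g i • n, ?_⟩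
      rw [Finset.sum_smul]
      refine Finset.sum_congr rfl fun i _ => ?_
      rw [mul_smul, smul_comm]
    · rintro y z ⟨m1, rfl⟩ ⟨m2, rfl⟩
      exact ⟨m1 + m2, by simp [smul_add, Finset.sum_add_distrib]⟩
  obtain ⟨m, hm⟩ := key3 x (ha ▸ hxI)
  -- independence of m modulo the maximal ideal
  have hindep : LinearIndependent (ResidueField A)
      (TensorProduct.mk A (ResidueField A) M 1 ∘ m) := by
    by_contra hnot
    rw [Fintype.not_linearIndependent_iff] at hnot
    obtain ⟨g, hg, j, hgj⟩ := hnot
    choose c hc using fun i => IsLocalRing.residue_surjective (g i)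
    have hcj : IsUnit (c j) := by
      rw [← IsLocalRing.residue_ne_zero_iff_isUnit, hc]; exact hgj
    let w : M := ∑ i, c i • m i
    have hw : w ∈ (maximalIdeal A) • (⊤ : Submodule A M) := by
      rw [← LinearMap.ker_tensorProductMk, LinearMap.mem_ker]
      show (TensorProduct.mk A (ResidueField A) M 1) w = 0
      rw [← hg]
      simp only [w, map_sum, Function.comp_apply, TensorProduct.mk_apply]
      refine Finset.sum_congr rfl fun i _ => ?_
      rw [← hc i, TensorProduct.tmul_smul, TensorProduct.smul_tmul', TensorProduct.smul_tmul',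
        Algebra.smul_def, smul_eq_mul]
      rfl
    let d : A := ↑hcj.unit⁻¹
    have hd : c j * d = 1 := IsUnit.mul_val_inv hcj
    let b : Fin r → A := fun i => a i - a j * d * c i
    have hbj : b j = 0 := by
      simp only [b]
      linear_combination (-a j) * hd
    have hbI : ∀ i, b i ∈ I := fun i =>
      sub_mem (haI i) (I.mul_mem_right _ (I.mul_mem_right _ (haI j)))
    let I' : Ideal A := Ideal.span (Set.range b)
    have hI'I : I' ≤ I := Ideal.span_le.mpr (by rintro _ ⟨i, rfl⟩; exact hbI i)
    have hxeq : x = ∑ i, b i • m i + (a j * d) • w := by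
      simp only [b, w, sub_smul, Finset.sum_sub_distrib, Finset.smul_sum, smul_smul]
      rw [← hm]; abel
    have hxK : x ∈ (I' ⊔ maximalIdeal A • I) • (⊤ : Submodule A M) := by
      rw [hxeq]
      refine add_mem ?_ ?_
      · refine Submodule.sum_mem _ fun i _ => ?_
        exact Submodule.smul_mem_smul
          (Ideal.mem_sup_left (Ideal.subset_span (Set.mem_range_self i))) trivial
      · have h1 : (a j * d) • w ∈ I • (maximalIdeal A • (⊤ : Submodule A M)) :=
          Submodule.smul_mem_smul (I.mul_mem_right _ (haI j)) hw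
        rw [← Submodule.smul_assoc] at h1
        refine Submodule.smul_mono ?_ le_rfl h1
        rw [smul_eq_mul, mul_comm]
        exact le_sup_right
    have hle : I ≤ I' ⊔ maximalIdeal A • I := hmin _ hxK
    have hII' : I ≤ I' :=
      Submodule.le_of_le_smul_of_le_jacobson_bot hFG (IsLocalRing.maximalIdeal_le_jacobson ⊥) hle
    -- now I is generated by r - 1 elements
    obtain ⟨r', rfl⟩ : ∃ r', r = r' + 1 :=
      Nat.exists_eq_succ_of_ne_zero (by rintro rfl; exact j.elim0)
    have hgen : Ideal.span (Set.range (b ∘ j.succAbove)) = I := by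
      apply le_antisymm
      · exact (Ideal.span_mono (Set.range_comp_subset_range _ _)).trans hI'I
      · refine hII'.trans (Ideal.span_le.mpr ?_)
        rintro _ ⟨i, rfl⟩
        by_cases hij : i = j
        · rw [hij, hbj]; exact Submodule.zero_mem _
        · obtain ⟨i', rfl⟩ := Fin.exists_succAbove_eq hij
          exact Ideal.subset_span ⟨i', rfl⟩
    have := hrmin r' ⟨_, hgen⟩
    omega
  -- independence of u ∘ m
  have hindep' : LinearIndependent (ResidueField A)
      (TensorProduct.mk A (ResidueField A) N 1 ∘ (u ∘ m)) := by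
    have := hindep.map' (u.baseChange (ResidueField A)) (LinearMap.ker_eq_bot.mpr hu)
    have e : TensorProduct.mk A (ResidueField A) N 1 ∘ (u ∘ m) =
        (u.baseChange (ResidueField A)) ∘ (TensorProduct.mk A (ResidueField A) M 1 ∘ m) := by
      ext i
      simp
    rw [e]
    exact this
  refine ⟨?_, ?_⟩
  · show u x ∈ I • (⊤ : Submodule A N)
    have : u x ∈ (I • (⊤ : Submodule A M)).map u := ⟨x, hxI, rfl⟩
    rw [Submodule.map_smul''] at this
    exact Submodule.smul_mono le_rfl le_top this
  · intro J hJ
    have hJ' : ∑ i ∈ Finset.univ, a i • (u ∘ m) i ∈ J • (⊤ : Submodule A N) := by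
      have : u x = ∑ i, a i • (u ∘ m) i := by
        rw [hm, map_sum]; simp
      rw [← this]; exact hJ
    have hall := mem_of_sum_mem J Finset.univ (u ∘ m) hindep' a hJ'
    rw [← ha, Ideal.span_le]
    rintro _ ⟨i, rfl⟩
    exact hall i (Finset.mem_univ i)

end H6898

/-- Let `(A, 𝔪)` be a local ring and `u : M → N` a linear map between flat `A`-modules whose reduction
`M/𝔪M → N/𝔪N` is injective. If `I` is the content ideal of some `x ∈ M` (the least ideal `I` with `x
∈ IM`), then `I` is also the least ideal `J` with `u(x) ∈ J·N`. -/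
theorem result {A : Type u} [CommRing A] [IsLocalRing A] {M N : Type u}
    [AddCommGroup M] [Module A M] [Module.Flat A M] [AddCommGroup N] [Module A N] [Module.Flat A N] (u : M →ₗ[A] N)
    (hu : Function.Injective (u.baseChange (IsLocalRing.ResidueField A))) (x : M) (I : Ideal A)
    (hx : IsLeast {J : Ideal A | x ∈ J • (⊤ : Submodule A M)} I) :
    IsLeast {J : Ideal A | u x ∈ J • (⊤ : Submodule A N)} I := by
  exact H6898.main u hu x I hx

end Groth.Agent.S6898
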