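import Groth.Statements.S6909
import Mathlib

set_option autoImplicit false
universe u
open CAlg

namespace Groth.Agent.S6909

section aux

variable {A : Type u} [CommRing A] (I : Ideal A) {P Q : Type u} [AddCommGroup P] [Module A P]
  [AddCommGroup Q] [Module A Q]

/-- a linear map with image in `I^a Q` maps `I^k P` into `I^(k+a) Q` -/
lemma map_mem_pow_smul (h : P →ₗ[A] Q) (a : ℕ) (hh : ∀ x, h x ∈ I ^ a • (⊤ : Submodule A Q))
    (k : ℕ) {x : P} (hx : x ∈ I ^ k • (⊤ : Submodule A P)) :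
    h x ∈ I ^ (k + a) • (⊤ : Submodule A Q) := by
  have h1 : Submodule.map h (I ^ k • (⊤ : Submodule A P)) ≤ I ^ (k + a) • (⊤ : Submodule A Q) := by
    rw [Submodule.map_smul'', pow_add, mul_smul]
    apply Submodule.smul_mono le_rfl
    rintro _ ⟨z, -, rfl⟩
    exact hh z
  exact h1 ⟨x, hx, rfl⟩

lemma pow_smul_top_anti {k l : ℕ} (hkl : k ≤ l) :
    I ^ l • (⊤ : Submodule A P) ≤ I ^ k • (⊤ : Submodule A P) :=
  Submodule.smul_mono_left (Ideal.pow_le_pow_right hkl)


end aux

/-- Let `A` be a Noetherian ring, `I ⊆ A` an ideal inside the Jacobson radical, and `L → M → N` two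
complexes `(f, g)` and `(f', g')` of finite `A`-modules with `f' ≡ f` modulo `I^{c+1}M` and `g' ≡ g`
modulo `I^{c+1}N`. If `c` works in the Artin–Rees lemma for `f` and for `g` (that is `f(L) ∩ IⁿM ⊆
f(I^{n-c}L)` for `n ≥ c`, and likewise for `g`) and `(f, g)` is exact, then `c` works for `g'` and
`(f', g')` is exact. -/
theorem result {A : Type u} [CommRing A] [IsNoetherianRing A] (I : Ideal A)
    (hI : I ≤ Ideal.jacobson (⊥ : Ideal A)) {L M N : Type u} [AddCommGroup L] [Module A L] [Module.Finite A L]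
    [AddCommGroup M] [Module A M] [Module.Finite A M] [AddCommGroup N] [Module A N] [Module.Finite A N]
    (f f' : L →ₗ[A] M) (g g' : M →ₗ[A] N) (c : ℕ) (hgf : g.comp f = 0) (hgf' : g'.comp f' = 0)
    (hf : (∀ n : ℕ, c ≤ n → LinearMap.range f ⊓ (I ^ n • (⊤ : Submodule A M)) ≤ Submodule.map f (I ^ (n - c) • (⊤ : Submodule A L))))
    (hg : (∀ n : ℕ, c ≤ n → LinearMap.range g ⊓ (I ^ n • (⊤ : Submodule A N)) ≤ Submodule.map g (I ^ (n - c) • (⊤ : Submodule A M))))
    (hex : Function.Exact f g)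
    (hff' : ∀ x : L, f x - f' x ∈ I ^ (c + 1) • (⊤ : Submodule A M))
    (hgg' : ∀ y : M, g y - g' y ∈ I ^ (c + 1) • (⊤ : Submodule A N)) :
    (∀ n : ℕ, c ≤ n → LinearMap.range g' ⊓ (I ^ n • (⊤ : Submodule A N)) ≤ Submodule.map g' (I ^ (n - c) • (⊤ : Submodule A M))) ∧
    Function.Exact f' g' := by
  have hg'f' : ∀ x, g' (f' x) = 0 := fun x => LinearMap.congr_fun hgf' x
  -- the key claim
  have keyf : ∀ (k : ℕ) (x : L), f x ∈ I ^ k • (⊤ : Submodule A M) →
      ∃ x₁ : L, f x₁ = f x ∧ f x₁ - f' x₁ ∈ I ^ (k + 1) • (⊤ : Submodule A M) := by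
    intro k x hx
    by_cases hck : c ≤ k
    · obtain ⟨x₁, hx₁, hfx₁⟩ := hf k hck ⟨⟨x, rfl⟩, hx⟩
      refine ⟨x₁, hfx₁, ?_⟩
      have := map_mem_pow_smul I (f - f') (c + 1) hff' (k - c) hx₁
      rw [show k - c + (c + 1) = k + 1 by omega] at this
      exact this
    · refine ⟨x, rfl, ?_⟩
      exact pow_smul_top_anti I (by omega) (hff' x)
  -- part (1)
  have part1 : ∀ n : ℕ, c ≤ n → ∀ y : M, g' y ∈ I ^ n • (⊤ : Submodule A N) →
      ∃ y' ∈ I ^ (n - c) • (⊤ : Submodule A M), g' y' = g' y := by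
    intro n hn
    induction n, hn using Nat.le_induction with
    | base =>
      intro y _
      exact ⟨y, by simp, rfl⟩
    | succ n hcn ih =>
      intro y hy
      obtain ⟨y₁, hy₁, hgy₁⟩ := ih y (pow_smul_top_anti I (Nat.le_succ n) hy)
      have h1 : g y₁ - g' y₁ ∈ I ^ (n + 1) • (⊤ : Submodule A N) := by
        have := map_mem_pow_smul I (g - g') (c + 1) hgg' (n - c) hy₁
        rw [show n - c + (c + 1) = n + 1 by omega] at this
        exact this
      have h2 : g y₁ ∈ I ^ (n + 1) • (⊤ : Submodule A N) := by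
        have : g y₁ = (g y₁ - g' y₁) + g' y₁ := by abel
        rw [this]
        exact Submodule.add_mem _ h1 (hgy₁ ▸ hy)
      obtain ⟨y₂, hy₂, hgy₂⟩ := hg (n + 1) (by omega) ⟨⟨y₁, rfl⟩, h2⟩
      have h3 : g (y₁ - y₂) = 0 := by rw [map_sub, hgy₂, sub_self]
      obtain ⟨x, hx⟩ := (hex (y₁ - y₂)).mp h3
      have hy₂' : y₂ ∈ I ^ (n - c) • (⊤ : Submodule A M) :=
        pow_smul_top_anti I (by omega) hy₂
      have h4 : f x ∈ I ^ (n - c) • (⊤ : Submodule A M) := by
        rw [hx]; exact Submodule.sub_mem _ hy₁ hy₂'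
      obtain ⟨x₁, hx₁, hx₁'⟩ := keyf (n - c) x h4
      refine ⟨y₁ - f' x₁, ?_, ?_⟩
      · have : y₁ - f' x₁ = y₂ + (f x₁ - f' x₁) := by
          rw [hx₁, hx]; abel
        rw [this, show n + 1 - c = n - c + 1 by omega]
        exact Submodule.add_mem _ (by rwa [show n + 1 - c = n - c + 1 by omega] at hy₂) hx₁'
      · rw [map_sub, hg'f', sub_zero, hgy₁]
  refine ⟨?_, ?_⟩
  · rintro n hn _ ⟨⟨y, rfl⟩, hy⟩
    obtain ⟨y', hy', hgy'⟩ := part1 n hn y hy
    exact ⟨y', hy', hgy'⟩
  · -- exactness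
    have approx : ∀ n : ℕ, ∀ y : M, g' y = 0 →
        ∃ (x : L) (m : M), m ∈ I ^ n • (⊤ : Submodule A M) ∧ y = f' x + m := by
      intro n
      induction n with
      | zero => intro y _; exact ⟨0, y, by simp, by simp⟩
      | succ n ih =>
        intro y hy
        obtain ⟨x, m, hm, rfl⟩ := ih y hy
        have hgm : g' m = 0 := by
          rw [map_add, hg'f', zero_add] at hy; exact hy
        have h1 : g m ∈ I ^ (n + c + 1) • (⊤ : Submodule A N) := by
          have := map_mem_pow_smul I (g - g') (c + 1) hgg' n hm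
          simp only [LinearMap.sub_apply, hgm, sub_zero] at this
          rw [show n + (c + 1) = n + c + 1 by omega] at this
          exact this
        obtain ⟨y₂, hy₂, hgy₂⟩ := hg (n + c + 1) (by omega) ⟨⟨m, rfl⟩, h1⟩
        rw [show n + c + 1 - c = n + 1 by omega] at hy₂
        have h3 : g (m - y₂) = 0 := by rw [map_sub, hgy₂, sub_self]
        obtain ⟨x₀, hx₀⟩ := (hex (m - y₂)).mp h3
        have h4 : f x₀ ∈ I ^ n • (⊤ : Submodule A M) := by
          rw [hx₀]; exact Submodule.sub_mem _ hm (pow_smul_top_anti I (Nat.le_succ n) hy₂)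
        obtain ⟨x₁, hx₁, hx₁'⟩ := keyf n x₀ h4
        refine ⟨x + x₁, (f x₁ - f' x₁) + y₂, Submodule.add_mem _ hx₁' hy₂, ?_⟩
        rw [map_add, hx₁, hx₀]; abel
    intro y
    constructor
    · intro hy
      -- Krull intersection on M ⧸ range f'
      have hkrull := Ideal.iInf_pow_smul_eq_bot_of_le_jacobson (M := M ⧸ LinearMap.range f') I hI
      have hmem : (LinearMap.range f').mkQ y ∈ (⨅ i : ℕ, I ^ i • ⊤ : Submodule A (M ⧸ LinearMap.range f')) := by
        rw [Submodule.mem_iInf]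
        intro n
        obtain ⟨x, m, hm, rfl⟩ := approx n y hy
        have : (LinearMap.range f').mkQ (f' x + m) = (LinearMap.range f').mkQ m := by
          rw [map_add]
          have : (LinearMap.range f').mkQ (f' x) = 0 := by
            rw [Submodule.mkQ_apply, Submodule.Quotient.mk_eq_zero]; exact ⟨x, rfl⟩
          rw [this, zero_add]
        rw [this]
        have h5 := map_mem_pow_smul I (LinearMap.range f').mkQ 0 (by simp) n hm
        simpa using h5
      rw [hkrull, Submodule.mem_bot, Submodule.mkQ_apply, Submodule.Quotient.mk_eq_zero] at hmem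
      exact hmem
    · rintro ⟨x, rfl⟩
      exact hg'f' x

end Groth.Agent.S6909
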