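import Groth.Statements.S6921
import Mathlib
import Groth.Agent.Lib.Helper4.MilnorGlue
import Groth.Agent.Lib.Lead.MilnorGlueOld

set_option autoImplicit false
universe u
open TensorProduct
open EtAlg

namespace Groth.Agent.S6921

/-- Let `B' = B ×_A A'` be a fibre square of rings with `A' → A` surjective, `B' → D'` a ring map, and
`D = D' ⊗_{B'} B`, `C' = D' ⊗_{B'} A'`, `C = D' ⊗_{B'} A`. Let `N` be a finite `D`-module, `M'` a
finite `C'`-module and `φ : N ⊗_D C ≅ M' ⊗_{C'} C` a `C`-linear isomorphism. Then the glued module
`N ×_φ M'` is a finite `D'`-module. -/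
theorem result (B' B A' A : Type u) [CommRing B'] [CommRing B] [CommRing A'] [CommRing A]
    [Algebra B' B] [Algebra B' A'] [Algebra B A] [Algebra A' A] [Algebra B' A] [IsScalarTower B' B A] [IsScalarTower B' A' A]
    (hsq : EtMil.IsFibreSquare B' B A' A)
    (D' D C' C : Type u) [CommRing D'] [CommRing D] [CommRing C'] [CommRing C]
    [Algebra B' D'] [Algebra B D] [Algebra A' C'] [Algebra A C]
    [Algebra D' D] [Algebra B' D] [IsScalarTower B' B D] [IsScalarTower B' D' D] [Algebra.IsPushout B' B D' D]
    [Algebra D' C'] [Algebra B' C'] [IsScalarTower B' A' C'] [IsScalarTower B' D' C'] [Algebra.IsPushout B' A' D' C']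
    [Algebra D' C] [Algebra B' C] [IsScalarTower B' A C] [IsScalarTower B' D' C] [Algebra.IsPushout B' A D' C]
    [Algebra D C] [IsScalarTower D' D C] [Algebra B C] [IsScalarTower B A C] [IsScalarTower B D C]
    [Algebra C' C] [IsScalarTower D' C' C] [Algebra A' C] [IsScalarTower A' A C] [IsScalarTower A' C' C]
    {N M' : Type u} [AddCommGroup N] [Module D N] [Module D' N] [IsScalarTower D' D N]
    [AddCommGroup M'] [Module C' M'] [Module D' M'] [IsScalarTower D' C' M'] (φ : C ⊗[D] N ≃ₗ[C] C ⊗[C'] M')
    [Module.Finite D N] [Module.Finite C' M'] : Module.Finite D' ↥(EtMil.glue D' φ) := by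
  have h1 : Function.Surjective (algebraMap D' D) := by
    intro d
    obtain ⟨d', hd'⟩ := Groth.Agent.Helper4.Milnor.exists_one_tmul D' hsq
      ((Algebra.IsPushout.equiv B' B D' D).symm d)
    refine ⟨d', ?_⟩
    have := congrArg (Algebra.IsPushout.equiv B' B D' D) hd'
    rw [AlgEquiv.apply_symm_apply, Algebra.IsPushout.equiv_tmul, map_one, one_mul] at this
    exact this
  have h2 : Function.Surjective (algebraMap C' C) := by
    intro c
    have key : ∀ t : A ⊗[B'] D', Algebra.IsPushout.equiv B' A D' C t ∈ (algebraMap C' C).range := by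
      intro t
      induction t using TensorProduct.induction_on with
      | zero => rw [map_zero]; exact Subring.zero_mem _
      | tmul a d =>
        obtain ⟨a', rfl⟩ := hsq.1 a
        rw [Algebra.IsPushout.equiv_tmul]
        refine Subring.mul_mem _ ⟨algebraMap A' C' a', ?_⟩ ⟨algebraMap D' C' d, ?_⟩
        · rw [← IsScalarTower.algebraMap_apply A' C' C, ← IsScalarTower.algebraMap_apply A' A C]
        · rw [← IsScalarTower.algebraMap_apply D' C' C]
      | add x y hx hy => rw [map_add]; exact Subring.add_mem _ hx hy
    have := key ((Algebra.IsPushout.equiv B' A D' C).symm c)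
    rw [AlgEquiv.apply_symm_apply] at this
    exact this
  have h3 : ∀ e : C', algebraMap C' C e = 0 →
      ∃ d' : D', algebraMap D' D d' = 0 ∧ algebraMap D' C' d' = e := by
    intro e he
    set g : A' →ₗ[B'] A := (IsScalarTower.toAlgHom B' A' A).toLinearMap with hg
    have hgapp : ∀ a', g a' = algebraMap A' A a' := fun a' => rfl
    set f : LinearMap.ker g →ₗ[B'] A' := (LinearMap.ker g).subtype with hf
    have hfg : Function.Exact f g := LinearMap.exact_subtype_ker_map g
    have hgs : Function.Surjective g := hsq.1
    have hex := rTensor_exact D' hfg hgs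
    have hcomm : ∀ t : A' ⊗[B'] D', algebraMap C' C (Algebra.IsPushout.equiv B' A' D' C' t) =
        Algebra.IsPushout.equiv B' A D' C (LinearMap.rTensor D' g t) := by
      intro t
      induction t using TensorProduct.induction_on with
      | zero => simp
      | tmul a d =>
        rw [LinearMap.rTensor_tmul, Algebra.IsPushout.equiv_tmul, Algebra.IsPushout.equiv_tmul,
          map_mul, hgapp, ← IsScalarTower.algebraMap_apply A' C' C,
          ← IsScalarTower.algebraMap_apply D' C' C, ← IsScalarTower.algebraMap_apply A' A C]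
      | add x y hx hy => rw [map_add, map_add, map_add, map_add, hx, hy]
    have ht : LinearMap.rTensor D' g ((Algebra.IsPushout.equiv B' A' D' C').symm e) = 0 := by
      apply (Algebra.IsPushout.equiv B' A D' C).injective
      rw [← hcomm, AlgEquiv.apply_symm_apply, he, map_zero]
    obtain ⟨z, hz⟩ := (hex _).mp ht
    have key : ∀ z : (LinearMap.ker g) ⊗[B'] D', ∃ d' : D', algebraMap D' D d' = 0 ∧
        algebraMap D' C' d' = Algebra.IsPushout.equiv B' A' D' C' (LinearMap.rTensor D' f z) := by
      intro z
      induction z using TensorProduct.induction_on with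
      | zero => exact ⟨0, by simp, by simp⟩
      | tmul i d =>
        have hi : algebraMap A' A i.1 = 0 := by
          have := i.2
          rwa [LinearMap.mem_ker, hgapp] at this
        obtain ⟨j, hj1, hj2⟩ := Groth.Agent.Helper4.Milnor.exists_ker hsq i.1 hi
        refine ⟨algebraMap B' D' j * d, ?_, ?_⟩
        · rw [map_mul, ← IsScalarTower.algebraMap_apply B' D' D,
            IsScalarTower.algebraMap_apply B' B D, hj1, map_zero, zero_mul]
        · rw [LinearMap.rTensor_tmul, Algebra.IsPushout.equiv_tmul, map_mul,
            ← IsScalarTower.algebraMap_apply B' D' C', IsScalarTower.algebraMap_apply B' A' C', hj2]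
          rfl
      | add x y hx hy =>
        obtain ⟨d1, h11, h12⟩ := hx
        obtain ⟨d2, h21, h22⟩ := hy
        refine ⟨d1 + d2, ?_, ?_⟩
        · rw [map_add, h11, h21, add_zero]
        · rw [map_add, h12, h22, map_add, map_add]
    obtain ⟨d', hd1, hd2⟩ := key z
    refine ⟨d', hd1, ?_⟩
    rw [hd2, hz, AlgEquiv.apply_symm_apply]
  exact Groth.Agent.Lead.MilnorOld.glue_finite h1 h2 h3 φ

end Groth.Agent.S6921
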