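import Groth.Statements.S6933
import Mathlib

set_option autoImplicit false
universe u
open CategoryTheory
open InjHull

namespace Groth.Agent.S6933

/-- An abelian group `J` that is injective as an object of the category of abelian groups is divisible:
`n J = J` for every nonzero integer `n`. (The published statement is an equivalence; this row states
the implication from injective to divisible.) -/
theorem result (J : Type u) [AddCommGroup J] (hJ : Injective (AddCommGrpCat.of J))
    (n : ℤ) (hn : n ≠ 0) (x : J) : ∃ y : J, n • y = x := by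
  -- multiplication by n on ℤ (lifted)
  let m : ULift.{u} ℤ →+ ULift.{u} ℤ :=
    (AddEquiv.ulift.symm.toAddMonoidHom.comp ((zmultiplesHom ℤ n).comp AddEquiv.ulift.toAddMonoidHom))
  let φ : ULift.{u} ℤ →+ J := (zmultiplesHom J x).comp AddEquiv.ulift.toAddMonoidHom
  have hm : Function.Injective m := by
    intro a b hab
    have h1 : (m a).down = (m b).down := congrArg ULift.down hab
    have h2 : a.down • n = b.down • n := h1
    apply ULift.ext
    simpa [smul_eq_mul, hn] using h2
  have : Mono (AddCommGrpCat.ofHom m) := (AddCommGrpCat.mono_iff_injective _).2 hm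
  let h := Injective.factorThru (AddCommGrpCat.ofHom φ) (AddCommGrpCat.ofHom m)
  have hh : AddCommGrpCat.ofHom m ≫ h = AddCommGrpCat.ofHom φ := Injective.comp_factorThru _ _
  refine ⟨h.hom ⟨1⟩, ?_⟩
  have h3 := congrArg (fun ψ => ψ.hom (⟨1⟩ : ULift.{u} ℤ)) hh
  simp only [AddCommGrpCat.hom_comp, AddCommGrpCat.hom_ofHom, AddMonoidHom.comp_apply] at h3
  have h4 : m ⟨1⟩ = n • (⟨1⟩ : ULift.{u} ℤ) := by
    apply ULift.ext
    show (1 : ℤ) • n = (n • (⟨1⟩ : ULift.{u} ℤ)).down
    simp
  have h5 : φ ⟨1⟩ = x := by
    show (1 : ℤ) • x = x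
    simp
  rw [h4, map_zsmul, h5] at h3
  exact h3

end Groth.Agent.S6933
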