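import Groth.Statements.S6953
import Mathlib
import Mathlib
import Groth.Agent.Lib.Helper5.TensorAmp.TensorAmpB

set_option autoImplicit false
universe u
open CategoryTheory CategoryTheory.Limits
attribute [local instance] HasDerivedCategory.standard
open DRing



namespace Groth.Agent.S6953

/-- Let A → B be a homomorphism of commutative rings, K an object of D(B) with tor amplitude in [a, b]
over B, and L a cochain complex of B-modules whose restriction of scalars to A lies in D(A) with tor
amplitude contained in [c, d]. Assume the derived tensor product - ⊗^L_B L exists on D(B). Then K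
⊗^L_B L, with scalars restricted to A, has tor amplitude in [a + c, b + d] over A. -/
theorem result {A B : Type u} [CommRing A] [CommRing B] [Algebra A B]
    (K : Dual.D B) (a b c d : ℤ) (hK : DRing.HasTorAmplitudeIn B a b K) (L : DRing.Cx B)
    (hL : DRing.HasTorAmplitudeIn A c d (DRing.toD ((DRing.restrictCx (algebraMap A B)).obj L)))
    [DRing.HasLTensorCx B L] :
    DRing.HasTorAmplitudeIn A (a + c) (b + d)
      ((DRing.restrictD (algebraMap A B)).obj ((DRing.LTensorCx B L).obj K)) := by
  open Groth.Agent.Lib.Helper5.TensorAmp Groth.Agent.Lib.Helper5.KProj Groth.Agent.Lib.Helper5.KFlat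
    Groth.Agent.Lib.Helper5.KSixLT Groth.Agent.Helper5.TorAmp CategoryTheory MonoidalCategory in
  obtain ⟨E, hE1, hE2, ⟨e⟩⟩ := hK
  have hEk : DRing.IsKFlat B E :=
    isKFlat_of_bounded_above E b (fun j hj => hE1 j (Or.inr hj)) hE2
  have hL' : TorVanF c d ((DTen.resCx (algebraMap A B)).obj L) :=
    torVanF_of_hasTorAmplitudeIn _ c d hL
  have h1 := torVanF_tensor (algebraMap A B) E L a b c d hE1 hE2 hL'
  have h2 := hasTorAmplitudeIn_of_torVanF _ _ _ h1
  have q : QuasiIso (resMap E ▷ L) :=
    quasiIso_whiskerRight_of_isKFlat (resMap E) (isKFlat_res E) hEk inferInstance L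
  let i1 : (DRing.LTensorCx B L).obj K ≅ DerivedCategory.Q.obj (L ⊗ E) :=
    (DRing.LTensorCx B L).mapIso (e.symm ≪≫ (asIso (DerivedCategory.Q.map (resMap E))).symm) ≪≫
      ltIso B L (res E) ≪≫ asIso (DerivedCategory.Q.map (resMap E ▷ L)) ≪≫
      DerivedCategory.Q.mapIso (DTen.braidCx E L)
  have i2 := (DRing.restrictD (algebraMap A B)).mapIso i1 ≪≫
    (DTen.resFactors (algebraMap A B)).app (L ⊗ E)
  rw [add_comm a c, add_comm b d]
  exact hasTorAmplitudeIn_of_iso i2.symm h2

end Groth.Agent.S6953
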