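import Groth.Statements.S6966
import Mathlib

set_option autoImplicit false
universe u
open CategoryTheory CategoryTheory.Limits
attribute [local instance] HasDerivedCategory.standard
open CAlg

namespace Groth.Agent.S6966

open DerivedCategory in
theorem ext1_proj_zero (R : Type u) [CommRing R] (P N : ModuleCat.{u} R) [Projective P]
    (x : (singleFunctor (ModuleCat.{u} R) 0).obj P ⟶ ((singleFunctor (ModuleCat.{u} R) 0).obj N)⟦(1:ℤ)⟧) :
    x = 0 := by
  have h := (Abelian.Ext.homEquiv (C := ModuleCat.{u} R) (X := P) (Y := N) (n := 1)).surjective x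
  obtain ⟨e, rfl⟩ := h
  rw [Abelian.Ext.eq_zero_of_projective e]
  exact Abelian.Ext.zero_hom (C := ModuleCat.{u} R) (X := P) (Y := N) (n := 1)

open DerivedCategory Pretriangulated in
theorem main6966 (R : Type u) [CommRing R] (I : Ideal R) (M : Type u)
    [AddCommGroup M] [Module R M] :
    (∀ a ∈ I, ∃ (P : Type u) (_ : AddCommGroup P) (_ : Module R P) (_ : Module.Projective R P)
        (f : M →ₗ[R] P) (g : P →ₗ[R] M), g ∘ₗ f = a • LinearMap.id) ↔
      ∀ (N : Type u) [AddCommGroup N] [Module R N], ∀ a ∈ I,
        ∀ x : DRing.ExtD R (Dual.inD R M) (Dual.inD R N) 1, a • x = 0 := by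
  constructor
  · intro h N _ _ a ha x
    obtain ⟨P, _, _, hP, f, g, hfg⟩ := h a ha
    have : Projective (ModuleCat.of R P) := (IsProjective.iff_projective P).1 hP
    have e1 : a • x = (a • 𝟙 _) ≫ x := by simp
    have e2 : (a • 𝟙 (Dual.inD R M)) =
        (singleFunctor (ModuleCat.{u} R) 0).map (ModuleCat.ofHom f) ≫
        (singleFunctor (ModuleCat.{u} R) 0).map (ModuleCat.ofHom g) := by
      rw [← Functor.map_comp, ← ModuleCat.ofHom_comp, hfg]
      have : ModuleCat.ofHom (a • (LinearMap.id : M →ₗ[R] M)) = a • 𝟙 (ModuleCat.of R M) := rfl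
      rw [this, Functor.map_smul, CategoryTheory.Functor.map_id]
    rw [e1, e2, Category.assoc, ext1_proj_zero R _ _ (_ ≫ x), comp_zero]
  · intro h a ha
    -- free presentation
    let F := M →₀ R
    let π : F →ₗ[R] M := Finsupp.linearCombination R id
    have hπ : Function.Surjective π := Finsupp.linearCombination_id_surjective R M
    let K := LinearMap.ker π
    let S : ShortComplex (ModuleCat.{u} R) :=
      ShortComplex.mk (X₁ := ModuleCat.of R K) (X₂ := ModuleCat.of R F) (X₃ := ModuleCat.of R M)
        (ModuleCat.ofHom K.subtype) (ModuleCat.ofHom π) (by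
        ext x
        exact x.2)
    have hS : S.ShortExact := by
      have hex : S.Exact := by
        rw [ShortComplex.ShortExact.moduleCat_exact_iff_function_exact]
        intro y
        constructor
        · intro hy
          exact ⟨⟨y, hy⟩, rfl⟩
        · rintro ⟨z, rfl⟩
          exact z.2
      have hm : Mono S.f := (ModuleCat.mono_iff_injective _).2 (Submodule.injective_subtype K)
      have he : Epi S.g := (ModuleCat.epi_iff_surjective _).2 hπ
      exact ShortComplex.ShortExact.mk' hex hm he
    have hT := hS.singleTriangle_distinguished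
    have hδ := h K a ha hS.singleδ
    have e1 : (a • 𝟙 (Dual.inD R M)) ≫ hS.singleδ = 0 := by
      rw [Linear.smul_comp, Category.id_comp]; exact hδ
    obtain ⟨g, hg⟩ := Triangle.coyoneda_exact₃ _ hT (a • 𝟙 (Dual.inD R M)) e1
    obtain ⟨f, rfl⟩ := (singleFunctor (ModuleCat.{u} R) 0).map_surjective g
    refine ⟨F, inferInstance, inferInstance, inferInstance, f.hom, π, ?_⟩
    have e2 : (singleFunctor (ModuleCat.{u} R) 0).map (a • 𝟙 (ModuleCat.of R M)) =
       (singleFunctor (ModuleCat.{u} R) 0).map (f ≫ ModuleCat.ofHom π) := by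
      rw [Functor.map_comp, Functor.map_smul, CategoryTheory.Functor.map_id]
      exact hg
    have e3 := (singleFunctor (ModuleCat.{u} R) 0).map_injective e2
    have e4 := congrArg ModuleCat.Hom.hom e3
    exact e4.symm

/-- Let R be a commutative ring, I an ideal of R and M an R-module. Then the following two conditions
coincide: for each a ∈ I, the endomorphism of M given by multiplication by a can be written as a
composite M → P → M with P some projective R-module; and for every R-module N and every a ∈ I, a
annihilates Ext^1_R(M, N) = Hom(M[0], N[1]) in D(R). -/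
theorem result (R : Type u) [CommRing R] (I : Ideal R) (M : Type u)
    [AddCommGroup M] [Module R M] :
    (∀ a ∈ I, ∃ (P : Type u) (_ : AddCommGroup P) (_ : Module R P) (_ : Module.Projective R P)
        (f : M →ₗ[R] P) (g : P →ₗ[R] M), g ∘ₗ f = a • LinearMap.id) ↔
      ∀ (N : Type u) [AddCommGroup N] [Module R N], ∀ a ∈ I,
        ∀ x : DRing.ExtD R (Dual.inD R M) (Dual.inD R N) 1, a • x = 0 := by
  exact main6966 R I M

end Groth.Agent.S6966
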