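import Groth.Statements.S6969
import Mathlib

set_option autoImplicit false
universe u
open CAlg

namespace Groth.Agent.S6969

/-- Let R be a commutative ring and φ : M → N an R-linear map which factors through a projective
R-module. If M is finitely generated, then φ factors through a finitely generated projective
R-module. -/
theorem result (R : Type u) [CommRing R] {M N : Type u} [AddCommGroup M]
    [Module R M] [Module.Finite R M] [AddCommGroup N] [Module R N] (φ : M →ₗ[R] N)
    (h : ∃ (P : Type u) (_ : AddCommGroup P) (_ : Module R P) (_ : Module.Projective R P) (f : M →ₗ[R] P)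
      (g : P →ₗ[R] N), g ∘ₗ f = φ) :
    ∃ (P : Type u) (_ : AddCommGroup P) (_ : Module R P) (_ : Module.Projective R P) (_ : Module.Finite R P)
      (f : M →ₗ[R] P) (g : P →ₗ[R] N), g ∘ₗ f = φ := by
  classical
  obtain ⟨P, _, _, _, f, g, hfg⟩ := h
  obtain ⟨s, hs⟩ := (Module.projective_def' (R := R) (P := P)).1 inferInstance
  -- generators of M
  obtain ⟨S, hS⟩ := (Module.Finite.fg_top : (⊤ : Submodule R M).FG)
  -- the finite set of indices involved
  let T : Finset P := S.biUnion (fun m => (s (f m)).support)
  have hT : ∀ m : M, s (f m) ∈ Finsupp.supported R R (T : Set P) := by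
    intro m
    have hm : m ∈ Submodule.span R (S : Set M) := by rw [hS]; trivial
    induction hm using Submodule.span_induction with
    | mem x hx =>
      rw [Finsupp.mem_supported]
      intro p hp
      exact Finset.mem_biUnion.2 ⟨x, hx, hp⟩
    | zero => simp
    | add x y _ _ hx hy => rw [map_add, map_add]; exact Submodule.add_mem _ hx hy
    | smul a x _ hx => rw [map_smul, map_smul]; exact Submodule.smul_mem _ a hx
  let F₀ := Finsupp.supported R R (T : Set P)
  let e : F₀ ≃ₗ[R] ((T : Set P) →₀ R) := Finsupp.supportedEquivFinsupp (T : Set P)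
  have : Module.Finite R ((T : Set P) →₀ R) := inferInstance
  have : Module.Finite R F₀ := Module.Finite.equiv e.symm
  have : Module.Projective R F₀ := Module.Projective.of_equiv e.symm
  refine ⟨F₀, inferInstance, inferInstance, inferInstance, inferInstance,
    (s ∘ₗ f).codRestrict F₀ hT, g ∘ₗ (Finsupp.linearCombination R id) ∘ₗ F₀.subtype, ?_⟩
  ext m
  simp only [LinearMap.coe_comp, Function.comp_apply, Submodule.coe_subtype,
    LinearMap.codRestrict_apply]
  have h1 : Finsupp.linearCombination R id (s (f m)) = f m := by
    have := congrArg (fun ψ => ψ (f m)) hs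
    simpa using this
  rw [h1]
  have := congrArg (fun ψ => ψ m) hfg
  simpa using this

end Groth.Agent.S6969
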