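import Groth.Statements.S6973
import Mathlib
import Mathlib
import Groth.Agent.Lib.Helper3.PcDer
import Groth.Agent.S0534
import Groth.Agent.S0535

set_option autoImplicit false
universe u
open CategoryTheory CategoryTheory.Limits
attribute [local instance] HasDerivedCategory.standard
open DRing



namespace Groth.Agent.S6973

/-- Let (R, I) be a henselian pair such that the derived base change D(R) → D(R/I) exists, K a
pseudo-coherent object of D(R), and E a bounded above cochain complex of finite projective
R/I-modules which is isomorphic in D(R/I) to K ⊗^L_R R/I. Then there is a bounded above cochain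
complex P of finite projective R-modules, isomorphic to K in D(R), whose termwise reduction P ⊗_R
R/I is isomorphic to E as a complex, and such that P^i is free for every i for which E^i is free. -/
theorem result (R : Type u) [CommRing R]
    (I : Ideal R) [HenselianRing R I] [DRing.HasLBaseChange (Ideal.Quotient.mk I)] (K : Dual.D R)
    (hK : DRing.IsPseudoCoherent' R K) (E : DRing.Cx (R ⧸ I)) (b : ℤ) (hEb : DRing.VanishesAbove E b)
    (hEp : DRing.TermwiseFiniteProjective E)
    (hE : Nonempty (DRing.toD E ≅ (DRing.LBaseChange (Ideal.Quotient.mk I)).obj K)) :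
    ∃ (P : DRing.Cx R) (b' : ℤ), DRing.VanishesAbove P b' ∧ DRing.TermwiseFiniteProjective P ∧
      Nonempty (DRing.toD P ≅ K) ∧ Nonempty ((((ModuleCat.extendScalars (Ideal.Quotient.mk I)).mapHomologicalComplex (ComplexShape.up ℤ)).obj P) ≅ E) ∧
      ∀ i : ℤ, Module.Free (R ⧸ I) (E.X i) → Module.Free R (P.X i) := by
  classical
  obtain ⟨Q, c, hQc, hQf, hQK⟩ := hK
  have hjac : I ≤ Ideal.jacobson ⊥ := HenselianRing.jac
  let Pc : ObjectProperty (ModuleCat.{u} R) :=
    fun X => Module.Finite R X ∧ Module.Projective R X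
  haveI : Pc.IsClosedUnderIsomorphisms := ⟨fun {X Y} e h => by
    haveI : Module.Finite R X := h.1
    haveI : Module.Projective R X := h.2
    exact ⟨Module.Finite.equiv e.toLinearEquiv, Module.Projective.of_equiv e.toLinearEquiv⟩⟩
  obtain ⟨P, b', hPb, hPc, hPK, ⟨eP⟩⟩ := Groth.Agent.Helper3.PcLift.main_S7013 R I Pc
    (fun X hX => hX.2)
    (fun X Y hX => by
      haveI : Module.Finite R X := hX.1
      haveI : Module.Projective R X := hX.2
      constructor
      · intro h
        haveI : Module.Finite R (X × Y) := h.1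
        haveI : Module.Projective R (X × Y) := h.2
        exact ⟨Module.Finite.of_surjective (LinearMap.snd R X Y) LinearMap.snd_surjective,
          Module.Projective.of_split (LinearMap.inr R X Y) (LinearMap.snd R X Y)
            (by ext y; simp)⟩
      · intro h
        haveI : Module.Finite R Y := h.1
        haveI : Module.Projective R Y := h.2
        exact ⟨inferInstanceAs (Module.Finite R (X × Y)),
          inferInstanceAs (Module.Projective R (X × Y))⟩)
    (fun X Y f hX hY hf => by
      haveI : Module.Finite R Y := hY.1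
      have h1 : (⊤ : Submodule R Y) ≤ LinearMap.range f.hom :=
        Submodule.le_of_le_smul_of_le_jacobson_bot Module.Finite.fg_top hjac (by rw [hf])
      exact LinearMap.range_eq_top.1 (top_le_iff.1 h1))
    K ⟨Q, c, hQc, fun i => ⟨(hQf i).1, by haveI := (hQf i).2; infer_instance⟩, hQK⟩
    E b hEb
    (fun i => by
      haveI := (hEp i).1
      haveI := (hEp i).2
      obtain ⟨P', _, _, hfin, hproj, ⟨e⟩⟩ := Groth.Agent.S0534.result R I (E.X i)
      exact ⟨ModuleCat.of R P', ⟨hfin, hproj⟩, ⟨e⟩⟩)
    hE
  refine ⟨P, b', hPb, hPc, hPK, ⟨eP⟩, fun i hfree => ?_⟩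
  haveI : Module.Finite R (P.X i) := (hPc i).1
  haveI : Module.Projective R (P.X i) := (hPc i).2
  haveI : Module.Finite (R ⧸ I) (E.X i) := (hEp i).1
  haveI : Module.Free (R ⧸ I) (E.X i) := hfree
  rcases subsingleton_or_nontrivial (R ⧸ I) with hs | hn
  · have h1 : (1 : R) ∈ I := by
      have : (Ideal.Quotient.mk I) 1 = 0 := Subsingleton.elim _ _
      exact Ideal.Quotient.eq_zero_iff_mem.1 this
    have h2 : (1 : R) ∈ Ideal.jacobson (⊥ : Ideal R) := hjac h1
    have h3 := (Ideal.mem_jacobson_bot.1 h2) (-1)
    have h4 : (0 : R) = 1 := by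
      have : IsUnit (0 : R) := by simpa using h3
      exact isUnit_zero_iff.1 this
    haveI : Subsingleton R := subsingleton_of_zero_eq_one h4
    haveI : Subsingleton (P.X i) := Module.subsingleton R (P.X i)
    exact Module.Free.of_subsingleton R (P.X i)
  · let ei : (Groth.Agent.Helper3.ProjLiftNil.E I).obj (P.X i) ≅ E.X i :=
      (HomologicalComplex.eval (ModuleCat.{u} (R ⧸ I)) (ComplexShape.up ℤ) i).mapIso eP
    let e1 : TensorProduct R (R ⧸ I) (P.X i) ≃ₗ[R ⧸ I] E.X i :=
      ((Groth.Agent.Helper3.PcLift.tensorIso I (P.X i)) ≪≫ ei).toLinearEquiv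
    let ι := Module.Free.ChooseBasisIndex (R ⧸ I) (E.X i)
    let bE : Module.Basis ι (R ⧸ I) (E.X i) := Module.Free.chooseBasis (R ⧸ I) (E.X i)
    haveI : Finite ι := Module.Finite.finite_basis bE
    let b₂ : Module.Basis ι (R ⧸ I) (TensorProduct R (R ⧸ I) (ι →₀ R)) :=
      Algebra.TensorProduct.basis (R ⧸ I) (Finsupp.basisSingleOne : Module.Basis ι R (ι →₀ R))
    let e2 : TensorProduct R (R ⧸ I) (ι →₀ R) ≃ₗ[R ⧸ I] E.X i := b₂.equiv bE (Equiv.refl ι)
    obtain ⟨e3⟩ := Groth.Agent.S0535.result R I (P.X i) (ι →₀ R) (e1.trans e2.symm)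
    exact Module.Free.of_equiv e3.symm

end Groth.Agent.S6973
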