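import Groth.Statements.S6980
import Mathlib
import Mathlib
import Groth.Agent.Lib.Helper5.DRing.NilTorF
import Groth.Agent.Lib.Helper5.Shriek.Calc

set_option autoImplicit false
universe u
open CategoryTheory CategoryTheory.Limits
attribute [local instance] HasDerivedCategory.standard
open DRing



namespace Groth.Agent.S6980

/-- Let R be a commutative ring, I and J ideals of R such that the derived base changes D(R) → D(R/I),
D(R/J), D(R/IJ) exist, and K an object of D(R). If K ⊗^L_R R/I is perfect in D(R/I) and K ⊗^L_R R/J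
is perfect in D(R/J), then K ⊗^L_R R/IJ is perfect in D(R/IJ). -/
theorem result (R : Type u) [CommRing R] (I J : Ideal R)
    [DRing.HasLBaseChange (Ideal.Quotient.mk I)] [DRing.HasLBaseChange (Ideal.Quotient.mk J)]
    [DRing.HasLBaseChange (Ideal.Quotient.mk (I * J))] (K : Dual.D R)
    (hI : DRing.IsPerfect (R ⧸ I) ((DRing.LBaseChange (Ideal.Quotient.mk I)).obj K))
    (hJ : DRing.IsPerfect (R ⧸ J) ((DRing.LBaseChange (Ideal.Quotient.mk J)).obj K)) :
    DRing.IsPerfect (R ⧸ (I * J)) ((DRing.LBaseChange (Ideal.Quotient.mk (I * J))).obj K) := by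
  have c₁ : (Ideal.Quotient.factor (Ideal.mul_le_left : I * J ≤ I)).comp
      (Ideal.Quotient.mk (I * J)) = Ideal.Quotient.mk I := Ideal.Quotient.factor_comp_mk _
  have c₂ : (Ideal.Quotient.factor (Ideal.mul_le_right : I * J ≤ J)).comp
      (Ideal.Quotient.mk (I * J)) = Ideal.Quotient.mk J := Ideal.Quotient.factor_comp_mk _
  have hk : RingHom.ker (Ideal.Quotient.factor (Ideal.mul_le_left : I * J ≤ I)) *
      RingHom.ker (Ideal.Quotient.factor (Ideal.mul_le_right : I * J ≤ J)) = ⊥ := by
    rw [Ideal.Quotient.factor_ker, Ideal.Quotient.factor_ker, ← Ideal.map_mul,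
      Ideal.map_quotient_self]
  have key : ∀ {T : Type u} [CommRing T] (φ : R ⧸ (I * J) →+* T) (ψ : R →+* T)
      [DRing.HasLBaseChange ψ] (hc : φ.comp (Ideal.Quotient.mk (I * J)) = ψ)
      (hp : DRing.IsPerfect T ((DRing.LBaseChange ψ).obj K)),
      DRing.IsPerfect T ((DRing.LBaseChange φ).obj
        ((DRing.LBaseChange (Ideal.Quotient.mk (I * J))).obj K)) := by
    intro T _ φ ψ _ hc hp
    subst hc
    exact Groth.Agent.Lib.Helper5.NilTor.isPerfect_of_iso
      ((_root_.Helper5.Shriek.lbcCompIso (Ideal.Quotient.mk (I * J)) φ).app K) hp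
  exact Groth.Agent.Lib.Helper5.NilTor.isPerfect_of_two _ _
    (Ideal.Quotient.factor_surjective _) (Ideal.Quotient.factor_surjective _) hk _
    (key _ _ c₁ hI) (key _ _ c₂ hJ)

end Groth.Agent.S6980
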