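import Groth.Statements.S6990
import Mathlib
import Groth.Agent.Lib.Helper5.ProjAmp.Split

set_option autoImplicit false
universe u
open CategoryTheory CategoryTheory.Limits
attribute [local instance] HasDerivedCategory.standard
open DRing



namespace Groth.Agent.S6990

open CategoryTheory.Pretriangulated in
/-- Let R be a commutative ring, a, b integers, L an object of D(R) isomorphic to a complex of
projective R-modules vanishing outside [a, b], and K an object of D(R). (1) If H^i(K) = 0 for all i
≥ a, then every morphism L → K in D(R) is zero. (2) If H^i(K) = 0 for all i ≥ a + 1, then for every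
distinguished triangle K → M → L → K[1] there is an isomorphism M ≅ K ⊕ L carrying K → M to the
first inclusion and whose composite with the second projection is M → L. -/
theorem result (R : Type u) [CommRing R] (a b : ℤ)
    (L : Dual.D R) (hL : ∃ P : DRing.Cx R, DRing.VanishesOutside P a b ∧ (∀ i : ℤ, Module.Projective R (P.X i)) ∧
      Nonempty (DRing.toD P ≅ L)) (K : Dual.D R) :
    ((∀ i : ℤ, a ≤ i → Subsingleton (Dual.HD R K i)) → Subsingleton (L ⟶ K)) ∧
      ((∀ i : ℤ, a + 1 ≤ i → Subsingleton (Dual.HD R K i)) → ∀ (T : Triangle (Dual.D R)), T ∈ distinguishedTriangles →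
        T.obj₁ = K → T.obj₃ = L → ∀ [HasBinaryBiproduct T.obj₁ T.obj₃],
          ∃ e : T.obj₂ ≅ T.obj₁ ⊞ T.obj₃, T.mor₁ ≫ e.hom = biprod.inl ∧ e.hom ≫ biprod.snd = T.mor₂) := by
  refine ⟨fun hK => ⟨fun f g => ?_⟩, ?_⟩
  · have h1 := Groth.Agent.Helper5.ProjAmp.hom_eq_zero_of_projAmp hL K
      (fun i hi => by have := hK i hi; exact ModuleCat.isZero_of_subsingleton _) f
    have h2 := Groth.Agent.Helper5.ProjAmp.hom_eq_zero_of_projAmp hL K
      (fun i hi => by have := hK i hi; exact ModuleCat.isZero_of_subsingleton _) g
    rw [h1, h2]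
  · intro hK T hT h1 h3 _
    subst h1 h3
    exact Groth.Agent.Helper5.ProjAmp.split_of_projAmp T hT hL
      (fun i hi => by have := hK i hi; exact ModuleCat.isZero_of_subsingleton _)

end Groth.Agent.S6990
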