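import Groth.Statements.S7006
import Mathlib
import Groth.Agent.Lib.Helper9.RelFP.BaseChange
-- import your own Groth.Agent.* helpers here

set_option autoImplicit false
universe u
open CAlg

namespace Groth.Agent.S7006

namespace Aux
open TensorProduct MvPolynomial Groth.Agent.Helper9.RelFP

theorem main {R A : Type u} [CommRing R] [CommRing A] (f : R)
    [Algebra R A] [Algebra (Localization.Away f) A] [IsScalarTower R (Localization.Away f) A] {n k : ℕ}
    (α : MvPolynomial (Fin n) (Localization.Away f) →ₐ[Localization.Away f] A) (hα : Function.Surjective α)
    (g : A) (M : Type u) [AddCommGroup M] [Module A M]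
    (hM : FPThrough α.toRingHom M)
    (γ : MvPolynomial (Fin k) R →ₐ[R] Localization.Away g) (hγ : Function.Surjective γ) :
    FPThrough γ.toRingHom (LocalizedModule (Submonoid.powers g) M) := by
  have hfp : Algebra.FinitePresentation R (MvPolynomial (Fin n) (Localization.Away f)) :=
    Algebra.FinitePresentation.trans R (Localization.Away f) _
  obtain ⟨m, ρ, hρ, hρk⟩ := Algebra.FinitePresentation.out
    (R := R) (A := MvPolynomial (Fin n) (Localization.Away f))
  let α' : MvPolynomial (Fin m) R →ₐ[R] A := (α.restrictScalars R).comp ρ
  have hα' : Function.Surjective α' := hα.comp hρ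
  have hM' : FPThrough α'.toRingHom M :=
    FPThrough.comp_surjective α.toRingHom ρ.toRingHom hρ hρk hM
  have h1 : FPThrough γ.toRingHom (Localization.Away g ⊗[A] M) :=
    FPThrough.baseChange_fp M α' hα' hM' γ hγ
  exact FPThrough.of_equiv γ.toRingHom
    (LocalizedModule.equivTensorProduct (Submonoid.powers g) M).symm h1

end Aux

/-- Let R be a commutative ring, f an element of R, A an R_f-algebra with a surjective R_f-algebra
homomorphism α : R_f[x_1, ..., x_n] → A, g an element of A, and M an A-module which is finitely
presented as an R_f[x_1, ..., x_n]-module through α. Then for every surjective R-algebra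
homomorphism γ : R[z_1, ..., z_k] → A_g, the localized module M_g is finitely presented as an R[z_1,
..., z_k]-module through γ. -/
theorem result {R A : Type u} [CommRing R] [CommRing A] (f : R)
    [Algebra R A] [Algebra (Localization.Away f) A] [IsScalarTower R (Localization.Away f) A] {n k : ℕ}
    (α : MvPolynomial (Fin n) (Localization.Away f) →ₐ[Localization.Away f] A) (hα : Function.Surjective α)
    (g : A) (M : Type u) [AddCommGroup M] [Module A M]
    (hM : @Module.FinitePresentation (MvPolynomial (Fin n) (Localization.Away f)) (M) _ _ (Module.compHom (M) α.toRingHom))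
    (γ : MvPolynomial (Fin k) R →ₐ[R] Localization.Away g) (hγ : Function.Surjective γ) :
    @Module.FinitePresentation (MvPolynomial (Fin k) R) (LocalizedModule (Submonoid.powers g) M) _ _ (Module.compHom (LocalizedModule (Submonoid.powers g) M) γ.toRingHom) := by
  exact Aux.main f α hα g M hM γ hγ

end Groth.Agent.S7006
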