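import Groth.Statements.S7014
import Groth.Statements.S7014
import Groth.Agent.Lib.Helper3.NatCompact
import Groth.Agent.Lib.Helper3.DCoprod
import Groth.Agent.Lib.Helper3.SeqColim

set_option autoImplicit false
universe u
open CategoryTheory CategoryTheory.Limits
attribute [local instance] HasDerivedCategory.standard
open DRing

namespace Groth.Agent.S7014

section Helpers

open Groth.Agent.Helper3.DCoprod

noncomputable def isColimitCK {A : Type*} [Category A] [Preadditive A] {J : Type*}
    [HasCoproductsOfShape J A] (K : J → CochainComplex A ℤ) :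
    IsColimit (Cofan.mk (cK K) (inK K)) :=
  Cofan.IsColimit.mk _ (fun t => descK (fun j => t.inj j)) (fun t j => inK_descK _ j)
    (fun t m hm => by
      ext n
      apply Limits.Sigma.hom_ext
      intro j
      have h1 := congrArg (fun φ => φ.f n) (hm j)
      have h2 := congrArg (fun φ => φ.f n) (inK_descK (fun j => t.inj j) j)
      exact h1.trans h2.symm)

end Helpers

/-- Let R be a commutative ring and K an object of D(R) such that for every sequence (E_n) of objects of
D(R) the canonical map from the direct sum of the Hom(K, E_n) to Hom(K, ⊕_n E_n) is bijective. Let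
L_0 → L_1 → L_2 → ... be a sequence of cochain complexes of R-modules with colimit L (computed
termwise). Then every morphism K → L in D(R) factors through L_n → L for some n, and a morphism K →
L_n in D(R) whose composite with L_n → L vanishes already has vanishing composite with L_n → L_m for
some m ≥ n. -/
theorem result (R : Type u) [CommRing R] (K : Dual.D R)
    (hK : ∀ (E : ℕ → Dual.D R) [HasCoproduct fun i : ULift.{u + 1} ℕ => E i.down],
      Function.Bijective (CohDer.homSumToHomCoprod K (fun i : ULift.{u + 1} ℕ => E i.down)))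
    (L : ℕ ⥤ DRing.Cx R) (c : Cocone L) (hc : IsColimit c) :
    (∀ x : K ⟶ DRing.toD c.pt, ∃ (n : ℕ) (y : K ⟶ DRing.toD (L.obj n)),
        y ≫ DerivedCategory.Q.map (c.ι.app n) = x) ∧
      (∀ (n : ℕ) (y : K ⟶ DRing.toD (L.obj n)), y ≫ DerivedCategory.Q.map (c.ι.app n) = 0 →
        ∃ (m : ℕ) (h : n ≤ m), y ≫ DerivedCategory.Q.map (L.map (homOfLE h)) = 0) := by
  classical
  let Lo : ℕ → DRing.Cx R := fun n => L.obj n
  have hcCh := isColimitCK Lo
  let d : Groth.Agent.Helper3.DCoprod.cK Lo ⟶ Groth.Agent.Helper3.DCoprod.cK Lo := 𝟙 _ - Groth.Agent.Helper3.DCoprod.descK (fun n => L.map (homOfLE (Nat.le_succ n)) ≫ Groth.Agent.Helper3.DCoprod.inK Lo (n + 1))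
  have hd : ∀ n, Groth.Agent.Helper3.DCoprod.inK Lo n ≫ d = Groth.Agent.Helper3.DCoprod.inK Lo n - L.map (homOfLE (Nat.le_succ n)) ≫ Groth.Agent.Helper3.DCoprod.inK Lo (n + 1) := by
    intro n
    rw [Preadditive.comp_sub, Category.comp_id, Groth.Agent.Helper3.DCoprod.inK_descK]
  let π : Groth.Agent.Helper3.DCoprod.cK Lo ⟶ c.pt := Groth.Agent.Helper3.DCoprod.descK (fun n => c.ι.app n)
  have hπ : ∀ n, Groth.Agent.Helper3.DCoprod.inK Lo n ≫ π = c.ι.app n := fun n => Groth.Agent.Helper3.DCoprod.inK_descK _ n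
  have ex1 : HasExactColimitsOfShape ℕ (ModuleCat.{u} R) := by
    have : AB5OfSize.{0, 0} (ModuleCat.{u} R) := AB5OfSize_shrink.{0, 0, u, u} (ModuleCat.{u} R)
    infer_instance
  have ex2 : HasExactColimitsOfShape ℕ (DRing.Cx R) :=
    HomologicalComplex.hasExactColimitsOfShape _ _ ℕ
  have hSES := Groth.Agent.Helper3.SeqColim.shortExact L (Cofan.mk (Groth.Agent.Helper3.DCoprod.cK Lo) (Groth.Agent.Helper3.DCoprod.inK Lo)) hcCh d hd c hc π hπ
  have hT := DerivedCategory.triangleOfSES_distinguished hSES
  have hP : Groth.Agent.Helper3.NatCompact.NatFin K :=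
    Groth.Agent.Helper3.NatCompact.natFin_of_surjective K (fun E _ => (hK E).2)
  have hcD : IsColimit (Cofan.mk (DerivedCategory.Q.obj (Groth.Agent.Helper3.DCoprod.cK Lo))
      (fun n => DerivedCategory.Q.map (Groth.Agent.Helper3.DCoprod.inK Lo n))) := Groth.Agent.Helper3.DCoprod.isColimitCofan Lo
  have hdD : ∀ n, DerivedCategory.Q.map (Groth.Agent.Helper3.DCoprod.inK Lo n) ≫ DerivedCategory.Q.map d =
      DerivedCategory.Q.map (Groth.Agent.Helper3.DCoprod.inK Lo n) -
        DerivedCategory.Q.map (L.map (homOfLE (Nat.le_succ n))) ≫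
          DerivedCategory.Q.map (Groth.Agent.Helper3.DCoprod.inK Lo (n + 1)) := by
    intro n
    rw [← Functor.map_comp, hd, Functor.map_sub, Functor.map_comp]
  constructor
  · intro x
    obtain ⟨N, u, hu⟩ := Groth.Agent.Helper3.NatCompact.exists_factor hP (L ⋙ DerivedCategory.Q)
      (fun n => DerivedCategory.Q.map (Groth.Agent.Helper3.DCoprod.inK Lo n)) hcD (DerivedCategory.Q.map d) hdD
      (DerivedCategory.Q.map π) (DerivedCategory.triangleOfSESδ hSES) hT x
    refine ⟨N, u, ?_⟩
    rw [← hu, ← Functor.map_comp, hπ]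
  · intro n y hy
    obtain ⟨m, h, hm⟩ := Groth.Agent.Helper3.NatCompact.exists_vanish hP (L ⋙ DerivedCategory.Q)
      (fun n => DerivedCategory.Q.map (Groth.Agent.Helper3.DCoprod.inK Lo n)) hcD (DerivedCategory.Q.map d) hdD
      (DerivedCategory.Q.map π) (DerivedCategory.triangleOfSESδ hSES) hT n y (by
        rw [← Functor.map_comp, hπ]
        exact hy)
    exact ⟨m, h, hm⟩

end Groth.Agent.S7014
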