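import Groth.Statements.S7015
import Mathlib

set_option autoImplicit false
universe u
open CategoryTheory MonoidalCategory
open DRing

open scoped TensorProduct

namespace Groth.Agent.S7015

/-- Let R be a commutative ring and M, N R-modules such that N is a left dual of M for the tensor
product of R-modules, i.e. there are a coevaluation R → M ⊗ N and an evaluation N ⊗ M → R satisfying
the triangle identities (an exact pairing). Then M and N are finitely generated projective
R-modules. -/
theorem result (R : Type u) [CommRing R] (M N : Type u) [AddCommGroup M]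
    [Module R M] [AddCommGroup N] [Module R N] [ExactPairing (ModuleCat.of R M) (ModuleCat.of R N)] :
    Module.Finite R M ∧ Module.Projective R M ∧ Module.Finite R N ∧ Module.Projective R N := by
  classical
  let X : ModuleCat.{u} R := ModuleCat.of R M
  let Y : ModuleCat.{u} R := ModuleCat.of R N
  let η : R →ₗ[R] M ⊗[R] N := (ExactPairing.coevaluation X Y).hom
  let ε : N ⊗[R] M →ₗ[R] R := (ExactPairing.evaluation X Y).hom
  obtain ⟨S, hS⟩ := TensorProduct.exists_finset (η 1)
  -- first triangle identity, elementwise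
  have h1 : ∀ m : M, ∑ p ∈ S, ε (p.2 ⊗ₜ m) • p.1 = m := by
    intro m
    have := ExactPairing.evaluation_coevaluation X Y
    have h := congrArg (fun f => (ρ_ X).hom.hom (f.hom ((1 : R) ⊗ₜ[R] m))) this
    simp only [ModuleCat.hom_comp, LinearMap.comp_apply] at h
    have e1 : ((ExactPairing.coevaluation X Y) ▷ X).hom ((1 : R) ⊗ₜ[R] m) = (η 1) ⊗ₜ[R] m := rfl
    rw [e1, hS, TensorProduct.sum_tmul, map_sum, map_sum, map_sum] at h
    have e2 : ∀ p : M × N, (ρ_ X).hom.hom ((X ◁ (ExactPairing.evaluation X Y)).hom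
        ((α_ X Y X).hom.hom ((p.1 ⊗ₜ[R] p.2) ⊗ₜ[R] m))) = ε (p.2 ⊗ₜ m) • p.1 := by
      intro p
      rfl
    rw [Finset.sum_congr rfl (fun p _ => e2 p)] at h
    rw [h]
    show (ρ_ X).hom.hom ((ρ_ X).inv.hom ((λ_ X).hom.hom ((1 : R) ⊗ₜ[R] m))) = m
    have e3 : (λ_ X).hom.hom ((1 : R) ⊗ₜ[R] m) = m := by
      have := ModuleCat.MonoidalCategory.leftUnitor_hom_apply (M := X) (1 : R) m
      rw [one_smul] at this
      exact this
    rw [e3]
    have e4 : (ρ_ X).inv.hom m = m ⊗ₜ[R] (1 : R) := ModuleCat.MonoidalCategory.rightUnitor_inv_apply (M := X) m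
    rw [e4]
    have e5 := ModuleCat.MonoidalCategory.rightUnitor_hom_apply (M := X) m (1 : R)
    rw [one_smul] at e5
    exact e5
  have h2 : ∀ n : N, ∑ p ∈ S, ε (n ⊗ₜ p.1) • p.2 = n := by
    intro n
    have := ExactPairing.coevaluation_evaluation X Y
    have h := congrArg (fun f => (λ_ Y).hom.hom (f.hom (n ⊗ₜ[R] (1 : R)))) this
    simp only [ModuleCat.hom_comp, LinearMap.comp_apply] at h
    have e1 : (Y ◁ (ExactPairing.coevaluation X Y)).hom (n ⊗ₜ[R] (1 : R)) = n ⊗ₜ[R] (η 1) := rfl
    rw [e1, hS, TensorProduct.tmul_sum, map_sum, map_sum, map_sum] at h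
    have e2 : ∀ p : M × N, (λ_ Y).hom.hom (((ExactPairing.evaluation X Y) ▷ Y).hom
        ((α_ Y X Y).inv.hom (n ⊗ₜ[R] (p.1 ⊗ₜ[R] p.2)))) = ε (n ⊗ₜ p.1) • p.2 := by
      intro p
      rfl
    rw [Finset.sum_congr rfl (fun p _ => e2 p)] at h
    rw [h]
    show (λ_ Y).hom.hom ((λ_ Y).inv.hom ((ρ_ Y).hom.hom (n ⊗ₜ[R] (1 : R)))) = n
    have e3 : (ρ_ Y).hom.hom (n ⊗ₜ[R] (1 : R)) = n := by
      have := ModuleCat.MonoidalCategory.rightUnitor_hom_apply (M := Y) n (1 : R)
      rw [one_smul] at this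
      exact this
    rw [e3]
    have e4 : (λ_ Y).inv.hom n = (1 : R) ⊗ₜ[R] n := ModuleCat.MonoidalCategory.leftUnitor_inv_apply (M := Y) n
    rw [e4]
    have e5 := ModuleCat.MonoidalCategory.leftUnitor_hom_apply (M := Y) (1 : R) n
    rw [one_smul] at e5
    exact e5
  -- retracts of a finite free module
  let iM : M →ₗ[R] (S → R) := LinearMap.pi (fun p => ε ∘ₗ (TensorProduct.mk R N M p.1.2))
  let sM : (S → R) →ₗ[R] M := Fintype.linearCombination R (fun p : S => p.1.1)
  have hM : sM ∘ₗ iM = LinearMap.id := by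
    apply LinearMap.ext
    intro m
    show Fintype.linearCombination R (fun p : S => p.1.1) (iM m) = m
    rw [Fintype.linearCombination_apply]
    conv_rhs => rw [← h1 m]
    rw [← Finset.sum_coe_sort S (fun p => ε (p.2 ⊗ₜ m) • p.1)]
    rfl
  let iN : N →ₗ[R] (S → R) := LinearMap.pi (fun p => ε ∘ₗ ((TensorProduct.mk R N M).flip p.1.1))
  let sN : (S → R) →ₗ[R] N := Fintype.linearCombination R (fun p : S => p.1.2)
  have hN : sN ∘ₗ iN = LinearMap.id := by
    apply LinearMap.ext
    intro n
    show Fintype.linearCombination R (fun p : S => p.1.2) (iN n) = n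
    rw [Fintype.linearCombination_apply]
    conv_rhs => rw [← h2 n]
    rw [← Finset.sum_coe_sort S (fun p => ε (n ⊗ₜ p.1) • p.2)]
    rfl
  have surjM : Function.Surjective sM := fun m => ⟨iM m, LinearMap.congr_fun hM m⟩
  have surjN : Function.Surjective sN := fun n => ⟨iN n, LinearMap.congr_fun hN n⟩
  exact ⟨Module.Finite.of_surjective sM surjM, Module.Projective.of_split iM sM hM,
    Module.Finite.of_surjective sN surjN, Module.Projective.of_split iN sN hN⟩

end Groth.Agent.S7015
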