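import Groth.Statements.S7025
import Mathlib
import Groth.Agent.Lib.Helper5.DRing.RelPCTen2
import Groth.Agent.Lib.Helper5.DRing.RelPCBC
import Groth.Agent.Lib.Helper5.FG.Main

set_option autoImplicit false
universe u
open CategoryTheory CategoryTheory.Limits
attribute [local instance] HasDerivedCategory.standard
open DerCA



namespace Groth.Agent.S7025

/-- Let R → A → B be finite type homomorphisms of commutative rings such that B is A-flat and the
B-module B is pseudo-coherent relative to A. Let m be an integer and M an A-module. Whenever M is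
m-pseudo-coherent relative to R, the B-module B ⊗_A M is again m-pseudo-coherent over R; likewise,
relative pseudo-coherence of M over R (in all degrees) passes to B ⊗_A M. -/
theorem result {R A B : Type u} [CommRing R]
    [CommRing A] [CommRing B] [Algebra R A] [Algebra A B] [Algebra R B] [IsScalarTower R A B]
    [Algebra.FiniteType R A] [Algebra.FiniteType A B] [Module.Flat A B]
    (hB : DerCA.IsRelPseudoCoherentModuleAll A B B) (m : ℤ) (M : Type u) [AddCommGroup M] [Module A M] :
    (DerCA.IsRelPseudoCoherentModule R A m M → DerCA.IsRelPseudoCoherentModule R B m (TensorProduct A B M)) ∧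
      (DerCA.IsRelPseudoCoherentModuleAll R A M →
        DerCA.IsRelPseudoCoherentModuleAll R B (TensorProduct A B M)) := by
  have key : ∀ m' : ℤ, DerCA.IsRelPseudoCoherentModule R A m' M →
      DerCA.IsRelPseudoCoherentModule R B m' (TensorProduct A B M) := by
    intro m' h
    have h1 : DerCA.IsRelPseudoCoherent R B m'
        ((DRing.LBaseChange (algebraMap A B)).obj (Dual.inD A M)) :=
      Groth.Agent.Lib.Helper5.RelPCTen.relpc_lbc hB (Dual.inD A M) m' h
    obtain ⟨e⟩ := Groth.Agent.Helper5.RelPCBC.nonempty_lbc_iso_G B (Dual.inD A M)
    exact Groth.Agent.Lib.Helper5.RelPCTen.relpc_of_iso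
      (e ≪≫ Helper5.FG.GinDIso' (A := A) (B := B) M) m' h1
  exact ⟨key m, fun h m' => key m' (h m')⟩

end Groth.Agent.S7025
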