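import Groth.Statements.S7038
import Mathlib

set_option autoImplicit false
universe u
open LocCoh

namespace Groth.Agent.S7038

/-- For an ideal I of a commutative ring R and an R-module M, if every element of M is killed by a power
of I then the support of M is contained in the closed set V(I); conversely, when I is finitely
generated and the support of M is contained in V(I), every element of M is killed by a power of I.
(Finite generation is used only for the converse.) -/
theorem result {R : Type u} [CommRing R] (I : Ideal R)
    (M : Type u) [AddCommGroup M] [Module R M] :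
    (LocCoh.IsPowerTorsion I M → Module.support R M ⊆ PrimeSpectrum.zeroLocus (I : Set R)) ∧
    (I.FG → Module.support R M ⊆ PrimeSpectrum.zeroLocus (I : Set R) → LocCoh.IsPowerTorsion I M) := by
  constructor
  · intro hM p hp
    rw [Module.mem_support_iff'] at hp
    obtain ⟨m, hm⟩ := hp
    obtain ⟨n, hn⟩ := hM m
    rw [PrimeSpectrum.mem_zeroLocus]
    intro a ha
    by_contra hap
    have hpow : a ^ n ∉ p.asIdeal := fun h => hap (p.isPrime.mem_of_pow_mem n h)
    exact hm (a ^ n) hpow (hn (a ^ n) (Ideal.pow_mem_pow ha n))
  · intro hI hsupp m
    set J : Ideal R := (Submodule.span R {m}).annihilator with hJ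
    have hrad : I ≤ J.radical := by
      rw [Ideal.radical_eq_sInf]
      refine le_sInf ?_
      rintro P ⟨hJP, hP⟩
      have hmem : (⟨P, hP⟩ : PrimeSpectrum R) ∈ Module.support R M := by
        rw [Module.mem_support_iff_exists_annihilator]
        exact ⟨m, hJP⟩
      have := hsupp hmem
      rw [PrimeSpectrum.mem_zeroLocus] at this
      exact this
    obtain ⟨n, hn⟩ := Ideal.exists_pow_le_of_le_radical_of_fg hrad hI
    refine ⟨n, fun a ha => ?_⟩
    have : a ∈ J := hn ha
    rw [hJ, Submodule.mem_annihilator_span_singleton] at this
    exact this

end Groth.Agent.S7038
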