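import Groth.Statements.S7039
import Mathlib

set_option autoImplicit false
universe u
open LocCoh

namespace Groth.Agent.S7039

/-- For a finitely generated ideal I of a commutative ring R and any R-module M, the quotient of M by
its submodule of I-power torsion elements has no nonzero element annihilated by I. -/
theorem result {R : Type u} [CommRing R] (I : Ideal R) (hI : I.FG)
    (M : Type u) [AddCommGroup M] [Module R M] :
    LocCoh.torsionBy I (M ⧸ DRing.torsionSub I M) = ⊥ := by
  classical
  obtain ⟨s, rfl⟩ := hI
  rw [eq_bot_iff]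
  intro y hy
  obtain ⟨x, rfl⟩ := Submodule.Quotient.mk_surjective _ y
  rw [Submodule.mem_bot, Submodule.Quotient.mk_eq_zero]
  have h1 : ∀ g ∈ s, ∃ n : ℕ, ∀ a ∈ Ideal.span (s : Set R) ^ n, a • (g • x) = 0 := by
    intro g hg
    have h2 := (Submodule.mem_torsionBySet_iff _ _).mp hy ⟨g, Ideal.subset_span hg⟩
    change g • (Submodule.Quotient.mk x : M ⧸ DRing.torsionSub (Ideal.span (s : Set R)) M) = 0 at h2
    rw [← Submodule.Quotient.mk_smul, Submodule.Quotient.mk_eq_zero] at h2
    exact h2
  choose! n hn using h1
  refine ⟨s.sup n + 1, ?_⟩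
  have key : ∀ c ∈ Ideal.span (s : Set R), ∀ b ∈ Ideal.span (s : Set R) ^ (s.sup n),
      (b * c) • x = 0 := by
    intro c hc
    induction hc using Submodule.span_induction with
    | mem g hg =>
      intro b hb
      rw [mul_smul]
      exact hn g hg b (Ideal.pow_le_pow_right (Finset.le_sup hg) hb)
    | zero => intro b _; simp
    | add c d _ _ hc hd =>
      intro b hb
      rw [mul_add, add_smul, hc b hb, hd b hb, add_zero]
    | smul r c _ hc =>
      intro b hb
      rw [smul_eq_mul, mul_left_comm, mul_smul, hc b hb, smul_zero]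
  intro a ha
  rw [pow_succ] at ha
  refine Submodule.mul_induction_on ha ?_ ?_
  · intro b hb c hc
    exact key c hc b hb
  · intro a b ha hb
    rw [add_smul, ha, hb, add_zero]

end Groth.Agent.S7039
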