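import Groth.Statements.S7040
import Mathlib

set_option autoImplicit false
universe u
open CategoryTheory
open LocCoh

namespace Groth.Agent.S7040

/-- For a finitely generated ideal I of a commutative ring R, the property of being an I-power torsion
module (every element killed by a power of I) is a Serre class in the category of R-modules: it
holds for 0 and is closed under subobjects, quotients and extensions. -/
theorem result {R : Type u} [CommRing R] (I : Ideal R) (hI : I.FG) :
    ObjectProperty.IsSerreClass (C := ModuleCat.{u} R) (fun M => LocCoh.IsPowerTorsion I M) := by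
  -- characterization using radicals
  have char : ∀ (M : ModuleCat.{u} R), LocCoh.IsPowerTorsion I M ↔
      ∀ (m : M) (a : R), a ∈ I → ∃ k : ℕ, a ^ k • m = 0 := by
    intro M
    constructor
    · intro h m a ha
      obtain ⟨n, hn⟩ := h m
      exact ⟨n, hn _ (Ideal.pow_mem_pow ha n)⟩
    · intro h m
      set J : Ideal R := (Submodule.span R {m}).annihilator with hJ
      have hrad : I ≤ J.radical := by
        intro a ha
        obtain ⟨k, hk⟩ := h m a ha
        refine ⟨k, ?_⟩
        rw [hJ, Submodule.mem_annihilator_span_singleton]
        exact hk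
      obtain ⟨N, hN⟩ := Ideal.exists_pow_le_of_le_radical_of_fg hrad hI
      refine ⟨N, fun a ha => ?_⟩
      have : a ∈ J := hN ha
      rw [hJ, Submodule.mem_annihilator_span_singleton] at this
      exact this
  exact
  { exists_zero := by
      refine ⟨ModuleCat.of R PUnit, ModuleCat.isZero_of_subsingleton _, ?_⟩
      intro m
      exact ⟨0, fun a _ => Subsingleton.elim _ _⟩
    prop_of_mono := by
      intro X Y f hf hY
      rw [ModuleCat.mono_iff_injective] at hf
      rw [char] at hY ⊢
      intro m a ha
      obtain ⟨k, hk⟩ := hY (f m) a ha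
      refine ⟨k, hf ?_⟩
      rw [map_smul, hk, map_zero]
    prop_of_epi := by
      intro X Y f hf hX
      rw [ModuleCat.epi_iff_surjective] at hf
      rw [char] at hX ⊢
      intro m a ha
      obtain ⟨x, rfl⟩ := hf m
      obtain ⟨k, hk⟩ := hX x a ha
      refine ⟨k, ?_⟩
      rw [← map_smul, hk, map_zero]
    prop_X₂_of_shortExact := by
      intro S hS h₁ h₃
      rw [char] at h₁ h₃ ⊢
      intro m a ha
      obtain ⟨k, hk⟩ := h₃ (S.g m) a ha
      have hex := (ShortComplex.moduleCat_exact_iff S).1 hS.exact
      obtain ⟨x, hx⟩ := hex (a ^ k • m) (by rw [map_smul, hk])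
      obtain ⟨l, hl⟩ := h₁ x a ha
      refine ⟨l + k, ?_⟩
      rw [pow_add, mul_smul, ← hx, ← map_smul, hl, map_zero] }

end Groth.Agent.S7040
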