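import Groth.Statements.S7041
import Mathlib

set_option autoImplicit false
universe u
open TensorProduct
open LocCoh

namespace Groth.Agent.S7041

/-- Let R → R' be a homomorphism of commutative rings and I an ideal of R such that the induced map
R/I^n → R'/I^n R' is bijective for every n > 0. Then for every R-module M in which every element is
killed by a power of I, the map M → R' ⊗_R M sending m to 1 ⊗ m is bijective. -/
theorem result {R R' : Type u} [CommRing R] [CommRing R'] [Algebra R R']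
    (I : Ideal R)
    (hq : ∀ n : ℕ, 0 < n → Function.Bijective
      (Ideal.quotientMap (Ideal.map (algebraMap R R') (I ^ n)) (algebraMap R R') Ideal.le_comap_map))
    (M : Type u) [AddCommGroup M] [Module R M] (hM : LocCoh.IsPowerTorsion I M) :
    Function.Bijective (fun m : M => (1 : R') ⊗ₜ[R] m) := by
  classical
  -- notation
  set J : ℕ → Ideal R' := fun n => Ideal.map (algebraMap R R') (I ^ n) with hJ
  -- representatives
  have hrep : ∀ (n : ℕ), 0 < n → ∀ r' : R', ∃ r : R, algebraMap R R' r - r' ∈ J n := by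
    intro n hn r'
    obtain ⟨q, hq'⟩ := (hq n hn).2 (Ideal.Quotient.mk _ r')
    obtain ⟨r, rfl⟩ := Ideal.Quotient.mk_surjective q
    rw [Ideal.quotientMap_mk] at hq'
    exact ⟨r, Ideal.Quotient.eq.1 hq'⟩
  have hinj : ∀ (n : ℕ), 0 < n → ∀ r : R, algebraMap R R' r ∈ J n → r ∈ I ^ n := by
    intro n hn r hr
    have h0 : Ideal.quotientMap (J n) (algebraMap R R') Ideal.le_comap_map (Ideal.Quotient.mk (I ^ n) r) =
        Ideal.quotientMap (J n) (algebraMap R R') Ideal.le_comap_map (Ideal.Quotient.mk (I ^ n) 0) := by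
      rw [Ideal.quotientMap_mk, Ideal.quotientMap_mk, map_zero, map_zero]
      exact Ideal.Quotient.eq_zero_iff_mem.2 hr
    have := (hq n hn).1 h0
    rw [map_zero] at this
    exact Ideal.Quotient.eq_zero_iff_mem.1 this
  have hJmono : ∀ {k n : ℕ}, k ≤ n → J n ≤ J k := by
    intro k n hkn
    exact Ideal.map_mono (Ideal.pow_le_pow_right hkn)
  -- levels
  have hlev : ∀ m : M, ∃ n : ℕ, 0 < n ∧ ∀ a ∈ I ^ n, a • m = 0 := by
    intro m
    obtain ⟨n, hn⟩ := hM m
    exact ⟨n + 1, Nat.succ_pos n, fun a ha => hn a (Ideal.pow_le_pow_right (Nat.le_succ n) ha)⟩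
  choose lev hlevpos hlevkill using hlev
  choose rep hrep' using hrep
  let β : R' → M → M := fun r' m => rep (lev m) (hlevpos m) r' • m
  -- independence
  have indep : ∀ (m : M) (r' : R') (n : ℕ) (r : R), 0 < n → (∀ a ∈ I ^ n, a • m = 0) →
      algebraMap R R' r - r' ∈ J n → β r' m = r • m := by
    intro m r' n r hn hkill hr
    set n₀ := lev m with hn₀
    set r₀ := rep n₀ (hlevpos m) r' with hr₀
    have h₀ : algebraMap R R' r₀ - r' ∈ J n₀ := hrep' n₀ (hlevpos m) r'
    show r₀ • m = r • m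
    have hk : 0 < min n n₀ := lt_min hn (hlevpos m)
    have hmem : algebraMap R R' (r - r₀) ∈ J (min n n₀) := by
      have e : algebraMap R R' (r - r₀) = (algebraMap R R' r - r') - (algebraMap R R' r₀ - r') := by
        rw [map_sub]; ring
      rw [e]
      exact Ideal.sub_mem _ (hJmono (min_le_left _ _) hr) (hJmono (min_le_right _ _) h₀)
    have hmem' : r - r₀ ∈ I ^ (min n n₀) := hinj _ hk _ hmem
    have hkill' : (r - r₀) • m = 0 := by
      rcases min_choice n n₀ with h | h
      · rw [h] at hmem'; exact hkill _ hmem'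
      · rw [h] at hmem'; exact hlevkill m _ hmem'
    rw [sub_smul, sub_eq_zero] at hkill'
    exact hkill'.symm
  have βdef : ∀ (m : M) (r' : R'), ∃ r : R, algebraMap R R' r - r' ∈ J (lev m) ∧ β r' m = r • m :=
    fun m r' => ⟨rep (lev m) (hlevpos m) r', hrep' _ _ _, rfl⟩
  -- common level
  have hkillmono : ∀ (m : M) (n : ℕ), lev m ≤ n → ∀ a ∈ I ^ n, a • m = 0 := by
    intro m n hn a ha
    exact hlevkill m a (Ideal.pow_le_pow_right hn ha)
  let B : R' →ₗ[R] M →ₗ[R] M := LinearMap.mk₂ R β
    (by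
      intro r₁ r₂ m
      obtain ⟨s₁, hs₁, e₁⟩ := βdef m r₁
      obtain ⟨s₂, hs₂, e₂⟩ := βdef m r₂
      rw [e₁, e₂, ← add_smul]
      apply indep m (r₁ + r₂) (lev m) (s₁ + s₂) (hlevpos m) (hlevkill m)
      have : algebraMap R R' (s₁ + s₂) - (r₁ + r₂) = (algebraMap R R' s₁ - r₁) + (algebraMap R R' s₂ - r₂) := by
        rw [map_add]; ring
      rw [this]
      exact Ideal.add_mem _ hs₁ hs₂)
    (by
      intro c r' m
      obtain ⟨s, hs, e⟩ := βdef m r'
      rw [e, ← mul_smul]
      apply indep m (c • r') (lev m) (c * s) (hlevpos m) (hlevkill m)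
      have : algebraMap R R' (c * s) - c • r' = algebraMap R R' c * (algebraMap R R' s - r') := by
        rw [map_mul, Algebra.smul_def]; ring
      rw [this]
      exact Ideal.mul_mem_left _ _ hs)
    (by
      intro r' m₁ m₂
      set n := max (lev m₁) (lev m₂) with hn
      have hnpos : 0 < n := lt_of_lt_of_le (hlevpos m₁) (le_max_left _ _)
      have hr := hrep' n hnpos r'
      have k₁ := hkillmono m₁ n (le_max_left _ _)
      have k₂ := hkillmono m₂ n (le_max_right _ _)
      have k₁₂ : ∀ a ∈ I ^ n, a • (m₁ + m₂) = 0 := by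
        intro a ha
        rw [smul_add, k₁ a ha, k₂ a ha, add_zero]
      rw [indep m₁ r' n _ hnpos k₁ hr, indep m₂ r' n _ hnpos k₂ hr,
        indep (m₁ + m₂) r' n _ hnpos k₁₂ hr, smul_add])
    (by
      intro c r' m
      obtain ⟨s, hs, e⟩ := βdef m r'
      have kc : ∀ a ∈ I ^ (lev m), a • (c • m) = 0 := by
        intro a ha
        rw [smul_comm, hlevkill m a ha, smul_zero]
      rw [e, indep (c • m) r' (lev m) s (hlevpos m) kc hs, smul_comm])
  let L : R' ⊗[R] M →ₗ[R] M := TensorProduct.lift B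
  have hL : ∀ m : M, L ((1 : R') ⊗ₜ[R] m) = m := by
    intro m
    show β 1 m = m
    rw [indep m 1 (lev m) 1 (hlevpos m) (hlevkill m) (by rw [map_one, sub_self]; exact Ideal.zero_mem _),
      one_smul]
  constructor
  · intro m₁ m₂ h
    have h' : (1 : R') ⊗ₜ[R] m₁ = (1 : R') ⊗ₜ[R] m₂ := h
    rw [← hL m₁, ← hL m₂, h']
  · -- surjectivity
    have hzero : ∀ (n : ℕ) (m : M), (∀ a ∈ I ^ n, a • m = 0) → ∀ x ∈ J n, ∀ s : R',
        (s * x) ⊗ₜ[R] m = (0 : R' ⊗[R] M) := by
      intro n m hkill x hx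
      refine Submodule.span_induction (p := fun x _ => ∀ s : R', (s * x) ⊗ₜ[R] m = (0 : R' ⊗[R] M))
        ?_ ?_ ?_ ?_ hx
      · rintro _ ⟨a, ha, rfl⟩ s
        have : s * algebraMap R R' a = a • s := by rw [Algebra.smul_def, mul_comm]
        rw [this, TensorProduct.smul_tmul, hkill a ha, TensorProduct.tmul_zero]
      · intro s
        rw [mul_zero, TensorProduct.zero_tmul]
      · intro x y _ _ hx hy s
        rw [mul_add, TensorProduct.add_tmul, hx s, hy s, add_zero]
      · intro c x _ hx s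
        have : s * (c • x) = (s * c) * x := by rw [smul_eq_mul, mul_assoc]
        rw [this]
        exact hx (s * c)
    intro z
    induction z using TensorProduct.induction_on with
    | zero => exact ⟨0, TensorProduct.tmul_zero _ _⟩
    | tmul r' m =>
      obtain ⟨s, hs, -⟩ := βdef m r'
      refine ⟨s • m, ?_⟩
      show (1 : R') ⊗ₜ[R] (s • m) = r' ⊗ₜ[R] m
      have h0 := hzero (lev m) m (hlevkill m) _ hs 1
      rw [one_mul, TensorProduct.sub_tmul, sub_eq_zero] at h0
      rw [← h0, ← TensorProduct.smul_tmul, Algebra.smul_def, mul_one]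
    | add x y hx hy =>
      obtain ⟨a, ha⟩ := hx
      obtain ⟨b, hb⟩ := hy
      refine ⟨a + b, ?_⟩
      show (1 : R') ⊗ₜ[R] (a + b) = x + y
      rw [TensorProduct.tmul_add]
      have ha' : (1 : R') ⊗ₜ[R] a = x := ha
      have hb' : (1 : R') ⊗ₜ[R] b = y := hb
      rw [ha', hb']

end Groth.Agent.S7041
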