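import Groth.Statements.S7043
import Mathlib
import Groth.Agent.Lib.Helper5.DMod.Bridge
import Groth.Agent.Lib.Helper5.DMod.DCMod2

set_option autoImplicit false
universe u
attribute [local instance] HasDerivedCategory.standard
open DRing



namespace Groth.Agent.S7043

/-- Let f be an element of a commutative ring A and let M be an A-module which, placed in degree 0, is
derived complete with respect to the ideal (f). Then the ideal J = ⋂ f^n A annihilates the submodule
⋂ f^n M, which is the kernel of M → lim M/f^n M. (The case M = A says that J has square zero when A
itself is derived complete.) -/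
theorem result {A : Type u} [CommRing A] (f : A)
    (M : Type u) [AddCommGroup M] [Module A M]
    (hc : DRing.IsDerivedComplete (Ideal.span {f}) (Dual.inD A M)) :
    (⨅ n : ℕ, Ideal.span {f ^ n}) • (⨅ n : ℕ, (Ideal.span {f ^ n}) • (⊤ : Submodule A M)) = (⊥ : Submodule A M) := by
  rw [Helper5.DMod.isDerivedComplete_inD_iff] at hc
  exact Helper5.DMod.iInf_smul_iInf_eq_bot (hc f (Ideal.subset_span rfl)).1

end Groth.Agent.S7043
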