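import Groth.Statements.S7044
import Mathlib
import Groth.Agent.Lib.Helper5.DMod.Bridge
import Groth.Agent.Lib.Helper5.DMod.DCHens

set_option autoImplicit false
universe u
attribute [local instance] HasDerivedCategory.standard
open DRing



namespace Groth.Agent.S7044

/-- Let A be a commutative ring and I an ideal of A; if A, regarded as an object of D(A) sitting in
degree 0, is I-adically derived complete, then the pair (A, I) is henselian: I lies in the Jacobson
radical and simple roots modulo I of monic polynomials lift to roots in A. -/
theorem result {A : Type u} [CommRing A] (I : Ideal A)
    (hc : DRing.IsDerivedComplete I (Dual.inD A A)) : HenselianRing A I := by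
  rw [Helper5.DMod.isDerivedComplete_inD_iff] at hc
  exact Helper5.DMod.henselianRing_of_DC I hc

end Groth.Agent.S7044
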