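import Groth.Statements.S7045
import Mathlib
import Groth.Agent.Lib.Helper5.DMod.Bridge
import Groth.Agent.Lib.Helper5.DMod.DCNil

set_option autoImplicit false
universe u
attribute [local instance] HasDerivedCategory.standard
open DRing



namespace Groth.Agent.S7045

/-- Let A be a commutative ring which, placed in degree 0 of D(A), is derived complete with respect to
an ideal I generated by a finite set of r elements. Then the ideal J = ⋂ I^n satisfies J^N = 0 with
N = 2^r. -/
theorem result {A : Type u} [CommRing A] (I : Ideal A)
    (s : Finset A) (hs : Ideal.span (s : Set A) = I)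
    (hc : DRing.IsDerivedComplete I (Dual.inD A A)) :
    (⨅ n : ℕ, I ^ n) ^ (2 ^ s.card) = ⊥ := by
  rw [Helper5.DMod.isDerivedComplete_inD_iff] at hc
  subst hs
  exact Helper5.DMod.iInf_pow_pow_eq_bot s.card A s le_rfl
    (fun g hg => hc g (Ideal.subset_span hg))

end Groth.Agent.S7045
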