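import Groth.Statements.S7047
import Mathlib
import Groth.Agent.Lib.Helper5.DMod.BridgeCx
import Groth.Agent.Lib.Helper5.DMod.DCIdeal

set_option autoImplicit false
universe u
attribute [local instance] HasDerivedCategory.standard
open DRing



namespace Groth.Agent.S7047

/-- For a commutative ring A and an object K of D(A), the set of elements f of A such that every
morphism from A_f (placed in degree 0) to any shift K[n] vanishes is a radical ideal of A. -/
theorem result {A : Type u} [CommRing A] (K : Dual.D A) :
    ∃ J : Ideal A, J.IsRadical ∧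
      (J : Set A) = {f : A | ∀ n : ℤ, Subsingleton (Dual.inD A (Localization.Away f) ⟶ K⟦n⟧)} := by
  refine ⟨⨅ n : ℤ, Helper5.DMod.DCIdeal (A := A) (Dual.HD A K n),
    Ideal.isRadical_iInf _ (fun n => Helper5.DMod.DCIdeal_isRadical), ?_⟩
  ext f
  simp only [SetLike.mem_coe, Ideal.mem_iInf, Set.mem_setOf_eq]
  exact (Helper5.DMod.forall_subsingleton_iff_forall_DC f K).symm

end Groth.Agent.S7047
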