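import Groth.Statements.S7054
import Mathlib
import Groth.Agent.Lib.Helper5.DMod.DCCx

set_option autoImplicit false
universe u
attribute [local instance] HasDerivedCategory.standard
open DRing



namespace Groth.Agent.S7054

/-- For a commutative ring A and an ideal I such that A, placed in degree 0, is derived complete with
respect to I, every object of D(A) isomorphic to a bounded above complex of finite free A-modules is
derived complete with respect to I. -/
theorem result {A : Type u} [CommRing A] (I : Ideal A)
    (hA : DRing.IsDerivedComplete I (Dual.inD A A)) (K : Dual.D A) (hK : DRing.IsPseudoCoherent' A K) :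
    DRing.IsDerivedComplete I K := by
  obtain ⟨E, b, _, hE, ⟨e⟩⟩ := hK
  have hA' := (Helper5.DMod.isDerivedComplete_inD_iff I A).mp hA
  refine Helper5.DMod.isDerivedComplete_of_terms I E ?_ K e
  intro f hf i
  haveI := (hE i).1
  haveI := (hE i).2
  exact Helper5.DMod.DC.of_finite_free f (hA' f hf) (E.X i)

end Groth.Agent.S7054
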