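import Groth.Statements.S7058
import Mathlib
import Groth.Agent.Lib.Helper5.DMod.DCZero

set_option autoImplicit false
universe u
attribute [local instance] HasDerivedCategory.standard
open CategoryTheory
open DRing



namespace Groth.Agent.S7058

/-- Let A be a commutative ring, I a finitely generated ideal, and assume the derived completion functor
(left adjoint to the inclusion of derived complete objects of D(A)) exists. If K is a cochain
complex of A-modules and some f in I acts bijectively on every term of K, then the derived
completion of K is zero. -/
theorem result {A : Type u} [CommRing A] (I : Ideal A) (hI : I.FG)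
    [DRing.HasDerivedCompletion I] (K : DRing.Cx A) (f : A) (hf : f ∈ I)
    (hK : ∀ i : ℤ, Function.Bijective (fun x : K.X i => f • x)) :
    Limits.IsZero ((DRing.derivedCompletion I).obj (DRing.toD K)).obj := by
  have h1 : ∀ i : ℤ, IsIso ((f • 𝟙 K : K ⟶ K).f i) := by
    intro i
    rw [ConcreteCategory.isIso_iff_bijective]
    convert hK i using 1
    funext x
    rfl
  have h2 : IsIso (f • 𝟙 K : K ⟶ K) := HomologicalComplex.Hom.isIso_of_components _
  have h3 : f • 𝟙 (DRing.toD K) = DerivedCategory.Q.map (f • 𝟙 K) := by
    rw [Functor.map_smul, CategoryTheory.Functor.map_id]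
  have h4 : IsIso (f • 𝟙 (DRing.toD K)) := by
    rw [h3]; infer_instance
  exact Helper5.DMod.isZero_derivedCompletion_of_isIso_smul I (DRing.toD K) f hf

end Groth.Agent.S7058
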