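import Groth.Statements.S7073
import Mathlib
import Groth.Agent.Lib.Helper5.DRing.PerfRes2

set_option autoImplicit false
universe u
attribute [local instance] HasDerivedCategory.standard
open Dual2



namespace Groth.Agent.S7073

/-- For a flat homomorphism of finite presentation R → A of commutative rings, every perfect object of
D(A) is R-perfect, i.e. pseudo-coherent over A and of finite tor dimension as a complex of
R-modules. -/
theorem result (R A : Type u) [CommRing R] [CommRing A] [Algebra R A]
    [Module.Flat R A] [Algebra.FinitePresentation R A] (K : Dual.D A) (hK : DRing.IsPerfect A K) :
    Dual2.IsRelPerfect R A K := by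
  exact Groth.Agent.Helper5.PerfRes.s7073 K hK

end Groth.Agent.S7073
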