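import Groth.Statements.S7082
import Mathlib
import Groth.Agent.Lib.Helper5.TwoTerm.Ext1Lin
import Groth.Agent.Lib.Helper5.TwoTerm.TTMod

set_option autoImplicit false
universe u
attribute [local instance] HasDerivedCategory.standard
open CategoryTheory
open DRing



namespace Groth.Agent.S7082

/-- (1)⇔(3): let R be a commutative ring, I an ideal and K an object of D(R) whose cohomology vanishes
outside degrees -1 and 0. Then I annihilates Ext^1_R(K, N) = Hom_{D(R)}(K, N[1]) for every R-module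
N if and only if, for every two-term complex E in degrees -1 and 0 with E^0 projective that
represents K, and every a in I, multiplication by a on E^{-1} factors through the differential
E^{-1} → E^0. -/
theorem result {R : Type u} [CommRing R] (I : Ideal R) (K : Dual.D R)
    (hK : ∀ i : ℤ, i ≠ -1 → i ≠ 0 → Subsingleton (Dual.HD R K i)) :
    (∀ (N : Type u) [AddCommGroup N] [Module R N] (a : R), a ∈ I →
        ∀ ξ : K ⟶ (Dual.inD R N)⟦(1 : ℤ)⟧, a • ξ = 0) ↔
      ∀ (E : DRing.Cx R), DRing.VanishesOutside E (-1) 0 → Module.Projective R (E.X 0) →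
        Nonempty (DRing.toD E ≅ K) → ∀ a : R, a ∈ I →
          ∃ h : E.X 0 ⟶ E.X (-1), E.d (-1) 0 ≫ h = a • 𝟙 (E.X (-1)) := by
  constructor
  · intro h E hE hE0 ⟨e⟩ a ha
    haveI : Projective (E.X 0) := (IsProjective.iff_projective (E.X 0)).mp hE0
    have hE' : ∀ i : ℤ, 0 < i → Limits.IsZero (E.X i) := fun i hi => hE i (Or.inr hi)
    have hE2 : E.d (-2) (-1) ≫ 𝟙 (E.X (-1)) = 0 := (hE (-2) (Or.inl (by lia))).eq_of_src _ _
    have h1 := h (E.X (-1)) a ha (e.inv ≫ Helper5.TwoTerm.ext1Mk E (𝟙 _) hE2)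
    rw [← Linear.comp_smul, Helper5.TwoTerm.smul_ext1Mk] at h1
    have h2 : Helper5.TwoTerm.ext1Mk E (a • 𝟙 (E.X (-1)))
        (by rw [Linear.comp_smul, hE2, smul_zero]) = 0 := by
      rw [← cancel_epi e.inv, h1, Limits.comp_zero]
    rw [Helper5.TwoTerm.ext1Mk_eq_zero_iff hE'] at h2
    exact h2
  · intro h N _ _ a ha ξ
    obtain ⟨E, hE, hfree, ⟨e⟩⟩ := Helper5.TwoTerm.exists_twoTerm_free K hK
    have hE0 : Module.Projective R (E.X 0) := inferInstance
    haveI : Projective (E.X 0) := (IsProjective.iff_projective (E.X 0)).mp hE0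
    have hE' : ∀ i : ℤ, 0 < i → Limits.IsZero (E.X i) := fun i hi => hE i (Or.inr hi)
    obtain ⟨g, hg⟩ := h E hE hE0 ⟨e⟩ a ha
    obtain ⟨f, hf, hξ⟩ := Helper5.TwoTerm.ext1Mk_surjective hE' (e.hom ≫ ξ)
    have h1 : e.hom ≫ (a • ξ) = 0 := by
      rw [Linear.comp_smul, ← hξ, Helper5.TwoTerm.smul_ext1Mk,
        Helper5.TwoTerm.ext1Mk_eq_zero_iff hE']
      refine ⟨g ≫ f, ?_⟩
      rw [← Category.assoc, hg, Linear.smul_comp, Category.id_comp]
    rw [← cancel_epi e.hom, h1, Limits.comp_zero]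

end Groth.Agent.S7082
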