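import Groth.Statements.S7085
import Mathlib

set_option autoImplicit false
universe u
open LocCoh

namespace Groth.Agent.S7085

/-- Let R be a commutative ring, I an ideal generated by finitely many elements f_1, …, f_t, and M an
R-module. Then: M has no nonzero element killed by I if and only if it has no nonzero element killed
by I^n for every n ≥ 1; and M has no nonzero element killed by I if and only if an element of M
vanishing in every localization M_{f_i} is zero. -/
theorem result {R : Type u} [CommRing R] {t : ℕ} (f : Fin t → R)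
    (I : Ideal R) (hI : Ideal.span (Set.range f) = I) (M : Type u) [AddCommGroup M] [Module R M] :
    (LocCoh.torsionBy I M = ⊥ ↔ ∀ n : ℕ, 1 ≤ n → LocCoh.torsionBy (I ^ n) M = ⊥) ∧
    (LocCoh.torsionBy I M = ⊥ ↔
      ∀ m : M, (∀ i : Fin t, LocalizedModule.mkLinearMap (Submonoid.powers (f i)) M m = 0) → m = 0) := by
  classical
  have hmem : ∀ (J : Ideal R) (m : M), m ∈ LocCoh.torsionBy J M ↔ ∀ a ∈ J, a • m = 0 := by
    intro J m
    rw [Submodule.mem_torsionBySet_iff]
    exact ⟨fun h a ha => h ⟨a, ha⟩, fun h a => h a.1 a.2⟩
  have part1 : LocCoh.torsionBy I M = ⊥ → ∀ n : ℕ, 1 ≤ n → LocCoh.torsionBy (I ^ n) M = ⊥ := by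
    intro h1 n hn
    induction n, hn using Nat.le_induction with
    | base => rw [pow_one]; exact h1
    | succ n hn ih =>
      rw [eq_bot_iff]
      intro m hm
      rw [hmem] at hm
      have : m ∈ LocCoh.torsionBy I M := by
        rw [hmem]
        intro a ha
        have h2 : a • m ∈ LocCoh.torsionBy (I ^ n) M := by
          rw [hmem]
          intro b hb
          rw [← mul_smul]
          apply hm
          rw [pow_succ]
          exact Ideal.mul_mem_mul hb ha
        rw [ih] at h2
        exact (Submodule.mem_bot R).1 h2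
      rw [h1] at this
      exact this
  refine ⟨⟨part1, fun h => ?_⟩, ?_, ?_⟩
  · have := h 1 le_rfl
    rwa [pow_one] at this
  · intro h1 m hm
    set J : Ideal R := (Submodule.span R {m}).annihilator with hJ
    have hfg : I.FG := by
      rw [← hI]
      exact ⟨(Finset.univ.image f), by rw [Finset.coe_image, Finset.coe_univ, Set.image_univ]⟩
    have hrad : I ≤ J.radical := by
      rw [← hI, Ideal.span_le]
      rintro _ ⟨i, rfl⟩
      have := hm i
      rw [IsLocalizedModule.eq_zero_iff (Submonoid.powers (f i))] at this
      obtain ⟨⟨_, k, rfl⟩, hk⟩ := this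
      refine ⟨k, ?_⟩
      rw [hJ, Submodule.mem_annihilator_span_singleton]
      exact hk
    obtain ⟨N, hN⟩ := Ideal.exists_pow_le_of_le_radical_of_fg hrad hfg
    have hkill : ∀ a ∈ I ^ N, a • m = 0 := by
      intro a ha
      have : a ∈ J := hN ha
      rw [hJ, Submodule.mem_annihilator_span_singleton] at this
      exact this
    rcases Nat.eq_zero_or_pos N with hN0 | hNpos
    · subst hN0
      have := hkill 1 (by rw [pow_zero, Ideal.one_eq_top]; exact Submodule.mem_top)
      rwa [one_smul] at this
    · have h2 : m ∈ LocCoh.torsionBy (I ^ N) M := (hmem _ m).2 hkill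
      rw [part1 h1 N hNpos] at h2
      exact (Submodule.mem_bot R).1 h2
  · intro h
    rw [eq_bot_iff]
    intro m hm
    rw [hmem] at hm
    rw [Submodule.mem_bot]
    apply h
    intro i
    rw [IsLocalizedModule.eq_zero_iff (Submonoid.powers (f i))]
    refine ⟨⟨f i, Submonoid.mem_powers _⟩, ?_⟩
    apply hm
    rw [← hI]
    exact Ideal.subset_span ⟨i, rfl⟩

end Groth.Agent.S7085
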