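import Groth.Statements.S7089
import Mathlib
import Groth.Prelude.Def_Wider
import Groth.Agent.Lib.Helper9.CoverRes
-- import your own Groth.Agent.* helpers here

set_option autoImplicit false
universe u
open CategoryTheory
open LocCoh

namespace Groth.Agent.S7089

open CategoryTheory CategoryTheory.Limits
namespace Aux
open Groth.Agent.Helper9.CoverRes

variable {R : Type u} [CommRing R] (I : Ideal R)

/-- power torsion objects -/
def IsPT (K : ModuleCat.{u} R) : Prop := LocCoh.IsPowerTorsion I K

noncomputable def expo (K : ModuleCat.{u} R) (h : IsPT I K) (x : K) : ℕ := Classical.choose (h x)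

lemma expo_spec (K : ModuleCat.{u} R) (h : IsPT I K) (x : K) :
    ∀ a ∈ I ^ expo I K h x, a • x = 0 := Classical.choose_spec (h x)

noncomputable def ptObj (K : ModuleCat.{u} R) (h : IsPT I K) : ModuleCat.{u} R :=
  ModuleCat.of R (DirectSum K fun x => R ⧸ I ^ expo I K h x)

open scoped Classical in
noncomputable def ptLin (K : ModuleCat.{u} R) (h : IsPT I K) :
    (DirectSum K fun x => R ⧸ I ^ expo I K h x) →ₗ[R] K :=
  DirectSum.toModule R K K (fun x => Submodule.liftQ (I ^ expo I K h x)
    (LinearMap.toSpanSingleton R K x) (by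
      intro a ha
      rw [LinearMap.mem_ker, LinearMap.toSpanSingleton_apply]
      exact expo_spec I K h x a ha))

open scoped Classical in
lemma ptLin_surjective (K : ModuleCat.{u} R) (h : IsPT I K) : Function.Surjective (ptLin I K h) := by
  intro x
  refine ⟨DirectSum.lof R K (fun x => R ⧸ I ^ expo I K h x) x (Submodule.Quotient.mk 1), ?_⟩
  unfold ptLin
  rw [DirectSum.toModule_lof, Submodule.liftQ_apply, LinearMap.toSpanSingleton_apply, one_smul]

/-- direct sums of `R/I^n` are power torsion -/
lemma isPT_directSum {ι : Type u} (n : ι → ℕ) :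
    IsPT I (ModuleCat.of R (DirectSum ι fun j => R ⧸ I ^ n j)) := by
  classical
  intro z
  refine ⟨(DFinsupp.support z).sup n, fun a ha => ?_⟩
  apply DFinsupp.ext
  intro j
  show a • (z j) = 0
  by_cases hj : j ∈ DFinsupp.support z
  · have hle : n j ≤ (DFinsupp.support z).sup n := Finset.le_sup hj
    have ha' : a ∈ I ^ n j := Ideal.pow_le_pow_right hle ha
    obtain ⟨y, hy⟩ := Submodule.mkQ_surjective _ (z j)
    rw [← hy, ← map_smul, Submodule.mkQ_apply, Submodule.Quotient.mk_eq_zero, smul_eq_mul]
    exact Ideal.mul_mem_right _ _ ha'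
  · rw [DFinsupp.notMem_support_iff] at hj
    rw [hj, smul_zero]

/-- the cover -/
noncomputable def cover (K : ModuleCat.{u} R) : Σ' (P : ModuleCat.{u} R), (P ⟶ K) := by
  classical
  exact if h : IsPT I K then ⟨ptObj I K h, ModuleCat.ofHom (ptLin I K h)⟩ else ⟨K, 𝟙 K⟩

lemma cover_epi (K : ModuleCat.{u} R) : Epi (cover I K).2 := by
  classical
  unfold cover
  by_cases h : IsPT I K
  · rw [dif_pos h, ModuleCat.epi_iff_surjective]
    exact ptLin_surjective I K h
  · rw [dif_neg h]
    dsimp only
    infer_instance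

noncomputable def cov : Cover (ModuleCat.{u} R) where
  obj K := (cover I K).1
  π K := (cover I K).2
  epi K := cover_epi I K

/-- the property of being a direct sum of `R/I^n` -/
def IsSum (X : ModuleCat.{u} R) : Prop :=
  ∃ (ι : Type u) (n : ι → ℕ), Nonempty (X ≅ ModuleCat.of R (DirectSum ι fun j => R ⧸ I ^ n j))

lemma isPT_of_iso {X Y : ModuleCat.{u} R} (e : X ≅ Y) (h : IsPT I X) : IsPT I Y := by
  intro y
  obtain ⟨n, hn⟩ := h (e.inv y)
  refine ⟨n, fun a ha => ?_⟩
  have := hn a ha
  have h2 : e.hom (a • e.inv y) = 0 := by rw [this, map_zero]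
  rw [map_smul] at h2
  have h3 : e.hom (e.inv y) = y := by
    rw [← ModuleCat.comp_apply, Iso.inv_hom_id, ModuleCat.id_apply]
  rw [h3] at h2
  exact h2

lemma isPT_kernel {X Y : ModuleCat.{u} R} (f : X ⟶ Y) (h : IsPT I X) : IsPT I (kernel f) := by
  intro y
  obtain ⟨n, hn⟩ := h (kernel.ι f y)
  refine ⟨n, fun a ha => ?_⟩
  have h1 := hn a ha
  rw [← map_smul] at h1
  have hinj : Function.Injective (kernel.ι f) := (ModuleCat.mono_iff_injective _).1 inferInstance
  apply hinj
  rw [h1, map_zero]

lemma cover_props (K : ModuleCat.{u} R) (h : IsPT I K) :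
    IsPT I ((cov I).obj K) ∧ IsSum I ((cov I).obj K) := by
  classical
  have e : (cov I).obj K = ptObj I K h := by
    show (cover I K).1 = _
    unfold cover
    rw [dif_pos h]
  rw [e]
  exact ⟨isPT_directSum I _, ⟨K, expo I K h, ⟨Iso.refl _⟩⟩⟩

theorem main {R : Type u} [CommRing R] (I : Ideal R)
    (M : Type u) [AddCommGroup M] [Module R M] (hM : LocCoh.IsPowerTorsion I M) :
    ∃ (K : ChainComplex (ModuleCat.{u} R) ℕ) (π : K ⟶ (ChainComplex.single₀ (ModuleCat.{u} R)).obj (ModuleCat.of R M)),
      QuasiIso π ∧ ∀ i : ℕ, ∃ (ι : Type u) (n : ι → ℕ),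
        Nonempty (K.X i ≅ ModuleCat.of R (DirectSum ι fun j => R ⧸ I ^ n j)) := by
  refine ⟨cx (cov I) (ModuleCat.of R M), aug (cov I) (ModuleCat.of R M),
    quasiIso_aug (cov I) (ModuleCat.of R M), fun i => ?_⟩
  exact (X_induction (cov I) (ModuleCat.of R M) (IsPT I) (IsSum I)
    (fun X Y e h => isPT_of_iso I e h)
    (fun X Y e ⟨ι, n, ⟨e'⟩⟩ => ⟨ι, n, ⟨e.symm ≪≫ e'⟩⟩)
    (cover_props I) (fun f h => isPT_kernel I f h) hM i).2

end Aux

/-- Let R be a commutative ring, I an ideal and M an R-module in which every element is killed by a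
power of I. Then M has a left resolution by modules each of which is a direct sum of copies of R/I^n
for varying n: there are a chain complex K of R-modules, a quasi-isomorphism from K to M placed in
degree 0, and for each i an isomorphism of K_i with such a direct sum. -/
theorem result {R : Type u} [CommRing R] (I : Ideal R)
    (M : Type u) [AddCommGroup M] [Module R M] (hM : LocCoh.IsPowerTorsion I M) :
    ∃ (K : ChainComplex (ModuleCat.{u} R) ℕ) (π : K ⟶ (ChainComplex.single₀ (ModuleCat.{u} R)).obj (ModuleCat.of R M)),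
      QuasiIso π ∧ ∀ i : ℕ, ∃ (ι : Type u) (n : ι → ℕ),
        Nonempty (K.X i ≅ ModuleCat.of R (DirectSum ι fun j => R ⧸ I ^ n j)) := by
  exact Aux.main I M hM

end Groth.Agent.S7089
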