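import Groth.Statements.S7102
import Mathlib
import Groth.Agent.Lib.Helper5.KSix.ThickTensor
import Groth.Agent.Lib.Helper5.DRing.RelPerf

set_option autoImplicit false
universe u
attribute [local instance] HasDerivedCategory.standard
open Dual2



namespace Groth.Agent.S7102

/-- Let R → A be a flat homomorphism of finite presentation of commutative rings, E a bounded cochain
complex of finite projective A-modules (a perfect object of D(A)) for which the derived functor −
⊗^L_A E exists, and M an R-perfect object of D(A). Then M ⊗^L_A E is R-perfect. -/
theorem result (R A : Type u) [CommRing R] [CommRing A] [Algebra R A]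
    [Module.Flat R A] [Algebra.FinitePresentation R A] (E : DRing.Cx A) (a b : ℤ)
    (hEb : DRing.VanishesOutside E a b) (hEp : DRing.TermwiseFiniteProjective E) [DRing.HasLTensorCx A E]
    (M : Dual.D A) (hM : Dual2.IsRelPerfect R A M) :
    Dual2.IsRelPerfect R A ((DRing.LTensorCx A E).obj M) := by
  obtain ⟨h1, h2, h3⟩ := Groth.Agent.Helper5.PerfRes.s7093 (R := R) (A := A)
  haveI := h1
  haveI := h2
  exact Groth.Agent.Lib.Helper5.KSixThick.ltensor_mem
    (fun K : Dual.D A => Dual2.IsRelPerfect R A K) (fun X Y h => (h3 X Y h).1)
    E a b hEb hEp M hM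

end Groth.Agent.S7102
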