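import Groth.Statements.S7106
import Mathlib
import Groth.Agent.Lib.Helper5.TwoTerm.Ext1

set_option autoImplicit false
universe u
attribute [local instance] HasDerivedCategory.standard
open CategoryTheory
open DRing



namespace Groth.Agent.S7106

/-- Let R be a commutative ring, M a cochain complex of R-modules with M^i = 0 for i > 0 and M^0
projective, K a cochain complex with K^i = 0 for i outside [-1, 0] and K^0 projective, and a : M → K
a chain map. Then precomposition with a is the zero map Ext^1_R(K, N) → Ext^1_R(M, N) (morphisms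
into N[1] in D(R)) for every R-module N if and only if there is a map h : M^0 → K^{-1} with a^{-1} +
h ∘ d_M^{-1} = 0. (The published statement composes h^0 with the differential K^{-1} → K^0 of K,
which is not defined; this row composes it with the differential M^{-1} → M^0 of M, as the homotopy
in the published proof does.) -/
theorem result {R : Type u} [CommRing R] (M K : DRing.Cx R)
    (hM : ∀ i : ℤ, 0 < i → Limits.IsZero (M.X i)) (hM0 : Module.Projective R (M.X 0))
    (hK : ∀ i : ℤ, i ≠ -1 → i ≠ 0 → Limits.IsZero (K.X i)) (hK0 : Module.Projective R (K.X 0))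
    (a : M ⟶ K) :
    (∀ (N : Type u) [AddCommGroup N] [Module R N] (ξ : DRing.toD K ⟶ (Dual.inD R N)⟦(1 : ℤ)⟧),
        DerivedCategory.Q.map a ≫ ξ = 0) ↔
      ∃ h : M.X 0 ⟶ K.X (-1), a.f (-1) + M.d (-1) 0 ≫ h = 0 := by
  haveI : Projective (M.X 0) := by
    have : Module.Projective R (ModuleCat.of R (M.X 0)) := hM0
    exact (IsProjective.iff_projective (ModuleCat.of R (M.X 0))).mp this
  haveI : Projective (K.X 0) := by
    have : Module.Projective R (ModuleCat.of R (K.X 0)) := hK0
    exact (IsProjective.iff_projective (ModuleCat.of R (K.X 0))).mp this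
  have hK' : ∀ i : ℤ, 0 < i → Limits.IsZero (K.X i) := fun i hi => hK i (by lia) (by lia)
  have hK2 : K.d (-2) (-1) ≫ 𝟙 (K.X (-1)) = 0 := (hK (-2) (by lia) (by lia)).eq_of_src _ _
  constructor
  · intro h
    have h1 := h (K.X (-1)) (Helper5.TwoTerm.ext1Mk K (𝟙 _) hK2)
    rw [Helper5.TwoTerm.Q_map_comp_ext1Mk, Helper5.TwoTerm.ext1Mk_eq_zero_iff hM] at h1
    obtain ⟨g, hg⟩ := h1
    refine ⟨-g, ?_⟩
    rw [Preadditive.comp_neg, hg, Category.comp_id, add_neg_cancel]
  · rintro ⟨h, hh⟩ N _ _ ξ
    obtain ⟨f, hf, rfl⟩ := Helper5.TwoTerm.ext1Mk_surjective hK' ξ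
    rw [Helper5.TwoTerm.Q_map_comp_ext1Mk, Helper5.TwoTerm.ext1Mk_eq_zero_iff hM]
    refine ⟨-h ≫ f, ?_⟩
    have : a.f (-1) = - M.d (-1) 0 ≫ h := eq_neg_of_add_eq_zero_left hh
    rw [this]
    simp

end Groth.Agent.S7106
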