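import Groth.Statements.S7107
import Mathlib

set_option autoImplicit false
universe u
open CAlg

namespace Groth.Agent.S7107

/-- Let R be a ring and P, Q modules such that P ⊕ Q is isomorphic to a free module F on an infinite
basis. Then P ⊕ F is isomorphic to F. -/
theorem result (R : Type u) [CommRing R] (P Q : Type u) [AddCommGroup P] [Module R P]
    [AddCommGroup Q] [Module R Q] (ι : Type u) [Infinite ι] (e : (P × Q) ≃ₗ[R] (ι →₀ R)) :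
    Nonempty ((P × (ι →₀ R)) ≃ₗ[R] (ι →₀ R)) := by
  classical
  -- (a) finitely supported functions into a product
  have a : ∀ (M N : Type u) [AddCommGroup M] [Module R M] [AddCommGroup N] [Module R N],
      Nonempty ((ℕ →₀ M × N) ≃ₗ[R] (ℕ →₀ M) × (ℕ →₀ N)) := by
    intro M N _ _ _ _
    exact ⟨LinearEquiv.ofLinear
      (LinearMap.prod (Finsupp.mapRange.linearMap (LinearMap.fst R M N))
        (Finsupp.mapRange.linearMap (LinearMap.snd R M N)))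
      (LinearMap.coprod (Finsupp.mapRange.linearMap (LinearMap.inl R M N))
        (Finsupp.mapRange.linearMap (LinearMap.inr R M N)))
      (by ext <;> simp) (by ext <;> simp)⟩
  -- (b) shift
  have b : ∀ (M : Type u) [AddCommGroup M] [Module R M],
      Nonempty ((ℕ →₀ M) ≃ₗ[R] (ℕ →₀ M) × M) := by
    intro M _ _
    exact ⟨(Finsupp.domLCongr (Equiv.natSumPUnitEquivNat : ℕ ⊕ PUnit.{1} ≃ ℕ)).symm ≪≫ₗ
      Finsupp.sumFinsuppLEquivProdFinsupp R ≪≫ₗ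
      (LinearEquiv.refl R (ℕ →₀ M)).prodCongr (Finsupp.LinearEquiv.finsuppUnique R M PUnit.{1})⟩
  -- (c) F is a countable sum of copies of itself
  have hcard : Cardinal.mk (ℕ × ι) = Cardinal.mk ι := by
    rw [Cardinal.mk_prod, Cardinal.mk_nat, Cardinal.lift_aleph0, Cardinal.lift_uzero,
      Cardinal.aleph0_mul_eq (Cardinal.aleph0_le_mk ι)]
  obtain ⟨σ⟩ := Cardinal.eq.mp hcard
  have c : (ι →₀ R) ≃ₗ[R] (ℕ →₀ (ι →₀ R)) :=
    (Finsupp.domLCongr σ).symm ≪≫ₗ Finsupp.finsuppProdLEquiv R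
  obtain ⟨a1⟩ := a P Q
  obtain ⟨b1⟩ := b P
  have s : (ℕ →₀ (ι →₀ R)) ≃ₗ[R] (ℕ →₀ P) × (ℕ →₀ Q) :=
    (Finsupp.mapRange.linearEquiv e.symm) ≪≫ₗ a1
  have step : (P × ((ℕ →₀ P) × (ℕ →₀ Q))) ≃ₗ[R] (ℕ →₀ P) × (ℕ →₀ Q) :=
    (LinearEquiv.prodAssoc R P (ℕ →₀ P) (ℕ →₀ Q)).symm ≪≫ₗ
      ((LinearEquiv.prodComm R P (ℕ →₀ P)) ≪≫ₗ b1.symm).prodCongr (LinearEquiv.refl R (ℕ →₀ Q))
  exact ⟨(LinearEquiv.refl R P).prodCongr (c ≪≫ₗ s) ≪≫ₗ step ≪≫ₗ s.symm ≪≫ₗ c.symm⟩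

end Groth.Agent.S7107
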