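import Groth.Statements.S7108
import Mathlib
import Groth.Agent.Lib.Helper5.ProjSplit
import Groth.Agent.S7107

set_option autoImplicit false
universe u
open CAlg



namespace Groth.Agent.S7108

/-- Every projective module P over a ring R becomes free after adding a suitable free module: P ⊕ F is
free for some free module F (here F is the free module on some index type). -/
theorem result (R : Type u) [CommRing R] (P : Type u) [AddCommGroup P]
    [Module R P] [Module.Projective R P] : ∃ ι : Type u, Module.Free R (P × (ι →₀ R)) := by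
  obtain ⟨Q, ⟨e0⟩⟩ := Groth.Agent.Helper5.exists_compl_equiv_finsupp R P
  let e1 : (P × (Q × (ULift.{u} ℕ →₀ R))) ≃ₗ[R] ((P ⊕ ULift.{u} ℕ) →₀ R) :=
    (LinearEquiv.prodAssoc R P Q (ULift.{u} ℕ →₀ R)).symm ≪≫ₗ
      (e0.prodCongr (LinearEquiv.refl R _)) ≪≫ₗ (Finsupp.sumFinsuppLEquivProdFinsupp R).symm
  obtain ⟨e2⟩ := Groth.Agent.S7107.result R P (Q × (ULift.{u} ℕ →₀ R)) (P ⊕ ULift.{u} ℕ) e1
  exact ⟨P ⊕ ULift.{u} ℕ, Module.Free.of_equiv e2.symm⟩

end Groth.Agent.S7108
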