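import Groth.Statements.S7112
import Mathlib
import Groth.Agent.Lib.Helper9.BigProj.Free
-- import your own Groth.Agent.* helpers here

set_option autoImplicit false
universe u
open CAlg

namespace Groth.Agent.S7112

namespace Aux
open Groth.Agent.Helper9.BigProj

theorem main (R : Type u) [CommRing R]
    [IsNoetherianRing (R ⧸ (⊥ : Ideal R).jacobson)]
    (P : Type u) [AddCommGroup P] [Module R P] [Module.Projective R P]
    (hP : ∀ (m : Ideal R) [m.IsMaximal],
      ¬ Module.Finite (Localization.AtPrime m) (LocalizedModule m.primeCompl P))
    (hc : ∃ s : Set P, s.Countable ∧ Submodule.span R s = ⊤) : Module.Free R P := by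
  obtain ⟨s, hs, hspan⟩ := hc
  obtain ⟨x, hx⟩ := (hs.insert (0 : P)).exists_eq_range (Set.insert_nonempty _ _)
  apply free_of_big_of_countable (big_of_not_finite hP) x
  rw [← hx, eq_top_iff, ← hspan]
  exact Submodule.span_mono (Set.subset_insert _ _)

end Aux

/-- Commutative case of a result of Bass: let R be a ring whose quotient by its Jacobson radical is
Noetherian and P a countably generated projective R-module such that for every maximal ideal m the
localization P_m is not finitely generated over R_m (P has infinite rank everywhere). Then P is
free. -/
theorem result (R : Type u) [CommRing R]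
    [IsNoetherianRing (R ⧸ (⊥ : Ideal R).jacobson)]
    (P : Type u) [AddCommGroup P] [Module R P] [Module.Projective R P]
    (hP : ∀ (m : Ideal R) [m.IsMaximal],
      ¬ Module.Finite (Localization.AtPrime m) (LocalizedModule m.primeCompl P))
    (hc : CAlg.IsCountablyGenerated R P) : Module.Free R P := by
  exact Aux.main R P hP hc

end Groth.Agent.S7112
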