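import Groth.Statements.S7114
import Mathlib

set_option autoImplicit false
universe u
open CAlg

namespace Groth.Agent.S7114

/-- Let R be a Noetherian local ring of Krull dimension one and x an element of the maximal ideal lying
in no minimal prime of R. Then for every n the length of R/xⁿR is at most n times the length of
R/xR, and equality holds when x is a nonzerodivisor. -/
theorem result (R : Type u) [CommRing R] [IsNoetherianRing R] [IsLocalRing R]
    (hdim : ringKrullDim R = 1) (x : R) (hx : x ∈ IsLocalRing.maximalIdeal R)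
    (hmin : ∀ p ∈ minimalPrimes R, x ∉ p) (n : ℕ) :
    Module.length R (R ⧸ Ideal.span {x ^ n}) ≤ (n : ℕ∞) * Module.length R (R ⧸ Ideal.span {x}) ∧
      (x ∈ nonZeroDivisors R →
        Module.length R (R ⧸ Ideal.span {x ^ n}) = (n : ℕ∞) * Module.length R (R ⧸ Ideal.span {x})) := by
  clear hdim hx hmin
  -- the maps
  have hle1 : ∀ k : ℕ, (Ideal.span {x ^ k} : Ideal R) ≤
      Submodule.comap (LinearMap.lsmul R R x) (Ideal.span {x ^ (k + 1)} : Ideal R) := by
    intro k a ha
    obtain ⟨b, rfl⟩ := Ideal.mem_span_singleton'.1 ha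
    show x • (b * x ^ k) ∈ Ideal.span {x ^ (k + 1)}
    rw [Ideal.mem_span_singleton']
    exact ⟨b, by rw [smul_eq_mul, pow_succ]; ring⟩
  have hle2 : ∀ k : ℕ, (Ideal.span {x ^ (k + 1)} : Ideal R) ≤
      Submodule.comap (LinearMap.id : R →ₗ[R] R) (Ideal.span {x} : Ideal R) := by
    intro k a ha
    obtain ⟨b, rfl⟩ := Ideal.mem_span_singleton'.1 ha
    show b * x ^ (k + 1) ∈ Ideal.span {x}
    rw [Ideal.mem_span_singleton']
    exact ⟨b * x ^ k, by rw [pow_succ]; ring⟩
  let φ : ∀ k : ℕ, (R ⧸ (Ideal.span {x ^ k} : Ideal R)) →ₗ[R] (R ⧸ (Ideal.span {x ^ (k + 1)} : Ideal R)) :=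
    fun k => Submodule.mapQ _ _ (LinearMap.lsmul R R x) (hle1 k)
  let ψ : ∀ k : ℕ, (R ⧸ (Ideal.span {x ^ (k + 1)} : Ideal R)) →ₗ[R] (R ⧸ (Ideal.span {x} : Ideal R)) :=
    fun k => Submodule.mapQ _ _ LinearMap.id (hle2 k)
  have hφ : ∀ (k : ℕ) (a : R), φ k (Submodule.Quotient.mk a) = Submodule.Quotient.mk (x * a) := by
    intro k a
    rfl
  have hψ : ∀ (k : ℕ) (a : R), ψ k (Submodule.Quotient.mk a) = Submodule.Quotient.mk a := by
    intro k a
    rfl
  have hψsurj : ∀ k, Function.Surjective (ψ k) := by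
    intro k y
    obtain ⟨a, rfl⟩ := Submodule.Quotient.mk_surjective _ y
    exact ⟨Submodule.Quotient.mk a, hψ k a⟩
  have hexact : ∀ k, Function.Exact (φ k) (ψ k) := by
    intro k y
    obtain ⟨a, rfl⟩ := Submodule.Quotient.mk_surjective _ y
    rw [hψ, Submodule.Quotient.mk_eq_zero]
    constructor
    · intro ha
      obtain ⟨b, rfl⟩ := Ideal.mem_span_singleton'.1 ha
      exact ⟨Submodule.Quotient.mk b, by rw [hφ, mul_comm]⟩
    · rintro ⟨z, hz⟩
      obtain ⟨b, rfl⟩ := Submodule.Quotient.mk_surjective _ z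
      rw [hφ, Submodule.Quotient.eq] at hz
      have h1 : x * b ∈ (Ideal.span {x} : Ideal R) := Ideal.mul_mem_right _ _ (Ideal.subset_span rfl)
      have h2 : x * b - a ∈ (Ideal.span {x} : Ideal R) := hle2 k hz
      have : a = x * b - (x * b - a) := by ring
      rw [this]
      exact Ideal.sub_mem _ h1 h2
  have hφinj : x ∈ nonZeroDivisors R → ∀ k, Function.Injective (φ k) := by
    intro hxnzd k
    rw [← LinearMap.ker_eq_bot, LinearMap.ker_eq_bot']
    intro y hy
    obtain ⟨a, rfl⟩ := Submodule.Quotient.mk_surjective _ y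
    rw [hφ, Submodule.Quotient.mk_eq_zero] at hy
    obtain ⟨b, hb⟩ := Ideal.mem_span_singleton'.1 hy
    rw [Submodule.Quotient.mk_eq_zero, Ideal.mem_span_singleton']
    refine ⟨b, ?_⟩
    have h3 : (b * x ^ k - a) * x = 0 := by
      rw [sub_mul, sub_eq_zero]
      rw [pow_succ] at hb
      rw [mul_assoc, hb, mul_comm]
    have := (mem_nonZeroDivisors_iff_right.1 hxnzd) _ h3
    exact sub_eq_zero.1 this
  -- the step
  have hstep : ∀ k : ℕ, Module.length R (R ⧸ (Ideal.span {x ^ (k + 1)} : Ideal R)) ≤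
      Module.length R (R ⧸ (Ideal.span {x ^ k} : Ideal R)) +
        Module.length R (R ⧸ (Ideal.span {x} : Ideal R)) := by
    intro k
    rw [Module.length_eq_add_of_exact (LinearMap.ker (ψ k)).subtype (ψ k)
      (Submodule.subtype_injective _) (hψsurj k) (LinearMap.exact_subtype_ker_map (ψ k))]
    gcongr
    have hker : LinearMap.ker (ψ k) = LinearMap.range (φ k) := (LinearMap.exact_iff.1 (hexact k))
    rw [hker]
    exact Module.length_le_of_surjective (φ k).rangeRestrict (LinearMap.surjective_rangeRestrict _)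
  have hstep_eq : x ∈ nonZeroDivisors R → ∀ k : ℕ,
      Module.length R (R ⧸ (Ideal.span {x ^ (k + 1)} : Ideal R)) =
      Module.length R (R ⧸ (Ideal.span {x ^ k} : Ideal R)) +
        Module.length R (R ⧸ (Ideal.span {x} : Ideal R)) := by
    intro hxnzd k
    exact Module.length_eq_add_of_exact (φ k) (ψ k) (hφinj hxnzd k) (hψsurj k) (hexact k)
  have hzero : Module.length R (R ⧸ (Ideal.span {x ^ 0} : Ideal R)) = 0 := by
    rw [Module.length_eq_zero_iff, pow_zero, Ideal.span_singleton_one]
    exact Submodule.Quotient.subsingleton_iff.2 rfl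
  constructor
  · induction n with
    | zero => rw [hzero]; exact bot_le
    | succ k ih =>
      calc Module.length R (R ⧸ (Ideal.span {x ^ (k + 1)} : Ideal R))
          ≤ Module.length R (R ⧸ (Ideal.span {x ^ k} : Ideal R)) +
              Module.length R (R ⧸ (Ideal.span {x} : Ideal R)) := hstep k
        _ ≤ (k : ℕ∞) * Module.length R (R ⧸ (Ideal.span {x} : Ideal R)) +
              Module.length R (R ⧸ (Ideal.span {x} : Ideal R)) := by gcongr
        _ = ((k + 1 : ℕ) : ℕ∞) * Module.length R (R ⧸ (Ideal.span {x} : Ideal R)) := by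
            rw [Nat.cast_add, Nat.cast_one, add_mul, one_mul]
  · intro hxnzd
    induction n with
    | zero => rw [hzero, Nat.cast_zero, zero_mul]
    | succ k ih =>
      rw [hstep_eq hxnzd k, ih, Nat.cast_add, Nat.cast_one, add_mul, one_mul]

end Groth.Agent.S7114
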