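import Groth.Statements.S7115
import Mathlib
import Groth.Agent.Lib.Helper5.Misc.SOP

set_option autoImplicit false
universe u
open CAlg



namespace Groth.Agent.S7115

/-- Let R be a Noetherian local ring of Krull dimension d > 1 with maximal ideal m, let f be an element
of m contained in no minimal prime, and let k be a natural number. Then there are elements g_1, ...,
g_{d-1} of m lying in m^k such that f, g_1, ..., g_{d-1} form a system of parameters: these d
elements of m generate an ideal whose radical is m. -/
theorem result (R : Type u) [CommRing R] [IsNoetherianRing R] [IsLocalRing R]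
    (d : ℕ) (hd : ringKrullDim R = d) (h1 : 1 < d) (f : R) (hf : f ∈ IsLocalRing.maximalIdeal R)
    (hmin : ∀ p ∈ minimalPrimes R, f ∉ p) (k : ℕ) :
    ∃ g : Fin (d - 1) → R, (∀ i, g i ∈ IsLocalRing.maximalIdeal R ^ k) ∧ (∀ i, g i ∈ IsLocalRing.maximalIdeal R) ∧
      IsLocalRing.maximalIdeal R ≤ (Ideal.span (insert f (Set.range g))).radical := by
  obtain ⟨g, hg, hgh⟩ := Groth.Agent.Helper5.SOP.main d hd f hmin k (d - 1) (by omega)
  have hd1 : d - 1 + 1 = d := by omega
  rw [hd1] at hgh
  refine ⟨g, fun i => Ideal.pow_le_pow_right (Nat.le_succ k) (hg i),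
    fun i => Ideal.pow_le_self (Nat.succ_ne_zero k) (hg i), ?_⟩
  rw [Ideal.radical_eq_sInf]
  refine le_sInf ?_
  rintro p ⟨hsp, hpp⟩
  have hle : p ≤ IsLocalRing.maximalIdeal R := IsLocalRing.le_maximalIdeal hpp.ne_top
  have h1 : ((IsLocalRing.maximalIdeal R).height : WithBot ℕ∞) = d := by
    rw [IsLocalRing.maximalIdeal_height_eq_ringKrullDim, hd]
  have h2 : (IsLocalRing.maximalIdeal R).height = d := by exact_mod_cast h1
  have h3 : (IsLocalRing.maximalIdeal R).height ≤ p.height := by
    rw [h2]; exact hgh.trans (Ideal.height_mono hsp)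
  exact (Ideal.eq_of_le_of_height_le p hle h3).ge

end Groth.Agent.S7115
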