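import Groth.Statements.S7116
import Mathlib
import Groth.Agent.Lib.Helper5.Misc.SOP

set_option autoImplicit false
universe u
open CAlg



namespace Groth.Agent.S7116

/-- Let R be a Noetherian local ring of Krull dimension d with maximal ideal m and let f be an element
of m contained in no minimal prime. Then there are g_1, ..., g_{d-1} in m and a natural number N
such that f, g_1, ..., g_{d-1} is a system of parameters (these d elements of m generate an ideal
with radical m) and, for every h in m^N, the elements f + h, g_1, ..., g_{d-1} again form a system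
of parameters and the lengths of R/(f, g_1, ..., g_{d-1}) and R/(f + h, g_1, ..., g_{d-1}) agree. -/
theorem result (R : Type u) [CommRing R] [IsNoetherianRing R] [IsLocalRing R]
    (d : ℕ) (hd : ringKrullDim R = d) (f : R) (hf : f ∈ IsLocalRing.maximalIdeal R)
    (hmin : ∀ p ∈ minimalPrimes R, f ∉ p) :
    ∃ (g : Fin (d - 1) → R) (N : ℕ), (∀ i, g i ∈ IsLocalRing.maximalIdeal R) ∧
      IsLocalRing.maximalIdeal R ≤ (Ideal.span (insert f (Set.range g))).radical ∧
      ∀ h ∈ IsLocalRing.maximalIdeal R ^ N,
        IsLocalRing.maximalIdeal R ≤ (Ideal.span (insert (f + h) (Set.range g))).radical ∧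
        Module.length R (R ⧸ Ideal.span (insert f (Set.range g))) =
          Module.length R (R ⧸ Ideal.span (insert (f + h) (Set.range g))) := by
  classical
  -- d ≥ 1
  have hd1 : 1 ≤ d := by
    by_contra hlt
    have hd0 : d = 0 := by omega
    subst hd0
    have hk : Ring.KrullDimLE 0 R := Ring.krullDimLE_iff.mpr (by rw [hd])
    have hmem : IsLocalRing.maximalIdeal R ∈ minimalPrimes R := by
      rw [Ring.KrullDimLE.minimalPrimes_eq_setOfPred_isPrime]
      exact (inferInstance : (IsLocalRing.maximalIdeal R).IsPrime)
    exact hmin _ hmem hf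
  obtain ⟨g, hg, hgh⟩ := Groth.Agent.Helper5.SOP.main d hd f hmin 0 (d - 1) (by omega)
  have hdd : d - 1 + 1 = d := by omega
  rw [hdd] at hgh
  have hgm : ∀ i, g i ∈ IsLocalRing.maximalIdeal R := fun i => by simpa using hg i
  set I := Ideal.span (insert f (Set.range g)) with hI
  have hrad : IsLocalRing.maximalIdeal R ≤ I.radical := by
    rw [Ideal.radical_eq_sInf]
    refine le_sInf ?_
    rintro p ⟨hsp, hpp⟩
    have hle : p ≤ IsLocalRing.maximalIdeal R := IsLocalRing.le_maximalIdeal hpp.ne_top
    have h1 : ((IsLocalRing.maximalIdeal R).height : WithBot ℕ∞) = d := by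
      rw [IsLocalRing.maximalIdeal_height_eq_ringKrullDim, hd]
    have h2 : (IsLocalRing.maximalIdeal R).height = d := by exact_mod_cast h1
    have h3 : (IsLocalRing.maximalIdeal R).height ≤ p.height := by
      rw [h2]; exact hgh.trans (Ideal.height_mono hsp)
    exact (Ideal.eq_of_le_of_height_le p hle h3).ge
  obtain ⟨N, hN⟩ := Ideal.exists_pow_le_of_le_radical_of_fg hrad
    (IsNoetherian.noetherian (IsLocalRing.maximalIdeal R))
  refine ⟨g, N + 1, hgm, hrad, ?_⟩
  intro h hh
  have hhI : h ∈ IsLocalRing.maximalIdeal R • I := by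
    rw [pow_succ'] at hh
    exact Ideal.mul_mono_right hN hh
  have hhI' : h ∈ I := Submodule.smul_le_right hhI
  have heq : Ideal.span (insert (f + h) (Set.range g)) = I := by
    apply le_antisymm
    · rw [Ideal.span_le]
      rintro x (rfl | hx)
      · exact I.add_mem (Ideal.subset_span (Set.mem_insert _ _)) hhI'
      · exact Ideal.subset_span (Set.mem_insert_of_mem _ hx)
    · refine Submodule.le_of_le_smul_of_le_jacobson_bot (I := IsLocalRing.maximalIdeal R)
        (IsNoetherian.noetherian I) ?_ ?_
      · rw [IsLocalRing.jacobson_eq_maximalIdeal _ bot_ne_top]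
      · rw [hI, Ideal.span_le]
        rintro x (hx | hx)
        · rw [hx]
          exact Submodule.mem_sup.2 ⟨f + h, Ideal.subset_span (Set.mem_insert _ _), -h,
            Submodule.neg_mem _ hhI, by ring⟩
        · exact Submodule.mem_sup_left (Ideal.subset_span (Set.mem_insert_of_mem _ hx))
  have key : ∀ I' : Ideal R, I' = I → (IsLocalRing.maximalIdeal R ≤ I'.radical ∧
      Module.length R (R ⧸ I) = Module.length R (R ⧸ I')) := by
    rintro _ rfl
    exact ⟨hrad, rfl⟩
  exact key _ heq

end Groth.Agent.S7116
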