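import Groth.Statements.S7121
import Mathlib
import Groth.Agent.Lib.Helper9.Warfield.Bezout
-- import your own Groth.Agent.* helpers here

set_option autoImplicit false
universe u
open CAlg

namespace Groth.Agent.S7121

namespace Aux
open Groth.Agent.Helper9.Warfield

variable {R : Type u} [CommRing R] [IsDomain R]

omit [IsDomain R] in
/-- killing lemma: if `f ∣ a` then `a` kills `R ⧸ (f)`. -/
lemma smul_eq_zero_of_dvd {f a : R} (h : f ∣ a) (z : R ⧸ Ideal.span {f}) : a • z = 0 := by
  obtain ⟨r, rfl⟩ := Submodule.Quotient.mk_surjective _ z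
  rw [← Submodule.Quotient.mk_smul, Submodule.Quotient.mk_eq_zero, smul_eq_mul,
    Ideal.mem_span_singleton]
  exact h.mul_right r

/-- torsion elements of `R ⧸ (0)` vanish. -/
lemma eq_zero_of_smul_eq_zero {f b : R} (hf : f = 0) (hb : b ≠ 0) (z : R ⧸ Ideal.span {f})
    (h : b • z = 0) : z = 0 := by
  subst hf
  obtain ⟨r, rfl⟩ := Submodule.Quotient.mk_surjective _ z
  rw [← Submodule.Quotient.mk_smul, Submodule.Quotient.mk_eq_zero, smul_eq_mul,
    Ideal.mem_span_singleton, zero_dvd_iff, mul_eq_zero] at h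
  rcases h with h | h
  · exact absurd h hb
  · rw [h]; rfl

section partB

variable {n : ℕ} (f : Fin n → R)

open scoped Classical in
/-- modified generators: nonzero -/
noncomputable def f' : Fin n → R := fun j => if f j = 0 then 1 else f j

lemma f'_ne_zero (j : Fin n) : f' f j ≠ 0 := by
  unfold f'
  split_ifs with h
  · exact one_ne_zero
  · exact h

omit [IsDomain R] in
lemma span_le (j : Fin n) : Ideal.span {f j} ≤ Ideal.span {f' f j} := by
  unfold f'
  split_ifs with h
  · rw [h]; simp
  · exact le_rfl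

open scoped Classical in
noncomputable def c' : Fin n → R := fun j => if f j = 0 then 0 else 1

omit [IsDomain R] in
lemma span_le' (j : Fin n) :
    Ideal.span {f' f j} ≤
      Submodule.comap (c' f j • (LinearMap.id : R →ₗ[R] R)) (Ideal.span {f j}) := by
  unfold f' c'
  split_ifs with h
  · intro x _
    simp
  · intro x hx
    simpa using hx

noncomputable def res : ((j : Fin n) → R ⧸ Ideal.span {f j}) →ₗ[R]
    ((j : Fin n) → R ⧸ Ideal.span {f' f j}) :=
  LinearMap.pi fun j =>
    Submodule.mapQ (Ideal.span {f j}) (Ideal.span {f' f j}) LinearMap.id (span_le f j) ∘ₗ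
      LinearMap.proj j

noncomputable def ext0 : ((j : Fin n) → R ⧸ Ideal.span {f' f j}) →ₗ[R]
    ((j : Fin n) → R ⧸ Ideal.span {f j}) :=
  LinearMap.pi fun j =>
    Submodule.mapQ (Ideal.span {f' f j}) (Ideal.span {f j}) (c' f j • LinearMap.id)
      (span_le' f j) ∘ₗ LinearMap.proj j

lemma ext0_mem_torsion (y : (j : Fin n) → R ⧸ Ideal.span {f' f j}) :
    ext0 f y ∈ Submodule.torsion R ((j : Fin n) → R ⧸ Ideal.span {f j}) := by
  rw [Submodule.mem_torsion_iff]
  have ha : ∏ j, f' f j ≠ 0 := Finset.prod_ne_zero_iff.mpr fun j _ => f'_ne_zero f j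
  refine ⟨⟨∏ j, f' f j, mem_nonZeroDivisors_of_ne_zero ha⟩, ?_⟩
  funext j
  rw [Submonoid.mk_smul, Pi.smul_apply, Pi.zero_apply]
  by_cases h : f j = 0
  · obtain ⟨r, hr⟩ := Submodule.Quotient.mk_surjective _ (y j)
    have : ext0 f y j = 0 := by
      simp only [ext0, LinearMap.pi_apply, LinearMap.coe_comp, Function.comp_apply,
        LinearMap.proj_apply]
      rw [← hr, Submodule.mapQ_apply]
      simp [c', h]
    rw [this, smul_zero]
  · apply smul_eq_zero_of_dvd
    have : f j = f' f j := by simp [f', h]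
    rw [this]
    exact Finset.dvd_prod_of_mem _ (Finset.mem_univ j)

lemma ext0_res (x : (j : Fin n) → R ⧸ Ideal.span {f j})
    (hx : x ∈ Submodule.torsion R ((j : Fin n) → R ⧸ Ideal.span {f j})) :
    ext0 f (res f x) = x := by
  rw [Submodule.mem_torsion_iff] at hx
  obtain ⟨⟨b, hb⟩, hbx⟩ := hx
  have hb0 : b ≠ 0 := nonZeroDivisors.ne_zero hb
  funext j
  obtain ⟨r, hr⟩ := Submodule.Quotient.mk_surjective _ (x j)
  simp only [ext0, res, LinearMap.pi_apply, LinearMap.coe_comp, Function.comp_apply,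
    LinearMap.proj_apply]
  rw [← hr, Submodule.mapQ_apply, Submodule.mapQ_apply]
  by_cases h : f j = 0
  · have h0 : x j = 0 := by
      apply eq_zero_of_smul_eq_zero h hb0
      have := congrFun hbx j
      simpa [Submonoid.mk_smul] using this
    rw [hr, h0]
    simp [c', h]
  · simp [c', h]

end partB

section partA

variable {n : ℕ} (f : Fin n → R)

open scoped Classical in
noncomputable def c0 : Fin n → R := fun j => if f j = 0 then 1 else 0

omit [IsDomain R] in
lemma span_le_ker (j : Fin n) :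
    Ideal.span {f j} ≤ LinearMap.ker (c0 f j • (LinearMap.id : R →ₗ[R] R)) := by
  unfold c0
  split_ifs with h
  · rw [h]; simp
  · intro x _; simp

noncomputable def Theta : ((j : Fin n) → R ⧸ Ideal.span {f j}) →ₗ[R] (Fin n → R) :=
  LinearMap.pi fun j =>
    Submodule.liftQ (Ideal.span {f j}) (c0 f j • LinearMap.id) (span_le_ker f j) ∘ₗ
      LinearMap.proj j

lemma Theta_eq_zero_of_mem_torsion (x : (j : Fin n) → R ⧸ Ideal.span {f j})
    (hx : x ∈ Submodule.torsion R ((j : Fin n) → R ⧸ Ideal.span {f j})) : Theta f x = 0 := by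
  rw [Submodule.mem_torsion_iff] at hx
  obtain ⟨⟨b, hb⟩, hbx⟩ := hx
  have hb0 : b ≠ 0 := nonZeroDivisors.ne_zero hb
  have h1 : b • Theta f x = 0 := by
    rw [← map_smul]
    have : b • x = 0 := hbx
    rw [this, map_zero]
  funext j
  have := congrFun h1 j
  simp only [Pi.smul_apply, smul_eq_mul, Pi.zero_apply, mul_eq_zero] at this
  exact this.resolve_left hb0

lemma mem_torsion_of_Theta_eq_zero (y : (j : Fin n) → R ⧸ Ideal.span {f j})
    (hy : Theta f y = 0) : y ∈ Submodule.torsion R ((j : Fin n) → R ⧸ Ideal.span {f j}) := by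
  rw [Submodule.mem_torsion_iff]
  have ha : ∏ j, f' f j ≠ 0 := Finset.prod_ne_zero_iff.mpr fun j _ => f'_ne_zero f j
  refine ⟨⟨∏ j, f' f j, mem_nonZeroDivisors_of_ne_zero ha⟩, ?_⟩
  funext j
  rw [Submonoid.mk_smul, Pi.smul_apply, Pi.zero_apply]
  by_cases h : f j = 0
  · obtain ⟨r, hr⟩ := Submodule.Quotient.mk_surjective _ (y j)
    have h2 := congrFun hy j
    simp only [Theta, LinearMap.pi_apply, LinearMap.coe_comp, Function.comp_apply,
      LinearMap.proj_apply, Pi.zero_apply] at h2
    rw [← hr, Submodule.liftQ_apply] at h2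
    have hr0 : r = 0 := by simpa [c0, h] using h2
    rw [← hr, hr0, Submodule.Quotient.mk_zero, smul_zero]
  · apply smul_eq_zero_of_dvd
    have : f j = f' f j := by simp [f', h]
    rw [this]
    exact Finset.dvd_prod_of_mem _ (Finset.mem_univ j)

end partA

section main

variable [IsBezout R]

theorem main (M : Type u) [AddCommGroup M] [Module R M] [Module.FinitePresentation R M] :
    (∃ r : ℕ, Nonempty (M ≃ₗ[R] ((Fin r → R) × Submodule.torsion R M))) ∧
      ∃ (n : ℕ) (f : Fin n → R), (∀ j, f j ≠ 0) ∧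
        ∃ (i : Submodule.torsion R M →ₗ[R] ((j : Fin n) → R ⧸ Ideal.span {f j}))
          (p : ((j : Fin n) → R ⧸ Ideal.span {f j}) →ₗ[R] Submodule.torsion R M),
          p ∘ₗ i = LinearMap.id := by
  obtain ⟨n, f, i, p, hpi⟩ := exists_summand_of_locally_dvd_total
    (R := R) (fun m _ a b => dvd_total_localization_atPrime (R := R) m a b) M
  have hpi' : ∀ x, p (i x) = x := fun x => LinearMap.congr_fun hpi x
  -- `i` and `p` preserve torsion
  have hi_tors : ∀ x ∈ Submodule.torsion R M,
      i x ∈ Submodule.torsion R ((j : Fin n) → R ⧸ Ideal.span {f j}) := by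
    intro x hx
    rw [Submodule.mem_torsion_iff] at hx ⊢
    obtain ⟨b, hb⟩ := hx
    exact ⟨b, by rw [Submonoid.smul_def, ← map_smul, ← Submonoid.smul_def, hb, map_zero]⟩
  have hp_tors : ∀ y ∈ Submodule.torsion R ((j : Fin n) → R ⧸ Ideal.span {f j}),
      p y ∈ Submodule.torsion R M := by
    intro y hy
    rw [Submodule.mem_torsion_iff] at hy ⊢
    obtain ⟨b, hb⟩ := hy
    exact ⟨b, by rw [Submonoid.smul_def, ← map_smul, ← Submonoid.smul_def, hb, map_zero]⟩
  constructor
  · let ψ : M →ₗ[R] (Fin n → R) := Theta f ∘ₗ i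
    have hker : LinearMap.ker ψ.rangeRestrict = Submodule.torsion R M := by
      rw [LinearMap.ker_rangeRestrict]
      ext x
      rw [LinearMap.mem_ker]
      constructor
      · intro hx
        have h1 := mem_torsion_of_Theta_eq_zero f (i x) hx
        have h2 := hp_tors _ h1
        rwa [hpi'] at h2
      · intro hx
        exact Theta_eq_zero_of_mem_torsion f (i x) (hi_tors x hx)
    have hfin : Module.Finite R (LinearMap.range ψ) := Module.Finite.range ψ
    have hfree : Module.Free R (LinearMap.range ψ) :=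
      free_of_injective_to_pi n (LinearMap.range ψ) (LinearMap.range ψ).subtype
        (Submodule.injective_subtype _)
    obtain ⟨σ, hσ⟩ := Module.projective_lifting_property ψ.rangeRestrict LinearMap.id
      ψ.surjective_rangeRestrict
    let e₀ := prodKerEquivOfRetract σ ψ.rangeRestrict hσ
    let eQ : LinearMap.range ψ ≃ₗ[R] (Fin (Module.finrank R (LinearMap.range ψ)) → R) :=
      (Module.finBasis R (LinearMap.range ψ)).equivFun
    exact ⟨_, ⟨e₀.symm ≪≫ₗ LinearEquiv.prodCongr eQ (LinearEquiv.ofEq _ _ hker)⟩⟩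
  · refine ⟨n, f' f, f'_ne_zero f, res f ∘ₗ i ∘ₗ (Submodule.torsion R M).subtype,
      LinearMap.codRestrict (Submodule.torsion R M) (p ∘ₗ ext0 f)
        (fun y => hp_tors _ (ext0_mem_torsion f y)), ?_⟩
    ext x
    simp only [LinearMap.coe_comp, Function.comp_apply, LinearMap.codRestrict_apply,
      Submodule.coe_subtype, LinearMap.id_coe, id_eq]
    rw [ext0_res f (i x.1) (hi_tors x.1 x.2), hpi']

end main

end Aux

/-- Over a Bézout domain R, a finitely presented module M splits as R^r ⊕ M_tors for some r, and its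
torsion part M_tors is a retract (direct summand) of R/f_1R ⊕ … ⊕ R/f_nR for some nonzero f_1, …,
f_n. -/
theorem result (R : Type u) [CommRing R] [IsDomain R] [IsBezout R]
    (M : Type u) [AddCommGroup M] [Module R M] [Module.FinitePresentation R M] :
    (∃ r : ℕ, Nonempty (M ≃ₗ[R] ((Fin r → R) × Submodule.torsion R M))) ∧
      ∃ (n : ℕ) (f : Fin n → R), (∀ j, f j ≠ 0) ∧
        ∃ (i : Submodule.torsion R M →ₗ[R] ((j : Fin n) → R ⧸ Ideal.span {f j}))
          (p : ((j : Fin n) → R ⧸ Ideal.span {f j}) →ₗ[R] Submodule.torsion R M),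
          p ∘ₗ i = LinearMap.id := by
  exact Aux.main M

end Groth.Agent.S7121
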