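import Groth.Statements.S7122
import Mathlib
import Groth.Agent.Lib.Helper5.CAlg.Bez2

set_option autoImplicit false
universe u
open CAlg



namespace Groth.Agent.S7122

/-- Let R be a Bézout domain, n ≥ 1, and f_1, ..., f_n elements generating the unit ideal. Then some
invertible n × n matrix over R has (f_1, ..., f_n) as its first row. -/
theorem result (R : Type u) [CommRing R] [IsDomain R] [IsBezout R]
    (n : ℕ) (f : Fin (n + 1) → R) (hf : Ideal.span (Set.range f) = ⊤) :
    ∃ A : Matrix (Fin (n + 1)) (Fin (n + 1)) R, IsUnit A.det ∧ A 0 = f := by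
  exact Groth.Agent.Helper5.Bez.s7122 R n f hf

end Groth.Agent.S7122
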