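import Groth.Statements.S7126
import Mathlib
import Groth.Agent.Lib.Helper5.WEt.Basic

set_option autoImplicit false
universe u
open EtAlg



namespace Groth.Agent.S7126

/-- Suppose the multiplication map B ⊗_A B → B of an A-algebra B is flat. Then a B-module that is flat
over A is also flat over B. -/
theorem result (A B : Type u) [CommRing A] [CommRing B] [Algebra A B]
    (h : (Algebra.TensorProduct.lmul' A (S := B)).Flat) (N : Type u) [AddCommGroup N] [Module B N] [Module A N]
    [IsScalarTower A B N] [Module.Flat A N] : Module.Flat B N := by
  exact Helper5.WEt.flat_of_flat_lmul' A B h N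

end Groth.Agent.S7126
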