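import Groth.Statements.S7130
import Mathlib

set_option autoImplicit false
universe u
open EtAlg

namespace Groth.Agent.S7130

/-- (2) ⇔ (3) ⇔ (4): for a ring A the following are equivalent: every A-module is flat; A is reduced of
Krull dimension zero, in the sense that every prime ideal of A is maximal; the local ring A_p is a
field for every prime p. (The further equivalent condition 'A has weak dimension at most zero'
coincides with the first condition by definition and is not listed separately.) -/
theorem result (A : Type u) [CommRing A] :
    List.TFAE [∀ (M : Type u) [AddCommGroup M] [Module A M], Module.Flat A M,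
      IsReduced A ∧ ∀ p : Ideal A, p.IsPrime → p.IsMaximal,
      ∀ (p : Ideal A) [p.IsPrime], IsField (Localization.AtPrime p)] := by
  tfae_have 1 → 2 := by
    intro h1
    have key : ∀ x : A, ∃ a : A, x = a * x ^ 2 := by
      intro x
      haveI : (Ideal.span {x}).Pure := h1 _
      obtain ⟨y, hy, hxy⟩ := Ideal.exists_eq_mul_of_pure (I := Ideal.span {x})
        (Ideal.subset_span rfl : x ∈ Ideal.span {x})
      obtain ⟨a, rfl⟩ := Ideal.mem_span_singleton'.mp hy
      exact ⟨a, hxy.trans (by ring)⟩
    constructor
    · rw [isReduced_iff_pow_one_lt 2 (by norm_num)]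
      intro x hx
      obtain ⟨a, ha⟩ := key x
      rw [ha, hx, mul_zero]
    · intro p hp
      rw [Ideal.isMaximal_iff]
      refine ⟨fun h => hp.ne_top ((Ideal.eq_top_iff_one _).mpr h), ?_⟩
      intro J x hpJ hxp hxJ
      obtain ⟨a, ha⟩ := key x
      have h0 : x * (1 - a * x) = 0 := by
        have : x * (1 - a * x) = x - a * x ^ 2 := by ring
        rw [this, ← ha, sub_self]
      have h1' : 1 - a * x ∈ p := by
        rcases hp.mem_or_mem (h0 ▸ p.zero_mem : x * (1 - a * x) ∈ p) with h | h
        · exact absurd h hxp
        · exact h
      have : (1 : A) = (1 - a * x) + a * x := by ring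
      rw [this]
      exact J.add_mem (hpJ h1') (J.mul_mem_left _ hxJ)
  tfae_have 2 → 3 := by
    rintro ⟨hred, hmax⟩ p hp
    have hpmin : p ∈ minimalPrimes A := by
      refine ⟨⟨hp, bot_le⟩, ?_⟩
      rintro q ⟨hq, _⟩ hqp
      exact ((hmax q hq).eq_of_le hp.ne_top hqp).ge
    haveI : Ring.KrullDimLE 0 (Localization.AtPrime p) :=
      Ring.KrullDimLE.of_isLocalization p hpmin _
    exact Ring.KrullDimLE.isField_of_isReduced
  tfae_have 3 → 1 := by
    intro h3 M _ _
    apply Module.flat_of_localized_maximal
    intro P hP
    letI : Field (Localization.AtPrime P) := (h3 P).toField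
    haveI : Module.Flat (Localization.AtPrime P) (LocalizedModule P.primeCompl M) :=
      inferInstance
    exact Module.Flat.trans A (Localization.AtPrime P) (LocalizedModule P.primeCompl M)
  tfae_finish

end Groth.Agent.S7130
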