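import Groth.Statements.S7129
import Mathlib
import Groth.Agent.S7130

set_option autoImplicit false
universe u
open EtAlg



namespace Groth.Agent.S7129

/-- Every module over a product of fields ∏ K_i is flat over it (the product is an absolutely flat
ring). -/
theorem result (ι : Type u) (K : ι → Type u) [∀ i, Field (K i)] (M : Type u)
    [AddCommGroup M] [Module (∀ i, K i) M] : Module.Flat (∀ i, K i) M := by
  classical
  have key : ∀ x : (∀ i, K i), ∃ a : (∀ i, K i), x = a * x ^ 2 := by
    intro x
    refine ⟨fun i => (x i)⁻¹, ?_⟩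
    funext i
    simp only [Pi.mul_apply, Pi.pow_apply]
    by_cases hx : x i = 0
    · simp [hx]
    · field_simp
  have h2 : IsReduced (∀ i, K i) ∧ ∀ p : Ideal (∀ i, K i), p.IsPrime → p.IsMaximal := by
    constructor
    · rw [isReduced_iff_pow_one_lt 2 (by norm_num)]
      intro x hx
      obtain ⟨a, ha⟩ := key x
      rw [ha, hx, mul_zero]
    · intro p hp
      rw [Ideal.isMaximal_iff]
      refine ⟨fun h => hp.ne_top ((Ideal.eq_top_iff_one _).mpr h), ?_⟩
      intro J x hpJ hxp hxJ
      obtain ⟨a, ha⟩ := key x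
      have h0 : x * (1 - a * x) = 0 := by
        have : x * (1 - a * x) = x - a * x ^ 2 := by ring
        rw [this, ← ha, sub_self]
      have h1' : 1 - a * x ∈ p := by
        rcases hp.mem_or_mem (h0 ▸ p.zero_mem : x * (1 - a * x) ∈ p) with h | h
        · exact absurd h hxp
        · exact h
      have : (1 : ∀ i, K i) = (1 - a * x) + a * x := by ring
      rw [this]
      exact J.add_mem (hpJ h1') (J.mul_mem_left _ hxJ)
  have h10 : (IsReduced (∀ i, K i) ∧ ∀ p : Ideal (∀ i, K i), p.IsPrime → p.IsMaximal) ↔
      (∀ (M : Type u) [AddCommGroup M] [Module (∀ i, K i) M], Module.Flat (∀ i, K i) M) :=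
    (Groth.Agent.S7130.result (∀ i, K i)).out 1 0
  exact h10.mp h2 M

end Groth.Agent.S7129
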