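import Groth.Statements.S7134
import Groth.Agent.Lib.Helper8.AdicFS7
import Groth.Agent.Lib.Helper8.RegularLocal
import Groth.Agent.S2451

set_option autoImplicit false
universe u
open EtAlg

namespace Groth.Agent.S7134

/-- For an injective local homomorphism A → B of discrete valuation rings, A → B is formally smooth for
the adic topology of the maximal ideal of B if and only if A → B is weakly unramified and the
residue field of B is a separable (possibly transcendental, i.e. geometrically reduced) extension of
the residue field of A. -/
theorem result (A B : Type u) [CommRing A]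
    [IsDomain A] [IsDiscreteValuationRing A] [CommRing B] [IsDomain B] [IsDiscreteValuationRing B] [Algebra A B]
    (hinj : Function.Injective (algebraMap A B)) [IsLocalHom (algebraMap A B)] :
    CAlgX.IsAdicFormallySmooth A B (IsLocalRing.maximalIdeal B) ↔
      EtRam.IsWeaklyUnramified A B ∧
        Algebra.IsGeometricallyReduced (IsLocalRing.ResidueField A) (IsLocalRing.ResidueField B) := by
  constructor
  · intro h
    have hq := Groth.Agent.Helper8.AdicFS.quotient_base h (IsLocalRing.maximalIdeal A)
    have hIle : (IsLocalRing.maximalIdeal A).map (algebraMap A B) ≤ IsLocalRing.maximalIdeal B := by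
      rw [Ideal.map_le_iff_le_comap]
      intro a ha
      rw [Ideal.mem_comap, IsLocalRing.mem_maximalIdeal, mem_nonunits_iff]
      rw [IsLocalRing.mem_maximalIdeal, mem_nonunits_iff] at ha
      exact fun hu => ha (isUnit_of_map_unit (algebraMap A B) a hu)
    haveI : Nontrivial (B ⧸ (IsLocalRing.maximalIdeal A).map (algebraMap A B)) :=
      Ideal.Quotient.nontrivial_iff.2
        (ne_top_of_le_ne_top (IsLocalRing.maximalIdeal.isMaximal B).ne_top hIle)
    haveI : IsLocalRing (B ⧸ (IsLocalRing.maximalIdeal A).map (algebraMap A B)) :=
      IsLocalRing.of_surjective' (Ideal.Quotient.mk _) Ideal.Quotient.mk_surjective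
    have hmax : IsLocalRing.maximalIdeal (B ⧸ (IsLocalRing.maximalIdeal A).map (algebraMap A B)) =
        (IsLocalRing.maximalIdeal B).map
          (Ideal.Quotient.mk ((IsLocalRing.maximalIdeal A).map (algebraMap A B))) :=
      (IsLocalRing.map_maximalIdeal_of_surjective _ Ideal.Quotient.mk_surjective).symm
    have hI : (IsLocalRing.maximalIdeal A).map (algebraMap A B) = IsLocalRing.maximalIdeal B := by
      have hq' := hq
      rw [← hmax] at hq'
      haveI hreg := (@Groth.Agent.Helper8.AdicFS.regular_and_ringEquiv (IsLocalRing.ResidueField A)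
        (B ⧸ (IsLocalRing.maximalIdeal A).map (algebraMap A B)) _ _ _ _
        Ideal.Quotient.algebraQuotientMapQuotient hq').1
      haveI := Groth.Agent.Helper8.RLR.isDomain
        (B ⧸ (IsLocalRing.maximalIdeal A).map (algebraMap A B))
      have hprime : ((IsLocalRing.maximalIdeal A).map (algebraMap A B)).IsPrime :=
        (Ideal.Quotient.isDomain_iff_prime _).1 inferInstance
      have hne : (IsLocalRing.maximalIdeal A).map (algebraMap A B) ≠ ⊥ := by
        intro h0
        have hA : IsLocalRing.maximalIdeal A ≠ ⊥ := IsDiscreteValuationRing.not_a_field A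
        obtain ⟨a, ha, ha0⟩ := Submodule.exists_mem_ne_zero_of_ne_bot hA
        have : algebraMap A B a ∈ (IsLocalRing.maximalIdeal A).map (algebraMap A B) :=
          Ideal.mem_map_of_mem _ ha
        rw [h0, Ideal.mem_bot] at this
        exact ha0 (hinj (this.trans (map_zero _).symm))
      haveI := hprime.isMaximal hne
      exact IsLocalRing.eq_maximalIdeal inferInstance
    refine ⟨hI, ?_⟩
    have hfs : Algebra.FormallySmooth (A ⧸ IsLocalRing.maximalIdeal A)
        (B ⧸ (IsLocalRing.maximalIdeal A).map (algebraMap A B)) := by
      refine Groth.Agent.Helper8.AdicFS.formallySmooth_of_bot ⟨1, ?_⟩ hq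
      rw [pow_one, ← hI, Ideal.map_quotient_self]
    letI : Algebra (IsLocalRing.ResidueField A)
        (B ⧸ (IsLocalRing.maximalIdeal A).map (algebraMap A B)) :=
      Ideal.Quotient.algebraQuotientMapQuotient
    haveI : Algebra.FormallySmooth (IsLocalRing.ResidueField A)
        (B ⧸ (IsLocalRing.maximalIdeal A).map (algebraMap A B)) := hfs
    let e₀ : (B ⧸ (IsLocalRing.maximalIdeal A).map (algebraMap A B)) ≃+*
        IsLocalRing.ResidueField B := Ideal.quotEquivOfEq hI
    let e : (B ⧸ (IsLocalRing.maximalIdeal A).map (algebraMap A B))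
        ≃ₐ[IsLocalRing.ResidueField A] IsLocalRing.ResidueField B :=
      AlgEquiv.ofRingEquiv (f := e₀) (fun x => by
        obtain ⟨a, rfl⟩ := IsLocalRing.residue_surjective x
        rfl)
    haveI : Algebra.FormallySmooth (IsLocalRing.ResidueField A) (IsLocalRing.ResidueField B) :=
      Algebra.FormallySmooth.of_equiv e
    exact Groth.Agent.S2451.result.1 inferInstance
  · rintro ⟨hw, hgr⟩
    haveI : Module.IsTorsionFree A B := Module.isTorsionFree_iff_algebraMap_injective.2 hinj
    haveI : Module.Flat A B := inferInstance
    letI : Algebra (A ⧸ IsLocalRing.maximalIdeal A) (IsLocalRing.ResidueField B) :=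
      inferInstanceAs (Algebra (IsLocalRing.ResidueField A) (IsLocalRing.ResidueField B))
    haveI : IsScalarTower A (A ⧸ IsLocalRing.maximalIdeal A) (IsLocalRing.ResidueField B) :=
      inferInstanceAs (IsScalarTower A (IsLocalRing.ResidueField A) (IsLocalRing.ResidueField B))
    haveI : Algebra.FormallySmooth (A ⧸ IsLocalRing.maximalIdeal A) (IsLocalRing.ResidueField B) :=
      Groth.Agent.S2451.result.2 hgr
    refine Groth.Agent.Helper8.AdicFS.of_flat_of_fibre (IsLocalRing.maximalIdeal A)
      (K := IsLocalRing.ResidueField B) (IsScalarTower.toAlgHom A B (IsLocalRing.ResidueField B))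
      IsLocalRing.residue_surjective ?_ (IsLocalRing.maximalIdeal B) hw.le
    rw [hw]
    exact IsLocalRing.ker_residue

end Groth.Agent.S7134
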