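import Groth.Statements.S7153
import Mathlib

set_option autoImplicit false
universe u
open CAlg

theorem ar_aux {A : Type*} [CommRing A] [IsNoetherianRing A] (I : Ideal A)
    {X : Type*} [AddCommGroup X] [Module A X] [Module.Finite A X] (N : Submodule A X) :
    ∃ k : ℕ, ∀ c ≥ k, ∀ n : ℕ, (I ^ (n + c) • ⊤ ⊓ N : Submodule A X) ≤ I ^ n • N := by
  obtain ⟨k, hk⟩ := Ideal.exists_pow_inf_eq_pow_smul I N
  refine ⟨k, fun c hc n => ?_⟩
  rw [hk (n + c) (by omega)]
  calc I ^ (n + c - k) • (I ^ k • ⊤ ⊓ N) ≤ I ^ (n + c - k) • N :=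
        Submodule.smul_mono le_rfl inf_le_right
    _ ≤ I ^ n • N := Submodule.smul_mono_left (Ideal.pow_le_pow_right (by omega))

namespace Groth.Agent.S7153

/-- Let A be a Noetherian ring, I an ideal and K → L → M a complex of finite A-modules with maps α, β
and homology H = Ker β / Im α; for n ≥ 0 let H_n be the homology of the induced complex K/IⁿK →
L/IⁿL → M/IⁿM, which is β⁻¹(IⁿM)/(Im α + IⁿL). Then there is c > 0 such that for every n: (i) the
image of H_(n+c) → H_n is contained in, hence equal to, the image of H → H_n; (ii) the kernel and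
the cokernel of H/IⁿH → H_n are annihilated by I^c. Everything is phrased with representatives in L. -/
theorem result (A : Type u) [CommRing A] [IsNoetherianRing A] (I : Ideal A)
    (K L M : Type u) [AddCommGroup K] [Module A K] [Module.Finite A K] [AddCommGroup L] [Module A L]
    [Module.Finite A L] [AddCommGroup M] [Module A M] [Module.Finite A M]
    (α : K →ₗ[A] L) (β : L →ₗ[A] M) (hαβ : β ∘ₗ α = 0) :
    ∃ c : ℕ, 0 < c ∧ ∀ n : ℕ,
      (∀ y ∈ (I ^ (n + c) • ⊤ : Submodule A M).comap β,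
        ∃ z ∈ LinearMap.ker β, y - z ∈ LinearMap.range α ⊔ (I ^ n • ⊤ : Submodule A L)) ∧
      (∀ z ∈ LinearMap.ker β, z ∈ LinearMap.range α ⊔ (I ^ n • ⊤ : Submodule A L) →
        ∀ a ∈ I ^ c, a • z ∈ LinearMap.range α ⊔ I ^ n • LinearMap.ker β) ∧
      (∀ y ∈ (I ^ n • ⊤ : Submodule A M).comap β, ∀ a ∈ I ^ c,
        ∃ z ∈ LinearMap.ker β, a • y - z ∈ LinearMap.range α ⊔ (I ^ n • ⊤ : Submodule A L)) := by
  obtain ⟨k₁, hk₁⟩ := ar_aux I (LinearMap.range β)
  obtain ⟨k₂, hk₂⟩ := ar_aux I (LinearMap.ker β)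
  set c := max k₁ k₂ + 1 with hc
  have hc1 : k₁ ≤ c := by omega
  have hc2 : k₂ ≤ c := by omega
  have hmap : ∀ n : ℕ, (I ^ n • LinearMap.range β : Submodule A M) = Submodule.map β (I ^ n • ⊤) := by
    intro n
    rw [Submodule.map_smul'', Submodule.map_top]
  have hβα : ∀ k, β (α k) = 0 := fun k => by
    have := LinearMap.congr_fun hαβ k
    simpa using this
  refine ⟨c, by omega, fun n => ⟨?_, ?_, ?_⟩⟩
  · intro y hy
    have hy' : β y ∈ (I ^ (n + c) • ⊤ ⊓ LinearMap.range β : Submodule A M) :=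
      ⟨hy, LinearMap.mem_range_self β y⟩
    have h2 := hk₁ c hc1 n hy'
    rw [hmap] at h2
    obtain ⟨l, hl, hly⟩ := h2
    refine ⟨y - l, ?_, ?_⟩
    · simp [hly]
    · have : y - (y - l) = l := by abel
      rw [this]
      exact Submodule.mem_sup_right hl
  · intro z hz hz' a ha
    obtain ⟨x, hx, l, hl, rfl⟩ := Submodule.mem_sup.mp hz'
    obtain ⟨k, rfl⟩ := hx
    have hlker : l ∈ LinearMap.ker β := by
      have : β (α k + l) = 0 := hz
      rw [map_add, hβα, zero_add] at this
      exact this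
    rw [smul_add]
    refine Submodule.add_mem_sup ⟨a • k, by simp⟩ ?_
    by_cases hn : c ≤ n
    · have h3 : l ∈ (I ^ (n - c + c) • ⊤ ⊓ LinearMap.ker β : Submodule A L) := by
        rw [Nat.sub_add_cancel hn]
        exact ⟨hl, hlker⟩
      have h4 := hk₂ c hc2 (n - c) h3
      have h5 : a • l ∈ I ^ c • (I ^ (n - c) • LinearMap.ker β : Submodule A L) :=
        Submodule.smul_mem_smul ha h4
      rwa [← mul_smul, ← pow_add, Nat.add_sub_cancel' hn] at h5
    · push Not at hn
      exact Submodule.smul_mem_smul (Ideal.pow_le_pow_right hn.le ha) hlker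
  · intro y hy a ha
    by_cases hn : c ≤ n
    · have h3 : β y ∈ (I ^ (n - c + c) • ⊤ ⊓ LinearMap.range β : Submodule A M) := by
        rw [Nat.sub_add_cancel hn]
        exact ⟨hy, LinearMap.mem_range_self β y⟩
      have h4 := hk₁ c hc1 (n - c) h3
      have h5 : a • β y ∈ I ^ c • (I ^ (n - c) • LinearMap.range β : Submodule A M) :=
        Submodule.smul_mem_smul ha h4
      rw [← mul_smul, ← pow_add, Nat.add_sub_cancel' hn, hmap] at h5
      obtain ⟨l, hl, hly⟩ := h5
      refine ⟨a • y - l, ?_, ?_⟩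
      · simp [hly]
      · have : a • y - (a • y - l) = l := by abel
        rw [this]
        exact Submodule.mem_sup_right hl
    · push Not at hn
      refine ⟨0, Submodule.zero_mem _, ?_⟩
      rw [sub_zero]
      exact Submodule.mem_sup_right
        (Submodule.smul_mem_smul (Ideal.pow_le_pow_right hn.le ha) Submodule.mem_top)

end Groth.Agent.S7153
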