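import Groth.Statements.S7136
import Mathlib
import Groth.Agent.S7153

set_option autoImplicit false
universe u
open CAlg


namespace Groth.Agent.Helper5.S7136aux

variable {A : Type u} [CommRing A] {N : Type u} [AddCommGroup N] [Module A N]

/-- Elements of `J • ⊤` in `Hom(A^r, N)` have values in `J • ⊤`. -/
theorem apply_mem_of_mem_smul_top (J : Ideal A) {F : Type u} [AddCommGroup F] [Module A F]
    (y : F →ₗ[A] N) (hy : y ∈ (J • ⊤ : Submodule A (F →ₗ[A] N))) (v : F) :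
    y v ∈ (J • ⊤ : Submodule A N) := by
  refine Submodule.smul_induction_on hy ?_ ?_
  · intro a ha y₀ _
    rw [LinearMap.smul_apply]
    exact Submodule.smul_mem_smul ha Submodule.mem_top
  · intro y₁ y₂ h₁ h₂
    rw [LinearMap.add_apply]
    exact Submodule.add_mem _ h₁ h₂

/-- A map out of `A^r` with values in `J • ⊤` on the standard basis lies in `J • ⊤`. -/
theorem mem_smul_top_of_apply_mem (J : Ideal A) {r : ℕ}
    (y : (Fin r → A) →ₗ[A] N)
    (hy : ∀ i : Fin r, y (fun j => if i = j then 1 else 0) ∈ (J • ⊤ : Submodule A N)) :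
    y ∈ (J • ⊤ : Submodule A ((Fin r → A) →ₗ[A] N)) := by
  classical
  -- T i n = (v ↦ v i • n)
  let T : Fin r → (N →ₗ[A] ((Fin r → A) →ₗ[A] N)) := fun i =>
    LinearMap.smulRightₗ (LinearMap.proj i)
  have hT : ∀ (i : Fin r) (n : N) (v : Fin r → A), T i n v = v i • n := by
    intro i n v
    rfl
  have hsum : y = ∑ i : Fin r, T i (y (fun j => if i = j then 1 else 0)) := by
    apply LinearMap.ext
    intro v
    rw [LinearMap.sum_apply, LinearMap.pi_apply_eq_sum_univ y v]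
    refine Finset.sum_congr rfl (fun i _ => ?_)
    rw [hT]
  rw [hsum]
  refine Submodule.sum_mem _ (fun i _ => ?_)
  have hmap : Submodule.map (T i) (J • ⊤ : Submodule A N) ≤ (J • ⊤ : Submodule A ((Fin r → A) →ₗ[A] N)) := by
    rw [Submodule.map_smul'']
    exact Submodule.smul_mono le_rfl le_top
  exact hmap (Submodule.mem_map_of_mem (hy i))

end Groth.Agent.Helper5.S7136aux

namespace Groth.Agent.S7136

/-- Let A be a Noetherian ring, I an ideal, and M, N finite A-modules; write N_n = N/IⁿN, so that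
Hom_A(M/IⁿM, N_n) = Hom_A(M, N_n). Then (1) the inverse system (Hom_A(M, N_n))_n, with transition
maps induced by the projections N_k → N_n, is Mittag-Leffler; (2) there is c ≥ 0 such that for all n
the kernel and the cokernel of Hom_A(M, N)/IⁿHom_A(M, N) → Hom_A(M, N_n) are annihilated by I^c. -/
theorem result (A : Type u) [CommRing A] [IsNoetherianRing A]
    (I : Ideal A) (M N : Type u) [AddCommGroup M] [Module A M] [Module.Finite A M] [AddCommGroup N] [Module A N]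
    [Module.Finite A N] :
    let Nq : ℕ → Submodule A N := fun n => I ^ n • ⊤
    let pr : ∀ n k : ℕ, n ≤ k → (N ⧸ Nq k) →ₗ[A] (N ⧸ Nq n) :=
      fun n k hnk => Submodule.mapQ (Nq k) (Nq n) (LinearMap.id : N →ₗ[A] N) (Submodule.smul_mono_left (Ideal.pow_le_pow_right hnk))
    let red : ∀ n : ℕ, (M →ₗ[A] N) → (M →ₗ[A] N ⧸ Nq n) := fun n φ => (Nq n).mkQ ∘ₗ φ
    (∀ n : ℕ, ∃ m : ℕ, n ≤ m ∧ ∀ (k : ℕ) (hmk : m ≤ k) (hnm : n ≤ m) (ψ : M →ₗ[A] N ⧸ Nq m),
        ∃ ψ' : M →ₗ[A] N ⧸ Nq k, pr n k (hnm.trans hmk) ∘ₗ ψ' = pr n m hnm ∘ₗ ψ) ∧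
    ∃ c : ℕ, ∀ n : ℕ,
      (∀ φ : M →ₗ[A] N, red n φ = 0 → ∀ a ∈ I ^ c, a • φ ∈ (I ^ n • ⊤ : Submodule A (M →ₗ[A] N))) ∧
      (∀ (ψ : M →ₗ[A] N ⧸ Nq n), ∀ a ∈ I ^ c, ∃ φ : M →ₗ[A] N, red n φ = a • ψ) := by
  intro Nq pr red
  classical
  haveI : Module.FinitePresentation A M := Module.finitePresentation_of_finite A M
  obtain ⟨r, s, π, P, hπ, hex⟩ := Module.FinitePresentation.exists_fin' A M
  -- L = Hom(A^r, N), M' = Hom(A^s, N)
  haveI : Module.Finite A ((Fin r → A) →ₗ[A] N) :=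
    Module.Finite.equiv ((Pi.basisFun A (Fin r)).constr A (M' := N))
  haveI : Module.Finite A ((Fin s → A) →ₗ[A] N) :=
    Module.Finite.equiv ((Pi.basisFun A (Fin s)).constr A (M' := N))
  let β : ((Fin r → A) →ₗ[A] N) →ₗ[A] ((Fin s → A) →ₗ[A] N) := LinearMap.lcomp A N P
  have hβ : ∀ z, β z = z ∘ₗ P := fun z => rfl
  obtain ⟨c, hcpos, H⟩ := Groth.Agent.S7153.result A I PUnit.{u+1} ((Fin r → A) →ₗ[A] N)
    ((Fin s → A) →ₗ[A] N) (0 : PUnit.{u+1} →ₗ[A] _) β (by rw [LinearMap.comp_zero])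
  have hrange0 : LinearMap.range (0 : PUnit.{u+1} →ₗ[A] ((Fin r → A) →ₗ[A] N)) = ⊥ := LinearMap.range_zero
  simp only [hrange0, bot_sup_eq] at H
  -- descent
  have hexL := LinearMap.exact_lcomp_of_exact_of_surjective (R := A) N hex hπ
  have desc : ∀ z : (Fin r → A) →ₗ[A] N, z ∈ LinearMap.ker β → ∃ φ : M →ₗ[A] N, φ ∘ₗ π = z := by
    intro z hz
    have : LinearMap.lcomp A N P z = 0 := hz
    obtain ⟨φ, hφ⟩ := (hexL z).1 this
    exact ⟨φ, hφ⟩
  have kerβ : ∀ φ : M →ₗ[A] N, φ ∘ₗ π ∈ LinearMap.ker β := by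
    intro φ
    exact (hexL (φ ∘ₗ π)).2 ⟨φ, rfl⟩
  have πcancel : ∀ {X : Type u} [AddCommGroup X] [Module A X] (f g : M →ₗ[A] X),
      f ∘ₗ π = g ∘ₗ π → f = g := by
    intro X _ _ f g h
    apply LinearMap.ext
    intro m
    obtain ⟨v, rfl⟩ := hπ m
    exact LinearMap.congr_fun h v
  -- lifting
  have lift : ∀ (m : ℕ) (ψ : M →ₗ[A] N ⧸ Nq m), ∃ y : (Fin r → A) →ₗ[A] N,
      (Nq m).mkQ ∘ₗ y = ψ ∘ₗ π ∧ y ∈ (I ^ m • ⊤ : Submodule A ((Fin s → A) →ₗ[A] N)).comap β := by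
    intro m ψ
    obtain ⟨y, hy⟩ := Module.projective_lifting_property (Nq m).mkQ (ψ ∘ₗ π) (Submodule.mkQ_surjective _)
    refine ⟨y, hy, ?_⟩
    show β y ∈ (I ^ m • ⊤ : Submodule A ((Fin s → A) →ₗ[A] N))
    apply Groth.Agent.Helper5.S7136aux.mem_smul_top_of_apply_mem
    intro j
    rw [hβ, LinearMap.comp_apply]
    have h1 : (Nq m).mkQ (y (P (fun k => if j = k then 1 else 0))) = 0 := by
      have := LinearMap.congr_fun hy (P (fun k => if j = k then 1 else 0))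
      rw [LinearMap.comp_apply] at this
      rw [this, LinearMap.comp_apply, hex.apply_apply_eq_zero, map_zero]
    rw [Submodule.mkQ_apply, Submodule.Quotient.mk_eq_zero] at h1
    exact h1
  -- values
  have vals : ∀ (n : ℕ) (w : (Fin r → A) →ₗ[A] N),
      w ∈ (I ^ n • ⊤ : Submodule A ((Fin r → A) →ₗ[A] N)) → (Nq n).mkQ ∘ₗ w = 0 := by
    intro n w hw
    apply LinearMap.ext
    intro v
    rw [LinearMap.comp_apply, LinearMap.zero_apply, Submodule.mkQ_apply, Submodule.Quotient.mk_eq_zero]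
    exact Groth.Agent.Helper5.S7136aux.apply_mem_of_mem_smul_top (I ^ n) w hw v
  have prmk : ∀ (n k : ℕ) (h : n ≤ k) (f : M →ₗ[A] N), pr n k h ∘ₗ ((Nq k).mkQ ∘ₗ f) = (Nq n).mkQ ∘ₗ f := by
    intro n k h f
    apply LinearMap.ext
    intro x
    simp [pr]
  have prmk' : ∀ (n k : ℕ) (h : n ≤ k) (f : (Fin r → A) →ₗ[A] N), pr n k h ∘ₗ ((Nq k).mkQ ∘ₗ f) = (Nq n).mkQ ∘ₗ f := by
    intro n k h f
    apply LinearMap.ext
    intro x
    simp [pr]
  refine ⟨?_, c, fun n => ⟨?_, ?_⟩⟩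
  · -- Mittag-Leffler
    intro n
    refine ⟨n + c, Nat.le_add_right n c, fun k hmk hnm ψ => ?_⟩
    obtain ⟨y, hy, hyβ⟩ := lift (n + c) ψ
    obtain ⟨z, hz, hyz⟩ := (H n).1 y hyβ
    obtain ⟨φ, hφ⟩ := desc z hz
    refine ⟨(Nq k).mkQ ∘ₗ φ, ?_⟩
    rw [prmk n k (hnm.trans hmk)]
    apply πcancel
    rw [LinearMap.comp_assoc, hφ, LinearMap.comp_assoc, ← hy, prmk' n (n + c) hnm]
    have := vals n (y - z) hyz
    rw [LinearMap.comp_sub, sub_eq_zero] at this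
    exact this.symm
  · -- kernel
    intro φ hφ a ha
    have hz : φ ∘ₗ π ∈ LinearMap.ker β := kerβ φ
    have hzn : φ ∘ₗ π ∈ (I ^ n • ⊤ : Submodule A ((Fin r → A) →ₗ[A] N)) := by
      apply Groth.Agent.Helper5.S7136aux.mem_smul_top_of_apply_mem
      intro i
      rw [LinearMap.comp_apply]
      have h1 : red n φ (π (fun j => if i = j then 1 else 0)) = 0 := by rw [hφ]; rfl
      have h2 : (Nq n).mkQ (φ (π (fun j => if i = j then 1 else 0))) = 0 := h1
      rw [Submodule.mkQ_apply, Submodule.Quotient.mk_eq_zero] at h2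
      exact h2
    have h3 := (H n).2.1 (φ ∘ₗ π) hz hzn a ha
    -- transport along the descent
    have key : ∀ x ∈ (I ^ n • LinearMap.ker β : Submodule A ((Fin r → A) →ₗ[A] N)),
        ∃ φ' ∈ (I ^ n • ⊤ : Submodule A (M →ₗ[A] N)), φ' ∘ₗ π = x := by
      intro x hx
      refine Submodule.smul_induction_on hx ?_ ?_
      · intro b hb z hz
        obtain ⟨φ₀, hφ₀⟩ := desc z hz
        refine ⟨b • φ₀, Submodule.smul_mem_smul hb Submodule.mem_top, ?_⟩
        rw [LinearMap.smul_comp, hφ₀]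
      · rintro x₁ x₂ ⟨φ₁, h₁, e₁⟩ ⟨φ₂, h₂, e₂⟩
        exact ⟨φ₁ + φ₂, Submodule.add_mem _ h₁ h₂, by rw [LinearMap.add_comp, e₁, e₂]⟩
    obtain ⟨φ', hφ', e⟩ := key _ h3
    have : φ' = a • φ := by
      apply πcancel
      rw [e, LinearMap.smul_comp]
    rw [← this]
    exact hφ'
  · -- cokernel
    intro ψ a ha
    obtain ⟨y, hy, hyβ⟩ := lift n ψ
    obtain ⟨z, hz, hyz⟩ := (H n).2.2 y hyβ a ha
    obtain ⟨φ, hφ⟩ := desc z hz
    refine ⟨φ, ?_⟩
    show (Nq n).mkQ ∘ₗ φ = a • ψ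
    apply πcancel
    rw [LinearMap.comp_assoc, hφ, LinearMap.smul_comp, ← hy]
    have := vals n (a • y - z) hyz
    rw [LinearMap.comp_sub, sub_eq_zero] at this
    rw [← this, LinearMap.comp_smul]

end Groth.Agent.S7136
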