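import Groth.Statements.S7139
import Groth.Agent.Lib.Helper6.InertiaField2

set_option autoImplicit false
set_option linter.style.haveILetI false
universe u
open EtAlg

namespace Groth.Agent.S7139

local notation "EE(" K "," L "," m ")" => IntermediateField.fixedField (Ideal.inertia (L ≃ₐ[K] L) m)

/-- A is a discrete valuation ring, K its field of fractions, and L/K is finite Galois with Galois group
G. Write B for the integral closure of A in L, equipped with the induced G-action, m a maximal ideal
of B and I ⊆ G its inertia group. Denote by B' the integral closure of A inside the fixed field L^I,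
with a map to B compatible with L^I ⊆ L. Then the image of B' in B is the ring of invariants B^I,
and A → B'_{m'} is étale, where m' = m ∩ B'. -/
theorem result (A K L B : Type u) [CommRing A] [IsDomain A]
    [IsDiscreteValuationRing A] [Field K] [Field L] [Algebra A K] [IsFractionRing A K] [Algebra K L]
    [Algebra A L] [IsScalarTower A K L] [FiniteDimensional K L] [IsGalois K L]
    [CommRing B] [Algebra A B] [Algebra B L] [IsScalarTower A B L] [IsIntegralClosure B A L]
    [MulSemiringAction (L ≃ₐ[K] L) B]
    (hact : ∀ (σ : L ≃ₐ[K] L) (b : B), algebraMap B L (σ • b) = σ (algebraMap B L b))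
    (m : Ideal B) [m.IsMaximal]
    (B' : Type u) [CommRing B'] [Algebra A B'] [Algebra B' B] [IsScalarTower A B' B] [Algebra B' L]
    [IsScalarTower B' B L]
    [Algebra B' (IntermediateField.fixedField (m.inertia (L ≃ₐ[K] L)))]
    [IsScalarTower B' (IntermediateField.fixedField (m.inertia (L ≃ₐ[K] L))) L]
    [IsIntegralClosure B' A (IntermediateField.fixedField (m.inertia (L ≃ₐ[K] L)))] :
    (∀ b : B, (∀ σ ∈ m.inertia (L ≃ₐ[K] L), σ • b = b) ↔ b ∈ Set.range (algebraMap B' B)) ∧
      Algebra.Etale A (Localization.AtPrime (m.comap (algebraMap B' B))) := by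
  classical
  -- basic facts about `B`
  have hinjBL : Function.Injective (algebraMap B L) := IsIntegralClosure.algebraMap_injective B A L
  haveI : IsDomain B := hinjBL.isDomain _
  haveI : IsFractionRing B L := IsIntegralClosure.isFractionRing_of_finite_extension A K L B
  haveI : IsDedekindDomain B := IsIntegralClosure.isDedekindDomain A K L B
  haveI : Module.Finite A B := IsIntegralClosure.finite A K L B
  haveI : Algebra.IsIntegral A B := IsIntegralClosure.isIntegral_algebra A L
  -- basic facts about `B'`
  haveI : Algebra.IsSeparable K EE(K,L,m) := Algebra.isSeparable_tower_bot_of_isSeparable K EE(K,L,m) L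
  have hinjB'E : Function.Injective (algebraMap B' EE(K,L,m)) :=
    IsIntegralClosure.algebraMap_injective B' A EE(K,L,m)
  haveI : IsDomain B' := hinjB'E.isDomain _
  have hB'L : ∀ x : B', algebraMap B' L x = algebraMap EE(K,L,m) L (algebraMap B' EE(K,L,m) x) :=
    fun x => IsScalarTower.algebraMap_apply B' EE(K,L,m) L x
  have hB'L2 : ∀ x : B', algebraMap B' L x = algebraMap B L (algebraMap B' B x) := fun x =>
    IsScalarTower.algebraMap_apply B' B L x
  haveI : IsScalarTower A EE(K,L,m) L := IsScalarTower.of_algebraMap_eq fun a => rfl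
  haveI : IsScalarTower A B' EE(K,L,m) := by
    refine IsScalarTower.of_algebraMap_eq fun a => ?_
    apply (algebraMap EE(K,L,m) L).injective
    rw [← hB'L, hB'L2, ← IsScalarTower.algebraMap_apply A B' B, ← IsScalarTower.algebraMap_apply A B L,
      ← IsScalarTower.algebraMap_apply A EE(K,L,m) L]
  haveI : IsFractionRing B' EE(K,L,m) :=
    IsIntegralClosure.isFractionRing_of_finite_extension A K EE(K,L,m) B'
  haveI : IsDedekindDomain B' := IsIntegralClosure.isDedekindDomain A K EE(K,L,m) B'
  haveI : Module.Finite A B' := IsIntegralClosure.finite A K EE(K,L,m) B'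
  haveI : Module.Finite B' B := Module.Finite.of_restrictScalars_finite A B' B
  have hinjB'B : Function.Injective (algebraMap B' B) := by
    intro x y hxy
    apply hinjB'E
    apply (algebraMap EE(K,L,m) L).injective
    rw [← hB'L, ← hB'L, hB'L2, hB'L2, hxy]
  have hinjAB' : Function.Injective (algebraMap A B') := by
    have h : Function.Injective (algebraMap A EE(K,L,m)) := by
      rw [IsScalarTower.algebraMap_eq A K EE(K,L,m)]
      exact (algebraMap K EE(K,L,m)).injective.comp (IsFractionRing.injective A K)
    rw [IsScalarTower.algebraMap_eq A B' EE(K,L,m)] at h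
    exact Function.Injective.of_comp h
  have hinjAB : Function.Injective (algebraMap A B) := by
    rw [IsScalarTower.algebraMap_eq A B' B]
    exact hinjB'B.comp hinjAB'
  haveI : FaithfulSMul A B := (faithfulSMul_iff_algebraMap_injective A B).2 hinjAB
  haveI : FaithfulSMul A B' := (faithfulSMul_iff_algebraMap_injective A B').2 hinjAB'
  haveI : FaithfulSMul B' B := (faithfulSMul_iff_algebraMap_injective B' B).2 hinjB'B
  haveI : Module.Flat A B := inferInstance
  haveI : Module.Flat A B' := inferInstance
  haveI : Module.Flat B' B := inferInstance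
  -- the Galois group structure
  haveI : SMulDistribClass (L ≃ₐ[K] L) B L := ⟨fun σ b l => by
    rw [Algebra.smul_def, Algebra.smul_def, AlgEquiv.smul_def, AlgEquiv.smul_def, map_mul, hact]⟩
  haveI : IsGaloisGroup (L ≃ₐ[K] L) A B := IsGaloisGroup.of_isFractionRing _ _ _ K L
  -- part 1
  have part1 : ∀ b : B, (∀ σ ∈ m.inertia (L ≃ₐ[K] L), σ • b = b) ↔
      b ∈ Set.range (algebraMap B' B) := by
    intro b
    constructor
    · intro hb
      have hmem : algebraMap B L b ∈ EE(K,L,m) := by
        rw [IntermediateField.mem_fixedField_iff]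
        intro σ hσ
        rw [← hact, hb σ hσ]
      have hint : IsIntegral A (⟨algebraMap B L b, hmem⟩ : EE(K,L,m)) := by
        rw [← isIntegral_algebraMap_iff (algebraMap EE(K,L,m) L).injective]
        exact (IsIntegralClosure.isIntegral A L b).algebraMap
      obtain ⟨b', hb'⟩ := IsIntegralClosure.isIntegral_iff (A := B') |>.1 hint
      refine ⟨b', hinjBL ?_⟩
      rw [← hB'L2, hB'L, hb']
      rfl
    · rintro ⟨b', rfl⟩ σ hσ
      apply hinjBL
      rw [hact, ← hB'L2, hB'L]
      exact (IntermediateField.mem_fixedField_iff _ _).1 (algebraMap B' EE(K,L,m) b').2 σ hσ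
  refine ⟨part1, ?_⟩
  haveI : FaithfulSMul (L ≃ₐ[K] L) B := IsGaloisGroup.faithful A
  haveI : IsGaloisGroup (m.inertia (L ≃ₐ[K] L)) B' B :=
    { faithful := ⟨fun {σ τ} h => Subtype.ext (eq_of_smul_eq_smul (α := B) fun b => h b)⟩
      commutes := ⟨fun σ b' b => by
        have h1 : σ • algebraMap B' B b' = algebraMap B' B b' :=
          (part1 _).2 ⟨b', rfl⟩ σ.1 σ.2
        rw [Algebra.smul_def, Algebra.smul_def, smul_mul', h1]⟩
      isInvariant := ⟨fun b hb => (part1 b).1 fun σ hσ => hb ⟨σ, hσ⟩⟩ }
  exact Groth.Agent.Lib.Helper6.InertiaField.main_etale (A := A) (B' := B') (G := L ≃ₐ[K] L) m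

end Groth.Agent.S7139
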