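import Groth.Statements.S7141
import Mathlib
import Groth.Agent.Lib.Helper9.WEtField.Max
-- import your own Groth.Agent.* helpers here

set_option autoImplicit false
universe u
open EtAlg

namespace Groth.Agent.S7141

namespace Aux
open Groth.Agent.Helper9.WEtField Polynomial

theorem main (K : Type u) [Field K] (A : Type u) [CommRing A] [Algebra K A] :
    (∀ A' : Subalgebra K A,
      (EtAlgD.maxWeaklyEtale K A').map A'.val = EtAlgD.maxWeaklyEtale K A ⊓ A') ∧
    (Set.BijOn (Ideal.Quotient.mkₐ K (nilradical A)) (EtAlgD.maxWeaklyEtale K A)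
      (EtAlgD.maxWeaklyEtale K (A ⧸ nilradical A))) ∧
    ((∀ e : A, IsIdempotentElem e → e = 0 ∨ e = 1) → Nontrivial A →
      IsField (EtAlgD.maxWeaklyEtale K A) ∧ Algebra.IsSeparable K (EtAlgD.maxWeaklyEtale K A)) := by
  refine ⟨fun A' => ?_, ⟨?_, ?_, ?_⟩, ?_⟩
  · ext x
    rw [Subalgebra.mem_map, Algebra.mem_inf, mem_maxWeaklyEtale_iff]
    simp only [mem_maxWeaklyEtale_iff]
    constructor
    · rintro ⟨y, hy, rfl⟩
      exact ⟨hy.map A'.val, y.2⟩
    · rintro ⟨hx, hxA⟩
      exact ⟨⟨x, hxA⟩, IsSepElem.of_map A'.val Subtype.val_injective hx, rfl⟩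
  · intro a ha
    rw [SetLike.mem_coe, mem_maxWeaklyEtale_iff] at ha ⊢
    exact ha.map _
  · intro a ha b hb hab
    rw [SetLike.mem_coe, mem_maxWeaklyEtale_iff] at ha hb
    have h1 : IsSepElem K (a - b) := (sepSub K A).sub_mem ha hb
    have h2 : IsNilpotent (a - b) := by
      rw [← mem_nilradical, ← Ideal.Quotient.eq]
      exact hab
    exact sub_eq_zero.mp (h1.eq_zero_of_isNilpotent h2)
  · intro y hy
    rw [SetLike.mem_coe, mem_maxWeaklyEtale_iff] at hy
    obtain ⟨a, rfl⟩ := Ideal.Quotient.mk_surjective y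
    obtain ⟨a', ha', h⟩ := exists_isSepElem_lift a hy
    exact ⟨a', mem_maxWeaklyEtale_iff.mpr ha', h⟩
  · intro hconn hnt
    have hsepM : ∀ x : EtAlgD.maxWeaklyEtale K A, IsSepElem K x := fun x =>
      IsSepElem.of_map (EtAlgD.maxWeaklyEtale K A).val Subtype.val_injective
        (mem_maxWeaklyEtale_iff.mp x.2)
    refine ⟨⟨⟨0, 1, ?_⟩, mul_comm, ?_⟩, ⟨fun x => ?_⟩⟩
    · intro h
      exact zero_ne_one (congrArg Subtype.val h)
    · intro x hx
      obtain ⟨y, hy⟩ := exists_eq_sq_mul_of_isSepElem (hsepM x)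
      have hidem : IsIdempotentElem ((x * y : EtAlgD.maxWeaklyEtale K A) : A) := by
        have : (x * y) * (x * y) = x * y := by
          calc (x * y) * (x * y) = (x * x * y) * y := by ring
            _ = x * y := by rw [← hy]
        exact congrArg Subtype.val this
      rcases hconn _ hidem with h0 | h1
      · exfalso
        apply hx
        have : x * y = 0 := Subtype.ext h0
        calc x = x * x * y := hy
          _ = x * (x * y) := by ring
          _ = 0 := by rw [this, mul_zero]
      · exact ⟨y, Subtype.ext h1⟩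
    · obtain ⟨f, hf, hfx⟩ := hsepM x
      exact hf.of_dvd (minpoly.dvd K x hfx)

end Aux

/-- Let K be a field and, for a K-algebra A, let B_max(A) be its largest weakly étale K-subalgebra. (2)
For a K-subalgebra A' ⊆ A one has B_max(A') = B_max(A) ∩ A'. (4) The quotient map A → A_red =
A/nilradical restricts to a bijection B_max(A) → B_max(A_red). (6) If A ≠ 0 and its only idempotents
are 0 and 1, then B_max(A) is a field, algebraic and separable over K. (The published statement
omits A ≠ 0; this row assumes it, since for A = 0 the largest weakly étale subalgebra is the zero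
ring.) -/
theorem result (K : Type u) [Field K] (A : Type u) [CommRing A] [Algebra K A] :
    (∀ A' : Subalgebra K A,
      (EtAlgD.maxWeaklyEtale K A').map A'.val = EtAlgD.maxWeaklyEtale K A ⊓ A') ∧
    (Set.BijOn (Ideal.Quotient.mkₐ K (nilradical A)) (EtAlgD.maxWeaklyEtale K A)
      (EtAlgD.maxWeaklyEtale K (A ⧸ nilradical A))) ∧
    ((∀ e : A, IsIdempotentElem e → e = 0 ∨ e = 1) → Nontrivial A →
      IsField (EtAlgD.maxWeaklyEtale K A) ∧ Algebra.IsSeparable K (EtAlgD.maxWeaklyEtale K A)) := by
  exact Aux.main K A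

end Groth.Agent.S7141
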