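import Groth.Statements.S7146
import Mathlib
import Groth.Agent.Lib.Helper5.Mult.Basic

set_option autoImplicit false
universe u
open Filter
open CAlg

open Helper5.Mult Filter Topology

namespace Groth.Agent.S7146

/-- Let R be a Noetherian local ring of Krull dimension d and I the ideal generated by a system of
parameters g_1, ..., g_d (d elements of the maximal ideal generating an ideal with radical the
maximal ideal); let e_I be the multiplicity of I, i.e. d! times the top coefficient of the numerical
polynomial n ↦ length(R/I^(n+1)), equivalently the limit of d!·length(R/Iⁿ)/n^d. Then e_I ≤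
length(R/I). (Stated for a natural number e equal to that limit.) -/
theorem result (R : Type u) [CommRing R] [IsNoetherianRing R] [IsLocalRing R]
    (d : ℕ) (hd : ringKrullDim R = d) (g : Fin d → R) (hg : ∀ i, g i ∈ IsLocalRing.maximalIdeal R)
    (hsop : IsLocalRing.maximalIdeal R ≤ (Ideal.span (Set.range g)).radical) (e : ℕ)
    (he : Tendsto (fun n : ℕ => (d.factorial : ℝ) * ((Module.length R (R ⧸ Ideal.span (Set.range g) ^ n)).toNat : ℝ) / (n : ℝ) ^ d)
      atTop (nhds (e : ℝ))) :
    (e : ℕ∞) ≤ Module.length R (R ⧸ Ideal.span (Set.range g)) := by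
  by_cases hL : Module.length R (R ⧸ Ideal.span (Set.range g)) = ⊤
  · rw [hL]; exact le_top
  obtain ⟨l, hl⟩ := ENat.ne_top_iff_exists.mp hL
  rw [← hl, Nat.cast_le]
  cases d with
  | zero =>
    have hI0 : Ideal.span (Set.range g) = ⊥ := by
      rw [Set.range_eq_empty, Ideal.span_empty]
    have hev : ∀ᶠ n : ℕ in atTop, ((0 : ℕ).factorial : ℝ) *
        ((Module.length R (R ⧸ Ideal.span (Set.range g) ^ n)).toNat : ℝ) / (n : ℝ) ^ 0 = (l : ℝ) := by
      filter_upwards [eventually_ge_atTop 1] with n hn
      have : Ideal.span (Set.range g) ^ n = Ideal.span (Set.range g) := by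
        rw [hI0]; exact Ideal.bot_pow (R := R) (Nat.pos_iff_ne_zero.mp hn)
      rw [this, ← hl]; simp
    have := tendsto_nhds_unique he (tendsto_const_nhds.congr' (hev.mono fun n h => h.symm))
    exact_mod_cast this.le
  | succ d =>
    have hb : ∀ n, (Module.length R (R ⧸ Ideal.span (Set.range g) ^ n)).toNat ≤
        (n + d).choose (d + 1) * l := by
      intro n
      have h := length_quot_pow_le g n
      rw [← hl] at h
      have : Module.length R (R ⧸ Ideal.span (Set.range g) ^ n) ≤
          (((n + d).choose (d + 1) * l : ℕ) : ℕ∞) := by push_cast; exact h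
      exact ENat.toNat_le_of_le_natCast this
    have hlim : Tendsto (fun n : ℕ => ((d + 1).factorial : ℝ) * ((n + d).choose (d + 1) : ℝ) /
        (n : ℝ) ^ (d + 1) * (l : ℝ)) atTop (nhds (1 * (l : ℝ))) :=
      (tendsto_factorial_mul_choose_div d).mul_const _
    rw [one_mul] at hlim
    have := le_of_tendsto_of_tendsto' he hlim (fun n => ?_)
    · exact_mod_cast this
    · have hb' : ((Module.length R (R ⧸ Ideal.span (Set.range g) ^ n)).toNat : ℝ) ≤
          ((n + d).choose (d + 1) : ℝ) * l := by exact_mod_cast hb n
      rw [div_mul_eq_mul_div, mul_assoc]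
      gcongr

end Groth.Agent.S7146
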