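import Groth.Statements.S7150
import Mathlib
import Groth.Agent.Lib.Helper2.SepMain
-- import your own Groth.Agent.* helpers here

set_option autoImplicit false
universe u
open EtAlg

namespace Groth.Agent.S7150

namespace Aux
open IsLocalRing

theorem part1 (p : ℕ) (hp : p.Prime) (A : Type u) [CommRing A] [IsLocalRing A] [CharP A p]
    (hnil : ∃ n : ℕ, maximalIdeal A ^ n = ⊥) :
    ∃ σ : ResidueField A →+* A, (residue A).comp σ = RingHom.id _ := by
  haveI : Fact p.Prime := ⟨hp⟩
  letI : Algebra (ZMod p) A := ZMod.algebra A p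
  letI : Algebra (ULift.{u} (ZMod p)) A := ULift.algebra' (ZMod p) A
  haveI : Algebra.FormallySmooth (ULift.{u} (ZMod p)) (ResidueField A) :=
    Groth.Agent.Helper2.Sep.formallySmooth_of_perfect p (ULift.{u} (ZMod p)) (ResidueField A)
  obtain ⟨n, hn⟩ := hnil
  have hI : IsNilpotent (maximalIdeal A) := ⟨n, by rw [hn]; rfl⟩
  let g : ResidueField A →ₐ[ULift.{u} (ZMod p)] A ⧸ maximalIdeal A :=
    AlgHom.id (ULift.{u} (ZMod p)) (ResidueField A)
  refine ⟨(Algebra.FormallySmooth.lift (maximalIdeal A) hI g : ResidueField A →+* A), ?_⟩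
  ext x
  exact Algebra.FormallySmooth.mk_lift (maximalIdeal A) hI g x

theorem part2 (A : Type u) [CommRing A] [IsLocalRing A]
    (A' : Type u) [CommRing A'] [IsLocalRing A'] [Algebra A A'] [IsLocalHom (algebraMap A A')]
    (hnil : ∃ n : ℕ, maximalIdeal A' ^ n = ⊥)
    (hgr : Algebra.IsGeometricallyReduced (ResidueField A) (ResidueField A'))
    (σ : ResidueField A →+* A) (hσ : (residue A).comp σ = RingHom.id _) :
    ∃ σ' : ResidueField A' →+* A', (residue A').comp σ' = RingHom.id _ ∧
      σ'.comp (ResidueField.map (algebraMap A A')) = (algebraMap A A').comp σ := by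
  haveI : Algebra.FormallySmooth (ResidueField A) (ResidueField A') :=
    (Groth.Agent.Helper2.Sep.formallySmooth_iff_isGeometricallyReduced _ _).mpr hgr
  obtain ⟨n, hn⟩ := hnil
  have hI : IsNilpotent (maximalIdeal A') := ⟨n, by rw [hn]; rfl⟩
  letI algκA' : Algebra (ResidueField A) A' := ((algebraMap A A').comp σ).toAlgebra
  have hcomm : ∀ x : ResidueField A,
      algebraMap (ResidueField A) (ResidueField A') x =
        algebraMap (ResidueField A) (A' ⧸ maximalIdeal A') x := by
    intro x
    have h1 : residue A (σ x) = x := by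
      have := congrArg (fun f => f x) hσ
      simpa using this
    show _ = Ideal.Quotient.mk (maximalIdeal A') (algebraMap A A' (σ x))
    conv_lhs => rw [← h1]
    rfl
  let g : ResidueField A' →ₐ[ResidueField A] A' ⧸ maximalIdeal A' :=
    { (RingHom.id (ResidueField A')) with
      commutes' := fun x => hcomm x }
  refine ⟨(Algebra.FormallySmooth.lift (maximalIdeal A') hI g : ResidueField A' →+* A'), ?_, ?_⟩
  · ext x
    exact Algebra.FormallySmooth.mk_lift (maximalIdeal A') hI g x
  · ext x
    exact (Algebra.FormallySmooth.lift (maximalIdeal A') hI g).commutes x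

end Aux

/-- Suppose p is a prime with p·1 = 0 in the local ring A and some power of the maximal ideal of A is
zero. Then the residue map A → κ_A has a section σ : κ_A → A that is a ring map. If moreover A → A'
is a local homomorphism to another local ring whose maximal ideal has a vanishing power, and the
residue field extension κ_{A'}/κ_A is separable (possibly transcendental, i.e. geometrically
reduced), then for any such σ there is a section σ' : κ_{A'} → A' compatible with σ. -/
theorem result (p : ℕ) (hp : p.Prime) (A : Type u) [CommRing A]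
    [IsLocalRing A] [CharP A p] (hnil : ∃ n : ℕ, IsLocalRing.maximalIdeal A ^ n = ⊥) :
    (∃ σ : IsLocalRing.ResidueField A →+* A, (IsLocalRing.residue A).comp σ = RingHom.id _) ∧
    ∀ (A' : Type u) [CommRing A'] [IsLocalRing A'] [Algebra A A'] [IsLocalHom (algebraMap A A')],
      (∃ n : ℕ, IsLocalRing.maximalIdeal A' ^ n = ⊥) →
      Algebra.IsGeometricallyReduced (IsLocalRing.ResidueField A) (IsLocalRing.ResidueField A') →
      ∀ σ : IsLocalRing.ResidueField A →+* A, (IsLocalRing.residue A).comp σ = RingHom.id _ →
        ∃ σ' : IsLocalRing.ResidueField A' →+* A', (IsLocalRing.residue A').comp σ' = RingHom.id _ ∧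
          σ'.comp (IsLocalRing.ResidueField.map (algebraMap A A')) = (algebraMap A A').comp σ := by
  exact ⟨Aux.part1 p hp A hnil, fun A' _ _ _ _ hnil' hgr σ hσ => Aux.part2 A A' hnil' hgr σ hσ⟩

end Groth.Agent.S7150
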