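import Groth.Statements.S7159
import Mathlib
import Groth.Prelude.Def_EtRam
import Groth.Agent.Lib.Helper9.EtRam.Dom23
-- import your own Groth.Agent.* helpers here

set_option autoImplicit false
universe u
open EtAlg

namespace Groth.Agent.S7159

namespace Aux
open Polynomial IsLocalRing EtRam Groth.Agent.Helper9.EtRamLib

section Cyc
variable {A : Type u} [CommRing A] [IsDomain A] [CharZero A] {p : ℕ} (hp : p.Prime) {ζ : A}
  (hζ : aeval ζ (cyclotomic p ℤ) = 0)

include hp hζ in
lemma isPrim : IsPrimitiveRoot ζ p := by
  haveI : NeZero ((p : ℕ) : A) := ⟨by exact_mod_cast hp.ne_zero⟩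
  rw [← isRoot_cyclotomic_iff, IsRoot.def, ← map_cyclotomic_int, eval_map, ← algebraMap_int_eq,
    ← aeval_def]
  exact hζ

include hp hζ in
lemma w_ne_zero : (1 - ζ) ≠ 0 := by
  intro h
  have h1 : ζ = 1 := (sub_eq_zero.1 h).symm
  exact (isPrim hp hζ).ne_one hp.one_lt h1

include hp hζ in
lemma p_assoc : Associated ((1 - ζ) ^ (p - 1)) ((p : ℕ) : A) := by
  have hprim := isPrim hp hζ
  obtain ⟨n, rfl⟩ : ∃ n, p = n + 1 := ⟨p - 1, (Nat.succ_pred_eq_of_pos hp.pos).symm⟩
  have h1 := hprim.prod_one_sub_pow_eq_order
  rw [Nat.add_sub_cancel]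
  have h2 : Associated (∏ k ∈ Finset.range n, (1 - ζ)) (∏ k ∈ Finset.range n, (1 - ζ ^ (k + 1))) := by
    apply Associated.prod
    intro k hk
    have hk' : k + 1 < n + 1 := by
      have := Finset.mem_range.1 hk
      omega
    have hcop : (k + 1).Coprime (n + 1) :=
      Nat.coprime_of_lt_prime (Nat.succ_ne_zero k) hk' hp |>.symm
    have := hprim.associated_sub_one_pow_sub_one_of_coprime hcop
    have h3 := this.neg_left.neg_right
    rwa [neg_sub, neg_sub] at h3
  rw [Finset.prod_const, Finset.card_range, h1] at h2
  push_cast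
  exact h2

end Cyc

section PP
variable {A : Type u} [CommRing A] [IsDomain A] {p : ℕ} (hp : p.Prime) {w : A} (hw : w ≠ 0)
  {P : A[X]} (hP : C (w ^ p) * P = (1 + C w * X) ^ p - 1)

include hw in
lemma lin_natDegree : (1 + C w * X : A[X]).natDegree = 1 := by
  have : (1 + C w * X : A[X]) = C w * X + C 1 := by rw [map_one]; ring
  rw [this, natDegree_linear hw]

include hw in
lemma lin_leadingCoeff : (1 + C w * X : A[X]).leadingCoeff = w := by
  have : (1 + C w * X : A[X]) = C w * X + C 1 := by rw [map_one]; ring
  rw [this, leadingCoeff_linear hw]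

include hp hw in
lemma rhs_natDegree : ((1 + C w * X : A[X]) ^ p - 1).natDegree = p := by
  rw [natDegree_sub_eq_left_of_natDegree_lt, natDegree_pow, lin_natDegree hw, mul_one]
  rw [natDegree_pow, lin_natDegree hw, mul_one, natDegree_one]
  exact hp.pos

include hp hw in
lemma rhs_leadingCoeff : ((1 + C w * X : A[X]) ^ p - 1).leadingCoeff = w ^ p := by
  rw [leadingCoeff_sub_of_degree_lt, leadingCoeff_pow, lin_leadingCoeff hw]
  rw [degree_one, ← natDegree_pos_iff_degree_pos, natDegree_pow, lin_natDegree hw, mul_one]
  exact hp.pos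

include hp hw hP in
lemma P_natDegree : P.natDegree = p := by
  have h1 := congrArg natDegree hP
  rwa [natDegree_C_mul (pow_ne_zero p hw), rhs_natDegree hp hw] at h1

include hp hw hP in
lemma P_monic : P.Monic := by
  have h1 := congrArg leadingCoeff hP
  rw [leadingCoeff_mul, leadingCoeff_C, rhs_leadingCoeff hp hw] at h1
  have := mul_left_cancel₀ (pow_ne_zero p hw) (h1.trans (mul_one _).symm)
  exact this

include hp hw hP in
/-- the derivative of `P` when `p = w^(p-1) u` -/
lemma P_deriv {u : A} (hu : ((p : ℕ) : A) = w ^ (p - 1) * u) :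
    derivative P = C u * (1 + C w * X) ^ (p - 1) := by
  have h1 := congrArg derivative hP
  rw [derivative_C_mul, derivative_sub, derivative_one, sub_zero, derivative_pow,
    derivative_add, derivative_one, zero_add, derivative_C_mul, derivative_X, mul_one] at h1
  have hC : (C (w ^ p) : A[X]) ≠ 0 := by
    rw [Ne, C_eq_zero]; exact pow_ne_zero p hw
  apply mul_left_cancel₀ hC
  rw [h1, hu]
  have hpp : p = (p - 1) + 1 := (Nat.succ_pred_eq_of_pos hp.pos).symm
  have : (C (w ^ p) : A[X]) = C (w ^ (p - 1)) * C w := by
    rw [← C_mul, ← pow_succ, ← hpp]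
  rw [this, C_mul]
  ring

end PP

section Sep
variable {A : Type u} [CommRing A] [IsDomain A] [IsDiscreteValuationRing A] [CharZero A]
  {p : ℕ} (hp : p.Prime) [CharP (ResidueField A) p] {ζ : A}
  (hζ : aeval ζ (cyclotomic p ℤ) = 0)
  {P : A[X]} (hP : C ((1 - ζ) ^ p) * P = (1 + C (1 - ζ) * X) ^ p - 1)

lemma residue_p : residue A ((p : ℕ) : A) = 0 := by
  rw [map_natCast]; exact CharP.cast_eq_zero _ p

include hp hζ in
lemma residue_w : residue A (1 - ζ) = 0 := by
  by_contra h
  have hu : IsUnit (1 - ζ) := by
    by_contra h2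
    exact h ((residue_eq_zero_iff _).2 ((mem_maximalIdeal _).2 h2))
  have h1 := p_assoc hp hζ
  have h2 : IsUnit (((p : ℕ) : A)) := (h1.isUnit_iff).1 (hu.pow _)
  have h3 := residue_p (A := A) (p := p)
  rw [residue_eq_zero_iff] at h3
  exact (mem_maximalIdeal _).1 h3 h2

include hp hζ hP in
lemma P_sep (a : A) : ((P - C a).map (residue A)).Separable := by
  obtain ⟨u, hu⟩ := p_assoc hp hζ
  have hd := P_deriv hp (w_ne_zero hp hζ) hP hu.symm
  rw [separable_def]
  have h1 : derivative ((P - C a).map (residue A)) = C (residue A (u : A)) := by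
    rw [derivative_map, derivative_sub, derivative_C, sub_zero, hd]
    simp only [Polynomial.map_mul, Polynomial.map_pow, Polynomial.map_add, Polynomial.map_one,
      map_C, map_X, residue_w hp hζ, map_zero, zero_mul, add_zero, one_pow, mul_one]
  rw [h1]
  have hunit : IsUnit (C (residue A (u : A)) : (ResidueField A)[X]) :=
    (u.isUnit.map (residue A)).map C
  obtain ⟨v, hv⟩ := hunit.exists_left_inv
  exact ⟨0, v, by rw [zero_mul, zero_add, hv]⟩

end Sep
section Kum
variable {K L : Type u} [Field K] [Field L] [Algebra K L] [CharZero K] {p : ℕ} (hp : p.Prime)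
  {η : K} (hη : IsPrimitiveRoot η p) {a : K} {y : L} (hy : y ^ p = algebraMap K L a)
  (hgen : IntermediateField.adjoin K {y} = ⊤)

include hp hy in
lemma y_integral : IsIntegral K y := by
  refine ⟨X ^ p - C a, monic_X_pow_sub_C a hp.ne_zero, ?_⟩
  rw [← aeval_def]
  simp [hy]

include hp hη hy hgen in
lemma kum_splitting : IsSplittingField K L (X ^ p - C a) := by
  constructor
  · rw [Polynomial.map_sub, Polynomial.map_pow, Polynomial.map_C, Polynomial.map_X]
    exact X_pow_sub_C_splits_of_isPrimitiveRoot
      (hη.map_of_injective (algebraMap K L).injective) hy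
  · rw [eq_top_iff, ← IntermediateField.top_toSubalgebra, ← hgen,
      IntermediateField.adjoin_simple_toSubalgebra_of_isAlgebraic (y_integral hp hy).isAlgebraic]
    apply Algebra.adjoin_mono
    rw [Set.singleton_subset_iff, mem_rootSet_of_ne (X_pow_sub_C_ne_zero hp.pos a),
      aeval_def, eval₂_sub, eval₂_X_pow, eval₂_C, hy, sub_self]

include hp hη hy hgen in
lemma kum_fd : FiniteDimensional K L := by
  haveI := kum_splitting hp hη hy hgen
  exact IsSplittingField.finiteDimensional L (X ^ p - C a)

include hp hη hy hgen in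
lemma kum_galois : IsGalois K L := by
  haveI := kum_splitting hp hη hy hgen
  haveI := kum_fd hp hη hy hgen
  haveI : Normal K L := Normal.of_isSplittingField (X ^ p - C a)
  haveI : Algebra.IsSeparable K L := Algebra.IsAlgebraic.isSeparable_of_perfectField
  exact ⟨⟩

include hp hη hy hgen in
lemma kum_deg : Module.finrank K L = 1 ∨ Module.finrank K L = p := by
  haveI := kum_splitting hp hη hy hgen
  by_cases hirr : Irreducible (X ^ p - C a)
  · right
    have hne : (primitiveRoots p K).Nonempty := ⟨η, (mem_primitiveRoots hp.pos).2 hη⟩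
    exact finrank_of_isSplittingField_X_pow_sub_C hne hirr L
  · left
    rw [X_pow_sub_C_irreducible_iff_of_prime hp] at hirr
    push Not at hirr
    obtain ⟨b, hb⟩ := hirr
    have hηL := hη.map_of_injective (algebraMap K L).injective
    -- y is in K
    have hyK : y ∈ (⊥ : IntermediateField K L) := by
      rw [IntermediateField.mem_bot]
      by_cases hb0 : b = 0
      · refine ⟨0, ?_⟩
        rw [hb0, zero_pow hp.ne_zero] at hb
        rw [← hb, map_zero] at hy
        rw [map_zero, (pow_eq_zero_iff hp.ne_zero).1 hy]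
      · have hbL : algebraMap K L b ≠ 0 := by
          rwa [Ne, map_eq_zero]
        have h1 : (y / algebraMap K L b) ^ p = 1 := by
          rw [div_pow, hy, ← hb, map_pow, div_self (pow_ne_zero p hbL)]
        haveI : NeZero p := ⟨hp.ne_zero⟩
        obtain ⟨i, -, hi⟩ := hηL.eq_pow_of_pow_eq_one h1
        refine ⟨η ^ i * b, ?_⟩
        rw [map_mul, map_pow, hi, div_mul_cancel₀ _ hbL]
    have : (⊥ : IntermediateField K L) = ⊤ := by
      rw [eq_top_iff, ← hgen, IntermediateField.adjoin_simple_le_iff]
      exact hyK
    exact IntermediateField.bot_eq_top_iff_finrank_eq_one.1 this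

end Kum

section Main

theorem main (p : ℕ) (hp : p.Prime) (A K L : Type u) [CommRing A] [IsDomain A]
    [IsDiscreteValuationRing A] [Field K] [Algebra A K] [IsFractionRing A K] [Field L] [Algebra K L] [Algebra A L]
    [IsScalarTower A K L] [CharZero K] [CharP (IsLocalRing.ResidueField A) p] (ζ : A)
    (hζ : aeval ζ (cyclotomic p ℤ) = 0) (P : A[X]) (hP : C ((1 - ζ) ^ p) * P = (1 + C (1 - ζ) * X) ^ p - 1) (π : A) (hπ : IsLocalRing.maximalIdeal A = Ideal.span {π})
    (ξ : K) (z : L) (hz : aeval z P = algebraMap K L ξ) (hgen : IntermediateField.adjoin K {z} = ⊤) :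
    let g : A →+* L := algebraMap A L
    let case1 : Prop := Module.finrank K L = 1
    let case2 : Prop := EtRam.IsUnramifiedExt A g ∧ Module.finrank K L = p
    let case3 : Prop := EtRam.IsTotallyRamified A g ∧ Module.finrank K L = p
    let case4 : Prop := (∃ V : ValuationSubring L, EtRam.Dominates A g V) ∧
      (∀ V V' : ValuationSubring L, EtRam.Dominates A g V → EtRam.Dominates A g V' → V = V') ∧
      ∀ (V : ValuationSubring L) (h : EtRam.Dominates A g V),
        letI : Algebra A V := (RingHom.codRestrict g V h.1).toAlgebra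
        ∀ [IsLocalHom (algebraMap A V)],
          EtRam.IsWeaklyUnramified A V ∧
            IsPurelyInseparable (IsLocalRing.ResidueField A) (IsLocalRing.ResidueField V) ∧
            Module.finrank (IsLocalRing.ResidueField A) (IsLocalRing.ResidueField V) = p
    IsGalois K L ∧ (case1 ∨ case2 ∨ case3 ∨ case4) ∧
      ((∃ a : A, algebraMap A K a = ξ) → case1 ∨ case2) ∧
      (∀ (n : ℕ) (a : Aˣ), 0 < n → ¬ p ∣ n → ξ * algebraMap A K π ^ n = algebraMap A K a → case3) ∧
      (∀ (n : ℕ) (a : A), 0 < n → p ∣ n → (∀ r : A, IsLocalRing.residue A a ≠ IsLocalRing.residue A r ^ p) →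
          ξ * algebraMap A K π ^ n = algebraMap A K a → case4) := by
  intro g case1 case2 case3 case4
  haveI : CharZero A := (algebraMap A K).charZero
  have hw := w_ne_zero hp hζ
  have hprim := isPrim hp hζ
  have hη : IsPrimitiveRoot (algebraMap A K ζ) p :=
    hprim.map_of_injective (IsFractionRing.injective A K)
  have hsep := P_sep hp hζ hP
  obtain ⟨w, hwdef⟩ : ∃ w, w = 1 - ζ := ⟨_, rfl⟩
  rw [← hwdef] at hw hP
  have hwK : algebraMap A K w ≠ 0 := by
    rw [Ne, map_eq_zero_iff _ (IsFractionRing.injective A K)]; exact hw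
  have hwL : algebraMap A L w = algebraMap K L (algebraMap A K w) :=
    IsScalarTower.algebraMap_apply A K L _
  have hwL0 : algebraMap A L w ≠ 0 := by
    rw [hwL, Ne, map_eq_zero]; exact hwK
  have hy : (1 + algebraMap A L w * z) ^ p
      = algebraMap K L (1 + (algebraMap A K w) ^ p * ξ) := by
    have h1 := congrArg (aeval z) hP
    simp only [map_mul, aeval_C, map_sub, map_pow, map_add, map_one, aeval_X] at h1
    rw [hz] at h1
    rw [map_add, map_one, map_mul, map_pow, ← hwL]
    linear_combination -h1
  have hgen' : IntermediateField.adjoin K {1 + algebraMap A L w * z} = ⊤ := by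
    rw [eq_top_iff, ← hgen, IntermediateField.adjoin_simple_le_iff]
    have hz_eq : z = ((1 + algebraMap A L w * z) - 1) / algebraMap A L w := by
      field_simp
      ring
    have hmem : ((1 + algebraMap A L w * z) - 1) / algebraMap A L w
        ∈ IntermediateField.adjoin K {1 + algebraMap A L w * z} := by
      apply IntermediateField.div_mem
      · exact sub_mem (IntermediateField.mem_adjoin_simple_self K _) (one_mem _)
      · rw [hwL]; exact IntermediateField.algebraMap_mem _ _
    rwa [← hz_eq] at hmem
  haveI hGal : IsGalois K L := kum_galois hp hη hy hgen'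
  haveI hfd : FiniteDimensional K L := kum_fd hp hη hy hgen'
  have hdeg := kum_deg hp hη hy hgen'
  exact ⟨hGal, Cases.main_cases p hp A K L hdeg π hπ P (P_monic hp hw hP) (P_natDegree hp hw hP)
    hsep ξ z hz hgen⟩

end Main

end Aux

open Polynomial in
/-- Let A be a discrete valuation ring whose fraction field K has characteristic 0 and whose residue
field has characteristic p, and suppose A contains an element ζ with 1 + ζ + ... + ζ^(p-1) = 0 (a
primitive p-th root of unity); set w = 1 - ζ and let P in A[t] be the polynomial with w^p·P(t) = (1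
+ wt)^p - 1. Let ξ be an element of K and let L = K(z) be obtained by adjoining a root z of P(z) =
ξ. Then L/K is a Galois extension, and it falls under one of four cases: (1) L = K; (2) L/K has
degree p and is unramified with respect to A; (3) L/K has degree p and is totally ramified with
respect to A (ramification index p); (4) exactly one valuation ring of L dominates A (so B, the
integral closure of A in L, is itself a discrete valuation ring), the extension A → B is weakly
unramified, and its residue field extension is purely inseparable of degree p. Moreover, with π a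
uniformizer of A: (A) if ξ lies in A, case (1) or (2) holds; (B) if ξ = π⁻ⁿa with n > 0 prime to p
and a a unit of A, case (3) holds; (C) if ξ = π⁻ⁿa with n > 0 divisible by p and the residue class
of a not a p-th power, case (4) holds. -/
theorem result (p : ℕ) (hp : p.Prime) (A K L : Type u) [CommRing A] [IsDomain A]
    [IsDiscreteValuationRing A] [Field K] [Algebra A K] [IsFractionRing A K] [Field L] [Algebra K L] [Algebra A L]
    [IsScalarTower A K L] [CharZero K] [CharP (IsLocalRing.ResidueField A) p] (ζ : A)
    (hζ : aeval ζ (cyclotomic p ℤ) = 0) (P : A[X]) (hP : C ((1 - ζ) ^ p) * P = (1 + C (1 - ζ) * X) ^ p - 1) (π : A) (hπ : IsLocalRing.maximalIdeal A = Ideal.span {π})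
    (ξ : K) (z : L) (hz : aeval z P = algebraMap K L ξ) (hgen : IntermediateField.adjoin K {z} = ⊤) :
    let g : A →+* L := algebraMap A L
    let case1 : Prop := Module.finrank K L = 1
    let case2 : Prop := EtRam.IsUnramifiedExt A g ∧ Module.finrank K L = p
    let case3 : Prop := EtRam.IsTotallyRamified A g ∧ Module.finrank K L = p
    let case4 : Prop := (∃ V : ValuationSubring L, EtRam.Dominates A g V) ∧
      (∀ V V' : ValuationSubring L, EtRam.Dominates A g V → EtRam.Dominates A g V' → V = V') ∧
      ∀ (V : ValuationSubring L) (h : EtRam.Dominates A g V),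
        letI : Algebra A V := (RingHom.codRestrict g V h.1).toAlgebra
        ∀ [IsLocalHom (algebraMap A V)],
          EtRam.IsWeaklyUnramified A V ∧
            IsPurelyInseparable (IsLocalRing.ResidueField A) (IsLocalRing.ResidueField V) ∧
            Module.finrank (IsLocalRing.ResidueField A) (IsLocalRing.ResidueField V) = p
    IsGalois K L ∧ (case1 ∨ case2 ∨ case3 ∨ case4) ∧
      ((∃ a : A, algebraMap A K a = ξ) → case1 ∨ case2) ∧
      (∀ (n : ℕ) (a : Aˣ), 0 < n → ¬ p ∣ n → ξ * algebraMap A K π ^ n = algebraMap A K a → case3) ∧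
      (∀ (n : ℕ) (a : A), 0 < n → p ∣ n → (∀ r : A, IsLocalRing.residue A a ≠ IsLocalRing.residue A r ^ p) →
          ξ * algebraMap A K π ^ n = algebraMap A K a → case4) := by
  exact Aux.main p hp A K L ζ hζ P hP π hπ ξ z hz hgen

end Groth.Agent.S7159
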