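import Groth.Statements.S7175
import Mathlib
import Mathlib
import Groth.Agent.Lib.Helper5.Perf.PerfClImm

set_option autoImplicit false
universe u
attribute [local instance] HasDerivedCategory.standard
open FlatMor



namespace Groth.Agent.S7175

open AlgebraicGeometry CategoryTheory Limits in
/-- For a perfect closed immersion i : Z → X, the O_X-module i_* O_Z is a perfect object of D(O_X). -/
theorem result {Z X : Scheme.{u}} (i : Z ⟶ X) [IsClosedImmersion i]
    (hi : MoreMor.IsPerfectMor i) :
    DCoh.IsPerfect (DCoh.inD X ((Coh.push i).obj (Coh.structureModule Z))) := by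
  exact Groth.Agent.Lib.Helper5.PerfClImm.isPerfect_push_unit i hi

end Groth.Agent.S7175
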