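import Groth.Statements.S7177
import Mathlib
import Groth.Statements.S7177
import Groth.Agent.Lib.Helper5.WEt.Basic
-- import your own Groth.Agent.* helpers here

set_option autoImplicit false
universe u
open FlatMor

namespace Groth.Agent.S7177

open AlgebraicGeometry CategoryTheory Limits
namespace Aux
set_option backward.isDefEq.respectTransparency false
set_option linter.style.haveILetI false

open TensorProduct

/-- flat diagonal of `Spec.map` in terms of `lmul'` -/
lemma flat_diagonal_Spec_iff (A B : Type u) [CommRing A] [CommRing B] [Algebra A B] :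
    Flat (pullback.diagonal (Spec.map (CommRingCat.ofHom (algebraMap A B)))) ↔
      (Algebra.TensorProduct.lmul' A (S := B)).Flat := by
  rw [diagonal_SpecMap, MorphismProperty.cancel_right_of_respectsIso @Flat,
    HasRingHomProperty.Spec_iff (P := @Flat)]
  rfl

lemma flat_diagonal_Spec_iff' {R S : CommRingCat.{u}} (φ : R ⟶ S) :
    Flat (pullback.diagonal (Spec.map φ)) ↔
      (letI := φ.hom.toAlgebra; (Algebra.TensorProduct.lmul' R (S := S)).Flat) := by
  letI := φ.hom.toAlgebra
  exact flat_diagonal_Spec_iff R S

theorem flat_diagonal_stalkMap {X Y : Scheme.{u}} (f : X ⟶ Y) [Flat (pullback.diagonal f)]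
    (x : X) : Flat (pullback.diagonal (Spec.map (f.stalkMap x))) := by
  have hP : (MorphismProperty.diagonal @Flat).HasOfPostcompProperty
      (MorphismProperty.monomorphisms Scheme.{u}) := by
    rw [MorphismProperty.hasOfPostcompProperty_iff_le_diagonal]
    intro X Y g (hg : Mono g)
    show Flat (pullback.diagonal (pullback.diagonal g))
    infer_instance
  have h1 : (MorphismProperty.diagonal @Flat) (X.fromSpecStalk x ≫ f) := by
    apply MorphismProperty.comp_mem
    · show Flat (pullback.diagonal (X.fromSpecStalk x))
      infer_instance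
    · show Flat (pullback.diagonal f)
      infer_instance
  rw [← Scheme.SpecMap_stalkMap_fromSpecStalk] at h1
  exact hP.of_postcomp _ (Y.fromSpecStalk (f x)) (inferInstance : Mono _) h1

theorem main {X Y : Scheme.{u}} (f : X ⟶ Y) [Flat (pullback.diagonal f)] (F : X.Modules)
    (hF : FlatMod.IsFlatOver f F) : FlatMod.IsFlat F := by
  intro x
  have h1 := flat_diagonal_stalkMap f x
  rw [flat_diagonal_Spec_iff'] at h1
  have h2 := hF x
  unfold FlatMod.IsFlatOverAt at h2
  letI := (f.stalkMap x).hom.toAlgebra
  letI := FlatMod.moduleStalkOver f F x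
  haveI : IsScalarTower (Y.presheaf.stalk (f x)) (X.presheaf.stalk x) (F.presheaf.stalk x) :=
    ⟨fun a b n => by
      show ((f.stalkMap x).hom a * b) • n = (f.stalkMap x).hom a • (b • n)
      exact mul_smul _ _ _⟩
  haveI : Module.Flat (Y.presheaf.stalk (f x)) (F.presheaf.stalk x) := h2
  exact Helper5.WEt.flat_of_flat_lmul' (Y.presheaf.stalk (f x)) (X.presheaf.stalk x) h1
    (F.presheaf.stalk x)

end Aux

open AlgebraicGeometry CategoryTheory Limits in
/-- Let f : X → Y have flat diagonal and let F be an O_X-module flat over Y. Then F is flat as an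
O_X-module. -/
theorem result {X Y : Scheme.{u}} (f : X ⟶ Y) [Flat (pullback.diagonal f)] (F : X.Modules)
    (hF : FlatMod.IsFlatOver f F) : FlatMod.IsFlat F := by
  exact Aux.main f F hF

end Groth.Agent.S7177
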