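import Groth.Statements.S7179
import Mathlib
import Groth.Agent.Lib.Helper5.WEt.Scheme

set_option autoImplicit false
universe u
open FlatMor



namespace Groth.Agent.S7179

open AlgebraicGeometry CategoryTheory Limits in
/-- The source of a weakly étale morphism with reduced target is reduced. -/
theorem result {X Y : Scheme.{u}} (f : X ⟶ Y) [WeaklyEtale f] [IsReduced Y] : IsReduced X := by
  exact Helper5.WEt.isReduced_of_weaklyEtale_scheme f

end Groth.Agent.S7179
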