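import Groth.Statements.S7181
import Mathlib
import Groth.Agent.Lib.Helper9.PO.IntChart
import Groth.Agent.Lib.Helper9.PO.Uniq
import Groth.Agent.Lib.Helper9.PO.Joint
-- import your own Groth.Agent.* helpers here

set_option autoImplicit false
universe u
open FlatMor

namespace Groth.Agent.S7181

open AlgebraicGeometry CategoryTheory Limits
namespace Aux

open H9PO

/-- joint surjectivity for an arbitrary pushout -/
lemma jointly_surjective {X Y Z P : Scheme.{u}} {i : Z ⟶ X} {j : Z ⟶ Y} [IsClosedImmersion i]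
    (H : Covers i j) {a : X ⟶ P} {b : Y ⟶ P} (hP : IsPushout i j a b) (w : P) :
    (∃ x, a x = w) ∨ (∃ y, b y = w) := by
  obtain ⟨e, rfl, rfl⟩ := H.exists_iso hP
  have hw : e.hom (e.inv w) = w := congr($(e.inv_hom_id) w)
  rcases H.a_or_b (e.inv w) with ⟨x, hx⟩ | ⟨y, hy⟩
  · left
    refine ⟨x, ?_⟩
    change e.hom (H.a x) = w
    rw [hx, hw]
  · right
    refine ⟨y, ?_⟩
    change e.hom (H.b y) = w
    rw [hy, hw]

theorem main {X Y Z P S : Scheme.{u}} (i : Z ⟶ X) (j : Z ⟶ Y) [IsClosedImmersion i] [IsIntegralHom j]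
    (haff : ∀ y : Y, ∃ U : X.Opens, IsAffineOpen U ∧ j ⁻¹' {y} ⊆ (i ⁻¹ᵁ U : Set ↑Z))
    (a : X ⟶ P) (b : Y ⟶ P) (hP : IsPushout i j a b) (p : X ⟶ S) (q : Y ⟶ S) (r : P ⟶ S)
    (hp : a ≫ r = p) (hq : b ≫ r = q) :
    ((IsSeparated p ∧ IsSeparated q) → IsSeparated r) ∧
      ((QuasiSeparated p ∧ QuasiSeparated q) → QuasiSeparated r) := by
  have H : Covers i j := IntChart.covers i j haff
  obtain ⟨-, hb, ha, hint, -, -, -⟩ := H.structure_of_isPushout hP
  haveI := hb
  haveI := ha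
  haveI : IsIntegralHom a := hint inferInstance
  have hsurj := jointly_surjective H hP
  subst hp hq
  constructor
  · rintro ⟨h1, h2⟩
    exact Joint.isSeparated a b r hsurj
  · rintro ⟨h1, h2⟩
    exact Joint.quasiSeparated a b r hsurj

end Aux

open AlgebraicGeometry CategoryTheory Limits in
/-- In the pushout P = Y ⨿_Z X of a closed immersion i : Z → X and an integral morphism j : Z → Y over a
base S (each fibre of j contained in the preimage of an affine open of X), if X and Y are separated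
(resp. quasi-separated) over S then so is P. -/
theorem result {X Y Z P S : Scheme.{u}} (i : Z ⟶ X) (j : Z ⟶ Y) [IsClosedImmersion i] [IsIntegralHom j]
    (haff : ∀ y : Y, ∃ U : X.Opens, IsAffineOpen U ∧ j ⁻¹' {y} ⊆ (i ⁻¹ᵁ U : Set ↑Z))
    (a : X ⟶ P) (b : Y ⟶ P) (hP : IsPushout i j a b) (p : X ⟶ S) (q : Y ⟶ S) (r : P ⟶ S)
    (hp : a ≫ r = p) (hq : b ≫ r = q) :
    ((IsSeparated p ∧ IsSeparated q) → IsSeparated r) ∧ ((QuasiSeparated p ∧ QuasiSeparated q) → QuasiSeparated r) := by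
  exact Aux.main i j haff a b hP p q r hp hq

end Groth.Agent.S7181
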