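import Groth.Statements.S7196
import Mathlib
import Groth.Agent.Lib.Helper5.WeilAF.Main
import Groth.Agent.Lib.Helper2.FiniteAffine

set_option autoImplicit false
universe u
open CategoryTheory AlgebraicGeometry
open FlatMor



namespace Groth.Agent.S7196

/-- For Z → S finite locally free and X → S separated, locally of finite type and with discrete fibres
(locally quasi-finite), the functor T ↦ {S-morphisms T ×_S Z → X} on S-schemes is represented by
some S-scheme. -/
theorem result {Z X S : Scheme.{u}} (g : Z ⟶ S) (f : X ⟶ S) (hg : Mor2.IsFinLocFree g)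
    [IsSeparated f] [LocallyQuasiFinite f] [LocallyOfFiniteType f] :
    (Flatn.morS g f).IsRepresentable := by
  classical
  apply Groth.Agent.Lib.Helper5.WeilAF.main g f hg
  intro s d x hx
  obtain ⟨U, hU, hsU, -⟩ := exists_isAffineOpen_mem_and_subset (x := s) (U := (⊤ : S.Opens)) trivial
  haveI : IsAffine (U : Scheme.{u}) := hU
  have hmem : ∀ k, x k ∈ f ⁻¹ᵁ U := fun k => by
    change f (x k) ∈ U
    rw [hx k]
    exact hsU
  let T : Finset ↥(f ⁻¹ᵁ U : Scheme.{u}) := Finset.univ.image (fun k => ⟨x k, hmem k⟩)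
  obtain ⟨V', hV', hT⟩ := Groth.Agent.Helper2.FiniteAffine.main (f ∣_ U) T
  refine ⟨(f ⁻¹ᵁ U).ι ''ᵁ V', hV'.image_of_isOpenImmersion _, fun k => ?_⟩
  exact ⟨⟨x k, hmem k⟩, hT _ (Finset.mem_image.2 ⟨k, Finset.mem_univ _, rfl⟩), rfl⟩

end Groth.Agent.S7196
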