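import Groth.Statements.S7199
import Groth.Agent.Lib.Helper3.BertiniIndep

set_option autoImplicit false
universe u
open FlatMor

namespace Groth.Agent.S7199

/-- Take a field k, an integral domain A that is a finitely generated k-algebra, n ≥ 2 and g_1, …, g_n ∈
A, and suppose some irreducible component of the common zero locus of g_1 and g_2 in Spec A has
dimension dim A − 2. Then for suitable c_1, …, c_n ∈ k the n + 2 elements x_1, …, x_n, Σ g_i x_i, Σ
c_i g_i of the rational function field Frac(A)(x_1, …, x_n) form an algebraically independent family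
over k. -/
theorem result {k A : Type u} [Field k] [CommRing A] [IsDomain A] [Algebra k A]
    [Algebra.FiniteType k A] (m : ℕ) (g : Fin (m + 2) → A)
    (p : Ideal A) (hp : p ∈ (Ideal.span {g 0, g 1}).minimalPrimes) (hdim : ringKrullDim (A ⧸ p) + 2 = ringKrullDim A) :
    ∃ c : Fin (m + 2) → k,
      AlgebraicIndependent k
        (Sum.elim
          (fun i : Fin (m + 2) => algebraMap (MvPolynomial (Fin (m + 2)) (FractionRing A)) (FractionRing (MvPolynomial (Fin (m + 2)) (FractionRing A))) (MvPolynomial.X i))
          ![∑ i, algebraMap A (FractionRing (MvPolynomial (Fin (m + 2)) (FractionRing A))) (g i) *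
              algebraMap (MvPolynomial (Fin (m + 2)) (FractionRing A)) (FractionRing (MvPolynomial (Fin (m + 2)) (FractionRing A))) (MvPolynomial.X i),
            algebraMap A (FractionRing (MvPolynomial (Fin (m + 2)) (FractionRing A))) (∑ i, c i • g i)]) := by
  classical
  have hpp : p.IsPrime := hp.1.1
  haveI := hpp
  haveI : IsNoetherianRing A := Algebra.FiniteType.isNoetherianRing k A
  have hht := Groth.Agent.Lib.Helper3.BertiniIndep.not_height_le_one (k := k) p hdim
  obtain ⟨h1, h0⟩ := Groth.Agent.Lib.Helper3.BertiniIndep.transcendental_of_not_height_le_one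
    (k := k) (g 0) (g 1) p hp hht
  obtain ⟨c, hc⟩ : ∃ c : Fin (m + 2) → k, ∑ i, c i • g i = g 1 := by
    refine ⟨Pi.single 1 1, ?_⟩
    rw [Finset.sum_eq_single 1]
    · rw [Pi.single_eq_same, one_smul]
    · intro i _ hi
      rw [Pi.single_eq_of_ne hi, zero_smul]
    · intro h
      exact absurd (Finset.mem_univ _) h
  refine ⟨c, ?_⟩
  rw [hc]
  exact Groth.Agent.Lib.Helper3.BertiniIndep.main g 0 1 h1 h0

end Groth.Agent.S7199
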