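import Groth.Statements.S7212
import Mathlib
import Mathlib
import Groth.Agent.Lib.Helper5.RelPC.SingleMod
import Groth.Agent.Lib.Helper5.RelPC.RelAbsBdd
import Groth.Agent.Lib.Helper5.RelPC.RelPCQC
import Groth.Agent.Lib.Helper5.Perf.PCSingle
import Groth.Agent.Lib.Helper5.Perf.PCBiprod

set_option autoImplicit false
universe u
open CategoryTheory CategoryTheory.Limits AlgebraicGeometry Opposite TopologicalSpace
attribute [local instance] HasDerivedCategory.standard
open FlatMor



namespace Groth.Agent.S7212

/-- Let f : X ⟶ S be locally of finite type and M an O_X-module, viewed in degree 0 of D(O_X); relative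
pseudo-coherence is in chart form. Then (1) M is m-pseudo-coherent relative to f for every integer m
> 0; (2) M is 0-pseudo-coherent relative to f if and only if M is an O_X-module of finite type; (3)
M is (-1)-pseudo-coherent relative to f if and only if M is quasi-coherent and finitely presented
relative to f (on the members of suitable affine open covers of S and of the preimages, the module
of sections is finitely presented over the base ring through a polynomial surjection). -/
theorem result {X S : Scheme.{u}} (f : X ⟶ S)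
    [LocallyOfFiniteType f] (M : X.Modules) :
    (∀ m : ℤ, 0 < m → DerSch.IsPseudoCoherentRel f m (DCoh.inD X M)) ∧
      (DerSch.IsPseudoCoherentRel f 0 (DCoh.inD X M) ↔ CohB1.IsFT M) ∧
      (DerSch.IsPseudoCoherentRel f (-1) (DCoh.inD X M) ↔ (Coh.IsQCoh M ∧ Flatn.IsRelFP f M)) := by
  have hz : ∀ j : ℤ, j ≠ 0 → IsZero (DCoh.HD (DCoh.inD X M) j) := fun j hj =>
    Groth.Agent.Lib.Helper5.PCSingle.isZero_HD_inD M j hj
  refine ⟨fun m hm => ?_, ?_, ?_⟩
  · exact (Groth.Agent.Lib.Helper5.CPAtLib.isPseudoCoherentRel_iff_isPC_of_bdd f (DCoh.inD X M) 0 m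
      (fun j hj => hz j (by omega)) hm.le).2
      (Groth.Agent.Lib.Helper5.PCBiprod.isPC_of_approx_self
        (Groth.Agent.Lib.Helper5.PCBiprod.approx_zero m _ (fun i hi => hz i (by omega))))
  · exact (Groth.Agent.Lib.Helper5.CPAtLib.isPseudoCoherentRel_iff_isPC_of_bdd f (DCoh.inD X M) 0 0
      (fun j hj => hz j (by omega)) le_rfl).trans
      (Groth.Agent.Lib.Helper5.PCSingle.isPseudoCoherentD_single_iff M).1
  · constructor
    · intro H
      have hq : Coh.IsQCoh M := by
        have h0 := Groth.Agent.Lib.Helper5.RelPCQC.isQCoh_HD_of_isPseudoCoherentRel f (-1)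
          (DCoh.inD X M) H 0 (by norm_num)
        exact (SheafOfModules.isQuasicoherent X.ringCatSheaf).prop_of_iso
          (Groth.Agent.Lib.Helper5.PCSingle.hdInDIso M) h0
      haveI : M.IsQuasicoherent := hq
      exact ⟨hq, (Groth.Agent.Lib.Helper5.SingleMod.isPseudoCoherentRel_negOne_inD_iff f M).1 H⟩
    · rintro ⟨hq, H⟩
      haveI : M.IsQuasicoherent := hq
      exact (Groth.Agent.Lib.Helper5.SingleMod.isPseudoCoherentRel_negOne_inD_iff f M).2 H

end Groth.Agent.S7212
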