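import Groth.Statements.S7231
import Mathlib
import Groth.Agent.Lib.Helper5.Thick.Main

set_option autoImplicit false
universe u
open CategoryTheory CategoryTheory.Limits AlgebraicGeometry Opposite TopologicalSpace
attribute [local instance] HasDerivedCategory.standard
open FlatMor



namespace Groth.Agent.S7231

/-- Let i : X ⟶ X' be a finite order thickening (a surjective closed immersion whose ideal sheaf is
nilpotent) and K' an object of D(O_{X'}). If, the derived pullback Li^* being assumed to exist, Li^*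
K' is pseudo-coherent on X (m-pseudo-coherent for every integer m), then K' is pseudo-coherent on
X'. -/
theorem result {X X' : Scheme.{u}} (i : X ⟶ X')
    (hi : MoreMor.IsFiniteOrderThickening i) [DCoh.HasLpull i] (K' : DCoh.D X')
    (hK : ∀ m : ℤ, DCoh.IsPseudoCoherentD m ((DCoh.Lpull i).obj K')) (m : ℤ) :
    DCoh.IsPseudoCoherentD m K' := by
  haveI : IsClosedImmersion i := hi.1.1
  refine Groth.Agent.Lib.Helper5.Thick.isPC_of_lpull i ?_ K' hK m
  intro x'
  obtain ⟨_, ⟨V, hV : IsAffineOpen V, rfl⟩, hxV, -⟩ :=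
    X'.isBasis_affineOpens.exists_subset_of_mem_open (Set.mem_univ x') isOpen_univ
  refine ⟨V, hV, hxV, ?_⟩
  obtain ⟨n, hn⟩ := hi.2
  refine ⟨n, ?_⟩
  have h1 : (i.ker ^ n).ideal ⟨V, hV⟩ = (0 : X'.IdealSheafData).ideal ⟨V, hV⟩ := by rw [hn]
  rw [Scheme.IdealSheafData.ideal_pow, Pi.pow_apply, Scheme.Hom.ker_apply] at h1
  exact h1

end Groth.Agent.S7231
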