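import Groth.Statements.S7232
import Mathlib
import Groth.Agent.Lib.Helper5.Thick.RelPerf

set_option autoImplicit false
universe u
open CategoryTheory CategoryTheory.Limits AlgebraicGeometry Opposite TopologicalSpace
attribute [local instance] HasDerivedCategory.standard
open FlatMor



namespace Groth.Agent.S7232

/-- Consider a cartesian square of schemes with sides f : X ⟶ Y, f' : X' ⟶ Y', i : X ⟶ X' and j : Y ⟶ Y'
(so i ≫ f' = f ≫ j and X = X' ×_{Y'} Y), where f' is flat and locally of finite presentation and j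
is a finite order thickening. Let E' be an object of D(O_{X'}) and assume the derived pullback Li^*
exists. Suppose Li^* E' is perfect relative to Y: it is represented by a cochain complex whose class
is pseudo-coherent and which, locally on X, has finite tor amplitude stalkwise over the local rings
of Y. Then E' is perfect relative to Y': it is pseudo-coherent and, locally on X', every cochain
complex representing it has finite tor amplitude stalkwise over the local rings of Y'. -/
theorem result {X X' Y Y' : Scheme.{u}} (f : X ⟶ Y) (f' : X' ⟶ Y')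
    (i : X ⟶ X') (j : Y ⟶ Y') (sq : IsPullback i f f' j) [Flat f'] [LocallyOfFinitePresentation f']
    (hj : MoreMor.IsFiniteOrderThickening j) [DCoh.HasLpull i] (E' : DCoh.D X')
    (hE : ∃ F : CochainComplex X.Modules ℤ, Nonempty (DCoh.toD X F ≅ (DCoh.Lpull i).obj E') ∧
      (∀ m : ℤ, DCoh.IsPseudoCoherentD m (DCoh.toD X F)) ∧ DerSch.LocFiniteTorAmplitude f F) :
    (∀ m : ℤ, DCoh.IsPseudoCoherentD m E') ∧ DerSch.LocFiniteTorAmplitudeD f' E' := by
  haveI : IsClosedImmersion j := hj.1.1
  obtain ⟨F, ⟨eF⟩, hFpc, hFtor⟩ := hE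
  haveI : Flat f := MorphismProperty.of_isPullback sq inferInstance
  have hjn : ∀ W : Y'.Opens, IsAffineOpen W → IsNilpotent (RingHom.ker (j.app W).hom) := by
    intro W hW
    obtain ⟨n, hn⟩ := hj.2
    refine ⟨n, ?_⟩
    have h1 : (j.ker ^ n).ideal ⟨W, hW⟩ = (0 : Y'.IdealSheafData).ideal ⟨W, hW⟩ := by rw [hn]
    rw [Scheme.IdealSheafData.ideal_pow, Pi.pow_apply, Scheme.Hom.ker_apply] at h1
    exact h1
  have hpc : ∀ m : ℤ, DCoh.IsPseudoCoherentD m ((DCoh.Lpull i).obj E') := fun m =>
    Groth.Agent.Lib.Helper5.PCTri.isPC_of_iso eF (hFpc m)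
  have htor : DCoh.LocHasFiniteRelTorDim f ((DCoh.Lpull i).obj E') :=
    (Groth.Agent.Lib.Helper5.RelTor.locHasFiniteRelTorDim_iff f _ F eF).2 hFtor
  obtain ⟨h1, h2⟩ := Groth.Agent.Lib.Helper5.Thick.relPerfect_of_lpull f f' i j sq hjn E' hpc htor
  exact ⟨h1, fun F' ⟨eF'⟩ =>
    (Groth.Agent.Lib.Helper5.RelTor.locHasFiniteRelTorDim_iff f' E' F' eF').1 h2⟩

end Groth.Agent.S7232
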