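import Groth.Statements.S7234
import Mathlib
import Groth.Agent.Lib.Helper5.RelPC.AffComm2

set_option autoImplicit false
universe u
open CategoryTheory CategoryTheory.Limits AlgebraicGeometry Opposite TopologicalSpace
attribute [local instance] HasDerivedCategory.standard
open FlatMor



namespace Groth.Agent.S7234

/-- (1) ⇔ (3): let f : X ⟶ S be locally of finite type, E an object of D(O_X) all of whose cohomology
sheaves are quasi-coherent, and m an integer. Then E is m-pseudo-coherent relative to f (chart form)
if and only if for every affine open U of X mapping into an affine open V of S the complex RΓ(U, E),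
viewed in D(Γ(X, U)), is m-pseudo-coherent relative to Γ(S, V) in the ring-level sense. Here RΓ(U,
E) is expressed through the equivalence of D(Γ(X, U)) with the quasi-coherent derived category of
the affine scheme U: the condition is asked of every object M of D(Γ(X, U)) whose associated complex
of modules on Spec Γ(X, U) is isomorphic to E|_U carried along U ≅ Spec Γ(X, U) (the functor M ↦ M~
being assumed left exact, which it is). -/
theorem result {X S : Scheme.{u}} (f : X ⟶ S)
    [LocallyOfFiniteType f] [∀ U : X.affineOpens, PreservesFiniteLimits (tilde.functor (X.presheaf.obj (op (U : X.Opens))))]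
    (E : DCoh.D X) (hE : DCoh.IsQCohD E) (m : ℤ) :
    DerSch.IsPseudoCoherentRel f m E ↔
      ∀ (U : X.affineOpens) (V : S.affineOpens) (h : (U : X.Opens) ≤ f ⁻¹ᵁ (V : S.Opens))
        (G : CochainComplex X.Modules ℤ), Nonempty (DCoh.toD X G ≅ E) →
        ∀ M : Dual.D Γ(X, (U : X.Opens)),
          Nonempty ((DCoh.tildeD (X.presheaf.obj (op (U : X.Opens)))).obj M ≅
            DCoh.toD _ ((DerSch.pushCx U.2.isoSpec.hom).obj ((DCoh.restrictCx (U : X.Opens)).obj G))) →
          letI := (f.appLE (V : S.Opens) (U : X.Opens) h).hom.toAlgebra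
          DerCA.IsRelPseudoCoherent Γ(S, (V : S.Opens)) Γ(X, (U : X.Opens)) m M := by
  rw [Groth.Agent.Lib.Helper5.AffComm.isPseudoCoherentRel_iff_relPCAt f E m hE]
  constructor
  · intro H U V h G ⟨eG⟩ M ⟨eM⟩
    obtain ⟨e1⟩ := Groth.Agent.Lib.Helper5.AffComm.nonempty_pushCx_isoSpec_iso G U.2
    exact H U V h M ⟨eM ≪≫ e1 ≪≫ (DCoh.restrictD U.2.fromSpec).mapIso eG⟩
  · intro H U V h M ⟨eM⟩
    let G : CochainComplex X.Modules ℤ := DerivedCategory.Q.objPreimage E
    let eG : DCoh.toD X G ≅ E := DerivedCategory.Q.objObjPreimageIso E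
    obtain ⟨e1⟩ := Groth.Agent.Lib.Helper5.AffComm.nonempty_pushCx_isoSpec_iso G U.2
    exact H U V h G ⟨eG⟩ M ⟨eM ≪≫ (DCoh.restrictD U.2.fromSpec).mapIso eG.symm ≪≫ e1.symm⟩

end Groth.Agent.S7234
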