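import Groth.Statements.S7247
import Mathlib
import Groth.Agent.Lib.Helper5.Hoco.HocoSeq

set_option autoImplicit false
universe u
open CategoryTheory CategoryTheory.Limits AlgebraicGeometry
attribute [local instance] HasDerivedCategory.standard
open Perf



namespace Groth.Agent.S7247

/-- Let X be a quasi-compact and quasi-separated scheme, T ⊆ X a closed subset whose complement is
quasi-compact, and K ∈ D(O_X) supported on T (every cohomology sheaf of K has support contained in
T). Assuming countable direct sums exist in D(O_X) (they do), K is pseudo-coherent if and only if K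
is a homotopy colimit of a sequence of perfect objects Kₙ supported on T whose structure maps Kₙ ⟶ K
induce isomorphisms τ_{≥ -n}Kₙ ⟶ τ_{≥ -n}K for every n. -/
theorem result (X : Scheme.{u}) [CompactSpace ↥X] [QuasiSeparatedSpace ↥X]
    [HasColimitsOfShape (Discrete ℕ) (DCoh.D X)] (T : Set ↥X) (hT : IsClosed T) (hTc : IsCompact Tᶜ)
    (K : DCoh.D X) (hK : ∀ i : ℤ, CohB1.support (DCoh.HD K i) ⊆ T) :
    (∀ m : ℤ, DCoh.IsPseudoCoherentD m K) ↔
    ∃ (E : ℕ → DCoh.D X) (f : ∀ n, E n ⟶ E (n + 1)) (i : ∀ n, E n ⟶ K),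
      (∀ n, DCoh.IsPerfect (E n)) ∧ (∀ (n : ℕ) (j : ℤ), CohB1.support (DCoh.HD (E n) j) ⊆ T) ∧
      DerLim.IsHocolim E f K i ∧
      ∀ n : ℕ, IsIso (((DerivedCategory.TStructure.t : CategoryTheory.Triangulated.TStructure (DCoh.D X)).truncGE (-(n : ℤ))).map (i n)) := by
  classical
  let W : X.Opens := ⟨Tᶜ, hT.isOpen_compl⟩
  constructor
  · intro hpc
    have hKW : Groth.Agent.Lib.Helper5.BvdB.VanishOn K (W : Set X) := by
      intro x hx n
      by_contra hns
      exact hx (hK n hns)
    obtain ⟨E, f, i, hE, hEW, hh, hi⟩ :=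
      Groth.Agent.Lib.Helper5.HocoPerf.exists_hocolim_of_isPC W hTc K hKW hpc
    refine ⟨E, f, i, hE, ?_, hh, hi⟩
    intro n j x hx
    by_contra hxT
    exact hx (hEW n x hxT j)
  · rintro ⟨E, f, i, hE, -, -, hi⟩ m
    exact Groth.Agent.Lib.Helper5.HocoPerf.isPC_of_seq K E i hE hi m

end Groth.Agent.S7247
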