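import Groth.Statements.S7261
import Mathlib
import Groth.Agent.Lib.Helper5.Approx.Sharp

set_option autoImplicit false
universe u
open CategoryTheory CategoryTheory.Limits AlgebraicGeometry
attribute [local instance] HasDerivedCategory.standard
open Perf



namespace Groth.Agent.S7261

/-- Let X be an affine scheme, T = V(f_1, …, f_r) the common zero locus of r global functions, m ∈ ℤ,
and E an m-pseudo-coherent object of D(O_X) with quasi-coherent cohomology sheaves such that Hⁱ(E)
is supported on T for i ≥ m - r + 1. Then approximation holds for (T, E, m): there are a perfect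
object P of D(O_X) supported on T and a morphism α : P ⟶ E inducing isomorphisms Hⁱ(P) ⟶ Hⁱ(E) for i
> m and an epimorphism Hᵐ(P) ⟶ Hᵐ(E). (The published hypothesis asks that X ∖ T be a union of r
affine opens; the published proof begins by writing T as the zero locus of r functions, and this row
takes that as the hypothesis.) -/
theorem result (X : Scheme.{u}) [IsAffine X] (fs : Finset Γ(X, ⊤))
    (m : ℤ) (E : DCoh.D X) (hq : DCoh.IsQCohD E) (hpc : DCoh.IsPseudoCoherentD m E)
    (hsupp : ∀ i : ℤ, m - (fs.card : ℤ) + 1 ≤ i → CohB1.support (DCoh.HD E i) ⊆ X.zeroLocus (U := ⊤) (↑fs : Set Γ(X, ⊤))) :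
    ∃ (P : DCoh.D X) (α : P ⟶ E), DCoh.IsPerfect P ∧
      (∀ i : ℤ, CohB1.support (DCoh.HD P i) ⊆ X.zeroLocus (U := ⊤) (↑fs : Set Γ(X, ⊤))) ∧
      (∀ i : ℤ, m < i → IsIso ((DerivedCategory.homologyFunctor X.Modules i).map α)) ∧
      Epi ((DerivedCategory.homologyFunctor X.Modules m).map α) := by
  classical
  have hv : Groth.Agent.Lib.Helper5.Approx.VanishGE (m - fs.card + 1) E
      (X.zeroLocus (U := ⊤) (↑fs : Set Γ(X, ⊤)))ᶜ :=
    Groth.Agent.Lib.Helper5.Approx.vanishGE_of_support _ _ E hsupp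
  have h := Groth.Agent.Lib.Helper5.Approx.approx_affine_sharp X fs m E hq hpc hv
  let W : X.Opens := ⟨(X.zeroLocus (U := ⊤) (↑fs : Set Γ(X, ⊤)))ᶜ,
    (X.zeroLocus_isClosed _).isOpen_compl⟩
  obtain ⟨P, α, hP, hPW, happ⟩ :=
    Groth.Agent.Lib.Helper5.Approx.ApproxOn.exists_map (W := W) h
  exact ⟨P, α, hP, fun i =>
    Groth.Agent.Lib.Helper5.Approx.support_subset_of_vanishOn _ P hPW i, happ.1, happ.2⟩

end Groth.Agent.S7261
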