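import Groth.Statements.S7265
import Mathlib
import Groth.Agent.Lib.Helper5.Approx.Sharp

set_option autoImplicit false
universe u
open CategoryTheory CategoryTheory.Limits AlgebraicGeometry
attribute [local instance] HasDerivedCategory.standard
open Perf



namespace Groth.Agent.S7265

/-- Let X be a scheme, U ⊆ X an open subscheme, T ⊆ U a subset closed in X, E ∈ D(O_X) with
quasi-coherent cohomology sheaves and m ∈ ℤ. If approximation holds for (T, E|_U, m) on U (there are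
a perfect P ∈ D(O_U) supported on T and P ⟶ E|_U inducing isomorphisms on Hⁱ for i > m and a
surjection on Hᵐ) and the sheaves Hⁱ(E), i ≥ m, are supported on T, then approximation holds for (T,
E, m) on X. -/
theorem result {X : Scheme.{u}} (U : X.Opens) (T : Set ↥X) (hT : IsClosed T)
    (hTU : T ⊆ (U : Set ↥X)) (E : DCoh.D X) (hE : DCoh.IsQCohD E) (m : ℤ)
    (happ : ∃ (P : DCoh.D (U : Scheme.{u})) (α : P ⟶ (DCoh.restrictD U.ι).obj E), DCoh.IsPerfect P ∧
      (∀ i : ℤ, CohB1.support (DCoh.HD P i) ⊆ {v : ↥(U : Scheme.{u}) | U.ι.base v ∈ T}) ∧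
      (∀ i : ℤ, m < i → IsIso ((DerivedCategory.homologyFunctor _ i).map α)) ∧
      Epi ((DerivedCategory.homologyFunctor _ m).map α))
    (hsupp : ∀ i : ℤ, m ≤ i → CohB1.support (DCoh.HD E i) ⊆ T) :
    ∃ (P : DCoh.D X) (α : P ⟶ E), DCoh.IsPerfect P ∧ (∀ i : ℤ, CohB1.support (DCoh.HD P i) ⊆ T) ∧
      (∀ i : ℤ, m < i → IsIso ((DerivedCategory.homologyFunctor X.Modules i).map α)) ∧
      Epi ((DerivedCategory.homologyFunctor X.Modules m).map α) := by
  classical
  obtain ⟨P, α, hP, hPT, hiso, hepi⟩ := happ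
  let W : X.Opens := ⟨Tᶜ, hT.isOpen_compl⟩
  have hcov : ∀ x : X, x ∈ U ∨ x ∈ W := by
    intro x
    by_cases hx : x ∈ T
    · exact Or.inl (hTU hx)
    · exact Or.inr hx
  have hv : Groth.Agent.Lib.Helper5.Approx.VanishGE m E (W : Set X) :=
    Groth.Agent.Lib.Helper5.Approx.vanishGE_of_support T m E hsupp
  have hPW : Groth.Agent.Lib.Helper5.BvdB.VanishOn P
      ((U.ι ⁻¹ᵁ W : (U : Scheme.{u}).Opens) : Set ↥(U : Scheme.{u})) :=
    Groth.Agent.Lib.Helper5.Approx.vanishOn_of_support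
      {v : ↥(U : Scheme.{u}) | U.ι.base v ∈ T} P hPT
  have h1 : Groth.Agent.Lib.Helper5.Approx.ApproxOn
      ((U.ι ⁻¹ᵁ W : (U : Scheme.{u}).Opens) : Set ↥(U : Scheme.{u})) m
      ((DCoh.restrictD U.ι).obj E) :=
    Groth.Agent.Lib.Helper5.Approx.ApproxOn.of_map α hP hPW ⟨hiso, hepi⟩
  have h2 := Groth.Agent.Lib.Helper5.Approx.approxOn_of_restrict U W hcov m E hv h1
  obtain ⟨Q, β, hQ, hQW, hβ⟩ := Groth.Agent.Lib.Helper5.Approx.ApproxOn.exists_map h2
  exact ⟨Q, β, hQ, fun i =>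
    Groth.Agent.Lib.Helper5.Approx.support_subset_of_vanishOn T Q hQW i, hβ.1, hβ.2⟩

end Groth.Agent.S7265
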