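import Groth.Statements.S7284
import Mathlib
import Groth.Statements.S7284
import Groth.Agent.Lib.Helper9.FE.ProEtW8
-- import your own Groth.Agent.* helpers here

set_option autoImplicit false
open CategoryTheory CategoryTheory.Limits AlgebraicGeometry Opposite
universe u
open ProEtS

namespace Groth.Agent.S7284

open CategoryTheory CategoryTheory.Limits AlgebraicGeometry Opposite
namespace Aux
set_option backward.isDefEq.respectTransparency false in
theorem main (S : Scheme.{u}) :
    GrothendieckTopology.HasEnoughPoints.{u + 1} (Scheme.ProEt.topology S) :=
  H9FE.ProEtW.main7284 S
end Aux

/-- For every scheme S the small pro-etale site of S has enough points, that is, it admits a small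
conservative family of points (fibre functors valued one universe up, the universe in which
pro-etale sheaves are valued). -/
theorem result (S : Scheme.{u}) :
    GrothendieckTopology.HasEnoughPoints.{u + 1} (Scheme.ProEt.topology S) := by
  exact Aux.main S

end Groth.Agent.S7284
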