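import Groth.Statements.S7295
import Mathlib
import Groth.Agent.Lib.Helper5.Misc.ShriekMap
import Groth.Agent.Lib.Helper5.Misc.LanFlat

set_option autoImplicit false
open CategoryTheory CategoryTheory.Limits AlgebraicGeometry Opposite
universe u
open ProEtS

open Groth.Agent.Lib.Helper5.Misc

namespace Groth.Agent.S7295

theorem ab5 : AB5OfSize.{u, u + 1} AddCommGrpCat.{u + 1} :=
  AB5OfSize_shrink.{u, u + 1, u + 1, u + 1} AddCommGrpCat.{u + 1}

theorem lexF (T : Scheme.{u}) :
    PreservesFiniteLimits ((Scheme.ProEt.forget T).sheafPullback AddCommGrpCat.{u + 1}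
      (Scheme.ProEt.topology T) (Scheme.proetaleTopology.over T)) := by
  have := ab5.{u}
  exact LanFlat.preservesFiniteLimits_sheafPullback (Scheme.ProEt.forget T)
    AddCommGrpCat.{u + 1} _ _

theorem lexG {T S : Scheme.{u}} (f : T ⟶ S) :
    PreservesFiniteLimits ((Over.map f).sheafPullback AddCommGrpCat.{u + 1}
      (Scheme.proetaleTopology.over T) (Scheme.proetaleTopology.over S)) := by
  have : HasCoproducts.{u} AddCommGrpCat.{u + 1} := hasCoproducts_shrink.{u, u + 1}
  have : AB4OfSize.{u} AddCommGrpCat.{u + 1} := AB4OfSize_shrink.{u, u + 1} AddCommGrpCat.{u + 1}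
  exact ShriekMap.preservesFiniteLimits_sheafPullback f AddCommGrpCat.{u + 1}
    Scheme.proetaleTopology

theorem injF (T : Scheme.{u}) (I : Sheaf (Scheme.proetaleTopology.over T) AddCommGrpCat.{u + 1})
    [Injective I] :
    Injective (((Scheme.ProEt.forget T).sheafPushforwardContinuous AddCommGrpCat.{u + 1}
      (Scheme.ProEt.topology T) (Scheme.proetaleTopology.over T)).obj I) := by
  have := lexF T
  exact Injective.injective_of_adjoint
    ((Scheme.ProEt.forget T).sheafAdjunctionContinuous AddCommGrpCat.{u + 1}
      (Scheme.ProEt.topology T) (Scheme.proetaleTopology.over T)) I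

theorem injG {T S : Scheme.{u}} (f : T ⟶ S)
    (I : Sheaf (Scheme.proetaleTopology.over S) AddCommGrpCat.{u + 1}) [Injective I] :
    Injective (((Over.map f).sheafPushforwardContinuous AddCommGrpCat.{u + 1}
      (Scheme.proetaleTopology.over T) (Scheme.proetaleTopology.over S)).obj I) := by
  have := lexG f
  exact Injective.injective_of_adjoint
    ((Over.map f).sheafAdjunctionContinuous AddCommGrpCat.{u + 1}
      (Scheme.proetaleTopology.over T) (Scheme.proetaleTopology.over S)) I

end Groth.Agent.S7295

namespace Groth.Agent.S7295

/-- Let f : T → S be a morphism of schemes and I an injective object of the category of abelian sheaves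
on the big pro-etale site of S (the category of schemes over S with the pro-etale topology). Then
the restriction of I to the small pro-etale site of T, along the functor sending a scheme V weakly
etale over T to the S-scheme V → T → S, is injective. The case where T = S and f is the identity is
the restriction to the small pro-etale site of S itself. (Continuity of the restriction functor is
carried as a binder.) -/
theorem result {T S : Scheme.{u}} (f : T ⟶ S)
    [(Scheme.ProEt.forget T ⋙ Over.map f).IsContinuous (Scheme.ProEt.topology T)
      (Scheme.proetaleTopology.over S)]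
    (I : Sheaf (Scheme.proetaleTopology.over S) AddCommGrpCat.{u + 1}) [Injective I] :
    Injective (((Scheme.ProEt.forget T ⋙ Over.map f).sheafPushforwardContinuous AddCommGrpCat.{u + 1}
      (Scheme.ProEt.topology T) (Scheme.proetaleTopology.over S)).obj I) := by
  have h1 := injG f I
  have h2 := injF T (((Over.map f).sheafPushforwardContinuous AddCommGrpCat.{u + 1}
      (Scheme.proetaleTopology.over T) (Scheme.proetaleTopology.over S)).obj I)
  exact h2

end Groth.Agent.S7295
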