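import Groth.Statements.S7296
import Mathlib
import Groth.Statements.S7296
import Groth.Agent.Lib.Helper5.Misc.RDExact
-- import your own Groth.Agent.* helpers here

set_option autoImplicit false
open CategoryTheory CategoryTheory.Limits AlgebraicGeometry Opposite
universe u
open ProEtS

namespace Groth.Agent.S7296

open CategoryTheory CategoryTheory.Limits AlgebraicGeometry Opposite
namespace Aux

set_option backward.isDefEq.respectTransparency false
set_option linter.style.haveILetI false

variable (S : Scheme.{u})

set_option backward.isDefEq.respectTransparency.types false in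
lemma topology_eq_restrictedTopology : Scheme.ProEt.topology S =
    (Scheme.ProEt.forget S).restrictedTopology (Scheme.proetaleTopology.over S) :=
  MorphismProperty.toGrothendieck_comap_forget_eq_restrictedTopology _
    Scheme.proetalePrecoverage_le_precoverage_weaklyEtale

instance isCocontinuous_forget : (Scheme.ProEt.forget S).IsCocontinuous (Scheme.ProEt.topology S)
    (Scheme.proetaleTopology.over S) := by
  rw [topology_eq_restrictedTopology]
  infer_instance

/-- the adjunction between restriction and the right Kan extension -/
noncomputable abbrev ranAdj :=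
  (Scheme.ProEt.forget S).sheafAdjunctionCocontinuous AddCommGrpCat.{u + 1}
    (Scheme.ProEt.topology S) (Scheme.proetaleTopology.over S)

noncomputable abbrev lanAdj :=
  (Scheme.ProEt.forget S).sheafAdjunctionContinuous AddCommGrpCat.{u + 1}
    (Scheme.ProEt.topology S) (Scheme.proetaleTopology.over S)

theorem isIso_counit_ran : IsIso (ranAdj S).counit := by
  refine @NatIso.isIso_of_isIso_app _ _ _ _ _ _ _ (fun F => ?_)
  have h := Functor.sheafAdjunctionCocontinuous_counit_app_hom (Scheme.ProEt.forget S)
    AddCommGrpCat.{u + 1} (Scheme.ProEt.topology S) (Scheme.proetaleTopology.over S) F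
  haveI : IsIso (((ranAdj S).counit.app F).hom) := by
    rw [h]; infer_instance
  haveI : IsIso ((sheafToPresheaf _ _).map ((ranAdj S).counit.app F)) :=
    (inferInstance : IsIso (((ranAdj S).counit.app F).hom))
  exact isIso_of_reflects_iso _ (sheafToPresheaf _ _)

theorem isIso_unit_lan : IsIso (lanAdj S).unit :=
  (Adjunction.Triple.mk (lanAdj S) (ranAdj S)).isIso_unit_iff_isIso_counit.2 (isIso_counit_ran S)

theorem main
    [((Scheme.ProEt.forget S).sheafPushforwardContinuous AddCommGrpCat.{u + 1} (Scheme.ProEt.topology S)
      (Scheme.proetaleTopology.over S)).Additive]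
    [HasInjectiveResolutions (Sheaf (Scheme.proetaleTopology.over S) AddCommGrpCat.{u + 1})]
    (F : ProEtS.AbP S) :
    IsIso (((Scheme.ProEt.forget S).sheafAdjunctionContinuous AddCommGrpCat.{u + 1}
      (Scheme.ProEt.topology S) (Scheme.proetaleTopology.over S)).unit.app F) ∧
    ∀ q : ℕ, 0 < q →
      IsZero ((((Scheme.ProEt.forget S).sheafPushforwardContinuous AddCommGrpCat.{u + 1}
        (Scheme.ProEt.topology S) (Scheme.proetaleTopology.over S)).rightDerived q).obj
        (((Scheme.ProEt.forget S).sheafPullback AddCommGrpCat.{u + 1} (Scheme.ProEt.topology S)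
          (Scheme.proetaleTopology.over S)).obj F)) := by
  haveI := isIso_unit_lan S
  refine ⟨inferInstance, ?_⟩
  intro q hq
  obtain ⟨n, rfl⟩ : ∃ n, q = n + 1 := ⟨q - 1, by omega⟩
  haveI : PreservesLimitsOfSize.{0, 0} ((Scheme.ProEt.forget S).sheafPushforwardContinuous
      AddCommGrpCat.{u + 1} (Scheme.ProEt.topology S) (Scheme.proetaleTopology.over S)) :=
    (lanAdj S).rightAdjoint_preservesLimits
  haveI : PreservesColimitsOfSize.{0, 0} ((Scheme.ProEt.forget S).sheafPushforwardContinuous
      AddCommGrpCat.{u + 1} (Scheme.ProEt.topology S) (Scheme.proetaleTopology.over S)) :=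
    (ranAdj S).leftAdjoint_preservesColimits
  exact Groth.Agent.Lib.Helper5.Misc.RDExact.isZero_rightDerived_succ _ _ n

end Aux

/-- For an abelian sheaf F on the small pro-etale site of a scheme S: write u for the inclusion of the
small pro-etale site into the big pro-etale site of S (schemes over S with the pro-etale topology),
u_s for pullback of abelian sheaves along u (left adjoint to the restriction u^s). Then the unit F →
u^s u_s F is an isomorphism and R^q u^s (u_s F) = 0 for every q > 0; together these say that F → R
u^s (u_s F) is an isomorphism. (Additivity of the restriction functor and the existence of injective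
resolutions for abelian sheaves on the big pro-etale site, both of which hold, are recorded as
instance hypotheses.) -/
theorem result (S : Scheme.{u})
    [((Scheme.ProEt.forget S).sheafPushforwardContinuous AddCommGrpCat.{u + 1} (Scheme.ProEt.topology S)
      (Scheme.proetaleTopology.over S)).Additive]
    [HasInjectiveResolutions (Sheaf (Scheme.proetaleTopology.over S) AddCommGrpCat.{u + 1})]
    (F : ProEtS.AbP S) :
    IsIso (((Scheme.ProEt.forget S).sheafAdjunctionContinuous AddCommGrpCat.{u + 1}
      (Scheme.ProEt.topology S) (Scheme.proetaleTopology.over S)).unit.app F) ∧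
    ∀ q : ℕ, 0 < q →
      IsZero ((((Scheme.ProEt.forget S).sheafPushforwardContinuous AddCommGrpCat.{u + 1}
        (Scheme.ProEt.topology S) (Scheme.proetaleTopology.over S)).rightDerived q).obj
        (((Scheme.ProEt.forget S).sheafPullback AddCommGrpCat.{u + 1} (Scheme.ProEt.topology S)
          (Scheme.proetaleTopology.over S)).obj F)) := by
  exact Aux.main S F

end Groth.Agent.S7296
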