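import Groth.Statements.S7318
import Mathlib.Combinatorics.SimpleGraph.Acyclic
import Mathlib.Tactic

set_option autoImplicit false
open Finset
open Models Models.NumericalType

namespace Groth.Agent.S7318

/-- For a numerical type T on n indices with e pairs i < j such that a_ij > 0, the topological genus 1 -
n + e is ≥ 0. -/
theorem result {n : ℕ} (T : Models.NumericalType n) : 0 ≤ T.topGenus := by
  classical
  -- the dual graph
  let G : SimpleGraph (Fin n) :=
    { Adj := fun i j => i ≠ j ∧ T.a i j ≠ 0
      symm := ⟨by
        intro i j h
        refine ⟨h.1.symm, ?_⟩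
        have := T.symm.apply i j
        rw [this]; exact h.2⟩
      loopless := ⟨fun i h => h.1 rfl⟩ }
  have hne : Nonempty (Fin n) := ⟨⟨0, T.pos⟩⟩
  have hconn : G.Connected := by
    rw [SimpleGraph.connected_iff]
    refine ⟨?_, hne⟩
    intro u v
    -- reachable set from u
    let I : Finset (Fin n) := Finset.univ.filter fun x => G.Reachable u x
    have hI : I = Finset.univ := by
      by_contra hIne
      have hInon : I.Nonempty := ⟨u, by simp [I]⟩
      obtain ⟨i, hi, j, hj, hij⟩ := T.connected I hInon hIne
      have hi' : G.Reachable u i := by simpa [I] using hi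
      apply hj
      have hne' : i ≠ j := by
        intro e; rw [e] at hi; exact hj hi
      have hadj : G.Adj i j := ⟨hne', hij⟩
      have : G.Reachable u j := hi'.trans hadj.reachable
      simpa [I] using this
    have : v ∈ I := by rw [hI]; exact Finset.mem_univ v
    simpa [I] using this
  have hcard := hconn.card_vert_le_card_edgeSet_add_one
  rw [Nat.card_eq_fintype_card, Fintype.card_fin, Nat.card_eq_fintype_card,
    ← SimpleGraph.edgeFinset_card] at hcard
  -- edges inject into ordered pairs
  have hle : G.edgeFinset.card ≤ T.edgeCount := by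
    unfold NumericalType.edgeCount
    apply Finset.card_le_card_of_surjOn (fun p : Fin n × Fin n => s(p.1, p.2))
    intro e he
    rw [Finset.mem_coe, SimpleGraph.mem_edgeFinset] at he
    induction e using Sym2.ind with
    | _ i j =>
      rw [SimpleGraph.mem_edgeSet] at he
      obtain ⟨hij, haij⟩ := he
      rcases lt_or_gt_of_ne hij with h | h
      · refine ⟨(i, j), ?_, rfl⟩
        simp only [Finset.coe_filter, Finset.mem_univ, true_and, Set.mem_ofPred_eq]
        exact ⟨h, lt_of_le_of_ne (T.offDiag_nonneg i j hij) (Ne.symm haij)⟩
      · refine ⟨(j, i), ?_, Sym2.eq_swap⟩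
        simp only [Finset.coe_filter, Finset.mem_univ, true_and, Set.mem_ofPred_eq]
        have hs := T.symm.apply i j
        refine ⟨h, lt_of_le_of_ne (T.offDiag_nonneg j i hij.symm) ?_⟩
        rw [hs]; exact Ne.symm haij
  unfold NumericalType.topGenus
  have : (n : ℤ) ≤ (T.edgeCount : ℤ) + 1 := by exact_mod_cast le_trans hcard (Nat.add_le_add_right hle 1)
  linarith

end Groth.Agent.S7318
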