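import Groth.Statements.S7342
import Groth.Agent.Lib.Helper6.NumType7

set_option autoImplicit false
open Finset
open Models Models.NumericalType

namespace Groth.Agent.S7342

/-- Let T be a numerical type on n indices, t ≥ 4 and n > t + 2. Then no t + 2 (-2)-indices of T,
pairwise distinct and numbered i_0, …, i_{t+1}, satisfy: a_{i_j i_{j+1}} > 0 for 1 ≤ j ≤ t - 1,
a_{i_0 i_2} > 0 and a_{i_{t-1} i_{t+1}} > 0. -/
theorem result {n : ℕ} (T : Models.NumericalType n) (t : ℕ) (ht : 4 ≤ t) (hn : t + 2 < n)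
    (v : Fin (t + 2) ↪ Fin n) (hv : ∀ j, T.IsMinusTwo (v j))
    (hchain : ∀ j j' : Fin (t + 2), 1 ≤ j.val → j.val + 1 ≤ t → j'.val = j.val + 1 → 0 < T.a (v j) (v j'))
    (h02 : ∀ j j' : Fin (t + 2), j.val = 0 → j'.val = 2 → 0 < T.a (v j) (v j'))
    (hlast : ∀ j j' : Fin (t + 2), j.val = t - 1 → j'.val = t + 1 → 0 < T.a (v j) (v j')) : False := by
  let C := Groth.Agent.Helper6.Cfg.ofNT T v hn hv
  have hchain' : ∀ j j' : Fin (t + 2), 1 ≤ j.val → j.val + 1 ≤ t → j'.val = j.val + 1 →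
      0 < C.A j j' := hchain
  have h02' : ∀ j j' : Fin (t + 2), j.val = 0 → j'.val = 2 → 0 < C.A j j' := h02
  have hlast' : ∀ j j' : Fin (t + 2), j.val = t - 1 → j'.val = t + 1 → 0 < C.A j j' := hlast
  clear_value C
  let c : Fin (t + 2) → ℤ := fun j =>
    if j.val = 0 ∨ j.val = 1 ∨ j.val = t ∨ j.val = t + 1 then 1 else 2
  have hc1 : ∀ j : Fin (t + 2), (j.val = 0 ∨ j.val = 1 ∨ j.val = t ∨ j.val = t + 1) → c j = 1 :=
    fun j h => if_pos h
  have hc2 : ∀ j : Fin (t + 2), ¬ (j.val = 0 ∨ j.val = 1 ∨ j.val = t ∨ j.val = t + 1) → c j = 2 :=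
    fun j h => if_neg h
  have hc0 : ∀ p, 0 ≤ c p := fun p => by
    by_cases h : (p.val = 0 ∨ p.val = 1 ∨ p.val = t ∨ p.val = t + 1)
    · rw [hc1 p h]; norm_num
    · rw [hc2 p h]; norm_num
  obtain ⟨p, hp, hlt⟩ := C.vinberg c hc0 ⟨0, by rw [hc1 0 (Or.inl rfl)]; norm_num⟩
  have hW := C.W_pos p
  have hd := C.diag p
  have hpv := p.isLt
  have mkne : ∀ q : Fin (t + 2), q.val ≠ p.val → q ≠ p := fun q h e => h (congrArg Fin.val e)
  have mkne' : ∀ q r : Fin (t + 2), q.val ≠ r.val → q ≠ r := fun q r h e => h (congrArg Fin.val e)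
  rcases (show p.val = 0 ∨ p.val = 1 ∨ p.val = 2 ∨ (3 ≤ p.val ∧ p.val + 2 ≤ t) ∨ p.val + 1 = t ∨
      p.val = t ∨ p.val = t + 1 by omega) with h | h | h | h | h | h | h
  · -- p = 0
    have hq2 : 2 < t + 2 := by omega
    have hpos : 0 < C.A p ⟨2, hq2⟩ := h02' p ⟨2, hq2⟩ h rfl
    have hle := C.le_of_pos p _ hpos
    have hrow := C.rowsum_ge1 c hc0 p ⟨2, hq2⟩ (mkne _ (by simp only; omega))
    rw [hc1 p (Or.inl h), hc2 ⟨2, hq2⟩ (by simp only; omega), hd] at hrow
    linarith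
  · -- p = 1
    have hq2 : 2 < t + 2 := by omega
    have hpos : 0 < C.A p ⟨2, hq2⟩ := hchain' p ⟨2, hq2⟩ (by omega) (by omega) (by simp only; omega)
    have hle := C.le_of_pos p _ hpos
    have hrow := C.rowsum_ge1 c hc0 p ⟨2, hq2⟩ (mkne _ (by simp only; omega))
    rw [hc1 p (Or.inr (Or.inl h)), hc2 ⟨2, hq2⟩ (by simp only; omega), hd] at hrow
    linarith
  · -- p = 2
    have hq0 : 0 < t + 2 := by omega
    have hq1 : 1 < t + 2 := by omega
    have hq3 : 3 < t + 2 := by omega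
    have hpos0 : 0 < C.A p ⟨0, hq0⟩ := by
      rw [C.symm]; exact h02' ⟨0, hq0⟩ p rfl h
    have hpos1 : 0 < C.A p ⟨1, hq1⟩ := by
      rw [C.symm]; exact hchain' ⟨1, hq1⟩ p (by simp only; omega) (by simp only; omega) (by simp only; omega)
    have hpos3 : 0 < C.A p ⟨3, hq3⟩ :=
      hchain' p ⟨3, hq3⟩ (by omega) (by omega) (by simp only; omega)
    have hle0 := C.le_of_pos p _ hpos0
    have hle1 := C.le_of_pos p _ hpos1
    have hle3 := C.le_of_pos p _ hpos3
    have hrow := C.rowsum_ge3 c hc0 p ⟨0, hq0⟩ ⟨1, hq1⟩ ⟨3, hq3⟩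
      (mkne _ (by simp only; omega)) (mkne _ (by simp only; omega)) (mkne _ (by simp only; omega))
      (mkne' _ _ (by simp only; omega)) (mkne' _ _ (by simp only; omega)) (mkne' _ _ (by simp only; omega))
    rw [hc2 p (by omega), hc1 ⟨0, hq0⟩ (Or.inl rfl), hc1 ⟨1, hq1⟩ (Or.inr (Or.inl rfl)),
      hc2 ⟨3, hq3⟩ (by simp only; omega), hd] at hrow
    linarith
  · -- 3 ≤ p ≤ t - 2
    have hql : p.val - 1 < t + 2 := by omega
    have hqr : p.val + 1 < t + 2 := by omega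
    have hposl : 0 < C.A p ⟨p.val - 1, hql⟩ := by
      rw [C.symm]; exact hchain' ⟨p.val - 1, hql⟩ p (by simp only; omega) (by simp only; omega) (by simp only; omega)
    have hposr : 0 < C.A p ⟨p.val + 1, hqr⟩ :=
      hchain' p ⟨p.val + 1, hqr⟩ (by omega) (by omega) rfl
    have hlel := C.le_of_pos p _ hposl
    have hler := C.le_of_pos p _ hposr
    have hrow := C.rowsum_ge2 c hc0 p ⟨p.val - 1, hql⟩ ⟨p.val + 1, hqr⟩
      (mkne _ (by simp only; omega)) (mkne _ (by simp only; omega)) (mkne' _ _ (by simp only; omega))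
    rw [hc2 p (by omega), hc2 ⟨p.val - 1, hql⟩ (by simp only; omega),
      hc2 ⟨p.val + 1, hqr⟩ (by simp only; omega), hd] at hrow
    linarith
  · -- p = t - 1
    have hql : p.val - 1 < t + 2 := by omega
    have hqt : t < t + 2 := by omega
    have hqu : t + 1 < t + 2 := by omega
    have hposl : 0 < C.A p ⟨p.val - 1, hql⟩ := by
      rw [C.symm]; exact hchain' ⟨p.val - 1, hql⟩ p (by simp only; omega) (by simp only; omega) (by simp only; omega)
    have hpost : 0 < C.A p ⟨t, hqt⟩ :=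
      hchain' p ⟨t, hqt⟩ (by omega) (by omega) (by simp only; omega)
    have hposu : 0 < C.A p ⟨t + 1, hqu⟩ :=
      hlast' p ⟨t + 1, hqu⟩ (by omega) rfl
    have hlel := C.le_of_pos p _ hposl
    have hlet := C.le_of_pos p _ hpost
    have hleu := C.le_of_pos p _ hposu
    have hrow := C.rowsum_ge3 c hc0 p ⟨p.val - 1, hql⟩ ⟨t, hqt⟩ ⟨t + 1, hqu⟩
      (mkne _ (by simp only; omega)) (mkne _ (by simp only; omega)) (mkne _ (by simp only; omega))
      (mkne' _ _ (by simp only; omega)) (mkne' _ _ (by simp only; omega)) (mkne' _ _ (by simp only; omega))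
    rw [hc2 p (by omega), hc2 ⟨p.val - 1, hql⟩ (by simp only; omega),
      hc1 ⟨t, hqt⟩ (Or.inr (Or.inr (Or.inl rfl))), hc1 ⟨t + 1, hqu⟩ (Or.inr (Or.inr (Or.inr rfl))), hd] at hrow
    linarith
  · -- p = t
    have hql : t - 1 < t + 2 := by omega
    have hposl : 0 < C.A p ⟨t - 1, hql⟩ := by
      rw [C.symm]; exact hchain' ⟨t - 1, hql⟩ p (by simp only; omega) (by simp only; omega) (by simp only; omega)
    have hlel := C.le_of_pos p _ hposl
    have hrow := C.rowsum_ge1 c hc0 p ⟨t - 1, hql⟩ (mkne _ (by simp only; omega))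
    rw [hc1 p (Or.inr (Or.inr (Or.inl h))), hc2 ⟨t - 1, hql⟩ (by simp only; omega), hd] at hrow
    linarith
  · -- p = t + 1
    have hql : t - 1 < t + 2 := by omega
    have hposl : 0 < C.A p ⟨t - 1, hql⟩ := by
      rw [C.symm]; exact hlast' ⟨t - 1, hql⟩ p rfl h
    have hlel := C.le_of_pos p _ hposl
    have hrow := C.rowsum_ge1 c hc0 p ⟨t - 1, hql⟩ (mkne _ (by simp only; omega))
    rw [hc1 p (Or.inr (Or.inr (Or.inr h))), hc2 ⟨t - 1, hql⟩ (by simp only; omega), hd] at hrow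
    linarith

end Groth.Agent.S7342
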