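import Groth.Statements.S7344
import Groth.Agent.Lib.Helper6.NumType3

set_option autoImplicit false
open Finset
open Models Models.NumericalType

namespace Groth.Agent.S7344

/-- Let T be a numerical type on n > 8 indices. Then no eight (-2)-indices of T, pairwise distinct and
named e, f, g, h, i, j, k, l, have a_ef, a_fg, a_gh, a_hi, a_ij, a_jk and a_lh all nonzero (a chain
of seven, e to k, with l joined to its fourth vertex h). -/
theorem result {n : ℕ} (T : Models.NumericalType n) (hn : 8 < n)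
    (v : Fin 8 ↪ Fin n) (hv : ∀ j, T.IsMinusTwo (v j))
    (h01 : T.a (v 0) (v 1) ≠ 0) (h12 : T.a (v 1) (v 2) ≠ 0) (h23 : T.a (v 2) (v 3) ≠ 0)
    (h34 : T.a (v 3) (v 4) ≠ 0) (h45 : T.a (v 4) (v 5) ≠ 0) (h56 : T.a (v 5) (v 6) ≠ 0)
    (h73 : T.a (v 7) (v 3) ≠ 0) : False := by
  let C := Groth.Agent.Helper6.Cfg.ofNT T v (by omega) hv
  have p01 : 0 < C.A 0 1 := C.pos_of_ne 0 1 (by decide) h01
  have p12 : 0 < C.A 1 2 := C.pos_of_ne 1 2 (by decide) h12
  have p23 : 0 < C.A 2 3 := C.pos_of_ne 2 3 (by decide) h23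
  have p34 : 0 < C.A 3 4 := C.pos_of_ne 3 4 (by decide) h34
  have p45 : 0 < C.A 4 5 := C.pos_of_ne 4 5 (by decide) h45
  have p56 : 0 < C.A 5 6 := C.pos_of_ne 5 6 (by decide) h56
  have p37 : 0 < C.A 3 7 := C.pos_of_ne 3 7 (by decide) (by rw [C.symm]; exact h73)
  have key := C.negdef8 1 2 3 4 3 2 1 2 (by decide)
  linarith [C.le_of_pos 0 1 p01, C.le_of_pos' 0 1 p01, C.le_of_pos 1 2 p12, C.le_of_pos' 1 2 p12, C.le_of_pos 2 3 p23, C.le_of_pos' 2 3 p23, C.le_of_pos 3 4 p34, C.le_of_pos' 3 4 p34, C.le_of_pos 4 5 p45, C.le_of_pos' 4 5 p45, C.le_of_pos 5 6 p56, C.le_of_pos' 5 6 p56, C.le_of_pos 3 7 p37, C.le_of_pos' 3 7 p37, C.nonneg 0 2 (by decide), C.nonneg 0 3 (by decide), C.nonneg 0 4 (by decide), C.nonneg 0 5 (by decide), C.nonneg 0 6 (by decide), C.nonneg 0 7 (by decide), C.nonneg 1 3 (by decide), C.nonneg 1 4 (by decide), C.nonneg 1 5 (by decide), C.nonneg 1 6 (by decide), C.nonneg 1 7 (by decide), C.nonneg 2 4 (by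 decide), C.nonneg 2 5 (by decide), C.nonneg 2 6 (by decide), C.nonneg 2 7 (by decide), C.nonneg 3 5 (by decide), C.nonneg 3 6 (by decide), C.nonneg 4 6 (by decide), C.nonneg 4 7 (by decide), C.nonneg 5 7 (by decide), C.nonneg 6 7 (by decide)]

end Groth.Agent.S7344
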