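import Groth.Statements.S7346
import Groth.Agent.Lib.Helper6.NumType3

set_option autoImplicit false
open Finset
open Models Models.NumericalType

namespace Groth.Agent.S7346

/-- Classification of proper subgraphs of type D4 (one vertex joined to three others): let T be a
numerical type on n > 4 indices and i_1, …, i_4 distinct (-2)-indices with a_{12}, a_{13}, a_{14}
nonzero. Then for some integer w all w_{i_j} equal w, these intersection numbers equal w, all other
a_{i_j i_k} (j ≠ k) vanish, and 2 m_1 ≥ m_2 + m_3 + m_4, 2 m_2 ≥ m_1, 2 m_3 ≥ m_1, 2 m_4 ≥ m_1. -/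
theorem result {n : ℕ} (T : Models.NumericalType n) (hn : 4 < n)
    (v : Fin 4 ↪ Fin n) (hv : ∀ j, T.IsMinusTwo (v j)) (h01 : T.a (v 0) (v 1) ≠ 0) (h02 : T.a (v 0) (v 2) ≠ 0) (h03 : T.a (v 0) (v 3) ≠ 0) :
    ∃ w : ℤ, (∀ j : Fin 4, T.w (v j) = w) ∧
      T.a (v 0) (v 1) = w ∧
      T.a (v 0) (v 2) = w ∧
      T.a (v 0) (v 3) = w ∧
      T.a (v 1) (v 2) = 0 ∧
      T.a (v 1) (v 3) = 0 ∧
      T.a (v 2) (v 3) = 0 ∧
      T.m (v 1) + T.m (v 2) + T.m (v 3) ≤ 2 * T.m (v 0) ∧
      T.m (v 0) ≤ 2 * T.m (v 1) ∧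
      T.m (v 0) ≤ 2 * T.m (v 2) ∧
      T.m (v 0) ≤ 2 * T.m (v 3) := by
  let C := Groth.Agent.Helper6.Cfg.ofNT T v (by omega) hv
  have p01 : 0 < C.A 0 1 := C.pos_of_ne 0 1 (by decide) h01
  have l01 := C.le_of_pos 0 1 p01
  have l01' := C.le_of_pos' 0 1 p01
  have p02 : 0 < C.A 0 2 := C.pos_of_ne 0 2 (by decide) h02
  have l02 := C.le_of_pos 0 2 p02
  have l02' := C.le_of_pos' 0 2 p02
  have p03 : 0 < C.A 0 3 := C.pos_of_ne 0 3 (by decide) h03
  have l03 := C.le_of_pos 0 3 p03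
  have l03' := C.le_of_pos' 0 3 p03
  have n12 := C.nonneg 1 2 (by decide)
  have n13 := C.nonneg 1 3 (by decide)
  have n23 := C.nonneg 2 3 (by decide)
  have w0 := C.W_pos 0
  have w1 := C.W_pos 1
  have w2 := C.W_pos 2
  have w3 := C.W_pos 3
  have d01 : C.A 0 1 = C.W 0 := by
    rcases Groth.Agent.Helper6.Cfg.eq_or_two_le w0 p01 (C.dvd 0 1) with h | h
    · exact h
    · exfalso
      have key := C.negdef4 2 1 1 1 (by decide)
      linarith
  have d10 : C.A 0 1 = C.W 1 := by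
    rcases Groth.Agent.Helper6.Cfg.eq_or_two_le w1 p01 (C.dvd' 0 1) with h | h
    · exact h
    · exfalso
      have key := C.negdef4 2 2 1 1 (by decide)
      linarith
  have d02 : C.A 0 2 = C.W 0 := by
    rcases Groth.Agent.Helper6.Cfg.eq_or_two_le w0 p02 (C.dvd 0 2) with h | h
    · exact h
    · exfalso
      have key := C.negdef4 2 1 1 1 (by decide)
      linarith
  have d20 : C.A 0 2 = C.W 2 := by
    rcases Groth.Agent.Helper6.Cfg.eq_or_two_le w2 p02 (C.dvd' 0 2) with h | h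
    · exact h
    · exfalso
      have key := C.negdef4 2 1 2 1 (by decide)
      linarith
  have d03 : C.A 0 3 = C.W 0 := by
    rcases Groth.Agent.Helper6.Cfg.eq_or_two_le w0 p03 (C.dvd 0 3) with h | h
    · exact h
    · exfalso
      have key := C.negdef4 2 1 1 1 (by decide)
      linarith
  have d30 : C.A 0 3 = C.W 3 := by
    rcases Groth.Agent.Helper6.Cfg.eq_or_two_le w3 p03 (C.dvd' 0 3) with h | h
    · exact h
    · exfalso
      have key := C.negdef4 2 1 1 2 (by decide)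
      linarith
  have hW1 : C.W 1 = C.W 0 := by linarith
  have hW2 : C.W 2 = C.W 0 := by linarith
  have hW3 : C.W 3 = C.W 0 := by linarith
  have e01 : C.A 0 1 = C.W 0 := by linarith
  have e02 : C.A 0 2 = C.W 0 := by linarith
  have e03 : C.A 0 3 = C.W 0 := by linarith
  have key1 := C.negdef4 1 1 1 1 (by decide)
  have z12 : C.A 1 2 = 0 := by
    rcases Groth.Agent.Helper6.Cfg.eq_zero_or_le w1 n12 (C.dvd 1 2) with h | h
    · exact h
    · exfalso; linarith
  have z13 : C.A 1 3 = 0 := by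
    rcases Groth.Agent.Helper6.Cfg.eq_zero_or_le w1 n13 (C.dvd 1 3) with h | h
    · exact h
    · exfalso; linarith
  have z23 : C.A 2 3 = 0 := by
    rcases Groth.Agent.Helper6.Cfg.eq_zero_or_le w2 n23 (C.dvd 2 3) with h | h
    · exact h
    · exfalso; linarith
  have r0 := C.row4_0
  simp only [e01, e02, e03, z12, z13, z23, hW1, hW2, hW3] at r0
  have m0 : C.M 1 + C.M 2 + C.M 3 ≤ 2 * C.M 0 := by
    apply Groth.Agent.Helper6.Cfg.cancel_pos w0; linarith
  have r1 := C.row4_1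
  simp only [e01, e02, e03, z12, z13, z23, hW1, hW2, hW3] at r1
  have m1 : C.M 0 ≤ 2 * C.M 1 := by
    apply Groth.Agent.Helper6.Cfg.cancel_pos w0; linarith
  have r2 := C.row4_2
  simp only [e01, e02, e03, z12, z13, z23, hW1, hW2, hW3] at r2
  have m2 : C.M 0 ≤ 2 * C.M 2 := by
    apply Groth.Agent.Helper6.Cfg.cancel_pos w0; linarith
  have r3 := C.row4_3
  simp only [e01, e02, e03, z12, z13, z23, hW1, hW2, hW3] at r3
  have m3 : C.M 0 ≤ 2 * C.M 3 := by
    apply Groth.Agent.Helper6.Cfg.cancel_pos w0; linarith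
  refine ⟨C.W 0, ?_, e01, e02, e03, z12, z13, z23, m0, m1, m2, m3⟩
  intro j
  fin_cases j
  exacts [rfl, hW1, hW2, hW3]

end Groth.Agent.S7346
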