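import Groth.Statements.S7347
import Groth.Agent.Lib.Helper6.NumType3

set_option autoImplicit false
open Finset
open Models Models.NumericalType

namespace Groth.Agent.S7347

/-- Classification of proper subgraphs of type D5 (a chain i_1 i_2 i_3 with i_4 and i_5 both joined to
i_3): let T be a numerical type on n > 5 indices and i_1, …, i_5 distinct (-2)-indices with a_{12},
a_{23}, a_{34}, a_{35} nonzero. Then for some integer w all w_{i_j} equal w, these intersection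
numbers equal w, all other a_{i_j i_k} (j ≠ k) vanish, and 2 m_1 ≥ m_2, 2 m_2 ≥ m_1 + m_3, 2 m_3 ≥
m_2 + m_4 + m_5, 2 m_4 ≥ m_3, 2 m_5 ≥ m_3. -/
theorem result {n : ℕ} (T : Models.NumericalType n) (hn : 5 < n)
    (v : Fin 5 ↪ Fin n) (hv : ∀ j, T.IsMinusTwo (v j)) (h01 : T.a (v 0) (v 1) ≠ 0) (h12 : T.a (v 1) (v 2) ≠ 0) (h23 : T.a (v 2) (v 3) ≠ 0) (h24 : T.a (v 2) (v 4) ≠ 0) :
    ∃ w : ℤ, (∀ j : Fin 5, T.w (v j) = w) ∧
      T.a (v 0) (v 1) = w ∧
      T.a (v 1) (v 2) = w ∧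
      T.a (v 2) (v 3) = w ∧
      T.a (v 2) (v 4) = w ∧
      T.a (v 0) (v 2) = 0 ∧
      T.a (v 0) (v 3) = 0 ∧
      T.a (v 0) (v 4) = 0 ∧
      T.a (v 1) (v 3) = 0 ∧
      T.a (v 1) (v 4) = 0 ∧
      T.a (v 3) (v 4) = 0 ∧
      T.m (v 1) ≤ 2 * T.m (v 0) ∧
      T.m (v 0) + T.m (v 2) ≤ 2 * T.m (v 1) ∧
      T.m (v 1) + T.m (v 3) + T.m (v 4) ≤ 2 * T.m (v 2) ∧
      T.m (v 2) ≤ 2 * T.m (v 3) ∧
      T.m (v 2) ≤ 2 * T.m (v 4) := by
  let C := Groth.Agent.Helper6.Cfg.ofNT T v (by omega) hv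
  have p01 : 0 < C.A 0 1 := C.pos_of_ne 0 1 (by decide) h01
  have l01 := C.le_of_pos 0 1 p01
  have l01' := C.le_of_pos' 0 1 p01
  have p12 : 0 < C.A 1 2 := C.pos_of_ne 1 2 (by decide) h12
  have l12 := C.le_of_pos 1 2 p12
  have l12' := C.le_of_pos' 1 2 p12
  have p23 : 0 < C.A 2 3 := C.pos_of_ne 2 3 (by decide) h23
  have l23 := C.le_of_pos 2 3 p23
  have l23' := C.le_of_pos' 2 3 p23
  have p24 : 0 < C.A 2 4 := C.pos_of_ne 2 4 (by decide) h24
  have l24 := C.le_of_pos 2 4 p24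
  have l24' := C.le_of_pos' 2 4 p24
  have n02 := C.nonneg 0 2 (by decide)
  have n03 := C.nonneg 0 3 (by decide)
  have n04 := C.nonneg 0 4 (by decide)
  have n13 := C.nonneg 1 3 (by decide)
  have n14 := C.nonneg 1 4 (by decide)
  have n34 := C.nonneg 3 4 (by decide)
  have w0 := C.W_pos 0
  have w1 := C.W_pos 1
  have w2 := C.W_pos 2
  have w3 := C.W_pos 3
  have w4 := C.W_pos 4
  have d01 : C.A 0 1 = C.W 0 := by
    rcases Groth.Agent.Helper6.Cfg.eq_or_two_le w0 p01 (C.dvd 0 1) with h | h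
    · exact h
    · exfalso
      have key := C.negdef5 2 2 2 1 1 (by decide)
      linarith
  have d10 : C.A 0 1 = C.W 1 := by
    rcases Groth.Agent.Helper6.Cfg.eq_or_two_le w1 p01 (C.dvd' 0 1) with h | h
    · exact h
    · exfalso
      have key := C.negdef5 1 2 2 1 1 (by decide)
      linarith
  have d12 : C.A 1 2 = C.W 1 := by
    rcases Groth.Agent.Helper6.Cfg.eq_or_two_le w1 p12 (C.dvd 1 2) with h | h
    · exact h
    · exfalso
      have key := C.negdef5 0 2 2 1 1 (by decide)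
      linarith
  have d21 : C.A 1 2 = C.W 2 := by
    rcases Groth.Agent.Helper6.Cfg.eq_or_two_le w2 p12 (C.dvd' 1 2) with h | h
    · exact h
    · exfalso
      have key := C.negdef5 0 1 2 1 1 (by decide)
      linarith
  have d23 : C.A 2 3 = C.W 2 := by
    rcases Groth.Agent.Helper6.Cfg.eq_or_two_le w2 p23 (C.dvd 2 3) with h | h
    · exact h
    · exfalso
      have key := C.negdef5 0 1 2 1 1 (by decide)
      linarith
  have d32 : C.A 2 3 = C.W 3 := by
    rcases Groth.Agent.Helper6.Cfg.eq_or_two_le w3 p23 (C.dvd' 2 3) with h | h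
    · exact h
    · exfalso
      have key := C.negdef5 0 1 2 2 1 (by decide)
      linarith
  have d24 : C.A 2 4 = C.W 2 := by
    rcases Groth.Agent.Helper6.Cfg.eq_or_two_le w2 p24 (C.dvd 2 4) with h | h
    · exact h
    · exfalso
      have key := C.negdef5 0 1 2 1 1 (by decide)
      linarith
  have d42 : C.A 2 4 = C.W 4 := by
    rcases Groth.Agent.Helper6.Cfg.eq_or_two_le w4 p24 (C.dvd' 2 4) with h | h
    · exact h
    · exfalso
      have key := C.negdef5 0 1 2 1 2 (by decide)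
      linarith
  have hW1 : C.W 1 = C.W 0 := by linarith
  have hW2 : C.W 2 = C.W 0 := by linarith
  have hW3 : C.W 3 = C.W 0 := by linarith
  have hW4 : C.W 4 = C.W 0 := by linarith
  have e01 : C.A 0 1 = C.W 0 := by linarith
  have e12 : C.A 1 2 = C.W 0 := by linarith
  have e23 : C.A 2 3 = C.W 0 := by linarith
  have e24 : C.A 2 4 = C.W 0 := by linarith
  have key1 := C.negdef5 1 1 1 1 1 (by decide)
  have z02 : C.A 0 2 = 0 := by
    rcases Groth.Agent.Helper6.Cfg.eq_zero_or_le w0 n02 (C.dvd 0 2) with h | h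
    · exact h
    · exfalso; linarith
  have z03 : C.A 0 3 = 0 := by
    rcases Groth.Agent.Helper6.Cfg.eq_zero_or_le w0 n03 (C.dvd 0 3) with h | h
    · exact h
    · exfalso; linarith
  have z04 : C.A 0 4 = 0 := by
    rcases Groth.Agent.Helper6.Cfg.eq_zero_or_le w0 n04 (C.dvd 0 4) with h | h
    · exact h
    · exfalso; linarith
  have z13 : C.A 1 3 = 0 := by
    rcases Groth.Agent.Helper6.Cfg.eq_zero_or_le w1 n13 (C.dvd 1 3) with h | h
    · exact h
    · exfalso; linarith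
  have z14 : C.A 1 4 = 0 := by
    rcases Groth.Agent.Helper6.Cfg.eq_zero_or_le w1 n14 (C.dvd 1 4) with h | h
    · exact h
    · exfalso; linarith
  have z34 : C.A 3 4 = 0 := by
    rcases Groth.Agent.Helper6.Cfg.eq_zero_or_le w3 n34 (C.dvd 3 4) with h | h
    · exact h
    · exfalso; linarith
  have r0 := C.row5_0
  simp only [e01, e12, e23, e24, z02, z03, z04, z13, z14, z34, hW1, hW2, hW3, hW4] at r0
  have m0 : C.M 1 ≤ 2 * C.M 0 := by
    apply Groth.Agent.Helper6.Cfg.cancel_pos w0; linarith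
  have r1 := C.row5_1
  simp only [e01, e12, e23, e24, z02, z03, z04, z13, z14, z34, hW1, hW2, hW3, hW4] at r1
  have m1 : C.M 0 + C.M 2 ≤ 2 * C.M 1 := by
    apply Groth.Agent.Helper6.Cfg.cancel_pos w0; linarith
  have r2 := C.row5_2
  simp only [e01, e12, e23, e24, z02, z03, z04, z13, z14, z34, hW1, hW2, hW3, hW4] at r2
  have m2 : C.M 1 + C.M 3 + C.M 4 ≤ 2 * C.M 2 := by
    apply Groth.Agent.Helper6.Cfg.cancel_pos w0; linarith
  have r3 := C.row5_3
  simp only [e01, e12, e23, e24, z02, z03, z04, z13, z14, z34, hW1, hW2, hW3, hW4] at r3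
  have m3 : C.M 2 ≤ 2 * C.M 3 := by
    apply Groth.Agent.Helper6.Cfg.cancel_pos w0; linarith
  have r4 := C.row5_4
  simp only [e01, e12, e23, e24, z02, z03, z04, z13, z14, z34, hW1, hW2, hW3, hW4] at r4
  have m4 : C.M 2 ≤ 2 * C.M 4 := by
    apply Groth.Agent.Helper6.Cfg.cancel_pos w0; linarith
  refine ⟨C.W 0, ?_, e01, e12, e23, e24, z02, z03, z04, z13, z14, z34, m0, m1, m2, m3, m4⟩
  intro j
  fin_cases j
  exacts [rfl, hW1, hW2, hW3, hW4]

end Groth.Agent.S7347
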