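import Groth.Statements.S7348
import Groth.Agent.Lib.Helper6.NumType3

set_option autoImplicit false
open Finset
open Models Models.NumericalType

namespace Groth.Agent.S7348

/-- Classification of proper subgraphs of type E6 (a chain i_1 … i_5 with i_6 joined to i_3): let T be a
numerical type on n > 6 indices and i_1, …, i_6 distinct (-2)-indices with a_{12}, a_{23}, a_{34},
a_{45}, a_{36} nonzero. Then for some integer w all w_{i_j} equal w, these intersection numbers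
equal w, all other a_{i_j i_k} (j ≠ k) vanish, and 2 m_1 ≥ m_2, 2 m_2 ≥ m_1 + m_3, 2 m_3 ≥ m_2 + m_4
+ m_6, 2 m_4 ≥ m_3 + m_5, 2 m_5 ≥ m_4, 2 m_6 ≥ m_3. (The published list of inequalities has 2 m_5 ≥
m_3 where the intersection matrix gives 2 m_5 ≥ m_4; the former fails for the extended E8
configuration of multiplicities 4, 5, 6, 4, 2 with 3 attached to the third vertex, so 2 m_5 ≥ m_4 is
stated.) -/
theorem result {n : ℕ} (T : Models.NumericalType n) (hn : 6 < n)
    (v : Fin 6 ↪ Fin n) (hv : ∀ j, T.IsMinusTwo (v j)) (h01 : T.a (v 0) (v 1) ≠ 0) (h12 : T.a (v 1) (v 2) ≠ 0) (h23 : T.a (v 2) (v 3) ≠ 0) (h34 : T.a (v 3) (v 4) ≠ 0) (h25 : T.a (v 2) (v 5) ≠ 0) :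
    ∃ w : ℤ, (∀ j : Fin 6, T.w (v j) = w) ∧
      T.a (v 0) (v 1) = w ∧
      T.a (v 1) (v 2) = w ∧
      T.a (v 2) (v 3) = w ∧
      T.a (v 3) (v 4) = w ∧
      T.a (v 2) (v 5) = w ∧
      T.a (v 0) (v 2) = 0 ∧
      T.a (v 0) (v 3) = 0 ∧
      T.a (v 0) (v 4) = 0 ∧
      T.a (v 0) (v 5) = 0 ∧
      T.a (v 1) (v 3) = 0 ∧
      T.a (v 1) (v 4) = 0 ∧
      T.a (v 1) (v 5) = 0 ∧
      T.a (v 2) (v 4) = 0 ∧
      T.a (v 3) (v 5) = 0 ∧
      T.a (v 4) (v 5) = 0 ∧
      T.m (v 1) ≤ 2 * T.m (v 0) ∧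
      T.m (v 0) + T.m (v 2) ≤ 2 * T.m (v 1) ∧
      T.m (v 1) + T.m (v 3) + T.m (v 5) ≤ 2 * T.m (v 2) ∧
      T.m (v 2) + T.m (v 4) ≤ 2 * T.m (v 3) ∧
      T.m (v 3) ≤ 2 * T.m (v 4) ∧
      T.m (v 2) ≤ 2 * T.m (v 5) := by
  let C := Groth.Agent.Helper6.Cfg.ofNT T v (by omega) hv
  have p01 : 0 < C.A 0 1 := C.pos_of_ne 0 1 (by decide) h01
  have l01 := C.le_of_pos 0 1 p01
  have l01' := C.le_of_pos' 0 1 p01
  have p12 : 0 < C.A 1 2 := C.pos_of_ne 1 2 (by decide) h12
  have l12 := C.le_of_pos 1 2 p12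
  have l12' := C.le_of_pos' 1 2 p12
  have p23 : 0 < C.A 2 3 := C.pos_of_ne 2 3 (by decide) h23
  have l23 := C.le_of_pos 2 3 p23
  have l23' := C.le_of_pos' 2 3 p23
  have p34 : 0 < C.A 3 4 := C.pos_of_ne 3 4 (by decide) h34
  have l34 := C.le_of_pos 3 4 p34
  have l34' := C.le_of_pos' 3 4 p34
  have p25 : 0 < C.A 2 5 := C.pos_of_ne 2 5 (by decide) h25
  have l25 := C.le_of_pos 2 5 p25
  have l25' := C.le_of_pos' 2 5 p25
  have n02 := C.nonneg 0 2 (by decide)
  have n03 := C.nonneg 0 3 (by decide)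
  have n04 := C.nonneg 0 4 (by decide)
  have n05 := C.nonneg 0 5 (by decide)
  have n13 := C.nonneg 1 3 (by decide)
  have n14 := C.nonneg 1 4 (by decide)
  have n15 := C.nonneg 1 5 (by decide)
  have n24 := C.nonneg 2 4 (by decide)
  have n35 := C.nonneg 3 5 (by decide)
  have n45 := C.nonneg 4 5 (by decide)
  have w0 := C.W_pos 0
  have w1 := C.W_pos 1
  have w2 := C.W_pos 2
  have w3 := C.W_pos 3
  have w4 := C.W_pos 4
  have w5 := C.W_pos 5
  have d01 : C.A 0 1 = C.W 0 := by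
    rcases Groth.Agent.Helper6.Cfg.eq_or_two_le w0 p01 (C.dvd 0 1) with h | h
    · exact h
    · exfalso
      have key := C.negdef6 2 2 2 1 0 1 (by decide)
      linarith
  have d10 : C.A 0 1 = C.W 1 := by
    rcases Groth.Agent.Helper6.Cfg.eq_or_two_le w1 p01 (C.dvd' 0 1) with h | h
    · exact h
    · exfalso
      have key := C.negdef6 1 2 2 1 0 1 (by decide)
      linarith
  have d12 : C.A 1 2 = C.W 1 := by
    rcases Groth.Agent.Helper6.Cfg.eq_or_two_le w1 p12 (C.dvd 1 2) with h | h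
    · exact h
    · exfalso
      have key := C.negdef6 0 2 2 1 0 1 (by decide)
      linarith
  have d21 : C.A 1 2 = C.W 2 := by
    rcases Groth.Agent.Helper6.Cfg.eq_or_two_le w2 p12 (C.dvd' 1 2) with h | h
    · exact h
    · exfalso
      have key := C.negdef6 0 1 2 1 0 1 (by decide)
      linarith
  have d23 : C.A 2 3 = C.W 2 := by
    rcases Groth.Agent.Helper6.Cfg.eq_or_two_le w2 p23 (C.dvd 2 3) with h | h
    · exact h
    · exfalso
      have key := C.negdef6 0 1 2 1 0 1 (by decide)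
      linarith
  have d32 : C.A 2 3 = C.W 3 := by
    rcases Groth.Agent.Helper6.Cfg.eq_or_two_le w3 p23 (C.dvd' 2 3) with h | h
    · exact h
    · exfalso
      have key := C.negdef6 0 1 2 2 0 1 (by decide)
      linarith
  have d34 : C.A 3 4 = C.W 3 := by
    rcases Groth.Agent.Helper6.Cfg.eq_or_two_le w3 p34 (C.dvd 3 4) with h | h
    · exact h
    · exfalso
      have key := C.negdef6 0 1 2 2 1 1 (by decide)
      linarith
  have d43 : C.A 3 4 = C.W 4 := by
    rcases Groth.Agent.Helper6.Cfg.eq_or_two_le w4 p34 (C.dvd' 3 4) with h | h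
    · exact h
    · exfalso
      have key := C.negdef6 0 1 2 2 2 1 (by decide)
      linarith
  have d25 : C.A 2 5 = C.W 2 := by
    rcases Groth.Agent.Helper6.Cfg.eq_or_two_le w2 p25 (C.dvd 2 5) with h | h
    · exact h
    · exfalso
      have key := C.negdef6 0 1 2 1 0 1 (by decide)
      linarith
  have d52 : C.A 2 5 = C.W 5 := by
    rcases Groth.Agent.Helper6.Cfg.eq_or_two_le w5 p25 (C.dvd' 2 5) with h | h
    · exact h
    · exfalso
      have key := C.negdef6 0 1 2 1 0 2 (by decide)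
      linarith
  have hW1 : C.W 1 = C.W 0 := by linarith
  have hW2 : C.W 2 = C.W 0 := by linarith
  have hW3 : C.W 3 = C.W 0 := by linarith
  have hW4 : C.W 4 = C.W 0 := by linarith
  have hW5 : C.W 5 = C.W 0 := by linarith
  have e01 : C.A 0 1 = C.W 0 := by linarith
  have e12 : C.A 1 2 = C.W 0 := by linarith
  have e23 : C.A 2 3 = C.W 0 := by linarith
  have e34 : C.A 3 4 = C.W 0 := by linarith
  have e25 : C.A 2 5 = C.W 0 := by linarith
  have key1 := C.negdef6 1 1 1 1 1 1 (by decide)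
  have z02 : C.A 0 2 = 0 := by
    rcases Groth.Agent.Helper6.Cfg.eq_zero_or_le w0 n02 (C.dvd 0 2) with h | h
    · exact h
    · exfalso; linarith
  have z03 : C.A 0 3 = 0 := by
    rcases Groth.Agent.Helper6.Cfg.eq_zero_or_le w0 n03 (C.dvd 0 3) with h | h
    · exact h
    · exfalso; linarith
  have z04 : C.A 0 4 = 0 := by
    rcases Groth.Agent.Helper6.Cfg.eq_zero_or_le w0 n04 (C.dvd 0 4) with h | h
    · exact h
    · exfalso; linarith
  have z05 : C.A 0 5 = 0 := by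
    rcases Groth.Agent.Helper6.Cfg.eq_zero_or_le w0 n05 (C.dvd 0 5) with h | h
    · exact h
    · exfalso; linarith
  have z13 : C.A 1 3 = 0 := by
    rcases Groth.Agent.Helper6.Cfg.eq_zero_or_le w1 n13 (C.dvd 1 3) with h | h
    · exact h
    · exfalso; linarith
  have z14 : C.A 1 4 = 0 := by
    rcases Groth.Agent.Helper6.Cfg.eq_zero_or_le w1 n14 (C.dvd 1 4) with h | h
    · exact h
    · exfalso; linarith
  have z15 : C.A 1 5 = 0 := by
    rcases Groth.Agent.Helper6.Cfg.eq_zero_or_le w1 n15 (C.dvd 1 5) with h | h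
    · exact h
    · exfalso; linarith
  have z24 : C.A 2 4 = 0 := by
    rcases Groth.Agent.Helper6.Cfg.eq_zero_or_le w2 n24 (C.dvd 2 4) with h | h
    · exact h
    · exfalso; linarith
  have z35 : C.A 3 5 = 0 := by
    rcases Groth.Agent.Helper6.Cfg.eq_zero_or_le w3 n35 (C.dvd 3 5) with h | h
    · exact h
    · exfalso; linarith
  have z45 : C.A 4 5 = 0 := by
    rcases Groth.Agent.Helper6.Cfg.eq_zero_or_le w4 n45 (C.dvd 4 5) with h | h
    · exact h
    · exfalso; linarith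
  have r0 := C.row6_0
  simp only [e01, e12, e23, e34, e25, z02, z03, z04, z05, z13, z14, z15, z24, z35, z45, hW1, hW2, hW3, hW4, hW5] at r0
  have m0 : C.M 1 ≤ 2 * C.M 0 := by
    apply Groth.Agent.Helper6.Cfg.cancel_pos w0; linarith
  have r1 := C.row6_1
  simp only [e01, e12, e23, e34, e25, z02, z03, z04, z05, z13, z14, z15, z24, z35, z45, hW1, hW2, hW3, hW4, hW5] at r1
  have m1 : C.M 0 + C.M 2 ≤ 2 * C.M 1 := by
    apply Groth.Agent.Helper6.Cfg.cancel_pos w0; linarith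
  have r2 := C.row6_2
  simp only [e01, e12, e23, e34, e25, z02, z03, z04, z05, z13, z14, z15, z24, z35, z45, hW1, hW2, hW3, hW4, hW5] at r2
  have m2 : C.M 1 + C.M 3 + C.M 5 ≤ 2 * C.M 2 := by
    apply Groth.Agent.Helper6.Cfg.cancel_pos w0; linarith
  have r3 := C.row6_3
  simp only [e01, e12, e23, e34, e25, z02, z03, z04, z05, z13, z14, z15, z24, z35, z45, hW1, hW2, hW3, hW4, hW5] at r3
  have m3 : C.M 2 + C.M 4 ≤ 2 * C.M 3 := by
    apply Groth.Agent.Helper6.Cfg.cancel_pos w0; linarith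
  have r4 := C.row6_4
  simp only [e01, e12, e23, e34, e25, z02, z03, z04, z05, z13, z14, z15, z24, z35, z45, hW1, hW2, hW3, hW4, hW5] at r4
  have m4 : C.M 3 ≤ 2 * C.M 4 := by
    apply Groth.Agent.Helper6.Cfg.cancel_pos w0; linarith
  have r5 := C.row6_5
  simp only [e01, e12, e23, e34, e25, z02, z03, z04, z05, z13, z14, z15, z24, z35, z45, hW1, hW2, hW3, hW4, hW5] at r5
  have m5 : C.M 2 ≤ 2 * C.M 5 := by
    apply Groth.Agent.Helper6.Cfg.cancel_pos w0; linarith
  refine ⟨C.W 0, ?_, e01, e12, e23, e34, e25, z02, z03, z04, z05, z13, z14, z15, z24, z35, z45, m0, m1, m2, m3, m4, m5⟩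
  intro j
  fin_cases j
  exacts [rfl, hW1, hW2, hW3, hW4, hW5]

end Groth.Agent.S7348
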