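import Groth.Statements.S7349
import Groth.Agent.Lib.Helper6.NumType3

set_option autoImplicit false
open Finset
open Models Models.NumericalType

namespace Groth.Agent.S7349

/-- Classification of proper subgraphs of type E7 (a chain i_1 … i_6 with i_7 joined to i_4): let T be a
numerical type on n > 7 indices and i_1, …, i_7 distinct (-2)-indices with a_{12}, a_{23}, a_{34},
a_{45}, a_{56}, a_{47} nonzero. Then for some integer w all w_{i_j} equal w, these intersection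
numbers equal w, all other a_{i_j i_k} (j ≠ k) vanish, and 2 m_1 ≥ m_2, 2 m_2 ≥ m_1 + m_3, 2 m_3 ≥
m_2 + m_4, 2 m_4 ≥ m_3 + m_5 + m_7, 2 m_5 ≥ m_4 + m_6, 2 m_6 ≥ m_5, 2 m_7 ≥ m_4. -/
theorem result {n : ℕ} (T : Models.NumericalType n) (hn : 7 < n)
    (v : Fin 7 ↪ Fin n) (hv : ∀ j, T.IsMinusTwo (v j)) (h01 : T.a (v 0) (v 1) ≠ 0) (h12 : T.a (v 1) (v 2) ≠ 0) (h23 : T.a (v 2) (v 3) ≠ 0) (h34 : T.a (v 3) (v 4) ≠ 0) (h45 : T.a (v 4) (v 5) ≠ 0) (h36 : T.a (v 3) (v 6) ≠ 0) :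
    ∃ w : ℤ, (∀ j : Fin 7, T.w (v j) = w) ∧
      T.a (v 0) (v 1) = w ∧
      T.a (v 1) (v 2) = w ∧
      T.a (v 2) (v 3) = w ∧
      T.a (v 3) (v 4) = w ∧
      T.a (v 4) (v 5) = w ∧
      T.a (v 3) (v 6) = w ∧
      T.a (v 0) (v 2) = 0 ∧
      T.a (v 0) (v 3) = 0 ∧
      T.a (v 0) (v 4) = 0 ∧
      T.a (v 0) (v 5) = 0 ∧
      T.a (v 0) (v 6) = 0 ∧
      T.a (v 1) (v 3) = 0 ∧
      T.a (v 1) (v 4) = 0 ∧
      T.a (v 1) (v 5) = 0 ∧
      T.a (v 1) (v 6) = 0 ∧
      T.a (v 2) (v 4) = 0 ∧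
      T.a (v 2) (v 5) = 0 ∧
      T.a (v 2) (v 6) = 0 ∧
      T.a (v 3) (v 5) = 0 ∧
      T.a (v 4) (v 6) = 0 ∧
      T.a (v 5) (v 6) = 0 ∧
      T.m (v 1) ≤ 2 * T.m (v 0) ∧
      T.m (v 0) + T.m (v 2) ≤ 2 * T.m (v 1) ∧
      T.m (v 1) + T.m (v 3) ≤ 2 * T.m (v 2) ∧
      T.m (v 2) + T.m (v 4) + T.m (v 6) ≤ 2 * T.m (v 3) ∧
      T.m (v 3) + T.m (v 5) ≤ 2 * T.m (v 4) ∧
      T.m (v 4) ≤ 2 * T.m (v 5) ∧
      T.m (v 3) ≤ 2 * T.m (v 6) := by
  let C := Groth.Agent.Helper6.Cfg.ofNT T v (by omega) hv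
  have p01 : 0 < C.A 0 1 := C.pos_of_ne 0 1 (by decide) h01
  have l01 := C.le_of_pos 0 1 p01
  have l01' := C.le_of_pos' 0 1 p01
  have p12 : 0 < C.A 1 2 := C.pos_of_ne 1 2 (by decide) h12
  have l12 := C.le_of_pos 1 2 p12
  have l12' := C.le_of_pos' 1 2 p12
  have p23 : 0 < C.A 2 3 := C.pos_of_ne 2 3 (by decide) h23
  have l23 := C.le_of_pos 2 3 p23
  have l23' := C.le_of_pos' 2 3 p23
  have p34 : 0 < C.A 3 4 := C.pos_of_ne 3 4 (by decide) h34
  have l34 := C.le_of_pos 3 4 p34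
  have l34' := C.le_of_pos' 3 4 p34
  have p45 : 0 < C.A 4 5 := C.pos_of_ne 4 5 (by decide) h45
  have l45 := C.le_of_pos 4 5 p45
  have l45' := C.le_of_pos' 4 5 p45
  have p36 : 0 < C.A 3 6 := C.pos_of_ne 3 6 (by decide) h36
  have l36 := C.le_of_pos 3 6 p36
  have l36' := C.le_of_pos' 3 6 p36
  have n02 := C.nonneg 0 2 (by decide)
  have n03 := C.nonneg 0 3 (by decide)
  have n04 := C.nonneg 0 4 (by decide)
  have n05 := C.nonneg 0 5 (by decide)
  have n06 := C.nonneg 0 6 (by decide)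
  have n13 := C.nonneg 1 3 (by decide)
  have n14 := C.nonneg 1 4 (by decide)
  have n15 := C.nonneg 1 5 (by decide)
  have n16 := C.nonneg 1 6 (by decide)
  have n24 := C.nonneg 2 4 (by decide)
  have n25 := C.nonneg 2 5 (by decide)
  have n26 := C.nonneg 2 6 (by decide)
  have n35 := C.nonneg 3 5 (by decide)
  have n46 := C.nonneg 4 6 (by decide)
  have n56 := C.nonneg 5 6 (by decide)
  have w0 := C.W_pos 0
  have w1 := C.W_pos 1
  have w2 := C.W_pos 2
  have w3 := C.W_pos 3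
  have w4 := C.W_pos 4
  have w5 := C.W_pos 5
  have w6 := C.W_pos 6
  have d01 : C.A 0 1 = C.W 0 := by
    rcases Groth.Agent.Helper6.Cfg.eq_or_two_le w0 p01 (C.dvd 0 1) with h | h
    · exact h
    · exfalso
      have key := C.negdef7 2 2 2 2 1 0 1 (by decide)
      linarith
  have d10 : C.A 0 1 = C.W 1 := by
    rcases Groth.Agent.Helper6.Cfg.eq_or_two_le w1 p01 (C.dvd' 0 1) with h | h
    · exact h
    · exfalso
      have key := C.negdef7 1 2 2 2 1 0 1 (by decide)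
      linarith
  have d12 : C.A 1 2 = C.W 1 := by
    rcases Groth.Agent.Helper6.Cfg.eq_or_two_le w1 p12 (C.dvd 1 2) with h | h
    · exact h
    · exfalso
      have key := C.negdef7 0 2 2 2 1 0 1 (by decide)
      linarith
  have d21 : C.A 1 2 = C.W 2 := by
    rcases Groth.Agent.Helper6.Cfg.eq_or_two_le w2 p12 (C.dvd' 1 2) with h | h
    · exact h
    · exfalso
      have key := C.negdef7 0 1 2 2 1 0 1 (by decide)
      linarith
  have d23 : C.A 2 3 = C.W 2 := by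
    rcases Groth.Agent.Helper6.Cfg.eq_or_two_le w2 p23 (C.dvd 2 3) with h | h
    · exact h
    · exfalso
      have key := C.negdef7 0 0 2 2 1 0 1 (by decide)
      linarith
  have d32 : C.A 2 3 = C.W 3 := by
    rcases Groth.Agent.Helper6.Cfg.eq_or_two_le w3 p23 (C.dvd' 2 3) with h | h
    · exact h
    · exfalso
      have key := C.negdef7 0 0 1 2 1 0 1 (by decide)
      linarith
  have d34 : C.A 3 4 = C.W 3 := by
    rcases Groth.Agent.Helper6.Cfg.eq_or_two_le w3 p34 (C.dvd 3 4) with h | h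
    · exact h
    · exfalso
      have key := C.negdef7 0 0 1 2 1 0 1 (by decide)
      linarith
  have d43 : C.A 3 4 = C.W 4 := by
    rcases Groth.Agent.Helper6.Cfg.eq_or_two_le w4 p34 (C.dvd' 3 4) with h | h
    · exact h
    · exfalso
      have key := C.negdef7 0 0 1 2 2 0 1 (by decide)
      linarith
  have d45 : C.A 4 5 = C.W 4 := by
    rcases Groth.Agent.Helper6.Cfg.eq_or_two_le w4 p45 (C.dvd 4 5) with h | h
    · exact h
    · exfalso
      have key := C.negdef7 0 0 1 2 2 1 1 (by decide)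
      linarith
  have d54 : C.A 4 5 = C.W 5 := by
    rcases Groth.Agent.Helper6.Cfg.eq_or_two_le w5 p45 (C.dvd' 4 5) with h | h
    · exact h
    · exfalso
      have key := C.negdef7 0 0 1 2 2 2 1 (by decide)
      linarith
  have d36 : C.A 3 6 = C.W 3 := by
    rcases Groth.Agent.Helper6.Cfg.eq_or_two_le w3 p36 (C.dvd 3 6) with h | h
    · exact h
    · exfalso
      have key := C.negdef7 0 0 1 2 1 0 1 (by decide)
      linarith
  have d63 : C.A 3 6 = C.W 6 := by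
    rcases Groth.Agent.Helper6.Cfg.eq_or_two_le w6 p36 (C.dvd' 3 6) with h | h
    · exact h
    · exfalso
      have key := C.negdef7 0 0 1 2 1 0 2 (by decide)
      linarith
  have hW1 : C.W 1 = C.W 0 := by linarith
  have hW2 : C.W 2 = C.W 0 := by linarith
  have hW3 : C.W 3 = C.W 0 := by linarith
  have hW4 : C.W 4 = C.W 0 := by linarith
  have hW5 : C.W 5 = C.W 0 := by linarith
  have hW6 : C.W 6 = C.W 0 := by linarith
  have e01 : C.A 0 1 = C.W 0 := by linarith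
  have e12 : C.A 1 2 = C.W 0 := by linarith
  have e23 : C.A 2 3 = C.W 0 := by linarith
  have e34 : C.A 3 4 = C.W 0 := by linarith
  have e45 : C.A 4 5 = C.W 0 := by linarith
  have e36 : C.A 3 6 = C.W 0 := by linarith
  have key1 := C.negdef7 1 1 1 1 1 1 1 (by decide)
  have z02 : C.A 0 2 = 0 := by
    rcases Groth.Agent.Helper6.Cfg.eq_zero_or_le w0 n02 (C.dvd 0 2) with h | h
    · exact h
    · exfalso; linarith
  have z03 : C.A 0 3 = 0 := by
    rcases Groth.Agent.Helper6.Cfg.eq_zero_or_le w0 n03 (C.dvd 0 3) with h | h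
    · exact h
    · exfalso; linarith
  have z04 : C.A 0 4 = 0 := by
    rcases Groth.Agent.Helper6.Cfg.eq_zero_or_le w0 n04 (C.dvd 0 4) with h | h
    · exact h
    · exfalso; linarith
  have z05 : C.A 0 5 = 0 := by
    rcases Groth.Agent.Helper6.Cfg.eq_zero_or_le w0 n05 (C.dvd 0 5) with h | h
    · exact h
    · exfalso; linarith
  have z06 : C.A 0 6 = 0 := by
    rcases Groth.Agent.Helper6.Cfg.eq_zero_or_le w0 n06 (C.dvd 0 6) with h | h
    · exact h
    · exfalso; linarith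
  have z13 : C.A 1 3 = 0 := by
    rcases Groth.Agent.Helper6.Cfg.eq_zero_or_le w1 n13 (C.dvd 1 3) with h | h
    · exact h
    · exfalso; linarith
  have z14 : C.A 1 4 = 0 := by
    rcases Groth.Agent.Helper6.Cfg.eq_zero_or_le w1 n14 (C.dvd 1 4) with h | h
    · exact h
    · exfalso; linarith
  have z15 : C.A 1 5 = 0 := by
    rcases Groth.Agent.Helper6.Cfg.eq_zero_or_le w1 n15 (C.dvd 1 5) with h | h
    · exact h
    · exfalso; linarith
  have z16 : C.A 1 6 = 0 := by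
    rcases Groth.Agent.Helper6.Cfg.eq_zero_or_le w1 n16 (C.dvd 1 6) with h | h
    · exact h
    · exfalso; linarith
  have z24 : C.A 2 4 = 0 := by
    rcases Groth.Agent.Helper6.Cfg.eq_zero_or_le w2 n24 (C.dvd 2 4) with h | h
    · exact h
    · exfalso; linarith
  have z25 : C.A 2 5 = 0 := by
    rcases Groth.Agent.Helper6.Cfg.eq_zero_or_le w2 n25 (C.dvd 2 5) with h | h
    · exact h
    · exfalso; linarith
  have z26 : C.A 2 6 = 0 := by
    rcases Groth.Agent.Helper6.Cfg.eq_zero_or_le w2 n26 (C.dvd 2 6) with h | h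
    · exact h
    · exfalso; linarith
  have z35 : C.A 3 5 = 0 := by
    rcases Groth.Agent.Helper6.Cfg.eq_zero_or_le w3 n35 (C.dvd 3 5) with h | h
    · exact h
    · exfalso; linarith
  have z46 : C.A 4 6 = 0 := by
    rcases Groth.Agent.Helper6.Cfg.eq_zero_or_le w4 n46 (C.dvd 4 6) with h | h
    · exact h
    · exfalso; linarith
  have z56 : C.A 5 6 = 0 := by
    rcases Groth.Agent.Helper6.Cfg.eq_zero_or_le w5 n56 (C.dvd 5 6) with h | h
    · exact h
    · exfalso; linarith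
  have r0 := C.row7_0
  simp only [e01, e12, e23, e34, e45, e36, z02, z03, z04, z05, z06, z13, z14, z15, z16, z24, z25, z26, z35, z46, z56, hW1, hW2, hW3, hW4, hW5, hW6] at r0
  have m0 : C.M 1 ≤ 2 * C.M 0 := by
    apply Groth.Agent.Helper6.Cfg.cancel_pos w0; linarith
  have r1 := C.row7_1
  simp only [e01, e12, e23, e34, e45, e36, z02, z03, z04, z05, z06, z13, z14, z15, z16, z24, z25, z26, z35, z46, z56, hW1, hW2, hW3, hW4, hW5, hW6] at r1
  have m1 : C.M 0 + C.M 2 ≤ 2 * C.M 1 := by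
    apply Groth.Agent.Helper6.Cfg.cancel_pos w0; linarith
  have r2 := C.row7_2
  simp only [e01, e12, e23, e34, e45, e36, z02, z03, z04, z05, z06, z13, z14, z15, z16, z24, z25, z26, z35, z46, z56, hW1, hW2, hW3, hW4, hW5, hW6] at r2
  have m2 : C.M 1 + C.M 3 ≤ 2 * C.M 2 := by
    apply Groth.Agent.Helper6.Cfg.cancel_pos w0; linarith
  have r3 := C.row7_3
  simp only [e01, e12, e23, e34, e45, e36, z02, z03, z04, z05, z06, z13, z14, z15, z16, z24, z25, z26, z35, z46, z56, hW1, hW2, hW3, hW4, hW5, hW6] at r3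
  have m3 : C.M 2 + C.M 4 + C.M 6 ≤ 2 * C.M 3 := by
    apply Groth.Agent.Helper6.Cfg.cancel_pos w0; linarith
  have r4 := C.row7_4
  simp only [e01, e12, e23, e34, e45, e36, z02, z03, z04, z05, z06, z13, z14, z15, z16, z24, z25, z26, z35, z46, z56, hW1, hW2, hW3, hW4, hW5, hW6] at r4
  have m4 : C.M 3 + C.M 5 ≤ 2 * C.M 4 := by
    apply Groth.Agent.Helper6.Cfg.cancel_pos w0; linarith
  have r5 := C.row7_5
  simp only [e01, e12, e23, e34, e45, e36, z02, z03, z04, z05, z06, z13, z14, z15, z16, z24, z25, z26, z35, z46, z56, hW1, hW2, hW3, hW4, hW5, hW6] at r5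
  have m5 : C.M 4 ≤ 2 * C.M 5 := by
    apply Groth.Agent.Helper6.Cfg.cancel_pos w0; linarith
  have r6 := C.row7_6
  simp only [e01, e12, e23, e34, e45, e36, z02, z03, z04, z05, z06, z13, z14, z15, z16, z24, z25, z26, z35, z46, z56, hW1, hW2, hW3, hW4, hW5, hW6] at r6
  have m6 : C.M 3 ≤ 2 * C.M 6 := by
    apply Groth.Agent.Helper6.Cfg.cancel_pos w0; linarith
  refine ⟨C.W 0, ?_, e01, e12, e23, e34, e45, e36, z02, z03, z04, z05, z06, z13, z14, z15, z16, z24, z25, z26, z35, z46, z56, m0, m1, m2, m3, m4, m5, m6⟩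
  intro j
  fin_cases j
  exacts [rfl, hW1, hW2, hW3, hW4, hW5, hW6]

end Groth.Agent.S7349
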