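import Groth.Statements.S7351
import Groth.Agent.Lib.Helper6.NumType3

set_option autoImplicit false
open Finset
open Models Models.NumericalType

namespace Groth.Agent.S7351

/-- Let T be a numerical type on n > 5 indices. There do not exist five distinct (-2)-indices h, i, j,
k, l with a_hi > 0, a_hj > 0, a_hk > 0 and a_hl > 0. -/
theorem result {n : ℕ} (T : Models.NumericalType n) (hn : 5 < n)
    (v : Fin 5 ↪ Fin n) (hv : ∀ j, T.IsMinusTwo (v j))
    (h01 : 0 < T.a (v 0) (v 1)) (h02 : 0 < T.a (v 0) (v 2)) (h03 : 0 < T.a (v 0) (v 3)) (h04 : 0 < T.a (v 0) (v 4)) : False := by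
  let C := Groth.Agent.Helper6.Cfg.ofNT T v (by omega) hv
  have p01 : 0 < C.A 0 1 := C.pos_of_ne 0 1 (by decide) h01.ne'
  have p02 : 0 < C.A 0 2 := C.pos_of_ne 0 2 (by decide) h02.ne'
  have p03 : 0 < C.A 0 3 := C.pos_of_ne 0 3 (by decide) h03.ne'
  have p04 : 0 < C.A 0 4 := C.pos_of_ne 0 4 (by decide) h04.ne'
  have key := C.negdef5 2 1 1 1 1 (by decide)
  linarith [C.le_of_pos 0 1 p01, C.le_of_pos' 0 1 p01, C.le_of_pos 0 2 p02, C.le_of_pos' 0 2 p02, C.le_of_pos 0 3 p03, C.le_of_pos' 0 3 p03, C.le_of_pos 0 4 p04, C.le_of_pos' 0 4 p04, C.nonneg 1 2 (by decide), C.nonneg 1 3 (by decide), C.nonneg 1 4 (by decide), C.nonneg 2 3 (by decide), C.nonneg 2 4 (by decide), C.nonneg 3 4 (by decide)]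

end Groth.Agent.S7351
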