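import Groth.Statements.S7355
import Groth.Agent.Lib.Helper6.NumType10
import Groth.Agent.Lib.Helper6.NumType9

set_option autoImplicit false
open Finset
open Models Models.NumericalType

namespace Groth.Agent.S7355

/-- Classification of proper subgraphs of type D: let T be a numerical type on n indices, t > 4 with n >
t + 1, and i_1, …, i_{t+1} distinct (-2)-indices such that a_{i_j i_{j+1}} is nonzero for j = 1, …,
t - 1 and a_{i_{t-1} i_{t+1}} is nonzero. Then for some integer w one has w_{i_1} = … = w_{i_{t+1}}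
= w, a_{i_j i_{j+1}} = w for j < t, a_{i_{t-1} i_{t+1}} = w, and a_{i_j i_k} = 0 for all other pairs
j ≠ k. -/
theorem result {n : ℕ} (T : Models.NumericalType n) (t : ℕ) (ht : 4 < t) (hn : t + 1 < n)
    (v : Fin (t + 1) ↪ Fin n) (hv : ∀ j, T.IsMinusTwo (v j))
    (hchain : ∀ j j' : Fin (t + 1), j'.val = j.val + 1 → j'.val < t → T.a (v j) (v j') ≠ 0)
    (hbranch : ∀ j j' : Fin (t + 1), j.val + 2 = t → j'.val = t → T.a (v j) (v j') ≠ 0) :
    ∃ w : ℤ, (∀ j : Fin (t + 1), T.w (v j) = w) ∧
      (∀ j j' : Fin (t + 1), j'.val = j.val + 1 → j'.val < t → T.a (v j) (v j') = w) ∧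
      (∀ j j' : Fin (t + 1), j.val + 2 = t → j'.val = t → T.a (v j) (v j') = w) ∧
      (∀ j k : Fin (t + 1), j.val < k.val → ¬ (k.val = j.val + 1 ∧ k.val < t) → ¬ (j.val + 2 = t ∧ k.val = t) →
        T.a (v j) (v k) = 0) := by
  let C := Groth.Agent.Helper6.Cfg.ofNT T v hn hv
  have hchain' : ∀ j j' : Fin (t + 1), j'.val = j.val + 1 → j'.val < t → C.A j j' ≠ 0 := hchain
  have hbranch' : ∀ j j' : Fin (t + 1), j.val + 2 = t → j'.val = t → C.A j j' ≠ 0 := hbranch
  change ∃ w : ℤ, (∀ j : Fin (t + 1), C.W j = w) ∧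
      (∀ j j' : Fin (t + 1), j'.val = j.val + 1 → j'.val < t → C.A j j' = w) ∧
      (∀ j j' : Fin (t + 1), j.val + 2 = t → j'.val = t → C.A j j' = w) ∧
      (∀ j k : Fin (t + 1), j.val < k.val → ¬ (k.val = j.val + 1 ∧ k.val < t) →
        ¬ (j.val + 2 = t ∧ k.val = t) → C.A j k = 0)
  clear_value C
  clear hchain hbranch
  have fin_ne : ∀ {a b : Fin (t + 1)}, a.val ≠ b.val → a ≠ b := fun h e => h (congrArg Fin.val e)
  have padj : ∀ p q : Fin (t + 1), ((q.val = p.val + 1 ∧ q.val < t) ∨ (p.val = q.val + 1 ∧ p.val < t) ∨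
      (p.val + 2 = t ∧ q.val = t) ∨ (q.val + 2 = t ∧ p.val = t)) → 0 < C.A p q := by
    intro p q h
    rcases h with h | h | h | h
    · exact C.pos_of_ne p q (fin_ne (by omega)) (hchain' p q h.1 h.2)
    · rw [C.symm]; exact C.pos_of_ne q p (fin_ne (by omega)) (hchain' q p h.1 h.2)
    · exact C.pos_of_ne p q (fin_ne (by omega)) (hbranch' p q h.1 h.2)
    · rw [C.symm]; exact C.pos_of_ne q p (fin_ne (by omega)) (hbranch' q p h.1 h.2)
  -- Part 1: non-edges vanish
  have hzero : ∀ j k : Fin (t + 1), j.val < k.val → ¬ (k.val = j.val + 1 ∧ k.val < t) →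
      ¬ (j.val + 2 = t ∧ k.val = t) → C.A j k = 0 := by
    intro j k hjk hn1 hn2
    by_contra hne
    have hpos : 0 < C.A j k := C.pos_of_ne j k (fin_ne (by omega)) hne
    have hpos' : 0 < C.A k j := by rw [C.symm]; exact hpos
    have hk := k.isLt
    rcases (show k.val < t ∨ (k.val = t ∧ j.val + 3 ≤ t) ∨ (k.val = t ∧ j.val + 1 = t) by omega)
      with hc | hc | hc
    · apply C.no_cycle (fun p => j.val ≤ p.val ∧ p.val ≤ k.val) ⟨j, le_rfl, hjk.le⟩
      rintro p ⟨hp1, hp2⟩
      rcases (show p.val = j.val ∨ p.val = k.val ∨ (j.val < p.val ∧ p.val < k.val) by omega)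
        with h | h | h
      · have hpj : p = j := Fin.ext h
        subst hpj
        exact ⟨⟨p.val + 1, by omega⟩, k, ⟨by simp only; omega, by simp only; omega⟩, ⟨hjk.le, le_rfl⟩,
          fin_ne (by simp only; omega), fin_ne (by omega), fin_ne (by simp only; omega),
          padj _ _ (Or.inl ⟨rfl, by simp only; omega⟩), hpos⟩
      · have hpk : p = k := Fin.ext h
        subst hpk
        exact ⟨⟨p.val - 1, by omega⟩, j, ⟨by simp only; omega, by simp only; omega⟩, ⟨le_rfl, hjk.le⟩,
          fin_ne (by simp only; omega), fin_ne (by omega), fin_ne (by simp only; omega),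
          padj _ _ (Or.inr (Or.inl ⟨by simp only; omega, by omega⟩)), hpos'⟩
      · exact ⟨⟨p.val - 1, by omega⟩, ⟨p.val + 1, by omega⟩, ⟨by simp only; omega, by simp only; omega⟩,
          ⟨by simp only; omega, by simp only; omega⟩, fin_ne (by simp only; omega),
          fin_ne (by simp only; omega), fin_ne (by simp only; omega),
          padj _ _ (Or.inr (Or.inl ⟨by simp only; omega, by omega⟩)),
          padj _ _ (Or.inl ⟨rfl, by simp only; omega⟩)⟩
    · apply C.no_cycle (fun p => (j.val ≤ p.val ∧ p.val + 2 ≤ t) ∨ p.val = t)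
        ⟨j, Or.inl ⟨le_rfl, by omega⟩⟩
      rintro p hp
      have hpl := p.isLt
      rcases (show p.val = j.val ∨ (j.val < p.val ∧ p.val + 2 < t) ∨ p.val + 2 = t ∨ p.val = t by omega)
        with h | h | h | h
      · have hpj : p = j := Fin.ext h
        subst hpj
        exact ⟨⟨p.val + 1, by omega⟩, k, Or.inl ⟨by simp only; omega, by simp only; omega⟩, Or.inr hc.1,
          fin_ne (by simp only; omega), fin_ne (by omega), fin_ne (by simp only; omega),
          padj _ _ (Or.inl ⟨rfl, by simp only; omega⟩), hpos⟩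
      · exact ⟨⟨p.val - 1, by omega⟩, ⟨p.val + 1, by omega⟩, Or.inl ⟨by simp only; omega, by simp only; omega⟩,
          Or.inl ⟨by simp only; omega, by simp only; omega⟩, fin_ne (by simp only; omega),
          fin_ne (by simp only; omega), fin_ne (by simp only; omega),
          padj _ _ (Or.inr (Or.inl ⟨by simp only; omega, by omega⟩)),
          padj _ _ (Or.inl ⟨rfl, by simp only; omega⟩)⟩
      · exact ⟨⟨p.val - 1, by omega⟩, k, Or.inl ⟨by simp only; omega, by simp only; omega⟩, Or.inr hc.1,
          fin_ne (by simp only; omega), fin_ne (by omega), fin_ne (by simp only; omega),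
          padj _ _ (Or.inr (Or.inl ⟨by simp only; omega, by omega⟩)),
          padj _ _ (Or.inr (Or.inr (Or.inl ⟨h, hc.1⟩)))⟩
      · have hpk : p = k := Fin.ext (by omega)
        subst hpk
        exact ⟨⟨t - 2, by omega⟩, j, Or.inl ⟨by simp only; omega, by simp only; omega⟩,
          Or.inl ⟨le_rfl, by omega⟩,
          fin_ne (by simp only; omega), fin_ne (by omega), fin_ne (by simp only; omega),
          padj _ _ (Or.inr (Or.inr (Or.inr ⟨by simp only; omega, h⟩))), hpos'⟩
    · apply C.no_cycle (fun p => t ≤ p.val + 2) ⟨j, by omega⟩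
      intro p hp
      have hpl := p.isLt
      rcases (show p.val + 2 = t ∨ p.val + 1 = t ∨ p.val = t by omega) with h | h | h
      · exact ⟨j, k, by omega, by omega, fin_ne (by omega), fin_ne (by omega), fin_ne (by omega),
          padj _ _ (Or.inl ⟨by omega, by omega⟩), padj _ _ (Or.inr (Or.inr (Or.inl ⟨h, hc.1⟩)))⟩
      · have hpj : p = j := Fin.ext (by omega)
        subst hpj
        exact ⟨⟨t - 2, by omega⟩, k, by simp only; omega, by omega, fin_ne (by simp only; omega),
          fin_ne (by omega), fin_ne (by simp only; omega),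
          padj _ _ (Or.inr (Or.inl ⟨by simp only; omega, by omega⟩)), hpos⟩
      · have hpk : p = k := Fin.ext (by omega)
        subst hpk
        exact ⟨⟨t - 2, by omega⟩, j, by simp only; omega, by omega, fin_ne (by simp only; omega),
          fin_ne (by omega), fin_ne (by simp only; omega),
          padj _ _ (Or.inr (Or.inr (Or.inr ⟨by simp only; omega, h⟩))), hpos'⟩
  -- Part 2: the fork
  have h2 : t - 2 < t + 1 := by omega
  have h3 : t - 3 < t + 1 := by omega
  have h1 : t - 1 < t + 1 := by omega
  have h0 : t < t + 1 := by omega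
  have einj : Function.Injective
      (![⟨t - 2, h2⟩, ⟨t - 3, h3⟩, ⟨t - 1, h1⟩, ⟨t, h0⟩] : Fin 4 → Fin (t + 1)) := by
    intro a b hab
    have := congrArg Fin.val hab
    fin_cases a <;> fin_cases b <;> simp at this ⊢ <;> omega
  obtain ⟨w, hW4, hA01, hA02, hA03, -⟩ := Groth.Agent.Helper6.Cfg.treeD4 (C.comap ⟨_, einj⟩)
    (padj _ _ (Or.inr (Or.inl ⟨by simp only [Function.Embedding.coeFn_mk, Matrix.cons_val]; omega, by simp only [Function.Embedding.coeFn_mk, Matrix.cons_val]; omega⟩))).ne'
    (padj _ _ (Or.inl ⟨by simp only [Function.Embedding.coeFn_mk, Matrix.cons_val]; omega, by simp only [Function.Embedding.coeFn_mk, Matrix.cons_val]; omega⟩)).ne'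
    (padj _ _ (Or.inr (Or.inr (Or.inl ⟨by simp only [Function.Embedding.coeFn_mk, Matrix.cons_val]; omega, by simp only [Function.Embedding.coeFn_mk, Matrix.cons_val]⟩)))).ne'
  have hW2 : C.W ⟨t - 2, h2⟩ = w := hW4 0
  have hW3 : C.W ⟨t - 3, h3⟩ = w := hW4 1
  have hW1 : C.W ⟨t - 1, h1⟩ = w := hW4 2
  have hW0 : C.W ⟨t, h0⟩ = w := hW4 3
  have hA23 : C.A ⟨t - 2, h2⟩ ⟨t - 3, h3⟩ = w := hA01
  have hA21 : C.A ⟨t - 2, h2⟩ ⟨t - 1, h1⟩ = w := hA02
  have hA20 : C.A ⟨t - 2, h2⟩ ⟨t, h0⟩ = w := hA03
  have hWfork : ∀ p : Fin (t + 1), t ≤ p.val + 3 → C.W p = w := by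
    intro p hp
    have hpl := p.isLt
    rcases (show p.val = t - 3 ∨ p.val = t - 2 ∨ p.val = t - 1 ∨ p.val = t by omega) with h | h | h | h
    · rw [show p = ⟨t - 3, h3⟩ from Fin.ext h]; exact hW3
    · rw [show p = ⟨t - 2, h2⟩ from Fin.ext h]; exact hW2
    · rw [show p = ⟨t - 1, h1⟩ from Fin.ext h]; exact hW1
    · rw [show p = ⟨t, h0⟩ from Fin.ext h]; exact hW0
  have hAfork : ∀ p q : Fin (t + 1), p.val + 2 = t → (q.val + 3 = t ∨ q.val + 1 = t ∨ q.val = t) →
      C.A p q = w := by
    intro p q hp hq
    rw [show p = ⟨t - 2, h2⟩ from Fin.ext (by simp only; omega)]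
    rcases hq with h | h | h
    · rw [show q = ⟨t - 3, h3⟩ from Fin.ext (by simp only; omega)]; exact hA23
    · rw [show q = ⟨t - 1, h1⟩ from Fin.ext (by simp only; omega)]; exact hA21
    · rw [show q = ⟨t, h0⟩ from Fin.ext (by simp only; omega)]; exact hA20
  have hwpos : 0 < w := by rw [← hW0]; exact C.W_pos _
  -- Part 3: induction along the chain
  have key : ∀ d, ∀ j : Fin (t + 1), j.val + d + 2 = t →
      (C.W j = w ∧ ∀ j' : Fin (t + 1), j'.val = j.val + 1 → C.A j j' = w) := by
    intro d
    induction d using Nat.strong_induction_on with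
    | _ d ih =>
    intro j hj
    rcases (show d = 0 ∨ d = 1 ∨ 2 ≤ d by omega) with hd | hd | hd
    · subst hd
      exact ⟨hWfork j (by omega), fun j' hj' => hAfork j j' (by omega) (Or.inr (Or.inl (by omega)))⟩
    · subst hd
      refine ⟨hWfork j (by omega), fun j' hj' => ?_⟩
      rw [C.symm]
      exact hAfork j' j (by omega) (Or.inl (by omega))
    · -- the inductive step
      have hjn : j.val + 1 < t + 1 := by omega
      set jn : Fin (t + 1) := ⟨j.val + 1, hjn⟩ with hjn_def
      have hjnv : jn.val = j.val + 1 := rfl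
      obtain ⟨hWjn, hAjn⟩ := ih (d - 1) (by omega) jn (by omega)
      have hapos : 0 < C.A j jn := padj j jn (Or.inl ⟨rfl, by omega⟩)
      have hWj := C.W_pos j
      -- the test
      have test : ∀ x : ℤ, 0 ≤ x → x * C.W j ≤ C.A j jn → 2 * w ≤ C.A j jn * x → False := by
        intro x hx0 hx1 hx2
        let c : Fin (t + 1) → ℤ := fun p =>
          if p.val < j.val then 0 else if p.val = j.val then x else if p.val + 2 ≤ t then 2 else 1
        have hcA : ∀ p : Fin (t + 1), p.val < j.val → c p = 0 := fun p hp => if_pos hp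
        have hcB : ∀ p : Fin (t + 1), p.val = j.val → c p = x := fun p hp => by
          simp only [c]; rw [if_neg (by omega), if_pos hp]
        have hcC : ∀ p : Fin (t + 1), j.val < p.val → p.val + 2 ≤ t → c p = 2 := fun p hp hp' => by
          simp only [c]; rw [if_neg (by omega), if_neg (by omega), if_pos hp']
        have hcD : ∀ p : Fin (t + 1), t < p.val + 2 → c p = 1 := fun p hp => by
          simp only [c]; rw [if_neg (by omega), if_neg (by omega), if_neg (by omega)]
        have hc0 : ∀ p, 0 ≤ c p := by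
          intro p
          have hpl := p.isLt
          rcases (show p.val < j.val ∨ p.val = j.val ∨ (j.val < p.val ∧ p.val + 2 ≤ t) ∨ t < p.val + 2 by omega)
            with h | h | h | h
          · rw [hcA p h]
          · rw [hcB p h]; exact hx0
          · rw [hcC p h.1 h.2]; norm_num
          · rw [hcD p h]; norm_num
        obtain ⟨p, hp, hlt⟩ := C.vinberg c hc0 ⟨jn, by rw [hcC jn (by omega) (by omega)]; norm_num⟩
        have hpl := p.isLt
        rcases (show p.val < j.val ∨ p.val = j.val ∨ p.val = j.val + 1 ∨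
            (j.val + 2 ≤ p.val ∧ p.val + 3 ≤ t) ∨ p.val + 2 = t ∨ p.val + 1 = t ∨ p.val = t by omega)
          with h | h | h | h | h | h | h
        · rw [hcA p h] at hp; exact lt_irrefl _ hp
        · have hpj : p = j := Fin.ext h
          subst hpj
          have := C.rowsum_nonneg1 c hc0 p jn (fin_ne (by omega)) x hx1
            (by rw [hcB p rfl, hcC jn (by omega) (by omega)]; ring_nf; exact le_rfl)
          linarith
        · have hpj : p = jn := Fin.ext h
          rw [hpj] at hlt
          have hq : jn.val + 1 < t + 1 := by omega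
          have hrow := C.rowsum_ge2 c hc0 jn j ⟨jn.val + 1, hq⟩ (fin_ne (by omega))
            (fin_ne (by simp only; omega)) (fin_ne (by simp only; omega))
          rw [C.diag, hWjn, hcC jn (by omega) (by omega), hcB j rfl,
            hcC ⟨jn.val + 1, hq⟩ (by simp only; omega) (by simp only; omega),
            hAjn ⟨jn.val + 1, hq⟩ rfl, C.symm jn j] at hrow
          linarith
        · have hql : p.val - 1 < t + 1 := by omega
          have hqr : p.val + 1 < t + 1 := by omega
          obtain ⟨hWp, hAp⟩ := ih (t - 2 - p.val) (by omega) p (by omega)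
          obtain ⟨hWl, hAl⟩ := ih (t - 2 - (p.val - 1)) (by omega) ⟨p.val - 1, hql⟩ (by simp only; omega)
          have e1 : C.A p ⟨p.val - 1, hql⟩ = w := by
            rw [C.symm]; exact hAl p (by simp only; omega)
          have e2 : C.A p ⟨p.val + 1, hqr⟩ = w := hAp _ rfl
          have := C.rowsum_nonneg2 c hc0 p ⟨p.val - 1, hql⟩ ⟨p.val + 1, hqr⟩
            (fin_ne (by simp only; omega)) (fin_ne (by simp only; omega)) (fin_ne (by simp only; omega))
            1 1 (by rw [e1, hWp, one_mul]) (by rw [e2, hWp, one_mul])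
            (by rw [hcC p (by omega) (by omega), hcC ⟨p.val - 1, hql⟩ (by simp only; omega) (by simp only; omega),
              hcC ⟨p.val + 1, hqr⟩ (by simp only; omega) (by simp only; omega)]; norm_num)
          linarith
        · have hWp := hWfork p (by omega)
          have e1 : C.A p ⟨t - 3, h3⟩ = w := hAfork p _ h (Or.inl (by simp only; omega))
          have e2 : C.A p ⟨t - 1, h1⟩ = w := hAfork p _ h (Or.inr (Or.inl (by simp only; omega)))
          have e3 : C.A p ⟨t, h0⟩ = w := hAfork p _ h (Or.inr (Or.inr rfl))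
          have := C.rowsum_nonneg3 c hc0 p ⟨t - 3, h3⟩ ⟨t - 1, h1⟩ ⟨t, h0⟩
            (fin_ne (by simp only; omega)) (fin_ne (by simp only; omega)) (fin_ne (by simp only; omega))
            (fin_ne (by simp only; omega)) (fin_ne (by simp only; omega)) (fin_ne (by simp only; omega))
            1 1 1 (by rw [e1, hWp, one_mul]) (by rw [e2, hWp, one_mul]) (by rw [e3, hWp, one_mul])
            (by rw [hcC p (by omega) (by omega), hcC ⟨t - 3, h3⟩ (by simp only; omega) (by simp only; omega),
              hcD ⟨t - 1, h1⟩ (by simp only; omega), hcD ⟨t, h0⟩ (by simp only; omega)]; norm_num)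
          linarith
        · have hWp := hWfork p (by omega)
          have e1 : C.A p ⟨t - 2, h2⟩ = w := by
            rw [C.symm]; exact hAfork _ p (by simp only; omega) (Or.inr (Or.inl h))
          have := C.rowsum_nonneg1 c hc0 p ⟨t - 2, h2⟩ (fin_ne (by simp only; omega)) 1
            (by rw [e1, hWp, one_mul])
            (by rw [hcD p (by omega), hcC ⟨t - 2, h2⟩ (by simp only; omega) (by simp only; omega)]; norm_num)
          linarith
        · have hWp := hWfork p (by omega)
          have e1 : C.A p ⟨t - 2, h2⟩ = w := by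
            rw [C.symm]; exact hAfork _ p (by simp only; omega) (Or.inr (Or.inr h))
          have := C.rowsum_nonneg1 c hc0 p ⟨t - 2, h2⟩ (fin_ne (by simp only; omega)) 1
            (by rw [e1, hWp, one_mul])
            (by rw [hcD p (by omega), hcC ⟨t - 2, h2⟩ (by simp only; omega) (by simp only; omega)]; norm_num)
          linarith
      have hle1 := C.le_of_pos j jn hapos
      have hle2 := C.le_of_pos' j jn hapos
      have ea : C.A j jn = w := by
        rcases Groth.Agent.Helper6.Cfg.eq_or_two_le (C.W_pos jn) hapos (C.dvd' j jn) with h | h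
        · rw [h, hWjn]
        · exfalso
          exact test 1 (by norm_num) (by linarith) (by rw [hWjn] at h; linarith)
      have eW : C.W j = w := by
        rcases Groth.Agent.Helper6.Cfg.eq_or_two_le (C.W_pos j) hapos (C.dvd j jn) with h | h
        · rw [← h, ea]
        · exfalso
          exact test 2 (by norm_num) (by linarith) (by rw [hWjn] at hle2; linarith)
      refine ⟨eW, fun j' hj' => ?_⟩
      rw [show j' = jn from Fin.ext (by omega)]
      exact ea
  refine ⟨w, ?_, ?_, ?_, hzero⟩
  · intro j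
    have hjl := j.isLt
    rcases (show j.val + 2 ≤ t ∨ t ≤ j.val + 3 by omega) with h | h
    · exact (key (t - 2 - j.val) j (by omega)).1
    · exact hWfork j h
  · intro j j' h1' h2'
    exact (key (t - 2 - j.val) j (by omega)).2 j' h1'
  · intro j j' h1' h2'
    exact hAfork j j' h1' (Or.inr (Or.inr h2'))

end Groth.Agent.S7355
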