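import Groth.Statements.S7362
import Groth.Agent.Lib.Helper6.NumType6

set_option autoImplicit false
open Finset
open Models Models.NumericalType

namespace Groth.Agent.S7362

/-- Genus one classification: case n = 2: let T be a minimal numerical type of genus 1 on two indices.
Then for some ordering i, j of the indices and some integers m, w, either m_i = m_j = m, a_ii = a_jj
= -2w, a_ij = 2w, w_i = w_j = w, g_i = g_j = 0; or m_i = 2m, m_j = m, a_ii = -2w, a_ij = 4w, a_jj =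
-8w, w_i = w, w_j = 4w, g_i = g_j = 0. Only the classification direction is stated. -/
theorem result (T : Models.NumericalType 2) (hmin : T.IsMinimal) (hg : T.genus = 1) :
    ∃ (i j : Fin 2) (m w : ℤ), i ≠ j ∧ T.g i = 0 ∧ T.g j = 0 ∧
      ((T.m i = m ∧ T.m j = m ∧ T.a i i = -2 * w ∧ T.a i j = 2 * w ∧ T.a j j = -2 * w ∧ T.w i = w ∧ T.w j = w) ∨
        (T.m i = 2 * m ∧ T.m j = m ∧ T.a i i = -2 * w ∧ T.a i j = 4 * w ∧ T.a j j = -8 * w ∧ T.w i = w ∧ T.w j = 4 * w)) := by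
  have h2 := Groth.Agent.Helper6.NT.all_minusTwo T (by norm_num) hmin hg
  obtain ⟨hg0, ha0⟩ := h2 0
  obtain ⟨hg1, ha1⟩ := h2 1
  have r0 := Groth.Agent.Helper6.NT.row T 0
  have r1 := Groth.Agent.Helper6.NT.row T 1
  simp only [Fin.sum_univ_two] at r0 r1
  have hsym : T.a 1 0 = T.a 0 1 := Groth.Agent.Helper6.NT.symm' T 1 0
  rw [hsym] at r1
  rw [ha0] at r0
  rw [ha1] at r1
  have hm0 := T.m_pos 0
  have hm1 := T.m_pos 1
  have hw0 := T.w_pos 0
  have hw1 := T.w_pos 1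
  obtain ⟨s, hs⟩ := T.w_dvd 0 1
  obtain ⟨r, hr⟩ : T.w 1 ∣ T.a 0 1 := by rw [← hsym]; exact T.w_dvd 1 0
  -- 2 m0 = s m1, 2 m1 = r m0
  have e0 : 2 * T.m 0 = s * T.m 1 := by
    have : T.w 0 * (2 * T.m 0) = T.w 0 * (s * T.m 1) := by rw [hs] at r0; linarith
    exact mul_left_cancel₀ hw0.ne' this
  have e1 : 2 * T.m 1 = r * T.m 0 := by
    have : T.w 1 * (2 * T.m 1) = T.w 1 * (r * T.m 0) := by rw [hr] at r1; linarith
    exact mul_left_cancel₀ hw1.ne' this
  have hs0 : 0 < s := by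
    by_contra hc; push Not at hc; nlinarith
  have hr0 : 0 < r := by
    by_contra hc; push Not at hc; nlinarith
  have hsr : s * r = 4 := by
    have : T.m 0 * (s * r) = T.m 0 * 4 := by
      calc T.m 0 * (s * r) = s * (r * T.m 0) := by ring
        _ = s * (2 * T.m 1) := by rw [e1]
        _ = 2 * (s * T.m 1) := by ring
        _ = 2 * (2 * T.m 0) := by rw [e0]
        _ = T.m 0 * 4 := by ring
    exact mul_left_cancel₀ hm0.ne' this
  have hs4 : s ≤ 4 := by nlinarith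
  have hr4 : r ≤ 4 := by nlinarith
  have hcases : (s = 2 ∧ r = 2) ∨ (s = 4 ∧ r = 1) ∨ (s = 1 ∧ r = 4) := by
    interval_cases s <;> interval_cases r <;> simp_all
  rcases hcases with ⟨rfl, rfl⟩ | ⟨rfl, rfl⟩ | ⟨rfl, rfl⟩
  · refine ⟨0, 1, T.m 0, T.w 0, by decide, hg0, hg1, Or.inl ⟨rfl, by linarith, ha0, by rw [hs]; ring, ?_, rfl, by linarith⟩⟩
    rw [ha1]; linarith
  · refine ⟨0, 1, T.m 1, T.w 0, by decide, hg0, hg1, Or.inr ⟨by linarith, rfl, ha0, by rw [hs]; ring, ?_, rfl, by linarith⟩⟩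
    rw [ha1]; linarith
  · refine ⟨1, 0, T.m 0, T.w 1, by decide, hg1, hg0, Or.inr ⟨by linarith, rfl, ha1, by rw [hsym, hr]; ring, ?_, rfl, by linarith⟩⟩
    rw [ha0]; linarith

end Groth.Agent.S7362
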