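import Groth.Statements.S7363
import Groth.Agent.Lib.Helper6.NumType16

set_option autoImplicit false
open Finset
open Models Models.NumericalType

namespace Groth.Agent.S7363

/-- Genus one classification: case n = 3: let T be a minimal numerical type of genus 1 on three indices.
Then all g = 0 and, for some ordering i, j, k of the indices and some integers m, w, the data (m; a;
w) is one of: (m,m,m; a_ii = a_jj = a_kk = -2w, a_ij = a_ik = a_jk = w; w,w,w); (m,2m,m; a_ii = -2w,
a_ij = w, a_ik = 0, a_jj = -2w, a_jk = 3w, a_kk = -6w; w,w,3w); (m,2m,3m; a_ii = -6w, a_ij = 3w,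
a_ik = 0, a_jj = -6w, a_jk = 3w, a_kk = -2w; 3w,3w,w); (2m,2m,m; a_ii = -2w, a_ij = 2w, a_ik = 0,
a_jj = -4w, a_jk = 4w, a_kk = -8w; w,2w,4w); (m,m,m; a_ii = -2w, a_ij = 2w, a_ik = 0, a_jj = -4w,
a_jk = 2w, a_kk = -2w; w,2w,w); (m,2m,m; a_ii = -4w, a_ij = 2w, a_ik = 0, a_jj = -2w, a_jk = 2w,
a_kk = -4w; 2w,w,2w). Only the classification direction is stated. -/
theorem result (T : Models.NumericalType 3) (hmin : T.IsMinimal) (hg : T.genus = 1) :
    ∃ (i j k : Fin 3) (m w : ℤ), i ≠ j ∧ j ≠ k ∧ i ≠ k ∧ T.g i = 0 ∧ T.g j = 0 ∧ T.g k = 0 ∧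
      ((T.m i = m ∧ T.m j = m ∧ T.m k = m ∧ T.a i i = -2 * w ∧ T.a j j = -2 * w ∧ T.a k k = -2 * w ∧
          T.a i j = w ∧ T.a i k = w ∧ T.a j k = w ∧ T.w i = w ∧ T.w j = w ∧ T.w k = w) ∨
        (T.m i = m ∧ T.m j = 2 * m ∧ T.m k = m ∧ T.a i i = -2 * w ∧ T.a i j = w ∧ T.a i k = 0 ∧ T.a j j = -2 * w ∧
          T.a j k = 3 * w ∧ T.a k k = -6 * w ∧ T.w i = w ∧ T.w j = w ∧ T.w k = 3 * w) ∨
        (T.m i = m ∧ T.m j = 2 * m ∧ T.m k = 3 * m ∧ T.a i i = -6 * w ∧ T.a i j = 3 * w ∧ T.a i k = 0 ∧ T.a j j = -6 * w ∧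
          T.a j k = 3 * w ∧ T.a k k = -2 * w ∧ T.w i = 3 * w ∧ T.w j = 3 * w ∧ T.w k = w) ∨
        (T.m i = 2 * m ∧ T.m j = 2 * m ∧ T.m k = m ∧ T.a i i = -2 * w ∧ T.a i j = 2 * w ∧ T.a i k = 0 ∧ T.a j j = -4 * w ∧
          T.a j k = 4 * w ∧ T.a k k = -8 * w ∧ T.w i = w ∧ T.w j = 2 * w ∧ T.w k = 4 * w) ∨
        (T.m i = m ∧ T.m j = m ∧ T.m k = m ∧ T.a i i = -2 * w ∧ T.a i j = 2 * w ∧ T.a i k = 0 ∧ T.a j j = -4 * w ∧
          T.a j k = 2 * w ∧ T.a k k = -2 * w ∧ T.w i = w ∧ T.w j = 2 * w ∧ T.w k = w) ∨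
        (T.m i = m ∧ T.m j = 2 * m ∧ T.m k = m ∧ T.a i i = -4 * w ∧ T.a i j = 2 * w ∧ T.a i k = 0 ∧ T.a j j = -2 * w ∧
          T.a j k = 2 * w ∧ T.a k k = -4 * w ∧ T.w i = 2 * w ∧ T.w j = w ∧ T.w k = 2 * w)) := by
  have h2 := Groth.Agent.Helper6.NT.all_minusTwo T (by norm_num) hmin hg
  obtain ⟨u0, -⟩ : ∃ u0 : Fin 3, True := ⟨0, trivial⟩
  by_cases hx : ∃ j, j ≠ u0 ∧ T.a u0 j ≠ 0
  · obtain ⟨u1, hn_1_0, e_0_1⟩ := hx
    rcases Groth.Agent.Helper6.NT.edge5 T h2 (by norm_num) u0 u1 hn_1_0.symm e_0_1 with ⟨tw_0_1, tap_0_1, taq_0_1⟩ | ⟨tw_0_1, tap_0_1, taq_0_1⟩ | ⟨tw_0_1, tap_0_1, taq_0_1⟩ | ⟨tw_0_1, tap_0_1, taq_0_1⟩ | ⟨tw_0_1, tap_0_1, taq_0_1⟩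
    · -- (0,1) S
      by_cases hx : ∃ j, (j ≠ u0 ∧ j ≠ u1) ∧ T.a u0 j ≠ 0
      · obtain ⟨u2, ⟨hn_2_0, hn_2_1⟩, e_0_2⟩ := hx
        rcases Groth.Agent.Helper6.NT.edge5 T h2 (by norm_num) u0 u2 hn_2_0.symm e_0_2 with ⟨tw_0_2, tap_0_2, taq_0_2⟩ | ⟨tw_0_2, tap_0_2, taq_0_2⟩ | ⟨tw_0_2, tap_0_2, taq_0_2⟩ | ⟨tw_0_2, tap_0_2, taq_0_2⟩ | ⟨tw_0_2, tap_0_2, taq_0_2⟩
        · -- (0,2) S
          rcases eq_or_ne (T.a u1 u2) 0 with z_1_2 | nz_1_2
          · -- (1,2) zero
            have hinj := Groth.Agent.Helper6.NT.inj3 u0 u1 u2 hn_1_0 hn_2_0 hn_2_1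
            have r_0 : -2 * T.m u0 + 1 * T.m u1 + 1 * T.m u2 = 0 := by
              have key := Groth.Agent.Helper6.NT.rowfun3 T u0 u1 u2 hinj u0
              rw [(h2 u0).2, tap_0_1, tap_0_2] at key
              exact mul_left_cancel₀ (T.w_pos u0).ne' (by linarith only [key])
            have r_1 : 1 * T.m u0 + -2 * T.m u1 = 0 := by
              have key := Groth.Agent.Helper6.NT.rowfun3 T u0 u1 u2 hinj u1
              rw [Groth.Agent.Helper6.NT.symm' T u1 u0, taq_0_1, (h2 u1).2, z_1_2] at key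
              exact mul_left_cancel₀ (T.w_pos u1).ne' (by linarith only [key])
            have r_2 : 1 * T.m u0 + -2 * T.m u2 = 0 := by
              have key := Groth.Agent.Helper6.NT.rowfun3 T u0 u1 u2 hinj u2
              rw [Groth.Agent.Helper6.NT.symm' T u2 u0, taq_0_2, Groth.Agent.Helper6.NT.symm' T u2 u1, z_1_2, (h2 u2).2] at key
              exact mul_left_cancel₀ (T.w_pos u2).ne' (by linarith only [key])
            exfalso
            linarith only [r_0, r_1, r_2, T.m_pos u0, T.m_pos u1, T.m_pos u2]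
          · -- (1,2) nonzero
            obtain ⟨lbp_1_2, lbq_1_2⟩ := Groth.Agent.Helper6.NT.lb T u1 u2 hn_2_1.symm nz_1_2
            rcases Groth.Agent.Helper6.NT.edge5 T h2 (by norm_num) u1 u2 hn_2_1.symm nz_1_2 with ⟨tw_1_2, tap_1_2, taq_1_2⟩ | ⟨tw_1_2, tap_1_2, taq_1_2⟩ | ⟨tw_1_2, tap_1_2, taq_1_2⟩ | ⟨tw_1_2, tap_1_2, taq_1_2⟩ | ⟨tw_1_2, tap_1_2, taq_1_2⟩
            · -- (1,2) S
              have hinj := Groth.Agent.Helper6.NT.inj3 u0 u1 u2 hn_1_0 hn_2_0 hn_2_1
              have r_0 : -2 * T.m u0 + 1 * T.m u1 + 1 * T.m u2 = 0 := by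
                have key := Groth.Agent.Helper6.NT.rowfun3 T u0 u1 u2 hinj u0
                rw [(h2 u0).2, tap_0_1, tap_0_2] at key
                exact mul_left_cancel₀ (T.w_pos u0).ne' (by linarith only [key])
              have r_1 : 1 * T.m u0 + -2 * T.m u1 + 1 * T.m u2 = 0 := by
                have key := Groth.Agent.Helper6.NT.rowfun3 T u0 u1 u2 hinj u1
                rw [Groth.Agent.Helper6.NT.symm' T u1 u0, taq_0_1, (h2 u1).2, tap_1_2] at key
                exact mul_left_cancel₀ (T.w_pos u1).ne' (by linarith only [key])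
              have r_2 : 1 * T.m u0 + 1 * T.m u1 + -2 * T.m u2 = 0 := by
                have key := Groth.Agent.Helper6.NT.rowfun3 T u0 u1 u2 hinj u2
                rw [Groth.Agent.Helper6.NT.symm' T u2 u0, taq_0_2, Groth.Agent.Helper6.NT.symm' T u2 u1, taq_1_2, (h2 u2).2] at key
                exact mul_left_cancel₀ (T.w_pos u2).ne' (by linarith only [key])
              have f0 : T.m u0 = T.m u0 := rfl
              have f1 : T.m u1 = T.m u0 := by linarith only [r_0, r_1, r_2]
              have f2 : T.m u2 = T.m u0 := by linarith only [r_0, r_1, r_2]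
              have f3 : T.a u0 u0 = -2 * T.w u0 := by have := (h2 u0).2; linarith only [this, tw_0_1, tw_1_2, tw_0_2]
              have f4 : T.a u1 u1 = -2 * T.w u0 := by have := (h2 u1).2; linarith only [this, tw_0_1, tw_1_2, tw_0_2]
              have f5 : T.a u2 u2 = -2 * T.w u0 := by have := (h2 u2).2; linarith only [this, tw_0_1, tw_1_2, tw_0_2]
              have f6 : T.a u0 u1 = T.w u0 := by linarith only [tap_0_1, tw_0_1, tw_1_2, tw_0_2]
              have f7 : T.a u0 u2 = T.w u0 := by linarith only [tap_0_2, tw_0_1, tw_1_2, tw_0_2]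
              have f8 : T.a u1 u2 = T.w u0 := by linarith only [tap_1_2, tw_0_1, tw_1_2, tw_0_2]
              have f9 : T.w u0 = T.w u0 := rfl
              have f10 : T.w u1 = T.w u0 := by linarith only [tw_0_1, tw_1_2, tw_0_2]
              have f11 : T.w u2 = T.w u0 := by linarith only [tw_0_1, tw_1_2, tw_0_2]
              exact ⟨u0, u1, u2, T.m u0, T.w u0, hn_1_0.symm, hn_2_1.symm, hn_2_0.symm, (h2 u0).1, (h2 u1).1, (h2 u2).1, Or.inl ⟨f0, f1, f2, f3, f4, f5, f6, f7, f8, f9, f10, f11⟩⟩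
            · -- (1,2) Dp
              exfalso
              linarith only [tap_0_1, tap_1_2, tap_0_2, taq_0_1, taq_1_2, taq_0_2, T.w_pos u0, T.w_pos u1, T.w_pos u2]
            · -- (1,2) Dm
              exfalso
              linarith only [tap_0_1, tap_1_2, tap_0_2, taq_0_1, taq_1_2, taq_0_2, T.w_pos u0, T.w_pos u1, T.w_pos u2]
            · -- (1,2) Tp
              exfalso
              linarith only [tap_0_1, tap_1_2, tap_0_2, taq_0_1, taq_1_2, taq_0_2, T.w_pos u0, T.w_pos u1, T.w_pos u2]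
            · -- (1,2) Tm
              exfalso
              linarith only [tap_0_1, tap_1_2, tap_0_2, taq_0_1, taq_1_2, taq_0_2, T.w_pos u0, T.w_pos u1, T.w_pos u2]
        · -- (0,2) Dp
          rcases eq_or_ne (T.a u1 u2) 0 with z_1_2 | nz_1_2
          · -- (1,2) zero
            have hinj := Groth.Agent.Helper6.NT.inj3 u0 u1 u2 hn_1_0 hn_2_0 hn_2_1
            have r_0 : -2 * T.m u0 + 1 * T.m u1 + 2 * T.m u2 = 0 := by
              have key := Groth.Agent.Helper6.NT.rowfun3 T u0 u1 u2 hinj u0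
              rw [(h2 u0).2, tap_0_1, tap_0_2] at key
              exact mul_left_cancel₀ (T.w_pos u0).ne' (by linarith only [key])
            have r_1 : 1 * T.m u0 + -2 * T.m u1 = 0 := by
              have key := Groth.Agent.Helper6.NT.rowfun3 T u0 u1 u2 hinj u1
              rw [Groth.Agent.Helper6.NT.symm' T u1 u0, taq_0_1, (h2 u1).2, z_1_2] at key
              exact mul_left_cancel₀ (T.w_pos u1).ne' (by linarith only [key])
            have r_2 : 1 * T.m u0 + -2 * T.m u2 = 0 := by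
              have key := Groth.Agent.Helper6.NT.rowfun3 T u0 u1 u2 hinj u2
              rw [Groth.Agent.Helper6.NT.symm' T u2 u0, taq_0_2, Groth.Agent.Helper6.NT.symm' T u2 u1, z_1_2, (h2 u2).2] at key
              exact mul_left_cancel₀ (T.w_pos u2).ne' (by linarith only [key])
            exfalso
            linarith only [r_0, r_1, r_2, T.m_pos u0, T.m_pos u1, T.m_pos u2]
          · -- (1,2) nonzero
            obtain ⟨lbp_1_2, lbq_1_2⟩ := Groth.Agent.Helper6.NT.lb T u1 u2 hn_2_1.symm nz_1_2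
            rcases Groth.Agent.Helper6.NT.edge5 T h2 (by norm_num) u1 u2 hn_2_1.symm nz_1_2 with ⟨tw_1_2, tap_1_2, taq_1_2⟩ | ⟨tw_1_2, tap_1_2, taq_1_2⟩ | ⟨tw_1_2, tap_1_2, taq_1_2⟩ | ⟨tw_1_2, tap_1_2, taq_1_2⟩ | ⟨tw_1_2, tap_1_2, taq_1_2⟩
            · -- (1,2) S
              exfalso
              linarith only [tap_0_1, tap_1_2, tap_0_2, taq_0_1, taq_1_2, taq_0_2, T.w_pos u0, T.w_pos u1, T.w_pos u2]
            · -- (1,2) Dp
              exfalso
              have key := Groth.Agent.Helper6.NT.nonposfun3 T h2 u0 u1 u2 3 3 2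
              linarith only [key, tap_0_1, taq_0_1, tap_0_2, taq_0_2, tap_1_2, taq_1_2, T.w_pos u0, T.w_pos u1, T.w_pos u2]
            · -- (1,2) Dm
              exfalso
              linarith only [tap_0_1, tap_1_2, tap_0_2, taq_0_1, taq_1_2, taq_0_2, T.w_pos u0, T.w_pos u1, T.w_pos u2]
            · -- (1,2) Tp
              exfalso
              linarith only [tap_0_1, tap_1_2, tap_0_2, taq_0_1, taq_1_2, taq_0_2, T.w_pos u0, T.w_pos u1, T.w_pos u2]
            · -- (1,2) Tm
              exfalso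
              linarith only [tap_0_1, tap_1_2, tap_0_2, taq_0_1, taq_1_2, taq_0_2, T.w_pos u0, T.w_pos u1, T.w_pos u2]
        · -- (0,2) Dm
          rcases eq_or_ne (T.a u1 u2) 0 with z_1_2 | nz_1_2
          · -- (1,2) zero
            have hinj := Groth.Agent.Helper6.NT.inj3 u0 u1 u2 hn_1_0 hn_2_0 hn_2_1
            have r_0 : -2 * T.m u0 + 1 * T.m u1 + 1 * T.m u2 = 0 := by
              have key := Groth.Agent.Helper6.NT.rowfun3 T u0 u1 u2 hinj u0
              rw [(h2 u0).2, tap_0_1, tap_0_2] at key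
              exact mul_left_cancel₀ (T.w_pos u0).ne' (by linarith only [key])
            have r_1 : 1 * T.m u0 + -2 * T.m u1 = 0 := by
              have key := Groth.Agent.Helper6.NT.rowfun3 T u0 u1 u2 hinj u1
              rw [Groth.Agent.Helper6.NT.symm' T u1 u0, taq_0_1, (h2 u1).2, z_1_2] at key
              exact mul_left_cancel₀ (T.w_pos u1).ne' (by linarith only [key])
            have r_2 : 2 * T.m u0 + -2 * T.m u2 = 0 := by
              have key := Groth.Agent.Helper6.NT.rowfun3 T u0 u1 u2 hinj u2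
              rw [Groth.Agent.Helper6.NT.symm' T u2 u0, taq_0_2, Groth.Agent.Helper6.NT.symm' T u2 u1, z_1_2, (h2 u2).2] at key
              exact mul_left_cancel₀ (T.w_pos u2).ne' (by linarith only [key])
            exfalso
            linarith only [r_0, r_1, r_2, T.m_pos u0, T.m_pos u1, T.m_pos u2]
          · -- (1,2) nonzero
            obtain ⟨lbp_1_2, lbq_1_2⟩ := Groth.Agent.Helper6.NT.lb T u1 u2 hn_2_1.symm nz_1_2
            rcases Groth.Agent.Helper6.NT.edge5 T h2 (by norm_num) u1 u2 hn_2_1.symm nz_1_2 with ⟨tw_1_2, tap_1_2, taq_1_2⟩ | ⟨tw_1_2, tap_1_2, taq_1_2⟩ | ⟨tw_1_2, tap_1_2, taq_1_2⟩ | ⟨tw_1_2, tap_1_2, taq_1_2⟩ | ⟨tw_1_2, tap_1_2, taq_1_2⟩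
            · -- (1,2) S
              exfalso
              linarith only [tap_0_1, tap_1_2, tap_0_2, taq_0_1, taq_1_2, taq_0_2, T.w_pos u0, T.w_pos u1, T.w_pos u2]
            · -- (1,2) Dp
              exfalso
              linarith only [tap_0_1, tap_1_2, tap_0_2, taq_0_1, taq_1_2, taq_0_2, T.w_pos u0, T.w_pos u1, T.w_pos u2]
            · -- (1,2) Dm
              exfalso
              have key := Groth.Agent.Helper6.NT.nonposfun3 T h2 u0 u1 u2 2 2 3
              linarith only [key, tap_0_1, taq_0_1, tap_0_2, taq_0_2, tap_1_2, taq_1_2, T.w_pos u0, T.w_pos u1, T.w_pos u2]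
            · -- (1,2) Tp
              exfalso
              linarith only [tap_0_1, tap_1_2, tap_0_2, taq_0_1, taq_1_2, taq_0_2, T.w_pos u0, T.w_pos u1, T.w_pos u2]
            · -- (1,2) Tm
              exfalso
              linarith only [tap_0_1, tap_1_2, tap_0_2, taq_0_1, taq_1_2, taq_0_2, T.w_pos u0, T.w_pos u1, T.w_pos u2]
        · -- (0,2) Tp
          rcases eq_or_ne (T.a u1 u2) 0 with z_1_2 | nz_1_2
          · -- (1,2) zero
            have hinj := Groth.Agent.Helper6.NT.inj3 u0 u1 u2 hn_1_0 hn_2_0 hn_2_1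
            have r_0 : -2 * T.m u0 + 1 * T.m u1 + 3 * T.m u2 = 0 := by
              have key := Groth.Agent.Helper6.NT.rowfun3 T u0 u1 u2 hinj u0
              rw [(h2 u0).2, tap_0_1, tap_0_2] at key
              exact mul_left_cancel₀ (T.w_pos u0).ne' (by linarith only [key])
            have r_1 : 1 * T.m u0 + -2 * T.m u1 = 0 := by
              have key := Groth.Agent.Helper6.NT.rowfun3 T u0 u1 u2 hinj u1
              rw [Groth.Agent.Helper6.NT.symm' T u1 u0, taq_0_1, (h2 u1).2, z_1_2] at key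
              exact mul_left_cancel₀ (T.w_pos u1).ne' (by linarith only [key])
            have r_2 : 1 * T.m u0 + -2 * T.m u2 = 0 := by
              have key := Groth.Agent.Helper6.NT.rowfun3 T u0 u1 u2 hinj u2
              rw [Groth.Agent.Helper6.NT.symm' T u2 u0, taq_0_2, Groth.Agent.Helper6.NT.symm' T u2 u1, z_1_2, (h2 u2).2] at key
              exact mul_left_cancel₀ (T.w_pos u2).ne' (by linarith only [key])
            have f0 : T.m u1 = T.m u1 := rfl
            have f1 : T.m u0 = 2 * T.m u1 := by linarith only [r_0, r_1, r_2]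
            have f2 : T.m u2 = T.m u1 := by linarith only [r_0, r_1, r_2]
            have f3 : T.a u1 u1 = -2 * T.w u1 := by have := (h2 u1).2; linarith only [this, tw_0_1, tw_0_2]
            have f4 : T.a u1 u0 = T.w u1 := by rw [Groth.Agent.Helper6.NT.symm' T u1 u0]; linarith only [tap_0_1, tw_0_1, tw_0_2]
            have f5 : T.a u1 u2 = 0 := by exact z_1_2
            have f6 : T.a u0 u0 = -2 * T.w u1 := by have := (h2 u0).2; linarith only [this, tw_0_1, tw_0_2]
            have f7 : T.a u0 u2 = 3 * T.w u1 := by linarith only [tap_0_2, tw_0_1, tw_0_2]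
            have f8 : T.a u2 u2 = -6 * T.w u1 := by have := (h2 u2).2; linarith only [this, tw_0_1, tw_0_2]
            have f9 : T.w u1 = T.w u1 := rfl
            have f10 : T.w u0 = T.w u1 := by linarith only [tw_0_1, tw_0_2]
            have f11 : T.w u2 = 3 * T.w u1 := by linarith only [tw_0_1, tw_0_2]
            exact ⟨u1, u0, u2, T.m u1, T.w u1, hn_1_0, hn_2_0.symm, hn_2_1.symm, (h2 u1).1, (h2 u0).1, (h2 u2).1, Or.inr (Or.inl ⟨f0, f1, f2, f3, f4, f5, f6, f7, f8, f9, f10, f11⟩)⟩
          · -- (1,2) nonzero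
            obtain ⟨lbp_1_2, lbq_1_2⟩ := Groth.Agent.Helper6.NT.lb T u1 u2 hn_2_1.symm nz_1_2
            rcases Groth.Agent.Helper6.NT.edge5 T h2 (by norm_num) u1 u2 hn_2_1.symm nz_1_2 with ⟨tw_1_2, tap_1_2, taq_1_2⟩ | ⟨tw_1_2, tap_1_2, taq_1_2⟩ | ⟨tw_1_2, tap_1_2, taq_1_2⟩ | ⟨tw_1_2, tap_1_2, taq_1_2⟩ | ⟨tw_1_2, tap_1_2, taq_1_2⟩
            · -- (1,2) S
              exfalso
              linarith only [tap_0_1, tap_1_2, tap_0_2, taq_0_1, taq_1_2, taq_0_2, T.w_pos u0, T.w_pos u1, T.w_pos u2]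
            · -- (1,2) Dp
              exfalso
              linarith only [tap_0_1, tap_1_2, tap_0_2, taq_0_1, taq_1_2, taq_0_2, T.w_pos u0, T.w_pos u1, T.w_pos u2]
            · -- (1,2) Dm
              exfalso
              linarith only [tap_0_1, tap_1_2, tap_0_2, taq_0_1, taq_1_2, taq_0_2, T.w_pos u0, T.w_pos u1, T.w_pos u2]
            · -- (1,2) Tp
              exfalso
              have key := Groth.Agent.Helper6.NT.nonposfun3 T h2 u0 u1 u2 3 3 2
              linarith only [key, tap_0_1, taq_0_1, tap_0_2, taq_0_2, tap_1_2, taq_1_2, T.w_pos u0, T.w_pos u1, T.w_pos u2]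
            · -- (1,2) Tm
              exfalso
              linarith only [tap_0_1, tap_1_2, tap_0_2, taq_0_1, taq_1_2, taq_0_2, T.w_pos u0, T.w_pos u1, T.w_pos u2]
        · -- (0,2) Tm
          rcases eq_or_ne (T.a u1 u2) 0 with z_1_2 | nz_1_2
          · -- (1,2) zero
            have hinj := Groth.Agent.Helper6.NT.inj3 u0 u1 u2 hn_1_0 hn_2_0 hn_2_1
            have r_0 : -2 * T.m u0 + 1 * T.m u1 + 1 * T.m u2 = 0 := by
              have key := Groth.Agent.Helper6.NT.rowfun3 T u0 u1 u2 hinj u0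
              rw [(h2 u0).2, tap_0_1, tap_0_2] at key
              exact mul_left_cancel₀ (T.w_pos u0).ne' (by linarith only [key])
            have r_1 : 1 * T.m u0 + -2 * T.m u1 = 0 := by
              have key := Groth.Agent.Helper6.NT.rowfun3 T u0 u1 u2 hinj u1
              rw [Groth.Agent.Helper6.NT.symm' T u1 u0, taq_0_1, (h2 u1).2, z_1_2] at key
              exact mul_left_cancel₀ (T.w_pos u1).ne' (by linarith only [key])
            have r_2 : 3 * T.m u0 + -2 * T.m u2 = 0 := by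
              have key := Groth.Agent.Helper6.NT.rowfun3 T u0 u1 u2 hinj u2
              rw [Groth.Agent.Helper6.NT.symm' T u2 u0, taq_0_2, Groth.Agent.Helper6.NT.symm' T u2 u1, z_1_2, (h2 u2).2] at key
              exact mul_left_cancel₀ (T.w_pos u2).ne' (by linarith only [key])
            have f0 : T.m u1 = T.m u1 := rfl
            have f1 : T.m u0 = 2 * T.m u1 := by linarith only [r_0, r_1, r_2]
            have f2 : T.m u2 = 3 * T.m u1 := by linarith only [r_0, r_1, r_2]
            have f3 : T.a u1 u1 = -6 * T.w u2 := by have := (h2 u1).2; linarith only [this, tw_0_1, tw_0_2]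
            have f4 : T.a u1 u0 = 3 * T.w u2 := by rw [Groth.Agent.Helper6.NT.symm' T u1 u0]; linarith only [tap_0_1, tw_0_1, tw_0_2]
            have f5 : T.a u1 u2 = 0 := by exact z_1_2
            have f6 : T.a u0 u0 = -6 * T.w u2 := by have := (h2 u0).2; linarith only [this, tw_0_1, tw_0_2]
            have f7 : T.a u0 u2 = 3 * T.w u2 := by linarith only [tap_0_2, tw_0_1, tw_0_2]
            have f8 : T.a u2 u2 = -2 * T.w u2 := by have := (h2 u2).2; linarith only [this, tw_0_1, tw_0_2]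
            have f9 : T.w u1 = 3 * T.w u2 := by linarith only [tw_0_1, tw_0_2]
            have f10 : T.w u0 = 3 * T.w u2 := by linarith only [tw_0_1, tw_0_2]
            have f11 : T.w u2 = T.w u2 := rfl
            exact ⟨u1, u0, u2, T.m u1, T.w u2, hn_1_0, hn_2_0.symm, hn_2_1.symm, (h2 u1).1, (h2 u0).1, (h2 u2).1, Or.inr (Or.inr (Or.inl ⟨f0, f1, f2, f3, f4, f5, f6, f7, f8, f9, f10, f11⟩))⟩
          · -- (1,2) nonzero
            obtain ⟨lbp_1_2, lbq_1_2⟩ := Groth.Agent.Helper6.NT.lb T u1 u2 hn_2_1.symm nz_1_2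
            rcases Groth.Agent.Helper6.NT.edge5 T h2 (by norm_num) u1 u2 hn_2_1.symm nz_1_2 with ⟨tw_1_2, tap_1_2, taq_1_2⟩ | ⟨tw_1_2, tap_1_2, taq_1_2⟩ | ⟨tw_1_2, tap_1_2, taq_1_2⟩ | ⟨tw_1_2, tap_1_2, taq_1_2⟩ | ⟨tw_1_2, tap_1_2, taq_1_2⟩
            · -- (1,2) S
              exfalso
              linarith only [tap_0_1, tap_1_2, tap_0_2, taq_0_1, taq_1_2, taq_0_2, T.w_pos u0, T.w_pos u1, T.w_pos u2]
            · -- (1,2) Dp
              exfalso
              linarith only [tap_0_1, tap_1_2, tap_0_2, taq_0_1, taq_1_2, taq_0_2, T.w_pos u0, T.w_pos u1, T.w_pos u2]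
            · -- (1,2) Dm
              exfalso
              linarith only [tap_0_1, tap_1_2, tap_0_2, taq_0_1, taq_1_2, taq_0_2, T.w_pos u0, T.w_pos u1, T.w_pos u2]
            · -- (1,2) Tp
              exfalso
              linarith only [tap_0_1, tap_1_2, tap_0_2, taq_0_1, taq_1_2, taq_0_2, T.w_pos u0, T.w_pos u1, T.w_pos u2]
            · -- (1,2) Tm
              exfalso
              have key := Groth.Agent.Helper6.NT.nonposfun3 T h2 u0 u1 u2 1 1 2
              linarith only [key, tap_0_1, taq_0_1, tap_0_2, taq_0_2, tap_1_2, taq_1_2, T.w_pos u0, T.w_pos u1, T.w_pos u2]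
      · push Not at hx
        have cl_0 := hx
        clear hx
        by_cases hx : ∃ j, (j ≠ u0 ∧ j ≠ u1) ∧ T.a u1 j ≠ 0
        · obtain ⟨u2, ⟨hn_2_0, hn_2_1⟩, e_1_2⟩ := hx
          have z_0_2 : T.a u0 u2 = 0 := cl_0 u2 ⟨hn_2_0, hn_2_1⟩
          rcases Groth.Agent.Helper6.NT.edge5 T h2 (by norm_num) u1 u2 hn_2_1.symm e_1_2 with ⟨tw_1_2, tap_1_2, taq_1_2⟩ | ⟨tw_1_2, tap_1_2, taq_1_2⟩ | ⟨tw_1_2, tap_1_2, taq_1_2⟩ | ⟨tw_1_2, tap_1_2, taq_1_2⟩ | ⟨tw_1_2, tap_1_2, taq_1_2⟩
          · -- (1,2) S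
            have hinj := Groth.Agent.Helper6.NT.inj3 u0 u1 u2 hn_1_0 hn_2_0 hn_2_1
            have r_0 : -2 * T.m u0 + 1 * T.m u1 = 0 := by
              have key := Groth.Agent.Helper6.NT.rowfun3 T u0 u1 u2 hinj u0
              rw [(h2 u0).2, tap_0_1, z_0_2] at key
              exact mul_left_cancel₀ (T.w_pos u0).ne' (by linarith only [key])
            have r_1 : 1 * T.m u0 + -2 * T.m u1 + 1 * T.m u2 = 0 := by
              have key := Groth.Agent.Helper6.NT.rowfun3 T u0 u1 u2 hinj u1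
              rw [Groth.Agent.Helper6.NT.symm' T u1 u0, taq_0_1, (h2 u1).2, tap_1_2] at key
              exact mul_left_cancel₀ (T.w_pos u1).ne' (by linarith only [key])
            have r_2 : 1 * T.m u1 + -2 * T.m u2 = 0 := by
              have key := Groth.Agent.Helper6.NT.rowfun3 T u0 u1 u2 hinj u2
              rw [Groth.Agent.Helper6.NT.symm' T u2 u0, z_0_2, Groth.Agent.Helper6.NT.symm' T u2 u1, taq_1_2, (h2 u2).2] at key
              exact mul_left_cancel₀ (T.w_pos u2).ne' (by linarith only [key])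
            exfalso
            linarith only [r_0, r_1, r_2, T.m_pos u0, T.m_pos u1, T.m_pos u2]
          · -- (1,2) Dp
            have hinj := Groth.Agent.Helper6.NT.inj3 u0 u1 u2 hn_1_0 hn_2_0 hn_2_1
            have r_0 : -2 * T.m u0 + 1 * T.m u1 = 0 := by
              have key := Groth.Agent.Helper6.NT.rowfun3 T u0 u1 u2 hinj u0
              rw [(h2 u0).2, tap_0_1, z_0_2] at key
              exact mul_left_cancel₀ (T.w_pos u0).ne' (by linarith only [key])
            have r_1 : 1 * T.m u0 + -2 * T.m u1 + 2 * T.m u2 = 0 := by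
              have key := Groth.Agent.Helper6.NT.rowfun3 T u0 u1 u2 hinj u1
              rw [Groth.Agent.Helper6.NT.symm' T u1 u0, taq_0_1, (h2 u1).2, tap_1_2] at key
              exact mul_left_cancel₀ (T.w_pos u1).ne' (by linarith only [key])
            have r_2 : 1 * T.m u1 + -2 * T.m u2 = 0 := by
              have key := Groth.Agent.Helper6.NT.rowfun3 T u0 u1 u2 hinj u2
              rw [Groth.Agent.Helper6.NT.symm' T u2 u0, z_0_2, Groth.Agent.Helper6.NT.symm' T u2 u1, taq_1_2, (h2 u2).2] at key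
              exact mul_left_cancel₀ (T.w_pos u2).ne' (by linarith only [key])
            exfalso
            linarith only [r_0, r_1, r_2, T.m_pos u0, T.m_pos u1, T.m_pos u2]
          · -- (1,2) Dm
            have hinj := Groth.Agent.Helper6.NT.inj3 u0 u1 u2 hn_1_0 hn_2_0 hn_2_1
            have r_0 : -2 * T.m u0 + 1 * T.m u1 = 0 := by
              have key := Groth.Agent.Helper6.NT.rowfun3 T u0 u1 u2 hinj u0
              rw [(h2 u0).2, tap_0_1, z_0_2] at key
              exact mul_left_cancel₀ (T.w_pos u0).ne' (by linarith only [key])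
            have r_1 : 1 * T.m u0 + -2 * T.m u1 + 1 * T.m u2 = 0 := by
              have key := Groth.Agent.Helper6.NT.rowfun3 T u0 u1 u2 hinj u1
              rw [Groth.Agent.Helper6.NT.symm' T u1 u0, taq_0_1, (h2 u1).2, tap_1_2] at key
              exact mul_left_cancel₀ (T.w_pos u1).ne' (by linarith only [key])
            have r_2 : 2 * T.m u1 + -2 * T.m u2 = 0 := by
              have key := Groth.Agent.Helper6.NT.rowfun3 T u0 u1 u2 hinj u2
              rw [Groth.Agent.Helper6.NT.symm' T u2 u0, z_0_2, Groth.Agent.Helper6.NT.symm' T u2 u1, taq_1_2, (h2 u2).2] at key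
              exact mul_left_cancel₀ (T.w_pos u2).ne' (by linarith only [key])
            exfalso
            linarith only [r_0, r_1, r_2, T.m_pos u0, T.m_pos u1, T.m_pos u2]
          · -- (1,2) Tp
            have hinj := Groth.Agent.Helper6.NT.inj3 u0 u1 u2 hn_1_0 hn_2_0 hn_2_1
            have r_0 : -2 * T.m u0 + 1 * T.m u1 = 0 := by
              have key := Groth.Agent.Helper6.NT.rowfun3 T u0 u1 u2 hinj u0
              rw [(h2 u0).2, tap_0_1, z_0_2] at key
              exact mul_left_cancel₀ (T.w_pos u0).ne' (by linarith only [key])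
            have r_1 : 1 * T.m u0 + -2 * T.m u1 + 3 * T.m u2 = 0 := by
              have key := Groth.Agent.Helper6.NT.rowfun3 T u0 u1 u2 hinj u1
              rw [Groth.Agent.Helper6.NT.symm' T u1 u0, taq_0_1, (h2 u1).2, tap_1_2] at key
              exact mul_left_cancel₀ (T.w_pos u1).ne' (by linarith only [key])
            have r_2 : 1 * T.m u1 + -2 * T.m u2 = 0 := by
              have key := Groth.Agent.Helper6.NT.rowfun3 T u0 u1 u2 hinj u2
              rw [Groth.Agent.Helper6.NT.symm' T u2 u0, z_0_2, Groth.Agent.Helper6.NT.symm' T u2 u1, taq_1_2, (h2 u2).2] at key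
              exact mul_left_cancel₀ (T.w_pos u2).ne' (by linarith only [key])
            have f0 : T.m u0 = T.m u0 := rfl
            have f1 : T.m u1 = 2 * T.m u0 := by linarith only [r_0, r_1, r_2]
            have f2 : T.m u2 = T.m u0 := by linarith only [r_0, r_1, r_2]
            have f3 : T.a u0 u0 = -2 * T.w u0 := by have := (h2 u0).2; linarith only [this, tw_0_1, tw_1_2]
            have f4 : T.a u0 u1 = T.w u0 := by linarith only [tap_0_1, tw_0_1, tw_1_2]
            have f5 : T.a u0 u2 = 0 := by exact z_0_2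
            have f6 : T.a u1 u1 = -2 * T.w u0 := by have := (h2 u1).2; linarith only [this, tw_0_1, tw_1_2]
            have f7 : T.a u1 u2 = 3 * T.w u0 := by linarith only [tap_1_2, tw_0_1, tw_1_2]
            have f8 : T.a u2 u2 = -6 * T.w u0 := by have := (h2 u2).2; linarith only [this, tw_0_1, tw_1_2]
            have f9 : T.w u0 = T.w u0 := rfl
            have f10 : T.w u1 = T.w u0 := by linarith only [tw_0_1, tw_1_2]
            have f11 : T.w u2 = 3 * T.w u0 := by linarith only [tw_0_1, tw_1_2]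
            exact ⟨u0, u1, u2, T.m u0, T.w u0, hn_1_0.symm, hn_2_1.symm, hn_2_0.symm, (h2 u0).1, (h2 u1).1, (h2 u2).1, Or.inr (Or.inl ⟨f0, f1, f2, f3, f4, f5, f6, f7, f8, f9, f10, f11⟩)⟩
          · -- (1,2) Tm
            have hinj := Groth.Agent.Helper6.NT.inj3 u0 u1 u2 hn_1_0 hn_2_0 hn_2_1
            have r_0 : -2 * T.m u0 + 1 * T.m u1 = 0 := by
              have key := Groth.Agent.Helper6.NT.rowfun3 T u0 u1 u2 hinj u0
              rw [(h2 u0).2, tap_0_1, z_0_2] at key
              exact mul_left_cancel₀ (T.w_pos u0).ne' (by linarith only [key])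
            have r_1 : 1 * T.m u0 + -2 * T.m u1 + 1 * T.m u2 = 0 := by
              have key := Groth.Agent.Helper6.NT.rowfun3 T u0 u1 u2 hinj u1
              rw [Groth.Agent.Helper6.NT.symm' T u1 u0, taq_0_1, (h2 u1).2, tap_1_2] at key
              exact mul_left_cancel₀ (T.w_pos u1).ne' (by linarith only [key])
            have r_2 : 3 * T.m u1 + -2 * T.m u2 = 0 := by
              have key := Groth.Agent.Helper6.NT.rowfun3 T u0 u1 u2 hinj u2
              rw [Groth.Agent.Helper6.NT.symm' T u2 u0, z_0_2, Groth.Agent.Helper6.NT.symm' T u2 u1, taq_1_2, (h2 u2).2] at key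
              exact mul_left_cancel₀ (T.w_pos u2).ne' (by linarith only [key])
            have f0 : T.m u0 = T.m u0 := rfl
            have f1 : T.m u1 = 2 * T.m u0 := by linarith only [r_0, r_1, r_2]
            have f2 : T.m u2 = 3 * T.m u0 := by linarith only [r_0, r_1, r_2]
            have f3 : T.a u0 u0 = -6 * T.w u2 := by have := (h2 u0).2; linarith only [this, tw_0_1, tw_1_2]
            have f4 : T.a u0 u1 = 3 * T.w u2 := by linarith only [tap_0_1, tw_0_1, tw_1_2]
            have f5 : T.a u0 u2 = 0 := by exact z_0_2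
            have f6 : T.a u1 u1 = -6 * T.w u2 := by have := (h2 u1).2; linarith only [this, tw_0_1, tw_1_2]
            have f7 : T.a u1 u2 = 3 * T.w u2 := by linarith only [tap_1_2, tw_0_1, tw_1_2]
            have f8 : T.a u2 u2 = -2 * T.w u2 := by have := (h2 u2).2; linarith only [this, tw_0_1, tw_1_2]
            have f9 : T.w u0 = 3 * T.w u2 := by linarith only [tw_0_1, tw_1_2]
            have f10 : T.w u1 = 3 * T.w u2 := by linarith only [tw_0_1, tw_1_2]
            have f11 : T.w u2 = T.w u2 := rfl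
            exact ⟨u0, u1, u2, T.m u0, T.w u2, hn_1_0.symm, hn_2_1.symm, hn_2_0.symm, (h2 u0).1, (h2 u1).1, (h2 u2).1, Or.inr (Or.inr (Or.inl ⟨f0, f1, f2, f3, f4, f5, f6, f7, f8, f9, f10, f11⟩))⟩
        · push Not at hx
          have cl_1 := hx
          clear hx
          exfalso
          refine Groth.Agent.Helper6.NT.closed_contra T [u0, u1] (by simp) (by simp) ?_
          intro i hi j hj
          simp only [List.mem_cons, List.not_mem_nil, or_false, not_or] at hi hj
          rcases hi with rfl | rfl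
          · exact cl_0 j ⟨hj.1, hj.2⟩
          · exact cl_1 j ⟨hj.1, hj.2⟩
    · -- (0,1) Dp
      by_cases hx : ∃ j, (j ≠ u0 ∧ j ≠ u1) ∧ T.a u0 j ≠ 0
      · obtain ⟨u2, ⟨hn_2_0, hn_2_1⟩, e_0_2⟩ := hx
        rcases Groth.Agent.Helper6.NT.edge5 T h2 (by norm_num) u0 u2 hn_2_0.symm e_0_2 with ⟨tw_0_2, tap_0_2, taq_0_2⟩ | ⟨tw_0_2, tap_0_2, taq_0_2⟩ | ⟨tw_0_2, tap_0_2, taq_0_2⟩ | ⟨tw_0_2, tap_0_2, taq_0_2⟩ | ⟨tw_0_2, tap_0_2, taq_0_2⟩
        · -- (0,2) S
          rcases eq_or_ne (T.a u1 u2) 0 with z_1_2 | nz_1_2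
          · -- (1,2) zero
            have hinj := Groth.Agent.Helper6.NT.inj3 u0 u1 u2 hn_1_0 hn_2_0 hn_2_1
            have r_0 : -2 * T.m u0 + 2 * T.m u1 + 1 * T.m u2 = 0 := by
              have key := Groth.Agent.Helper6.NT.rowfun3 T u0 u1 u2 hinj u0
              rw [(h2 u0).2, tap_0_1, tap_0_2] at key
              exact mul_left_cancel₀ (T.w_pos u0).ne' (by linarith only [key])
            have r_1 : 1 * T.m u0 + -2 * T.m u1 = 0 := by
              have key := Groth.Agent.Helper6.NT.rowfun3 T u0 u1 u2 hinj u1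
              rw [Groth.Agent.Helper6.NT.symm' T u1 u0, taq_0_1, (h2 u1).2, z_1_2] at key
              exact mul_left_cancel₀ (T.w_pos u1).ne' (by linarith only [key])
            have r_2 : 1 * T.m u0 + -2 * T.m u2 = 0 := by
              have key := Groth.Agent.Helper6.NT.rowfun3 T u0 u1 u2 hinj u2
              rw [Groth.Agent.Helper6.NT.symm' T u2 u0, taq_0_2, Groth.Agent.Helper6.NT.symm' T u2 u1, z_1_2, (h2 u2).2] at key
              exact mul_left_cancel₀ (T.w_pos u2).ne' (by linarith only [key])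
            exfalso
            linarith only [r_0, r_1, r_2, T.m_pos u0, T.m_pos u1, T.m_pos u2]
          · -- (1,2) nonzero
            obtain ⟨lbp_1_2, lbq_1_2⟩ := Groth.Agent.Helper6.NT.lb T u1 u2 hn_2_1.symm nz_1_2
            rcases Groth.Agent.Helper6.NT.edge5 T h2 (by norm_num) u1 u2 hn_2_1.symm nz_1_2 with ⟨tw_1_2, tap_1_2, taq_1_2⟩ | ⟨tw_1_2, tap_1_2, taq_1_2⟩ | ⟨tw_1_2, tap_1_2, taq_1_2⟩ | ⟨tw_1_2, tap_1_2, taq_1_2⟩ | ⟨tw_1_2, tap_1_2, taq_1_2⟩
            · -- (1,2) S
              exfalso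
              linarith only [tap_0_1, tap_1_2, tap_0_2, taq_0_1, taq_1_2, taq_0_2, T.w_pos u0, T.w_pos u1, T.w_pos u2]
            · -- (1,2) Dp
              exfalso
              linarith only [tap_0_1, tap_1_2, tap_0_2, taq_0_1, taq_1_2, taq_0_2, T.w_pos u0, T.w_pos u1, T.w_pos u2]
            · -- (1,2) Dm
              exfalso
              have key := Groth.Agent.Helper6.NT.nonposfun3 T h2 u0 u1 u2 3 2 3
              linarith only [key, tap_0_1, taq_0_1, tap_0_2, taq_0_2, tap_1_2, taq_1_2, T.w_pos u0, T.w_pos u1, T.w_pos u2]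
            · -- (1,2) Tp
              exfalso
              linarith only [tap_0_1, tap_1_2, tap_0_2, taq_0_1, taq_1_2, taq_0_2, T.w_pos u0, T.w_pos u1, T.w_pos u2]
            · -- (1,2) Tm
              exfalso
              linarith only [tap_0_1, tap_1_2, tap_0_2, taq_0_1, taq_1_2, taq_0_2, T.w_pos u0, T.w_pos u1, T.w_pos u2]
        · -- (0,2) Dp
          rcases eq_or_ne (T.a u1 u2) 0 with z_1_2 | nz_1_2
          · -- (1,2) zero
            have hinj := Groth.Agent.Helper6.NT.inj3 u0 u1 u2 hn_1_0 hn_2_0 hn_2_1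
            have r_0 : -2 * T.m u0 + 2 * T.m u1 + 2 * T.m u2 = 0 := by
              have key := Groth.Agent.Helper6.NT.rowfun3 T u0 u1 u2 hinj u0
              rw [(h2 u0).2, tap_0_1, tap_0_2] at key
              exact mul_left_cancel₀ (T.w_pos u0).ne' (by linarith only [key])
            have r_1 : 1 * T.m u0 + -2 * T.m u1 = 0 := by
              have key := Groth.Agent.Helper6.NT.rowfun3 T u0 u1 u2 hinj u1
              rw [Groth.Agent.Helper6.NT.symm' T u1 u0, taq_0_1, (h2 u1).2, z_1_2] at key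
              exact mul_left_cancel₀ (T.w_pos u1).ne' (by linarith only [key])
            have r_2 : 1 * T.m u0 + -2 * T.m u2 = 0 := by
              have key := Groth.Agent.Helper6.NT.rowfun3 T u0 u1 u2 hinj u2
              rw [Groth.Agent.Helper6.NT.symm' T u2 u0, taq_0_2, Groth.Agent.Helper6.NT.symm' T u2 u1, z_1_2, (h2 u2).2] at key
              exact mul_left_cancel₀ (T.w_pos u2).ne' (by linarith only [key])
            have f0 : T.m u1 = T.m u1 := rfl
            have f1 : T.m u0 = 2 * T.m u1 := by linarith only [r_0, r_1, r_2]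
            have f2 : T.m u2 = T.m u1 := by linarith only [r_0, r_1, r_2]
            have f3 : T.a u1 u1 = -4 * T.w u0 := by have := (h2 u1).2; linarith only [this, tw_0_1, tw_0_2]
            have f4 : T.a u1 u0 = 2 * T.w u0 := by rw [Groth.Agent.Helper6.NT.symm' T u1 u0]; linarith only [tap_0_1, tw_0_1, tw_0_2]
            have f5 : T.a u1 u2 = 0 := by exact z_1_2
            have f6 : T.a u0 u0 = -2 * T.w u0 := by have := (h2 u0).2; linarith only [this, tw_0_1, tw_0_2]
            have f7 : T.a u0 u2 = 2 * T.w u0 := by linarith only [tap_0_2, tw_0_1, tw_0_2]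
            have f8 : T.a u2 u2 = -4 * T.w u0 := by have := (h2 u2).2; linarith only [this, tw_0_1, tw_0_2]
            have f9 : T.w u1 = 2 * T.w u0 := by linarith only [tw_0_1, tw_0_2]
            have f10 : T.w u0 = T.w u0 := rfl
            have f11 : T.w u2 = 2 * T.w u0 := by linarith only [tw_0_1, tw_0_2]
            exact ⟨u1, u0, u2, T.m u1, T.w u0, hn_1_0, hn_2_0.symm, hn_2_1.symm, (h2 u1).1, (h2 u0).1, (h2 u2).1, Or.inr (Or.inr (Or.inr (Or.inr (Or.inr (⟨f0, f1, f2, f3, f4, f5, f6, f7, f8, f9, f10, f11⟩)))))⟩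
          · -- (1,2) nonzero
            obtain ⟨lbp_1_2, lbq_1_2⟩ := Groth.Agent.Helper6.NT.lb T u1 u2 hn_2_1.symm nz_1_2
            rcases Groth.Agent.Helper6.NT.edge5 T h2 (by norm_num) u1 u2 hn_2_1.symm nz_1_2 with ⟨tw_1_2, tap_1_2, taq_1_2⟩ | ⟨tw_1_2, tap_1_2, taq_1_2⟩ | ⟨tw_1_2, tap_1_2, taq_1_2⟩ | ⟨tw_1_2, tap_1_2, taq_1_2⟩ | ⟨tw_1_2, tap_1_2, taq_1_2⟩
            · -- (1,2) S
              exfalso
              have key := Groth.Agent.Helper6.NT.nonposfun3 T h2 u0 u1 u2 3 2 2
              linarith only [key, tap_0_1, taq_0_1, tap_0_2, taq_0_2, tap_1_2, taq_1_2, T.w_pos u0, T.w_pos u1, T.w_pos u2]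
            · -- (1,2) Dp
              exfalso
              linarith only [tap_0_1, tap_1_2, tap_0_2, taq_0_1, taq_1_2, taq_0_2, T.w_pos u0, T.w_pos u1, T.w_pos u2]
            · -- (1,2) Dm
              exfalso
              linarith only [tap_0_1, tap_1_2, tap_0_2, taq_0_1, taq_1_2, taq_0_2, T.w_pos u0, T.w_pos u1, T.w_pos u2]
            · -- (1,2) Tp
              exfalso
              linarith only [tap_0_1, tap_1_2, tap_0_2, taq_0_1, taq_1_2, taq_0_2, T.w_pos u0, T.w_pos u1, T.w_pos u2]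
            · -- (1,2) Tm
              exfalso
              linarith only [tap_0_1, tap_1_2, tap_0_2, taq_0_1, taq_1_2, taq_0_2, T.w_pos u0, T.w_pos u1, T.w_pos u2]
        · -- (0,2) Dm
          rcases eq_or_ne (T.a u1 u2) 0 with z_1_2 | nz_1_2
          · -- (1,2) zero
            have hinj := Groth.Agent.Helper6.NT.inj3 u0 u1 u2 hn_1_0 hn_2_0 hn_2_1
            have r_0 : -2 * T.m u0 + 2 * T.m u1 + 1 * T.m u2 = 0 := by
              have key := Groth.Agent.Helper6.NT.rowfun3 T u0 u1 u2 hinj u0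
              rw [(h2 u0).2, tap_0_1, tap_0_2] at key
              exact mul_left_cancel₀ (T.w_pos u0).ne' (by linarith only [key])
            have r_1 : 1 * T.m u0 + -2 * T.m u1 = 0 := by
              have key := Groth.Agent.Helper6.NT.rowfun3 T u0 u1 u2 hinj u1
              rw [Groth.Agent.Helper6.NT.symm' T u1 u0, taq_0_1, (h2 u1).2, z_1_2] at key
              exact mul_left_cancel₀ (T.w_pos u1).ne' (by linarith only [key])
            have r_2 : 2 * T.m u0 + -2 * T.m u2 = 0 := by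
              have key := Groth.Agent.Helper6.NT.rowfun3 T u0 u1 u2 hinj u2
              rw [Groth.Agent.Helper6.NT.symm' T u2 u0, taq_0_2, Groth.Agent.Helper6.NT.symm' T u2 u1, z_1_2, (h2 u2).2] at key
              exact mul_left_cancel₀ (T.w_pos u2).ne' (by linarith only [key])
            have f0 : T.m u2 = 2 * T.m u1 := by linarith only [r_0, r_1, r_2]
            have f1 : T.m u0 = 2 * T.m u1 := by linarith only [r_0, r_1, r_2]
            have f2 : T.m u1 = T.m u1 := rfl
            have f3 : T.a u2 u2 = -2 * T.w u2 := by have := (h2 u2).2; linarith only [this, tw_0_1, tw_0_2]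
            have f4 : T.a u2 u0 = 2 * T.w u2 := by rw [Groth.Agent.Helper6.NT.symm' T u2 u0]; linarith only [tap_0_2, tw_0_1, tw_0_2]
            have f5 : T.a u2 u1 = 0 := by rw [Groth.Agent.Helper6.NT.symm' T u2 u1]; exact z_1_2
            have f6 : T.a u0 u0 = -4 * T.w u2 := by have := (h2 u0).2; linarith only [this, tw_0_1, tw_0_2]
            have f7 : T.a u0 u1 = 4 * T.w u2 := by linarith only [tap_0_1, tw_0_1, tw_0_2]
            have f8 : T.a u1 u1 = -8 * T.w u2 := by have := (h2 u1).2; linarith only [this, tw_0_1, tw_0_2]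
            have f9 : T.w u2 = T.w u2 := rfl
            have f10 : T.w u0 = 2 * T.w u2 := by linarith only [tw_0_1, tw_0_2]
            have f11 : T.w u1 = 4 * T.w u2 := by linarith only [tw_0_1, tw_0_2]
            exact ⟨u2, u0, u1, T.m u1, T.w u2, hn_2_0, hn_1_0.symm, hn_2_1, (h2 u2).1, (h2 u0).1, (h2 u1).1, Or.inr (Or.inr (Or.inr (Or.inl ⟨f0, f1, f2, f3, f4, f5, f6, f7, f8, f9, f10, f11⟩)))⟩
          · -- (1,2) nonzero
            obtain ⟨lbp_1_2, lbq_1_2⟩ := Groth.Agent.Helper6.NT.lb T u1 u2 hn_2_1.symm nz_1_2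
            rcases Groth.Agent.Helper6.NT.edge5 T h2 (by norm_num) u1 u2 hn_2_1.symm nz_1_2 with ⟨tw_1_2, tap_1_2, taq_1_2⟩ | ⟨tw_1_2, tap_1_2, taq_1_2⟩ | ⟨tw_1_2, tap_1_2, taq_1_2⟩ | ⟨tw_1_2, tap_1_2, taq_1_2⟩ | ⟨tw_1_2, tap_1_2, taq_1_2⟩
            · -- (1,2) S
              exfalso
              linarith only [tap_0_1, tap_1_2, tap_0_2, taq_0_1, taq_1_2, taq_0_2, T.w_pos u0, T.w_pos u1, T.w_pos u2]
            · -- (1,2) Dp
              exfalso
              linarith only [tap_0_1, tap_1_2, tap_0_2, taq_0_1, taq_1_2, taq_0_2, T.w_pos u0, T.w_pos u1, T.w_pos u2]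
            · -- (1,2) Dm
              exfalso
              linarith only [tap_0_1, tap_1_2, tap_0_2, taq_0_1, taq_1_2, taq_0_2, T.w_pos u0, T.w_pos u1, T.w_pos u2]
            · -- (1,2) Tp
              exfalso
              linarith only [tap_0_1, tap_1_2, tap_0_2, taq_0_1, taq_1_2, taq_0_2, T.w_pos u0, T.w_pos u1, T.w_pos u2]
            · -- (1,2) Tm
              exfalso
              linarith only [tap_0_1, tap_1_2, tap_0_2, taq_0_1, taq_1_2, taq_0_2, T.w_pos u0, T.w_pos u1, T.w_pos u2]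
        · -- (0,2) Tp
          rcases eq_or_ne (T.a u1 u2) 0 with z_1_2 | nz_1_2
          · -- (1,2) zero
            exfalso
            have key := Groth.Agent.Helper6.NT.nonposfun3 T h2 u0 u1 u2 7 3 3
            linarith only [key, tap_0_1, taq_0_1, tap_0_2, taq_0_2, z_1_2, T.w_pos u0, T.w_pos u1, T.w_pos u2]
          · -- (1,2) nonzero
            obtain ⟨lbp_1_2, lbq_1_2⟩ := Groth.Agent.Helper6.NT.lb T u1 u2 hn_2_1.symm nz_1_2
            rcases Groth.Agent.Helper6.NT.edge5 T h2 (by norm_num) u1 u2 hn_2_1.symm nz_1_2 with ⟨tw_1_2, tap_1_2, taq_1_2⟩ | ⟨tw_1_2, tap_1_2, taq_1_2⟩ | ⟨tw_1_2, tap_1_2, taq_1_2⟩ | ⟨tw_1_2, tap_1_2, taq_1_2⟩ | ⟨tw_1_2, tap_1_2, taq_1_2⟩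
            · -- (1,2) S
              exfalso
              linarith only [tap_0_1, tap_1_2, tap_0_2, taq_0_1, taq_1_2, taq_0_2, T.w_pos u0, T.w_pos u1, T.w_pos u2]
            · -- (1,2) Dp
              exfalso
              linarith only [tap_0_1, tap_1_2, tap_0_2, taq_0_1, taq_1_2, taq_0_2, T.w_pos u0, T.w_pos u1, T.w_pos u2]
            · -- (1,2) Dm
              exfalso
              linarith only [tap_0_1, tap_1_2, tap_0_2, taq_0_1, taq_1_2, taq_0_2, T.w_pos u0, T.w_pos u1, T.w_pos u2]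
            · -- (1,2) Tp
              exfalso
              linarith only [tap_0_1, tap_1_2, tap_0_2, taq_0_1, taq_1_2, taq_0_2, T.w_pos u0, T.w_pos u1, T.w_pos u2]
            · -- (1,2) Tm
              exfalso
              linarith only [tap_0_1, tap_1_2, tap_0_2, taq_0_1, taq_1_2, taq_0_2, T.w_pos u0, T.w_pos u1, T.w_pos u2]
        · -- (0,2) Tm
          rcases eq_or_ne (T.a u1 u2) 0 with z_1_2 | nz_1_2
          · -- (1,2) zero
            exfalso
            have key := Groth.Agent.Helper6.NT.nonposfun3 T h2 u0 u1 u2 7 3 9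
            linarith only [key, tap_0_1, taq_0_1, tap_0_2, taq_0_2, z_1_2, T.w_pos u0, T.w_pos u1, T.w_pos u2]
          · -- (1,2) nonzero
            obtain ⟨lbp_1_2, lbq_1_2⟩ := Groth.Agent.Helper6.NT.lb T u1 u2 hn_2_1.symm nz_1_2
            rcases Groth.Agent.Helper6.NT.edge5 T h2 (by norm_num) u1 u2 hn_2_1.symm nz_1_2 with ⟨tw_1_2, tap_1_2, taq_1_2⟩ | ⟨tw_1_2, tap_1_2, taq_1_2⟩ | ⟨tw_1_2, tap_1_2, taq_1_2⟩ | ⟨tw_1_2, tap_1_2, taq_1_2⟩ | ⟨tw_1_2, tap_1_2, taq_1_2⟩
            · -- (1,2) S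
              exfalso
              linarith only [tap_0_1, tap_1_2, tap_0_2, taq_0_1, taq_1_2, taq_0_2, T.w_pos u0, T.w_pos u1, T.w_pos u2]
            · -- (1,2) Dp
              exfalso
              linarith only [tap_0_1, tap_1_2, tap_0_2, taq_0_1, taq_1_2, taq_0_2, T.w_pos u0, T.w_pos u1, T.w_pos u2]
            · -- (1,2) Dm
              exfalso
              linarith only [tap_0_1, tap_1_2, tap_0_2, taq_0_1, taq_1_2, taq_0_2, T.w_pos u0, T.w_pos u1, T.w_pos u2]
            · -- (1,2) Tp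
              exfalso
              linarith only [tap_0_1, tap_1_2, tap_0_2, taq_0_1, taq_1_2, taq_0_2, T.w_pos u0, T.w_pos u1, T.w_pos u2]
            · -- (1,2) Tm
              exfalso
              linarith only [tap_0_1, tap_1_2, tap_0_2, taq_0_1, taq_1_2, taq_0_2, T.w_pos u0, T.w_pos u1, T.w_pos u2]
      · push Not at hx
        have cl_0 := hx
        clear hx
        by_cases hx : ∃ j, (j ≠ u0 ∧ j ≠ u1) ∧ T.a u1 j ≠ 0
        · obtain ⟨u2, ⟨hn_2_0, hn_2_1⟩, e_1_2⟩ := hx
          have z_0_2 : T.a u0 u2 = 0 := cl_0 u2 ⟨hn_2_0, hn_2_1⟩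
          rcases Groth.Agent.Helper6.NT.edge5 T h2 (by norm_num) u1 u2 hn_2_1.symm e_1_2 with ⟨tw_1_2, tap_1_2, taq_1_2⟩ | ⟨tw_1_2, tap_1_2, taq_1_2⟩ | ⟨tw_1_2, tap_1_2, taq_1_2⟩ | ⟨tw_1_2, tap_1_2, taq_1_2⟩ | ⟨tw_1_2, tap_1_2, taq_1_2⟩
          · -- (1,2) S
            have hinj := Groth.Agent.Helper6.NT.inj3 u0 u1 u2 hn_1_0 hn_2_0 hn_2_1
            have r_0 : -2 * T.m u0 + 2 * T.m u1 = 0 := by
              have key := Groth.Agent.Helper6.NT.rowfun3 T u0 u1 u2 hinj u0
              rw [(h2 u0).2, tap_0_1, z_0_2] at key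
              exact mul_left_cancel₀ (T.w_pos u0).ne' (by linarith only [key])
            have r_1 : 1 * T.m u0 + -2 * T.m u1 + 1 * T.m u2 = 0 := by
              have key := Groth.Agent.Helper6.NT.rowfun3 T u0 u1 u2 hinj u1
              rw [Groth.Agent.Helper6.NT.symm' T u1 u0, taq_0_1, (h2 u1).2, tap_1_2] at key
              exact mul_left_cancel₀ (T.w_pos u1).ne' (by linarith only [key])
            have r_2 : 1 * T.m u1 + -2 * T.m u2 = 0 := by
              have key := Groth.Agent.Helper6.NT.rowfun3 T u0 u1 u2 hinj u2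
              rw [Groth.Agent.Helper6.NT.symm' T u2 u0, z_0_2, Groth.Agent.Helper6.NT.symm' T u2 u1, taq_1_2, (h2 u2).2] at key
              exact mul_left_cancel₀ (T.w_pos u2).ne' (by linarith only [key])
            exfalso
            linarith only [r_0, r_1, r_2, T.m_pos u0, T.m_pos u1, T.m_pos u2]
          · -- (1,2) Dp
            have hinj := Groth.Agent.Helper6.NT.inj3 u0 u1 u2 hn_1_0 hn_2_0 hn_2_1
            have r_0 : -2 * T.m u0 + 2 * T.m u1 = 0 := by
              have key := Groth.Agent.Helper6.NT.rowfun3 T u0 u1 u2 hinj u0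
              rw [(h2 u0).2, tap_0_1, z_0_2] at key
              exact mul_left_cancel₀ (T.w_pos u0).ne' (by linarith only [key])
            have r_1 : 1 * T.m u0 + -2 * T.m u1 + 2 * T.m u2 = 0 := by
              have key := Groth.Agent.Helper6.NT.rowfun3 T u0 u1 u2 hinj u1
              rw [Groth.Agent.Helper6.NT.symm' T u1 u0, taq_0_1, (h2 u1).2, tap_1_2] at key
              exact mul_left_cancel₀ (T.w_pos u1).ne' (by linarith only [key])
            have r_2 : 1 * T.m u1 + -2 * T.m u2 = 0 := by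
              have key := Groth.Agent.Helper6.NT.rowfun3 T u0 u1 u2 hinj u2
              rw [Groth.Agent.Helper6.NT.symm' T u2 u0, z_0_2, Groth.Agent.Helper6.NT.symm' T u2 u1, taq_1_2, (h2 u2).2] at key
              exact mul_left_cancel₀ (T.w_pos u2).ne' (by linarith only [key])
            have f0 : T.m u0 = 2 * T.m u2 := by linarith only [r_0, r_1, r_2]
            have f1 : T.m u1 = 2 * T.m u2 := by linarith only [r_0, r_1, r_2]
            have f2 : T.m u2 = T.m u2 := rfl
            have f3 : T.a u0 u0 = -2 * T.w u0 := by have := (h2 u0).2; linarith only [this, tw_0_1, tw_1_2]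
            have f4 : T.a u0 u1 = 2 * T.w u0 := by linarith only [tap_0_1, tw_0_1, tw_1_2]
            have f5 : T.a u0 u2 = 0 := by exact z_0_2
            have f6 : T.a u1 u1 = -4 * T.w u0 := by have := (h2 u1).2; linarith only [this, tw_0_1, tw_1_2]
            have f7 : T.a u1 u2 = 4 * T.w u0 := by linarith only [tap_1_2, tw_0_1, tw_1_2]
            have f8 : T.a u2 u2 = -8 * T.w u0 := by have := (h2 u2).2; linarith only [this, tw_0_1, tw_1_2]
            have f9 : T.w u0 = T.w u0 := rfl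
            have f10 : T.w u1 = 2 * T.w u0 := by linarith only [tw_0_1, tw_1_2]
            have f11 : T.w u2 = 4 * T.w u0 := by linarith only [tw_0_1, tw_1_2]
            exact ⟨u0, u1, u2, T.m u2, T.w u0, hn_1_0.symm, hn_2_1.symm, hn_2_0.symm, (h2 u0).1, (h2 u1).1, (h2 u2).1, Or.inr (Or.inr (Or.inr (Or.inl ⟨f0, f1, f2, f3, f4, f5, f6, f7, f8, f9, f10, f11⟩)))⟩
          · -- (1,2) Dm
            have hinj := Groth.Agent.Helper6.NT.inj3 u0 u1 u2 hn_1_0 hn_2_0 hn_2_1
            have r_0 : -2 * T.m u0 + 2 * T.m u1 = 0 := by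
              have key := Groth.Agent.Helper6.NT.rowfun3 T u0 u1 u2 hinj u0
              rw [(h2 u0).2, tap_0_1, z_0_2] at key
              exact mul_left_cancel₀ (T.w_pos u0).ne' (by linarith only [key])
            have r_1 : 1 * T.m u0 + -2 * T.m u1 + 1 * T.m u2 = 0 := by
              have key := Groth.Agent.Helper6.NT.rowfun3 T u0 u1 u2 hinj u1
              rw [Groth.Agent.Helper6.NT.symm' T u1 u0, taq_0_1, (h2 u1).2, tap_1_2] at key
              exact mul_left_cancel₀ (T.w_pos u1).ne' (by linarith only [key])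
            have r_2 : 2 * T.m u1 + -2 * T.m u2 = 0 := by
              have key := Groth.Agent.Helper6.NT.rowfun3 T u0 u1 u2 hinj u2
              rw [Groth.Agent.Helper6.NT.symm' T u2 u0, z_0_2, Groth.Agent.Helper6.NT.symm' T u2 u1, taq_1_2, (h2 u2).2] at key
              exact mul_left_cancel₀ (T.w_pos u2).ne' (by linarith only [key])
            have f0 : T.m u0 = T.m u0 := rfl
            have f1 : T.m u1 = T.m u0 := by linarith only [r_0, r_1, r_2]
            have f2 : T.m u2 = T.m u0 := by linarith only [r_0, r_1, r_2]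
            have f3 : T.a u0 u0 = -2 * T.w u0 := by have := (h2 u0).2; linarith only [this, tw_0_1, tw_1_2]
            have f4 : T.a u0 u1 = 2 * T.w u0 := by linarith only [tap_0_1, tw_0_1, tw_1_2]
            have f5 : T.a u0 u2 = 0 := by exact z_0_2
            have f6 : T.a u1 u1 = -4 * T.w u0 := by have := (h2 u1).2; linarith only [this, tw_0_1, tw_1_2]
            have f7 : T.a u1 u2 = 2 * T.w u0 := by linarith only [tap_1_2, tw_0_1, tw_1_2]
            have f8 : T.a u2 u2 = -2 * T.w u0 := by have := (h2 u2).2; linarith only [this, tw_0_1, tw_1_2]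
            have f9 : T.w u0 = T.w u0 := rfl
            have f10 : T.w u1 = 2 * T.w u0 := by linarith only [tw_0_1, tw_1_2]
            have f11 : T.w u2 = T.w u0 := by linarith only [tw_0_1, tw_1_2]
            exact ⟨u0, u1, u2, T.m u0, T.w u0, hn_1_0.symm, hn_2_1.symm, hn_2_0.symm, (h2 u0).1, (h2 u1).1, (h2 u2).1, Or.inr (Or.inr (Or.inr (Or.inr (Or.inl ⟨f0, f1, f2, f3, f4, f5, f6, f7, f8, f9, f10, f11⟩))))⟩
          · -- (1,2) Tp
            exfalso
            have key := Groth.Agent.Helper6.NT.nonposfun3 T h2 u0 u1 u2 6 7 3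
            linarith only [key, tap_0_1, taq_0_1, z_0_2, tap_1_2, taq_1_2, T.w_pos u0, T.w_pos u1, T.w_pos u2]
          · -- (1,2) Tm
            exfalso
            have key := Groth.Agent.Helper6.NT.nonposfun3 T h2 u0 u1 u2 5 6 8
            linarith only [key, tap_0_1, taq_0_1, z_0_2, tap_1_2, taq_1_2, T.w_pos u0, T.w_pos u1, T.w_pos u2]
        · push Not at hx
          have cl_1 := hx
          clear hx
          exfalso
          refine Groth.Agent.Helper6.NT.closed_contra T [u0, u1] (by simp) (by simp) ?_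
          intro i hi j hj
          simp only [List.mem_cons, List.not_mem_nil, or_false, not_or] at hi hj
          rcases hi with rfl | rfl
          · exact cl_0 j ⟨hj.1, hj.2⟩
          · exact cl_1 j ⟨hj.1, hj.2⟩
    · -- (0,1) Dm
      by_cases hx : ∃ j, (j ≠ u0 ∧ j ≠ u1) ∧ T.a u0 j ≠ 0
      · obtain ⟨u2, ⟨hn_2_0, hn_2_1⟩, e_0_2⟩ := hx
        rcases Groth.Agent.Helper6.NT.edge5 T h2 (by norm_num) u0 u2 hn_2_0.symm e_0_2 with ⟨tw_0_2, tap_0_2, taq_0_2⟩ | ⟨tw_0_2, tap_0_2, taq_0_2⟩ | ⟨tw_0_2, tap_0_2, taq_0_2⟩ | ⟨tw_0_2, tap_0_2, taq_0_2⟩ | ⟨tw_0_2, tap_0_2, taq_0_2⟩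
        · -- (0,2) S
          rcases eq_or_ne (T.a u1 u2) 0 with z_1_2 | nz_1_2
          · -- (1,2) zero
            have hinj := Groth.Agent.Helper6.NT.inj3 u0 u1 u2 hn_1_0 hn_2_0 hn_2_1
            have r_0 : -2 * T.m u0 + 1 * T.m u1 + 1 * T.m u2 = 0 := by
              have key := Groth.Agent.Helper6.NT.rowfun3 T u0 u1 u2 hinj u0
              rw [(h2 u0).2, tap_0_1, tap_0_2] at key
              exact mul_left_cancel₀ (T.w_pos u0).ne' (by linarith only [key])
            have r_1 : 2 * T.m u0 + -2 * T.m u1 = 0 := by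
              have key := Groth.Agent.Helper6.NT.rowfun3 T u0 u1 u2 hinj u1
              rw [Groth.Agent.Helper6.NT.symm' T u1 u0, taq_0_1, (h2 u1).2, z_1_2] at key
              exact mul_left_cancel₀ (T.w_pos u1).ne' (by linarith only [key])
            have r_2 : 1 * T.m u0 + -2 * T.m u2 = 0 := by
              have key := Groth.Agent.Helper6.NT.rowfun3 T u0 u1 u2 hinj u2
              rw [Groth.Agent.Helper6.NT.symm' T u2 u0, taq_0_2, Groth.Agent.Helper6.NT.symm' T u2 u1, z_1_2, (h2 u2).2] at key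
              exact mul_left_cancel₀ (T.w_pos u2).ne' (by linarith only [key])
            exfalso
            linarith only [r_0, r_1, r_2, T.m_pos u0, T.m_pos u1, T.m_pos u2]
          · -- (1,2) nonzero
            obtain ⟨lbp_1_2, lbq_1_2⟩ := Groth.Agent.Helper6.NT.lb T u1 u2 hn_2_1.symm nz_1_2
            rcases Groth.Agent.Helper6.NT.edge5 T h2 (by norm_num) u1 u2 hn_2_1.symm nz_1_2 with ⟨tw_1_2, tap_1_2, taq_1_2⟩ | ⟨tw_1_2, tap_1_2, taq_1_2⟩ | ⟨tw_1_2, tap_1_2, taq_1_2⟩ | ⟨tw_1_2, tap_1_2, taq_1_2⟩ | ⟨tw_1_2, tap_1_2, taq_1_2⟩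
            · -- (1,2) S
              exfalso
              linarith only [tap_0_1, tap_1_2, tap_0_2, taq_0_1, taq_1_2, taq_0_2, T.w_pos u0, T.w_pos u1, T.w_pos u2]
            · -- (1,2) Dp
              exfalso
              have key := Groth.Agent.Helper6.NT.nonposfun3 T h2 u0 u1 u2 2 3 2
              linarith only [key, tap_0_1, taq_0_1, tap_0_2, taq_0_2, tap_1_2, taq_1_2, T.w_pos u0, T.w_pos u1, T.w_pos u2]
            · -- (1,2) Dm
              exfalso
              linarith only [tap_0_1, tap_1_2, tap_0_2, taq_0_1, taq_1_2, taq_0_2, T.w_pos u0, T.w_pos u1, T.w_pos u2]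
            · -- (1,2) Tp
              exfalso
              linarith only [tap_0_1, tap_1_2, tap_0_2, taq_0_1, taq_1_2, taq_0_2, T.w_pos u0, T.w_pos u1, T.w_pos u2]
            · -- (1,2) Tm
              exfalso
              linarith only [tap_0_1, tap_1_2, tap_0_2, taq_0_1, taq_1_2, taq_0_2, T.w_pos u0, T.w_pos u1, T.w_pos u2]
        · -- (0,2) Dp
          rcases eq_or_ne (T.a u1 u2) 0 with z_1_2 | nz_1_2
          · -- (1,2) zero
            have hinj := Groth.Agent.Helper6.NT.inj3 u0 u1 u2 hn_1_0 hn_2_0 hn_2_1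
            have r_0 : -2 * T.m u0 + 1 * T.m u1 + 2 * T.m u2 = 0 := by
              have key := Groth.Agent.Helper6.NT.rowfun3 T u0 u1 u2 hinj u0
              rw [(h2 u0).2, tap_0_1, tap_0_2] at key
              exact mul_left_cancel₀ (T.w_pos u0).ne' (by linarith only [key])
            have r_1 : 2 * T.m u0 + -2 * T.m u1 = 0 := by
              have key := Groth.Agent.Helper6.NT.rowfun3 T u0 u1 u2 hinj u1
              rw [Groth.Agent.Helper6.NT.symm' T u1 u0, taq_0_1, (h2 u1).2, z_1_2] at key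
              exact mul_left_cancel₀ (T.w_pos u1).ne' (by linarith only [key])
            have r_2 : 1 * T.m u0 + -2 * T.m u2 = 0 := by
              have key := Groth.Agent.Helper6.NT.rowfun3 T u0 u1 u2 hinj u2
              rw [Groth.Agent.Helper6.NT.symm' T u2 u0, taq_0_2, Groth.Agent.Helper6.NT.symm' T u2 u1, z_1_2, (h2 u2).2] at key
              exact mul_left_cancel₀ (T.w_pos u2).ne' (by linarith only [key])
            have f0 : T.m u1 = 2 * T.m u2 := by linarith only [r_0, r_1, r_2]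
            have f1 : T.m u0 = 2 * T.m u2 := by linarith only [r_0, r_1, r_2]
            have f2 : T.m u2 = T.m u2 := rfl
            have f3 : T.a u1 u1 = -2 * T.w u1 := by have := (h2 u1).2; linarith only [this, tw_0_1, tw_0_2]
            have f4 : T.a u1 u0 = 2 * T.w u1 := by rw [Groth.Agent.Helper6.NT.symm' T u1 u0]; linarith only [tap_0_1, tw_0_1, tw_0_2]
            have f5 : T.a u1 u2 = 0 := by exact z_1_2
            have f6 : T.a u0 u0 = -4 * T.w u1 := by have := (h2 u0).2; linarith only [this, tw_0_1, tw_0_2]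
            have f7 : T.a u0 u2 = 4 * T.w u1 := by linarith only [tap_0_2, tw_0_1, tw_0_2]
            have f8 : T.a u2 u2 = -8 * T.w u1 := by have := (h2 u2).2; linarith only [this, tw_0_1, tw_0_2]
            have f9 : T.w u1 = T.w u1 := rfl
            have f10 : T.w u0 = 2 * T.w u1 := by linarith only [tw_0_1, tw_0_2]
            have f11 : T.w u2 = 4 * T.w u1 := by linarith only [tw_0_1, tw_0_2]
            exact ⟨u1, u0, u2, T.m u2, T.w u1, hn_1_0, hn_2_0.symm, hn_2_1.symm, (h2 u1).1, (h2 u0).1, (h2 u2).1, Or.inr (Or.inr (Or.inr (Or.inl ⟨f0, f1, f2, f3, f4, f5, f6, f7, f8, f9, f10, f11⟩)))⟩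
          · -- (1,2) nonzero
            obtain ⟨lbp_1_2, lbq_1_2⟩ := Groth.Agent.Helper6.NT.lb T u1 u2 hn_2_1.symm nz_1_2
            rcases Groth.Agent.Helper6.NT.edge5 T h2 (by norm_num) u1 u2 hn_2_1.symm nz_1_2 with ⟨tw_1_2, tap_1_2, taq_1_2⟩ | ⟨tw_1_2, tap_1_2, taq_1_2⟩ | ⟨tw_1_2, tap_1_2, taq_1_2⟩ | ⟨tw_1_2, tap_1_2, taq_1_2⟩ | ⟨tw_1_2, tap_1_2, taq_1_2⟩
            · -- (1,2) S
              exfalso
              linarith only [tap_0_1, tap_1_2, tap_0_2, taq_0_1, taq_1_2, taq_0_2, T.w_pos u0, T.w_pos u1, T.w_pos u2]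
            · -- (1,2) Dp
              exfalso
              linarith only [tap_0_1, tap_1_2, tap_0_2, taq_0_1, taq_1_2, taq_0_2, T.w_pos u0, T.w_pos u1, T.w_pos u2]
            · -- (1,2) Dm
              exfalso
              linarith only [tap_0_1, tap_1_2, tap_0_2, taq_0_1, taq_1_2, taq_0_2, T.w_pos u0, T.w_pos u1, T.w_pos u2]
            · -- (1,2) Tp
              exfalso
              linarith only [tap_0_1, tap_1_2, tap_0_2, taq_0_1, taq_1_2, taq_0_2, T.w_pos u0, T.w_pos u1, T.w_pos u2]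
            · -- (1,2) Tm
              exfalso
              linarith only [tap_0_1, tap_1_2, tap_0_2, taq_0_1, taq_1_2, taq_0_2, T.w_pos u0, T.w_pos u1, T.w_pos u2]
        · -- (0,2) Dm
          rcases eq_or_ne (T.a u1 u2) 0 with z_1_2 | nz_1_2
          · -- (1,2) zero
            have hinj := Groth.Agent.Helper6.NT.inj3 u0 u1 u2 hn_1_0 hn_2_0 hn_2_1
            have r_0 : -2 * T.m u0 + 1 * T.m u1 + 1 * T.m u2 = 0 := by
              have key := Groth.Agent.Helper6.NT.rowfun3 T u0 u1 u2 hinj u0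
              rw [(h2 u0).2, tap_0_1, tap_0_2] at key
              exact mul_left_cancel₀ (T.w_pos u0).ne' (by linarith only [key])
            have r_1 : 2 * T.m u0 + -2 * T.m u1 = 0 := by
              have key := Groth.Agent.Helper6.NT.rowfun3 T u0 u1 u2 hinj u1
              rw [Groth.Agent.Helper6.NT.symm' T u1 u0, taq_0_1, (h2 u1).2, z_1_2] at key
              exact mul_left_cancel₀ (T.w_pos u1).ne' (by linarith only [key])
            have r_2 : 2 * T.m u0 + -2 * T.m u2 = 0 := by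
              have key := Groth.Agent.Helper6.NT.rowfun3 T u0 u1 u2 hinj u2
              rw [Groth.Agent.Helper6.NT.symm' T u2 u0, taq_0_2, Groth.Agent.Helper6.NT.symm' T u2 u1, z_1_2, (h2 u2).2] at key
              exact mul_left_cancel₀ (T.w_pos u2).ne' (by linarith only [key])
            have f0 : T.m u1 = T.m u1 := rfl
            have f1 : T.m u0 = T.m u1 := by linarith only [r_0, r_1, r_2]
            have f2 : T.m u2 = T.m u1 := by linarith only [r_0, r_1, r_2]
            have f3 : T.a u1 u1 = -2 * T.w u1 := by have := (h2 u1).2; linarith only [this, tw_0_1, tw_0_2]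
            have f4 : T.a u1 u0 = 2 * T.w u1 := by rw [Groth.Agent.Helper6.NT.symm' T u1 u0]; linarith only [tap_0_1, tw_0_1, tw_0_2]
            have f5 : T.a u1 u2 = 0 := by exact z_1_2
            have f6 : T.a u0 u0 = -4 * T.w u1 := by have := (h2 u0).2; linarith only [this, tw_0_1, tw_0_2]
            have f7 : T.a u0 u2 = 2 * T.w u1 := by linarith only [tap_0_2, tw_0_1, tw_0_2]
            have f8 : T.a u2 u2 = -2 * T.w u1 := by have := (h2 u2).2; linarith only [this, tw_0_1, tw_0_2]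
            have f9 : T.w u1 = T.w u1 := rfl
            have f10 : T.w u0 = 2 * T.w u1 := by linarith only [tw_0_1, tw_0_2]
            have f11 : T.w u2 = T.w u1 := by linarith only [tw_0_1, tw_0_2]
            exact ⟨u1, u0, u2, T.m u1, T.w u1, hn_1_0, hn_2_0.symm, hn_2_1.symm, (h2 u1).1, (h2 u0).1, (h2 u2).1, Or.inr (Or.inr (Or.inr (Or.inr (Or.inl ⟨f0, f1, f2, f3, f4, f5, f6, f7, f8, f9, f10, f11⟩))))⟩
          · -- (1,2) nonzero
            obtain ⟨lbp_1_2, lbq_1_2⟩ := Groth.Agent.Helper6.NT.lb T u1 u2 hn_2_1.symm nz_1_2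
            rcases Groth.Agent.Helper6.NT.edge5 T h2 (by norm_num) u1 u2 hn_2_1.symm nz_1_2 with ⟨tw_1_2, tap_1_2, taq_1_2⟩ | ⟨tw_1_2, tap_1_2, taq_1_2⟩ | ⟨tw_1_2, tap_1_2, taq_1_2⟩ | ⟨tw_1_2, tap_1_2, taq_1_2⟩ | ⟨tw_1_2, tap_1_2, taq_1_2⟩
            · -- (1,2) S
              exfalso
              have key := Groth.Agent.Helper6.NT.nonposfun3 T h2 u0 u1 u2 2 3 3
              linarith only [key, tap_0_1, taq_0_1, tap_0_2, taq_0_2, tap_1_2, taq_1_2, T.w_pos u0, T.w_pos u1, T.w_pos u2]
            · -- (1,2) Dp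
              exfalso
              linarith only [tap_0_1, tap_1_2, tap_0_2, taq_0_1, taq_1_2, taq_0_2, T.w_pos u0, T.w_pos u1, T.w_pos u2]
            · -- (1,2) Dm
              exfalso
              linarith only [tap_0_1, tap_1_2, tap_0_2, taq_0_1, taq_1_2, taq_0_2, T.w_pos u0, T.w_pos u1, T.w_pos u2]
            · -- (1,2) Tp
              exfalso
              linarith only [tap_0_1, tap_1_2, tap_0_2, taq_0_1, taq_1_2, taq_0_2, T.w_pos u0, T.w_pos u1, T.w_pos u2]
            · -- (1,2) Tm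
              exfalso
              linarith only [tap_0_1, tap_1_2, tap_0_2, taq_0_1, taq_1_2, taq_0_2, T.w_pos u0, T.w_pos u1, T.w_pos u2]
        · -- (0,2) Tp
          rcases eq_or_ne (T.a u1 u2) 0 with z_1_2 | nz_1_2
          · -- (1,2) zero
            exfalso
            have key := Groth.Agent.Helper6.NT.nonposfun3 T h2 u0 u1 u2 7 6 3
            linarith only [key, tap_0_1, taq_0_1, tap_0_2, taq_0_2, z_1_2, T.w_pos u0, T.w_pos u1, T.w_pos u2]
          · -- (1,2) nonzero
            obtain ⟨lbp_1_2, lbq_1_2⟩ := Groth.Agent.Helper6.NT.lb T u1 u2 hn_2_1.symm nz_1_2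
            rcases Groth.Agent.Helper6.NT.edge5 T h2 (by norm_num) u1 u2 hn_2_1.symm nz_1_2 with ⟨tw_1_2, tap_1_2, taq_1_2⟩ | ⟨tw_1_2, tap_1_2, taq_1_2⟩ | ⟨tw_1_2, tap_1_2, taq_1_2⟩ | ⟨tw_1_2, tap_1_2, taq_1_2⟩ | ⟨tw_1_2, tap_1_2, taq_1_2⟩
            · -- (1,2) S
              exfalso
              linarith only [tap_0_1, tap_1_2, tap_0_2, taq_0_1, taq_1_2, taq_0_2, T.w_pos u0, T.w_pos u1, T.w_pos u2]
            · -- (1,2) Dp
              exfalso
              linarith only [tap_0_1, tap_1_2, tap_0_2, taq_0_1, taq_1_2, taq_0_2, T.w_pos u0, T.w_pos u1, T.w_pos u2]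
            · -- (1,2) Dm
              exfalso
              linarith only [tap_0_1, tap_1_2, tap_0_2, taq_0_1, taq_1_2, taq_0_2, T.w_pos u0, T.w_pos u1, T.w_pos u2]
            · -- (1,2) Tp
              exfalso
              linarith only [tap_0_1, tap_1_2, tap_0_2, taq_0_1, taq_1_2, taq_0_2, T.w_pos u0, T.w_pos u1, T.w_pos u2]
            · -- (1,2) Tm
              exfalso
              linarith only [tap_0_1, tap_1_2, tap_0_2, taq_0_1, taq_1_2, taq_0_2, T.w_pos u0, T.w_pos u1, T.w_pos u2]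
        · -- (0,2) Tm
          rcases eq_or_ne (T.a u1 u2) 0 with z_1_2 | nz_1_2
          · -- (1,2) zero
            exfalso
            have key := Groth.Agent.Helper6.NT.nonposfun3 T h2 u0 u1 u2 6 5 8
            linarith only [key, tap_0_1, taq_0_1, tap_0_2, taq_0_2, z_1_2, T.w_pos u0, T.w_pos u1, T.w_pos u2]
          · -- (1,2) nonzero
            obtain ⟨lbp_1_2, lbq_1_2⟩ := Groth.Agent.Helper6.NT.lb T u1 u2 hn_2_1.symm nz_1_2
            rcases Groth.Agent.Helper6.NT.edge5 T h2 (by norm_num) u1 u2 hn_2_1.symm nz_1_2 with ⟨tw_1_2, tap_1_2, taq_1_2⟩ | ⟨tw_1_2, tap_1_2, taq_1_2⟩ | ⟨tw_1_2, tap_1_2, taq_1_2⟩ | ⟨tw_1_2, tap_1_2, taq_1_2⟩ | ⟨tw_1_2, tap_1_2, taq_1_2⟩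
            · -- (1,2) S
              exfalso
              linarith only [tap_0_1, tap_1_2, tap_0_2, taq_0_1, taq_1_2, taq_0_2, T.w_pos u0, T.w_pos u1, T.w_pos u2]
            · -- (1,2) Dp
              exfalso
              linarith only [tap_0_1, tap_1_2, tap_0_2, taq_0_1, taq_1_2, taq_0_2, T.w_pos u0, T.w_pos u1, T.w_pos u2]
            · -- (1,2) Dm
              exfalso
              linarith only [tap_0_1, tap_1_2, tap_0_2, taq_0_1, taq_1_2, taq_0_2, T.w_pos u0, T.w_pos u1, T.w_pos u2]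
            · -- (1,2) Tp
              exfalso
              linarith only [tap_0_1, tap_1_2, tap_0_2, taq_0_1, taq_1_2, taq_0_2, T.w_pos u0, T.w_pos u1, T.w_pos u2]
            · -- (1,2) Tm
              exfalso
              linarith only [tap_0_1, tap_1_2, tap_0_2, taq_0_1, taq_1_2, taq_0_2, T.w_pos u0, T.w_pos u1, T.w_pos u2]
      · push Not at hx
        have cl_0 := hx
        clear hx
        by_cases hx : ∃ j, (j ≠ u0 ∧ j ≠ u1) ∧ T.a u1 j ≠ 0
        · obtain ⟨u2, ⟨hn_2_0, hn_2_1⟩, e_1_2⟩ := hx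
          have z_0_2 : T.a u0 u2 = 0 := cl_0 u2 ⟨hn_2_0, hn_2_1⟩
          rcases Groth.Agent.Helper6.NT.edge5 T h2 (by norm_num) u1 u2 hn_2_1.symm e_1_2 with ⟨tw_1_2, tap_1_2, taq_1_2⟩ | ⟨tw_1_2, tap_1_2, taq_1_2⟩ | ⟨tw_1_2, tap_1_2, taq_1_2⟩ | ⟨tw_1_2, tap_1_2, taq_1_2⟩ | ⟨tw_1_2, tap_1_2, taq_1_2⟩
          · -- (1,2) S
            have hinj := Groth.Agent.Helper6.NT.inj3 u0 u1 u2 hn_1_0 hn_2_0 hn_2_1
            have r_0 : -2 * T.m u0 + 1 * T.m u1 = 0 := by
              have key := Groth.Agent.Helper6.NT.rowfun3 T u0 u1 u2 hinj u0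
              rw [(h2 u0).2, tap_0_1, z_0_2] at key
              exact mul_left_cancel₀ (T.w_pos u0).ne' (by linarith only [key])
            have r_1 : 2 * T.m u0 + -2 * T.m u1 + 1 * T.m u2 = 0 := by
              have key := Groth.Agent.Helper6.NT.rowfun3 T u0 u1 u2 hinj u1
              rw [Groth.Agent.Helper6.NT.symm' T u1 u0, taq_0_1, (h2 u1).2, tap_1_2] at key
              exact mul_left_cancel₀ (T.w_pos u1).ne' (by linarith only [key])
            have r_2 : 1 * T.m u1 + -2 * T.m u2 = 0 := by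
              have key := Groth.Agent.Helper6.NT.rowfun3 T u0 u1 u2 hinj u2
              rw [Groth.Agent.Helper6.NT.symm' T u2 u0, z_0_2, Groth.Agent.Helper6.NT.symm' T u2 u1, taq_1_2, (h2 u2).2] at key
              exact mul_left_cancel₀ (T.w_pos u2).ne' (by linarith only [key])
            exfalso
            linarith only [r_0, r_1, r_2, T.m_pos u0, T.m_pos u1, T.m_pos u2]
          · -- (1,2) Dp
            have hinj := Groth.Agent.Helper6.NT.inj3 u0 u1 u2 hn_1_0 hn_2_0 hn_2_1
            have r_0 : -2 * T.m u0 + 1 * T.m u1 = 0 := by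
              have key := Groth.Agent.Helper6.NT.rowfun3 T u0 u1 u2 hinj u0
              rw [(h2 u0).2, tap_0_1, z_0_2] at key
              exact mul_left_cancel₀ (T.w_pos u0).ne' (by linarith only [key])
            have r_1 : 2 * T.m u0 + -2 * T.m u1 + 2 * T.m u2 = 0 := by
              have key := Groth.Agent.Helper6.NT.rowfun3 T u0 u1 u2 hinj u1
              rw [Groth.Agent.Helper6.NT.symm' T u1 u0, taq_0_1, (h2 u1).2, tap_1_2] at key
              exact mul_left_cancel₀ (T.w_pos u1).ne' (by linarith only [key])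
            have r_2 : 1 * T.m u1 + -2 * T.m u2 = 0 := by
              have key := Groth.Agent.Helper6.NT.rowfun3 T u0 u1 u2 hinj u2
              rw [Groth.Agent.Helper6.NT.symm' T u2 u0, z_0_2, Groth.Agent.Helper6.NT.symm' T u2 u1, taq_1_2, (h2 u2).2] at key
              exact mul_left_cancel₀ (T.w_pos u2).ne' (by linarith only [key])
            have f0 : T.m u0 = T.m u0 := rfl
            have f1 : T.m u1 = 2 * T.m u0 := by linarith only [r_0, r_1, r_2]
            have f2 : T.m u2 = T.m u0 := by linarith only [r_0, r_1, r_2]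
            have f3 : T.a u0 u0 = -4 * T.w u1 := by have := (h2 u0).2; linarith only [this, tw_0_1, tw_1_2]
            have f4 : T.a u0 u1 = 2 * T.w u1 := by linarith only [tap_0_1, tw_0_1, tw_1_2]
            have f5 : T.a u0 u2 = 0 := by exact z_0_2
            have f6 : T.a u1 u1 = -2 * T.w u1 := by have := (h2 u1).2; linarith only [this, tw_0_1, tw_1_2]
            have f7 : T.a u1 u2 = 2 * T.w u1 := by linarith only [tap_1_2, tw_0_1, tw_1_2]
            have f8 : T.a u2 u2 = -4 * T.w u1 := by have := (h2 u2).2; linarith only [this, tw_0_1, tw_1_2]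
            have f9 : T.w u0 = 2 * T.w u1 := by linarith only [tw_0_1, tw_1_2]
            have f10 : T.w u1 = T.w u1 := rfl
            have f11 : T.w u2 = 2 * T.w u1 := by linarith only [tw_0_1, tw_1_2]
            exact ⟨u0, u1, u2, T.m u0, T.w u1, hn_1_0.symm, hn_2_1.symm, hn_2_0.symm, (h2 u0).1, (h2 u1).1, (h2 u2).1, Or.inr (Or.inr (Or.inr (Or.inr (Or.inr (⟨f0, f1, f2, f3, f4, f5, f6, f7, f8, f9, f10, f11⟩)))))⟩
          · -- (1,2) Dm
            have hinj := Groth.Agent.Helper6.NT.inj3 u0 u1 u2 hn_1_0 hn_2_0 hn_2_1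
            have r_0 : -2 * T.m u0 + 1 * T.m u1 = 0 := by
              have key := Groth.Agent.Helper6.NT.rowfun3 T u0 u1 u2 hinj u0
              rw [(h2 u0).2, tap_0_1, z_0_2] at key
              exact mul_left_cancel₀ (T.w_pos u0).ne' (by linarith only [key])
            have r_1 : 2 * T.m u0 + -2 * T.m u1 + 1 * T.m u2 = 0 := by
              have key := Groth.Agent.Helper6.NT.rowfun3 T u0 u1 u2 hinj u1
              rw [Groth.Agent.Helper6.NT.symm' T u1 u0, taq_0_1, (h2 u1).2, tap_1_2] at key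
              exact mul_left_cancel₀ (T.w_pos u1).ne' (by linarith only [key])
            have r_2 : 2 * T.m u1 + -2 * T.m u2 = 0 := by
              have key := Groth.Agent.Helper6.NT.rowfun3 T u0 u1 u2 hinj u2
              rw [Groth.Agent.Helper6.NT.symm' T u2 u0, z_0_2, Groth.Agent.Helper6.NT.symm' T u2 u1, taq_1_2, (h2 u2).2] at key
              exact mul_left_cancel₀ (T.w_pos u2).ne' (by linarith only [key])
            have f0 : T.m u2 = 2 * T.m u0 := by linarith only [r_0, r_1, r_2]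
            have f1 : T.m u1 = 2 * T.m u0 := by linarith only [r_0, r_1, r_2]
            have f2 : T.m u0 = T.m u0 := rfl
            have f3 : T.a u2 u2 = -2 * T.w u2 := by have := (h2 u2).2; linarith only [this, tw_0_1, tw_1_2]
            have f4 : T.a u2 u1 = 2 * T.w u2 := by rw [Groth.Agent.Helper6.NT.symm' T u2 u1]; linarith only [tap_1_2, tw_0_1, tw_1_2]
            have f5 : T.a u2 u0 = 0 := by rw [Groth.Agent.Helper6.NT.symm' T u2 u0]; exact z_0_2
            have f6 : T.a u1 u1 = -4 * T.w u2 := by have := (h2 u1).2; linarith only [this, tw_0_1, tw_1_2]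
            have f7 : T.a u1 u0 = 4 * T.w u2 := by rw [Groth.Agent.Helper6.NT.symm' T u1 u0]; linarith only [tap_0_1, tw_0_1, tw_1_2]
            have f8 : T.a u0 u0 = -8 * T.w u2 := by have := (h2 u0).2; linarith only [this, tw_0_1, tw_1_2]
            have f9 : T.w u2 = T.w u2 := rfl
            have f10 : T.w u1 = 2 * T.w u2 := by linarith only [tw_0_1, tw_1_2]
            have f11 : T.w u0 = 4 * T.w u2 := by linarith only [tw_0_1, tw_1_2]
            exact ⟨u2, u1, u0, T.m u0, T.w u2, hn_2_1, hn_1_0, hn_2_0, (h2 u2).1, (h2 u1).1, (h2 u0).1, Or.inr (Or.inr (Or.inr (Or.inl ⟨f0, f1, f2, f3, f4, f5, f6, f7, f8, f9, f10, f11⟩)))⟩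
          · -- (1,2) Tp
            exfalso
            have key := Groth.Agent.Helper6.NT.nonposfun3 T h2 u0 u1 u2 3 7 3
            linarith only [key, tap_0_1, taq_0_1, z_0_2, tap_1_2, taq_1_2, T.w_pos u0, T.w_pos u1, T.w_pos u2]
          · -- (1,2) Tm
            exfalso
            have key := Groth.Agent.Helper6.NT.nonposfun3 T h2 u0 u1 u2 3 7 9
            linarith only [key, tap_0_1, taq_0_1, z_0_2, tap_1_2, taq_1_2, T.w_pos u0, T.w_pos u1, T.w_pos u2]
        · push Not at hx
          have cl_1 := hx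
          clear hx
          exfalso
          refine Groth.Agent.Helper6.NT.closed_contra T [u0, u1] (by simp) (by simp) ?_
          intro i hi j hj
          simp only [List.mem_cons, List.not_mem_nil, or_false, not_or] at hi hj
          rcases hi with rfl | rfl
          · exact cl_0 j ⟨hj.1, hj.2⟩
          · exact cl_1 j ⟨hj.1, hj.2⟩
    · -- (0,1) Tp
      by_cases hx : ∃ j, (j ≠ u0 ∧ j ≠ u1) ∧ T.a u0 j ≠ 0
      · obtain ⟨u2, ⟨hn_2_0, hn_2_1⟩, e_0_2⟩ := hx
        rcases Groth.Agent.Helper6.NT.edge5 T h2 (by norm_num) u0 u2 hn_2_0.symm e_0_2 with ⟨tw_0_2, tap_0_2, taq_0_2⟩ | ⟨tw_0_2, tap_0_2, taq_0_2⟩ | ⟨tw_0_2, tap_0_2, taq_0_2⟩ | ⟨tw_0_2, tap_0_2, taq_0_2⟩ | ⟨tw_0_2, tap_0_2, taq_0_2⟩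
        · -- (0,2) S
          rcases eq_or_ne (T.a u1 u2) 0 with z_1_2 | nz_1_2
          · -- (1,2) zero
            have hinj := Groth.Agent.Helper6.NT.inj3 u0 u1 u2 hn_1_0 hn_2_0 hn_2_1
            have r_0 : -2 * T.m u0 + 3 * T.m u1 + 1 * T.m u2 = 0 := by
              have key := Groth.Agent.Helper6.NT.rowfun3 T u0 u1 u2 hinj u0
              rw [(h2 u0).2, tap_0_1, tap_0_2] at key
              exact mul_left_cancel₀ (T.w_pos u0).ne' (by linarith only [key])
            have r_1 : 1 * T.m u0 + -2 * T.m u1 = 0 := by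
              have key := Groth.Agent.Helper6.NT.rowfun3 T u0 u1 u2 hinj u1
              rw [Groth.Agent.Helper6.NT.symm' T u1 u0, taq_0_1, (h2 u1).2, z_1_2] at key
              exact mul_left_cancel₀ (T.w_pos u1).ne' (by linarith only [key])
            have r_2 : 1 * T.m u0 + -2 * T.m u2 = 0 := by
              have key := Groth.Agent.Helper6.NT.rowfun3 T u0 u1 u2 hinj u2
              rw [Groth.Agent.Helper6.NT.symm' T u2 u0, taq_0_2, Groth.Agent.Helper6.NT.symm' T u2 u1, z_1_2, (h2 u2).2] at key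
              exact mul_left_cancel₀ (T.w_pos u2).ne' (by linarith only [key])
            have f0 : T.m u2 = T.m u2 := rfl
            have f1 : T.m u0 = 2 * T.m u2 := by linarith only [r_0, r_1, r_2]
            have f2 : T.m u1 = T.m u2 := by linarith only [r_0, r_1, r_2]
            have f3 : T.a u2 u2 = -2 * T.w u2 := by have := (h2 u2).2; linarith only [this, tw_0_1, tw_0_2]
            have f4 : T.a u2 u0 = T.w u2 := by rw [Groth.Agent.Helper6.NT.symm' T u2 u0]; linarith only [tap_0_2, tw_0_1, tw_0_2]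
            have f5 : T.a u2 u1 = 0 := by rw [Groth.Agent.Helper6.NT.symm' T u2 u1]; exact z_1_2
            have f6 : T.a u0 u0 = -2 * T.w u2 := by have := (h2 u0).2; linarith only [this, tw_0_1, tw_0_2]
            have f7 : T.a u0 u1 = 3 * T.w u2 := by linarith only [tap_0_1, tw_0_1, tw_0_2]
            have f8 : T.a u1 u1 = -6 * T.w u2 := by have := (h2 u1).2; linarith only [this, tw_0_1, tw_0_2]
            have f9 : T.w u2 = T.w u2 := rfl
            have f10 : T.w u0 = T.w u2 := by linarith only [tw_0_1, tw_0_2]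
            have f11 : T.w u1 = 3 * T.w u2 := by linarith only [tw_0_1, tw_0_2]
            exact ⟨u2, u0, u1, T.m u2, T.w u2, hn_2_0, hn_1_0.symm, hn_2_1, (h2 u2).1, (h2 u0).1, (h2 u1).1, Or.inr (Or.inl ⟨f0, f1, f2, f3, f4, f5, f6, f7, f8, f9, f10, f11⟩)⟩
          · -- (1,2) nonzero
            obtain ⟨lbp_1_2, lbq_1_2⟩ := Groth.Agent.Helper6.NT.lb T u1 u2 hn_2_1.symm nz_1_2
            rcases Groth.Agent.Helper6.NT.edge5 T h2 (by norm_num) u1 u2 hn_2_1.symm nz_1_2 with ⟨tw_1_2, tap_1_2, taq_1_2⟩ | ⟨tw_1_2, tap_1_2, taq_1_2⟩ | ⟨tw_1_2, tap_1_2, taq_1_2⟩ | ⟨tw_1_2, tap_1_2, taq_1_2⟩ | ⟨tw_1_2, tap_1_2, taq_1_2⟩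
            · -- (1,2) S
              exfalso
              linarith only [tap_0_1, tap_1_2, tap_0_2, taq_0_1, taq_1_2, taq_0_2, T.w_pos u0, T.w_pos u1, T.w_pos u2]
            · -- (1,2) Dp
              exfalso
              linarith only [tap_0_1, tap_1_2, tap_0_2, taq_0_1, taq_1_2, taq_0_2, T.w_pos u0, T.w_pos u1, T.w_pos u2]
            · -- (1,2) Dm
              exfalso
              linarith only [tap_0_1, tap_1_2, tap_0_2, taq_0_1, taq_1_2, taq_0_2, T.w_pos u0, T.w_pos u1, T.w_pos u2]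
            · -- (1,2) Tp
              exfalso
              linarith only [tap_0_1, tap_1_2, tap_0_2, taq_0_1, taq_1_2, taq_0_2, T.w_pos u0, T.w_pos u1, T.w_pos u2]
            · -- (1,2) Tm
              exfalso
              have key := Groth.Agent.Helper6.NT.nonposfun3 T h2 u0 u1 u2 3 2 3
              linarith only [key, tap_0_1, taq_0_1, tap_0_2, taq_0_2, tap_1_2, taq_1_2, T.w_pos u0, T.w_pos u1, T.w_pos u2]
        · -- (0,2) Dp
          rcases eq_or_ne (T.a u1 u2) 0 with z_1_2 | nz_1_2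
          · -- (1,2) zero
            exfalso
            have key := Groth.Agent.Helper6.NT.nonposfun3 T h2 u0 u1 u2 7 3 3
            linarith only [key, tap_0_1, taq_0_1, tap_0_2, taq_0_2, z_1_2, T.w_pos u0, T.w_pos u1, T.w_pos u2]
          · -- (1,2) nonzero
            obtain ⟨lbp_1_2, lbq_1_2⟩ := Groth.Agent.Helper6.NT.lb T u1 u2 hn_2_1.symm nz_1_2
            rcases Groth.Agent.Helper6.NT.edge5 T h2 (by norm_num) u1 u2 hn_2_1.symm nz_1_2 with ⟨tw_1_2, tap_1_2, taq_1_2⟩ | ⟨tw_1_2, tap_1_2, taq_1_2⟩ | ⟨tw_1_2, tap_1_2, taq_1_2⟩ | ⟨tw_1_2, tap_1_2, taq_1_2⟩ | ⟨tw_1_2, tap_1_2, taq_1_2⟩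
            · -- (1,2) S
              exfalso
              linarith only [tap_0_1, tap_1_2, tap_0_2, taq_0_1, taq_1_2, taq_0_2, T.w_pos u0, T.w_pos u1, T.w_pos u2]
            · -- (1,2) Dp
              exfalso
              linarith only [tap_0_1, tap_1_2, tap_0_2, taq_0_1, taq_1_2, taq_0_2, T.w_pos u0, T.w_pos u1, T.w_pos u2]
            · -- (1,2) Dm
              exfalso
              linarith only [tap_0_1, tap_1_2, tap_0_2, taq_0_1, taq_1_2, taq_0_2, T.w_pos u0, T.w_pos u1, T.w_pos u2]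
            · -- (1,2) Tp
              exfalso
              linarith only [tap_0_1, tap_1_2, tap_0_2, taq_0_1, taq_1_2, taq_0_2, T.w_pos u0, T.w_pos u1, T.w_pos u2]
            · -- (1,2) Tm
              exfalso
              linarith only [tap_0_1, tap_1_2, tap_0_2, taq_0_1, taq_1_2, taq_0_2, T.w_pos u0, T.w_pos u1, T.w_pos u2]
        · -- (0,2) Dm
          rcases eq_or_ne (T.a u1 u2) 0 with z_1_2 | nz_1_2
          · -- (1,2) zero
            exfalso
            have key := Groth.Agent.Helper6.NT.nonposfun3 T h2 u0 u1 u2 7 3 6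
            linarith only [key, tap_0_1, taq_0_1, tap_0_2, taq_0_2, z_1_2, T.w_pos u0, T.w_pos u1, T.w_pos u2]
          · -- (1,2) nonzero
            obtain ⟨lbp_1_2, lbq_1_2⟩ := Groth.Agent.Helper6.NT.lb T u1 u2 hn_2_1.symm nz_1_2
            rcases Groth.Agent.Helper6.NT.edge5 T h2 (by norm_num) u1 u2 hn_2_1.symm nz_1_2 with ⟨tw_1_2, tap_1_2, taq_1_2⟩ | ⟨tw_1_2, tap_1_2, taq_1_2⟩ | ⟨tw_1_2, tap_1_2, taq_1_2⟩ | ⟨tw_1_2, tap_1_2, taq_1_2⟩ | ⟨tw_1_2, tap_1_2, taq_1_2⟩
            · -- (1,2) S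
              exfalso
              linarith only [tap_0_1, tap_1_2, tap_0_2, taq_0_1, taq_1_2, taq_0_2, T.w_pos u0, T.w_pos u1, T.w_pos u2]
            · -- (1,2) Dp
              exfalso
              linarith only [tap_0_1, tap_1_2, tap_0_2, taq_0_1, taq_1_2, taq_0_2, T.w_pos u0, T.w_pos u1, T.w_pos u2]
            · -- (1,2) Dm
              exfalso
              linarith only [tap_0_1, tap_1_2, tap_0_2, taq_0_1, taq_1_2, taq_0_2, T.w_pos u0, T.w_pos u1, T.w_pos u2]
            · -- (1,2) Tp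
              exfalso
              linarith only [tap_0_1, tap_1_2, tap_0_2, taq_0_1, taq_1_2, taq_0_2, T.w_pos u0, T.w_pos u1, T.w_pos u2]
            · -- (1,2) Tm
              exfalso
              linarith only [tap_0_1, tap_1_2, tap_0_2, taq_0_1, taq_1_2, taq_0_2, T.w_pos u0, T.w_pos u1, T.w_pos u2]
        · -- (0,2) Tp
          rcases eq_or_ne (T.a u1 u2) 0 with z_1_2 | nz_1_2
          · -- (1,2) zero
            exfalso
            have key := Groth.Agent.Helper6.NT.nonposfun3 T h2 u0 u1 u2 5 2 2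
            linarith only [key, tap_0_1, taq_0_1, tap_0_2, taq_0_2, z_1_2, T.w_pos u0, T.w_pos u1, T.w_pos u2]
          · -- (1,2) nonzero
            obtain ⟨lbp_1_2, lbq_1_2⟩ := Groth.Agent.Helper6.NT.lb T u1 u2 hn_2_1.symm nz_1_2
            rcases Groth.Agent.Helper6.NT.edge5 T h2 (by norm_num) u1 u2 hn_2_1.symm nz_1_2 with ⟨tw_1_2, tap_1_2, taq_1_2⟩ | ⟨tw_1_2, tap_1_2, taq_1_2⟩ | ⟨tw_1_2, tap_1_2, taq_1_2⟩ | ⟨tw_1_2, tap_1_2, taq_1_2⟩ | ⟨tw_1_2, tap_1_2, taq_1_2⟩
            · -- (1,2) S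
              exfalso
              have key := Groth.Agent.Helper6.NT.nonposfun3 T h2 u0 u1 u2 2 1 1
              linarith only [key, tap_0_1, taq_0_1, tap_0_2, taq_0_2, tap_1_2, taq_1_2, T.w_pos u0, T.w_pos u1, T.w_pos u2]
            · -- (1,2) Dp
              exfalso
              linarith only [tap_0_1, tap_1_2, tap_0_2, taq_0_1, taq_1_2, taq_0_2, T.w_pos u0, T.w_pos u1, T.w_pos u2]
            · -- (1,2) Dm
              exfalso
              linarith only [tap_0_1, tap_1_2, tap_0_2, taq_0_1, taq_1_2, taq_0_2, T.w_pos u0, T.w_pos u1, T.w_pos u2]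
            · -- (1,2) Tp
              exfalso
              linarith only [tap_0_1, tap_1_2, tap_0_2, taq_0_1, taq_1_2, taq_0_2, T.w_pos u0, T.w_pos u1, T.w_pos u2]
            · -- (1,2) Tm
              exfalso
              linarith only [tap_0_1, tap_1_2, tap_0_2, taq_0_1, taq_1_2, taq_0_2, T.w_pos u0, T.w_pos u1, T.w_pos u2]
        · -- (0,2) Tm
          rcases eq_or_ne (T.a u1 u2) 0 with z_1_2 | nz_1_2
          · -- (1,2) zero
            exfalso
            have key := Groth.Agent.Helper6.NT.nonposfun3 T h2 u0 u1 u2 5 2 6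
            linarith only [key, tap_0_1, taq_0_1, tap_0_2, taq_0_2, z_1_2, T.w_pos u0, T.w_pos u1, T.w_pos u2]
          · -- (1,2) nonzero
            obtain ⟨lbp_1_2, lbq_1_2⟩ := Groth.Agent.Helper6.NT.lb T u1 u2 hn_2_1.symm nz_1_2
            rcases Groth.Agent.Helper6.NT.edge5 T h2 (by norm_num) u1 u2 hn_2_1.symm nz_1_2 with ⟨tw_1_2, tap_1_2, taq_1_2⟩ | ⟨tw_1_2, tap_1_2, taq_1_2⟩ | ⟨tw_1_2, tap_1_2, taq_1_2⟩ | ⟨tw_1_2, tap_1_2, taq_1_2⟩ | ⟨tw_1_2, tap_1_2, taq_1_2⟩
            · -- (1,2) S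
              exfalso
              linarith only [tap_0_1, tap_1_2, tap_0_2, taq_0_1, taq_1_2, taq_0_2, T.w_pos u0, T.w_pos u1, T.w_pos u2]
            · -- (1,2) Dp
              exfalso
              linarith only [tap_0_1, tap_1_2, tap_0_2, taq_0_1, taq_1_2, taq_0_2, T.w_pos u0, T.w_pos u1, T.w_pos u2]
            · -- (1,2) Dm
              exfalso
              linarith only [tap_0_1, tap_1_2, tap_0_2, taq_0_1, taq_1_2, taq_0_2, T.w_pos u0, T.w_pos u1, T.w_pos u2]
            · -- (1,2) Tp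
              exfalso
              linarith only [tap_0_1, tap_1_2, tap_0_2, taq_0_1, taq_1_2, taq_0_2, T.w_pos u0, T.w_pos u1, T.w_pos u2]
            · -- (1,2) Tm
              exfalso
              linarith only [tap_0_1, tap_1_2, tap_0_2, taq_0_1, taq_1_2, taq_0_2, T.w_pos u0, T.w_pos u1, T.w_pos u2]
      · push Not at hx
        have cl_0 := hx
        clear hx
        by_cases hx : ∃ j, (j ≠ u0 ∧ j ≠ u1) ∧ T.a u1 j ≠ 0
        · obtain ⟨u2, ⟨hn_2_0, hn_2_1⟩, e_1_2⟩ := hx
          have z_0_2 : T.a u0 u2 = 0 := cl_0 u2 ⟨hn_2_0, hn_2_1⟩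
          rcases Groth.Agent.Helper6.NT.edge5 T h2 (by norm_num) u1 u2 hn_2_1.symm e_1_2 with ⟨tw_1_2, tap_1_2, taq_1_2⟩ | ⟨tw_1_2, tap_1_2, taq_1_2⟩ | ⟨tw_1_2, tap_1_2, taq_1_2⟩ | ⟨tw_1_2, tap_1_2, taq_1_2⟩ | ⟨tw_1_2, tap_1_2, taq_1_2⟩
          · -- (1,2) S
            have hinj := Groth.Agent.Helper6.NT.inj3 u0 u1 u2 hn_1_0 hn_2_0 hn_2_1
            have r_0 : -2 * T.m u0 + 3 * T.m u1 = 0 := by
              have key := Groth.Agent.Helper6.NT.rowfun3 T u0 u1 u2 hinj u0
              rw [(h2 u0).2, tap_0_1, z_0_2] at key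
              exact mul_left_cancel₀ (T.w_pos u0).ne' (by linarith only [key])
            have r_1 : 1 * T.m u0 + -2 * T.m u1 + 1 * T.m u2 = 0 := by
              have key := Groth.Agent.Helper6.NT.rowfun3 T u0 u1 u2 hinj u1
              rw [Groth.Agent.Helper6.NT.symm' T u1 u0, taq_0_1, (h2 u1).2, tap_1_2] at key
              exact mul_left_cancel₀ (T.w_pos u1).ne' (by linarith only [key])
            have r_2 : 1 * T.m u1 + -2 * T.m u2 = 0 := by
              have key := Groth.Agent.Helper6.NT.rowfun3 T u0 u1 u2 hinj u2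
              rw [Groth.Agent.Helper6.NT.symm' T u2 u0, z_0_2, Groth.Agent.Helper6.NT.symm' T u2 u1, taq_1_2, (h2 u2).2] at key
              exact mul_left_cancel₀ (T.w_pos u2).ne' (by linarith only [key])
            have f0 : T.m u2 = T.m u2 := rfl
            have f1 : T.m u1 = 2 * T.m u2 := by linarith only [r_0, r_1, r_2]
            have f2 : T.m u0 = 3 * T.m u2 := by linarith only [r_0, r_1, r_2]
            have f3 : T.a u2 u2 = -6 * T.w u0 := by have := (h2 u2).2; linarith only [this, tw_0_1, tw_1_2]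
            have f4 : T.a u2 u1 = 3 * T.w u0 := by rw [Groth.Agent.Helper6.NT.symm' T u2 u1]; linarith only [tap_1_2, tw_0_1, tw_1_2]
            have f5 : T.a u2 u0 = 0 := by rw [Groth.Agent.Helper6.NT.symm' T u2 u0]; exact z_0_2
            have f6 : T.a u1 u1 = -6 * T.w u0 := by have := (h2 u1).2; linarith only [this, tw_0_1, tw_1_2]
            have f7 : T.a u1 u0 = 3 * T.w u0 := by rw [Groth.Agent.Helper6.NT.symm' T u1 u0]; linarith only [tap_0_1, tw_0_1, tw_1_2]
            have f8 : T.a u0 u0 = -2 * T.w u0 := by have := (h2 u0).2; linarith only [this, tw_0_1, tw_1_2]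
            have f9 : T.w u2 = 3 * T.w u0 := by linarith only [tw_0_1, tw_1_2]
            have f10 : T.w u1 = 3 * T.w u0 := by linarith only [tw_0_1, tw_1_2]
            have f11 : T.w u0 = T.w u0 := rfl
            exact ⟨u2, u1, u0, T.m u2, T.w u0, hn_2_1, hn_1_0, hn_2_0, (h2 u2).1, (h2 u1).1, (h2 u0).1, Or.inr (Or.inr (Or.inl ⟨f0, f1, f2, f3, f4, f5, f6, f7, f8, f9, f10, f11⟩))⟩
          · -- (1,2) Dp
            exfalso
            have key := Groth.Agent.Helper6.NT.nonposfun3 T h2 u0 u1 u2 9 7 3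
            linarith only [key, tap_0_1, taq_0_1, z_0_2, tap_1_2, taq_1_2, T.w_pos u0, T.w_pos u1, T.w_pos u2]
          · -- (1,2) Dm
            exfalso
            have key := Groth.Agent.Helper6.NT.nonposfun3 T h2 u0 u1 u2 8 6 5
            linarith only [key, tap_0_1, taq_0_1, z_0_2, tap_1_2, taq_1_2, T.w_pos u0, T.w_pos u1, T.w_pos u2]
          · -- (1,2) Tp
            exfalso
            have key := Groth.Agent.Helper6.NT.nonposfun3 T h2 u0 u1 u2 6 5 2
            linarith only [key, tap_0_1, taq_0_1, z_0_2, tap_1_2, taq_1_2, T.w_pos u0, T.w_pos u1, T.w_pos u2]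
          · -- (1,2) Tm
            exfalso
            have key := Groth.Agent.Helper6.NT.nonposfun3 T h2 u0 u1 u2 4 3 4
            linarith only [key, tap_0_1, taq_0_1, z_0_2, tap_1_2, taq_1_2, T.w_pos u0, T.w_pos u1, T.w_pos u2]
        · push Not at hx
          have cl_1 := hx
          clear hx
          exfalso
          refine Groth.Agent.Helper6.NT.closed_contra T [u0, u1] (by simp) (by simp) ?_
          intro i hi j hj
          simp only [List.mem_cons, List.not_mem_nil, or_false, not_or] at hi hj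
          rcases hi with rfl | rfl
          · exact cl_0 j ⟨hj.1, hj.2⟩
          · exact cl_1 j ⟨hj.1, hj.2⟩
    · -- (0,1) Tm
      by_cases hx : ∃ j, (j ≠ u0 ∧ j ≠ u1) ∧ T.a u0 j ≠ 0
      · obtain ⟨u2, ⟨hn_2_0, hn_2_1⟩, e_0_2⟩ := hx
        rcases Groth.Agent.Helper6.NT.edge5 T h2 (by norm_num) u0 u2 hn_2_0.symm e_0_2 with ⟨tw_0_2, tap_0_2, taq_0_2⟩ | ⟨tw_0_2, tap_0_2, taq_0_2⟩ | ⟨tw_0_2, tap_0_2, taq_0_2⟩ | ⟨tw_0_2, tap_0_2, taq_0_2⟩ | ⟨tw_0_2, tap_0_2, taq_0_2⟩
        · -- (0,2) S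
          rcases eq_or_ne (T.a u1 u2) 0 with z_1_2 | nz_1_2
          · -- (1,2) zero
            have hinj := Groth.Agent.Helper6.NT.inj3 u0 u1 u2 hn_1_0 hn_2_0 hn_2_1
            have r_0 : -2 * T.m u0 + 1 * T.m u1 + 1 * T.m u2 = 0 := by
              have key := Groth.Agent.Helper6.NT.rowfun3 T u0 u1 u2 hinj u0
              rw [(h2 u0).2, tap_0_1, tap_0_2] at key
              exact mul_left_cancel₀ (T.w_pos u0).ne' (by linarith only [key])
            have r_1 : 3 * T.m u0 + -2 * T.m u1 = 0 := by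
              have key := Groth.Agent.Helper6.NT.rowfun3 T u0 u1 u2 hinj u1
              rw [Groth.Agent.Helper6.NT.symm' T u1 u0, taq_0_1, (h2 u1).2, z_1_2] at key
              exact mul_left_cancel₀ (T.w_pos u1).ne' (by linarith only [key])
            have r_2 : 1 * T.m u0 + -2 * T.m u2 = 0 := by
              have key := Groth.Agent.Helper6.NT.rowfun3 T u0 u1 u2 hinj u2
              rw [Groth.Agent.Helper6.NT.symm' T u2 u0, taq_0_2, Groth.Agent.Helper6.NT.symm' T u2 u1, z_1_2, (h2 u2).2] at key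
              exact mul_left_cancel₀ (T.w_pos u2).ne' (by linarith only [key])
            have f0 : T.m u2 = T.m u2 := rfl
            have f1 : T.m u0 = 2 * T.m u2 := by linarith only [r_0, r_1, r_2]
            have f2 : T.m u1 = 3 * T.m u2 := by linarith only [r_0, r_1, r_2]
            have f3 : T.a u2 u2 = -6 * T.w u1 := by have := (h2 u2).2; linarith only [this, tw_0_1, tw_0_2]
            have f4 : T.a u2 u0 = 3 * T.w u1 := by rw [Groth.Agent.Helper6.NT.symm' T u2 u0]; linarith only [tap_0_2, tw_0_1, tw_0_2]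
            have f5 : T.a u2 u1 = 0 := by rw [Groth.Agent.Helper6.NT.symm' T u2 u1]; exact z_1_2
            have f6 : T.a u0 u0 = -6 * T.w u1 := by have := (h2 u0).2; linarith only [this, tw_0_1, tw_0_2]
            have f7 : T.a u0 u1 = 3 * T.w u1 := by linarith only [tap_0_1, tw_0_1, tw_0_2]
            have f8 : T.a u1 u1 = -2 * T.w u1 := by have := (h2 u1).2; linarith only [this, tw_0_1, tw_0_2]
            have f9 : T.w u2 = 3 * T.w u1 := by linarith only [tw_0_1, tw_0_2]
            have f10 : T.w u0 = 3 * T.w u1 := by linarith only [tw_0_1, tw_0_2]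
            have f11 : T.w u1 = T.w u1 := rfl
            exact ⟨u2, u0, u1, T.m u2, T.w u1, hn_2_0, hn_1_0.symm, hn_2_1, (h2 u2).1, (h2 u0).1, (h2 u1).1, Or.inr (Or.inr (Or.inl ⟨f0, f1, f2, f3, f4, f5, f6, f7, f8, f9, f10, f11⟩))⟩
          · -- (1,2) nonzero
            obtain ⟨lbp_1_2, lbq_1_2⟩ := Groth.Agent.Helper6.NT.lb T u1 u2 hn_2_1.symm nz_1_2
            rcases Groth.Agent.Helper6.NT.edge5 T h2 (by norm_num) u1 u2 hn_2_1.symm nz_1_2 with ⟨tw_1_2, tap_1_2, taq_1_2⟩ | ⟨tw_1_2, tap_1_2, taq_1_2⟩ | ⟨tw_1_2, tap_1_2, taq_1_2⟩ | ⟨tw_1_2, tap_1_2, taq_1_2⟩ | ⟨tw_1_2, tap_1_2, taq_1_2⟩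
            · -- (1,2) S
              exfalso
              linarith only [tap_0_1, tap_1_2, tap_0_2, taq_0_1, taq_1_2, taq_0_2, T.w_pos u0, T.w_pos u1, T.w_pos u2]
            · -- (1,2) Dp
              exfalso
              linarith only [tap_0_1, tap_1_2, tap_0_2, taq_0_1, taq_1_2, taq_0_2, T.w_pos u0, T.w_pos u1, T.w_pos u2]
            · -- (1,2) Dm
              exfalso
              linarith only [tap_0_1, tap_1_2, tap_0_2, taq_0_1, taq_1_2, taq_0_2, T.w_pos u0, T.w_pos u1, T.w_pos u2]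
            · -- (1,2) Tp
              exfalso
              have key := Groth.Agent.Helper6.NT.nonposfun3 T h2 u0 u1 u2 1 2 1
              linarith only [key, tap_0_1, taq_0_1, tap_0_2, taq_0_2, tap_1_2, taq_1_2, T.w_pos u0, T.w_pos u1, T.w_pos u2]
            · -- (1,2) Tm
              exfalso
              linarith only [tap_0_1, tap_1_2, tap_0_2, taq_0_1, taq_1_2, taq_0_2, T.w_pos u0, T.w_pos u1, T.w_pos u2]
        · -- (0,2) Dp
          rcases eq_or_ne (T.a u1 u2) 0 with z_1_2 | nz_1_2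
          · -- (1,2) zero
            exfalso
            have key := Groth.Agent.Helper6.NT.nonposfun3 T h2 u0 u1 u2 7 9 3
            linarith only [key, tap_0_1, taq_0_1, tap_0_2, taq_0_2, z_1_2, T.w_pos u0, T.w_pos u1, T.w_pos u2]
          · -- (1,2) nonzero
            obtain ⟨lbp_1_2, lbq_1_2⟩ := Groth.Agent.Helper6.NT.lb T u1 u2 hn_2_1.symm nz_1_2
            rcases Groth.Agent.Helper6.NT.edge5 T h2 (by norm_num) u1 u2 hn_2_1.symm nz_1_2 with ⟨tw_1_2, tap_1_2, taq_1_2⟩ | ⟨tw_1_2, tap_1_2, taq_1_2⟩ | ⟨tw_1_2, tap_1_2, taq_1_2⟩ | ⟨tw_1_2, tap_1_2, taq_1_2⟩ | ⟨tw_1_2, tap_1_2, taq_1_2⟩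
            · -- (1,2) S
              exfalso
              linarith only [tap_0_1, tap_1_2, tap_0_2, taq_0_1, taq_1_2, taq_0_2, T.w_pos u0, T.w_pos u1, T.w_pos u2]
            · -- (1,2) Dp
              exfalso
              linarith only [tap_0_1, tap_1_2, tap_0_2, taq_0_1, taq_1_2, taq_0_2, T.w_pos u0, T.w_pos u1, T.w_pos u2]
            · -- (1,2) Dm
              exfalso
              linarith only [tap_0_1, tap_1_2, tap_0_2, taq_0_1, taq_1_2, taq_0_2, T.w_pos u0, T.w_pos u1, T.w_pos u2]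
            · -- (1,2) Tp
              exfalso
              linarith only [tap_0_1, tap_1_2, tap_0_2, taq_0_1, taq_1_2, taq_0_2, T.w_pos u0, T.w_pos u1, T.w_pos u2]
            · -- (1,2) Tm
              exfalso
              linarith only [tap_0_1, tap_1_2, tap_0_2, taq_0_1, taq_1_2, taq_0_2, T.w_pos u0, T.w_pos u1, T.w_pos u2]
        · -- (0,2) Dm
          rcases eq_or_ne (T.a u1 u2) 0 with z_1_2 | nz_1_2
          · -- (1,2) zero
            exfalso
            have key := Groth.Agent.Helper6.NT.nonposfun3 T h2 u0 u1 u2 6 8 5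
            linarith only [key, tap_0_1, taq_0_1, tap_0_2, taq_0_2, z_1_2, T.w_pos u0, T.w_pos u1, T.w_pos u2]
          · -- (1,2) nonzero
            obtain ⟨lbp_1_2, lbq_1_2⟩ := Groth.Agent.Helper6.NT.lb T u1 u2 hn_2_1.symm nz_1_2
            rcases Groth.Agent.Helper6.NT.edge5 T h2 (by norm_num) u1 u2 hn_2_1.symm nz_1_2 with ⟨tw_1_2, tap_1_2, taq_1_2⟩ | ⟨tw_1_2, tap_1_2, taq_1_2⟩ | ⟨tw_1_2, tap_1_2, taq_1_2⟩ | ⟨tw_1_2, tap_1_2, taq_1_2⟩ | ⟨tw_1_2, tap_1_2, taq_1_2⟩
            · -- (1,2) S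
              exfalso
              linarith only [tap_0_1, tap_1_2, tap_0_2, taq_0_1, taq_1_2, taq_0_2, T.w_pos u0, T.w_pos u1, T.w_pos u2]
            · -- (1,2) Dp
              exfalso
              linarith only [tap_0_1, tap_1_2, tap_0_2, taq_0_1, taq_1_2, taq_0_2, T.w_pos u0, T.w_pos u1, T.w_pos u2]
            · -- (1,2) Dm
              exfalso
              linarith only [tap_0_1, tap_1_2, tap_0_2, taq_0_1, taq_1_2, taq_0_2, T.w_pos u0, T.w_pos u1, T.w_pos u2]
            · -- (1,2) Tp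
              exfalso
              linarith only [tap_0_1, tap_1_2, tap_0_2, taq_0_1, taq_1_2, taq_0_2, T.w_pos u0, T.w_pos u1, T.w_pos u2]
            · -- (1,2) Tm
              exfalso
              linarith only [tap_0_1, tap_1_2, tap_0_2, taq_0_1, taq_1_2, taq_0_2, T.w_pos u0, T.w_pos u1, T.w_pos u2]
        · -- (0,2) Tp
          rcases eq_or_ne (T.a u1 u2) 0 with z_1_2 | nz_1_2
          · -- (1,2) zero
            exfalso
            have key := Groth.Agent.Helper6.NT.nonposfun3 T h2 u0 u1 u2 5 6 2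
            linarith only [key, tap_0_1, taq_0_1, tap_0_2, taq_0_2, z_1_2, T.w_pos u0, T.w_pos u1, T.w_pos u2]
          · -- (1,2) nonzero
            obtain ⟨lbp_1_2, lbq_1_2⟩ := Groth.Agent.Helper6.NT.lb T u1 u2 hn_2_1.symm nz_1_2
            rcases Groth.Agent.Helper6.NT.edge5 T h2 (by norm_num) u1 u2 hn_2_1.symm nz_1_2 with ⟨tw_1_2, tap_1_2, taq_1_2⟩ | ⟨tw_1_2, tap_1_2, taq_1_2⟩ | ⟨tw_1_2, tap_1_2, taq_1_2⟩ | ⟨tw_1_2, tap_1_2, taq_1_2⟩ | ⟨tw_1_2, tap_1_2, taq_1_2⟩
            · -- (1,2) S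
              exfalso
              linarith only [tap_0_1, tap_1_2, tap_0_2, taq_0_1, taq_1_2, taq_0_2, T.w_pos u0, T.w_pos u1, T.w_pos u2]
            · -- (1,2) Dp
              exfalso
              linarith only [tap_0_1, tap_1_2, tap_0_2, taq_0_1, taq_1_2, taq_0_2, T.w_pos u0, T.w_pos u1, T.w_pos u2]
            · -- (1,2) Dm
              exfalso
              linarith only [tap_0_1, tap_1_2, tap_0_2, taq_0_1, taq_1_2, taq_0_2, T.w_pos u0, T.w_pos u1, T.w_pos u2]
            · -- (1,2) Tp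
              exfalso
              linarith only [tap_0_1, tap_1_2, tap_0_2, taq_0_1, taq_1_2, taq_0_2, T.w_pos u0, T.w_pos u1, T.w_pos u2]
            · -- (1,2) Tm
              exfalso
              linarith only [tap_0_1, tap_1_2, tap_0_2, taq_0_1, taq_1_2, taq_0_2, T.w_pos u0, T.w_pos u1, T.w_pos u2]
        · -- (0,2) Tm
          rcases eq_or_ne (T.a u1 u2) 0 with z_1_2 | nz_1_2
          · -- (1,2) zero
            exfalso
            have key := Groth.Agent.Helper6.NT.nonposfun3 T h2 u0 u1 u2 3 4 4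
            linarith only [key, tap_0_1, taq_0_1, tap_0_2, taq_0_2, z_1_2, T.w_pos u0, T.w_pos u1, T.w_pos u2]
          · -- (1,2) nonzero
            obtain ⟨lbp_1_2, lbq_1_2⟩ := Groth.Agent.Helper6.NT.lb T u1 u2 hn_2_1.symm nz_1_2
            rcases Groth.Agent.Helper6.NT.edge5 T h2 (by norm_num) u1 u2 hn_2_1.symm nz_1_2 with ⟨tw_1_2, tap_1_2, taq_1_2⟩ | ⟨tw_1_2, tap_1_2, taq_1_2⟩ | ⟨tw_1_2, tap_1_2, taq_1_2⟩ | ⟨tw_1_2, tap_1_2, taq_1_2⟩ | ⟨tw_1_2, tap_1_2, taq_1_2⟩
            · -- (1,2) S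
              exfalso
              have key := Groth.Agent.Helper6.NT.nonposfun3 T h2 u0 u1 u2 2 3 3
              linarith only [key, tap_0_1, taq_0_1, tap_0_2, taq_0_2, tap_1_2, taq_1_2, T.w_pos u0, T.w_pos u1, T.w_pos u2]
            · -- (1,2) Dp
              exfalso
              linarith only [tap_0_1, tap_1_2, tap_0_2, taq_0_1, taq_1_2, taq_0_2, T.w_pos u0, T.w_pos u1, T.w_pos u2]
            · -- (1,2) Dm
              exfalso
              linarith only [tap_0_1, tap_1_2, tap_0_2, taq_0_1, taq_1_2, taq_0_2, T.w_pos u0, T.w_pos u1, T.w_pos u2]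
            · -- (1,2) Tp
              exfalso
              linarith only [tap_0_1, tap_1_2, tap_0_2, taq_0_1, taq_1_2, taq_0_2, T.w_pos u0, T.w_pos u1, T.w_pos u2]
            · -- (1,2) Tm
              exfalso
              linarith only [tap_0_1, tap_1_2, tap_0_2, taq_0_1, taq_1_2, taq_0_2, T.w_pos u0, T.w_pos u1, T.w_pos u2]
      · push Not at hx
        have cl_0 := hx
        clear hx
        by_cases hx : ∃ j, (j ≠ u0 ∧ j ≠ u1) ∧ T.a u1 j ≠ 0
        · obtain ⟨u2, ⟨hn_2_0, hn_2_1⟩, e_1_2⟩ := hx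
          have z_0_2 : T.a u0 u2 = 0 := cl_0 u2 ⟨hn_2_0, hn_2_1⟩
          rcases Groth.Agent.Helper6.NT.edge5 T h2 (by norm_num) u1 u2 hn_2_1.symm e_1_2 with ⟨tw_1_2, tap_1_2, taq_1_2⟩ | ⟨tw_1_2, tap_1_2, taq_1_2⟩ | ⟨tw_1_2, tap_1_2, taq_1_2⟩ | ⟨tw_1_2, tap_1_2, taq_1_2⟩ | ⟨tw_1_2, tap_1_2, taq_1_2⟩
          · -- (1,2) S
            have hinj := Groth.Agent.Helper6.NT.inj3 u0 u1 u2 hn_1_0 hn_2_0 hn_2_1
            have r_0 : -2 * T.m u0 + 1 * T.m u1 = 0 := by
              have key := Groth.Agent.Helper6.NT.rowfun3 T u0 u1 u2 hinj u0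
              rw [(h2 u0).2, tap_0_1, z_0_2] at key
              exact mul_left_cancel₀ (T.w_pos u0).ne' (by linarith only [key])
            have r_1 : 3 * T.m u0 + -2 * T.m u1 + 1 * T.m u2 = 0 := by
              have key := Groth.Agent.Helper6.NT.rowfun3 T u0 u1 u2 hinj u1
              rw [Groth.Agent.Helper6.NT.symm' T u1 u0, taq_0_1, (h2 u1).2, tap_1_2] at key
              exact mul_left_cancel₀ (T.w_pos u1).ne' (by linarith only [key])
            have r_2 : 1 * T.m u1 + -2 * T.m u2 = 0 := by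
              have key := Groth.Agent.Helper6.NT.rowfun3 T u0 u1 u2 hinj u2
              rw [Groth.Agent.Helper6.NT.symm' T u2 u0, z_0_2, Groth.Agent.Helper6.NT.symm' T u2 u1, taq_1_2, (h2 u2).2] at key
              exact mul_left_cancel₀ (T.w_pos u2).ne' (by linarith only [key])
            have f0 : T.m u2 = T.m u2 := rfl
            have f1 : T.m u1 = 2 * T.m u2 := by linarith only [r_0, r_1, r_2]
            have f2 : T.m u0 = T.m u2 := by linarith only [r_0, r_1, r_2]
            have f3 : T.a u2 u2 = -2 * T.w u2 := by have := (h2 u2).2; linarith only [this, tw_0_1, tw_1_2]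
            have f4 : T.a u2 u1 = T.w u2 := by rw [Groth.Agent.Helper6.NT.symm' T u2 u1]; linarith only [tap_1_2, tw_0_1, tw_1_2]
            have f5 : T.a u2 u0 = 0 := by rw [Groth.Agent.Helper6.NT.symm' T u2 u0]; exact z_0_2
            have f6 : T.a u1 u1 = -2 * T.w u2 := by have := (h2 u1).2; linarith only [this, tw_0_1, tw_1_2]
            have f7 : T.a u1 u0 = 3 * T.w u2 := by rw [Groth.Agent.Helper6.NT.symm' T u1 u0]; linarith only [tap_0_1, tw_0_1, tw_1_2]
            have f8 : T.a u0 u0 = -6 * T.w u2 := by have := (h2 u0).2; linarith only [this, tw_0_1, tw_1_2]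
            have f9 : T.w u2 = T.w u2 := rfl
            have f10 : T.w u1 = T.w u2 := by linarith only [tw_0_1, tw_1_2]
            have f11 : T.w u0 = 3 * T.w u2 := by linarith only [tw_0_1, tw_1_2]
            exact ⟨u2, u1, u0, T.m u2, T.w u2, hn_2_1, hn_1_0, hn_2_0, (h2 u2).1, (h2 u1).1, (h2 u0).1, Or.inr (Or.inl ⟨f0, f1, f2, f3, f4, f5, f6, f7, f8, f9, f10, f11⟩)⟩
          · -- (1,2) Dp
            exfalso
            have key := Groth.Agent.Helper6.NT.nonposfun3 T h2 u0 u1 u2 3 7 3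
            linarith only [key, tap_0_1, taq_0_1, z_0_2, tap_1_2, taq_1_2, T.w_pos u0, T.w_pos u1, T.w_pos u2]
          · -- (1,2) Dm
            exfalso
            have key := Groth.Agent.Helper6.NT.nonposfun3 T h2 u0 u1 u2 3 7 6
            linarith only [key, tap_0_1, taq_0_1, z_0_2, tap_1_2, taq_1_2, T.w_pos u0, T.w_pos u1, T.w_pos u2]
          · -- (1,2) Tp
            exfalso
            have key := Groth.Agent.Helper6.NT.nonposfun3 T h2 u0 u1 u2 2 5 2
            linarith only [key, tap_0_1, taq_0_1, z_0_2, tap_1_2, taq_1_2, T.w_pos u0, T.w_pos u1, T.w_pos u2]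
          · -- (1,2) Tm
            exfalso
            have key := Groth.Agent.Helper6.NT.nonposfun3 T h2 u0 u1 u2 2 5 6
            linarith only [key, tap_0_1, taq_0_1, z_0_2, tap_1_2, taq_1_2, T.w_pos u0, T.w_pos u1, T.w_pos u2]
        · push Not at hx
          have cl_1 := hx
          clear hx
          exfalso
          refine Groth.Agent.Helper6.NT.closed_contra T [u0, u1] (by simp) (by simp) ?_
          intro i hi j hj
          simp only [List.mem_cons, List.not_mem_nil, or_false, not_or] at hi hj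
          rcases hi with rfl | rfl
          · exact cl_0 j ⟨hj.1, hj.2⟩
          · exact cl_1 j ⟨hj.1, hj.2⟩
  · push Not at hx
    have cl_0 := hx
    clear hx
    exfalso
    refine Groth.Agent.Helper6.NT.closed_contra T [u0] (by simp) (by simp) ?_
    intro i hi j hj
    simp only [List.mem_cons, List.not_mem_nil, or_false, not_or] at hi hj
    subst hi
    · exact cl_0 j hj

end Groth.Agent.S7363
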