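import Groth.Statements.S7364
import Groth.Agent.Lib.Helper6.NumType16

set_option autoImplicit false
open Finset
open Models Models.NumericalType

namespace Groth.Agent.S7364

/-- Genus one classification: case n = 4: let T be a minimal numerical type of genus 1 on 4 indices.
Then all g_i = 0 and, for some permutation σ of the indices and some integers m, w, the
multiplicities, weights and intersection matrix (m_{σ(i)}, w_{σ(i)}, a_{σ(i)σ(j)}) are those of one
of the following 6 types: [four cycle] m = (m, m, m, m), w = (w, w, w, w), a = (-2 * w w 0 w / w -2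
* w w 0 / 0 w -2 * w w / w 0 w -2 * w); [up equal up] m = (2 * m, 2 * m, 2 * m, m), w = (w, 2 * w, 2
* w, 4 * w), a = (-2 * w 2 * w 0 0 / 2 * w -4 * w 2 * w 0 / 0 2 * w -4 * w 4 * w / 0 0 4 * w -8 *
w); [up equal down] m = (m, m, m, m), w = (w, 2 * w, 2 * w, w), a = (-2 * w 2 * w 0 0 / 2 * w -4 * w
2 * w 0 / 0 2 * w -4 * w 2 * w / 0 0 2 * w -2 * w); [down equal up] m = (m, 2 * m, 2 * m, m), w = (2
* w, w, w, 2 * w), a = (-4 * w 2 * w 0 0 / 2 * w -2 * w w 0 / 0 w -2 * w 2 * w / 0 0 2 * w -4 * w);
[triple with up] m = (2 * m, m, m, m), w = (w, w, w, 2 * w), a = (-2 * w w w 2 * w / w -2 * w 0 0 /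
w 0 -2 * w 0 / 2 * w 0 0 -4 * w); [triple with down] m = (2 * m, m, m, 2 * m), w = (2 * w, 2 * w, 2
* w, w), a = (-4 * w 2 * w 2 * w 2 * w / 2 * w -4 * w 0 0 / 2 * w 0 -4 * w 0 / 2 * w 0 0 -2 * w).
Only the classification direction is stated. -/
theorem result (T : Models.NumericalType 4) (hmin : T.IsMinimal) (hg : T.genus = 1) :
    (∀ i, T.g i = 0) ∧ ∃ (σ : Equiv.Perm (Fin 4)) (m w : ℤ),
      ((T.m (σ 0) = m ∧ T.m (σ 1) = m ∧ T.m (σ 2) = m ∧ T.m (σ 3) = m ∧ T.w (σ 0) = w ∧ T.w (σ 1) = w ∧ T.w (σ 2) = w ∧ T.w (σ 3) = w ∧ T.a (σ 0) (σ 0) = -2 * w ∧ T.a (σ 0) (σ 1) = w ∧ T.a (σ 0) (σ 2) = 0 ∧ T.a (σ 0) (σ 3) = w ∧ T.a (σ 1) (σ 1) = -2 * w ∧ T.a (σ 1) (σ 2) = w ∧ T.a (σ 1) (σ 3) = 0 ∧ T.a (σ 2) (σ 2) = -2 * w ∧ T.a (σ 2) (σ 3) = w ∧ T.a (σ 3) (σ 3) = -2 * w) ∨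
      (T.m (σ 0) = 2 * m ∧ T.m (σ 1) = 2 * m ∧ T.m (σ 2) = 2 * m ∧ T.m (σ 3) = m ∧ T.w (σ 0) = w ∧ T.w (σ 1) = 2 * w ∧ T.w (σ 2) = 2 * w ∧ T.w (σ 3) = 4 * w ∧ T.a (σ 0) (σ 0) = -2 * w ∧ T.a (σ 0) (σ 1) = 2 * w ∧ T.a (σ 0) (σ 2) = 0 ∧ T.a (σ 0) (σ 3) = 0 ∧ T.a (σ 1) (σ 1) = -4 * w ∧ T.a (σ 1) (σ 2) = 2 * w ∧ T.a (σ 1) (σ 3) = 0 ∧ T.a (σ 2) (σ 2) = -4 * w ∧ T.a (σ 2) (σ 3) = 4 * w ∧ T.a (σ 3) (σ 3) = -8 * w) ∨
      (T.m (σ 0) = m ∧ T.m (σ 1) = m ∧ T.m (σ 2) = m ∧ T.m (σ 3) = m ∧ T.w (σ 0) = w ∧ T.w (σ 1) = 2 * w ∧ T.w (σ 2) = 2 * w ∧ T.w (σ 3) = w ∧ T.a (σ 0) (σ 0) = -2 * w ∧ T.a (σ 0) (σ 1) = 2 * w ∧ T.a (σ 0) (σ 2) = 0 ∧ T.a (σ 0) (σ 3) = 0 ∧ T.a (σ 1) (σ 1) = -4 * w ∧ T.a (σ 1) (σ 2) = 2 * w ∧ T.a (σ 1) (σ 3) = 0 ∧ T.a (σ 2) (σ 2) = -4 * w ∧ T.a (σ 2) (σ 3) = 2 * w ∧ T.a (σ 3) (σ 3) = -2 * w) ∨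
      (T.m (σ 0) = m ∧ T.m (σ 1) = 2 * m ∧ T.m (σ 2) = 2 * m ∧ T.m (σ 3) = m ∧ T.w (σ 0) = 2 * w ∧ T.w (σ 1) = w ∧ T.w (σ 2) = w ∧ T.w (σ 3) = 2 * w ∧ T.a (σ 0) (σ 0) = -4 * w ∧ T.a (σ 0) (σ 1) = 2 * w ∧ T.a (σ 0) (σ 2) = 0 ∧ T.a (σ 0) (σ 3) = 0 ∧ T.a (σ 1) (σ 1) = -2 * w ∧ T.a (σ 1) (σ 2) = w ∧ T.a (σ 1) (σ 3) = 0 ∧ T.a (σ 2) (σ 2) = -2 * w ∧ T.a (σ 2) (σ 3) = 2 * w ∧ T.a (σ 3) (σ 3) = -4 * w) ∨
      (T.m (σ 0) = 2 * m ∧ T.m (σ 1) = m ∧ T.m (σ 2) = m ∧ T.m (σ 3) = m ∧ T.w (σ 0) = w ∧ T.w (σ 1) = w ∧ T.w (σ 2) = w ∧ T.w (σ 3) = 2 * w ∧ T.a (σ 0) (σ 0) = -2 * w ∧ T.a (σ 0) (σ 1) = w ∧ T.a (σ 0) (σ 2) = w ∧ T.a (σ 0) (σ 3) = 2 * w ∧ T.a (σ 1) (σ 1) = -2 * w ∧ T.a (σ 1) (σ 2) = 0 ∧ T.a (σ 1) (σ 3) = 0 ∧ T.a (σ 2) (σ 2) = -2 * w ∧ T.a (σ 2) (σ 3) = 0 ∧ T.a (σ 3) (σ 3) = -4 * w) ∨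
      (T.m (σ 0) = 2 * m ∧ T.m (σ 1) = m ∧ T.m (σ 2) = m ∧ T.m (σ 3) = 2 * m ∧ T.w (σ 0) = 2 * w ∧ T.w (σ 1) = 2 * w ∧ T.w (σ 2) = 2 * w ∧ T.w (σ 3) = w ∧ T.a (σ 0) (σ 0) = -4 * w ∧ T.a (σ 0) (σ 1) = 2 * w ∧ T.a (σ 0) (σ 2) = 2 * w ∧ T.a (σ 0) (σ 3) = 2 * w ∧ T.a (σ 1) (σ 1) = -4 * w ∧ T.a (σ 1) (σ 2) = 0 ∧ T.a (σ 1) (σ 3) = 0 ∧ T.a (σ 2) (σ 2) = -4 * w ∧ T.a (σ 2) (σ 3) = 0 ∧ T.a (σ 3) (σ 3) = -2 * w)) := by
  have h2 := Groth.Agent.Helper6.NT.all_minusTwo T (by norm_num) hmin hg
  refine ⟨fun i => (h2 i).1, ?_⟩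
  obtain ⟨u0, -⟩ : ∃ u0 : Fin 4, True := ⟨0, trivial⟩
  by_cases hx : ∃ j, j ≠ u0 ∧ T.a u0 j ≠ 0
  · obtain ⟨u1, hn_1_0, e_0_1⟩ := hx
    rcases Groth.Agent.Helper6.NT.edge5 T h2 (by norm_num) u0 u1 hn_1_0.symm e_0_1 with ⟨tw_0_1, tap_0_1, taq_0_1⟩ | ⟨tw_0_1, tap_0_1, taq_0_1⟩ | ⟨tw_0_1, tap_0_1, taq_0_1⟩ | ⟨tw_0_1, tap_0_1, taq_0_1⟩ | ⟨tw_0_1, tap_0_1, taq_0_1⟩
    · -- (0,1) S
      by_cases hx : ∃ j, (j ≠ u0 ∧ j ≠ u1) ∧ T.a u0 j ≠ 0
      · obtain ⟨u2, ⟨hn_2_0, hn_2_1⟩, e_0_2⟩ := hx
        rcases Groth.Agent.Helper6.NT.edge5 T h2 (by norm_num) u0 u2 hn_2_0.symm e_0_2 with ⟨tw_0_2, tap_0_2, taq_0_2⟩ | ⟨tw_0_2, tap_0_2, taq_0_2⟩ | ⟨tw_0_2, tap_0_2, taq_0_2⟩ | ⟨tw_0_2, tap_0_2, taq_0_2⟩ | ⟨tw_0_2, tap_0_2, taq_0_2⟩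
        · -- (0,2) S
          rcases eq_or_ne (T.a u1 u2) 0 with z_1_2 | nz_1_2
          · -- (1,2) zero
            by_cases hx : ∃ j, (j ≠ u0 ∧ j ≠ u1 ∧ j ≠ u2) ∧ T.a u0 j ≠ 0
            · obtain ⟨u3, ⟨hn_3_0, hn_3_1, hn_3_2⟩, e_0_3⟩ := hx
              rcases Groth.Agent.Helper6.NT.edge5 T h2 (by norm_num) u0 u3 hn_3_0.symm e_0_3 with ⟨tw_0_3, tap_0_3, taq_0_3⟩ | ⟨tw_0_3, tap_0_3, taq_0_3⟩ | ⟨tw_0_3, tap_0_3, taq_0_3⟩ | ⟨tw_0_3, tap_0_3, taq_0_3⟩ | ⟨tw_0_3, tap_0_3, taq_0_3⟩
              · -- (0,3) S
                rcases eq_or_ne (T.a u1 u3) 0 with z_1_3 | nz_1_3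
                · -- (1,3) zero
                  rcases eq_or_ne (T.a u2 u3) 0 with z_2_3 | nz_2_3
                  · -- (2,3) zero
                    have hinj := Groth.Agent.Helper6.NT.inj4 u0 u1 u2 u3 hn_1_0 hn_2_0 hn_2_1 hn_3_0 hn_3_1 hn_3_2
                    have r_0 : -2 * T.m u0 + 1 * T.m u1 + 1 * T.m u2 + 1 * T.m u3 = 0 := by
                      have key := Groth.Agent.Helper6.NT.rowfun4 T u0 u1 u2 u3 hinj u0
                      rw [(h2 u0).2, tap_0_1, tap_0_2, tap_0_3] at key
                      exact mul_left_cancel₀ (T.w_pos u0).ne' (by linarith only [key])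
                    have r_1 : 1 * T.m u0 + -2 * T.m u1 = 0 := by
                      have key := Groth.Agent.Helper6.NT.rowfun4 T u0 u1 u2 u3 hinj u1
                      rw [Groth.Agent.Helper6.NT.symm' T u1 u0, taq_0_1, (h2 u1).2, z_1_2, z_1_3] at key
                      exact mul_left_cancel₀ (T.w_pos u1).ne' (by linarith only [key])
                    have r_2 : 1 * T.m u0 + -2 * T.m u2 = 0 := by
                      have key := Groth.Agent.Helper6.NT.rowfun4 T u0 u1 u2 u3 hinj u2
                      rw [Groth.Agent.Helper6.NT.symm' T u2 u0, taq_0_2, Groth.Agent.Helper6.NT.symm' T u2 u1, z_1_2, (h2 u2).2, z_2_3] at key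
                      exact mul_left_cancel₀ (T.w_pos u2).ne' (by linarith only [key])
                    have r_3 : 1 * T.m u0 + -2 * T.m u3 = 0 := by
                      have key := Groth.Agent.Helper6.NT.rowfun4 T u0 u1 u2 u3 hinj u3
                      rw [Groth.Agent.Helper6.NT.symm' T u3 u0, taq_0_3, Groth.Agent.Helper6.NT.symm' T u3 u1, z_1_3, Groth.Agent.Helper6.NT.symm' T u3 u2, z_2_3, (h2 u3).2] at key
                      exact mul_left_cancel₀ (T.w_pos u3).ne' (by linarith only [key])
                    exfalso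
                    linarith only [r_0, r_1, r_2, r_3, T.m_pos u0, T.m_pos u1, T.m_pos u2, T.m_pos u3]
                  · -- (2,3) nonzero
                    obtain ⟨lbp_2_3, lbq_2_3⟩ := Groth.Agent.Helper6.NT.lb T u2 u3 hn_3_2.symm nz_2_3
                    exfalso
                    have key := Groth.Agent.Helper6.NT.negfun3 T h2 u0 u2 u3 (by norm_num) 1 1 1 (by norm_num) (by norm_num)
                    linarith only [key, tap_0_2, taq_0_2, tap_0_3, taq_0_3, lbp_2_3, lbq_2_3, T.w_pos u0, T.w_pos u2, T.w_pos u3]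
                · -- (1,3) nonzero
                  obtain ⟨lbp_1_3, lbq_1_3⟩ := Groth.Agent.Helper6.NT.lb T u1 u3 hn_3_1.symm nz_1_3
                  exfalso
                  have key := Groth.Agent.Helper6.NT.negfun3 T h2 u0 u1 u3 (by norm_num) 1 1 1 (by norm_num) (by norm_num)
                  linarith only [key, tap_0_1, taq_0_1, tap_0_3, taq_0_3, lbp_1_3, lbq_1_3, T.w_pos u0, T.w_pos u1, T.w_pos u3]
              · -- (0,3) Dp
                rcases eq_or_ne (T.a u1 u3) 0 with z_1_3 | nz_1_3
                · -- (1,3) zero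
                  rcases eq_or_ne (T.a u2 u3) 0 with z_2_3 | nz_2_3
                  · -- (2,3) zero
                    have hinj := Groth.Agent.Helper6.NT.inj4 u0 u1 u2 u3 hn_1_0 hn_2_0 hn_2_1 hn_3_0 hn_3_1 hn_3_2
                    have r_0 : -2 * T.m u0 + 1 * T.m u1 + 1 * T.m u2 + 2 * T.m u3 = 0 := by
                      have key := Groth.Agent.Helper6.NT.rowfun4 T u0 u1 u2 u3 hinj u0
                      rw [(h2 u0).2, tap_0_1, tap_0_2, tap_0_3] at key
                      exact mul_left_cancel₀ (T.w_pos u0).ne' (by linarith only [key])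
                    have r_1 : 1 * T.m u0 + -2 * T.m u1 = 0 := by
                      have key := Groth.Agent.Helper6.NT.rowfun4 T u0 u1 u2 u3 hinj u1
                      rw [Groth.Agent.Helper6.NT.symm' T u1 u0, taq_0_1, (h2 u1).2, z_1_2, z_1_3] at key
                      exact mul_left_cancel₀ (T.w_pos u1).ne' (by linarith only [key])
                    have r_2 : 1 * T.m u0 + -2 * T.m u2 = 0 := by
                      have key := Groth.Agent.Helper6.NT.rowfun4 T u0 u1 u2 u3 hinj u2
                      rw [Groth.Agent.Helper6.NT.symm' T u2 u0, taq_0_2, Groth.Agent.Helper6.NT.symm' T u2 u1, z_1_2, (h2 u2).2, z_2_3] at key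
                      exact mul_left_cancel₀ (T.w_pos u2).ne' (by linarith only [key])
                    have r_3 : 1 * T.m u0 + -2 * T.m u3 = 0 := by
                      have key := Groth.Agent.Helper6.NT.rowfun4 T u0 u1 u2 u3 hinj u3
                      rw [Groth.Agent.Helper6.NT.symm' T u3 u0, taq_0_3, Groth.Agent.Helper6.NT.symm' T u3 u1, z_1_3, Groth.Agent.Helper6.NT.symm' T u3 u2, z_2_3, (h2 u3).2] at key
                      exact mul_left_cancel₀ (T.w_pos u3).ne' (by linarith only [key])
                    have f0 : T.m u0 = 2 * T.m u1 := by linarith only [r_0, r_1, r_2, r_3]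
                    have f1 : T.m u1 = T.m u1 := rfl
                    have f2 : T.m u2 = T.m u1 := by linarith only [r_0, r_1, r_2, r_3]
                    have f3 : T.m u3 = T.m u1 := by linarith only [r_0, r_1, r_2, r_3]
                    have f4 : T.w u0 = T.w u0 := rfl
                    have f5 : T.w u1 = T.w u0 := by linarith only [tw_0_1, tw_0_2, tw_0_3]
                    have f6 : T.w u2 = T.w u0 := by linarith only [tw_0_1, tw_0_2, tw_0_3]
                    have f7 : T.w u3 = 2 * T.w u0 := by linarith only [tw_0_1, tw_0_2, tw_0_3]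
                    have f8 : T.a u0 u0 = -2 * T.w u0 := by have := (h2 u0).2; linarith only [this, tw_0_1, tw_0_2, tw_0_3]
                    have f9 : T.a u0 u1 = T.w u0 := by linarith only [tap_0_1, tw_0_1, tw_0_2, tw_0_3]
                    have f10 : T.a u0 u2 = T.w u0 := by linarith only [tap_0_2, tw_0_1, tw_0_2, tw_0_3]
                    have f11 : T.a u0 u3 = 2 * T.w u0 := by linarith only [tap_0_3, tw_0_1, tw_0_2, tw_0_3]
                    have f12 : T.a u1 u1 = -2 * T.w u0 := by have := (h2 u1).2; linarith only [this, tw_0_1, tw_0_2, tw_0_3]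
                    have f13 : T.a u1 u2 = 0 := by exact z_1_2
                    have f14 : T.a u1 u3 = 0 := by exact z_1_3
                    have f15 : T.a u2 u2 = -2 * T.w u0 := by have := (h2 u2).2; linarith only [this, tw_0_1, tw_0_2, tw_0_3]
                    have f16 : T.a u2 u3 = 0 := by exact z_2_3
                    have f17 : T.a u3 u3 = -4 * T.w u0 := by have := (h2 u3).2; linarith only [this, tw_0_1, tw_0_2, tw_0_3]
                    have hsig := Groth.Agent.Helper6.NT.inj4 u0 u1 u2 u3 hn_1_0 hn_2_0 hn_2_1 hn_3_0 hn_3_1 hn_3_2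
                    exact ⟨Equiv.ofBijective _ (Finite.injective_iff_bijective.1 hsig), T.m u1, T.w u0, Or.inr (Or.inr (Or.inr (Or.inr (Or.inl ⟨f0, f1, f2, f3, f4, f5, f6, f7, f8, f9, f10, f11, f12, f13, f14, f15, f16, f17⟩))))⟩
                  · -- (2,3) nonzero
                    obtain ⟨lbp_2_3, lbq_2_3⟩ := Groth.Agent.Helper6.NT.lb T u2 u3 hn_3_2.symm nz_2_3
                    exfalso
                    have key := Groth.Agent.Helper6.NT.negfun3 T h2 u0 u2 u3 (by norm_num) 1 1 1 (by norm_num) (by norm_num)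
                    linarith only [key, tap_0_2, taq_0_2, tap_0_3, taq_0_3, lbp_2_3, lbq_2_3, T.w_pos u0, T.w_pos u2, T.w_pos u3]
                · -- (1,3) nonzero
                  obtain ⟨lbp_1_3, lbq_1_3⟩ := Groth.Agent.Helper6.NT.lb T u1 u3 hn_3_1.symm nz_1_3
                  exfalso
                  have key := Groth.Agent.Helper6.NT.negfun3 T h2 u0 u1 u3 (by norm_num) 1 1 1 (by norm_num) (by norm_num)
                  linarith only [key, tap_0_1, taq_0_1, tap_0_3, taq_0_3, lbp_1_3, lbq_1_3, T.w_pos u0, T.w_pos u1, T.w_pos u3]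
              · -- (0,3) Dm
                rcases eq_or_ne (T.a u1 u3) 0 with z_1_3 | nz_1_3
                · -- (1,3) zero
                  rcases eq_or_ne (T.a u2 u3) 0 with z_2_3 | nz_2_3
                  · -- (2,3) zero
                    have hinj := Groth.Agent.Helper6.NT.inj4 u0 u1 u2 u3 hn_1_0 hn_2_0 hn_2_1 hn_3_0 hn_3_1 hn_3_2
                    have r_0 : -2 * T.m u0 + 1 * T.m u1 + 1 * T.m u2 + 1 * T.m u3 = 0 := by
                      have key := Groth.Agent.Helper6.NT.rowfun4 T u0 u1 u2 u3 hinj u0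
                      rw [(h2 u0).2, tap_0_1, tap_0_2, tap_0_3] at key
                      exact mul_left_cancel₀ (T.w_pos u0).ne' (by linarith only [key])
                    have r_1 : 1 * T.m u0 + -2 * T.m u1 = 0 := by
                      have key := Groth.Agent.Helper6.NT.rowfun4 T u0 u1 u2 u3 hinj u1
                      rw [Groth.Agent.Helper6.NT.symm' T u1 u0, taq_0_1, (h2 u1).2, z_1_2, z_1_3] at key
                      exact mul_left_cancel₀ (T.w_pos u1).ne' (by linarith only [key])
                    have r_2 : 1 * T.m u0 + -2 * T.m u2 = 0 := by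
                      have key := Groth.Agent.Helper6.NT.rowfun4 T u0 u1 u2 u3 hinj u2
                      rw [Groth.Agent.Helper6.NT.symm' T u2 u0, taq_0_2, Groth.Agent.Helper6.NT.symm' T u2 u1, z_1_2, (h2 u2).2, z_2_3] at key
                      exact mul_left_cancel₀ (T.w_pos u2).ne' (by linarith only [key])
                    have r_3 : 2 * T.m u0 + -2 * T.m u3 = 0 := by
                      have key := Groth.Agent.Helper6.NT.rowfun4 T u0 u1 u2 u3 hinj u3
                      rw [Groth.Agent.Helper6.NT.symm' T u3 u0, taq_0_3, Groth.Agent.Helper6.NT.symm' T u3 u1, z_1_3, Groth.Agent.Helper6.NT.symm' T u3 u2, z_2_3, (h2 u3).2] at key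
                      exact mul_left_cancel₀ (T.w_pos u3).ne' (by linarith only [key])
                    have f0 : T.m u0 = 2 * T.m u1 := by linarith only [r_0, r_1, r_2, r_3]
                    have f1 : T.m u1 = T.m u1 := rfl
                    have f2 : T.m u2 = T.m u1 := by linarith only [r_0, r_1, r_2, r_3]
                    have f3 : T.m u3 = 2 * T.m u1 := by linarith only [r_0, r_1, r_2, r_3]
                    have f4 : T.w u0 = 2 * T.w u3 := by linarith only [tw_0_1, tw_0_2, tw_0_3]
                    have f5 : T.w u1 = 2 * T.w u3 := by linarith only [tw_0_1, tw_0_2, tw_0_3]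
                    have f6 : T.w u2 = 2 * T.w u3 := by linarith only [tw_0_1, tw_0_2, tw_0_3]
                    have f7 : T.w u3 = T.w u3 := rfl
                    have f8 : T.a u0 u0 = -4 * T.w u3 := by have := (h2 u0).2; linarith only [this, tw_0_1, tw_0_2, tw_0_3]
                    have f9 : T.a u0 u1 = 2 * T.w u3 := by linarith only [tap_0_1, tw_0_1, tw_0_2, tw_0_3]
                    have f10 : T.a u0 u2 = 2 * T.w u3 := by linarith only [tap_0_2, tw_0_1, tw_0_2, tw_0_3]
                    have f11 : T.a u0 u3 = 2 * T.w u3 := by linarith only [tap_0_3, tw_0_1, tw_0_2, tw_0_3]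
                    have f12 : T.a u1 u1 = -4 * T.w u3 := by have := (h2 u1).2; linarith only [this, tw_0_1, tw_0_2, tw_0_3]
                    have f13 : T.a u1 u2 = 0 := by exact z_1_2
                    have f14 : T.a u1 u3 = 0 := by exact z_1_3
                    have f15 : T.a u2 u2 = -4 * T.w u3 := by have := (h2 u2).2; linarith only [this, tw_0_1, tw_0_2, tw_0_3]
                    have f16 : T.a u2 u3 = 0 := by exact z_2_3
                    have f17 : T.a u3 u3 = -2 * T.w u3 := by have := (h2 u3).2; linarith only [this, tw_0_1, tw_0_2, tw_0_3]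
                    have hsig := Groth.Agent.Helper6.NT.inj4 u0 u1 u2 u3 hn_1_0 hn_2_0 hn_2_1 hn_3_0 hn_3_1 hn_3_2
                    exact ⟨Equiv.ofBijective _ (Finite.injective_iff_bijective.1 hsig), T.m u1, T.w u3, Or.inr (Or.inr (Or.inr (Or.inr (Or.inr (⟨f0, f1, f2, f3, f4, f5, f6, f7, f8, f9, f10, f11, f12, f13, f14, f15, f16, f17⟩)))))⟩
                  · -- (2,3) nonzero
                    obtain ⟨lbp_2_3, lbq_2_3⟩ := Groth.Agent.Helper6.NT.lb T u2 u3 hn_3_2.symm nz_2_3
                    exfalso
                    have key := Groth.Agent.Helper6.NT.negfun3 T h2 u0 u2 u3 (by norm_num) 1 1 1 (by norm_num) (by norm_num)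
                    linarith only [key, tap_0_2, taq_0_2, tap_0_3, taq_0_3, lbp_2_3, lbq_2_3, T.w_pos u0, T.w_pos u2, T.w_pos u3]
                · -- (1,3) nonzero
                  obtain ⟨lbp_1_3, lbq_1_3⟩ := Groth.Agent.Helper6.NT.lb T u1 u3 hn_3_1.symm nz_1_3
                  exfalso
                  have key := Groth.Agent.Helper6.NT.negfun3 T h2 u0 u1 u3 (by norm_num) 1 1 1 (by norm_num) (by norm_num)
                  linarith only [key, tap_0_1, taq_0_1, tap_0_3, taq_0_3, lbp_1_3, lbq_1_3, T.w_pos u0, T.w_pos u1, T.w_pos u3]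
              · -- (0,3) Tp
                exfalso
                have key := Groth.Agent.Helper6.NT.negfun3 T h2 u0 u2 u3 (by norm_num) 2 1 1 (by norm_num) (by norm_num)
                linarith only [key, tap_0_2, taq_0_2, tap_0_3, taq_0_3, T.offDiag_nonneg u2 u3 hn_3_2.symm, T.w_pos u0, T.w_pos u2, T.w_pos u3]
              · -- (0,3) Tm
                exfalso
                have key := Groth.Agent.Helper6.NT.negfun3 T h2 u0 u2 u3 (by norm_num) 2 1 3 (by norm_num) (by norm_num)
                linarith only [key, tap_0_2, taq_0_2, tap_0_3, taq_0_3, T.offDiag_nonneg u2 u3 hn_3_2.symm, T.w_pos u0, T.w_pos u2, T.w_pos u3]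
            · push Not at hx
              have cl_0 := hx
              clear hx
              by_cases hx : ∃ j, (j ≠ u0 ∧ j ≠ u1 ∧ j ≠ u2) ∧ T.a u1 j ≠ 0
              · obtain ⟨u3, ⟨hn_3_0, hn_3_1, hn_3_2⟩, e_1_3⟩ := hx
                have z_0_3 : T.a u0 u3 = 0 := cl_0 u3 ⟨hn_3_0, hn_3_1, hn_3_2⟩
                rcases Groth.Agent.Helper6.NT.edge5 T h2 (by norm_num) u1 u3 hn_3_1.symm e_1_3 with ⟨tw_1_3, tap_1_3, taq_1_3⟩ | ⟨tw_1_3, tap_1_3, taq_1_3⟩ | ⟨tw_1_3, tap_1_3, taq_1_3⟩ | ⟨tw_1_3, tap_1_3, taq_1_3⟩ | ⟨tw_1_3, tap_1_3, taq_1_3⟩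
                · -- (1,3) S
                  rcases eq_or_ne (T.a u2 u3) 0 with z_2_3 | nz_2_3
                  · -- (2,3) zero
                    have hinj := Groth.Agent.Helper6.NT.inj4 u0 u1 u2 u3 hn_1_0 hn_2_0 hn_2_1 hn_3_0 hn_3_1 hn_3_2
                    have r_0 : -2 * T.m u0 + 1 * T.m u1 + 1 * T.m u2 = 0 := by
                      have key := Groth.Agent.Helper6.NT.rowfun4 T u0 u1 u2 u3 hinj u0
                      rw [(h2 u0).2, tap_0_1, tap_0_2, z_0_3] at key
                      exact mul_left_cancel₀ (T.w_pos u0).ne' (by linarith only [key])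
                    have r_1 : 1 * T.m u0 + -2 * T.m u1 + 1 * T.m u3 = 0 := by
                      have key := Groth.Agent.Helper6.NT.rowfun4 T u0 u1 u2 u3 hinj u1
                      rw [Groth.Agent.Helper6.NT.symm' T u1 u0, taq_0_1, (h2 u1).2, z_1_2, tap_1_3] at key
                      exact mul_left_cancel₀ (T.w_pos u1).ne' (by linarith only [key])
                    have r_2 : 1 * T.m u0 + -2 * T.m u2 = 0 := by
                      have key := Groth.Agent.Helper6.NT.rowfun4 T u0 u1 u2 u3 hinj u2
                      rw [Groth.Agent.Helper6.NT.symm' T u2 u0, taq_0_2, Groth.Agent.Helper6.NT.symm' T u2 u1, z_1_2, (h2 u2).2, z_2_3] at key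
                      exact mul_left_cancel₀ (T.w_pos u2).ne' (by linarith only [key])
                    have r_3 : 1 * T.m u1 + -2 * T.m u3 = 0 := by
                      have key := Groth.Agent.Helper6.NT.rowfun4 T u0 u1 u2 u3 hinj u3
                      rw [Groth.Agent.Helper6.NT.symm' T u3 u0, z_0_3, Groth.Agent.Helper6.NT.symm' T u3 u1, taq_1_3, Groth.Agent.Helper6.NT.symm' T u3 u2, z_2_3, (h2 u3).2] at key
                      exact mul_left_cancel₀ (T.w_pos u3).ne' (by linarith only [key])
                    exfalso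
                    linarith only [r_0, r_1, r_2, r_3, T.m_pos u0, T.m_pos u1, T.m_pos u2, T.m_pos u3]
                  · -- (2,3) nonzero
                    obtain ⟨lbp_2_3, lbq_2_3⟩ := Groth.Agent.Helper6.NT.lb T u2 u3 hn_3_2.symm nz_2_3
                    rcases Groth.Agent.Helper6.NT.edge5 T h2 (by norm_num) u2 u3 hn_3_2.symm nz_2_3 with ⟨tw_2_3, tap_2_3, taq_2_3⟩ | ⟨tw_2_3, tap_2_3, taq_2_3⟩ | ⟨tw_2_3, tap_2_3, taq_2_3⟩ | ⟨tw_2_3, tap_2_3, taq_2_3⟩ | ⟨tw_2_3, tap_2_3, taq_2_3⟩
                    · -- (2,3) S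
                      have hinj := Groth.Agent.Helper6.NT.inj4 u0 u1 u2 u3 hn_1_0 hn_2_0 hn_2_1 hn_3_0 hn_3_1 hn_3_2
                      have r_0 : -2 * T.m u0 + 1 * T.m u1 + 1 * T.m u2 = 0 := by
                        have key := Groth.Agent.Helper6.NT.rowfun4 T u0 u1 u2 u3 hinj u0
                        rw [(h2 u0).2, tap_0_1, tap_0_2, z_0_3] at key
                        exact mul_left_cancel₀ (T.w_pos u0).ne' (by linarith only [key])
                      have r_1 : 1 * T.m u0 + -2 * T.m u1 + 1 * T.m u3 = 0 := by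
                        have key := Groth.Agent.Helper6.NT.rowfun4 T u0 u1 u2 u3 hinj u1
                        rw [Groth.Agent.Helper6.NT.symm' T u1 u0, taq_0_1, (h2 u1).2, z_1_2, tap_1_3] at key
                        exact mul_left_cancel₀ (T.w_pos u1).ne' (by linarith only [key])
                      have r_2 : 1 * T.m u0 + -2 * T.m u2 + 1 * T.m u3 = 0 := by
                        have key := Groth.Agent.Helper6.NT.rowfun4 T u0 u1 u2 u3 hinj u2
                        rw [Groth.Agent.Helper6.NT.symm' T u2 u0, taq_0_2, Groth.Agent.Helper6.NT.symm' T u2 u1, z_1_2, (h2 u2).2, tap_2_3] at key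
                        exact mul_left_cancel₀ (T.w_pos u2).ne' (by linarith only [key])
                      have r_3 : 1 * T.m u1 + 1 * T.m u2 + -2 * T.m u3 = 0 := by
                        have key := Groth.Agent.Helper6.NT.rowfun4 T u0 u1 u2 u3 hinj u3
                        rw [Groth.Agent.Helper6.NT.symm' T u3 u0, z_0_3, Groth.Agent.Helper6.NT.symm' T u3 u1, taq_1_3, Groth.Agent.Helper6.NT.symm' T u3 u2, taq_2_3, (h2 u3).2] at key
                        exact mul_left_cancel₀ (T.w_pos u3).ne' (by linarith only [key])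
                      have f0 : T.m u0 = T.m u0 := rfl
                      have f1 : T.m u1 = T.m u0 := by linarith only [r_0, r_1, r_2, r_3]
                      have f2 : T.m u3 = T.m u0 := by linarith only [r_0, r_1, r_2, r_3]
                      have f3 : T.m u2 = T.m u0 := by linarith only [r_0, r_1, r_2, r_3]
                      have f4 : T.w u0 = T.w u0 := rfl
                      have f5 : T.w u1 = T.w u0 := by linarith only [tw_0_1, tw_0_2, tw_2_3, tw_1_3]
                      have f6 : T.w u3 = T.w u0 := by linarith only [tw_0_1, tw_0_2, tw_2_3, tw_1_3]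
                      have f7 : T.w u2 = T.w u0 := by linarith only [tw_0_1, tw_0_2, tw_2_3, tw_1_3]
                      have f8 : T.a u0 u0 = -2 * T.w u0 := by have := (h2 u0).2; linarith only [this, tw_0_1, tw_0_2, tw_2_3, tw_1_3]
                      have f9 : T.a u0 u1 = T.w u0 := by linarith only [tap_0_1, tw_0_1, tw_0_2, tw_2_3, tw_1_3]
                      have f10 : T.a u0 u3 = 0 := by exact z_0_3
                      have f11 : T.a u0 u2 = T.w u0 := by linarith only [tap_0_2, tw_0_1, tw_0_2, tw_2_3, tw_1_3]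
                      have f12 : T.a u1 u1 = -2 * T.w u0 := by have := (h2 u1).2; linarith only [this, tw_0_1, tw_0_2, tw_2_3, tw_1_3]
                      have f13 : T.a u1 u3 = T.w u0 := by linarith only [tap_1_3, tw_0_1, tw_0_2, tw_2_3, tw_1_3]
                      have f14 : T.a u1 u2 = 0 := by exact z_1_2
                      have f15 : T.a u3 u3 = -2 * T.w u0 := by have := (h2 u3).2; linarith only [this, tw_0_1, tw_0_2, tw_2_3, tw_1_3]
                      have f16 : T.a u3 u2 = T.w u0 := by rw [Groth.Agent.Helper6.NT.symm' T u3 u2]; linarith only [tap_2_3, tw_0_1, tw_0_2, tw_2_3, tw_1_3]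
                      have f17 : T.a u2 u2 = -2 * T.w u0 := by have := (h2 u2).2; linarith only [this, tw_0_1, tw_0_2, tw_2_3, tw_1_3]
                      have hsig := Groth.Agent.Helper6.NT.inj4 u0 u1 u3 u2 hn_1_0 hn_3_0 hn_3_1 hn_2_0 hn_2_1 hn_3_2.symm
                      exact ⟨Equiv.ofBijective _ (Finite.injective_iff_bijective.1 hsig), T.m u0, T.w u0, Or.inl ⟨f0, f1, f2, f3, f4, f5, f6, f7, f8, f9, f10, f11, f12, f13, f14, f15, f16, f17⟩⟩
                    · -- (2,3) Dp
                      exfalso
                      linarith only [tap_0_1, tap_0_2, tap_2_3, tap_1_3, taq_0_1, taq_0_2, taq_2_3, taq_1_3, T.w_pos u0, T.w_pos u1, T.w_pos u2, T.w_pos u3]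
                    · -- (2,3) Dm
                      exfalso
                      linarith only [tap_0_1, tap_0_2, tap_2_3, tap_1_3, taq_0_1, taq_0_2, taq_2_3, taq_1_3, T.w_pos u0, T.w_pos u1, T.w_pos u2, T.w_pos u3]
                    · -- (2,3) Tp
                      exfalso
                      have key := Groth.Agent.Helper6.NT.negfun3 T h2 u1 u2 u3 (by norm_num) 1 3 2 (by norm_num) (by norm_num)
                      linarith only [key, z_1_2, tap_1_3, taq_1_3, tap_2_3, taq_2_3, T.w_pos u1, T.w_pos u2, T.w_pos u3]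
                    · -- (2,3) Tm
                      exfalso
                      have key := Groth.Agent.Helper6.NT.negfun3 T h2 u1 u2 u3 (by norm_num) 1 1 2 (by norm_num) (by norm_num)
                      linarith only [key, z_1_2, tap_1_3, taq_1_3, tap_2_3, taq_2_3, T.w_pos u1, T.w_pos u2, T.w_pos u3]
                · -- (1,3) Dp
                  rcases eq_or_ne (T.a u2 u3) 0 with z_2_3 | nz_2_3
                  · -- (2,3) zero
                    have hinj := Groth.Agent.Helper6.NT.inj4 u0 u1 u2 u3 hn_1_0 hn_2_0 hn_2_1 hn_3_0 hn_3_1 hn_3_2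
                    have r_0 : -2 * T.m u0 + 1 * T.m u1 + 1 * T.m u2 = 0 := by
                      have key := Groth.Agent.Helper6.NT.rowfun4 T u0 u1 u2 u3 hinj u0
                      rw [(h2 u0).2, tap_0_1, tap_0_2, z_0_3] at key
                      exact mul_left_cancel₀ (T.w_pos u0).ne' (by linarith only [key])
                    have r_1 : 1 * T.m u0 + -2 * T.m u1 + 2 * T.m u3 = 0 := by
                      have key := Groth.Agent.Helper6.NT.rowfun4 T u0 u1 u2 u3 hinj u1
                      rw [Groth.Agent.Helper6.NT.symm' T u1 u0, taq_0_1, (h2 u1).2, z_1_2, tap_1_3] at key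
                      exact mul_left_cancel₀ (T.w_pos u1).ne' (by linarith only [key])
                    have r_2 : 1 * T.m u0 + -2 * T.m u2 = 0 := by
                      have key := Groth.Agent.Helper6.NT.rowfun4 T u0 u1 u2 u3 hinj u2
                      rw [Groth.Agent.Helper6.NT.symm' T u2 u0, taq_0_2, Groth.Agent.Helper6.NT.symm' T u2 u1, z_1_2, (h2 u2).2, z_2_3] at key
                      exact mul_left_cancel₀ (T.w_pos u2).ne' (by linarith only [key])
                    have r_3 : 1 * T.m u1 + -2 * T.m u3 = 0 := by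
                      have key := Groth.Agent.Helper6.NT.rowfun4 T u0 u1 u2 u3 hinj u3
                      rw [Groth.Agent.Helper6.NT.symm' T u3 u0, z_0_3, Groth.Agent.Helper6.NT.symm' T u3 u1, taq_1_3, Groth.Agent.Helper6.NT.symm' T u3 u2, z_2_3, (h2 u3).2] at key
                      exact mul_left_cancel₀ (T.w_pos u3).ne' (by linarith only [key])
                    exfalso
                    linarith only [r_0, r_1, r_2, r_3, T.m_pos u0, T.m_pos u1, T.m_pos u2, T.m_pos u3]
                  · -- (2,3) nonzero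
                    obtain ⟨lbp_2_3, lbq_2_3⟩ := Groth.Agent.Helper6.NT.lb T u2 u3 hn_3_2.symm nz_2_3
                    rcases Groth.Agent.Helper6.NT.edge5 T h2 (by norm_num) u2 u3 hn_3_2.symm nz_2_3 with ⟨tw_2_3, tap_2_3, taq_2_3⟩ | ⟨tw_2_3, tap_2_3, taq_2_3⟩ | ⟨tw_2_3, tap_2_3, taq_2_3⟩ | ⟨tw_2_3, tap_2_3, taq_2_3⟩ | ⟨tw_2_3, tap_2_3, taq_2_3⟩
                    · -- (2,3) S
                      exfalso
                      linarith only [tap_0_1, tap_0_2, tap_2_3, tap_1_3, taq_0_1, taq_0_2, taq_2_3, taq_1_3, T.w_pos u0, T.w_pos u1, T.w_pos u2, T.w_pos u3]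
                    · -- (2,3) Dp
                      exfalso
                      have key := Groth.Agent.Helper6.NT.negfun3 T h2 u1 u2 u3 (by norm_num) 1 1 1 (by norm_num) (by norm_num)
                      linarith only [key, z_1_2, tap_1_3, taq_1_3, tap_2_3, taq_2_3, T.w_pos u1, T.w_pos u2, T.w_pos u3]
                    · -- (2,3) Dm
                      exfalso
                      have key := Groth.Agent.Helper6.NT.negfun3 T h2 u1 u2 u3 (by norm_num) 2 1 2 (by norm_num) (by norm_num)
                      linarith only [key, z_1_2, tap_1_3, taq_1_3, tap_2_3, taq_2_3, T.w_pos u1, T.w_pos u2, T.w_pos u3]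
                    · -- (2,3) Tp
                      exfalso
                      have key := Groth.Agent.Helper6.NT.negfun3 T h2 u1 u2 u3 (by norm_num) 2 3 2 (by norm_num) (by norm_num)
                      linarith only [key, z_1_2, tap_1_3, taq_1_3, tap_2_3, taq_2_3, T.w_pos u1, T.w_pos u2, T.w_pos u3]
                    · -- (2,3) Tm
                      exfalso
                      have key := Groth.Agent.Helper6.NT.negfun3 T h2 u1 u2 u3 (by norm_num) 2 1 2 (by norm_num) (by norm_num)
                      linarith only [key, z_1_2, tap_1_3, taq_1_3, tap_2_3, taq_2_3, T.w_pos u1, T.w_pos u2, T.w_pos u3]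
                · -- (1,3) Dm
                  rcases eq_or_ne (T.a u2 u3) 0 with z_2_3 | nz_2_3
                  · -- (2,3) zero
                    have hinj := Groth.Agent.Helper6.NT.inj4 u0 u1 u2 u3 hn_1_0 hn_2_0 hn_2_1 hn_3_0 hn_3_1 hn_3_2
                    have r_0 : -2 * T.m u0 + 1 * T.m u1 + 1 * T.m u2 = 0 := by
                      have key := Groth.Agent.Helper6.NT.rowfun4 T u0 u1 u2 u3 hinj u0
                      rw [(h2 u0).2, tap_0_1, tap_0_2, z_0_3] at key
                      exact mul_left_cancel₀ (T.w_pos u0).ne' (by linarith only [key])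
                    have r_1 : 1 * T.m u0 + -2 * T.m u1 + 1 * T.m u3 = 0 := by
                      have key := Groth.Agent.Helper6.NT.rowfun4 T u0 u1 u2 u3 hinj u1
                      rw [Groth.Agent.Helper6.NT.symm' T u1 u0, taq_0_1, (h2 u1).2, z_1_2, tap_1_3] at key
                      exact mul_left_cancel₀ (T.w_pos u1).ne' (by linarith only [key])
                    have r_2 : 1 * T.m u0 + -2 * T.m u2 = 0 := by
                      have key := Groth.Agent.Helper6.NT.rowfun4 T u0 u1 u2 u3 hinj u2
                      rw [Groth.Agent.Helper6.NT.symm' T u2 u0, taq_0_2, Groth.Agent.Helper6.NT.symm' T u2 u1, z_1_2, (h2 u2).2, z_2_3] at key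
                      exact mul_left_cancel₀ (T.w_pos u2).ne' (by linarith only [key])
                    have r_3 : 2 * T.m u1 + -2 * T.m u3 = 0 := by
                      have key := Groth.Agent.Helper6.NT.rowfun4 T u0 u1 u2 u3 hinj u3
                      rw [Groth.Agent.Helper6.NT.symm' T u3 u0, z_0_3, Groth.Agent.Helper6.NT.symm' T u3 u1, taq_1_3, Groth.Agent.Helper6.NT.symm' T u3 u2, z_2_3, (h2 u3).2] at key
                      exact mul_left_cancel₀ (T.w_pos u3).ne' (by linarith only [key])
                    exfalso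
                    linarith only [r_0, r_1, r_2, r_3, T.m_pos u0, T.m_pos u1, T.m_pos u2, T.m_pos u3]
                  · -- (2,3) nonzero
                    obtain ⟨lbp_2_3, lbq_2_3⟩ := Groth.Agent.Helper6.NT.lb T u2 u3 hn_3_2.symm nz_2_3
                    rcases Groth.Agent.Helper6.NT.edge5 T h2 (by norm_num) u2 u3 hn_3_2.symm nz_2_3 with ⟨tw_2_3, tap_2_3, taq_2_3⟩ | ⟨tw_2_3, tap_2_3, taq_2_3⟩ | ⟨tw_2_3, tap_2_3, taq_2_3⟩ | ⟨tw_2_3, tap_2_3, taq_2_3⟩ | ⟨tw_2_3, tap_2_3, taq_2_3⟩
                    · -- (2,3) S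
                      exfalso
                      linarith only [tap_0_1, tap_0_2, tap_2_3, tap_1_3, taq_0_1, taq_0_2, taq_2_3, taq_1_3, T.w_pos u0, T.w_pos u1, T.w_pos u2, T.w_pos u3]
                    · -- (2,3) Dp
                      exfalso
                      have key := Groth.Agent.Helper6.NT.negfun3 T h2 u1 u2 u3 (by norm_num) 1 2 2 (by norm_num) (by norm_num)
                      linarith only [key, z_1_2, tap_1_3, taq_1_3, tap_2_3, taq_2_3, T.w_pos u1, T.w_pos u2, T.w_pos u3]
                    · -- (2,3) Dm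
                      exfalso
                      have key := Groth.Agent.Helper6.NT.negfun3 T h2 u1 u2 u3 (by norm_num) 1 1 2 (by norm_num) (by norm_num)
                      linarith only [key, z_1_2, tap_1_3, taq_1_3, tap_2_3, taq_2_3, T.w_pos u1, T.w_pos u2, T.w_pos u3]
                    · -- (2,3) Tp
                      exfalso
                      have key := Groth.Agent.Helper6.NT.negfun3 T h2 u1 u2 u3 (by norm_num) 1 3 2 (by norm_num) (by norm_num)
                      linarith only [key, z_1_2, tap_1_3, taq_1_3, tap_2_3, taq_2_3, T.w_pos u1, T.w_pos u2, T.w_pos u3]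
                    · -- (2,3) Tm
                      exfalso
                      have key := Groth.Agent.Helper6.NT.negfun3 T h2 u1 u2 u3 (by norm_num) 1 1 2 (by norm_num) (by norm_num)
                      linarith only [key, z_1_2, tap_1_3, taq_1_3, tap_2_3, taq_2_3, T.w_pos u1, T.w_pos u2, T.w_pos u3]
                · -- (1,3) Tp
                  exfalso
                  have key := Groth.Agent.Helper6.NT.negfun3 T h2 u0 u1 u3 (by norm_num) 1 2 1 (by norm_num) (by norm_num)
                  linarith only [key, tap_0_1, taq_0_1, z_0_3, tap_1_3, taq_1_3, T.w_pos u0, T.w_pos u1, T.w_pos u3]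
                · -- (1,3) Tm
                  exfalso
                  have key := Groth.Agent.Helper6.NT.negfun3 T h2 u0 u1 u3 (by norm_num) 1 2 3 (by norm_num) (by norm_num)
                  linarith only [key, tap_0_1, taq_0_1, z_0_3, tap_1_3, taq_1_3, T.w_pos u0, T.w_pos u1, T.w_pos u3]
              · push Not at hx
                have cl_1 := hx
                clear hx
                by_cases hx : ∃ j, (j ≠ u0 ∧ j ≠ u1 ∧ j ≠ u2) ∧ T.a u2 j ≠ 0
                · obtain ⟨u3, ⟨hn_3_0, hn_3_1, hn_3_2⟩, e_2_3⟩ := hx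
                  have z_0_3 : T.a u0 u3 = 0 := cl_0 u3 ⟨hn_3_0, hn_3_1, hn_3_2⟩
                  have z_1_3 : T.a u1 u3 = 0 := cl_1 u3 ⟨hn_3_0, hn_3_1, hn_3_2⟩
                  rcases Groth.Agent.Helper6.NT.edge5 T h2 (by norm_num) u2 u3 hn_3_2.symm e_2_3 with ⟨tw_2_3, tap_2_3, taq_2_3⟩ | ⟨tw_2_3, tap_2_3, taq_2_3⟩ | ⟨tw_2_3, tap_2_3, taq_2_3⟩ | ⟨tw_2_3, tap_2_3, taq_2_3⟩ | ⟨tw_2_3, tap_2_3, taq_2_3⟩
                  · -- (2,3) S
                    have hinj := Groth.Agent.Helper6.NT.inj4 u0 u1 u2 u3 hn_1_0 hn_2_0 hn_2_1 hn_3_0 hn_3_1 hn_3_2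
                    have r_0 : -2 * T.m u0 + 1 * T.m u1 + 1 * T.m u2 = 0 := by
                      have key := Groth.Agent.Helper6.NT.rowfun4 T u0 u1 u2 u3 hinj u0
                      rw [(h2 u0).2, tap_0_1, tap_0_2, z_0_3] at key
                      exact mul_left_cancel₀ (T.w_pos u0).ne' (by linarith only [key])
                    have r_1 : 1 * T.m u0 + -2 * T.m u1 = 0 := by
                      have key := Groth.Agent.Helper6.NT.rowfun4 T u0 u1 u2 u3 hinj u1
                      rw [Groth.Agent.Helper6.NT.symm' T u1 u0, taq_0_1, (h2 u1).2, z_1_2, z_1_3] at key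
                      exact mul_left_cancel₀ (T.w_pos u1).ne' (by linarith only [key])
                    have r_2 : 1 * T.m u0 + -2 * T.m u2 + 1 * T.m u3 = 0 := by
                      have key := Groth.Agent.Helper6.NT.rowfun4 T u0 u1 u2 u3 hinj u2
                      rw [Groth.Agent.Helper6.NT.symm' T u2 u0, taq_0_2, Groth.Agent.Helper6.NT.symm' T u2 u1, z_1_2, (h2 u2).2, tap_2_3] at key
                      exact mul_left_cancel₀ (T.w_pos u2).ne' (by linarith only [key])
                    have r_3 : 1 * T.m u2 + -2 * T.m u3 = 0 := by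
                      have key := Groth.Agent.Helper6.NT.rowfun4 T u0 u1 u2 u3 hinj u3
                      rw [Groth.Agent.Helper6.NT.symm' T u3 u0, z_0_3, Groth.Agent.Helper6.NT.symm' T u3 u1, z_1_3, Groth.Agent.Helper6.NT.symm' T u3 u2, taq_2_3, (h2 u3).2] at key
                      exact mul_left_cancel₀ (T.w_pos u3).ne' (by linarith only [key])
                    exfalso
                    linarith only [r_0, r_1, r_2, r_3, T.m_pos u0, T.m_pos u1, T.m_pos u2, T.m_pos u3]
                  · -- (2,3) Dp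
                    have hinj := Groth.Agent.Helper6.NT.inj4 u0 u1 u2 u3 hn_1_0 hn_2_0 hn_2_1 hn_3_0 hn_3_1 hn_3_2
                    have r_0 : -2 * T.m u0 + 1 * T.m u1 + 1 * T.m u2 = 0 := by
                      have key := Groth.Agent.Helper6.NT.rowfun4 T u0 u1 u2 u3 hinj u0
                      rw [(h2 u0).2, tap_0_1, tap_0_2, z_0_3] at key
                      exact mul_left_cancel₀ (T.w_pos u0).ne' (by linarith only [key])
                    have r_1 : 1 * T.m u0 + -2 * T.m u1 = 0 := by
                      have key := Groth.Agent.Helper6.NT.rowfun4 T u0 u1 u2 u3 hinj u1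
                      rw [Groth.Agent.Helper6.NT.symm' T u1 u0, taq_0_1, (h2 u1).2, z_1_2, z_1_3] at key
                      exact mul_left_cancel₀ (T.w_pos u1).ne' (by linarith only [key])
                    have r_2 : 1 * T.m u0 + -2 * T.m u2 + 2 * T.m u3 = 0 := by
                      have key := Groth.Agent.Helper6.NT.rowfun4 T u0 u1 u2 u3 hinj u2
                      rw [Groth.Agent.Helper6.NT.symm' T u2 u0, taq_0_2, Groth.Agent.Helper6.NT.symm' T u2 u1, z_1_2, (h2 u2).2, tap_2_3] at key
                      exact mul_left_cancel₀ (T.w_pos u2).ne' (by linarith only [key])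
                    have r_3 : 1 * T.m u2 + -2 * T.m u3 = 0 := by
                      have key := Groth.Agent.Helper6.NT.rowfun4 T u0 u1 u2 u3 hinj u3
                      rw [Groth.Agent.Helper6.NT.symm' T u3 u0, z_0_3, Groth.Agent.Helper6.NT.symm' T u3 u1, z_1_3, Groth.Agent.Helper6.NT.symm' T u3 u2, taq_2_3, (h2 u3).2] at key
                      exact mul_left_cancel₀ (T.w_pos u3).ne' (by linarith only [key])
                    exfalso
                    linarith only [r_0, r_1, r_2, r_3, T.m_pos u0, T.m_pos u1, T.m_pos u2, T.m_pos u3]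
                  · -- (2,3) Dm
                    have hinj := Groth.Agent.Helper6.NT.inj4 u0 u1 u2 u3 hn_1_0 hn_2_0 hn_2_1 hn_3_0 hn_3_1 hn_3_2
                    have r_0 : -2 * T.m u0 + 1 * T.m u1 + 1 * T.m u2 = 0 := by
                      have key := Groth.Agent.Helper6.NT.rowfun4 T u0 u1 u2 u3 hinj u0
                      rw [(h2 u0).2, tap_0_1, tap_0_2, z_0_3] at key
                      exact mul_left_cancel₀ (T.w_pos u0).ne' (by linarith only [key])
                    have r_1 : 1 * T.m u0 + -2 * T.m u1 = 0 := by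
                      have key := Groth.Agent.Helper6.NT.rowfun4 T u0 u1 u2 u3 hinj u1
                      rw [Groth.Agent.Helper6.NT.symm' T u1 u0, taq_0_1, (h2 u1).2, z_1_2, z_1_3] at key
                      exact mul_left_cancel₀ (T.w_pos u1).ne' (by linarith only [key])
                    have r_2 : 1 * T.m u0 + -2 * T.m u2 + 1 * T.m u3 = 0 := by
                      have key := Groth.Agent.Helper6.NT.rowfun4 T u0 u1 u2 u3 hinj u2
                      rw [Groth.Agent.Helper6.NT.symm' T u2 u0, taq_0_2, Groth.Agent.Helper6.NT.symm' T u2 u1, z_1_2, (h2 u2).2, tap_2_3] at key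
                      exact mul_left_cancel₀ (T.w_pos u2).ne' (by linarith only [key])
                    have r_3 : 2 * T.m u2 + -2 * T.m u3 = 0 := by
                      have key := Groth.Agent.Helper6.NT.rowfun4 T u0 u1 u2 u3 hinj u3
                      rw [Groth.Agent.Helper6.NT.symm' T u3 u0, z_0_3, Groth.Agent.Helper6.NT.symm' T u3 u1, z_1_3, Groth.Agent.Helper6.NT.symm' T u3 u2, taq_2_3, (h2 u3).2] at key
                      exact mul_left_cancel₀ (T.w_pos u3).ne' (by linarith only [key])
                    exfalso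
                    linarith only [r_0, r_1, r_2, r_3, T.m_pos u0, T.m_pos u1, T.m_pos u2, T.m_pos u3]
                  · -- (2,3) Tp
                    exfalso
                    have key := Groth.Agent.Helper6.NT.negfun3 T h2 u0 u2 u3 (by norm_num) 1 2 1 (by norm_num) (by norm_num)
                    linarith only [key, tap_0_2, taq_0_2, z_0_3, tap_2_3, taq_2_3, T.w_pos u0, T.w_pos u2, T.w_pos u3]
                  · -- (2,3) Tm
                    exfalso
                    have key := Groth.Agent.Helper6.NT.negfun3 T h2 u0 u2 u3 (by norm_num) 1 2 3 (by norm_num) (by norm_num)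
                    linarith only [key, tap_0_2, taq_0_2, z_0_3, tap_2_3, taq_2_3, T.w_pos u0, T.w_pos u2, T.w_pos u3]
                · push Not at hx
                  have cl_2 := hx
                  clear hx
                  exfalso
                  refine Groth.Agent.Helper6.NT.closed_contra T [u0, u1, u2] (by simp) (by simp) ?_
                  intro i hi j hj
                  simp only [List.mem_cons, List.not_mem_nil, or_false, not_or] at hi hj
                  rcases hi with rfl | rfl | rfl
                  · exact cl_0 j ⟨hj.1, hj.2.1, hj.2.2⟩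
                  · exact cl_1 j ⟨hj.1, hj.2.1, hj.2.2⟩
                  · exact cl_2 j ⟨hj.1, hj.2.1, hj.2.2⟩
          · -- (1,2) nonzero
            obtain ⟨lbp_1_2, lbq_1_2⟩ := Groth.Agent.Helper6.NT.lb T u1 u2 hn_2_1.symm nz_1_2
            exfalso
            have key := Groth.Agent.Helper6.NT.negfun3 T h2 u0 u1 u2 (by norm_num) 1 1 1 (by norm_num) (by norm_num)
            linarith only [key, tap_0_1, taq_0_1, tap_0_2, taq_0_2, lbp_1_2, lbq_1_2, T.w_pos u0, T.w_pos u1, T.w_pos u2]
        · -- (0,2) Dp
          rcases eq_or_ne (T.a u1 u2) 0 with z_1_2 | nz_1_2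
          · -- (1,2) zero
            by_cases hx : ∃ j, (j ≠ u0 ∧ j ≠ u1 ∧ j ≠ u2) ∧ T.a u0 j ≠ 0
            · obtain ⟨u3, ⟨hn_3_0, hn_3_1, hn_3_2⟩, e_0_3⟩ := hx
              rcases Groth.Agent.Helper6.NT.edge5 T h2 (by norm_num) u0 u3 hn_3_0.symm e_0_3 with ⟨tw_0_3, tap_0_3, taq_0_3⟩ | ⟨tw_0_3, tap_0_3, taq_0_3⟩ | ⟨tw_0_3, tap_0_3, taq_0_3⟩ | ⟨tw_0_3, tap_0_3, taq_0_3⟩ | ⟨tw_0_3, tap_0_3, taq_0_3⟩
              · -- (0,3) S
                rcases eq_or_ne (T.a u1 u3) 0 with z_1_3 | nz_1_3
                · -- (1,3) zero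
                  rcases eq_or_ne (T.a u2 u3) 0 with z_2_3 | nz_2_3
                  · -- (2,3) zero
                    have hinj := Groth.Agent.Helper6.NT.inj4 u0 u1 u2 u3 hn_1_0 hn_2_0 hn_2_1 hn_3_0 hn_3_1 hn_3_2
                    have r_0 : -2 * T.m u0 + 1 * T.m u1 + 2 * T.m u2 + 1 * T.m u3 = 0 := by
                      have key := Groth.Agent.Helper6.NT.rowfun4 T u0 u1 u2 u3 hinj u0
                      rw [(h2 u0).2, tap_0_1, tap_0_2, tap_0_3] at key
                      exact mul_left_cancel₀ (T.w_pos u0).ne' (by linarith only [key])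
                    have r_1 : 1 * T.m u0 + -2 * T.m u1 = 0 := by
                      have key := Groth.Agent.Helper6.NT.rowfun4 T u0 u1 u2 u3 hinj u1
                      rw [Groth.Agent.Helper6.NT.symm' T u1 u0, taq_0_1, (h2 u1).2, z_1_2, z_1_3] at key
                      exact mul_left_cancel₀ (T.w_pos u1).ne' (by linarith only [key])
                    have r_2 : 1 * T.m u0 + -2 * T.m u2 = 0 := by
                      have key := Groth.Agent.Helper6.NT.rowfun4 T u0 u1 u2 u3 hinj u2
                      rw [Groth.Agent.Helper6.NT.symm' T u2 u0, taq_0_2, Groth.Agent.Helper6.NT.symm' T u2 u1, z_1_2, (h2 u2).2, z_2_3] at key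
                      exact mul_left_cancel₀ (T.w_pos u2).ne' (by linarith only [key])
                    have r_3 : 1 * T.m u0 + -2 * T.m u3 = 0 := by
                      have key := Groth.Agent.Helper6.NT.rowfun4 T u0 u1 u2 u3 hinj u3
                      rw [Groth.Agent.Helper6.NT.symm' T u3 u0, taq_0_3, Groth.Agent.Helper6.NT.symm' T u3 u1, z_1_3, Groth.Agent.Helper6.NT.symm' T u3 u2, z_2_3, (h2 u3).2] at key
                      exact mul_left_cancel₀ (T.w_pos u3).ne' (by linarith only [key])
                    have f0 : T.m u0 = 2 * T.m u1 := by linarith only [r_0, r_1, r_2, r_3]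
                    have f1 : T.m u1 = T.m u1 := rfl
                    have f2 : T.m u3 = T.m u1 := by linarith only [r_0, r_1, r_2, r_3]
                    have f3 : T.m u2 = T.m u1 := by linarith only [r_0, r_1, r_2, r_3]
                    have f4 : T.w u0 = T.w u0 := rfl
                    have f5 : T.w u1 = T.w u0 := by linarith only [tw_0_1, tw_0_2, tw_0_3]
                    have f6 : T.w u3 = T.w u0 := by linarith only [tw_0_1, tw_0_2, tw_0_3]
                    have f7 : T.w u2 = 2 * T.w u0 := by linarith only [tw_0_1, tw_0_2, tw_0_3]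
                    have f8 : T.a u0 u0 = -2 * T.w u0 := by have := (h2 u0).2; linarith only [this, tw_0_1, tw_0_2, tw_0_3]
                    have f9 : T.a u0 u1 = T.w u0 := by linarith only [tap_0_1, tw_0_1, tw_0_2, tw_0_3]
                    have f10 : T.a u0 u3 = T.w u0 := by linarith only [tap_0_3, tw_0_1, tw_0_2, tw_0_3]
                    have f11 : T.a u0 u2 = 2 * T.w u0 := by linarith only [tap_0_2, tw_0_1, tw_0_2, tw_0_3]
                    have f12 : T.a u1 u1 = -2 * T.w u0 := by have := (h2 u1).2; linarith only [this, tw_0_1, tw_0_2, tw_0_3]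
                    have f13 : T.a u1 u3 = 0 := by exact z_1_3
                    have f14 : T.a u1 u2 = 0 := by exact z_1_2
                    have f15 : T.a u3 u3 = -2 * T.w u0 := by have := (h2 u3).2; linarith only [this, tw_0_1, tw_0_2, tw_0_3]
                    have f16 : T.a u3 u2 = 0 := by rw [Groth.Agent.Helper6.NT.symm' T u3 u2]; exact z_2_3
                    have f17 : T.a u2 u2 = -4 * T.w u0 := by have := (h2 u2).2; linarith only [this, tw_0_1, tw_0_2, tw_0_3]
                    have hsig := Groth.Agent.Helper6.NT.inj4 u0 u1 u3 u2 hn_1_0 hn_3_0 hn_3_1 hn_2_0 hn_2_1 hn_3_2.symm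
                    exact ⟨Equiv.ofBijective _ (Finite.injective_iff_bijective.1 hsig), T.m u1, T.w u0, Or.inr (Or.inr (Or.inr (Or.inr (Or.inl ⟨f0, f1, f2, f3, f4, f5, f6, f7, f8, f9, f10, f11, f12, f13, f14, f15, f16, f17⟩))))⟩
                  · -- (2,3) nonzero
                    obtain ⟨lbp_2_3, lbq_2_3⟩ := Groth.Agent.Helper6.NT.lb T u2 u3 hn_3_2.symm nz_2_3
                    exfalso
                    have key := Groth.Agent.Helper6.NT.negfun3 T h2 u0 u2 u3 (by norm_num) 1 1 1 (by norm_num) (by norm_num)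
                    linarith only [key, tap_0_2, taq_0_2, tap_0_3, taq_0_3, lbp_2_3, lbq_2_3, T.w_pos u0, T.w_pos u2, T.w_pos u3]
                · -- (1,3) nonzero
                  obtain ⟨lbp_1_3, lbq_1_3⟩ := Groth.Agent.Helper6.NT.lb T u1 u3 hn_3_1.symm nz_1_3
                  exfalso
                  have key := Groth.Agent.Helper6.NT.negfun3 T h2 u0 u1 u3 (by norm_num) 1 1 1 (by norm_num) (by norm_num)
                  linarith only [key, tap_0_1, taq_0_1, tap_0_3, taq_0_3, lbp_1_3, lbq_1_3, T.w_pos u0, T.w_pos u1, T.w_pos u3]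
              · -- (0,3) Dp
                exfalso
                have key := Groth.Agent.Helper6.NT.negfun3 T h2 u0 u2 u3 (by norm_num) 2 1 1 (by norm_num) (by norm_num)
                linarith only [key, tap_0_2, taq_0_2, tap_0_3, taq_0_3, T.offDiag_nonneg u2 u3 hn_3_2.symm, T.w_pos u0, T.w_pos u2, T.w_pos u3]
              · -- (0,3) Dm
                exfalso
                have key := Groth.Agent.Helper6.NT.negfun3 T h2 u0 u2 u3 (by norm_num) 2 1 2 (by norm_num) (by norm_num)
                linarith only [key, tap_0_2, taq_0_2, tap_0_3, taq_0_3, T.offDiag_nonneg u2 u3 hn_3_2.symm, T.w_pos u0, T.w_pos u2, T.w_pos u3]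
              · -- (0,3) Tp
                exfalso
                have key := Groth.Agent.Helper6.NT.negfun3 T h2 u0 u2 u3 (by norm_num) 2 1 1 (by norm_num) (by norm_num)
                linarith only [key, tap_0_2, taq_0_2, tap_0_3, taq_0_3, T.offDiag_nonneg u2 u3 hn_3_2.symm, T.w_pos u0, T.w_pos u2, T.w_pos u3]
              · -- (0,3) Tm
                exfalso
                have key := Groth.Agent.Helper6.NT.negfun3 T h2 u0 u2 u3 (by norm_num) 2 1 3 (by norm_num) (by norm_num)
                linarith only [key, tap_0_2, taq_0_2, tap_0_3, taq_0_3, T.offDiag_nonneg u2 u3 hn_3_2.symm, T.w_pos u0, T.w_pos u2, T.w_pos u3]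
            · push Not at hx
              have cl_0 := hx
              clear hx
              by_cases hx : ∃ j, (j ≠ u0 ∧ j ≠ u1 ∧ j ≠ u2) ∧ T.a u1 j ≠ 0
              · obtain ⟨u3, ⟨hn_3_0, hn_3_1, hn_3_2⟩, e_1_3⟩ := hx
                have z_0_3 : T.a u0 u3 = 0 := cl_0 u3 ⟨hn_3_0, hn_3_1, hn_3_2⟩
                rcases Groth.Agent.Helper6.NT.edge5 T h2 (by norm_num) u1 u3 hn_3_1.symm e_1_3 with ⟨tw_1_3, tap_1_3, taq_1_3⟩ | ⟨tw_1_3, tap_1_3, taq_1_3⟩ | ⟨tw_1_3, tap_1_3, taq_1_3⟩ | ⟨tw_1_3, tap_1_3, taq_1_3⟩ | ⟨tw_1_3, tap_1_3, taq_1_3⟩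
                · -- (1,3) S
                  rcases eq_or_ne (T.a u2 u3) 0 with z_2_3 | nz_2_3
                  · -- (2,3) zero
                    have hinj := Groth.Agent.Helper6.NT.inj4 u0 u1 u2 u3 hn_1_0 hn_2_0 hn_2_1 hn_3_0 hn_3_1 hn_3_2
                    have r_0 : -2 * T.m u0 + 1 * T.m u1 + 2 * T.m u2 = 0 := by
                      have key := Groth.Agent.Helper6.NT.rowfun4 T u0 u1 u2 u3 hinj u0
                      rw [(h2 u0).2, tap_0_1, tap_0_2, z_0_3] at key
                      exact mul_left_cancel₀ (T.w_pos u0).ne' (by linarith only [key])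
                    have r_1 : 1 * T.m u0 + -2 * T.m u1 + 1 * T.m u3 = 0 := by
                      have key := Groth.Agent.Helper6.NT.rowfun4 T u0 u1 u2 u3 hinj u1
                      rw [Groth.Agent.Helper6.NT.symm' T u1 u0, taq_0_1, (h2 u1).2, z_1_2, tap_1_3] at key
                      exact mul_left_cancel₀ (T.w_pos u1).ne' (by linarith only [key])
                    have r_2 : 1 * T.m u0 + -2 * T.m u2 = 0 := by
                      have key := Groth.Agent.Helper6.NT.rowfun4 T u0 u1 u2 u3 hinj u2
                      rw [Groth.Agent.Helper6.NT.symm' T u2 u0, taq_0_2, Groth.Agent.Helper6.NT.symm' T u2 u1, z_1_2, (h2 u2).2, z_2_3] at key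
                      exact mul_left_cancel₀ (T.w_pos u2).ne' (by linarith only [key])
                    have r_3 : 1 * T.m u1 + -2 * T.m u3 = 0 := by
                      have key := Groth.Agent.Helper6.NT.rowfun4 T u0 u1 u2 u3 hinj u3
                      rw [Groth.Agent.Helper6.NT.symm' T u3 u0, z_0_3, Groth.Agent.Helper6.NT.symm' T u3 u1, taq_1_3, Groth.Agent.Helper6.NT.symm' T u3 u2, z_2_3, (h2 u3).2] at key
                      exact mul_left_cancel₀ (T.w_pos u3).ne' (by linarith only [key])
                    exfalso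
                    linarith only [r_0, r_1, r_2, r_3, T.m_pos u0, T.m_pos u1, T.m_pos u2, T.m_pos u3]
                  · -- (2,3) nonzero
                    obtain ⟨lbp_2_3, lbq_2_3⟩ := Groth.Agent.Helper6.NT.lb T u2 u3 hn_3_2.symm nz_2_3
                    rcases Groth.Agent.Helper6.NT.edge5 T h2 (by norm_num) u2 u3 hn_3_2.symm nz_2_3 with ⟨tw_2_3, tap_2_3, taq_2_3⟩ | ⟨tw_2_3, tap_2_3, taq_2_3⟩ | ⟨tw_2_3, tap_2_3, taq_2_3⟩ | ⟨tw_2_3, tap_2_3, taq_2_3⟩ | ⟨tw_2_3, tap_2_3, taq_2_3⟩
                    · -- (2,3) S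
                      exfalso
                      linarith only [tap_0_1, tap_0_2, tap_2_3, tap_1_3, taq_0_1, taq_0_2, taq_2_3, taq_1_3, T.w_pos u0, T.w_pos u1, T.w_pos u2, T.w_pos u3]
                    · -- (2,3) Dp
                      exfalso
                      have key := Groth.Agent.Helper6.NT.negfun3 T h2 u0 u2 u3 (by norm_num) 2 2 1 (by norm_num) (by norm_num)
                      linarith only [key, tap_0_2, taq_0_2, z_0_3, tap_2_3, taq_2_3, T.w_pos u0, T.w_pos u2, T.w_pos u3]
                    · -- (2,3) Dm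
                      exfalso
                      have key := Groth.Agent.Helper6.NT.negfun3 T h2 u0 u2 u3 (by norm_num) 1 1 1 (by norm_num) (by norm_num)
                      linarith only [key, tap_0_2, taq_0_2, z_0_3, tap_2_3, taq_2_3, T.w_pos u0, T.w_pos u2, T.w_pos u3]
                    · -- (2,3) Tp
                      exfalso
                      have key := Groth.Agent.Helper6.NT.negfun3 T h2 u1 u2 u3 (by norm_num) 1 3 2 (by norm_num) (by norm_num)
                      linarith only [key, z_1_2, tap_1_3, taq_1_3, tap_2_3, taq_2_3, T.w_pos u1, T.w_pos u2, T.w_pos u3]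
                    · -- (2,3) Tm
                      exfalso
                      have key := Groth.Agent.Helper6.NT.negfun3 T h2 u1 u2 u3 (by norm_num) 1 1 2 (by norm_num) (by norm_num)
                      linarith only [key, z_1_2, tap_1_3, taq_1_3, tap_2_3, taq_2_3, T.w_pos u1, T.w_pos u2, T.w_pos u3]
                · -- (1,3) Dp
                  rcases eq_or_ne (T.a u2 u3) 0 with z_2_3 | nz_2_3
                  · -- (2,3) zero
                    have hinj := Groth.Agent.Helper6.NT.inj4 u0 u1 u2 u3 hn_1_0 hn_2_0 hn_2_1 hn_3_0 hn_3_1 hn_3_2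
                    have r_0 : -2 * T.m u0 + 1 * T.m u1 + 2 * T.m u2 = 0 := by
                      have key := Groth.Agent.Helper6.NT.rowfun4 T u0 u1 u2 u3 hinj u0
                      rw [(h2 u0).2, tap_0_1, tap_0_2, z_0_3] at key
                      exact mul_left_cancel₀ (T.w_pos u0).ne' (by linarith only [key])
                    have r_1 : 1 * T.m u0 + -2 * T.m u1 + 2 * T.m u3 = 0 := by
                      have key := Groth.Agent.Helper6.NT.rowfun4 T u0 u1 u2 u3 hinj u1
                      rw [Groth.Agent.Helper6.NT.symm' T u1 u0, taq_0_1, (h2 u1).2, z_1_2, tap_1_3] at key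
                      exact mul_left_cancel₀ (T.w_pos u1).ne' (by linarith only [key])
                    have r_2 : 1 * T.m u0 + -2 * T.m u2 = 0 := by
                      have key := Groth.Agent.Helper6.NT.rowfun4 T u0 u1 u2 u3 hinj u2
                      rw [Groth.Agent.Helper6.NT.symm' T u2 u0, taq_0_2, Groth.Agent.Helper6.NT.symm' T u2 u1, z_1_2, (h2 u2).2, z_2_3] at key
                      exact mul_left_cancel₀ (T.w_pos u2).ne' (by linarith only [key])
                    have r_3 : 1 * T.m u1 + -2 * T.m u3 = 0 := by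
                      have key := Groth.Agent.Helper6.NT.rowfun4 T u0 u1 u2 u3 hinj u3
                      rw [Groth.Agent.Helper6.NT.symm' T u3 u0, z_0_3, Groth.Agent.Helper6.NT.symm' T u3 u1, taq_1_3, Groth.Agent.Helper6.NT.symm' T u3 u2, z_2_3, (h2 u3).2] at key
                      exact mul_left_cancel₀ (T.w_pos u3).ne' (by linarith only [key])
                    have f0 : T.m u2 = T.m u2 := rfl
                    have f1 : T.m u0 = 2 * T.m u2 := by linarith only [r_0, r_1, r_2, r_3]
                    have f2 : T.m u1 = 2 * T.m u2 := by linarith only [r_0, r_1, r_2, r_3]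
                    have f3 : T.m u3 = T.m u2 := by linarith only [r_0, r_1, r_2, r_3]
                    have f4 : T.w u2 = 2 * T.w u0 := by linarith only [tw_0_1, tw_0_2, tw_1_3]
                    have f5 : T.w u0 = T.w u0 := rfl
                    have f6 : T.w u1 = T.w u0 := by linarith only [tw_0_1, tw_0_2, tw_1_3]
                    have f7 : T.w u3 = 2 * T.w u0 := by linarith only [tw_0_1, tw_0_2, tw_1_3]
                    have f8 : T.a u2 u2 = -4 * T.w u0 := by have := (h2 u2).2; linarith only [this, tw_0_1, tw_0_2, tw_1_3]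
                    have f9 : T.a u2 u0 = 2 * T.w u0 := by rw [Groth.Agent.Helper6.NT.symm' T u2 u0]; linarith only [tap_0_2, tw_0_1, tw_0_2, tw_1_3]
                    have f10 : T.a u2 u1 = 0 := by rw [Groth.Agent.Helper6.NT.symm' T u2 u1]; exact z_1_2
                    have f11 : T.a u2 u3 = 0 := by exact z_2_3
                    have f12 : T.a u0 u0 = -2 * T.w u0 := by have := (h2 u0).2; linarith only [this, tw_0_1, tw_0_2, tw_1_3]
                    have f13 : T.a u0 u1 = T.w u0 := by linarith only [tap_0_1, tw_0_1, tw_0_2, tw_1_3]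
                    have f14 : T.a u0 u3 = 0 := by exact z_0_3
                    have f15 : T.a u1 u1 = -2 * T.w u0 := by have := (h2 u1).2; linarith only [this, tw_0_1, tw_0_2, tw_1_3]
                    have f16 : T.a u1 u3 = 2 * T.w u0 := by linarith only [tap_1_3, tw_0_1, tw_0_2, tw_1_3]
                    have f17 : T.a u3 u3 = -4 * T.w u0 := by have := (h2 u3).2; linarith only [this, tw_0_1, tw_0_2, tw_1_3]
                    have hsig := Groth.Agent.Helper6.NT.inj4 u2 u0 u1 u3 hn_2_0.symm hn_2_1.symm hn_1_0 hn_3_2 hn_3_0 hn_3_1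
                    exact ⟨Equiv.ofBijective _ (Finite.injective_iff_bijective.1 hsig), T.m u2, T.w u0, Or.inr (Or.inr (Or.inr (Or.inl ⟨f0, f1, f2, f3, f4, f5, f6, f7, f8, f9, f10, f11, f12, f13, f14, f15, f16, f17⟩)))⟩
                  · -- (2,3) nonzero
                    obtain ⟨lbp_2_3, lbq_2_3⟩ := Groth.Agent.Helper6.NT.lb T u2 u3 hn_3_2.symm nz_2_3
                    rcases Groth.Agent.Helper6.NT.edge5 T h2 (by norm_num) u2 u3 hn_3_2.symm nz_2_3 with ⟨tw_2_3, tap_2_3, taq_2_3⟩ | ⟨tw_2_3, tap_2_3, taq_2_3⟩ | ⟨tw_2_3, tap_2_3, taq_2_3⟩ | ⟨tw_2_3, tap_2_3, taq_2_3⟩ | ⟨tw_2_3, tap_2_3, taq_2_3⟩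
                    · -- (2,3) S
                      exfalso
                      have key := Groth.Agent.Helper6.NT.nonposfun4 T h2 u0 u1 u2 u3 3 3 2 2
                      linarith only [key, tap_0_1, taq_0_1, tap_0_2, taq_0_2, z_0_3, z_1_2, tap_1_3, taq_1_3, tap_2_3, taq_2_3, T.w_pos u0, T.w_pos u1, T.w_pos u2, T.w_pos u3]
                    · -- (2,3) Dp
                      exfalso
                      have key := Groth.Agent.Helper6.NT.negfun3 T h2 u1 u2 u3 (by norm_num) 1 1 1 (by norm_num) (by norm_num)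
                      linarith only [key, z_1_2, tap_1_3, taq_1_3, tap_2_3, taq_2_3, T.w_pos u1, T.w_pos u2, T.w_pos u3]
                    · -- (2,3) Dm
                      exfalso
                      have key := Groth.Agent.Helper6.NT.negfun3 T h2 u1 u2 u3 (by norm_num) 2 1 2 (by norm_num) (by norm_num)
                      linarith only [key, z_1_2, tap_1_3, taq_1_3, tap_2_3, taq_2_3, T.w_pos u1, T.w_pos u2, T.w_pos u3]
                    · -- (2,3) Tp
                      exfalso
                      have key := Groth.Agent.Helper6.NT.negfun3 T h2 u1 u2 u3 (by norm_num) 2 3 2 (by norm_num) (by norm_num)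
                      linarith only [key, z_1_2, tap_1_3, taq_1_3, tap_2_3, taq_2_3, T.w_pos u1, T.w_pos u2, T.w_pos u3]
                    · -- (2,3) Tm
                      exfalso
                      have key := Groth.Agent.Helper6.NT.negfun3 T h2 u1 u2 u3 (by norm_num) 2 1 2 (by norm_num) (by norm_num)
                      linarith only [key, z_1_2, tap_1_3, taq_1_3, tap_2_3, taq_2_3, T.w_pos u1, T.w_pos u2, T.w_pos u3]
                · -- (1,3) Dm
                  rcases eq_or_ne (T.a u2 u3) 0 with z_2_3 | nz_2_3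
                  · -- (2,3) zero
                    have hinj := Groth.Agent.Helper6.NT.inj4 u0 u1 u2 u3 hn_1_0 hn_2_0 hn_2_1 hn_3_0 hn_3_1 hn_3_2
                    have r_0 : -2 * T.m u0 + 1 * T.m u1 + 2 * T.m u2 = 0 := by
                      have key := Groth.Agent.Helper6.NT.rowfun4 T u0 u1 u2 u3 hinj u0
                      rw [(h2 u0).2, tap_0_1, tap_0_2, z_0_3] at key
                      exact mul_left_cancel₀ (T.w_pos u0).ne' (by linarith only [key])
                    have r_1 : 1 * T.m u0 + -2 * T.m u1 + 1 * T.m u3 = 0 := by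
                      have key := Groth.Agent.Helper6.NT.rowfun4 T u0 u1 u2 u3 hinj u1
                      rw [Groth.Agent.Helper6.NT.symm' T u1 u0, taq_0_1, (h2 u1).2, z_1_2, tap_1_3] at key
                      exact mul_left_cancel₀ (T.w_pos u1).ne' (by linarith only [key])
                    have r_2 : 1 * T.m u0 + -2 * T.m u2 = 0 := by
                      have key := Groth.Agent.Helper6.NT.rowfun4 T u0 u1 u2 u3 hinj u2
                      rw [Groth.Agent.Helper6.NT.symm' T u2 u0, taq_0_2, Groth.Agent.Helper6.NT.symm' T u2 u1, z_1_2, (h2 u2).2, z_2_3] at key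
                      exact mul_left_cancel₀ (T.w_pos u2).ne' (by linarith only [key])
                    have r_3 : 2 * T.m u1 + -2 * T.m u3 = 0 := by
                      have key := Groth.Agent.Helper6.NT.rowfun4 T u0 u1 u2 u3 hinj u3
                      rw [Groth.Agent.Helper6.NT.symm' T u3 u0, z_0_3, Groth.Agent.Helper6.NT.symm' T u3 u1, taq_1_3, Groth.Agent.Helper6.NT.symm' T u3 u2, z_2_3, (h2 u3).2] at key
                      exact mul_left_cancel₀ (T.w_pos u3).ne' (by linarith only [key])
                    have f0 : T.m u3 = 2 * T.m u2 := by linarith only [r_0, r_1, r_2, r_3]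
                    have f1 : T.m u1 = 2 * T.m u2 := by linarith only [r_0, r_1, r_2, r_3]
                    have f2 : T.m u0 = 2 * T.m u2 := by linarith only [r_0, r_1, r_2, r_3]
                    have f3 : T.m u2 = T.m u2 := rfl
                    have f4 : T.w u3 = T.w u3 := rfl
                    have f5 : T.w u1 = 2 * T.w u3 := by linarith only [tw_0_1, tw_0_2, tw_1_3]
                    have f6 : T.w u0 = 2 * T.w u3 := by linarith only [tw_0_1, tw_0_2, tw_1_3]
                    have f7 : T.w u2 = 4 * T.w u3 := by linarith only [tw_0_1, tw_0_2, tw_1_3]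
                    have f8 : T.a u3 u3 = -2 * T.w u3 := by have := (h2 u3).2; linarith only [this, tw_0_1, tw_0_2, tw_1_3]
                    have f9 : T.a u3 u1 = 2 * T.w u3 := by rw [Groth.Agent.Helper6.NT.symm' T u3 u1]; linarith only [tap_1_3, tw_0_1, tw_0_2, tw_1_3]
                    have f10 : T.a u3 u0 = 0 := by rw [Groth.Agent.Helper6.NT.symm' T u3 u0]; exact z_0_3
                    have f11 : T.a u3 u2 = 0 := by rw [Groth.Agent.Helper6.NT.symm' T u3 u2]; exact z_2_3
                    have f12 : T.a u1 u1 = -4 * T.w u3 := by have := (h2 u1).2; linarith only [this, tw_0_1, tw_0_2, tw_1_3]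
                    have f13 : T.a u1 u0 = 2 * T.w u3 := by rw [Groth.Agent.Helper6.NT.symm' T u1 u0]; linarith only [tap_0_1, tw_0_1, tw_0_2, tw_1_3]
                    have f14 : T.a u1 u2 = 0 := by exact z_1_2
                    have f15 : T.a u0 u0 = -4 * T.w u3 := by have := (h2 u0).2; linarith only [this, tw_0_1, tw_0_2, tw_1_3]
                    have f16 : T.a u0 u2 = 4 * T.w u3 := by linarith only [tap_0_2, tw_0_1, tw_0_2, tw_1_3]
                    have f17 : T.a u2 u2 = -8 * T.w u3 := by have := (h2 u2).2; linarith only [this, tw_0_1, tw_0_2, tw_1_3]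
                    have hsig := Groth.Agent.Helper6.NT.inj4 u3 u1 u0 u2 hn_3_1.symm hn_3_0.symm hn_1_0.symm hn_3_2.symm hn_2_1 hn_2_0
                    exact ⟨Equiv.ofBijective _ (Finite.injective_iff_bijective.1 hsig), T.m u2, T.w u3, Or.inr (Or.inl ⟨f0, f1, f2, f3, f4, f5, f6, f7, f8, f9, f10, f11, f12, f13, f14, f15, f16, f17⟩)⟩
                  · -- (2,3) nonzero
                    obtain ⟨lbp_2_3, lbq_2_3⟩ := Groth.Agent.Helper6.NT.lb T u2 u3 hn_3_2.symm nz_2_3
                    rcases Groth.Agent.Helper6.NT.edge5 T h2 (by norm_num) u2 u3 hn_3_2.symm nz_2_3 with ⟨tw_2_3, tap_2_3, taq_2_3⟩ | ⟨tw_2_3, tap_2_3, taq_2_3⟩ | ⟨tw_2_3, tap_2_3, taq_2_3⟩ | ⟨tw_2_3, tap_2_3, taq_2_3⟩ | ⟨tw_2_3, tap_2_3, taq_2_3⟩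
                    · -- (2,3) S
                      exfalso
                      linarith only [tap_0_1, tap_0_2, tap_2_3, tap_1_3, taq_0_1, taq_0_2, taq_2_3, taq_1_3, T.w_pos u0, T.w_pos u1, T.w_pos u2, T.w_pos u3]
                    · -- (2,3) Dp
                      exfalso
                      have key := Groth.Agent.Helper6.NT.negfun3 T h2 u1 u2 u3 (by norm_num) 1 2 2 (by norm_num) (by norm_num)
                      linarith only [key, z_1_2, tap_1_3, taq_1_3, tap_2_3, taq_2_3, T.w_pos u1, T.w_pos u2, T.w_pos u3]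
                    · -- (2,3) Dm
                      exfalso
                      have key := Groth.Agent.Helper6.NT.negfun3 T h2 u1 u2 u3 (by norm_num) 1 1 2 (by norm_num) (by norm_num)
                      linarith only [key, z_1_2, tap_1_3, taq_1_3, tap_2_3, taq_2_3, T.w_pos u1, T.w_pos u2, T.w_pos u3]
                    · -- (2,3) Tp
                      exfalso
                      have key := Groth.Agent.Helper6.NT.negfun3 T h2 u1 u2 u3 (by norm_num) 1 3 2 (by norm_num) (by norm_num)
                      linarith only [key, z_1_2, tap_1_3, taq_1_3, tap_2_3, taq_2_3, T.w_pos u1, T.w_pos u2, T.w_pos u3]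
                    · -- (2,3) Tm
                      exfalso
                      have key := Groth.Agent.Helper6.NT.negfun3 T h2 u1 u2 u3 (by norm_num) 1 1 2 (by norm_num) (by norm_num)
                      linarith only [key, z_1_2, tap_1_3, taq_1_3, tap_2_3, taq_2_3, T.w_pos u1, T.w_pos u2, T.w_pos u3]
                · -- (1,3) Tp
                  exfalso
                  have key := Groth.Agent.Helper6.NT.negfun3 T h2 u0 u1 u3 (by norm_num) 1 2 1 (by norm_num) (by norm_num)
                  linarith only [key, tap_0_1, taq_0_1, z_0_3, tap_1_3, taq_1_3, T.w_pos u0, T.w_pos u1, T.w_pos u3]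
                · -- (1,3) Tm
                  exfalso
                  have key := Groth.Agent.Helper6.NT.negfun3 T h2 u0 u1 u3 (by norm_num) 1 2 3 (by norm_num) (by norm_num)
                  linarith only [key, tap_0_1, taq_0_1, z_0_3, tap_1_3, taq_1_3, T.w_pos u0, T.w_pos u1, T.w_pos u3]
              · push Not at hx
                have cl_1 := hx
                clear hx
                by_cases hx : ∃ j, (j ≠ u0 ∧ j ≠ u1 ∧ j ≠ u2) ∧ T.a u2 j ≠ 0
                · obtain ⟨u3, ⟨hn_3_0, hn_3_1, hn_3_2⟩, e_2_3⟩ := hx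
                  have z_0_3 : T.a u0 u3 = 0 := cl_0 u3 ⟨hn_3_0, hn_3_1, hn_3_2⟩
                  have z_1_3 : T.a u1 u3 = 0 := cl_1 u3 ⟨hn_3_0, hn_3_1, hn_3_2⟩
                  rcases Groth.Agent.Helper6.NT.edge5 T h2 (by norm_num) u2 u3 hn_3_2.symm e_2_3 with ⟨tw_2_3, tap_2_3, taq_2_3⟩ | ⟨tw_2_3, tap_2_3, taq_2_3⟩ | ⟨tw_2_3, tap_2_3, taq_2_3⟩ | ⟨tw_2_3, tap_2_3, taq_2_3⟩ | ⟨tw_2_3, tap_2_3, taq_2_3⟩
                  · -- (2,3) S
                    have hinj := Groth.Agent.Helper6.NT.inj4 u0 u1 u2 u3 hn_1_0 hn_2_0 hn_2_1 hn_3_0 hn_3_1 hn_3_2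
                    have r_0 : -2 * T.m u0 + 1 * T.m u1 + 2 * T.m u2 = 0 := by
                      have key := Groth.Agent.Helper6.NT.rowfun4 T u0 u1 u2 u3 hinj u0
                      rw [(h2 u0).2, tap_0_1, tap_0_2, z_0_3] at key
                      exact mul_left_cancel₀ (T.w_pos u0).ne' (by linarith only [key])
                    have r_1 : 1 * T.m u0 + -2 * T.m u1 = 0 := by
                      have key := Groth.Agent.Helper6.NT.rowfun4 T u0 u1 u2 u3 hinj u1
                      rw [Groth.Agent.Helper6.NT.symm' T u1 u0, taq_0_1, (h2 u1).2, z_1_2, z_1_3] at key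
                      exact mul_left_cancel₀ (T.w_pos u1).ne' (by linarith only [key])
                    have r_2 : 1 * T.m u0 + -2 * T.m u2 + 1 * T.m u3 = 0 := by
                      have key := Groth.Agent.Helper6.NT.rowfun4 T u0 u1 u2 u3 hinj u2
                      rw [Groth.Agent.Helper6.NT.symm' T u2 u0, taq_0_2, Groth.Agent.Helper6.NT.symm' T u2 u1, z_1_2, (h2 u2).2, tap_2_3] at key
                      exact mul_left_cancel₀ (T.w_pos u2).ne' (by linarith only [key])
                    have r_3 : 1 * T.m u2 + -2 * T.m u3 = 0 := by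
                      have key := Groth.Agent.Helper6.NT.rowfun4 T u0 u1 u2 u3 hinj u3
                      rw [Groth.Agent.Helper6.NT.symm' T u3 u0, z_0_3, Groth.Agent.Helper6.NT.symm' T u3 u1, z_1_3, Groth.Agent.Helper6.NT.symm' T u3 u2, taq_2_3, (h2 u3).2] at key
                      exact mul_left_cancel₀ (T.w_pos u3).ne' (by linarith only [key])
                    exfalso
                    linarith only [r_0, r_1, r_2, r_3, T.m_pos u0, T.m_pos u1, T.m_pos u2, T.m_pos u3]
                  · -- (2,3) Dp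
                    exfalso
                    have key := Groth.Agent.Helper6.NT.negfun3 T h2 u0 u2 u3 (by norm_num) 2 2 1 (by norm_num) (by norm_num)
                    linarith only [key, tap_0_2, taq_0_2, z_0_3, tap_2_3, taq_2_3, T.w_pos u0, T.w_pos u2, T.w_pos u3]
                  · -- (2,3) Dm
                    exfalso
                    have key := Groth.Agent.Helper6.NT.negfun3 T h2 u0 u2 u3 (by norm_num) 1 1 1 (by norm_num) (by norm_num)
                    linarith only [key, tap_0_2, taq_0_2, z_0_3, tap_2_3, taq_2_3, T.w_pos u0, T.w_pos u2, T.w_pos u3]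
                  · -- (2,3) Tp
                    exfalso
                    have key := Groth.Agent.Helper6.NT.negfun3 T h2 u0 u2 u3 (by norm_num) 2 2 1 (by norm_num) (by norm_num)
                    linarith only [key, tap_0_2, taq_0_2, z_0_3, tap_2_3, taq_2_3, T.w_pos u0, T.w_pos u2, T.w_pos u3]
                  · -- (2,3) Tm
                    exfalso
                    have key := Groth.Agent.Helper6.NT.negfun3 T h2 u0 u2 u3 (by norm_num) 2 2 3 (by norm_num) (by norm_num)
                    linarith only [key, tap_0_2, taq_0_2, z_0_3, tap_2_3, taq_2_3, T.w_pos u0, T.w_pos u2, T.w_pos u3]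
                · push Not at hx
                  have cl_2 := hx
                  clear hx
                  exfalso
                  refine Groth.Agent.Helper6.NT.closed_contra T [u0, u1, u2] (by simp) (by simp) ?_
                  intro i hi j hj
                  simp only [List.mem_cons, List.not_mem_nil, or_false, not_or] at hi hj
                  rcases hi with rfl | rfl | rfl
                  · exact cl_0 j ⟨hj.1, hj.2.1, hj.2.2⟩
                  · exact cl_1 j ⟨hj.1, hj.2.1, hj.2.2⟩
                  · exact cl_2 j ⟨hj.1, hj.2.1, hj.2.2⟩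
          · -- (1,2) nonzero
            obtain ⟨lbp_1_2, lbq_1_2⟩ := Groth.Agent.Helper6.NT.lb T u1 u2 hn_2_1.symm nz_1_2
            exfalso
            have key := Groth.Agent.Helper6.NT.negfun3 T h2 u0 u1 u2 (by norm_num) 1 1 1 (by norm_num) (by norm_num)
            linarith only [key, tap_0_1, taq_0_1, tap_0_2, taq_0_2, lbp_1_2, lbq_1_2, T.w_pos u0, T.w_pos u1, T.w_pos u2]
        · -- (0,2) Dm
          rcases eq_or_ne (T.a u1 u2) 0 with z_1_2 | nz_1_2
          · -- (1,2) zero
            by_cases hx : ∃ j, (j ≠ u0 ∧ j ≠ u1 ∧ j ≠ u2) ∧ T.a u0 j ≠ 0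
            · obtain ⟨u3, ⟨hn_3_0, hn_3_1, hn_3_2⟩, e_0_3⟩ := hx
              rcases Groth.Agent.Helper6.NT.edge5 T h2 (by norm_num) u0 u3 hn_3_0.symm e_0_3 with ⟨tw_0_3, tap_0_3, taq_0_3⟩ | ⟨tw_0_3, tap_0_3, taq_0_3⟩ | ⟨tw_0_3, tap_0_3, taq_0_3⟩ | ⟨tw_0_3, tap_0_3, taq_0_3⟩ | ⟨tw_0_3, tap_0_3, taq_0_3⟩
              · -- (0,3) S
                rcases eq_or_ne (T.a u1 u3) 0 with z_1_3 | nz_1_3
                · -- (1,3) zero
                  rcases eq_or_ne (T.a u2 u3) 0 with z_2_3 | nz_2_3
                  · -- (2,3) zero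
                    have hinj := Groth.Agent.Helper6.NT.inj4 u0 u1 u2 u3 hn_1_0 hn_2_0 hn_2_1 hn_3_0 hn_3_1 hn_3_2
                    have r_0 : -2 * T.m u0 + 1 * T.m u1 + 1 * T.m u2 + 1 * T.m u3 = 0 := by
                      have key := Groth.Agent.Helper6.NT.rowfun4 T u0 u1 u2 u3 hinj u0
                      rw [(h2 u0).2, tap_0_1, tap_0_2, tap_0_3] at key
                      exact mul_left_cancel₀ (T.w_pos u0).ne' (by linarith only [key])
                    have r_1 : 1 * T.m u0 + -2 * T.m u1 = 0 := by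
                      have key := Groth.Agent.Helper6.NT.rowfun4 T u0 u1 u2 u3 hinj u1
                      rw [Groth.Agent.Helper6.NT.symm' T u1 u0, taq_0_1, (h2 u1).2, z_1_2, z_1_3] at key
                      exact mul_left_cancel₀ (T.w_pos u1).ne' (by linarith only [key])
                    have r_2 : 2 * T.m u0 + -2 * T.m u2 = 0 := by
                      have key := Groth.Agent.Helper6.NT.rowfun4 T u0 u1 u2 u3 hinj u2
                      rw [Groth.Agent.Helper6.NT.symm' T u2 u0, taq_0_2, Groth.Agent.Helper6.NT.symm' T u2 u1, z_1_2, (h2 u2).2, z_2_3] at key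
                      exact mul_left_cancel₀ (T.w_pos u2).ne' (by linarith only [key])
                    have r_3 : 1 * T.m u0 + -2 * T.m u3 = 0 := by
                      have key := Groth.Agent.Helper6.NT.rowfun4 T u0 u1 u2 u3 hinj u3
                      rw [Groth.Agent.Helper6.NT.symm' T u3 u0, taq_0_3, Groth.Agent.Helper6.NT.symm' T u3 u1, z_1_3, Groth.Agent.Helper6.NT.symm' T u3 u2, z_2_3, (h2 u3).2] at key
                      exact mul_left_cancel₀ (T.w_pos u3).ne' (by linarith only [key])
                    have f0 : T.m u0 = 2 * T.m u1 := by linarith only [r_0, r_1, r_2, r_3]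
                    have f1 : T.m u1 = T.m u1 := rfl
                    have f2 : T.m u3 = T.m u1 := by linarith only [r_0, r_1, r_2, r_3]
                    have f3 : T.m u2 = 2 * T.m u1 := by linarith only [r_0, r_1, r_2, r_3]
                    have f4 : T.w u0 = 2 * T.w u2 := by linarith only [tw_0_1, tw_0_2, tw_0_3]
                    have f5 : T.w u1 = 2 * T.w u2 := by linarith only [tw_0_1, tw_0_2, tw_0_3]
                    have f6 : T.w u3 = 2 * T.w u2 := by linarith only [tw_0_1, tw_0_2, tw_0_3]
                    have f7 : T.w u2 = T.w u2 := rfl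
                    have f8 : T.a u0 u0 = -4 * T.w u2 := by have := (h2 u0).2; linarith only [this, tw_0_1, tw_0_2, tw_0_3]
                    have f9 : T.a u0 u1 = 2 * T.w u2 := by linarith only [tap_0_1, tw_0_1, tw_0_2, tw_0_3]
                    have f10 : T.a u0 u3 = 2 * T.w u2 := by linarith only [tap_0_3, tw_0_1, tw_0_2, tw_0_3]
                    have f11 : T.a u0 u2 = 2 * T.w u2 := by linarith only [tap_0_2, tw_0_1, tw_0_2, tw_0_3]
                    have f12 : T.a u1 u1 = -4 * T.w u2 := by have := (h2 u1).2; linarith only [this, tw_0_1, tw_0_2, tw_0_3]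
                    have f13 : T.a u1 u3 = 0 := by exact z_1_3
                    have f14 : T.a u1 u2 = 0 := by exact z_1_2
                    have f15 : T.a u3 u3 = -4 * T.w u2 := by have := (h2 u3).2; linarith only [this, tw_0_1, tw_0_2, tw_0_3]
                    have f16 : T.a u3 u2 = 0 := by rw [Groth.Agent.Helper6.NT.symm' T u3 u2]; exact z_2_3
                    have f17 : T.a u2 u2 = -2 * T.w u2 := by have := (h2 u2).2; linarith only [this, tw_0_1, tw_0_2, tw_0_3]
                    have hsig := Groth.Agent.Helper6.NT.inj4 u0 u1 u3 u2 hn_1_0 hn_3_0 hn_3_1 hn_2_0 hn_2_1 hn_3_2.symm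
                    exact ⟨Equiv.ofBijective _ (Finite.injective_iff_bijective.1 hsig), T.m u1, T.w u2, Or.inr (Or.inr (Or.inr (Or.inr (Or.inr (⟨f0, f1, f2, f3, f4, f5, f6, f7, f8, f9, f10, f11, f12, f13, f14, f15, f16, f17⟩)))))⟩
                  · -- (2,3) nonzero
                    obtain ⟨lbp_2_3, lbq_2_3⟩ := Groth.Agent.Helper6.NT.lb T u2 u3 hn_3_2.symm nz_2_3
                    exfalso
                    have key := Groth.Agent.Helper6.NT.negfun3 T h2 u0 u2 u3 (by norm_num) 1 1 1 (by norm_num) (by norm_num)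
                    linarith only [key, tap_0_2, taq_0_2, tap_0_3, taq_0_3, lbp_2_3, lbq_2_3, T.w_pos u0, T.w_pos u2, T.w_pos u3]
                · -- (1,3) nonzero
                  obtain ⟨lbp_1_3, lbq_1_3⟩ := Groth.Agent.Helper6.NT.lb T u1 u3 hn_3_1.symm nz_1_3
                  exfalso
                  have key := Groth.Agent.Helper6.NT.negfun3 T h2 u0 u1 u3 (by norm_num) 1 1 1 (by norm_num) (by norm_num)
                  linarith only [key, tap_0_1, taq_0_1, tap_0_3, taq_0_3, lbp_1_3, lbq_1_3, T.w_pos u0, T.w_pos u1, T.w_pos u3]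
              · -- (0,3) Dp
                exfalso
                have key := Groth.Agent.Helper6.NT.negfun3 T h2 u0 u2 u3 (by norm_num) 2 2 1 (by norm_num) (by norm_num)
                linarith only [key, tap_0_2, taq_0_2, tap_0_3, taq_0_3, T.offDiag_nonneg u2 u3 hn_3_2.symm, T.w_pos u0, T.w_pos u2, T.w_pos u3]
              · -- (0,3) Dm
                exfalso
                have key := Groth.Agent.Helper6.NT.negfun3 T h2 u0 u2 u3 (by norm_num) 1 1 1 (by norm_num) (by norm_num)
                linarith only [key, tap_0_2, taq_0_2, tap_0_3, taq_0_3, T.offDiag_nonneg u2 u3 hn_3_2.symm, T.w_pos u0, T.w_pos u2, T.w_pos u3]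
              · -- (0,3) Tp
                exfalso
                have key := Groth.Agent.Helper6.NT.negfun3 T h2 u0 u2 u3 (by norm_num) 2 2 1 (by norm_num) (by norm_num)
                linarith only [key, tap_0_2, taq_0_2, tap_0_3, taq_0_3, T.offDiag_nonneg u2 u3 hn_3_2.symm, T.w_pos u0, T.w_pos u2, T.w_pos u3]
              · -- (0,3) Tm
                exfalso
                have key := Groth.Agent.Helper6.NT.negfun3 T h2 u0 u2 u3 (by norm_num) 2 2 3 (by norm_num) (by norm_num)
                linarith only [key, tap_0_2, taq_0_2, tap_0_3, taq_0_3, T.offDiag_nonneg u2 u3 hn_3_2.symm, T.w_pos u0, T.w_pos u2, T.w_pos u3]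
            · push Not at hx
              have cl_0 := hx
              clear hx
              by_cases hx : ∃ j, (j ≠ u0 ∧ j ≠ u1 ∧ j ≠ u2) ∧ T.a u1 j ≠ 0
              · obtain ⟨u3, ⟨hn_3_0, hn_3_1, hn_3_2⟩, e_1_3⟩ := hx
                have z_0_3 : T.a u0 u3 = 0 := cl_0 u3 ⟨hn_3_0, hn_3_1, hn_3_2⟩
                rcases Groth.Agent.Helper6.NT.edge5 T h2 (by norm_num) u1 u3 hn_3_1.symm e_1_3 with ⟨tw_1_3, tap_1_3, taq_1_3⟩ | ⟨tw_1_3, tap_1_3, taq_1_3⟩ | ⟨tw_1_3, tap_1_3, taq_1_3⟩ | ⟨tw_1_3, tap_1_3, taq_1_3⟩ | ⟨tw_1_3, tap_1_3, taq_1_3⟩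
                · -- (1,3) S
                  rcases eq_or_ne (T.a u2 u3) 0 with z_2_3 | nz_2_3
                  · -- (2,3) zero
                    have hinj := Groth.Agent.Helper6.NT.inj4 u0 u1 u2 u3 hn_1_0 hn_2_0 hn_2_1 hn_3_0 hn_3_1 hn_3_2
                    have r_0 : -2 * T.m u0 + 1 * T.m u1 + 1 * T.m u2 = 0 := by
                      have key := Groth.Agent.Helper6.NT.rowfun4 T u0 u1 u2 u3 hinj u0
                      rw [(h2 u0).2, tap_0_1, tap_0_2, z_0_3] at key
                      exact mul_left_cancel₀ (T.w_pos u0).ne' (by linarith only [key])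
                    have r_1 : 1 * T.m u0 + -2 * T.m u1 + 1 * T.m u3 = 0 := by
                      have key := Groth.Agent.Helper6.NT.rowfun4 T u0 u1 u2 u3 hinj u1
                      rw [Groth.Agent.Helper6.NT.symm' T u1 u0, taq_0_1, (h2 u1).2, z_1_2, tap_1_3] at key
                      exact mul_left_cancel₀ (T.w_pos u1).ne' (by linarith only [key])
                    have r_2 : 2 * T.m u0 + -2 * T.m u2 = 0 := by
                      have key := Groth.Agent.Helper6.NT.rowfun4 T u0 u1 u2 u3 hinj u2
                      rw [Groth.Agent.Helper6.NT.symm' T u2 u0, taq_0_2, Groth.Agent.Helper6.NT.symm' T u2 u1, z_1_2, (h2 u2).2, z_2_3] at key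
                      exact mul_left_cancel₀ (T.w_pos u2).ne' (by linarith only [key])
                    have r_3 : 1 * T.m u1 + -2 * T.m u3 = 0 := by
                      have key := Groth.Agent.Helper6.NT.rowfun4 T u0 u1 u2 u3 hinj u3
                      rw [Groth.Agent.Helper6.NT.symm' T u3 u0, z_0_3, Groth.Agent.Helper6.NT.symm' T u3 u1, taq_1_3, Groth.Agent.Helper6.NT.symm' T u3 u2, z_2_3, (h2 u3).2] at key
                      exact mul_left_cancel₀ (T.w_pos u3).ne' (by linarith only [key])
                    exfalso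
                    linarith only [r_0, r_1, r_2, r_3, T.m_pos u0, T.m_pos u1, T.m_pos u2, T.m_pos u3]
                  · -- (2,3) nonzero
                    obtain ⟨lbp_2_3, lbq_2_3⟩ := Groth.Agent.Helper6.NT.lb T u2 u3 hn_3_2.symm nz_2_3
                    rcases Groth.Agent.Helper6.NT.edge5 T h2 (by norm_num) u2 u3 hn_3_2.symm nz_2_3 with ⟨tw_2_3, tap_2_3, taq_2_3⟩ | ⟨tw_2_3, tap_2_3, taq_2_3⟩ | ⟨tw_2_3, tap_2_3, taq_2_3⟩ | ⟨tw_2_3, tap_2_3, taq_2_3⟩ | ⟨tw_2_3, tap_2_3, taq_2_3⟩
                    · -- (2,3) S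
                      exfalso
                      linarith only [tap_0_1, tap_0_2, tap_2_3, tap_1_3, taq_0_1, taq_0_2, taq_2_3, taq_1_3, T.w_pos u0, T.w_pos u1, T.w_pos u2, T.w_pos u3]
                    · -- (2,3) Dp
                      exfalso
                      have key := Groth.Agent.Helper6.NT.negfun3 T h2 u0 u2 u3 (by norm_num) 1 2 1 (by norm_num) (by norm_num)
                      linarith only [key, tap_0_2, taq_0_2, z_0_3, tap_2_3, taq_2_3, T.w_pos u0, T.w_pos u2, T.w_pos u3]
                    · -- (2,3) Dm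
                      exfalso
                      have key := Groth.Agent.Helper6.NT.negfun3 T h2 u0 u2 u3 (by norm_num) 1 2 2 (by norm_num) (by norm_num)
                      linarith only [key, tap_0_2, taq_0_2, z_0_3, tap_2_3, taq_2_3, T.w_pos u0, T.w_pos u2, T.w_pos u3]
                    · -- (2,3) Tp
                      exfalso
                      have key := Groth.Agent.Helper6.NT.negfun3 T h2 u1 u2 u3 (by norm_num) 1 3 2 (by norm_num) (by norm_num)
                      linarith only [key, z_1_2, tap_1_3, taq_1_3, tap_2_3, taq_2_3, T.w_pos u1, T.w_pos u2, T.w_pos u3]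
                    · -- (2,3) Tm
                      exfalso
                      have key := Groth.Agent.Helper6.NT.negfun3 T h2 u1 u2 u3 (by norm_num) 1 1 2 (by norm_num) (by norm_num)
                      linarith only [key, z_1_2, tap_1_3, taq_1_3, tap_2_3, taq_2_3, T.w_pos u1, T.w_pos u2, T.w_pos u3]
                · -- (1,3) Dp
                  rcases eq_or_ne (T.a u2 u3) 0 with z_2_3 | nz_2_3
                  · -- (2,3) zero
                    have hinj := Groth.Agent.Helper6.NT.inj4 u0 u1 u2 u3 hn_1_0 hn_2_0 hn_2_1 hn_3_0 hn_3_1 hn_3_2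
                    have r_0 : -2 * T.m u0 + 1 * T.m u1 + 1 * T.m u2 = 0 := by
                      have key := Groth.Agent.Helper6.NT.rowfun4 T u0 u1 u2 u3 hinj u0
                      rw [(h2 u0).2, tap_0_1, tap_0_2, z_0_3] at key
                      exact mul_left_cancel₀ (T.w_pos u0).ne' (by linarith only [key])
                    have r_1 : 1 * T.m u0 + -2 * T.m u1 + 2 * T.m u3 = 0 := by
                      have key := Groth.Agent.Helper6.NT.rowfun4 T u0 u1 u2 u3 hinj u1
                      rw [Groth.Agent.Helper6.NT.symm' T u1 u0, taq_0_1, (h2 u1).2, z_1_2, tap_1_3] at key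
                      exact mul_left_cancel₀ (T.w_pos u1).ne' (by linarith only [key])
                    have r_2 : 2 * T.m u0 + -2 * T.m u2 = 0 := by
                      have key := Groth.Agent.Helper6.NT.rowfun4 T u0 u1 u2 u3 hinj u2
                      rw [Groth.Agent.Helper6.NT.symm' T u2 u0, taq_0_2, Groth.Agent.Helper6.NT.symm' T u2 u1, z_1_2, (h2 u2).2, z_2_3] at key
                      exact mul_left_cancel₀ (T.w_pos u2).ne' (by linarith only [key])
                    have r_3 : 1 * T.m u1 + -2 * T.m u3 = 0 := by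
                      have key := Groth.Agent.Helper6.NT.rowfun4 T u0 u1 u2 u3 hinj u3
                      rw [Groth.Agent.Helper6.NT.symm' T u3 u0, z_0_3, Groth.Agent.Helper6.NT.symm' T u3 u1, taq_1_3, Groth.Agent.Helper6.NT.symm' T u3 u2, z_2_3, (h2 u3).2] at key
                      exact mul_left_cancel₀ (T.w_pos u3).ne' (by linarith only [key])
                    have f0 : T.m u2 = 2 * T.m u3 := by linarith only [r_0, r_1, r_2, r_3]
                    have f1 : T.m u0 = 2 * T.m u3 := by linarith only [r_0, r_1, r_2, r_3]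
                    have f2 : T.m u1 = 2 * T.m u3 := by linarith only [r_0, r_1, r_2, r_3]
                    have f3 : T.m u3 = T.m u3 := rfl
                    have f4 : T.w u2 = T.w u2 := rfl
                    have f5 : T.w u0 = 2 * T.w u2 := by linarith only [tw_0_1, tw_0_2, tw_1_3]
                    have f6 : T.w u1 = 2 * T.w u2 := by linarith only [tw_0_1, tw_0_2, tw_1_3]
                    have f7 : T.w u3 = 4 * T.w u2 := by linarith only [tw_0_1, tw_0_2, tw_1_3]
                    have f8 : T.a u2 u2 = -2 * T.w u2 := by have := (h2 u2).2; linarith only [this, tw_0_1, tw_0_2, tw_1_3]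
                    have f9 : T.a u2 u0 = 2 * T.w u2 := by rw [Groth.Agent.Helper6.NT.symm' T u2 u0]; linarith only [tap_0_2, tw_0_1, tw_0_2, tw_1_3]
                    have f10 : T.a u2 u1 = 0 := by rw [Groth.Agent.Helper6.NT.symm' T u2 u1]; exact z_1_2
                    have f11 : T.a u2 u3 = 0 := by exact z_2_3
                    have f12 : T.a u0 u0 = -4 * T.w u2 := by have := (h2 u0).2; linarith only [this, tw_0_1, tw_0_2, tw_1_3]
                    have f13 : T.a u0 u1 = 2 * T.w u2 := by linarith only [tap_0_1, tw_0_1, tw_0_2, tw_1_3]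
                    have f14 : T.a u0 u3 = 0 := by exact z_0_3
                    have f15 : T.a u1 u1 = -4 * T.w u2 := by have := (h2 u1).2; linarith only [this, tw_0_1, tw_0_2, tw_1_3]
                    have f16 : T.a u1 u3 = 4 * T.w u2 := by linarith only [tap_1_3, tw_0_1, tw_0_2, tw_1_3]
                    have f17 : T.a u3 u3 = -8 * T.w u2 := by have := (h2 u3).2; linarith only [this, tw_0_1, tw_0_2, tw_1_3]
                    have hsig := Groth.Agent.Helper6.NT.inj4 u2 u0 u1 u3 hn_2_0.symm hn_2_1.symm hn_1_0 hn_3_2 hn_3_0 hn_3_1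
                    exact ⟨Equiv.ofBijective _ (Finite.injective_iff_bijective.1 hsig), T.m u3, T.w u2, Or.inr (Or.inl ⟨f0, f1, f2, f3, f4, f5, f6, f7, f8, f9, f10, f11, f12, f13, f14, f15, f16, f17⟩)⟩
                  · -- (2,3) nonzero
                    obtain ⟨lbp_2_3, lbq_2_3⟩ := Groth.Agent.Helper6.NT.lb T u2 u3 hn_3_2.symm nz_2_3
                    rcases Groth.Agent.Helper6.NT.edge5 T h2 (by norm_num) u2 u3 hn_3_2.symm nz_2_3 with ⟨tw_2_3, tap_2_3, taq_2_3⟩ | ⟨tw_2_3, tap_2_3, taq_2_3⟩ | ⟨tw_2_3, tap_2_3, taq_2_3⟩ | ⟨tw_2_3, tap_2_3, taq_2_3⟩ | ⟨tw_2_3, tap_2_3, taq_2_3⟩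
                    · -- (2,3) S
                      exfalso
                      linarith only [tap_0_1, tap_0_2, tap_2_3, tap_1_3, taq_0_1, taq_0_2, taq_2_3, taq_1_3, T.w_pos u0, T.w_pos u1, T.w_pos u2, T.w_pos u3]
                    · -- (2,3) Dp
                      exfalso
                      have key := Groth.Agent.Helper6.NT.negfun3 T h2 u1 u2 u3 (by norm_num) 1 1 1 (by norm_num) (by norm_num)
                      linarith only [key, z_1_2, tap_1_3, taq_1_3, tap_2_3, taq_2_3, T.w_pos u1, T.w_pos u2, T.w_pos u3]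
                    · -- (2,3) Dm
                      exfalso
                      have key := Groth.Agent.Helper6.NT.negfun3 T h2 u1 u2 u3 (by norm_num) 2 1 2 (by norm_num) (by norm_num)
                      linarith only [key, z_1_2, tap_1_3, taq_1_3, tap_2_3, taq_2_3, T.w_pos u1, T.w_pos u2, T.w_pos u3]
                    · -- (2,3) Tp
                      exfalso
                      have key := Groth.Agent.Helper6.NT.negfun3 T h2 u1 u2 u3 (by norm_num) 2 3 2 (by norm_num) (by norm_num)
                      linarith only [key, z_1_2, tap_1_3, taq_1_3, tap_2_3, taq_2_3, T.w_pos u1, T.w_pos u2, T.w_pos u3]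
                    · -- (2,3) Tm
                      exfalso
                      have key := Groth.Agent.Helper6.NT.negfun3 T h2 u1 u2 u3 (by norm_num) 2 1 2 (by norm_num) (by norm_num)
                      linarith only [key, z_1_2, tap_1_3, taq_1_3, tap_2_3, taq_2_3, T.w_pos u1, T.w_pos u2, T.w_pos u3]
                · -- (1,3) Dm
                  rcases eq_or_ne (T.a u2 u3) 0 with z_2_3 | nz_2_3
                  · -- (2,3) zero
                    have hinj := Groth.Agent.Helper6.NT.inj4 u0 u1 u2 u3 hn_1_0 hn_2_0 hn_2_1 hn_3_0 hn_3_1 hn_3_2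
                    have r_0 : -2 * T.m u0 + 1 * T.m u1 + 1 * T.m u2 = 0 := by
                      have key := Groth.Agent.Helper6.NT.rowfun4 T u0 u1 u2 u3 hinj u0
                      rw [(h2 u0).2, tap_0_1, tap_0_2, z_0_3] at key
                      exact mul_left_cancel₀ (T.w_pos u0).ne' (by linarith only [key])
                    have r_1 : 1 * T.m u0 + -2 * T.m u1 + 1 * T.m u3 = 0 := by
                      have key := Groth.Agent.Helper6.NT.rowfun4 T u0 u1 u2 u3 hinj u1
                      rw [Groth.Agent.Helper6.NT.symm' T u1 u0, taq_0_1, (h2 u1).2, z_1_2, tap_1_3] at key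
                      exact mul_left_cancel₀ (T.w_pos u1).ne' (by linarith only [key])
                    have r_2 : 2 * T.m u0 + -2 * T.m u2 = 0 := by
                      have key := Groth.Agent.Helper6.NT.rowfun4 T u0 u1 u2 u3 hinj u2
                      rw [Groth.Agent.Helper6.NT.symm' T u2 u0, taq_0_2, Groth.Agent.Helper6.NT.symm' T u2 u1, z_1_2, (h2 u2).2, z_2_3] at key
                      exact mul_left_cancel₀ (T.w_pos u2).ne' (by linarith only [key])
                    have r_3 : 2 * T.m u1 + -2 * T.m u3 = 0 := by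
                      have key := Groth.Agent.Helper6.NT.rowfun4 T u0 u1 u2 u3 hinj u3
                      rw [Groth.Agent.Helper6.NT.symm' T u3 u0, z_0_3, Groth.Agent.Helper6.NT.symm' T u3 u1, taq_1_3, Groth.Agent.Helper6.NT.symm' T u3 u2, z_2_3, (h2 u3).2] at key
                      exact mul_left_cancel₀ (T.w_pos u3).ne' (by linarith only [key])
                    have f0 : T.m u2 = T.m u2 := rfl
                    have f1 : T.m u0 = T.m u2 := by linarith only [r_0, r_1, r_2, r_3]
                    have f2 : T.m u1 = T.m u2 := by linarith only [r_0, r_1, r_2, r_3]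
                    have f3 : T.m u3 = T.m u2 := by linarith only [r_0, r_1, r_2, r_3]
                    have f4 : T.w u2 = T.w u2 := rfl
                    have f5 : T.w u0 = 2 * T.w u2 := by linarith only [tw_0_1, tw_0_2, tw_1_3]
                    have f6 : T.w u1 = 2 * T.w u2 := by linarith only [tw_0_1, tw_0_2, tw_1_3]
                    have f7 : T.w u3 = T.w u2 := by linarith only [tw_0_1, tw_0_2, tw_1_3]
                    have f8 : T.a u2 u2 = -2 * T.w u2 := by have := (h2 u2).2; linarith only [this, tw_0_1, tw_0_2, tw_1_3]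
                    have f9 : T.a u2 u0 = 2 * T.w u2 := by rw [Groth.Agent.Helper6.NT.symm' T u2 u0]; linarith only [tap_0_2, tw_0_1, tw_0_2, tw_1_3]
                    have f10 : T.a u2 u1 = 0 := by rw [Groth.Agent.Helper6.NT.symm' T u2 u1]; exact z_1_2
                    have f11 : T.a u2 u3 = 0 := by exact z_2_3
                    have f12 : T.a u0 u0 = -4 * T.w u2 := by have := (h2 u0).2; linarith only [this, tw_0_1, tw_0_2, tw_1_3]
                    have f13 : T.a u0 u1 = 2 * T.w u2 := by linarith only [tap_0_1, tw_0_1, tw_0_2, tw_1_3]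
                    have f14 : T.a u0 u3 = 0 := by exact z_0_3
                    have f15 : T.a u1 u1 = -4 * T.w u2 := by have := (h2 u1).2; linarith only [this, tw_0_1, tw_0_2, tw_1_3]
                    have f16 : T.a u1 u3 = 2 * T.w u2 := by linarith only [tap_1_3, tw_0_1, tw_0_2, tw_1_3]
                    have f17 : T.a u3 u3 = -2 * T.w u2 := by have := (h2 u3).2; linarith only [this, tw_0_1, tw_0_2, tw_1_3]
                    have hsig := Groth.Agent.Helper6.NT.inj4 u2 u0 u1 u3 hn_2_0.symm hn_2_1.symm hn_1_0 hn_3_2 hn_3_0 hn_3_1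
                    exact ⟨Equiv.ofBijective _ (Finite.injective_iff_bijective.1 hsig), T.m u2, T.w u2, Or.inr (Or.inr (Or.inl ⟨f0, f1, f2, f3, f4, f5, f6, f7, f8, f9, f10, f11, f12, f13, f14, f15, f16, f17⟩))⟩
                  · -- (2,3) nonzero
                    obtain ⟨lbp_2_3, lbq_2_3⟩ := Groth.Agent.Helper6.NT.lb T u2 u3 hn_3_2.symm nz_2_3
                    rcases Groth.Agent.Helper6.NT.edge5 T h2 (by norm_num) u2 u3 hn_3_2.symm nz_2_3 with ⟨tw_2_3, tap_2_3, taq_2_3⟩ | ⟨tw_2_3, tap_2_3, taq_2_3⟩ | ⟨tw_2_3, tap_2_3, taq_2_3⟩ | ⟨tw_2_3, tap_2_3, taq_2_3⟩ | ⟨tw_2_3, tap_2_3, taq_2_3⟩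
                    · -- (2,3) S
                      exfalso
                      have key := Groth.Agent.Helper6.NT.nonposfun4 T h2 u0 u1 u2 u3 2 2 3 3
                      linarith only [key, tap_0_1, taq_0_1, tap_0_2, taq_0_2, z_0_3, z_1_2, tap_1_3, taq_1_3, tap_2_3, taq_2_3, T.w_pos u0, T.w_pos u1, T.w_pos u2, T.w_pos u3]
                    · -- (2,3) Dp
                      exfalso
                      have key := Groth.Agent.Helper6.NT.negfun3 T h2 u1 u2 u3 (by norm_num) 1 2 2 (by norm_num) (by norm_num)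
                      linarith only [key, z_1_2, tap_1_3, taq_1_3, tap_2_3, taq_2_3, T.w_pos u1, T.w_pos u2, T.w_pos u3]
                    · -- (2,3) Dm
                      exfalso
                      have key := Groth.Agent.Helper6.NT.negfun3 T h2 u1 u2 u3 (by norm_num) 1 1 2 (by norm_num) (by norm_num)
                      linarith only [key, z_1_2, tap_1_3, taq_1_3, tap_2_3, taq_2_3, T.w_pos u1, T.w_pos u2, T.w_pos u3]
                    · -- (2,3) Tp
                      exfalso
                      have key := Groth.Agent.Helper6.NT.negfun3 T h2 u1 u2 u3 (by norm_num) 1 3 2 (by norm_num) (by norm_num)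
                      linarith only [key, z_1_2, tap_1_3, taq_1_3, tap_2_3, taq_2_3, T.w_pos u1, T.w_pos u2, T.w_pos u3]
                    · -- (2,3) Tm
                      exfalso
                      have key := Groth.Agent.Helper6.NT.negfun3 T h2 u1 u2 u3 (by norm_num) 1 1 2 (by norm_num) (by norm_num)
                      linarith only [key, z_1_2, tap_1_3, taq_1_3, tap_2_3, taq_2_3, T.w_pos u1, T.w_pos u2, T.w_pos u3]
                · -- (1,3) Tp
                  exfalso
                  have key := Groth.Agent.Helper6.NT.negfun3 T h2 u0 u1 u3 (by norm_num) 1 2 1 (by norm_num) (by norm_num)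
                  linarith only [key, tap_0_1, taq_0_1, z_0_3, tap_1_3, taq_1_3, T.w_pos u0, T.w_pos u1, T.w_pos u3]
                · -- (1,3) Tm
                  exfalso
                  have key := Groth.Agent.Helper6.NT.negfun3 T h2 u0 u1 u3 (by norm_num) 1 2 3 (by norm_num) (by norm_num)
                  linarith only [key, tap_0_1, taq_0_1, z_0_3, tap_1_3, taq_1_3, T.w_pos u0, T.w_pos u1, T.w_pos u3]
              · push Not at hx
                have cl_1 := hx
                clear hx
                by_cases hx : ∃ j, (j ≠ u0 ∧ j ≠ u1 ∧ j ≠ u2) ∧ T.a u2 j ≠ 0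
                · obtain ⟨u3, ⟨hn_3_0, hn_3_1, hn_3_2⟩, e_2_3⟩ := hx
                  have z_0_3 : T.a u0 u3 = 0 := cl_0 u3 ⟨hn_3_0, hn_3_1, hn_3_2⟩
                  have z_1_3 : T.a u1 u3 = 0 := cl_1 u3 ⟨hn_3_0, hn_3_1, hn_3_2⟩
                  rcases Groth.Agent.Helper6.NT.edge5 T h2 (by norm_num) u2 u3 hn_3_2.symm e_2_3 with ⟨tw_2_3, tap_2_3, taq_2_3⟩ | ⟨tw_2_3, tap_2_3, taq_2_3⟩ | ⟨tw_2_3, tap_2_3, taq_2_3⟩ | ⟨tw_2_3, tap_2_3, taq_2_3⟩ | ⟨tw_2_3, tap_2_3, taq_2_3⟩
                  · -- (2,3) S
                    have hinj := Groth.Agent.Helper6.NT.inj4 u0 u1 u2 u3 hn_1_0 hn_2_0 hn_2_1 hn_3_0 hn_3_1 hn_3_2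
                    have r_0 : -2 * T.m u0 + 1 * T.m u1 + 1 * T.m u2 = 0 := by
                      have key := Groth.Agent.Helper6.NT.rowfun4 T u0 u1 u2 u3 hinj u0
                      rw [(h2 u0).2, tap_0_1, tap_0_2, z_0_3] at key
                      exact mul_left_cancel₀ (T.w_pos u0).ne' (by linarith only [key])
                    have r_1 : 1 * T.m u0 + -2 * T.m u1 = 0 := by
                      have key := Groth.Agent.Helper6.NT.rowfun4 T u0 u1 u2 u3 hinj u1
                      rw [Groth.Agent.Helper6.NT.symm' T u1 u0, taq_0_1, (h2 u1).2, z_1_2, z_1_3] at key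
                      exact mul_left_cancel₀ (T.w_pos u1).ne' (by linarith only [key])
                    have r_2 : 2 * T.m u0 + -2 * T.m u2 + 1 * T.m u3 = 0 := by
                      have key := Groth.Agent.Helper6.NT.rowfun4 T u0 u1 u2 u3 hinj u2
                      rw [Groth.Agent.Helper6.NT.symm' T u2 u0, taq_0_2, Groth.Agent.Helper6.NT.symm' T u2 u1, z_1_2, (h2 u2).2, tap_2_3] at key
                      exact mul_left_cancel₀ (T.w_pos u2).ne' (by linarith only [key])
                    have r_3 : 1 * T.m u2 + -2 * T.m u3 = 0 := by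
                      have key := Groth.Agent.Helper6.NT.rowfun4 T u0 u1 u2 u3 hinj u3
                      rw [Groth.Agent.Helper6.NT.symm' T u3 u0, z_0_3, Groth.Agent.Helper6.NT.symm' T u3 u1, z_1_3, Groth.Agent.Helper6.NT.symm' T u3 u2, taq_2_3, (h2 u3).2] at key
                      exact mul_left_cancel₀ (T.w_pos u3).ne' (by linarith only [key])
                    exfalso
                    linarith only [r_0, r_1, r_2, r_3, T.m_pos u0, T.m_pos u1, T.m_pos u2, T.m_pos u3]
                  · -- (2,3) Dp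
                    exfalso
                    have key := Groth.Agent.Helper6.NT.negfun3 T h2 u0 u2 u3 (by norm_num) 1 2 1 (by norm_num) (by norm_num)
                    linarith only [key, tap_0_2, taq_0_2, z_0_3, tap_2_3, taq_2_3, T.w_pos u0, T.w_pos u2, T.w_pos u3]
                  · -- (2,3) Dm
                    exfalso
                    have key := Groth.Agent.Helper6.NT.negfun3 T h2 u0 u2 u3 (by norm_num) 1 2 2 (by norm_num) (by norm_num)
                    linarith only [key, tap_0_2, taq_0_2, z_0_3, tap_2_3, taq_2_3, T.w_pos u0, T.w_pos u2, T.w_pos u3]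
                  · -- (2,3) Tp
                    exfalso
                    have key := Groth.Agent.Helper6.NT.negfun3 T h2 u0 u2 u3 (by norm_num) 1 2 1 (by norm_num) (by norm_num)
                    linarith only [key, tap_0_2, taq_0_2, z_0_3, tap_2_3, taq_2_3, T.w_pos u0, T.w_pos u2, T.w_pos u3]
                  · -- (2,3) Tm
                    exfalso
                    have key := Groth.Agent.Helper6.NT.negfun3 T h2 u0 u2 u3 (by norm_num) 1 2 3 (by norm_num) (by norm_num)
                    linarith only [key, tap_0_2, taq_0_2, z_0_3, tap_2_3, taq_2_3, T.w_pos u0, T.w_pos u2, T.w_pos u3]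
                · push Not at hx
                  have cl_2 := hx
                  clear hx
                  exfalso
                  refine Groth.Agent.Helper6.NT.closed_contra T [u0, u1, u2] (by simp) (by simp) ?_
                  intro i hi j hj
                  simp only [List.mem_cons, List.not_mem_nil, or_false, not_or] at hi hj
                  rcases hi with rfl | rfl | rfl
                  · exact cl_0 j ⟨hj.1, hj.2.1, hj.2.2⟩
                  · exact cl_1 j ⟨hj.1, hj.2.1, hj.2.2⟩
                  · exact cl_2 j ⟨hj.1, hj.2.1, hj.2.2⟩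
          · -- (1,2) nonzero
            obtain ⟨lbp_1_2, lbq_1_2⟩ := Groth.Agent.Helper6.NT.lb T u1 u2 hn_2_1.symm nz_1_2
            exfalso
            have key := Groth.Agent.Helper6.NT.negfun3 T h2 u0 u1 u2 (by norm_num) 1 1 1 (by norm_num) (by norm_num)
            linarith only [key, tap_0_1, taq_0_1, tap_0_2, taq_0_2, lbp_1_2, lbq_1_2, T.w_pos u0, T.w_pos u1, T.w_pos u2]
        · -- (0,2) Tp
          exfalso
          have key := Groth.Agent.Helper6.NT.negfun3 T h2 u0 u1 u2 (by norm_num) 2 1 1 (by norm_num) (by norm_num)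
          linarith only [key, tap_0_1, taq_0_1, tap_0_2, taq_0_2, T.offDiag_nonneg u1 u2 hn_2_1.symm, T.w_pos u0, T.w_pos u1, T.w_pos u2]
        · -- (0,2) Tm
          exfalso
          have key := Groth.Agent.Helper6.NT.negfun3 T h2 u0 u1 u2 (by norm_num) 2 1 3 (by norm_num) (by norm_num)
          linarith only [key, tap_0_1, taq_0_1, tap_0_2, taq_0_2, T.offDiag_nonneg u1 u2 hn_2_1.symm, T.w_pos u0, T.w_pos u1, T.w_pos u2]
      · push Not at hx
        have cl_0 := hx
        clear hx
        by_cases hx : ∃ j, (j ≠ u0 ∧ j ≠ u1) ∧ T.a u1 j ≠ 0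
        · obtain ⟨u2, ⟨hn_2_0, hn_2_1⟩, e_1_2⟩ := hx
          have z_0_2 : T.a u0 u2 = 0 := cl_0 u2 ⟨hn_2_0, hn_2_1⟩
          rcases Groth.Agent.Helper6.NT.edge5 T h2 (by norm_num) u1 u2 hn_2_1.symm e_1_2 with ⟨tw_1_2, tap_1_2, taq_1_2⟩ | ⟨tw_1_2, tap_1_2, taq_1_2⟩ | ⟨tw_1_2, tap_1_2, taq_1_2⟩ | ⟨tw_1_2, tap_1_2, taq_1_2⟩ | ⟨tw_1_2, tap_1_2, taq_1_2⟩
          · -- (1,2) S
            by_cases hx : ∃ j, (j ≠ u0 ∧ j ≠ u1 ∧ j ≠ u2) ∧ T.a u1 j ≠ 0
            · obtain ⟨u3, ⟨hn_3_0, hn_3_1, hn_3_2⟩, e_1_3⟩ := hx
              have z_0_3 : T.a u0 u3 = 0 := cl_0 u3 ⟨hn_3_0, hn_3_1⟩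
              rcases Groth.Agent.Helper6.NT.edge5 T h2 (by norm_num) u1 u3 hn_3_1.symm e_1_3 with ⟨tw_1_3, tap_1_3, taq_1_3⟩ | ⟨tw_1_3, tap_1_3, taq_1_3⟩ | ⟨tw_1_3, tap_1_3, taq_1_3⟩ | ⟨tw_1_3, tap_1_3, taq_1_3⟩ | ⟨tw_1_3, tap_1_3, taq_1_3⟩
              · -- (1,3) S
                rcases eq_or_ne (T.a u2 u3) 0 with z_2_3 | nz_2_3
                · -- (2,3) zero
                  have hinj := Groth.Agent.Helper6.NT.inj4 u0 u1 u2 u3 hn_1_0 hn_2_0 hn_2_1 hn_3_0 hn_3_1 hn_3_2
                  have r_0 : -2 * T.m u0 + 1 * T.m u1 = 0 := by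
                    have key := Groth.Agent.Helper6.NT.rowfun4 T u0 u1 u2 u3 hinj u0
                    rw [(h2 u0).2, tap_0_1, z_0_2, z_0_3] at key
                    exact mul_left_cancel₀ (T.w_pos u0).ne' (by linarith only [key])
                  have r_1 : 1 * T.m u0 + -2 * T.m u1 + 1 * T.m u2 + 1 * T.m u3 = 0 := by
                    have key := Groth.Agent.Helper6.NT.rowfun4 T u0 u1 u2 u3 hinj u1
                    rw [Groth.Agent.Helper6.NT.symm' T u1 u0, taq_0_1, (h2 u1).2, tap_1_2, tap_1_3] at key
                    exact mul_left_cancel₀ (T.w_pos u1).ne' (by linarith only [key])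
                  have r_2 : 1 * T.m u1 + -2 * T.m u2 = 0 := by
                    have key := Groth.Agent.Helper6.NT.rowfun4 T u0 u1 u2 u3 hinj u2
                    rw [Groth.Agent.Helper6.NT.symm' T u2 u0, z_0_2, Groth.Agent.Helper6.NT.symm' T u2 u1, taq_1_2, (h2 u2).2, z_2_3] at key
                    exact mul_left_cancel₀ (T.w_pos u2).ne' (by linarith only [key])
                  have r_3 : 1 * T.m u1 + -2 * T.m u3 = 0 := by
                    have key := Groth.Agent.Helper6.NT.rowfun4 T u0 u1 u2 u3 hinj u3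
                    rw [Groth.Agent.Helper6.NT.symm' T u3 u0, z_0_3, Groth.Agent.Helper6.NT.symm' T u3 u1, taq_1_3, Groth.Agent.Helper6.NT.symm' T u3 u2, z_2_3, (h2 u3).2] at key
                    exact mul_left_cancel₀ (T.w_pos u3).ne' (by linarith only [key])
                  exfalso
                  linarith only [r_0, r_1, r_2, r_3, T.m_pos u0, T.m_pos u1, T.m_pos u2, T.m_pos u3]
                · -- (2,3) nonzero
                  obtain ⟨lbp_2_3, lbq_2_3⟩ := Groth.Agent.Helper6.NT.lb T u2 u3 hn_3_2.symm nz_2_3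
                  exfalso
                  have key := Groth.Agent.Helper6.NT.negfun3 T h2 u1 u2 u3 (by norm_num) 1 1 1 (by norm_num) (by norm_num)
                  linarith only [key, tap_1_2, taq_1_2, tap_1_3, taq_1_3, lbp_2_3, lbq_2_3, T.w_pos u1, T.w_pos u2, T.w_pos u3]
              · -- (1,3) Dp
                rcases eq_or_ne (T.a u2 u3) 0 with z_2_3 | nz_2_3
                · -- (2,3) zero
                  have hinj := Groth.Agent.Helper6.NT.inj4 u0 u1 u2 u3 hn_1_0 hn_2_0 hn_2_1 hn_3_0 hn_3_1 hn_3_2
                  have r_0 : -2 * T.m u0 + 1 * T.m u1 = 0 := by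
                    have key := Groth.Agent.Helper6.NT.rowfun4 T u0 u1 u2 u3 hinj u0
                    rw [(h2 u0).2, tap_0_1, z_0_2, z_0_3] at key
                    exact mul_left_cancel₀ (T.w_pos u0).ne' (by linarith only [key])
                  have r_1 : 1 * T.m u0 + -2 * T.m u1 + 1 * T.m u2 + 2 * T.m u3 = 0 := by
                    have key := Groth.Agent.Helper6.NT.rowfun4 T u0 u1 u2 u3 hinj u1
                    rw [Groth.Agent.Helper6.NT.symm' T u1 u0, taq_0_1, (h2 u1).2, tap_1_2, tap_1_3] at key
                    exact mul_left_cancel₀ (T.w_pos u1).ne' (by linarith only [key])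
                  have r_2 : 1 * T.m u1 + -2 * T.m u2 = 0 := by
                    have key := Groth.Agent.Helper6.NT.rowfun4 T u0 u1 u2 u3 hinj u2
                    rw [Groth.Agent.Helper6.NT.symm' T u2 u0, z_0_2, Groth.Agent.Helper6.NT.symm' T u2 u1, taq_1_2, (h2 u2).2, z_2_3] at key
                    exact mul_left_cancel₀ (T.w_pos u2).ne' (by linarith only [key])
                  have r_3 : 1 * T.m u1 + -2 * T.m u3 = 0 := by
                    have key := Groth.Agent.Helper6.NT.rowfun4 T u0 u1 u2 u3 hinj u3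
                    rw [Groth.Agent.Helper6.NT.symm' T u3 u0, z_0_3, Groth.Agent.Helper6.NT.symm' T u3 u1, taq_1_3, Groth.Agent.Helper6.NT.symm' T u3 u2, z_2_3, (h2 u3).2] at key
                    exact mul_left_cancel₀ (T.w_pos u3).ne' (by linarith only [key])
                  have f0 : T.m u1 = 2 * T.m u0 := by linarith only [r_0, r_1, r_2, r_3]
                  have f1 : T.m u0 = T.m u0 := rfl
                  have f2 : T.m u2 = T.m u0 := by linarith only [r_0, r_1, r_2, r_3]
                  have f3 : T.m u3 = T.m u0 := by linarith only [r_0, r_1, r_2, r_3]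
                  have f4 : T.w u1 = T.w u1 := rfl
                  have f5 : T.w u0 = T.w u1 := by linarith only [tw_0_1, tw_1_2, tw_1_3]
                  have f6 : T.w u2 = T.w u1 := by linarith only [tw_0_1, tw_1_2, tw_1_3]
                  have f7 : T.w u3 = 2 * T.w u1 := by linarith only [tw_0_1, tw_1_2, tw_1_3]
                  have f8 : T.a u1 u1 = -2 * T.w u1 := by have := (h2 u1).2; linarith only [this, tw_0_1, tw_1_2, tw_1_3]
                  have f9 : T.a u1 u0 = T.w u1 := by rw [Groth.Agent.Helper6.NT.symm' T u1 u0]; linarith only [tap_0_1, tw_0_1, tw_1_2, tw_1_3]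
                  have f10 : T.a u1 u2 = T.w u1 := by linarith only [tap_1_2, tw_0_1, tw_1_2, tw_1_3]
                  have f11 : T.a u1 u3 = 2 * T.w u1 := by linarith only [tap_1_3, tw_0_1, tw_1_2, tw_1_3]
                  have f12 : T.a u0 u0 = -2 * T.w u1 := by have := (h2 u0).2; linarith only [this, tw_0_1, tw_1_2, tw_1_3]
                  have f13 : T.a u0 u2 = 0 := by exact z_0_2
                  have f14 : T.a u0 u3 = 0 := by exact z_0_3
                  have f15 : T.a u2 u2 = -2 * T.w u1 := by have := (h2 u2).2; linarith only [this, tw_0_1, tw_1_2, tw_1_3]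
                  have f16 : T.a u2 u3 = 0 := by exact z_2_3
                  have f17 : T.a u3 u3 = -4 * T.w u1 := by have := (h2 u3).2; linarith only [this, tw_0_1, tw_1_2, tw_1_3]
                  have hsig := Groth.Agent.Helper6.NT.inj4 u1 u0 u2 u3 hn_1_0.symm hn_2_1 hn_2_0 hn_3_1 hn_3_0 hn_3_2
                  exact ⟨Equiv.ofBijective _ (Finite.injective_iff_bijective.1 hsig), T.m u0, T.w u1, Or.inr (Or.inr (Or.inr (Or.inr (Or.inl ⟨f0, f1, f2, f3, f4, f5, f6, f7, f8, f9, f10, f11, f12, f13, f14, f15, f16, f17⟩))))⟩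
                · -- (2,3) nonzero
                  obtain ⟨lbp_2_3, lbq_2_3⟩ := Groth.Agent.Helper6.NT.lb T u2 u3 hn_3_2.symm nz_2_3
                  exfalso
                  have key := Groth.Agent.Helper6.NT.negfun3 T h2 u1 u2 u3 (by norm_num) 1 1 1 (by norm_num) (by norm_num)
                  linarith only [key, tap_1_2, taq_1_2, tap_1_3, taq_1_3, lbp_2_3, lbq_2_3, T.w_pos u1, T.w_pos u2, T.w_pos u3]
              · -- (1,3) Dm
                rcases eq_or_ne (T.a u2 u3) 0 with z_2_3 | nz_2_3
                · -- (2,3) zero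
                  have hinj := Groth.Agent.Helper6.NT.inj4 u0 u1 u2 u3 hn_1_0 hn_2_0 hn_2_1 hn_3_0 hn_3_1 hn_3_2
                  have r_0 : -2 * T.m u0 + 1 * T.m u1 = 0 := by
                    have key := Groth.Agent.Helper6.NT.rowfun4 T u0 u1 u2 u3 hinj u0
                    rw [(h2 u0).2, tap_0_1, z_0_2, z_0_3] at key
                    exact mul_left_cancel₀ (T.w_pos u0).ne' (by linarith only [key])
                  have r_1 : 1 * T.m u0 + -2 * T.m u1 + 1 * T.m u2 + 1 * T.m u3 = 0 := by
                    have key := Groth.Agent.Helper6.NT.rowfun4 T u0 u1 u2 u3 hinj u1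
                    rw [Groth.Agent.Helper6.NT.symm' T u1 u0, taq_0_1, (h2 u1).2, tap_1_2, tap_1_3] at key
                    exact mul_left_cancel₀ (T.w_pos u1).ne' (by linarith only [key])
                  have r_2 : 1 * T.m u1 + -2 * T.m u2 = 0 := by
                    have key := Groth.Agent.Helper6.NT.rowfun4 T u0 u1 u2 u3 hinj u2
                    rw [Groth.Agent.Helper6.NT.symm' T u2 u0, z_0_2, Groth.Agent.Helper6.NT.symm' T u2 u1, taq_1_2, (h2 u2).2, z_2_3] at key
                    exact mul_left_cancel₀ (T.w_pos u2).ne' (by linarith only [key])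
                  have r_3 : 2 * T.m u1 + -2 * T.m u3 = 0 := by
                    have key := Groth.Agent.Helper6.NT.rowfun4 T u0 u1 u2 u3 hinj u3
                    rw [Groth.Agent.Helper6.NT.symm' T u3 u0, z_0_3, Groth.Agent.Helper6.NT.symm' T u3 u1, taq_1_3, Groth.Agent.Helper6.NT.symm' T u3 u2, z_2_3, (h2 u3).2] at key
                    exact mul_left_cancel₀ (T.w_pos u3).ne' (by linarith only [key])
                  have f0 : T.m u1 = 2 * T.m u0 := by linarith only [r_0, r_1, r_2, r_3]
                  have f1 : T.m u0 = T.m u0 := rfl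
                  have f2 : T.m u2 = T.m u0 := by linarith only [r_0, r_1, r_2, r_3]
                  have f3 : T.m u3 = 2 * T.m u0 := by linarith only [r_0, r_1, r_2, r_3]
                  have f4 : T.w u1 = 2 * T.w u3 := by linarith only [tw_0_1, tw_1_2, tw_1_3]
                  have f5 : T.w u0 = 2 * T.w u3 := by linarith only [tw_0_1, tw_1_2, tw_1_3]
                  have f6 : T.w u2 = 2 * T.w u3 := by linarith only [tw_0_1, tw_1_2, tw_1_3]
                  have f7 : T.w u3 = T.w u3 := rfl
                  have f8 : T.a u1 u1 = -4 * T.w u3 := by have := (h2 u1).2; linarith only [this, tw_0_1, tw_1_2, tw_1_3]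
                  have f9 : T.a u1 u0 = 2 * T.w u3 := by rw [Groth.Agent.Helper6.NT.symm' T u1 u0]; linarith only [tap_0_1, tw_0_1, tw_1_2, tw_1_3]
                  have f10 : T.a u1 u2 = 2 * T.w u3 := by linarith only [tap_1_2, tw_0_1, tw_1_2, tw_1_3]
                  have f11 : T.a u1 u3 = 2 * T.w u3 := by linarith only [tap_1_3, tw_0_1, tw_1_2, tw_1_3]
                  have f12 : T.a u0 u0 = -4 * T.w u3 := by have := (h2 u0).2; linarith only [this, tw_0_1, tw_1_2, tw_1_3]
                  have f13 : T.a u0 u2 = 0 := by exact z_0_2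
                  have f14 : T.a u0 u3 = 0 := by exact z_0_3
                  have f15 : T.a u2 u2 = -4 * T.w u3 := by have := (h2 u2).2; linarith only [this, tw_0_1, tw_1_2, tw_1_3]
                  have f16 : T.a u2 u3 = 0 := by exact z_2_3
                  have f17 : T.a u3 u3 = -2 * T.w u3 := by have := (h2 u3).2; linarith only [this, tw_0_1, tw_1_2, tw_1_3]
                  have hsig := Groth.Agent.Helper6.NT.inj4 u1 u0 u2 u3 hn_1_0.symm hn_2_1 hn_2_0 hn_3_1 hn_3_0 hn_3_2
                  exact ⟨Equiv.ofBijective _ (Finite.injective_iff_bijective.1 hsig), T.m u0, T.w u3, Or.inr (Or.inr (Or.inr (Or.inr (Or.inr (⟨f0, f1, f2, f3, f4, f5, f6, f7, f8, f9, f10, f11, f12, f13, f14, f15, f16, f17⟩)))))⟩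
                · -- (2,3) nonzero
                  obtain ⟨lbp_2_3, lbq_2_3⟩ := Groth.Agent.Helper6.NT.lb T u2 u3 hn_3_2.symm nz_2_3
                  exfalso
                  have key := Groth.Agent.Helper6.NT.negfun3 T h2 u1 u2 u3 (by norm_num) 1 1 1 (by norm_num) (by norm_num)
                  linarith only [key, tap_1_2, taq_1_2, tap_1_3, taq_1_3, lbp_2_3, lbq_2_3, T.w_pos u1, T.w_pos u2, T.w_pos u3]
              · -- (1,3) Tp
                exfalso
                have key := Groth.Agent.Helper6.NT.negfun3 T h2 u1 u2 u3 (by norm_num) 2 1 1 (by norm_num) (by norm_num)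
                linarith only [key, tap_1_2, taq_1_2, tap_1_3, taq_1_3, T.offDiag_nonneg u2 u3 hn_3_2.symm, T.w_pos u1, T.w_pos u2, T.w_pos u3]
              · -- (1,3) Tm
                exfalso
                have key := Groth.Agent.Helper6.NT.negfun3 T h2 u1 u2 u3 (by norm_num) 2 1 3 (by norm_num) (by norm_num)
                linarith only [key, tap_1_2, taq_1_2, tap_1_3, taq_1_3, T.offDiag_nonneg u2 u3 hn_3_2.symm, T.w_pos u1, T.w_pos u2, T.w_pos u3]
            · push Not at hx
              have cl_1 := hx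
              clear hx
              by_cases hx : ∃ j, (j ≠ u0 ∧ j ≠ u1 ∧ j ≠ u2) ∧ T.a u2 j ≠ 0
              · obtain ⟨u3, ⟨hn_3_0, hn_3_1, hn_3_2⟩, e_2_3⟩ := hx
                have z_0_3 : T.a u0 u3 = 0 := cl_0 u3 ⟨hn_3_0, hn_3_1⟩
                have z_1_3 : T.a u1 u3 = 0 := cl_1 u3 ⟨hn_3_0, hn_3_1, hn_3_2⟩
                rcases Groth.Agent.Helper6.NT.edge5 T h2 (by norm_num) u2 u3 hn_3_2.symm e_2_3 with ⟨tw_2_3, tap_2_3, taq_2_3⟩ | ⟨tw_2_3, tap_2_3, taq_2_3⟩ | ⟨tw_2_3, tap_2_3, taq_2_3⟩ | ⟨tw_2_3, tap_2_3, taq_2_3⟩ | ⟨tw_2_3, tap_2_3, taq_2_3⟩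
                · -- (2,3) S
                  have hinj := Groth.Agent.Helper6.NT.inj4 u0 u1 u2 u3 hn_1_0 hn_2_0 hn_2_1 hn_3_0 hn_3_1 hn_3_2
                  have r_0 : -2 * T.m u0 + 1 * T.m u1 = 0 := by
                    have key := Groth.Agent.Helper6.NT.rowfun4 T u0 u1 u2 u3 hinj u0
                    rw [(h2 u0).2, tap_0_1, z_0_2, z_0_3] at key
                    exact mul_left_cancel₀ (T.w_pos u0).ne' (by linarith only [key])
                  have r_1 : 1 * T.m u0 + -2 * T.m u1 + 1 * T.m u2 = 0 := by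
                    have key := Groth.Agent.Helper6.NT.rowfun4 T u0 u1 u2 u3 hinj u1
                    rw [Groth.Agent.Helper6.NT.symm' T u1 u0, taq_0_1, (h2 u1).2, tap_1_2, z_1_3] at key
                    exact mul_left_cancel₀ (T.w_pos u1).ne' (by linarith only [key])
                  have r_2 : 1 * T.m u1 + -2 * T.m u2 + 1 * T.m u3 = 0 := by
                    have key := Groth.Agent.Helper6.NT.rowfun4 T u0 u1 u2 u3 hinj u2
                    rw [Groth.Agent.Helper6.NT.symm' T u2 u0, z_0_2, Groth.Agent.Helper6.NT.symm' T u2 u1, taq_1_2, (h2 u2).2, tap_2_3] at key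
                    exact mul_left_cancel₀ (T.w_pos u2).ne' (by linarith only [key])
                  have r_3 : 1 * T.m u2 + -2 * T.m u3 = 0 := by
                    have key := Groth.Agent.Helper6.NT.rowfun4 T u0 u1 u2 u3 hinj u3
                    rw [Groth.Agent.Helper6.NT.symm' T u3 u0, z_0_3, Groth.Agent.Helper6.NT.symm' T u3 u1, z_1_3, Groth.Agent.Helper6.NT.symm' T u3 u2, taq_2_3, (h2 u3).2] at key
                    exact mul_left_cancel₀ (T.w_pos u3).ne' (by linarith only [key])
                  exfalso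
                  linarith only [r_0, r_1, r_2, r_3, T.m_pos u0, T.m_pos u1, T.m_pos u2, T.m_pos u3]
                · -- (2,3) Dp
                  have hinj := Groth.Agent.Helper6.NT.inj4 u0 u1 u2 u3 hn_1_0 hn_2_0 hn_2_1 hn_3_0 hn_3_1 hn_3_2
                  have r_0 : -2 * T.m u0 + 1 * T.m u1 = 0 := by
                    have key := Groth.Agent.Helper6.NT.rowfun4 T u0 u1 u2 u3 hinj u0
                    rw [(h2 u0).2, tap_0_1, z_0_2, z_0_3] at key
                    exact mul_left_cancel₀ (T.w_pos u0).ne' (by linarith only [key])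
                  have r_1 : 1 * T.m u0 + -2 * T.m u1 + 1 * T.m u2 = 0 := by
                    have key := Groth.Agent.Helper6.NT.rowfun4 T u0 u1 u2 u3 hinj u1
                    rw [Groth.Agent.Helper6.NT.symm' T u1 u0, taq_0_1, (h2 u1).2, tap_1_2, z_1_3] at key
                    exact mul_left_cancel₀ (T.w_pos u1).ne' (by linarith only [key])
                  have r_2 : 1 * T.m u1 + -2 * T.m u2 + 2 * T.m u3 = 0 := by
                    have key := Groth.Agent.Helper6.NT.rowfun4 T u0 u1 u2 u3 hinj u2
                    rw [Groth.Agent.Helper6.NT.symm' T u2 u0, z_0_2, Groth.Agent.Helper6.NT.symm' T u2 u1, taq_1_2, (h2 u2).2, tap_2_3] at key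
                    exact mul_left_cancel₀ (T.w_pos u2).ne' (by linarith only [key])
                  have r_3 : 1 * T.m u2 + -2 * T.m u3 = 0 := by
                    have key := Groth.Agent.Helper6.NT.rowfun4 T u0 u1 u2 u3 hinj u3
                    rw [Groth.Agent.Helper6.NT.symm' T u3 u0, z_0_3, Groth.Agent.Helper6.NT.symm' T u3 u1, z_1_3, Groth.Agent.Helper6.NT.symm' T u3 u2, taq_2_3, (h2 u3).2] at key
                    exact mul_left_cancel₀ (T.w_pos u3).ne' (by linarith only [key])
                  exfalso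
                  linarith only [r_0, r_1, r_2, r_3, T.m_pos u0, T.m_pos u1, T.m_pos u2, T.m_pos u3]
                · -- (2,3) Dm
                  have hinj := Groth.Agent.Helper6.NT.inj4 u0 u1 u2 u3 hn_1_0 hn_2_0 hn_2_1 hn_3_0 hn_3_1 hn_3_2
                  have r_0 : -2 * T.m u0 + 1 * T.m u1 = 0 := by
                    have key := Groth.Agent.Helper6.NT.rowfun4 T u0 u1 u2 u3 hinj u0
                    rw [(h2 u0).2, tap_0_1, z_0_2, z_0_3] at key
                    exact mul_left_cancel₀ (T.w_pos u0).ne' (by linarith only [key])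
                  have r_1 : 1 * T.m u0 + -2 * T.m u1 + 1 * T.m u2 = 0 := by
                    have key := Groth.Agent.Helper6.NT.rowfun4 T u0 u1 u2 u3 hinj u1
                    rw [Groth.Agent.Helper6.NT.symm' T u1 u0, taq_0_1, (h2 u1).2, tap_1_2, z_1_3] at key
                    exact mul_left_cancel₀ (T.w_pos u1).ne' (by linarith only [key])
                  have r_2 : 1 * T.m u1 + -2 * T.m u2 + 1 * T.m u3 = 0 := by
                    have key := Groth.Agent.Helper6.NT.rowfun4 T u0 u1 u2 u3 hinj u2
                    rw [Groth.Agent.Helper6.NT.symm' T u2 u0, z_0_2, Groth.Agent.Helper6.NT.symm' T u2 u1, taq_1_2, (h2 u2).2, tap_2_3] at key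
                    exact mul_left_cancel₀ (T.w_pos u2).ne' (by linarith only [key])
                  have r_3 : 2 * T.m u2 + -2 * T.m u3 = 0 := by
                    have key := Groth.Agent.Helper6.NT.rowfun4 T u0 u1 u2 u3 hinj u3
                    rw [Groth.Agent.Helper6.NT.symm' T u3 u0, z_0_3, Groth.Agent.Helper6.NT.symm' T u3 u1, z_1_3, Groth.Agent.Helper6.NT.symm' T u3 u2, taq_2_3, (h2 u3).2] at key
                    exact mul_left_cancel₀ (T.w_pos u3).ne' (by linarith only [key])
                  exfalso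
                  linarith only [r_0, r_1, r_2, r_3, T.m_pos u0, T.m_pos u1, T.m_pos u2, T.m_pos u3]
                · -- (2,3) Tp
                  exfalso
                  have key := Groth.Agent.Helper6.NT.negfun3 T h2 u1 u2 u3 (by norm_num) 1 2 1 (by norm_num) (by norm_num)
                  linarith only [key, tap_1_2, taq_1_2, z_1_3, tap_2_3, taq_2_3, T.w_pos u1, T.w_pos u2, T.w_pos u3]
                · -- (2,3) Tm
                  exfalso
                  have key := Groth.Agent.Helper6.NT.negfun3 T h2 u1 u2 u3 (by norm_num) 1 2 3 (by norm_num) (by norm_num)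
                  linarith only [key, tap_1_2, taq_1_2, z_1_3, tap_2_3, taq_2_3, T.w_pos u1, T.w_pos u2, T.w_pos u3]
              · push Not at hx
                have cl_2 := hx
                clear hx
                exfalso
                refine Groth.Agent.Helper6.NT.closed_contra T [u0, u1, u2] (by simp) (by simp) ?_
                intro i hi j hj
                simp only [List.mem_cons, List.not_mem_nil, or_false, not_or] at hi hj
                rcases hi with rfl | rfl | rfl
                · exact cl_0 j ⟨hj.1, hj.2.1⟩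
                · exact cl_1 j ⟨hj.1, hj.2.1, hj.2.2⟩
                · exact cl_2 j ⟨hj.1, hj.2.1, hj.2.2⟩
          · -- (1,2) Dp
            by_cases hx : ∃ j, (j ≠ u0 ∧ j ≠ u1 ∧ j ≠ u2) ∧ T.a u1 j ≠ 0
            · obtain ⟨u3, ⟨hn_3_0, hn_3_1, hn_3_2⟩, e_1_3⟩ := hx
              have z_0_3 : T.a u0 u3 = 0 := cl_0 u3 ⟨hn_3_0, hn_3_1⟩
              rcases Groth.Agent.Helper6.NT.edge5 T h2 (by norm_num) u1 u3 hn_3_1.symm e_1_3 with ⟨tw_1_3, tap_1_3, taq_1_3⟩ | ⟨tw_1_3, tap_1_3, taq_1_3⟩ | ⟨tw_1_3, tap_1_3, taq_1_3⟩ | ⟨tw_1_3, tap_1_3, taq_1_3⟩ | ⟨tw_1_3, tap_1_3, taq_1_3⟩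
              · -- (1,3) S
                rcases eq_or_ne (T.a u2 u3) 0 with z_2_3 | nz_2_3
                · -- (2,3) zero
                  have hinj := Groth.Agent.Helper6.NT.inj4 u0 u1 u2 u3 hn_1_0 hn_2_0 hn_2_1 hn_3_0 hn_3_1 hn_3_2
                  have r_0 : -2 * T.m u0 + 1 * T.m u1 = 0 := by
                    have key := Groth.Agent.Helper6.NT.rowfun4 T u0 u1 u2 u3 hinj u0
                    rw [(h2 u0).2, tap_0_1, z_0_2, z_0_3] at key
                    exact mul_left_cancel₀ (T.w_pos u0).ne' (by linarith only [key])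
                  have r_1 : 1 * T.m u0 + -2 * T.m u1 + 2 * T.m u2 + 1 * T.m u3 = 0 := by
                    have key := Groth.Agent.Helper6.NT.rowfun4 T u0 u1 u2 u3 hinj u1
                    rw [Groth.Agent.Helper6.NT.symm' T u1 u0, taq_0_1, (h2 u1).2, tap_1_2, tap_1_3] at key
                    exact mul_left_cancel₀ (T.w_pos u1).ne' (by linarith only [key])
                  have r_2 : 1 * T.m u1 + -2 * T.m u2 = 0 := by
                    have key := Groth.Agent.Helper6.NT.rowfun4 T u0 u1 u2 u3 hinj u2
                    rw [Groth.Agent.Helper6.NT.symm' T u2 u0, z_0_2, Groth.Agent.Helper6.NT.symm' T u2 u1, taq_1_2, (h2 u2).2, z_2_3] at key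
                    exact mul_left_cancel₀ (T.w_pos u2).ne' (by linarith only [key])
                  have r_3 : 1 * T.m u1 + -2 * T.m u3 = 0 := by
                    have key := Groth.Agent.Helper6.NT.rowfun4 T u0 u1 u2 u3 hinj u3
                    rw [Groth.Agent.Helper6.NT.symm' T u3 u0, z_0_3, Groth.Agent.Helper6.NT.symm' T u3 u1, taq_1_3, Groth.Agent.Helper6.NT.symm' T u3 u2, z_2_3, (h2 u3).2] at key
                    exact mul_left_cancel₀ (T.w_pos u3).ne' (by linarith only [key])
                  have f0 : T.m u1 = 2 * T.m u0 := by linarith only [r_0, r_1, r_2, r_3]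
                  have f1 : T.m u0 = T.m u0 := rfl
                  have f2 : T.m u3 = T.m u0 := by linarith only [r_0, r_1, r_2, r_3]
                  have f3 : T.m u2 = T.m u0 := by linarith only [r_0, r_1, r_2, r_3]
                  have f4 : T.w u1 = T.w u1 := rfl
                  have f5 : T.w u0 = T.w u1 := by linarith only [tw_0_1, tw_1_2, tw_1_3]
                  have f6 : T.w u3 = T.w u1 := by linarith only [tw_0_1, tw_1_2, tw_1_3]
                  have f7 : T.w u2 = 2 * T.w u1 := by linarith only [tw_0_1, tw_1_2, tw_1_3]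
                  have f8 : T.a u1 u1 = -2 * T.w u1 := by have := (h2 u1).2; linarith only [this, tw_0_1, tw_1_2, tw_1_3]
                  have f9 : T.a u1 u0 = T.w u1 := by rw [Groth.Agent.Helper6.NT.symm' T u1 u0]; linarith only [tap_0_1, tw_0_1, tw_1_2, tw_1_3]
                  have f10 : T.a u1 u3 = T.w u1 := by linarith only [tap_1_3, tw_0_1, tw_1_2, tw_1_3]
                  have f11 : T.a u1 u2 = 2 * T.w u1 := by linarith only [tap_1_2, tw_0_1, tw_1_2, tw_1_3]
                  have f12 : T.a u0 u0 = -2 * T.w u1 := by have := (h2 u0).2; linarith only [this, tw_0_1, tw_1_2, tw_1_3]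
                  have f13 : T.a u0 u3 = 0 := by exact z_0_3
                  have f14 : T.a u0 u2 = 0 := by exact z_0_2
                  have f15 : T.a u3 u3 = -2 * T.w u1 := by have := (h2 u3).2; linarith only [this, tw_0_1, tw_1_2, tw_1_3]
                  have f16 : T.a u3 u2 = 0 := by rw [Groth.Agent.Helper6.NT.symm' T u3 u2]; exact z_2_3
                  have f17 : T.a u2 u2 = -4 * T.w u1 := by have := (h2 u2).2; linarith only [this, tw_0_1, tw_1_2, tw_1_3]
                  have hsig := Groth.Agent.Helper6.NT.inj4 u1 u0 u3 u2 hn_1_0.symm hn_3_1 hn_3_0 hn_2_1 hn_2_0 hn_3_2.symm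
                  exact ⟨Equiv.ofBijective _ (Finite.injective_iff_bijective.1 hsig), T.m u0, T.w u1, Or.inr (Or.inr (Or.inr (Or.inr (Or.inl ⟨f0, f1, f2, f3, f4, f5, f6, f7, f8, f9, f10, f11, f12, f13, f14, f15, f16, f17⟩))))⟩
                · -- (2,3) nonzero
                  obtain ⟨lbp_2_3, lbq_2_3⟩ := Groth.Agent.Helper6.NT.lb T u2 u3 hn_3_2.symm nz_2_3
                  exfalso
                  have key := Groth.Agent.Helper6.NT.negfun3 T h2 u1 u2 u3 (by norm_num) 1 1 1 (by norm_num) (by norm_num)
                  linarith only [key, tap_1_2, taq_1_2, tap_1_3, taq_1_3, lbp_2_3, lbq_2_3, T.w_pos u1, T.w_pos u2, T.w_pos u3]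
              · -- (1,3) Dp
                exfalso
                have key := Groth.Agent.Helper6.NT.negfun3 T h2 u1 u2 u3 (by norm_num) 2 1 1 (by norm_num) (by norm_num)
                linarith only [key, tap_1_2, taq_1_2, tap_1_3, taq_1_3, T.offDiag_nonneg u2 u3 hn_3_2.symm, T.w_pos u1, T.w_pos u2, T.w_pos u3]
              · -- (1,3) Dm
                exfalso
                have key := Groth.Agent.Helper6.NT.negfun3 T h2 u1 u2 u3 (by norm_num) 2 1 2 (by norm_num) (by norm_num)
                linarith only [key, tap_1_2, taq_1_2, tap_1_3, taq_1_3, T.offDiag_nonneg u2 u3 hn_3_2.symm, T.w_pos u1, T.w_pos u2, T.w_pos u3]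
              · -- (1,3) Tp
                exfalso
                have key := Groth.Agent.Helper6.NT.negfun3 T h2 u1 u2 u3 (by norm_num) 2 1 1 (by norm_num) (by norm_num)
                linarith only [key, tap_1_2, taq_1_2, tap_1_3, taq_1_3, T.offDiag_nonneg u2 u3 hn_3_2.symm, T.w_pos u1, T.w_pos u2, T.w_pos u3]
              · -- (1,3) Tm
                exfalso
                have key := Groth.Agent.Helper6.NT.negfun3 T h2 u1 u2 u3 (by norm_num) 2 1 3 (by norm_num) (by norm_num)
                linarith only [key, tap_1_2, taq_1_2, tap_1_3, taq_1_3, T.offDiag_nonneg u2 u3 hn_3_2.symm, T.w_pos u1, T.w_pos u2, T.w_pos u3]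
            · push Not at hx
              have cl_1 := hx
              clear hx
              by_cases hx : ∃ j, (j ≠ u0 ∧ j ≠ u1 ∧ j ≠ u2) ∧ T.a u2 j ≠ 0
              · obtain ⟨u3, ⟨hn_3_0, hn_3_1, hn_3_2⟩, e_2_3⟩ := hx
                have z_0_3 : T.a u0 u3 = 0 := cl_0 u3 ⟨hn_3_0, hn_3_1⟩
                have z_1_3 : T.a u1 u3 = 0 := cl_1 u3 ⟨hn_3_0, hn_3_1, hn_3_2⟩
                rcases Groth.Agent.Helper6.NT.edge5 T h2 (by norm_num) u2 u3 hn_3_2.symm e_2_3 with ⟨tw_2_3, tap_2_3, taq_2_3⟩ | ⟨tw_2_3, tap_2_3, taq_2_3⟩ | ⟨tw_2_3, tap_2_3, taq_2_3⟩ | ⟨tw_2_3, tap_2_3, taq_2_3⟩ | ⟨tw_2_3, tap_2_3, taq_2_3⟩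
                · -- (2,3) S
                  have hinj := Groth.Agent.Helper6.NT.inj4 u0 u1 u2 u3 hn_1_0 hn_2_0 hn_2_1 hn_3_0 hn_3_1 hn_3_2
                  have r_0 : -2 * T.m u0 + 1 * T.m u1 = 0 := by
                    have key := Groth.Agent.Helper6.NT.rowfun4 T u0 u1 u2 u3 hinj u0
                    rw [(h2 u0).2, tap_0_1, z_0_2, z_0_3] at key
                    exact mul_left_cancel₀ (T.w_pos u0).ne' (by linarith only [key])
                  have r_1 : 1 * T.m u0 + -2 * T.m u1 + 2 * T.m u2 = 0 := by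
                    have key := Groth.Agent.Helper6.NT.rowfun4 T u0 u1 u2 u3 hinj u1
                    rw [Groth.Agent.Helper6.NT.symm' T u1 u0, taq_0_1, (h2 u1).2, tap_1_2, z_1_3] at key
                    exact mul_left_cancel₀ (T.w_pos u1).ne' (by linarith only [key])
                  have r_2 : 1 * T.m u1 + -2 * T.m u2 + 1 * T.m u3 = 0 := by
                    have key := Groth.Agent.Helper6.NT.rowfun4 T u0 u1 u2 u3 hinj u2
                    rw [Groth.Agent.Helper6.NT.symm' T u2 u0, z_0_2, Groth.Agent.Helper6.NT.symm' T u2 u1, taq_1_2, (h2 u2).2, tap_2_3] at key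
                    exact mul_left_cancel₀ (T.w_pos u2).ne' (by linarith only [key])
                  have r_3 : 1 * T.m u2 + -2 * T.m u3 = 0 := by
                    have key := Groth.Agent.Helper6.NT.rowfun4 T u0 u1 u2 u3 hinj u3
                    rw [Groth.Agent.Helper6.NT.symm' T u3 u0, z_0_3, Groth.Agent.Helper6.NT.symm' T u3 u1, z_1_3, Groth.Agent.Helper6.NT.symm' T u3 u2, taq_2_3, (h2 u3).2] at key
                    exact mul_left_cancel₀ (T.w_pos u3).ne' (by linarith only [key])
                  exfalso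
                  linarith only [r_0, r_1, r_2, r_3, T.m_pos u0, T.m_pos u1, T.m_pos u2, T.m_pos u3]
                · -- (2,3) Dp
                  exfalso
                  have key := Groth.Agent.Helper6.NT.negfun3 T h2 u1 u2 u3 (by norm_num) 2 2 1 (by norm_num) (by norm_num)
                  linarith only [key, tap_1_2, taq_1_2, z_1_3, tap_2_3, taq_2_3, T.w_pos u1, T.w_pos u2, T.w_pos u3]
                · -- (2,3) Dm
                  exfalso
                  have key := Groth.Agent.Helper6.NT.negfun3 T h2 u1 u2 u3 (by norm_num) 1 1 1 (by norm_num) (by norm_num)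
                  linarith only [key, tap_1_2, taq_1_2, z_1_3, tap_2_3, taq_2_3, T.w_pos u1, T.w_pos u2, T.w_pos u3]
                · -- (2,3) Tp
                  exfalso
                  have key := Groth.Agent.Helper6.NT.negfun3 T h2 u1 u2 u3 (by norm_num) 2 2 1 (by norm_num) (by norm_num)
                  linarith only [key, tap_1_2, taq_1_2, z_1_3, tap_2_3, taq_2_3, T.w_pos u1, T.w_pos u2, T.w_pos u3]
                · -- (2,3) Tm
                  exfalso
                  have key := Groth.Agent.Helper6.NT.negfun3 T h2 u1 u2 u3 (by norm_num) 2 2 3 (by norm_num) (by norm_num)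
                  linarith only [key, tap_1_2, taq_1_2, z_1_3, tap_2_3, taq_2_3, T.w_pos u1, T.w_pos u2, T.w_pos u3]
              · push Not at hx
                have cl_2 := hx
                clear hx
                exfalso
                refine Groth.Agent.Helper6.NT.closed_contra T [u0, u1, u2] (by simp) (by simp) ?_
                intro i hi j hj
                simp only [List.mem_cons, List.not_mem_nil, or_false, not_or] at hi hj
                rcases hi with rfl | rfl | rfl
                · exact cl_0 j ⟨hj.1, hj.2.1⟩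
                · exact cl_1 j ⟨hj.1, hj.2.1, hj.2.2⟩
                · exact cl_2 j ⟨hj.1, hj.2.1, hj.2.2⟩
          · -- (1,2) Dm
            by_cases hx : ∃ j, (j ≠ u0 ∧ j ≠ u1 ∧ j ≠ u2) ∧ T.a u1 j ≠ 0
            · obtain ⟨u3, ⟨hn_3_0, hn_3_1, hn_3_2⟩, e_1_3⟩ := hx
              have z_0_3 : T.a u0 u3 = 0 := cl_0 u3 ⟨hn_3_0, hn_3_1⟩
              rcases Groth.Agent.Helper6.NT.edge5 T h2 (by norm_num) u1 u3 hn_3_1.symm e_1_3 with ⟨tw_1_3, tap_1_3, taq_1_3⟩ | ⟨tw_1_3, tap_1_3, taq_1_3⟩ | ⟨tw_1_3, tap_1_3, taq_1_3⟩ | ⟨tw_1_3, tap_1_3, taq_1_3⟩ | ⟨tw_1_3, tap_1_3, taq_1_3⟩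
              · -- (1,3) S
                rcases eq_or_ne (T.a u2 u3) 0 with z_2_3 | nz_2_3
                · -- (2,3) zero
                  have hinj := Groth.Agent.Helper6.NT.inj4 u0 u1 u2 u3 hn_1_0 hn_2_0 hn_2_1 hn_3_0 hn_3_1 hn_3_2
                  have r_0 : -2 * T.m u0 + 1 * T.m u1 = 0 := by
                    have key := Groth.Agent.Helper6.NT.rowfun4 T u0 u1 u2 u3 hinj u0
                    rw [(h2 u0).2, tap_0_1, z_0_2, z_0_3] at key
                    exact mul_left_cancel₀ (T.w_pos u0).ne' (by linarith only [key])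
                  have r_1 : 1 * T.m u0 + -2 * T.m u1 + 1 * T.m u2 + 1 * T.m u3 = 0 := by
                    have key := Groth.Agent.Helper6.NT.rowfun4 T u0 u1 u2 u3 hinj u1
                    rw [Groth.Agent.Helper6.NT.symm' T u1 u0, taq_0_1, (h2 u1).2, tap_1_2, tap_1_3] at key
                    exact mul_left_cancel₀ (T.w_pos u1).ne' (by linarith only [key])
                  have r_2 : 2 * T.m u1 + -2 * T.m u2 = 0 := by
                    have key := Groth.Agent.Helper6.NT.rowfun4 T u0 u1 u2 u3 hinj u2
                    rw [Groth.Agent.Helper6.NT.symm' T u2 u0, z_0_2, Groth.Agent.Helper6.NT.symm' T u2 u1, taq_1_2, (h2 u2).2, z_2_3] at key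
                    exact mul_left_cancel₀ (T.w_pos u2).ne' (by linarith only [key])
                  have r_3 : 1 * T.m u1 + -2 * T.m u3 = 0 := by
                    have key := Groth.Agent.Helper6.NT.rowfun4 T u0 u1 u2 u3 hinj u3
                    rw [Groth.Agent.Helper6.NT.symm' T u3 u0, z_0_3, Groth.Agent.Helper6.NT.symm' T u3 u1, taq_1_3, Groth.Agent.Helper6.NT.symm' T u3 u2, z_2_3, (h2 u3).2] at key
                    exact mul_left_cancel₀ (T.w_pos u3).ne' (by linarith only [key])
                  have f0 : T.m u1 = 2 * T.m u0 := by linarith only [r_0, r_1, r_2, r_3]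
                  have f1 : T.m u0 = T.m u0 := rfl
                  have f2 : T.m u3 = T.m u0 := by linarith only [r_0, r_1, r_2, r_3]
                  have f3 : T.m u2 = 2 * T.m u0 := by linarith only [r_0, r_1, r_2, r_3]
                  have f4 : T.w u1 = 2 * T.w u2 := by linarith only [tw_0_1, tw_1_2, tw_1_3]
                  have f5 : T.w u0 = 2 * T.w u2 := by linarith only [tw_0_1, tw_1_2, tw_1_3]
                  have f6 : T.w u3 = 2 * T.w u2 := by linarith only [tw_0_1, tw_1_2, tw_1_3]
                  have f7 : T.w u2 = T.w u2 := rfl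
                  have f8 : T.a u1 u1 = -4 * T.w u2 := by have := (h2 u1).2; linarith only [this, tw_0_1, tw_1_2, tw_1_3]
                  have f9 : T.a u1 u0 = 2 * T.w u2 := by rw [Groth.Agent.Helper6.NT.symm' T u1 u0]; linarith only [tap_0_1, tw_0_1, tw_1_2, tw_1_3]
                  have f10 : T.a u1 u3 = 2 * T.w u2 := by linarith only [tap_1_3, tw_0_1, tw_1_2, tw_1_3]
                  have f11 : T.a u1 u2 = 2 * T.w u2 := by linarith only [tap_1_2, tw_0_1, tw_1_2, tw_1_3]
                  have f12 : T.a u0 u0 = -4 * T.w u2 := by have := (h2 u0).2; linarith only [this, tw_0_1, tw_1_2, tw_1_3]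
                  have f13 : T.a u0 u3 = 0 := by exact z_0_3
                  have f14 : T.a u0 u2 = 0 := by exact z_0_2
                  have f15 : T.a u3 u3 = -4 * T.w u2 := by have := (h2 u3).2; linarith only [this, tw_0_1, tw_1_2, tw_1_3]
                  have f16 : T.a u3 u2 = 0 := by rw [Groth.Agent.Helper6.NT.symm' T u3 u2]; exact z_2_3
                  have f17 : T.a u2 u2 = -2 * T.w u2 := by have := (h2 u2).2; linarith only [this, tw_0_1, tw_1_2, tw_1_3]
                  have hsig := Groth.Agent.Helper6.NT.inj4 u1 u0 u3 u2 hn_1_0.symm hn_3_1 hn_3_0 hn_2_1 hn_2_0 hn_3_2.symm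
                  exact ⟨Equiv.ofBijective _ (Finite.injective_iff_bijective.1 hsig), T.m u0, T.w u2, Or.inr (Or.inr (Or.inr (Or.inr (Or.inr (⟨f0, f1, f2, f3, f4, f5, f6, f7, f8, f9, f10, f11, f12, f13, f14, f15, f16, f17⟩)))))⟩
                · -- (2,3) nonzero
                  obtain ⟨lbp_2_3, lbq_2_3⟩ := Groth.Agent.Helper6.NT.lb T u2 u3 hn_3_2.symm nz_2_3
                  exfalso
                  have key := Groth.Agent.Helper6.NT.negfun3 T h2 u1 u2 u3 (by norm_num) 1 1 1 (by norm_num) (by norm_num)
                  linarith only [key, tap_1_2, taq_1_2, tap_1_3, taq_1_3, lbp_2_3, lbq_2_3, T.w_pos u1, T.w_pos u2, T.w_pos u3]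
              · -- (1,3) Dp
                exfalso
                have key := Groth.Agent.Helper6.NT.negfun3 T h2 u1 u2 u3 (by norm_num) 2 2 1 (by norm_num) (by norm_num)
                linarith only [key, tap_1_2, taq_1_2, tap_1_3, taq_1_3, T.offDiag_nonneg u2 u3 hn_3_2.symm, T.w_pos u1, T.w_pos u2, T.w_pos u3]
              · -- (1,3) Dm
                exfalso
                have key := Groth.Agent.Helper6.NT.negfun3 T h2 u1 u2 u3 (by norm_num) 1 1 1 (by norm_num) (by norm_num)
                linarith only [key, tap_1_2, taq_1_2, tap_1_3, taq_1_3, T.offDiag_nonneg u2 u3 hn_3_2.symm, T.w_pos u1, T.w_pos u2, T.w_pos u3]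
              · -- (1,3) Tp
                exfalso
                have key := Groth.Agent.Helper6.NT.negfun3 T h2 u1 u2 u3 (by norm_num) 2 2 1 (by norm_num) (by norm_num)
                linarith only [key, tap_1_2, taq_1_2, tap_1_3, taq_1_3, T.offDiag_nonneg u2 u3 hn_3_2.symm, T.w_pos u1, T.w_pos u2, T.w_pos u3]
              · -- (1,3) Tm
                exfalso
                have key := Groth.Agent.Helper6.NT.negfun3 T h2 u1 u2 u3 (by norm_num) 2 2 3 (by norm_num) (by norm_num)
                linarith only [key, tap_1_2, taq_1_2, tap_1_3, taq_1_3, T.offDiag_nonneg u2 u3 hn_3_2.symm, T.w_pos u1, T.w_pos u2, T.w_pos u3]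
            · push Not at hx
              have cl_1 := hx
              clear hx
              by_cases hx : ∃ j, (j ≠ u0 ∧ j ≠ u1 ∧ j ≠ u2) ∧ T.a u2 j ≠ 0
              · obtain ⟨u3, ⟨hn_3_0, hn_3_1, hn_3_2⟩, e_2_3⟩ := hx
                have z_0_3 : T.a u0 u3 = 0 := cl_0 u3 ⟨hn_3_0, hn_3_1⟩
                have z_1_3 : T.a u1 u3 = 0 := cl_1 u3 ⟨hn_3_0, hn_3_1, hn_3_2⟩
                rcases Groth.Agent.Helper6.NT.edge5 T h2 (by norm_num) u2 u3 hn_3_2.symm e_2_3 with ⟨tw_2_3, tap_2_3, taq_2_3⟩ | ⟨tw_2_3, tap_2_3, taq_2_3⟩ | ⟨tw_2_3, tap_2_3, taq_2_3⟩ | ⟨tw_2_3, tap_2_3, taq_2_3⟩ | ⟨tw_2_3, tap_2_3, taq_2_3⟩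
                · -- (2,3) S
                  have hinj := Groth.Agent.Helper6.NT.inj4 u0 u1 u2 u3 hn_1_0 hn_2_0 hn_2_1 hn_3_0 hn_3_1 hn_3_2
                  have r_0 : -2 * T.m u0 + 1 * T.m u1 = 0 := by
                    have key := Groth.Agent.Helper6.NT.rowfun4 T u0 u1 u2 u3 hinj u0
                    rw [(h2 u0).2, tap_0_1, z_0_2, z_0_3] at key
                    exact mul_left_cancel₀ (T.w_pos u0).ne' (by linarith only [key])
                  have r_1 : 1 * T.m u0 + -2 * T.m u1 + 1 * T.m u2 = 0 := by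
                    have key := Groth.Agent.Helper6.NT.rowfun4 T u0 u1 u2 u3 hinj u1
                    rw [Groth.Agent.Helper6.NT.symm' T u1 u0, taq_0_1, (h2 u1).2, tap_1_2, z_1_3] at key
                    exact mul_left_cancel₀ (T.w_pos u1).ne' (by linarith only [key])
                  have r_2 : 2 * T.m u1 + -2 * T.m u2 + 1 * T.m u3 = 0 := by
                    have key := Groth.Agent.Helper6.NT.rowfun4 T u0 u1 u2 u3 hinj u2
                    rw [Groth.Agent.Helper6.NT.symm' T u2 u0, z_0_2, Groth.Agent.Helper6.NT.symm' T u2 u1, taq_1_2, (h2 u2).2, tap_2_3] at key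
                    exact mul_left_cancel₀ (T.w_pos u2).ne' (by linarith only [key])
                  have r_3 : 1 * T.m u2 + -2 * T.m u3 = 0 := by
                    have key := Groth.Agent.Helper6.NT.rowfun4 T u0 u1 u2 u3 hinj u3
                    rw [Groth.Agent.Helper6.NT.symm' T u3 u0, z_0_3, Groth.Agent.Helper6.NT.symm' T u3 u1, z_1_3, Groth.Agent.Helper6.NT.symm' T u3 u2, taq_2_3, (h2 u3).2] at key
                    exact mul_left_cancel₀ (T.w_pos u3).ne' (by linarith only [key])
                  exfalso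
                  linarith only [r_0, r_1, r_2, r_3, T.m_pos u0, T.m_pos u1, T.m_pos u2, T.m_pos u3]
                · -- (2,3) Dp
                  exfalso
                  have key := Groth.Agent.Helper6.NT.negfun3 T h2 u1 u2 u3 (by norm_num) 1 2 1 (by norm_num) (by norm_num)
                  linarith only [key, tap_1_2, taq_1_2, z_1_3, tap_2_3, taq_2_3, T.w_pos u1, T.w_pos u2, T.w_pos u3]
                · -- (2,3) Dm
                  exfalso
                  have key := Groth.Agent.Helper6.NT.negfun3 T h2 u1 u2 u3 (by norm_num) 1 2 2 (by norm_num) (by norm_num)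
                  linarith only [key, tap_1_2, taq_1_2, z_1_3, tap_2_3, taq_2_3, T.w_pos u1, T.w_pos u2, T.w_pos u3]
                · -- (2,3) Tp
                  exfalso
                  have key := Groth.Agent.Helper6.NT.negfun3 T h2 u1 u2 u3 (by norm_num) 1 2 1 (by norm_num) (by norm_num)
                  linarith only [key, tap_1_2, taq_1_2, z_1_3, tap_2_3, taq_2_3, T.w_pos u1, T.w_pos u2, T.w_pos u3]
                · -- (2,3) Tm
                  exfalso
                  have key := Groth.Agent.Helper6.NT.negfun3 T h2 u1 u2 u3 (by norm_num) 1 2 3 (by norm_num) (by norm_num)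
                  linarith only [key, tap_1_2, taq_1_2, z_1_3, tap_2_3, taq_2_3, T.w_pos u1, T.w_pos u2, T.w_pos u3]
              · push Not at hx
                have cl_2 := hx
                clear hx
                exfalso
                refine Groth.Agent.Helper6.NT.closed_contra T [u0, u1, u2] (by simp) (by simp) ?_
                intro i hi j hj
                simp only [List.mem_cons, List.not_mem_nil, or_false, not_or] at hi hj
                rcases hi with rfl | rfl | rfl
                · exact cl_0 j ⟨hj.1, hj.2.1⟩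
                · exact cl_1 j ⟨hj.1, hj.2.1, hj.2.2⟩
                · exact cl_2 j ⟨hj.1, hj.2.1, hj.2.2⟩
          · -- (1,2) Tp
            exfalso
            have key := Groth.Agent.Helper6.NT.negfun3 T h2 u0 u1 u2 (by norm_num) 1 2 1 (by norm_num) (by norm_num)
            linarith only [key, tap_0_1, taq_0_1, z_0_2, tap_1_2, taq_1_2, T.w_pos u0, T.w_pos u1, T.w_pos u2]
          · -- (1,2) Tm
            exfalso
            have key := Groth.Agent.Helper6.NT.negfun3 T h2 u0 u1 u2 (by norm_num) 1 2 3 (by norm_num) (by norm_num)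
            linarith only [key, tap_0_1, taq_0_1, z_0_2, tap_1_2, taq_1_2, T.w_pos u0, T.w_pos u1, T.w_pos u2]
        · push Not at hx
          have cl_1 := hx
          clear hx
          exfalso
          refine Groth.Agent.Helper6.NT.closed_contra T [u0, u1] (by simp) (by simp) ?_
          intro i hi j hj
          simp only [List.mem_cons, List.not_mem_nil, or_false, not_or] at hi hj
          rcases hi with rfl | rfl
          · exact cl_0 j ⟨hj.1, hj.2⟩
          · exact cl_1 j ⟨hj.1, hj.2⟩
    · -- (0,1) Dp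
      by_cases hx : ∃ j, (j ≠ u0 ∧ j ≠ u1) ∧ T.a u0 j ≠ 0
      · obtain ⟨u2, ⟨hn_2_0, hn_2_1⟩, e_0_2⟩ := hx
        rcases Groth.Agent.Helper6.NT.edge5 T h2 (by norm_num) u0 u2 hn_2_0.symm e_0_2 with ⟨tw_0_2, tap_0_2, taq_0_2⟩ | ⟨tw_0_2, tap_0_2, taq_0_2⟩ | ⟨tw_0_2, tap_0_2, taq_0_2⟩ | ⟨tw_0_2, tap_0_2, taq_0_2⟩ | ⟨tw_0_2, tap_0_2, taq_0_2⟩
        · -- (0,2) S
          rcases eq_or_ne (T.a u1 u2) 0 with z_1_2 | nz_1_2
          · -- (1,2) zero
            by_cases hx : ∃ j, (j ≠ u0 ∧ j ≠ u1 ∧ j ≠ u2) ∧ T.a u0 j ≠ 0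
            · obtain ⟨u3, ⟨hn_3_0, hn_3_1, hn_3_2⟩, e_0_3⟩ := hx
              rcases Groth.Agent.Helper6.NT.edge5 T h2 (by norm_num) u0 u3 hn_3_0.symm e_0_3 with ⟨tw_0_3, tap_0_3, taq_0_3⟩ | ⟨tw_0_3, tap_0_3, taq_0_3⟩ | ⟨tw_0_3, tap_0_3, taq_0_3⟩ | ⟨tw_0_3, tap_0_3, taq_0_3⟩ | ⟨tw_0_3, tap_0_3, taq_0_3⟩
              · -- (0,3) S
                rcases eq_or_ne (T.a u1 u3) 0 with z_1_3 | nz_1_3
                · -- (1,3) zero
                  rcases eq_or_ne (T.a u2 u3) 0 with z_2_3 | nz_2_3
                  · -- (2,3) zero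
                    have hinj := Groth.Agent.Helper6.NT.inj4 u0 u1 u2 u3 hn_1_0 hn_2_0 hn_2_1 hn_3_0 hn_3_1 hn_3_2
                    have r_0 : -2 * T.m u0 + 2 * T.m u1 + 1 * T.m u2 + 1 * T.m u3 = 0 := by
                      have key := Groth.Agent.Helper6.NT.rowfun4 T u0 u1 u2 u3 hinj u0
                      rw [(h2 u0).2, tap_0_1, tap_0_2, tap_0_3] at key
                      exact mul_left_cancel₀ (T.w_pos u0).ne' (by linarith only [key])
                    have r_1 : 1 * T.m u0 + -2 * T.m u1 = 0 := by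
                      have key := Groth.Agent.Helper6.NT.rowfun4 T u0 u1 u2 u3 hinj u1
                      rw [Groth.Agent.Helper6.NT.symm' T u1 u0, taq_0_1, (h2 u1).2, z_1_2, z_1_3] at key
                      exact mul_left_cancel₀ (T.w_pos u1).ne' (by linarith only [key])
                    have r_2 : 1 * T.m u0 + -2 * T.m u2 = 0 := by
                      have key := Groth.Agent.Helper6.NT.rowfun4 T u0 u1 u2 u3 hinj u2
                      rw [Groth.Agent.Helper6.NT.symm' T u2 u0, taq_0_2, Groth.Agent.Helper6.NT.symm' T u2 u1, z_1_2, (h2 u2).2, z_2_3] at key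
                      exact mul_left_cancel₀ (T.w_pos u2).ne' (by linarith only [key])
                    have r_3 : 1 * T.m u0 + -2 * T.m u3 = 0 := by
                      have key := Groth.Agent.Helper6.NT.rowfun4 T u0 u1 u2 u3 hinj u3
                      rw [Groth.Agent.Helper6.NT.symm' T u3 u0, taq_0_3, Groth.Agent.Helper6.NT.symm' T u3 u1, z_1_3, Groth.Agent.Helper6.NT.symm' T u3 u2, z_2_3, (h2 u3).2] at key
                      exact mul_left_cancel₀ (T.w_pos u3).ne' (by linarith only [key])
                    have f0 : T.m u0 = 2 * T.m u2 := by linarith only [r_0, r_1, r_2, r_3]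
                    have f1 : T.m u2 = T.m u2 := rfl
                    have f2 : T.m u3 = T.m u2 := by linarith only [r_0, r_1, r_2, r_3]
                    have f3 : T.m u1 = T.m u2 := by linarith only [r_0, r_1, r_2, r_3]
                    have f4 : T.w u0 = T.w u0 := rfl
                    have f5 : T.w u2 = T.w u0 := by linarith only [tw_0_1, tw_0_2, tw_0_3]
                    have f6 : T.w u3 = T.w u0 := by linarith only [tw_0_1, tw_0_2, tw_0_3]
                    have f7 : T.w u1 = 2 * T.w u0 := by linarith only [tw_0_1, tw_0_2, tw_0_3]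
                    have f8 : T.a u0 u0 = -2 * T.w u0 := by have := (h2 u0).2; linarith only [this, tw_0_1, tw_0_2, tw_0_3]
                    have f9 : T.a u0 u2 = T.w u0 := by linarith only [tap_0_2, tw_0_1, tw_0_2, tw_0_3]
                    have f10 : T.a u0 u3 = T.w u0 := by linarith only [tap_0_3, tw_0_1, tw_0_2, tw_0_3]
                    have f11 : T.a u0 u1 = 2 * T.w u0 := by linarith only [tap_0_1, tw_0_1, tw_0_2, tw_0_3]
                    have f12 : T.a u2 u2 = -2 * T.w u0 := by have := (h2 u2).2; linarith only [this, tw_0_1, tw_0_2, tw_0_3]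
                    have f13 : T.a u2 u3 = 0 := by exact z_2_3
                    have f14 : T.a u2 u1 = 0 := by rw [Groth.Agent.Helper6.NT.symm' T u2 u1]; exact z_1_2
                    have f15 : T.a u3 u3 = -2 * T.w u0 := by have := (h2 u3).2; linarith only [this, tw_0_1, tw_0_2, tw_0_3]
                    have f16 : T.a u3 u1 = 0 := by rw [Groth.Agent.Helper6.NT.symm' T u3 u1]; exact z_1_3
                    have f17 : T.a u1 u1 = -4 * T.w u0 := by have := (h2 u1).2; linarith only [this, tw_0_1, tw_0_2, tw_0_3]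
                    have hsig := Groth.Agent.Helper6.NT.inj4 u0 u2 u3 u1 hn_2_0 hn_3_0 hn_3_2 hn_1_0 hn_2_1.symm hn_3_1.symm
                    exact ⟨Equiv.ofBijective _ (Finite.injective_iff_bijective.1 hsig), T.m u2, T.w u0, Or.inr (Or.inr (Or.inr (Or.inr (Or.inl ⟨f0, f1, f2, f3, f4, f5, f6, f7, f8, f9, f10, f11, f12, f13, f14, f15, f16, f17⟩))))⟩
                  · -- (2,3) nonzero
                    obtain ⟨lbp_2_3, lbq_2_3⟩ := Groth.Agent.Helper6.NT.lb T u2 u3 hn_3_2.symm nz_2_3
                    exfalso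
                    have key := Groth.Agent.Helper6.NT.negfun3 T h2 u0 u2 u3 (by norm_num) 1 1 1 (by norm_num) (by norm_num)
                    linarith only [key, tap_0_2, taq_0_2, tap_0_3, taq_0_3, lbp_2_3, lbq_2_3, T.w_pos u0, T.w_pos u2, T.w_pos u3]
                · -- (1,3) nonzero
                  obtain ⟨lbp_1_3, lbq_1_3⟩ := Groth.Agent.Helper6.NT.lb T u1 u3 hn_3_1.symm nz_1_3
                  exfalso
                  have key := Groth.Agent.Helper6.NT.negfun3 T h2 u0 u1 u3 (by norm_num) 1 1 1 (by norm_num) (by norm_num)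
                  linarith only [key, tap_0_1, taq_0_1, tap_0_3, taq_0_3, lbp_1_3, lbq_1_3, T.w_pos u0, T.w_pos u1, T.w_pos u3]
              · -- (0,3) Dp
                exfalso
                have key := Groth.Agent.Helper6.NT.negfun3 T h2 u0 u1 u3 (by norm_num) 2 1 1 (by norm_num) (by norm_num)
                linarith only [key, tap_0_1, taq_0_1, tap_0_3, taq_0_3, T.offDiag_nonneg u1 u3 hn_3_1.symm, T.w_pos u0, T.w_pos u1, T.w_pos u3]
              · -- (0,3) Dm
                exfalso
                have key := Groth.Agent.Helper6.NT.negfun3 T h2 u0 u1 u3 (by norm_num) 2 1 2 (by norm_num) (by norm_num)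
                linarith only [key, tap_0_1, taq_0_1, tap_0_3, taq_0_3, T.offDiag_nonneg u1 u3 hn_3_1.symm, T.w_pos u0, T.w_pos u1, T.w_pos u3]
              · -- (0,3) Tp
                exfalso
                have key := Groth.Agent.Helper6.NT.negfun3 T h2 u0 u2 u3 (by norm_num) 2 1 1 (by norm_num) (by norm_num)
                linarith only [key, tap_0_2, taq_0_2, tap_0_3, taq_0_3, T.offDiag_nonneg u2 u3 hn_3_2.symm, T.w_pos u0, T.w_pos u2, T.w_pos u3]
              · -- (0,3) Tm
                exfalso
                have key := Groth.Agent.Helper6.NT.negfun3 T h2 u0 u2 u3 (by norm_num) 2 1 3 (by norm_num) (by norm_num)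
                linarith only [key, tap_0_2, taq_0_2, tap_0_3, taq_0_3, T.offDiag_nonneg u2 u3 hn_3_2.symm, T.w_pos u0, T.w_pos u2, T.w_pos u3]
            · push Not at hx
              have cl_0 := hx
              clear hx
              by_cases hx : ∃ j, (j ≠ u0 ∧ j ≠ u1 ∧ j ≠ u2) ∧ T.a u1 j ≠ 0
              · obtain ⟨u3, ⟨hn_3_0, hn_3_1, hn_3_2⟩, e_1_3⟩ := hx
                have z_0_3 : T.a u0 u3 = 0 := cl_0 u3 ⟨hn_3_0, hn_3_1, hn_3_2⟩
                rcases Groth.Agent.Helper6.NT.edge5 T h2 (by norm_num) u1 u3 hn_3_1.symm e_1_3 with ⟨tw_1_3, tap_1_3, taq_1_3⟩ | ⟨tw_1_3, tap_1_3, taq_1_3⟩ | ⟨tw_1_3, tap_1_3, taq_1_3⟩ | ⟨tw_1_3, tap_1_3, taq_1_3⟩ | ⟨tw_1_3, tap_1_3, taq_1_3⟩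
                · -- (1,3) S
                  rcases eq_or_ne (T.a u2 u3) 0 with z_2_3 | nz_2_3
                  · -- (2,3) zero
                    have hinj := Groth.Agent.Helper6.NT.inj4 u0 u1 u2 u3 hn_1_0 hn_2_0 hn_2_1 hn_3_0 hn_3_1 hn_3_2
                    have r_0 : -2 * T.m u0 + 2 * T.m u1 + 1 * T.m u2 = 0 := by
                      have key := Groth.Agent.Helper6.NT.rowfun4 T u0 u1 u2 u3 hinj u0
                      rw [(h2 u0).2, tap_0_1, tap_0_2, z_0_3] at key
                      exact mul_left_cancel₀ (T.w_pos u0).ne' (by linarith only [key])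
                    have r_1 : 1 * T.m u0 + -2 * T.m u1 + 1 * T.m u3 = 0 := by
                      have key := Groth.Agent.Helper6.NT.rowfun4 T u0 u1 u2 u3 hinj u1
                      rw [Groth.Agent.Helper6.NT.symm' T u1 u0, taq_0_1, (h2 u1).2, z_1_2, tap_1_3] at key
                      exact mul_left_cancel₀ (T.w_pos u1).ne' (by linarith only [key])
                    have r_2 : 1 * T.m u0 + -2 * T.m u2 = 0 := by
                      have key := Groth.Agent.Helper6.NT.rowfun4 T u0 u1 u2 u3 hinj u2
                      rw [Groth.Agent.Helper6.NT.symm' T u2 u0, taq_0_2, Groth.Agent.Helper6.NT.symm' T u2 u1, z_1_2, (h2 u2).2, z_2_3] at key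
                      exact mul_left_cancel₀ (T.w_pos u2).ne' (by linarith only [key])
                    have r_3 : 1 * T.m u1 + -2 * T.m u3 = 0 := by
                      have key := Groth.Agent.Helper6.NT.rowfun4 T u0 u1 u2 u3 hinj u3
                      rw [Groth.Agent.Helper6.NT.symm' T u3 u0, z_0_3, Groth.Agent.Helper6.NT.symm' T u3 u1, taq_1_3, Groth.Agent.Helper6.NT.symm' T u3 u2, z_2_3, (h2 u3).2] at key
                      exact mul_left_cancel₀ (T.w_pos u3).ne' (by linarith only [key])
                    exfalso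
                    linarith only [r_0, r_1, r_2, r_3, T.m_pos u0, T.m_pos u1, T.m_pos u2, T.m_pos u3]
                  · -- (2,3) nonzero
                    obtain ⟨lbp_2_3, lbq_2_3⟩ := Groth.Agent.Helper6.NT.lb T u2 u3 hn_3_2.symm nz_2_3
                    rcases Groth.Agent.Helper6.NT.edge5 T h2 (by norm_num) u2 u3 hn_3_2.symm nz_2_3 with ⟨tw_2_3, tap_2_3, taq_2_3⟩ | ⟨tw_2_3, tap_2_3, taq_2_3⟩ | ⟨tw_2_3, tap_2_3, taq_2_3⟩ | ⟨tw_2_3, tap_2_3, taq_2_3⟩ | ⟨tw_2_3, tap_2_3, taq_2_3⟩
                    · -- (2,3) S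
                      exfalso
                      linarith only [tap_0_1, tap_0_2, tap_2_3, tap_1_3, taq_0_1, taq_0_2, taq_2_3, taq_1_3, T.w_pos u0, T.w_pos u1, T.w_pos u2, T.w_pos u3]
                    · -- (2,3) Dp
                      exfalso
                      have key := Groth.Agent.Helper6.NT.nonposfun4 T h2 u0 u1 u2 u3 3 2 3 2
                      linarith only [key, tap_0_1, taq_0_1, tap_0_2, taq_0_2, z_0_3, z_1_2, tap_1_3, taq_1_3, tap_2_3, taq_2_3, T.w_pos u0, T.w_pos u1, T.w_pos u2, T.w_pos u3]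
                    · -- (2,3) Dm
                      exfalso
                      linarith only [tap_0_1, tap_0_2, tap_2_3, tap_1_3, taq_0_1, taq_0_2, taq_2_3, taq_1_3, T.w_pos u0, T.w_pos u1, T.w_pos u2, T.w_pos u3]
                    · -- (2,3) Tp
                      exfalso
                      have key := Groth.Agent.Helper6.NT.negfun3 T h2 u1 u2 u3 (by norm_num) 1 3 2 (by norm_num) (by norm_num)
                      linarith only [key, z_1_2, tap_1_3, taq_1_3, tap_2_3, taq_2_3, T.w_pos u1, T.w_pos u2, T.w_pos u3]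
                    · -- (2,3) Tm
                      exfalso
                      have key := Groth.Agent.Helper6.NT.negfun3 T h2 u1 u2 u3 (by norm_num) 1 1 2 (by norm_num) (by norm_num)
                      linarith only [key, z_1_2, tap_1_3, taq_1_3, tap_2_3, taq_2_3, T.w_pos u1, T.w_pos u2, T.w_pos u3]
                · -- (1,3) Dp
                  exfalso
                  have key := Groth.Agent.Helper6.NT.negfun3 T h2 u0 u1 u3 (by norm_num) 2 2 1 (by norm_num) (by norm_num)
                  linarith only [key, tap_0_1, taq_0_1, z_0_3, tap_1_3, taq_1_3, T.w_pos u0, T.w_pos u1, T.w_pos u3]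
                · -- (1,3) Dm
                  exfalso
                  have key := Groth.Agent.Helper6.NT.negfun3 T h2 u0 u1 u3 (by norm_num) 1 1 1 (by norm_num) (by norm_num)
                  linarith only [key, tap_0_1, taq_0_1, z_0_3, tap_1_3, taq_1_3, T.w_pos u0, T.w_pos u1, T.w_pos u3]
                · -- (1,3) Tp
                  exfalso
                  have key := Groth.Agent.Helper6.NT.negfun3 T h2 u0 u1 u3 (by norm_num) 2 2 1 (by norm_num) (by norm_num)
                  linarith only [key, tap_0_1, taq_0_1, z_0_3, tap_1_3, taq_1_3, T.w_pos u0, T.w_pos u1, T.w_pos u3]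
                · -- (1,3) Tm
                  exfalso
                  have key := Groth.Agent.Helper6.NT.negfun3 T h2 u0 u1 u3 (by norm_num) 2 2 3 (by norm_num) (by norm_num)
                  linarith only [key, tap_0_1, taq_0_1, z_0_3, tap_1_3, taq_1_3, T.w_pos u0, T.w_pos u1, T.w_pos u3]
              · push Not at hx
                have cl_1 := hx
                clear hx
                by_cases hx : ∃ j, (j ≠ u0 ∧ j ≠ u1 ∧ j ≠ u2) ∧ T.a u2 j ≠ 0
                · obtain ⟨u3, ⟨hn_3_0, hn_3_1, hn_3_2⟩, e_2_3⟩ := hx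
                  have z_0_3 : T.a u0 u3 = 0 := cl_0 u3 ⟨hn_3_0, hn_3_1, hn_3_2⟩
                  have z_1_3 : T.a u1 u3 = 0 := cl_1 u3 ⟨hn_3_0, hn_3_1, hn_3_2⟩
                  rcases Groth.Agent.Helper6.NT.edge5 T h2 (by norm_num) u2 u3 hn_3_2.symm e_2_3 with ⟨tw_2_3, tap_2_3, taq_2_3⟩ | ⟨tw_2_3, tap_2_3, taq_2_3⟩ | ⟨tw_2_3, tap_2_3, taq_2_3⟩ | ⟨tw_2_3, tap_2_3, taq_2_3⟩ | ⟨tw_2_3, tap_2_3, taq_2_3⟩
                  · -- (2,3) S
                    have hinj := Groth.Agent.Helper6.NT.inj4 u0 u1 u2 u3 hn_1_0 hn_2_0 hn_2_1 hn_3_0 hn_3_1 hn_3_2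
                    have r_0 : -2 * T.m u0 + 2 * T.m u1 + 1 * T.m u2 = 0 := by
                      have key := Groth.Agent.Helper6.NT.rowfun4 T u0 u1 u2 u3 hinj u0
                      rw [(h2 u0).2, tap_0_1, tap_0_2, z_0_3] at key
                      exact mul_left_cancel₀ (T.w_pos u0).ne' (by linarith only [key])
                    have r_1 : 1 * T.m u0 + -2 * T.m u1 = 0 := by
                      have key := Groth.Agent.Helper6.NT.rowfun4 T u0 u1 u2 u3 hinj u1
                      rw [Groth.Agent.Helper6.NT.symm' T u1 u0, taq_0_1, (h2 u1).2, z_1_2, z_1_3] at key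
                      exact mul_left_cancel₀ (T.w_pos u1).ne' (by linarith only [key])
                    have r_2 : 1 * T.m u0 + -2 * T.m u2 + 1 * T.m u3 = 0 := by
                      have key := Groth.Agent.Helper6.NT.rowfun4 T u0 u1 u2 u3 hinj u2
                      rw [Groth.Agent.Helper6.NT.symm' T u2 u0, taq_0_2, Groth.Agent.Helper6.NT.symm' T u2 u1, z_1_2, (h2 u2).2, tap_2_3] at key
                      exact mul_left_cancel₀ (T.w_pos u2).ne' (by linarith only [key])
                    have r_3 : 1 * T.m u2 + -2 * T.m u3 = 0 := by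
                      have key := Groth.Agent.Helper6.NT.rowfun4 T u0 u1 u2 u3 hinj u3
                      rw [Groth.Agent.Helper6.NT.symm' T u3 u0, z_0_3, Groth.Agent.Helper6.NT.symm' T u3 u1, z_1_3, Groth.Agent.Helper6.NT.symm' T u3 u2, taq_2_3, (h2 u3).2] at key
                      exact mul_left_cancel₀ (T.w_pos u3).ne' (by linarith only [key])
                    exfalso
                    linarith only [r_0, r_1, r_2, r_3, T.m_pos u0, T.m_pos u1, T.m_pos u2, T.m_pos u3]
                  · -- (2,3) Dp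
                    have hinj := Groth.Agent.Helper6.NT.inj4 u0 u1 u2 u3 hn_1_0 hn_2_0 hn_2_1 hn_3_0 hn_3_1 hn_3_2
                    have r_0 : -2 * T.m u0 + 2 * T.m u1 + 1 * T.m u2 = 0 := by
                      have key := Groth.Agent.Helper6.NT.rowfun4 T u0 u1 u2 u3 hinj u0
                      rw [(h2 u0).2, tap_0_1, tap_0_2, z_0_3] at key
                      exact mul_left_cancel₀ (T.w_pos u0).ne' (by linarith only [key])
                    have r_1 : 1 * T.m u0 + -2 * T.m u1 = 0 := by
                      have key := Groth.Agent.Helper6.NT.rowfun4 T u0 u1 u2 u3 hinj u1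
                      rw [Groth.Agent.Helper6.NT.symm' T u1 u0, taq_0_1, (h2 u1).2, z_1_2, z_1_3] at key
                      exact mul_left_cancel₀ (T.w_pos u1).ne' (by linarith only [key])
                    have r_2 : 1 * T.m u0 + -2 * T.m u2 + 2 * T.m u3 = 0 := by
                      have key := Groth.Agent.Helper6.NT.rowfun4 T u0 u1 u2 u3 hinj u2
                      rw [Groth.Agent.Helper6.NT.symm' T u2 u0, taq_0_2, Groth.Agent.Helper6.NT.symm' T u2 u1, z_1_2, (h2 u2).2, tap_2_3] at key
                      exact mul_left_cancel₀ (T.w_pos u2).ne' (by linarith only [key])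
                    have r_3 : 1 * T.m u2 + -2 * T.m u3 = 0 := by
                      have key := Groth.Agent.Helper6.NT.rowfun4 T u0 u1 u2 u3 hinj u3
                      rw [Groth.Agent.Helper6.NT.symm' T u3 u0, z_0_3, Groth.Agent.Helper6.NT.symm' T u3 u1, z_1_3, Groth.Agent.Helper6.NT.symm' T u3 u2, taq_2_3, (h2 u3).2] at key
                      exact mul_left_cancel₀ (T.w_pos u3).ne' (by linarith only [key])
                    have f0 : T.m u1 = T.m u1 := rfl
                    have f1 : T.m u0 = 2 * T.m u1 := by linarith only [r_0, r_1, r_2, r_3]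
                    have f2 : T.m u2 = 2 * T.m u1 := by linarith only [r_0, r_1, r_2, r_3]
                    have f3 : T.m u3 = T.m u1 := by linarith only [r_0, r_1, r_2, r_3]
                    have f4 : T.w u1 = 2 * T.w u0 := by linarith only [tw_0_1, tw_0_2, tw_2_3]
                    have f5 : T.w u0 = T.w u0 := rfl
                    have f6 : T.w u2 = T.w u0 := by linarith only [tw_0_1, tw_0_2, tw_2_3]
                    have f7 : T.w u3 = 2 * T.w u0 := by linarith only [tw_0_1, tw_0_2, tw_2_3]
                    have f8 : T.a u1 u1 = -4 * T.w u0 := by have := (h2 u1).2; linarith only [this, tw_0_1, tw_0_2, tw_2_3]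
                    have f9 : T.a u1 u0 = 2 * T.w u0 := by rw [Groth.Agent.Helper6.NT.symm' T u1 u0]; linarith only [tap_0_1, tw_0_1, tw_0_2, tw_2_3]
                    have f10 : T.a u1 u2 = 0 := by exact z_1_2
                    have f11 : T.a u1 u3 = 0 := by exact z_1_3
                    have f12 : T.a u0 u0 = -2 * T.w u0 := by have := (h2 u0).2; linarith only [this, tw_0_1, tw_0_2, tw_2_3]
                    have f13 : T.a u0 u2 = T.w u0 := by linarith only [tap_0_2, tw_0_1, tw_0_2, tw_2_3]
                    have f14 : T.a u0 u3 = 0 := by exact z_0_3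
                    have f15 : T.a u2 u2 = -2 * T.w u0 := by have := (h2 u2).2; linarith only [this, tw_0_1, tw_0_2, tw_2_3]
                    have f16 : T.a u2 u3 = 2 * T.w u0 := by linarith only [tap_2_3, tw_0_1, tw_0_2, tw_2_3]
                    have f17 : T.a u3 u3 = -4 * T.w u0 := by have := (h2 u3).2; linarith only [this, tw_0_1, tw_0_2, tw_2_3]
                    have hsig := Groth.Agent.Helper6.NT.inj4 u1 u0 u2 u3 hn_1_0.symm hn_2_1 hn_2_0 hn_3_1 hn_3_0 hn_3_2
                    exact ⟨Equiv.ofBijective _ (Finite.injective_iff_bijective.1 hsig), T.m u1, T.w u0, Or.inr (Or.inr (Or.inr (Or.inl ⟨f0, f1, f2, f3, f4, f5, f6, f7, f8, f9, f10, f11, f12, f13, f14, f15, f16, f17⟩)))⟩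
                  · -- (2,3) Dm
                    have hinj := Groth.Agent.Helper6.NT.inj4 u0 u1 u2 u3 hn_1_0 hn_2_0 hn_2_1 hn_3_0 hn_3_1 hn_3_2
                    have r_0 : -2 * T.m u0 + 2 * T.m u1 + 1 * T.m u2 = 0 := by
                      have key := Groth.Agent.Helper6.NT.rowfun4 T u0 u1 u2 u3 hinj u0
                      rw [(h2 u0).2, tap_0_1, tap_0_2, z_0_3] at key
                      exact mul_left_cancel₀ (T.w_pos u0).ne' (by linarith only [key])
                    have r_1 : 1 * T.m u0 + -2 * T.m u1 = 0 := by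
                      have key := Groth.Agent.Helper6.NT.rowfun4 T u0 u1 u2 u3 hinj u1
                      rw [Groth.Agent.Helper6.NT.symm' T u1 u0, taq_0_1, (h2 u1).2, z_1_2, z_1_3] at key
                      exact mul_left_cancel₀ (T.w_pos u1).ne' (by linarith only [key])
                    have r_2 : 1 * T.m u0 + -2 * T.m u2 + 1 * T.m u3 = 0 := by
                      have key := Groth.Agent.Helper6.NT.rowfun4 T u0 u1 u2 u3 hinj u2
                      rw [Groth.Agent.Helper6.NT.symm' T u2 u0, taq_0_2, Groth.Agent.Helper6.NT.symm' T u2 u1, z_1_2, (h2 u2).2, tap_2_3] at key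
                      exact mul_left_cancel₀ (T.w_pos u2).ne' (by linarith only [key])
                    have r_3 : 2 * T.m u2 + -2 * T.m u3 = 0 := by
                      have key := Groth.Agent.Helper6.NT.rowfun4 T u0 u1 u2 u3 hinj u3
                      rw [Groth.Agent.Helper6.NT.symm' T u3 u0, z_0_3, Groth.Agent.Helper6.NT.symm' T u3 u1, z_1_3, Groth.Agent.Helper6.NT.symm' T u3 u2, taq_2_3, (h2 u3).2] at key
                      exact mul_left_cancel₀ (T.w_pos u3).ne' (by linarith only [key])
                    have f0 : T.m u3 = 2 * T.m u1 := by linarith only [r_0, r_1, r_2, r_3]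
                    have f1 : T.m u2 = 2 * T.m u1 := by linarith only [r_0, r_1, r_2, r_3]
                    have f2 : T.m u0 = 2 * T.m u1 := by linarith only [r_0, r_1, r_2, r_3]
                    have f3 : T.m u1 = T.m u1 := rfl
                    have f4 : T.w u3 = T.w u3 := rfl
                    have f5 : T.w u2 = 2 * T.w u3 := by linarith only [tw_0_1, tw_0_2, tw_2_3]
                    have f6 : T.w u0 = 2 * T.w u3 := by linarith only [tw_0_1, tw_0_2, tw_2_3]
                    have f7 : T.w u1 = 4 * T.w u3 := by linarith only [tw_0_1, tw_0_2, tw_2_3]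
                    have f8 : T.a u3 u3 = -2 * T.w u3 := by have := (h2 u3).2; linarith only [this, tw_0_1, tw_0_2, tw_2_3]
                    have f9 : T.a u3 u2 = 2 * T.w u3 := by rw [Groth.Agent.Helper6.NT.symm' T u3 u2]; linarith only [tap_2_3, tw_0_1, tw_0_2, tw_2_3]
                    have f10 : T.a u3 u0 = 0 := by rw [Groth.Agent.Helper6.NT.symm' T u3 u0]; exact z_0_3
                    have f11 : T.a u3 u1 = 0 := by rw [Groth.Agent.Helper6.NT.symm' T u3 u1]; exact z_1_3
                    have f12 : T.a u2 u2 = -4 * T.w u3 := by have := (h2 u2).2; linarith only [this, tw_0_1, tw_0_2, tw_2_3]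
                    have f13 : T.a u2 u0 = 2 * T.w u3 := by rw [Groth.Agent.Helper6.NT.symm' T u2 u0]; linarith only [tap_0_2, tw_0_1, tw_0_2, tw_2_3]
                    have f14 : T.a u2 u1 = 0 := by rw [Groth.Agent.Helper6.NT.symm' T u2 u1]; exact z_1_2
                    have f15 : T.a u0 u0 = -4 * T.w u3 := by have := (h2 u0).2; linarith only [this, tw_0_1, tw_0_2, tw_2_3]
                    have f16 : T.a u0 u1 = 4 * T.w u3 := by linarith only [tap_0_1, tw_0_1, tw_0_2, tw_2_3]
                    have f17 : T.a u1 u1 = -8 * T.w u3 := by have := (h2 u1).2; linarith only [this, tw_0_1, tw_0_2, tw_2_3]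
                    have hsig := Groth.Agent.Helper6.NT.inj4 u3 u2 u0 u1 hn_3_2.symm hn_3_0.symm hn_2_0.symm hn_3_1.symm hn_2_1.symm hn_1_0
                    exact ⟨Equiv.ofBijective _ (Finite.injective_iff_bijective.1 hsig), T.m u1, T.w u3, Or.inr (Or.inl ⟨f0, f1, f2, f3, f4, f5, f6, f7, f8, f9, f10, f11, f12, f13, f14, f15, f16, f17⟩)⟩
                  · -- (2,3) Tp
                    exfalso
                    have key := Groth.Agent.Helper6.NT.negfun3 T h2 u0 u2 u3 (by norm_num) 1 2 1 (by norm_num) (by norm_num)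
                    linarith only [key, tap_0_2, taq_0_2, z_0_3, tap_2_3, taq_2_3, T.w_pos u0, T.w_pos u2, T.w_pos u3]
                  · -- (2,3) Tm
                    exfalso
                    have key := Groth.Agent.Helper6.NT.negfun3 T h2 u0 u2 u3 (by norm_num) 1 2 3 (by norm_num) (by norm_num)
                    linarith only [key, tap_0_2, taq_0_2, z_0_3, tap_2_3, taq_2_3, T.w_pos u0, T.w_pos u2, T.w_pos u3]
                · push Not at hx
                  have cl_2 := hx
                  clear hx
                  exfalso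
                  refine Groth.Agent.Helper6.NT.closed_contra T [u0, u1, u2] (by simp) (by simp) ?_
                  intro i hi j hj
                  simp only [List.mem_cons, List.not_mem_nil, or_false, not_or] at hi hj
                  rcases hi with rfl | rfl | rfl
                  · exact cl_0 j ⟨hj.1, hj.2.1, hj.2.2⟩
                  · exact cl_1 j ⟨hj.1, hj.2.1, hj.2.2⟩
                  · exact cl_2 j ⟨hj.1, hj.2.1, hj.2.2⟩
          · -- (1,2) nonzero
            obtain ⟨lbp_1_2, lbq_1_2⟩ := Groth.Agent.Helper6.NT.lb T u1 u2 hn_2_1.symm nz_1_2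
            exfalso
            have key := Groth.Agent.Helper6.NT.negfun3 T h2 u0 u1 u2 (by norm_num) 1 1 1 (by norm_num) (by norm_num)
            linarith only [key, tap_0_1, taq_0_1, tap_0_2, taq_0_2, lbp_1_2, lbq_1_2, T.w_pos u0, T.w_pos u1, T.w_pos u2]
        · -- (0,2) Dp
          exfalso
          have key := Groth.Agent.Helper6.NT.negfun3 T h2 u0 u1 u2 (by norm_num) 2 1 1 (by norm_num) (by norm_num)
          linarith only [key, tap_0_1, taq_0_1, tap_0_2, taq_0_2, T.offDiag_nonneg u1 u2 hn_2_1.symm, T.w_pos u0, T.w_pos u1, T.w_pos u2]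
        · -- (0,2) Dm
          exfalso
          have key := Groth.Agent.Helper6.NT.negfun3 T h2 u0 u1 u2 (by norm_num) 2 1 2 (by norm_num) (by norm_num)
          linarith only [key, tap_0_1, taq_0_1, tap_0_2, taq_0_2, T.offDiag_nonneg u1 u2 hn_2_1.symm, T.w_pos u0, T.w_pos u1, T.w_pos u2]
        · -- (0,2) Tp
          exfalso
          have key := Groth.Agent.Helper6.NT.negfun3 T h2 u0 u1 u2 (by norm_num) 2 1 1 (by norm_num) (by norm_num)
          linarith only [key, tap_0_1, taq_0_1, tap_0_2, taq_0_2, T.offDiag_nonneg u1 u2 hn_2_1.symm, T.w_pos u0, T.w_pos u1, T.w_pos u2]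
        · -- (0,2) Tm
          exfalso
          have key := Groth.Agent.Helper6.NT.negfun3 T h2 u0 u1 u2 (by norm_num) 2 1 3 (by norm_num) (by norm_num)
          linarith only [key, tap_0_1, taq_0_1, tap_0_2, taq_0_2, T.offDiag_nonneg u1 u2 hn_2_1.symm, T.w_pos u0, T.w_pos u1, T.w_pos u2]
      · push Not at hx
        have cl_0 := hx
        clear hx
        by_cases hx : ∃ j, (j ≠ u0 ∧ j ≠ u1) ∧ T.a u1 j ≠ 0
        · obtain ⟨u2, ⟨hn_2_0, hn_2_1⟩, e_1_2⟩ := hx
          have z_0_2 : T.a u0 u2 = 0 := cl_0 u2 ⟨hn_2_0, hn_2_1⟩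
          rcases Groth.Agent.Helper6.NT.edge5 T h2 (by norm_num) u1 u2 hn_2_1.symm e_1_2 with ⟨tw_1_2, tap_1_2, taq_1_2⟩ | ⟨tw_1_2, tap_1_2, taq_1_2⟩ | ⟨tw_1_2, tap_1_2, taq_1_2⟩ | ⟨tw_1_2, tap_1_2, taq_1_2⟩ | ⟨tw_1_2, tap_1_2, taq_1_2⟩
          · -- (1,2) S
            by_cases hx : ∃ j, (j ≠ u0 ∧ j ≠ u1 ∧ j ≠ u2) ∧ T.a u1 j ≠ 0
            · obtain ⟨u3, ⟨hn_3_0, hn_3_1, hn_3_2⟩, e_1_3⟩ := hx
              have z_0_3 : T.a u0 u3 = 0 := cl_0 u3 ⟨hn_3_0, hn_3_1⟩
              rcases Groth.Agent.Helper6.NT.edge5 T h2 (by norm_num) u1 u3 hn_3_1.symm e_1_3 with ⟨tw_1_3, tap_1_3, taq_1_3⟩ | ⟨tw_1_3, tap_1_3, taq_1_3⟩ | ⟨tw_1_3, tap_1_3, taq_1_3⟩ | ⟨tw_1_3, tap_1_3, taq_1_3⟩ | ⟨tw_1_3, tap_1_3, taq_1_3⟩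
              · -- (1,3) S
                rcases eq_or_ne (T.a u2 u3) 0 with z_2_3 | nz_2_3
                · -- (2,3) zero
                  have hinj := Groth.Agent.Helper6.NT.inj4 u0 u1 u2 u3 hn_1_0 hn_2_0 hn_2_1 hn_3_0 hn_3_1 hn_3_2
                  have r_0 : -2 * T.m u0 + 2 * T.m u1 = 0 := by
                    have key := Groth.Agent.Helper6.NT.rowfun4 T u0 u1 u2 u3 hinj u0
                    rw [(h2 u0).2, tap_0_1, z_0_2, z_0_3] at key
                    exact mul_left_cancel₀ (T.w_pos u0).ne' (by linarith only [key])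
                  have r_1 : 1 * T.m u0 + -2 * T.m u1 + 1 * T.m u2 + 1 * T.m u3 = 0 := by
                    have key := Groth.Agent.Helper6.NT.rowfun4 T u0 u1 u2 u3 hinj u1
                    rw [Groth.Agent.Helper6.NT.symm' T u1 u0, taq_0_1, (h2 u1).2, tap_1_2, tap_1_3] at key
                    exact mul_left_cancel₀ (T.w_pos u1).ne' (by linarith only [key])
                  have r_2 : 1 * T.m u1 + -2 * T.m u2 = 0 := by
                    have key := Groth.Agent.Helper6.NT.rowfun4 T u0 u1 u2 u3 hinj u2
                    rw [Groth.Agent.Helper6.NT.symm' T u2 u0, z_0_2, Groth.Agent.Helper6.NT.symm' T u2 u1, taq_1_2, (h2 u2).2, z_2_3] at key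
                    exact mul_left_cancel₀ (T.w_pos u2).ne' (by linarith only [key])
                  have r_3 : 1 * T.m u1 + -2 * T.m u3 = 0 := by
                    have key := Groth.Agent.Helper6.NT.rowfun4 T u0 u1 u2 u3 hinj u3
                    rw [Groth.Agent.Helper6.NT.symm' T u3 u0, z_0_3, Groth.Agent.Helper6.NT.symm' T u3 u1, taq_1_3, Groth.Agent.Helper6.NT.symm' T u3 u2, z_2_3, (h2 u3).2] at key
                    exact mul_left_cancel₀ (T.w_pos u3).ne' (by linarith only [key])
                  have f0 : T.m u1 = 2 * T.m u2 := by linarith only [r_0, r_1, r_2, r_3]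
                  have f1 : T.m u2 = T.m u2 := rfl
                  have f2 : T.m u3 = T.m u2 := by linarith only [r_0, r_1, r_2, r_3]
                  have f3 : T.m u0 = 2 * T.m u2 := by linarith only [r_0, r_1, r_2, r_3]
                  have f4 : T.w u1 = 2 * T.w u0 := by linarith only [tw_0_1, tw_1_2, tw_1_3]
                  have f5 : T.w u2 = 2 * T.w u0 := by linarith only [tw_0_1, tw_1_2, tw_1_3]
                  have f6 : T.w u3 = 2 * T.w u0 := by linarith only [tw_0_1, tw_1_2, tw_1_3]
                  have f7 : T.w u0 = T.w u0 := rfl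
                  have f8 : T.a u1 u1 = -4 * T.w u0 := by have := (h2 u1).2; linarith only [this, tw_0_1, tw_1_2, tw_1_3]
                  have f9 : T.a u1 u2 = 2 * T.w u0 := by linarith only [tap_1_2, tw_0_1, tw_1_2, tw_1_3]
                  have f10 : T.a u1 u3 = 2 * T.w u0 := by linarith only [tap_1_3, tw_0_1, tw_1_2, tw_1_3]
                  have f11 : T.a u1 u0 = 2 * T.w u0 := by rw [Groth.Agent.Helper6.NT.symm' T u1 u0]; linarith only [tap_0_1, tw_0_1, tw_1_2, tw_1_3]
                  have f12 : T.a u2 u2 = -4 * T.w u0 := by have := (h2 u2).2; linarith only [this, tw_0_1, tw_1_2, tw_1_3]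
                  have f13 : T.a u2 u3 = 0 := by exact z_2_3
                  have f14 : T.a u2 u0 = 0 := by rw [Groth.Agent.Helper6.NT.symm' T u2 u0]; exact z_0_2
                  have f15 : T.a u3 u3 = -4 * T.w u0 := by have := (h2 u3).2; linarith only [this, tw_0_1, tw_1_2, tw_1_3]
                  have f16 : T.a u3 u0 = 0 := by rw [Groth.Agent.Helper6.NT.symm' T u3 u0]; exact z_0_3
                  have f17 : T.a u0 u0 = -2 * T.w u0 := by have := (h2 u0).2; linarith only [this, tw_0_1, tw_1_2, tw_1_3]
                  have hsig := Groth.Agent.Helper6.NT.inj4 u1 u2 u3 u0 hn_2_1 hn_3_1 hn_3_2 hn_1_0.symm hn_2_0.symm hn_3_0.symm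
                  exact ⟨Equiv.ofBijective _ (Finite.injective_iff_bijective.1 hsig), T.m u2, T.w u0, Or.inr (Or.inr (Or.inr (Or.inr (Or.inr (⟨f0, f1, f2, f3, f4, f5, f6, f7, f8, f9, f10, f11, f12, f13, f14, f15, f16, f17⟩)))))⟩
                · -- (2,3) nonzero
                  obtain ⟨lbp_2_3, lbq_2_3⟩ := Groth.Agent.Helper6.NT.lb T u2 u3 hn_3_2.symm nz_2_3
                  exfalso
                  have key := Groth.Agent.Helper6.NT.negfun3 T h2 u1 u2 u3 (by norm_num) 1 1 1 (by norm_num) (by norm_num)
                  linarith only [key, tap_1_2, taq_1_2, tap_1_3, taq_1_3, lbp_2_3, lbq_2_3, T.w_pos u1, T.w_pos u2, T.w_pos u3]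
              · -- (1,3) Dp
                exfalso
                have key := Groth.Agent.Helper6.NT.negfun3 T h2 u0 u1 u3 (by norm_num) 2 2 1 (by norm_num) (by norm_num)
                linarith only [key, tap_0_1, taq_0_1, z_0_3, tap_1_3, taq_1_3, T.w_pos u0, T.w_pos u1, T.w_pos u3]
              · -- (1,3) Dm
                exfalso
                have key := Groth.Agent.Helper6.NT.negfun3 T h2 u0 u1 u3 (by norm_num) 1 1 1 (by norm_num) (by norm_num)
                linarith only [key, tap_0_1, taq_0_1, z_0_3, tap_1_3, taq_1_3, T.w_pos u0, T.w_pos u1, T.w_pos u3]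
              · -- (1,3) Tp
                exfalso
                have key := Groth.Agent.Helper6.NT.negfun3 T h2 u1 u2 u3 (by norm_num) 2 1 1 (by norm_num) (by norm_num)
                linarith only [key, tap_1_2, taq_1_2, tap_1_3, taq_1_3, T.offDiag_nonneg u2 u3 hn_3_2.symm, T.w_pos u1, T.w_pos u2, T.w_pos u3]
              · -- (1,3) Tm
                exfalso
                have key := Groth.Agent.Helper6.NT.negfun3 T h2 u1 u2 u3 (by norm_num) 2 1 3 (by norm_num) (by norm_num)
                linarith only [key, tap_1_2, taq_1_2, tap_1_3, taq_1_3, T.offDiag_nonneg u2 u3 hn_3_2.symm, T.w_pos u1, T.w_pos u2, T.w_pos u3]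
            · push Not at hx
              have cl_1 := hx
              clear hx
              by_cases hx : ∃ j, (j ≠ u0 ∧ j ≠ u1 ∧ j ≠ u2) ∧ T.a u2 j ≠ 0
              · obtain ⟨u3, ⟨hn_3_0, hn_3_1, hn_3_2⟩, e_2_3⟩ := hx
                have z_0_3 : T.a u0 u3 = 0 := cl_0 u3 ⟨hn_3_0, hn_3_1⟩
                have z_1_3 : T.a u1 u3 = 0 := cl_1 u3 ⟨hn_3_0, hn_3_1, hn_3_2⟩
                rcases Groth.Agent.Helper6.NT.edge5 T h2 (by norm_num) u2 u3 hn_3_2.symm e_2_3 with ⟨tw_2_3, tap_2_3, taq_2_3⟩ | ⟨tw_2_3, tap_2_3, taq_2_3⟩ | ⟨tw_2_3, tap_2_3, taq_2_3⟩ | ⟨tw_2_3, tap_2_3, taq_2_3⟩ | ⟨tw_2_3, tap_2_3, taq_2_3⟩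
                · -- (2,3) S
                  have hinj := Groth.Agent.Helper6.NT.inj4 u0 u1 u2 u3 hn_1_0 hn_2_0 hn_2_1 hn_3_0 hn_3_1 hn_3_2
                  have r_0 : -2 * T.m u0 + 2 * T.m u1 = 0 := by
                    have key := Groth.Agent.Helper6.NT.rowfun4 T u0 u1 u2 u3 hinj u0
                    rw [(h2 u0).2, tap_0_1, z_0_2, z_0_3] at key
                    exact mul_left_cancel₀ (T.w_pos u0).ne' (by linarith only [key])
                  have r_1 : 1 * T.m u0 + -2 * T.m u1 + 1 * T.m u2 = 0 := by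
                    have key := Groth.Agent.Helper6.NT.rowfun4 T u0 u1 u2 u3 hinj u1
                    rw [Groth.Agent.Helper6.NT.symm' T u1 u0, taq_0_1, (h2 u1).2, tap_1_2, z_1_3] at key
                    exact mul_left_cancel₀ (T.w_pos u1).ne' (by linarith only [key])
                  have r_2 : 1 * T.m u1 + -2 * T.m u2 + 1 * T.m u3 = 0 := by
                    have key := Groth.Agent.Helper6.NT.rowfun4 T u0 u1 u2 u3 hinj u2
                    rw [Groth.Agent.Helper6.NT.symm' T u2 u0, z_0_2, Groth.Agent.Helper6.NT.symm' T u2 u1, taq_1_2, (h2 u2).2, tap_2_3] at key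
                    exact mul_left_cancel₀ (T.w_pos u2).ne' (by linarith only [key])
                  have r_3 : 1 * T.m u2 + -2 * T.m u3 = 0 := by
                    have key := Groth.Agent.Helper6.NT.rowfun4 T u0 u1 u2 u3 hinj u3
                    rw [Groth.Agent.Helper6.NT.symm' T u3 u0, z_0_3, Groth.Agent.Helper6.NT.symm' T u3 u1, z_1_3, Groth.Agent.Helper6.NT.symm' T u3 u2, taq_2_3, (h2 u3).2] at key
                    exact mul_left_cancel₀ (T.w_pos u3).ne' (by linarith only [key])
                  exfalso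
                  linarith only [r_0, r_1, r_2, r_3, T.m_pos u0, T.m_pos u1, T.m_pos u2, T.m_pos u3]
                · -- (2,3) Dp
                  have hinj := Groth.Agent.Helper6.NT.inj4 u0 u1 u2 u3 hn_1_0 hn_2_0 hn_2_1 hn_3_0 hn_3_1 hn_3_2
                  have r_0 : -2 * T.m u0 + 2 * T.m u1 = 0 := by
                    have key := Groth.Agent.Helper6.NT.rowfun4 T u0 u1 u2 u3 hinj u0
                    rw [(h2 u0).2, tap_0_1, z_0_2, z_0_3] at key
                    exact mul_left_cancel₀ (T.w_pos u0).ne' (by linarith only [key])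
                  have r_1 : 1 * T.m u0 + -2 * T.m u1 + 1 * T.m u2 = 0 := by
                    have key := Groth.Agent.Helper6.NT.rowfun4 T u0 u1 u2 u3 hinj u1
                    rw [Groth.Agent.Helper6.NT.symm' T u1 u0, taq_0_1, (h2 u1).2, tap_1_2, z_1_3] at key
                    exact mul_left_cancel₀ (T.w_pos u1).ne' (by linarith only [key])
                  have r_2 : 1 * T.m u1 + -2 * T.m u2 + 2 * T.m u3 = 0 := by
                    have key := Groth.Agent.Helper6.NT.rowfun4 T u0 u1 u2 u3 hinj u2
                    rw [Groth.Agent.Helper6.NT.symm' T u2 u0, z_0_2, Groth.Agent.Helper6.NT.symm' T u2 u1, taq_1_2, (h2 u2).2, tap_2_3] at key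
                    exact mul_left_cancel₀ (T.w_pos u2).ne' (by linarith only [key])
                  have r_3 : 1 * T.m u2 + -2 * T.m u3 = 0 := by
                    have key := Groth.Agent.Helper6.NT.rowfun4 T u0 u1 u2 u3 hinj u3
                    rw [Groth.Agent.Helper6.NT.symm' T u3 u0, z_0_3, Groth.Agent.Helper6.NT.symm' T u3 u1, z_1_3, Groth.Agent.Helper6.NT.symm' T u3 u2, taq_2_3, (h2 u3).2] at key
                    exact mul_left_cancel₀ (T.w_pos u3).ne' (by linarith only [key])
                  have f0 : T.m u0 = 2 * T.m u3 := by linarith only [r_0, r_1, r_2, r_3]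
                  have f1 : T.m u1 = 2 * T.m u3 := by linarith only [r_0, r_1, r_2, r_3]
                  have f2 : T.m u2 = 2 * T.m u3 := by linarith only [r_0, r_1, r_2, r_3]
                  have f3 : T.m u3 = T.m u3 := rfl
                  have f4 : T.w u0 = T.w u0 := rfl
                  have f5 : T.w u1 = 2 * T.w u0 := by linarith only [tw_0_1, tw_1_2, tw_2_3]
                  have f6 : T.w u2 = 2 * T.w u0 := by linarith only [tw_0_1, tw_1_2, tw_2_3]
                  have f7 : T.w u3 = 4 * T.w u0 := by linarith only [tw_0_1, tw_1_2, tw_2_3]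
                  have f8 : T.a u0 u0 = -2 * T.w u0 := by have := (h2 u0).2; linarith only [this, tw_0_1, tw_1_2, tw_2_3]
                  have f9 : T.a u0 u1 = 2 * T.w u0 := by linarith only [tap_0_1, tw_0_1, tw_1_2, tw_2_3]
                  have f10 : T.a u0 u2 = 0 := by exact z_0_2
                  have f11 : T.a u0 u3 = 0 := by exact z_0_3
                  have f12 : T.a u1 u1 = -4 * T.w u0 := by have := (h2 u1).2; linarith only [this, tw_0_1, tw_1_2, tw_2_3]
                  have f13 : T.a u1 u2 = 2 * T.w u0 := by linarith only [tap_1_2, tw_0_1, tw_1_2, tw_2_3]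
                  have f14 : T.a u1 u3 = 0 := by exact z_1_3
                  have f15 : T.a u2 u2 = -4 * T.w u0 := by have := (h2 u2).2; linarith only [this, tw_0_1, tw_1_2, tw_2_3]
                  have f16 : T.a u2 u3 = 4 * T.w u0 := by linarith only [tap_2_3, tw_0_1, tw_1_2, tw_2_3]
                  have f17 : T.a u3 u3 = -8 * T.w u0 := by have := (h2 u3).2; linarith only [this, tw_0_1, tw_1_2, tw_2_3]
                  have hsig := Groth.Agent.Helper6.NT.inj4 u0 u1 u2 u3 hn_1_0 hn_2_0 hn_2_1 hn_3_0 hn_3_1 hn_3_2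
                  exact ⟨Equiv.ofBijective _ (Finite.injective_iff_bijective.1 hsig), T.m u3, T.w u0, Or.inr (Or.inl ⟨f0, f1, f2, f3, f4, f5, f6, f7, f8, f9, f10, f11, f12, f13, f14, f15, f16, f17⟩)⟩
                · -- (2,3) Dm
                  have hinj := Groth.Agent.Helper6.NT.inj4 u0 u1 u2 u3 hn_1_0 hn_2_0 hn_2_1 hn_3_0 hn_3_1 hn_3_2
                  have r_0 : -2 * T.m u0 + 2 * T.m u1 = 0 := by
                    have key := Groth.Agent.Helper6.NT.rowfun4 T u0 u1 u2 u3 hinj u0
                    rw [(h2 u0).2, tap_0_1, z_0_2, z_0_3] at key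
                    exact mul_left_cancel₀ (T.w_pos u0).ne' (by linarith only [key])
                  have r_1 : 1 * T.m u0 + -2 * T.m u1 + 1 * T.m u2 = 0 := by
                    have key := Groth.Agent.Helper6.NT.rowfun4 T u0 u1 u2 u3 hinj u1
                    rw [Groth.Agent.Helper6.NT.symm' T u1 u0, taq_0_1, (h2 u1).2, tap_1_2, z_1_3] at key
                    exact mul_left_cancel₀ (T.w_pos u1).ne' (by linarith only [key])
                  have r_2 : 1 * T.m u1 + -2 * T.m u2 + 1 * T.m u3 = 0 := by
                    have key := Groth.Agent.Helper6.NT.rowfun4 T u0 u1 u2 u3 hinj u2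
                    rw [Groth.Agent.Helper6.NT.symm' T u2 u0, z_0_2, Groth.Agent.Helper6.NT.symm' T u2 u1, taq_1_2, (h2 u2).2, tap_2_3] at key
                    exact mul_left_cancel₀ (T.w_pos u2).ne' (by linarith only [key])
                  have r_3 : 2 * T.m u2 + -2 * T.m u3 = 0 := by
                    have key := Groth.Agent.Helper6.NT.rowfun4 T u0 u1 u2 u3 hinj u3
                    rw [Groth.Agent.Helper6.NT.symm' T u3 u0, z_0_3, Groth.Agent.Helper6.NT.symm' T u3 u1, z_1_3, Groth.Agent.Helper6.NT.symm' T u3 u2, taq_2_3, (h2 u3).2] at key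
                    exact mul_left_cancel₀ (T.w_pos u3).ne' (by linarith only [key])
                  have f0 : T.m u0 = T.m u0 := rfl
                  have f1 : T.m u1 = T.m u0 := by linarith only [r_0, r_1, r_2, r_3]
                  have f2 : T.m u2 = T.m u0 := by linarith only [r_0, r_1, r_2, r_3]
                  have f3 : T.m u3 = T.m u0 := by linarith only [r_0, r_1, r_2, r_3]
                  have f4 : T.w u0 = T.w u0 := rfl
                  have f5 : T.w u1 = 2 * T.w u0 := by linarith only [tw_0_1, tw_1_2, tw_2_3]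
                  have f6 : T.w u2 = 2 * T.w u0 := by linarith only [tw_0_1, tw_1_2, tw_2_3]
                  have f7 : T.w u3 = T.w u0 := by linarith only [tw_0_1, tw_1_2, tw_2_3]
                  have f8 : T.a u0 u0 = -2 * T.w u0 := by have := (h2 u0).2; linarith only [this, tw_0_1, tw_1_2, tw_2_3]
                  have f9 : T.a u0 u1 = 2 * T.w u0 := by linarith only [tap_0_1, tw_0_1, tw_1_2, tw_2_3]
                  have f10 : T.a u0 u2 = 0 := by exact z_0_2
                  have f11 : T.a u0 u3 = 0 := by exact z_0_3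
                  have f12 : T.a u1 u1 = -4 * T.w u0 := by have := (h2 u1).2; linarith only [this, tw_0_1, tw_1_2, tw_2_3]
                  have f13 : T.a u1 u2 = 2 * T.w u0 := by linarith only [tap_1_2, tw_0_1, tw_1_2, tw_2_3]
                  have f14 : T.a u1 u3 = 0 := by exact z_1_3
                  have f15 : T.a u2 u2 = -4 * T.w u0 := by have := (h2 u2).2; linarith only [this, tw_0_1, tw_1_2, tw_2_3]
                  have f16 : T.a u2 u3 = 2 * T.w u0 := by linarith only [tap_2_3, tw_0_1, tw_1_2, tw_2_3]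
                  have f17 : T.a u3 u3 = -2 * T.w u0 := by have := (h2 u3).2; linarith only [this, tw_0_1, tw_1_2, tw_2_3]
                  have hsig := Groth.Agent.Helper6.NT.inj4 u0 u1 u2 u3 hn_1_0 hn_2_0 hn_2_1 hn_3_0 hn_3_1 hn_3_2
                  exact ⟨Equiv.ofBijective _ (Finite.injective_iff_bijective.1 hsig), T.m u0, T.w u0, Or.inr (Or.inr (Or.inl ⟨f0, f1, f2, f3, f4, f5, f6, f7, f8, f9, f10, f11, f12, f13, f14, f15, f16, f17⟩))⟩
                · -- (2,3) Tp
                  exfalso
                  have key := Groth.Agent.Helper6.NT.negfun3 T h2 u1 u2 u3 (by norm_num) 1 2 1 (by norm_num) (by norm_num)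
                  linarith only [key, tap_1_2, taq_1_2, z_1_3, tap_2_3, taq_2_3, T.w_pos u1, T.w_pos u2, T.w_pos u3]
                · -- (2,3) Tm
                  exfalso
                  have key := Groth.Agent.Helper6.NT.negfun3 T h2 u1 u2 u3 (by norm_num) 1 2 3 (by norm_num) (by norm_num)
                  linarith only [key, tap_1_2, taq_1_2, z_1_3, tap_2_3, taq_2_3, T.w_pos u1, T.w_pos u2, T.w_pos u3]
              · push Not at hx
                have cl_2 := hx
                clear hx
                exfalso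
                refine Groth.Agent.Helper6.NT.closed_contra T [u0, u1, u2] (by simp) (by simp) ?_
                intro i hi j hj
                simp only [List.mem_cons, List.not_mem_nil, or_false, not_or] at hi hj
                rcases hi with rfl | rfl | rfl
                · exact cl_0 j ⟨hj.1, hj.2.1⟩
                · exact cl_1 j ⟨hj.1, hj.2.1, hj.2.2⟩
                · exact cl_2 j ⟨hj.1, hj.2.1, hj.2.2⟩
          · -- (1,2) Dp
            exfalso
            have key := Groth.Agent.Helper6.NT.negfun3 T h2 u0 u1 u2 (by norm_num) 2 2 1 (by norm_num) (by norm_num)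
            linarith only [key, tap_0_1, taq_0_1, z_0_2, tap_1_2, taq_1_2, T.w_pos u0, T.w_pos u1, T.w_pos u2]
          · -- (1,2) Dm
            exfalso
            have key := Groth.Agent.Helper6.NT.negfun3 T h2 u0 u1 u2 (by norm_num) 1 1 1 (by norm_num) (by norm_num)
            linarith only [key, tap_0_1, taq_0_1, z_0_2, tap_1_2, taq_1_2, T.w_pos u0, T.w_pos u1, T.w_pos u2]
          · -- (1,2) Tp
            exfalso
            have key := Groth.Agent.Helper6.NT.negfun3 T h2 u0 u1 u2 (by norm_num) 2 2 1 (by norm_num) (by norm_num)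
            linarith only [key, tap_0_1, taq_0_1, z_0_2, tap_1_2, taq_1_2, T.w_pos u0, T.w_pos u1, T.w_pos u2]
          · -- (1,2) Tm
            exfalso
            have key := Groth.Agent.Helper6.NT.negfun3 T h2 u0 u1 u2 (by norm_num) 2 2 3 (by norm_num) (by norm_num)
            linarith only [key, tap_0_1, taq_0_1, z_0_2, tap_1_2, taq_1_2, T.w_pos u0, T.w_pos u1, T.w_pos u2]
        · push Not at hx
          have cl_1 := hx
          clear hx
          exfalso
          refine Groth.Agent.Helper6.NT.closed_contra T [u0, u1] (by simp) (by simp) ?_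
          intro i hi j hj
          simp only [List.mem_cons, List.not_mem_nil, or_false, not_or] at hi hj
          rcases hi with rfl | rfl
          · exact cl_0 j ⟨hj.1, hj.2⟩
          · exact cl_1 j ⟨hj.1, hj.2⟩
    · -- (0,1) Dm
      by_cases hx : ∃ j, (j ≠ u0 ∧ j ≠ u1) ∧ T.a u0 j ≠ 0
      · obtain ⟨u2, ⟨hn_2_0, hn_2_1⟩, e_0_2⟩ := hx
        rcases Groth.Agent.Helper6.NT.edge5 T h2 (by norm_num) u0 u2 hn_2_0.symm e_0_2 with ⟨tw_0_2, tap_0_2, taq_0_2⟩ | ⟨tw_0_2, tap_0_2, taq_0_2⟩ | ⟨tw_0_2, tap_0_2, taq_0_2⟩ | ⟨tw_0_2, tap_0_2, taq_0_2⟩ | ⟨tw_0_2, tap_0_2, taq_0_2⟩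
        · -- (0,2) S
          rcases eq_or_ne (T.a u1 u2) 0 with z_1_2 | nz_1_2
          · -- (1,2) zero
            by_cases hx : ∃ j, (j ≠ u0 ∧ j ≠ u1 ∧ j ≠ u2) ∧ T.a u0 j ≠ 0
            · obtain ⟨u3, ⟨hn_3_0, hn_3_1, hn_3_2⟩, e_0_3⟩ := hx
              rcases Groth.Agent.Helper6.NT.edge5 T h2 (by norm_num) u0 u3 hn_3_0.symm e_0_3 with ⟨tw_0_3, tap_0_3, taq_0_3⟩ | ⟨tw_0_3, tap_0_3, taq_0_3⟩ | ⟨tw_0_3, tap_0_3, taq_0_3⟩ | ⟨tw_0_3, tap_0_3, taq_0_3⟩ | ⟨tw_0_3, tap_0_3, taq_0_3⟩
              · -- (0,3) S
                rcases eq_or_ne (T.a u1 u3) 0 with z_1_3 | nz_1_3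
                · -- (1,3) zero
                  rcases eq_or_ne (T.a u2 u3) 0 with z_2_3 | nz_2_3
                  · -- (2,3) zero
                    have hinj := Groth.Agent.Helper6.NT.inj4 u0 u1 u2 u3 hn_1_0 hn_2_0 hn_2_1 hn_3_0 hn_3_1 hn_3_2
                    have r_0 : -2 * T.m u0 + 1 * T.m u1 + 1 * T.m u2 + 1 * T.m u3 = 0 := by
                      have key := Groth.Agent.Helper6.NT.rowfun4 T u0 u1 u2 u3 hinj u0
                      rw [(h2 u0).2, tap_0_1, tap_0_2, tap_0_3] at key
                      exact mul_left_cancel₀ (T.w_pos u0).ne' (by linarith only [key])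
                    have r_1 : 2 * T.m u0 + -2 * T.m u1 = 0 := by
                      have key := Groth.Agent.Helper6.NT.rowfun4 T u0 u1 u2 u3 hinj u1
                      rw [Groth.Agent.Helper6.NT.symm' T u1 u0, taq_0_1, (h2 u1).2, z_1_2, z_1_3] at key
                      exact mul_left_cancel₀ (T.w_pos u1).ne' (by linarith only [key])
                    have r_2 : 1 * T.m u0 + -2 * T.m u2 = 0 := by
                      have key := Groth.Agent.Helper6.NT.rowfun4 T u0 u1 u2 u3 hinj u2
                      rw [Groth.Agent.Helper6.NT.symm' T u2 u0, taq_0_2, Groth.Agent.Helper6.NT.symm' T u2 u1, z_1_2, (h2 u2).2, z_2_3] at key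
                      exact mul_left_cancel₀ (T.w_pos u2).ne' (by linarith only [key])
                    have r_3 : 1 * T.m u0 + -2 * T.m u3 = 0 := by
                      have key := Groth.Agent.Helper6.NT.rowfun4 T u0 u1 u2 u3 hinj u3
                      rw [Groth.Agent.Helper6.NT.symm' T u3 u0, taq_0_3, Groth.Agent.Helper6.NT.symm' T u3 u1, z_1_3, Groth.Agent.Helper6.NT.symm' T u3 u2, z_2_3, (h2 u3).2] at key
                      exact mul_left_cancel₀ (T.w_pos u3).ne' (by linarith only [key])
                    have f0 : T.m u0 = 2 * T.m u2 := by linarith only [r_0, r_1, r_2, r_3]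
                    have f1 : T.m u2 = T.m u2 := rfl
                    have f2 : T.m u3 = T.m u2 := by linarith only [r_0, r_1, r_2, r_3]
                    have f3 : T.m u1 = 2 * T.m u2 := by linarith only [r_0, r_1, r_2, r_3]
                    have f4 : T.w u0 = 2 * T.w u1 := by linarith only [tw_0_1, tw_0_2, tw_0_3]
                    have f5 : T.w u2 = 2 * T.w u1 := by linarith only [tw_0_1, tw_0_2, tw_0_3]
                    have f6 : T.w u3 = 2 * T.w u1 := by linarith only [tw_0_1, tw_0_2, tw_0_3]
                    have f7 : T.w u1 = T.w u1 := rfl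
                    have f8 : T.a u0 u0 = -4 * T.w u1 := by have := (h2 u0).2; linarith only [this, tw_0_1, tw_0_2, tw_0_3]
                    have f9 : T.a u0 u2 = 2 * T.w u1 := by linarith only [tap_0_2, tw_0_1, tw_0_2, tw_0_3]
                    have f10 : T.a u0 u3 = 2 * T.w u1 := by linarith only [tap_0_3, tw_0_1, tw_0_2, tw_0_3]
                    have f11 : T.a u0 u1 = 2 * T.w u1 := by linarith only [tap_0_1, tw_0_1, tw_0_2, tw_0_3]
                    have f12 : T.a u2 u2 = -4 * T.w u1 := by have := (h2 u2).2; linarith only [this, tw_0_1, tw_0_2, tw_0_3]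
                    have f13 : T.a u2 u3 = 0 := by exact z_2_3
                    have f14 : T.a u2 u1 = 0 := by rw [Groth.Agent.Helper6.NT.symm' T u2 u1]; exact z_1_2
                    have f15 : T.a u3 u3 = -4 * T.w u1 := by have := (h2 u3).2; linarith only [this, tw_0_1, tw_0_2, tw_0_3]
                    have f16 : T.a u3 u1 = 0 := by rw [Groth.Agent.Helper6.NT.symm' T u3 u1]; exact z_1_3
                    have f17 : T.a u1 u1 = -2 * T.w u1 := by have := (h2 u1).2; linarith only [this, tw_0_1, tw_0_2, tw_0_3]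
                    have hsig := Groth.Agent.Helper6.NT.inj4 u0 u2 u3 u1 hn_2_0 hn_3_0 hn_3_2 hn_1_0 hn_2_1.symm hn_3_1.symm
                    exact ⟨Equiv.ofBijective _ (Finite.injective_iff_bijective.1 hsig), T.m u2, T.w u1, Or.inr (Or.inr (Or.inr (Or.inr (Or.inr (⟨f0, f1, f2, f3, f4, f5, f6, f7, f8, f9, f10, f11, f12, f13, f14, f15, f16, f17⟩)))))⟩
                  · -- (2,3) nonzero
                    obtain ⟨lbp_2_3, lbq_2_3⟩ := Groth.Agent.Helper6.NT.lb T u2 u3 hn_3_2.symm nz_2_3
                    exfalso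
                    have key := Groth.Agent.Helper6.NT.negfun3 T h2 u0 u2 u3 (by norm_num) 1 1 1 (by norm_num) (by norm_num)
                    linarith only [key, tap_0_2, taq_0_2, tap_0_3, taq_0_3, lbp_2_3, lbq_2_3, T.w_pos u0, T.w_pos u2, T.w_pos u3]
                · -- (1,3) nonzero
                  obtain ⟨lbp_1_3, lbq_1_3⟩ := Groth.Agent.Helper6.NT.lb T u1 u3 hn_3_1.symm nz_1_3
                  exfalso
                  have key := Groth.Agent.Helper6.NT.negfun3 T h2 u0 u1 u3 (by norm_num) 1 1 1 (by norm_num) (by norm_num)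
                  linarith only [key, tap_0_1, taq_0_1, tap_0_3, taq_0_3, lbp_1_3, lbq_1_3, T.w_pos u0, T.w_pos u1, T.w_pos u3]
              · -- (0,3) Dp
                exfalso
                have key := Groth.Agent.Helper6.NT.negfun3 T h2 u0 u1 u3 (by norm_num) 2 2 1 (by norm_num) (by norm_num)
                linarith only [key, tap_0_1, taq_0_1, tap_0_3, taq_0_3, T.offDiag_nonneg u1 u3 hn_3_1.symm, T.w_pos u0, T.w_pos u1, T.w_pos u3]
              · -- (0,3) Dm
                exfalso
                have key := Groth.Agent.Helper6.NT.negfun3 T h2 u0 u1 u3 (by norm_num) 1 1 1 (by norm_num) (by norm_num)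
                linarith only [key, tap_0_1, taq_0_1, tap_0_3, taq_0_3, T.offDiag_nonneg u1 u3 hn_3_1.symm, T.w_pos u0, T.w_pos u1, T.w_pos u3]
              · -- (0,3) Tp
                exfalso
                have key := Groth.Agent.Helper6.NT.negfun3 T h2 u0 u2 u3 (by norm_num) 2 1 1 (by norm_num) (by norm_num)
                linarith only [key, tap_0_2, taq_0_2, tap_0_3, taq_0_3, T.offDiag_nonneg u2 u3 hn_3_2.symm, T.w_pos u0, T.w_pos u2, T.w_pos u3]
              · -- (0,3) Tm
                exfalso
                have key := Groth.Agent.Helper6.NT.negfun3 T h2 u0 u2 u3 (by norm_num) 2 1 3 (by norm_num) (by norm_num)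
                linarith only [key, tap_0_2, taq_0_2, tap_0_3, taq_0_3, T.offDiag_nonneg u2 u3 hn_3_2.symm, T.w_pos u0, T.w_pos u2, T.w_pos u3]
            · push Not at hx
              have cl_0 := hx
              clear hx
              by_cases hx : ∃ j, (j ≠ u0 ∧ j ≠ u1 ∧ j ≠ u2) ∧ T.a u1 j ≠ 0
              · obtain ⟨u3, ⟨hn_3_0, hn_3_1, hn_3_2⟩, e_1_3⟩ := hx
                have z_0_3 : T.a u0 u3 = 0 := cl_0 u3 ⟨hn_3_0, hn_3_1, hn_3_2⟩
                rcases Groth.Agent.Helper6.NT.edge5 T h2 (by norm_num) u1 u3 hn_3_1.symm e_1_3 with ⟨tw_1_3, tap_1_3, taq_1_3⟩ | ⟨tw_1_3, tap_1_3, taq_1_3⟩ | ⟨tw_1_3, tap_1_3, taq_1_3⟩ | ⟨tw_1_3, tap_1_3, taq_1_3⟩ | ⟨tw_1_3, tap_1_3, taq_1_3⟩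
                · -- (1,3) S
                  rcases eq_or_ne (T.a u2 u3) 0 with z_2_3 | nz_2_3
                  · -- (2,3) zero
                    have hinj := Groth.Agent.Helper6.NT.inj4 u0 u1 u2 u3 hn_1_0 hn_2_0 hn_2_1 hn_3_0 hn_3_1 hn_3_2
                    have r_0 : -2 * T.m u0 + 1 * T.m u1 + 1 * T.m u2 = 0 := by
                      have key := Groth.Agent.Helper6.NT.rowfun4 T u0 u1 u2 u3 hinj u0
                      rw [(h2 u0).2, tap_0_1, tap_0_2, z_0_3] at key
                      exact mul_left_cancel₀ (T.w_pos u0).ne' (by linarith only [key])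
                    have r_1 : 2 * T.m u0 + -2 * T.m u1 + 1 * T.m u3 = 0 := by
                      have key := Groth.Agent.Helper6.NT.rowfun4 T u0 u1 u2 u3 hinj u1
                      rw [Groth.Agent.Helper6.NT.symm' T u1 u0, taq_0_1, (h2 u1).2, z_1_2, tap_1_3] at key
                      exact mul_left_cancel₀ (T.w_pos u1).ne' (by linarith only [key])
                    have r_2 : 1 * T.m u0 + -2 * T.m u2 = 0 := by
                      have key := Groth.Agent.Helper6.NT.rowfun4 T u0 u1 u2 u3 hinj u2
                      rw [Groth.Agent.Helper6.NT.symm' T u2 u0, taq_0_2, Groth.Agent.Helper6.NT.symm' T u2 u1, z_1_2, (h2 u2).2, z_2_3] at key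
                      exact mul_left_cancel₀ (T.w_pos u2).ne' (by linarith only [key])
                    have r_3 : 1 * T.m u1 + -2 * T.m u3 = 0 := by
                      have key := Groth.Agent.Helper6.NT.rowfun4 T u0 u1 u2 u3 hinj u3
                      rw [Groth.Agent.Helper6.NT.symm' T u3 u0, z_0_3, Groth.Agent.Helper6.NT.symm' T u3 u1, taq_1_3, Groth.Agent.Helper6.NT.symm' T u3 u2, z_2_3, (h2 u3).2] at key
                      exact mul_left_cancel₀ (T.w_pos u3).ne' (by linarith only [key])
                    exfalso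
                    linarith only [r_0, r_1, r_2, r_3, T.m_pos u0, T.m_pos u1, T.m_pos u2, T.m_pos u3]
                  · -- (2,3) nonzero
                    obtain ⟨lbp_2_3, lbq_2_3⟩ := Groth.Agent.Helper6.NT.lb T u2 u3 hn_3_2.symm nz_2_3
                    rcases Groth.Agent.Helper6.NT.edge5 T h2 (by norm_num) u2 u3 hn_3_2.symm nz_2_3 with ⟨tw_2_3, tap_2_3, taq_2_3⟩ | ⟨tw_2_3, tap_2_3, taq_2_3⟩ | ⟨tw_2_3, tap_2_3, taq_2_3⟩ | ⟨tw_2_3, tap_2_3, taq_2_3⟩ | ⟨tw_2_3, tap_2_3, taq_2_3⟩
                    · -- (2,3) S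
                      exfalso
                      linarith only [tap_0_1, tap_0_2, tap_2_3, tap_1_3, taq_0_1, taq_0_2, taq_2_3, taq_1_3, T.w_pos u0, T.w_pos u1, T.w_pos u2, T.w_pos u3]
                    · -- (2,3) Dp
                      exfalso
                      linarith only [tap_0_1, tap_0_2, tap_2_3, tap_1_3, taq_0_1, taq_0_2, taq_2_3, taq_1_3, T.w_pos u0, T.w_pos u1, T.w_pos u2, T.w_pos u3]
                    · -- (2,3) Dm
                      exfalso
                      have key := Groth.Agent.Helper6.NT.nonposfun4 T h2 u0 u1 u2 u3 2 3 2 3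
                      linarith only [key, tap_0_1, taq_0_1, tap_0_2, taq_0_2, z_0_3, z_1_2, tap_1_3, taq_1_3, tap_2_3, taq_2_3, T.w_pos u0, T.w_pos u1, T.w_pos u2, T.w_pos u3]
                    · -- (2,3) Tp
                      exfalso
                      have key := Groth.Agent.Helper6.NT.negfun3 T h2 u1 u2 u3 (by norm_num) 1 3 2 (by norm_num) (by norm_num)
                      linarith only [key, z_1_2, tap_1_3, taq_1_3, tap_2_3, taq_2_3, T.w_pos u1, T.w_pos u2, T.w_pos u3]
                    · -- (2,3) Tm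
                      exfalso
                      have key := Groth.Agent.Helper6.NT.negfun3 T h2 u1 u2 u3 (by norm_num) 1 1 2 (by norm_num) (by norm_num)
                      linarith only [key, z_1_2, tap_1_3, taq_1_3, tap_2_3, taq_2_3, T.w_pos u1, T.w_pos u2, T.w_pos u3]
                · -- (1,3) Dp
                  exfalso
                  have key := Groth.Agent.Helper6.NT.negfun3 T h2 u0 u1 u3 (by norm_num) 1 2 1 (by norm_num) (by norm_num)
                  linarith only [key, tap_0_1, taq_0_1, z_0_3, tap_1_3, taq_1_3, T.w_pos u0, T.w_pos u1, T.w_pos u3]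
                · -- (1,3) Dm
                  exfalso
                  have key := Groth.Agent.Helper6.NT.negfun3 T h2 u0 u1 u3 (by norm_num) 1 2 2 (by norm_num) (by norm_num)
                  linarith only [key, tap_0_1, taq_0_1, z_0_3, tap_1_3, taq_1_3, T.w_pos u0, T.w_pos u1, T.w_pos u3]
                · -- (1,3) Tp
                  exfalso
                  have key := Groth.Agent.Helper6.NT.negfun3 T h2 u0 u1 u3 (by norm_num) 1 2 1 (by norm_num) (by norm_num)
                  linarith only [key, tap_0_1, taq_0_1, z_0_3, tap_1_3, taq_1_3, T.w_pos u0, T.w_pos u1, T.w_pos u3]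
                · -- (1,3) Tm
                  exfalso
                  have key := Groth.Agent.Helper6.NT.negfun3 T h2 u0 u1 u3 (by norm_num) 1 2 3 (by norm_num) (by norm_num)
                  linarith only [key, tap_0_1, taq_0_1, z_0_3, tap_1_3, taq_1_3, T.w_pos u0, T.w_pos u1, T.w_pos u3]
              · push Not at hx
                have cl_1 := hx
                clear hx
                by_cases hx : ∃ j, (j ≠ u0 ∧ j ≠ u1 ∧ j ≠ u2) ∧ T.a u2 j ≠ 0
                · obtain ⟨u3, ⟨hn_3_0, hn_3_1, hn_3_2⟩, e_2_3⟩ := hx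
                  have z_0_3 : T.a u0 u3 = 0 := cl_0 u3 ⟨hn_3_0, hn_3_1, hn_3_2⟩
                  have z_1_3 : T.a u1 u3 = 0 := cl_1 u3 ⟨hn_3_0, hn_3_1, hn_3_2⟩
                  rcases Groth.Agent.Helper6.NT.edge5 T h2 (by norm_num) u2 u3 hn_3_2.symm e_2_3 with ⟨tw_2_3, tap_2_3, taq_2_3⟩ | ⟨tw_2_3, tap_2_3, taq_2_3⟩ | ⟨tw_2_3, tap_2_3, taq_2_3⟩ | ⟨tw_2_3, tap_2_3, taq_2_3⟩ | ⟨tw_2_3, tap_2_3, taq_2_3⟩
                  · -- (2,3) S
                    have hinj := Groth.Agent.Helper6.NT.inj4 u0 u1 u2 u3 hn_1_0 hn_2_0 hn_2_1 hn_3_0 hn_3_1 hn_3_2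
                    have r_0 : -2 * T.m u0 + 1 * T.m u1 + 1 * T.m u2 = 0 := by
                      have key := Groth.Agent.Helper6.NT.rowfun4 T u0 u1 u2 u3 hinj u0
                      rw [(h2 u0).2, tap_0_1, tap_0_2, z_0_3] at key
                      exact mul_left_cancel₀ (T.w_pos u0).ne' (by linarith only [key])
                    have r_1 : 2 * T.m u0 + -2 * T.m u1 = 0 := by
                      have key := Groth.Agent.Helper6.NT.rowfun4 T u0 u1 u2 u3 hinj u1
                      rw [Groth.Agent.Helper6.NT.symm' T u1 u0, taq_0_1, (h2 u1).2, z_1_2, z_1_3] at key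
                      exact mul_left_cancel₀ (T.w_pos u1).ne' (by linarith only [key])
                    have r_2 : 1 * T.m u0 + -2 * T.m u2 + 1 * T.m u3 = 0 := by
                      have key := Groth.Agent.Helper6.NT.rowfun4 T u0 u1 u2 u3 hinj u2
                      rw [Groth.Agent.Helper6.NT.symm' T u2 u0, taq_0_2, Groth.Agent.Helper6.NT.symm' T u2 u1, z_1_2, (h2 u2).2, tap_2_3] at key
                      exact mul_left_cancel₀ (T.w_pos u2).ne' (by linarith only [key])
                    have r_3 : 1 * T.m u2 + -2 * T.m u3 = 0 := by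
                      have key := Groth.Agent.Helper6.NT.rowfun4 T u0 u1 u2 u3 hinj u3
                      rw [Groth.Agent.Helper6.NT.symm' T u3 u0, z_0_3, Groth.Agent.Helper6.NT.symm' T u3 u1, z_1_3, Groth.Agent.Helper6.NT.symm' T u3 u2, taq_2_3, (h2 u3).2] at key
                      exact mul_left_cancel₀ (T.w_pos u3).ne' (by linarith only [key])
                    exfalso
                    linarith only [r_0, r_1, r_2, r_3, T.m_pos u0, T.m_pos u1, T.m_pos u2, T.m_pos u3]
                  · -- (2,3) Dp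
                    have hinj := Groth.Agent.Helper6.NT.inj4 u0 u1 u2 u3 hn_1_0 hn_2_0 hn_2_1 hn_3_0 hn_3_1 hn_3_2
                    have r_0 : -2 * T.m u0 + 1 * T.m u1 + 1 * T.m u2 = 0 := by
                      have key := Groth.Agent.Helper6.NT.rowfun4 T u0 u1 u2 u3 hinj u0
                      rw [(h2 u0).2, tap_0_1, tap_0_2, z_0_3] at key
                      exact mul_left_cancel₀ (T.w_pos u0).ne' (by linarith only [key])
                    have r_1 : 2 * T.m u0 + -2 * T.m u1 = 0 := by
                      have key := Groth.Agent.Helper6.NT.rowfun4 T u0 u1 u2 u3 hinj u1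
                      rw [Groth.Agent.Helper6.NT.symm' T u1 u0, taq_0_1, (h2 u1).2, z_1_2, z_1_3] at key
                      exact mul_left_cancel₀ (T.w_pos u1).ne' (by linarith only [key])
                    have r_2 : 1 * T.m u0 + -2 * T.m u2 + 2 * T.m u3 = 0 := by
                      have key := Groth.Agent.Helper6.NT.rowfun4 T u0 u1 u2 u3 hinj u2
                      rw [Groth.Agent.Helper6.NT.symm' T u2 u0, taq_0_2, Groth.Agent.Helper6.NT.symm' T u2 u1, z_1_2, (h2 u2).2, tap_2_3] at key
                      exact mul_left_cancel₀ (T.w_pos u2).ne' (by linarith only [key])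
                    have r_3 : 1 * T.m u2 + -2 * T.m u3 = 0 := by
                      have key := Groth.Agent.Helper6.NT.rowfun4 T u0 u1 u2 u3 hinj u3
                      rw [Groth.Agent.Helper6.NT.symm' T u3 u0, z_0_3, Groth.Agent.Helper6.NT.symm' T u3 u1, z_1_3, Groth.Agent.Helper6.NT.symm' T u3 u2, taq_2_3, (h2 u3).2] at key
                      exact mul_left_cancel₀ (T.w_pos u3).ne' (by linarith only [key])
                    have f0 : T.m u1 = 2 * T.m u3 := by linarith only [r_0, r_1, r_2, r_3]
                    have f1 : T.m u0 = 2 * T.m u3 := by linarith only [r_0, r_1, r_2, r_3]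
                    have f2 : T.m u2 = 2 * T.m u3 := by linarith only [r_0, r_1, r_2, r_3]
                    have f3 : T.m u3 = T.m u3 := rfl
                    have f4 : T.w u1 = T.w u1 := rfl
                    have f5 : T.w u0 = 2 * T.w u1 := by linarith only [tw_0_1, tw_0_2, tw_2_3]
                    have f6 : T.w u2 = 2 * T.w u1 := by linarith only [tw_0_1, tw_0_2, tw_2_3]
                    have f7 : T.w u3 = 4 * T.w u1 := by linarith only [tw_0_1, tw_0_2, tw_2_3]
                    have f8 : T.a u1 u1 = -2 * T.w u1 := by have := (h2 u1).2; linarith only [this, tw_0_1, tw_0_2, tw_2_3]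
                    have f9 : T.a u1 u0 = 2 * T.w u1 := by rw [Groth.Agent.Helper6.NT.symm' T u1 u0]; linarith only [tap_0_1, tw_0_1, tw_0_2, tw_2_3]
                    have f10 : T.a u1 u2 = 0 := by exact z_1_2
                    have f11 : T.a u1 u3 = 0 := by exact z_1_3
                    have f12 : T.a u0 u0 = -4 * T.w u1 := by have := (h2 u0).2; linarith only [this, tw_0_1, tw_0_2, tw_2_3]
                    have f13 : T.a u0 u2 = 2 * T.w u1 := by linarith only [tap_0_2, tw_0_1, tw_0_2, tw_2_3]
                    have f14 : T.a u0 u3 = 0 := by exact z_0_3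
                    have f15 : T.a u2 u2 = -4 * T.w u1 := by have := (h2 u2).2; linarith only [this, tw_0_1, tw_0_2, tw_2_3]
                    have f16 : T.a u2 u3 = 4 * T.w u1 := by linarith only [tap_2_3, tw_0_1, tw_0_2, tw_2_3]
                    have f17 : T.a u3 u3 = -8 * T.w u1 := by have := (h2 u3).2; linarith only [this, tw_0_1, tw_0_2, tw_2_3]
                    have hsig := Groth.Agent.Helper6.NT.inj4 u1 u0 u2 u3 hn_1_0.symm hn_2_1 hn_2_0 hn_3_1 hn_3_0 hn_3_2
                    exact ⟨Equiv.ofBijective _ (Finite.injective_iff_bijective.1 hsig), T.m u3, T.w u1, Or.inr (Or.inl ⟨f0, f1, f2, f3, f4, f5, f6, f7, f8, f9, f10, f11, f12, f13, f14, f15, f16, f17⟩)⟩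
                  · -- (2,3) Dm
                    have hinj := Groth.Agent.Helper6.NT.inj4 u0 u1 u2 u3 hn_1_0 hn_2_0 hn_2_1 hn_3_0 hn_3_1 hn_3_2
                    have r_0 : -2 * T.m u0 + 1 * T.m u1 + 1 * T.m u2 = 0 := by
                      have key := Groth.Agent.Helper6.NT.rowfun4 T u0 u1 u2 u3 hinj u0
                      rw [(h2 u0).2, tap_0_1, tap_0_2, z_0_3] at key
                      exact mul_left_cancel₀ (T.w_pos u0).ne' (by linarith only [key])
                    have r_1 : 2 * T.m u0 + -2 * T.m u1 = 0 := by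
                      have key := Groth.Agent.Helper6.NT.rowfun4 T u0 u1 u2 u3 hinj u1
                      rw [Groth.Agent.Helper6.NT.symm' T u1 u0, taq_0_1, (h2 u1).2, z_1_2, z_1_3] at key
                      exact mul_left_cancel₀ (T.w_pos u1).ne' (by linarith only [key])
                    have r_2 : 1 * T.m u0 + -2 * T.m u2 + 1 * T.m u3 = 0 := by
                      have key := Groth.Agent.Helper6.NT.rowfun4 T u0 u1 u2 u3 hinj u2
                      rw [Groth.Agent.Helper6.NT.symm' T u2 u0, taq_0_2, Groth.Agent.Helper6.NT.symm' T u2 u1, z_1_2, (h2 u2).2, tap_2_3] at key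
                      exact mul_left_cancel₀ (T.w_pos u2).ne' (by linarith only [key])
                    have r_3 : 2 * T.m u2 + -2 * T.m u3 = 0 := by
                      have key := Groth.Agent.Helper6.NT.rowfun4 T u0 u1 u2 u3 hinj u3
                      rw [Groth.Agent.Helper6.NT.symm' T u3 u0, z_0_3, Groth.Agent.Helper6.NT.symm' T u3 u1, z_1_3, Groth.Agent.Helper6.NT.symm' T u3 u2, taq_2_3, (h2 u3).2] at key
                      exact mul_left_cancel₀ (T.w_pos u3).ne' (by linarith only [key])
                    have f0 : T.m u1 = T.m u1 := rfl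
                    have f1 : T.m u0 = T.m u1 := by linarith only [r_0, r_1, r_2, r_3]
                    have f2 : T.m u2 = T.m u1 := by linarith only [r_0, r_1, r_2, r_3]
                    have f3 : T.m u3 = T.m u1 := by linarith only [r_0, r_1, r_2, r_3]
                    have f4 : T.w u1 = T.w u1 := rfl
                    have f5 : T.w u0 = 2 * T.w u1 := by linarith only [tw_0_1, tw_0_2, tw_2_3]
                    have f6 : T.w u2 = 2 * T.w u1 := by linarith only [tw_0_1, tw_0_2, tw_2_3]
                    have f7 : T.w u3 = T.w u1 := by linarith only [tw_0_1, tw_0_2, tw_2_3]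
                    have f8 : T.a u1 u1 = -2 * T.w u1 := by have := (h2 u1).2; linarith only [this, tw_0_1, tw_0_2, tw_2_3]
                    have f9 : T.a u1 u0 = 2 * T.w u1 := by rw [Groth.Agent.Helper6.NT.symm' T u1 u0]; linarith only [tap_0_1, tw_0_1, tw_0_2, tw_2_3]
                    have f10 : T.a u1 u2 = 0 := by exact z_1_2
                    have f11 : T.a u1 u3 = 0 := by exact z_1_3
                    have f12 : T.a u0 u0 = -4 * T.w u1 := by have := (h2 u0).2; linarith only [this, tw_0_1, tw_0_2, tw_2_3]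
                    have f13 : T.a u0 u2 = 2 * T.w u1 := by linarith only [tap_0_2, tw_0_1, tw_0_2, tw_2_3]
                    have f14 : T.a u0 u3 = 0 := by exact z_0_3
                    have f15 : T.a u2 u2 = -4 * T.w u1 := by have := (h2 u2).2; linarith only [this, tw_0_1, tw_0_2, tw_2_3]
                    have f16 : T.a u2 u3 = 2 * T.w u1 := by linarith only [tap_2_3, tw_0_1, tw_0_2, tw_2_3]
                    have f17 : T.a u3 u3 = -2 * T.w u1 := by have := (h2 u3).2; linarith only [this, tw_0_1, tw_0_2, tw_2_3]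
                    have hsig := Groth.Agent.Helper6.NT.inj4 u1 u0 u2 u3 hn_1_0.symm hn_2_1 hn_2_0 hn_3_1 hn_3_0 hn_3_2
                    exact ⟨Equiv.ofBijective _ (Finite.injective_iff_bijective.1 hsig), T.m u1, T.w u1, Or.inr (Or.inr (Or.inl ⟨f0, f1, f2, f3, f4, f5, f6, f7, f8, f9, f10, f11, f12, f13, f14, f15, f16, f17⟩))⟩
                  · -- (2,3) Tp
                    exfalso
                    have key := Groth.Agent.Helper6.NT.negfun3 T h2 u0 u2 u3 (by norm_num) 1 2 1 (by norm_num) (by norm_num)
                    linarith only [key, tap_0_2, taq_0_2, z_0_3, tap_2_3, taq_2_3, T.w_pos u0, T.w_pos u2, T.w_pos u3]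
                  · -- (2,3) Tm
                    exfalso
                    have key := Groth.Agent.Helper6.NT.negfun3 T h2 u0 u2 u3 (by norm_num) 1 2 3 (by norm_num) (by norm_num)
                    linarith only [key, tap_0_2, taq_0_2, z_0_3, tap_2_3, taq_2_3, T.w_pos u0, T.w_pos u2, T.w_pos u3]
                · push Not at hx
                  have cl_2 := hx
                  clear hx
                  exfalso
                  refine Groth.Agent.Helper6.NT.closed_contra T [u0, u1, u2] (by simp) (by simp) ?_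
                  intro i hi j hj
                  simp only [List.mem_cons, List.not_mem_nil, or_false, not_or] at hi hj
                  rcases hi with rfl | rfl | rfl
                  · exact cl_0 j ⟨hj.1, hj.2.1, hj.2.2⟩
                  · exact cl_1 j ⟨hj.1, hj.2.1, hj.2.2⟩
                  · exact cl_2 j ⟨hj.1, hj.2.1, hj.2.2⟩
          · -- (1,2) nonzero
            obtain ⟨lbp_1_2, lbq_1_2⟩ := Groth.Agent.Helper6.NT.lb T u1 u2 hn_2_1.symm nz_1_2
            exfalso
            have key := Groth.Agent.Helper6.NT.negfun3 T h2 u0 u1 u2 (by norm_num) 1 1 1 (by norm_num) (by norm_num)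
            linarith only [key, tap_0_1, taq_0_1, tap_0_2, taq_0_2, lbp_1_2, lbq_1_2, T.w_pos u0, T.w_pos u1, T.w_pos u2]
        · -- (0,2) Dp
          exfalso
          have key := Groth.Agent.Helper6.NT.negfun3 T h2 u0 u1 u2 (by norm_num) 2 2 1 (by norm_num) (by norm_num)
          linarith only [key, tap_0_1, taq_0_1, tap_0_2, taq_0_2, T.offDiag_nonneg u1 u2 hn_2_1.symm, T.w_pos u0, T.w_pos u1, T.w_pos u2]
        · -- (0,2) Dm
          exfalso
          have key := Groth.Agent.Helper6.NT.negfun3 T h2 u0 u1 u2 (by norm_num) 1 1 1 (by norm_num) (by norm_num)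
          linarith only [key, tap_0_1, taq_0_1, tap_0_2, taq_0_2, T.offDiag_nonneg u1 u2 hn_2_1.symm, T.w_pos u0, T.w_pos u1, T.w_pos u2]
        · -- (0,2) Tp
          exfalso
          have key := Groth.Agent.Helper6.NT.negfun3 T h2 u0 u1 u2 (by norm_num) 2 2 1 (by norm_num) (by norm_num)
          linarith only [key, tap_0_1, taq_0_1, tap_0_2, taq_0_2, T.offDiag_nonneg u1 u2 hn_2_1.symm, T.w_pos u0, T.w_pos u1, T.w_pos u2]
        · -- (0,2) Tm
          exfalso
          have key := Groth.Agent.Helper6.NT.negfun3 T h2 u0 u1 u2 (by norm_num) 2 2 3 (by norm_num) (by norm_num)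
          linarith only [key, tap_0_1, taq_0_1, tap_0_2, taq_0_2, T.offDiag_nonneg u1 u2 hn_2_1.symm, T.w_pos u0, T.w_pos u1, T.w_pos u2]
      · push Not at hx
        have cl_0 := hx
        clear hx
        by_cases hx : ∃ j, (j ≠ u0 ∧ j ≠ u1) ∧ T.a u1 j ≠ 0
        · obtain ⟨u2, ⟨hn_2_0, hn_2_1⟩, e_1_2⟩ := hx
          have z_0_2 : T.a u0 u2 = 0 := cl_0 u2 ⟨hn_2_0, hn_2_1⟩
          rcases Groth.Agent.Helper6.NT.edge5 T h2 (by norm_num) u1 u2 hn_2_1.symm e_1_2 with ⟨tw_1_2, tap_1_2, taq_1_2⟩ | ⟨tw_1_2, tap_1_2, taq_1_2⟩ | ⟨tw_1_2, tap_1_2, taq_1_2⟩ | ⟨tw_1_2, tap_1_2, taq_1_2⟩ | ⟨tw_1_2, tap_1_2, taq_1_2⟩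
          · -- (1,2) S
            by_cases hx : ∃ j, (j ≠ u0 ∧ j ≠ u1 ∧ j ≠ u2) ∧ T.a u1 j ≠ 0
            · obtain ⟨u3, ⟨hn_3_0, hn_3_1, hn_3_2⟩, e_1_3⟩ := hx
              have z_0_3 : T.a u0 u3 = 0 := cl_0 u3 ⟨hn_3_0, hn_3_1⟩
              rcases Groth.Agent.Helper6.NT.edge5 T h2 (by norm_num) u1 u3 hn_3_1.symm e_1_3 with ⟨tw_1_3, tap_1_3, taq_1_3⟩ | ⟨tw_1_3, tap_1_3, taq_1_3⟩ | ⟨tw_1_3, tap_1_3, taq_1_3⟩ | ⟨tw_1_3, tap_1_3, taq_1_3⟩ | ⟨tw_1_3, tap_1_3, taq_1_3⟩
              · -- (1,3) S
                rcases eq_or_ne (T.a u2 u3) 0 with z_2_3 | nz_2_3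
                · -- (2,3) zero
                  have hinj := Groth.Agent.Helper6.NT.inj4 u0 u1 u2 u3 hn_1_0 hn_2_0 hn_2_1 hn_3_0 hn_3_1 hn_3_2
                  have r_0 : -2 * T.m u0 + 1 * T.m u1 = 0 := by
                    have key := Groth.Agent.Helper6.NT.rowfun4 T u0 u1 u2 u3 hinj u0
                    rw [(h2 u0).2, tap_0_1, z_0_2, z_0_3] at key
                    exact mul_left_cancel₀ (T.w_pos u0).ne' (by linarith only [key])
                  have r_1 : 2 * T.m u0 + -2 * T.m u1 + 1 * T.m u2 + 1 * T.m u3 = 0 := by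
                    have key := Groth.Agent.Helper6.NT.rowfun4 T u0 u1 u2 u3 hinj u1
                    rw [Groth.Agent.Helper6.NT.symm' T u1 u0, taq_0_1, (h2 u1).2, tap_1_2, tap_1_3] at key
                    exact mul_left_cancel₀ (T.w_pos u1).ne' (by linarith only [key])
                  have r_2 : 1 * T.m u1 + -2 * T.m u2 = 0 := by
                    have key := Groth.Agent.Helper6.NT.rowfun4 T u0 u1 u2 u3 hinj u2
                    rw [Groth.Agent.Helper6.NT.symm' T u2 u0, z_0_2, Groth.Agent.Helper6.NT.symm' T u2 u1, taq_1_2, (h2 u2).2, z_2_3] at key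
                    exact mul_left_cancel₀ (T.w_pos u2).ne' (by linarith only [key])
                  have r_3 : 1 * T.m u1 + -2 * T.m u3 = 0 := by
                    have key := Groth.Agent.Helper6.NT.rowfun4 T u0 u1 u2 u3 hinj u3
                    rw [Groth.Agent.Helper6.NT.symm' T u3 u0, z_0_3, Groth.Agent.Helper6.NT.symm' T u3 u1, taq_1_3, Groth.Agent.Helper6.NT.symm' T u3 u2, z_2_3, (h2 u3).2] at key
                    exact mul_left_cancel₀ (T.w_pos u3).ne' (by linarith only [key])
                  have f0 : T.m u1 = 2 * T.m u2 := by linarith only [r_0, r_1, r_2, r_3]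
                  have f1 : T.m u2 = T.m u2 := rfl
                  have f2 : T.m u3 = T.m u2 := by linarith only [r_0, r_1, r_2, r_3]
                  have f3 : T.m u0 = T.m u2 := by linarith only [r_0, r_1, r_2, r_3]
                  have f4 : T.w u1 = T.w u1 := rfl
                  have f5 : T.w u2 = T.w u1 := by linarith only [tw_0_1, tw_1_2, tw_1_3]
                  have f6 : T.w u3 = T.w u1 := by linarith only [tw_0_1, tw_1_2, tw_1_3]
                  have f7 : T.w u0 = 2 * T.w u1 := by linarith only [tw_0_1, tw_1_2, tw_1_3]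
                  have f8 : T.a u1 u1 = -2 * T.w u1 := by have := (h2 u1).2; linarith only [this, tw_0_1, tw_1_2, tw_1_3]
                  have f9 : T.a u1 u2 = T.w u1 := by linarith only [tap_1_2, tw_0_1, tw_1_2, tw_1_3]
                  have f10 : T.a u1 u3 = T.w u1 := by linarith only [tap_1_3, tw_0_1, tw_1_2, tw_1_3]
                  have f11 : T.a u1 u0 = 2 * T.w u1 := by rw [Groth.Agent.Helper6.NT.symm' T u1 u0]; linarith only [tap_0_1, tw_0_1, tw_1_2, tw_1_3]
                  have f12 : T.a u2 u2 = -2 * T.w u1 := by have := (h2 u2).2; linarith only [this, tw_0_1, tw_1_2, tw_1_3]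
                  have f13 : T.a u2 u3 = 0 := by exact z_2_3
                  have f14 : T.a u2 u0 = 0 := by rw [Groth.Agent.Helper6.NT.symm' T u2 u0]; exact z_0_2
                  have f15 : T.a u3 u3 = -2 * T.w u1 := by have := (h2 u3).2; linarith only [this, tw_0_1, tw_1_2, tw_1_3]
                  have f16 : T.a u3 u0 = 0 := by rw [Groth.Agent.Helper6.NT.symm' T u3 u0]; exact z_0_3
                  have f17 : T.a u0 u0 = -4 * T.w u1 := by have := (h2 u0).2; linarith only [this, tw_0_1, tw_1_2, tw_1_3]
                  have hsig := Groth.Agent.Helper6.NT.inj4 u1 u2 u3 u0 hn_2_1 hn_3_1 hn_3_2 hn_1_0.symm hn_2_0.symm hn_3_0.symm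
                  exact ⟨Equiv.ofBijective _ (Finite.injective_iff_bijective.1 hsig), T.m u2, T.w u1, Or.inr (Or.inr (Or.inr (Or.inr (Or.inl ⟨f0, f1, f2, f3, f4, f5, f6, f7, f8, f9, f10, f11, f12, f13, f14, f15, f16, f17⟩))))⟩
                · -- (2,3) nonzero
                  obtain ⟨lbp_2_3, lbq_2_3⟩ := Groth.Agent.Helper6.NT.lb T u2 u3 hn_3_2.symm nz_2_3
                  exfalso
                  have key := Groth.Agent.Helper6.NT.negfun3 T h2 u1 u2 u3 (by norm_num) 1 1 1 (by norm_num) (by norm_num)
                  linarith only [key, tap_1_2, taq_1_2, tap_1_3, taq_1_3, lbp_2_3, lbq_2_3, T.w_pos u1, T.w_pos u2, T.w_pos u3]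
              · -- (1,3) Dp
                exfalso
                have key := Groth.Agent.Helper6.NT.negfun3 T h2 u0 u1 u3 (by norm_num) 1 2 1 (by norm_num) (by norm_num)
                linarith only [key, tap_0_1, taq_0_1, z_0_3, tap_1_3, taq_1_3, T.w_pos u0, T.w_pos u1, T.w_pos u3]
              · -- (1,3) Dm
                exfalso
                have key := Groth.Agent.Helper6.NT.negfun3 T h2 u0 u1 u3 (by norm_num) 1 2 2 (by norm_num) (by norm_num)
                linarith only [key, tap_0_1, taq_0_1, z_0_3, tap_1_3, taq_1_3, T.w_pos u0, T.w_pos u1, T.w_pos u3]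
              · -- (1,3) Tp
                exfalso
                have key := Groth.Agent.Helper6.NT.negfun3 T h2 u1 u2 u3 (by norm_num) 2 1 1 (by norm_num) (by norm_num)
                linarith only [key, tap_1_2, taq_1_2, tap_1_3, taq_1_3, T.offDiag_nonneg u2 u3 hn_3_2.symm, T.w_pos u1, T.w_pos u2, T.w_pos u3]
              · -- (1,3) Tm
                exfalso
                have key := Groth.Agent.Helper6.NT.negfun3 T h2 u1 u2 u3 (by norm_num) 2 1 3 (by norm_num) (by norm_num)
                linarith only [key, tap_1_2, taq_1_2, tap_1_3, taq_1_3, T.offDiag_nonneg u2 u3 hn_3_2.symm, T.w_pos u1, T.w_pos u2, T.w_pos u3]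
            · push Not at hx
              have cl_1 := hx
              clear hx
              by_cases hx : ∃ j, (j ≠ u0 ∧ j ≠ u1 ∧ j ≠ u2) ∧ T.a u2 j ≠ 0
              · obtain ⟨u3, ⟨hn_3_0, hn_3_1, hn_3_2⟩, e_2_3⟩ := hx
                have z_0_3 : T.a u0 u3 = 0 := cl_0 u3 ⟨hn_3_0, hn_3_1⟩
                have z_1_3 : T.a u1 u3 = 0 := cl_1 u3 ⟨hn_3_0, hn_3_1, hn_3_2⟩
                rcases Groth.Agent.Helper6.NT.edge5 T h2 (by norm_num) u2 u3 hn_3_2.symm e_2_3 with ⟨tw_2_3, tap_2_3, taq_2_3⟩ | ⟨tw_2_3, tap_2_3, taq_2_3⟩ | ⟨tw_2_3, tap_2_3, taq_2_3⟩ | ⟨tw_2_3, tap_2_3, taq_2_3⟩ | ⟨tw_2_3, tap_2_3, taq_2_3⟩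
                · -- (2,3) S
                  have hinj := Groth.Agent.Helper6.NT.inj4 u0 u1 u2 u3 hn_1_0 hn_2_0 hn_2_1 hn_3_0 hn_3_1 hn_3_2
                  have r_0 : -2 * T.m u0 + 1 * T.m u1 = 0 := by
                    have key := Groth.Agent.Helper6.NT.rowfun4 T u0 u1 u2 u3 hinj u0
                    rw [(h2 u0).2, tap_0_1, z_0_2, z_0_3] at key
                    exact mul_left_cancel₀ (T.w_pos u0).ne' (by linarith only [key])
                  have r_1 : 2 * T.m u0 + -2 * T.m u1 + 1 * T.m u2 = 0 := by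
                    have key := Groth.Agent.Helper6.NT.rowfun4 T u0 u1 u2 u3 hinj u1
                    rw [Groth.Agent.Helper6.NT.symm' T u1 u0, taq_0_1, (h2 u1).2, tap_1_2, z_1_3] at key
                    exact mul_left_cancel₀ (T.w_pos u1).ne' (by linarith only [key])
                  have r_2 : 1 * T.m u1 + -2 * T.m u2 + 1 * T.m u3 = 0 := by
                    have key := Groth.Agent.Helper6.NT.rowfun4 T u0 u1 u2 u3 hinj u2
                    rw [Groth.Agent.Helper6.NT.symm' T u2 u0, z_0_2, Groth.Agent.Helper6.NT.symm' T u2 u1, taq_1_2, (h2 u2).2, tap_2_3] at key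
                    exact mul_left_cancel₀ (T.w_pos u2).ne' (by linarith only [key])
                  have r_3 : 1 * T.m u2 + -2 * T.m u3 = 0 := by
                    have key := Groth.Agent.Helper6.NT.rowfun4 T u0 u1 u2 u3 hinj u3
                    rw [Groth.Agent.Helper6.NT.symm' T u3 u0, z_0_3, Groth.Agent.Helper6.NT.symm' T u3 u1, z_1_3, Groth.Agent.Helper6.NT.symm' T u3 u2, taq_2_3, (h2 u3).2] at key
                    exact mul_left_cancel₀ (T.w_pos u3).ne' (by linarith only [key])
                  exfalso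
                  linarith only [r_0, r_1, r_2, r_3, T.m_pos u0, T.m_pos u1, T.m_pos u2, T.m_pos u3]
                · -- (2,3) Dp
                  have hinj := Groth.Agent.Helper6.NT.inj4 u0 u1 u2 u3 hn_1_0 hn_2_0 hn_2_1 hn_3_0 hn_3_1 hn_3_2
                  have r_0 : -2 * T.m u0 + 1 * T.m u1 = 0 := by
                    have key := Groth.Agent.Helper6.NT.rowfun4 T u0 u1 u2 u3 hinj u0
                    rw [(h2 u0).2, tap_0_1, z_0_2, z_0_3] at key
                    exact mul_left_cancel₀ (T.w_pos u0).ne' (by linarith only [key])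
                  have r_1 : 2 * T.m u0 + -2 * T.m u1 + 1 * T.m u2 = 0 := by
                    have key := Groth.Agent.Helper6.NT.rowfun4 T u0 u1 u2 u3 hinj u1
                    rw [Groth.Agent.Helper6.NT.symm' T u1 u0, taq_0_1, (h2 u1).2, tap_1_2, z_1_3] at key
                    exact mul_left_cancel₀ (T.w_pos u1).ne' (by linarith only [key])
                  have r_2 : 1 * T.m u1 + -2 * T.m u2 + 2 * T.m u3 = 0 := by
                    have key := Groth.Agent.Helper6.NT.rowfun4 T u0 u1 u2 u3 hinj u2
                    rw [Groth.Agent.Helper6.NT.symm' T u2 u0, z_0_2, Groth.Agent.Helper6.NT.symm' T u2 u1, taq_1_2, (h2 u2).2, tap_2_3] at key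
                    exact mul_left_cancel₀ (T.w_pos u2).ne' (by linarith only [key])
                  have r_3 : 1 * T.m u2 + -2 * T.m u3 = 0 := by
                    have key := Groth.Agent.Helper6.NT.rowfun4 T u0 u1 u2 u3 hinj u3
                    rw [Groth.Agent.Helper6.NT.symm' T u3 u0, z_0_3, Groth.Agent.Helper6.NT.symm' T u3 u1, z_1_3, Groth.Agent.Helper6.NT.symm' T u3 u2, taq_2_3, (h2 u3).2] at key
                    exact mul_left_cancel₀ (T.w_pos u3).ne' (by linarith only [key])
                  have f0 : T.m u0 = T.m u0 := rfl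
                  have f1 : T.m u1 = 2 * T.m u0 := by linarith only [r_0, r_1, r_2, r_3]
                  have f2 : T.m u2 = 2 * T.m u0 := by linarith only [r_0, r_1, r_2, r_3]
                  have f3 : T.m u3 = T.m u0 := by linarith only [r_0, r_1, r_2, r_3]
                  have f4 : T.w u0 = 2 * T.w u1 := by linarith only [tw_0_1, tw_1_2, tw_2_3]
                  have f5 : T.w u1 = T.w u1 := rfl
                  have f6 : T.w u2 = T.w u1 := by linarith only [tw_0_1, tw_1_2, tw_2_3]
                  have f7 : T.w u3 = 2 * T.w u1 := by linarith only [tw_0_1, tw_1_2, tw_2_3]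
                  have f8 : T.a u0 u0 = -4 * T.w u1 := by have := (h2 u0).2; linarith only [this, tw_0_1, tw_1_2, tw_2_3]
                  have f9 : T.a u0 u1 = 2 * T.w u1 := by linarith only [tap_0_1, tw_0_1, tw_1_2, tw_2_3]
                  have f10 : T.a u0 u2 = 0 := by exact z_0_2
                  have f11 : T.a u0 u3 = 0 := by exact z_0_3
                  have f12 : T.a u1 u1 = -2 * T.w u1 := by have := (h2 u1).2; linarith only [this, tw_0_1, tw_1_2, tw_2_3]
                  have f13 : T.a u1 u2 = T.w u1 := by linarith only [tap_1_2, tw_0_1, tw_1_2, tw_2_3]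
                  have f14 : T.a u1 u3 = 0 := by exact z_1_3
                  have f15 : T.a u2 u2 = -2 * T.w u1 := by have := (h2 u2).2; linarith only [this, tw_0_1, tw_1_2, tw_2_3]
                  have f16 : T.a u2 u3 = 2 * T.w u1 := by linarith only [tap_2_3, tw_0_1, tw_1_2, tw_2_3]
                  have f17 : T.a u3 u3 = -4 * T.w u1 := by have := (h2 u3).2; linarith only [this, tw_0_1, tw_1_2, tw_2_3]
                  have hsig := Groth.Agent.Helper6.NT.inj4 u0 u1 u2 u3 hn_1_0 hn_2_0 hn_2_1 hn_3_0 hn_3_1 hn_3_2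
                  exact ⟨Equiv.ofBijective _ (Finite.injective_iff_bijective.1 hsig), T.m u0, T.w u1, Or.inr (Or.inr (Or.inr (Or.inl ⟨f0, f1, f2, f3, f4, f5, f6, f7, f8, f9, f10, f11, f12, f13, f14, f15, f16, f17⟩)))⟩
                · -- (2,3) Dm
                  have hinj := Groth.Agent.Helper6.NT.inj4 u0 u1 u2 u3 hn_1_0 hn_2_0 hn_2_1 hn_3_0 hn_3_1 hn_3_2
                  have r_0 : -2 * T.m u0 + 1 * T.m u1 = 0 := by
                    have key := Groth.Agent.Helper6.NT.rowfun4 T u0 u1 u2 u3 hinj u0
                    rw [(h2 u0).2, tap_0_1, z_0_2, z_0_3] at key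
                    exact mul_left_cancel₀ (T.w_pos u0).ne' (by linarith only [key])
                  have r_1 : 2 * T.m u0 + -2 * T.m u1 + 1 * T.m u2 = 0 := by
                    have key := Groth.Agent.Helper6.NT.rowfun4 T u0 u1 u2 u3 hinj u1
                    rw [Groth.Agent.Helper6.NT.symm' T u1 u0, taq_0_1, (h2 u1).2, tap_1_2, z_1_3] at key
                    exact mul_left_cancel₀ (T.w_pos u1).ne' (by linarith only [key])
                  have r_2 : 1 * T.m u1 + -2 * T.m u2 + 1 * T.m u3 = 0 := by
                    have key := Groth.Agent.Helper6.NT.rowfun4 T u0 u1 u2 u3 hinj u2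
                    rw [Groth.Agent.Helper6.NT.symm' T u2 u0, z_0_2, Groth.Agent.Helper6.NT.symm' T u2 u1, taq_1_2, (h2 u2).2, tap_2_3] at key
                    exact mul_left_cancel₀ (T.w_pos u2).ne' (by linarith only [key])
                  have r_3 : 2 * T.m u2 + -2 * T.m u3 = 0 := by
                    have key := Groth.Agent.Helper6.NT.rowfun4 T u0 u1 u2 u3 hinj u3
                    rw [Groth.Agent.Helper6.NT.symm' T u3 u0, z_0_3, Groth.Agent.Helper6.NT.symm' T u3 u1, z_1_3, Groth.Agent.Helper6.NT.symm' T u3 u2, taq_2_3, (h2 u3).2] at key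
                    exact mul_left_cancel₀ (T.w_pos u3).ne' (by linarith only [key])
                  have f0 : T.m u3 = 2 * T.m u0 := by linarith only [r_0, r_1, r_2, r_3]
                  have f1 : T.m u2 = 2 * T.m u0 := by linarith only [r_0, r_1, r_2, r_3]
                  have f2 : T.m u1 = 2 * T.m u0 := by linarith only [r_0, r_1, r_2, r_3]
                  have f3 : T.m u0 = T.m u0 := rfl
                  have f4 : T.w u3 = T.w u3 := rfl
                  have f5 : T.w u2 = 2 * T.w u3 := by linarith only [tw_0_1, tw_1_2, tw_2_3]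
                  have f6 : T.w u1 = 2 * T.w u3 := by linarith only [tw_0_1, tw_1_2, tw_2_3]
                  have f7 : T.w u0 = 4 * T.w u3 := by linarith only [tw_0_1, tw_1_2, tw_2_3]
                  have f8 : T.a u3 u3 = -2 * T.w u3 := by have := (h2 u3).2; linarith only [this, tw_0_1, tw_1_2, tw_2_3]
                  have f9 : T.a u3 u2 = 2 * T.w u3 := by rw [Groth.Agent.Helper6.NT.symm' T u3 u2]; linarith only [tap_2_3, tw_0_1, tw_1_2, tw_2_3]
                  have f10 : T.a u3 u1 = 0 := by rw [Groth.Agent.Helper6.NT.symm' T u3 u1]; exact z_1_3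
                  have f11 : T.a u3 u0 = 0 := by rw [Groth.Agent.Helper6.NT.symm' T u3 u0]; exact z_0_3
                  have f12 : T.a u2 u2 = -4 * T.w u3 := by have := (h2 u2).2; linarith only [this, tw_0_1, tw_1_2, tw_2_3]
                  have f13 : T.a u2 u1 = 2 * T.w u3 := by rw [Groth.Agent.Helper6.NT.symm' T u2 u1]; linarith only [tap_1_2, tw_0_1, tw_1_2, tw_2_3]
                  have f14 : T.a u2 u0 = 0 := by rw [Groth.Agent.Helper6.NT.symm' T u2 u0]; exact z_0_2
                  have f15 : T.a u1 u1 = -4 * T.w u3 := by have := (h2 u1).2; linarith only [this, tw_0_1, tw_1_2, tw_2_3]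
                  have f16 : T.a u1 u0 = 4 * T.w u3 := by rw [Groth.Agent.Helper6.NT.symm' T u1 u0]; linarith only [tap_0_1, tw_0_1, tw_1_2, tw_2_3]
                  have f17 : T.a u0 u0 = -8 * T.w u3 := by have := (h2 u0).2; linarith only [this, tw_0_1, tw_1_2, tw_2_3]
                  have hsig := Groth.Agent.Helper6.NT.inj4 u3 u2 u1 u0 hn_3_2.symm hn_3_1.symm hn_2_1.symm hn_3_0.symm hn_2_0.symm hn_1_0.symm
                  exact ⟨Equiv.ofBijective _ (Finite.injective_iff_bijective.1 hsig), T.m u0, T.w u3, Or.inr (Or.inl ⟨f0, f1, f2, f3, f4, f5, f6, f7, f8, f9, f10, f11, f12, f13, f14, f15, f16, f17⟩)⟩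
                · -- (2,3) Tp
                  exfalso
                  have key := Groth.Agent.Helper6.NT.negfun3 T h2 u1 u2 u3 (by norm_num) 1 2 1 (by norm_num) (by norm_num)
                  linarith only [key, tap_1_2, taq_1_2, z_1_3, tap_2_3, taq_2_3, T.w_pos u1, T.w_pos u2, T.w_pos u3]
                · -- (2,3) Tm
                  exfalso
                  have key := Groth.Agent.Helper6.NT.negfun3 T h2 u1 u2 u3 (by norm_num) 1 2 3 (by norm_num) (by norm_num)
                  linarith only [key, tap_1_2, taq_1_2, z_1_3, tap_2_3, taq_2_3, T.w_pos u1, T.w_pos u2, T.w_pos u3]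
              · push Not at hx
                have cl_2 := hx
                clear hx
                exfalso
                refine Groth.Agent.Helper6.NT.closed_contra T [u0, u1, u2] (by simp) (by simp) ?_
                intro i hi j hj
                simp only [List.mem_cons, List.not_mem_nil, or_false, not_or] at hi hj
                rcases hi with rfl | rfl | rfl
                · exact cl_0 j ⟨hj.1, hj.2.1⟩
                · exact cl_1 j ⟨hj.1, hj.2.1, hj.2.2⟩
                · exact cl_2 j ⟨hj.1, hj.2.1, hj.2.2⟩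
          · -- (1,2) Dp
            exfalso
            have key := Groth.Agent.Helper6.NT.negfun3 T h2 u0 u1 u2 (by norm_num) 1 2 1 (by norm_num) (by norm_num)
            linarith only [key, tap_0_1, taq_0_1, z_0_2, tap_1_2, taq_1_2, T.w_pos u0, T.w_pos u1, T.w_pos u2]
          · -- (1,2) Dm
            exfalso
            have key := Groth.Agent.Helper6.NT.negfun3 T h2 u0 u1 u2 (by norm_num) 1 2 2 (by norm_num) (by norm_num)
            linarith only [key, tap_0_1, taq_0_1, z_0_2, tap_1_2, taq_1_2, T.w_pos u0, T.w_pos u1, T.w_pos u2]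
          · -- (1,2) Tp
            exfalso
            have key := Groth.Agent.Helper6.NT.negfun3 T h2 u0 u1 u2 (by norm_num) 1 2 1 (by norm_num) (by norm_num)
            linarith only [key, tap_0_1, taq_0_1, z_0_2, tap_1_2, taq_1_2, T.w_pos u0, T.w_pos u1, T.w_pos u2]
          · -- (1,2) Tm
            exfalso
            have key := Groth.Agent.Helper6.NT.negfun3 T h2 u0 u1 u2 (by norm_num) 1 2 3 (by norm_num) (by norm_num)
            linarith only [key, tap_0_1, taq_0_1, z_0_2, tap_1_2, taq_1_2, T.w_pos u0, T.w_pos u1, T.w_pos u2]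
        · push Not at hx
          have cl_1 := hx
          clear hx
          exfalso
          refine Groth.Agent.Helper6.NT.closed_contra T [u0, u1] (by simp) (by simp) ?_
          intro i hi j hj
          simp only [List.mem_cons, List.not_mem_nil, or_false, not_or] at hi hj
          rcases hi with rfl | rfl
          · exact cl_0 j ⟨hj.1, hj.2⟩
          · exact cl_1 j ⟨hj.1, hj.2⟩
    · -- (0,1) Tp
      by_cases hx : ∃ j, (j ≠ u0 ∧ j ≠ u1) ∧ T.a u0 j ≠ 0
      · obtain ⟨u2, ⟨hn_2_0, hn_2_1⟩, e_0_2⟩ := hx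
        rcases Groth.Agent.Helper6.NT.edge5 T h2 (by norm_num) u0 u2 hn_2_0.symm e_0_2 with ⟨tw_0_2, tap_0_2, taq_0_2⟩ | ⟨tw_0_2, tap_0_2, taq_0_2⟩ | ⟨tw_0_2, tap_0_2, taq_0_2⟩ | ⟨tw_0_2, tap_0_2, taq_0_2⟩ | ⟨tw_0_2, tap_0_2, taq_0_2⟩
        · -- (0,2) S
          exfalso
          have key := Groth.Agent.Helper6.NT.negfun3 T h2 u0 u1 u2 (by norm_num) 2 1 1 (by norm_num) (by norm_num)
          linarith only [key, tap_0_1, taq_0_1, tap_0_2, taq_0_2, T.offDiag_nonneg u1 u2 hn_2_1.symm, T.w_pos u0, T.w_pos u1, T.w_pos u2]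
        · -- (0,2) Dp
          exfalso
          have key := Groth.Agent.Helper6.NT.negfun3 T h2 u0 u1 u2 (by norm_num) 2 1 1 (by norm_num) (by norm_num)
          linarith only [key, tap_0_1, taq_0_1, tap_0_2, taq_0_2, T.offDiag_nonneg u1 u2 hn_2_1.symm, T.w_pos u0, T.w_pos u1, T.w_pos u2]
        · -- (0,2) Dm
          exfalso
          have key := Groth.Agent.Helper6.NT.negfun3 T h2 u0 u1 u2 (by norm_num) 2 1 2 (by norm_num) (by norm_num)
          linarith only [key, tap_0_1, taq_0_1, tap_0_2, taq_0_2, T.offDiag_nonneg u1 u2 hn_2_1.symm, T.w_pos u0, T.w_pos u1, T.w_pos u2]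
        · -- (0,2) Tp
          exfalso
          have key := Groth.Agent.Helper6.NT.negfun3 T h2 u0 u1 u2 (by norm_num) 2 1 1 (by norm_num) (by norm_num)
          linarith only [key, tap_0_1, taq_0_1, tap_0_2, taq_0_2, T.offDiag_nonneg u1 u2 hn_2_1.symm, T.w_pos u0, T.w_pos u1, T.w_pos u2]
        · -- (0,2) Tm
          exfalso
          have key := Groth.Agent.Helper6.NT.negfun3 T h2 u0 u1 u2 (by norm_num) 2 1 3 (by norm_num) (by norm_num)
          linarith only [key, tap_0_1, taq_0_1, tap_0_2, taq_0_2, T.offDiag_nonneg u1 u2 hn_2_1.symm, T.w_pos u0, T.w_pos u1, T.w_pos u2]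
      · push Not at hx
        have cl_0 := hx
        clear hx
        by_cases hx : ∃ j, (j ≠ u0 ∧ j ≠ u1) ∧ T.a u1 j ≠ 0
        · obtain ⟨u2, ⟨hn_2_0, hn_2_1⟩, e_1_2⟩ := hx
          have z_0_2 : T.a u0 u2 = 0 := cl_0 u2 ⟨hn_2_0, hn_2_1⟩
          rcases Groth.Agent.Helper6.NT.edge5 T h2 (by norm_num) u1 u2 hn_2_1.symm e_1_2 with ⟨tw_1_2, tap_1_2, taq_1_2⟩ | ⟨tw_1_2, tap_1_2, taq_1_2⟩ | ⟨tw_1_2, tap_1_2, taq_1_2⟩ | ⟨tw_1_2, tap_1_2, taq_1_2⟩ | ⟨tw_1_2, tap_1_2, taq_1_2⟩
          · -- (1,2) S
            exfalso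
            have key := Groth.Agent.Helper6.NT.negfun3 T h2 u0 u1 u2 (by norm_num) 3 2 1 (by norm_num) (by norm_num)
            linarith only [key, tap_0_1, taq_0_1, z_0_2, tap_1_2, taq_1_2, T.w_pos u0, T.w_pos u1, T.w_pos u2]
          · -- (1,2) Dp
            exfalso
            have key := Groth.Agent.Helper6.NT.negfun3 T h2 u0 u1 u2 (by norm_num) 3 2 1 (by norm_num) (by norm_num)
            linarith only [key, tap_0_1, taq_0_1, z_0_2, tap_1_2, taq_1_2, T.w_pos u0, T.w_pos u1, T.w_pos u2]
          · -- (1,2) Dm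
            exfalso
            have key := Groth.Agent.Helper6.NT.negfun3 T h2 u0 u1 u2 (by norm_num) 3 2 2 (by norm_num) (by norm_num)
            linarith only [key, tap_0_1, taq_0_1, z_0_2, tap_1_2, taq_1_2, T.w_pos u0, T.w_pos u1, T.w_pos u2]
          · -- (1,2) Tp
            exfalso
            have key := Groth.Agent.Helper6.NT.negfun3 T h2 u0 u1 u2 (by norm_num) 3 2 1 (by norm_num) (by norm_num)
            linarith only [key, tap_0_1, taq_0_1, z_0_2, tap_1_2, taq_1_2, T.w_pos u0, T.w_pos u1, T.w_pos u2]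
          · -- (1,2) Tm
            exfalso
            have key := Groth.Agent.Helper6.NT.negfun3 T h2 u0 u1 u2 (by norm_num) 1 1 1 (by norm_num) (by norm_num)
            linarith only [key, tap_0_1, taq_0_1, z_0_2, tap_1_2, taq_1_2, T.w_pos u0, T.w_pos u1, T.w_pos u2]
        · push Not at hx
          have cl_1 := hx
          clear hx
          exfalso
          refine Groth.Agent.Helper6.NT.closed_contra T [u0, u1] (by simp) (by simp) ?_
          intro i hi j hj
          simp only [List.mem_cons, List.not_mem_nil, or_false, not_or] at hi hj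
          rcases hi with rfl | rfl
          · exact cl_0 j ⟨hj.1, hj.2⟩
          · exact cl_1 j ⟨hj.1, hj.2⟩
    · -- (0,1) Tm
      by_cases hx : ∃ j, (j ≠ u0 ∧ j ≠ u1) ∧ T.a u0 j ≠ 0
      · obtain ⟨u2, ⟨hn_2_0, hn_2_1⟩, e_0_2⟩ := hx
        rcases Groth.Agent.Helper6.NT.edge5 T h2 (by norm_num) u0 u2 hn_2_0.symm e_0_2 with ⟨tw_0_2, tap_0_2, taq_0_2⟩ | ⟨tw_0_2, tap_0_2, taq_0_2⟩ | ⟨tw_0_2, tap_0_2, taq_0_2⟩ | ⟨tw_0_2, tap_0_2, taq_0_2⟩ | ⟨tw_0_2, tap_0_2, taq_0_2⟩
        · -- (0,2) S
          exfalso
          have key := Groth.Agent.Helper6.NT.negfun3 T h2 u0 u1 u2 (by norm_num) 2 3 1 (by norm_num) (by norm_num)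
          linarith only [key, tap_0_1, taq_0_1, tap_0_2, taq_0_2, T.offDiag_nonneg u1 u2 hn_2_1.symm, T.w_pos u0, T.w_pos u1, T.w_pos u2]
        · -- (0,2) Dp
          exfalso
          have key := Groth.Agent.Helper6.NT.negfun3 T h2 u0 u1 u2 (by norm_num) 2 3 1 (by norm_num) (by norm_num)
          linarith only [key, tap_0_1, taq_0_1, tap_0_2, taq_0_2, T.offDiag_nonneg u1 u2 hn_2_1.symm, T.w_pos u0, T.w_pos u1, T.w_pos u2]
        · -- (0,2) Dm
          exfalso
          have key := Groth.Agent.Helper6.NT.negfun3 T h2 u0 u1 u2 (by norm_num) 2 3 2 (by norm_num) (by norm_num)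
          linarith only [key, tap_0_1, taq_0_1, tap_0_2, taq_0_2, T.offDiag_nonneg u1 u2 hn_2_1.symm, T.w_pos u0, T.w_pos u1, T.w_pos u2]
        · -- (0,2) Tp
          exfalso
          have key := Groth.Agent.Helper6.NT.negfun3 T h2 u0 u1 u2 (by norm_num) 2 3 1 (by norm_num) (by norm_num)
          linarith only [key, tap_0_1, taq_0_1, tap_0_2, taq_0_2, T.offDiag_nonneg u1 u2 hn_2_1.symm, T.w_pos u0, T.w_pos u1, T.w_pos u2]
        · -- (0,2) Tm
          exfalso
          have key := Groth.Agent.Helper6.NT.negfun3 T h2 u0 u1 u2 (by norm_num) 1 1 1 (by norm_num) (by norm_num)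
          linarith only [key, tap_0_1, taq_0_1, tap_0_2, taq_0_2, T.offDiag_nonneg u1 u2 hn_2_1.symm, T.w_pos u0, T.w_pos u1, T.w_pos u2]
      · push Not at hx
        have cl_0 := hx
        clear hx
        by_cases hx : ∃ j, (j ≠ u0 ∧ j ≠ u1) ∧ T.a u1 j ≠ 0
        · obtain ⟨u2, ⟨hn_2_0, hn_2_1⟩, e_1_2⟩ := hx
          have z_0_2 : T.a u0 u2 = 0 := cl_0 u2 ⟨hn_2_0, hn_2_1⟩
          rcases Groth.Agent.Helper6.NT.edge5 T h2 (by norm_num) u1 u2 hn_2_1.symm e_1_2 with ⟨tw_1_2, tap_1_2, taq_1_2⟩ | ⟨tw_1_2, tap_1_2, taq_1_2⟩ | ⟨tw_1_2, tap_1_2, taq_1_2⟩ | ⟨tw_1_2, tap_1_2, taq_1_2⟩ | ⟨tw_1_2, tap_1_2, taq_1_2⟩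
          · -- (1,2) S
            exfalso
            have key := Groth.Agent.Helper6.NT.negfun3 T h2 u0 u1 u2 (by norm_num) 1 2 1 (by norm_num) (by norm_num)
            linarith only [key, tap_0_1, taq_0_1, z_0_2, tap_1_2, taq_1_2, T.w_pos u0, T.w_pos u1, T.w_pos u2]
          · -- (1,2) Dp
            exfalso
            have key := Groth.Agent.Helper6.NT.negfun3 T h2 u0 u1 u2 (by norm_num) 1 2 1 (by norm_num) (by norm_num)
            linarith only [key, tap_0_1, taq_0_1, z_0_2, tap_1_2, taq_1_2, T.w_pos u0, T.w_pos u1, T.w_pos u2]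
          · -- (1,2) Dm
            exfalso
            have key := Groth.Agent.Helper6.NT.negfun3 T h2 u0 u1 u2 (by norm_num) 1 2 2 (by norm_num) (by norm_num)
            linarith only [key, tap_0_1, taq_0_1, z_0_2, tap_1_2, taq_1_2, T.w_pos u0, T.w_pos u1, T.w_pos u2]
          · -- (1,2) Tp
            exfalso
            have key := Groth.Agent.Helper6.NT.negfun3 T h2 u0 u1 u2 (by norm_num) 1 2 1 (by norm_num) (by norm_num)
            linarith only [key, tap_0_1, taq_0_1, z_0_2, tap_1_2, taq_1_2, T.w_pos u0, T.w_pos u1, T.w_pos u2]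
          · -- (1,2) Tm
            exfalso
            have key := Groth.Agent.Helper6.NT.negfun3 T h2 u0 u1 u2 (by norm_num) 1 2 3 (by norm_num) (by norm_num)
            linarith only [key, tap_0_1, taq_0_1, z_0_2, tap_1_2, taq_1_2, T.w_pos u0, T.w_pos u1, T.w_pos u2]
        · push Not at hx
          have cl_1 := hx
          clear hx
          exfalso
          refine Groth.Agent.Helper6.NT.closed_contra T [u0, u1] (by simp) (by simp) ?_
          intro i hi j hj
          simp only [List.mem_cons, List.not_mem_nil, or_false, not_or] at hi hj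
          rcases hi with rfl | rfl
          · exact cl_0 j ⟨hj.1, hj.2⟩
          · exact cl_1 j ⟨hj.1, hj.2⟩
  · push Not at hx
    have cl_0 := hx
    clear hx
    exfalso
    refine Groth.Agent.Helper6.NT.closed_contra T [u0] (by simp) (by simp) ?_
    intro i hi j hj
    simp only [List.mem_cons, List.not_mem_nil, or_false, not_or] at hi hj
    subst hi
    · exact cl_0 j hj

end Groth.Agent.S7364
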