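import Groth.Statements.S7365
import Groth.Agent.Lib.Helper6.NumType16

set_option autoImplicit false
open Finset
open Models Models.NumericalType

namespace Groth.Agent.S7365

/-- Genus one classification: case n = 5: let T be a minimal numerical type of genus 1 on 5 indices.
Then all g_i = 0 and, for some permutation σ of the indices and some integers m, w, the
multiplicities, weights and intersection matrix (m_{σ(i)}, w_{σ(i)}, a_{σ(i)σ(j)}) are those of one
of the following 9 types: [five cycle] m = (m, m, m, m, m), w = (w, w, w, w, w), a = (-2 * w w 0 0 w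
/ w -2 * w w 0 0 / 0 w -2 * w w 0 / 0 0 w -2 * w w / w 0 0 w -2 * w); [equal equal up equal] m = (m,
2 * m, 3 * m, 2 * m, m), w = (w, w, w, 2 * w, 2 * w), a = (-2 * w w 0 0 0 / w -2 * w w 0 0 / 0 w -2
* w 2 * w 0 / 0 0 2 * w -4 * w 2 * w / 0 0 0 2 * w -4 * w); [equal equal down equal] m = (m, 2 * m,
3 * m, 4 * m, 2 * m), w = (2 * w, 2 * w, 2 * w, w, w), a = (-4 * w 2 * w 0 0 0 / 2 * w -4 * w 2 * w
0 0 / 0 2 * w -4 * w 2 * w 0 / 0 0 2 * w -2 * w w / 0 0 0 w -2 * w); [up equal equal up] m = (2 * m,
2 * m, 2 * m, 2 * m, m), w = (w, 2 * w, 2 * w, 2 * w, 4 * w), a = (-2 * w 2 * w 0 0 0 / 2 * w -4 * w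
2 * w 0 0 / 0 2 * w -4 * w 2 * w 0 / 0 0 2 * w -4 * w 4 * w / 0 0 0 4 * w -8 * w); [up equal equal
down] m = (m, m, m, m, m), w = (w, 2 * w, 2 * w, 2 * w, w), a = (-2 * w 2 * w 0 0 0 / 2 * w -4 * w 2
* w 0 0 / 0 2 * w -4 * w 2 * w 0 / 0 0 2 * w -4 * w 2 * w / 0 0 0 2 * w -2 * w); [down equal equal
up] m = (m, 2 * m, 2 * m, 2 * m, m), w = (2 * w, w, w, w, 2 * w), a = (-4 * w 2 * w 0 0 0 / 2 * w -2
* w w 0 0 / 0 w -2 * w w 0 / 0 0 w -2 * w 2 * w / 0 0 0 2 * w -4 * w); [quadruple] m = (2 * m, m, m,
m, m), w = (w, w, w, w, w), a = (-2 * w w w w w / w -2 * w 0 0 0 / w 0 -2 * w 0 0 / w 0 0 -2 * w 0 /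
w 0 0 0 -2 * w); [triple extended up] m = (m, 2 * m, 2 * m, m, m), w = (2 * w, w, w, w, w), a = (-4
* w 2 * w 0 0 0 / 2 * w -2 * w w 0 0 / 0 w -2 * w w w / 0 0 w -2 * w 0 / 0 0 w 0 -2 * w); [triple
extended down] m = (2 * m, 2 * m, 2 * m, m, m), w = (w, 2 * w, 2 * w, 2 * w, 2 * w), a = (-2 * w 2 *
w 0 0 0 / 2 * w -4 * w 2 * w 0 0 / 0 2 * w -4 * w 2 * w 2 * w / 0 0 2 * w -4 * w 0 / 0 0 2 * w 0 -4
* w). Only the classification direction is stated. -/
theorem result (T : Models.NumericalType 5) (hmin : T.IsMinimal) (hg : T.genus = 1) :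
    (∀ i, T.g i = 0) ∧ ∃ (σ : Equiv.Perm (Fin 5)) (m w : ℤ),
      ((T.m (σ 0) = m ∧ T.m (σ 1) = m ∧ T.m (σ 2) = m ∧ T.m (σ 3) = m ∧ T.m (σ 4) = m ∧ T.w (σ 0) = w ∧ T.w (σ 1) = w ∧ T.w (σ 2) = w ∧ T.w (σ 3) = w ∧ T.w (σ 4) = w ∧ T.a (σ 0) (σ 0) = -2 * w ∧ T.a (σ 0) (σ 1) = w ∧ T.a (σ 0) (σ 2) = 0 ∧ T.a (σ 0) (σ 3) = 0 ∧ T.a (σ 0) (σ 4) = w ∧ T.a (σ 1) (σ 1) = -2 * w ∧ T.a (σ 1) (σ 2) = w ∧ T.a (σ 1) (σ 3) = 0 ∧ T.a (σ 1) (σ 4) = 0 ∧ T.a (σ 2) (σ 2) = -2 * w ∧ T.a (σ 2) (σ 3) = w ∧ T.a (σ 2) (σ 4) = 0 ∧ T.a (σ 3) (σ 3) = -2 * w ∧ T.a (σ 3) (σ 4) = w ∧ T.a (σ 4) (σ 4) = -2 * w) ∨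
      (T.m (σ 0) = m ∧ T.m (σ 1) = 2 * m ∧ T.m (σ 2) = 3 * m ∧ T.m (σ 3) = 2 * m ∧ T.m (σ 4) = m ∧ T.w (σ 0) = w ∧ T.w (σ 1) = w ∧ T.w (σ 2) = w ∧ T.w (σ 3) = 2 * w ∧ T.w (σ 4) = 2 * w ∧ T.a (σ 0) (σ 0) = -2 * w ∧ T.a (σ 0) (σ 1) = w ∧ T.a (σ 0) (σ 2) = 0 ∧ T.a (σ 0) (σ 3) = 0 ∧ T.a (σ 0) (σ 4) = 0 ∧ T.a (σ 1) (σ 1) = -2 * w ∧ T.a (σ 1) (σ 2) = w ∧ T.a (σ 1) (σ 3) = 0 ∧ T.a (σ 1) (σ 4) = 0 ∧ T.a (σ 2) (σ 2) = -2 * w ∧ T.a (σ 2) (σ 3) = 2 * w ∧ T.a (σ 2) (σ 4) = 0 ∧ T.a (σ 3) (σ 3) = -4 * w ∧ T.a (σ 3) (σ 4) = 2 * w ∧ T.a (σ 4) (σ 4) = -4 * w) ∨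
      (T.m (σ 0) = m ∧ T.m (σ 1) = 2 * m ∧ T.m (σ 2) = 3 * m ∧ T.m (σ 3) = 4 * m ∧ T.m (σ 4) = 2 * m ∧ T.w (σ 0) = 2 * w ∧ T.w (σ 1) = 2 * w ∧ T.w (σ 2) = 2 * w ∧ T.w (σ 3) = w ∧ T.w (σ 4) = w ∧ T.a (σ 0) (σ 0) = -4 * w ∧ T.a (σ 0) (σ 1) = 2 * w ∧ T.a (σ 0) (σ 2) = 0 ∧ T.a (σ 0) (σ 3) = 0 ∧ T.a (σ 0) (σ 4) = 0 ∧ T.a (σ 1) (σ 1) = -4 * w ∧ T.a (σ 1) (σ 2) = 2 * w ∧ T.a (σ 1) (σ 3) = 0 ∧ T.a (σ 1) (σ 4) = 0 ∧ T.a (σ 2) (σ 2) = -4 * w ∧ T.a (σ 2) (σ 3) = 2 * w ∧ T.a (σ 2) (σ 4) = 0 ∧ T.a (σ 3) (σ 3) = -2 * w ∧ T.a (σ 3) (σ 4) = w ∧ T.a (σ 4) (σ 4) = -2 * w) ∨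
      (T.m (σ 0) = 2 * m ∧ T.m (σ 1) = 2 * m ∧ T.m (σ 2) = 2 * m ∧ T.m (σ 3) = 2 * m ∧ T.m (σ 4) = m ∧ T.w (σ 0) = w ∧ T.w (σ 1) = 2 * w ∧ T.w (σ 2) = 2 * w ∧ T.w (σ 3) = 2 * w ∧ T.w (σ 4) = 4 * w ∧ T.a (σ 0) (σ 0) = -2 * w ∧ T.a (σ 0) (σ 1) = 2 * w ∧ T.a (σ 0) (σ 2) = 0 ∧ T.a (σ 0) (σ 3) = 0 ∧ T.a (σ 0) (σ 4) = 0 ∧ T.a (σ 1) (σ 1) = -4 * w ∧ T.a (σ 1) (σ 2) = 2 * w ∧ T.a (σ 1) (σ 3) = 0 ∧ T.a (σ 1) (σ 4) = 0 ∧ T.a (σ 2) (σ 2) = -4 * w ∧ T.a (σ 2) (σ 3) = 2 * w ∧ T.a (σ 2) (σ 4) = 0 ∧ T.a (σ 3) (σ 3) = -4 * w ∧ T.a (σ 3) (σ 4) = 4 * w ∧ T.a (σ 4) (σ 4) = -8 * w) ∨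
      (T.m (σ 0) = m ∧ T.m (σ 1) = m ∧ T.m (σ 2) = m ∧ T.m (σ 3) = m ∧ T.m (σ 4) = m ∧ T.w (σ 0) = w ∧ T.w (σ 1) = 2 * w ∧ T.w (σ 2) = 2 * w ∧ T.w (σ 3) = 2 * w ∧ T.w (σ 4) = w ∧ T.a (σ 0) (σ 0) = -2 * w ∧ T.a (σ 0) (σ 1) = 2 * w ∧ T.a (σ 0) (σ 2) = 0 ∧ T.a (σ 0) (σ 3) = 0 ∧ T.a (σ 0) (σ 4) = 0 ∧ T.a (σ 1) (σ 1) = -4 * w ∧ T.a (σ 1) (σ 2) = 2 * w ∧ T.a (σ 1) (σ 3) = 0 ∧ T.a (σ 1) (σ 4) = 0 ∧ T.a (σ 2) (σ 2) = -4 * w ∧ T.a (σ 2) (σ 3) = 2 * w ∧ T.a (σ 2) (σ 4) = 0 ∧ T.a (σ 3) (σ 3) = -4 * w ∧ T.a (σ 3) (σ 4) = 2 * w ∧ T.a (σ 4) (σ 4) = -2 * w) ∨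
      (T.m (σ 0) = m ∧ T.m (σ 1) = 2 * m ∧ T.m (σ 2) = 2 * m ∧ T.m (σ 3) = 2 * m ∧ T.m (σ 4) = m ∧ T.w (σ 0) = 2 * w ∧ T.w (σ 1) = w ∧ T.w (σ 2) = w ∧ T.w (σ 3) = w ∧ T.w (σ 4) = 2 * w ∧ T.a (σ 0) (σ 0) = -4 * w ∧ T.a (σ 0) (σ 1) = 2 * w ∧ T.a (σ 0) (σ 2) = 0 ∧ T.a (σ 0) (σ 3) = 0 ∧ T.a (σ 0) (σ 4) = 0 ∧ T.a (σ 1) (σ 1) = -2 * w ∧ T.a (σ 1) (σ 2) = w ∧ T.a (σ 1) (σ 3) = 0 ∧ T.a (σ 1) (σ 4) = 0 ∧ T.a (σ 2) (σ 2) = -2 * w ∧ T.a (σ 2) (σ 3) = w ∧ T.a (σ 2) (σ 4) = 0 ∧ T.a (σ 3) (σ 3) = -2 * w ∧ T.a (σ 3) (σ 4) = 2 * w ∧ T.a (σ 4) (σ 4) = -4 * w) ∨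
      (T.m (σ 0) = 2 * m ∧ T.m (σ 1) = m ∧ T.m (σ 2) = m ∧ T.m (σ 3) = m ∧ T.m (σ 4) = m ∧ T.w (σ 0) = w ∧ T.w (σ 1) = w ∧ T.w (σ 2) = w ∧ T.w (σ 3) = w ∧ T.w (σ 4) = w ∧ T.a (σ 0) (σ 0) = -2 * w ∧ T.a (σ 0) (σ 1) = w ∧ T.a (σ 0) (σ 2) = w ∧ T.a (σ 0) (σ 3) = w ∧ T.a (σ 0) (σ 4) = w ∧ T.a (σ 1) (σ 1) = -2 * w ∧ T.a (σ 1) (σ 2) = 0 ∧ T.a (σ 1) (σ 3) = 0 ∧ T.a (σ 1) (σ 4) = 0 ∧ T.a (σ 2) (σ 2) = -2 * w ∧ T.a (σ 2) (σ 3) = 0 ∧ T.a (σ 2) (σ 4) = 0 ∧ T.a (σ 3) (σ 3) = -2 * w ∧ T.a (σ 3) (σ 4) = 0 ∧ T.a (σ 4) (σ 4) = -2 * w) ∨
      (T.m (σ 0) = m ∧ T.m (σ 1) = 2 * m ∧ T.m (σ 2) = 2 * m ∧ T.m (σ 3) = m ∧ T.m (σ 4) = m ∧ T.w (σ 0) = 2 * w ∧ T.w (σ 1) = w ∧ T.w (σ 2) = w ∧ T.w (σ 3) = w ∧ T.w (σ 4) = w ∧ T.a (σ 0) (σ 0) = -4 * w ∧ T.a (σ 0) (σ 1) = 2 * w ∧ T.a (σ 0) (σ 2) = 0 ∧ T.a (σ 0) (σ 3) = 0 ∧ T.a (σ 0) (σ 4) = 0 ∧ T.a (σ 1) (σ 1) = -2 * w ∧ T.a (σ 1) (σ 2) = w ∧ T.a (σ 1) (σ 3) = 0 ∧ T.a (σ 1) (σ 4) = 0 ∧ T.a (σ 2) (σ 2) = -2 * w ∧ T.a (σ 2) (σ 3) = w ∧ T.a (σ 2) (σ 4) = w ∧ T.a (σ 3) (σ 3) = -2 * w ∧ T.a (σ 3) (σ 4) = 0 ∧ T.a (σ 4) (σ 4) = -2 * w) ∨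
      (T.m (σ 0) = 2 * m ∧ T.m (σ 1) = 2 * m ∧ T.m (σ 2) = 2 * m ∧ T.m (σ 3) = m ∧ T.m (σ 4) = m ∧ T.w (σ 0) = w ∧ T.w (σ 1) = 2 * w ∧ T.w (σ 2) = 2 * w ∧ T.w (σ 3) = 2 * w ∧ T.w (σ 4) = 2 * w ∧ T.a (σ 0) (σ 0) = -2 * w ∧ T.a (σ 0) (σ 1) = 2 * w ∧ T.a (σ 0) (σ 2) = 0 ∧ T.a (σ 0) (σ 3) = 0 ∧ T.a (σ 0) (σ 4) = 0 ∧ T.a (σ 1) (σ 1) = -4 * w ∧ T.a (σ 1) (σ 2) = 2 * w ∧ T.a (σ 1) (σ 3) = 0 ∧ T.a (σ 1) (σ 4) = 0 ∧ T.a (σ 2) (σ 2) = -4 * w ∧ T.a (σ 2) (σ 3) = 2 * w ∧ T.a (σ 2) (σ 4) = 2 * w ∧ T.a (σ 3) (σ 3) = -4 * w ∧ T.a (σ 3) (σ 4) = 0 ∧ T.a (σ 4) (σ 4) = -4 * w)) := by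
  have h2 := Groth.Agent.Helper6.NT.all_minusTwo T (by norm_num) hmin hg
  refine ⟨fun i => (h2 i).1, ?_⟩
  obtain ⟨u0, -⟩ : ∃ u0 : Fin 5, True := ⟨0, trivial⟩
  by_cases hx : ∃ j, j ≠ u0 ∧ T.a u0 j ≠ 0
  · obtain ⟨u1, hn_1_0, e_0_1⟩ := hx
    rcases Groth.Agent.Helper6.NT.edge5 T h2 (by norm_num) u0 u1 hn_1_0.symm e_0_1 with ⟨tw_0_1, tap_0_1, taq_0_1⟩ | ⟨tw_0_1, tap_0_1, taq_0_1⟩ | ⟨tw_0_1, tap_0_1, taq_0_1⟩ | ⟨tw_0_1, tap_0_1, taq_0_1⟩ | ⟨tw_0_1, tap_0_1, taq_0_1⟩
    · -- (0,1) S
      by_cases hx : ∃ j, (j ≠ u0 ∧ j ≠ u1) ∧ T.a u0 j ≠ 0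
      · obtain ⟨u2, ⟨hn_2_0, hn_2_1⟩, e_0_2⟩ := hx
        rcases Groth.Agent.Helper6.NT.edge5 T h2 (by norm_num) u0 u2 hn_2_0.symm e_0_2 with ⟨tw_0_2, tap_0_2, taq_0_2⟩ | ⟨tw_0_2, tap_0_2, taq_0_2⟩ | ⟨tw_0_2, tap_0_2, taq_0_2⟩ | ⟨tw_0_2, tap_0_2, taq_0_2⟩ | ⟨tw_0_2, tap_0_2, taq_0_2⟩
        · -- (0,2) S
          rcases eq_or_ne (T.a u1 u2) 0 with z_1_2 | nz_1_2
          · -- (1,2) zero
            by_cases hx : ∃ j, (j ≠ u0 ∧ j ≠ u1 ∧ j ≠ u2) ∧ T.a u0 j ≠ 0
            · obtain ⟨u3, ⟨hn_3_0, hn_3_1, hn_3_2⟩, e_0_3⟩ := hx
              rcases Groth.Agent.Helper6.NT.edge5 T h2 (by norm_num) u0 u3 hn_3_0.symm e_0_3 with ⟨tw_0_3, tap_0_3, taq_0_3⟩ | ⟨tw_0_3, tap_0_3, taq_0_3⟩ | ⟨tw_0_3, tap_0_3, taq_0_3⟩ | ⟨tw_0_3, tap_0_3, taq_0_3⟩ | ⟨tw_0_3, tap_0_3, taq_0_3⟩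
              · -- (0,3) S
                rcases eq_or_ne (T.a u1 u3) 0 with z_1_3 | nz_1_3
                · -- (1,3) zero
                  rcases eq_or_ne (T.a u2 u3) 0 with z_2_3 | nz_2_3
                  · -- (2,3) zero
                    by_cases hx : ∃ j, (j ≠ u0 ∧ j ≠ u1 ∧ j ≠ u2 ∧ j ≠ u3) ∧ T.a u0 j ≠ 0
                    · obtain ⟨u4, ⟨hn_4_0, hn_4_1, hn_4_2, hn_4_3⟩, e_0_4⟩ := hx
                      rcases Groth.Agent.Helper6.NT.edge5 T h2 (by norm_num) u0 u4 hn_4_0.symm e_0_4 with ⟨tw_0_4, tap_0_4, taq_0_4⟩ | ⟨tw_0_4, tap_0_4, taq_0_4⟩ | ⟨tw_0_4, tap_0_4, taq_0_4⟩ | ⟨tw_0_4, tap_0_4, taq_0_4⟩ | ⟨tw_0_4, tap_0_4, taq_0_4⟩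
                      · -- (0,4) S
                        rcases eq_or_ne (T.a u1 u4) 0 with z_1_4 | nz_1_4
                        · -- (1,4) zero
                          rcases eq_or_ne (T.a u2 u4) 0 with z_2_4 | nz_2_4
                          · -- (2,4) zero
                            rcases eq_or_ne (T.a u3 u4) 0 with z_3_4 | nz_3_4
                            · -- (3,4) zero
                              have hinj := Groth.Agent.Helper6.NT.inj5 u0 u1 u2 u3 u4 hn_1_0 hn_2_0 hn_2_1 hn_3_0 hn_3_1 hn_3_2 hn_4_0 hn_4_1 hn_4_2 hn_4_3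
                              have r_0 : -2 * T.m u0 + 1 * T.m u1 + 1 * T.m u2 + 1 * T.m u3 + 1 * T.m u4 = 0 := by
                                have key := Groth.Agent.Helper6.NT.rowfun5 T u0 u1 u2 u3 u4 hinj u0
                                rw [(h2 u0).2, tap_0_1, tap_0_2, tap_0_3, tap_0_4] at key
                                exact mul_left_cancel₀ (T.w_pos u0).ne' (by linarith only [key])
                              have r_1 : 1 * T.m u0 + -2 * T.m u1 = 0 := by
                                have key := Groth.Agent.Helper6.NT.rowfun5 T u0 u1 u2 u3 u4 hinj u1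
                                rw [Groth.Agent.Helper6.NT.symm' T u1 u0, taq_0_1, (h2 u1).2, z_1_2, z_1_3, z_1_4] at key
                                exact mul_left_cancel₀ (T.w_pos u1).ne' (by linarith only [key])
                              have r_2 : 1 * T.m u0 + -2 * T.m u2 = 0 := by
                                have key := Groth.Agent.Helper6.NT.rowfun5 T u0 u1 u2 u3 u4 hinj u2
                                rw [Groth.Agent.Helper6.NT.symm' T u2 u0, taq_0_2, Groth.Agent.Helper6.NT.symm' T u2 u1, z_1_2, (h2 u2).2, z_2_3, z_2_4] at key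
                                exact mul_left_cancel₀ (T.w_pos u2).ne' (by linarith only [key])
                              have r_3 : 1 * T.m u0 + -2 * T.m u3 = 0 := by
                                have key := Groth.Agent.Helper6.NT.rowfun5 T u0 u1 u2 u3 u4 hinj u3
                                rw [Groth.Agent.Helper6.NT.symm' T u3 u0, taq_0_3, Groth.Agent.Helper6.NT.symm' T u3 u1, z_1_3, Groth.Agent.Helper6.NT.symm' T u3 u2, z_2_3, (h2 u3).2, z_3_4] at key
                                exact mul_left_cancel₀ (T.w_pos u3).ne' (by linarith only [key])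
                              have r_4 : 1 * T.m u0 + -2 * T.m u4 = 0 := by
                                have key := Groth.Agent.Helper6.NT.rowfun5 T u0 u1 u2 u3 u4 hinj u4
                                rw [Groth.Agent.Helper6.NT.symm' T u4 u0, taq_0_4, Groth.Agent.Helper6.NT.symm' T u4 u1, z_1_4, Groth.Agent.Helper6.NT.symm' T u4 u2, z_2_4, Groth.Agent.Helper6.NT.symm' T u4 u3, z_3_4, (h2 u4).2] at key
                                exact mul_left_cancel₀ (T.w_pos u4).ne' (by linarith only [key])
                              have f0 : T.m u0 = 2 * T.m u1 := by linarith only [r_0, r_1, r_2, r_3, r_4]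
                              have f1 : T.m u1 = T.m u1 := rfl
                              have f2 : T.m u2 = T.m u1 := by linarith only [r_0, r_1, r_2, r_3, r_4]
                              have f3 : T.m u3 = T.m u1 := by linarith only [r_0, r_1, r_2, r_3, r_4]
                              have f4 : T.m u4 = T.m u1 := by linarith only [r_0, r_1, r_2, r_3, r_4]
                              have f5 : T.w u0 = T.w u0 := rfl
                              have f6 : T.w u1 = T.w u0 := by linarith only [tw_0_1, tw_0_2, tw_0_3, tw_0_4]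
                              have f7 : T.w u2 = T.w u0 := by linarith only [tw_0_1, tw_0_2, tw_0_3, tw_0_4]
                              have f8 : T.w u3 = T.w u0 := by linarith only [tw_0_1, tw_0_2, tw_0_3, tw_0_4]
                              have f9 : T.w u4 = T.w u0 := by linarith only [tw_0_1, tw_0_2, tw_0_3, tw_0_4]
                              have f10 : T.a u0 u0 = -2 * T.w u0 := by have := (h2 u0).2; linarith only [this, tw_0_1, tw_0_2, tw_0_3, tw_0_4]
                              have f11 : T.a u0 u1 = T.w u0 := by linarith only [tap_0_1, tw_0_1, tw_0_2, tw_0_3, tw_0_4]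
                              have f12 : T.a u0 u2 = T.w u0 := by linarith only [tap_0_2, tw_0_1, tw_0_2, tw_0_3, tw_0_4]
                              have f13 : T.a u0 u3 = T.w u0 := by linarith only [tap_0_3, tw_0_1, tw_0_2, tw_0_3, tw_0_4]
                              have f14 : T.a u0 u4 = T.w u0 := by linarith only [tap_0_4, tw_0_1, tw_0_2, tw_0_3, tw_0_4]
                              have f15 : T.a u1 u1 = -2 * T.w u0 := by have := (h2 u1).2; linarith only [this, tw_0_1, tw_0_2, tw_0_3, tw_0_4]
                              have f16 : T.a u1 u2 = 0 := by exact z_1_2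
                              have f17 : T.a u1 u3 = 0 := by exact z_1_3
                              have f18 : T.a u1 u4 = 0 := by exact z_1_4
                              have f19 : T.a u2 u2 = -2 * T.w u0 := by have := (h2 u2).2; linarith only [this, tw_0_1, tw_0_2, tw_0_3, tw_0_4]
                              have f20 : T.a u2 u3 = 0 := by exact z_2_3
                              have f21 : T.a u2 u4 = 0 := by exact z_2_4
                              have f22 : T.a u3 u3 = -2 * T.w u0 := by have := (h2 u3).2; linarith only [this, tw_0_1, tw_0_2, tw_0_3, tw_0_4]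
                              have f23 : T.a u3 u4 = 0 := by exact z_3_4
                              have f24 : T.a u4 u4 = -2 * T.w u0 := by have := (h2 u4).2; linarith only [this, tw_0_1, tw_0_2, tw_0_3, tw_0_4]
                              have hsig := Groth.Agent.Helper6.NT.inj5 u0 u1 u2 u3 u4 hn_1_0 hn_2_0 hn_2_1 hn_3_0 hn_3_1 hn_3_2 hn_4_0 hn_4_1 hn_4_2 hn_4_3
                              exact ⟨Equiv.ofBijective _ (Finite.injective_iff_bijective.1 hsig), T.m u1, T.w u0, Or.inr (Or.inr (Or.inr (Or.inr (Or.inr (Or.inr (Or.inl ⟨f0, f1, f2, f3, f4, f5, f6, f7, f8, f9, f10, f11, f12, f13, f14, f15, f16, f17, f18, f19, f20, f21, f22, f23, f24⟩))))))⟩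
                            · -- (3,4) nonzero
                              obtain ⟨lbp_3_4, lbq_3_4⟩ := Groth.Agent.Helper6.NT.lb T u3 u4 hn_4_3.symm nz_3_4
                              exfalso
                              have key := Groth.Agent.Helper6.NT.negfun3 T h2 u0 u3 u4 (by norm_num) 1 1 1 (by norm_num) (by norm_num)
                              linarith only [key, tap_0_3, taq_0_3, tap_0_4, taq_0_4, lbp_3_4, lbq_3_4, T.w_pos u0, T.w_pos u3, T.w_pos u4]
                          · -- (2,4) nonzero
                            obtain ⟨lbp_2_4, lbq_2_4⟩ := Groth.Agent.Helper6.NT.lb T u2 u4 hn_4_2.symm nz_2_4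
                            exfalso
                            have key := Groth.Agent.Helper6.NT.negfun3 T h2 u0 u2 u4 (by norm_num) 1 1 1 (by norm_num) (by norm_num)
                            linarith only [key, tap_0_2, taq_0_2, tap_0_4, taq_0_4, lbp_2_4, lbq_2_4, T.w_pos u0, T.w_pos u2, T.w_pos u4]
                        · -- (1,4) nonzero
                          obtain ⟨lbp_1_4, lbq_1_4⟩ := Groth.Agent.Helper6.NT.lb T u1 u4 hn_4_1.symm nz_1_4
                          exfalso
                          have key := Groth.Agent.Helper6.NT.negfun3 T h2 u0 u1 u4 (by norm_num) 1 1 1 (by norm_num) (by norm_num)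
                          linarith only [key, tap_0_1, taq_0_1, tap_0_4, taq_0_4, lbp_1_4, lbq_1_4, T.w_pos u0, T.w_pos u1, T.w_pos u4]
                      · -- (0,4) Dp
                        exfalso
                        have key := Groth.Agent.Helper6.NT.negfun4 T h2 u0 u2 u3 u4 (by norm_num) 2 1 1 1 (by norm_num) (by norm_num)
                        linarith only [key, tap_0_2, taq_0_2, tap_0_3, taq_0_3, tap_0_4, taq_0_4, z_2_3, T.offDiag_nonneg u2 u4 hn_4_2.symm, T.offDiag_nonneg u3 u4 hn_4_3.symm, T.w_pos u0, T.w_pos u2, T.w_pos u3, T.w_pos u4]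
                      · -- (0,4) Dm
                        exfalso
                        have key := Groth.Agent.Helper6.NT.negfun4 T h2 u0 u2 u3 u4 (by norm_num) 2 1 1 2 (by norm_num) (by norm_num)
                        linarith only [key, tap_0_2, taq_0_2, tap_0_3, taq_0_3, tap_0_4, taq_0_4, z_2_3, T.offDiag_nonneg u2 u4 hn_4_2.symm, T.offDiag_nonneg u3 u4 hn_4_3.symm, T.w_pos u0, T.w_pos u2, T.w_pos u3, T.w_pos u4]
                      · -- (0,4) Tp
                        exfalso
                        have key := Groth.Agent.Helper6.NT.negfun3 T h2 u0 u3 u4 (by norm_num) 2 1 1 (by norm_num) (by norm_num)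
                        linarith only [key, tap_0_3, taq_0_3, tap_0_4, taq_0_4, T.offDiag_nonneg u3 u4 hn_4_3.symm, T.w_pos u0, T.w_pos u3, T.w_pos u4]
                      · -- (0,4) Tm
                        exfalso
                        have key := Groth.Agent.Helper6.NT.negfun3 T h2 u0 u3 u4 (by norm_num) 2 1 3 (by norm_num) (by norm_num)
                        linarith only [key, tap_0_3, taq_0_3, tap_0_4, taq_0_4, T.offDiag_nonneg u3 u4 hn_4_3.symm, T.w_pos u0, T.w_pos u3, T.w_pos u4]
                    · push Not at hx
                      have cl_0 := hx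
                      clear hx
                      by_cases hx : ∃ j, (j ≠ u0 ∧ j ≠ u1 ∧ j ≠ u2 ∧ j ≠ u3) ∧ T.a u1 j ≠ 0
                      · obtain ⟨u4, ⟨hn_4_0, hn_4_1, hn_4_2, hn_4_3⟩, e_1_4⟩ := hx
                        have z_0_4 : T.a u0 u4 = 0 := cl_0 u4 ⟨hn_4_0, hn_4_1, hn_4_2, hn_4_3⟩
                        rcases Groth.Agent.Helper6.NT.edge5 T h2 (by norm_num) u1 u4 hn_4_1.symm e_1_4 with ⟨tw_1_4, tap_1_4, taq_1_4⟩ | ⟨tw_1_4, tap_1_4, taq_1_4⟩ | ⟨tw_1_4, tap_1_4, taq_1_4⟩ | ⟨tw_1_4, tap_1_4, taq_1_4⟩ | ⟨tw_1_4, tap_1_4, taq_1_4⟩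
                        · -- (1,4) S
                          rcases eq_or_ne (T.a u2 u4) 0 with z_2_4 | nz_2_4
                          · -- (2,4) zero
                            rcases eq_or_ne (T.a u3 u4) 0 with z_3_4 | nz_3_4
                            · -- (3,4) zero
                              have hinj := Groth.Agent.Helper6.NT.inj5 u0 u1 u2 u3 u4 hn_1_0 hn_2_0 hn_2_1 hn_3_0 hn_3_1 hn_3_2 hn_4_0 hn_4_1 hn_4_2 hn_4_3
                              have r_0 : -2 * T.m u0 + 1 * T.m u1 + 1 * T.m u2 + 1 * T.m u3 = 0 := by
                                have key := Groth.Agent.Helper6.NT.rowfun5 T u0 u1 u2 u3 u4 hinj u0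
                                rw [(h2 u0).2, tap_0_1, tap_0_2, tap_0_3, z_0_4] at key
                                exact mul_left_cancel₀ (T.w_pos u0).ne' (by linarith only [key])
                              have r_1 : 1 * T.m u0 + -2 * T.m u1 + 1 * T.m u4 = 0 := by
                                have key := Groth.Agent.Helper6.NT.rowfun5 T u0 u1 u2 u3 u4 hinj u1
                                rw [Groth.Agent.Helper6.NT.symm' T u1 u0, taq_0_1, (h2 u1).2, z_1_2, z_1_3, tap_1_4] at key
                                exact mul_left_cancel₀ (T.w_pos u1).ne' (by linarith only [key])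
                              have r_2 : 1 * T.m u0 + -2 * T.m u2 = 0 := by
                                have key := Groth.Agent.Helper6.NT.rowfun5 T u0 u1 u2 u3 u4 hinj u2
                                rw [Groth.Agent.Helper6.NT.symm' T u2 u0, taq_0_2, Groth.Agent.Helper6.NT.symm' T u2 u1, z_1_2, (h2 u2).2, z_2_3, z_2_4] at key
                                exact mul_left_cancel₀ (T.w_pos u2).ne' (by linarith only [key])
                              have r_3 : 1 * T.m u0 + -2 * T.m u3 = 0 := by
                                have key := Groth.Agent.Helper6.NT.rowfun5 T u0 u1 u2 u3 u4 hinj u3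
                                rw [Groth.Agent.Helper6.NT.symm' T u3 u0, taq_0_3, Groth.Agent.Helper6.NT.symm' T u3 u1, z_1_3, Groth.Agent.Helper6.NT.symm' T u3 u2, z_2_3, (h2 u3).2, z_3_4] at key
                                exact mul_left_cancel₀ (T.w_pos u3).ne' (by linarith only [key])
                              have r_4 : 1 * T.m u1 + -2 * T.m u4 = 0 := by
                                have key := Groth.Agent.Helper6.NT.rowfun5 T u0 u1 u2 u3 u4 hinj u4
                                rw [Groth.Agent.Helper6.NT.symm' T u4 u0, z_0_4, Groth.Agent.Helper6.NT.symm' T u4 u1, taq_1_4, Groth.Agent.Helper6.NT.symm' T u4 u2, z_2_4, Groth.Agent.Helper6.NT.symm' T u4 u3, z_3_4, (h2 u4).2] at key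
                                exact mul_left_cancel₀ (T.w_pos u4).ne' (by linarith only [key])
                              exfalso
                              linarith only [r_0, r_1, r_2, r_3, r_4, T.m_pos u0, T.m_pos u1, T.m_pos u2, T.m_pos u3, T.m_pos u4]
                            · -- (3,4) nonzero
                              obtain ⟨lbp_3_4, lbq_3_4⟩ := Groth.Agent.Helper6.NT.lb T u3 u4 hn_4_3.symm nz_3_4
                              exfalso
                              have key := Groth.Agent.Helper6.NT.negfun4 T h2 u0 u1 u3 u4 (by norm_num) 1 1 1 1 (by norm_num) (by norm_num)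
                              linarith only [key, tap_0_1, taq_0_1, tap_0_3, taq_0_3, z_0_4, z_1_3, tap_1_4, taq_1_4, lbp_3_4, lbq_3_4, T.w_pos u0, T.w_pos u1, T.w_pos u3, T.w_pos u4]
                          · -- (2,4) nonzero
                            obtain ⟨lbp_2_4, lbq_2_4⟩ := Groth.Agent.Helper6.NT.lb T u2 u4 hn_4_2.symm nz_2_4
                            exfalso
                            have key := Groth.Agent.Helper6.NT.negfun4 T h2 u0 u1 u2 u4 (by norm_num) 1 1 1 1 (by norm_num) (by norm_num)
                            linarith only [key, tap_0_1, taq_0_1, tap_0_2, taq_0_2, z_0_4, z_1_2, tap_1_4, taq_1_4, lbp_2_4, lbq_2_4, T.w_pos u0, T.w_pos u1, T.w_pos u2, T.w_pos u4]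
                        · -- (1,4) Dp
                          rcases eq_or_ne (T.a u2 u4) 0 with z_2_4 | nz_2_4
                          · -- (2,4) zero
                            rcases eq_or_ne (T.a u3 u4) 0 with z_3_4 | nz_3_4
                            · -- (3,4) zero
                              have hinj := Groth.Agent.Helper6.NT.inj5 u0 u1 u2 u3 u4 hn_1_0 hn_2_0 hn_2_1 hn_3_0 hn_3_1 hn_3_2 hn_4_0 hn_4_1 hn_4_2 hn_4_3
                              have r_0 : -2 * T.m u0 + 1 * T.m u1 + 1 * T.m u2 + 1 * T.m u3 = 0 := by
                                have key := Groth.Agent.Helper6.NT.rowfun5 T u0 u1 u2 u3 u4 hinj u0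
                                rw [(h2 u0).2, tap_0_1, tap_0_2, tap_0_3, z_0_4] at key
                                exact mul_left_cancel₀ (T.w_pos u0).ne' (by linarith only [key])
                              have r_1 : 1 * T.m u0 + -2 * T.m u1 + 2 * T.m u4 = 0 := by
                                have key := Groth.Agent.Helper6.NT.rowfun5 T u0 u1 u2 u3 u4 hinj u1
                                rw [Groth.Agent.Helper6.NT.symm' T u1 u0, taq_0_1, (h2 u1).2, z_1_2, z_1_3, tap_1_4] at key
                                exact mul_left_cancel₀ (T.w_pos u1).ne' (by linarith only [key])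
                              have r_2 : 1 * T.m u0 + -2 * T.m u2 = 0 := by
                                have key := Groth.Agent.Helper6.NT.rowfun5 T u0 u1 u2 u3 u4 hinj u2
                                rw [Groth.Agent.Helper6.NT.symm' T u2 u0, taq_0_2, Groth.Agent.Helper6.NT.symm' T u2 u1, z_1_2, (h2 u2).2, z_2_3, z_2_4] at key
                                exact mul_left_cancel₀ (T.w_pos u2).ne' (by linarith only [key])
                              have r_3 : 1 * T.m u0 + -2 * T.m u3 = 0 := by
                                have key := Groth.Agent.Helper6.NT.rowfun5 T u0 u1 u2 u3 u4 hinj u3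
                                rw [Groth.Agent.Helper6.NT.symm' T u3 u0, taq_0_3, Groth.Agent.Helper6.NT.symm' T u3 u1, z_1_3, Groth.Agent.Helper6.NT.symm' T u3 u2, z_2_3, (h2 u3).2, z_3_4] at key
                                exact mul_left_cancel₀ (T.w_pos u3).ne' (by linarith only [key])
                              have r_4 : 1 * T.m u1 + -2 * T.m u4 = 0 := by
                                have key := Groth.Agent.Helper6.NT.rowfun5 T u0 u1 u2 u3 u4 hinj u4
                                rw [Groth.Agent.Helper6.NT.symm' T u4 u0, z_0_4, Groth.Agent.Helper6.NT.symm' T u4 u1, taq_1_4, Groth.Agent.Helper6.NT.symm' T u4 u2, z_2_4, Groth.Agent.Helper6.NT.symm' T u4 u3, z_3_4, (h2 u4).2] at key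
                                exact mul_left_cancel₀ (T.w_pos u4).ne' (by linarith only [key])
                              have f0 : T.m u4 = T.m u4 := rfl
                              have f1 : T.m u1 = 2 * T.m u4 := by linarith only [r_0, r_1, r_2, r_3, r_4]
                              have f2 : T.m u0 = 2 * T.m u4 := by linarith only [r_0, r_1, r_2, r_3, r_4]
                              have f3 : T.m u2 = T.m u4 := by linarith only [r_0, r_1, r_2, r_3, r_4]
                              have f4 : T.m u3 = T.m u4 := by linarith only [r_0, r_1, r_2, r_3, r_4]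
                              have f5 : T.w u4 = 2 * T.w u1 := by linarith only [tw_0_1, tw_0_2, tw_0_3, tw_1_4]
                              have f6 : T.w u1 = T.w u1 := rfl
                              have f7 : T.w u0 = T.w u1 := by linarith only [tw_0_1, tw_0_2, tw_0_3, tw_1_4]
                              have f8 : T.w u2 = T.w u1 := by linarith only [tw_0_1, tw_0_2, tw_0_3, tw_1_4]
                              have f9 : T.w u3 = T.w u1 := by linarith only [tw_0_1, tw_0_2, tw_0_3, tw_1_4]
                              have f10 : T.a u4 u4 = -4 * T.w u1 := by have := (h2 u4).2; linarith only [this, tw_0_1, tw_0_2, tw_0_3, tw_1_4]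
                              have f11 : T.a u4 u1 = 2 * T.w u1 := by rw [Groth.Agent.Helper6.NT.symm' T u4 u1]; linarith only [tap_1_4, tw_0_1, tw_0_2, tw_0_3, tw_1_4]
                              have f12 : T.a u4 u0 = 0 := by rw [Groth.Agent.Helper6.NT.symm' T u4 u0]; exact z_0_4
                              have f13 : T.a u4 u2 = 0 := by rw [Groth.Agent.Helper6.NT.symm' T u4 u2]; exact z_2_4
                              have f14 : T.a u4 u3 = 0 := by rw [Groth.Agent.Helper6.NT.symm' T u4 u3]; exact z_3_4
                              have f15 : T.a u1 u1 = -2 * T.w u1 := by have := (h2 u1).2; linarith only [this, tw_0_1, tw_0_2, tw_0_3, tw_1_4]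
                              have f16 : T.a u1 u0 = T.w u1 := by rw [Groth.Agent.Helper6.NT.symm' T u1 u0]; linarith only [tap_0_1, tw_0_1, tw_0_2, tw_0_3, tw_1_4]
                              have f17 : T.a u1 u2 = 0 := by exact z_1_2
                              have f18 : T.a u1 u3 = 0 := by exact z_1_3
                              have f19 : T.a u0 u0 = -2 * T.w u1 := by have := (h2 u0).2; linarith only [this, tw_0_1, tw_0_2, tw_0_3, tw_1_4]
                              have f20 : T.a u0 u2 = T.w u1 := by linarith only [tap_0_2, tw_0_1, tw_0_2, tw_0_3, tw_1_4]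
                              have f21 : T.a u0 u3 = T.w u1 := by linarith only [tap_0_3, tw_0_1, tw_0_2, tw_0_3, tw_1_4]
                              have f22 : T.a u2 u2 = -2 * T.w u1 := by have := (h2 u2).2; linarith only [this, tw_0_1, tw_0_2, tw_0_3, tw_1_4]
                              have f23 : T.a u2 u3 = 0 := by exact z_2_3
                              have f24 : T.a u3 u3 = -2 * T.w u1 := by have := (h2 u3).2; linarith only [this, tw_0_1, tw_0_2, tw_0_3, tw_1_4]
                              have hsig := Groth.Agent.Helper6.NT.inj5 u4 u1 u0 u2 u3 hn_4_1.symm hn_4_0.symm hn_1_0.symm hn_4_2.symm hn_2_1 hn_2_0 hn_4_3.symm hn_3_1 hn_3_0 hn_3_2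
                              exact ⟨Equiv.ofBijective _ (Finite.injective_iff_bijective.1 hsig), T.m u4, T.w u1, Or.inr (Or.inr (Or.inr (Or.inr (Or.inr (Or.inr (Or.inr (Or.inl ⟨f0, f1, f2, f3, f4, f5, f6, f7, f8, f9, f10, f11, f12, f13, f14, f15, f16, f17, f18, f19, f20, f21, f22, f23, f24⟩)))))))⟩
                            · -- (3,4) nonzero
                              obtain ⟨lbp_3_4, lbq_3_4⟩ := Groth.Agent.Helper6.NT.lb T u3 u4 hn_4_3.symm nz_3_4
                              exfalso
                              have key := Groth.Agent.Helper6.NT.negfun4 T h2 u0 u1 u3 u4 (by norm_num) 2 3 2 2 (by norm_num) (by norm_num)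
                              linarith only [key, tap_0_1, taq_0_1, tap_0_3, taq_0_3, z_0_4, z_1_3, tap_1_4, taq_1_4, lbp_3_4, lbq_3_4, T.w_pos u0, T.w_pos u1, T.w_pos u3, T.w_pos u4]
                          · -- (2,4) nonzero
                            obtain ⟨lbp_2_4, lbq_2_4⟩ := Groth.Agent.Helper6.NT.lb T u2 u4 hn_4_2.symm nz_2_4
                            exfalso
                            have key := Groth.Agent.Helper6.NT.negfun4 T h2 u0 u1 u2 u4 (by norm_num) 2 3 2 2 (by norm_num) (by norm_num)
                            linarith only [key, tap_0_1, taq_0_1, tap_0_2, taq_0_2, z_0_4, z_1_2, tap_1_4, taq_1_4, lbp_2_4, lbq_2_4, T.w_pos u0, T.w_pos u1, T.w_pos u2, T.w_pos u4]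
                        · -- (1,4) Dm
                          rcases eq_or_ne (T.a u2 u4) 0 with z_2_4 | nz_2_4
                          · -- (2,4) zero
                            rcases eq_or_ne (T.a u3 u4) 0 with z_3_4 | nz_3_4
                            · -- (3,4) zero
                              have hinj := Groth.Agent.Helper6.NT.inj5 u0 u1 u2 u3 u4 hn_1_0 hn_2_0 hn_2_1 hn_3_0 hn_3_1 hn_3_2 hn_4_0 hn_4_1 hn_4_2 hn_4_3
                              have r_0 : -2 * T.m u0 + 1 * T.m u1 + 1 * T.m u2 + 1 * T.m u3 = 0 := by
                                have key := Groth.Agent.Helper6.NT.rowfun5 T u0 u1 u2 u3 u4 hinj u0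
                                rw [(h2 u0).2, tap_0_1, tap_0_2, tap_0_3, z_0_4] at key
                                exact mul_left_cancel₀ (T.w_pos u0).ne' (by linarith only [key])
                              have r_1 : 1 * T.m u0 + -2 * T.m u1 + 1 * T.m u4 = 0 := by
                                have key := Groth.Agent.Helper6.NT.rowfun5 T u0 u1 u2 u3 u4 hinj u1
                                rw [Groth.Agent.Helper6.NT.symm' T u1 u0, taq_0_1, (h2 u1).2, z_1_2, z_1_3, tap_1_4] at key
                                exact mul_left_cancel₀ (T.w_pos u1).ne' (by linarith only [key])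
                              have r_2 : 1 * T.m u0 + -2 * T.m u2 = 0 := by
                                have key := Groth.Agent.Helper6.NT.rowfun5 T u0 u1 u2 u3 u4 hinj u2
                                rw [Groth.Agent.Helper6.NT.symm' T u2 u0, taq_0_2, Groth.Agent.Helper6.NT.symm' T u2 u1, z_1_2, (h2 u2).2, z_2_3, z_2_4] at key
                                exact mul_left_cancel₀ (T.w_pos u2).ne' (by linarith only [key])
                              have r_3 : 1 * T.m u0 + -2 * T.m u3 = 0 := by
                                have key := Groth.Agent.Helper6.NT.rowfun5 T u0 u1 u2 u3 u4 hinj u3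
                                rw [Groth.Agent.Helper6.NT.symm' T u3 u0, taq_0_3, Groth.Agent.Helper6.NT.symm' T u3 u1, z_1_3, Groth.Agent.Helper6.NT.symm' T u3 u2, z_2_3, (h2 u3).2, z_3_4] at key
                                exact mul_left_cancel₀ (T.w_pos u3).ne' (by linarith only [key])
                              have r_4 : 2 * T.m u1 + -2 * T.m u4 = 0 := by
                                have key := Groth.Agent.Helper6.NT.rowfun5 T u0 u1 u2 u3 u4 hinj u4
                                rw [Groth.Agent.Helper6.NT.symm' T u4 u0, z_0_4, Groth.Agent.Helper6.NT.symm' T u4 u1, taq_1_4, Groth.Agent.Helper6.NT.symm' T u4 u2, z_2_4, Groth.Agent.Helper6.NT.symm' T u4 u3, z_3_4, (h2 u4).2] at key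
                                exact mul_left_cancel₀ (T.w_pos u4).ne' (by linarith only [key])
                              have f0 : T.m u4 = 2 * T.m u2 := by linarith only [r_0, r_1, r_2, r_3, r_4]
                              have f1 : T.m u1 = 2 * T.m u2 := by linarith only [r_0, r_1, r_2, r_3, r_4]
                              have f2 : T.m u0 = 2 * T.m u2 := by linarith only [r_0, r_1, r_2, r_3, r_4]
                              have f3 : T.m u2 = T.m u2 := rfl
                              have f4 : T.m u3 = T.m u2 := by linarith only [r_0, r_1, r_2, r_3, r_4]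
                              have f5 : T.w u4 = T.w u4 := rfl
                              have f6 : T.w u1 = 2 * T.w u4 := by linarith only [tw_0_1, tw_0_2, tw_0_3, tw_1_4]
                              have f7 : T.w u0 = 2 * T.w u4 := by linarith only [tw_0_1, tw_0_2, tw_0_3, tw_1_4]
                              have f8 : T.w u2 = 2 * T.w u4 := by linarith only [tw_0_1, tw_0_2, tw_0_3, tw_1_4]
                              have f9 : T.w u3 = 2 * T.w u4 := by linarith only [tw_0_1, tw_0_2, tw_0_3, tw_1_4]
                              have f10 : T.a u4 u4 = -2 * T.w u4 := by have := (h2 u4).2; linarith only [this, tw_0_1, tw_0_2, tw_0_3, tw_1_4]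
                              have f11 : T.a u4 u1 = 2 * T.w u4 := by rw [Groth.Agent.Helper6.NT.symm' T u4 u1]; linarith only [tap_1_4, tw_0_1, tw_0_2, tw_0_3, tw_1_4]
                              have f12 : T.a u4 u0 = 0 := by rw [Groth.Agent.Helper6.NT.symm' T u4 u0]; exact z_0_4
                              have f13 : T.a u4 u2 = 0 := by rw [Groth.Agent.Helper6.NT.symm' T u4 u2]; exact z_2_4
                              have f14 : T.a u4 u3 = 0 := by rw [Groth.Agent.Helper6.NT.symm' T u4 u3]; exact z_3_4
                              have f15 : T.a u1 u1 = -4 * T.w u4 := by have := (h2 u1).2; linarith only [this, tw_0_1, tw_0_2, tw_0_3, tw_1_4]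
                              have f16 : T.a u1 u0 = 2 * T.w u4 := by rw [Groth.Agent.Helper6.NT.symm' T u1 u0]; linarith only [tap_0_1, tw_0_1, tw_0_2, tw_0_3, tw_1_4]
                              have f17 : T.a u1 u2 = 0 := by exact z_1_2
                              have f18 : T.a u1 u3 = 0 := by exact z_1_3
                              have f19 : T.a u0 u0 = -4 * T.w u4 := by have := (h2 u0).2; linarith only [this, tw_0_1, tw_0_2, tw_0_3, tw_1_4]
                              have f20 : T.a u0 u2 = 2 * T.w u4 := by linarith only [tap_0_2, tw_0_1, tw_0_2, tw_0_3, tw_1_4]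
                              have f21 : T.a u0 u3 = 2 * T.w u4 := by linarith only [tap_0_3, tw_0_1, tw_0_2, tw_0_3, tw_1_4]
                              have f22 : T.a u2 u2 = -4 * T.w u4 := by have := (h2 u2).2; linarith only [this, tw_0_1, tw_0_2, tw_0_3, tw_1_4]
                              have f23 : T.a u2 u3 = 0 := by exact z_2_3
                              have f24 : T.a u3 u3 = -4 * T.w u4 := by have := (h2 u3).2; linarith only [this, tw_0_1, tw_0_2, tw_0_3, tw_1_4]
                              have hsig := Groth.Agent.Helper6.NT.inj5 u4 u1 u0 u2 u3 hn_4_1.symm hn_4_0.symm hn_1_0.symm hn_4_2.symm hn_2_1 hn_2_0 hn_4_3.symm hn_3_1 hn_3_0 hn_3_2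
                              exact ⟨Equiv.ofBijective _ (Finite.injective_iff_bijective.1 hsig), T.m u2, T.w u4, Or.inr (Or.inr (Or.inr (Or.inr (Or.inr (Or.inr (Or.inr (Or.inr (⟨f0, f1, f2, f3, f4, f5, f6, f7, f8, f9, f10, f11, f12, f13, f14, f15, f16, f17, f18, f19, f20, f21, f22, f23, f24⟩))))))))⟩
                            · -- (3,4) nonzero
                              obtain ⟨lbp_3_4, lbq_3_4⟩ := Groth.Agent.Helper6.NT.lb T u3 u4 hn_4_3.symm nz_3_4
                              exfalso
                              have key := Groth.Agent.Helper6.NT.negfun4 T h2 u0 u1 u3 u4 (by norm_num) 2 2 2 3 (by norm_num) (by norm_num)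
                              linarith only [key, tap_0_1, taq_0_1, tap_0_3, taq_0_3, z_0_4, z_1_3, tap_1_4, taq_1_4, lbp_3_4, lbq_3_4, T.w_pos u0, T.w_pos u1, T.w_pos u3, T.w_pos u4]
                          · -- (2,4) nonzero
                            obtain ⟨lbp_2_4, lbq_2_4⟩ := Groth.Agent.Helper6.NT.lb T u2 u4 hn_4_2.symm nz_2_4
                            exfalso
                            have key := Groth.Agent.Helper6.NT.negfun4 T h2 u0 u1 u2 u4 (by norm_num) 2 2 2 3 (by norm_num) (by norm_num)
                            linarith only [key, tap_0_1, taq_0_1, tap_0_2, taq_0_2, z_0_4, z_1_2, tap_1_4, taq_1_4, lbp_2_4, lbq_2_4, T.w_pos u0, T.w_pos u1, T.w_pos u2, T.w_pos u4]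
                        · -- (1,4) Tp
                          exfalso
                          have key := Groth.Agent.Helper6.NT.negfun3 T h2 u0 u1 u4 (by norm_num) 1 2 1 (by norm_num) (by norm_num)
                          linarith only [key, tap_0_1, taq_0_1, z_0_4, tap_1_4, taq_1_4, T.w_pos u0, T.w_pos u1, T.w_pos u4]
                        · -- (1,4) Tm
                          exfalso
                          have key := Groth.Agent.Helper6.NT.negfun3 T h2 u0 u1 u4 (by norm_num) 1 2 3 (by norm_num) (by norm_num)
                          linarith only [key, tap_0_1, taq_0_1, z_0_4, tap_1_4, taq_1_4, T.w_pos u0, T.w_pos u1, T.w_pos u4]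
                      · push Not at hx
                        have cl_1 := hx
                        clear hx
                        by_cases hx : ∃ j, (j ≠ u0 ∧ j ≠ u1 ∧ j ≠ u2 ∧ j ≠ u3) ∧ T.a u2 j ≠ 0
                        · obtain ⟨u4, ⟨hn_4_0, hn_4_1, hn_4_2, hn_4_3⟩, e_2_4⟩ := hx
                          have z_0_4 : T.a u0 u4 = 0 := cl_0 u4 ⟨hn_4_0, hn_4_1, hn_4_2, hn_4_3⟩
                          have z_1_4 : T.a u1 u4 = 0 := cl_1 u4 ⟨hn_4_0, hn_4_1, hn_4_2, hn_4_3⟩
                          rcases Groth.Agent.Helper6.NT.edge5 T h2 (by norm_num) u2 u4 hn_4_2.symm e_2_4 with ⟨tw_2_4, tap_2_4, taq_2_4⟩ | ⟨tw_2_4, tap_2_4, taq_2_4⟩ | ⟨tw_2_4, tap_2_4, taq_2_4⟩ | ⟨tw_2_4, tap_2_4, taq_2_4⟩ | ⟨tw_2_4, tap_2_4, taq_2_4⟩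
                          · -- (2,4) S
                            rcases eq_or_ne (T.a u3 u4) 0 with z_3_4 | nz_3_4
                            · -- (3,4) zero
                              have hinj := Groth.Agent.Helper6.NT.inj5 u0 u1 u2 u3 u4 hn_1_0 hn_2_0 hn_2_1 hn_3_0 hn_3_1 hn_3_2 hn_4_0 hn_4_1 hn_4_2 hn_4_3
                              have r_0 : -2 * T.m u0 + 1 * T.m u1 + 1 * T.m u2 + 1 * T.m u3 = 0 := by
                                have key := Groth.Agent.Helper6.NT.rowfun5 T u0 u1 u2 u3 u4 hinj u0
                                rw [(h2 u0).2, tap_0_1, tap_0_2, tap_0_3, z_0_4] at key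
                                exact mul_left_cancel₀ (T.w_pos u0).ne' (by linarith only [key])
                              have r_1 : 1 * T.m u0 + -2 * T.m u1 = 0 := by
                                have key := Groth.Agent.Helper6.NT.rowfun5 T u0 u1 u2 u3 u4 hinj u1
                                rw [Groth.Agent.Helper6.NT.symm' T u1 u0, taq_0_1, (h2 u1).2, z_1_2, z_1_3, z_1_4] at key
                                exact mul_left_cancel₀ (T.w_pos u1).ne' (by linarith only [key])
                              have r_2 : 1 * T.m u0 + -2 * T.m u2 + 1 * T.m u4 = 0 := by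
                                have key := Groth.Agent.Helper6.NT.rowfun5 T u0 u1 u2 u3 u4 hinj u2
                                rw [Groth.Agent.Helper6.NT.symm' T u2 u0, taq_0_2, Groth.Agent.Helper6.NT.symm' T u2 u1, z_1_2, (h2 u2).2, z_2_3, tap_2_4] at key
                                exact mul_left_cancel₀ (T.w_pos u2).ne' (by linarith only [key])
                              have r_3 : 1 * T.m u0 + -2 * T.m u3 = 0 := by
                                have key := Groth.Agent.Helper6.NT.rowfun5 T u0 u1 u2 u3 u4 hinj u3
                                rw [Groth.Agent.Helper6.NT.symm' T u3 u0, taq_0_3, Groth.Agent.Helper6.NT.symm' T u3 u1, z_1_3, Groth.Agent.Helper6.NT.symm' T u3 u2, z_2_3, (h2 u3).2, z_3_4] at key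
                                exact mul_left_cancel₀ (T.w_pos u3).ne' (by linarith only [key])
                              have r_4 : 1 * T.m u2 + -2 * T.m u4 = 0 := by
                                have key := Groth.Agent.Helper6.NT.rowfun5 T u0 u1 u2 u3 u4 hinj u4
                                rw [Groth.Agent.Helper6.NT.symm' T u4 u0, z_0_4, Groth.Agent.Helper6.NT.symm' T u4 u1, z_1_4, Groth.Agent.Helper6.NT.symm' T u4 u2, taq_2_4, Groth.Agent.Helper6.NT.symm' T u4 u3, z_3_4, (h2 u4).2] at key
                                exact mul_left_cancel₀ (T.w_pos u4).ne' (by linarith only [key])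
                              exfalso
                              linarith only [r_0, r_1, r_2, r_3, r_4, T.m_pos u0, T.m_pos u1, T.m_pos u2, T.m_pos u3, T.m_pos u4]
                            · -- (3,4) nonzero
                              obtain ⟨lbp_3_4, lbq_3_4⟩ := Groth.Agent.Helper6.NT.lb T u3 u4 hn_4_3.symm nz_3_4
                              exfalso
                              have key := Groth.Agent.Helper6.NT.negfun4 T h2 u0 u2 u3 u4 (by norm_num) 1 1 1 1 (by norm_num) (by norm_num)
                              linarith only [key, tap_0_2, taq_0_2, tap_0_3, taq_0_3, z_0_4, z_2_3, tap_2_4, taq_2_4, lbp_3_4, lbq_3_4, T.w_pos u0, T.w_pos u2, T.w_pos u3, T.w_pos u4]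
                          · -- (2,4) Dp
                            rcases eq_or_ne (T.a u3 u4) 0 with z_3_4 | nz_3_4
                            · -- (3,4) zero
                              have hinj := Groth.Agent.Helper6.NT.inj5 u0 u1 u2 u3 u4 hn_1_0 hn_2_0 hn_2_1 hn_3_0 hn_3_1 hn_3_2 hn_4_0 hn_4_1 hn_4_2 hn_4_3
                              have r_0 : -2 * T.m u0 + 1 * T.m u1 + 1 * T.m u2 + 1 * T.m u3 = 0 := by
                                have key := Groth.Agent.Helper6.NT.rowfun5 T u0 u1 u2 u3 u4 hinj u0
                                rw [(h2 u0).2, tap_0_1, tap_0_2, tap_0_3, z_0_4] at key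
                                exact mul_left_cancel₀ (T.w_pos u0).ne' (by linarith only [key])
                              have r_1 : 1 * T.m u0 + -2 * T.m u1 = 0 := by
                                have key := Groth.Agent.Helper6.NT.rowfun5 T u0 u1 u2 u3 u4 hinj u1
                                rw [Groth.Agent.Helper6.NT.symm' T u1 u0, taq_0_1, (h2 u1).2, z_1_2, z_1_3, z_1_4] at key
                                exact mul_left_cancel₀ (T.w_pos u1).ne' (by linarith only [key])
                              have r_2 : 1 * T.m u0 + -2 * T.m u2 + 2 * T.m u4 = 0 := by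
                                have key := Groth.Agent.Helper6.NT.rowfun5 T u0 u1 u2 u3 u4 hinj u2
                                rw [Groth.Agent.Helper6.NT.symm' T u2 u0, taq_0_2, Groth.Agent.Helper6.NT.symm' T u2 u1, z_1_2, (h2 u2).2, z_2_3, tap_2_4] at key
                                exact mul_left_cancel₀ (T.w_pos u2).ne' (by linarith only [key])
                              have r_3 : 1 * T.m u0 + -2 * T.m u3 = 0 := by
                                have key := Groth.Agent.Helper6.NT.rowfun5 T u0 u1 u2 u3 u4 hinj u3
                                rw [Groth.Agent.Helper6.NT.symm' T u3 u0, taq_0_3, Groth.Agent.Helper6.NT.symm' T u3 u1, z_1_3, Groth.Agent.Helper6.NT.symm' T u3 u2, z_2_3, (h2 u3).2, z_3_4] at key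
                                exact mul_left_cancel₀ (T.w_pos u3).ne' (by linarith only [key])
                              have r_4 : 1 * T.m u2 + -2 * T.m u4 = 0 := by
                                have key := Groth.Agent.Helper6.NT.rowfun5 T u0 u1 u2 u3 u4 hinj u4
                                rw [Groth.Agent.Helper6.NT.symm' T u4 u0, z_0_4, Groth.Agent.Helper6.NT.symm' T u4 u1, z_1_4, Groth.Agent.Helper6.NT.symm' T u4 u2, taq_2_4, Groth.Agent.Helper6.NT.symm' T u4 u3, z_3_4, (h2 u4).2] at key
                                exact mul_left_cancel₀ (T.w_pos u4).ne' (by linarith only [key])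
                              have f0 : T.m u4 = T.m u4 := rfl
                              have f1 : T.m u2 = 2 * T.m u4 := by linarith only [r_0, r_1, r_2, r_3, r_4]
                              have f2 : T.m u0 = 2 * T.m u4 := by linarith only [r_0, r_1, r_2, r_3, r_4]
                              have f3 : T.m u1 = T.m u4 := by linarith only [r_0, r_1, r_2, r_3, r_4]
                              have f4 : T.m u3 = T.m u4 := by linarith only [r_0, r_1, r_2, r_3, r_4]
                              have f5 : T.w u4 = 2 * T.w u2 := by linarith only [tw_0_1, tw_0_2, tw_0_3, tw_2_4]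
                              have f6 : T.w u2 = T.w u2 := rfl
                              have f7 : T.w u0 = T.w u2 := by linarith only [tw_0_1, tw_0_2, tw_0_3, tw_2_4]
                              have f8 : T.w u1 = T.w u2 := by linarith only [tw_0_1, tw_0_2, tw_0_3, tw_2_4]
                              have f9 : T.w u3 = T.w u2 := by linarith only [tw_0_1, tw_0_2, tw_0_3, tw_2_4]
                              have f10 : T.a u4 u4 = -4 * T.w u2 := by have := (h2 u4).2; linarith only [this, tw_0_1, tw_0_2, tw_0_3, tw_2_4]
                              have f11 : T.a u4 u2 = 2 * T.w u2 := by rw [Groth.Agent.Helper6.NT.symm' T u4 u2]; linarith only [tap_2_4, tw_0_1, tw_0_2, tw_0_3, tw_2_4]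
                              have f12 : T.a u4 u0 = 0 := by rw [Groth.Agent.Helper6.NT.symm' T u4 u0]; exact z_0_4
                              have f13 : T.a u4 u1 = 0 := by rw [Groth.Agent.Helper6.NT.symm' T u4 u1]; exact z_1_4
                              have f14 : T.a u4 u3 = 0 := by rw [Groth.Agent.Helper6.NT.symm' T u4 u3]; exact z_3_4
                              have f15 : T.a u2 u2 = -2 * T.w u2 := by have := (h2 u2).2; linarith only [this, tw_0_1, tw_0_2, tw_0_3, tw_2_4]
                              have f16 : T.a u2 u0 = T.w u2 := by rw [Groth.Agent.Helper6.NT.symm' T u2 u0]; linarith only [tap_0_2, tw_0_1, tw_0_2, tw_0_3, tw_2_4]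
                              have f17 : T.a u2 u1 = 0 := by rw [Groth.Agent.Helper6.NT.symm' T u2 u1]; exact z_1_2
                              have f18 : T.a u2 u3 = 0 := by exact z_2_3
                              have f19 : T.a u0 u0 = -2 * T.w u2 := by have := (h2 u0).2; linarith only [this, tw_0_1, tw_0_2, tw_0_3, tw_2_4]
                              have f20 : T.a u0 u1 = T.w u2 := by linarith only [tap_0_1, tw_0_1, tw_0_2, tw_0_3, tw_2_4]
                              have f21 : T.a u0 u3 = T.w u2 := by linarith only [tap_0_3, tw_0_1, tw_0_2, tw_0_3, tw_2_4]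
                              have f22 : T.a u1 u1 = -2 * T.w u2 := by have := (h2 u1).2; linarith only [this, tw_0_1, tw_0_2, tw_0_3, tw_2_4]
                              have f23 : T.a u1 u3 = 0 := by exact z_1_3
                              have f24 : T.a u3 u3 = -2 * T.w u2 := by have := (h2 u3).2; linarith only [this, tw_0_1, tw_0_2, tw_0_3, tw_2_4]
                              have hsig := Groth.Agent.Helper6.NT.inj5 u4 u2 u0 u1 u3 hn_4_2.symm hn_4_0.symm hn_2_0.symm hn_4_1.symm hn_2_1.symm hn_1_0 hn_4_3.symm hn_3_2 hn_3_0 hn_3_1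
                              exact ⟨Equiv.ofBijective _ (Finite.injective_iff_bijective.1 hsig), T.m u4, T.w u2, Or.inr (Or.inr (Or.inr (Or.inr (Or.inr (Or.inr (Or.inr (Or.inl ⟨f0, f1, f2, f3, f4, f5, f6, f7, f8, f9, f10, f11, f12, f13, f14, f15, f16, f17, f18, f19, f20, f21, f22, f23, f24⟩)))))))⟩
                            · -- (3,4) nonzero
                              obtain ⟨lbp_3_4, lbq_3_4⟩ := Groth.Agent.Helper6.NT.lb T u3 u4 hn_4_3.symm nz_3_4
                              exfalso
                              have key := Groth.Agent.Helper6.NT.negfun4 T h2 u0 u2 u3 u4 (by norm_num) 2 3 2 2 (by norm_num) (by norm_num)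
                              linarith only [key, tap_0_2, taq_0_2, tap_0_3, taq_0_3, z_0_4, z_2_3, tap_2_4, taq_2_4, lbp_3_4, lbq_3_4, T.w_pos u0, T.w_pos u2, T.w_pos u3, T.w_pos u4]
                          · -- (2,4) Dm
                            rcases eq_or_ne (T.a u3 u4) 0 with z_3_4 | nz_3_4
                            · -- (3,4) zero
                              have hinj := Groth.Agent.Helper6.NT.inj5 u0 u1 u2 u3 u4 hn_1_0 hn_2_0 hn_2_1 hn_3_0 hn_3_1 hn_3_2 hn_4_0 hn_4_1 hn_4_2 hn_4_3
                              have r_0 : -2 * T.m u0 + 1 * T.m u1 + 1 * T.m u2 + 1 * T.m u3 = 0 := by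
                                have key := Groth.Agent.Helper6.NT.rowfun5 T u0 u1 u2 u3 u4 hinj u0
                                rw [(h2 u0).2, tap_0_1, tap_0_2, tap_0_3, z_0_4] at key
                                exact mul_left_cancel₀ (T.w_pos u0).ne' (by linarith only [key])
                              have r_1 : 1 * T.m u0 + -2 * T.m u1 = 0 := by
                                have key := Groth.Agent.Helper6.NT.rowfun5 T u0 u1 u2 u3 u4 hinj u1
                                rw [Groth.Agent.Helper6.NT.symm' T u1 u0, taq_0_1, (h2 u1).2, z_1_2, z_1_3, z_1_4] at key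
                                exact mul_left_cancel₀ (T.w_pos u1).ne' (by linarith only [key])
                              have r_2 : 1 * T.m u0 + -2 * T.m u2 + 1 * T.m u4 = 0 := by
                                have key := Groth.Agent.Helper6.NT.rowfun5 T u0 u1 u2 u3 u4 hinj u2
                                rw [Groth.Agent.Helper6.NT.symm' T u2 u0, taq_0_2, Groth.Agent.Helper6.NT.symm' T u2 u1, z_1_2, (h2 u2).2, z_2_3, tap_2_4] at key
                                exact mul_left_cancel₀ (T.w_pos u2).ne' (by linarith only [key])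
                              have r_3 : 1 * T.m u0 + -2 * T.m u3 = 0 := by
                                have key := Groth.Agent.Helper6.NT.rowfun5 T u0 u1 u2 u3 u4 hinj u3
                                rw [Groth.Agent.Helper6.NT.symm' T u3 u0, taq_0_3, Groth.Agent.Helper6.NT.symm' T u3 u1, z_1_3, Groth.Agent.Helper6.NT.symm' T u3 u2, z_2_3, (h2 u3).2, z_3_4] at key
                                exact mul_left_cancel₀ (T.w_pos u3).ne' (by linarith only [key])
                              have r_4 : 2 * T.m u2 + -2 * T.m u4 = 0 := by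
                                have key := Groth.Agent.Helper6.NT.rowfun5 T u0 u1 u2 u3 u4 hinj u4
                                rw [Groth.Agent.Helper6.NT.symm' T u4 u0, z_0_4, Groth.Agent.Helper6.NT.symm' T u4 u1, z_1_4, Groth.Agent.Helper6.NT.symm' T u4 u2, taq_2_4, Groth.Agent.Helper6.NT.symm' T u4 u3, z_3_4, (h2 u4).2] at key
                                exact mul_left_cancel₀ (T.w_pos u4).ne' (by linarith only [key])
                              have f0 : T.m u4 = 2 * T.m u1 := by linarith only [r_0, r_1, r_2, r_3, r_4]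
                              have f1 : T.m u2 = 2 * T.m u1 := by linarith only [r_0, r_1, r_2, r_3, r_4]
                              have f2 : T.m u0 = 2 * T.m u1 := by linarith only [r_0, r_1, r_2, r_3, r_4]
                              have f3 : T.m u1 = T.m u1 := rfl
                              have f4 : T.m u3 = T.m u1 := by linarith only [r_0, r_1, r_2, r_3, r_4]
                              have f5 : T.w u4 = T.w u4 := rfl
                              have f6 : T.w u2 = 2 * T.w u4 := by linarith only [tw_0_1, tw_0_2, tw_0_3, tw_2_4]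
                              have f7 : T.w u0 = 2 * T.w u4 := by linarith only [tw_0_1, tw_0_2, tw_0_3, tw_2_4]
                              have f8 : T.w u1 = 2 * T.w u4 := by linarith only [tw_0_1, tw_0_2, tw_0_3, tw_2_4]
                              have f9 : T.w u3 = 2 * T.w u4 := by linarith only [tw_0_1, tw_0_2, tw_0_3, tw_2_4]
                              have f10 : T.a u4 u4 = -2 * T.w u4 := by have := (h2 u4).2; linarith only [this, tw_0_1, tw_0_2, tw_0_3, tw_2_4]
                              have f11 : T.a u4 u2 = 2 * T.w u4 := by rw [Groth.Agent.Helper6.NT.symm' T u4 u2]; linarith only [tap_2_4, tw_0_1, tw_0_2, tw_0_3, tw_2_4]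
                              have f12 : T.a u4 u0 = 0 := by rw [Groth.Agent.Helper6.NT.symm' T u4 u0]; exact z_0_4
                              have f13 : T.a u4 u1 = 0 := by rw [Groth.Agent.Helper6.NT.symm' T u4 u1]; exact z_1_4
                              have f14 : T.a u4 u3 = 0 := by rw [Groth.Agent.Helper6.NT.symm' T u4 u3]; exact z_3_4
                              have f15 : T.a u2 u2 = -4 * T.w u4 := by have := (h2 u2).2; linarith only [this, tw_0_1, tw_0_2, tw_0_3, tw_2_4]
                              have f16 : T.a u2 u0 = 2 * T.w u4 := by rw [Groth.Agent.Helper6.NT.symm' T u2 u0]; linarith only [tap_0_2, tw_0_1, tw_0_2, tw_0_3, tw_2_4]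
                              have f17 : T.a u2 u1 = 0 := by rw [Groth.Agent.Helper6.NT.symm' T u2 u1]; exact z_1_2
                              have f18 : T.a u2 u3 = 0 := by exact z_2_3
                              have f19 : T.a u0 u0 = -4 * T.w u4 := by have := (h2 u0).2; linarith only [this, tw_0_1, tw_0_2, tw_0_3, tw_2_4]
                              have f20 : T.a u0 u1 = 2 * T.w u4 := by linarith only [tap_0_1, tw_0_1, tw_0_2, tw_0_3, tw_2_4]
                              have f21 : T.a u0 u3 = 2 * T.w u4 := by linarith only [tap_0_3, tw_0_1, tw_0_2, tw_0_3, tw_2_4]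
                              have f22 : T.a u1 u1 = -4 * T.w u4 := by have := (h2 u1).2; linarith only [this, tw_0_1, tw_0_2, tw_0_3, tw_2_4]
                              have f23 : T.a u1 u3 = 0 := by exact z_1_3
                              have f24 : T.a u3 u3 = -4 * T.w u4 := by have := (h2 u3).2; linarith only [this, tw_0_1, tw_0_2, tw_0_3, tw_2_4]
                              have hsig := Groth.Agent.Helper6.NT.inj5 u4 u2 u0 u1 u3 hn_4_2.symm hn_4_0.symm hn_2_0.symm hn_4_1.symm hn_2_1.symm hn_1_0 hn_4_3.symm hn_3_2 hn_3_0 hn_3_1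
                              exact ⟨Equiv.ofBijective _ (Finite.injective_iff_bijective.1 hsig), T.m u1, T.w u4, Or.inr (Or.inr (Or.inr (Or.inr (Or.inr (Or.inr (Or.inr (Or.inr (⟨f0, f1, f2, f3, f4, f5, f6, f7, f8, f9, f10, f11, f12, f13, f14, f15, f16, f17, f18, f19, f20, f21, f22, f23, f24⟩))))))))⟩
                            · -- (3,4) nonzero
                              obtain ⟨lbp_3_4, lbq_3_4⟩ := Groth.Agent.Helper6.NT.lb T u3 u4 hn_4_3.symm nz_3_4
                              exfalso
                              have key := Groth.Agent.Helper6.NT.negfun4 T h2 u0 u2 u3 u4 (by norm_num) 2 2 2 3 (by norm_num) (by norm_num)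
                              linarith only [key, tap_0_2, taq_0_2, tap_0_3, taq_0_3, z_0_4, z_2_3, tap_2_4, taq_2_4, lbp_3_4, lbq_3_4, T.w_pos u0, T.w_pos u2, T.w_pos u3, T.w_pos u4]
                          · -- (2,4) Tp
                            exfalso
                            have key := Groth.Agent.Helper6.NT.negfun3 T h2 u0 u2 u4 (by norm_num) 1 2 1 (by norm_num) (by norm_num)
                            linarith only [key, tap_0_2, taq_0_2, z_0_4, tap_2_4, taq_2_4, T.w_pos u0, T.w_pos u2, T.w_pos u4]
                          · -- (2,4) Tm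
                            exfalso
                            have key := Groth.Agent.Helper6.NT.negfun3 T h2 u0 u2 u4 (by norm_num) 1 2 3 (by norm_num) (by norm_num)
                            linarith only [key, tap_0_2, taq_0_2, z_0_4, tap_2_4, taq_2_4, T.w_pos u0, T.w_pos u2, T.w_pos u4]
                        · push Not at hx
                          have cl_2 := hx
                          clear hx
                          by_cases hx : ∃ j, (j ≠ u0 ∧ j ≠ u1 ∧ j ≠ u2 ∧ j ≠ u3) ∧ T.a u3 j ≠ 0
                          · obtain ⟨u4, ⟨hn_4_0, hn_4_1, hn_4_2, hn_4_3⟩, e_3_4⟩ := hx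
                            have z_0_4 : T.a u0 u4 = 0 := cl_0 u4 ⟨hn_4_0, hn_4_1, hn_4_2, hn_4_3⟩
                            have z_1_4 : T.a u1 u4 = 0 := cl_1 u4 ⟨hn_4_0, hn_4_1, hn_4_2, hn_4_3⟩
                            have z_2_4 : T.a u2 u4 = 0 := cl_2 u4 ⟨hn_4_0, hn_4_1, hn_4_2, hn_4_3⟩
                            rcases Groth.Agent.Helper6.NT.edge5 T h2 (by norm_num) u3 u4 hn_4_3.symm e_3_4 with ⟨tw_3_4, tap_3_4, taq_3_4⟩ | ⟨tw_3_4, tap_3_4, taq_3_4⟩ | ⟨tw_3_4, tap_3_4, taq_3_4⟩ | ⟨tw_3_4, tap_3_4, taq_3_4⟩ | ⟨tw_3_4, tap_3_4, taq_3_4⟩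
                            · -- (3,4) S
                              have hinj := Groth.Agent.Helper6.NT.inj5 u0 u1 u2 u3 u4 hn_1_0 hn_2_0 hn_2_1 hn_3_0 hn_3_1 hn_3_2 hn_4_0 hn_4_1 hn_4_2 hn_4_3
                              have r_0 : -2 * T.m u0 + 1 * T.m u1 + 1 * T.m u2 + 1 * T.m u3 = 0 := by
                                have key := Groth.Agent.Helper6.NT.rowfun5 T u0 u1 u2 u3 u4 hinj u0
                                rw [(h2 u0).2, tap_0_1, tap_0_2, tap_0_3, z_0_4] at key
                                exact mul_left_cancel₀ (T.w_pos u0).ne' (by linarith only [key])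
                              have r_1 : 1 * T.m u0 + -2 * T.m u1 = 0 := by
                                have key := Groth.Agent.Helper6.NT.rowfun5 T u0 u1 u2 u3 u4 hinj u1
                                rw [Groth.Agent.Helper6.NT.symm' T u1 u0, taq_0_1, (h2 u1).2, z_1_2, z_1_3, z_1_4] at key
                                exact mul_left_cancel₀ (T.w_pos u1).ne' (by linarith only [key])
                              have r_2 : 1 * T.m u0 + -2 * T.m u2 = 0 := by
                                have key := Groth.Agent.Helper6.NT.rowfun5 T u0 u1 u2 u3 u4 hinj u2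
                                rw [Groth.Agent.Helper6.NT.symm' T u2 u0, taq_0_2, Groth.Agent.Helper6.NT.symm' T u2 u1, z_1_2, (h2 u2).2, z_2_3, z_2_4] at key
                                exact mul_left_cancel₀ (T.w_pos u2).ne' (by linarith only [key])
                              have r_3 : 1 * T.m u0 + -2 * T.m u3 + 1 * T.m u4 = 0 := by
                                have key := Groth.Agent.Helper6.NT.rowfun5 T u0 u1 u2 u3 u4 hinj u3
                                rw [Groth.Agent.Helper6.NT.symm' T u3 u0, taq_0_3, Groth.Agent.Helper6.NT.symm' T u3 u1, z_1_3, Groth.Agent.Helper6.NT.symm' T u3 u2, z_2_3, (h2 u3).2, tap_3_4] at key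
                                exact mul_left_cancel₀ (T.w_pos u3).ne' (by linarith only [key])
                              have r_4 : 1 * T.m u3 + -2 * T.m u4 = 0 := by
                                have key := Groth.Agent.Helper6.NT.rowfun5 T u0 u1 u2 u3 u4 hinj u4
                                rw [Groth.Agent.Helper6.NT.symm' T u4 u0, z_0_4, Groth.Agent.Helper6.NT.symm' T u4 u1, z_1_4, Groth.Agent.Helper6.NT.symm' T u4 u2, z_2_4, Groth.Agent.Helper6.NT.symm' T u4 u3, taq_3_4, (h2 u4).2] at key
                                exact mul_left_cancel₀ (T.w_pos u4).ne' (by linarith only [key])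
                              exfalso
                              linarith only [r_0, r_1, r_2, r_3, r_4, T.m_pos u0, T.m_pos u1, T.m_pos u2, T.m_pos u3, T.m_pos u4]
                            · -- (3,4) Dp
                              have hinj := Groth.Agent.Helper6.NT.inj5 u0 u1 u2 u3 u4 hn_1_0 hn_2_0 hn_2_1 hn_3_0 hn_3_1 hn_3_2 hn_4_0 hn_4_1 hn_4_2 hn_4_3
                              have r_0 : -2 * T.m u0 + 1 * T.m u1 + 1 * T.m u2 + 1 * T.m u3 = 0 := by
                                have key := Groth.Agent.Helper6.NT.rowfun5 T u0 u1 u2 u3 u4 hinj u0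
                                rw [(h2 u0).2, tap_0_1, tap_0_2, tap_0_3, z_0_4] at key
                                exact mul_left_cancel₀ (T.w_pos u0).ne' (by linarith only [key])
                              have r_1 : 1 * T.m u0 + -2 * T.m u1 = 0 := by
                                have key := Groth.Agent.Helper6.NT.rowfun5 T u0 u1 u2 u3 u4 hinj u1
                                rw [Groth.Agent.Helper6.NT.symm' T u1 u0, taq_0_1, (h2 u1).2, z_1_2, z_1_3, z_1_4] at key
                                exact mul_left_cancel₀ (T.w_pos u1).ne' (by linarith only [key])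
                              have r_2 : 1 * T.m u0 + -2 * T.m u2 = 0 := by
                                have key := Groth.Agent.Helper6.NT.rowfun5 T u0 u1 u2 u3 u4 hinj u2
                                rw [Groth.Agent.Helper6.NT.symm' T u2 u0, taq_0_2, Groth.Agent.Helper6.NT.symm' T u2 u1, z_1_2, (h2 u2).2, z_2_3, z_2_4] at key
                                exact mul_left_cancel₀ (T.w_pos u2).ne' (by linarith only [key])
                              have r_3 : 1 * T.m u0 + -2 * T.m u3 + 2 * T.m u4 = 0 := by
                                have key := Groth.Agent.Helper6.NT.rowfun5 T u0 u1 u2 u3 u4 hinj u3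
                                rw [Groth.Agent.Helper6.NT.symm' T u3 u0, taq_0_3, Groth.Agent.Helper6.NT.symm' T u3 u1, z_1_3, Groth.Agent.Helper6.NT.symm' T u3 u2, z_2_3, (h2 u3).2, tap_3_4] at key
                                exact mul_left_cancel₀ (T.w_pos u3).ne' (by linarith only [key])
                              have r_4 : 1 * T.m u3 + -2 * T.m u4 = 0 := by
                                have key := Groth.Agent.Helper6.NT.rowfun5 T u0 u1 u2 u3 u4 hinj u4
                                rw [Groth.Agent.Helper6.NT.symm' T u4 u0, z_0_4, Groth.Agent.Helper6.NT.symm' T u4 u1, z_1_4, Groth.Agent.Helper6.NT.symm' T u4 u2, z_2_4, Groth.Agent.Helper6.NT.symm' T u4 u3, taq_3_4, (h2 u4).2] at key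
                                exact mul_left_cancel₀ (T.w_pos u4).ne' (by linarith only [key])
                              have f0 : T.m u4 = T.m u4 := rfl
                              have f1 : T.m u3 = 2 * T.m u4 := by linarith only [r_0, r_1, r_2, r_3, r_4]
                              have f2 : T.m u0 = 2 * T.m u4 := by linarith only [r_0, r_1, r_2, r_3, r_4]
                              have f3 : T.m u1 = T.m u4 := by linarith only [r_0, r_1, r_2, r_3, r_4]
                              have f4 : T.m u2 = T.m u4 := by linarith only [r_0, r_1, r_2, r_3, r_4]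
                              have f5 : T.w u4 = 2 * T.w u3 := by linarith only [tw_0_1, tw_0_2, tw_0_3, tw_3_4]
                              have f6 : T.w u3 = T.w u3 := rfl
                              have f7 : T.w u0 = T.w u3 := by linarith only [tw_0_1, tw_0_2, tw_0_3, tw_3_4]
                              have f8 : T.w u1 = T.w u3 := by linarith only [tw_0_1, tw_0_2, tw_0_3, tw_3_4]
                              have f9 : T.w u2 = T.w u3 := by linarith only [tw_0_1, tw_0_2, tw_0_3, tw_3_4]
                              have f10 : T.a u4 u4 = -4 * T.w u3 := by have := (h2 u4).2; linarith only [this, tw_0_1, tw_0_2, tw_0_3, tw_3_4]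
                              have f11 : T.a u4 u3 = 2 * T.w u3 := by rw [Groth.Agent.Helper6.NT.symm' T u4 u3]; linarith only [tap_3_4, tw_0_1, tw_0_2, tw_0_3, tw_3_4]
                              have f12 : T.a u4 u0 = 0 := by rw [Groth.Agent.Helper6.NT.symm' T u4 u0]; exact z_0_4
                              have f13 : T.a u4 u1 = 0 := by rw [Groth.Agent.Helper6.NT.symm' T u4 u1]; exact z_1_4
                              have f14 : T.a u4 u2 = 0 := by rw [Groth.Agent.Helper6.NT.symm' T u4 u2]; exact z_2_4
                              have f15 : T.a u3 u3 = -2 * T.w u3 := by have := (h2 u3).2; linarith only [this, tw_0_1, tw_0_2, tw_0_3, tw_3_4]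
                              have f16 : T.a u3 u0 = T.w u3 := by rw [Groth.Agent.Helper6.NT.symm' T u3 u0]; linarith only [tap_0_3, tw_0_1, tw_0_2, tw_0_3, tw_3_4]
                              have f17 : T.a u3 u1 = 0 := by rw [Groth.Agent.Helper6.NT.symm' T u3 u1]; exact z_1_3
                              have f18 : T.a u3 u2 = 0 := by rw [Groth.Agent.Helper6.NT.symm' T u3 u2]; exact z_2_3
                              have f19 : T.a u0 u0 = -2 * T.w u3 := by have := (h2 u0).2; linarith only [this, tw_0_1, tw_0_2, tw_0_3, tw_3_4]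
                              have f20 : T.a u0 u1 = T.w u3 := by linarith only [tap_0_1, tw_0_1, tw_0_2, tw_0_3, tw_3_4]
                              have f21 : T.a u0 u2 = T.w u3 := by linarith only [tap_0_2, tw_0_1, tw_0_2, tw_0_3, tw_3_4]
                              have f22 : T.a u1 u1 = -2 * T.w u3 := by have := (h2 u1).2; linarith only [this, tw_0_1, tw_0_2, tw_0_3, tw_3_4]
                              have f23 : T.a u1 u2 = 0 := by exact z_1_2
                              have f24 : T.a u2 u2 = -2 * T.w u3 := by have := (h2 u2).2; linarith only [this, tw_0_1, tw_0_2, tw_0_3, tw_3_4]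
                              have hsig := Groth.Agent.Helper6.NT.inj5 u4 u3 u0 u1 u2 hn_4_3.symm hn_4_0.symm hn_3_0.symm hn_4_1.symm hn_3_1.symm hn_1_0 hn_4_2.symm hn_3_2.symm hn_2_0 hn_2_1
                              exact ⟨Equiv.ofBijective _ (Finite.injective_iff_bijective.1 hsig), T.m u4, T.w u3, Or.inr (Or.inr (Or.inr (Or.inr (Or.inr (Or.inr (Or.inr (Or.inl ⟨f0, f1, f2, f3, f4, f5, f6, f7, f8, f9, f10, f11, f12, f13, f14, f15, f16, f17, f18, f19, f20, f21, f22, f23, f24⟩)))))))⟩
                            · -- (3,4) Dm
                              have hinj := Groth.Agent.Helper6.NT.inj5 u0 u1 u2 u3 u4 hn_1_0 hn_2_0 hn_2_1 hn_3_0 hn_3_1 hn_3_2 hn_4_0 hn_4_1 hn_4_2 hn_4_3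
                              have r_0 : -2 * T.m u0 + 1 * T.m u1 + 1 * T.m u2 + 1 * T.m u3 = 0 := by
                                have key := Groth.Agent.Helper6.NT.rowfun5 T u0 u1 u2 u3 u4 hinj u0
                                rw [(h2 u0).2, tap_0_1, tap_0_2, tap_0_3, z_0_4] at key
                                exact mul_left_cancel₀ (T.w_pos u0).ne' (by linarith only [key])
                              have r_1 : 1 * T.m u0 + -2 * T.m u1 = 0 := by
                                have key := Groth.Agent.Helper6.NT.rowfun5 T u0 u1 u2 u3 u4 hinj u1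
                                rw [Groth.Agent.Helper6.NT.symm' T u1 u0, taq_0_1, (h2 u1).2, z_1_2, z_1_3, z_1_4] at key
                                exact mul_left_cancel₀ (T.w_pos u1).ne' (by linarith only [key])
                              have r_2 : 1 * T.m u0 + -2 * T.m u2 = 0 := by
                                have key := Groth.Agent.Helper6.NT.rowfun5 T u0 u1 u2 u3 u4 hinj u2
                                rw [Groth.Agent.Helper6.NT.symm' T u2 u0, taq_0_2, Groth.Agent.Helper6.NT.symm' T u2 u1, z_1_2, (h2 u2).2, z_2_3, z_2_4] at key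
                                exact mul_left_cancel₀ (T.w_pos u2).ne' (by linarith only [key])
                              have r_3 : 1 * T.m u0 + -2 * T.m u3 + 1 * T.m u4 = 0 := by
                                have key := Groth.Agent.Helper6.NT.rowfun5 T u0 u1 u2 u3 u4 hinj u3
                                rw [Groth.Agent.Helper6.NT.symm' T u3 u0, taq_0_3, Groth.Agent.Helper6.NT.symm' T u3 u1, z_1_3, Groth.Agent.Helper6.NT.symm' T u3 u2, z_2_3, (h2 u3).2, tap_3_4] at key
                                exact mul_left_cancel₀ (T.w_pos u3).ne' (by linarith only [key])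
                              have r_4 : 2 * T.m u3 + -2 * T.m u4 = 0 := by
                                have key := Groth.Agent.Helper6.NT.rowfun5 T u0 u1 u2 u3 u4 hinj u4
                                rw [Groth.Agent.Helper6.NT.symm' T u4 u0, z_0_4, Groth.Agent.Helper6.NT.symm' T u4 u1, z_1_4, Groth.Agent.Helper6.NT.symm' T u4 u2, z_2_4, Groth.Agent.Helper6.NT.symm' T u4 u3, taq_3_4, (h2 u4).2] at key
                                exact mul_left_cancel₀ (T.w_pos u4).ne' (by linarith only [key])
                              have f0 : T.m u4 = 2 * T.m u1 := by linarith only [r_0, r_1, r_2, r_3, r_4]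
                              have f1 : T.m u3 = 2 * T.m u1 := by linarith only [r_0, r_1, r_2, r_3, r_4]
                              have f2 : T.m u0 = 2 * T.m u1 := by linarith only [r_0, r_1, r_2, r_3, r_4]
                              have f3 : T.m u1 = T.m u1 := rfl
                              have f4 : T.m u2 = T.m u1 := by linarith only [r_0, r_1, r_2, r_3, r_4]
                              have f5 : T.w u4 = T.w u4 := rfl
                              have f6 : T.w u3 = 2 * T.w u4 := by linarith only [tw_0_1, tw_0_2, tw_0_3, tw_3_4]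
                              have f7 : T.w u0 = 2 * T.w u4 := by linarith only [tw_0_1, tw_0_2, tw_0_3, tw_3_4]
                              have f8 : T.w u1 = 2 * T.w u4 := by linarith only [tw_0_1, tw_0_2, tw_0_3, tw_3_4]
                              have f9 : T.w u2 = 2 * T.w u4 := by linarith only [tw_0_1, tw_0_2, tw_0_3, tw_3_4]
                              have f10 : T.a u4 u4 = -2 * T.w u4 := by have := (h2 u4).2; linarith only [this, tw_0_1, tw_0_2, tw_0_3, tw_3_4]
                              have f11 : T.a u4 u3 = 2 * T.w u4 := by rw [Groth.Agent.Helper6.NT.symm' T u4 u3]; linarith only [tap_3_4, tw_0_1, tw_0_2, tw_0_3, tw_3_4]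
                              have f12 : T.a u4 u0 = 0 := by rw [Groth.Agent.Helper6.NT.symm' T u4 u0]; exact z_0_4
                              have f13 : T.a u4 u1 = 0 := by rw [Groth.Agent.Helper6.NT.symm' T u4 u1]; exact z_1_4
                              have f14 : T.a u4 u2 = 0 := by rw [Groth.Agent.Helper6.NT.symm' T u4 u2]; exact z_2_4
                              have f15 : T.a u3 u3 = -4 * T.w u4 := by have := (h2 u3).2; linarith only [this, tw_0_1, tw_0_2, tw_0_3, tw_3_4]
                              have f16 : T.a u3 u0 = 2 * T.w u4 := by rw [Groth.Agent.Helper6.NT.symm' T u3 u0]; linarith only [tap_0_3, tw_0_1, tw_0_2, tw_0_3, tw_3_4]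
                              have f17 : T.a u3 u1 = 0 := by rw [Groth.Agent.Helper6.NT.symm' T u3 u1]; exact z_1_3
                              have f18 : T.a u3 u2 = 0 := by rw [Groth.Agent.Helper6.NT.symm' T u3 u2]; exact z_2_3
                              have f19 : T.a u0 u0 = -4 * T.w u4 := by have := (h2 u0).2; linarith only [this, tw_0_1, tw_0_2, tw_0_3, tw_3_4]
                              have f20 : T.a u0 u1 = 2 * T.w u4 := by linarith only [tap_0_1, tw_0_1, tw_0_2, tw_0_3, tw_3_4]
                              have f21 : T.a u0 u2 = 2 * T.w u4 := by linarith only [tap_0_2, tw_0_1, tw_0_2, tw_0_3, tw_3_4]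
                              have f22 : T.a u1 u1 = -4 * T.w u4 := by have := (h2 u1).2; linarith only [this, tw_0_1, tw_0_2, tw_0_3, tw_3_4]
                              have f23 : T.a u1 u2 = 0 := by exact z_1_2
                              have f24 : T.a u2 u2 = -4 * T.w u4 := by have := (h2 u2).2; linarith only [this, tw_0_1, tw_0_2, tw_0_3, tw_3_4]
                              have hsig := Groth.Agent.Helper6.NT.inj5 u4 u3 u0 u1 u2 hn_4_3.symm hn_4_0.symm hn_3_0.symm hn_4_1.symm hn_3_1.symm hn_1_0 hn_4_2.symm hn_3_2.symm hn_2_0 hn_2_1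
                              exact ⟨Equiv.ofBijective _ (Finite.injective_iff_bijective.1 hsig), T.m u1, T.w u4, Or.inr (Or.inr (Or.inr (Or.inr (Or.inr (Or.inr (Or.inr (Or.inr (⟨f0, f1, f2, f3, f4, f5, f6, f7, f8, f9, f10, f11, f12, f13, f14, f15, f16, f17, f18, f19, f20, f21, f22, f23, f24⟩))))))))⟩
                            · -- (3,4) Tp
                              exfalso
                              have key := Groth.Agent.Helper6.NT.negfun3 T h2 u0 u3 u4 (by norm_num) 1 2 1 (by norm_num) (by norm_num)
                              linarith only [key, tap_0_3, taq_0_3, z_0_4, tap_3_4, taq_3_4, T.w_pos u0, T.w_pos u3, T.w_pos u4]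
                            · -- (3,4) Tm
                              exfalso
                              have key := Groth.Agent.Helper6.NT.negfun3 T h2 u0 u3 u4 (by norm_num) 1 2 3 (by norm_num) (by norm_num)
                              linarith only [key, tap_0_3, taq_0_3, z_0_4, tap_3_4, taq_3_4, T.w_pos u0, T.w_pos u3, T.w_pos u4]
                          · push Not at hx
                            have cl_3 := hx
                            clear hx
                            exfalso
                            refine Groth.Agent.Helper6.NT.closed_contra T [u0, u1, u2, u3] (by simp) (by simp) ?_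
                            intro i hi j hj
                            simp only [List.mem_cons, List.not_mem_nil, or_false, not_or] at hi hj
                            rcases hi with rfl | rfl | rfl | rfl
                            · exact cl_0 j ⟨hj.1, hj.2.1, hj.2.2.1, hj.2.2.2⟩
                            · exact cl_1 j ⟨hj.1, hj.2.1, hj.2.2.1, hj.2.2.2⟩
                            · exact cl_2 j ⟨hj.1, hj.2.1, hj.2.2.1, hj.2.2.2⟩
                            · exact cl_3 j ⟨hj.1, hj.2.1, hj.2.2.1, hj.2.2.2⟩
                  · -- (2,3) nonzero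
                    obtain ⟨lbp_2_3, lbq_2_3⟩ := Groth.Agent.Helper6.NT.lb T u2 u3 hn_3_2.symm nz_2_3
                    exfalso
                    have key := Groth.Agent.Helper6.NT.negfun3 T h2 u0 u2 u3 (by norm_num) 1 1 1 (by norm_num) (by norm_num)
                    linarith only [key, tap_0_2, taq_0_2, tap_0_3, taq_0_3, lbp_2_3, lbq_2_3, T.w_pos u0, T.w_pos u2, T.w_pos u3]
                · -- (1,3) nonzero
                  obtain ⟨lbp_1_3, lbq_1_3⟩ := Groth.Agent.Helper6.NT.lb T u1 u3 hn_3_1.symm nz_1_3
                  exfalso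
                  have key := Groth.Agent.Helper6.NT.negfun3 T h2 u0 u1 u3 (by norm_num) 1 1 1 (by norm_num) (by norm_num)
                  linarith only [key, tap_0_1, taq_0_1, tap_0_3, taq_0_3, lbp_1_3, lbq_1_3, T.w_pos u0, T.w_pos u1, T.w_pos u3]
              · -- (0,3) Dp
                exfalso
                have key := Groth.Agent.Helper6.NT.negfun4 T h2 u0 u1 u2 u3 (by norm_num) 2 1 1 1 (by norm_num) (by norm_num)
                linarith only [key, tap_0_1, taq_0_1, tap_0_2, taq_0_2, tap_0_3, taq_0_3, z_1_2, T.offDiag_nonneg u1 u3 hn_3_1.symm, T.offDiag_nonneg u2 u3 hn_3_2.symm, T.w_pos u0, T.w_pos u1, T.w_pos u2, T.w_pos u3]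
              · -- (0,3) Dm
                exfalso
                have key := Groth.Agent.Helper6.NT.negfun4 T h2 u0 u1 u2 u3 (by norm_num) 2 1 1 2 (by norm_num) (by norm_num)
                linarith only [key, tap_0_1, taq_0_1, tap_0_2, taq_0_2, tap_0_3, taq_0_3, z_1_2, T.offDiag_nonneg u1 u3 hn_3_1.symm, T.offDiag_nonneg u2 u3 hn_3_2.symm, T.w_pos u0, T.w_pos u1, T.w_pos u2, T.w_pos u3]
              · -- (0,3) Tp
                exfalso
                have key := Groth.Agent.Helper6.NT.negfun3 T h2 u0 u2 u3 (by norm_num) 2 1 1 (by norm_num) (by norm_num)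
                linarith only [key, tap_0_2, taq_0_2, tap_0_3, taq_0_3, T.offDiag_nonneg u2 u3 hn_3_2.symm, T.w_pos u0, T.w_pos u2, T.w_pos u3]
              · -- (0,3) Tm
                exfalso
                have key := Groth.Agent.Helper6.NT.negfun3 T h2 u0 u2 u3 (by norm_num) 2 1 3 (by norm_num) (by norm_num)
                linarith only [key, tap_0_2, taq_0_2, tap_0_3, taq_0_3, T.offDiag_nonneg u2 u3 hn_3_2.symm, T.w_pos u0, T.w_pos u2, T.w_pos u3]
            · push Not at hx
              have cl_0 := hx
              clear hx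
              by_cases hx : ∃ j, (j ≠ u0 ∧ j ≠ u1 ∧ j ≠ u2) ∧ T.a u1 j ≠ 0
              · obtain ⟨u3, ⟨hn_3_0, hn_3_1, hn_3_2⟩, e_1_3⟩ := hx
                have z_0_3 : T.a u0 u3 = 0 := cl_0 u3 ⟨hn_3_0, hn_3_1, hn_3_2⟩
                rcases Groth.Agent.Helper6.NT.edge5 T h2 (by norm_num) u1 u3 hn_3_1.symm e_1_3 with ⟨tw_1_3, tap_1_3, taq_1_3⟩ | ⟨tw_1_3, tap_1_3, taq_1_3⟩ | ⟨tw_1_3, tap_1_3, taq_1_3⟩ | ⟨tw_1_3, tap_1_3, taq_1_3⟩ | ⟨tw_1_3, tap_1_3, taq_1_3⟩
                · -- (1,3) S
                  rcases eq_or_ne (T.a u2 u3) 0 with z_2_3 | nz_2_3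
                  · -- (2,3) zero
                    by_cases hx : ∃ j, (j ≠ u0 ∧ j ≠ u1 ∧ j ≠ u2 ∧ j ≠ u3) ∧ T.a u1 j ≠ 0
                    · obtain ⟨u4, ⟨hn_4_0, hn_4_1, hn_4_2, hn_4_3⟩, e_1_4⟩ := hx
                      have z_0_4 : T.a u0 u4 = 0 := cl_0 u4 ⟨hn_4_0, hn_4_1, hn_4_2⟩
                      rcases Groth.Agent.Helper6.NT.edge5 T h2 (by norm_num) u1 u4 hn_4_1.symm e_1_4 with ⟨tw_1_4, tap_1_4, taq_1_4⟩ | ⟨tw_1_4, tap_1_4, taq_1_4⟩ | ⟨tw_1_4, tap_1_4, taq_1_4⟩ | ⟨tw_1_4, tap_1_4, taq_1_4⟩ | ⟨tw_1_4, tap_1_4, taq_1_4⟩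
                      · -- (1,4) S
                        rcases eq_or_ne (T.a u2 u4) 0 with z_2_4 | nz_2_4
                        · -- (2,4) zero
                          rcases eq_or_ne (T.a u3 u4) 0 with z_3_4 | nz_3_4
                          · -- (3,4) zero
                            have hinj := Groth.Agent.Helper6.NT.inj5 u0 u1 u2 u3 u4 hn_1_0 hn_2_0 hn_2_1 hn_3_0 hn_3_1 hn_3_2 hn_4_0 hn_4_1 hn_4_2 hn_4_3
                            have r_0 : -2 * T.m u0 + 1 * T.m u1 + 1 * T.m u2 = 0 := by
                              have key := Groth.Agent.Helper6.NT.rowfun5 T u0 u1 u2 u3 u4 hinj u0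
                              rw [(h2 u0).2, tap_0_1, tap_0_2, z_0_3, z_0_4] at key
                              exact mul_left_cancel₀ (T.w_pos u0).ne' (by linarith only [key])
                            have r_1 : 1 * T.m u0 + -2 * T.m u1 + 1 * T.m u3 + 1 * T.m u4 = 0 := by
                              have key := Groth.Agent.Helper6.NT.rowfun5 T u0 u1 u2 u3 u4 hinj u1
                              rw [Groth.Agent.Helper6.NT.symm' T u1 u0, taq_0_1, (h2 u1).2, z_1_2, tap_1_3, tap_1_4] at key
                              exact mul_left_cancel₀ (T.w_pos u1).ne' (by linarith only [key])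
                            have r_2 : 1 * T.m u0 + -2 * T.m u2 = 0 := by
                              have key := Groth.Agent.Helper6.NT.rowfun5 T u0 u1 u2 u3 u4 hinj u2
                              rw [Groth.Agent.Helper6.NT.symm' T u2 u0, taq_0_2, Groth.Agent.Helper6.NT.symm' T u2 u1, z_1_2, (h2 u2).2, z_2_3, z_2_4] at key
                              exact mul_left_cancel₀ (T.w_pos u2).ne' (by linarith only [key])
                            have r_3 : 1 * T.m u1 + -2 * T.m u3 = 0 := by
                              have key := Groth.Agent.Helper6.NT.rowfun5 T u0 u1 u2 u3 u4 hinj u3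
                              rw [Groth.Agent.Helper6.NT.symm' T u3 u0, z_0_3, Groth.Agent.Helper6.NT.symm' T u3 u1, taq_1_3, Groth.Agent.Helper6.NT.symm' T u3 u2, z_2_3, (h2 u3).2, z_3_4] at key
                              exact mul_left_cancel₀ (T.w_pos u3).ne' (by linarith only [key])
                            have r_4 : 1 * T.m u1 + -2 * T.m u4 = 0 := by
                              have key := Groth.Agent.Helper6.NT.rowfun5 T u0 u1 u2 u3 u4 hinj u4
                              rw [Groth.Agent.Helper6.NT.symm' T u4 u0, z_0_4, Groth.Agent.Helper6.NT.symm' T u4 u1, taq_1_4, Groth.Agent.Helper6.NT.symm' T u4 u2, z_2_4, Groth.Agent.Helper6.NT.symm' T u4 u3, z_3_4, (h2 u4).2] at key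
                              exact mul_left_cancel₀ (T.w_pos u4).ne' (by linarith only [key])
                            exfalso
                            linarith only [r_0, r_1, r_2, r_3, r_4, T.m_pos u0, T.m_pos u1, T.m_pos u2, T.m_pos u3, T.m_pos u4]
                          · -- (3,4) nonzero
                            obtain ⟨lbp_3_4, lbq_3_4⟩ := Groth.Agent.Helper6.NT.lb T u3 u4 hn_4_3.symm nz_3_4
                            exfalso
                            have key := Groth.Agent.Helper6.NT.negfun3 T h2 u1 u3 u4 (by norm_num) 1 1 1 (by norm_num) (by norm_num)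
                            linarith only [key, tap_1_3, taq_1_3, tap_1_4, taq_1_4, lbp_3_4, lbq_3_4, T.w_pos u1, T.w_pos u3, T.w_pos u4]
                        · -- (2,4) nonzero
                          obtain ⟨lbp_2_4, lbq_2_4⟩ := Groth.Agent.Helper6.NT.lb T u2 u4 hn_4_2.symm nz_2_4
                          exfalso
                          have key := Groth.Agent.Helper6.NT.negfun4 T h2 u0 u1 u2 u4 (by norm_num) 1 1 1 1 (by norm_num) (by norm_num)
                          linarith only [key, tap_0_1, taq_0_1, tap_0_2, taq_0_2, z_0_4, z_1_2, tap_1_4, taq_1_4, lbp_2_4, lbq_2_4, T.w_pos u0, T.w_pos u1, T.w_pos u2, T.w_pos u4]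
                      · -- (1,4) Dp
                        exfalso
                        have key := Groth.Agent.Helper6.NT.negfun4 T h2 u0 u1 u3 u4 (by norm_num) 1 2 1 1 (by norm_num) (by norm_num)
                        linarith only [key, tap_0_1, taq_0_1, z_0_3, z_0_4, tap_1_3, taq_1_3, tap_1_4, taq_1_4, T.offDiag_nonneg u3 u4 hn_4_3.symm, T.w_pos u0, T.w_pos u1, T.w_pos u3, T.w_pos u4]
                      · -- (1,4) Dm
                        exfalso
                        have key := Groth.Agent.Helper6.NT.negfun4 T h2 u0 u1 u3 u4 (by norm_num) 1 2 1 2 (by norm_num) (by norm_num)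
                        linarith only [key, tap_0_1, taq_0_1, z_0_3, z_0_4, tap_1_3, taq_1_3, tap_1_4, taq_1_4, T.offDiag_nonneg u3 u4 hn_4_3.symm, T.w_pos u0, T.w_pos u1, T.w_pos u3, T.w_pos u4]
                      · -- (1,4) Tp
                        exfalso
                        have key := Groth.Agent.Helper6.NT.negfun3 T h2 u1 u3 u4 (by norm_num) 2 1 1 (by norm_num) (by norm_num)
                        linarith only [key, tap_1_3, taq_1_3, tap_1_4, taq_1_4, T.offDiag_nonneg u3 u4 hn_4_3.symm, T.w_pos u1, T.w_pos u3, T.w_pos u4]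
                      · -- (1,4) Tm
                        exfalso
                        have key := Groth.Agent.Helper6.NT.negfun3 T h2 u1 u3 u4 (by norm_num) 2 1 3 (by norm_num) (by norm_num)
                        linarith only [key, tap_1_3, taq_1_3, tap_1_4, taq_1_4, T.offDiag_nonneg u3 u4 hn_4_3.symm, T.w_pos u1, T.w_pos u3, T.w_pos u4]
                    · push Not at hx
                      have cl_1 := hx
                      clear hx
                      by_cases hx : ∃ j, (j ≠ u0 ∧ j ≠ u1 ∧ j ≠ u2 ∧ j ≠ u3) ∧ T.a u2 j ≠ 0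
                      · obtain ⟨u4, ⟨hn_4_0, hn_4_1, hn_4_2, hn_4_3⟩, e_2_4⟩ := hx
                        have z_0_4 : T.a u0 u4 = 0 := cl_0 u4 ⟨hn_4_0, hn_4_1, hn_4_2⟩
                        have z_1_4 : T.a u1 u4 = 0 := cl_1 u4 ⟨hn_4_0, hn_4_1, hn_4_2, hn_4_3⟩
                        rcases Groth.Agent.Helper6.NT.edge5 T h2 (by norm_num) u2 u4 hn_4_2.symm e_2_4 with ⟨tw_2_4, tap_2_4, taq_2_4⟩ | ⟨tw_2_4, tap_2_4, taq_2_4⟩ | ⟨tw_2_4, tap_2_4, taq_2_4⟩ | ⟨tw_2_4, tap_2_4, taq_2_4⟩ | ⟨tw_2_4, tap_2_4, taq_2_4⟩
                        · -- (2,4) S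
                          rcases eq_or_ne (T.a u3 u4) 0 with z_3_4 | nz_3_4
                          · -- (3,4) zero
                            have hinj := Groth.Agent.Helper6.NT.inj5 u0 u1 u2 u3 u4 hn_1_0 hn_2_0 hn_2_1 hn_3_0 hn_3_1 hn_3_2 hn_4_0 hn_4_1 hn_4_2 hn_4_3
                            have r_0 : -2 * T.m u0 + 1 * T.m u1 + 1 * T.m u2 = 0 := by
                              have key := Groth.Agent.Helper6.NT.rowfun5 T u0 u1 u2 u3 u4 hinj u0
                              rw [(h2 u0).2, tap_0_1, tap_0_2, z_0_3, z_0_4] at key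
                              exact mul_left_cancel₀ (T.w_pos u0).ne' (by linarith only [key])
                            have r_1 : 1 * T.m u0 + -2 * T.m u1 + 1 * T.m u3 = 0 := by
                              have key := Groth.Agent.Helper6.NT.rowfun5 T u0 u1 u2 u3 u4 hinj u1
                              rw [Groth.Agent.Helper6.NT.symm' T u1 u0, taq_0_1, (h2 u1).2, z_1_2, tap_1_3, z_1_4] at key
                              exact mul_left_cancel₀ (T.w_pos u1).ne' (by linarith only [key])
                            have r_2 : 1 * T.m u0 + -2 * T.m u2 + 1 * T.m u4 = 0 := by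
                              have key := Groth.Agent.Helper6.NT.rowfun5 T u0 u1 u2 u3 u4 hinj u2
                              rw [Groth.Agent.Helper6.NT.symm' T u2 u0, taq_0_2, Groth.Agent.Helper6.NT.symm' T u2 u1, z_1_2, (h2 u2).2, z_2_3, tap_2_4] at key
                              exact mul_left_cancel₀ (T.w_pos u2).ne' (by linarith only [key])
                            have r_3 : 1 * T.m u1 + -2 * T.m u3 = 0 := by
                              have key := Groth.Agent.Helper6.NT.rowfun5 T u0 u1 u2 u3 u4 hinj u3
                              rw [Groth.Agent.Helper6.NT.symm' T u3 u0, z_0_3, Groth.Agent.Helper6.NT.symm' T u3 u1, taq_1_3, Groth.Agent.Helper6.NT.symm' T u3 u2, z_2_3, (h2 u3).2, z_3_4] at key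
                              exact mul_left_cancel₀ (T.w_pos u3).ne' (by linarith only [key])
                            have r_4 : 1 * T.m u2 + -2 * T.m u4 = 0 := by
                              have key := Groth.Agent.Helper6.NT.rowfun5 T u0 u1 u2 u3 u4 hinj u4
                              rw [Groth.Agent.Helper6.NT.symm' T u4 u0, z_0_4, Groth.Agent.Helper6.NT.symm' T u4 u1, z_1_4, Groth.Agent.Helper6.NT.symm' T u4 u2, taq_2_4, Groth.Agent.Helper6.NT.symm' T u4 u3, z_3_4, (h2 u4).2] at key
                              exact mul_left_cancel₀ (T.w_pos u4).ne' (by linarith only [key])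
                            exfalso
                            linarith only [r_0, r_1, r_2, r_3, r_4, T.m_pos u0, T.m_pos u1, T.m_pos u2, T.m_pos u3, T.m_pos u4]
                          · -- (3,4) nonzero
                            obtain ⟨lbp_3_4, lbq_3_4⟩ := Groth.Agent.Helper6.NT.lb T u3 u4 hn_4_3.symm nz_3_4
                            rcases Groth.Agent.Helper6.NT.edge5 T h2 (by norm_num) u3 u4 hn_4_3.symm nz_3_4 with ⟨tw_3_4, tap_3_4, taq_3_4⟩ | ⟨tw_3_4, tap_3_4, taq_3_4⟩ | ⟨tw_3_4, tap_3_4, taq_3_4⟩ | ⟨tw_3_4, tap_3_4, taq_3_4⟩ | ⟨tw_3_4, tap_3_4, taq_3_4⟩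
                            · -- (3,4) S
                              have hinj := Groth.Agent.Helper6.NT.inj5 u0 u1 u2 u3 u4 hn_1_0 hn_2_0 hn_2_1 hn_3_0 hn_3_1 hn_3_2 hn_4_0 hn_4_1 hn_4_2 hn_4_3
                              have r_0 : -2 * T.m u0 + 1 * T.m u1 + 1 * T.m u2 = 0 := by
                                have key := Groth.Agent.Helper6.NT.rowfun5 T u0 u1 u2 u3 u4 hinj u0
                                rw [(h2 u0).2, tap_0_1, tap_0_2, z_0_3, z_0_4] at key
                                exact mul_left_cancel₀ (T.w_pos u0).ne' (by linarith only [key])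
                              have r_1 : 1 * T.m u0 + -2 * T.m u1 + 1 * T.m u3 = 0 := by
                                have key := Groth.Agent.Helper6.NT.rowfun5 T u0 u1 u2 u3 u4 hinj u1
                                rw [Groth.Agent.Helper6.NT.symm' T u1 u0, taq_0_1, (h2 u1).2, z_1_2, tap_1_3, z_1_4] at key
                                exact mul_left_cancel₀ (T.w_pos u1).ne' (by linarith only [key])
                              have r_2 : 1 * T.m u0 + -2 * T.m u2 + 1 * T.m u4 = 0 := by
                                have key := Groth.Agent.Helper6.NT.rowfun5 T u0 u1 u2 u3 u4 hinj u2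
                                rw [Groth.Agent.Helper6.NT.symm' T u2 u0, taq_0_2, Groth.Agent.Helper6.NT.symm' T u2 u1, z_1_2, (h2 u2).2, z_2_3, tap_2_4] at key
                                exact mul_left_cancel₀ (T.w_pos u2).ne' (by linarith only [key])
                              have r_3 : 1 * T.m u1 + -2 * T.m u3 + 1 * T.m u4 = 0 := by
                                have key := Groth.Agent.Helper6.NT.rowfun5 T u0 u1 u2 u3 u4 hinj u3
                                rw [Groth.Agent.Helper6.NT.symm' T u3 u0, z_0_3, Groth.Agent.Helper6.NT.symm' T u3 u1, taq_1_3, Groth.Agent.Helper6.NT.symm' T u3 u2, z_2_3, (h2 u3).2, tap_3_4] at key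
                                exact mul_left_cancel₀ (T.w_pos u3).ne' (by linarith only [key])
                              have r_4 : 1 * T.m u2 + 1 * T.m u3 + -2 * T.m u4 = 0 := by
                                have key := Groth.Agent.Helper6.NT.rowfun5 T u0 u1 u2 u3 u4 hinj u4
                                rw [Groth.Agent.Helper6.NT.symm' T u4 u0, z_0_4, Groth.Agent.Helper6.NT.symm' T u4 u1, z_1_4, Groth.Agent.Helper6.NT.symm' T u4 u2, taq_2_4, Groth.Agent.Helper6.NT.symm' T u4 u3, taq_3_4, (h2 u4).2] at key
                                exact mul_left_cancel₀ (T.w_pos u4).ne' (by linarith only [key])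
                              have f0 : T.m u0 = T.m u0 := rfl
                              have f1 : T.m u1 = T.m u0 := by linarith only [r_0, r_1, r_2, r_3, r_4]
                              have f2 : T.m u3 = T.m u0 := by linarith only [r_0, r_1, r_2, r_3, r_4]
                              have f3 : T.m u4 = T.m u0 := by linarith only [r_0, r_1, r_2, r_3, r_4]
                              have f4 : T.m u2 = T.m u0 := by linarith only [r_0, r_1, r_2, r_3, r_4]
                              have f5 : T.w u0 = T.w u0 := rfl
                              have f6 : T.w u1 = T.w u0 := by linarith only [tw_0_1, tw_0_2, tw_1_3, tw_3_4, tw_2_4]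
                              have f7 : T.w u3 = T.w u0 := by linarith only [tw_0_1, tw_0_2, tw_1_3, tw_3_4, tw_2_4]
                              have f8 : T.w u4 = T.w u0 := by linarith only [tw_0_1, tw_0_2, tw_1_3, tw_3_4, tw_2_4]
                              have f9 : T.w u2 = T.w u0 := by linarith only [tw_0_1, tw_0_2, tw_1_3, tw_3_4, tw_2_4]
                              have f10 : T.a u0 u0 = -2 * T.w u0 := by have := (h2 u0).2; linarith only [this, tw_0_1, tw_0_2, tw_1_3, tw_3_4, tw_2_4]
                              have f11 : T.a u0 u1 = T.w u0 := by linarith only [tap_0_1, tw_0_1, tw_0_2, tw_1_3, tw_3_4, tw_2_4]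
                              have f12 : T.a u0 u3 = 0 := by exact z_0_3
                              have f13 : T.a u0 u4 = 0 := by exact z_0_4
                              have f14 : T.a u0 u2 = T.w u0 := by linarith only [tap_0_2, tw_0_1, tw_0_2, tw_1_3, tw_3_4, tw_2_4]
                              have f15 : T.a u1 u1 = -2 * T.w u0 := by have := (h2 u1).2; linarith only [this, tw_0_1, tw_0_2, tw_1_3, tw_3_4, tw_2_4]
                              have f16 : T.a u1 u3 = T.w u0 := by linarith only [tap_1_3, tw_0_1, tw_0_2, tw_1_3, tw_3_4, tw_2_4]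
                              have f17 : T.a u1 u4 = 0 := by exact z_1_4
                              have f18 : T.a u1 u2 = 0 := by exact z_1_2
                              have f19 : T.a u3 u3 = -2 * T.w u0 := by have := (h2 u3).2; linarith only [this, tw_0_1, tw_0_2, tw_1_3, tw_3_4, tw_2_4]
                              have f20 : T.a u3 u4 = T.w u0 := by linarith only [tap_3_4, tw_0_1, tw_0_2, tw_1_3, tw_3_4, tw_2_4]
                              have f21 : T.a u3 u2 = 0 := by rw [Groth.Agent.Helper6.NT.symm' T u3 u2]; exact z_2_3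
                              have f22 : T.a u4 u4 = -2 * T.w u0 := by have := (h2 u4).2; linarith only [this, tw_0_1, tw_0_2, tw_1_3, tw_3_4, tw_2_4]
                              have f23 : T.a u4 u2 = T.w u0 := by rw [Groth.Agent.Helper6.NT.symm' T u4 u2]; linarith only [tap_2_4, tw_0_1, tw_0_2, tw_1_3, tw_3_4, tw_2_4]
                              have f24 : T.a u2 u2 = -2 * T.w u0 := by have := (h2 u2).2; linarith only [this, tw_0_1, tw_0_2, tw_1_3, tw_3_4, tw_2_4]
                              have hsig := Groth.Agent.Helper6.NT.inj5 u0 u1 u3 u4 u2 hn_1_0 hn_3_0 hn_3_1 hn_4_0 hn_4_1 hn_4_3 hn_2_0 hn_2_1 hn_3_2.symm hn_4_2.symm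
                              exact ⟨Equiv.ofBijective _ (Finite.injective_iff_bijective.1 hsig), T.m u0, T.w u0, Or.inl ⟨f0, f1, f2, f3, f4, f5, f6, f7, f8, f9, f10, f11, f12, f13, f14, f15, f16, f17, f18, f19, f20, f21, f22, f23, f24⟩⟩
                            · -- (3,4) Dp
                              exfalso
                              linarith only [tap_0_1, tap_0_2, tap_1_3, tap_3_4, tap_2_4, taq_0_1, taq_0_2, taq_1_3, taq_3_4, taq_2_4, T.w_pos u0, T.w_pos u1, T.w_pos u2, T.w_pos u3, T.w_pos u4]
                            · -- (3,4) Dm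
                              exfalso
                              linarith only [tap_0_1, tap_0_2, tap_1_3, tap_3_4, tap_2_4, taq_0_1, taq_0_2, taq_1_3, taq_3_4, taq_2_4, T.w_pos u0, T.w_pos u1, T.w_pos u2, T.w_pos u3, T.w_pos u4]
                            · -- (3,4) Tp
                              exfalso
                              have key := Groth.Agent.Helper6.NT.negfun3 T h2 u2 u3 u4 (by norm_num) 1 3 2 (by norm_num) (by norm_num)
                              linarith only [key, z_2_3, tap_2_4, taq_2_4, tap_3_4, taq_3_4, T.w_pos u2, T.w_pos u3, T.w_pos u4]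
                            · -- (3,4) Tm
                              exfalso
                              have key := Groth.Agent.Helper6.NT.negfun3 T h2 u2 u3 u4 (by norm_num) 1 1 2 (by norm_num) (by norm_num)
                              linarith only [key, z_2_3, tap_2_4, taq_2_4, tap_3_4, taq_3_4, T.w_pos u2, T.w_pos u3, T.w_pos u4]
                        · -- (2,4) Dp
                          rcases eq_or_ne (T.a u3 u4) 0 with z_3_4 | nz_3_4
                          · -- (3,4) zero
                            have hinj := Groth.Agent.Helper6.NT.inj5 u0 u1 u2 u3 u4 hn_1_0 hn_2_0 hn_2_1 hn_3_0 hn_3_1 hn_3_2 hn_4_0 hn_4_1 hn_4_2 hn_4_3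
                            have r_0 : -2 * T.m u0 + 1 * T.m u1 + 1 * T.m u2 = 0 := by
                              have key := Groth.Agent.Helper6.NT.rowfun5 T u0 u1 u2 u3 u4 hinj u0
                              rw [(h2 u0).2, tap_0_1, tap_0_2, z_0_3, z_0_4] at key
                              exact mul_left_cancel₀ (T.w_pos u0).ne' (by linarith only [key])
                            have r_1 : 1 * T.m u0 + -2 * T.m u1 + 1 * T.m u3 = 0 := by
                              have key := Groth.Agent.Helper6.NT.rowfun5 T u0 u1 u2 u3 u4 hinj u1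
                              rw [Groth.Agent.Helper6.NT.symm' T u1 u0, taq_0_1, (h2 u1).2, z_1_2, tap_1_3, z_1_4] at key
                              exact mul_left_cancel₀ (T.w_pos u1).ne' (by linarith only [key])
                            have r_2 : 1 * T.m u0 + -2 * T.m u2 + 2 * T.m u4 = 0 := by
                              have key := Groth.Agent.Helper6.NT.rowfun5 T u0 u1 u2 u3 u4 hinj u2
                              rw [Groth.Agent.Helper6.NT.symm' T u2 u0, taq_0_2, Groth.Agent.Helper6.NT.symm' T u2 u1, z_1_2, (h2 u2).2, z_2_3, tap_2_4] at key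
                              exact mul_left_cancel₀ (T.w_pos u2).ne' (by linarith only [key])
                            have r_3 : 1 * T.m u1 + -2 * T.m u3 = 0 := by
                              have key := Groth.Agent.Helper6.NT.rowfun5 T u0 u1 u2 u3 u4 hinj u3
                              rw [Groth.Agent.Helper6.NT.symm' T u3 u0, z_0_3, Groth.Agent.Helper6.NT.symm' T u3 u1, taq_1_3, Groth.Agent.Helper6.NT.symm' T u3 u2, z_2_3, (h2 u3).2, z_3_4] at key
                              exact mul_left_cancel₀ (T.w_pos u3).ne' (by linarith only [key])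
                            have r_4 : 1 * T.m u2 + -2 * T.m u4 = 0 := by
                              have key := Groth.Agent.Helper6.NT.rowfun5 T u0 u1 u2 u3 u4 hinj u4
                              rw [Groth.Agent.Helper6.NT.symm' T u4 u0, z_0_4, Groth.Agent.Helper6.NT.symm' T u4 u1, z_1_4, Groth.Agent.Helper6.NT.symm' T u4 u2, taq_2_4, Groth.Agent.Helper6.NT.symm' T u4 u3, z_3_4, (h2 u4).2] at key
                              exact mul_left_cancel₀ (T.w_pos u4).ne' (by linarith only [key])
                            exfalso
                            linarith only [r_0, r_1, r_2, r_3, r_4, T.m_pos u0, T.m_pos u1, T.m_pos u2, T.m_pos u3, T.m_pos u4]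
                          · -- (3,4) nonzero
                            obtain ⟨lbp_3_4, lbq_3_4⟩ := Groth.Agent.Helper6.NT.lb T u3 u4 hn_4_3.symm nz_3_4
                            rcases Groth.Agent.Helper6.NT.edge5 T h2 (by norm_num) u3 u4 hn_4_3.symm nz_3_4 with ⟨tw_3_4, tap_3_4, taq_3_4⟩ | ⟨tw_3_4, tap_3_4, taq_3_4⟩ | ⟨tw_3_4, tap_3_4, taq_3_4⟩ | ⟨tw_3_4, tap_3_4, taq_3_4⟩ | ⟨tw_3_4, tap_3_4, taq_3_4⟩
                            · -- (3,4) S
                              exfalso
                              linarith only [tap_0_1, tap_0_2, tap_1_3, tap_3_4, tap_2_4, taq_0_1, taq_0_2, taq_1_3, taq_3_4, taq_2_4, T.w_pos u0, T.w_pos u1, T.w_pos u2, T.w_pos u3, T.w_pos u4]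
                            · -- (3,4) Dp
                              exfalso
                              have key := Groth.Agent.Helper6.NT.negfun3 T h2 u2 u3 u4 (by norm_num) 1 1 1 (by norm_num) (by norm_num)
                              linarith only [key, z_2_3, tap_2_4, taq_2_4, tap_3_4, taq_3_4, T.w_pos u2, T.w_pos u3, T.w_pos u4]
                            · -- (3,4) Dm
                              exfalso
                              have key := Groth.Agent.Helper6.NT.negfun3 T h2 u2 u3 u4 (by norm_num) 2 1 2 (by norm_num) (by norm_num)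
                              linarith only [key, z_2_3, tap_2_4, taq_2_4, tap_3_4, taq_3_4, T.w_pos u2, T.w_pos u3, T.w_pos u4]
                            · -- (3,4) Tp
                              exfalso
                              have key := Groth.Agent.Helper6.NT.negfun3 T h2 u2 u3 u4 (by norm_num) 2 3 2 (by norm_num) (by norm_num)
                              linarith only [key, z_2_3, tap_2_4, taq_2_4, tap_3_4, taq_3_4, T.w_pos u2, T.w_pos u3, T.w_pos u4]
                            · -- (3,4) Tm
                              exfalso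
                              have key := Groth.Agent.Helper6.NT.negfun3 T h2 u2 u3 u4 (by norm_num) 2 1 2 (by norm_num) (by norm_num)
                              linarith only [key, z_2_3, tap_2_4, taq_2_4, tap_3_4, taq_3_4, T.w_pos u2, T.w_pos u3, T.w_pos u4]
                        · -- (2,4) Dm
                          rcases eq_or_ne (T.a u3 u4) 0 with z_3_4 | nz_3_4
                          · -- (3,4) zero
                            have hinj := Groth.Agent.Helper6.NT.inj5 u0 u1 u2 u3 u4 hn_1_0 hn_2_0 hn_2_1 hn_3_0 hn_3_1 hn_3_2 hn_4_0 hn_4_1 hn_4_2 hn_4_3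
                            have r_0 : -2 * T.m u0 + 1 * T.m u1 + 1 * T.m u2 = 0 := by
                              have key := Groth.Agent.Helper6.NT.rowfun5 T u0 u1 u2 u3 u4 hinj u0
                              rw [(h2 u0).2, tap_0_1, tap_0_2, z_0_3, z_0_4] at key
                              exact mul_left_cancel₀ (T.w_pos u0).ne' (by linarith only [key])
                            have r_1 : 1 * T.m u0 + -2 * T.m u1 + 1 * T.m u3 = 0 := by
                              have key := Groth.Agent.Helper6.NT.rowfun5 T u0 u1 u2 u3 u4 hinj u1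
                              rw [Groth.Agent.Helper6.NT.symm' T u1 u0, taq_0_1, (h2 u1).2, z_1_2, tap_1_3, z_1_4] at key
                              exact mul_left_cancel₀ (T.w_pos u1).ne' (by linarith only [key])
                            have r_2 : 1 * T.m u0 + -2 * T.m u2 + 1 * T.m u4 = 0 := by
                              have key := Groth.Agent.Helper6.NT.rowfun5 T u0 u1 u2 u3 u4 hinj u2
                              rw [Groth.Agent.Helper6.NT.symm' T u2 u0, taq_0_2, Groth.Agent.Helper6.NT.symm' T u2 u1, z_1_2, (h2 u2).2, z_2_3, tap_2_4] at key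
                              exact mul_left_cancel₀ (T.w_pos u2).ne' (by linarith only [key])
                            have r_3 : 1 * T.m u1 + -2 * T.m u3 = 0 := by
                              have key := Groth.Agent.Helper6.NT.rowfun5 T u0 u1 u2 u3 u4 hinj u3
                              rw [Groth.Agent.Helper6.NT.symm' T u3 u0, z_0_3, Groth.Agent.Helper6.NT.symm' T u3 u1, taq_1_3, Groth.Agent.Helper6.NT.symm' T u3 u2, z_2_3, (h2 u3).2, z_3_4] at key
                              exact mul_left_cancel₀ (T.w_pos u3).ne' (by linarith only [key])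
                            have r_4 : 2 * T.m u2 + -2 * T.m u4 = 0 := by
                              have key := Groth.Agent.Helper6.NT.rowfun5 T u0 u1 u2 u3 u4 hinj u4
                              rw [Groth.Agent.Helper6.NT.symm' T u4 u0, z_0_4, Groth.Agent.Helper6.NT.symm' T u4 u1, z_1_4, Groth.Agent.Helper6.NT.symm' T u4 u2, taq_2_4, Groth.Agent.Helper6.NT.symm' T u4 u3, z_3_4, (h2 u4).2] at key
                              exact mul_left_cancel₀ (T.w_pos u4).ne' (by linarith only [key])
                            exfalso
                            linarith only [r_0, r_1, r_2, r_3, r_4, T.m_pos u0, T.m_pos u1, T.m_pos u2, T.m_pos u3, T.m_pos u4]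
                          · -- (3,4) nonzero
                            obtain ⟨lbp_3_4, lbq_3_4⟩ := Groth.Agent.Helper6.NT.lb T u3 u4 hn_4_3.symm nz_3_4
                            rcases Groth.Agent.Helper6.NT.edge5 T h2 (by norm_num) u3 u4 hn_4_3.symm nz_3_4 with ⟨tw_3_4, tap_3_4, taq_3_4⟩ | ⟨tw_3_4, tap_3_4, taq_3_4⟩ | ⟨tw_3_4, tap_3_4, taq_3_4⟩ | ⟨tw_3_4, tap_3_4, taq_3_4⟩ | ⟨tw_3_4, tap_3_4, taq_3_4⟩
                            · -- (3,4) S
                              exfalso
                              linarith only [tap_0_1, tap_0_2, tap_1_3, tap_3_4, tap_2_4, taq_0_1, taq_0_2, taq_1_3, taq_3_4, taq_2_4, T.w_pos u0, T.w_pos u1, T.w_pos u2, T.w_pos u3, T.w_pos u4]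
                            · -- (3,4) Dp
                              exfalso
                              have key := Groth.Agent.Helper6.NT.negfun3 T h2 u2 u3 u4 (by norm_num) 1 2 2 (by norm_num) (by norm_num)
                              linarith only [key, z_2_3, tap_2_4, taq_2_4, tap_3_4, taq_3_4, T.w_pos u2, T.w_pos u3, T.w_pos u4]
                            · -- (3,4) Dm
                              exfalso
                              have key := Groth.Agent.Helper6.NT.negfun3 T h2 u2 u3 u4 (by norm_num) 1 1 2 (by norm_num) (by norm_num)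
                              linarith only [key, z_2_3, tap_2_4, taq_2_4, tap_3_4, taq_3_4, T.w_pos u2, T.w_pos u3, T.w_pos u4]
                            · -- (3,4) Tp
                              exfalso
                              have key := Groth.Agent.Helper6.NT.negfun3 T h2 u2 u3 u4 (by norm_num) 1 3 2 (by norm_num) (by norm_num)
                              linarith only [key, z_2_3, tap_2_4, taq_2_4, tap_3_4, taq_3_4, T.w_pos u2, T.w_pos u3, T.w_pos u4]
                            · -- (3,4) Tm
                              exfalso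
                              have key := Groth.Agent.Helper6.NT.negfun3 T h2 u2 u3 u4 (by norm_num) 1 1 2 (by norm_num) (by norm_num)
                              linarith only [key, z_2_3, tap_2_4, taq_2_4, tap_3_4, taq_3_4, T.w_pos u2, T.w_pos u3, T.w_pos u4]
                        · -- (2,4) Tp
                          exfalso
                          have key := Groth.Agent.Helper6.NT.negfun3 T h2 u0 u2 u4 (by norm_num) 1 2 1 (by norm_num) (by norm_num)
                          linarith only [key, tap_0_2, taq_0_2, z_0_4, tap_2_4, taq_2_4, T.w_pos u0, T.w_pos u2, T.w_pos u4]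
                        · -- (2,4) Tm
                          exfalso
                          have key := Groth.Agent.Helper6.NT.negfun3 T h2 u0 u2 u4 (by norm_num) 1 2 3 (by norm_num) (by norm_num)
                          linarith only [key, tap_0_2, taq_0_2, z_0_4, tap_2_4, taq_2_4, T.w_pos u0, T.w_pos u2, T.w_pos u4]
                      · push Not at hx
                        have cl_2 := hx
                        clear hx
                        by_cases hx : ∃ j, (j ≠ u0 ∧ j ≠ u1 ∧ j ≠ u2 ∧ j ≠ u3) ∧ T.a u3 j ≠ 0
                        · obtain ⟨u4, ⟨hn_4_0, hn_4_1, hn_4_2, hn_4_3⟩, e_3_4⟩ := hx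
                          have z_0_4 : T.a u0 u4 = 0 := cl_0 u4 ⟨hn_4_0, hn_4_1, hn_4_2⟩
                          have z_1_4 : T.a u1 u4 = 0 := cl_1 u4 ⟨hn_4_0, hn_4_1, hn_4_2, hn_4_3⟩
                          have z_2_4 : T.a u2 u4 = 0 := cl_2 u4 ⟨hn_4_0, hn_4_1, hn_4_2, hn_4_3⟩
                          rcases Groth.Agent.Helper6.NT.edge5 T h2 (by norm_num) u3 u4 hn_4_3.symm e_3_4 with ⟨tw_3_4, tap_3_4, taq_3_4⟩ | ⟨tw_3_4, tap_3_4, taq_3_4⟩ | ⟨tw_3_4, tap_3_4, taq_3_4⟩ | ⟨tw_3_4, tap_3_4, taq_3_4⟩ | ⟨tw_3_4, tap_3_4, taq_3_4⟩
                          · -- (3,4) S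
                            have hinj := Groth.Agent.Helper6.NT.inj5 u0 u1 u2 u3 u4 hn_1_0 hn_2_0 hn_2_1 hn_3_0 hn_3_1 hn_3_2 hn_4_0 hn_4_1 hn_4_2 hn_4_3
                            have r_0 : -2 * T.m u0 + 1 * T.m u1 + 1 * T.m u2 = 0 := by
                              have key := Groth.Agent.Helper6.NT.rowfun5 T u0 u1 u2 u3 u4 hinj u0
                              rw [(h2 u0).2, tap_0_1, tap_0_2, z_0_3, z_0_4] at key
                              exact mul_left_cancel₀ (T.w_pos u0).ne' (by linarith only [key])
                            have r_1 : 1 * T.m u0 + -2 * T.m u1 + 1 * T.m u3 = 0 := by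
                              have key := Groth.Agent.Helper6.NT.rowfun5 T u0 u1 u2 u3 u4 hinj u1
                              rw [Groth.Agent.Helper6.NT.symm' T u1 u0, taq_0_1, (h2 u1).2, z_1_2, tap_1_3, z_1_4] at key
                              exact mul_left_cancel₀ (T.w_pos u1).ne' (by linarith only [key])
                            have r_2 : 1 * T.m u0 + -2 * T.m u2 = 0 := by
                              have key := Groth.Agent.Helper6.NT.rowfun5 T u0 u1 u2 u3 u4 hinj u2
                              rw [Groth.Agent.Helper6.NT.symm' T u2 u0, taq_0_2, Groth.Agent.Helper6.NT.symm' T u2 u1, z_1_2, (h2 u2).2, z_2_3, z_2_4] at key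
                              exact mul_left_cancel₀ (T.w_pos u2).ne' (by linarith only [key])
                            have r_3 : 1 * T.m u1 + -2 * T.m u3 + 1 * T.m u4 = 0 := by
                              have key := Groth.Agent.Helper6.NT.rowfun5 T u0 u1 u2 u3 u4 hinj u3
                              rw [Groth.Agent.Helper6.NT.symm' T u3 u0, z_0_3, Groth.Agent.Helper6.NT.symm' T u3 u1, taq_1_3, Groth.Agent.Helper6.NT.symm' T u3 u2, z_2_3, (h2 u3).2, tap_3_4] at key
                              exact mul_left_cancel₀ (T.w_pos u3).ne' (by linarith only [key])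
                            have r_4 : 1 * T.m u3 + -2 * T.m u4 = 0 := by
                              have key := Groth.Agent.Helper6.NT.rowfun5 T u0 u1 u2 u3 u4 hinj u4
                              rw [Groth.Agent.Helper6.NT.symm' T u4 u0, z_0_4, Groth.Agent.Helper6.NT.symm' T u4 u1, z_1_4, Groth.Agent.Helper6.NT.symm' T u4 u2, z_2_4, Groth.Agent.Helper6.NT.symm' T u4 u3, taq_3_4, (h2 u4).2] at key
                              exact mul_left_cancel₀ (T.w_pos u4).ne' (by linarith only [key])
                            exfalso
                            linarith only [r_0, r_1, r_2, r_3, r_4, T.m_pos u0, T.m_pos u1, T.m_pos u2, T.m_pos u3, T.m_pos u4]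
                          · -- (3,4) Dp
                            have hinj := Groth.Agent.Helper6.NT.inj5 u0 u1 u2 u3 u4 hn_1_0 hn_2_0 hn_2_1 hn_3_0 hn_3_1 hn_3_2 hn_4_0 hn_4_1 hn_4_2 hn_4_3
                            have r_0 : -2 * T.m u0 + 1 * T.m u1 + 1 * T.m u2 = 0 := by
                              have key := Groth.Agent.Helper6.NT.rowfun5 T u0 u1 u2 u3 u4 hinj u0
                              rw [(h2 u0).2, tap_0_1, tap_0_2, z_0_3, z_0_4] at key
                              exact mul_left_cancel₀ (T.w_pos u0).ne' (by linarith only [key])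
                            have r_1 : 1 * T.m u0 + -2 * T.m u1 + 1 * T.m u3 = 0 := by
                              have key := Groth.Agent.Helper6.NT.rowfun5 T u0 u1 u2 u3 u4 hinj u1
                              rw [Groth.Agent.Helper6.NT.symm' T u1 u0, taq_0_1, (h2 u1).2, z_1_2, tap_1_3, z_1_4] at key
                              exact mul_left_cancel₀ (T.w_pos u1).ne' (by linarith only [key])
                            have r_2 : 1 * T.m u0 + -2 * T.m u2 = 0 := by
                              have key := Groth.Agent.Helper6.NT.rowfun5 T u0 u1 u2 u3 u4 hinj u2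
                              rw [Groth.Agent.Helper6.NT.symm' T u2 u0, taq_0_2, Groth.Agent.Helper6.NT.symm' T u2 u1, z_1_2, (h2 u2).2, z_2_3, z_2_4] at key
                              exact mul_left_cancel₀ (T.w_pos u2).ne' (by linarith only [key])
                            have r_3 : 1 * T.m u1 + -2 * T.m u3 + 2 * T.m u4 = 0 := by
                              have key := Groth.Agent.Helper6.NT.rowfun5 T u0 u1 u2 u3 u4 hinj u3
                              rw [Groth.Agent.Helper6.NT.symm' T u3 u0, z_0_3, Groth.Agent.Helper6.NT.symm' T u3 u1, taq_1_3, Groth.Agent.Helper6.NT.symm' T u3 u2, z_2_3, (h2 u3).2, tap_3_4] at key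
                              exact mul_left_cancel₀ (T.w_pos u3).ne' (by linarith only [key])
                            have r_4 : 1 * T.m u3 + -2 * T.m u4 = 0 := by
                              have key := Groth.Agent.Helper6.NT.rowfun5 T u0 u1 u2 u3 u4 hinj u4
                              rw [Groth.Agent.Helper6.NT.symm' T u4 u0, z_0_4, Groth.Agent.Helper6.NT.symm' T u4 u1, z_1_4, Groth.Agent.Helper6.NT.symm' T u4 u2, z_2_4, Groth.Agent.Helper6.NT.symm' T u4 u3, taq_3_4, (h2 u4).2] at key
                              exact mul_left_cancel₀ (T.w_pos u4).ne' (by linarith only [key])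
                            exfalso
                            linarith only [r_0, r_1, r_2, r_3, r_4, T.m_pos u0, T.m_pos u1, T.m_pos u2, T.m_pos u3, T.m_pos u4]
                          · -- (3,4) Dm
                            have hinj := Groth.Agent.Helper6.NT.inj5 u0 u1 u2 u3 u4 hn_1_0 hn_2_0 hn_2_1 hn_3_0 hn_3_1 hn_3_2 hn_4_0 hn_4_1 hn_4_2 hn_4_3
                            have r_0 : -2 * T.m u0 + 1 * T.m u1 + 1 * T.m u2 = 0 := by
                              have key := Groth.Agent.Helper6.NT.rowfun5 T u0 u1 u2 u3 u4 hinj u0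
                              rw [(h2 u0).2, tap_0_1, tap_0_2, z_0_3, z_0_4] at key
                              exact mul_left_cancel₀ (T.w_pos u0).ne' (by linarith only [key])
                            have r_1 : 1 * T.m u0 + -2 * T.m u1 + 1 * T.m u3 = 0 := by
                              have key := Groth.Agent.Helper6.NT.rowfun5 T u0 u1 u2 u3 u4 hinj u1
                              rw [Groth.Agent.Helper6.NT.symm' T u1 u0, taq_0_1, (h2 u1).2, z_1_2, tap_1_3, z_1_4] at key
                              exact mul_left_cancel₀ (T.w_pos u1).ne' (by linarith only [key])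
                            have r_2 : 1 * T.m u0 + -2 * T.m u2 = 0 := by
                              have key := Groth.Agent.Helper6.NT.rowfun5 T u0 u1 u2 u3 u4 hinj u2
                              rw [Groth.Agent.Helper6.NT.symm' T u2 u0, taq_0_2, Groth.Agent.Helper6.NT.symm' T u2 u1, z_1_2, (h2 u2).2, z_2_3, z_2_4] at key
                              exact mul_left_cancel₀ (T.w_pos u2).ne' (by linarith only [key])
                            have r_3 : 1 * T.m u1 + -2 * T.m u3 + 1 * T.m u4 = 0 := by
                              have key := Groth.Agent.Helper6.NT.rowfun5 T u0 u1 u2 u3 u4 hinj u3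
                              rw [Groth.Agent.Helper6.NT.symm' T u3 u0, z_0_3, Groth.Agent.Helper6.NT.symm' T u3 u1, taq_1_3, Groth.Agent.Helper6.NT.symm' T u3 u2, z_2_3, (h2 u3).2, tap_3_4] at key
                              exact mul_left_cancel₀ (T.w_pos u3).ne' (by linarith only [key])
                            have r_4 : 2 * T.m u3 + -2 * T.m u4 = 0 := by
                              have key := Groth.Agent.Helper6.NT.rowfun5 T u0 u1 u2 u3 u4 hinj u4
                              rw [Groth.Agent.Helper6.NT.symm' T u4 u0, z_0_4, Groth.Agent.Helper6.NT.symm' T u4 u1, z_1_4, Groth.Agent.Helper6.NT.symm' T u4 u2, z_2_4, Groth.Agent.Helper6.NT.symm' T u4 u3, taq_3_4, (h2 u4).2] at key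
                              exact mul_left_cancel₀ (T.w_pos u4).ne' (by linarith only [key])
                            exfalso
                            linarith only [r_0, r_1, r_2, r_3, r_4, T.m_pos u0, T.m_pos u1, T.m_pos u2, T.m_pos u3, T.m_pos u4]
                          · -- (3,4) Tp
                            exfalso
                            have key := Groth.Agent.Helper6.NT.negfun3 T h2 u1 u3 u4 (by norm_num) 1 2 1 (by norm_num) (by norm_num)
                            linarith only [key, tap_1_3, taq_1_3, z_1_4, tap_3_4, taq_3_4, T.w_pos u1, T.w_pos u3, T.w_pos u4]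
                          · -- (3,4) Tm
                            exfalso
                            have key := Groth.Agent.Helper6.NT.negfun3 T h2 u1 u3 u4 (by norm_num) 1 2 3 (by norm_num) (by norm_num)
                            linarith only [key, tap_1_3, taq_1_3, z_1_4, tap_3_4, taq_3_4, T.w_pos u1, T.w_pos u3, T.w_pos u4]
                        · push Not at hx
                          have cl_3 := hx
                          clear hx
                          exfalso
                          refine Groth.Agent.Helper6.NT.closed_contra T [u0, u1, u2, u3] (by simp) (by simp) ?_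
                          intro i hi j hj
                          simp only [List.mem_cons, List.not_mem_nil, or_false, not_or] at hi hj
                          rcases hi with rfl | rfl | rfl | rfl
                          · exact cl_0 j ⟨hj.1, hj.2.1, hj.2.2.1⟩
                          · exact cl_1 j ⟨hj.1, hj.2.1, hj.2.2.1, hj.2.2.2⟩
                          · exact cl_2 j ⟨hj.1, hj.2.1, hj.2.2.1, hj.2.2.2⟩
                          · exact cl_3 j ⟨hj.1, hj.2.1, hj.2.2.1, hj.2.2.2⟩
                  · -- (2,3) nonzero
                    obtain ⟨lbp_2_3, lbq_2_3⟩ := Groth.Agent.Helper6.NT.lb T u2 u3 hn_3_2.symm nz_2_3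
                    exfalso
                    have key := Groth.Agent.Helper6.NT.negfun4 T h2 u0 u1 u2 u3 (by norm_num) 1 1 1 1 (by norm_num) (by norm_num)
                    linarith only [key, tap_0_1, taq_0_1, tap_0_2, taq_0_2, z_0_3, z_1_2, tap_1_3, taq_1_3, lbp_2_3, lbq_2_3, T.w_pos u0, T.w_pos u1, T.w_pos u2, T.w_pos u3]
                · -- (1,3) Dp
                  rcases eq_or_ne (T.a u2 u3) 0 with z_2_3 | nz_2_3
                  · -- (2,3) zero
                    by_cases hx : ∃ j, (j ≠ u0 ∧ j ≠ u1 ∧ j ≠ u2 ∧ j ≠ u3) ∧ T.a u1 j ≠ 0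
                    · obtain ⟨u4, ⟨hn_4_0, hn_4_1, hn_4_2, hn_4_3⟩, e_1_4⟩ := hx
                      have z_0_4 : T.a u0 u4 = 0 := cl_0 u4 ⟨hn_4_0, hn_4_1, hn_4_2⟩
                      rcases Groth.Agent.Helper6.NT.edge5 T h2 (by norm_num) u1 u4 hn_4_1.symm e_1_4 with ⟨tw_1_4, tap_1_4, taq_1_4⟩ | ⟨tw_1_4, tap_1_4, taq_1_4⟩ | ⟨tw_1_4, tap_1_4, taq_1_4⟩ | ⟨tw_1_4, tap_1_4, taq_1_4⟩ | ⟨tw_1_4, tap_1_4, taq_1_4⟩
                      · -- (1,4) S
                        exfalso
                        have key := Groth.Agent.Helper6.NT.negfun4 T h2 u0 u1 u3 u4 (by norm_num) 1 2 1 1 (by norm_num) (by norm_num)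
                        linarith only [key, tap_0_1, taq_0_1, z_0_3, z_0_4, tap_1_3, taq_1_3, tap_1_4, taq_1_4, T.offDiag_nonneg u3 u4 hn_4_3.symm, T.w_pos u0, T.w_pos u1, T.w_pos u3, T.w_pos u4]
                      · -- (1,4) Dp
                        exfalso
                        have key := Groth.Agent.Helper6.NT.negfun3 T h2 u1 u3 u4 (by norm_num) 2 1 1 (by norm_num) (by norm_num)
                        linarith only [key, tap_1_3, taq_1_3, tap_1_4, taq_1_4, T.offDiag_nonneg u3 u4 hn_4_3.symm, T.w_pos u1, T.w_pos u3, T.w_pos u4]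
                      · -- (1,4) Dm
                        exfalso
                        have key := Groth.Agent.Helper6.NT.negfun3 T h2 u1 u3 u4 (by norm_num) 2 1 2 (by norm_num) (by norm_num)
                        linarith only [key, tap_1_3, taq_1_3, tap_1_4, taq_1_4, T.offDiag_nonneg u3 u4 hn_4_3.symm, T.w_pos u1, T.w_pos u3, T.w_pos u4]
                      · -- (1,4) Tp
                        exfalso
                        have key := Groth.Agent.Helper6.NT.negfun3 T h2 u1 u3 u4 (by norm_num) 2 1 1 (by norm_num) (by norm_num)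
                        linarith only [key, tap_1_3, taq_1_3, tap_1_4, taq_1_4, T.offDiag_nonneg u3 u4 hn_4_3.symm, T.w_pos u1, T.w_pos u3, T.w_pos u4]
                      · -- (1,4) Tm
                        exfalso
                        have key := Groth.Agent.Helper6.NT.negfun3 T h2 u1 u3 u4 (by norm_num) 2 1 3 (by norm_num) (by norm_num)
                        linarith only [key, tap_1_3, taq_1_3, tap_1_4, taq_1_4, T.offDiag_nonneg u3 u4 hn_4_3.symm, T.w_pos u1, T.w_pos u3, T.w_pos u4]
                    · push Not at hx
                      have cl_1 := hx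
                      clear hx
                      by_cases hx : ∃ j, (j ≠ u0 ∧ j ≠ u1 ∧ j ≠ u2 ∧ j ≠ u3) ∧ T.a u2 j ≠ 0
                      · obtain ⟨u4, ⟨hn_4_0, hn_4_1, hn_4_2, hn_4_3⟩, e_2_4⟩ := hx
                        have z_0_4 : T.a u0 u4 = 0 := cl_0 u4 ⟨hn_4_0, hn_4_1, hn_4_2⟩
                        have z_1_4 : T.a u1 u4 = 0 := cl_1 u4 ⟨hn_4_0, hn_4_1, hn_4_2, hn_4_3⟩
                        rcases Groth.Agent.Helper6.NT.edge5 T h2 (by norm_num) u2 u4 hn_4_2.symm e_2_4 with ⟨tw_2_4, tap_2_4, taq_2_4⟩ | ⟨tw_2_4, tap_2_4, taq_2_4⟩ | ⟨tw_2_4, tap_2_4, taq_2_4⟩ | ⟨tw_2_4, tap_2_4, taq_2_4⟩ | ⟨tw_2_4, tap_2_4, taq_2_4⟩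
                        · -- (2,4) S
                          rcases eq_or_ne (T.a u3 u4) 0 with z_3_4 | nz_3_4
                          · -- (3,4) zero
                            have hinj := Groth.Agent.Helper6.NT.inj5 u0 u1 u2 u3 u4 hn_1_0 hn_2_0 hn_2_1 hn_3_0 hn_3_1 hn_3_2 hn_4_0 hn_4_1 hn_4_2 hn_4_3
                            have r_0 : -2 * T.m u0 + 1 * T.m u1 + 1 * T.m u2 = 0 := by
                              have key := Groth.Agent.Helper6.NT.rowfun5 T u0 u1 u2 u3 u4 hinj u0
                              rw [(h2 u0).2, tap_0_1, tap_0_2, z_0_3, z_0_4] at key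
                              exact mul_left_cancel₀ (T.w_pos u0).ne' (by linarith only [key])
                            have r_1 : 1 * T.m u0 + -2 * T.m u1 + 2 * T.m u3 = 0 := by
                              have key := Groth.Agent.Helper6.NT.rowfun5 T u0 u1 u2 u3 u4 hinj u1
                              rw [Groth.Agent.Helper6.NT.symm' T u1 u0, taq_0_1, (h2 u1).2, z_1_2, tap_1_3, z_1_4] at key
                              exact mul_left_cancel₀ (T.w_pos u1).ne' (by linarith only [key])
                            have r_2 : 1 * T.m u0 + -2 * T.m u2 + 1 * T.m u4 = 0 := by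
                              have key := Groth.Agent.Helper6.NT.rowfun5 T u0 u1 u2 u3 u4 hinj u2
                              rw [Groth.Agent.Helper6.NT.symm' T u2 u0, taq_0_2, Groth.Agent.Helper6.NT.symm' T u2 u1, z_1_2, (h2 u2).2, z_2_3, tap_2_4] at key
                              exact mul_left_cancel₀ (T.w_pos u2).ne' (by linarith only [key])
                            have r_3 : 1 * T.m u1 + -2 * T.m u3 = 0 := by
                              have key := Groth.Agent.Helper6.NT.rowfun5 T u0 u1 u2 u3 u4 hinj u3
                              rw [Groth.Agent.Helper6.NT.symm' T u3 u0, z_0_3, Groth.Agent.Helper6.NT.symm' T u3 u1, taq_1_3, Groth.Agent.Helper6.NT.symm' T u3 u2, z_2_3, (h2 u3).2, z_3_4] at key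
                              exact mul_left_cancel₀ (T.w_pos u3).ne' (by linarith only [key])
                            have r_4 : 1 * T.m u2 + -2 * T.m u4 = 0 := by
                              have key := Groth.Agent.Helper6.NT.rowfun5 T u0 u1 u2 u3 u4 hinj u4
                              rw [Groth.Agent.Helper6.NT.symm' T u4 u0, z_0_4, Groth.Agent.Helper6.NT.symm' T u4 u1, z_1_4, Groth.Agent.Helper6.NT.symm' T u4 u2, taq_2_4, Groth.Agent.Helper6.NT.symm' T u4 u3, z_3_4, (h2 u4).2] at key
                              exact mul_left_cancel₀ (T.w_pos u4).ne' (by linarith only [key])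
                            exfalso
                            linarith only [r_0, r_1, r_2, r_3, r_4, T.m_pos u0, T.m_pos u1, T.m_pos u2, T.m_pos u3, T.m_pos u4]
                          · -- (3,4) nonzero
                            obtain ⟨lbp_3_4, lbq_3_4⟩ := Groth.Agent.Helper6.NT.lb T u3 u4 hn_4_3.symm nz_3_4
                            rcases Groth.Agent.Helper6.NT.edge5 T h2 (by norm_num) u3 u4 hn_4_3.symm nz_3_4 with ⟨tw_3_4, tap_3_4, taq_3_4⟩ | ⟨tw_3_4, tap_3_4, taq_3_4⟩ | ⟨tw_3_4, tap_3_4, taq_3_4⟩ | ⟨tw_3_4, tap_3_4, taq_3_4⟩ | ⟨tw_3_4, tap_3_4, taq_3_4⟩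
                            · -- (3,4) S
                              exfalso
                              linarith only [tap_0_1, tap_0_2, tap_1_3, tap_3_4, tap_2_4, taq_0_1, taq_0_2, taq_1_3, taq_3_4, taq_2_4, T.w_pos u0, T.w_pos u1, T.w_pos u2, T.w_pos u3, T.w_pos u4]
                            · -- (3,4) Dp
                              exfalso
                              have key := Groth.Agent.Helper6.NT.negfun3 T h2 u1 u3 u4 (by norm_num) 2 2 1 (by norm_num) (by norm_num)
                              linarith only [key, tap_1_3, taq_1_3, z_1_4, tap_3_4, taq_3_4, T.w_pos u1, T.w_pos u3, T.w_pos u4]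
                            · -- (3,4) Dm
                              exfalso
                              have key := Groth.Agent.Helper6.NT.negfun3 T h2 u1 u3 u4 (by norm_num) 1 1 1 (by norm_num) (by norm_num)
                              linarith only [key, tap_1_3, taq_1_3, z_1_4, tap_3_4, taq_3_4, T.w_pos u1, T.w_pos u3, T.w_pos u4]
                            · -- (3,4) Tp
                              exfalso
                              have key := Groth.Agent.Helper6.NT.negfun3 T h2 u2 u3 u4 (by norm_num) 1 3 2 (by norm_num) (by norm_num)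
                              linarith only [key, z_2_3, tap_2_4, taq_2_4, tap_3_4, taq_3_4, T.w_pos u2, T.w_pos u3, T.w_pos u4]
                            · -- (3,4) Tm
                              exfalso
                              have key := Groth.Agent.Helper6.NT.negfun3 T h2 u2 u3 u4 (by norm_num) 1 1 2 (by norm_num) (by norm_num)
                              linarith only [key, z_2_3, tap_2_4, taq_2_4, tap_3_4, taq_3_4, T.w_pos u2, T.w_pos u3, T.w_pos u4]
                        · -- (2,4) Dp
                          rcases eq_or_ne (T.a u3 u4) 0 with z_3_4 | nz_3_4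
                          · -- (3,4) zero
                            have hinj := Groth.Agent.Helper6.NT.inj5 u0 u1 u2 u3 u4 hn_1_0 hn_2_0 hn_2_1 hn_3_0 hn_3_1 hn_3_2 hn_4_0 hn_4_1 hn_4_2 hn_4_3
                            have r_0 : -2 * T.m u0 + 1 * T.m u1 + 1 * T.m u2 = 0 := by
                              have key := Groth.Agent.Helper6.NT.rowfun5 T u0 u1 u2 u3 u4 hinj u0
                              rw [(h2 u0).2, tap_0_1, tap_0_2, z_0_3, z_0_4] at key
                              exact mul_left_cancel₀ (T.w_pos u0).ne' (by linarith only [key])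
                            have r_1 : 1 * T.m u0 + -2 * T.m u1 + 2 * T.m u3 = 0 := by
                              have key := Groth.Agent.Helper6.NT.rowfun5 T u0 u1 u2 u3 u4 hinj u1
                              rw [Groth.Agent.Helper6.NT.symm' T u1 u0, taq_0_1, (h2 u1).2, z_1_2, tap_1_3, z_1_4] at key
                              exact mul_left_cancel₀ (T.w_pos u1).ne' (by linarith only [key])
                            have r_2 : 1 * T.m u0 + -2 * T.m u2 + 2 * T.m u4 = 0 := by
                              have key := Groth.Agent.Helper6.NT.rowfun5 T u0 u1 u2 u3 u4 hinj u2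
                              rw [Groth.Agent.Helper6.NT.symm' T u2 u0, taq_0_2, Groth.Agent.Helper6.NT.symm' T u2 u1, z_1_2, (h2 u2).2, z_2_3, tap_2_4] at key
                              exact mul_left_cancel₀ (T.w_pos u2).ne' (by linarith only [key])
                            have r_3 : 1 * T.m u1 + -2 * T.m u3 = 0 := by
                              have key := Groth.Agent.Helper6.NT.rowfun5 T u0 u1 u2 u3 u4 hinj u3
                              rw [Groth.Agent.Helper6.NT.symm' T u3 u0, z_0_3, Groth.Agent.Helper6.NT.symm' T u3 u1, taq_1_3, Groth.Agent.Helper6.NT.symm' T u3 u2, z_2_3, (h2 u3).2, z_3_4] at key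
                              exact mul_left_cancel₀ (T.w_pos u3).ne' (by linarith only [key])
                            have r_4 : 1 * T.m u2 + -2 * T.m u4 = 0 := by
                              have key := Groth.Agent.Helper6.NT.rowfun5 T u0 u1 u2 u3 u4 hinj u4
                              rw [Groth.Agent.Helper6.NT.symm' T u4 u0, z_0_4, Groth.Agent.Helper6.NT.symm' T u4 u1, z_1_4, Groth.Agent.Helper6.NT.symm' T u4 u2, taq_2_4, Groth.Agent.Helper6.NT.symm' T u4 u3, z_3_4, (h2 u4).2] at key
                              exact mul_left_cancel₀ (T.w_pos u4).ne' (by linarith only [key])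
                            have f0 : T.m u3 = T.m u3 := rfl
                            have f1 : T.m u1 = 2 * T.m u3 := by linarith only [r_0, r_1, r_2, r_3, r_4]
                            have f2 : T.m u0 = 2 * T.m u3 := by linarith only [r_0, r_1, r_2, r_3, r_4]
                            have f3 : T.m u2 = 2 * T.m u3 := by linarith only [r_0, r_1, r_2, r_3, r_4]
                            have f4 : T.m u4 = T.m u3 := by linarith only [r_0, r_1, r_2, r_3, r_4]
                            have f5 : T.w u3 = 2 * T.w u1 := by linarith only [tw_0_1, tw_0_2, tw_1_3, tw_2_4]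
                            have f6 : T.w u1 = T.w u1 := rfl
                            have f7 : T.w u0 = T.w u1 := by linarith only [tw_0_1, tw_0_2, tw_1_3, tw_2_4]
                            have f8 : T.w u2 = T.w u1 := by linarith only [tw_0_1, tw_0_2, tw_1_3, tw_2_4]
                            have f9 : T.w u4 = 2 * T.w u1 := by linarith only [tw_0_1, tw_0_2, tw_1_3, tw_2_4]
                            have f10 : T.a u3 u3 = -4 * T.w u1 := by have := (h2 u3).2; linarith only [this, tw_0_1, tw_0_2, tw_1_3, tw_2_4]
                            have f11 : T.a u3 u1 = 2 * T.w u1 := by rw [Groth.Agent.Helper6.NT.symm' T u3 u1]; linarith only [tap_1_3, tw_0_1, tw_0_2, tw_1_3, tw_2_4]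
                            have f12 : T.a u3 u0 = 0 := by rw [Groth.Agent.Helper6.NT.symm' T u3 u0]; exact z_0_3
                            have f13 : T.a u3 u2 = 0 := by rw [Groth.Agent.Helper6.NT.symm' T u3 u2]; exact z_2_3
                            have f14 : T.a u3 u4 = 0 := by exact z_3_4
                            have f15 : T.a u1 u1 = -2 * T.w u1 := by have := (h2 u1).2; linarith only [this, tw_0_1, tw_0_2, tw_1_3, tw_2_4]
                            have f16 : T.a u1 u0 = T.w u1 := by rw [Groth.Agent.Helper6.NT.symm' T u1 u0]; linarith only [tap_0_1, tw_0_1, tw_0_2, tw_1_3, tw_2_4]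
                            have f17 : T.a u1 u2 = 0 := by exact z_1_2
                            have f18 : T.a u1 u4 = 0 := by exact z_1_4
                            have f19 : T.a u0 u0 = -2 * T.w u1 := by have := (h2 u0).2; linarith only [this, tw_0_1, tw_0_2, tw_1_3, tw_2_4]
                            have f20 : T.a u0 u2 = T.w u1 := by linarith only [tap_0_2, tw_0_1, tw_0_2, tw_1_3, tw_2_4]
                            have f21 : T.a u0 u4 = 0 := by exact z_0_4
                            have f22 : T.a u2 u2 = -2 * T.w u1 := by have := (h2 u2).2; linarith only [this, tw_0_1, tw_0_2, tw_1_3, tw_2_4]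
                            have f23 : T.a u2 u4 = 2 * T.w u1 := by linarith only [tap_2_4, tw_0_1, tw_0_2, tw_1_3, tw_2_4]
                            have f24 : T.a u4 u4 = -4 * T.w u1 := by have := (h2 u4).2; linarith only [this, tw_0_1, tw_0_2, tw_1_3, tw_2_4]
                            have hsig := Groth.Agent.Helper6.NT.inj5 u3 u1 u0 u2 u4 hn_3_1.symm hn_3_0.symm hn_1_0.symm hn_3_2.symm hn_2_1 hn_2_0 hn_4_3 hn_4_1 hn_4_0 hn_4_2
                            exact ⟨Equiv.ofBijective _ (Finite.injective_iff_bijective.1 hsig), T.m u3, T.w u1, Or.inr (Or.inr (Or.inr (Or.inr (Or.inr (Or.inl ⟨f0, f1, f2, f3, f4, f5, f6, f7, f8, f9, f10, f11, f12, f13, f14, f15, f16, f17, f18, f19, f20, f21, f22, f23, f24⟩)))))⟩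
                          · -- (3,4) nonzero
                            obtain ⟨lbp_3_4, lbq_3_4⟩ := Groth.Agent.Helper6.NT.lb T u3 u4 hn_4_3.symm nz_3_4
                            exfalso
                            have key := Groth.Agent.Helper6.NT.negfun4 T h2 u1 u2 u3 u4 (by norm_num) 1 1 1 1 (by norm_num) (by norm_num)
                            linarith only [key, z_1_2, tap_1_3, taq_1_3, z_1_4, z_2_3, tap_2_4, taq_2_4, lbp_3_4, lbq_3_4, T.w_pos u1, T.w_pos u2, T.w_pos u3, T.w_pos u4]
                        · -- (2,4) Dm
                          rcases eq_or_ne (T.a u3 u4) 0 with z_3_4 | nz_3_4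
                          · -- (3,4) zero
                            have hinj := Groth.Agent.Helper6.NT.inj5 u0 u1 u2 u3 u4 hn_1_0 hn_2_0 hn_2_1 hn_3_0 hn_3_1 hn_3_2 hn_4_0 hn_4_1 hn_4_2 hn_4_3
                            have r_0 : -2 * T.m u0 + 1 * T.m u1 + 1 * T.m u2 = 0 := by
                              have key := Groth.Agent.Helper6.NT.rowfun5 T u0 u1 u2 u3 u4 hinj u0
                              rw [(h2 u0).2, tap_0_1, tap_0_2, z_0_3, z_0_4] at key
                              exact mul_left_cancel₀ (T.w_pos u0).ne' (by linarith only [key])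
                            have r_1 : 1 * T.m u0 + -2 * T.m u1 + 2 * T.m u3 = 0 := by
                              have key := Groth.Agent.Helper6.NT.rowfun5 T u0 u1 u2 u3 u4 hinj u1
                              rw [Groth.Agent.Helper6.NT.symm' T u1 u0, taq_0_1, (h2 u1).2, z_1_2, tap_1_3, z_1_4] at key
                              exact mul_left_cancel₀ (T.w_pos u1).ne' (by linarith only [key])
                            have r_2 : 1 * T.m u0 + -2 * T.m u2 + 1 * T.m u4 = 0 := by
                              have key := Groth.Agent.Helper6.NT.rowfun5 T u0 u1 u2 u3 u4 hinj u2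
                              rw [Groth.Agent.Helper6.NT.symm' T u2 u0, taq_0_2, Groth.Agent.Helper6.NT.symm' T u2 u1, z_1_2, (h2 u2).2, z_2_3, tap_2_4] at key
                              exact mul_left_cancel₀ (T.w_pos u2).ne' (by linarith only [key])
                            have r_3 : 1 * T.m u1 + -2 * T.m u3 = 0 := by
                              have key := Groth.Agent.Helper6.NT.rowfun5 T u0 u1 u2 u3 u4 hinj u3
                              rw [Groth.Agent.Helper6.NT.symm' T u3 u0, z_0_3, Groth.Agent.Helper6.NT.symm' T u3 u1, taq_1_3, Groth.Agent.Helper6.NT.symm' T u3 u2, z_2_3, (h2 u3).2, z_3_4] at key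
                              exact mul_left_cancel₀ (T.w_pos u3).ne' (by linarith only [key])
                            have r_4 : 2 * T.m u2 + -2 * T.m u4 = 0 := by
                              have key := Groth.Agent.Helper6.NT.rowfun5 T u0 u1 u2 u3 u4 hinj u4
                              rw [Groth.Agent.Helper6.NT.symm' T u4 u0, z_0_4, Groth.Agent.Helper6.NT.symm' T u4 u1, z_1_4, Groth.Agent.Helper6.NT.symm' T u4 u2, taq_2_4, Groth.Agent.Helper6.NT.symm' T u4 u3, z_3_4, (h2 u4).2] at key
                              exact mul_left_cancel₀ (T.w_pos u4).ne' (by linarith only [key])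
                            have f0 : T.m u4 = 2 * T.m u3 := by linarith only [r_0, r_1, r_2, r_3, r_4]
                            have f1 : T.m u2 = 2 * T.m u3 := by linarith only [r_0, r_1, r_2, r_3, r_4]
                            have f2 : T.m u0 = 2 * T.m u3 := by linarith only [r_0, r_1, r_2, r_3, r_4]
                            have f3 : T.m u1 = 2 * T.m u3 := by linarith only [r_0, r_1, r_2, r_3, r_4]
                            have f4 : T.m u3 = T.m u3 := rfl
                            have f5 : T.w u4 = T.w u4 := rfl
                            have f6 : T.w u2 = 2 * T.w u4 := by linarith only [tw_0_1, tw_0_2, tw_1_3, tw_2_4]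
                            have f7 : T.w u0 = 2 * T.w u4 := by linarith only [tw_0_1, tw_0_2, tw_1_3, tw_2_4]
                            have f8 : T.w u1 = 2 * T.w u4 := by linarith only [tw_0_1, tw_0_2, tw_1_3, tw_2_4]
                            have f9 : T.w u3 = 4 * T.w u4 := by linarith only [tw_0_1, tw_0_2, tw_1_3, tw_2_4]
                            have f10 : T.a u4 u4 = -2 * T.w u4 := by have := (h2 u4).2; linarith only [this, tw_0_1, tw_0_2, tw_1_3, tw_2_4]
                            have f11 : T.a u4 u2 = 2 * T.w u4 := by rw [Groth.Agent.Helper6.NT.symm' T u4 u2]; linarith only [tap_2_4, tw_0_1, tw_0_2, tw_1_3, tw_2_4]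
                            have f12 : T.a u4 u0 = 0 := by rw [Groth.Agent.Helper6.NT.symm' T u4 u0]; exact z_0_4
                            have f13 : T.a u4 u1 = 0 := by rw [Groth.Agent.Helper6.NT.symm' T u4 u1]; exact z_1_4
                            have f14 : T.a u4 u3 = 0 := by rw [Groth.Agent.Helper6.NT.symm' T u4 u3]; exact z_3_4
                            have f15 : T.a u2 u2 = -4 * T.w u4 := by have := (h2 u2).2; linarith only [this, tw_0_1, tw_0_2, tw_1_3, tw_2_4]
                            have f16 : T.a u2 u0 = 2 * T.w u4 := by rw [Groth.Agent.Helper6.NT.symm' T u2 u0]; linarith only [tap_0_2, tw_0_1, tw_0_2, tw_1_3, tw_2_4]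
                            have f17 : T.a u2 u1 = 0 := by rw [Groth.Agent.Helper6.NT.symm' T u2 u1]; exact z_1_2
                            have f18 : T.a u2 u3 = 0 := by exact z_2_3
                            have f19 : T.a u0 u0 = -4 * T.w u4 := by have := (h2 u0).2; linarith only [this, tw_0_1, tw_0_2, tw_1_3, tw_2_4]
                            have f20 : T.a u0 u1 = 2 * T.w u4 := by linarith only [tap_0_1, tw_0_1, tw_0_2, tw_1_3, tw_2_4]
                            have f21 : T.a u0 u3 = 0 := by exact z_0_3
                            have f22 : T.a u1 u1 = -4 * T.w u4 := by have := (h2 u1).2; linarith only [this, tw_0_1, tw_0_2, tw_1_3, tw_2_4]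
                            have f23 : T.a u1 u3 = 4 * T.w u4 := by linarith only [tap_1_3, tw_0_1, tw_0_2, tw_1_3, tw_2_4]
                            have f24 : T.a u3 u3 = -8 * T.w u4 := by have := (h2 u3).2; linarith only [this, tw_0_1, tw_0_2, tw_1_3, tw_2_4]
                            have hsig := Groth.Agent.Helper6.NT.inj5 u4 u2 u0 u1 u3 hn_4_2.symm hn_4_0.symm hn_2_0.symm hn_4_1.symm hn_2_1.symm hn_1_0 hn_4_3.symm hn_3_2 hn_3_0 hn_3_1
                            exact ⟨Equiv.ofBijective _ (Finite.injective_iff_bijective.1 hsig), T.m u3, T.w u4, Or.inr (Or.inr (Or.inr (Or.inl ⟨f0, f1, f2, f3, f4, f5, f6, f7, f8, f9, f10, f11, f12, f13, f14, f15, f16, f17, f18, f19, f20, f21, f22, f23, f24⟩)))⟩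
                          · -- (3,4) nonzero
                            obtain ⟨lbp_3_4, lbq_3_4⟩ := Groth.Agent.Helper6.NT.lb T u3 u4 hn_4_3.symm nz_3_4
                            exfalso
                            have key := Groth.Agent.Helper6.NT.negfun4 T h2 u1 u2 u3 u4 (by norm_num) 2 1 2 2 (by norm_num) (by norm_num)
                            linarith only [key, z_1_2, tap_1_3, taq_1_3, z_1_4, z_2_3, tap_2_4, taq_2_4, lbp_3_4, lbq_3_4, T.w_pos u1, T.w_pos u2, T.w_pos u3, T.w_pos u4]
                        · -- (2,4) Tp
                          exfalso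
                          have key := Groth.Agent.Helper6.NT.negfun3 T h2 u0 u2 u4 (by norm_num) 1 2 1 (by norm_num) (by norm_num)
                          linarith only [key, tap_0_2, taq_0_2, z_0_4, tap_2_4, taq_2_4, T.w_pos u0, T.w_pos u2, T.w_pos u4]
                        · -- (2,4) Tm
                          exfalso
                          have key := Groth.Agent.Helper6.NT.negfun3 T h2 u0 u2 u4 (by norm_num) 1 2 3 (by norm_num) (by norm_num)
                          linarith only [key, tap_0_2, taq_0_2, z_0_4, tap_2_4, taq_2_4, T.w_pos u0, T.w_pos u2, T.w_pos u4]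
                      · push Not at hx
                        have cl_2 := hx
                        clear hx
                        by_cases hx : ∃ j, (j ≠ u0 ∧ j ≠ u1 ∧ j ≠ u2 ∧ j ≠ u3) ∧ T.a u3 j ≠ 0
                        · obtain ⟨u4, ⟨hn_4_0, hn_4_1, hn_4_2, hn_4_3⟩, e_3_4⟩ := hx
                          have z_0_4 : T.a u0 u4 = 0 := cl_0 u4 ⟨hn_4_0, hn_4_1, hn_4_2⟩
                          have z_1_4 : T.a u1 u4 = 0 := cl_1 u4 ⟨hn_4_0, hn_4_1, hn_4_2, hn_4_3⟩
                          have z_2_4 : T.a u2 u4 = 0 := cl_2 u4 ⟨hn_4_0, hn_4_1, hn_4_2, hn_4_3⟩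
                          rcases Groth.Agent.Helper6.NT.edge5 T h2 (by norm_num) u3 u4 hn_4_3.symm e_3_4 with ⟨tw_3_4, tap_3_4, taq_3_4⟩ | ⟨tw_3_4, tap_3_4, taq_3_4⟩ | ⟨tw_3_4, tap_3_4, taq_3_4⟩ | ⟨tw_3_4, tap_3_4, taq_3_4⟩ | ⟨tw_3_4, tap_3_4, taq_3_4⟩
                          · -- (3,4) S
                            have hinj := Groth.Agent.Helper6.NT.inj5 u0 u1 u2 u3 u4 hn_1_0 hn_2_0 hn_2_1 hn_3_0 hn_3_1 hn_3_2 hn_4_0 hn_4_1 hn_4_2 hn_4_3
                            have r_0 : -2 * T.m u0 + 1 * T.m u1 + 1 * T.m u2 = 0 := by
                              have key := Groth.Agent.Helper6.NT.rowfun5 T u0 u1 u2 u3 u4 hinj u0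
                              rw [(h2 u0).2, tap_0_1, tap_0_2, z_0_3, z_0_4] at key
                              exact mul_left_cancel₀ (T.w_pos u0).ne' (by linarith only [key])
                            have r_1 : 1 * T.m u0 + -2 * T.m u1 + 2 * T.m u3 = 0 := by
                              have key := Groth.Agent.Helper6.NT.rowfun5 T u0 u1 u2 u3 u4 hinj u1
                              rw [Groth.Agent.Helper6.NT.symm' T u1 u0, taq_0_1, (h2 u1).2, z_1_2, tap_1_3, z_1_4] at key
                              exact mul_left_cancel₀ (T.w_pos u1).ne' (by linarith only [key])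
                            have r_2 : 1 * T.m u0 + -2 * T.m u2 = 0 := by
                              have key := Groth.Agent.Helper6.NT.rowfun5 T u0 u1 u2 u3 u4 hinj u2
                              rw [Groth.Agent.Helper6.NT.symm' T u2 u0, taq_0_2, Groth.Agent.Helper6.NT.symm' T u2 u1, z_1_2, (h2 u2).2, z_2_3, z_2_4] at key
                              exact mul_left_cancel₀ (T.w_pos u2).ne' (by linarith only [key])
                            have r_3 : 1 * T.m u1 + -2 * T.m u3 + 1 * T.m u4 = 0 := by
                              have key := Groth.Agent.Helper6.NT.rowfun5 T u0 u1 u2 u3 u4 hinj u3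
                              rw [Groth.Agent.Helper6.NT.symm' T u3 u0, z_0_3, Groth.Agent.Helper6.NT.symm' T u3 u1, taq_1_3, Groth.Agent.Helper6.NT.symm' T u3 u2, z_2_3, (h2 u3).2, tap_3_4] at key
                              exact mul_left_cancel₀ (T.w_pos u3).ne' (by linarith only [key])
                            have r_4 : 1 * T.m u3 + -2 * T.m u4 = 0 := by
                              have key := Groth.Agent.Helper6.NT.rowfun5 T u0 u1 u2 u3 u4 hinj u4
                              rw [Groth.Agent.Helper6.NT.symm' T u4 u0, z_0_4, Groth.Agent.Helper6.NT.symm' T u4 u1, z_1_4, Groth.Agent.Helper6.NT.symm' T u4 u2, z_2_4, Groth.Agent.Helper6.NT.symm' T u4 u3, taq_3_4, (h2 u4).2] at key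
                              exact mul_left_cancel₀ (T.w_pos u4).ne' (by linarith only [key])
                            have f0 : T.m u2 = T.m u2 := rfl
                            have f1 : T.m u0 = 2 * T.m u2 := by linarith only [r_0, r_1, r_2, r_3, r_4]
                            have f2 : T.m u1 = 3 * T.m u2 := by linarith only [r_0, r_1, r_2, r_3, r_4]
                            have f3 : T.m u3 = 2 * T.m u2 := by linarith only [r_0, r_1, r_2, r_3, r_4]
                            have f4 : T.m u4 = T.m u2 := by linarith only [r_0, r_1, r_2, r_3, r_4]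
                            have f5 : T.w u2 = T.w u2 := rfl
                            have f6 : T.w u0 = T.w u2 := by linarith only [tw_0_1, tw_0_2, tw_1_3, tw_3_4]
                            have f7 : T.w u1 = T.w u2 := by linarith only [tw_0_1, tw_0_2, tw_1_3, tw_3_4]
                            have f8 : T.w u3 = 2 * T.w u2 := by linarith only [tw_0_1, tw_0_2, tw_1_3, tw_3_4]
                            have f9 : T.w u4 = 2 * T.w u2 := by linarith only [tw_0_1, tw_0_2, tw_1_3, tw_3_4]
                            have f10 : T.a u2 u2 = -2 * T.w u2 := by have := (h2 u2).2; linarith only [this, tw_0_1, tw_0_2, tw_1_3, tw_3_4]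
                            have f11 : T.a u2 u0 = T.w u2 := by rw [Groth.Agent.Helper6.NT.symm' T u2 u0]; linarith only [tap_0_2, tw_0_1, tw_0_2, tw_1_3, tw_3_4]
                            have f12 : T.a u2 u1 = 0 := by rw [Groth.Agent.Helper6.NT.symm' T u2 u1]; exact z_1_2
                            have f13 : T.a u2 u3 = 0 := by exact z_2_3
                            have f14 : T.a u2 u4 = 0 := by exact z_2_4
                            have f15 : T.a u0 u0 = -2 * T.w u2 := by have := (h2 u0).2; linarith only [this, tw_0_1, tw_0_2, tw_1_3, tw_3_4]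
                            have f16 : T.a u0 u1 = T.w u2 := by linarith only [tap_0_1, tw_0_1, tw_0_2, tw_1_3, tw_3_4]
                            have f17 : T.a u0 u3 = 0 := by exact z_0_3
                            have f18 : T.a u0 u4 = 0 := by exact z_0_4
                            have f19 : T.a u1 u1 = -2 * T.w u2 := by have := (h2 u1).2; linarith only [this, tw_0_1, tw_0_2, tw_1_3, tw_3_4]
                            have f20 : T.a u1 u3 = 2 * T.w u2 := by linarith only [tap_1_3, tw_0_1, tw_0_2, tw_1_3, tw_3_4]
                            have f21 : T.a u1 u4 = 0 := by exact z_1_4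
                            have f22 : T.a u3 u3 = -4 * T.w u2 := by have := (h2 u3).2; linarith only [this, tw_0_1, tw_0_2, tw_1_3, tw_3_4]
                            have f23 : T.a u3 u4 = 2 * T.w u2 := by linarith only [tap_3_4, tw_0_1, tw_0_2, tw_1_3, tw_3_4]
                            have f24 : T.a u4 u4 = -4 * T.w u2 := by have := (h2 u4).2; linarith only [this, tw_0_1, tw_0_2, tw_1_3, tw_3_4]
                            have hsig := Groth.Agent.Helper6.NT.inj5 u2 u0 u1 u3 u4 hn_2_0.symm hn_2_1.symm hn_1_0 hn_3_2 hn_3_0 hn_3_1 hn_4_2 hn_4_0 hn_4_1 hn_4_3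
                            exact ⟨Equiv.ofBijective _ (Finite.injective_iff_bijective.1 hsig), T.m u2, T.w u2, Or.inr (Or.inl ⟨f0, f1, f2, f3, f4, f5, f6, f7, f8, f9, f10, f11, f12, f13, f14, f15, f16, f17, f18, f19, f20, f21, f22, f23, f24⟩)⟩
                          · -- (3,4) Dp
                            exfalso
                            have key := Groth.Agent.Helper6.NT.negfun3 T h2 u1 u3 u4 (by norm_num) 2 2 1 (by norm_num) (by norm_num)
                            linarith only [key, tap_1_3, taq_1_3, z_1_4, tap_3_4, taq_3_4, T.w_pos u1, T.w_pos u3, T.w_pos u4]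
                          · -- (3,4) Dm
                            exfalso
                            have key := Groth.Agent.Helper6.NT.negfun3 T h2 u1 u3 u4 (by norm_num) 1 1 1 (by norm_num) (by norm_num)
                            linarith only [key, tap_1_3, taq_1_3, z_1_4, tap_3_4, taq_3_4, T.w_pos u1, T.w_pos u3, T.w_pos u4]
                          · -- (3,4) Tp
                            exfalso
                            have key := Groth.Agent.Helper6.NT.negfun3 T h2 u1 u3 u4 (by norm_num) 2 2 1 (by norm_num) (by norm_num)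
                            linarith only [key, tap_1_3, taq_1_3, z_1_4, tap_3_4, taq_3_4, T.w_pos u1, T.w_pos u3, T.w_pos u4]
                          · -- (3,4) Tm
                            exfalso
                            have key := Groth.Agent.Helper6.NT.negfun3 T h2 u1 u3 u4 (by norm_num) 2 2 3 (by norm_num) (by norm_num)
                            linarith only [key, tap_1_3, taq_1_3, z_1_4, tap_3_4, taq_3_4, T.w_pos u1, T.w_pos u3, T.w_pos u4]
                        · push Not at hx
                          have cl_3 := hx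
                          clear hx
                          exfalso
                          refine Groth.Agent.Helper6.NT.closed_contra T [u0, u1, u2, u3] (by simp) (by simp) ?_
                          intro i hi j hj
                          simp only [List.mem_cons, List.not_mem_nil, or_false, not_or] at hi hj
                          rcases hi with rfl | rfl | rfl | rfl
                          · exact cl_0 j ⟨hj.1, hj.2.1, hj.2.2.1⟩
                          · exact cl_1 j ⟨hj.1, hj.2.1, hj.2.2.1, hj.2.2.2⟩
                          · exact cl_2 j ⟨hj.1, hj.2.1, hj.2.2.1, hj.2.2.2⟩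
                          · exact cl_3 j ⟨hj.1, hj.2.1, hj.2.2.1, hj.2.2.2⟩
                  · -- (2,3) nonzero
                    obtain ⟨lbp_2_3, lbq_2_3⟩ := Groth.Agent.Helper6.NT.lb T u2 u3 hn_3_2.symm nz_2_3
                    exfalso
                    have key := Groth.Agent.Helper6.NT.negfun4 T h2 u0 u1 u2 u3 (by norm_num) 2 3 2 2 (by norm_num) (by norm_num)
                    linarith only [key, tap_0_1, taq_0_1, tap_0_2, taq_0_2, z_0_3, z_1_2, tap_1_3, taq_1_3, lbp_2_3, lbq_2_3, T.w_pos u0, T.w_pos u1, T.w_pos u2, T.w_pos u3]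
                · -- (1,3) Dm
                  rcases eq_or_ne (T.a u2 u3) 0 with z_2_3 | nz_2_3
                  · -- (2,3) zero
                    by_cases hx : ∃ j, (j ≠ u0 ∧ j ≠ u1 ∧ j ≠ u2 ∧ j ≠ u3) ∧ T.a u1 j ≠ 0
                    · obtain ⟨u4, ⟨hn_4_0, hn_4_1, hn_4_2, hn_4_3⟩, e_1_4⟩ := hx
                      have z_0_4 : T.a u0 u4 = 0 := cl_0 u4 ⟨hn_4_0, hn_4_1, hn_4_2⟩
                      rcases Groth.Agent.Helper6.NT.edge5 T h2 (by norm_num) u1 u4 hn_4_1.symm e_1_4 with ⟨tw_1_4, tap_1_4, taq_1_4⟩ | ⟨tw_1_4, tap_1_4, taq_1_4⟩ | ⟨tw_1_4, tap_1_4, taq_1_4⟩ | ⟨tw_1_4, tap_1_4, taq_1_4⟩ | ⟨tw_1_4, tap_1_4, taq_1_4⟩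
                      · -- (1,4) S
                        exfalso
                        have key := Groth.Agent.Helper6.NT.negfun4 T h2 u0 u1 u3 u4 (by norm_num) 1 2 2 1 (by norm_num) (by norm_num)
                        linarith only [key, tap_0_1, taq_0_1, z_0_3, z_0_4, tap_1_3, taq_1_3, tap_1_4, taq_1_4, T.offDiag_nonneg u3 u4 hn_4_3.symm, T.w_pos u0, T.w_pos u1, T.w_pos u3, T.w_pos u4]
                      · -- (1,4) Dp
                        exfalso
                        have key := Groth.Agent.Helper6.NT.negfun3 T h2 u1 u3 u4 (by norm_num) 2 2 1 (by norm_num) (by norm_num)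
                        linarith only [key, tap_1_3, taq_1_3, tap_1_4, taq_1_4, T.offDiag_nonneg u3 u4 hn_4_3.symm, T.w_pos u1, T.w_pos u3, T.w_pos u4]
                      · -- (1,4) Dm
                        exfalso
                        have key := Groth.Agent.Helper6.NT.negfun3 T h2 u1 u3 u4 (by norm_num) 1 1 1 (by norm_num) (by norm_num)
                        linarith only [key, tap_1_3, taq_1_3, tap_1_4, taq_1_4, T.offDiag_nonneg u3 u4 hn_4_3.symm, T.w_pos u1, T.w_pos u3, T.w_pos u4]
                      · -- (1,4) Tp
                        exfalso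
                        have key := Groth.Agent.Helper6.NT.negfun3 T h2 u1 u3 u4 (by norm_num) 2 2 1 (by norm_num) (by norm_num)
                        linarith only [key, tap_1_3, taq_1_3, tap_1_4, taq_1_4, T.offDiag_nonneg u3 u4 hn_4_3.symm, T.w_pos u1, T.w_pos u3, T.w_pos u4]
                      · -- (1,4) Tm
                        exfalso
                        have key := Groth.Agent.Helper6.NT.negfun3 T h2 u1 u3 u4 (by norm_num) 2 2 3 (by norm_num) (by norm_num)
                        linarith only [key, tap_1_3, taq_1_3, tap_1_4, taq_1_4, T.offDiag_nonneg u3 u4 hn_4_3.symm, T.w_pos u1, T.w_pos u3, T.w_pos u4]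
                    · push Not at hx
                      have cl_1 := hx
                      clear hx
                      by_cases hx : ∃ j, (j ≠ u0 ∧ j ≠ u1 ∧ j ≠ u2 ∧ j ≠ u3) ∧ T.a u2 j ≠ 0
                      · obtain ⟨u4, ⟨hn_4_0, hn_4_1, hn_4_2, hn_4_3⟩, e_2_4⟩ := hx
                        have z_0_4 : T.a u0 u4 = 0 := cl_0 u4 ⟨hn_4_0, hn_4_1, hn_4_2⟩
                        have z_1_4 : T.a u1 u4 = 0 := cl_1 u4 ⟨hn_4_0, hn_4_1, hn_4_2, hn_4_3⟩
                        rcases Groth.Agent.Helper6.NT.edge5 T h2 (by norm_num) u2 u4 hn_4_2.symm e_2_4 with ⟨tw_2_4, tap_2_4, taq_2_4⟩ | ⟨tw_2_4, tap_2_4, taq_2_4⟩ | ⟨tw_2_4, tap_2_4, taq_2_4⟩ | ⟨tw_2_4, tap_2_4, taq_2_4⟩ | ⟨tw_2_4, tap_2_4, taq_2_4⟩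
                        · -- (2,4) S
                          rcases eq_or_ne (T.a u3 u4) 0 with z_3_4 | nz_3_4
                          · -- (3,4) zero
                            have hinj := Groth.Agent.Helper6.NT.inj5 u0 u1 u2 u3 u4 hn_1_0 hn_2_0 hn_2_1 hn_3_0 hn_3_1 hn_3_2 hn_4_0 hn_4_1 hn_4_2 hn_4_3
                            have r_0 : -2 * T.m u0 + 1 * T.m u1 + 1 * T.m u2 = 0 := by
                              have key := Groth.Agent.Helper6.NT.rowfun5 T u0 u1 u2 u3 u4 hinj u0
                              rw [(h2 u0).2, tap_0_1, tap_0_2, z_0_3, z_0_4] at key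
                              exact mul_left_cancel₀ (T.w_pos u0).ne' (by linarith only [key])
                            have r_1 : 1 * T.m u0 + -2 * T.m u1 + 1 * T.m u3 = 0 := by
                              have key := Groth.Agent.Helper6.NT.rowfun5 T u0 u1 u2 u3 u4 hinj u1
                              rw [Groth.Agent.Helper6.NT.symm' T u1 u0, taq_0_1, (h2 u1).2, z_1_2, tap_1_3, z_1_4] at key
                              exact mul_left_cancel₀ (T.w_pos u1).ne' (by linarith only [key])
                            have r_2 : 1 * T.m u0 + -2 * T.m u2 + 1 * T.m u4 = 0 := by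
                              have key := Groth.Agent.Helper6.NT.rowfun5 T u0 u1 u2 u3 u4 hinj u2
                              rw [Groth.Agent.Helper6.NT.symm' T u2 u0, taq_0_2, Groth.Agent.Helper6.NT.symm' T u2 u1, z_1_2, (h2 u2).2, z_2_3, tap_2_4] at key
                              exact mul_left_cancel₀ (T.w_pos u2).ne' (by linarith only [key])
                            have r_3 : 2 * T.m u1 + -2 * T.m u3 = 0 := by
                              have key := Groth.Agent.Helper6.NT.rowfun5 T u0 u1 u2 u3 u4 hinj u3
                              rw [Groth.Agent.Helper6.NT.symm' T u3 u0, z_0_3, Groth.Agent.Helper6.NT.symm' T u3 u1, taq_1_3, Groth.Agent.Helper6.NT.symm' T u3 u2, z_2_3, (h2 u3).2, z_3_4] at key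
                              exact mul_left_cancel₀ (T.w_pos u3).ne' (by linarith only [key])
                            have r_4 : 1 * T.m u2 + -2 * T.m u4 = 0 := by
                              have key := Groth.Agent.Helper6.NT.rowfun5 T u0 u1 u2 u3 u4 hinj u4
                              rw [Groth.Agent.Helper6.NT.symm' T u4 u0, z_0_4, Groth.Agent.Helper6.NT.symm' T u4 u1, z_1_4, Groth.Agent.Helper6.NT.symm' T u4 u2, taq_2_4, Groth.Agent.Helper6.NT.symm' T u4 u3, z_3_4, (h2 u4).2] at key
                              exact mul_left_cancel₀ (T.w_pos u4).ne' (by linarith only [key])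
                            exfalso
                            linarith only [r_0, r_1, r_2, r_3, r_4, T.m_pos u0, T.m_pos u1, T.m_pos u2, T.m_pos u3, T.m_pos u4]
                          · -- (3,4) nonzero
                            obtain ⟨lbp_3_4, lbq_3_4⟩ := Groth.Agent.Helper6.NT.lb T u3 u4 hn_4_3.symm nz_3_4
                            rcases Groth.Agent.Helper6.NT.edge5 T h2 (by norm_num) u3 u4 hn_4_3.symm nz_3_4 with ⟨tw_3_4, tap_3_4, taq_3_4⟩ | ⟨tw_3_4, tap_3_4, taq_3_4⟩ | ⟨tw_3_4, tap_3_4, taq_3_4⟩ | ⟨tw_3_4, tap_3_4, taq_3_4⟩ | ⟨tw_3_4, tap_3_4, taq_3_4⟩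
                            · -- (3,4) S
                              exfalso
                              linarith only [tap_0_1, tap_0_2, tap_1_3, tap_3_4, tap_2_4, taq_0_1, taq_0_2, taq_1_3, taq_3_4, taq_2_4, T.w_pos u0, T.w_pos u1, T.w_pos u2, T.w_pos u3, T.w_pos u4]
                            · -- (3,4) Dp
                              exfalso
                              have key := Groth.Agent.Helper6.NT.negfun3 T h2 u1 u3 u4 (by norm_num) 1 2 1 (by norm_num) (by norm_num)
                              linarith only [key, tap_1_3, taq_1_3, z_1_4, tap_3_4, taq_3_4, T.w_pos u1, T.w_pos u3, T.w_pos u4]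
                            · -- (3,4) Dm
                              exfalso
                              have key := Groth.Agent.Helper6.NT.negfun3 T h2 u1 u3 u4 (by norm_num) 1 2 2 (by norm_num) (by norm_num)
                              linarith only [key, tap_1_3, taq_1_3, z_1_4, tap_3_4, taq_3_4, T.w_pos u1, T.w_pos u3, T.w_pos u4]
                            · -- (3,4) Tp
                              exfalso
                              have key := Groth.Agent.Helper6.NT.negfun3 T h2 u2 u3 u4 (by norm_num) 1 3 2 (by norm_num) (by norm_num)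
                              linarith only [key, z_2_3, tap_2_4, taq_2_4, tap_3_4, taq_3_4, T.w_pos u2, T.w_pos u3, T.w_pos u4]
                            · -- (3,4) Tm
                              exfalso
                              have key := Groth.Agent.Helper6.NT.negfun3 T h2 u2 u3 u4 (by norm_num) 1 1 2 (by norm_num) (by norm_num)
                              linarith only [key, z_2_3, tap_2_4, taq_2_4, tap_3_4, taq_3_4, T.w_pos u2, T.w_pos u3, T.w_pos u4]
                        · -- (2,4) Dp
                          rcases eq_or_ne (T.a u3 u4) 0 with z_3_4 | nz_3_4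
                          · -- (3,4) zero
                            have hinj := Groth.Agent.Helper6.NT.inj5 u0 u1 u2 u3 u4 hn_1_0 hn_2_0 hn_2_1 hn_3_0 hn_3_1 hn_3_2 hn_4_0 hn_4_1 hn_4_2 hn_4_3
                            have r_0 : -2 * T.m u0 + 1 * T.m u1 + 1 * T.m u2 = 0 := by
                              have key := Groth.Agent.Helper6.NT.rowfun5 T u0 u1 u2 u3 u4 hinj u0
                              rw [(h2 u0).2, tap_0_1, tap_0_2, z_0_3, z_0_4] at key
                              exact mul_left_cancel₀ (T.w_pos u0).ne' (by linarith only [key])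
                            have r_1 : 1 * T.m u0 + -2 * T.m u1 + 1 * T.m u3 = 0 := by
                              have key := Groth.Agent.Helper6.NT.rowfun5 T u0 u1 u2 u3 u4 hinj u1
                              rw [Groth.Agent.Helper6.NT.symm' T u1 u0, taq_0_1, (h2 u1).2, z_1_2, tap_1_3, z_1_4] at key
                              exact mul_left_cancel₀ (T.w_pos u1).ne' (by linarith only [key])
                            have r_2 : 1 * T.m u0 + -2 * T.m u2 + 2 * T.m u4 = 0 := by
                              have key := Groth.Agent.Helper6.NT.rowfun5 T u0 u1 u2 u3 u4 hinj u2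
                              rw [Groth.Agent.Helper6.NT.symm' T u2 u0, taq_0_2, Groth.Agent.Helper6.NT.symm' T u2 u1, z_1_2, (h2 u2).2, z_2_3, tap_2_4] at key
                              exact mul_left_cancel₀ (T.w_pos u2).ne' (by linarith only [key])
                            have r_3 : 2 * T.m u1 + -2 * T.m u3 = 0 := by
                              have key := Groth.Agent.Helper6.NT.rowfun5 T u0 u1 u2 u3 u4 hinj u3
                              rw [Groth.Agent.Helper6.NT.symm' T u3 u0, z_0_3, Groth.Agent.Helper6.NT.symm' T u3 u1, taq_1_3, Groth.Agent.Helper6.NT.symm' T u3 u2, z_2_3, (h2 u3).2, z_3_4] at key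
                              exact mul_left_cancel₀ (T.w_pos u3).ne' (by linarith only [key])
                            have r_4 : 1 * T.m u2 + -2 * T.m u4 = 0 := by
                              have key := Groth.Agent.Helper6.NT.rowfun5 T u0 u1 u2 u3 u4 hinj u4
                              rw [Groth.Agent.Helper6.NT.symm' T u4 u0, z_0_4, Groth.Agent.Helper6.NT.symm' T u4 u1, z_1_4, Groth.Agent.Helper6.NT.symm' T u4 u2, taq_2_4, Groth.Agent.Helper6.NT.symm' T u4 u3, z_3_4, (h2 u4).2] at key
                              exact mul_left_cancel₀ (T.w_pos u4).ne' (by linarith only [key])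
                            have f0 : T.m u3 = 2 * T.m u4 := by linarith only [r_0, r_1, r_2, r_3, r_4]
                            have f1 : T.m u1 = 2 * T.m u4 := by linarith only [r_0, r_1, r_2, r_3, r_4]
                            have f2 : T.m u0 = 2 * T.m u4 := by linarith only [r_0, r_1, r_2, r_3, r_4]
                            have f3 : T.m u2 = 2 * T.m u4 := by linarith only [r_0, r_1, r_2, r_3, r_4]
                            have f4 : T.m u4 = T.m u4 := rfl
                            have f5 : T.w u3 = T.w u3 := rfl
                            have f6 : T.w u1 = 2 * T.w u3 := by linarith only [tw_0_1, tw_0_2, tw_1_3, tw_2_4]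
                            have f7 : T.w u0 = 2 * T.w u3 := by linarith only [tw_0_1, tw_0_2, tw_1_3, tw_2_4]
                            have f8 : T.w u2 = 2 * T.w u3 := by linarith only [tw_0_1, tw_0_2, tw_1_3, tw_2_4]
                            have f9 : T.w u4 = 4 * T.w u3 := by linarith only [tw_0_1, tw_0_2, tw_1_3, tw_2_4]
                            have f10 : T.a u3 u3 = -2 * T.w u3 := by have := (h2 u3).2; linarith only [this, tw_0_1, tw_0_2, tw_1_3, tw_2_4]
                            have f11 : T.a u3 u1 = 2 * T.w u3 := by rw [Groth.Agent.Helper6.NT.symm' T u3 u1]; linarith only [tap_1_3, tw_0_1, tw_0_2, tw_1_3, tw_2_4]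
                            have f12 : T.a u3 u0 = 0 := by rw [Groth.Agent.Helper6.NT.symm' T u3 u0]; exact z_0_3
                            have f13 : T.a u3 u2 = 0 := by rw [Groth.Agent.Helper6.NT.symm' T u3 u2]; exact z_2_3
                            have f14 : T.a u3 u4 = 0 := by exact z_3_4
                            have f15 : T.a u1 u1 = -4 * T.w u3 := by have := (h2 u1).2; linarith only [this, tw_0_1, tw_0_2, tw_1_3, tw_2_4]
                            have f16 : T.a u1 u0 = 2 * T.w u3 := by rw [Groth.Agent.Helper6.NT.symm' T u1 u0]; linarith only [tap_0_1, tw_0_1, tw_0_2, tw_1_3, tw_2_4]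
                            have f17 : T.a u1 u2 = 0 := by exact z_1_2
                            have f18 : T.a u1 u4 = 0 := by exact z_1_4
                            have f19 : T.a u0 u0 = -4 * T.w u3 := by have := (h2 u0).2; linarith only [this, tw_0_1, tw_0_2, tw_1_3, tw_2_4]
                            have f20 : T.a u0 u2 = 2 * T.w u3 := by linarith only [tap_0_2, tw_0_1, tw_0_2, tw_1_3, tw_2_4]
                            have f21 : T.a u0 u4 = 0 := by exact z_0_4
                            have f22 : T.a u2 u2 = -4 * T.w u3 := by have := (h2 u2).2; linarith only [this, tw_0_1, tw_0_2, tw_1_3, tw_2_4]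
                            have f23 : T.a u2 u4 = 4 * T.w u3 := by linarith only [tap_2_4, tw_0_1, tw_0_2, tw_1_3, tw_2_4]
                            have f24 : T.a u4 u4 = -8 * T.w u3 := by have := (h2 u4).2; linarith only [this, tw_0_1, tw_0_2, tw_1_3, tw_2_4]
                            have hsig := Groth.Agent.Helper6.NT.inj5 u3 u1 u0 u2 u4 hn_3_1.symm hn_3_0.symm hn_1_0.symm hn_3_2.symm hn_2_1 hn_2_0 hn_4_3 hn_4_1 hn_4_0 hn_4_2
                            exact ⟨Equiv.ofBijective _ (Finite.injective_iff_bijective.1 hsig), T.m u4, T.w u3, Or.inr (Or.inr (Or.inr (Or.inl ⟨f0, f1, f2, f3, f4, f5, f6, f7, f8, f9, f10, f11, f12, f13, f14, f15, f16, f17, f18, f19, f20, f21, f22, f23, f24⟩)))⟩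
                          · -- (3,4) nonzero
                            obtain ⟨lbp_3_4, lbq_3_4⟩ := Groth.Agent.Helper6.NT.lb T u3 u4 hn_4_3.symm nz_3_4
                            exfalso
                            have key := Groth.Agent.Helper6.NT.negfun4 T h2 u1 u2 u3 u4 (by norm_num) 1 2 2 2 (by norm_num) (by norm_num)
                            linarith only [key, z_1_2, tap_1_3, taq_1_3, z_1_4, z_2_3, tap_2_4, taq_2_4, lbp_3_4, lbq_3_4, T.w_pos u1, T.w_pos u2, T.w_pos u3, T.w_pos u4]
                        · -- (2,4) Dm
                          rcases eq_or_ne (T.a u3 u4) 0 with z_3_4 | nz_3_4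
                          · -- (3,4) zero
                            have hinj := Groth.Agent.Helper6.NT.inj5 u0 u1 u2 u3 u4 hn_1_0 hn_2_0 hn_2_1 hn_3_0 hn_3_1 hn_3_2 hn_4_0 hn_4_1 hn_4_2 hn_4_3
                            have r_0 : -2 * T.m u0 + 1 * T.m u1 + 1 * T.m u2 = 0 := by
                              have key := Groth.Agent.Helper6.NT.rowfun5 T u0 u1 u2 u3 u4 hinj u0
                              rw [(h2 u0).2, tap_0_1, tap_0_2, z_0_3, z_0_4] at key
                              exact mul_left_cancel₀ (T.w_pos u0).ne' (by linarith only [key])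
                            have r_1 : 1 * T.m u0 + -2 * T.m u1 + 1 * T.m u3 = 0 := by
                              have key := Groth.Agent.Helper6.NT.rowfun5 T u0 u1 u2 u3 u4 hinj u1
                              rw [Groth.Agent.Helper6.NT.symm' T u1 u0, taq_0_1, (h2 u1).2, z_1_2, tap_1_3, z_1_4] at key
                              exact mul_left_cancel₀ (T.w_pos u1).ne' (by linarith only [key])
                            have r_2 : 1 * T.m u0 + -2 * T.m u2 + 1 * T.m u4 = 0 := by
                              have key := Groth.Agent.Helper6.NT.rowfun5 T u0 u1 u2 u3 u4 hinj u2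
                              rw [Groth.Agent.Helper6.NT.symm' T u2 u0, taq_0_2, Groth.Agent.Helper6.NT.symm' T u2 u1, z_1_2, (h2 u2).2, z_2_3, tap_2_4] at key
                              exact mul_left_cancel₀ (T.w_pos u2).ne' (by linarith only [key])
                            have r_3 : 2 * T.m u1 + -2 * T.m u3 = 0 := by
                              have key := Groth.Agent.Helper6.NT.rowfun5 T u0 u1 u2 u3 u4 hinj u3
                              rw [Groth.Agent.Helper6.NT.symm' T u3 u0, z_0_3, Groth.Agent.Helper6.NT.symm' T u3 u1, taq_1_3, Groth.Agent.Helper6.NT.symm' T u3 u2, z_2_3, (h2 u3).2, z_3_4] at key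
                              exact mul_left_cancel₀ (T.w_pos u3).ne' (by linarith only [key])
                            have r_4 : 2 * T.m u2 + -2 * T.m u4 = 0 := by
                              have key := Groth.Agent.Helper6.NT.rowfun5 T u0 u1 u2 u3 u4 hinj u4
                              rw [Groth.Agent.Helper6.NT.symm' T u4 u0, z_0_4, Groth.Agent.Helper6.NT.symm' T u4 u1, z_1_4, Groth.Agent.Helper6.NT.symm' T u4 u2, taq_2_4, Groth.Agent.Helper6.NT.symm' T u4 u3, z_3_4, (h2 u4).2] at key
                              exact mul_left_cancel₀ (T.w_pos u4).ne' (by linarith only [key])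
                            have f0 : T.m u3 = T.m u3 := rfl
                            have f1 : T.m u1 = T.m u3 := by linarith only [r_0, r_1, r_2, r_3, r_4]
                            have f2 : T.m u0 = T.m u3 := by linarith only [r_0, r_1, r_2, r_3, r_4]
                            have f3 : T.m u2 = T.m u3 := by linarith only [r_0, r_1, r_2, r_3, r_4]
                            have f4 : T.m u4 = T.m u3 := by linarith only [r_0, r_1, r_2, r_3, r_4]
                            have f5 : T.w u3 = T.w u3 := rfl
                            have f6 : T.w u1 = 2 * T.w u3 := by linarith only [tw_0_1, tw_0_2, tw_1_3, tw_2_4]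
                            have f7 : T.w u0 = 2 * T.w u3 := by linarith only [tw_0_1, tw_0_2, tw_1_3, tw_2_4]
                            have f8 : T.w u2 = 2 * T.w u3 := by linarith only [tw_0_1, tw_0_2, tw_1_3, tw_2_4]
                            have f9 : T.w u4 = T.w u3 := by linarith only [tw_0_1, tw_0_2, tw_1_3, tw_2_4]
                            have f10 : T.a u3 u3 = -2 * T.w u3 := by have := (h2 u3).2; linarith only [this, tw_0_1, tw_0_2, tw_1_3, tw_2_4]
                            have f11 : T.a u3 u1 = 2 * T.w u3 := by rw [Groth.Agent.Helper6.NT.symm' T u3 u1]; linarith only [tap_1_3, tw_0_1, tw_0_2, tw_1_3, tw_2_4]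
                            have f12 : T.a u3 u0 = 0 := by rw [Groth.Agent.Helper6.NT.symm' T u3 u0]; exact z_0_3
                            have f13 : T.a u3 u2 = 0 := by rw [Groth.Agent.Helper6.NT.symm' T u3 u2]; exact z_2_3
                            have f14 : T.a u3 u4 = 0 := by exact z_3_4
                            have f15 : T.a u1 u1 = -4 * T.w u3 := by have := (h2 u1).2; linarith only [this, tw_0_1, tw_0_2, tw_1_3, tw_2_4]
                            have f16 : T.a u1 u0 = 2 * T.w u3 := by rw [Groth.Agent.Helper6.NT.symm' T u1 u0]; linarith only [tap_0_1, tw_0_1, tw_0_2, tw_1_3, tw_2_4]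
                            have f17 : T.a u1 u2 = 0 := by exact z_1_2
                            have f18 : T.a u1 u4 = 0 := by exact z_1_4
                            have f19 : T.a u0 u0 = -4 * T.w u3 := by have := (h2 u0).2; linarith only [this, tw_0_1, tw_0_2, tw_1_3, tw_2_4]
                            have f20 : T.a u0 u2 = 2 * T.w u3 := by linarith only [tap_0_2, tw_0_1, tw_0_2, tw_1_3, tw_2_4]
                            have f21 : T.a u0 u4 = 0 := by exact z_0_4
                            have f22 : T.a u2 u2 = -4 * T.w u3 := by have := (h2 u2).2; linarith only [this, tw_0_1, tw_0_2, tw_1_3, tw_2_4]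
                            have f23 : T.a u2 u4 = 2 * T.w u3 := by linarith only [tap_2_4, tw_0_1, tw_0_2, tw_1_3, tw_2_4]
                            have f24 : T.a u4 u4 = -2 * T.w u3 := by have := (h2 u4).2; linarith only [this, tw_0_1, tw_0_2, tw_1_3, tw_2_4]
                            have hsig := Groth.Agent.Helper6.NT.inj5 u3 u1 u0 u2 u4 hn_3_1.symm hn_3_0.symm hn_1_0.symm hn_3_2.symm hn_2_1 hn_2_0 hn_4_3 hn_4_1 hn_4_0 hn_4_2
                            exact ⟨Equiv.ofBijective _ (Finite.injective_iff_bijective.1 hsig), T.m u3, T.w u3, Or.inr (Or.inr (Or.inr (Or.inr (Or.inl ⟨f0, f1, f2, f3, f4, f5, f6, f7, f8, f9, f10, f11, f12, f13, f14, f15, f16, f17, f18, f19, f20, f21, f22, f23, f24⟩))))⟩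
                          · -- (3,4) nonzero
                            obtain ⟨lbp_3_4, lbq_3_4⟩ := Groth.Agent.Helper6.NT.lb T u3 u4 hn_4_3.symm nz_3_4
                            exfalso
                            have key := Groth.Agent.Helper6.NT.negfun4 T h2 u1 u2 u3 u4 (by norm_num) 1 1 2 2 (by norm_num) (by norm_num)
                            linarith only [key, z_1_2, tap_1_3, taq_1_3, z_1_4, z_2_3, tap_2_4, taq_2_4, lbp_3_4, lbq_3_4, T.w_pos u1, T.w_pos u2, T.w_pos u3, T.w_pos u4]
                        · -- (2,4) Tp
                          exfalso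
                          have key := Groth.Agent.Helper6.NT.negfun3 T h2 u0 u2 u4 (by norm_num) 1 2 1 (by norm_num) (by norm_num)
                          linarith only [key, tap_0_2, taq_0_2, z_0_4, tap_2_4, taq_2_4, T.w_pos u0, T.w_pos u2, T.w_pos u4]
                        · -- (2,4) Tm
                          exfalso
                          have key := Groth.Agent.Helper6.NT.negfun3 T h2 u0 u2 u4 (by norm_num) 1 2 3 (by norm_num) (by norm_num)
                          linarith only [key, tap_0_2, taq_0_2, z_0_4, tap_2_4, taq_2_4, T.w_pos u0, T.w_pos u2, T.w_pos u4]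
                      · push Not at hx
                        have cl_2 := hx
                        clear hx
                        by_cases hx : ∃ j, (j ≠ u0 ∧ j ≠ u1 ∧ j ≠ u2 ∧ j ≠ u3) ∧ T.a u3 j ≠ 0
                        · obtain ⟨u4, ⟨hn_4_0, hn_4_1, hn_4_2, hn_4_3⟩, e_3_4⟩ := hx
                          have z_0_4 : T.a u0 u4 = 0 := cl_0 u4 ⟨hn_4_0, hn_4_1, hn_4_2⟩
                          have z_1_4 : T.a u1 u4 = 0 := cl_1 u4 ⟨hn_4_0, hn_4_1, hn_4_2, hn_4_3⟩
                          have z_2_4 : T.a u2 u4 = 0 := cl_2 u4 ⟨hn_4_0, hn_4_1, hn_4_2, hn_4_3⟩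
                          rcases Groth.Agent.Helper6.NT.edge5 T h2 (by norm_num) u3 u4 hn_4_3.symm e_3_4 with ⟨tw_3_4, tap_3_4, taq_3_4⟩ | ⟨tw_3_4, tap_3_4, taq_3_4⟩ | ⟨tw_3_4, tap_3_4, taq_3_4⟩ | ⟨tw_3_4, tap_3_4, taq_3_4⟩ | ⟨tw_3_4, tap_3_4, taq_3_4⟩
                          · -- (3,4) S
                            have hinj := Groth.Agent.Helper6.NT.inj5 u0 u1 u2 u3 u4 hn_1_0 hn_2_0 hn_2_1 hn_3_0 hn_3_1 hn_3_2 hn_4_0 hn_4_1 hn_4_2 hn_4_3
                            have r_0 : -2 * T.m u0 + 1 * T.m u1 + 1 * T.m u2 = 0 := by
                              have key := Groth.Agent.Helper6.NT.rowfun5 T u0 u1 u2 u3 u4 hinj u0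
                              rw [(h2 u0).2, tap_0_1, tap_0_2, z_0_3, z_0_4] at key
                              exact mul_left_cancel₀ (T.w_pos u0).ne' (by linarith only [key])
                            have r_1 : 1 * T.m u0 + -2 * T.m u1 + 1 * T.m u3 = 0 := by
                              have key := Groth.Agent.Helper6.NT.rowfun5 T u0 u1 u2 u3 u4 hinj u1
                              rw [Groth.Agent.Helper6.NT.symm' T u1 u0, taq_0_1, (h2 u1).2, z_1_2, tap_1_3, z_1_4] at key
                              exact mul_left_cancel₀ (T.w_pos u1).ne' (by linarith only [key])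
                            have r_2 : 1 * T.m u0 + -2 * T.m u2 = 0 := by
                              have key := Groth.Agent.Helper6.NT.rowfun5 T u0 u1 u2 u3 u4 hinj u2
                              rw [Groth.Agent.Helper6.NT.symm' T u2 u0, taq_0_2, Groth.Agent.Helper6.NT.symm' T u2 u1, z_1_2, (h2 u2).2, z_2_3, z_2_4] at key
                              exact mul_left_cancel₀ (T.w_pos u2).ne' (by linarith only [key])
                            have r_3 : 2 * T.m u1 + -2 * T.m u3 + 1 * T.m u4 = 0 := by
                              have key := Groth.Agent.Helper6.NT.rowfun5 T u0 u1 u2 u3 u4 hinj u3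
                              rw [Groth.Agent.Helper6.NT.symm' T u3 u0, z_0_3, Groth.Agent.Helper6.NT.symm' T u3 u1, taq_1_3, Groth.Agent.Helper6.NT.symm' T u3 u2, z_2_3, (h2 u3).2, tap_3_4] at key
                              exact mul_left_cancel₀ (T.w_pos u3).ne' (by linarith only [key])
                            have r_4 : 1 * T.m u3 + -2 * T.m u4 = 0 := by
                              have key := Groth.Agent.Helper6.NT.rowfun5 T u0 u1 u2 u3 u4 hinj u4
                              rw [Groth.Agent.Helper6.NT.symm' T u4 u0, z_0_4, Groth.Agent.Helper6.NT.symm' T u4 u1, z_1_4, Groth.Agent.Helper6.NT.symm' T u4 u2, z_2_4, Groth.Agent.Helper6.NT.symm' T u4 u3, taq_3_4, (h2 u4).2] at key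
                              exact mul_left_cancel₀ (T.w_pos u4).ne' (by linarith only [key])
                            have f0 : T.m u2 = T.m u2 := rfl
                            have f1 : T.m u0 = 2 * T.m u2 := by linarith only [r_0, r_1, r_2, r_3, r_4]
                            have f2 : T.m u1 = 3 * T.m u2 := by linarith only [r_0, r_1, r_2, r_3, r_4]
                            have f3 : T.m u3 = 4 * T.m u2 := by linarith only [r_0, r_1, r_2, r_3, r_4]
                            have f4 : T.m u4 = 2 * T.m u2 := by linarith only [r_0, r_1, r_2, r_3, r_4]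
                            have f5 : T.w u2 = 2 * T.w u3 := by linarith only [tw_0_1, tw_0_2, tw_1_3, tw_3_4]
                            have f6 : T.w u0 = 2 * T.w u3 := by linarith only [tw_0_1, tw_0_2, tw_1_3, tw_3_4]
                            have f7 : T.w u1 = 2 * T.w u3 := by linarith only [tw_0_1, tw_0_2, tw_1_3, tw_3_4]
                            have f8 : T.w u3 = T.w u3 := rfl
                            have f9 : T.w u4 = T.w u3 := by linarith only [tw_0_1, tw_0_2, tw_1_3, tw_3_4]
                            have f10 : T.a u2 u2 = -4 * T.w u3 := by have := (h2 u2).2; linarith only [this, tw_0_1, tw_0_2, tw_1_3, tw_3_4]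
                            have f11 : T.a u2 u0 = 2 * T.w u3 := by rw [Groth.Agent.Helper6.NT.symm' T u2 u0]; linarith only [tap_0_2, tw_0_1, tw_0_2, tw_1_3, tw_3_4]
                            have f12 : T.a u2 u1 = 0 := by rw [Groth.Agent.Helper6.NT.symm' T u2 u1]; exact z_1_2
                            have f13 : T.a u2 u3 = 0 := by exact z_2_3
                            have f14 : T.a u2 u4 = 0 := by exact z_2_4
                            have f15 : T.a u0 u0 = -4 * T.w u3 := by have := (h2 u0).2; linarith only [this, tw_0_1, tw_0_2, tw_1_3, tw_3_4]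
                            have f16 : T.a u0 u1 = 2 * T.w u3 := by linarith only [tap_0_1, tw_0_1, tw_0_2, tw_1_3, tw_3_4]
                            have f17 : T.a u0 u3 = 0 := by exact z_0_3
                            have f18 : T.a u0 u4 = 0 := by exact z_0_4
                            have f19 : T.a u1 u1 = -4 * T.w u3 := by have := (h2 u1).2; linarith only [this, tw_0_1, tw_0_2, tw_1_3, tw_3_4]
                            have f20 : T.a u1 u3 = 2 * T.w u3 := by linarith only [tap_1_3, tw_0_1, tw_0_2, tw_1_3, tw_3_4]
                            have f21 : T.a u1 u4 = 0 := by exact z_1_4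
                            have f22 : T.a u3 u3 = -2 * T.w u3 := by have := (h2 u3).2; linarith only [this, tw_0_1, tw_0_2, tw_1_3, tw_3_4]
                            have f23 : T.a u3 u4 = T.w u3 := by linarith only [tap_3_4, tw_0_1, tw_0_2, tw_1_3, tw_3_4]
                            have f24 : T.a u4 u4 = -2 * T.w u3 := by have := (h2 u4).2; linarith only [this, tw_0_1, tw_0_2, tw_1_3, tw_3_4]
                            have hsig := Groth.Agent.Helper6.NT.inj5 u2 u0 u1 u3 u4 hn_2_0.symm hn_2_1.symm hn_1_0 hn_3_2 hn_3_0 hn_3_1 hn_4_2 hn_4_0 hn_4_1 hn_4_3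
                            exact ⟨Equiv.ofBijective _ (Finite.injective_iff_bijective.1 hsig), T.m u2, T.w u3, Or.inr (Or.inr (Or.inl ⟨f0, f1, f2, f3, f4, f5, f6, f7, f8, f9, f10, f11, f12, f13, f14, f15, f16, f17, f18, f19, f20, f21, f22, f23, f24⟩))⟩
                          · -- (3,4) Dp
                            exfalso
                            have key := Groth.Agent.Helper6.NT.negfun3 T h2 u1 u3 u4 (by norm_num) 1 2 1 (by norm_num) (by norm_num)
                            linarith only [key, tap_1_3, taq_1_3, z_1_4, tap_3_4, taq_3_4, T.w_pos u1, T.w_pos u3, T.w_pos u4]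
                          · -- (3,4) Dm
                            exfalso
                            have key := Groth.Agent.Helper6.NT.negfun3 T h2 u1 u3 u4 (by norm_num) 1 2 2 (by norm_num) (by norm_num)
                            linarith only [key, tap_1_3, taq_1_3, z_1_4, tap_3_4, taq_3_4, T.w_pos u1, T.w_pos u3, T.w_pos u4]
                          · -- (3,4) Tp
                            exfalso
                            have key := Groth.Agent.Helper6.NT.negfun3 T h2 u1 u3 u4 (by norm_num) 1 2 1 (by norm_num) (by norm_num)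
                            linarith only [key, tap_1_3, taq_1_3, z_1_4, tap_3_4, taq_3_4, T.w_pos u1, T.w_pos u3, T.w_pos u4]
                          · -- (3,4) Tm
                            exfalso
                            have key := Groth.Agent.Helper6.NT.negfun3 T h2 u1 u3 u4 (by norm_num) 1 2 3 (by norm_num) (by norm_num)
                            linarith only [key, tap_1_3, taq_1_3, z_1_4, tap_3_4, taq_3_4, T.w_pos u1, T.w_pos u3, T.w_pos u4]
                        · push Not at hx
                          have cl_3 := hx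
                          clear hx
                          exfalso
                          refine Groth.Agent.Helper6.NT.closed_contra T [u0, u1, u2, u3] (by simp) (by simp) ?_
                          intro i hi j hj
                          simp only [List.mem_cons, List.not_mem_nil, or_false, not_or] at hi hj
                          rcases hi with rfl | rfl | rfl | rfl
                          · exact cl_0 j ⟨hj.1, hj.2.1, hj.2.2.1⟩
                          · exact cl_1 j ⟨hj.1, hj.2.1, hj.2.2.1, hj.2.2.2⟩
                          · exact cl_2 j ⟨hj.1, hj.2.1, hj.2.2.1, hj.2.2.2⟩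
                          · exact cl_3 j ⟨hj.1, hj.2.1, hj.2.2.1, hj.2.2.2⟩
                  · -- (2,3) nonzero
                    obtain ⟨lbp_2_3, lbq_2_3⟩ := Groth.Agent.Helper6.NT.lb T u2 u3 hn_3_2.symm nz_2_3
                    exfalso
                    have key := Groth.Agent.Helper6.NT.negfun4 T h2 u0 u1 u2 u3 (by norm_num) 2 2 2 3 (by norm_num) (by norm_num)
                    linarith only [key, tap_0_1, taq_0_1, tap_0_2, taq_0_2, z_0_3, z_1_2, tap_1_3, taq_1_3, lbp_2_3, lbq_2_3, T.w_pos u0, T.w_pos u1, T.w_pos u2, T.w_pos u3]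
                · -- (1,3) Tp
                  exfalso
                  have key := Groth.Agent.Helper6.NT.negfun3 T h2 u0 u1 u3 (by norm_num) 1 2 1 (by norm_num) (by norm_num)
                  linarith only [key, tap_0_1, taq_0_1, z_0_3, tap_1_3, taq_1_3, T.w_pos u0, T.w_pos u1, T.w_pos u3]
                · -- (1,3) Tm
                  exfalso
                  have key := Groth.Agent.Helper6.NT.negfun3 T h2 u0 u1 u3 (by norm_num) 1 2 3 (by norm_num) (by norm_num)
                  linarith only [key, tap_0_1, taq_0_1, z_0_3, tap_1_3, taq_1_3, T.w_pos u0, T.w_pos u1, T.w_pos u3]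
              · push Not at hx
                have cl_1 := hx
                clear hx
                by_cases hx : ∃ j, (j ≠ u0 ∧ j ≠ u1 ∧ j ≠ u2) ∧ T.a u2 j ≠ 0
                · obtain ⟨u3, ⟨hn_3_0, hn_3_1, hn_3_2⟩, e_2_3⟩ := hx
                  have z_0_3 : T.a u0 u3 = 0 := cl_0 u3 ⟨hn_3_0, hn_3_1, hn_3_2⟩
                  have z_1_3 : T.a u1 u3 = 0 := cl_1 u3 ⟨hn_3_0, hn_3_1, hn_3_2⟩
                  rcases Groth.Agent.Helper6.NT.edge5 T h2 (by norm_num) u2 u3 hn_3_2.symm e_2_3 with ⟨tw_2_3, tap_2_3, taq_2_3⟩ | ⟨tw_2_3, tap_2_3, taq_2_3⟩ | ⟨tw_2_3, tap_2_3, taq_2_3⟩ | ⟨tw_2_3, tap_2_3, taq_2_3⟩ | ⟨tw_2_3, tap_2_3, taq_2_3⟩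
                  · -- (2,3) S
                    by_cases hx : ∃ j, (j ≠ u0 ∧ j ≠ u1 ∧ j ≠ u2 ∧ j ≠ u3) ∧ T.a u2 j ≠ 0
                    · obtain ⟨u4, ⟨hn_4_0, hn_4_1, hn_4_2, hn_4_3⟩, e_2_4⟩ := hx
                      have z_0_4 : T.a u0 u4 = 0 := cl_0 u4 ⟨hn_4_0, hn_4_1, hn_4_2⟩
                      have z_1_4 : T.a u1 u4 = 0 := cl_1 u4 ⟨hn_4_0, hn_4_1, hn_4_2⟩
                      rcases Groth.Agent.Helper6.NT.edge5 T h2 (by norm_num) u2 u4 hn_4_2.symm e_2_4 with ⟨tw_2_4, tap_2_4, taq_2_4⟩ | ⟨tw_2_4, tap_2_4, taq_2_4⟩ | ⟨tw_2_4, tap_2_4, taq_2_4⟩ | ⟨tw_2_4, tap_2_4, taq_2_4⟩ | ⟨tw_2_4, tap_2_4, taq_2_4⟩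
                      · -- (2,4) S
                        rcases eq_or_ne (T.a u3 u4) 0 with z_3_4 | nz_3_4
                        · -- (3,4) zero
                          have hinj := Groth.Agent.Helper6.NT.inj5 u0 u1 u2 u3 u4 hn_1_0 hn_2_0 hn_2_1 hn_3_0 hn_3_1 hn_3_2 hn_4_0 hn_4_1 hn_4_2 hn_4_3
                          have r_0 : -2 * T.m u0 + 1 * T.m u1 + 1 * T.m u2 = 0 := by
                            have key := Groth.Agent.Helper6.NT.rowfun5 T u0 u1 u2 u3 u4 hinj u0
                            rw [(h2 u0).2, tap_0_1, tap_0_2, z_0_3, z_0_4] at key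
                            exact mul_left_cancel₀ (T.w_pos u0).ne' (by linarith only [key])
                          have r_1 : 1 * T.m u0 + -2 * T.m u1 = 0 := by
                            have key := Groth.Agent.Helper6.NT.rowfun5 T u0 u1 u2 u3 u4 hinj u1
                            rw [Groth.Agent.Helper6.NT.symm' T u1 u0, taq_0_1, (h2 u1).2, z_1_2, z_1_3, z_1_4] at key
                            exact mul_left_cancel₀ (T.w_pos u1).ne' (by linarith only [key])
                          have r_2 : 1 * T.m u0 + -2 * T.m u2 + 1 * T.m u3 + 1 * T.m u4 = 0 := by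
                            have key := Groth.Agent.Helper6.NT.rowfun5 T u0 u1 u2 u3 u4 hinj u2
                            rw [Groth.Agent.Helper6.NT.symm' T u2 u0, taq_0_2, Groth.Agent.Helper6.NT.symm' T u2 u1, z_1_2, (h2 u2).2, tap_2_3, tap_2_4] at key
                            exact mul_left_cancel₀ (T.w_pos u2).ne' (by linarith only [key])
                          have r_3 : 1 * T.m u2 + -2 * T.m u3 = 0 := by
                            have key := Groth.Agent.Helper6.NT.rowfun5 T u0 u1 u2 u3 u4 hinj u3
                            rw [Groth.Agent.Helper6.NT.symm' T u3 u0, z_0_3, Groth.Agent.Helper6.NT.symm' T u3 u1, z_1_3, Groth.Agent.Helper6.NT.symm' T u3 u2, taq_2_3, (h2 u3).2, z_3_4] at key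
                            exact mul_left_cancel₀ (T.w_pos u3).ne' (by linarith only [key])
                          have r_4 : 1 * T.m u2 + -2 * T.m u4 = 0 := by
                            have key := Groth.Agent.Helper6.NT.rowfun5 T u0 u1 u2 u3 u4 hinj u4
                            rw [Groth.Agent.Helper6.NT.symm' T u4 u0, z_0_4, Groth.Agent.Helper6.NT.symm' T u4 u1, z_1_4, Groth.Agent.Helper6.NT.symm' T u4 u2, taq_2_4, Groth.Agent.Helper6.NT.symm' T u4 u3, z_3_4, (h2 u4).2] at key
                            exact mul_left_cancel₀ (T.w_pos u4).ne' (by linarith only [key])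
                          exfalso
                          linarith only [r_0, r_1, r_2, r_3, r_4, T.m_pos u0, T.m_pos u1, T.m_pos u2, T.m_pos u3, T.m_pos u4]
                        · -- (3,4) nonzero
                          obtain ⟨lbp_3_4, lbq_3_4⟩ := Groth.Agent.Helper6.NT.lb T u3 u4 hn_4_3.symm nz_3_4
                          exfalso
                          have key := Groth.Agent.Helper6.NT.negfun3 T h2 u2 u3 u4 (by norm_num) 1 1 1 (by norm_num) (by norm_num)
                          linarith only [key, tap_2_3, taq_2_3, tap_2_4, taq_2_4, lbp_3_4, lbq_3_4, T.w_pos u2, T.w_pos u3, T.w_pos u4]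
                      · -- (2,4) Dp
                        exfalso
                        have key := Groth.Agent.Helper6.NT.negfun4 T h2 u0 u2 u3 u4 (by norm_num) 1 2 1 1 (by norm_num) (by norm_num)
                        linarith only [key, tap_0_2, taq_0_2, z_0_3, z_0_4, tap_2_3, taq_2_3, tap_2_4, taq_2_4, T.offDiag_nonneg u3 u4 hn_4_3.symm, T.w_pos u0, T.w_pos u2, T.w_pos u3, T.w_pos u4]
                      · -- (2,4) Dm
                        exfalso
                        have key := Groth.Agent.Helper6.NT.negfun4 T h2 u0 u2 u3 u4 (by norm_num) 1 2 1 2 (by norm_num) (by norm_num)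
                        linarith only [key, tap_0_2, taq_0_2, z_0_3, z_0_4, tap_2_3, taq_2_3, tap_2_4, taq_2_4, T.offDiag_nonneg u3 u4 hn_4_3.symm, T.w_pos u0, T.w_pos u2, T.w_pos u3, T.w_pos u4]
                      · -- (2,4) Tp
                        exfalso
                        have key := Groth.Agent.Helper6.NT.negfun3 T h2 u2 u3 u4 (by norm_num) 2 1 1 (by norm_num) (by norm_num)
                        linarith only [key, tap_2_3, taq_2_3, tap_2_4, taq_2_4, T.offDiag_nonneg u3 u4 hn_4_3.symm, T.w_pos u2, T.w_pos u3, T.w_pos u4]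
                      · -- (2,4) Tm
                        exfalso
                        have key := Groth.Agent.Helper6.NT.negfun3 T h2 u2 u3 u4 (by norm_num) 2 1 3 (by norm_num) (by norm_num)
                        linarith only [key, tap_2_3, taq_2_3, tap_2_4, taq_2_4, T.offDiag_nonneg u3 u4 hn_4_3.symm, T.w_pos u2, T.w_pos u3, T.w_pos u4]
                    · push Not at hx
                      have cl_2 := hx
                      clear hx
                      by_cases hx : ∃ j, (j ≠ u0 ∧ j ≠ u1 ∧ j ≠ u2 ∧ j ≠ u3) ∧ T.a u3 j ≠ 0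
                      · obtain ⟨u4, ⟨hn_4_0, hn_4_1, hn_4_2, hn_4_3⟩, e_3_4⟩ := hx
                        have z_0_4 : T.a u0 u4 = 0 := cl_0 u4 ⟨hn_4_0, hn_4_1, hn_4_2⟩
                        have z_1_4 : T.a u1 u4 = 0 := cl_1 u4 ⟨hn_4_0, hn_4_1, hn_4_2⟩
                        have z_2_4 : T.a u2 u4 = 0 := cl_2 u4 ⟨hn_4_0, hn_4_1, hn_4_2, hn_4_3⟩
                        rcases Groth.Agent.Helper6.NT.edge5 T h2 (by norm_num) u3 u4 hn_4_3.symm e_3_4 with ⟨tw_3_4, tap_3_4, taq_3_4⟩ | ⟨tw_3_4, tap_3_4, taq_3_4⟩ | ⟨tw_3_4, tap_3_4, taq_3_4⟩ | ⟨tw_3_4, tap_3_4, taq_3_4⟩ | ⟨tw_3_4, tap_3_4, taq_3_4⟩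
                        · -- (3,4) S
                          have hinj := Groth.Agent.Helper6.NT.inj5 u0 u1 u2 u3 u4 hn_1_0 hn_2_0 hn_2_1 hn_3_0 hn_3_1 hn_3_2 hn_4_0 hn_4_1 hn_4_2 hn_4_3
                          have r_0 : -2 * T.m u0 + 1 * T.m u1 + 1 * T.m u2 = 0 := by
                            have key := Groth.Agent.Helper6.NT.rowfun5 T u0 u1 u2 u3 u4 hinj u0
                            rw [(h2 u0).2, tap_0_1, tap_0_2, z_0_3, z_0_4] at key
                            exact mul_left_cancel₀ (T.w_pos u0).ne' (by linarith only [key])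
                          have r_1 : 1 * T.m u0 + -2 * T.m u1 = 0 := by
                            have key := Groth.Agent.Helper6.NT.rowfun5 T u0 u1 u2 u3 u4 hinj u1
                            rw [Groth.Agent.Helper6.NT.symm' T u1 u0, taq_0_1, (h2 u1).2, z_1_2, z_1_3, z_1_4] at key
                            exact mul_left_cancel₀ (T.w_pos u1).ne' (by linarith only [key])
                          have r_2 : 1 * T.m u0 + -2 * T.m u2 + 1 * T.m u3 = 0 := by
                            have key := Groth.Agent.Helper6.NT.rowfun5 T u0 u1 u2 u3 u4 hinj u2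
                            rw [Groth.Agent.Helper6.NT.symm' T u2 u0, taq_0_2, Groth.Agent.Helper6.NT.symm' T u2 u1, z_1_2, (h2 u2).2, tap_2_3, z_2_4] at key
                            exact mul_left_cancel₀ (T.w_pos u2).ne' (by linarith only [key])
                          have r_3 : 1 * T.m u2 + -2 * T.m u3 + 1 * T.m u4 = 0 := by
                            have key := Groth.Agent.Helper6.NT.rowfun5 T u0 u1 u2 u3 u4 hinj u3
                            rw [Groth.Agent.Helper6.NT.symm' T u3 u0, z_0_3, Groth.Agent.Helper6.NT.symm' T u3 u1, z_1_3, Groth.Agent.Helper6.NT.symm' T u3 u2, taq_2_3, (h2 u3).2, tap_3_4] at key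
                            exact mul_left_cancel₀ (T.w_pos u3).ne' (by linarith only [key])
                          have r_4 : 1 * T.m u3 + -2 * T.m u4 = 0 := by
                            have key := Groth.Agent.Helper6.NT.rowfun5 T u0 u1 u2 u3 u4 hinj u4
                            rw [Groth.Agent.Helper6.NT.symm' T u4 u0, z_0_4, Groth.Agent.Helper6.NT.symm' T u4 u1, z_1_4, Groth.Agent.Helper6.NT.symm' T u4 u2, z_2_4, Groth.Agent.Helper6.NT.symm' T u4 u3, taq_3_4, (h2 u4).2] at key
                            exact mul_left_cancel₀ (T.w_pos u4).ne' (by linarith only [key])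
                          exfalso
                          linarith only [r_0, r_1, r_2, r_3, r_4, T.m_pos u0, T.m_pos u1, T.m_pos u2, T.m_pos u3, T.m_pos u4]
                        · -- (3,4) Dp
                          have hinj := Groth.Agent.Helper6.NT.inj5 u0 u1 u2 u3 u4 hn_1_0 hn_2_0 hn_2_1 hn_3_0 hn_3_1 hn_3_2 hn_4_0 hn_4_1 hn_4_2 hn_4_3
                          have r_0 : -2 * T.m u0 + 1 * T.m u1 + 1 * T.m u2 = 0 := by
                            have key := Groth.Agent.Helper6.NT.rowfun5 T u0 u1 u2 u3 u4 hinj u0
                            rw [(h2 u0).2, tap_0_1, tap_0_2, z_0_3, z_0_4] at key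
                            exact mul_left_cancel₀ (T.w_pos u0).ne' (by linarith only [key])
                          have r_1 : 1 * T.m u0 + -2 * T.m u1 = 0 := by
                            have key := Groth.Agent.Helper6.NT.rowfun5 T u0 u1 u2 u3 u4 hinj u1
                            rw [Groth.Agent.Helper6.NT.symm' T u1 u0, taq_0_1, (h2 u1).2, z_1_2, z_1_3, z_1_4] at key
                            exact mul_left_cancel₀ (T.w_pos u1).ne' (by linarith only [key])
                          have r_2 : 1 * T.m u0 + -2 * T.m u2 + 1 * T.m u3 = 0 := by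
                            have key := Groth.Agent.Helper6.NT.rowfun5 T u0 u1 u2 u3 u4 hinj u2
                            rw [Groth.Agent.Helper6.NT.symm' T u2 u0, taq_0_2, Groth.Agent.Helper6.NT.symm' T u2 u1, z_1_2, (h2 u2).2, tap_2_3, z_2_4] at key
                            exact mul_left_cancel₀ (T.w_pos u2).ne' (by linarith only [key])
                          have r_3 : 1 * T.m u2 + -2 * T.m u3 + 2 * T.m u4 = 0 := by
                            have key := Groth.Agent.Helper6.NT.rowfun5 T u0 u1 u2 u3 u4 hinj u3
                            rw [Groth.Agent.Helper6.NT.symm' T u3 u0, z_0_3, Groth.Agent.Helper6.NT.symm' T u3 u1, z_1_3, Groth.Agent.Helper6.NT.symm' T u3 u2, taq_2_3, (h2 u3).2, tap_3_4] at key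
                            exact mul_left_cancel₀ (T.w_pos u3).ne' (by linarith only [key])
                          have r_4 : 1 * T.m u3 + -2 * T.m u4 = 0 := by
                            have key := Groth.Agent.Helper6.NT.rowfun5 T u0 u1 u2 u3 u4 hinj u4
                            rw [Groth.Agent.Helper6.NT.symm' T u4 u0, z_0_4, Groth.Agent.Helper6.NT.symm' T u4 u1, z_1_4, Groth.Agent.Helper6.NT.symm' T u4 u2, z_2_4, Groth.Agent.Helper6.NT.symm' T u4 u3, taq_3_4, (h2 u4).2] at key
                            exact mul_left_cancel₀ (T.w_pos u4).ne' (by linarith only [key])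
                          exfalso
                          linarith only [r_0, r_1, r_2, r_3, r_4, T.m_pos u0, T.m_pos u1, T.m_pos u2, T.m_pos u3, T.m_pos u4]
                        · -- (3,4) Dm
                          have hinj := Groth.Agent.Helper6.NT.inj5 u0 u1 u2 u3 u4 hn_1_0 hn_2_0 hn_2_1 hn_3_0 hn_3_1 hn_3_2 hn_4_0 hn_4_1 hn_4_2 hn_4_3
                          have r_0 : -2 * T.m u0 + 1 * T.m u1 + 1 * T.m u2 = 0 := by
                            have key := Groth.Agent.Helper6.NT.rowfun5 T u0 u1 u2 u3 u4 hinj u0
                            rw [(h2 u0).2, tap_0_1, tap_0_2, z_0_3, z_0_4] at key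
                            exact mul_left_cancel₀ (T.w_pos u0).ne' (by linarith only [key])
                          have r_1 : 1 * T.m u0 + -2 * T.m u1 = 0 := by
                            have key := Groth.Agent.Helper6.NT.rowfun5 T u0 u1 u2 u3 u4 hinj u1
                            rw [Groth.Agent.Helper6.NT.symm' T u1 u0, taq_0_1, (h2 u1).2, z_1_2, z_1_3, z_1_4] at key
                            exact mul_left_cancel₀ (T.w_pos u1).ne' (by linarith only [key])
                          have r_2 : 1 * T.m u0 + -2 * T.m u2 + 1 * T.m u3 = 0 := by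
                            have key := Groth.Agent.Helper6.NT.rowfun5 T u0 u1 u2 u3 u4 hinj u2
                            rw [Groth.Agent.Helper6.NT.symm' T u2 u0, taq_0_2, Groth.Agent.Helper6.NT.symm' T u2 u1, z_1_2, (h2 u2).2, tap_2_3, z_2_4] at key
                            exact mul_left_cancel₀ (T.w_pos u2).ne' (by linarith only [key])
                          have r_3 : 1 * T.m u2 + -2 * T.m u3 + 1 * T.m u4 = 0 := by
                            have key := Groth.Agent.Helper6.NT.rowfun5 T u0 u1 u2 u3 u4 hinj u3
                            rw [Groth.Agent.Helper6.NT.symm' T u3 u0, z_0_3, Groth.Agent.Helper6.NT.symm' T u3 u1, z_1_3, Groth.Agent.Helper6.NT.symm' T u3 u2, taq_2_3, (h2 u3).2, tap_3_4] at key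
                            exact mul_left_cancel₀ (T.w_pos u3).ne' (by linarith only [key])
                          have r_4 : 2 * T.m u3 + -2 * T.m u4 = 0 := by
                            have key := Groth.Agent.Helper6.NT.rowfun5 T u0 u1 u2 u3 u4 hinj u4
                            rw [Groth.Agent.Helper6.NT.symm' T u4 u0, z_0_4, Groth.Agent.Helper6.NT.symm' T u4 u1, z_1_4, Groth.Agent.Helper6.NT.symm' T u4 u2, z_2_4, Groth.Agent.Helper6.NT.symm' T u4 u3, taq_3_4, (h2 u4).2] at key
                            exact mul_left_cancel₀ (T.w_pos u4).ne' (by linarith only [key])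
                          exfalso
                          linarith only [r_0, r_1, r_2, r_3, r_4, T.m_pos u0, T.m_pos u1, T.m_pos u2, T.m_pos u3, T.m_pos u4]
                        · -- (3,4) Tp
                          exfalso
                          have key := Groth.Agent.Helper6.NT.negfun3 T h2 u2 u3 u4 (by norm_num) 1 2 1 (by norm_num) (by norm_num)
                          linarith only [key, tap_2_3, taq_2_3, z_2_4, tap_3_4, taq_3_4, T.w_pos u2, T.w_pos u3, T.w_pos u4]
                        · -- (3,4) Tm
                          exfalso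
                          have key := Groth.Agent.Helper6.NT.negfun3 T h2 u2 u3 u4 (by norm_num) 1 2 3 (by norm_num) (by norm_num)
                          linarith only [key, tap_2_3, taq_2_3, z_2_4, tap_3_4, taq_3_4, T.w_pos u2, T.w_pos u3, T.w_pos u4]
                      · push Not at hx
                        have cl_3 := hx
                        clear hx
                        exfalso
                        refine Groth.Agent.Helper6.NT.closed_contra T [u0, u1, u2, u3] (by simp) (by simp) ?_
                        intro i hi j hj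
                        simp only [List.mem_cons, List.not_mem_nil, or_false, not_or] at hi hj
                        rcases hi with rfl | rfl | rfl | rfl
                        · exact cl_0 j ⟨hj.1, hj.2.1, hj.2.2.1⟩
                        · exact cl_1 j ⟨hj.1, hj.2.1, hj.2.2.1⟩
                        · exact cl_2 j ⟨hj.1, hj.2.1, hj.2.2.1, hj.2.2.2⟩
                        · exact cl_3 j ⟨hj.1, hj.2.1, hj.2.2.1, hj.2.2.2⟩
                  · -- (2,3) Dp
                    by_cases hx : ∃ j, (j ≠ u0 ∧ j ≠ u1 ∧ j ≠ u2 ∧ j ≠ u3) ∧ T.a u2 j ≠ 0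
                    · obtain ⟨u4, ⟨hn_4_0, hn_4_1, hn_4_2, hn_4_3⟩, e_2_4⟩ := hx
                      have z_0_4 : T.a u0 u4 = 0 := cl_0 u4 ⟨hn_4_0, hn_4_1, hn_4_2⟩
                      have z_1_4 : T.a u1 u4 = 0 := cl_1 u4 ⟨hn_4_0, hn_4_1, hn_4_2⟩
                      rcases Groth.Agent.Helper6.NT.edge5 T h2 (by norm_num) u2 u4 hn_4_2.symm e_2_4 with ⟨tw_2_4, tap_2_4, taq_2_4⟩ | ⟨tw_2_4, tap_2_4, taq_2_4⟩ | ⟨tw_2_4, tap_2_4, taq_2_4⟩ | ⟨tw_2_4, tap_2_4, taq_2_4⟩ | ⟨tw_2_4, tap_2_4, taq_2_4⟩
                      · -- (2,4) S
                        exfalso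
                        have key := Groth.Agent.Helper6.NT.negfun4 T h2 u0 u2 u3 u4 (by norm_num) 1 2 1 1 (by norm_num) (by norm_num)
                        linarith only [key, tap_0_2, taq_0_2, z_0_3, z_0_4, tap_2_3, taq_2_3, tap_2_4, taq_2_4, T.offDiag_nonneg u3 u4 hn_4_3.symm, T.w_pos u0, T.w_pos u2, T.w_pos u3, T.w_pos u4]
                      · -- (2,4) Dp
                        exfalso
                        have key := Groth.Agent.Helper6.NT.negfun3 T h2 u2 u3 u4 (by norm_num) 2 1 1 (by norm_num) (by norm_num)
                        linarith only [key, tap_2_3, taq_2_3, tap_2_4, taq_2_4, T.offDiag_nonneg u3 u4 hn_4_3.symm, T.w_pos u2, T.w_pos u3, T.w_pos u4]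
                      · -- (2,4) Dm
                        exfalso
                        have key := Groth.Agent.Helper6.NT.negfun3 T h2 u2 u3 u4 (by norm_num) 2 1 2 (by norm_num) (by norm_num)
                        linarith only [key, tap_2_3, taq_2_3, tap_2_4, taq_2_4, T.offDiag_nonneg u3 u4 hn_4_3.symm, T.w_pos u2, T.w_pos u3, T.w_pos u4]
                      · -- (2,4) Tp
                        exfalso
                        have key := Groth.Agent.Helper6.NT.negfun3 T h2 u2 u3 u4 (by norm_num) 2 1 1 (by norm_num) (by norm_num)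
                        linarith only [key, tap_2_3, taq_2_3, tap_2_4, taq_2_4, T.offDiag_nonneg u3 u4 hn_4_3.symm, T.w_pos u2, T.w_pos u3, T.w_pos u4]
                      · -- (2,4) Tm
                        exfalso
                        have key := Groth.Agent.Helper6.NT.negfun3 T h2 u2 u3 u4 (by norm_num) 2 1 3 (by norm_num) (by norm_num)
                        linarith only [key, tap_2_3, taq_2_3, tap_2_4, taq_2_4, T.offDiag_nonneg u3 u4 hn_4_3.symm, T.w_pos u2, T.w_pos u3, T.w_pos u4]
                    · push Not at hx
                      have cl_2 := hx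
                      clear hx
                      by_cases hx : ∃ j, (j ≠ u0 ∧ j ≠ u1 ∧ j ≠ u2 ∧ j ≠ u3) ∧ T.a u3 j ≠ 0
                      · obtain ⟨u4, ⟨hn_4_0, hn_4_1, hn_4_2, hn_4_3⟩, e_3_4⟩ := hx
                        have z_0_4 : T.a u0 u4 = 0 := cl_0 u4 ⟨hn_4_0, hn_4_1, hn_4_2⟩
                        have z_1_4 : T.a u1 u4 = 0 := cl_1 u4 ⟨hn_4_0, hn_4_1, hn_4_2⟩
                        have z_2_4 : T.a u2 u4 = 0 := cl_2 u4 ⟨hn_4_0, hn_4_1, hn_4_2, hn_4_3⟩
                        rcases Groth.Agent.Helper6.NT.edge5 T h2 (by norm_num) u3 u4 hn_4_3.symm e_3_4 with ⟨tw_3_4, tap_3_4, taq_3_4⟩ | ⟨tw_3_4, tap_3_4, taq_3_4⟩ | ⟨tw_3_4, tap_3_4, taq_3_4⟩ | ⟨tw_3_4, tap_3_4, taq_3_4⟩ | ⟨tw_3_4, tap_3_4, taq_3_4⟩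
                        · -- (3,4) S
                          have hinj := Groth.Agent.Helper6.NT.inj5 u0 u1 u2 u3 u4 hn_1_0 hn_2_0 hn_2_1 hn_3_0 hn_3_1 hn_3_2 hn_4_0 hn_4_1 hn_4_2 hn_4_3
                          have r_0 : -2 * T.m u0 + 1 * T.m u1 + 1 * T.m u2 = 0 := by
                            have key := Groth.Agent.Helper6.NT.rowfun5 T u0 u1 u2 u3 u4 hinj u0
                            rw [(h2 u0).2, tap_0_1, tap_0_2, z_0_3, z_0_4] at key
                            exact mul_left_cancel₀ (T.w_pos u0).ne' (by linarith only [key])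
                          have r_1 : 1 * T.m u0 + -2 * T.m u1 = 0 := by
                            have key := Groth.Agent.Helper6.NT.rowfun5 T u0 u1 u2 u3 u4 hinj u1
                            rw [Groth.Agent.Helper6.NT.symm' T u1 u0, taq_0_1, (h2 u1).2, z_1_2, z_1_3, z_1_4] at key
                            exact mul_left_cancel₀ (T.w_pos u1).ne' (by linarith only [key])
                          have r_2 : 1 * T.m u0 + -2 * T.m u2 + 2 * T.m u3 = 0 := by
                            have key := Groth.Agent.Helper6.NT.rowfun5 T u0 u1 u2 u3 u4 hinj u2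
                            rw [Groth.Agent.Helper6.NT.symm' T u2 u0, taq_0_2, Groth.Agent.Helper6.NT.symm' T u2 u1, z_1_2, (h2 u2).2, tap_2_3, z_2_4] at key
                            exact mul_left_cancel₀ (T.w_pos u2).ne' (by linarith only [key])
                          have r_3 : 1 * T.m u2 + -2 * T.m u3 + 1 * T.m u4 = 0 := by
                            have key := Groth.Agent.Helper6.NT.rowfun5 T u0 u1 u2 u3 u4 hinj u3
                            rw [Groth.Agent.Helper6.NT.symm' T u3 u0, z_0_3, Groth.Agent.Helper6.NT.symm' T u3 u1, z_1_3, Groth.Agent.Helper6.NT.symm' T u3 u2, taq_2_3, (h2 u3).2, tap_3_4] at key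
                            exact mul_left_cancel₀ (T.w_pos u3).ne' (by linarith only [key])
                          have r_4 : 1 * T.m u3 + -2 * T.m u4 = 0 := by
                            have key := Groth.Agent.Helper6.NT.rowfun5 T u0 u1 u2 u3 u4 hinj u4
                            rw [Groth.Agent.Helper6.NT.symm' T u4 u0, z_0_4, Groth.Agent.Helper6.NT.symm' T u4 u1, z_1_4, Groth.Agent.Helper6.NT.symm' T u4 u2, z_2_4, Groth.Agent.Helper6.NT.symm' T u4 u3, taq_3_4, (h2 u4).2] at key
                            exact mul_left_cancel₀ (T.w_pos u4).ne' (by linarith only [key])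
                          have f0 : T.m u1 = T.m u1 := rfl
                          have f1 : T.m u0 = 2 * T.m u1 := by linarith only [r_0, r_1, r_2, r_3, r_4]
                          have f2 : T.m u2 = 3 * T.m u1 := by linarith only [r_0, r_1, r_2, r_3, r_4]
                          have f3 : T.m u3 = 2 * T.m u1 := by linarith only [r_0, r_1, r_2, r_3, r_4]
                          have f4 : T.m u4 = T.m u1 := by linarith only [r_0, r_1, r_2, r_3, r_4]
                          have f5 : T.w u1 = T.w u1 := rfl
                          have f6 : T.w u0 = T.w u1 := by linarith only [tw_0_1, tw_0_2, tw_2_3, tw_3_4]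
                          have f7 : T.w u2 = T.w u1 := by linarith only [tw_0_1, tw_0_2, tw_2_3, tw_3_4]
                          have f8 : T.w u3 = 2 * T.w u1 := by linarith only [tw_0_1, tw_0_2, tw_2_3, tw_3_4]
                          have f9 : T.w u4 = 2 * T.w u1 := by linarith only [tw_0_1, tw_0_2, tw_2_3, tw_3_4]
                          have f10 : T.a u1 u1 = -2 * T.w u1 := by have := (h2 u1).2; linarith only [this, tw_0_1, tw_0_2, tw_2_3, tw_3_4]
                          have f11 : T.a u1 u0 = T.w u1 := by rw [Groth.Agent.Helper6.NT.symm' T u1 u0]; linarith only [tap_0_1, tw_0_1, tw_0_2, tw_2_3, tw_3_4]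
                          have f12 : T.a u1 u2 = 0 := by exact z_1_2
                          have f13 : T.a u1 u3 = 0 := by exact z_1_3
                          have f14 : T.a u1 u4 = 0 := by exact z_1_4
                          have f15 : T.a u0 u0 = -2 * T.w u1 := by have := (h2 u0).2; linarith only [this, tw_0_1, tw_0_2, tw_2_3, tw_3_4]
                          have f16 : T.a u0 u2 = T.w u1 := by linarith only [tap_0_2, tw_0_1, tw_0_2, tw_2_3, tw_3_4]
                          have f17 : T.a u0 u3 = 0 := by exact z_0_3
                          have f18 : T.a u0 u4 = 0 := by exact z_0_4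
                          have f19 : T.a u2 u2 = -2 * T.w u1 := by have := (h2 u2).2; linarith only [this, tw_0_1, tw_0_2, tw_2_3, tw_3_4]
                          have f20 : T.a u2 u3 = 2 * T.w u1 := by linarith only [tap_2_3, tw_0_1, tw_0_2, tw_2_3, tw_3_4]
                          have f21 : T.a u2 u4 = 0 := by exact z_2_4
                          have f22 : T.a u3 u3 = -4 * T.w u1 := by have := (h2 u3).2; linarith only [this, tw_0_1, tw_0_2, tw_2_3, tw_3_4]
                          have f23 : T.a u3 u4 = 2 * T.w u1 := by linarith only [tap_3_4, tw_0_1, tw_0_2, tw_2_3, tw_3_4]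
                          have f24 : T.a u4 u4 = -4 * T.w u1 := by have := (h2 u4).2; linarith only [this, tw_0_1, tw_0_2, tw_2_3, tw_3_4]
                          have hsig := Groth.Agent.Helper6.NT.inj5 u1 u0 u2 u3 u4 hn_1_0.symm hn_2_1 hn_2_0 hn_3_1 hn_3_0 hn_3_2 hn_4_1 hn_4_0 hn_4_2 hn_4_3
                          exact ⟨Equiv.ofBijective _ (Finite.injective_iff_bijective.1 hsig), T.m u1, T.w u1, Or.inr (Or.inl ⟨f0, f1, f2, f3, f4, f5, f6, f7, f8, f9, f10, f11, f12, f13, f14, f15, f16, f17, f18, f19, f20, f21, f22, f23, f24⟩)⟩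
                        · -- (3,4) Dp
                          exfalso
                          have key := Groth.Agent.Helper6.NT.negfun3 T h2 u2 u3 u4 (by norm_num) 2 2 1 (by norm_num) (by norm_num)
                          linarith only [key, tap_2_3, taq_2_3, z_2_4, tap_3_4, taq_3_4, T.w_pos u2, T.w_pos u3, T.w_pos u4]
                        · -- (3,4) Dm
                          exfalso
                          have key := Groth.Agent.Helper6.NT.negfun3 T h2 u2 u3 u4 (by norm_num) 1 1 1 (by norm_num) (by norm_num)
                          linarith only [key, tap_2_3, taq_2_3, z_2_4, tap_3_4, taq_3_4, T.w_pos u2, T.w_pos u3, T.w_pos u4]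
                        · -- (3,4) Tp
                          exfalso
                          have key := Groth.Agent.Helper6.NT.negfun3 T h2 u2 u3 u4 (by norm_num) 2 2 1 (by norm_num) (by norm_num)
                          linarith only [key, tap_2_3, taq_2_3, z_2_4, tap_3_4, taq_3_4, T.w_pos u2, T.w_pos u3, T.w_pos u4]
                        · -- (3,4) Tm
                          exfalso
                          have key := Groth.Agent.Helper6.NT.negfun3 T h2 u2 u3 u4 (by norm_num) 2 2 3 (by norm_num) (by norm_num)
                          linarith only [key, tap_2_3, taq_2_3, z_2_4, tap_3_4, taq_3_4, T.w_pos u2, T.w_pos u3, T.w_pos u4]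
                      · push Not at hx
                        have cl_3 := hx
                        clear hx
                        exfalso
                        refine Groth.Agent.Helper6.NT.closed_contra T [u0, u1, u2, u3] (by simp) (by simp) ?_
                        intro i hi j hj
                        simp only [List.mem_cons, List.not_mem_nil, or_false, not_or] at hi hj
                        rcases hi with rfl | rfl | rfl | rfl
                        · exact cl_0 j ⟨hj.1, hj.2.1, hj.2.2.1⟩
                        · exact cl_1 j ⟨hj.1, hj.2.1, hj.2.2.1⟩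
                        · exact cl_2 j ⟨hj.1, hj.2.1, hj.2.2.1, hj.2.2.2⟩
                        · exact cl_3 j ⟨hj.1, hj.2.1, hj.2.2.1, hj.2.2.2⟩
                  · -- (2,3) Dm
                    by_cases hx : ∃ j, (j ≠ u0 ∧ j ≠ u1 ∧ j ≠ u2 ∧ j ≠ u3) ∧ T.a u2 j ≠ 0
                    · obtain ⟨u4, ⟨hn_4_0, hn_4_1, hn_4_2, hn_4_3⟩, e_2_4⟩ := hx
                      have z_0_4 : T.a u0 u4 = 0 := cl_0 u4 ⟨hn_4_0, hn_4_1, hn_4_2⟩
                      have z_1_4 : T.a u1 u4 = 0 := cl_1 u4 ⟨hn_4_0, hn_4_1, hn_4_2⟩
                      rcases Groth.Agent.Helper6.NT.edge5 T h2 (by norm_num) u2 u4 hn_4_2.symm e_2_4 with ⟨tw_2_4, tap_2_4, taq_2_4⟩ | ⟨tw_2_4, tap_2_4, taq_2_4⟩ | ⟨tw_2_4, tap_2_4, taq_2_4⟩ | ⟨tw_2_4, tap_2_4, taq_2_4⟩ | ⟨tw_2_4, tap_2_4, taq_2_4⟩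
                      · -- (2,4) S
                        exfalso
                        have key := Groth.Agent.Helper6.NT.negfun4 T h2 u0 u2 u3 u4 (by norm_num) 1 2 2 1 (by norm_num) (by norm_num)
                        linarith only [key, tap_0_2, taq_0_2, z_0_3, z_0_4, tap_2_3, taq_2_3, tap_2_4, taq_2_4, T.offDiag_nonneg u3 u4 hn_4_3.symm, T.w_pos u0, T.w_pos u2, T.w_pos u3, T.w_pos u4]
                      · -- (2,4) Dp
                        exfalso
                        have key := Groth.Agent.Helper6.NT.negfun3 T h2 u2 u3 u4 (by norm_num) 2 2 1 (by norm_num) (by norm_num)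
                        linarith only [key, tap_2_3, taq_2_3, tap_2_4, taq_2_4, T.offDiag_nonneg u3 u4 hn_4_3.symm, T.w_pos u2, T.w_pos u3, T.w_pos u4]
                      · -- (2,4) Dm
                        exfalso
                        have key := Groth.Agent.Helper6.NT.negfun3 T h2 u2 u3 u4 (by norm_num) 1 1 1 (by norm_num) (by norm_num)
                        linarith only [key, tap_2_3, taq_2_3, tap_2_4, taq_2_4, T.offDiag_nonneg u3 u4 hn_4_3.symm, T.w_pos u2, T.w_pos u3, T.w_pos u4]
                      · -- (2,4) Tp
                        exfalso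
                        have key := Groth.Agent.Helper6.NT.negfun3 T h2 u2 u3 u4 (by norm_num) 2 2 1 (by norm_num) (by norm_num)
                        linarith only [key, tap_2_3, taq_2_3, tap_2_4, taq_2_4, T.offDiag_nonneg u3 u4 hn_4_3.symm, T.w_pos u2, T.w_pos u3, T.w_pos u4]
                      · -- (2,4) Tm
                        exfalso
                        have key := Groth.Agent.Helper6.NT.negfun3 T h2 u2 u3 u4 (by norm_num) 2 2 3 (by norm_num) (by norm_num)
                        linarith only [key, tap_2_3, taq_2_3, tap_2_4, taq_2_4, T.offDiag_nonneg u3 u4 hn_4_3.symm, T.w_pos u2, T.w_pos u3, T.w_pos u4]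
                    · push Not at hx
                      have cl_2 := hx
                      clear hx
                      by_cases hx : ∃ j, (j ≠ u0 ∧ j ≠ u1 ∧ j ≠ u2 ∧ j ≠ u3) ∧ T.a u3 j ≠ 0
                      · obtain ⟨u4, ⟨hn_4_0, hn_4_1, hn_4_2, hn_4_3⟩, e_3_4⟩ := hx
                        have z_0_4 : T.a u0 u4 = 0 := cl_0 u4 ⟨hn_4_0, hn_4_1, hn_4_2⟩
                        have z_1_4 : T.a u1 u4 = 0 := cl_1 u4 ⟨hn_4_0, hn_4_1, hn_4_2⟩
                        have z_2_4 : T.a u2 u4 = 0 := cl_2 u4 ⟨hn_4_0, hn_4_1, hn_4_2, hn_4_3⟩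
                        rcases Groth.Agent.Helper6.NT.edge5 T h2 (by norm_num) u3 u4 hn_4_3.symm e_3_4 with ⟨tw_3_4, tap_3_4, taq_3_4⟩ | ⟨tw_3_4, tap_3_4, taq_3_4⟩ | ⟨tw_3_4, tap_3_4, taq_3_4⟩ | ⟨tw_3_4, tap_3_4, taq_3_4⟩ | ⟨tw_3_4, tap_3_4, taq_3_4⟩
                        · -- (3,4) S
                          have hinj := Groth.Agent.Helper6.NT.inj5 u0 u1 u2 u3 u4 hn_1_0 hn_2_0 hn_2_1 hn_3_0 hn_3_1 hn_3_2 hn_4_0 hn_4_1 hn_4_2 hn_4_3
                          have r_0 : -2 * T.m u0 + 1 * T.m u1 + 1 * T.m u2 = 0 := by
                            have key := Groth.Agent.Helper6.NT.rowfun5 T u0 u1 u2 u3 u4 hinj u0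
                            rw [(h2 u0).2, tap_0_1, tap_0_2, z_0_3, z_0_4] at key
                            exact mul_left_cancel₀ (T.w_pos u0).ne' (by linarith only [key])
                          have r_1 : 1 * T.m u0 + -2 * T.m u1 = 0 := by
                            have key := Groth.Agent.Helper6.NT.rowfun5 T u0 u1 u2 u3 u4 hinj u1
                            rw [Groth.Agent.Helper6.NT.symm' T u1 u0, taq_0_1, (h2 u1).2, z_1_2, z_1_3, z_1_4] at key
                            exact mul_left_cancel₀ (T.w_pos u1).ne' (by linarith only [key])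
                          have r_2 : 1 * T.m u0 + -2 * T.m u2 + 1 * T.m u3 = 0 := by
                            have key := Groth.Agent.Helper6.NT.rowfun5 T u0 u1 u2 u3 u4 hinj u2
                            rw [Groth.Agent.Helper6.NT.symm' T u2 u0, taq_0_2, Groth.Agent.Helper6.NT.symm' T u2 u1, z_1_2, (h2 u2).2, tap_2_3, z_2_4] at key
                            exact mul_left_cancel₀ (T.w_pos u2).ne' (by linarith only [key])
                          have r_3 : 2 * T.m u2 + -2 * T.m u3 + 1 * T.m u4 = 0 := by
                            have key := Groth.Agent.Helper6.NT.rowfun5 T u0 u1 u2 u3 u4 hinj u3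
                            rw [Groth.Agent.Helper6.NT.symm' T u3 u0, z_0_3, Groth.Agent.Helper6.NT.symm' T u3 u1, z_1_3, Groth.Agent.Helper6.NT.symm' T u3 u2, taq_2_3, (h2 u3).2, tap_3_4] at key
                            exact mul_left_cancel₀ (T.w_pos u3).ne' (by linarith only [key])
                          have r_4 : 1 * T.m u3 + -2 * T.m u4 = 0 := by
                            have key := Groth.Agent.Helper6.NT.rowfun5 T u0 u1 u2 u3 u4 hinj u4
                            rw [Groth.Agent.Helper6.NT.symm' T u4 u0, z_0_4, Groth.Agent.Helper6.NT.symm' T u4 u1, z_1_4, Groth.Agent.Helper6.NT.symm' T u4 u2, z_2_4, Groth.Agent.Helper6.NT.symm' T u4 u3, taq_3_4, (h2 u4).2] at key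
                            exact mul_left_cancel₀ (T.w_pos u4).ne' (by linarith only [key])
                          have f0 : T.m u1 = T.m u1 := rfl
                          have f1 : T.m u0 = 2 * T.m u1 := by linarith only [r_0, r_1, r_2, r_3, r_4]
                          have f2 : T.m u2 = 3 * T.m u1 := by linarith only [r_0, r_1, r_2, r_3, r_4]
                          have f3 : T.m u3 = 4 * T.m u1 := by linarith only [r_0, r_1, r_2, r_3, r_4]
                          have f4 : T.m u4 = 2 * T.m u1 := by linarith only [r_0, r_1, r_2, r_3, r_4]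
                          have f5 : T.w u1 = 2 * T.w u3 := by linarith only [tw_0_1, tw_0_2, tw_2_3, tw_3_4]
                          have f6 : T.w u0 = 2 * T.w u3 := by linarith only [tw_0_1, tw_0_2, tw_2_3, tw_3_4]
                          have f7 : T.w u2 = 2 * T.w u3 := by linarith only [tw_0_1, tw_0_2, tw_2_3, tw_3_4]
                          have f8 : T.w u3 = T.w u3 := rfl
                          have f9 : T.w u4 = T.w u3 := by linarith only [tw_0_1, tw_0_2, tw_2_3, tw_3_4]
                          have f10 : T.a u1 u1 = -4 * T.w u3 := by have := (h2 u1).2; linarith only [this, tw_0_1, tw_0_2, tw_2_3, tw_3_4]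
                          have f11 : T.a u1 u0 = 2 * T.w u3 := by rw [Groth.Agent.Helper6.NT.symm' T u1 u0]; linarith only [tap_0_1, tw_0_1, tw_0_2, tw_2_3, tw_3_4]
                          have f12 : T.a u1 u2 = 0 := by exact z_1_2
                          have f13 : T.a u1 u3 = 0 := by exact z_1_3
                          have f14 : T.a u1 u4 = 0 := by exact z_1_4
                          have f15 : T.a u0 u0 = -4 * T.w u3 := by have := (h2 u0).2; linarith only [this, tw_0_1, tw_0_2, tw_2_3, tw_3_4]
                          have f16 : T.a u0 u2 = 2 * T.w u3 := by linarith only [tap_0_2, tw_0_1, tw_0_2, tw_2_3, tw_3_4]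
                          have f17 : T.a u0 u3 = 0 := by exact z_0_3
                          have f18 : T.a u0 u4 = 0 := by exact z_0_4
                          have f19 : T.a u2 u2 = -4 * T.w u3 := by have := (h2 u2).2; linarith only [this, tw_0_1, tw_0_2, tw_2_3, tw_3_4]
                          have f20 : T.a u2 u3 = 2 * T.w u3 := by linarith only [tap_2_3, tw_0_1, tw_0_2, tw_2_3, tw_3_4]
                          have f21 : T.a u2 u4 = 0 := by exact z_2_4
                          have f22 : T.a u3 u3 = -2 * T.w u3 := by have := (h2 u3).2; linarith only [this, tw_0_1, tw_0_2, tw_2_3, tw_3_4]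
                          have f23 : T.a u3 u4 = T.w u3 := by linarith only [tap_3_4, tw_0_1, tw_0_2, tw_2_3, tw_3_4]
                          have f24 : T.a u4 u4 = -2 * T.w u3 := by have := (h2 u4).2; linarith only [this, tw_0_1, tw_0_2, tw_2_3, tw_3_4]
                          have hsig := Groth.Agent.Helper6.NT.inj5 u1 u0 u2 u3 u4 hn_1_0.symm hn_2_1 hn_2_0 hn_3_1 hn_3_0 hn_3_2 hn_4_1 hn_4_0 hn_4_2 hn_4_3
                          exact ⟨Equiv.ofBijective _ (Finite.injective_iff_bijective.1 hsig), T.m u1, T.w u3, Or.inr (Or.inr (Or.inl ⟨f0, f1, f2, f3, f4, f5, f6, f7, f8, f9, f10, f11, f12, f13, f14, f15, f16, f17, f18, f19, f20, f21, f22, f23, f24⟩))⟩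
                        · -- (3,4) Dp
                          exfalso
                          have key := Groth.Agent.Helper6.NT.negfun3 T h2 u2 u3 u4 (by norm_num) 1 2 1 (by norm_num) (by norm_num)
                          linarith only [key, tap_2_3, taq_2_3, z_2_4, tap_3_4, taq_3_4, T.w_pos u2, T.w_pos u3, T.w_pos u4]
                        · -- (3,4) Dm
                          exfalso
                          have key := Groth.Agent.Helper6.NT.negfun3 T h2 u2 u3 u4 (by norm_num) 1 2 2 (by norm_num) (by norm_num)
                          linarith only [key, tap_2_3, taq_2_3, z_2_4, tap_3_4, taq_3_4, T.w_pos u2, T.w_pos u3, T.w_pos u4]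
                        · -- (3,4) Tp
                          exfalso
                          have key := Groth.Agent.Helper6.NT.negfun3 T h2 u2 u3 u4 (by norm_num) 1 2 1 (by norm_num) (by norm_num)
                          linarith only [key, tap_2_3, taq_2_3, z_2_4, tap_3_4, taq_3_4, T.w_pos u2, T.w_pos u3, T.w_pos u4]
                        · -- (3,4) Tm
                          exfalso
                          have key := Groth.Agent.Helper6.NT.negfun3 T h2 u2 u3 u4 (by norm_num) 1 2 3 (by norm_num) (by norm_num)
                          linarith only [key, tap_2_3, taq_2_3, z_2_4, tap_3_4, taq_3_4, T.w_pos u2, T.w_pos u3, T.w_pos u4]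
                      · push Not at hx
                        have cl_3 := hx
                        clear hx
                        exfalso
                        refine Groth.Agent.Helper6.NT.closed_contra T [u0, u1, u2, u3] (by simp) (by simp) ?_
                        intro i hi j hj
                        simp only [List.mem_cons, List.not_mem_nil, or_false, not_or] at hi hj
                        rcases hi with rfl | rfl | rfl | rfl
                        · exact cl_0 j ⟨hj.1, hj.2.1, hj.2.2.1⟩
                        · exact cl_1 j ⟨hj.1, hj.2.1, hj.2.2.1⟩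
                        · exact cl_2 j ⟨hj.1, hj.2.1, hj.2.2.1, hj.2.2.2⟩
                        · exact cl_3 j ⟨hj.1, hj.2.1, hj.2.2.1, hj.2.2.2⟩
                  · -- (2,3) Tp
                    exfalso
                    have key := Groth.Agent.Helper6.NT.negfun3 T h2 u0 u2 u3 (by norm_num) 1 2 1 (by norm_num) (by norm_num)
                    linarith only [key, tap_0_2, taq_0_2, z_0_3, tap_2_3, taq_2_3, T.w_pos u0, T.w_pos u2, T.w_pos u3]
                  · -- (2,3) Tm
                    exfalso
                    have key := Groth.Agent.Helper6.NT.negfun3 T h2 u0 u2 u3 (by norm_num) 1 2 3 (by norm_num) (by norm_num)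
                    linarith only [key, tap_0_2, taq_0_2, z_0_3, tap_2_3, taq_2_3, T.w_pos u0, T.w_pos u2, T.w_pos u3]
                · push Not at hx
                  have cl_2 := hx
                  clear hx
                  exfalso
                  refine Groth.Agent.Helper6.NT.closed_contra T [u0, u1, u2] (by simp) (by simp) ?_
                  intro i hi j hj
                  simp only [List.mem_cons, List.not_mem_nil, or_false, not_or] at hi hj
                  rcases hi with rfl | rfl | rfl
                  · exact cl_0 j ⟨hj.1, hj.2.1, hj.2.2⟩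
                  · exact cl_1 j ⟨hj.1, hj.2.1, hj.2.2⟩
                  · exact cl_2 j ⟨hj.1, hj.2.1, hj.2.2⟩
          · -- (1,2) nonzero
            obtain ⟨lbp_1_2, lbq_1_2⟩ := Groth.Agent.Helper6.NT.lb T u1 u2 hn_2_1.symm nz_1_2
            exfalso
            have key := Groth.Agent.Helper6.NT.negfun3 T h2 u0 u1 u2 (by norm_num) 1 1 1 (by norm_num) (by norm_num)
            linarith only [key, tap_0_1, taq_0_1, tap_0_2, taq_0_2, lbp_1_2, lbq_1_2, T.w_pos u0, T.w_pos u1, T.w_pos u2]
        · -- (0,2) Dp
          rcases eq_or_ne (T.a u1 u2) 0 with z_1_2 | nz_1_2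
          · -- (1,2) zero
            by_cases hx : ∃ j, (j ≠ u0 ∧ j ≠ u1 ∧ j ≠ u2) ∧ T.a u0 j ≠ 0
            · obtain ⟨u3, ⟨hn_3_0, hn_3_1, hn_3_2⟩, e_0_3⟩ := hx
              rcases Groth.Agent.Helper6.NT.edge5 T h2 (by norm_num) u0 u3 hn_3_0.symm e_0_3 with ⟨tw_0_3, tap_0_3, taq_0_3⟩ | ⟨tw_0_3, tap_0_3, taq_0_3⟩ | ⟨tw_0_3, tap_0_3, taq_0_3⟩ | ⟨tw_0_3, tap_0_3, taq_0_3⟩ | ⟨tw_0_3, tap_0_3, taq_0_3⟩
              · -- (0,3) S
                exfalso
                have key := Groth.Agent.Helper6.NT.negfun4 T h2 u0 u1 u2 u3 (by norm_num) 2 1 1 1 (by norm_num) (by norm_num)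
                linarith only [key, tap_0_1, taq_0_1, tap_0_2, taq_0_2, tap_0_3, taq_0_3, z_1_2, T.offDiag_nonneg u1 u3 hn_3_1.symm, T.offDiag_nonneg u2 u3 hn_3_2.symm, T.w_pos u0, T.w_pos u1, T.w_pos u2, T.w_pos u3]
              · -- (0,3) Dp
                exfalso
                have key := Groth.Agent.Helper6.NT.negfun3 T h2 u0 u2 u3 (by norm_num) 2 1 1 (by norm_num) (by norm_num)
                linarith only [key, tap_0_2, taq_0_2, tap_0_3, taq_0_3, T.offDiag_nonneg u2 u3 hn_3_2.symm, T.w_pos u0, T.w_pos u2, T.w_pos u3]
              · -- (0,3) Dm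
                exfalso
                have key := Groth.Agent.Helper6.NT.negfun3 T h2 u0 u2 u3 (by norm_num) 2 1 2 (by norm_num) (by norm_num)
                linarith only [key, tap_0_2, taq_0_2, tap_0_3, taq_0_3, T.offDiag_nonneg u2 u3 hn_3_2.symm, T.w_pos u0, T.w_pos u2, T.w_pos u3]
              · -- (0,3) Tp
                exfalso
                have key := Groth.Agent.Helper6.NT.negfun3 T h2 u0 u2 u3 (by norm_num) 2 1 1 (by norm_num) (by norm_num)
                linarith only [key, tap_0_2, taq_0_2, tap_0_3, taq_0_3, T.offDiag_nonneg u2 u3 hn_3_2.symm, T.w_pos u0, T.w_pos u2, T.w_pos u3]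
              · -- (0,3) Tm
                exfalso
                have key := Groth.Agent.Helper6.NT.negfun3 T h2 u0 u2 u3 (by norm_num) 2 1 3 (by norm_num) (by norm_num)
                linarith only [key, tap_0_2, taq_0_2, tap_0_3, taq_0_3, T.offDiag_nonneg u2 u3 hn_3_2.symm, T.w_pos u0, T.w_pos u2, T.w_pos u3]
            · push Not at hx
              have cl_0 := hx
              clear hx
              by_cases hx : ∃ j, (j ≠ u0 ∧ j ≠ u1 ∧ j ≠ u2) ∧ T.a u1 j ≠ 0
              · obtain ⟨u3, ⟨hn_3_0, hn_3_1, hn_3_2⟩, e_1_3⟩ := hx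
                have z_0_3 : T.a u0 u3 = 0 := cl_0 u3 ⟨hn_3_0, hn_3_1, hn_3_2⟩
                rcases Groth.Agent.Helper6.NT.edge5 T h2 (by norm_num) u1 u3 hn_3_1.symm e_1_3 with ⟨tw_1_3, tap_1_3, taq_1_3⟩ | ⟨tw_1_3, tap_1_3, taq_1_3⟩ | ⟨tw_1_3, tap_1_3, taq_1_3⟩ | ⟨tw_1_3, tap_1_3, taq_1_3⟩ | ⟨tw_1_3, tap_1_3, taq_1_3⟩
                · -- (1,3) S
                  rcases eq_or_ne (T.a u2 u3) 0 with z_2_3 | nz_2_3
                  · -- (2,3) zero
                    by_cases hx : ∃ j, (j ≠ u0 ∧ j ≠ u1 ∧ j ≠ u2 ∧ j ≠ u3) ∧ T.a u1 j ≠ 0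
                    · obtain ⟨u4, ⟨hn_4_0, hn_4_1, hn_4_2, hn_4_3⟩, e_1_4⟩ := hx
                      have z_0_4 : T.a u0 u4 = 0 := cl_0 u4 ⟨hn_4_0, hn_4_1, hn_4_2⟩
                      rcases Groth.Agent.Helper6.NT.edge5 T h2 (by norm_num) u1 u4 hn_4_1.symm e_1_4 with ⟨tw_1_4, tap_1_4, taq_1_4⟩ | ⟨tw_1_4, tap_1_4, taq_1_4⟩ | ⟨tw_1_4, tap_1_4, taq_1_4⟩ | ⟨tw_1_4, tap_1_4, taq_1_4⟩ | ⟨tw_1_4, tap_1_4, taq_1_4⟩
                      · -- (1,4) S
                        rcases eq_or_ne (T.a u2 u4) 0 with z_2_4 | nz_2_4
                        · -- (2,4) zero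
                          rcases eq_or_ne (T.a u3 u4) 0 with z_3_4 | nz_3_4
                          · -- (3,4) zero
                            have hinj := Groth.Agent.Helper6.NT.inj5 u0 u1 u2 u3 u4 hn_1_0 hn_2_0 hn_2_1 hn_3_0 hn_3_1 hn_3_2 hn_4_0 hn_4_1 hn_4_2 hn_4_3
                            have r_0 : -2 * T.m u0 + 1 * T.m u1 + 2 * T.m u2 = 0 := by
                              have key := Groth.Agent.Helper6.NT.rowfun5 T u0 u1 u2 u3 u4 hinj u0
                              rw [(h2 u0).2, tap_0_1, tap_0_2, z_0_3, z_0_4] at key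
                              exact mul_left_cancel₀ (T.w_pos u0).ne' (by linarith only [key])
                            have r_1 : 1 * T.m u0 + -2 * T.m u1 + 1 * T.m u3 + 1 * T.m u4 = 0 := by
                              have key := Groth.Agent.Helper6.NT.rowfun5 T u0 u1 u2 u3 u4 hinj u1
                              rw [Groth.Agent.Helper6.NT.symm' T u1 u0, taq_0_1, (h2 u1).2, z_1_2, tap_1_3, tap_1_4] at key
                              exact mul_left_cancel₀ (T.w_pos u1).ne' (by linarith only [key])
                            have r_2 : 1 * T.m u0 + -2 * T.m u2 = 0 := by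
                              have key := Groth.Agent.Helper6.NT.rowfun5 T u0 u1 u2 u3 u4 hinj u2
                              rw [Groth.Agent.Helper6.NT.symm' T u2 u0, taq_0_2, Groth.Agent.Helper6.NT.symm' T u2 u1, z_1_2, (h2 u2).2, z_2_3, z_2_4] at key
                              exact mul_left_cancel₀ (T.w_pos u2).ne' (by linarith only [key])
                            have r_3 : 1 * T.m u1 + -2 * T.m u3 = 0 := by
                              have key := Groth.Agent.Helper6.NT.rowfun5 T u0 u1 u2 u3 u4 hinj u3
                              rw [Groth.Agent.Helper6.NT.symm' T u3 u0, z_0_3, Groth.Agent.Helper6.NT.symm' T u3 u1, taq_1_3, Groth.Agent.Helper6.NT.symm' T u3 u2, z_2_3, (h2 u3).2, z_3_4] at key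
                              exact mul_left_cancel₀ (T.w_pos u3).ne' (by linarith only [key])
                            have r_4 : 1 * T.m u1 + -2 * T.m u4 = 0 := by
                              have key := Groth.Agent.Helper6.NT.rowfun5 T u0 u1 u2 u3 u4 hinj u4
                              rw [Groth.Agent.Helper6.NT.symm' T u4 u0, z_0_4, Groth.Agent.Helper6.NT.symm' T u4 u1, taq_1_4, Groth.Agent.Helper6.NT.symm' T u4 u2, z_2_4, Groth.Agent.Helper6.NT.symm' T u4 u3, z_3_4, (h2 u4).2] at key
                              exact mul_left_cancel₀ (T.w_pos u4).ne' (by linarith only [key])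
                            have f0 : T.m u2 = T.m u2 := rfl
                            have f1 : T.m u0 = 2 * T.m u2 := by linarith only [r_0, r_1, r_2, r_3, r_4]
                            have f2 : T.m u1 = 2 * T.m u2 := by linarith only [r_0, r_1, r_2, r_3, r_4]
                            have f3 : T.m u3 = T.m u2 := by linarith only [r_0, r_1, r_2, r_3, r_4]
                            have f4 : T.m u4 = T.m u2 := by linarith only [r_0, r_1, r_2, r_3, r_4]
                            have f5 : T.w u2 = 2 * T.w u0 := by linarith only [tw_0_1, tw_0_2, tw_1_3, tw_1_4]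
                            have f6 : T.w u0 = T.w u0 := rfl
                            have f7 : T.w u1 = T.w u0 := by linarith only [tw_0_1, tw_0_2, tw_1_3, tw_1_4]
                            have f8 : T.w u3 = T.w u0 := by linarith only [tw_0_1, tw_0_2, tw_1_3, tw_1_4]
                            have f9 : T.w u4 = T.w u0 := by linarith only [tw_0_1, tw_0_2, tw_1_3, tw_1_4]
                            have f10 : T.a u2 u2 = -4 * T.w u0 := by have := (h2 u2).2; linarith only [this, tw_0_1, tw_0_2, tw_1_3, tw_1_4]
                            have f11 : T.a u2 u0 = 2 * T.w u0 := by rw [Groth.Agent.Helper6.NT.symm' T u2 u0]; linarith only [tap_0_2, tw_0_1, tw_0_2, tw_1_3, tw_1_4]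
                            have f12 : T.a u2 u1 = 0 := by rw [Groth.Agent.Helper6.NT.symm' T u2 u1]; exact z_1_2
                            have f13 : T.a u2 u3 = 0 := by exact z_2_3
                            have f14 : T.a u2 u4 = 0 := by exact z_2_4
                            have f15 : T.a u0 u0 = -2 * T.w u0 := by have := (h2 u0).2; linarith only [this, tw_0_1, tw_0_2, tw_1_3, tw_1_4]
                            have f16 : T.a u0 u1 = T.w u0 := by linarith only [tap_0_1, tw_0_1, tw_0_2, tw_1_3, tw_1_4]
                            have f17 : T.a u0 u3 = 0 := by exact z_0_3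
                            have f18 : T.a u0 u4 = 0 := by exact z_0_4
                            have f19 : T.a u1 u1 = -2 * T.w u0 := by have := (h2 u1).2; linarith only [this, tw_0_1, tw_0_2, tw_1_3, tw_1_4]
                            have f20 : T.a u1 u3 = T.w u0 := by linarith only [tap_1_3, tw_0_1, tw_0_2, tw_1_3, tw_1_4]
                            have f21 : T.a u1 u4 = T.w u0 := by linarith only [tap_1_4, tw_0_1, tw_0_2, tw_1_3, tw_1_4]
                            have f22 : T.a u3 u3 = -2 * T.w u0 := by have := (h2 u3).2; linarith only [this, tw_0_1, tw_0_2, tw_1_3, tw_1_4]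
                            have f23 : T.a u3 u4 = 0 := by exact z_3_4
                            have f24 : T.a u4 u4 = -2 * T.w u0 := by have := (h2 u4).2; linarith only [this, tw_0_1, tw_0_2, tw_1_3, tw_1_4]
                            have hsig := Groth.Agent.Helper6.NT.inj5 u2 u0 u1 u3 u4 hn_2_0.symm hn_2_1.symm hn_1_0 hn_3_2 hn_3_0 hn_3_1 hn_4_2 hn_4_0 hn_4_1 hn_4_3
                            exact ⟨Equiv.ofBijective _ (Finite.injective_iff_bijective.1 hsig), T.m u2, T.w u0, Or.inr (Or.inr (Or.inr (Or.inr (Or.inr (Or.inr (Or.inr (Or.inl ⟨f0, f1, f2, f3, f4, f5, f6, f7, f8, f9, f10, f11, f12, f13, f14, f15, f16, f17, f18, f19, f20, f21, f22, f23, f24⟩)))))))⟩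
                          · -- (3,4) nonzero
                            obtain ⟨lbp_3_4, lbq_3_4⟩ := Groth.Agent.Helper6.NT.lb T u3 u4 hn_4_3.symm nz_3_4
                            exfalso
                            have key := Groth.Agent.Helper6.NT.negfun3 T h2 u1 u3 u4 (by norm_num) 1 1 1 (by norm_num) (by norm_num)
                            linarith only [key, tap_1_3, taq_1_3, tap_1_4, taq_1_4, lbp_3_4, lbq_3_4, T.w_pos u1, T.w_pos u3, T.w_pos u4]
                        · -- (2,4) nonzero
                          obtain ⟨lbp_2_4, lbq_2_4⟩ := Groth.Agent.Helper6.NT.lb T u2 u4 hn_4_2.symm nz_2_4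
                          exfalso
                          have key := Groth.Agent.Helper6.NT.negfun4 T h2 u0 u1 u2 u4 (by norm_num) 3 2 2 2 (by norm_num) (by norm_num)
                          linarith only [key, tap_0_1, taq_0_1, tap_0_2, taq_0_2, z_0_4, z_1_2, tap_1_4, taq_1_4, lbp_2_4, lbq_2_4, T.w_pos u0, T.w_pos u1, T.w_pos u2, T.w_pos u4]
                      · -- (1,4) Dp
                        exfalso
                        have key := Groth.Agent.Helper6.NT.negfun4 T h2 u0 u1 u3 u4 (by norm_num) 1 2 1 1 (by norm_num) (by norm_num)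
                        linarith only [key, tap_0_1, taq_0_1, z_0_3, z_0_4, tap_1_3, taq_1_3, tap_1_4, taq_1_4, T.offDiag_nonneg u3 u4 hn_4_3.symm, T.w_pos u0, T.w_pos u1, T.w_pos u3, T.w_pos u4]
                      · -- (1,4) Dm
                        exfalso
                        have key := Groth.Agent.Helper6.NT.negfun4 T h2 u0 u1 u3 u4 (by norm_num) 1 2 1 2 (by norm_num) (by norm_num)
                        linarith only [key, tap_0_1, taq_0_1, z_0_3, z_0_4, tap_1_3, taq_1_3, tap_1_4, taq_1_4, T.offDiag_nonneg u3 u4 hn_4_3.symm, T.w_pos u0, T.w_pos u1, T.w_pos u3, T.w_pos u4]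
                      · -- (1,4) Tp
                        exfalso
                        have key := Groth.Agent.Helper6.NT.negfun3 T h2 u1 u3 u4 (by norm_num) 2 1 1 (by norm_num) (by norm_num)
                        linarith only [key, tap_1_3, taq_1_3, tap_1_4, taq_1_4, T.offDiag_nonneg u3 u4 hn_4_3.symm, T.w_pos u1, T.w_pos u3, T.w_pos u4]
                      · -- (1,4) Tm
                        exfalso
                        have key := Groth.Agent.Helper6.NT.negfun3 T h2 u1 u3 u4 (by norm_num) 2 1 3 (by norm_num) (by norm_num)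
                        linarith only [key, tap_1_3, taq_1_3, tap_1_4, taq_1_4, T.offDiag_nonneg u3 u4 hn_4_3.symm, T.w_pos u1, T.w_pos u3, T.w_pos u4]
                    · push Not at hx
                      have cl_1 := hx
                      clear hx
                      by_cases hx : ∃ j, (j ≠ u0 ∧ j ≠ u1 ∧ j ≠ u2 ∧ j ≠ u3) ∧ T.a u2 j ≠ 0
                      · obtain ⟨u4, ⟨hn_4_0, hn_4_1, hn_4_2, hn_4_3⟩, e_2_4⟩ := hx
                        have z_0_4 : T.a u0 u4 = 0 := cl_0 u4 ⟨hn_4_0, hn_4_1, hn_4_2⟩
                        have z_1_4 : T.a u1 u4 = 0 := cl_1 u4 ⟨hn_4_0, hn_4_1, hn_4_2, hn_4_3⟩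
                        rcases Groth.Agent.Helper6.NT.edge5 T h2 (by norm_num) u2 u4 hn_4_2.symm e_2_4 with ⟨tw_2_4, tap_2_4, taq_2_4⟩ | ⟨tw_2_4, tap_2_4, taq_2_4⟩ | ⟨tw_2_4, tap_2_4, taq_2_4⟩ | ⟨tw_2_4, tap_2_4, taq_2_4⟩ | ⟨tw_2_4, tap_2_4, taq_2_4⟩
                        · -- (2,4) S
                          rcases eq_or_ne (T.a u3 u4) 0 with z_3_4 | nz_3_4
                          · -- (3,4) zero
                            have hinj := Groth.Agent.Helper6.NT.inj5 u0 u1 u2 u3 u4 hn_1_0 hn_2_0 hn_2_1 hn_3_0 hn_3_1 hn_3_2 hn_4_0 hn_4_1 hn_4_2 hn_4_3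
                            have r_0 : -2 * T.m u0 + 1 * T.m u1 + 2 * T.m u2 = 0 := by
                              have key := Groth.Agent.Helper6.NT.rowfun5 T u0 u1 u2 u3 u4 hinj u0
                              rw [(h2 u0).2, tap_0_1, tap_0_2, z_0_3, z_0_4] at key
                              exact mul_left_cancel₀ (T.w_pos u0).ne' (by linarith only [key])
                            have r_1 : 1 * T.m u0 + -2 * T.m u1 + 1 * T.m u3 = 0 := by
                              have key := Groth.Agent.Helper6.NT.rowfun5 T u0 u1 u2 u3 u4 hinj u1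
                              rw [Groth.Agent.Helper6.NT.symm' T u1 u0, taq_0_1, (h2 u1).2, z_1_2, tap_1_3, z_1_4] at key
                              exact mul_left_cancel₀ (T.w_pos u1).ne' (by linarith only [key])
                            have r_2 : 1 * T.m u0 + -2 * T.m u2 + 1 * T.m u4 = 0 := by
                              have key := Groth.Agent.Helper6.NT.rowfun5 T u0 u1 u2 u3 u4 hinj u2
                              rw [Groth.Agent.Helper6.NT.symm' T u2 u0, taq_0_2, Groth.Agent.Helper6.NT.symm' T u2 u1, z_1_2, (h2 u2).2, z_2_3, tap_2_4] at key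
                              exact mul_left_cancel₀ (T.w_pos u2).ne' (by linarith only [key])
                            have r_3 : 1 * T.m u1 + -2 * T.m u3 = 0 := by
                              have key := Groth.Agent.Helper6.NT.rowfun5 T u0 u1 u2 u3 u4 hinj u3
                              rw [Groth.Agent.Helper6.NT.symm' T u3 u0, z_0_3, Groth.Agent.Helper6.NT.symm' T u3 u1, taq_1_3, Groth.Agent.Helper6.NT.symm' T u3 u2, z_2_3, (h2 u3).2, z_3_4] at key
                              exact mul_left_cancel₀ (T.w_pos u3).ne' (by linarith only [key])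
                            have r_4 : 1 * T.m u2 + -2 * T.m u4 = 0 := by
                              have key := Groth.Agent.Helper6.NT.rowfun5 T u0 u1 u2 u3 u4 hinj u4
                              rw [Groth.Agent.Helper6.NT.symm' T u4 u0, z_0_4, Groth.Agent.Helper6.NT.symm' T u4 u1, z_1_4, Groth.Agent.Helper6.NT.symm' T u4 u2, taq_2_4, Groth.Agent.Helper6.NT.symm' T u4 u3, z_3_4, (h2 u4).2] at key
                              exact mul_left_cancel₀ (T.w_pos u4).ne' (by linarith only [key])
                            have f0 : T.m u3 = T.m u3 := rfl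
                            have f1 : T.m u1 = 2 * T.m u3 := by linarith only [r_0, r_1, r_2, r_3, r_4]
                            have f2 : T.m u0 = 3 * T.m u3 := by linarith only [r_0, r_1, r_2, r_3, r_4]
                            have f3 : T.m u2 = 2 * T.m u3 := by linarith only [r_0, r_1, r_2, r_3, r_4]
                            have f4 : T.m u4 = T.m u3 := by linarith only [r_0, r_1, r_2, r_3, r_4]
                            have f5 : T.w u3 = T.w u3 := rfl
                            have f6 : T.w u1 = T.w u3 := by linarith only [tw_0_1, tw_0_2, tw_1_3, tw_2_4]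
                            have f7 : T.w u0 = T.w u3 := by linarith only [tw_0_1, tw_0_2, tw_1_3, tw_2_4]
                            have f8 : T.w u2 = 2 * T.w u3 := by linarith only [tw_0_1, tw_0_2, tw_1_3, tw_2_4]
                            have f9 : T.w u4 = 2 * T.w u3 := by linarith only [tw_0_1, tw_0_2, tw_1_3, tw_2_4]
                            have f10 : T.a u3 u3 = -2 * T.w u3 := by have := (h2 u3).2; linarith only [this, tw_0_1, tw_0_2, tw_1_3, tw_2_4]
                            have f11 : T.a u3 u1 = T.w u3 := by rw [Groth.Agent.Helper6.NT.symm' T u3 u1]; linarith only [tap_1_3, tw_0_1, tw_0_2, tw_1_3, tw_2_4]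
                            have f12 : T.a u3 u0 = 0 := by rw [Groth.Agent.Helper6.NT.symm' T u3 u0]; exact z_0_3
                            have f13 : T.a u3 u2 = 0 := by rw [Groth.Agent.Helper6.NT.symm' T u3 u2]; exact z_2_3
                            have f14 : T.a u3 u4 = 0 := by exact z_3_4
                            have f15 : T.a u1 u1 = -2 * T.w u3 := by have := (h2 u1).2; linarith only [this, tw_0_1, tw_0_2, tw_1_3, tw_2_4]
                            have f16 : T.a u1 u0 = T.w u3 := by rw [Groth.Agent.Helper6.NT.symm' T u1 u0]; linarith only [tap_0_1, tw_0_1, tw_0_2, tw_1_3, tw_2_4]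
                            have f17 : T.a u1 u2 = 0 := by exact z_1_2
                            have f18 : T.a u1 u4 = 0 := by exact z_1_4
                            have f19 : T.a u0 u0 = -2 * T.w u3 := by have := (h2 u0).2; linarith only [this, tw_0_1, tw_0_2, tw_1_3, tw_2_4]
                            have f20 : T.a u0 u2 = 2 * T.w u3 := by linarith only [tap_0_2, tw_0_1, tw_0_2, tw_1_3, tw_2_4]
                            have f21 : T.a u0 u4 = 0 := by exact z_0_4
                            have f22 : T.a u2 u2 = -4 * T.w u3 := by have := (h2 u2).2; linarith only [this, tw_0_1, tw_0_2, tw_1_3, tw_2_4]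
                            have f23 : T.a u2 u4 = 2 * T.w u3 := by linarith only [tap_2_4, tw_0_1, tw_0_2, tw_1_3, tw_2_4]
                            have f24 : T.a u4 u4 = -4 * T.w u3 := by have := (h2 u4).2; linarith only [this, tw_0_1, tw_0_2, tw_1_3, tw_2_4]
                            have hsig := Groth.Agent.Helper6.NT.inj5 u3 u1 u0 u2 u4 hn_3_1.symm hn_3_0.symm hn_1_0.symm hn_3_2.symm hn_2_1 hn_2_0 hn_4_3 hn_4_1 hn_4_0 hn_4_2
                            exact ⟨Equiv.ofBijective _ (Finite.injective_iff_bijective.1 hsig), T.m u3, T.w u3, Or.inr (Or.inl ⟨f0, f1, f2, f3, f4, f5, f6, f7, f8, f9, f10, f11, f12, f13, f14, f15, f16, f17, f18, f19, f20, f21, f22, f23, f24⟩)⟩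
                          · -- (3,4) nonzero
                            obtain ⟨lbp_3_4, lbq_3_4⟩ := Groth.Agent.Helper6.NT.lb T u3 u4 hn_4_3.symm nz_3_4
                            rcases Groth.Agent.Helper6.NT.edge5 T h2 (by norm_num) u3 u4 hn_4_3.symm nz_3_4 with ⟨tw_3_4, tap_3_4, taq_3_4⟩ | ⟨tw_3_4, tap_3_4, taq_3_4⟩ | ⟨tw_3_4, tap_3_4, taq_3_4⟩ | ⟨tw_3_4, tap_3_4, taq_3_4⟩ | ⟨tw_3_4, tap_3_4, taq_3_4⟩
                            · -- (3,4) S
                              exfalso
                              linarith only [tap_0_1, tap_0_2, tap_1_3, tap_3_4, tap_2_4, taq_0_1, taq_0_2, taq_1_3, taq_3_4, taq_2_4, T.w_pos u0, T.w_pos u1, T.w_pos u2, T.w_pos u3, T.w_pos u4]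
                            · -- (3,4) Dp
                              exfalso
                              have key := Groth.Agent.Helper6.NT.negfun4 T h2 u0 u2 u3 u4 (by norm_num) 1 1 1 1 (by norm_num) (by norm_num)
                              linarith only [key, tap_0_2, taq_0_2, z_0_3, z_0_4, z_2_3, tap_2_4, taq_2_4, tap_3_4, taq_3_4, T.w_pos u0, T.w_pos u2, T.w_pos u3, T.w_pos u4]
                            · -- (3,4) Dm
                              exfalso
                              have key := Groth.Agent.Helper6.NT.negfun4 T h2 u0 u2 u3 u4 (by norm_num) 2 2 1 2 (by norm_num) (by norm_num)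
                              linarith only [key, tap_0_2, taq_0_2, z_0_3, z_0_4, z_2_3, tap_2_4, taq_2_4, tap_3_4, taq_3_4, T.w_pos u0, T.w_pos u2, T.w_pos u3, T.w_pos u4]
                            · -- (3,4) Tp
                              exfalso
                              have key := Groth.Agent.Helper6.NT.negfun3 T h2 u2 u3 u4 (by norm_num) 1 3 2 (by norm_num) (by norm_num)
                              linarith only [key, z_2_3, tap_2_4, taq_2_4, tap_3_4, taq_3_4, T.w_pos u2, T.w_pos u3, T.w_pos u4]
                            · -- (3,4) Tm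
                              exfalso
                              have key := Groth.Agent.Helper6.NT.negfun3 T h2 u2 u3 u4 (by norm_num) 1 1 2 (by norm_num) (by norm_num)
                              linarith only [key, z_2_3, tap_2_4, taq_2_4, tap_3_4, taq_3_4, T.w_pos u2, T.w_pos u3, T.w_pos u4]
                        · -- (2,4) Dp
                          exfalso
                          have key := Groth.Agent.Helper6.NT.negfun3 T h2 u0 u2 u4 (by norm_num) 2 2 1 (by norm_num) (by norm_num)
                          linarith only [key, tap_0_2, taq_0_2, z_0_4, tap_2_4, taq_2_4, T.w_pos u0, T.w_pos u2, T.w_pos u4]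
                        · -- (2,4) Dm
                          exfalso
                          have key := Groth.Agent.Helper6.NT.negfun3 T h2 u0 u2 u4 (by norm_num) 1 1 1 (by norm_num) (by norm_num)
                          linarith only [key, tap_0_2, taq_0_2, z_0_4, tap_2_4, taq_2_4, T.w_pos u0, T.w_pos u2, T.w_pos u4]
                        · -- (2,4) Tp
                          exfalso
                          have key := Groth.Agent.Helper6.NT.negfun3 T h2 u0 u2 u4 (by norm_num) 2 2 1 (by norm_num) (by norm_num)
                          linarith only [key, tap_0_2, taq_0_2, z_0_4, tap_2_4, taq_2_4, T.w_pos u0, T.w_pos u2, T.w_pos u4]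
                        · -- (2,4) Tm
                          exfalso
                          have key := Groth.Agent.Helper6.NT.negfun3 T h2 u0 u2 u4 (by norm_num) 2 2 3 (by norm_num) (by norm_num)
                          linarith only [key, tap_0_2, taq_0_2, z_0_4, tap_2_4, taq_2_4, T.w_pos u0, T.w_pos u2, T.w_pos u4]
                      · push Not at hx
                        have cl_2 := hx
                        clear hx
                        by_cases hx : ∃ j, (j ≠ u0 ∧ j ≠ u1 ∧ j ≠ u2 ∧ j ≠ u3) ∧ T.a u3 j ≠ 0
                        · obtain ⟨u4, ⟨hn_4_0, hn_4_1, hn_4_2, hn_4_3⟩, e_3_4⟩ := hx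
                          have z_0_4 : T.a u0 u4 = 0 := cl_0 u4 ⟨hn_4_0, hn_4_1, hn_4_2⟩
                          have z_1_4 : T.a u1 u4 = 0 := cl_1 u4 ⟨hn_4_0, hn_4_1, hn_4_2, hn_4_3⟩
                          have z_2_4 : T.a u2 u4 = 0 := cl_2 u4 ⟨hn_4_0, hn_4_1, hn_4_2, hn_4_3⟩
                          rcases Groth.Agent.Helper6.NT.edge5 T h2 (by norm_num) u3 u4 hn_4_3.symm e_3_4 with ⟨tw_3_4, tap_3_4, taq_3_4⟩ | ⟨tw_3_4, tap_3_4, taq_3_4⟩ | ⟨tw_3_4, tap_3_4, taq_3_4⟩ | ⟨tw_3_4, tap_3_4, taq_3_4⟩ | ⟨tw_3_4, tap_3_4, taq_3_4⟩
                          · -- (3,4) S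
                            have hinj := Groth.Agent.Helper6.NT.inj5 u0 u1 u2 u3 u4 hn_1_0 hn_2_0 hn_2_1 hn_3_0 hn_3_1 hn_3_2 hn_4_0 hn_4_1 hn_4_2 hn_4_3
                            have r_0 : -2 * T.m u0 + 1 * T.m u1 + 2 * T.m u2 = 0 := by
                              have key := Groth.Agent.Helper6.NT.rowfun5 T u0 u1 u2 u3 u4 hinj u0
                              rw [(h2 u0).2, tap_0_1, tap_0_2, z_0_3, z_0_4] at key
                              exact mul_left_cancel₀ (T.w_pos u0).ne' (by linarith only [key])
                            have r_1 : 1 * T.m u0 + -2 * T.m u1 + 1 * T.m u3 = 0 := by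
                              have key := Groth.Agent.Helper6.NT.rowfun5 T u0 u1 u2 u3 u4 hinj u1
                              rw [Groth.Agent.Helper6.NT.symm' T u1 u0, taq_0_1, (h2 u1).2, z_1_2, tap_1_3, z_1_4] at key
                              exact mul_left_cancel₀ (T.w_pos u1).ne' (by linarith only [key])
                            have r_2 : 1 * T.m u0 + -2 * T.m u2 = 0 := by
                              have key := Groth.Agent.Helper6.NT.rowfun5 T u0 u1 u2 u3 u4 hinj u2
                              rw [Groth.Agent.Helper6.NT.symm' T u2 u0, taq_0_2, Groth.Agent.Helper6.NT.symm' T u2 u1, z_1_2, (h2 u2).2, z_2_3, z_2_4] at key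
                              exact mul_left_cancel₀ (T.w_pos u2).ne' (by linarith only [key])
                            have r_3 : 1 * T.m u1 + -2 * T.m u3 + 1 * T.m u4 = 0 := by
                              have key := Groth.Agent.Helper6.NT.rowfun5 T u0 u1 u2 u3 u4 hinj u3
                              rw [Groth.Agent.Helper6.NT.symm' T u3 u0, z_0_3, Groth.Agent.Helper6.NT.symm' T u3 u1, taq_1_3, Groth.Agent.Helper6.NT.symm' T u3 u2, z_2_3, (h2 u3).2, tap_3_4] at key
                              exact mul_left_cancel₀ (T.w_pos u3).ne' (by linarith only [key])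
                            have r_4 : 1 * T.m u3 + -2 * T.m u4 = 0 := by
                              have key := Groth.Agent.Helper6.NT.rowfun5 T u0 u1 u2 u3 u4 hinj u4
                              rw [Groth.Agent.Helper6.NT.symm' T u4 u0, z_0_4, Groth.Agent.Helper6.NT.symm' T u4 u1, z_1_4, Groth.Agent.Helper6.NT.symm' T u4 u2, z_2_4, Groth.Agent.Helper6.NT.symm' T u4 u3, taq_3_4, (h2 u4).2] at key
                              exact mul_left_cancel₀ (T.w_pos u4).ne' (by linarith only [key])
                            exfalso
                            linarith only [r_0, r_1, r_2, r_3, r_4, T.m_pos u0, T.m_pos u1, T.m_pos u2, T.m_pos u3, T.m_pos u4]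
                          · -- (3,4) Dp
                            have hinj := Groth.Agent.Helper6.NT.inj5 u0 u1 u2 u3 u4 hn_1_0 hn_2_0 hn_2_1 hn_3_0 hn_3_1 hn_3_2 hn_4_0 hn_4_1 hn_4_2 hn_4_3
                            have r_0 : -2 * T.m u0 + 1 * T.m u1 + 2 * T.m u2 = 0 := by
                              have key := Groth.Agent.Helper6.NT.rowfun5 T u0 u1 u2 u3 u4 hinj u0
                              rw [(h2 u0).2, tap_0_1, tap_0_2, z_0_3, z_0_4] at key
                              exact mul_left_cancel₀ (T.w_pos u0).ne' (by linarith only [key])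
                            have r_1 : 1 * T.m u0 + -2 * T.m u1 + 1 * T.m u3 = 0 := by
                              have key := Groth.Agent.Helper6.NT.rowfun5 T u0 u1 u2 u3 u4 hinj u1
                              rw [Groth.Agent.Helper6.NT.symm' T u1 u0, taq_0_1, (h2 u1).2, z_1_2, tap_1_3, z_1_4] at key
                              exact mul_left_cancel₀ (T.w_pos u1).ne' (by linarith only [key])
                            have r_2 : 1 * T.m u0 + -2 * T.m u2 = 0 := by
                              have key := Groth.Agent.Helper6.NT.rowfun5 T u0 u1 u2 u3 u4 hinj u2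
                              rw [Groth.Agent.Helper6.NT.symm' T u2 u0, taq_0_2, Groth.Agent.Helper6.NT.symm' T u2 u1, z_1_2, (h2 u2).2, z_2_3, z_2_4] at key
                              exact mul_left_cancel₀ (T.w_pos u2).ne' (by linarith only [key])
                            have r_3 : 1 * T.m u1 + -2 * T.m u3 + 2 * T.m u4 = 0 := by
                              have key := Groth.Agent.Helper6.NT.rowfun5 T u0 u1 u2 u3 u4 hinj u3
                              rw [Groth.Agent.Helper6.NT.symm' T u3 u0, z_0_3, Groth.Agent.Helper6.NT.symm' T u3 u1, taq_1_3, Groth.Agent.Helper6.NT.symm' T u3 u2, z_2_3, (h2 u3).2, tap_3_4] at key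
                              exact mul_left_cancel₀ (T.w_pos u3).ne' (by linarith only [key])
                            have r_4 : 1 * T.m u3 + -2 * T.m u4 = 0 := by
                              have key := Groth.Agent.Helper6.NT.rowfun5 T u0 u1 u2 u3 u4 hinj u4
                              rw [Groth.Agent.Helper6.NT.symm' T u4 u0, z_0_4, Groth.Agent.Helper6.NT.symm' T u4 u1, z_1_4, Groth.Agent.Helper6.NT.symm' T u4 u2, z_2_4, Groth.Agent.Helper6.NT.symm' T u4 u3, taq_3_4, (h2 u4).2] at key
                              exact mul_left_cancel₀ (T.w_pos u4).ne' (by linarith only [key])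
                            have f0 : T.m u2 = T.m u2 := rfl
                            have f1 : T.m u0 = 2 * T.m u2 := by linarith only [r_0, r_1, r_2, r_3, r_4]
                            have f2 : T.m u1 = 2 * T.m u2 := by linarith only [r_0, r_1, r_2, r_3, r_4]
                            have f3 : T.m u3 = 2 * T.m u2 := by linarith only [r_0, r_1, r_2, r_3, r_4]
                            have f4 : T.m u4 = T.m u2 := by linarith only [r_0, r_1, r_2, r_3, r_4]
                            have f5 : T.w u2 = 2 * T.w u0 := by linarith only [tw_0_1, tw_0_2, tw_1_3, tw_3_4]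
                            have f6 : T.w u0 = T.w u0 := rfl
                            have f7 : T.w u1 = T.w u0 := by linarith only [tw_0_1, tw_0_2, tw_1_3, tw_3_4]
                            have f8 : T.w u3 = T.w u0 := by linarith only [tw_0_1, tw_0_2, tw_1_3, tw_3_4]
                            have f9 : T.w u4 = 2 * T.w u0 := by linarith only [tw_0_1, tw_0_2, tw_1_3, tw_3_4]
                            have f10 : T.a u2 u2 = -4 * T.w u0 := by have := (h2 u2).2; linarith only [this, tw_0_1, tw_0_2, tw_1_3, tw_3_4]
                            have f11 : T.a u2 u0 = 2 * T.w u0 := by rw [Groth.Agent.Helper6.NT.symm' T u2 u0]; linarith only [tap_0_2, tw_0_1, tw_0_2, tw_1_3, tw_3_4]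
                            have f12 : T.a u2 u1 = 0 := by rw [Groth.Agent.Helper6.NT.symm' T u2 u1]; exact z_1_2
                            have f13 : T.a u2 u3 = 0 := by exact z_2_3
                            have f14 : T.a u2 u4 = 0 := by exact z_2_4
                            have f15 : T.a u0 u0 = -2 * T.w u0 := by have := (h2 u0).2; linarith only [this, tw_0_1, tw_0_2, tw_1_3, tw_3_4]
                            have f16 : T.a u0 u1 = T.w u0 := by linarith only [tap_0_1, tw_0_1, tw_0_2, tw_1_3, tw_3_4]
                            have f17 : T.a u0 u3 = 0 := by exact z_0_3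
                            have f18 : T.a u0 u4 = 0 := by exact z_0_4
                            have f19 : T.a u1 u1 = -2 * T.w u0 := by have := (h2 u1).2; linarith only [this, tw_0_1, tw_0_2, tw_1_3, tw_3_4]
                            have f20 : T.a u1 u3 = T.w u0 := by linarith only [tap_1_3, tw_0_1, tw_0_2, tw_1_3, tw_3_4]
                            have f21 : T.a u1 u4 = 0 := by exact z_1_4
                            have f22 : T.a u3 u3 = -2 * T.w u0 := by have := (h2 u3).2; linarith only [this, tw_0_1, tw_0_2, tw_1_3, tw_3_4]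
                            have f23 : T.a u3 u4 = 2 * T.w u0 := by linarith only [tap_3_4, tw_0_1, tw_0_2, tw_1_3, tw_3_4]
                            have f24 : T.a u4 u4 = -4 * T.w u0 := by have := (h2 u4).2; linarith only [this, tw_0_1, tw_0_2, tw_1_3, tw_3_4]
                            have hsig := Groth.Agent.Helper6.NT.inj5 u2 u0 u1 u3 u4 hn_2_0.symm hn_2_1.symm hn_1_0 hn_3_2 hn_3_0 hn_3_1 hn_4_2 hn_4_0 hn_4_1 hn_4_3
                            exact ⟨Equiv.ofBijective _ (Finite.injective_iff_bijective.1 hsig), T.m u2, T.w u0, Or.inr (Or.inr (Or.inr (Or.inr (Or.inr (Or.inl ⟨f0, f1, f2, f3, f4, f5, f6, f7, f8, f9, f10, f11, f12, f13, f14, f15, f16, f17, f18, f19, f20, f21, f22, f23, f24⟩)))))⟩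
                          · -- (3,4) Dm
                            have hinj := Groth.Agent.Helper6.NT.inj5 u0 u1 u2 u3 u4 hn_1_0 hn_2_0 hn_2_1 hn_3_0 hn_3_1 hn_3_2 hn_4_0 hn_4_1 hn_4_2 hn_4_3
                            have r_0 : -2 * T.m u0 + 1 * T.m u1 + 2 * T.m u2 = 0 := by
                              have key := Groth.Agent.Helper6.NT.rowfun5 T u0 u1 u2 u3 u4 hinj u0
                              rw [(h2 u0).2, tap_0_1, tap_0_2, z_0_3, z_0_4] at key
                              exact mul_left_cancel₀ (T.w_pos u0).ne' (by linarith only [key])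
                            have r_1 : 1 * T.m u0 + -2 * T.m u1 + 1 * T.m u3 = 0 := by
                              have key := Groth.Agent.Helper6.NT.rowfun5 T u0 u1 u2 u3 u4 hinj u1
                              rw [Groth.Agent.Helper6.NT.symm' T u1 u0, taq_0_1, (h2 u1).2, z_1_2, tap_1_3, z_1_4] at key
                              exact mul_left_cancel₀ (T.w_pos u1).ne' (by linarith only [key])
                            have r_2 : 1 * T.m u0 + -2 * T.m u2 = 0 := by
                              have key := Groth.Agent.Helper6.NT.rowfun5 T u0 u1 u2 u3 u4 hinj u2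
                              rw [Groth.Agent.Helper6.NT.symm' T u2 u0, taq_0_2, Groth.Agent.Helper6.NT.symm' T u2 u1, z_1_2, (h2 u2).2, z_2_3, z_2_4] at key
                              exact mul_left_cancel₀ (T.w_pos u2).ne' (by linarith only [key])
                            have r_3 : 1 * T.m u1 + -2 * T.m u3 + 1 * T.m u4 = 0 := by
                              have key := Groth.Agent.Helper6.NT.rowfun5 T u0 u1 u2 u3 u4 hinj u3
                              rw [Groth.Agent.Helper6.NT.symm' T u3 u0, z_0_3, Groth.Agent.Helper6.NT.symm' T u3 u1, taq_1_3, Groth.Agent.Helper6.NT.symm' T u3 u2, z_2_3, (h2 u3).2, tap_3_4] at key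
                              exact mul_left_cancel₀ (T.w_pos u3).ne' (by linarith only [key])
                            have r_4 : 2 * T.m u3 + -2 * T.m u4 = 0 := by
                              have key := Groth.Agent.Helper6.NT.rowfun5 T u0 u1 u2 u3 u4 hinj u4
                              rw [Groth.Agent.Helper6.NT.symm' T u4 u0, z_0_4, Groth.Agent.Helper6.NT.symm' T u4 u1, z_1_4, Groth.Agent.Helper6.NT.symm' T u4 u2, z_2_4, Groth.Agent.Helper6.NT.symm' T u4 u3, taq_3_4, (h2 u4).2] at key
                              exact mul_left_cancel₀ (T.w_pos u4).ne' (by linarith only [key])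
                            have f0 : T.m u4 = 2 * T.m u2 := by linarith only [r_0, r_1, r_2, r_3, r_4]
                            have f1 : T.m u3 = 2 * T.m u2 := by linarith only [r_0, r_1, r_2, r_3, r_4]
                            have f2 : T.m u1 = 2 * T.m u2 := by linarith only [r_0, r_1, r_2, r_3, r_4]
                            have f3 : T.m u0 = 2 * T.m u2 := by linarith only [r_0, r_1, r_2, r_3, r_4]
                            have f4 : T.m u2 = T.m u2 := rfl
                            have f5 : T.w u4 = T.w u4 := rfl
                            have f6 : T.w u3 = 2 * T.w u4 := by linarith only [tw_0_1, tw_0_2, tw_1_3, tw_3_4]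
                            have f7 : T.w u1 = 2 * T.w u4 := by linarith only [tw_0_1, tw_0_2, tw_1_3, tw_3_4]
                            have f8 : T.w u0 = 2 * T.w u4 := by linarith only [tw_0_1, tw_0_2, tw_1_3, tw_3_4]
                            have f9 : T.w u2 = 4 * T.w u4 := by linarith only [tw_0_1, tw_0_2, tw_1_3, tw_3_4]
                            have f10 : T.a u4 u4 = -2 * T.w u4 := by have := (h2 u4).2; linarith only [this, tw_0_1, tw_0_2, tw_1_3, tw_3_4]
                            have f11 : T.a u4 u3 = 2 * T.w u4 := by rw [Groth.Agent.Helper6.NT.symm' T u4 u3]; linarith only [tap_3_4, tw_0_1, tw_0_2, tw_1_3, tw_3_4]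
                            have f12 : T.a u4 u1 = 0 := by rw [Groth.Agent.Helper6.NT.symm' T u4 u1]; exact z_1_4
                            have f13 : T.a u4 u0 = 0 := by rw [Groth.Agent.Helper6.NT.symm' T u4 u0]; exact z_0_4
                            have f14 : T.a u4 u2 = 0 := by rw [Groth.Agent.Helper6.NT.symm' T u4 u2]; exact z_2_4
                            have f15 : T.a u3 u3 = -4 * T.w u4 := by have := (h2 u3).2; linarith only [this, tw_0_1, tw_0_2, tw_1_3, tw_3_4]
                            have f16 : T.a u3 u1 = 2 * T.w u4 := by rw [Groth.Agent.Helper6.NT.symm' T u3 u1]; linarith only [tap_1_3, tw_0_1, tw_0_2, tw_1_3, tw_3_4]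
                            have f17 : T.a u3 u0 = 0 := by rw [Groth.Agent.Helper6.NT.symm' T u3 u0]; exact z_0_3
                            have f18 : T.a u3 u2 = 0 := by rw [Groth.Agent.Helper6.NT.symm' T u3 u2]; exact z_2_3
                            have f19 : T.a u1 u1 = -4 * T.w u4 := by have := (h2 u1).2; linarith only [this, tw_0_1, tw_0_2, tw_1_3, tw_3_4]
                            have f20 : T.a u1 u0 = 2 * T.w u4 := by rw [Groth.Agent.Helper6.NT.symm' T u1 u0]; linarith only [tap_0_1, tw_0_1, tw_0_2, tw_1_3, tw_3_4]
                            have f21 : T.a u1 u2 = 0 := by exact z_1_2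
                            have f22 : T.a u0 u0 = -4 * T.w u4 := by have := (h2 u0).2; linarith only [this, tw_0_1, tw_0_2, tw_1_3, tw_3_4]
                            have f23 : T.a u0 u2 = 4 * T.w u4 := by linarith only [tap_0_2, tw_0_1, tw_0_2, tw_1_3, tw_3_4]
                            have f24 : T.a u2 u2 = -8 * T.w u4 := by have := (h2 u2).2; linarith only [this, tw_0_1, tw_0_2, tw_1_3, tw_3_4]
                            have hsig := Groth.Agent.Helper6.NT.inj5 u4 u3 u1 u0 u2 hn_4_3.symm hn_4_1.symm hn_3_1.symm hn_4_0.symm hn_3_0.symm hn_1_0.symm hn_4_2.symm hn_3_2.symm hn_2_1 hn_2_0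
                            exact ⟨Equiv.ofBijective _ (Finite.injective_iff_bijective.1 hsig), T.m u2, T.w u4, Or.inr (Or.inr (Or.inr (Or.inl ⟨f0, f1, f2, f3, f4, f5, f6, f7, f8, f9, f10, f11, f12, f13, f14, f15, f16, f17, f18, f19, f20, f21, f22, f23, f24⟩)))⟩
                          · -- (3,4) Tp
                            exfalso
                            have key := Groth.Agent.Helper6.NT.negfun3 T h2 u1 u3 u4 (by norm_num) 1 2 1 (by norm_num) (by norm_num)
                            linarith only [key, tap_1_3, taq_1_3, z_1_4, tap_3_4, taq_3_4, T.w_pos u1, T.w_pos u3, T.w_pos u4]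
                          · -- (3,4) Tm
                            exfalso
                            have key := Groth.Agent.Helper6.NT.negfun3 T h2 u1 u3 u4 (by norm_num) 1 2 3 (by norm_num) (by norm_num)
                            linarith only [key, tap_1_3, taq_1_3, z_1_4, tap_3_4, taq_3_4, T.w_pos u1, T.w_pos u3, T.w_pos u4]
                        · push Not at hx
                          have cl_3 := hx
                          clear hx
                          exfalso
                          refine Groth.Agent.Helper6.NT.closed_contra T [u0, u1, u2, u3] (by simp) (by simp) ?_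
                          intro i hi j hj
                          simp only [List.mem_cons, List.not_mem_nil, or_false, not_or] at hi hj
                          rcases hi with rfl | rfl | rfl | rfl
                          · exact cl_0 j ⟨hj.1, hj.2.1, hj.2.2.1⟩
                          · exact cl_1 j ⟨hj.1, hj.2.1, hj.2.2.1, hj.2.2.2⟩
                          · exact cl_2 j ⟨hj.1, hj.2.1, hj.2.2.1, hj.2.2.2⟩
                          · exact cl_3 j ⟨hj.1, hj.2.1, hj.2.2.1, hj.2.2.2⟩
                  · -- (2,3) nonzero
                    obtain ⟨lbp_2_3, lbq_2_3⟩ := Groth.Agent.Helper6.NT.lb T u2 u3 hn_3_2.symm nz_2_3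
                    exfalso
                    have key := Groth.Agent.Helper6.NT.negfun4 T h2 u0 u1 u2 u3 (by norm_num) 3 2 2 2 (by norm_num) (by norm_num)
                    linarith only [key, tap_0_1, taq_0_1, tap_0_2, taq_0_2, z_0_3, z_1_2, tap_1_3, taq_1_3, lbp_2_3, lbq_2_3, T.w_pos u0, T.w_pos u1, T.w_pos u2, T.w_pos u3]
                · -- (1,3) Dp
                  exfalso
                  have key := Groth.Agent.Helper6.NT.negfun4 T h2 u0 u1 u2 u3 (by norm_num) 2 2 1 1 (by norm_num) (by norm_num)
                  linarith only [key, tap_0_1, taq_0_1, tap_0_2, taq_0_2, z_0_3, z_1_2, tap_1_3, taq_1_3, T.offDiag_nonneg u2 u3 hn_3_2.symm, T.w_pos u0, T.w_pos u1, T.w_pos u2, T.w_pos u3]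
                · -- (1,3) Dm
                  exfalso
                  have key := Groth.Agent.Helper6.NT.negfun4 T h2 u0 u1 u2 u3 (by norm_num) 2 2 1 2 (by norm_num) (by norm_num)
                  linarith only [key, tap_0_1, taq_0_1, tap_0_2, taq_0_2, z_0_3, z_1_2, tap_1_3, taq_1_3, T.offDiag_nonneg u2 u3 hn_3_2.symm, T.w_pos u0, T.w_pos u1, T.w_pos u2, T.w_pos u3]
                · -- (1,3) Tp
                  exfalso
                  have key := Groth.Agent.Helper6.NT.negfun3 T h2 u0 u1 u3 (by norm_num) 1 2 1 (by norm_num) (by norm_num)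
                  linarith only [key, tap_0_1, taq_0_1, z_0_3, tap_1_3, taq_1_3, T.w_pos u0, T.w_pos u1, T.w_pos u3]
                · -- (1,3) Tm
                  exfalso
                  have key := Groth.Agent.Helper6.NT.negfun3 T h2 u0 u1 u3 (by norm_num) 1 2 3 (by norm_num) (by norm_num)
                  linarith only [key, tap_0_1, taq_0_1, z_0_3, tap_1_3, taq_1_3, T.w_pos u0, T.w_pos u1, T.w_pos u3]
              · push Not at hx
                have cl_1 := hx
                clear hx
                by_cases hx : ∃ j, (j ≠ u0 ∧ j ≠ u1 ∧ j ≠ u2) ∧ T.a u2 j ≠ 0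
                · obtain ⟨u3, ⟨hn_3_0, hn_3_1, hn_3_2⟩, e_2_3⟩ := hx
                  have z_0_3 : T.a u0 u3 = 0 := cl_0 u3 ⟨hn_3_0, hn_3_1, hn_3_2⟩
                  have z_1_3 : T.a u1 u3 = 0 := cl_1 u3 ⟨hn_3_0, hn_3_1, hn_3_2⟩
                  rcases Groth.Agent.Helper6.NT.edge5 T h2 (by norm_num) u2 u3 hn_3_2.symm e_2_3 with ⟨tw_2_3, tap_2_3, taq_2_3⟩ | ⟨tw_2_3, tap_2_3, taq_2_3⟩ | ⟨tw_2_3, tap_2_3, taq_2_3⟩ | ⟨tw_2_3, tap_2_3, taq_2_3⟩ | ⟨tw_2_3, tap_2_3, taq_2_3⟩
                  · -- (2,3) S
                    by_cases hx : ∃ j, (j ≠ u0 ∧ j ≠ u1 ∧ j ≠ u2 ∧ j ≠ u3) ∧ T.a u2 j ≠ 0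
                    · obtain ⟨u4, ⟨hn_4_0, hn_4_1, hn_4_2, hn_4_3⟩, e_2_4⟩ := hx
                      have z_0_4 : T.a u0 u4 = 0 := cl_0 u4 ⟨hn_4_0, hn_4_1, hn_4_2⟩
                      have z_1_4 : T.a u1 u4 = 0 := cl_1 u4 ⟨hn_4_0, hn_4_1, hn_4_2⟩
                      rcases Groth.Agent.Helper6.NT.edge5 T h2 (by norm_num) u2 u4 hn_4_2.symm e_2_4 with ⟨tw_2_4, tap_2_4, taq_2_4⟩ | ⟨tw_2_4, tap_2_4, taq_2_4⟩ | ⟨tw_2_4, tap_2_4, taq_2_4⟩ | ⟨tw_2_4, tap_2_4, taq_2_4⟩ | ⟨tw_2_4, tap_2_4, taq_2_4⟩
                      · -- (2,4) S
                        exfalso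
                        have key := Groth.Agent.Helper6.NT.negfun4 T h2 u0 u2 u3 u4 (by norm_num) 2 2 1 1 (by norm_num) (by norm_num)
                        linarith only [key, tap_0_2, taq_0_2, z_0_3, z_0_4, tap_2_3, taq_2_3, tap_2_4, taq_2_4, T.offDiag_nonneg u3 u4 hn_4_3.symm, T.w_pos u0, T.w_pos u2, T.w_pos u3, T.w_pos u4]
                      · -- (2,4) Dp
                        exfalso
                        have key := Groth.Agent.Helper6.NT.negfun3 T h2 u0 u2 u4 (by norm_num) 2 2 1 (by norm_num) (by norm_num)
                        linarith only [key, tap_0_2, taq_0_2, z_0_4, tap_2_4, taq_2_4, T.w_pos u0, T.w_pos u2, T.w_pos u4]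
                      · -- (2,4) Dm
                        exfalso
                        have key := Groth.Agent.Helper6.NT.negfun3 T h2 u0 u2 u4 (by norm_num) 1 1 1 (by norm_num) (by norm_num)
                        linarith only [key, tap_0_2, taq_0_2, z_0_4, tap_2_4, taq_2_4, T.w_pos u0, T.w_pos u2, T.w_pos u4]
                      · -- (2,4) Tp
                        exfalso
                        have key := Groth.Agent.Helper6.NT.negfun3 T h2 u2 u3 u4 (by norm_num) 2 1 1 (by norm_num) (by norm_num)
                        linarith only [key, tap_2_3, taq_2_3, tap_2_4, taq_2_4, T.offDiag_nonneg u3 u4 hn_4_3.symm, T.w_pos u2, T.w_pos u3, T.w_pos u4]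
                      · -- (2,4) Tm
                        exfalso
                        have key := Groth.Agent.Helper6.NT.negfun3 T h2 u2 u3 u4 (by norm_num) 2 1 3 (by norm_num) (by norm_num)
                        linarith only [key, tap_2_3, taq_2_3, tap_2_4, taq_2_4, T.offDiag_nonneg u3 u4 hn_4_3.symm, T.w_pos u2, T.w_pos u3, T.w_pos u4]
                    · push Not at hx
                      have cl_2 := hx
                      clear hx
                      by_cases hx : ∃ j, (j ≠ u0 ∧ j ≠ u1 ∧ j ≠ u2 ∧ j ≠ u3) ∧ T.a u3 j ≠ 0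
                      · obtain ⟨u4, ⟨hn_4_0, hn_4_1, hn_4_2, hn_4_3⟩, e_3_4⟩ := hx
                        have z_0_4 : T.a u0 u4 = 0 := cl_0 u4 ⟨hn_4_0, hn_4_1, hn_4_2⟩
                        have z_1_4 : T.a u1 u4 = 0 := cl_1 u4 ⟨hn_4_0, hn_4_1, hn_4_2⟩
                        have z_2_4 : T.a u2 u4 = 0 := cl_2 u4 ⟨hn_4_0, hn_4_1, hn_4_2, hn_4_3⟩
                        rcases Groth.Agent.Helper6.NT.edge5 T h2 (by norm_num) u3 u4 hn_4_3.symm e_3_4 with ⟨tw_3_4, tap_3_4, taq_3_4⟩ | ⟨tw_3_4, tap_3_4, taq_3_4⟩ | ⟨tw_3_4, tap_3_4, taq_3_4⟩ | ⟨tw_3_4, tap_3_4, taq_3_4⟩ | ⟨tw_3_4, tap_3_4, taq_3_4⟩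
                        · -- (3,4) S
                          have hinj := Groth.Agent.Helper6.NT.inj5 u0 u1 u2 u3 u4 hn_1_0 hn_2_0 hn_2_1 hn_3_0 hn_3_1 hn_3_2 hn_4_0 hn_4_1 hn_4_2 hn_4_3
                          have r_0 : -2 * T.m u0 + 1 * T.m u1 + 2 * T.m u2 = 0 := by
                            have key := Groth.Agent.Helper6.NT.rowfun5 T u0 u1 u2 u3 u4 hinj u0
                            rw [(h2 u0).2, tap_0_1, tap_0_2, z_0_3, z_0_4] at key
                            exact mul_left_cancel₀ (T.w_pos u0).ne' (by linarith only [key])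
                          have r_1 : 1 * T.m u0 + -2 * T.m u1 = 0 := by
                            have key := Groth.Agent.Helper6.NT.rowfun5 T u0 u1 u2 u3 u4 hinj u1
                            rw [Groth.Agent.Helper6.NT.symm' T u1 u0, taq_0_1, (h2 u1).2, z_1_2, z_1_3, z_1_4] at key
                            exact mul_left_cancel₀ (T.w_pos u1).ne' (by linarith only [key])
                          have r_2 : 1 * T.m u0 + -2 * T.m u2 + 1 * T.m u3 = 0 := by
                            have key := Groth.Agent.Helper6.NT.rowfun5 T u0 u1 u2 u3 u4 hinj u2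
                            rw [Groth.Agent.Helper6.NT.symm' T u2 u0, taq_0_2, Groth.Agent.Helper6.NT.symm' T u2 u1, z_1_2, (h2 u2).2, tap_2_3, z_2_4] at key
                            exact mul_left_cancel₀ (T.w_pos u2).ne' (by linarith only [key])
                          have r_3 : 1 * T.m u2 + -2 * T.m u3 + 1 * T.m u4 = 0 := by
                            have key := Groth.Agent.Helper6.NT.rowfun5 T u0 u1 u2 u3 u4 hinj u3
                            rw [Groth.Agent.Helper6.NT.symm' T u3 u0, z_0_3, Groth.Agent.Helper6.NT.symm' T u3 u1, z_1_3, Groth.Agent.Helper6.NT.symm' T u3 u2, taq_2_3, (h2 u3).2, tap_3_4] at key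
                            exact mul_left_cancel₀ (T.w_pos u3).ne' (by linarith only [key])
                          have r_4 : 1 * T.m u3 + -2 * T.m u4 = 0 := by
                            have key := Groth.Agent.Helper6.NT.rowfun5 T u0 u1 u2 u3 u4 hinj u4
                            rw [Groth.Agent.Helper6.NT.symm' T u4 u0, z_0_4, Groth.Agent.Helper6.NT.symm' T u4 u1, z_1_4, Groth.Agent.Helper6.NT.symm' T u4 u2, z_2_4, Groth.Agent.Helper6.NT.symm' T u4 u3, taq_3_4, (h2 u4).2] at key
                            exact mul_left_cancel₀ (T.w_pos u4).ne' (by linarith only [key])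
                          have f0 : T.m u4 = T.m u4 := rfl
                          have f1 : T.m u3 = 2 * T.m u4 := by linarith only [r_0, r_1, r_2, r_3, r_4]
                          have f2 : T.m u2 = 3 * T.m u4 := by linarith only [r_0, r_1, r_2, r_3, r_4]
                          have f3 : T.m u0 = 4 * T.m u4 := by linarith only [r_0, r_1, r_2, r_3, r_4]
                          have f4 : T.m u1 = 2 * T.m u4 := by linarith only [r_0, r_1, r_2, r_3, r_4]
                          have f5 : T.w u4 = 2 * T.w u0 := by linarith only [tw_0_1, tw_0_2, tw_2_3, tw_3_4]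
                          have f6 : T.w u3 = 2 * T.w u0 := by linarith only [tw_0_1, tw_0_2, tw_2_3, tw_3_4]
                          have f7 : T.w u2 = 2 * T.w u0 := by linarith only [tw_0_1, tw_0_2, tw_2_3, tw_3_4]
                          have f8 : T.w u0 = T.w u0 := rfl
                          have f9 : T.w u1 = T.w u0 := by linarith only [tw_0_1, tw_0_2, tw_2_3, tw_3_4]
                          have f10 : T.a u4 u4 = -4 * T.w u0 := by have := (h2 u4).2; linarith only [this, tw_0_1, tw_0_2, tw_2_3, tw_3_4]
                          have f11 : T.a u4 u3 = 2 * T.w u0 := by rw [Groth.Agent.Helper6.NT.symm' T u4 u3]; linarith only [tap_3_4, tw_0_1, tw_0_2, tw_2_3, tw_3_4]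
                          have f12 : T.a u4 u2 = 0 := by rw [Groth.Agent.Helper6.NT.symm' T u4 u2]; exact z_2_4
                          have f13 : T.a u4 u0 = 0 := by rw [Groth.Agent.Helper6.NT.symm' T u4 u0]; exact z_0_4
                          have f14 : T.a u4 u1 = 0 := by rw [Groth.Agent.Helper6.NT.symm' T u4 u1]; exact z_1_4
                          have f15 : T.a u3 u3 = -4 * T.w u0 := by have := (h2 u3).2; linarith only [this, tw_0_1, tw_0_2, tw_2_3, tw_3_4]
                          have f16 : T.a u3 u2 = 2 * T.w u0 := by rw [Groth.Agent.Helper6.NT.symm' T u3 u2]; linarith only [tap_2_3, tw_0_1, tw_0_2, tw_2_3, tw_3_4]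
                          have f17 : T.a u3 u0 = 0 := by rw [Groth.Agent.Helper6.NT.symm' T u3 u0]; exact z_0_3
                          have f18 : T.a u3 u1 = 0 := by rw [Groth.Agent.Helper6.NT.symm' T u3 u1]; exact z_1_3
                          have f19 : T.a u2 u2 = -4 * T.w u0 := by have := (h2 u2).2; linarith only [this, tw_0_1, tw_0_2, tw_2_3, tw_3_4]
                          have f20 : T.a u2 u0 = 2 * T.w u0 := by rw [Groth.Agent.Helper6.NT.symm' T u2 u0]; linarith only [tap_0_2, tw_0_1, tw_0_2, tw_2_3, tw_3_4]
                          have f21 : T.a u2 u1 = 0 := by rw [Groth.Agent.Helper6.NT.symm' T u2 u1]; exact z_1_2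
                          have f22 : T.a u0 u0 = -2 * T.w u0 := by have := (h2 u0).2; linarith only [this, tw_0_1, tw_0_2, tw_2_3, tw_3_4]
                          have f23 : T.a u0 u1 = T.w u0 := by linarith only [tap_0_1, tw_0_1, tw_0_2, tw_2_3, tw_3_4]
                          have f24 : T.a u1 u1 = -2 * T.w u0 := by have := (h2 u1).2; linarith only [this, tw_0_1, tw_0_2, tw_2_3, tw_3_4]
                          have hsig := Groth.Agent.Helper6.NT.inj5 u4 u3 u2 u0 u1 hn_4_3.symm hn_4_2.symm hn_3_2.symm hn_4_0.symm hn_3_0.symm hn_2_0.symm hn_4_1.symm hn_3_1.symm hn_2_1.symm hn_1_0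
                          exact ⟨Equiv.ofBijective _ (Finite.injective_iff_bijective.1 hsig), T.m u4, T.w u0, Or.inr (Or.inr (Or.inl ⟨f0, f1, f2, f3, f4, f5, f6, f7, f8, f9, f10, f11, f12, f13, f14, f15, f16, f17, f18, f19, f20, f21, f22, f23, f24⟩))⟩
                        · -- (3,4) Dp
                          exfalso
                          have key := Groth.Agent.Helper6.NT.negfun4 T h2 u0 u2 u3 u4 (by norm_num) 2 2 2 1 (by norm_num) (by norm_num)
                          linarith only [key, tap_0_2, taq_0_2, z_0_3, z_0_4, tap_2_3, taq_2_3, z_2_4, tap_3_4, taq_3_4, T.w_pos u0, T.w_pos u2, T.w_pos u3, T.w_pos u4]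
                        · -- (3,4) Dm
                          exfalso
                          have key := Groth.Agent.Helper6.NT.negfun4 T h2 u0 u2 u3 u4 (by norm_num) 1 1 1 1 (by norm_num) (by norm_num)
                          linarith only [key, tap_0_2, taq_0_2, z_0_3, z_0_4, tap_2_3, taq_2_3, z_2_4, tap_3_4, taq_3_4, T.w_pos u0, T.w_pos u2, T.w_pos u3, T.w_pos u4]
                        · -- (3,4) Tp
                          exfalso
                          have key := Groth.Agent.Helper6.NT.negfun3 T h2 u2 u3 u4 (by norm_num) 1 2 1 (by norm_num) (by norm_num)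
                          linarith only [key, tap_2_3, taq_2_3, z_2_4, tap_3_4, taq_3_4, T.w_pos u2, T.w_pos u3, T.w_pos u4]
                        · -- (3,4) Tm
                          exfalso
                          have key := Groth.Agent.Helper6.NT.negfun3 T h2 u2 u3 u4 (by norm_num) 1 2 3 (by norm_num) (by norm_num)
                          linarith only [key, tap_2_3, taq_2_3, z_2_4, tap_3_4, taq_3_4, T.w_pos u2, T.w_pos u3, T.w_pos u4]
                      · push Not at hx
                        have cl_3 := hx
                        clear hx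
                        exfalso
                        refine Groth.Agent.Helper6.NT.closed_contra T [u0, u1, u2, u3] (by simp) (by simp) ?_
                        intro i hi j hj
                        simp only [List.mem_cons, List.not_mem_nil, or_false, not_or] at hi hj
                        rcases hi with rfl | rfl | rfl | rfl
                        · exact cl_0 j ⟨hj.1, hj.2.1, hj.2.2.1⟩
                        · exact cl_1 j ⟨hj.1, hj.2.1, hj.2.2.1⟩
                        · exact cl_2 j ⟨hj.1, hj.2.1, hj.2.2.1, hj.2.2.2⟩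
                        · exact cl_3 j ⟨hj.1, hj.2.1, hj.2.2.1, hj.2.2.2⟩
                  · -- (2,3) Dp
                    exfalso
                    have key := Groth.Agent.Helper6.NT.negfun3 T h2 u0 u2 u3 (by norm_num) 2 2 1 (by norm_num) (by norm_num)
                    linarith only [key, tap_0_2, taq_0_2, z_0_3, tap_2_3, taq_2_3, T.w_pos u0, T.w_pos u2, T.w_pos u3]
                  · -- (2,3) Dm
                    exfalso
                    have key := Groth.Agent.Helper6.NT.negfun3 T h2 u0 u2 u3 (by norm_num) 1 1 1 (by norm_num) (by norm_num)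
                    linarith only [key, tap_0_2, taq_0_2, z_0_3, tap_2_3, taq_2_3, T.w_pos u0, T.w_pos u2, T.w_pos u3]
                  · -- (2,3) Tp
                    exfalso
                    have key := Groth.Agent.Helper6.NT.negfun3 T h2 u0 u2 u3 (by norm_num) 2 2 1 (by norm_num) (by norm_num)
                    linarith only [key, tap_0_2, taq_0_2, z_0_3, tap_2_3, taq_2_3, T.w_pos u0, T.w_pos u2, T.w_pos u3]
                  · -- (2,3) Tm
                    exfalso
                    have key := Groth.Agent.Helper6.NT.negfun3 T h2 u0 u2 u3 (by norm_num) 2 2 3 (by norm_num) (by norm_num)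
                    linarith only [key, tap_0_2, taq_0_2, z_0_3, tap_2_3, taq_2_3, T.w_pos u0, T.w_pos u2, T.w_pos u3]
                · push Not at hx
                  have cl_2 := hx
                  clear hx
                  exfalso
                  refine Groth.Agent.Helper6.NT.closed_contra T [u0, u1, u2] (by simp) (by simp) ?_
                  intro i hi j hj
                  simp only [List.mem_cons, List.not_mem_nil, or_false, not_or] at hi hj
                  rcases hi with rfl | rfl | rfl
                  · exact cl_0 j ⟨hj.1, hj.2.1, hj.2.2⟩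
                  · exact cl_1 j ⟨hj.1, hj.2.1, hj.2.2⟩
                  · exact cl_2 j ⟨hj.1, hj.2.1, hj.2.2⟩
          · -- (1,2) nonzero
            obtain ⟨lbp_1_2, lbq_1_2⟩ := Groth.Agent.Helper6.NT.lb T u1 u2 hn_2_1.symm nz_1_2
            exfalso
            have key := Groth.Agent.Helper6.NT.negfun3 T h2 u0 u1 u2 (by norm_num) 1 1 1 (by norm_num) (by norm_num)
            linarith only [key, tap_0_1, taq_0_1, tap_0_2, taq_0_2, lbp_1_2, lbq_1_2, T.w_pos u0, T.w_pos u1, T.w_pos u2]
        · -- (0,2) Dm
          rcases eq_or_ne (T.a u1 u2) 0 with z_1_2 | nz_1_2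
          · -- (1,2) zero
            by_cases hx : ∃ j, (j ≠ u0 ∧ j ≠ u1 ∧ j ≠ u2) ∧ T.a u0 j ≠ 0
            · obtain ⟨u3, ⟨hn_3_0, hn_3_1, hn_3_2⟩, e_0_3⟩ := hx
              rcases Groth.Agent.Helper6.NT.edge5 T h2 (by norm_num) u0 u3 hn_3_0.symm e_0_3 with ⟨tw_0_3, tap_0_3, taq_0_3⟩ | ⟨tw_0_3, tap_0_3, taq_0_3⟩ | ⟨tw_0_3, tap_0_3, taq_0_3⟩ | ⟨tw_0_3, tap_0_3, taq_0_3⟩ | ⟨tw_0_3, tap_0_3, taq_0_3⟩
              · -- (0,3) S
                exfalso
                have key := Groth.Agent.Helper6.NT.negfun4 T h2 u0 u1 u2 u3 (by norm_num) 2 1 2 1 (by norm_num) (by norm_num)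
                linarith only [key, tap_0_1, taq_0_1, tap_0_2, taq_0_2, tap_0_3, taq_0_3, z_1_2, T.offDiag_nonneg u1 u3 hn_3_1.symm, T.offDiag_nonneg u2 u3 hn_3_2.symm, T.w_pos u0, T.w_pos u1, T.w_pos u2, T.w_pos u3]
              · -- (0,3) Dp
                exfalso
                have key := Groth.Agent.Helper6.NT.negfun3 T h2 u0 u2 u3 (by norm_num) 2 2 1 (by norm_num) (by norm_num)
                linarith only [key, tap_0_2, taq_0_2, tap_0_3, taq_0_3, T.offDiag_nonneg u2 u3 hn_3_2.symm, T.w_pos u0, T.w_pos u2, T.w_pos u3]
              · -- (0,3) Dm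
                exfalso
                have key := Groth.Agent.Helper6.NT.negfun3 T h2 u0 u2 u3 (by norm_num) 1 1 1 (by norm_num) (by norm_num)
                linarith only [key, tap_0_2, taq_0_2, tap_0_3, taq_0_3, T.offDiag_nonneg u2 u3 hn_3_2.symm, T.w_pos u0, T.w_pos u2, T.w_pos u3]
              · -- (0,3) Tp
                exfalso
                have key := Groth.Agent.Helper6.NT.negfun3 T h2 u0 u2 u3 (by norm_num) 2 2 1 (by norm_num) (by norm_num)
                linarith only [key, tap_0_2, taq_0_2, tap_0_3, taq_0_3, T.offDiag_nonneg u2 u3 hn_3_2.symm, T.w_pos u0, T.w_pos u2, T.w_pos u3]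
              · -- (0,3) Tm
                exfalso
                have key := Groth.Agent.Helper6.NT.negfun3 T h2 u0 u2 u3 (by norm_num) 2 2 3 (by norm_num) (by norm_num)
                linarith only [key, tap_0_2, taq_0_2, tap_0_3, taq_0_3, T.offDiag_nonneg u2 u3 hn_3_2.symm, T.w_pos u0, T.w_pos u2, T.w_pos u3]
            · push Not at hx
              have cl_0 := hx
              clear hx
              by_cases hx : ∃ j, (j ≠ u0 ∧ j ≠ u1 ∧ j ≠ u2) ∧ T.a u1 j ≠ 0
              · obtain ⟨u3, ⟨hn_3_0, hn_3_1, hn_3_2⟩, e_1_3⟩ := hx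
                have z_0_3 : T.a u0 u3 = 0 := cl_0 u3 ⟨hn_3_0, hn_3_1, hn_3_2⟩
                rcases Groth.Agent.Helper6.NT.edge5 T h2 (by norm_num) u1 u3 hn_3_1.symm e_1_3 with ⟨tw_1_3, tap_1_3, taq_1_3⟩ | ⟨tw_1_3, tap_1_3, taq_1_3⟩ | ⟨tw_1_3, tap_1_3, taq_1_3⟩ | ⟨tw_1_3, tap_1_3, taq_1_3⟩ | ⟨tw_1_3, tap_1_3, taq_1_3⟩
                · -- (1,3) S
                  rcases eq_or_ne (T.a u2 u3) 0 with z_2_3 | nz_2_3
                  · -- (2,3) zero
                    by_cases hx : ∃ j, (j ≠ u0 ∧ j ≠ u1 ∧ j ≠ u2 ∧ j ≠ u3) ∧ T.a u1 j ≠ 0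
                    · obtain ⟨u4, ⟨hn_4_0, hn_4_1, hn_4_2, hn_4_3⟩, e_1_4⟩ := hx
                      have z_0_4 : T.a u0 u4 = 0 := cl_0 u4 ⟨hn_4_0, hn_4_1, hn_4_2⟩
                      rcases Groth.Agent.Helper6.NT.edge5 T h2 (by norm_num) u1 u4 hn_4_1.symm e_1_4 with ⟨tw_1_4, tap_1_4, taq_1_4⟩ | ⟨tw_1_4, tap_1_4, taq_1_4⟩ | ⟨tw_1_4, tap_1_4, taq_1_4⟩ | ⟨tw_1_4, tap_1_4, taq_1_4⟩ | ⟨tw_1_4, tap_1_4, taq_1_4⟩
                      · -- (1,4) S
                        rcases eq_or_ne (T.a u2 u4) 0 with z_2_4 | nz_2_4
                        · -- (2,4) zero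
                          rcases eq_or_ne (T.a u3 u4) 0 with z_3_4 | nz_3_4
                          · -- (3,4) zero
                            have hinj := Groth.Agent.Helper6.NT.inj5 u0 u1 u2 u3 u4 hn_1_0 hn_2_0 hn_2_1 hn_3_0 hn_3_1 hn_3_2 hn_4_0 hn_4_1 hn_4_2 hn_4_3
                            have r_0 : -2 * T.m u0 + 1 * T.m u1 + 1 * T.m u2 = 0 := by
                              have key := Groth.Agent.Helper6.NT.rowfun5 T u0 u1 u2 u3 u4 hinj u0
                              rw [(h2 u0).2, tap_0_1, tap_0_2, z_0_3, z_0_4] at key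
                              exact mul_left_cancel₀ (T.w_pos u0).ne' (by linarith only [key])
                            have r_1 : 1 * T.m u0 + -2 * T.m u1 + 1 * T.m u3 + 1 * T.m u4 = 0 := by
                              have key := Groth.Agent.Helper6.NT.rowfun5 T u0 u1 u2 u3 u4 hinj u1
                              rw [Groth.Agent.Helper6.NT.symm' T u1 u0, taq_0_1, (h2 u1).2, z_1_2, tap_1_3, tap_1_4] at key
                              exact mul_left_cancel₀ (T.w_pos u1).ne' (by linarith only [key])
                            have r_2 : 2 * T.m u0 + -2 * T.m u2 = 0 := by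
                              have key := Groth.Agent.Helper6.NT.rowfun5 T u0 u1 u2 u3 u4 hinj u2
                              rw [Groth.Agent.Helper6.NT.symm' T u2 u0, taq_0_2, Groth.Agent.Helper6.NT.symm' T u2 u1, z_1_2, (h2 u2).2, z_2_3, z_2_4] at key
                              exact mul_left_cancel₀ (T.w_pos u2).ne' (by linarith only [key])
                            have r_3 : 1 * T.m u1 + -2 * T.m u3 = 0 := by
                              have key := Groth.Agent.Helper6.NT.rowfun5 T u0 u1 u2 u3 u4 hinj u3
                              rw [Groth.Agent.Helper6.NT.symm' T u3 u0, z_0_3, Groth.Agent.Helper6.NT.symm' T u3 u1, taq_1_3, Groth.Agent.Helper6.NT.symm' T u3 u2, z_2_3, (h2 u3).2, z_3_4] at key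
                              exact mul_left_cancel₀ (T.w_pos u3).ne' (by linarith only [key])
                            have r_4 : 1 * T.m u1 + -2 * T.m u4 = 0 := by
                              have key := Groth.Agent.Helper6.NT.rowfun5 T u0 u1 u2 u3 u4 hinj u4
                              rw [Groth.Agent.Helper6.NT.symm' T u4 u0, z_0_4, Groth.Agent.Helper6.NT.symm' T u4 u1, taq_1_4, Groth.Agent.Helper6.NT.symm' T u4 u2, z_2_4, Groth.Agent.Helper6.NT.symm' T u4 u3, z_3_4, (h2 u4).2] at key
                              exact mul_left_cancel₀ (T.w_pos u4).ne' (by linarith only [key])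
                            have f0 : T.m u2 = 2 * T.m u3 := by linarith only [r_0, r_1, r_2, r_3, r_4]
                            have f1 : T.m u0 = 2 * T.m u3 := by linarith only [r_0, r_1, r_2, r_3, r_4]
                            have f2 : T.m u1 = 2 * T.m u3 := by linarith only [r_0, r_1, r_2, r_3, r_4]
                            have f3 : T.m u3 = T.m u3 := rfl
                            have f4 : T.m u4 = T.m u3 := by linarith only [r_0, r_1, r_2, r_3, r_4]
                            have f5 : T.w u2 = T.w u2 := rfl
                            have f6 : T.w u0 = 2 * T.w u2 := by linarith only [tw_0_1, tw_0_2, tw_1_3, tw_1_4]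
                            have f7 : T.w u1 = 2 * T.w u2 := by linarith only [tw_0_1, tw_0_2, tw_1_3, tw_1_4]
                            have f8 : T.w u3 = 2 * T.w u2 := by linarith only [tw_0_1, tw_0_2, tw_1_3, tw_1_4]
                            have f9 : T.w u4 = 2 * T.w u2 := by linarith only [tw_0_1, tw_0_2, tw_1_3, tw_1_4]
                            have f10 : T.a u2 u2 = -2 * T.w u2 := by have := (h2 u2).2; linarith only [this, tw_0_1, tw_0_2, tw_1_3, tw_1_4]
                            have f11 : T.a u2 u0 = 2 * T.w u2 := by rw [Groth.Agent.Helper6.NT.symm' T u2 u0]; linarith only [tap_0_2, tw_0_1, tw_0_2, tw_1_3, tw_1_4]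
                            have f12 : T.a u2 u1 = 0 := by rw [Groth.Agent.Helper6.NT.symm' T u2 u1]; exact z_1_2
                            have f13 : T.a u2 u3 = 0 := by exact z_2_3
                            have f14 : T.a u2 u4 = 0 := by exact z_2_4
                            have f15 : T.a u0 u0 = -4 * T.w u2 := by have := (h2 u0).2; linarith only [this, tw_0_1, tw_0_2, tw_1_3, tw_1_4]
                            have f16 : T.a u0 u1 = 2 * T.w u2 := by linarith only [tap_0_1, tw_0_1, tw_0_2, tw_1_3, tw_1_4]
                            have f17 : T.a u0 u3 = 0 := by exact z_0_3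
                            have f18 : T.a u0 u4 = 0 := by exact z_0_4
                            have f19 : T.a u1 u1 = -4 * T.w u2 := by have := (h2 u1).2; linarith only [this, tw_0_1, tw_0_2, tw_1_3, tw_1_4]
                            have f20 : T.a u1 u3 = 2 * T.w u2 := by linarith only [tap_1_3, tw_0_1, tw_0_2, tw_1_3, tw_1_4]
                            have f21 : T.a u1 u4 = 2 * T.w u2 := by linarith only [tap_1_4, tw_0_1, tw_0_2, tw_1_3, tw_1_4]
                            have f22 : T.a u3 u3 = -4 * T.w u2 := by have := (h2 u3).2; linarith only [this, tw_0_1, tw_0_2, tw_1_3, tw_1_4]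
                            have f23 : T.a u3 u4 = 0 := by exact z_3_4
                            have f24 : T.a u4 u4 = -4 * T.w u2 := by have := (h2 u4).2; linarith only [this, tw_0_1, tw_0_2, tw_1_3, tw_1_4]
                            have hsig := Groth.Agent.Helper6.NT.inj5 u2 u0 u1 u3 u4 hn_2_0.symm hn_2_1.symm hn_1_0 hn_3_2 hn_3_0 hn_3_1 hn_4_2 hn_4_0 hn_4_1 hn_4_3
                            exact ⟨Equiv.ofBijective _ (Finite.injective_iff_bijective.1 hsig), T.m u3, T.w u2, Or.inr (Or.inr (Or.inr (Or.inr (Or.inr (Or.inr (Or.inr (Or.inr (⟨f0, f1, f2, f3, f4, f5, f6, f7, f8, f9, f10, f11, f12, f13, f14, f15, f16, f17, f18, f19, f20, f21, f22, f23, f24⟩))))))))⟩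
                          · -- (3,4) nonzero
                            obtain ⟨lbp_3_4, lbq_3_4⟩ := Groth.Agent.Helper6.NT.lb T u3 u4 hn_4_3.symm nz_3_4
                            exfalso
                            have key := Groth.Agent.Helper6.NT.negfun3 T h2 u1 u3 u4 (by norm_num) 1 1 1 (by norm_num) (by norm_num)
                            linarith only [key, tap_1_3, taq_1_3, tap_1_4, taq_1_4, lbp_3_4, lbq_3_4, T.w_pos u1, T.w_pos u3, T.w_pos u4]
                        · -- (2,4) nonzero
                          obtain ⟨lbp_2_4, lbq_2_4⟩ := Groth.Agent.Helper6.NT.lb T u2 u4 hn_4_2.symm nz_2_4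
                          exfalso
                          have key := Groth.Agent.Helper6.NT.negfun4 T h2 u0 u1 u2 u4 (by norm_num) 2 2 3 2 (by norm_num) (by norm_num)
                          linarith only [key, tap_0_1, taq_0_1, tap_0_2, taq_0_2, z_0_4, z_1_2, tap_1_4, taq_1_4, lbp_2_4, lbq_2_4, T.w_pos u0, T.w_pos u1, T.w_pos u2, T.w_pos u4]
                      · -- (1,4) Dp
                        exfalso
                        have key := Groth.Agent.Helper6.NT.negfun4 T h2 u0 u1 u3 u4 (by norm_num) 1 2 1 1 (by norm_num) (by norm_num)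
                        linarith only [key, tap_0_1, taq_0_1, z_0_3, z_0_4, tap_1_3, taq_1_3, tap_1_4, taq_1_4, T.offDiag_nonneg u3 u4 hn_4_3.symm, T.w_pos u0, T.w_pos u1, T.w_pos u3, T.w_pos u4]
                      · -- (1,4) Dm
                        exfalso
                        have key := Groth.Agent.Helper6.NT.negfun4 T h2 u0 u1 u3 u4 (by norm_num) 1 2 1 2 (by norm_num) (by norm_num)
                        linarith only [key, tap_0_1, taq_0_1, z_0_3, z_0_4, tap_1_3, taq_1_3, tap_1_4, taq_1_4, T.offDiag_nonneg u3 u4 hn_4_3.symm, T.w_pos u0, T.w_pos u1, T.w_pos u3, T.w_pos u4]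
                      · -- (1,4) Tp
                        exfalso
                        have key := Groth.Agent.Helper6.NT.negfun3 T h2 u1 u3 u4 (by norm_num) 2 1 1 (by norm_num) (by norm_num)
                        linarith only [key, tap_1_3, taq_1_3, tap_1_4, taq_1_4, T.offDiag_nonneg u3 u4 hn_4_3.symm, T.w_pos u1, T.w_pos u3, T.w_pos u4]
                      · -- (1,4) Tm
                        exfalso
                        have key := Groth.Agent.Helper6.NT.negfun3 T h2 u1 u3 u4 (by norm_num) 2 1 3 (by norm_num) (by norm_num)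
                        linarith only [key, tap_1_3, taq_1_3, tap_1_4, taq_1_4, T.offDiag_nonneg u3 u4 hn_4_3.symm, T.w_pos u1, T.w_pos u3, T.w_pos u4]
                    · push Not at hx
                      have cl_1 := hx
                      clear hx
                      by_cases hx : ∃ j, (j ≠ u0 ∧ j ≠ u1 ∧ j ≠ u2 ∧ j ≠ u3) ∧ T.a u2 j ≠ 0
                      · obtain ⟨u4, ⟨hn_4_0, hn_4_1, hn_4_2, hn_4_3⟩, e_2_4⟩ := hx
                        have z_0_4 : T.a u0 u4 = 0 := cl_0 u4 ⟨hn_4_0, hn_4_1, hn_4_2⟩
                        have z_1_4 : T.a u1 u4 = 0 := cl_1 u4 ⟨hn_4_0, hn_4_1, hn_4_2, hn_4_3⟩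
                        rcases Groth.Agent.Helper6.NT.edge5 T h2 (by norm_num) u2 u4 hn_4_2.symm e_2_4 with ⟨tw_2_4, tap_2_4, taq_2_4⟩ | ⟨tw_2_4, tap_2_4, taq_2_4⟩ | ⟨tw_2_4, tap_2_4, taq_2_4⟩ | ⟨tw_2_4, tap_2_4, taq_2_4⟩ | ⟨tw_2_4, tap_2_4, taq_2_4⟩
                        · -- (2,4) S
                          rcases eq_or_ne (T.a u3 u4) 0 with z_3_4 | nz_3_4
                          · -- (3,4) zero
                            have hinj := Groth.Agent.Helper6.NT.inj5 u0 u1 u2 u3 u4 hn_1_0 hn_2_0 hn_2_1 hn_3_0 hn_3_1 hn_3_2 hn_4_0 hn_4_1 hn_4_2 hn_4_3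
                            have r_0 : -2 * T.m u0 + 1 * T.m u1 + 1 * T.m u2 = 0 := by
                              have key := Groth.Agent.Helper6.NT.rowfun5 T u0 u1 u2 u3 u4 hinj u0
                              rw [(h2 u0).2, tap_0_1, tap_0_2, z_0_3, z_0_4] at key
                              exact mul_left_cancel₀ (T.w_pos u0).ne' (by linarith only [key])
                            have r_1 : 1 * T.m u0 + -2 * T.m u1 + 1 * T.m u3 = 0 := by
                              have key := Groth.Agent.Helper6.NT.rowfun5 T u0 u1 u2 u3 u4 hinj u1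
                              rw [Groth.Agent.Helper6.NT.symm' T u1 u0, taq_0_1, (h2 u1).2, z_1_2, tap_1_3, z_1_4] at key
                              exact mul_left_cancel₀ (T.w_pos u1).ne' (by linarith only [key])
                            have r_2 : 2 * T.m u0 + -2 * T.m u2 + 1 * T.m u4 = 0 := by
                              have key := Groth.Agent.Helper6.NT.rowfun5 T u0 u1 u2 u3 u4 hinj u2
                              rw [Groth.Agent.Helper6.NT.symm' T u2 u0, taq_0_2, Groth.Agent.Helper6.NT.symm' T u2 u1, z_1_2, (h2 u2).2, z_2_3, tap_2_4] at key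
                              exact mul_left_cancel₀ (T.w_pos u2).ne' (by linarith only [key])
                            have r_3 : 1 * T.m u1 + -2 * T.m u3 = 0 := by
                              have key := Groth.Agent.Helper6.NT.rowfun5 T u0 u1 u2 u3 u4 hinj u3
                              rw [Groth.Agent.Helper6.NT.symm' T u3 u0, z_0_3, Groth.Agent.Helper6.NT.symm' T u3 u1, taq_1_3, Groth.Agent.Helper6.NT.symm' T u3 u2, z_2_3, (h2 u3).2, z_3_4] at key
                              exact mul_left_cancel₀ (T.w_pos u3).ne' (by linarith only [key])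
                            have r_4 : 1 * T.m u2 + -2 * T.m u4 = 0 := by
                              have key := Groth.Agent.Helper6.NT.rowfun5 T u0 u1 u2 u3 u4 hinj u4
                              rw [Groth.Agent.Helper6.NT.symm' T u4 u0, z_0_4, Groth.Agent.Helper6.NT.symm' T u4 u1, z_1_4, Groth.Agent.Helper6.NT.symm' T u4 u2, taq_2_4, Groth.Agent.Helper6.NT.symm' T u4 u3, z_3_4, (h2 u4).2] at key
                              exact mul_left_cancel₀ (T.w_pos u4).ne' (by linarith only [key])
                            have f0 : T.m u3 = T.m u3 := rfl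
                            have f1 : T.m u1 = 2 * T.m u3 := by linarith only [r_0, r_1, r_2, r_3, r_4]
                            have f2 : T.m u0 = 3 * T.m u3 := by linarith only [r_0, r_1, r_2, r_3, r_4]
                            have f3 : T.m u2 = 4 * T.m u3 := by linarith only [r_0, r_1, r_2, r_3, r_4]
                            have f4 : T.m u4 = 2 * T.m u3 := by linarith only [r_0, r_1, r_2, r_3, r_4]
                            have f5 : T.w u3 = 2 * T.w u2 := by linarith only [tw_0_1, tw_0_2, tw_1_3, tw_2_4]
                            have f6 : T.w u1 = 2 * T.w u2 := by linarith only [tw_0_1, tw_0_2, tw_1_3, tw_2_4]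
                            have f7 : T.w u0 = 2 * T.w u2 := by linarith only [tw_0_1, tw_0_2, tw_1_3, tw_2_4]
                            have f8 : T.w u2 = T.w u2 := rfl
                            have f9 : T.w u4 = T.w u2 := by linarith only [tw_0_1, tw_0_2, tw_1_3, tw_2_4]
                            have f10 : T.a u3 u3 = -4 * T.w u2 := by have := (h2 u3).2; linarith only [this, tw_0_1, tw_0_2, tw_1_3, tw_2_4]
                            have f11 : T.a u3 u1 = 2 * T.w u2 := by rw [Groth.Agent.Helper6.NT.symm' T u3 u1]; linarith only [tap_1_3, tw_0_1, tw_0_2, tw_1_3, tw_2_4]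
                            have f12 : T.a u3 u0 = 0 := by rw [Groth.Agent.Helper6.NT.symm' T u3 u0]; exact z_0_3
                            have f13 : T.a u3 u2 = 0 := by rw [Groth.Agent.Helper6.NT.symm' T u3 u2]; exact z_2_3
                            have f14 : T.a u3 u4 = 0 := by exact z_3_4
                            have f15 : T.a u1 u1 = -4 * T.w u2 := by have := (h2 u1).2; linarith only [this, tw_0_1, tw_0_2, tw_1_3, tw_2_4]
                            have f16 : T.a u1 u0 = 2 * T.w u2 := by rw [Groth.Agent.Helper6.NT.symm' T u1 u0]; linarith only [tap_0_1, tw_0_1, tw_0_2, tw_1_3, tw_2_4]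
                            have f17 : T.a u1 u2 = 0 := by exact z_1_2
                            have f18 : T.a u1 u4 = 0 := by exact z_1_4
                            have f19 : T.a u0 u0 = -4 * T.w u2 := by have := (h2 u0).2; linarith only [this, tw_0_1, tw_0_2, tw_1_3, tw_2_4]
                            have f20 : T.a u0 u2 = 2 * T.w u2 := by linarith only [tap_0_2, tw_0_1, tw_0_2, tw_1_3, tw_2_4]
                            have f21 : T.a u0 u4 = 0 := by exact z_0_4
                            have f22 : T.a u2 u2 = -2 * T.w u2 := by have := (h2 u2).2; linarith only [this, tw_0_1, tw_0_2, tw_1_3, tw_2_4]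
                            have f23 : T.a u2 u4 = T.w u2 := by linarith only [tap_2_4, tw_0_1, tw_0_2, tw_1_3, tw_2_4]
                            have f24 : T.a u4 u4 = -2 * T.w u2 := by have := (h2 u4).2; linarith only [this, tw_0_1, tw_0_2, tw_1_3, tw_2_4]
                            have hsig := Groth.Agent.Helper6.NT.inj5 u3 u1 u0 u2 u4 hn_3_1.symm hn_3_0.symm hn_1_0.symm hn_3_2.symm hn_2_1 hn_2_0 hn_4_3 hn_4_1 hn_4_0 hn_4_2
                            exact ⟨Equiv.ofBijective _ (Finite.injective_iff_bijective.1 hsig), T.m u3, T.w u2, Or.inr (Or.inr (Or.inl ⟨f0, f1, f2, f3, f4, f5, f6, f7, f8, f9, f10, f11, f12, f13, f14, f15, f16, f17, f18, f19, f20, f21, f22, f23, f24⟩))⟩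
                          · -- (3,4) nonzero
                            obtain ⟨lbp_3_4, lbq_3_4⟩ := Groth.Agent.Helper6.NT.lb T u3 u4 hn_4_3.symm nz_3_4
                            rcases Groth.Agent.Helper6.NT.edge5 T h2 (by norm_num) u3 u4 hn_4_3.symm nz_3_4 with ⟨tw_3_4, tap_3_4, taq_3_4⟩ | ⟨tw_3_4, tap_3_4, taq_3_4⟩ | ⟨tw_3_4, tap_3_4, taq_3_4⟩ | ⟨tw_3_4, tap_3_4, taq_3_4⟩ | ⟨tw_3_4, tap_3_4, taq_3_4⟩
                            · -- (3,4) S
                              exfalso
                              linarith only [tap_0_1, tap_0_2, tap_1_3, tap_3_4, tap_2_4, taq_0_1, taq_0_2, taq_1_3, taq_3_4, taq_2_4, T.w_pos u0, T.w_pos u1, T.w_pos u2, T.w_pos u3, T.w_pos u4]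
                            · -- (3,4) Dp
                              exfalso
                              have key := Groth.Agent.Helper6.NT.negfun4 T h2 u0 u2 u3 u4 (by norm_num) 1 2 2 2 (by norm_num) (by norm_num)
                              linarith only [key, tap_0_2, taq_0_2, z_0_3, z_0_4, z_2_3, tap_2_4, taq_2_4, tap_3_4, taq_3_4, T.w_pos u0, T.w_pos u2, T.w_pos u3, T.w_pos u4]
                            · -- (3,4) Dm
                              exfalso
                              have key := Groth.Agent.Helper6.NT.negfun4 T h2 u0 u2 u3 u4 (by norm_num) 1 2 1 2 (by norm_num) (by norm_num)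
                              linarith only [key, tap_0_2, taq_0_2, z_0_3, z_0_4, z_2_3, tap_2_4, taq_2_4, tap_3_4, taq_3_4, T.w_pos u0, T.w_pos u2, T.w_pos u3, T.w_pos u4]
                            · -- (3,4) Tp
                              exfalso
                              have key := Groth.Agent.Helper6.NT.negfun3 T h2 u2 u3 u4 (by norm_num) 1 3 2 (by norm_num) (by norm_num)
                              linarith only [key, z_2_3, tap_2_4, taq_2_4, tap_3_4, taq_3_4, T.w_pos u2, T.w_pos u3, T.w_pos u4]
                            · -- (3,4) Tm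
                              exfalso
                              have key := Groth.Agent.Helper6.NT.negfun3 T h2 u2 u3 u4 (by norm_num) 1 1 2 (by norm_num) (by norm_num)
                              linarith only [key, z_2_3, tap_2_4, taq_2_4, tap_3_4, taq_3_4, T.w_pos u2, T.w_pos u3, T.w_pos u4]
                        · -- (2,4) Dp
                          exfalso
                          have key := Groth.Agent.Helper6.NT.negfun3 T h2 u0 u2 u4 (by norm_num) 1 2 1 (by norm_num) (by norm_num)
                          linarith only [key, tap_0_2, taq_0_2, z_0_4, tap_2_4, taq_2_4, T.w_pos u0, T.w_pos u2, T.w_pos u4]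
                        · -- (2,4) Dm
                          exfalso
                          have key := Groth.Agent.Helper6.NT.negfun3 T h2 u0 u2 u4 (by norm_num) 1 2 2 (by norm_num) (by norm_num)
                          linarith only [key, tap_0_2, taq_0_2, z_0_4, tap_2_4, taq_2_4, T.w_pos u0, T.w_pos u2, T.w_pos u4]
                        · -- (2,4) Tp
                          exfalso
                          have key := Groth.Agent.Helper6.NT.negfun3 T h2 u0 u2 u4 (by norm_num) 1 2 1 (by norm_num) (by norm_num)
                          linarith only [key, tap_0_2, taq_0_2, z_0_4, tap_2_4, taq_2_4, T.w_pos u0, T.w_pos u2, T.w_pos u4]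
                        · -- (2,4) Tm
                          exfalso
                          have key := Groth.Agent.Helper6.NT.negfun3 T h2 u0 u2 u4 (by norm_num) 1 2 3 (by norm_num) (by norm_num)
                          linarith only [key, tap_0_2, taq_0_2, z_0_4, tap_2_4, taq_2_4, T.w_pos u0, T.w_pos u2, T.w_pos u4]
                      · push Not at hx
                        have cl_2 := hx
                        clear hx
                        by_cases hx : ∃ j, (j ≠ u0 ∧ j ≠ u1 ∧ j ≠ u2 ∧ j ≠ u3) ∧ T.a u3 j ≠ 0
                        · obtain ⟨u4, ⟨hn_4_0, hn_4_1, hn_4_2, hn_4_3⟩, e_3_4⟩ := hx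
                          have z_0_4 : T.a u0 u4 = 0 := cl_0 u4 ⟨hn_4_0, hn_4_1, hn_4_2⟩
                          have z_1_4 : T.a u1 u4 = 0 := cl_1 u4 ⟨hn_4_0, hn_4_1, hn_4_2, hn_4_3⟩
                          have z_2_4 : T.a u2 u4 = 0 := cl_2 u4 ⟨hn_4_0, hn_4_1, hn_4_2, hn_4_3⟩
                          rcases Groth.Agent.Helper6.NT.edge5 T h2 (by norm_num) u3 u4 hn_4_3.symm e_3_4 with ⟨tw_3_4, tap_3_4, taq_3_4⟩ | ⟨tw_3_4, tap_3_4, taq_3_4⟩ | ⟨tw_3_4, tap_3_4, taq_3_4⟩ | ⟨tw_3_4, tap_3_4, taq_3_4⟩ | ⟨tw_3_4, tap_3_4, taq_3_4⟩
                          · -- (3,4) S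
                            have hinj := Groth.Agent.Helper6.NT.inj5 u0 u1 u2 u3 u4 hn_1_0 hn_2_0 hn_2_1 hn_3_0 hn_3_1 hn_3_2 hn_4_0 hn_4_1 hn_4_2 hn_4_3
                            have r_0 : -2 * T.m u0 + 1 * T.m u1 + 1 * T.m u2 = 0 := by
                              have key := Groth.Agent.Helper6.NT.rowfun5 T u0 u1 u2 u3 u4 hinj u0
                              rw [(h2 u0).2, tap_0_1, tap_0_2, z_0_3, z_0_4] at key
                              exact mul_left_cancel₀ (T.w_pos u0).ne' (by linarith only [key])
                            have r_1 : 1 * T.m u0 + -2 * T.m u1 + 1 * T.m u3 = 0 := by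
                              have key := Groth.Agent.Helper6.NT.rowfun5 T u0 u1 u2 u3 u4 hinj u1
                              rw [Groth.Agent.Helper6.NT.symm' T u1 u0, taq_0_1, (h2 u1).2, z_1_2, tap_1_3, z_1_4] at key
                              exact mul_left_cancel₀ (T.w_pos u1).ne' (by linarith only [key])
                            have r_2 : 2 * T.m u0 + -2 * T.m u2 = 0 := by
                              have key := Groth.Agent.Helper6.NT.rowfun5 T u0 u1 u2 u3 u4 hinj u2
                              rw [Groth.Agent.Helper6.NT.symm' T u2 u0, taq_0_2, Groth.Agent.Helper6.NT.symm' T u2 u1, z_1_2, (h2 u2).2, z_2_3, z_2_4] at key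
                              exact mul_left_cancel₀ (T.w_pos u2).ne' (by linarith only [key])
                            have r_3 : 1 * T.m u1 + -2 * T.m u3 + 1 * T.m u4 = 0 := by
                              have key := Groth.Agent.Helper6.NT.rowfun5 T u0 u1 u2 u3 u4 hinj u3
                              rw [Groth.Agent.Helper6.NT.symm' T u3 u0, z_0_3, Groth.Agent.Helper6.NT.symm' T u3 u1, taq_1_3, Groth.Agent.Helper6.NT.symm' T u3 u2, z_2_3, (h2 u3).2, tap_3_4] at key
                              exact mul_left_cancel₀ (T.w_pos u3).ne' (by linarith only [key])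
                            have r_4 : 1 * T.m u3 + -2 * T.m u4 = 0 := by
                              have key := Groth.Agent.Helper6.NT.rowfun5 T u0 u1 u2 u3 u4 hinj u4
                              rw [Groth.Agent.Helper6.NT.symm' T u4 u0, z_0_4, Groth.Agent.Helper6.NT.symm' T u4 u1, z_1_4, Groth.Agent.Helper6.NT.symm' T u4 u2, z_2_4, Groth.Agent.Helper6.NT.symm' T u4 u3, taq_3_4, (h2 u4).2] at key
                              exact mul_left_cancel₀ (T.w_pos u4).ne' (by linarith only [key])
                            exfalso
                            linarith only [r_0, r_1, r_2, r_3, r_4, T.m_pos u0, T.m_pos u1, T.m_pos u2, T.m_pos u3, T.m_pos u4]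
                          · -- (3,4) Dp
                            have hinj := Groth.Agent.Helper6.NT.inj5 u0 u1 u2 u3 u4 hn_1_0 hn_2_0 hn_2_1 hn_3_0 hn_3_1 hn_3_2 hn_4_0 hn_4_1 hn_4_2 hn_4_3
                            have r_0 : -2 * T.m u0 + 1 * T.m u1 + 1 * T.m u2 = 0 := by
                              have key := Groth.Agent.Helper6.NT.rowfun5 T u0 u1 u2 u3 u4 hinj u0
                              rw [(h2 u0).2, tap_0_1, tap_0_2, z_0_3, z_0_4] at key
                              exact mul_left_cancel₀ (T.w_pos u0).ne' (by linarith only [key])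
                            have r_1 : 1 * T.m u0 + -2 * T.m u1 + 1 * T.m u3 = 0 := by
                              have key := Groth.Agent.Helper6.NT.rowfun5 T u0 u1 u2 u3 u4 hinj u1
                              rw [Groth.Agent.Helper6.NT.symm' T u1 u0, taq_0_1, (h2 u1).2, z_1_2, tap_1_3, z_1_4] at key
                              exact mul_left_cancel₀ (T.w_pos u1).ne' (by linarith only [key])
                            have r_2 : 2 * T.m u0 + -2 * T.m u2 = 0 := by
                              have key := Groth.Agent.Helper6.NT.rowfun5 T u0 u1 u2 u3 u4 hinj u2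
                              rw [Groth.Agent.Helper6.NT.symm' T u2 u0, taq_0_2, Groth.Agent.Helper6.NT.symm' T u2 u1, z_1_2, (h2 u2).2, z_2_3, z_2_4] at key
                              exact mul_left_cancel₀ (T.w_pos u2).ne' (by linarith only [key])
                            have r_3 : 1 * T.m u1 + -2 * T.m u3 + 2 * T.m u4 = 0 := by
                              have key := Groth.Agent.Helper6.NT.rowfun5 T u0 u1 u2 u3 u4 hinj u3
                              rw [Groth.Agent.Helper6.NT.symm' T u3 u0, z_0_3, Groth.Agent.Helper6.NT.symm' T u3 u1, taq_1_3, Groth.Agent.Helper6.NT.symm' T u3 u2, z_2_3, (h2 u3).2, tap_3_4] at key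
                              exact mul_left_cancel₀ (T.w_pos u3).ne' (by linarith only [key])
                            have r_4 : 1 * T.m u3 + -2 * T.m u4 = 0 := by
                              have key := Groth.Agent.Helper6.NT.rowfun5 T u0 u1 u2 u3 u4 hinj u4
                              rw [Groth.Agent.Helper6.NT.symm' T u4 u0, z_0_4, Groth.Agent.Helper6.NT.symm' T u4 u1, z_1_4, Groth.Agent.Helper6.NT.symm' T u4 u2, z_2_4, Groth.Agent.Helper6.NT.symm' T u4 u3, taq_3_4, (h2 u4).2] at key
                              exact mul_left_cancel₀ (T.w_pos u4).ne' (by linarith only [key])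
                            have f0 : T.m u2 = 2 * T.m u4 := by linarith only [r_0, r_1, r_2, r_3, r_4]
                            have f1 : T.m u0 = 2 * T.m u4 := by linarith only [r_0, r_1, r_2, r_3, r_4]
                            have f2 : T.m u1 = 2 * T.m u4 := by linarith only [r_0, r_1, r_2, r_3, r_4]
                            have f3 : T.m u3 = 2 * T.m u4 := by linarith only [r_0, r_1, r_2, r_3, r_4]
                            have f4 : T.m u4 = T.m u4 := rfl
                            have f5 : T.w u2 = T.w u2 := rfl
                            have f6 : T.w u0 = 2 * T.w u2 := by linarith only [tw_0_1, tw_0_2, tw_1_3, tw_3_4]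
                            have f7 : T.w u1 = 2 * T.w u2 := by linarith only [tw_0_1, tw_0_2, tw_1_3, tw_3_4]
                            have f8 : T.w u3 = 2 * T.w u2 := by linarith only [tw_0_1, tw_0_2, tw_1_3, tw_3_4]
                            have f9 : T.w u4 = 4 * T.w u2 := by linarith only [tw_0_1, tw_0_2, tw_1_3, tw_3_4]
                            have f10 : T.a u2 u2 = -2 * T.w u2 := by have := (h2 u2).2; linarith only [this, tw_0_1, tw_0_2, tw_1_3, tw_3_4]
                            have f11 : T.a u2 u0 = 2 * T.w u2 := by rw [Groth.Agent.Helper6.NT.symm' T u2 u0]; linarith only [tap_0_2, tw_0_1, tw_0_2, tw_1_3, tw_3_4]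
                            have f12 : T.a u2 u1 = 0 := by rw [Groth.Agent.Helper6.NT.symm' T u2 u1]; exact z_1_2
                            have f13 : T.a u2 u3 = 0 := by exact z_2_3
                            have f14 : T.a u2 u4 = 0 := by exact z_2_4
                            have f15 : T.a u0 u0 = -4 * T.w u2 := by have := (h2 u0).2; linarith only [this, tw_0_1, tw_0_2, tw_1_3, tw_3_4]
                            have f16 : T.a u0 u1 = 2 * T.w u2 := by linarith only [tap_0_1, tw_0_1, tw_0_2, tw_1_3, tw_3_4]
                            have f17 : T.a u0 u3 = 0 := by exact z_0_3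
                            have f18 : T.a u0 u4 = 0 := by exact z_0_4
                            have f19 : T.a u1 u1 = -4 * T.w u2 := by have := (h2 u1).2; linarith only [this, tw_0_1, tw_0_2, tw_1_3, tw_3_4]
                            have f20 : T.a u1 u3 = 2 * T.w u2 := by linarith only [tap_1_3, tw_0_1, tw_0_2, tw_1_3, tw_3_4]
                            have f21 : T.a u1 u4 = 0 := by exact z_1_4
                            have f22 : T.a u3 u3 = -4 * T.w u2 := by have := (h2 u3).2; linarith only [this, tw_0_1, tw_0_2, tw_1_3, tw_3_4]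
                            have f23 : T.a u3 u4 = 4 * T.w u2 := by linarith only [tap_3_4, tw_0_1, tw_0_2, tw_1_3, tw_3_4]
                            have f24 : T.a u4 u4 = -8 * T.w u2 := by have := (h2 u4).2; linarith only [this, tw_0_1, tw_0_2, tw_1_3, tw_3_4]
                            have hsig := Groth.Agent.Helper6.NT.inj5 u2 u0 u1 u3 u4 hn_2_0.symm hn_2_1.symm hn_1_0 hn_3_2 hn_3_0 hn_3_1 hn_4_2 hn_4_0 hn_4_1 hn_4_3
                            exact ⟨Equiv.ofBijective _ (Finite.injective_iff_bijective.1 hsig), T.m u4, T.w u2, Or.inr (Or.inr (Or.inr (Or.inl ⟨f0, f1, f2, f3, f4, f5, f6, f7, f8, f9, f10, f11, f12, f13, f14, f15, f16, f17, f18, f19, f20, f21, f22, f23, f24⟩)))⟩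
                          · -- (3,4) Dm
                            have hinj := Groth.Agent.Helper6.NT.inj5 u0 u1 u2 u3 u4 hn_1_0 hn_2_0 hn_2_1 hn_3_0 hn_3_1 hn_3_2 hn_4_0 hn_4_1 hn_4_2 hn_4_3
                            have r_0 : -2 * T.m u0 + 1 * T.m u1 + 1 * T.m u2 = 0 := by
                              have key := Groth.Agent.Helper6.NT.rowfun5 T u0 u1 u2 u3 u4 hinj u0
                              rw [(h2 u0).2, tap_0_1, tap_0_2, z_0_3, z_0_4] at key
                              exact mul_left_cancel₀ (T.w_pos u0).ne' (by linarith only [key])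
                            have r_1 : 1 * T.m u0 + -2 * T.m u1 + 1 * T.m u3 = 0 := by
                              have key := Groth.Agent.Helper6.NT.rowfun5 T u0 u1 u2 u3 u4 hinj u1
                              rw [Groth.Agent.Helper6.NT.symm' T u1 u0, taq_0_1, (h2 u1).2, z_1_2, tap_1_3, z_1_4] at key
                              exact mul_left_cancel₀ (T.w_pos u1).ne' (by linarith only [key])
                            have r_2 : 2 * T.m u0 + -2 * T.m u2 = 0 := by
                              have key := Groth.Agent.Helper6.NT.rowfun5 T u0 u1 u2 u3 u4 hinj u2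
                              rw [Groth.Agent.Helper6.NT.symm' T u2 u0, taq_0_2, Groth.Agent.Helper6.NT.symm' T u2 u1, z_1_2, (h2 u2).2, z_2_3, z_2_4] at key
                              exact mul_left_cancel₀ (T.w_pos u2).ne' (by linarith only [key])
                            have r_3 : 1 * T.m u1 + -2 * T.m u3 + 1 * T.m u4 = 0 := by
                              have key := Groth.Agent.Helper6.NT.rowfun5 T u0 u1 u2 u3 u4 hinj u3
                              rw [Groth.Agent.Helper6.NT.symm' T u3 u0, z_0_3, Groth.Agent.Helper6.NT.symm' T u3 u1, taq_1_3, Groth.Agent.Helper6.NT.symm' T u3 u2, z_2_3, (h2 u3).2, tap_3_4] at key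
                              exact mul_left_cancel₀ (T.w_pos u3).ne' (by linarith only [key])
                            have r_4 : 2 * T.m u3 + -2 * T.m u4 = 0 := by
                              have key := Groth.Agent.Helper6.NT.rowfun5 T u0 u1 u2 u3 u4 hinj u4
                              rw [Groth.Agent.Helper6.NT.symm' T u4 u0, z_0_4, Groth.Agent.Helper6.NT.symm' T u4 u1, z_1_4, Groth.Agent.Helper6.NT.symm' T u4 u2, z_2_4, Groth.Agent.Helper6.NT.symm' T u4 u3, taq_3_4, (h2 u4).2] at key
                              exact mul_left_cancel₀ (T.w_pos u4).ne' (by linarith only [key])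
                            have f0 : T.m u2 = T.m u2 := rfl
                            have f1 : T.m u0 = T.m u2 := by linarith only [r_0, r_1, r_2, r_3, r_4]
                            have f2 : T.m u1 = T.m u2 := by linarith only [r_0, r_1, r_2, r_3, r_4]
                            have f3 : T.m u3 = T.m u2 := by linarith only [r_0, r_1, r_2, r_3, r_4]
                            have f4 : T.m u4 = T.m u2 := by linarith only [r_0, r_1, r_2, r_3, r_4]
                            have f5 : T.w u2 = T.w u2 := rfl
                            have f6 : T.w u0 = 2 * T.w u2 := by linarith only [tw_0_1, tw_0_2, tw_1_3, tw_3_4]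
                            have f7 : T.w u1 = 2 * T.w u2 := by linarith only [tw_0_1, tw_0_2, tw_1_3, tw_3_4]
                            have f8 : T.w u3 = 2 * T.w u2 := by linarith only [tw_0_1, tw_0_2, tw_1_3, tw_3_4]
                            have f9 : T.w u4 = T.w u2 := by linarith only [tw_0_1, tw_0_2, tw_1_3, tw_3_4]
                            have f10 : T.a u2 u2 = -2 * T.w u2 := by have := (h2 u2).2; linarith only [this, tw_0_1, tw_0_2, tw_1_3, tw_3_4]
                            have f11 : T.a u2 u0 = 2 * T.w u2 := by rw [Groth.Agent.Helper6.NT.symm' T u2 u0]; linarith only [tap_0_2, tw_0_1, tw_0_2, tw_1_3, tw_3_4]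
                            have f12 : T.a u2 u1 = 0 := by rw [Groth.Agent.Helper6.NT.symm' T u2 u1]; exact z_1_2
                            have f13 : T.a u2 u3 = 0 := by exact z_2_3
                            have f14 : T.a u2 u4 = 0 := by exact z_2_4
                            have f15 : T.a u0 u0 = -4 * T.w u2 := by have := (h2 u0).2; linarith only [this, tw_0_1, tw_0_2, tw_1_3, tw_3_4]
                            have f16 : T.a u0 u1 = 2 * T.w u2 := by linarith only [tap_0_1, tw_0_1, tw_0_2, tw_1_3, tw_3_4]
                            have f17 : T.a u0 u3 = 0 := by exact z_0_3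
                            have f18 : T.a u0 u4 = 0 := by exact z_0_4
                            have f19 : T.a u1 u1 = -4 * T.w u2 := by have := (h2 u1).2; linarith only [this, tw_0_1, tw_0_2, tw_1_3, tw_3_4]
                            have f20 : T.a u1 u3 = 2 * T.w u2 := by linarith only [tap_1_3, tw_0_1, tw_0_2, tw_1_3, tw_3_4]
                            have f21 : T.a u1 u4 = 0 := by exact z_1_4
                            have f22 : T.a u3 u3 = -4 * T.w u2 := by have := (h2 u3).2; linarith only [this, tw_0_1, tw_0_2, tw_1_3, tw_3_4]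
                            have f23 : T.a u3 u4 = 2 * T.w u2 := by linarith only [tap_3_4, tw_0_1, tw_0_2, tw_1_3, tw_3_4]
                            have f24 : T.a u4 u4 = -2 * T.w u2 := by have := (h2 u4).2; linarith only [this, tw_0_1, tw_0_2, tw_1_3, tw_3_4]
                            have hsig := Groth.Agent.Helper6.NT.inj5 u2 u0 u1 u3 u4 hn_2_0.symm hn_2_1.symm hn_1_0 hn_3_2 hn_3_0 hn_3_1 hn_4_2 hn_4_0 hn_4_1 hn_4_3
                            exact ⟨Equiv.ofBijective _ (Finite.injective_iff_bijective.1 hsig), T.m u2, T.w u2, Or.inr (Or.inr (Or.inr (Or.inr (Or.inl ⟨f0, f1, f2, f3, f4, f5, f6, f7, f8, f9, f10, f11, f12, f13, f14, f15, f16, f17, f18, f19, f20, f21, f22, f23, f24⟩))))⟩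
                          · -- (3,4) Tp
                            exfalso
                            have key := Groth.Agent.Helper6.NT.negfun3 T h2 u1 u3 u4 (by norm_num) 1 2 1 (by norm_num) (by norm_num)
                            linarith only [key, tap_1_3, taq_1_3, z_1_4, tap_3_4, taq_3_4, T.w_pos u1, T.w_pos u3, T.w_pos u4]
                          · -- (3,4) Tm
                            exfalso
                            have key := Groth.Agent.Helper6.NT.negfun3 T h2 u1 u3 u4 (by norm_num) 1 2 3 (by norm_num) (by norm_num)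
                            linarith only [key, tap_1_3, taq_1_3, z_1_4, tap_3_4, taq_3_4, T.w_pos u1, T.w_pos u3, T.w_pos u4]
                        · push Not at hx
                          have cl_3 := hx
                          clear hx
                          exfalso
                          refine Groth.Agent.Helper6.NT.closed_contra T [u0, u1, u2, u3] (by simp) (by simp) ?_
                          intro i hi j hj
                          simp only [List.mem_cons, List.not_mem_nil, or_false, not_or] at hi hj
                          rcases hi with rfl | rfl | rfl | rfl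
                          · exact cl_0 j ⟨hj.1, hj.2.1, hj.2.2.1⟩
                          · exact cl_1 j ⟨hj.1, hj.2.1, hj.2.2.1, hj.2.2.2⟩
                          · exact cl_2 j ⟨hj.1, hj.2.1, hj.2.2.1, hj.2.2.2⟩
                          · exact cl_3 j ⟨hj.1, hj.2.1, hj.2.2.1, hj.2.2.2⟩
                  · -- (2,3) nonzero
                    obtain ⟨lbp_2_3, lbq_2_3⟩ := Groth.Agent.Helper6.NT.lb T u2 u3 hn_3_2.symm nz_2_3
                    exfalso
                    have key := Groth.Agent.Helper6.NT.negfun4 T h2 u0 u1 u2 u3 (by norm_num) 2 2 3 2 (by norm_num) (by norm_num)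
                    linarith only [key, tap_0_1, taq_0_1, tap_0_2, taq_0_2, z_0_3, z_1_2, tap_1_3, taq_1_3, lbp_2_3, lbq_2_3, T.w_pos u0, T.w_pos u1, T.w_pos u2, T.w_pos u3]
                · -- (1,3) Dp
                  exfalso
                  have key := Groth.Agent.Helper6.NT.negfun4 T h2 u0 u1 u2 u3 (by norm_num) 2 2 2 1 (by norm_num) (by norm_num)
                  linarith only [key, tap_0_1, taq_0_1, tap_0_2, taq_0_2, z_0_3, z_1_2, tap_1_3, taq_1_3, T.offDiag_nonneg u2 u3 hn_3_2.symm, T.w_pos u0, T.w_pos u1, T.w_pos u2, T.w_pos u3]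
                · -- (1,3) Dm
                  exfalso
                  have key := Groth.Agent.Helper6.NT.negfun4 T h2 u0 u1 u2 u3 (by norm_num) 1 1 1 1 (by norm_num) (by norm_num)
                  linarith only [key, tap_0_1, taq_0_1, tap_0_2, taq_0_2, z_0_3, z_1_2, tap_1_3, taq_1_3, T.offDiag_nonneg u2 u3 hn_3_2.symm, T.w_pos u0, T.w_pos u1, T.w_pos u2, T.w_pos u3]
                · -- (1,3) Tp
                  exfalso
                  have key := Groth.Agent.Helper6.NT.negfun3 T h2 u0 u1 u3 (by norm_num) 1 2 1 (by norm_num) (by norm_num)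
                  linarith only [key, tap_0_1, taq_0_1, z_0_3, tap_1_3, taq_1_3, T.w_pos u0, T.w_pos u1, T.w_pos u3]
                · -- (1,3) Tm
                  exfalso
                  have key := Groth.Agent.Helper6.NT.negfun3 T h2 u0 u1 u3 (by norm_num) 1 2 3 (by norm_num) (by norm_num)
                  linarith only [key, tap_0_1, taq_0_1, z_0_3, tap_1_3, taq_1_3, T.w_pos u0, T.w_pos u1, T.w_pos u3]
              · push Not at hx
                have cl_1 := hx
                clear hx
                by_cases hx : ∃ j, (j ≠ u0 ∧ j ≠ u1 ∧ j ≠ u2) ∧ T.a u2 j ≠ 0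
                · obtain ⟨u3, ⟨hn_3_0, hn_3_1, hn_3_2⟩, e_2_3⟩ := hx
                  have z_0_3 : T.a u0 u3 = 0 := cl_0 u3 ⟨hn_3_0, hn_3_1, hn_3_2⟩
                  have z_1_3 : T.a u1 u3 = 0 := cl_1 u3 ⟨hn_3_0, hn_3_1, hn_3_2⟩
                  rcases Groth.Agent.Helper6.NT.edge5 T h2 (by norm_num) u2 u3 hn_3_2.symm e_2_3 with ⟨tw_2_3, tap_2_3, taq_2_3⟩ | ⟨tw_2_3, tap_2_3, taq_2_3⟩ | ⟨tw_2_3, tap_2_3, taq_2_3⟩ | ⟨tw_2_3, tap_2_3, taq_2_3⟩ | ⟨tw_2_3, tap_2_3, taq_2_3⟩
                  · -- (2,3) S
                    by_cases hx : ∃ j, (j ≠ u0 ∧ j ≠ u1 ∧ j ≠ u2 ∧ j ≠ u3) ∧ T.a u2 j ≠ 0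
                    · obtain ⟨u4, ⟨hn_4_0, hn_4_1, hn_4_2, hn_4_3⟩, e_2_4⟩ := hx
                      have z_0_4 : T.a u0 u4 = 0 := cl_0 u4 ⟨hn_4_0, hn_4_1, hn_4_2⟩
                      have z_1_4 : T.a u1 u4 = 0 := cl_1 u4 ⟨hn_4_0, hn_4_1, hn_4_2⟩
                      rcases Groth.Agent.Helper6.NT.edge5 T h2 (by norm_num) u2 u4 hn_4_2.symm e_2_4 with ⟨tw_2_4, tap_2_4, taq_2_4⟩ | ⟨tw_2_4, tap_2_4, taq_2_4⟩ | ⟨tw_2_4, tap_2_4, taq_2_4⟩ | ⟨tw_2_4, tap_2_4, taq_2_4⟩ | ⟨tw_2_4, tap_2_4, taq_2_4⟩
                      · -- (2,4) S
                        exfalso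
                        have key := Groth.Agent.Helper6.NT.negfun4 T h2 u0 u2 u3 u4 (by norm_num) 1 2 1 1 (by norm_num) (by norm_num)
                        linarith only [key, tap_0_2, taq_0_2, z_0_3, z_0_4, tap_2_3, taq_2_3, tap_2_4, taq_2_4, T.offDiag_nonneg u3 u4 hn_4_3.symm, T.w_pos u0, T.w_pos u2, T.w_pos u3, T.w_pos u4]
                      · -- (2,4) Dp
                        exfalso
                        have key := Groth.Agent.Helper6.NT.negfun3 T h2 u0 u2 u4 (by norm_num) 1 2 1 (by norm_num) (by norm_num)
                        linarith only [key, tap_0_2, taq_0_2, z_0_4, tap_2_4, taq_2_4, T.w_pos u0, T.w_pos u2, T.w_pos u4]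
                      · -- (2,4) Dm
                        exfalso
                        have key := Groth.Agent.Helper6.NT.negfun3 T h2 u0 u2 u4 (by norm_num) 1 2 2 (by norm_num) (by norm_num)
                        linarith only [key, tap_0_2, taq_0_2, z_0_4, tap_2_4, taq_2_4, T.w_pos u0, T.w_pos u2, T.w_pos u4]
                      · -- (2,4) Tp
                        exfalso
                        have key := Groth.Agent.Helper6.NT.negfun3 T h2 u2 u3 u4 (by norm_num) 2 1 1 (by norm_num) (by norm_num)
                        linarith only [key, tap_2_3, taq_2_3, tap_2_4, taq_2_4, T.offDiag_nonneg u3 u4 hn_4_3.symm, T.w_pos u2, T.w_pos u3, T.w_pos u4]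
                      · -- (2,4) Tm
                        exfalso
                        have key := Groth.Agent.Helper6.NT.negfun3 T h2 u2 u3 u4 (by norm_num) 2 1 3 (by norm_num) (by norm_num)
                        linarith only [key, tap_2_3, taq_2_3, tap_2_4, taq_2_4, T.offDiag_nonneg u3 u4 hn_4_3.symm, T.w_pos u2, T.w_pos u3, T.w_pos u4]
                    · push Not at hx
                      have cl_2 := hx
                      clear hx
                      by_cases hx : ∃ j, (j ≠ u0 ∧ j ≠ u1 ∧ j ≠ u2 ∧ j ≠ u3) ∧ T.a u3 j ≠ 0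
                      · obtain ⟨u4, ⟨hn_4_0, hn_4_1, hn_4_2, hn_4_3⟩, e_3_4⟩ := hx
                        have z_0_4 : T.a u0 u4 = 0 := cl_0 u4 ⟨hn_4_0, hn_4_1, hn_4_2⟩
                        have z_1_4 : T.a u1 u4 = 0 := cl_1 u4 ⟨hn_4_0, hn_4_1, hn_4_2⟩
                        have z_2_4 : T.a u2 u4 = 0 := cl_2 u4 ⟨hn_4_0, hn_4_1, hn_4_2, hn_4_3⟩
                        rcases Groth.Agent.Helper6.NT.edge5 T h2 (by norm_num) u3 u4 hn_4_3.symm e_3_4 with ⟨tw_3_4, tap_3_4, taq_3_4⟩ | ⟨tw_3_4, tap_3_4, taq_3_4⟩ | ⟨tw_3_4, tap_3_4, taq_3_4⟩ | ⟨tw_3_4, tap_3_4, taq_3_4⟩ | ⟨tw_3_4, tap_3_4, taq_3_4⟩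
                        · -- (3,4) S
                          have hinj := Groth.Agent.Helper6.NT.inj5 u0 u1 u2 u3 u4 hn_1_0 hn_2_0 hn_2_1 hn_3_0 hn_3_1 hn_3_2 hn_4_0 hn_4_1 hn_4_2 hn_4_3
                          have r_0 : -2 * T.m u0 + 1 * T.m u1 + 1 * T.m u2 = 0 := by
                            have key := Groth.Agent.Helper6.NT.rowfun5 T u0 u1 u2 u3 u4 hinj u0
                            rw [(h2 u0).2, tap_0_1, tap_0_2, z_0_3, z_0_4] at key
                            exact mul_left_cancel₀ (T.w_pos u0).ne' (by linarith only [key])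
                          have r_1 : 1 * T.m u0 + -2 * T.m u1 = 0 := by
                            have key := Groth.Agent.Helper6.NT.rowfun5 T u0 u1 u2 u3 u4 hinj u1
                            rw [Groth.Agent.Helper6.NT.symm' T u1 u0, taq_0_1, (h2 u1).2, z_1_2, z_1_3, z_1_4] at key
                            exact mul_left_cancel₀ (T.w_pos u1).ne' (by linarith only [key])
                          have r_2 : 2 * T.m u0 + -2 * T.m u2 + 1 * T.m u3 = 0 := by
                            have key := Groth.Agent.Helper6.NT.rowfun5 T u0 u1 u2 u3 u4 hinj u2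
                            rw [Groth.Agent.Helper6.NT.symm' T u2 u0, taq_0_2, Groth.Agent.Helper6.NT.symm' T u2 u1, z_1_2, (h2 u2).2, tap_2_3, z_2_4] at key
                            exact mul_left_cancel₀ (T.w_pos u2).ne' (by linarith only [key])
                          have r_3 : 1 * T.m u2 + -2 * T.m u3 + 1 * T.m u4 = 0 := by
                            have key := Groth.Agent.Helper6.NT.rowfun5 T u0 u1 u2 u3 u4 hinj u3
                            rw [Groth.Agent.Helper6.NT.symm' T u3 u0, z_0_3, Groth.Agent.Helper6.NT.symm' T u3 u1, z_1_3, Groth.Agent.Helper6.NT.symm' T u3 u2, taq_2_3, (h2 u3).2, tap_3_4] at key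
                            exact mul_left_cancel₀ (T.w_pos u3).ne' (by linarith only [key])
                          have r_4 : 1 * T.m u3 + -2 * T.m u4 = 0 := by
                            have key := Groth.Agent.Helper6.NT.rowfun5 T u0 u1 u2 u3 u4 hinj u4
                            rw [Groth.Agent.Helper6.NT.symm' T u4 u0, z_0_4, Groth.Agent.Helper6.NT.symm' T u4 u1, z_1_4, Groth.Agent.Helper6.NT.symm' T u4 u2, z_2_4, Groth.Agent.Helper6.NT.symm' T u4 u3, taq_3_4, (h2 u4).2] at key
                            exact mul_left_cancel₀ (T.w_pos u4).ne' (by linarith only [key])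
                          have f0 : T.m u4 = T.m u4 := rfl
                          have f1 : T.m u3 = 2 * T.m u4 := by linarith only [r_0, r_1, r_2, r_3, r_4]
                          have f2 : T.m u2 = 3 * T.m u4 := by linarith only [r_0, r_1, r_2, r_3, r_4]
                          have f3 : T.m u0 = 2 * T.m u4 := by linarith only [r_0, r_1, r_2, r_3, r_4]
                          have f4 : T.m u1 = T.m u4 := by linarith only [r_0, r_1, r_2, r_3, r_4]
                          have f5 : T.w u4 = T.w u4 := rfl
                          have f6 : T.w u3 = T.w u4 := by linarith only [tw_0_1, tw_0_2, tw_2_3, tw_3_4]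
                          have f7 : T.w u2 = T.w u4 := by linarith only [tw_0_1, tw_0_2, tw_2_3, tw_3_4]
                          have f8 : T.w u0 = 2 * T.w u4 := by linarith only [tw_0_1, tw_0_2, tw_2_3, tw_3_4]
                          have f9 : T.w u1 = 2 * T.w u4 := by linarith only [tw_0_1, tw_0_2, tw_2_3, tw_3_4]
                          have f10 : T.a u4 u4 = -2 * T.w u4 := by have := (h2 u4).2; linarith only [this, tw_0_1, tw_0_2, tw_2_3, tw_3_4]
                          have f11 : T.a u4 u3 = T.w u4 := by rw [Groth.Agent.Helper6.NT.symm' T u4 u3]; linarith only [tap_3_4, tw_0_1, tw_0_2, tw_2_3, tw_3_4]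
                          have f12 : T.a u4 u2 = 0 := by rw [Groth.Agent.Helper6.NT.symm' T u4 u2]; exact z_2_4
                          have f13 : T.a u4 u0 = 0 := by rw [Groth.Agent.Helper6.NT.symm' T u4 u0]; exact z_0_4
                          have f14 : T.a u4 u1 = 0 := by rw [Groth.Agent.Helper6.NT.symm' T u4 u1]; exact z_1_4
                          have f15 : T.a u3 u3 = -2 * T.w u4 := by have := (h2 u3).2; linarith only [this, tw_0_1, tw_0_2, tw_2_3, tw_3_4]
                          have f16 : T.a u3 u2 = T.w u4 := by rw [Groth.Agent.Helper6.NT.symm' T u3 u2]; linarith only [tap_2_3, tw_0_1, tw_0_2, tw_2_3, tw_3_4]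
                          have f17 : T.a u3 u0 = 0 := by rw [Groth.Agent.Helper6.NT.symm' T u3 u0]; exact z_0_3
                          have f18 : T.a u3 u1 = 0 := by rw [Groth.Agent.Helper6.NT.symm' T u3 u1]; exact z_1_3
                          have f19 : T.a u2 u2 = -2 * T.w u4 := by have := (h2 u2).2; linarith only [this, tw_0_1, tw_0_2, tw_2_3, tw_3_4]
                          have f20 : T.a u2 u0 = 2 * T.w u4 := by rw [Groth.Agent.Helper6.NT.symm' T u2 u0]; linarith only [tap_0_2, tw_0_1, tw_0_2, tw_2_3, tw_3_4]
                          have f21 : T.a u2 u1 = 0 := by rw [Groth.Agent.Helper6.NT.symm' T u2 u1]; exact z_1_2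
                          have f22 : T.a u0 u0 = -4 * T.w u4 := by have := (h2 u0).2; linarith only [this, tw_0_1, tw_0_2, tw_2_3, tw_3_4]
                          have f23 : T.a u0 u1 = 2 * T.w u4 := by linarith only [tap_0_1, tw_0_1, tw_0_2, tw_2_3, tw_3_4]
                          have f24 : T.a u1 u1 = -4 * T.w u4 := by have := (h2 u1).2; linarith only [this, tw_0_1, tw_0_2, tw_2_3, tw_3_4]
                          have hsig := Groth.Agent.Helper6.NT.inj5 u4 u3 u2 u0 u1 hn_4_3.symm hn_4_2.symm hn_3_2.symm hn_4_0.symm hn_3_0.symm hn_2_0.symm hn_4_1.symm hn_3_1.symm hn_2_1.symm hn_1_0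
                          exact ⟨Equiv.ofBijective _ (Finite.injective_iff_bijective.1 hsig), T.m u4, T.w u4, Or.inr (Or.inl ⟨f0, f1, f2, f3, f4, f5, f6, f7, f8, f9, f10, f11, f12, f13, f14, f15, f16, f17, f18, f19, f20, f21, f22, f23, f24⟩)⟩
                        · -- (3,4) Dp
                          exfalso
                          have key := Groth.Agent.Helper6.NT.negfun4 T h2 u0 u2 u3 u4 (by norm_num) 1 2 2 1 (by norm_num) (by norm_num)
                          linarith only [key, tap_0_2, taq_0_2, z_0_3, z_0_4, tap_2_3, taq_2_3, z_2_4, tap_3_4, taq_3_4, T.w_pos u0, T.w_pos u2, T.w_pos u3, T.w_pos u4]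
                        · -- (3,4) Dm
                          exfalso
                          have key := Groth.Agent.Helper6.NT.negfun4 T h2 u0 u2 u3 u4 (by norm_num) 1 2 2 2 (by norm_num) (by norm_num)
                          linarith only [key, tap_0_2, taq_0_2, z_0_3, z_0_4, tap_2_3, taq_2_3, z_2_4, tap_3_4, taq_3_4, T.w_pos u0, T.w_pos u2, T.w_pos u3, T.w_pos u4]
                        · -- (3,4) Tp
                          exfalso
                          have key := Groth.Agent.Helper6.NT.negfun3 T h2 u2 u3 u4 (by norm_num) 1 2 1 (by norm_num) (by norm_num)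
                          linarith only [key, tap_2_3, taq_2_3, z_2_4, tap_3_4, taq_3_4, T.w_pos u2, T.w_pos u3, T.w_pos u4]
                        · -- (3,4) Tm
                          exfalso
                          have key := Groth.Agent.Helper6.NT.negfun3 T h2 u2 u3 u4 (by norm_num) 1 2 3 (by norm_num) (by norm_num)
                          linarith only [key, tap_2_3, taq_2_3, z_2_4, tap_3_4, taq_3_4, T.w_pos u2, T.w_pos u3, T.w_pos u4]
                      · push Not at hx
                        have cl_3 := hx
                        clear hx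
                        exfalso
                        refine Groth.Agent.Helper6.NT.closed_contra T [u0, u1, u2, u3] (by simp) (by simp) ?_
                        intro i hi j hj
                        simp only [List.mem_cons, List.not_mem_nil, or_false, not_or] at hi hj
                        rcases hi with rfl | rfl | rfl | rfl
                        · exact cl_0 j ⟨hj.1, hj.2.1, hj.2.2.1⟩
                        · exact cl_1 j ⟨hj.1, hj.2.1, hj.2.2.1⟩
                        · exact cl_2 j ⟨hj.1, hj.2.1, hj.2.2.1, hj.2.2.2⟩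
                        · exact cl_3 j ⟨hj.1, hj.2.1, hj.2.2.1, hj.2.2.2⟩
                  · -- (2,3) Dp
                    exfalso
                    have key := Groth.Agent.Helper6.NT.negfun3 T h2 u0 u2 u3 (by norm_num) 1 2 1 (by norm_num) (by norm_num)
                    linarith only [key, tap_0_2, taq_0_2, z_0_3, tap_2_3, taq_2_3, T.w_pos u0, T.w_pos u2, T.w_pos u3]
                  · -- (2,3) Dm
                    exfalso
                    have key := Groth.Agent.Helper6.NT.negfun3 T h2 u0 u2 u3 (by norm_num) 1 2 2 (by norm_num) (by norm_num)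
                    linarith only [key, tap_0_2, taq_0_2, z_0_3, tap_2_3, taq_2_3, T.w_pos u0, T.w_pos u2, T.w_pos u3]
                  · -- (2,3) Tp
                    exfalso
                    have key := Groth.Agent.Helper6.NT.negfun3 T h2 u0 u2 u3 (by norm_num) 1 2 1 (by norm_num) (by norm_num)
                    linarith only [key, tap_0_2, taq_0_2, z_0_3, tap_2_3, taq_2_3, T.w_pos u0, T.w_pos u2, T.w_pos u3]
                  · -- (2,3) Tm
                    exfalso
                    have key := Groth.Agent.Helper6.NT.negfun3 T h2 u0 u2 u3 (by norm_num) 1 2 3 (by norm_num) (by norm_num)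
                    linarith only [key, tap_0_2, taq_0_2, z_0_3, tap_2_3, taq_2_3, T.w_pos u0, T.w_pos u2, T.w_pos u3]
                · push Not at hx
                  have cl_2 := hx
                  clear hx
                  exfalso
                  refine Groth.Agent.Helper6.NT.closed_contra T [u0, u1, u2] (by simp) (by simp) ?_
                  intro i hi j hj
                  simp only [List.mem_cons, List.not_mem_nil, or_false, not_or] at hi hj
                  rcases hi with rfl | rfl | rfl
                  · exact cl_0 j ⟨hj.1, hj.2.1, hj.2.2⟩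
                  · exact cl_1 j ⟨hj.1, hj.2.1, hj.2.2⟩
                  · exact cl_2 j ⟨hj.1, hj.2.1, hj.2.2⟩
          · -- (1,2) nonzero
            obtain ⟨lbp_1_2, lbq_1_2⟩ := Groth.Agent.Helper6.NT.lb T u1 u2 hn_2_1.symm nz_1_2
            exfalso
            have key := Groth.Agent.Helper6.NT.negfun3 T h2 u0 u1 u2 (by norm_num) 1 1 1 (by norm_num) (by norm_num)
            linarith only [key, tap_0_1, taq_0_1, tap_0_2, taq_0_2, lbp_1_2, lbq_1_2, T.w_pos u0, T.w_pos u1, T.w_pos u2]
        · -- (0,2) Tp
          exfalso
          have key := Groth.Agent.Helper6.NT.negfun3 T h2 u0 u1 u2 (by norm_num) 2 1 1 (by norm_num) (by norm_num)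
          linarith only [key, tap_0_1, taq_0_1, tap_0_2, taq_0_2, T.offDiag_nonneg u1 u2 hn_2_1.symm, T.w_pos u0, T.w_pos u1, T.w_pos u2]
        · -- (0,2) Tm
          exfalso
          have key := Groth.Agent.Helper6.NT.negfun3 T h2 u0 u1 u2 (by norm_num) 2 1 3 (by norm_num) (by norm_num)
          linarith only [key, tap_0_1, taq_0_1, tap_0_2, taq_0_2, T.offDiag_nonneg u1 u2 hn_2_1.symm, T.w_pos u0, T.w_pos u1, T.w_pos u2]
      · push Not at hx
        have cl_0 := hx
        clear hx
        by_cases hx : ∃ j, (j ≠ u0 ∧ j ≠ u1) ∧ T.a u1 j ≠ 0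
        · obtain ⟨u2, ⟨hn_2_0, hn_2_1⟩, e_1_2⟩ := hx
          have z_0_2 : T.a u0 u2 = 0 := cl_0 u2 ⟨hn_2_0, hn_2_1⟩
          rcases Groth.Agent.Helper6.NT.edge5 T h2 (by norm_num) u1 u2 hn_2_1.symm e_1_2 with ⟨tw_1_2, tap_1_2, taq_1_2⟩ | ⟨tw_1_2, tap_1_2, taq_1_2⟩ | ⟨tw_1_2, tap_1_2, taq_1_2⟩ | ⟨tw_1_2, tap_1_2, taq_1_2⟩ | ⟨tw_1_2, tap_1_2, taq_1_2⟩
          · -- (1,2) S
            by_cases hx : ∃ j, (j ≠ u0 ∧ j ≠ u1 ∧ j ≠ u2) ∧ T.a u1 j ≠ 0
            · obtain ⟨u3, ⟨hn_3_0, hn_3_1, hn_3_2⟩, e_1_3⟩ := hx
              have z_0_3 : T.a u0 u3 = 0 := cl_0 u3 ⟨hn_3_0, hn_3_1⟩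
              rcases Groth.Agent.Helper6.NT.edge5 T h2 (by norm_num) u1 u3 hn_3_1.symm e_1_3 with ⟨tw_1_3, tap_1_3, taq_1_3⟩ | ⟨tw_1_3, tap_1_3, taq_1_3⟩ | ⟨tw_1_3, tap_1_3, taq_1_3⟩ | ⟨tw_1_3, tap_1_3, taq_1_3⟩ | ⟨tw_1_3, tap_1_3, taq_1_3⟩
              · -- (1,3) S
                rcases eq_or_ne (T.a u2 u3) 0 with z_2_3 | nz_2_3
                · -- (2,3) zero
                  by_cases hx : ∃ j, (j ≠ u0 ∧ j ≠ u1 ∧ j ≠ u2 ∧ j ≠ u3) ∧ T.a u1 j ≠ 0
                  · obtain ⟨u4, ⟨hn_4_0, hn_4_1, hn_4_2, hn_4_3⟩, e_1_4⟩ := hx
                    have z_0_4 : T.a u0 u4 = 0 := cl_0 u4 ⟨hn_4_0, hn_4_1⟩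
                    rcases Groth.Agent.Helper6.NT.edge5 T h2 (by norm_num) u1 u4 hn_4_1.symm e_1_4 with ⟨tw_1_4, tap_1_4, taq_1_4⟩ | ⟨tw_1_4, tap_1_4, taq_1_4⟩ | ⟨tw_1_4, tap_1_4, taq_1_4⟩ | ⟨tw_1_4, tap_1_4, taq_1_4⟩ | ⟨tw_1_4, tap_1_4, taq_1_4⟩
                    · -- (1,4) S
                      rcases eq_or_ne (T.a u2 u4) 0 with z_2_4 | nz_2_4
                      · -- (2,4) zero
                        rcases eq_or_ne (T.a u3 u4) 0 with z_3_4 | nz_3_4
                        · -- (3,4) zero
                          have hinj := Groth.Agent.Helper6.NT.inj5 u0 u1 u2 u3 u4 hn_1_0 hn_2_0 hn_2_1 hn_3_0 hn_3_1 hn_3_2 hn_4_0 hn_4_1 hn_4_2 hn_4_3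
                          have r_0 : -2 * T.m u0 + 1 * T.m u1 = 0 := by
                            have key := Groth.Agent.Helper6.NT.rowfun5 T u0 u1 u2 u3 u4 hinj u0
                            rw [(h2 u0).2, tap_0_1, z_0_2, z_0_3, z_0_4] at key
                            exact mul_left_cancel₀ (T.w_pos u0).ne' (by linarith only [key])
                          have r_1 : 1 * T.m u0 + -2 * T.m u1 + 1 * T.m u2 + 1 * T.m u3 + 1 * T.m u4 = 0 := by
                            have key := Groth.Agent.Helper6.NT.rowfun5 T u0 u1 u2 u3 u4 hinj u1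
                            rw [Groth.Agent.Helper6.NT.symm' T u1 u0, taq_0_1, (h2 u1).2, tap_1_2, tap_1_3, tap_1_4] at key
                            exact mul_left_cancel₀ (T.w_pos u1).ne' (by linarith only [key])
                          have r_2 : 1 * T.m u1 + -2 * T.m u2 = 0 := by
                            have key := Groth.Agent.Helper6.NT.rowfun5 T u0 u1 u2 u3 u4 hinj u2
                            rw [Groth.Agent.Helper6.NT.symm' T u2 u0, z_0_2, Groth.Agent.Helper6.NT.symm' T u2 u1, taq_1_2, (h2 u2).2, z_2_3, z_2_4] at key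
                            exact mul_left_cancel₀ (T.w_pos u2).ne' (by linarith only [key])
                          have r_3 : 1 * T.m u1 + -2 * T.m u3 = 0 := by
                            have key := Groth.Agent.Helper6.NT.rowfun5 T u0 u1 u2 u3 u4 hinj u3
                            rw [Groth.Agent.Helper6.NT.symm' T u3 u0, z_0_3, Groth.Agent.Helper6.NT.symm' T u3 u1, taq_1_3, Groth.Agent.Helper6.NT.symm' T u3 u2, z_2_3, (h2 u3).2, z_3_4] at key
                            exact mul_left_cancel₀ (T.w_pos u3).ne' (by linarith only [key])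
                          have r_4 : 1 * T.m u1 + -2 * T.m u4 = 0 := by
                            have key := Groth.Agent.Helper6.NT.rowfun5 T u0 u1 u2 u3 u4 hinj u4
                            rw [Groth.Agent.Helper6.NT.symm' T u4 u0, z_0_4, Groth.Agent.Helper6.NT.symm' T u4 u1, taq_1_4, Groth.Agent.Helper6.NT.symm' T u4 u2, z_2_4, Groth.Agent.Helper6.NT.symm' T u4 u3, z_3_4, (h2 u4).2] at key
                            exact mul_left_cancel₀ (T.w_pos u4).ne' (by linarith only [key])
                          have f0 : T.m u1 = 2 * T.m u0 := by linarith only [r_0, r_1, r_2, r_3, r_4]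
                          have f1 : T.m u0 = T.m u0 := rfl
                          have f2 : T.m u2 = T.m u0 := by linarith only [r_0, r_1, r_2, r_3, r_4]
                          have f3 : T.m u3 = T.m u0 := by linarith only [r_0, r_1, r_2, r_3, r_4]
                          have f4 : T.m u4 = T.m u0 := by linarith only [r_0, r_1, r_2, r_3, r_4]
                          have f5 : T.w u1 = T.w u1 := rfl
                          have f6 : T.w u0 = T.w u1 := by linarith only [tw_0_1, tw_1_2, tw_1_3, tw_1_4]
                          have f7 : T.w u2 = T.w u1 := by linarith only [tw_0_1, tw_1_2, tw_1_3, tw_1_4]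
                          have f8 : T.w u3 = T.w u1 := by linarith only [tw_0_1, tw_1_2, tw_1_3, tw_1_4]
                          have f9 : T.w u4 = T.w u1 := by linarith only [tw_0_1, tw_1_2, tw_1_3, tw_1_4]
                          have f10 : T.a u1 u1 = -2 * T.w u1 := by have := (h2 u1).2; linarith only [this, tw_0_1, tw_1_2, tw_1_3, tw_1_4]
                          have f11 : T.a u1 u0 = T.w u1 := by rw [Groth.Agent.Helper6.NT.symm' T u1 u0]; linarith only [tap_0_1, tw_0_1, tw_1_2, tw_1_3, tw_1_4]
                          have f12 : T.a u1 u2 = T.w u1 := by linarith only [tap_1_2, tw_0_1, tw_1_2, tw_1_3, tw_1_4]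
                          have f13 : T.a u1 u3 = T.w u1 := by linarith only [tap_1_3, tw_0_1, tw_1_2, tw_1_3, tw_1_4]
                          have f14 : T.a u1 u4 = T.w u1 := by linarith only [tap_1_4, tw_0_1, tw_1_2, tw_1_3, tw_1_4]
                          have f15 : T.a u0 u0 = -2 * T.w u1 := by have := (h2 u0).2; linarith only [this, tw_0_1, tw_1_2, tw_1_3, tw_1_4]
                          have f16 : T.a u0 u2 = 0 := by exact z_0_2
                          have f17 : T.a u0 u3 = 0 := by exact z_0_3
                          have f18 : T.a u0 u4 = 0 := by exact z_0_4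
                          have f19 : T.a u2 u2 = -2 * T.w u1 := by have := (h2 u2).2; linarith only [this, tw_0_1, tw_1_2, tw_1_3, tw_1_4]
                          have f20 : T.a u2 u3 = 0 := by exact z_2_3
                          have f21 : T.a u2 u4 = 0 := by exact z_2_4
                          have f22 : T.a u3 u3 = -2 * T.w u1 := by have := (h2 u3).2; linarith only [this, tw_0_1, tw_1_2, tw_1_3, tw_1_4]
                          have f23 : T.a u3 u4 = 0 := by exact z_3_4
                          have f24 : T.a u4 u4 = -2 * T.w u1 := by have := (h2 u4).2; linarith only [this, tw_0_1, tw_1_2, tw_1_3, tw_1_4]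
                          have hsig := Groth.Agent.Helper6.NT.inj5 u1 u0 u2 u3 u4 hn_1_0.symm hn_2_1 hn_2_0 hn_3_1 hn_3_0 hn_3_2 hn_4_1 hn_4_0 hn_4_2 hn_4_3
                          exact ⟨Equiv.ofBijective _ (Finite.injective_iff_bijective.1 hsig), T.m u0, T.w u1, Or.inr (Or.inr (Or.inr (Or.inr (Or.inr (Or.inr (Or.inl ⟨f0, f1, f2, f3, f4, f5, f6, f7, f8, f9, f10, f11, f12, f13, f14, f15, f16, f17, f18, f19, f20, f21, f22, f23, f24⟩))))))⟩
                        · -- (3,4) nonzero
                          obtain ⟨lbp_3_4, lbq_3_4⟩ := Groth.Agent.Helper6.NT.lb T u3 u4 hn_4_3.symm nz_3_4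
                          exfalso
                          have key := Groth.Agent.Helper6.NT.negfun3 T h2 u1 u3 u4 (by norm_num) 1 1 1 (by norm_num) (by norm_num)
                          linarith only [key, tap_1_3, taq_1_3, tap_1_4, taq_1_4, lbp_3_4, lbq_3_4, T.w_pos u1, T.w_pos u3, T.w_pos u4]
                      · -- (2,4) nonzero
                        obtain ⟨lbp_2_4, lbq_2_4⟩ := Groth.Agent.Helper6.NT.lb T u2 u4 hn_4_2.symm nz_2_4
                        exfalso
                        have key := Groth.Agent.Helper6.NT.negfun3 T h2 u1 u2 u4 (by norm_num) 1 1 1 (by norm_num) (by norm_num)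
                        linarith only [key, tap_1_2, taq_1_2, tap_1_4, taq_1_4, lbp_2_4, lbq_2_4, T.w_pos u1, T.w_pos u2, T.w_pos u4]
                    · -- (1,4) Dp
                      exfalso
                      have key := Groth.Agent.Helper6.NT.negfun4 T h2 u1 u2 u3 u4 (by norm_num) 2 1 1 1 (by norm_num) (by norm_num)
                      linarith only [key, tap_1_2, taq_1_2, tap_1_3, taq_1_3, tap_1_4, taq_1_4, z_2_3, T.offDiag_nonneg u2 u4 hn_4_2.symm, T.offDiag_nonneg u3 u4 hn_4_3.symm, T.w_pos u1, T.w_pos u2, T.w_pos u3, T.w_pos u4]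
                    · -- (1,4) Dm
                      exfalso
                      have key := Groth.Agent.Helper6.NT.negfun4 T h2 u1 u2 u3 u4 (by norm_num) 2 1 1 2 (by norm_num) (by norm_num)
                      linarith only [key, tap_1_2, taq_1_2, tap_1_3, taq_1_3, tap_1_4, taq_1_4, z_2_3, T.offDiag_nonneg u2 u4 hn_4_2.symm, T.offDiag_nonneg u3 u4 hn_4_3.symm, T.w_pos u1, T.w_pos u2, T.w_pos u3, T.w_pos u4]
                    · -- (1,4) Tp
                      exfalso
                      have key := Groth.Agent.Helper6.NT.negfun3 T h2 u1 u3 u4 (by norm_num) 2 1 1 (by norm_num) (by norm_num)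
                      linarith only [key, tap_1_3, taq_1_3, tap_1_4, taq_1_4, T.offDiag_nonneg u3 u4 hn_4_3.symm, T.w_pos u1, T.w_pos u3, T.w_pos u4]
                    · -- (1,4) Tm
                      exfalso
                      have key := Groth.Agent.Helper6.NT.negfun3 T h2 u1 u3 u4 (by norm_num) 2 1 3 (by norm_num) (by norm_num)
                      linarith only [key, tap_1_3, taq_1_3, tap_1_4, taq_1_4, T.offDiag_nonneg u3 u4 hn_4_3.symm, T.w_pos u1, T.w_pos u3, T.w_pos u4]
                  · push Not at hx
                    have cl_1 := hx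
                    clear hx
                    by_cases hx : ∃ j, (j ≠ u0 ∧ j ≠ u1 ∧ j ≠ u2 ∧ j ≠ u3) ∧ T.a u2 j ≠ 0
                    · obtain ⟨u4, ⟨hn_4_0, hn_4_1, hn_4_2, hn_4_3⟩, e_2_4⟩ := hx
                      have z_0_4 : T.a u0 u4 = 0 := cl_0 u4 ⟨hn_4_0, hn_4_1⟩
                      have z_1_4 : T.a u1 u4 = 0 := cl_1 u4 ⟨hn_4_0, hn_4_1, hn_4_2, hn_4_3⟩
                      rcases Groth.Agent.Helper6.NT.edge5 T h2 (by norm_num) u2 u4 hn_4_2.symm e_2_4 with ⟨tw_2_4, tap_2_4, taq_2_4⟩ | ⟨tw_2_4, tap_2_4, taq_2_4⟩ | ⟨tw_2_4, tap_2_4, taq_2_4⟩ | ⟨tw_2_4, tap_2_4, taq_2_4⟩ | ⟨tw_2_4, tap_2_4, taq_2_4⟩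
                      · -- (2,4) S
                        rcases eq_or_ne (T.a u3 u4) 0 with z_3_4 | nz_3_4
                        · -- (3,4) zero
                          have hinj := Groth.Agent.Helper6.NT.inj5 u0 u1 u2 u3 u4 hn_1_0 hn_2_0 hn_2_1 hn_3_0 hn_3_1 hn_3_2 hn_4_0 hn_4_1 hn_4_2 hn_4_3
                          have r_0 : -2 * T.m u0 + 1 * T.m u1 = 0 := by
                            have key := Groth.Agent.Helper6.NT.rowfun5 T u0 u1 u2 u3 u4 hinj u0
                            rw [(h2 u0).2, tap_0_1, z_0_2, z_0_3, z_0_4] at key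
                            exact mul_left_cancel₀ (T.w_pos u0).ne' (by linarith only [key])
                          have r_1 : 1 * T.m u0 + -2 * T.m u1 + 1 * T.m u2 + 1 * T.m u3 = 0 := by
                            have key := Groth.Agent.Helper6.NT.rowfun5 T u0 u1 u2 u3 u4 hinj u1
                            rw [Groth.Agent.Helper6.NT.symm' T u1 u0, taq_0_1, (h2 u1).2, tap_1_2, tap_1_3, z_1_4] at key
                            exact mul_left_cancel₀ (T.w_pos u1).ne' (by linarith only [key])
                          have r_2 : 1 * T.m u1 + -2 * T.m u2 + 1 * T.m u4 = 0 := by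
                            have key := Groth.Agent.Helper6.NT.rowfun5 T u0 u1 u2 u3 u4 hinj u2
                            rw [Groth.Agent.Helper6.NT.symm' T u2 u0, z_0_2, Groth.Agent.Helper6.NT.symm' T u2 u1, taq_1_2, (h2 u2).2, z_2_3, tap_2_4] at key
                            exact mul_left_cancel₀ (T.w_pos u2).ne' (by linarith only [key])
                          have r_3 : 1 * T.m u1 + -2 * T.m u3 = 0 := by
                            have key := Groth.Agent.Helper6.NT.rowfun5 T u0 u1 u2 u3 u4 hinj u3
                            rw [Groth.Agent.Helper6.NT.symm' T u3 u0, z_0_3, Groth.Agent.Helper6.NT.symm' T u3 u1, taq_1_3, Groth.Agent.Helper6.NT.symm' T u3 u2, z_2_3, (h2 u3).2, z_3_4] at key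
                            exact mul_left_cancel₀ (T.w_pos u3).ne' (by linarith only [key])
                          have r_4 : 1 * T.m u2 + -2 * T.m u4 = 0 := by
                            have key := Groth.Agent.Helper6.NT.rowfun5 T u0 u1 u2 u3 u4 hinj u4
                            rw [Groth.Agent.Helper6.NT.symm' T u4 u0, z_0_4, Groth.Agent.Helper6.NT.symm' T u4 u1, z_1_4, Groth.Agent.Helper6.NT.symm' T u4 u2, taq_2_4, Groth.Agent.Helper6.NT.symm' T u4 u3, z_3_4, (h2 u4).2] at key
                            exact mul_left_cancel₀ (T.w_pos u4).ne' (by linarith only [key])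
                          exfalso
                          linarith only [r_0, r_1, r_2, r_3, r_4, T.m_pos u0, T.m_pos u1, T.m_pos u2, T.m_pos u3, T.m_pos u4]
                        · -- (3,4) nonzero
                          obtain ⟨lbp_3_4, lbq_3_4⟩ := Groth.Agent.Helper6.NT.lb T u3 u4 hn_4_3.symm nz_3_4
                          exfalso
                          have key := Groth.Agent.Helper6.NT.negfun4 T h2 u1 u2 u3 u4 (by norm_num) 1 1 1 1 (by norm_num) (by norm_num)
                          linarith only [key, tap_1_2, taq_1_2, tap_1_3, taq_1_3, z_1_4, z_2_3, tap_2_4, taq_2_4, lbp_3_4, lbq_3_4, T.w_pos u1, T.w_pos u2, T.w_pos u3, T.w_pos u4]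
                      · -- (2,4) Dp
                        rcases eq_or_ne (T.a u3 u4) 0 with z_3_4 | nz_3_4
                        · -- (3,4) zero
                          have hinj := Groth.Agent.Helper6.NT.inj5 u0 u1 u2 u3 u4 hn_1_0 hn_2_0 hn_2_1 hn_3_0 hn_3_1 hn_3_2 hn_4_0 hn_4_1 hn_4_2 hn_4_3
                          have r_0 : -2 * T.m u0 + 1 * T.m u1 = 0 := by
                            have key := Groth.Agent.Helper6.NT.rowfun5 T u0 u1 u2 u3 u4 hinj u0
                            rw [(h2 u0).2, tap_0_1, z_0_2, z_0_3, z_0_4] at key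
                            exact mul_left_cancel₀ (T.w_pos u0).ne' (by linarith only [key])
                          have r_1 : 1 * T.m u0 + -2 * T.m u1 + 1 * T.m u2 + 1 * T.m u3 = 0 := by
                            have key := Groth.Agent.Helper6.NT.rowfun5 T u0 u1 u2 u3 u4 hinj u1
                            rw [Groth.Agent.Helper6.NT.symm' T u1 u0, taq_0_1, (h2 u1).2, tap_1_2, tap_1_3, z_1_4] at key
                            exact mul_left_cancel₀ (T.w_pos u1).ne' (by linarith only [key])
                          have r_2 : 1 * T.m u1 + -2 * T.m u2 + 2 * T.m u4 = 0 := by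
                            have key := Groth.Agent.Helper6.NT.rowfun5 T u0 u1 u2 u3 u4 hinj u2
                            rw [Groth.Agent.Helper6.NT.symm' T u2 u0, z_0_2, Groth.Agent.Helper6.NT.symm' T u2 u1, taq_1_2, (h2 u2).2, z_2_3, tap_2_4] at key
                            exact mul_left_cancel₀ (T.w_pos u2).ne' (by linarith only [key])
                          have r_3 : 1 * T.m u1 + -2 * T.m u3 = 0 := by
                            have key := Groth.Agent.Helper6.NT.rowfun5 T u0 u1 u2 u3 u4 hinj u3
                            rw [Groth.Agent.Helper6.NT.symm' T u3 u0, z_0_3, Groth.Agent.Helper6.NT.symm' T u3 u1, taq_1_3, Groth.Agent.Helper6.NT.symm' T u3 u2, z_2_3, (h2 u3).2, z_3_4] at key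
                            exact mul_left_cancel₀ (T.w_pos u3).ne' (by linarith only [key])
                          have r_4 : 1 * T.m u2 + -2 * T.m u4 = 0 := by
                            have key := Groth.Agent.Helper6.NT.rowfun5 T u0 u1 u2 u3 u4 hinj u4
                            rw [Groth.Agent.Helper6.NT.symm' T u4 u0, z_0_4, Groth.Agent.Helper6.NT.symm' T u4 u1, z_1_4, Groth.Agent.Helper6.NT.symm' T u4 u2, taq_2_4, Groth.Agent.Helper6.NT.symm' T u4 u3, z_3_4, (h2 u4).2] at key
                            exact mul_left_cancel₀ (T.w_pos u4).ne' (by linarith only [key])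
                          have f0 : T.m u4 = T.m u4 := rfl
                          have f1 : T.m u2 = 2 * T.m u4 := by linarith only [r_0, r_1, r_2, r_3, r_4]
                          have f2 : T.m u1 = 2 * T.m u4 := by linarith only [r_0, r_1, r_2, r_3, r_4]
                          have f3 : T.m u0 = T.m u4 := by linarith only [r_0, r_1, r_2, r_3, r_4]
                          have f4 : T.m u3 = T.m u4 := by linarith only [r_0, r_1, r_2, r_3, r_4]
                          have f5 : T.w u4 = 2 * T.w u2 := by linarith only [tw_0_1, tw_1_2, tw_1_3, tw_2_4]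
                          have f6 : T.w u2 = T.w u2 := rfl
                          have f7 : T.w u1 = T.w u2 := by linarith only [tw_0_1, tw_1_2, tw_1_3, tw_2_4]
                          have f8 : T.w u0 = T.w u2 := by linarith only [tw_0_1, tw_1_2, tw_1_3, tw_2_4]
                          have f9 : T.w u3 = T.w u2 := by linarith only [tw_0_1, tw_1_2, tw_1_3, tw_2_4]
                          have f10 : T.a u4 u4 = -4 * T.w u2 := by have := (h2 u4).2; linarith only [this, tw_0_1, tw_1_2, tw_1_3, tw_2_4]
                          have f11 : T.a u4 u2 = 2 * T.w u2 := by rw [Groth.Agent.Helper6.NT.symm' T u4 u2]; linarith only [tap_2_4, tw_0_1, tw_1_2, tw_1_3, tw_2_4]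
                          have f12 : T.a u4 u1 = 0 := by rw [Groth.Agent.Helper6.NT.symm' T u4 u1]; exact z_1_4
                          have f13 : T.a u4 u0 = 0 := by rw [Groth.Agent.Helper6.NT.symm' T u4 u0]; exact z_0_4
                          have f14 : T.a u4 u3 = 0 := by rw [Groth.Agent.Helper6.NT.symm' T u4 u3]; exact z_3_4
                          have f15 : T.a u2 u2 = -2 * T.w u2 := by have := (h2 u2).2; linarith only [this, tw_0_1, tw_1_2, tw_1_3, tw_2_4]
                          have f16 : T.a u2 u1 = T.w u2 := by rw [Groth.Agent.Helper6.NT.symm' T u2 u1]; linarith only [tap_1_2, tw_0_1, tw_1_2, tw_1_3, tw_2_4]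
                          have f17 : T.a u2 u0 = 0 := by rw [Groth.Agent.Helper6.NT.symm' T u2 u0]; exact z_0_2
                          have f18 : T.a u2 u3 = 0 := by exact z_2_3
                          have f19 : T.a u1 u1 = -2 * T.w u2 := by have := (h2 u1).2; linarith only [this, tw_0_1, tw_1_2, tw_1_3, tw_2_4]
                          have f20 : T.a u1 u0 = T.w u2 := by rw [Groth.Agent.Helper6.NT.symm' T u1 u0]; linarith only [tap_0_1, tw_0_1, tw_1_2, tw_1_3, tw_2_4]
                          have f21 : T.a u1 u3 = T.w u2 := by linarith only [tap_1_3, tw_0_1, tw_1_2, tw_1_3, tw_2_4]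
                          have f22 : T.a u0 u0 = -2 * T.w u2 := by have := (h2 u0).2; linarith only [this, tw_0_1, tw_1_2, tw_1_3, tw_2_4]
                          have f23 : T.a u0 u3 = 0 := by exact z_0_3
                          have f24 : T.a u3 u3 = -2 * T.w u2 := by have := (h2 u3).2; linarith only [this, tw_0_1, tw_1_2, tw_1_3, tw_2_4]
                          have hsig := Groth.Agent.Helper6.NT.inj5 u4 u2 u1 u0 u3 hn_4_2.symm hn_4_1.symm hn_2_1.symm hn_4_0.symm hn_2_0.symm hn_1_0.symm hn_4_3.symm hn_3_2 hn_3_1 hn_3_0
                          exact ⟨Equiv.ofBijective _ (Finite.injective_iff_bijective.1 hsig), T.m u4, T.w u2, Or.inr (Or.inr (Or.inr (Or.inr (Or.inr (Or.inr (Or.inr (Or.inl ⟨f0, f1, f2, f3, f4, f5, f6, f7, f8, f9, f10, f11, f12, f13, f14, f15, f16, f17, f18, f19, f20, f21, f22, f23, f24⟩)))))))⟩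
                        · -- (3,4) nonzero
                          obtain ⟨lbp_3_4, lbq_3_4⟩ := Groth.Agent.Helper6.NT.lb T u3 u4 hn_4_3.symm nz_3_4
                          exfalso
                          have key := Groth.Agent.Helper6.NT.negfun4 T h2 u1 u2 u3 u4 (by norm_num) 2 3 2 2 (by norm_num) (by norm_num)
                          linarith only [key, tap_1_2, taq_1_2, tap_1_3, taq_1_3, z_1_4, z_2_3, tap_2_4, taq_2_4, lbp_3_4, lbq_3_4, T.w_pos u1, T.w_pos u2, T.w_pos u3, T.w_pos u4]
                      · -- (2,4) Dm
                        rcases eq_or_ne (T.a u3 u4) 0 with z_3_4 | nz_3_4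
                        · -- (3,4) zero
                          have hinj := Groth.Agent.Helper6.NT.inj5 u0 u1 u2 u3 u4 hn_1_0 hn_2_0 hn_2_1 hn_3_0 hn_3_1 hn_3_2 hn_4_0 hn_4_1 hn_4_2 hn_4_3
                          have r_0 : -2 * T.m u0 + 1 * T.m u1 = 0 := by
                            have key := Groth.Agent.Helper6.NT.rowfun5 T u0 u1 u2 u3 u4 hinj u0
                            rw [(h2 u0).2, tap_0_1, z_0_2, z_0_3, z_0_4] at key
                            exact mul_left_cancel₀ (T.w_pos u0).ne' (by linarith only [key])
                          have r_1 : 1 * T.m u0 + -2 * T.m u1 + 1 * T.m u2 + 1 * T.m u3 = 0 := by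
                            have key := Groth.Agent.Helper6.NT.rowfun5 T u0 u1 u2 u3 u4 hinj u1
                            rw [Groth.Agent.Helper6.NT.symm' T u1 u0, taq_0_1, (h2 u1).2, tap_1_2, tap_1_3, z_1_4] at key
                            exact mul_left_cancel₀ (T.w_pos u1).ne' (by linarith only [key])
                          have r_2 : 1 * T.m u1 + -2 * T.m u2 + 1 * T.m u4 = 0 := by
                            have key := Groth.Agent.Helper6.NT.rowfun5 T u0 u1 u2 u3 u4 hinj u2
                            rw [Groth.Agent.Helper6.NT.symm' T u2 u0, z_0_2, Groth.Agent.Helper6.NT.symm' T u2 u1, taq_1_2, (h2 u2).2, z_2_3, tap_2_4] at key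
                            exact mul_left_cancel₀ (T.w_pos u2).ne' (by linarith only [key])
                          have r_3 : 1 * T.m u1 + -2 * T.m u3 = 0 := by
                            have key := Groth.Agent.Helper6.NT.rowfun5 T u0 u1 u2 u3 u4 hinj u3
                            rw [Groth.Agent.Helper6.NT.symm' T u3 u0, z_0_3, Groth.Agent.Helper6.NT.symm' T u3 u1, taq_1_3, Groth.Agent.Helper6.NT.symm' T u3 u2, z_2_3, (h2 u3).2, z_3_4] at key
                            exact mul_left_cancel₀ (T.w_pos u3).ne' (by linarith only [key])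
                          have r_4 : 2 * T.m u2 + -2 * T.m u4 = 0 := by
                            have key := Groth.Agent.Helper6.NT.rowfun5 T u0 u1 u2 u3 u4 hinj u4
                            rw [Groth.Agent.Helper6.NT.symm' T u4 u0, z_0_4, Groth.Agent.Helper6.NT.symm' T u4 u1, z_1_4, Groth.Agent.Helper6.NT.symm' T u4 u2, taq_2_4, Groth.Agent.Helper6.NT.symm' T u4 u3, z_3_4, (h2 u4).2] at key
                            exact mul_left_cancel₀ (T.w_pos u4).ne' (by linarith only [key])
                          have f0 : T.m u4 = 2 * T.m u0 := by linarith only [r_0, r_1, r_2, r_3, r_4]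
                          have f1 : T.m u2 = 2 * T.m u0 := by linarith only [r_0, r_1, r_2, r_3, r_4]
                          have f2 : T.m u1 = 2 * T.m u0 := by linarith only [r_0, r_1, r_2, r_3, r_4]
                          have f3 : T.m u0 = T.m u0 := rfl
                          have f4 : T.m u3 = T.m u0 := by linarith only [r_0, r_1, r_2, r_3, r_4]
                          have f5 : T.w u4 = T.w u4 := rfl
                          have f6 : T.w u2 = 2 * T.w u4 := by linarith only [tw_0_1, tw_1_2, tw_1_3, tw_2_4]
                          have f7 : T.w u1 = 2 * T.w u4 := by linarith only [tw_0_1, tw_1_2, tw_1_3, tw_2_4]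
                          have f8 : T.w u0 = 2 * T.w u4 := by linarith only [tw_0_1, tw_1_2, tw_1_3, tw_2_4]
                          have f9 : T.w u3 = 2 * T.w u4 := by linarith only [tw_0_1, tw_1_2, tw_1_3, tw_2_4]
                          have f10 : T.a u4 u4 = -2 * T.w u4 := by have := (h2 u4).2; linarith only [this, tw_0_1, tw_1_2, tw_1_3, tw_2_4]
                          have f11 : T.a u4 u2 = 2 * T.w u4 := by rw [Groth.Agent.Helper6.NT.symm' T u4 u2]; linarith only [tap_2_4, tw_0_1, tw_1_2, tw_1_3, tw_2_4]
                          have f12 : T.a u4 u1 = 0 := by rw [Groth.Agent.Helper6.NT.symm' T u4 u1]; exact z_1_4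
                          have f13 : T.a u4 u0 = 0 := by rw [Groth.Agent.Helper6.NT.symm' T u4 u0]; exact z_0_4
                          have f14 : T.a u4 u3 = 0 := by rw [Groth.Agent.Helper6.NT.symm' T u4 u3]; exact z_3_4
                          have f15 : T.a u2 u2 = -4 * T.w u4 := by have := (h2 u2).2; linarith only [this, tw_0_1, tw_1_2, tw_1_3, tw_2_4]
                          have f16 : T.a u2 u1 = 2 * T.w u4 := by rw [Groth.Agent.Helper6.NT.symm' T u2 u1]; linarith only [tap_1_2, tw_0_1, tw_1_2, tw_1_3, tw_2_4]
                          have f17 : T.a u2 u0 = 0 := by rw [Groth.Agent.Helper6.NT.symm' T u2 u0]; exact z_0_2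
                          have f18 : T.a u2 u3 = 0 := by exact z_2_3
                          have f19 : T.a u1 u1 = -4 * T.w u4 := by have := (h2 u1).2; linarith only [this, tw_0_1, tw_1_2, tw_1_3, tw_2_4]
                          have f20 : T.a u1 u0 = 2 * T.w u4 := by rw [Groth.Agent.Helper6.NT.symm' T u1 u0]; linarith only [tap_0_1, tw_0_1, tw_1_2, tw_1_3, tw_2_4]
                          have f21 : T.a u1 u3 = 2 * T.w u4 := by linarith only [tap_1_3, tw_0_1, tw_1_2, tw_1_3, tw_2_4]
                          have f22 : T.a u0 u0 = -4 * T.w u4 := by have := (h2 u0).2; linarith only [this, tw_0_1, tw_1_2, tw_1_3, tw_2_4]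
                          have f23 : T.a u0 u3 = 0 := by exact z_0_3
                          have f24 : T.a u3 u3 = -4 * T.w u4 := by have := (h2 u3).2; linarith only [this, tw_0_1, tw_1_2, tw_1_3, tw_2_4]
                          have hsig := Groth.Agent.Helper6.NT.inj5 u4 u2 u1 u0 u3 hn_4_2.symm hn_4_1.symm hn_2_1.symm hn_4_0.symm hn_2_0.symm hn_1_0.symm hn_4_3.symm hn_3_2 hn_3_1 hn_3_0
                          exact ⟨Equiv.ofBijective _ (Finite.injective_iff_bijective.1 hsig), T.m u0, T.w u4, Or.inr (Or.inr (Or.inr (Or.inr (Or.inr (Or.inr (Or.inr (Or.inr (⟨f0, f1, f2, f3, f4, f5, f6, f7, f8, f9, f10, f11, f12, f13, f14, f15, f16, f17, f18, f19, f20, f21, f22, f23, f24⟩))))))))⟩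
                        · -- (3,4) nonzero
                          obtain ⟨lbp_3_4, lbq_3_4⟩ := Groth.Agent.Helper6.NT.lb T u3 u4 hn_4_3.symm nz_3_4
                          exfalso
                          have key := Groth.Agent.Helper6.NT.negfun4 T h2 u1 u2 u3 u4 (by norm_num) 2 2 2 3 (by norm_num) (by norm_num)
                          linarith only [key, tap_1_2, taq_1_2, tap_1_3, taq_1_3, z_1_4, z_2_3, tap_2_4, taq_2_4, lbp_3_4, lbq_3_4, T.w_pos u1, T.w_pos u2, T.w_pos u3, T.w_pos u4]
                      · -- (2,4) Tp
                        exfalso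
                        have key := Groth.Agent.Helper6.NT.negfun3 T h2 u1 u2 u4 (by norm_num) 1 2 1 (by norm_num) (by norm_num)
                        linarith only [key, tap_1_2, taq_1_2, z_1_4, tap_2_4, taq_2_4, T.w_pos u1, T.w_pos u2, T.w_pos u4]
                      · -- (2,4) Tm
                        exfalso
                        have key := Groth.Agent.Helper6.NT.negfun3 T h2 u1 u2 u4 (by norm_num) 1 2 3 (by norm_num) (by norm_num)
                        linarith only [key, tap_1_2, taq_1_2, z_1_4, tap_2_4, taq_2_4, T.w_pos u1, T.w_pos u2, T.w_pos u4]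
                    · push Not at hx
                      have cl_2 := hx
                      clear hx
                      by_cases hx : ∃ j, (j ≠ u0 ∧ j ≠ u1 ∧ j ≠ u2 ∧ j ≠ u3) ∧ T.a u3 j ≠ 0
                      · obtain ⟨u4, ⟨hn_4_0, hn_4_1, hn_4_2, hn_4_3⟩, e_3_4⟩ := hx
                        have z_0_4 : T.a u0 u4 = 0 := cl_0 u4 ⟨hn_4_0, hn_4_1⟩
                        have z_1_4 : T.a u1 u4 = 0 := cl_1 u4 ⟨hn_4_0, hn_4_1, hn_4_2, hn_4_3⟩
                        have z_2_4 : T.a u2 u4 = 0 := cl_2 u4 ⟨hn_4_0, hn_4_1, hn_4_2, hn_4_3⟩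
                        rcases Groth.Agent.Helper6.NT.edge5 T h2 (by norm_num) u3 u4 hn_4_3.symm e_3_4 with ⟨tw_3_4, tap_3_4, taq_3_4⟩ | ⟨tw_3_4, tap_3_4, taq_3_4⟩ | ⟨tw_3_4, tap_3_4, taq_3_4⟩ | ⟨tw_3_4, tap_3_4, taq_3_4⟩ | ⟨tw_3_4, tap_3_4, taq_3_4⟩
                        · -- (3,4) S
                          have hinj := Groth.Agent.Helper6.NT.inj5 u0 u1 u2 u3 u4 hn_1_0 hn_2_0 hn_2_1 hn_3_0 hn_3_1 hn_3_2 hn_4_0 hn_4_1 hn_4_2 hn_4_3
                          have r_0 : -2 * T.m u0 + 1 * T.m u1 = 0 := by
                            have key := Groth.Agent.Helper6.NT.rowfun5 T u0 u1 u2 u3 u4 hinj u0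
                            rw [(h2 u0).2, tap_0_1, z_0_2, z_0_3, z_0_4] at key
                            exact mul_left_cancel₀ (T.w_pos u0).ne' (by linarith only [key])
                          have r_1 : 1 * T.m u0 + -2 * T.m u1 + 1 * T.m u2 + 1 * T.m u3 = 0 := by
                            have key := Groth.Agent.Helper6.NT.rowfun5 T u0 u1 u2 u3 u4 hinj u1
                            rw [Groth.Agent.Helper6.NT.symm' T u1 u0, taq_0_1, (h2 u1).2, tap_1_2, tap_1_3, z_1_4] at key
                            exact mul_left_cancel₀ (T.w_pos u1).ne' (by linarith only [key])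
                          have r_2 : 1 * T.m u1 + -2 * T.m u2 = 0 := by
                            have key := Groth.Agent.Helper6.NT.rowfun5 T u0 u1 u2 u3 u4 hinj u2
                            rw [Groth.Agent.Helper6.NT.symm' T u2 u0, z_0_2, Groth.Agent.Helper6.NT.symm' T u2 u1, taq_1_2, (h2 u2).2, z_2_3, z_2_4] at key
                            exact mul_left_cancel₀ (T.w_pos u2).ne' (by linarith only [key])
                          have r_3 : 1 * T.m u1 + -2 * T.m u3 + 1 * T.m u4 = 0 := by
                            have key := Groth.Agent.Helper6.NT.rowfun5 T u0 u1 u2 u3 u4 hinj u3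
                            rw [Groth.Agent.Helper6.NT.symm' T u3 u0, z_0_3, Groth.Agent.Helper6.NT.symm' T u3 u1, taq_1_3, Groth.Agent.Helper6.NT.symm' T u3 u2, z_2_3, (h2 u3).2, tap_3_4] at key
                            exact mul_left_cancel₀ (T.w_pos u3).ne' (by linarith only [key])
                          have r_4 : 1 * T.m u3 + -2 * T.m u4 = 0 := by
                            have key := Groth.Agent.Helper6.NT.rowfun5 T u0 u1 u2 u3 u4 hinj u4
                            rw [Groth.Agent.Helper6.NT.symm' T u4 u0, z_0_4, Groth.Agent.Helper6.NT.symm' T u4 u1, z_1_4, Groth.Agent.Helper6.NT.symm' T u4 u2, z_2_4, Groth.Agent.Helper6.NT.symm' T u4 u3, taq_3_4, (h2 u4).2] at key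
                            exact mul_left_cancel₀ (T.w_pos u4).ne' (by linarith only [key])
                          exfalso
                          linarith only [r_0, r_1, r_2, r_3, r_4, T.m_pos u0, T.m_pos u1, T.m_pos u2, T.m_pos u3, T.m_pos u4]
                        · -- (3,4) Dp
                          have hinj := Groth.Agent.Helper6.NT.inj5 u0 u1 u2 u3 u4 hn_1_0 hn_2_0 hn_2_1 hn_3_0 hn_3_1 hn_3_2 hn_4_0 hn_4_1 hn_4_2 hn_4_3
                          have r_0 : -2 * T.m u0 + 1 * T.m u1 = 0 := by
                            have key := Groth.Agent.Helper6.NT.rowfun5 T u0 u1 u2 u3 u4 hinj u0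
                            rw [(h2 u0).2, tap_0_1, z_0_2, z_0_3, z_0_4] at key
                            exact mul_left_cancel₀ (T.w_pos u0).ne' (by linarith only [key])
                          have r_1 : 1 * T.m u0 + -2 * T.m u1 + 1 * T.m u2 + 1 * T.m u3 = 0 := by
                            have key := Groth.Agent.Helper6.NT.rowfun5 T u0 u1 u2 u3 u4 hinj u1
                            rw [Groth.Agent.Helper6.NT.symm' T u1 u0, taq_0_1, (h2 u1).2, tap_1_2, tap_1_3, z_1_4] at key
                            exact mul_left_cancel₀ (T.w_pos u1).ne' (by linarith only [key])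
                          have r_2 : 1 * T.m u1 + -2 * T.m u2 = 0 := by
                            have key := Groth.Agent.Helper6.NT.rowfun5 T u0 u1 u2 u3 u4 hinj u2
                            rw [Groth.Agent.Helper6.NT.symm' T u2 u0, z_0_2, Groth.Agent.Helper6.NT.symm' T u2 u1, taq_1_2, (h2 u2).2, z_2_3, z_2_4] at key
                            exact mul_left_cancel₀ (T.w_pos u2).ne' (by linarith only [key])
                          have r_3 : 1 * T.m u1 + -2 * T.m u3 + 2 * T.m u4 = 0 := by
                            have key := Groth.Agent.Helper6.NT.rowfun5 T u0 u1 u2 u3 u4 hinj u3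
                            rw [Groth.Agent.Helper6.NT.symm' T u3 u0, z_0_3, Groth.Agent.Helper6.NT.symm' T u3 u1, taq_1_3, Groth.Agent.Helper6.NT.symm' T u3 u2, z_2_3, (h2 u3).2, tap_3_4] at key
                            exact mul_left_cancel₀ (T.w_pos u3).ne' (by linarith only [key])
                          have r_4 : 1 * T.m u3 + -2 * T.m u4 = 0 := by
                            have key := Groth.Agent.Helper6.NT.rowfun5 T u0 u1 u2 u3 u4 hinj u4
                            rw [Groth.Agent.Helper6.NT.symm' T u4 u0, z_0_4, Groth.Agent.Helper6.NT.symm' T u4 u1, z_1_4, Groth.Agent.Helper6.NT.symm' T u4 u2, z_2_4, Groth.Agent.Helper6.NT.symm' T u4 u3, taq_3_4, (h2 u4).2] at key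
                            exact mul_left_cancel₀ (T.w_pos u4).ne' (by linarith only [key])
                          have f0 : T.m u4 = T.m u4 := rfl
                          have f1 : T.m u3 = 2 * T.m u4 := by linarith only [r_0, r_1, r_2, r_3, r_4]
                          have f2 : T.m u1 = 2 * T.m u4 := by linarith only [r_0, r_1, r_2, r_3, r_4]
                          have f3 : T.m u0 = T.m u4 := by linarith only [r_0, r_1, r_2, r_3, r_4]
                          have f4 : T.m u2 = T.m u4 := by linarith only [r_0, r_1, r_2, r_3, r_4]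
                          have f5 : T.w u4 = 2 * T.w u3 := by linarith only [tw_0_1, tw_1_2, tw_1_3, tw_3_4]
                          have f6 : T.w u3 = T.w u3 := rfl
                          have f7 : T.w u1 = T.w u3 := by linarith only [tw_0_1, tw_1_2, tw_1_3, tw_3_4]
                          have f8 : T.w u0 = T.w u3 := by linarith only [tw_0_1, tw_1_2, tw_1_3, tw_3_4]
                          have f9 : T.w u2 = T.w u3 := by linarith only [tw_0_1, tw_1_2, tw_1_3, tw_3_4]
                          have f10 : T.a u4 u4 = -4 * T.w u3 := by have := (h2 u4).2; linarith only [this, tw_0_1, tw_1_2, tw_1_3, tw_3_4]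
                          have f11 : T.a u4 u3 = 2 * T.w u3 := by rw [Groth.Agent.Helper6.NT.symm' T u4 u3]; linarith only [tap_3_4, tw_0_1, tw_1_2, tw_1_3, tw_3_4]
                          have f12 : T.a u4 u1 = 0 := by rw [Groth.Agent.Helper6.NT.symm' T u4 u1]; exact z_1_4
                          have f13 : T.a u4 u0 = 0 := by rw [Groth.Agent.Helper6.NT.symm' T u4 u0]; exact z_0_4
                          have f14 : T.a u4 u2 = 0 := by rw [Groth.Agent.Helper6.NT.symm' T u4 u2]; exact z_2_4
                          have f15 : T.a u3 u3 = -2 * T.w u3 := by have := (h2 u3).2; linarith only [this, tw_0_1, tw_1_2, tw_1_3, tw_3_4]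
                          have f16 : T.a u3 u1 = T.w u3 := by rw [Groth.Agent.Helper6.NT.symm' T u3 u1]; linarith only [tap_1_3, tw_0_1, tw_1_2, tw_1_3, tw_3_4]
                          have f17 : T.a u3 u0 = 0 := by rw [Groth.Agent.Helper6.NT.symm' T u3 u0]; exact z_0_3
                          have f18 : T.a u3 u2 = 0 := by rw [Groth.Agent.Helper6.NT.symm' T u3 u2]; exact z_2_3
                          have f19 : T.a u1 u1 = -2 * T.w u3 := by have := (h2 u1).2; linarith only [this, tw_0_1, tw_1_2, tw_1_3, tw_3_4]
                          have f20 : T.a u1 u0 = T.w u3 := by rw [Groth.Agent.Helper6.NT.symm' T u1 u0]; linarith only [tap_0_1, tw_0_1, tw_1_2, tw_1_3, tw_3_4]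
                          have f21 : T.a u1 u2 = T.w u3 := by linarith only [tap_1_2, tw_0_1, tw_1_2, tw_1_3, tw_3_4]
                          have f22 : T.a u0 u0 = -2 * T.w u3 := by have := (h2 u0).2; linarith only [this, tw_0_1, tw_1_2, tw_1_3, tw_3_4]
                          have f23 : T.a u0 u2 = 0 := by exact z_0_2
                          have f24 : T.a u2 u2 = -2 * T.w u3 := by have := (h2 u2).2; linarith only [this, tw_0_1, tw_1_2, tw_1_3, tw_3_4]
                          have hsig := Groth.Agent.Helper6.NT.inj5 u4 u3 u1 u0 u2 hn_4_3.symm hn_4_1.symm hn_3_1.symm hn_4_0.symm hn_3_0.symm hn_1_0.symm hn_4_2.symm hn_3_2.symm hn_2_1 hn_2_0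
                          exact ⟨Equiv.ofBijective _ (Finite.injective_iff_bijective.1 hsig), T.m u4, T.w u3, Or.inr (Or.inr (Or.inr (Or.inr (Or.inr (Or.inr (Or.inr (Or.inl ⟨f0, f1, f2, f3, f4, f5, f6, f7, f8, f9, f10, f11, f12, f13, f14, f15, f16, f17, f18, f19, f20, f21, f22, f23, f24⟩)))))))⟩
                        · -- (3,4) Dm
                          have hinj := Groth.Agent.Helper6.NT.inj5 u0 u1 u2 u3 u4 hn_1_0 hn_2_0 hn_2_1 hn_3_0 hn_3_1 hn_3_2 hn_4_0 hn_4_1 hn_4_2 hn_4_3
                          have r_0 : -2 * T.m u0 + 1 * T.m u1 = 0 := by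
                            have key := Groth.Agent.Helper6.NT.rowfun5 T u0 u1 u2 u3 u4 hinj u0
                            rw [(h2 u0).2, tap_0_1, z_0_2, z_0_3, z_0_4] at key
                            exact mul_left_cancel₀ (T.w_pos u0).ne' (by linarith only [key])
                          have r_1 : 1 * T.m u0 + -2 * T.m u1 + 1 * T.m u2 + 1 * T.m u3 = 0 := by
                            have key := Groth.Agent.Helper6.NT.rowfun5 T u0 u1 u2 u3 u4 hinj u1
                            rw [Groth.Agent.Helper6.NT.symm' T u1 u0, taq_0_1, (h2 u1).2, tap_1_2, tap_1_3, z_1_4] at key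
                            exact mul_left_cancel₀ (T.w_pos u1).ne' (by linarith only [key])
                          have r_2 : 1 * T.m u1 + -2 * T.m u2 = 0 := by
                            have key := Groth.Agent.Helper6.NT.rowfun5 T u0 u1 u2 u3 u4 hinj u2
                            rw [Groth.Agent.Helper6.NT.symm' T u2 u0, z_0_2, Groth.Agent.Helper6.NT.symm' T u2 u1, taq_1_2, (h2 u2).2, z_2_3, z_2_4] at key
                            exact mul_left_cancel₀ (T.w_pos u2).ne' (by linarith only [key])
                          have r_3 : 1 * T.m u1 + -2 * T.m u3 + 1 * T.m u4 = 0 := by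
                            have key := Groth.Agent.Helper6.NT.rowfun5 T u0 u1 u2 u3 u4 hinj u3
                            rw [Groth.Agent.Helper6.NT.symm' T u3 u0, z_0_3, Groth.Agent.Helper6.NT.symm' T u3 u1, taq_1_3, Groth.Agent.Helper6.NT.symm' T u3 u2, z_2_3, (h2 u3).2, tap_3_4] at key
                            exact mul_left_cancel₀ (T.w_pos u3).ne' (by linarith only [key])
                          have r_4 : 2 * T.m u3 + -2 * T.m u4 = 0 := by
                            have key := Groth.Agent.Helper6.NT.rowfun5 T u0 u1 u2 u3 u4 hinj u4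
                            rw [Groth.Agent.Helper6.NT.symm' T u4 u0, z_0_4, Groth.Agent.Helper6.NT.symm' T u4 u1, z_1_4, Groth.Agent.Helper6.NT.symm' T u4 u2, z_2_4, Groth.Agent.Helper6.NT.symm' T u4 u3, taq_3_4, (h2 u4).2] at key
                            exact mul_left_cancel₀ (T.w_pos u4).ne' (by linarith only [key])
                          have f0 : T.m u4 = 2 * T.m u0 := by linarith only [r_0, r_1, r_2, r_3, r_4]
                          have f1 : T.m u3 = 2 * T.m u0 := by linarith only [r_0, r_1, r_2, r_3, r_4]
                          have f2 : T.m u1 = 2 * T.m u0 := by linarith only [r_0, r_1, r_2, r_3, r_4]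
                          have f3 : T.m u0 = T.m u0 := rfl
                          have f4 : T.m u2 = T.m u0 := by linarith only [r_0, r_1, r_2, r_3, r_4]
                          have f5 : T.w u4 = T.w u4 := rfl
                          have f6 : T.w u3 = 2 * T.w u4 := by linarith only [tw_0_1, tw_1_2, tw_1_3, tw_3_4]
                          have f7 : T.w u1 = 2 * T.w u4 := by linarith only [tw_0_1, tw_1_2, tw_1_3, tw_3_4]
                          have f8 : T.w u0 = 2 * T.w u4 := by linarith only [tw_0_1, tw_1_2, tw_1_3, tw_3_4]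
                          have f9 : T.w u2 = 2 * T.w u4 := by linarith only [tw_0_1, tw_1_2, tw_1_3, tw_3_4]
                          have f10 : T.a u4 u4 = -2 * T.w u4 := by have := (h2 u4).2; linarith only [this, tw_0_1, tw_1_2, tw_1_3, tw_3_4]
                          have f11 : T.a u4 u3 = 2 * T.w u4 := by rw [Groth.Agent.Helper6.NT.symm' T u4 u3]; linarith only [tap_3_4, tw_0_1, tw_1_2, tw_1_3, tw_3_4]
                          have f12 : T.a u4 u1 = 0 := by rw [Groth.Agent.Helper6.NT.symm' T u4 u1]; exact z_1_4
                          have f13 : T.a u4 u0 = 0 := by rw [Groth.Agent.Helper6.NT.symm' T u4 u0]; exact z_0_4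
                          have f14 : T.a u4 u2 = 0 := by rw [Groth.Agent.Helper6.NT.symm' T u4 u2]; exact z_2_4
                          have f15 : T.a u3 u3 = -4 * T.w u4 := by have := (h2 u3).2; linarith only [this, tw_0_1, tw_1_2, tw_1_3, tw_3_4]
                          have f16 : T.a u3 u1 = 2 * T.w u4 := by rw [Groth.Agent.Helper6.NT.symm' T u3 u1]; linarith only [tap_1_3, tw_0_1, tw_1_2, tw_1_3, tw_3_4]
                          have f17 : T.a u3 u0 = 0 := by rw [Groth.Agent.Helper6.NT.symm' T u3 u0]; exact z_0_3
                          have f18 : T.a u3 u2 = 0 := by rw [Groth.Agent.Helper6.NT.symm' T u3 u2]; exact z_2_3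
                          have f19 : T.a u1 u1 = -4 * T.w u4 := by have := (h2 u1).2; linarith only [this, tw_0_1, tw_1_2, tw_1_3, tw_3_4]
                          have f20 : T.a u1 u0 = 2 * T.w u4 := by rw [Groth.Agent.Helper6.NT.symm' T u1 u0]; linarith only [tap_0_1, tw_0_1, tw_1_2, tw_1_3, tw_3_4]
                          have f21 : T.a u1 u2 = 2 * T.w u4 := by linarith only [tap_1_2, tw_0_1, tw_1_2, tw_1_3, tw_3_4]
                          have f22 : T.a u0 u0 = -4 * T.w u4 := by have := (h2 u0).2; linarith only [this, tw_0_1, tw_1_2, tw_1_3, tw_3_4]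
                          have f23 : T.a u0 u2 = 0 := by exact z_0_2
                          have f24 : T.a u2 u2 = -4 * T.w u4 := by have := (h2 u2).2; linarith only [this, tw_0_1, tw_1_2, tw_1_3, tw_3_4]
                          have hsig := Groth.Agent.Helper6.NT.inj5 u4 u3 u1 u0 u2 hn_4_3.symm hn_4_1.symm hn_3_1.symm hn_4_0.symm hn_3_0.symm hn_1_0.symm hn_4_2.symm hn_3_2.symm hn_2_1 hn_2_0
                          exact ⟨Equiv.ofBijective _ (Finite.injective_iff_bijective.1 hsig), T.m u0, T.w u4, Or.inr (Or.inr (Or.inr (Or.inr (Or.inr (Or.inr (Or.inr (Or.inr (⟨f0, f1, f2, f3, f4, f5, f6, f7, f8, f9, f10, f11, f12, f13, f14, f15, f16, f17, f18, f19, f20, f21, f22, f23, f24⟩))))))))⟩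
                        · -- (3,4) Tp
                          exfalso
                          have key := Groth.Agent.Helper6.NT.negfun3 T h2 u1 u3 u4 (by norm_num) 1 2 1 (by norm_num) (by norm_num)
                          linarith only [key, tap_1_3, taq_1_3, z_1_4, tap_3_4, taq_3_4, T.w_pos u1, T.w_pos u3, T.w_pos u4]
                        · -- (3,4) Tm
                          exfalso
                          have key := Groth.Agent.Helper6.NT.negfun3 T h2 u1 u3 u4 (by norm_num) 1 2 3 (by norm_num) (by norm_num)
                          linarith only [key, tap_1_3, taq_1_3, z_1_4, tap_3_4, taq_3_4, T.w_pos u1, T.w_pos u3, T.w_pos u4]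
                      · push Not at hx
                        have cl_3 := hx
                        clear hx
                        exfalso
                        refine Groth.Agent.Helper6.NT.closed_contra T [u0, u1, u2, u3] (by simp) (by simp) ?_
                        intro i hi j hj
                        simp only [List.mem_cons, List.not_mem_nil, or_false, not_or] at hi hj
                        rcases hi with rfl | rfl | rfl | rfl
                        · exact cl_0 j ⟨hj.1, hj.2.1⟩
                        · exact cl_1 j ⟨hj.1, hj.2.1, hj.2.2.1, hj.2.2.2⟩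
                        · exact cl_2 j ⟨hj.1, hj.2.1, hj.2.2.1, hj.2.2.2⟩
                        · exact cl_3 j ⟨hj.1, hj.2.1, hj.2.2.1, hj.2.2.2⟩
                · -- (2,3) nonzero
                  obtain ⟨lbp_2_3, lbq_2_3⟩ := Groth.Agent.Helper6.NT.lb T u2 u3 hn_3_2.symm nz_2_3
                  exfalso
                  have key := Groth.Agent.Helper6.NT.negfun3 T h2 u1 u2 u3 (by norm_num) 1 1 1 (by norm_num) (by norm_num)
                  linarith only [key, tap_1_2, taq_1_2, tap_1_3, taq_1_3, lbp_2_3, lbq_2_3, T.w_pos u1, T.w_pos u2, T.w_pos u3]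
              · -- (1,3) Dp
                exfalso
                have key := Groth.Agent.Helper6.NT.negfun4 T h2 u0 u1 u2 u3 (by norm_num) 1 2 1 1 (by norm_num) (by norm_num)
                linarith only [key, tap_0_1, taq_0_1, z_0_2, z_0_3, tap_1_2, taq_1_2, tap_1_3, taq_1_3, T.offDiag_nonneg u2 u3 hn_3_2.symm, T.w_pos u0, T.w_pos u1, T.w_pos u2, T.w_pos u3]
              · -- (1,3) Dm
                exfalso
                have key := Groth.Agent.Helper6.NT.negfun4 T h2 u0 u1 u2 u3 (by norm_num) 1 2 1 2 (by norm_num) (by norm_num)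
                linarith only [key, tap_0_1, taq_0_1, z_0_2, z_0_3, tap_1_2, taq_1_2, tap_1_3, taq_1_3, T.offDiag_nonneg u2 u3 hn_3_2.symm, T.w_pos u0, T.w_pos u1, T.w_pos u2, T.w_pos u3]
              · -- (1,3) Tp
                exfalso
                have key := Groth.Agent.Helper6.NT.negfun3 T h2 u1 u2 u3 (by norm_num) 2 1 1 (by norm_num) (by norm_num)
                linarith only [key, tap_1_2, taq_1_2, tap_1_3, taq_1_3, T.offDiag_nonneg u2 u3 hn_3_2.symm, T.w_pos u1, T.w_pos u2, T.w_pos u3]
              · -- (1,3) Tm
                exfalso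
                have key := Groth.Agent.Helper6.NT.negfun3 T h2 u1 u2 u3 (by norm_num) 2 1 3 (by norm_num) (by norm_num)
                linarith only [key, tap_1_2, taq_1_2, tap_1_3, taq_1_3, T.offDiag_nonneg u2 u3 hn_3_2.symm, T.w_pos u1, T.w_pos u2, T.w_pos u3]
            · push Not at hx
              have cl_1 := hx
              clear hx
              by_cases hx : ∃ j, (j ≠ u0 ∧ j ≠ u1 ∧ j ≠ u2) ∧ T.a u2 j ≠ 0
              · obtain ⟨u3, ⟨hn_3_0, hn_3_1, hn_3_2⟩, e_2_3⟩ := hx
                have z_0_3 : T.a u0 u3 = 0 := cl_0 u3 ⟨hn_3_0, hn_3_1⟩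
                have z_1_3 : T.a u1 u3 = 0 := cl_1 u3 ⟨hn_3_0, hn_3_1, hn_3_2⟩
                rcases Groth.Agent.Helper6.NT.edge5 T h2 (by norm_num) u2 u3 hn_3_2.symm e_2_3 with ⟨tw_2_3, tap_2_3, taq_2_3⟩ | ⟨tw_2_3, tap_2_3, taq_2_3⟩ | ⟨tw_2_3, tap_2_3, taq_2_3⟩ | ⟨tw_2_3, tap_2_3, taq_2_3⟩ | ⟨tw_2_3, tap_2_3, taq_2_3⟩
                · -- (2,3) S
                  by_cases hx : ∃ j, (j ≠ u0 ∧ j ≠ u1 ∧ j ≠ u2 ∧ j ≠ u3) ∧ T.a u2 j ≠ 0
                  · obtain ⟨u4, ⟨hn_4_0, hn_4_1, hn_4_2, hn_4_3⟩, e_2_4⟩ := hx
                    have z_0_4 : T.a u0 u4 = 0 := cl_0 u4 ⟨hn_4_0, hn_4_1⟩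
                    have z_1_4 : T.a u1 u4 = 0 := cl_1 u4 ⟨hn_4_0, hn_4_1, hn_4_2⟩
                    rcases Groth.Agent.Helper6.NT.edge5 T h2 (by norm_num) u2 u4 hn_4_2.symm e_2_4 with ⟨tw_2_4, tap_2_4, taq_2_4⟩ | ⟨tw_2_4, tap_2_4, taq_2_4⟩ | ⟨tw_2_4, tap_2_4, taq_2_4⟩ | ⟨tw_2_4, tap_2_4, taq_2_4⟩ | ⟨tw_2_4, tap_2_4, taq_2_4⟩
                    · -- (2,4) S
                      rcases eq_or_ne (T.a u3 u4) 0 with z_3_4 | nz_3_4
                      · -- (3,4) zero
                        have hinj := Groth.Agent.Helper6.NT.inj5 u0 u1 u2 u3 u4 hn_1_0 hn_2_0 hn_2_1 hn_3_0 hn_3_1 hn_3_2 hn_4_0 hn_4_1 hn_4_2 hn_4_3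
                        have r_0 : -2 * T.m u0 + 1 * T.m u1 = 0 := by
                          have key := Groth.Agent.Helper6.NT.rowfun5 T u0 u1 u2 u3 u4 hinj u0
                          rw [(h2 u0).2, tap_0_1, z_0_2, z_0_3, z_0_4] at key
                          exact mul_left_cancel₀ (T.w_pos u0).ne' (by linarith only [key])
                        have r_1 : 1 * T.m u0 + -2 * T.m u1 + 1 * T.m u2 = 0 := by
                          have key := Groth.Agent.Helper6.NT.rowfun5 T u0 u1 u2 u3 u4 hinj u1
                          rw [Groth.Agent.Helper6.NT.symm' T u1 u0, taq_0_1, (h2 u1).2, tap_1_2, z_1_3, z_1_4] at key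
                          exact mul_left_cancel₀ (T.w_pos u1).ne' (by linarith only [key])
                        have r_2 : 1 * T.m u1 + -2 * T.m u2 + 1 * T.m u3 + 1 * T.m u4 = 0 := by
                          have key := Groth.Agent.Helper6.NT.rowfun5 T u0 u1 u2 u3 u4 hinj u2
                          rw [Groth.Agent.Helper6.NT.symm' T u2 u0, z_0_2, Groth.Agent.Helper6.NT.symm' T u2 u1, taq_1_2, (h2 u2).2, tap_2_3, tap_2_4] at key
                          exact mul_left_cancel₀ (T.w_pos u2).ne' (by linarith only [key])
                        have r_3 : 1 * T.m u2 + -2 * T.m u3 = 0 := by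
                          have key := Groth.Agent.Helper6.NT.rowfun5 T u0 u1 u2 u3 u4 hinj u3
                          rw [Groth.Agent.Helper6.NT.symm' T u3 u0, z_0_3, Groth.Agent.Helper6.NT.symm' T u3 u1, z_1_3, Groth.Agent.Helper6.NT.symm' T u3 u2, taq_2_3, (h2 u3).2, z_3_4] at key
                          exact mul_left_cancel₀ (T.w_pos u3).ne' (by linarith only [key])
                        have r_4 : 1 * T.m u2 + -2 * T.m u4 = 0 := by
                          have key := Groth.Agent.Helper6.NT.rowfun5 T u0 u1 u2 u3 u4 hinj u4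
                          rw [Groth.Agent.Helper6.NT.symm' T u4 u0, z_0_4, Groth.Agent.Helper6.NT.symm' T u4 u1, z_1_4, Groth.Agent.Helper6.NT.symm' T u4 u2, taq_2_4, Groth.Agent.Helper6.NT.symm' T u4 u3, z_3_4, (h2 u4).2] at key
                          exact mul_left_cancel₀ (T.w_pos u4).ne' (by linarith only [key])
                        exfalso
                        linarith only [r_0, r_1, r_2, r_3, r_4, T.m_pos u0, T.m_pos u1, T.m_pos u2, T.m_pos u3, T.m_pos u4]
                      · -- (3,4) nonzero
                        obtain ⟨lbp_3_4, lbq_3_4⟩ := Groth.Agent.Helper6.NT.lb T u3 u4 hn_4_3.symm nz_3_4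
                        exfalso
                        have key := Groth.Agent.Helper6.NT.negfun3 T h2 u2 u3 u4 (by norm_num) 1 1 1 (by norm_num) (by norm_num)
                        linarith only [key, tap_2_3, taq_2_3, tap_2_4, taq_2_4, lbp_3_4, lbq_3_4, T.w_pos u2, T.w_pos u3, T.w_pos u4]
                    · -- (2,4) Dp
                      exfalso
                      have key := Groth.Agent.Helper6.NT.negfun4 T h2 u1 u2 u3 u4 (by norm_num) 1 2 1 1 (by norm_num) (by norm_num)
                      linarith only [key, tap_1_2, taq_1_2, z_1_3, z_1_4, tap_2_3, taq_2_3, tap_2_4, taq_2_4, T.offDiag_nonneg u3 u4 hn_4_3.symm, T.w_pos u1, T.w_pos u2, T.w_pos u3, T.w_pos u4]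
                    · -- (2,4) Dm
                      exfalso
                      have key := Groth.Agent.Helper6.NT.negfun4 T h2 u1 u2 u3 u4 (by norm_num) 1 2 1 2 (by norm_num) (by norm_num)
                      linarith only [key, tap_1_2, taq_1_2, z_1_3, z_1_4, tap_2_3, taq_2_3, tap_2_4, taq_2_4, T.offDiag_nonneg u3 u4 hn_4_3.symm, T.w_pos u1, T.w_pos u2, T.w_pos u3, T.w_pos u4]
                    · -- (2,4) Tp
                      exfalso
                      have key := Groth.Agent.Helper6.NT.negfun3 T h2 u2 u3 u4 (by norm_num) 2 1 1 (by norm_num) (by norm_num)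
                      linarith only [key, tap_2_3, taq_2_3, tap_2_4, taq_2_4, T.offDiag_nonneg u3 u4 hn_4_3.symm, T.w_pos u2, T.w_pos u3, T.w_pos u4]
                    · -- (2,4) Tm
                      exfalso
                      have key := Groth.Agent.Helper6.NT.negfun3 T h2 u2 u3 u4 (by norm_num) 2 1 3 (by norm_num) (by norm_num)
                      linarith only [key, tap_2_3, taq_2_3, tap_2_4, taq_2_4, T.offDiag_nonneg u3 u4 hn_4_3.symm, T.w_pos u2, T.w_pos u3, T.w_pos u4]
                  · push Not at hx
                    have cl_2 := hx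
                    clear hx
                    by_cases hx : ∃ j, (j ≠ u0 ∧ j ≠ u1 ∧ j ≠ u2 ∧ j ≠ u3) ∧ T.a u3 j ≠ 0
                    · obtain ⟨u4, ⟨hn_4_0, hn_4_1, hn_4_2, hn_4_3⟩, e_3_4⟩ := hx
                      have z_0_4 : T.a u0 u4 = 0 := cl_0 u4 ⟨hn_4_0, hn_4_1⟩
                      have z_1_4 : T.a u1 u4 = 0 := cl_1 u4 ⟨hn_4_0, hn_4_1, hn_4_2⟩
                      have z_2_4 : T.a u2 u4 = 0 := cl_2 u4 ⟨hn_4_0, hn_4_1, hn_4_2, hn_4_3⟩
                      rcases Groth.Agent.Helper6.NT.edge5 T h2 (by norm_num) u3 u4 hn_4_3.symm e_3_4 with ⟨tw_3_4, tap_3_4, taq_3_4⟩ | ⟨tw_3_4, tap_3_4, taq_3_4⟩ | ⟨tw_3_4, tap_3_4, taq_3_4⟩ | ⟨tw_3_4, tap_3_4, taq_3_4⟩ | ⟨tw_3_4, tap_3_4, taq_3_4⟩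
                      · -- (3,4) S
                        have hinj := Groth.Agent.Helper6.NT.inj5 u0 u1 u2 u3 u4 hn_1_0 hn_2_0 hn_2_1 hn_3_0 hn_3_1 hn_3_2 hn_4_0 hn_4_1 hn_4_2 hn_4_3
                        have r_0 : -2 * T.m u0 + 1 * T.m u1 = 0 := by
                          have key := Groth.Agent.Helper6.NT.rowfun5 T u0 u1 u2 u3 u4 hinj u0
                          rw [(h2 u0).2, tap_0_1, z_0_2, z_0_3, z_0_4] at key
                          exact mul_left_cancel₀ (T.w_pos u0).ne' (by linarith only [key])
                        have r_1 : 1 * T.m u0 + -2 * T.m u1 + 1 * T.m u2 = 0 := by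
                          have key := Groth.Agent.Helper6.NT.rowfun5 T u0 u1 u2 u3 u4 hinj u1
                          rw [Groth.Agent.Helper6.NT.symm' T u1 u0, taq_0_1, (h2 u1).2, tap_1_2, z_1_3, z_1_4] at key
                          exact mul_left_cancel₀ (T.w_pos u1).ne' (by linarith only [key])
                        have r_2 : 1 * T.m u1 + -2 * T.m u2 + 1 * T.m u3 = 0 := by
                          have key := Groth.Agent.Helper6.NT.rowfun5 T u0 u1 u2 u3 u4 hinj u2
                          rw [Groth.Agent.Helper6.NT.symm' T u2 u0, z_0_2, Groth.Agent.Helper6.NT.symm' T u2 u1, taq_1_2, (h2 u2).2, tap_2_3, z_2_4] at key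
                          exact mul_left_cancel₀ (T.w_pos u2).ne' (by linarith only [key])
                        have r_3 : 1 * T.m u2 + -2 * T.m u3 + 1 * T.m u4 = 0 := by
                          have key := Groth.Agent.Helper6.NT.rowfun5 T u0 u1 u2 u3 u4 hinj u3
                          rw [Groth.Agent.Helper6.NT.symm' T u3 u0, z_0_3, Groth.Agent.Helper6.NT.symm' T u3 u1, z_1_3, Groth.Agent.Helper6.NT.symm' T u3 u2, taq_2_3, (h2 u3).2, tap_3_4] at key
                          exact mul_left_cancel₀ (T.w_pos u3).ne' (by linarith only [key])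
                        have r_4 : 1 * T.m u3 + -2 * T.m u4 = 0 := by
                          have key := Groth.Agent.Helper6.NT.rowfun5 T u0 u1 u2 u3 u4 hinj u4
                          rw [Groth.Agent.Helper6.NT.symm' T u4 u0, z_0_4, Groth.Agent.Helper6.NT.symm' T u4 u1, z_1_4, Groth.Agent.Helper6.NT.symm' T u4 u2, z_2_4, Groth.Agent.Helper6.NT.symm' T u4 u3, taq_3_4, (h2 u4).2] at key
                          exact mul_left_cancel₀ (T.w_pos u4).ne' (by linarith only [key])
                        exfalso
                        linarith only [r_0, r_1, r_2, r_3, r_4, T.m_pos u0, T.m_pos u1, T.m_pos u2, T.m_pos u3, T.m_pos u4]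
                      · -- (3,4) Dp
                        have hinj := Groth.Agent.Helper6.NT.inj5 u0 u1 u2 u3 u4 hn_1_0 hn_2_0 hn_2_1 hn_3_0 hn_3_1 hn_3_2 hn_4_0 hn_4_1 hn_4_2 hn_4_3
                        have r_0 : -2 * T.m u0 + 1 * T.m u1 = 0 := by
                          have key := Groth.Agent.Helper6.NT.rowfun5 T u0 u1 u2 u3 u4 hinj u0
                          rw [(h2 u0).2, tap_0_1, z_0_2, z_0_3, z_0_4] at key
                          exact mul_left_cancel₀ (T.w_pos u0).ne' (by linarith only [key])
                        have r_1 : 1 * T.m u0 + -2 * T.m u1 + 1 * T.m u2 = 0 := by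
                          have key := Groth.Agent.Helper6.NT.rowfun5 T u0 u1 u2 u3 u4 hinj u1
                          rw [Groth.Agent.Helper6.NT.symm' T u1 u0, taq_0_1, (h2 u1).2, tap_1_2, z_1_3, z_1_4] at key
                          exact mul_left_cancel₀ (T.w_pos u1).ne' (by linarith only [key])
                        have r_2 : 1 * T.m u1 + -2 * T.m u2 + 1 * T.m u3 = 0 := by
                          have key := Groth.Agent.Helper6.NT.rowfun5 T u0 u1 u2 u3 u4 hinj u2
                          rw [Groth.Agent.Helper6.NT.symm' T u2 u0, z_0_2, Groth.Agent.Helper6.NT.symm' T u2 u1, taq_1_2, (h2 u2).2, tap_2_3, z_2_4] at key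
                          exact mul_left_cancel₀ (T.w_pos u2).ne' (by linarith only [key])
                        have r_3 : 1 * T.m u2 + -2 * T.m u3 + 2 * T.m u4 = 0 := by
                          have key := Groth.Agent.Helper6.NT.rowfun5 T u0 u1 u2 u3 u4 hinj u3
                          rw [Groth.Agent.Helper6.NT.symm' T u3 u0, z_0_3, Groth.Agent.Helper6.NT.symm' T u3 u1, z_1_3, Groth.Agent.Helper6.NT.symm' T u3 u2, taq_2_3, (h2 u3).2, tap_3_4] at key
                          exact mul_left_cancel₀ (T.w_pos u3).ne' (by linarith only [key])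
                        have r_4 : 1 * T.m u3 + -2 * T.m u4 = 0 := by
                          have key := Groth.Agent.Helper6.NT.rowfun5 T u0 u1 u2 u3 u4 hinj u4
                          rw [Groth.Agent.Helper6.NT.symm' T u4 u0, z_0_4, Groth.Agent.Helper6.NT.symm' T u4 u1, z_1_4, Groth.Agent.Helper6.NT.symm' T u4 u2, z_2_4, Groth.Agent.Helper6.NT.symm' T u4 u3, taq_3_4, (h2 u4).2] at key
                          exact mul_left_cancel₀ (T.w_pos u4).ne' (by linarith only [key])
                        exfalso
                        linarith only [r_0, r_1, r_2, r_3, r_4, T.m_pos u0, T.m_pos u1, T.m_pos u2, T.m_pos u3, T.m_pos u4]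
                      · -- (3,4) Dm
                        have hinj := Groth.Agent.Helper6.NT.inj5 u0 u1 u2 u3 u4 hn_1_0 hn_2_0 hn_2_1 hn_3_0 hn_3_1 hn_3_2 hn_4_0 hn_4_1 hn_4_2 hn_4_3
                        have r_0 : -2 * T.m u0 + 1 * T.m u1 = 0 := by
                          have key := Groth.Agent.Helper6.NT.rowfun5 T u0 u1 u2 u3 u4 hinj u0
                          rw [(h2 u0).2, tap_0_1, z_0_2, z_0_3, z_0_4] at key
                          exact mul_left_cancel₀ (T.w_pos u0).ne' (by linarith only [key])
                        have r_1 : 1 * T.m u0 + -2 * T.m u1 + 1 * T.m u2 = 0 := by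
                          have key := Groth.Agent.Helper6.NT.rowfun5 T u0 u1 u2 u3 u4 hinj u1
                          rw [Groth.Agent.Helper6.NT.symm' T u1 u0, taq_0_1, (h2 u1).2, tap_1_2, z_1_3, z_1_4] at key
                          exact mul_left_cancel₀ (T.w_pos u1).ne' (by linarith only [key])
                        have r_2 : 1 * T.m u1 + -2 * T.m u2 + 1 * T.m u3 = 0 := by
                          have key := Groth.Agent.Helper6.NT.rowfun5 T u0 u1 u2 u3 u4 hinj u2
                          rw [Groth.Agent.Helper6.NT.symm' T u2 u0, z_0_2, Groth.Agent.Helper6.NT.symm' T u2 u1, taq_1_2, (h2 u2).2, tap_2_3, z_2_4] at key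
                          exact mul_left_cancel₀ (T.w_pos u2).ne' (by linarith only [key])
                        have r_3 : 1 * T.m u2 + -2 * T.m u3 + 1 * T.m u4 = 0 := by
                          have key := Groth.Agent.Helper6.NT.rowfun5 T u0 u1 u2 u3 u4 hinj u3
                          rw [Groth.Agent.Helper6.NT.symm' T u3 u0, z_0_3, Groth.Agent.Helper6.NT.symm' T u3 u1, z_1_3, Groth.Agent.Helper6.NT.symm' T u3 u2, taq_2_3, (h2 u3).2, tap_3_4] at key
                          exact mul_left_cancel₀ (T.w_pos u3).ne' (by linarith only [key])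
                        have r_4 : 2 * T.m u3 + -2 * T.m u4 = 0 := by
                          have key := Groth.Agent.Helper6.NT.rowfun5 T u0 u1 u2 u3 u4 hinj u4
                          rw [Groth.Agent.Helper6.NT.symm' T u4 u0, z_0_4, Groth.Agent.Helper6.NT.symm' T u4 u1, z_1_4, Groth.Agent.Helper6.NT.symm' T u4 u2, z_2_4, Groth.Agent.Helper6.NT.symm' T u4 u3, taq_3_4, (h2 u4).2] at key
                          exact mul_left_cancel₀ (T.w_pos u4).ne' (by linarith only [key])
                        exfalso
                        linarith only [r_0, r_1, r_2, r_3, r_4, T.m_pos u0, T.m_pos u1, T.m_pos u2, T.m_pos u3, T.m_pos u4]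
                      · -- (3,4) Tp
                        exfalso
                        have key := Groth.Agent.Helper6.NT.negfun3 T h2 u2 u3 u4 (by norm_num) 1 2 1 (by norm_num) (by norm_num)
                        linarith only [key, tap_2_3, taq_2_3, z_2_4, tap_3_4, taq_3_4, T.w_pos u2, T.w_pos u3, T.w_pos u4]
                      · -- (3,4) Tm
                        exfalso
                        have key := Groth.Agent.Helper6.NT.negfun3 T h2 u2 u3 u4 (by norm_num) 1 2 3 (by norm_num) (by norm_num)
                        linarith only [key, tap_2_3, taq_2_3, z_2_4, tap_3_4, taq_3_4, T.w_pos u2, T.w_pos u3, T.w_pos u4]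
                    · push Not at hx
                      have cl_3 := hx
                      clear hx
                      exfalso
                      refine Groth.Agent.Helper6.NT.closed_contra T [u0, u1, u2, u3] (by simp) (by simp) ?_
                      intro i hi j hj
                      simp only [List.mem_cons, List.not_mem_nil, or_false, not_or] at hi hj
                      rcases hi with rfl | rfl | rfl | rfl
                      · exact cl_0 j ⟨hj.1, hj.2.1⟩
                      · exact cl_1 j ⟨hj.1, hj.2.1, hj.2.2.1⟩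
                      · exact cl_2 j ⟨hj.1, hj.2.1, hj.2.2.1, hj.2.2.2⟩
                      · exact cl_3 j ⟨hj.1, hj.2.1, hj.2.2.1, hj.2.2.2⟩
                · -- (2,3) Dp
                  by_cases hx : ∃ j, (j ≠ u0 ∧ j ≠ u1 ∧ j ≠ u2 ∧ j ≠ u3) ∧ T.a u2 j ≠ 0
                  · obtain ⟨u4, ⟨hn_4_0, hn_4_1, hn_4_2, hn_4_3⟩, e_2_4⟩ := hx
                    have z_0_4 : T.a u0 u4 = 0 := cl_0 u4 ⟨hn_4_0, hn_4_1⟩
                    have z_1_4 : T.a u1 u4 = 0 := cl_1 u4 ⟨hn_4_0, hn_4_1, hn_4_2⟩
                    rcases Groth.Agent.Helper6.NT.edge5 T h2 (by norm_num) u2 u4 hn_4_2.symm e_2_4 with ⟨tw_2_4, tap_2_4, taq_2_4⟩ | ⟨tw_2_4, tap_2_4, taq_2_4⟩ | ⟨tw_2_4, tap_2_4, taq_2_4⟩ | ⟨tw_2_4, tap_2_4, taq_2_4⟩ | ⟨tw_2_4, tap_2_4, taq_2_4⟩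
                    · -- (2,4) S
                      exfalso
                      have key := Groth.Agent.Helper6.NT.negfun4 T h2 u1 u2 u3 u4 (by norm_num) 1 2 1 1 (by norm_num) (by norm_num)
                      linarith only [key, tap_1_2, taq_1_2, z_1_3, z_1_4, tap_2_3, taq_2_3, tap_2_4, taq_2_4, T.offDiag_nonneg u3 u4 hn_4_3.symm, T.w_pos u1, T.w_pos u2, T.w_pos u3, T.w_pos u4]
                    · -- (2,4) Dp
                      exfalso
                      have key := Groth.Agent.Helper6.NT.negfun3 T h2 u2 u3 u4 (by norm_num) 2 1 1 (by norm_num) (by norm_num)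
                      linarith only [key, tap_2_3, taq_2_3, tap_2_4, taq_2_4, T.offDiag_nonneg u3 u4 hn_4_3.symm, T.w_pos u2, T.w_pos u3, T.w_pos u4]
                    · -- (2,4) Dm
                      exfalso
                      have key := Groth.Agent.Helper6.NT.negfun3 T h2 u2 u3 u4 (by norm_num) 2 1 2 (by norm_num) (by norm_num)
                      linarith only [key, tap_2_3, taq_2_3, tap_2_4, taq_2_4, T.offDiag_nonneg u3 u4 hn_4_3.symm, T.w_pos u2, T.w_pos u3, T.w_pos u4]
                    · -- (2,4) Tp
                      exfalso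
                      have key := Groth.Agent.Helper6.NT.negfun3 T h2 u2 u3 u4 (by norm_num) 2 1 1 (by norm_num) (by norm_num)
                      linarith only [key, tap_2_3, taq_2_3, tap_2_4, taq_2_4, T.offDiag_nonneg u3 u4 hn_4_3.symm, T.w_pos u2, T.w_pos u3, T.w_pos u4]
                    · -- (2,4) Tm
                      exfalso
                      have key := Groth.Agent.Helper6.NT.negfun3 T h2 u2 u3 u4 (by norm_num) 2 1 3 (by norm_num) (by norm_num)
                      linarith only [key, tap_2_3, taq_2_3, tap_2_4, taq_2_4, T.offDiag_nonneg u3 u4 hn_4_3.symm, T.w_pos u2, T.w_pos u3, T.w_pos u4]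
                  · push Not at hx
                    have cl_2 := hx
                    clear hx
                    by_cases hx : ∃ j, (j ≠ u0 ∧ j ≠ u1 ∧ j ≠ u2 ∧ j ≠ u3) ∧ T.a u3 j ≠ 0
                    · obtain ⟨u4, ⟨hn_4_0, hn_4_1, hn_4_2, hn_4_3⟩, e_3_4⟩ := hx
                      have z_0_4 : T.a u0 u4 = 0 := cl_0 u4 ⟨hn_4_0, hn_4_1⟩
                      have z_1_4 : T.a u1 u4 = 0 := cl_1 u4 ⟨hn_4_0, hn_4_1, hn_4_2⟩
                      have z_2_4 : T.a u2 u4 = 0 := cl_2 u4 ⟨hn_4_0, hn_4_1, hn_4_2, hn_4_3⟩
                      rcases Groth.Agent.Helper6.NT.edge5 T h2 (by norm_num) u3 u4 hn_4_3.symm e_3_4 with ⟨tw_3_4, tap_3_4, taq_3_4⟩ | ⟨tw_3_4, tap_3_4, taq_3_4⟩ | ⟨tw_3_4, tap_3_4, taq_3_4⟩ | ⟨tw_3_4, tap_3_4, taq_3_4⟩ | ⟨tw_3_4, tap_3_4, taq_3_4⟩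
                      · -- (3,4) S
                        have hinj := Groth.Agent.Helper6.NT.inj5 u0 u1 u2 u3 u4 hn_1_0 hn_2_0 hn_2_1 hn_3_0 hn_3_1 hn_3_2 hn_4_0 hn_4_1 hn_4_2 hn_4_3
                        have r_0 : -2 * T.m u0 + 1 * T.m u1 = 0 := by
                          have key := Groth.Agent.Helper6.NT.rowfun5 T u0 u1 u2 u3 u4 hinj u0
                          rw [(h2 u0).2, tap_0_1, z_0_2, z_0_3, z_0_4] at key
                          exact mul_left_cancel₀ (T.w_pos u0).ne' (by linarith only [key])
                        have r_1 : 1 * T.m u0 + -2 * T.m u1 + 1 * T.m u2 = 0 := by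
                          have key := Groth.Agent.Helper6.NT.rowfun5 T u0 u1 u2 u3 u4 hinj u1
                          rw [Groth.Agent.Helper6.NT.symm' T u1 u0, taq_0_1, (h2 u1).2, tap_1_2, z_1_3, z_1_4] at key
                          exact mul_left_cancel₀ (T.w_pos u1).ne' (by linarith only [key])
                        have r_2 : 1 * T.m u1 + -2 * T.m u2 + 2 * T.m u3 = 0 := by
                          have key := Groth.Agent.Helper6.NT.rowfun5 T u0 u1 u2 u3 u4 hinj u2
                          rw [Groth.Agent.Helper6.NT.symm' T u2 u0, z_0_2, Groth.Agent.Helper6.NT.symm' T u2 u1, taq_1_2, (h2 u2).2, tap_2_3, z_2_4] at key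
                          exact mul_left_cancel₀ (T.w_pos u2).ne' (by linarith only [key])
                        have r_3 : 1 * T.m u2 + -2 * T.m u3 + 1 * T.m u4 = 0 := by
                          have key := Groth.Agent.Helper6.NT.rowfun5 T u0 u1 u2 u3 u4 hinj u3
                          rw [Groth.Agent.Helper6.NT.symm' T u3 u0, z_0_3, Groth.Agent.Helper6.NT.symm' T u3 u1, z_1_3, Groth.Agent.Helper6.NT.symm' T u3 u2, taq_2_3, (h2 u3).2, tap_3_4] at key
                          exact mul_left_cancel₀ (T.w_pos u3).ne' (by linarith only [key])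
                        have r_4 : 1 * T.m u3 + -2 * T.m u4 = 0 := by
                          have key := Groth.Agent.Helper6.NT.rowfun5 T u0 u1 u2 u3 u4 hinj u4
                          rw [Groth.Agent.Helper6.NT.symm' T u4 u0, z_0_4, Groth.Agent.Helper6.NT.symm' T u4 u1, z_1_4, Groth.Agent.Helper6.NT.symm' T u4 u2, z_2_4, Groth.Agent.Helper6.NT.symm' T u4 u3, taq_3_4, (h2 u4).2] at key
                          exact mul_left_cancel₀ (T.w_pos u4).ne' (by linarith only [key])
                        have f0 : T.m u0 = T.m u0 := rfl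
                        have f1 : T.m u1 = 2 * T.m u0 := by linarith only [r_0, r_1, r_2, r_3, r_4]
                        have f2 : T.m u2 = 3 * T.m u0 := by linarith only [r_0, r_1, r_2, r_3, r_4]
                        have f3 : T.m u3 = 2 * T.m u0 := by linarith only [r_0, r_1, r_2, r_3, r_4]
                        have f4 : T.m u4 = T.m u0 := by linarith only [r_0, r_1, r_2, r_3, r_4]
                        have f5 : T.w u0 = T.w u0 := rfl
                        have f6 : T.w u1 = T.w u0 := by linarith only [tw_0_1, tw_1_2, tw_2_3, tw_3_4]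
                        have f7 : T.w u2 = T.w u0 := by linarith only [tw_0_1, tw_1_2, tw_2_3, tw_3_4]
                        have f8 : T.w u3 = 2 * T.w u0 := by linarith only [tw_0_1, tw_1_2, tw_2_3, tw_3_4]
                        have f9 : T.w u4 = 2 * T.w u0 := by linarith only [tw_0_1, tw_1_2, tw_2_3, tw_3_4]
                        have f10 : T.a u0 u0 = -2 * T.w u0 := by have := (h2 u0).2; linarith only [this, tw_0_1, tw_1_2, tw_2_3, tw_3_4]
                        have f11 : T.a u0 u1 = T.w u0 := by linarith only [tap_0_1, tw_0_1, tw_1_2, tw_2_3, tw_3_4]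
                        have f12 : T.a u0 u2 = 0 := by exact z_0_2
                        have f13 : T.a u0 u3 = 0 := by exact z_0_3
                        have f14 : T.a u0 u4 = 0 := by exact z_0_4
                        have f15 : T.a u1 u1 = -2 * T.w u0 := by have := (h2 u1).2; linarith only [this, tw_0_1, tw_1_2, tw_2_3, tw_3_4]
                        have f16 : T.a u1 u2 = T.w u0 := by linarith only [tap_1_2, tw_0_1, tw_1_2, tw_2_3, tw_3_4]
                        have f17 : T.a u1 u3 = 0 := by exact z_1_3
                        have f18 : T.a u1 u4 = 0 := by exact z_1_4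
                        have f19 : T.a u2 u2 = -2 * T.w u0 := by have := (h2 u2).2; linarith only [this, tw_0_1, tw_1_2, tw_2_3, tw_3_4]
                        have f20 : T.a u2 u3 = 2 * T.w u0 := by linarith only [tap_2_3, tw_0_1, tw_1_2, tw_2_3, tw_3_4]
                        have f21 : T.a u2 u4 = 0 := by exact z_2_4
                        have f22 : T.a u3 u3 = -4 * T.w u0 := by have := (h2 u3).2; linarith only [this, tw_0_1, tw_1_2, tw_2_3, tw_3_4]
                        have f23 : T.a u3 u4 = 2 * T.w u0 := by linarith only [tap_3_4, tw_0_1, tw_1_2, tw_2_3, tw_3_4]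
                        have f24 : T.a u4 u4 = -4 * T.w u0 := by have := (h2 u4).2; linarith only [this, tw_0_1, tw_1_2, tw_2_3, tw_3_4]
                        have hsig := Groth.Agent.Helper6.NT.inj5 u0 u1 u2 u3 u4 hn_1_0 hn_2_0 hn_2_1 hn_3_0 hn_3_1 hn_3_2 hn_4_0 hn_4_1 hn_4_2 hn_4_3
                        exact ⟨Equiv.ofBijective _ (Finite.injective_iff_bijective.1 hsig), T.m u0, T.w u0, Or.inr (Or.inl ⟨f0, f1, f2, f3, f4, f5, f6, f7, f8, f9, f10, f11, f12, f13, f14, f15, f16, f17, f18, f19, f20, f21, f22, f23, f24⟩)⟩
                      · -- (3,4) Dp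
                        exfalso
                        have key := Groth.Agent.Helper6.NT.negfun3 T h2 u2 u3 u4 (by norm_num) 2 2 1 (by norm_num) (by norm_num)
                        linarith only [key, tap_2_3, taq_2_3, z_2_4, tap_3_4, taq_3_4, T.w_pos u2, T.w_pos u3, T.w_pos u4]
                      · -- (3,4) Dm
                        exfalso
                        have key := Groth.Agent.Helper6.NT.negfun3 T h2 u2 u3 u4 (by norm_num) 1 1 1 (by norm_num) (by norm_num)
                        linarith only [key, tap_2_3, taq_2_3, z_2_4, tap_3_4, taq_3_4, T.w_pos u2, T.w_pos u3, T.w_pos u4]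
                      · -- (3,4) Tp
                        exfalso
                        have key := Groth.Agent.Helper6.NT.negfun3 T h2 u2 u3 u4 (by norm_num) 2 2 1 (by norm_num) (by norm_num)
                        linarith only [key, tap_2_3, taq_2_3, z_2_4, tap_3_4, taq_3_4, T.w_pos u2, T.w_pos u3, T.w_pos u4]
                      · -- (3,4) Tm
                        exfalso
                        have key := Groth.Agent.Helper6.NT.negfun3 T h2 u2 u3 u4 (by norm_num) 2 2 3 (by norm_num) (by norm_num)
                        linarith only [key, tap_2_3, taq_2_3, z_2_4, tap_3_4, taq_3_4, T.w_pos u2, T.w_pos u3, T.w_pos u4]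
                    · push Not at hx
                      have cl_3 := hx
                      clear hx
                      exfalso
                      refine Groth.Agent.Helper6.NT.closed_contra T [u0, u1, u2, u3] (by simp) (by simp) ?_
                      intro i hi j hj
                      simp only [List.mem_cons, List.not_mem_nil, or_false, not_or] at hi hj
                      rcases hi with rfl | rfl | rfl | rfl
                      · exact cl_0 j ⟨hj.1, hj.2.1⟩
                      · exact cl_1 j ⟨hj.1, hj.2.1, hj.2.2.1⟩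
                      · exact cl_2 j ⟨hj.1, hj.2.1, hj.2.2.1, hj.2.2.2⟩
                      · exact cl_3 j ⟨hj.1, hj.2.1, hj.2.2.1, hj.2.2.2⟩
                · -- (2,3) Dm
                  by_cases hx : ∃ j, (j ≠ u0 ∧ j ≠ u1 ∧ j ≠ u2 ∧ j ≠ u3) ∧ T.a u2 j ≠ 0
                  · obtain ⟨u4, ⟨hn_4_0, hn_4_1, hn_4_2, hn_4_3⟩, e_2_4⟩ := hx
                    have z_0_4 : T.a u0 u4 = 0 := cl_0 u4 ⟨hn_4_0, hn_4_1⟩
                    have z_1_4 : T.a u1 u4 = 0 := cl_1 u4 ⟨hn_4_0, hn_4_1, hn_4_2⟩
                    rcases Groth.Agent.Helper6.NT.edge5 T h2 (by norm_num) u2 u4 hn_4_2.symm e_2_4 with ⟨tw_2_4, tap_2_4, taq_2_4⟩ | ⟨tw_2_4, tap_2_4, taq_2_4⟩ | ⟨tw_2_4, tap_2_4, taq_2_4⟩ | ⟨tw_2_4, tap_2_4, taq_2_4⟩ | ⟨tw_2_4, tap_2_4, taq_2_4⟩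
                    · -- (2,4) S
                      exfalso
                      have key := Groth.Agent.Helper6.NT.negfun4 T h2 u1 u2 u3 u4 (by norm_num) 1 2 2 1 (by norm_num) (by norm_num)
                      linarith only [key, tap_1_2, taq_1_2, z_1_3, z_1_4, tap_2_3, taq_2_3, tap_2_4, taq_2_4, T.offDiag_nonneg u3 u4 hn_4_3.symm, T.w_pos u1, T.w_pos u2, T.w_pos u3, T.w_pos u4]
                    · -- (2,4) Dp
                      exfalso
                      have key := Groth.Agent.Helper6.NT.negfun3 T h2 u2 u3 u4 (by norm_num) 2 2 1 (by norm_num) (by norm_num)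
                      linarith only [key, tap_2_3, taq_2_3, tap_2_4, taq_2_4, T.offDiag_nonneg u3 u4 hn_4_3.symm, T.w_pos u2, T.w_pos u3, T.w_pos u4]
                    · -- (2,4) Dm
                      exfalso
                      have key := Groth.Agent.Helper6.NT.negfun3 T h2 u2 u3 u4 (by norm_num) 1 1 1 (by norm_num) (by norm_num)
                      linarith only [key, tap_2_3, taq_2_3, tap_2_4, taq_2_4, T.offDiag_nonneg u3 u4 hn_4_3.symm, T.w_pos u2, T.w_pos u3, T.w_pos u4]
                    · -- (2,4) Tp
                      exfalso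
                      have key := Groth.Agent.Helper6.NT.negfun3 T h2 u2 u3 u4 (by norm_num) 2 2 1 (by norm_num) (by norm_num)
                      linarith only [key, tap_2_3, taq_2_3, tap_2_4, taq_2_4, T.offDiag_nonneg u3 u4 hn_4_3.symm, T.w_pos u2, T.w_pos u3, T.w_pos u4]
                    · -- (2,4) Tm
                      exfalso
                      have key := Groth.Agent.Helper6.NT.negfun3 T h2 u2 u3 u4 (by norm_num) 2 2 3 (by norm_num) (by norm_num)
                      linarith only [key, tap_2_3, taq_2_3, tap_2_4, taq_2_4, T.offDiag_nonneg u3 u4 hn_4_3.symm, T.w_pos u2, T.w_pos u3, T.w_pos u4]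
                  · push Not at hx
                    have cl_2 := hx
                    clear hx
                    by_cases hx : ∃ j, (j ≠ u0 ∧ j ≠ u1 ∧ j ≠ u2 ∧ j ≠ u3) ∧ T.a u3 j ≠ 0
                    · obtain ⟨u4, ⟨hn_4_0, hn_4_1, hn_4_2, hn_4_3⟩, e_3_4⟩ := hx
                      have z_0_4 : T.a u0 u4 = 0 := cl_0 u4 ⟨hn_4_0, hn_4_1⟩
                      have z_1_4 : T.a u1 u4 = 0 := cl_1 u4 ⟨hn_4_0, hn_4_1, hn_4_2⟩
                      have z_2_4 : T.a u2 u4 = 0 := cl_2 u4 ⟨hn_4_0, hn_4_1, hn_4_2, hn_4_3⟩
                      rcases Groth.Agent.Helper6.NT.edge5 T h2 (by norm_num) u3 u4 hn_4_3.symm e_3_4 with ⟨tw_3_4, tap_3_4, taq_3_4⟩ | ⟨tw_3_4, tap_3_4, taq_3_4⟩ | ⟨tw_3_4, tap_3_4, taq_3_4⟩ | ⟨tw_3_4, tap_3_4, taq_3_4⟩ | ⟨tw_3_4, tap_3_4, taq_3_4⟩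
                      · -- (3,4) S
                        have hinj := Groth.Agent.Helper6.NT.inj5 u0 u1 u2 u3 u4 hn_1_0 hn_2_0 hn_2_1 hn_3_0 hn_3_1 hn_3_2 hn_4_0 hn_4_1 hn_4_2 hn_4_3
                        have r_0 : -2 * T.m u0 + 1 * T.m u1 = 0 := by
                          have key := Groth.Agent.Helper6.NT.rowfun5 T u0 u1 u2 u3 u4 hinj u0
                          rw [(h2 u0).2, tap_0_1, z_0_2, z_0_3, z_0_4] at key
                          exact mul_left_cancel₀ (T.w_pos u0).ne' (by linarith only [key])
                        have r_1 : 1 * T.m u0 + -2 * T.m u1 + 1 * T.m u2 = 0 := by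
                          have key := Groth.Agent.Helper6.NT.rowfun5 T u0 u1 u2 u3 u4 hinj u1
                          rw [Groth.Agent.Helper6.NT.symm' T u1 u0, taq_0_1, (h2 u1).2, tap_1_2, z_1_3, z_1_4] at key
                          exact mul_left_cancel₀ (T.w_pos u1).ne' (by linarith only [key])
                        have r_2 : 1 * T.m u1 + -2 * T.m u2 + 1 * T.m u3 = 0 := by
                          have key := Groth.Agent.Helper6.NT.rowfun5 T u0 u1 u2 u3 u4 hinj u2
                          rw [Groth.Agent.Helper6.NT.symm' T u2 u0, z_0_2, Groth.Agent.Helper6.NT.symm' T u2 u1, taq_1_2, (h2 u2).2, tap_2_3, z_2_4] at key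
                          exact mul_left_cancel₀ (T.w_pos u2).ne' (by linarith only [key])
                        have r_3 : 2 * T.m u2 + -2 * T.m u3 + 1 * T.m u4 = 0 := by
                          have key := Groth.Agent.Helper6.NT.rowfun5 T u0 u1 u2 u3 u4 hinj u3
                          rw [Groth.Agent.Helper6.NT.symm' T u3 u0, z_0_3, Groth.Agent.Helper6.NT.symm' T u3 u1, z_1_3, Groth.Agent.Helper6.NT.symm' T u3 u2, taq_2_3, (h2 u3).2, tap_3_4] at key
                          exact mul_left_cancel₀ (T.w_pos u3).ne' (by linarith only [key])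
                        have r_4 : 1 * T.m u3 + -2 * T.m u4 = 0 := by
                          have key := Groth.Agent.Helper6.NT.rowfun5 T u0 u1 u2 u3 u4 hinj u4
                          rw [Groth.Agent.Helper6.NT.symm' T u4 u0, z_0_4, Groth.Agent.Helper6.NT.symm' T u4 u1, z_1_4, Groth.Agent.Helper6.NT.symm' T u4 u2, z_2_4, Groth.Agent.Helper6.NT.symm' T u4 u3, taq_3_4, (h2 u4).2] at key
                          exact mul_left_cancel₀ (T.w_pos u4).ne' (by linarith only [key])
                        have f0 : T.m u0 = T.m u0 := rfl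
                        have f1 : T.m u1 = 2 * T.m u0 := by linarith only [r_0, r_1, r_2, r_3, r_4]
                        have f2 : T.m u2 = 3 * T.m u0 := by linarith only [r_0, r_1, r_2, r_3, r_4]
                        have f3 : T.m u3 = 4 * T.m u0 := by linarith only [r_0, r_1, r_2, r_3, r_4]
                        have f4 : T.m u4 = 2 * T.m u0 := by linarith only [r_0, r_1, r_2, r_3, r_4]
                        have f5 : T.w u0 = 2 * T.w u3 := by linarith only [tw_0_1, tw_1_2, tw_2_3, tw_3_4]
                        have f6 : T.w u1 = 2 * T.w u3 := by linarith only [tw_0_1, tw_1_2, tw_2_3, tw_3_4]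
                        have f7 : T.w u2 = 2 * T.w u3 := by linarith only [tw_0_1, tw_1_2, tw_2_3, tw_3_4]
                        have f8 : T.w u3 = T.w u3 := rfl
                        have f9 : T.w u4 = T.w u3 := by linarith only [tw_0_1, tw_1_2, tw_2_3, tw_3_4]
                        have f10 : T.a u0 u0 = -4 * T.w u3 := by have := (h2 u0).2; linarith only [this, tw_0_1, tw_1_2, tw_2_3, tw_3_4]
                        have f11 : T.a u0 u1 = 2 * T.w u3 := by linarith only [tap_0_1, tw_0_1, tw_1_2, tw_2_3, tw_3_4]
                        have f12 : T.a u0 u2 = 0 := by exact z_0_2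
                        have f13 : T.a u0 u3 = 0 := by exact z_0_3
                        have f14 : T.a u0 u4 = 0 := by exact z_0_4
                        have f15 : T.a u1 u1 = -4 * T.w u3 := by have := (h2 u1).2; linarith only [this, tw_0_1, tw_1_2, tw_2_3, tw_3_4]
                        have f16 : T.a u1 u2 = 2 * T.w u3 := by linarith only [tap_1_2, tw_0_1, tw_1_2, tw_2_3, tw_3_4]
                        have f17 : T.a u1 u3 = 0 := by exact z_1_3
                        have f18 : T.a u1 u4 = 0 := by exact z_1_4
                        have f19 : T.a u2 u2 = -4 * T.w u3 := by have := (h2 u2).2; linarith only [this, tw_0_1, tw_1_2, tw_2_3, tw_3_4]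
                        have f20 : T.a u2 u3 = 2 * T.w u3 := by linarith only [tap_2_3, tw_0_1, tw_1_2, tw_2_3, tw_3_4]
                        have f21 : T.a u2 u4 = 0 := by exact z_2_4
                        have f22 : T.a u3 u3 = -2 * T.w u3 := by have := (h2 u3).2; linarith only [this, tw_0_1, tw_1_2, tw_2_3, tw_3_4]
                        have f23 : T.a u3 u4 = T.w u3 := by linarith only [tap_3_4, tw_0_1, tw_1_2, tw_2_3, tw_3_4]
                        have f24 : T.a u4 u4 = -2 * T.w u3 := by have := (h2 u4).2; linarith only [this, tw_0_1, tw_1_2, tw_2_3, tw_3_4]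
                        have hsig := Groth.Agent.Helper6.NT.inj5 u0 u1 u2 u3 u4 hn_1_0 hn_2_0 hn_2_1 hn_3_0 hn_3_1 hn_3_2 hn_4_0 hn_4_1 hn_4_2 hn_4_3
                        exact ⟨Equiv.ofBijective _ (Finite.injective_iff_bijective.1 hsig), T.m u0, T.w u3, Or.inr (Or.inr (Or.inl ⟨f0, f1, f2, f3, f4, f5, f6, f7, f8, f9, f10, f11, f12, f13, f14, f15, f16, f17, f18, f19, f20, f21, f22, f23, f24⟩))⟩
                      · -- (3,4) Dp
                        exfalso
                        have key := Groth.Agent.Helper6.NT.negfun3 T h2 u2 u3 u4 (by norm_num) 1 2 1 (by norm_num) (by norm_num)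
                        linarith only [key, tap_2_3, taq_2_3, z_2_4, tap_3_4, taq_3_4, T.w_pos u2, T.w_pos u3, T.w_pos u4]
                      · -- (3,4) Dm
                        exfalso
                        have key := Groth.Agent.Helper6.NT.negfun3 T h2 u2 u3 u4 (by norm_num) 1 2 2 (by norm_num) (by norm_num)
                        linarith only [key, tap_2_3, taq_2_3, z_2_4, tap_3_4, taq_3_4, T.w_pos u2, T.w_pos u3, T.w_pos u4]
                      · -- (3,4) Tp
                        exfalso
                        have key := Groth.Agent.Helper6.NT.negfun3 T h2 u2 u3 u4 (by norm_num) 1 2 1 (by norm_num) (by norm_num)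
                        linarith only [key, tap_2_3, taq_2_3, z_2_4, tap_3_4, taq_3_4, T.w_pos u2, T.w_pos u3, T.w_pos u4]
                      · -- (3,4) Tm
                        exfalso
                        have key := Groth.Agent.Helper6.NT.negfun3 T h2 u2 u3 u4 (by norm_num) 1 2 3 (by norm_num) (by norm_num)
                        linarith only [key, tap_2_3, taq_2_3, z_2_4, tap_3_4, taq_3_4, T.w_pos u2, T.w_pos u3, T.w_pos u4]
                    · push Not at hx
                      have cl_3 := hx
                      clear hx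
                      exfalso
                      refine Groth.Agent.Helper6.NT.closed_contra T [u0, u1, u2, u3] (by simp) (by simp) ?_
                      intro i hi j hj
                      simp only [List.mem_cons, List.not_mem_nil, or_false, not_or] at hi hj
                      rcases hi with rfl | rfl | rfl | rfl
                      · exact cl_0 j ⟨hj.1, hj.2.1⟩
                      · exact cl_1 j ⟨hj.1, hj.2.1, hj.2.2.1⟩
                      · exact cl_2 j ⟨hj.1, hj.2.1, hj.2.2.1, hj.2.2.2⟩
                      · exact cl_3 j ⟨hj.1, hj.2.1, hj.2.2.1, hj.2.2.2⟩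
                · -- (2,3) Tp
                  exfalso
                  have key := Groth.Agent.Helper6.NT.negfun3 T h2 u1 u2 u3 (by norm_num) 1 2 1 (by norm_num) (by norm_num)
                  linarith only [key, tap_1_2, taq_1_2, z_1_3, tap_2_3, taq_2_3, T.w_pos u1, T.w_pos u2, T.w_pos u3]
                · -- (2,3) Tm
                  exfalso
                  have key := Groth.Agent.Helper6.NT.negfun3 T h2 u1 u2 u3 (by norm_num) 1 2 3 (by norm_num) (by norm_num)
                  linarith only [key, tap_1_2, taq_1_2, z_1_3, tap_2_3, taq_2_3, T.w_pos u1, T.w_pos u2, T.w_pos u3]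
              · push Not at hx
                have cl_2 := hx
                clear hx
                exfalso
                refine Groth.Agent.Helper6.NT.closed_contra T [u0, u1, u2] (by simp) (by simp) ?_
                intro i hi j hj
                simp only [List.mem_cons, List.not_mem_nil, or_false, not_or] at hi hj
                rcases hi with rfl | rfl | rfl
                · exact cl_0 j ⟨hj.1, hj.2.1⟩
                · exact cl_1 j ⟨hj.1, hj.2.1, hj.2.2⟩
                · exact cl_2 j ⟨hj.1, hj.2.1, hj.2.2⟩
          · -- (1,2) Dp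
            by_cases hx : ∃ j, (j ≠ u0 ∧ j ≠ u1 ∧ j ≠ u2) ∧ T.a u1 j ≠ 0
            · obtain ⟨u3, ⟨hn_3_0, hn_3_1, hn_3_2⟩, e_1_3⟩ := hx
              have z_0_3 : T.a u0 u3 = 0 := cl_0 u3 ⟨hn_3_0, hn_3_1⟩
              rcases Groth.Agent.Helper6.NT.edge5 T h2 (by norm_num) u1 u3 hn_3_1.symm e_1_3 with ⟨tw_1_3, tap_1_3, taq_1_3⟩ | ⟨tw_1_3, tap_1_3, taq_1_3⟩ | ⟨tw_1_3, tap_1_3, taq_1_3⟩ | ⟨tw_1_3, tap_1_3, taq_1_3⟩ | ⟨tw_1_3, tap_1_3, taq_1_3⟩
              · -- (1,3) S
                exfalso
                have key := Groth.Agent.Helper6.NT.negfun4 T h2 u0 u1 u2 u3 (by norm_num) 1 2 1 1 (by norm_num) (by norm_num)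
                linarith only [key, tap_0_1, taq_0_1, z_0_2, z_0_3, tap_1_2, taq_1_2, tap_1_3, taq_1_3, T.offDiag_nonneg u2 u3 hn_3_2.symm, T.w_pos u0, T.w_pos u1, T.w_pos u2, T.w_pos u3]
              · -- (1,3) Dp
                exfalso
                have key := Groth.Agent.Helper6.NT.negfun3 T h2 u1 u2 u3 (by norm_num) 2 1 1 (by norm_num) (by norm_num)
                linarith only [key, tap_1_2, taq_1_2, tap_1_3, taq_1_3, T.offDiag_nonneg u2 u3 hn_3_2.symm, T.w_pos u1, T.w_pos u2, T.w_pos u3]
              · -- (1,3) Dm
                exfalso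
                have key := Groth.Agent.Helper6.NT.negfun3 T h2 u1 u2 u3 (by norm_num) 2 1 2 (by norm_num) (by norm_num)
                linarith only [key, tap_1_2, taq_1_2, tap_1_3, taq_1_3, T.offDiag_nonneg u2 u3 hn_3_2.symm, T.w_pos u1, T.w_pos u2, T.w_pos u3]
              · -- (1,3) Tp
                exfalso
                have key := Groth.Agent.Helper6.NT.negfun3 T h2 u1 u2 u3 (by norm_num) 2 1 1 (by norm_num) (by norm_num)
                linarith only [key, tap_1_2, taq_1_2, tap_1_3, taq_1_3, T.offDiag_nonneg u2 u3 hn_3_2.symm, T.w_pos u1, T.w_pos u2, T.w_pos u3]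
              · -- (1,3) Tm
                exfalso
                have key := Groth.Agent.Helper6.NT.negfun3 T h2 u1 u2 u3 (by norm_num) 2 1 3 (by norm_num) (by norm_num)
                linarith only [key, tap_1_2, taq_1_2, tap_1_3, taq_1_3, T.offDiag_nonneg u2 u3 hn_3_2.symm, T.w_pos u1, T.w_pos u2, T.w_pos u3]
            · push Not at hx
              have cl_1 := hx
              clear hx
              by_cases hx : ∃ j, (j ≠ u0 ∧ j ≠ u1 ∧ j ≠ u2) ∧ T.a u2 j ≠ 0
              · obtain ⟨u3, ⟨hn_3_0, hn_3_1, hn_3_2⟩, e_2_3⟩ := hx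
                have z_0_3 : T.a u0 u3 = 0 := cl_0 u3 ⟨hn_3_0, hn_3_1⟩
                have z_1_3 : T.a u1 u3 = 0 := cl_1 u3 ⟨hn_3_0, hn_3_1, hn_3_2⟩
                rcases Groth.Agent.Helper6.NT.edge5 T h2 (by norm_num) u2 u3 hn_3_2.symm e_2_3 with ⟨tw_2_3, tap_2_3, taq_2_3⟩ | ⟨tw_2_3, tap_2_3, taq_2_3⟩ | ⟨tw_2_3, tap_2_3, taq_2_3⟩ | ⟨tw_2_3, tap_2_3, taq_2_3⟩ | ⟨tw_2_3, tap_2_3, taq_2_3⟩
                · -- (2,3) S
                  by_cases hx : ∃ j, (j ≠ u0 ∧ j ≠ u1 ∧ j ≠ u2 ∧ j ≠ u3) ∧ T.a u2 j ≠ 0
                  · obtain ⟨u4, ⟨hn_4_0, hn_4_1, hn_4_2, hn_4_3⟩, e_2_4⟩ := hx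
                    have z_0_4 : T.a u0 u4 = 0 := cl_0 u4 ⟨hn_4_0, hn_4_1⟩
                    have z_1_4 : T.a u1 u4 = 0 := cl_1 u4 ⟨hn_4_0, hn_4_1, hn_4_2⟩
                    rcases Groth.Agent.Helper6.NT.edge5 T h2 (by norm_num) u2 u4 hn_4_2.symm e_2_4 with ⟨tw_2_4, tap_2_4, taq_2_4⟩ | ⟨tw_2_4, tap_2_4, taq_2_4⟩ | ⟨tw_2_4, tap_2_4, taq_2_4⟩ | ⟨tw_2_4, tap_2_4, taq_2_4⟩ | ⟨tw_2_4, tap_2_4, taq_2_4⟩
                    · -- (2,4) S
                      exfalso
                      have key := Groth.Agent.Helper6.NT.negfun4 T h2 u1 u2 u3 u4 (by norm_num) 2 2 1 1 (by norm_num) (by norm_num)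
                      linarith only [key, tap_1_2, taq_1_2, z_1_3, z_1_4, tap_2_3, taq_2_3, tap_2_4, taq_2_4, T.offDiag_nonneg u3 u4 hn_4_3.symm, T.w_pos u1, T.w_pos u2, T.w_pos u3, T.w_pos u4]
                    · -- (2,4) Dp
                      exfalso
                      have key := Groth.Agent.Helper6.NT.negfun3 T h2 u1 u2 u4 (by norm_num) 2 2 1 (by norm_num) (by norm_num)
                      linarith only [key, tap_1_2, taq_1_2, z_1_4, tap_2_4, taq_2_4, T.w_pos u1, T.w_pos u2, T.w_pos u4]
                    · -- (2,4) Dm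
                      exfalso
                      have key := Groth.Agent.Helper6.NT.negfun3 T h2 u1 u2 u4 (by norm_num) 1 1 1 (by norm_num) (by norm_num)
                      linarith only [key, tap_1_2, taq_1_2, z_1_4, tap_2_4, taq_2_4, T.w_pos u1, T.w_pos u2, T.w_pos u4]
                    · -- (2,4) Tp
                      exfalso
                      have key := Groth.Agent.Helper6.NT.negfun3 T h2 u2 u3 u4 (by norm_num) 2 1 1 (by norm_num) (by norm_num)
                      linarith only [key, tap_2_3, taq_2_3, tap_2_4, taq_2_4, T.offDiag_nonneg u3 u4 hn_4_3.symm, T.w_pos u2, T.w_pos u3, T.w_pos u4]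
                    · -- (2,4) Tm
                      exfalso
                      have key := Groth.Agent.Helper6.NT.negfun3 T h2 u2 u3 u4 (by norm_num) 2 1 3 (by norm_num) (by norm_num)
                      linarith only [key, tap_2_3, taq_2_3, tap_2_4, taq_2_4, T.offDiag_nonneg u3 u4 hn_4_3.symm, T.w_pos u2, T.w_pos u3, T.w_pos u4]
                  · push Not at hx
                    have cl_2 := hx
                    clear hx
                    by_cases hx : ∃ j, (j ≠ u0 ∧ j ≠ u1 ∧ j ≠ u2 ∧ j ≠ u3) ∧ T.a u3 j ≠ 0
                    · obtain ⟨u4, ⟨hn_4_0, hn_4_1, hn_4_2, hn_4_3⟩, e_3_4⟩ := hx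
                      have z_0_4 : T.a u0 u4 = 0 := cl_0 u4 ⟨hn_4_0, hn_4_1⟩
                      have z_1_4 : T.a u1 u4 = 0 := cl_1 u4 ⟨hn_4_0, hn_4_1, hn_4_2⟩
                      have z_2_4 : T.a u2 u4 = 0 := cl_2 u4 ⟨hn_4_0, hn_4_1, hn_4_2, hn_4_3⟩
                      rcases Groth.Agent.Helper6.NT.edge5 T h2 (by norm_num) u3 u4 hn_4_3.symm e_3_4 with ⟨tw_3_4, tap_3_4, taq_3_4⟩ | ⟨tw_3_4, tap_3_4, taq_3_4⟩ | ⟨tw_3_4, tap_3_4, taq_3_4⟩ | ⟨tw_3_4, tap_3_4, taq_3_4⟩ | ⟨tw_3_4, tap_3_4, taq_3_4⟩
                      · -- (3,4) S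
                        have hinj := Groth.Agent.Helper6.NT.inj5 u0 u1 u2 u3 u4 hn_1_0 hn_2_0 hn_2_1 hn_3_0 hn_3_1 hn_3_2 hn_4_0 hn_4_1 hn_4_2 hn_4_3
                        have r_0 : -2 * T.m u0 + 1 * T.m u1 = 0 := by
                          have key := Groth.Agent.Helper6.NT.rowfun5 T u0 u1 u2 u3 u4 hinj u0
                          rw [(h2 u0).2, tap_0_1, z_0_2, z_0_3, z_0_4] at key
                          exact mul_left_cancel₀ (T.w_pos u0).ne' (by linarith only [key])
                        have r_1 : 1 * T.m u0 + -2 * T.m u1 + 2 * T.m u2 = 0 := by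
                          have key := Groth.Agent.Helper6.NT.rowfun5 T u0 u1 u2 u3 u4 hinj u1
                          rw [Groth.Agent.Helper6.NT.symm' T u1 u0, taq_0_1, (h2 u1).2, tap_1_2, z_1_3, z_1_4] at key
                          exact mul_left_cancel₀ (T.w_pos u1).ne' (by linarith only [key])
                        have r_2 : 1 * T.m u1 + -2 * T.m u2 + 1 * T.m u3 = 0 := by
                          have key := Groth.Agent.Helper6.NT.rowfun5 T u0 u1 u2 u3 u4 hinj u2
                          rw [Groth.Agent.Helper6.NT.symm' T u2 u0, z_0_2, Groth.Agent.Helper6.NT.symm' T u2 u1, taq_1_2, (h2 u2).2, tap_2_3, z_2_4] at key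
                          exact mul_left_cancel₀ (T.w_pos u2).ne' (by linarith only [key])
                        have r_3 : 1 * T.m u2 + -2 * T.m u3 + 1 * T.m u4 = 0 := by
                          have key := Groth.Agent.Helper6.NT.rowfun5 T u0 u1 u2 u3 u4 hinj u3
                          rw [Groth.Agent.Helper6.NT.symm' T u3 u0, z_0_3, Groth.Agent.Helper6.NT.symm' T u3 u1, z_1_3, Groth.Agent.Helper6.NT.symm' T u3 u2, taq_2_3, (h2 u3).2, tap_3_4] at key
                          exact mul_left_cancel₀ (T.w_pos u3).ne' (by linarith only [key])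
                        have r_4 : 1 * T.m u3 + -2 * T.m u4 = 0 := by
                          have key := Groth.Agent.Helper6.NT.rowfun5 T u0 u1 u2 u3 u4 hinj u4
                          rw [Groth.Agent.Helper6.NT.symm' T u4 u0, z_0_4, Groth.Agent.Helper6.NT.symm' T u4 u1, z_1_4, Groth.Agent.Helper6.NT.symm' T u4 u2, z_2_4, Groth.Agent.Helper6.NT.symm' T u4 u3, taq_3_4, (h2 u4).2] at key
                          exact mul_left_cancel₀ (T.w_pos u4).ne' (by linarith only [key])
                        have f0 : T.m u4 = T.m u4 := rfl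
                        have f1 : T.m u3 = 2 * T.m u4 := by linarith only [r_0, r_1, r_2, r_3, r_4]
                        have f2 : T.m u2 = 3 * T.m u4 := by linarith only [r_0, r_1, r_2, r_3, r_4]
                        have f3 : T.m u1 = 4 * T.m u4 := by linarith only [r_0, r_1, r_2, r_3, r_4]
                        have f4 : T.m u0 = 2 * T.m u4 := by linarith only [r_0, r_1, r_2, r_3, r_4]
                        have f5 : T.w u4 = 2 * T.w u1 := by linarith only [tw_0_1, tw_1_2, tw_2_3, tw_3_4]
                        have f6 : T.w u3 = 2 * T.w u1 := by linarith only [tw_0_1, tw_1_2, tw_2_3, tw_3_4]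
                        have f7 : T.w u2 = 2 * T.w u1 := by linarith only [tw_0_1, tw_1_2, tw_2_3, tw_3_4]
                        have f8 : T.w u1 = T.w u1 := rfl
                        have f9 : T.w u0 = T.w u1 := by linarith only [tw_0_1, tw_1_2, tw_2_3, tw_3_4]
                        have f10 : T.a u4 u4 = -4 * T.w u1 := by have := (h2 u4).2; linarith only [this, tw_0_1, tw_1_2, tw_2_3, tw_3_4]
                        have f11 : T.a u4 u3 = 2 * T.w u1 := by rw [Groth.Agent.Helper6.NT.symm' T u4 u3]; linarith only [tap_3_4, tw_0_1, tw_1_2, tw_2_3, tw_3_4]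
                        have f12 : T.a u4 u2 = 0 := by rw [Groth.Agent.Helper6.NT.symm' T u4 u2]; exact z_2_4
                        have f13 : T.a u4 u1 = 0 := by rw [Groth.Agent.Helper6.NT.symm' T u4 u1]; exact z_1_4
                        have f14 : T.a u4 u0 = 0 := by rw [Groth.Agent.Helper6.NT.symm' T u4 u0]; exact z_0_4
                        have f15 : T.a u3 u3 = -4 * T.w u1 := by have := (h2 u3).2; linarith only [this, tw_0_1, tw_1_2, tw_2_3, tw_3_4]
                        have f16 : T.a u3 u2 = 2 * T.w u1 := by rw [Groth.Agent.Helper6.NT.symm' T u3 u2]; linarith only [tap_2_3, tw_0_1, tw_1_2, tw_2_3, tw_3_4]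
                        have f17 : T.a u3 u1 = 0 := by rw [Groth.Agent.Helper6.NT.symm' T u3 u1]; exact z_1_3
                        have f18 : T.a u3 u0 = 0 := by rw [Groth.Agent.Helper6.NT.symm' T u3 u0]; exact z_0_3
                        have f19 : T.a u2 u2 = -4 * T.w u1 := by have := (h2 u2).2; linarith only [this, tw_0_1, tw_1_2, tw_2_3, tw_3_4]
                        have f20 : T.a u2 u1 = 2 * T.w u1 := by rw [Groth.Agent.Helper6.NT.symm' T u2 u1]; linarith only [tap_1_2, tw_0_1, tw_1_2, tw_2_3, tw_3_4]
                        have f21 : T.a u2 u0 = 0 := by rw [Groth.Agent.Helper6.NT.symm' T u2 u0]; exact z_0_2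
                        have f22 : T.a u1 u1 = -2 * T.w u1 := by have := (h2 u1).2; linarith only [this, tw_0_1, tw_1_2, tw_2_3, tw_3_4]
                        have f23 : T.a u1 u0 = T.w u1 := by rw [Groth.Agent.Helper6.NT.symm' T u1 u0]; linarith only [tap_0_1, tw_0_1, tw_1_2, tw_2_3, tw_3_4]
                        have f24 : T.a u0 u0 = -2 * T.w u1 := by have := (h2 u0).2; linarith only [this, tw_0_1, tw_1_2, tw_2_3, tw_3_4]
                        have hsig := Groth.Agent.Helper6.NT.inj5 u4 u3 u2 u1 u0 hn_4_3.symm hn_4_2.symm hn_3_2.symm hn_4_1.symm hn_3_1.symm hn_2_1.symm hn_4_0.symm hn_3_0.symm hn_2_0.symm hn_1_0.symm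
                        exact ⟨Equiv.ofBijective _ (Finite.injective_iff_bijective.1 hsig), T.m u4, T.w u1, Or.inr (Or.inr (Or.inl ⟨f0, f1, f2, f3, f4, f5, f6, f7, f8, f9, f10, f11, f12, f13, f14, f15, f16, f17, f18, f19, f20, f21, f22, f23, f24⟩))⟩
                      · -- (3,4) Dp
                        exfalso
                        have key := Groth.Agent.Helper6.NT.negfun4 T h2 u1 u2 u3 u4 (by norm_num) 2 2 2 1 (by norm_num) (by norm_num)
                        linarith only [key, tap_1_2, taq_1_2, z_1_3, z_1_4, tap_2_3, taq_2_3, z_2_4, tap_3_4, taq_3_4, T.w_pos u1, T.w_pos u2, T.w_pos u3, T.w_pos u4]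
                      · -- (3,4) Dm
                        exfalso
                        have key := Groth.Agent.Helper6.NT.negfun4 T h2 u1 u2 u3 u4 (by norm_num) 1 1 1 1 (by norm_num) (by norm_num)
                        linarith only [key, tap_1_2, taq_1_2, z_1_3, z_1_4, tap_2_3, taq_2_3, z_2_4, tap_3_4, taq_3_4, T.w_pos u1, T.w_pos u2, T.w_pos u3, T.w_pos u4]
                      · -- (3,4) Tp
                        exfalso
                        have key := Groth.Agent.Helper6.NT.negfun3 T h2 u2 u3 u4 (by norm_num) 1 2 1 (by norm_num) (by norm_num)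
                        linarith only [key, tap_2_3, taq_2_3, z_2_4, tap_3_4, taq_3_4, T.w_pos u2, T.w_pos u3, T.w_pos u4]
                      · -- (3,4) Tm
                        exfalso
                        have key := Groth.Agent.Helper6.NT.negfun3 T h2 u2 u3 u4 (by norm_num) 1 2 3 (by norm_num) (by norm_num)
                        linarith only [key, tap_2_3, taq_2_3, z_2_4, tap_3_4, taq_3_4, T.w_pos u2, T.w_pos u3, T.w_pos u4]
                    · push Not at hx
                      have cl_3 := hx
                      clear hx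
                      exfalso
                      refine Groth.Agent.Helper6.NT.closed_contra T [u0, u1, u2, u3] (by simp) (by simp) ?_
                      intro i hi j hj
                      simp only [List.mem_cons, List.not_mem_nil, or_false, not_or] at hi hj
                      rcases hi with rfl | rfl | rfl | rfl
                      · exact cl_0 j ⟨hj.1, hj.2.1⟩
                      · exact cl_1 j ⟨hj.1, hj.2.1, hj.2.2.1⟩
                      · exact cl_2 j ⟨hj.1, hj.2.1, hj.2.2.1, hj.2.2.2⟩
                      · exact cl_3 j ⟨hj.1, hj.2.1, hj.2.2.1, hj.2.2.2⟩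
                · -- (2,3) Dp
                  exfalso
                  have key := Groth.Agent.Helper6.NT.negfun3 T h2 u1 u2 u3 (by norm_num) 2 2 1 (by norm_num) (by norm_num)
                  linarith only [key, tap_1_2, taq_1_2, z_1_3, tap_2_3, taq_2_3, T.w_pos u1, T.w_pos u2, T.w_pos u3]
                · -- (2,3) Dm
                  exfalso
                  have key := Groth.Agent.Helper6.NT.negfun3 T h2 u1 u2 u3 (by norm_num) 1 1 1 (by norm_num) (by norm_num)
                  linarith only [key, tap_1_2, taq_1_2, z_1_3, tap_2_3, taq_2_3, T.w_pos u1, T.w_pos u2, T.w_pos u3]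
                · -- (2,3) Tp
                  exfalso
                  have key := Groth.Agent.Helper6.NT.negfun3 T h2 u1 u2 u3 (by norm_num) 2 2 1 (by norm_num) (by norm_num)
                  linarith only [key, tap_1_2, taq_1_2, z_1_3, tap_2_3, taq_2_3, T.w_pos u1, T.w_pos u2, T.w_pos u3]
                · -- (2,3) Tm
                  exfalso
                  have key := Groth.Agent.Helper6.NT.negfun3 T h2 u1 u2 u3 (by norm_num) 2 2 3 (by norm_num) (by norm_num)
                  linarith only [key, tap_1_2, taq_1_2, z_1_3, tap_2_3, taq_2_3, T.w_pos u1, T.w_pos u2, T.w_pos u3]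
              · push Not at hx
                have cl_2 := hx
                clear hx
                exfalso
                refine Groth.Agent.Helper6.NT.closed_contra T [u0, u1, u2] (by simp) (by simp) ?_
                intro i hi j hj
                simp only [List.mem_cons, List.not_mem_nil, or_false, not_or] at hi hj
                rcases hi with rfl | rfl | rfl
                · exact cl_0 j ⟨hj.1, hj.2.1⟩
                · exact cl_1 j ⟨hj.1, hj.2.1, hj.2.2⟩
                · exact cl_2 j ⟨hj.1, hj.2.1, hj.2.2⟩
          · -- (1,2) Dm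
            by_cases hx : ∃ j, (j ≠ u0 ∧ j ≠ u1 ∧ j ≠ u2) ∧ T.a u1 j ≠ 0
            · obtain ⟨u3, ⟨hn_3_0, hn_3_1, hn_3_2⟩, e_1_3⟩ := hx
              have z_0_3 : T.a u0 u3 = 0 := cl_0 u3 ⟨hn_3_0, hn_3_1⟩
              rcases Groth.Agent.Helper6.NT.edge5 T h2 (by norm_num) u1 u3 hn_3_1.symm e_1_3 with ⟨tw_1_3, tap_1_3, taq_1_3⟩ | ⟨tw_1_3, tap_1_3, taq_1_3⟩ | ⟨tw_1_3, tap_1_3, taq_1_3⟩ | ⟨tw_1_3, tap_1_3, taq_1_3⟩ | ⟨tw_1_3, tap_1_3, taq_1_3⟩
              · -- (1,3) S
                exfalso
                have key := Groth.Agent.Helper6.NT.negfun4 T h2 u0 u1 u2 u3 (by norm_num) 1 2 2 1 (by norm_num) (by norm_num)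
                linarith only [key, tap_0_1, taq_0_1, z_0_2, z_0_3, tap_1_2, taq_1_2, tap_1_3, taq_1_3, T.offDiag_nonneg u2 u3 hn_3_2.symm, T.w_pos u0, T.w_pos u1, T.w_pos u2, T.w_pos u3]
              · -- (1,3) Dp
                exfalso
                have key := Groth.Agent.Helper6.NT.negfun3 T h2 u1 u2 u3 (by norm_num) 2 2 1 (by norm_num) (by norm_num)
                linarith only [key, tap_1_2, taq_1_2, tap_1_3, taq_1_3, T.offDiag_nonneg u2 u3 hn_3_2.symm, T.w_pos u1, T.w_pos u2, T.w_pos u3]
              · -- (1,3) Dm
                exfalso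
                have key := Groth.Agent.Helper6.NT.negfun3 T h2 u1 u2 u3 (by norm_num) 1 1 1 (by norm_num) (by norm_num)
                linarith only [key, tap_1_2, taq_1_2, tap_1_3, taq_1_3, T.offDiag_nonneg u2 u3 hn_3_2.symm, T.w_pos u1, T.w_pos u2, T.w_pos u3]
              · -- (1,3) Tp
                exfalso
                have key := Groth.Agent.Helper6.NT.negfun3 T h2 u1 u2 u3 (by norm_num) 2 2 1 (by norm_num) (by norm_num)
                linarith only [key, tap_1_2, taq_1_2, tap_1_3, taq_1_3, T.offDiag_nonneg u2 u3 hn_3_2.symm, T.w_pos u1, T.w_pos u2, T.w_pos u3]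
              · -- (1,3) Tm
                exfalso
                have key := Groth.Agent.Helper6.NT.negfun3 T h2 u1 u2 u3 (by norm_num) 2 2 3 (by norm_num) (by norm_num)
                linarith only [key, tap_1_2, taq_1_2, tap_1_3, taq_1_3, T.offDiag_nonneg u2 u3 hn_3_2.symm, T.w_pos u1, T.w_pos u2, T.w_pos u3]
            · push Not at hx
              have cl_1 := hx
              clear hx
              by_cases hx : ∃ j, (j ≠ u0 ∧ j ≠ u1 ∧ j ≠ u2) ∧ T.a u2 j ≠ 0
              · obtain ⟨u3, ⟨hn_3_0, hn_3_1, hn_3_2⟩, e_2_3⟩ := hx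
                have z_0_3 : T.a u0 u3 = 0 := cl_0 u3 ⟨hn_3_0, hn_3_1⟩
                have z_1_3 : T.a u1 u3 = 0 := cl_1 u3 ⟨hn_3_0, hn_3_1, hn_3_2⟩
                rcases Groth.Agent.Helper6.NT.edge5 T h2 (by norm_num) u2 u3 hn_3_2.symm e_2_3 with ⟨tw_2_3, tap_2_3, taq_2_3⟩ | ⟨tw_2_3, tap_2_3, taq_2_3⟩ | ⟨tw_2_3, tap_2_3, taq_2_3⟩ | ⟨tw_2_3, tap_2_3, taq_2_3⟩ | ⟨tw_2_3, tap_2_3, taq_2_3⟩
                · -- (2,3) S
                  by_cases hx : ∃ j, (j ≠ u0 ∧ j ≠ u1 ∧ j ≠ u2 ∧ j ≠ u3) ∧ T.a u2 j ≠ 0
                  · obtain ⟨u4, ⟨hn_4_0, hn_4_1, hn_4_2, hn_4_3⟩, e_2_4⟩ := hx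
                    have z_0_4 : T.a u0 u4 = 0 := cl_0 u4 ⟨hn_4_0, hn_4_1⟩
                    have z_1_4 : T.a u1 u4 = 0 := cl_1 u4 ⟨hn_4_0, hn_4_1, hn_4_2⟩
                    rcases Groth.Agent.Helper6.NT.edge5 T h2 (by norm_num) u2 u4 hn_4_2.symm e_2_4 with ⟨tw_2_4, tap_2_4, taq_2_4⟩ | ⟨tw_2_4, tap_2_4, taq_2_4⟩ | ⟨tw_2_4, tap_2_4, taq_2_4⟩ | ⟨tw_2_4, tap_2_4, taq_2_4⟩ | ⟨tw_2_4, tap_2_4, taq_2_4⟩
                    · -- (2,4) S
                      exfalso
                      have key := Groth.Agent.Helper6.NT.negfun4 T h2 u1 u2 u3 u4 (by norm_num) 1 2 1 1 (by norm_num) (by norm_num)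
                      linarith only [key, tap_1_2, taq_1_2, z_1_3, z_1_4, tap_2_3, taq_2_3, tap_2_4, taq_2_4, T.offDiag_nonneg u3 u4 hn_4_3.symm, T.w_pos u1, T.w_pos u2, T.w_pos u3, T.w_pos u4]
                    · -- (2,4) Dp
                      exfalso
                      have key := Groth.Agent.Helper6.NT.negfun3 T h2 u1 u2 u4 (by norm_num) 1 2 1 (by norm_num) (by norm_num)
                      linarith only [key, tap_1_2, taq_1_2, z_1_4, tap_2_4, taq_2_4, T.w_pos u1, T.w_pos u2, T.w_pos u4]
                    · -- (2,4) Dm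
                      exfalso
                      have key := Groth.Agent.Helper6.NT.negfun3 T h2 u1 u2 u4 (by norm_num) 1 2 2 (by norm_num) (by norm_num)
                      linarith only [key, tap_1_2, taq_1_2, z_1_4, tap_2_4, taq_2_4, T.w_pos u1, T.w_pos u2, T.w_pos u4]
                    · -- (2,4) Tp
                      exfalso
                      have key := Groth.Agent.Helper6.NT.negfun3 T h2 u2 u3 u4 (by norm_num) 2 1 1 (by norm_num) (by norm_num)
                      linarith only [key, tap_2_3, taq_2_3, tap_2_4, taq_2_4, T.offDiag_nonneg u3 u4 hn_4_3.symm, T.w_pos u2, T.w_pos u3, T.w_pos u4]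
                    · -- (2,4) Tm
                      exfalso
                      have key := Groth.Agent.Helper6.NT.negfun3 T h2 u2 u3 u4 (by norm_num) 2 1 3 (by norm_num) (by norm_num)
                      linarith only [key, tap_2_3, taq_2_3, tap_2_4, taq_2_4, T.offDiag_nonneg u3 u4 hn_4_3.symm, T.w_pos u2, T.w_pos u3, T.w_pos u4]
                  · push Not at hx
                    have cl_2 := hx
                    clear hx
                    by_cases hx : ∃ j, (j ≠ u0 ∧ j ≠ u1 ∧ j ≠ u2 ∧ j ≠ u3) ∧ T.a u3 j ≠ 0
                    · obtain ⟨u4, ⟨hn_4_0, hn_4_1, hn_4_2, hn_4_3⟩, e_3_4⟩ := hx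
                      have z_0_4 : T.a u0 u4 = 0 := cl_0 u4 ⟨hn_4_0, hn_4_1⟩
                      have z_1_4 : T.a u1 u4 = 0 := cl_1 u4 ⟨hn_4_0, hn_4_1, hn_4_2⟩
                      have z_2_4 : T.a u2 u4 = 0 := cl_2 u4 ⟨hn_4_0, hn_4_1, hn_4_2, hn_4_3⟩
                      rcases Groth.Agent.Helper6.NT.edge5 T h2 (by norm_num) u3 u4 hn_4_3.symm e_3_4 with ⟨tw_3_4, tap_3_4, taq_3_4⟩ | ⟨tw_3_4, tap_3_4, taq_3_4⟩ | ⟨tw_3_4, tap_3_4, taq_3_4⟩ | ⟨tw_3_4, tap_3_4, taq_3_4⟩ | ⟨tw_3_4, tap_3_4, taq_3_4⟩
                      · -- (3,4) S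
                        have hinj := Groth.Agent.Helper6.NT.inj5 u0 u1 u2 u3 u4 hn_1_0 hn_2_0 hn_2_1 hn_3_0 hn_3_1 hn_3_2 hn_4_0 hn_4_1 hn_4_2 hn_4_3
                        have r_0 : -2 * T.m u0 + 1 * T.m u1 = 0 := by
                          have key := Groth.Agent.Helper6.NT.rowfun5 T u0 u1 u2 u3 u4 hinj u0
                          rw [(h2 u0).2, tap_0_1, z_0_2, z_0_3, z_0_4] at key
                          exact mul_left_cancel₀ (T.w_pos u0).ne' (by linarith only [key])
                        have r_1 : 1 * T.m u0 + -2 * T.m u1 + 1 * T.m u2 = 0 := by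
                          have key := Groth.Agent.Helper6.NT.rowfun5 T u0 u1 u2 u3 u4 hinj u1
                          rw [Groth.Agent.Helper6.NT.symm' T u1 u0, taq_0_1, (h2 u1).2, tap_1_2, z_1_3, z_1_4] at key
                          exact mul_left_cancel₀ (T.w_pos u1).ne' (by linarith only [key])
                        have r_2 : 2 * T.m u1 + -2 * T.m u2 + 1 * T.m u3 = 0 := by
                          have key := Groth.Agent.Helper6.NT.rowfun5 T u0 u1 u2 u3 u4 hinj u2
                          rw [Groth.Agent.Helper6.NT.symm' T u2 u0, z_0_2, Groth.Agent.Helper6.NT.symm' T u2 u1, taq_1_2, (h2 u2).2, tap_2_3, z_2_4] at key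
                          exact mul_left_cancel₀ (T.w_pos u2).ne' (by linarith only [key])
                        have r_3 : 1 * T.m u2 + -2 * T.m u3 + 1 * T.m u4 = 0 := by
                          have key := Groth.Agent.Helper6.NT.rowfun5 T u0 u1 u2 u3 u4 hinj u3
                          rw [Groth.Agent.Helper6.NT.symm' T u3 u0, z_0_3, Groth.Agent.Helper6.NT.symm' T u3 u1, z_1_3, Groth.Agent.Helper6.NT.symm' T u3 u2, taq_2_3, (h2 u3).2, tap_3_4] at key
                          exact mul_left_cancel₀ (T.w_pos u3).ne' (by linarith only [key])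
                        have r_4 : 1 * T.m u3 + -2 * T.m u4 = 0 := by
                          have key := Groth.Agent.Helper6.NT.rowfun5 T u0 u1 u2 u3 u4 hinj u4
                          rw [Groth.Agent.Helper6.NT.symm' T u4 u0, z_0_4, Groth.Agent.Helper6.NT.symm' T u4 u1, z_1_4, Groth.Agent.Helper6.NT.symm' T u4 u2, z_2_4, Groth.Agent.Helper6.NT.symm' T u4 u3, taq_3_4, (h2 u4).2] at key
                          exact mul_left_cancel₀ (T.w_pos u4).ne' (by linarith only [key])
                        have f0 : T.m u4 = T.m u4 := rfl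
                        have f1 : T.m u3 = 2 * T.m u4 := by linarith only [r_0, r_1, r_2, r_3, r_4]
                        have f2 : T.m u2 = 3 * T.m u4 := by linarith only [r_0, r_1, r_2, r_3, r_4]
                        have f3 : T.m u1 = 2 * T.m u4 := by linarith only [r_0, r_1, r_2, r_3, r_4]
                        have f4 : T.m u0 = T.m u4 := by linarith only [r_0, r_1, r_2, r_3, r_4]
                        have f5 : T.w u4 = T.w u4 := rfl
                        have f6 : T.w u3 = T.w u4 := by linarith only [tw_0_1, tw_1_2, tw_2_3, tw_3_4]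
                        have f7 : T.w u2 = T.w u4 := by linarith only [tw_0_1, tw_1_2, tw_2_3, tw_3_4]
                        have f8 : T.w u1 = 2 * T.w u4 := by linarith only [tw_0_1, tw_1_2, tw_2_3, tw_3_4]
                        have f9 : T.w u0 = 2 * T.w u4 := by linarith only [tw_0_1, tw_1_2, tw_2_3, tw_3_4]
                        have f10 : T.a u4 u4 = -2 * T.w u4 := by have := (h2 u4).2; linarith only [this, tw_0_1, tw_1_2, tw_2_3, tw_3_4]
                        have f11 : T.a u4 u3 = T.w u4 := by rw [Groth.Agent.Helper6.NT.symm' T u4 u3]; linarith only [tap_3_4, tw_0_1, tw_1_2, tw_2_3, tw_3_4]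
                        have f12 : T.a u4 u2 = 0 := by rw [Groth.Agent.Helper6.NT.symm' T u4 u2]; exact z_2_4
                        have f13 : T.a u4 u1 = 0 := by rw [Groth.Agent.Helper6.NT.symm' T u4 u1]; exact z_1_4
                        have f14 : T.a u4 u0 = 0 := by rw [Groth.Agent.Helper6.NT.symm' T u4 u0]; exact z_0_4
                        have f15 : T.a u3 u3 = -2 * T.w u4 := by have := (h2 u3).2; linarith only [this, tw_0_1, tw_1_2, tw_2_3, tw_3_4]
                        have f16 : T.a u3 u2 = T.w u4 := by rw [Groth.Agent.Helper6.NT.symm' T u3 u2]; linarith only [tap_2_3, tw_0_1, tw_1_2, tw_2_3, tw_3_4]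
                        have f17 : T.a u3 u1 = 0 := by rw [Groth.Agent.Helper6.NT.symm' T u3 u1]; exact z_1_3
                        have f18 : T.a u3 u0 = 0 := by rw [Groth.Agent.Helper6.NT.symm' T u3 u0]; exact z_0_3
                        have f19 : T.a u2 u2 = -2 * T.w u4 := by have := (h2 u2).2; linarith only [this, tw_0_1, tw_1_2, tw_2_3, tw_3_4]
                        have f20 : T.a u2 u1 = 2 * T.w u4 := by rw [Groth.Agent.Helper6.NT.symm' T u2 u1]; linarith only [tap_1_2, tw_0_1, tw_1_2, tw_2_3, tw_3_4]
                        have f21 : T.a u2 u0 = 0 := by rw [Groth.Agent.Helper6.NT.symm' T u2 u0]; exact z_0_2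
                        have f22 : T.a u1 u1 = -4 * T.w u4 := by have := (h2 u1).2; linarith only [this, tw_0_1, tw_1_2, tw_2_3, tw_3_4]
                        have f23 : T.a u1 u0 = 2 * T.w u4 := by rw [Groth.Agent.Helper6.NT.symm' T u1 u0]; linarith only [tap_0_1, tw_0_1, tw_1_2, tw_2_3, tw_3_4]
                        have f24 : T.a u0 u0 = -4 * T.w u4 := by have := (h2 u0).2; linarith only [this, tw_0_1, tw_1_2, tw_2_3, tw_3_4]
                        have hsig := Groth.Agent.Helper6.NT.inj5 u4 u3 u2 u1 u0 hn_4_3.symm hn_4_2.symm hn_3_2.symm hn_4_1.symm hn_3_1.symm hn_2_1.symm hn_4_0.symm hn_3_0.symm hn_2_0.symm hn_1_0.symm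
                        exact ⟨Equiv.ofBijective _ (Finite.injective_iff_bijective.1 hsig), T.m u4, T.w u4, Or.inr (Or.inl ⟨f0, f1, f2, f3, f4, f5, f6, f7, f8, f9, f10, f11, f12, f13, f14, f15, f16, f17, f18, f19, f20, f21, f22, f23, f24⟩)⟩
                      · -- (3,4) Dp
                        exfalso
                        have key := Groth.Agent.Helper6.NT.negfun4 T h2 u1 u2 u3 u4 (by norm_num) 1 2 2 1 (by norm_num) (by norm_num)
                        linarith only [key, tap_1_2, taq_1_2, z_1_3, z_1_4, tap_2_3, taq_2_3, z_2_4, tap_3_4, taq_3_4, T.w_pos u1, T.w_pos u2, T.w_pos u3, T.w_pos u4]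
                      · -- (3,4) Dm
                        exfalso
                        have key := Groth.Agent.Helper6.NT.negfun4 T h2 u1 u2 u3 u4 (by norm_num) 1 2 2 2 (by norm_num) (by norm_num)
                        linarith only [key, tap_1_2, taq_1_2, z_1_3, z_1_4, tap_2_3, taq_2_3, z_2_4, tap_3_4, taq_3_4, T.w_pos u1, T.w_pos u2, T.w_pos u3, T.w_pos u4]
                      · -- (3,4) Tp
                        exfalso
                        have key := Groth.Agent.Helper6.NT.negfun3 T h2 u2 u3 u4 (by norm_num) 1 2 1 (by norm_num) (by norm_num)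
                        linarith only [key, tap_2_3, taq_2_3, z_2_4, tap_3_4, taq_3_4, T.w_pos u2, T.w_pos u3, T.w_pos u4]
                      · -- (3,4) Tm
                        exfalso
                        have key := Groth.Agent.Helper6.NT.negfun3 T h2 u2 u3 u4 (by norm_num) 1 2 3 (by norm_num) (by norm_num)
                        linarith only [key, tap_2_3, taq_2_3, z_2_4, tap_3_4, taq_3_4, T.w_pos u2, T.w_pos u3, T.w_pos u4]
                    · push Not at hx
                      have cl_3 := hx
                      clear hx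
                      exfalso
                      refine Groth.Agent.Helper6.NT.closed_contra T [u0, u1, u2, u3] (by simp) (by simp) ?_
                      intro i hi j hj
                      simp only [List.mem_cons, List.not_mem_nil, or_false, not_or] at hi hj
                      rcases hi with rfl | rfl | rfl | rfl
                      · exact cl_0 j ⟨hj.1, hj.2.1⟩
                      · exact cl_1 j ⟨hj.1, hj.2.1, hj.2.2.1⟩
                      · exact cl_2 j ⟨hj.1, hj.2.1, hj.2.2.1, hj.2.2.2⟩
                      · exact cl_3 j ⟨hj.1, hj.2.1, hj.2.2.1, hj.2.2.2⟩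
                · -- (2,3) Dp
                  exfalso
                  have key := Groth.Agent.Helper6.NT.negfun3 T h2 u1 u2 u3 (by norm_num) 1 2 1 (by norm_num) (by norm_num)
                  linarith only [key, tap_1_2, taq_1_2, z_1_3, tap_2_3, taq_2_3, T.w_pos u1, T.w_pos u2, T.w_pos u3]
                · -- (2,3) Dm
                  exfalso
                  have key := Groth.Agent.Helper6.NT.negfun3 T h2 u1 u2 u3 (by norm_num) 1 2 2 (by norm_num) (by norm_num)
                  linarith only [key, tap_1_2, taq_1_2, z_1_3, tap_2_3, taq_2_3, T.w_pos u1, T.w_pos u2, T.w_pos u3]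
                · -- (2,3) Tp
                  exfalso
                  have key := Groth.Agent.Helper6.NT.negfun3 T h2 u1 u2 u3 (by norm_num) 1 2 1 (by norm_num) (by norm_num)
                  linarith only [key, tap_1_2, taq_1_2, z_1_3, tap_2_3, taq_2_3, T.w_pos u1, T.w_pos u2, T.w_pos u3]
                · -- (2,3) Tm
                  exfalso
                  have key := Groth.Agent.Helper6.NT.negfun3 T h2 u1 u2 u3 (by norm_num) 1 2 3 (by norm_num) (by norm_num)
                  linarith only [key, tap_1_2, taq_1_2, z_1_3, tap_2_3, taq_2_3, T.w_pos u1, T.w_pos u2, T.w_pos u3]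
              · push Not at hx
                have cl_2 := hx
                clear hx
                exfalso
                refine Groth.Agent.Helper6.NT.closed_contra T [u0, u1, u2] (by simp) (by simp) ?_
                intro i hi j hj
                simp only [List.mem_cons, List.not_mem_nil, or_false, not_or] at hi hj
                rcases hi with rfl | rfl | rfl
                · exact cl_0 j ⟨hj.1, hj.2.1⟩
                · exact cl_1 j ⟨hj.1, hj.2.1, hj.2.2⟩
                · exact cl_2 j ⟨hj.1, hj.2.1, hj.2.2⟩
          · -- (1,2) Tp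
            exfalso
            have key := Groth.Agent.Helper6.NT.negfun3 T h2 u0 u1 u2 (by norm_num) 1 2 1 (by norm_num) (by norm_num)
            linarith only [key, tap_0_1, taq_0_1, z_0_2, tap_1_2, taq_1_2, T.w_pos u0, T.w_pos u1, T.w_pos u2]
          · -- (1,2) Tm
            exfalso
            have key := Groth.Agent.Helper6.NT.negfun3 T h2 u0 u1 u2 (by norm_num) 1 2 3 (by norm_num) (by norm_num)
            linarith only [key, tap_0_1, taq_0_1, z_0_2, tap_1_2, taq_1_2, T.w_pos u0, T.w_pos u1, T.w_pos u2]
        · push Not at hx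
          have cl_1 := hx
          clear hx
          exfalso
          refine Groth.Agent.Helper6.NT.closed_contra T [u0, u1] (by simp) (by simp) ?_
          intro i hi j hj
          simp only [List.mem_cons, List.not_mem_nil, or_false, not_or] at hi hj
          rcases hi with rfl | rfl
          · exact cl_0 j ⟨hj.1, hj.2⟩
          · exact cl_1 j ⟨hj.1, hj.2⟩
    · -- (0,1) Dp
      by_cases hx : ∃ j, (j ≠ u0 ∧ j ≠ u1) ∧ T.a u0 j ≠ 0
      · obtain ⟨u2, ⟨hn_2_0, hn_2_1⟩, e_0_2⟩ := hx
        rcases Groth.Agent.Helper6.NT.edge5 T h2 (by norm_num) u0 u2 hn_2_0.symm e_0_2 with ⟨tw_0_2, tap_0_2, taq_0_2⟩ | ⟨tw_0_2, tap_0_2, taq_0_2⟩ | ⟨tw_0_2, tap_0_2, taq_0_2⟩ | ⟨tw_0_2, tap_0_2, taq_0_2⟩ | ⟨tw_0_2, tap_0_2, taq_0_2⟩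
        · -- (0,2) S
          rcases eq_or_ne (T.a u1 u2) 0 with z_1_2 | nz_1_2
          · -- (1,2) zero
            by_cases hx : ∃ j, (j ≠ u0 ∧ j ≠ u1 ∧ j ≠ u2) ∧ T.a u0 j ≠ 0
            · obtain ⟨u3, ⟨hn_3_0, hn_3_1, hn_3_2⟩, e_0_3⟩ := hx
              rcases Groth.Agent.Helper6.NT.edge5 T h2 (by norm_num) u0 u3 hn_3_0.symm e_0_3 with ⟨tw_0_3, tap_0_3, taq_0_3⟩ | ⟨tw_0_3, tap_0_3, taq_0_3⟩ | ⟨tw_0_3, tap_0_3, taq_0_3⟩ | ⟨tw_0_3, tap_0_3, taq_0_3⟩ | ⟨tw_0_3, tap_0_3, taq_0_3⟩
              · -- (0,3) S
                exfalso
                have key := Groth.Agent.Helper6.NT.negfun4 T h2 u0 u1 u2 u3 (by norm_num) 2 1 1 1 (by norm_num) (by norm_num)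
                linarith only [key, tap_0_1, taq_0_1, tap_0_2, taq_0_2, tap_0_3, taq_0_3, z_1_2, T.offDiag_nonneg u1 u3 hn_3_1.symm, T.offDiag_nonneg u2 u3 hn_3_2.symm, T.w_pos u0, T.w_pos u1, T.w_pos u2, T.w_pos u3]
              · -- (0,3) Dp
                exfalso
                have key := Groth.Agent.Helper6.NT.negfun3 T h2 u0 u1 u3 (by norm_num) 2 1 1 (by norm_num) (by norm_num)
                linarith only [key, tap_0_1, taq_0_1, tap_0_3, taq_0_3, T.offDiag_nonneg u1 u3 hn_3_1.symm, T.w_pos u0, T.w_pos u1, T.w_pos u3]
              · -- (0,3) Dm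
                exfalso
                have key := Groth.Agent.Helper6.NT.negfun3 T h2 u0 u1 u3 (by norm_num) 2 1 2 (by norm_num) (by norm_num)
                linarith only [key, tap_0_1, taq_0_1, tap_0_3, taq_0_3, T.offDiag_nonneg u1 u3 hn_3_1.symm, T.w_pos u0, T.w_pos u1, T.w_pos u3]
              · -- (0,3) Tp
                exfalso
                have key := Groth.Agent.Helper6.NT.negfun3 T h2 u0 u2 u3 (by norm_num) 2 1 1 (by norm_num) (by norm_num)
                linarith only [key, tap_0_2, taq_0_2, tap_0_3, taq_0_3, T.offDiag_nonneg u2 u3 hn_3_2.symm, T.w_pos u0, T.w_pos u2, T.w_pos u3]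
              · -- (0,3) Tm
                exfalso
                have key := Groth.Agent.Helper6.NT.negfun3 T h2 u0 u2 u3 (by norm_num) 2 1 3 (by norm_num) (by norm_num)
                linarith only [key, tap_0_2, taq_0_2, tap_0_3, taq_0_3, T.offDiag_nonneg u2 u3 hn_3_2.symm, T.w_pos u0, T.w_pos u2, T.w_pos u3]
            · push Not at hx
              have cl_0 := hx
              clear hx
              by_cases hx : ∃ j, (j ≠ u0 ∧ j ≠ u1 ∧ j ≠ u2) ∧ T.a u1 j ≠ 0
              · obtain ⟨u3, ⟨hn_3_0, hn_3_1, hn_3_2⟩, e_1_3⟩ := hx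
                have z_0_3 : T.a u0 u3 = 0 := cl_0 u3 ⟨hn_3_0, hn_3_1, hn_3_2⟩
                rcases Groth.Agent.Helper6.NT.edge5 T h2 (by norm_num) u1 u3 hn_3_1.symm e_1_3 with ⟨tw_1_3, tap_1_3, taq_1_3⟩ | ⟨tw_1_3, tap_1_3, taq_1_3⟩ | ⟨tw_1_3, tap_1_3, taq_1_3⟩ | ⟨tw_1_3, tap_1_3, taq_1_3⟩ | ⟨tw_1_3, tap_1_3, taq_1_3⟩
                · -- (1,3) S
                  rcases eq_or_ne (T.a u2 u3) 0 with z_2_3 | nz_2_3
                  · -- (2,3) zero
                    by_cases hx : ∃ j, (j ≠ u0 ∧ j ≠ u1 ∧ j ≠ u2 ∧ j ≠ u3) ∧ T.a u1 j ≠ 0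
                    · obtain ⟨u4, ⟨hn_4_0, hn_4_1, hn_4_2, hn_4_3⟩, e_1_4⟩ := hx
                      have z_0_4 : T.a u0 u4 = 0 := cl_0 u4 ⟨hn_4_0, hn_4_1, hn_4_2⟩
                      rcases Groth.Agent.Helper6.NT.edge5 T h2 (by norm_num) u1 u4 hn_4_1.symm e_1_4 with ⟨tw_1_4, tap_1_4, taq_1_4⟩ | ⟨tw_1_4, tap_1_4, taq_1_4⟩ | ⟨tw_1_4, tap_1_4, taq_1_4⟩ | ⟨tw_1_4, tap_1_4, taq_1_4⟩ | ⟨tw_1_4, tap_1_4, taq_1_4⟩
                      · -- (1,4) S
                        exfalso
                        have key := Groth.Agent.Helper6.NT.negfun4 T h2 u0 u1 u3 u4 (by norm_num) 2 2 1 1 (by norm_num) (by norm_num)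
                        linarith only [key, tap_0_1, taq_0_1, z_0_3, z_0_4, tap_1_3, taq_1_3, tap_1_4, taq_1_4, T.offDiag_nonneg u3 u4 hn_4_3.symm, T.w_pos u0, T.w_pos u1, T.w_pos u3, T.w_pos u4]
                      · -- (1,4) Dp
                        exfalso
                        have key := Groth.Agent.Helper6.NT.negfun3 T h2 u0 u1 u4 (by norm_num) 2 2 1 (by norm_num) (by norm_num)
                        linarith only [key, tap_0_1, taq_0_1, z_0_4, tap_1_4, taq_1_4, T.w_pos u0, T.w_pos u1, T.w_pos u4]
                      · -- (1,4) Dm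
                        exfalso
                        have key := Groth.Agent.Helper6.NT.negfun3 T h2 u0 u1 u4 (by norm_num) 1 1 1 (by norm_num) (by norm_num)
                        linarith only [key, tap_0_1, taq_0_1, z_0_4, tap_1_4, taq_1_4, T.w_pos u0, T.w_pos u1, T.w_pos u4]
                      · -- (1,4) Tp
                        exfalso
                        have key := Groth.Agent.Helper6.NT.negfun3 T h2 u1 u3 u4 (by norm_num) 2 1 1 (by norm_num) (by norm_num)
                        linarith only [key, tap_1_3, taq_1_3, tap_1_4, taq_1_4, T.offDiag_nonneg u3 u4 hn_4_3.symm, T.w_pos u1, T.w_pos u3, T.w_pos u4]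
                      · -- (1,4) Tm
                        exfalso
                        have key := Groth.Agent.Helper6.NT.negfun3 T h2 u1 u3 u4 (by norm_num) 2 1 3 (by norm_num) (by norm_num)
                        linarith only [key, tap_1_3, taq_1_3, tap_1_4, taq_1_4, T.offDiag_nonneg u3 u4 hn_4_3.symm, T.w_pos u1, T.w_pos u3, T.w_pos u4]
                    · push Not at hx
                      have cl_1 := hx
                      clear hx
                      by_cases hx : ∃ j, (j ≠ u0 ∧ j ≠ u1 ∧ j ≠ u2 ∧ j ≠ u3) ∧ T.a u2 j ≠ 0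
                      · obtain ⟨u4, ⟨hn_4_0, hn_4_1, hn_4_2, hn_4_3⟩, e_2_4⟩ := hx
                        have z_0_4 : T.a u0 u4 = 0 := cl_0 u4 ⟨hn_4_0, hn_4_1, hn_4_2⟩
                        have z_1_4 : T.a u1 u4 = 0 := cl_1 u4 ⟨hn_4_0, hn_4_1, hn_4_2, hn_4_3⟩
                        rcases Groth.Agent.Helper6.NT.edge5 T h2 (by norm_num) u2 u4 hn_4_2.symm e_2_4 with ⟨tw_2_4, tap_2_4, taq_2_4⟩ | ⟨tw_2_4, tap_2_4, taq_2_4⟩ | ⟨tw_2_4, tap_2_4, taq_2_4⟩ | ⟨tw_2_4, tap_2_4, taq_2_4⟩ | ⟨tw_2_4, tap_2_4, taq_2_4⟩
                        · -- (2,4) S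
                          rcases eq_or_ne (T.a u3 u4) 0 with z_3_4 | nz_3_4
                          · -- (3,4) zero
                            have hinj := Groth.Agent.Helper6.NT.inj5 u0 u1 u2 u3 u4 hn_1_0 hn_2_0 hn_2_1 hn_3_0 hn_3_1 hn_3_2 hn_4_0 hn_4_1 hn_4_2 hn_4_3
                            have r_0 : -2 * T.m u0 + 2 * T.m u1 + 1 * T.m u2 = 0 := by
                              have key := Groth.Agent.Helper6.NT.rowfun5 T u0 u1 u2 u3 u4 hinj u0
                              rw [(h2 u0).2, tap_0_1, tap_0_2, z_0_3, z_0_4] at key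
                              exact mul_left_cancel₀ (T.w_pos u0).ne' (by linarith only [key])
                            have r_1 : 1 * T.m u0 + -2 * T.m u1 + 1 * T.m u3 = 0 := by
                              have key := Groth.Agent.Helper6.NT.rowfun5 T u0 u1 u2 u3 u4 hinj u1
                              rw [Groth.Agent.Helper6.NT.symm' T u1 u0, taq_0_1, (h2 u1).2, z_1_2, tap_1_3, z_1_4] at key
                              exact mul_left_cancel₀ (T.w_pos u1).ne' (by linarith only [key])
                            have r_2 : 1 * T.m u0 + -2 * T.m u2 + 1 * T.m u4 = 0 := by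
                              have key := Groth.Agent.Helper6.NT.rowfun5 T u0 u1 u2 u3 u4 hinj u2
                              rw [Groth.Agent.Helper6.NT.symm' T u2 u0, taq_0_2, Groth.Agent.Helper6.NT.symm' T u2 u1, z_1_2, (h2 u2).2, z_2_3, tap_2_4] at key
                              exact mul_left_cancel₀ (T.w_pos u2).ne' (by linarith only [key])
                            have r_3 : 1 * T.m u1 + -2 * T.m u3 = 0 := by
                              have key := Groth.Agent.Helper6.NT.rowfun5 T u0 u1 u2 u3 u4 hinj u3
                              rw [Groth.Agent.Helper6.NT.symm' T u3 u0, z_0_3, Groth.Agent.Helper6.NT.symm' T u3 u1, taq_1_3, Groth.Agent.Helper6.NT.symm' T u3 u2, z_2_3, (h2 u3).2, z_3_4] at key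
                              exact mul_left_cancel₀ (T.w_pos u3).ne' (by linarith only [key])
                            have r_4 : 1 * T.m u2 + -2 * T.m u4 = 0 := by
                              have key := Groth.Agent.Helper6.NT.rowfun5 T u0 u1 u2 u3 u4 hinj u4
                              rw [Groth.Agent.Helper6.NT.symm' T u4 u0, z_0_4, Groth.Agent.Helper6.NT.symm' T u4 u1, z_1_4, Groth.Agent.Helper6.NT.symm' T u4 u2, taq_2_4, Groth.Agent.Helper6.NT.symm' T u4 u3, z_3_4, (h2 u4).2] at key
                              exact mul_left_cancel₀ (T.w_pos u4).ne' (by linarith only [key])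
                            have f0 : T.m u4 = T.m u4 := rfl
                            have f1 : T.m u2 = 2 * T.m u4 := by linarith only [r_0, r_1, r_2, r_3, r_4]
                            have f2 : T.m u0 = 3 * T.m u4 := by linarith only [r_0, r_1, r_2, r_3, r_4]
                            have f3 : T.m u1 = 2 * T.m u4 := by linarith only [r_0, r_1, r_2, r_3, r_4]
                            have f4 : T.m u3 = T.m u4 := by linarith only [r_0, r_1, r_2, r_3, r_4]
                            have f5 : T.w u4 = T.w u4 := rfl
                            have f6 : T.w u2 = T.w u4 := by linarith only [tw_0_1, tw_0_2, tw_1_3, tw_2_4]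
                            have f7 : T.w u0 = T.w u4 := by linarith only [tw_0_1, tw_0_2, tw_1_3, tw_2_4]
                            have f8 : T.w u1 = 2 * T.w u4 := by linarith only [tw_0_1, tw_0_2, tw_1_3, tw_2_4]
                            have f9 : T.w u3 = 2 * T.w u4 := by linarith only [tw_0_1, tw_0_2, tw_1_3, tw_2_4]
                            have f10 : T.a u4 u4 = -2 * T.w u4 := by have := (h2 u4).2; linarith only [this, tw_0_1, tw_0_2, tw_1_3, tw_2_4]
                            have f11 : T.a u4 u2 = T.w u4 := by rw [Groth.Agent.Helper6.NT.symm' T u4 u2]; linarith only [tap_2_4, tw_0_1, tw_0_2, tw_1_3, tw_2_4]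
                            have f12 : T.a u4 u0 = 0 := by rw [Groth.Agent.Helper6.NT.symm' T u4 u0]; exact z_0_4
                            have f13 : T.a u4 u1 = 0 := by rw [Groth.Agent.Helper6.NT.symm' T u4 u1]; exact z_1_4
                            have f14 : T.a u4 u3 = 0 := by rw [Groth.Agent.Helper6.NT.symm' T u4 u3]; exact z_3_4
                            have f15 : T.a u2 u2 = -2 * T.w u4 := by have := (h2 u2).2; linarith only [this, tw_0_1, tw_0_2, tw_1_3, tw_2_4]
                            have f16 : T.a u2 u0 = T.w u4 := by rw [Groth.Agent.Helper6.NT.symm' T u2 u0]; linarith only [tap_0_2, tw_0_1, tw_0_2, tw_1_3, tw_2_4]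
                            have f17 : T.a u2 u1 = 0 := by rw [Groth.Agent.Helper6.NT.symm' T u2 u1]; exact z_1_2
                            have f18 : T.a u2 u3 = 0 := by exact z_2_3
                            have f19 : T.a u0 u0 = -2 * T.w u4 := by have := (h2 u0).2; linarith only [this, tw_0_1, tw_0_2, tw_1_3, tw_2_4]
                            have f20 : T.a u0 u1 = 2 * T.w u4 := by linarith only [tap_0_1, tw_0_1, tw_0_2, tw_1_3, tw_2_4]
                            have f21 : T.a u0 u3 = 0 := by exact z_0_3
                            have f22 : T.a u1 u1 = -4 * T.w u4 := by have := (h2 u1).2; linarith only [this, tw_0_1, tw_0_2, tw_1_3, tw_2_4]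
                            have f23 : T.a u1 u3 = 2 * T.w u4 := by linarith only [tap_1_3, tw_0_1, tw_0_2, tw_1_3, tw_2_4]
                            have f24 : T.a u3 u3 = -4 * T.w u4 := by have := (h2 u3).2; linarith only [this, tw_0_1, tw_0_2, tw_1_3, tw_2_4]
                            have hsig := Groth.Agent.Helper6.NT.inj5 u4 u2 u0 u1 u3 hn_4_2.symm hn_4_0.symm hn_2_0.symm hn_4_1.symm hn_2_1.symm hn_1_0 hn_4_3.symm hn_3_2 hn_3_0 hn_3_1
                            exact ⟨Equiv.ofBijective _ (Finite.injective_iff_bijective.1 hsig), T.m u4, T.w u4, Or.inr (Or.inl ⟨f0, f1, f2, f3, f4, f5, f6, f7, f8, f9, f10, f11, f12, f13, f14, f15, f16, f17, f18, f19, f20, f21, f22, f23, f24⟩)⟩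
                          · -- (3,4) nonzero
                            obtain ⟨lbp_3_4, lbq_3_4⟩ := Groth.Agent.Helper6.NT.lb T u3 u4 hn_4_3.symm nz_3_4
                            rcases Groth.Agent.Helper6.NT.edge5 T h2 (by norm_num) u3 u4 hn_4_3.symm nz_3_4 with ⟨tw_3_4, tap_3_4, taq_3_4⟩ | ⟨tw_3_4, tap_3_4, taq_3_4⟩ | ⟨tw_3_4, tap_3_4, taq_3_4⟩ | ⟨tw_3_4, tap_3_4, taq_3_4⟩ | ⟨tw_3_4, tap_3_4, taq_3_4⟩
                            · -- (3,4) S
                              exfalso
                              linarith only [tap_0_1, tap_0_2, tap_1_3, tap_3_4, tap_2_4, taq_0_1, taq_0_2, taq_1_3, taq_3_4, taq_2_4, T.w_pos u0, T.w_pos u1, T.w_pos u2, T.w_pos u3, T.w_pos u4]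
                            · -- (3,4) Dp
                              exfalso
                              have key := Groth.Agent.Helper6.NT.negfun4 T h2 u0 u1 u3 u4 (by norm_num) 2 2 2 1 (by norm_num) (by norm_num)
                              linarith only [key, tap_0_1, taq_0_1, z_0_3, z_0_4, tap_1_3, taq_1_3, z_1_4, tap_3_4, taq_3_4, T.w_pos u0, T.w_pos u1, T.w_pos u3, T.w_pos u4]
                            · -- (3,4) Dm
                              exfalso
                              have key := Groth.Agent.Helper6.NT.negfun4 T h2 u0 u1 u3 u4 (by norm_num) 1 1 1 1 (by norm_num) (by norm_num)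
                              linarith only [key, tap_0_1, taq_0_1, z_0_3, z_0_4, tap_1_3, taq_1_3, z_1_4, tap_3_4, taq_3_4, T.w_pos u0, T.w_pos u1, T.w_pos u3, T.w_pos u4]
                            · -- (3,4) Tp
                              exfalso
                              have key := Groth.Agent.Helper6.NT.negfun3 T h2 u2 u3 u4 (by norm_num) 1 3 2 (by norm_num) (by norm_num)
                              linarith only [key, z_2_3, tap_2_4, taq_2_4, tap_3_4, taq_3_4, T.w_pos u2, T.w_pos u3, T.w_pos u4]
                            · -- (3,4) Tm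
                              exfalso
                              have key := Groth.Agent.Helper6.NT.negfun3 T h2 u2 u3 u4 (by norm_num) 1 1 2 (by norm_num) (by norm_num)
                              linarith only [key, z_2_3, tap_2_4, taq_2_4, tap_3_4, taq_3_4, T.w_pos u2, T.w_pos u3, T.w_pos u4]
                        · -- (2,4) Dp
                          exfalso
                          have key := Groth.Agent.Helper6.NT.negfun4 T h2 u0 u1 u2 u4 (by norm_num) 2 1 2 1 (by norm_num) (by norm_num)
                          linarith only [key, tap_0_1, taq_0_1, tap_0_2, taq_0_2, z_0_4, z_1_2, z_1_4, tap_2_4, taq_2_4, T.w_pos u0, T.w_pos u1, T.w_pos u2, T.w_pos u4]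
                        · -- (2,4) Dm
                          exfalso
                          have key := Groth.Agent.Helper6.NT.negfun4 T h2 u0 u1 u2 u4 (by norm_num) 2 1 2 2 (by norm_num) (by norm_num)
                          linarith only [key, tap_0_1, taq_0_1, tap_0_2, taq_0_2, z_0_4, z_1_2, z_1_4, tap_2_4, taq_2_4, T.w_pos u0, T.w_pos u1, T.w_pos u2, T.w_pos u4]
                        · -- (2,4) Tp
                          exfalso
                          have key := Groth.Agent.Helper6.NT.negfun3 T h2 u0 u2 u4 (by norm_num) 1 2 1 (by norm_num) (by norm_num)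
                          linarith only [key, tap_0_2, taq_0_2, z_0_4, tap_2_4, taq_2_4, T.w_pos u0, T.w_pos u2, T.w_pos u4]
                        · -- (2,4) Tm
                          exfalso
                          have key := Groth.Agent.Helper6.NT.negfun3 T h2 u0 u2 u4 (by norm_num) 1 2 3 (by norm_num) (by norm_num)
                          linarith only [key, tap_0_2, taq_0_2, z_0_4, tap_2_4, taq_2_4, T.w_pos u0, T.w_pos u2, T.w_pos u4]
                      · push Not at hx
                        have cl_2 := hx
                        clear hx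
                        by_cases hx : ∃ j, (j ≠ u0 ∧ j ≠ u1 ∧ j ≠ u2 ∧ j ≠ u3) ∧ T.a u3 j ≠ 0
                        · obtain ⟨u4, ⟨hn_4_0, hn_4_1, hn_4_2, hn_4_3⟩, e_3_4⟩ := hx
                          have z_0_4 : T.a u0 u4 = 0 := cl_0 u4 ⟨hn_4_0, hn_4_1, hn_4_2⟩
                          have z_1_4 : T.a u1 u4 = 0 := cl_1 u4 ⟨hn_4_0, hn_4_1, hn_4_2, hn_4_3⟩
                          have z_2_4 : T.a u2 u4 = 0 := cl_2 u4 ⟨hn_4_0, hn_4_1, hn_4_2, hn_4_3⟩
                          rcases Groth.Agent.Helper6.NT.edge5 T h2 (by norm_num) u3 u4 hn_4_3.symm e_3_4 with ⟨tw_3_4, tap_3_4, taq_3_4⟩ | ⟨tw_3_4, tap_3_4, taq_3_4⟩ | ⟨tw_3_4, tap_3_4, taq_3_4⟩ | ⟨tw_3_4, tap_3_4, taq_3_4⟩ | ⟨tw_3_4, tap_3_4, taq_3_4⟩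
                          · -- (3,4) S
                            have hinj := Groth.Agent.Helper6.NT.inj5 u0 u1 u2 u3 u4 hn_1_0 hn_2_0 hn_2_1 hn_3_0 hn_3_1 hn_3_2 hn_4_0 hn_4_1 hn_4_2 hn_4_3
                            have r_0 : -2 * T.m u0 + 2 * T.m u1 + 1 * T.m u2 = 0 := by
                              have key := Groth.Agent.Helper6.NT.rowfun5 T u0 u1 u2 u3 u4 hinj u0
                              rw [(h2 u0).2, tap_0_1, tap_0_2, z_0_3, z_0_4] at key
                              exact mul_left_cancel₀ (T.w_pos u0).ne' (by linarith only [key])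
                            have r_1 : 1 * T.m u0 + -2 * T.m u1 + 1 * T.m u3 = 0 := by
                              have key := Groth.Agent.Helper6.NT.rowfun5 T u0 u1 u2 u3 u4 hinj u1
                              rw [Groth.Agent.Helper6.NT.symm' T u1 u0, taq_0_1, (h2 u1).2, z_1_2, tap_1_3, z_1_4] at key
                              exact mul_left_cancel₀ (T.w_pos u1).ne' (by linarith only [key])
                            have r_2 : 1 * T.m u0 + -2 * T.m u2 = 0 := by
                              have key := Groth.Agent.Helper6.NT.rowfun5 T u0 u1 u2 u3 u4 hinj u2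
                              rw [Groth.Agent.Helper6.NT.symm' T u2 u0, taq_0_2, Groth.Agent.Helper6.NT.symm' T u2 u1, z_1_2, (h2 u2).2, z_2_3, z_2_4] at key
                              exact mul_left_cancel₀ (T.w_pos u2).ne' (by linarith only [key])
                            have r_3 : 1 * T.m u1 + -2 * T.m u3 + 1 * T.m u4 = 0 := by
                              have key := Groth.Agent.Helper6.NT.rowfun5 T u0 u1 u2 u3 u4 hinj u3
                              rw [Groth.Agent.Helper6.NT.symm' T u3 u0, z_0_3, Groth.Agent.Helper6.NT.symm' T u3 u1, taq_1_3, Groth.Agent.Helper6.NT.symm' T u3 u2, z_2_3, (h2 u3).2, tap_3_4] at key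
                              exact mul_left_cancel₀ (T.w_pos u3).ne' (by linarith only [key])
                            have r_4 : 1 * T.m u3 + -2 * T.m u4 = 0 := by
                              have key := Groth.Agent.Helper6.NT.rowfun5 T u0 u1 u2 u3 u4 hinj u4
                              rw [Groth.Agent.Helper6.NT.symm' T u4 u0, z_0_4, Groth.Agent.Helper6.NT.symm' T u4 u1, z_1_4, Groth.Agent.Helper6.NT.symm' T u4 u2, z_2_4, Groth.Agent.Helper6.NT.symm' T u4 u3, taq_3_4, (h2 u4).2] at key
                              exact mul_left_cancel₀ (T.w_pos u4).ne' (by linarith only [key])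
                            have f0 : T.m u4 = T.m u4 := rfl
                            have f1 : T.m u3 = 2 * T.m u4 := by linarith only [r_0, r_1, r_2, r_3, r_4]
                            have f2 : T.m u1 = 3 * T.m u4 := by linarith only [r_0, r_1, r_2, r_3, r_4]
                            have f3 : T.m u0 = 4 * T.m u4 := by linarith only [r_0, r_1, r_2, r_3, r_4]
                            have f4 : T.m u2 = 2 * T.m u4 := by linarith only [r_0, r_1, r_2, r_3, r_4]
                            have f5 : T.w u4 = 2 * T.w u0 := by linarith only [tw_0_1, tw_0_2, tw_1_3, tw_3_4]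
                            have f6 : T.w u3 = 2 * T.w u0 := by linarith only [tw_0_1, tw_0_2, tw_1_3, tw_3_4]
                            have f7 : T.w u1 = 2 * T.w u0 := by linarith only [tw_0_1, tw_0_2, tw_1_3, tw_3_4]
                            have f8 : T.w u0 = T.w u0 := rfl
                            have f9 : T.w u2 = T.w u0 := by linarith only [tw_0_1, tw_0_2, tw_1_3, tw_3_4]
                            have f10 : T.a u4 u4 = -4 * T.w u0 := by have := (h2 u4).2; linarith only [this, tw_0_1, tw_0_2, tw_1_3, tw_3_4]
                            have f11 : T.a u4 u3 = 2 * T.w u0 := by rw [Groth.Agent.Helper6.NT.symm' T u4 u3]; linarith only [tap_3_4, tw_0_1, tw_0_2, tw_1_3, tw_3_4]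
                            have f12 : T.a u4 u1 = 0 := by rw [Groth.Agent.Helper6.NT.symm' T u4 u1]; exact z_1_4
                            have f13 : T.a u4 u0 = 0 := by rw [Groth.Agent.Helper6.NT.symm' T u4 u0]; exact z_0_4
                            have f14 : T.a u4 u2 = 0 := by rw [Groth.Agent.Helper6.NT.symm' T u4 u2]; exact z_2_4
                            have f15 : T.a u3 u3 = -4 * T.w u0 := by have := (h2 u3).2; linarith only [this, tw_0_1, tw_0_2, tw_1_3, tw_3_4]
                            have f16 : T.a u3 u1 = 2 * T.w u0 := by rw [Groth.Agent.Helper6.NT.symm' T u3 u1]; linarith only [tap_1_3, tw_0_1, tw_0_2, tw_1_3, tw_3_4]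
                            have f17 : T.a u3 u0 = 0 := by rw [Groth.Agent.Helper6.NT.symm' T u3 u0]; exact z_0_3
                            have f18 : T.a u3 u2 = 0 := by rw [Groth.Agent.Helper6.NT.symm' T u3 u2]; exact z_2_3
                            have f19 : T.a u1 u1 = -4 * T.w u0 := by have := (h2 u1).2; linarith only [this, tw_0_1, tw_0_2, tw_1_3, tw_3_4]
                            have f20 : T.a u1 u0 = 2 * T.w u0 := by rw [Groth.Agent.Helper6.NT.symm' T u1 u0]; linarith only [tap_0_1, tw_0_1, tw_0_2, tw_1_3, tw_3_4]
                            have f21 : T.a u1 u2 = 0 := by exact z_1_2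
                            have f22 : T.a u0 u0 = -2 * T.w u0 := by have := (h2 u0).2; linarith only [this, tw_0_1, tw_0_2, tw_1_3, tw_3_4]
                            have f23 : T.a u0 u2 = T.w u0 := by linarith only [tap_0_2, tw_0_1, tw_0_2, tw_1_3, tw_3_4]
                            have f24 : T.a u2 u2 = -2 * T.w u0 := by have := (h2 u2).2; linarith only [this, tw_0_1, tw_0_2, tw_1_3, tw_3_4]
                            have hsig := Groth.Agent.Helper6.NT.inj5 u4 u3 u1 u0 u2 hn_4_3.symm hn_4_1.symm hn_3_1.symm hn_4_0.symm hn_3_0.symm hn_1_0.symm hn_4_2.symm hn_3_2.symm hn_2_1 hn_2_0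
                            exact ⟨Equiv.ofBijective _ (Finite.injective_iff_bijective.1 hsig), T.m u4, T.w u0, Or.inr (Or.inr (Or.inl ⟨f0, f1, f2, f3, f4, f5, f6, f7, f8, f9, f10, f11, f12, f13, f14, f15, f16, f17, f18, f19, f20, f21, f22, f23, f24⟩))⟩
                          · -- (3,4) Dp
                            exfalso
                            have key := Groth.Agent.Helper6.NT.negfun4 T h2 u0 u1 u3 u4 (by norm_num) 2 2 2 1 (by norm_num) (by norm_num)
                            linarith only [key, tap_0_1, taq_0_1, z_0_3, z_0_4, tap_1_3, taq_1_3, z_1_4, tap_3_4, taq_3_4, T.w_pos u0, T.w_pos u1, T.w_pos u3, T.w_pos u4]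
                          · -- (3,4) Dm
                            exfalso
                            have key := Groth.Agent.Helper6.NT.negfun4 T h2 u0 u1 u3 u4 (by norm_num) 1 1 1 1 (by norm_num) (by norm_num)
                            linarith only [key, tap_0_1, taq_0_1, z_0_3, z_0_4, tap_1_3, taq_1_3, z_1_4, tap_3_4, taq_3_4, T.w_pos u0, T.w_pos u1, T.w_pos u3, T.w_pos u4]
                          · -- (3,4) Tp
                            exfalso
                            have key := Groth.Agent.Helper6.NT.negfun3 T h2 u1 u3 u4 (by norm_num) 1 2 1 (by norm_num) (by norm_num)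
                            linarith only [key, tap_1_3, taq_1_3, z_1_4, tap_3_4, taq_3_4, T.w_pos u1, T.w_pos u3, T.w_pos u4]
                          · -- (3,4) Tm
                            exfalso
                            have key := Groth.Agent.Helper6.NT.negfun3 T h2 u1 u3 u4 (by norm_num) 1 2 3 (by norm_num) (by norm_num)
                            linarith only [key, tap_1_3, taq_1_3, z_1_4, tap_3_4, taq_3_4, T.w_pos u1, T.w_pos u3, T.w_pos u4]
                        · push Not at hx
                          have cl_3 := hx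
                          clear hx
                          exfalso
                          refine Groth.Agent.Helper6.NT.closed_contra T [u0, u1, u2, u3] (by simp) (by simp) ?_
                          intro i hi j hj
                          simp only [List.mem_cons, List.not_mem_nil, or_false, not_or] at hi hj
                          rcases hi with rfl | rfl | rfl | rfl
                          · exact cl_0 j ⟨hj.1, hj.2.1, hj.2.2.1⟩
                          · exact cl_1 j ⟨hj.1, hj.2.1, hj.2.2.1, hj.2.2.2⟩
                          · exact cl_2 j ⟨hj.1, hj.2.1, hj.2.2.1, hj.2.2.2⟩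
                          · exact cl_3 j ⟨hj.1, hj.2.1, hj.2.2.1, hj.2.2.2⟩
                  · -- (2,3) nonzero
                    obtain ⟨lbp_2_3, lbq_2_3⟩ := Groth.Agent.Helper6.NT.lb T u2 u3 hn_3_2.symm nz_2_3
                    exfalso
                    have key := Groth.Agent.Helper6.NT.negfun4 T h2 u0 u1 u2 u3 (by norm_num) 3 2 2 2 (by norm_num) (by norm_num)
                    linarith only [key, tap_0_1, taq_0_1, tap_0_2, taq_0_2, z_0_3, z_1_2, tap_1_3, taq_1_3, lbp_2_3, lbq_2_3, T.w_pos u0, T.w_pos u1, T.w_pos u2, T.w_pos u3]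
                · -- (1,3) Dp
                  exfalso
                  have key := Groth.Agent.Helper6.NT.negfun3 T h2 u0 u1 u3 (by norm_num) 2 2 1 (by norm_num) (by norm_num)
                  linarith only [key, tap_0_1, taq_0_1, z_0_3, tap_1_3, taq_1_3, T.w_pos u0, T.w_pos u1, T.w_pos u3]
                · -- (1,3) Dm
                  exfalso
                  have key := Groth.Agent.Helper6.NT.negfun3 T h2 u0 u1 u3 (by norm_num) 1 1 1 (by norm_num) (by norm_num)
                  linarith only [key, tap_0_1, taq_0_1, z_0_3, tap_1_3, taq_1_3, T.w_pos u0, T.w_pos u1, T.w_pos u3]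
                · -- (1,3) Tp
                  exfalso
                  have key := Groth.Agent.Helper6.NT.negfun3 T h2 u0 u1 u3 (by norm_num) 2 2 1 (by norm_num) (by norm_num)
                  linarith only [key, tap_0_1, taq_0_1, z_0_3, tap_1_3, taq_1_3, T.w_pos u0, T.w_pos u1, T.w_pos u3]
                · -- (1,3) Tm
                  exfalso
                  have key := Groth.Agent.Helper6.NT.negfun3 T h2 u0 u1 u3 (by norm_num) 2 2 3 (by norm_num) (by norm_num)
                  linarith only [key, tap_0_1, taq_0_1, z_0_3, tap_1_3, taq_1_3, T.w_pos u0, T.w_pos u1, T.w_pos u3]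
              · push Not at hx
                have cl_1 := hx
                clear hx
                by_cases hx : ∃ j, (j ≠ u0 ∧ j ≠ u1 ∧ j ≠ u2) ∧ T.a u2 j ≠ 0
                · obtain ⟨u3, ⟨hn_3_0, hn_3_1, hn_3_2⟩, e_2_3⟩ := hx
                  have z_0_3 : T.a u0 u3 = 0 := cl_0 u3 ⟨hn_3_0, hn_3_1, hn_3_2⟩
                  have z_1_3 : T.a u1 u3 = 0 := cl_1 u3 ⟨hn_3_0, hn_3_1, hn_3_2⟩
                  rcases Groth.Agent.Helper6.NT.edge5 T h2 (by norm_num) u2 u3 hn_3_2.symm e_2_3 with ⟨tw_2_3, tap_2_3, taq_2_3⟩ | ⟨tw_2_3, tap_2_3, taq_2_3⟩ | ⟨tw_2_3, tap_2_3, taq_2_3⟩ | ⟨tw_2_3, tap_2_3, taq_2_3⟩ | ⟨tw_2_3, tap_2_3, taq_2_3⟩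
                  · -- (2,3) S
                    by_cases hx : ∃ j, (j ≠ u0 ∧ j ≠ u1 ∧ j ≠ u2 ∧ j ≠ u3) ∧ T.a u2 j ≠ 0
                    · obtain ⟨u4, ⟨hn_4_0, hn_4_1, hn_4_2, hn_4_3⟩, e_2_4⟩ := hx
                      have z_0_4 : T.a u0 u4 = 0 := cl_0 u4 ⟨hn_4_0, hn_4_1, hn_4_2⟩
                      have z_1_4 : T.a u1 u4 = 0 := cl_1 u4 ⟨hn_4_0, hn_4_1, hn_4_2⟩
                      rcases Groth.Agent.Helper6.NT.edge5 T h2 (by norm_num) u2 u4 hn_4_2.symm e_2_4 with ⟨tw_2_4, tap_2_4, taq_2_4⟩ | ⟨tw_2_4, tap_2_4, taq_2_4⟩ | ⟨tw_2_4, tap_2_4, taq_2_4⟩ | ⟨tw_2_4, tap_2_4, taq_2_4⟩ | ⟨tw_2_4, tap_2_4, taq_2_4⟩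
                      · -- (2,4) S
                        rcases eq_or_ne (T.a u3 u4) 0 with z_3_4 | nz_3_4
                        · -- (3,4) zero
                          have hinj := Groth.Agent.Helper6.NT.inj5 u0 u1 u2 u3 u4 hn_1_0 hn_2_0 hn_2_1 hn_3_0 hn_3_1 hn_3_2 hn_4_0 hn_4_1 hn_4_2 hn_4_3
                          have r_0 : -2 * T.m u0 + 2 * T.m u1 + 1 * T.m u2 = 0 := by
                            have key := Groth.Agent.Helper6.NT.rowfun5 T u0 u1 u2 u3 u4 hinj u0
                            rw [(h2 u0).2, tap_0_1, tap_0_2, z_0_3, z_0_4] at key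
                            exact mul_left_cancel₀ (T.w_pos u0).ne' (by linarith only [key])
                          have r_1 : 1 * T.m u0 + -2 * T.m u1 = 0 := by
                            have key := Groth.Agent.Helper6.NT.rowfun5 T u0 u1 u2 u3 u4 hinj u1
                            rw [Groth.Agent.Helper6.NT.symm' T u1 u0, taq_0_1, (h2 u1).2, z_1_2, z_1_3, z_1_4] at key
                            exact mul_left_cancel₀ (T.w_pos u1).ne' (by linarith only [key])
                          have r_2 : 1 * T.m u0 + -2 * T.m u2 + 1 * T.m u3 + 1 * T.m u4 = 0 := by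
                            have key := Groth.Agent.Helper6.NT.rowfun5 T u0 u1 u2 u3 u4 hinj u2
                            rw [Groth.Agent.Helper6.NT.symm' T u2 u0, taq_0_2, Groth.Agent.Helper6.NT.symm' T u2 u1, z_1_2, (h2 u2).2, tap_2_3, tap_2_4] at key
                            exact mul_left_cancel₀ (T.w_pos u2).ne' (by linarith only [key])
                          have r_3 : 1 * T.m u2 + -2 * T.m u3 = 0 := by
                            have key := Groth.Agent.Helper6.NT.rowfun5 T u0 u1 u2 u3 u4 hinj u3
                            rw [Groth.Agent.Helper6.NT.symm' T u3 u0, z_0_3, Groth.Agent.Helper6.NT.symm' T u3 u1, z_1_3, Groth.Agent.Helper6.NT.symm' T u3 u2, taq_2_3, (h2 u3).2, z_3_4] at key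
                            exact mul_left_cancel₀ (T.w_pos u3).ne' (by linarith only [key])
                          have r_4 : 1 * T.m u2 + -2 * T.m u4 = 0 := by
                            have key := Groth.Agent.Helper6.NT.rowfun5 T u0 u1 u2 u3 u4 hinj u4
                            rw [Groth.Agent.Helper6.NT.symm' T u4 u0, z_0_4, Groth.Agent.Helper6.NT.symm' T u4 u1, z_1_4, Groth.Agent.Helper6.NT.symm' T u4 u2, taq_2_4, Groth.Agent.Helper6.NT.symm' T u4 u3, z_3_4, (h2 u4).2] at key
                            exact mul_left_cancel₀ (T.w_pos u4).ne' (by linarith only [key])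
                          have f0 : T.m u1 = T.m u1 := rfl
                          have f1 : T.m u0 = 2 * T.m u1 := by linarith only [r_0, r_1, r_2, r_3, r_4]
                          have f2 : T.m u2 = 2 * T.m u1 := by linarith only [r_0, r_1, r_2, r_3, r_4]
                          have f3 : T.m u3 = T.m u1 := by linarith only [r_0, r_1, r_2, r_3, r_4]
                          have f4 : T.m u4 = T.m u1 := by linarith only [r_0, r_1, r_2, r_3, r_4]
                          have f5 : T.w u1 = 2 * T.w u0 := by linarith only [tw_0_1, tw_0_2, tw_2_3, tw_2_4]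
                          have f6 : T.w u0 = T.w u0 := rfl
                          have f7 : T.w u2 = T.w u0 := by linarith only [tw_0_1, tw_0_2, tw_2_3, tw_2_4]
                          have f8 : T.w u3 = T.w u0 := by linarith only [tw_0_1, tw_0_2, tw_2_3, tw_2_4]
                          have f9 : T.w u4 = T.w u0 := by linarith only [tw_0_1, tw_0_2, tw_2_3, tw_2_4]
                          have f10 : T.a u1 u1 = -4 * T.w u0 := by have := (h2 u1).2; linarith only [this, tw_0_1, tw_0_2, tw_2_3, tw_2_4]
                          have f11 : T.a u1 u0 = 2 * T.w u0 := by rw [Groth.Agent.Helper6.NT.symm' T u1 u0]; linarith only [tap_0_1, tw_0_1, tw_0_2, tw_2_3, tw_2_4]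
                          have f12 : T.a u1 u2 = 0 := by exact z_1_2
                          have f13 : T.a u1 u3 = 0 := by exact z_1_3
                          have f14 : T.a u1 u4 = 0 := by exact z_1_4
                          have f15 : T.a u0 u0 = -2 * T.w u0 := by have := (h2 u0).2; linarith only [this, tw_0_1, tw_0_2, tw_2_3, tw_2_4]
                          have f16 : T.a u0 u2 = T.w u0 := by linarith only [tap_0_2, tw_0_1, tw_0_2, tw_2_3, tw_2_4]
                          have f17 : T.a u0 u3 = 0 := by exact z_0_3
                          have f18 : T.a u0 u4 = 0 := by exact z_0_4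
                          have f19 : T.a u2 u2 = -2 * T.w u0 := by have := (h2 u2).2; linarith only [this, tw_0_1, tw_0_2, tw_2_3, tw_2_4]
                          have f20 : T.a u2 u3 = T.w u0 := by linarith only [tap_2_3, tw_0_1, tw_0_2, tw_2_3, tw_2_4]
                          have f21 : T.a u2 u4 = T.w u0 := by linarith only [tap_2_4, tw_0_1, tw_0_2, tw_2_3, tw_2_4]
                          have f22 : T.a u3 u3 = -2 * T.w u0 := by have := (h2 u3).2; linarith only [this, tw_0_1, tw_0_2, tw_2_3, tw_2_4]
                          have f23 : T.a u3 u4 = 0 := by exact z_3_4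
                          have f24 : T.a u4 u4 = -2 * T.w u0 := by have := (h2 u4).2; linarith only [this, tw_0_1, tw_0_2, tw_2_3, tw_2_4]
                          have hsig := Groth.Agent.Helper6.NT.inj5 u1 u0 u2 u3 u4 hn_1_0.symm hn_2_1 hn_2_0 hn_3_1 hn_3_0 hn_3_2 hn_4_1 hn_4_0 hn_4_2 hn_4_3
                          exact ⟨Equiv.ofBijective _ (Finite.injective_iff_bijective.1 hsig), T.m u1, T.w u0, Or.inr (Or.inr (Or.inr (Or.inr (Or.inr (Or.inr (Or.inr (Or.inl ⟨f0, f1, f2, f3, f4, f5, f6, f7, f8, f9, f10, f11, f12, f13, f14, f15, f16, f17, f18, f19, f20, f21, f22, f23, f24⟩)))))))⟩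
                        · -- (3,4) nonzero
                          obtain ⟨lbp_3_4, lbq_3_4⟩ := Groth.Agent.Helper6.NT.lb T u3 u4 hn_4_3.symm nz_3_4
                          exfalso
                          have key := Groth.Agent.Helper6.NT.negfun3 T h2 u2 u3 u4 (by norm_num) 1 1 1 (by norm_num) (by norm_num)
                          linarith only [key, tap_2_3, taq_2_3, tap_2_4, taq_2_4, lbp_3_4, lbq_3_4, T.w_pos u2, T.w_pos u3, T.w_pos u4]
                      · -- (2,4) Dp
                        exfalso
                        have key := Groth.Agent.Helper6.NT.negfun4 T h2 u0 u2 u3 u4 (by norm_num) 1 2 1 1 (by norm_num) (by norm_num)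
                        linarith only [key, tap_0_2, taq_0_2, z_0_3, z_0_4, tap_2_3, taq_2_3, tap_2_4, taq_2_4, T.offDiag_nonneg u3 u4 hn_4_3.symm, T.w_pos u0, T.w_pos u2, T.w_pos u3, T.w_pos u4]
                      · -- (2,4) Dm
                        exfalso
                        have key := Groth.Agent.Helper6.NT.negfun4 T h2 u0 u2 u3 u4 (by norm_num) 1 2 1 2 (by norm_num) (by norm_num)
                        linarith only [key, tap_0_2, taq_0_2, z_0_3, z_0_4, tap_2_3, taq_2_3, tap_2_4, taq_2_4, T.offDiag_nonneg u3 u4 hn_4_3.symm, T.w_pos u0, T.w_pos u2, T.w_pos u3, T.w_pos u4]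
                      · -- (2,4) Tp
                        exfalso
                        have key := Groth.Agent.Helper6.NT.negfun3 T h2 u2 u3 u4 (by norm_num) 2 1 1 (by norm_num) (by norm_num)
                        linarith only [key, tap_2_3, taq_2_3, tap_2_4, taq_2_4, T.offDiag_nonneg u3 u4 hn_4_3.symm, T.w_pos u2, T.w_pos u3, T.w_pos u4]
                      · -- (2,4) Tm
                        exfalso
                        have key := Groth.Agent.Helper6.NT.negfun3 T h2 u2 u3 u4 (by norm_num) 2 1 3 (by norm_num) (by norm_num)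
                        linarith only [key, tap_2_3, taq_2_3, tap_2_4, taq_2_4, T.offDiag_nonneg u3 u4 hn_4_3.symm, T.w_pos u2, T.w_pos u3, T.w_pos u4]
                    · push Not at hx
                      have cl_2 := hx
                      clear hx
                      by_cases hx : ∃ j, (j ≠ u0 ∧ j ≠ u1 ∧ j ≠ u2 ∧ j ≠ u3) ∧ T.a u3 j ≠ 0
                      · obtain ⟨u4, ⟨hn_4_0, hn_4_1, hn_4_2, hn_4_3⟩, e_3_4⟩ := hx
                        have z_0_4 : T.a u0 u4 = 0 := cl_0 u4 ⟨hn_4_0, hn_4_1, hn_4_2⟩
                        have z_1_4 : T.a u1 u4 = 0 := cl_1 u4 ⟨hn_4_0, hn_4_1, hn_4_2⟩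
                        have z_2_4 : T.a u2 u4 = 0 := cl_2 u4 ⟨hn_4_0, hn_4_1, hn_4_2, hn_4_3⟩
                        rcases Groth.Agent.Helper6.NT.edge5 T h2 (by norm_num) u3 u4 hn_4_3.symm e_3_4 with ⟨tw_3_4, tap_3_4, taq_3_4⟩ | ⟨tw_3_4, tap_3_4, taq_3_4⟩ | ⟨tw_3_4, tap_3_4, taq_3_4⟩ | ⟨tw_3_4, tap_3_4, taq_3_4⟩ | ⟨tw_3_4, tap_3_4, taq_3_4⟩
                        · -- (3,4) S
                          have hinj := Groth.Agent.Helper6.NT.inj5 u0 u1 u2 u3 u4 hn_1_0 hn_2_0 hn_2_1 hn_3_0 hn_3_1 hn_3_2 hn_4_0 hn_4_1 hn_4_2 hn_4_3
                          have r_0 : -2 * T.m u0 + 2 * T.m u1 + 1 * T.m u2 = 0 := by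
                            have key := Groth.Agent.Helper6.NT.rowfun5 T u0 u1 u2 u3 u4 hinj u0
                            rw [(h2 u0).2, tap_0_1, tap_0_2, z_0_3, z_0_4] at key
                            exact mul_left_cancel₀ (T.w_pos u0).ne' (by linarith only [key])
                          have r_1 : 1 * T.m u0 + -2 * T.m u1 = 0 := by
                            have key := Groth.Agent.Helper6.NT.rowfun5 T u0 u1 u2 u3 u4 hinj u1
                            rw [Groth.Agent.Helper6.NT.symm' T u1 u0, taq_0_1, (h2 u1).2, z_1_2, z_1_3, z_1_4] at key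
                            exact mul_left_cancel₀ (T.w_pos u1).ne' (by linarith only [key])
                          have r_2 : 1 * T.m u0 + -2 * T.m u2 + 1 * T.m u3 = 0 := by
                            have key := Groth.Agent.Helper6.NT.rowfun5 T u0 u1 u2 u3 u4 hinj u2
                            rw [Groth.Agent.Helper6.NT.symm' T u2 u0, taq_0_2, Groth.Agent.Helper6.NT.symm' T u2 u1, z_1_2, (h2 u2).2, tap_2_3, z_2_4] at key
                            exact mul_left_cancel₀ (T.w_pos u2).ne' (by linarith only [key])
                          have r_3 : 1 * T.m u2 + -2 * T.m u3 + 1 * T.m u4 = 0 := by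
                            have key := Groth.Agent.Helper6.NT.rowfun5 T u0 u1 u2 u3 u4 hinj u3
                            rw [Groth.Agent.Helper6.NT.symm' T u3 u0, z_0_3, Groth.Agent.Helper6.NT.symm' T u3 u1, z_1_3, Groth.Agent.Helper6.NT.symm' T u3 u2, taq_2_3, (h2 u3).2, tap_3_4] at key
                            exact mul_left_cancel₀ (T.w_pos u3).ne' (by linarith only [key])
                          have r_4 : 1 * T.m u3 + -2 * T.m u4 = 0 := by
                            have key := Groth.Agent.Helper6.NT.rowfun5 T u0 u1 u2 u3 u4 hinj u4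
                            rw [Groth.Agent.Helper6.NT.symm' T u4 u0, z_0_4, Groth.Agent.Helper6.NT.symm' T u4 u1, z_1_4, Groth.Agent.Helper6.NT.symm' T u4 u2, z_2_4, Groth.Agent.Helper6.NT.symm' T u4 u3, taq_3_4, (h2 u4).2] at key
                            exact mul_left_cancel₀ (T.w_pos u4).ne' (by linarith only [key])
                          exfalso
                          linarith only [r_0, r_1, r_2, r_3, r_4, T.m_pos u0, T.m_pos u1, T.m_pos u2, T.m_pos u3, T.m_pos u4]
                        · -- (3,4) Dp
                          have hinj := Groth.Agent.Helper6.NT.inj5 u0 u1 u2 u3 u4 hn_1_0 hn_2_0 hn_2_1 hn_3_0 hn_3_1 hn_3_2 hn_4_0 hn_4_1 hn_4_2 hn_4_3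
                          have r_0 : -2 * T.m u0 + 2 * T.m u1 + 1 * T.m u2 = 0 := by
                            have key := Groth.Agent.Helper6.NT.rowfun5 T u0 u1 u2 u3 u4 hinj u0
                            rw [(h2 u0).2, tap_0_1, tap_0_2, z_0_3, z_0_4] at key
                            exact mul_left_cancel₀ (T.w_pos u0).ne' (by linarith only [key])
                          have r_1 : 1 * T.m u0 + -2 * T.m u1 = 0 := by
                            have key := Groth.Agent.Helper6.NT.rowfun5 T u0 u1 u2 u3 u4 hinj u1
                            rw [Groth.Agent.Helper6.NT.symm' T u1 u0, taq_0_1, (h2 u1).2, z_1_2, z_1_3, z_1_4] at key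
                            exact mul_left_cancel₀ (T.w_pos u1).ne' (by linarith only [key])
                          have r_2 : 1 * T.m u0 + -2 * T.m u2 + 1 * T.m u3 = 0 := by
                            have key := Groth.Agent.Helper6.NT.rowfun5 T u0 u1 u2 u3 u4 hinj u2
                            rw [Groth.Agent.Helper6.NT.symm' T u2 u0, taq_0_2, Groth.Agent.Helper6.NT.symm' T u2 u1, z_1_2, (h2 u2).2, tap_2_3, z_2_4] at key
                            exact mul_left_cancel₀ (T.w_pos u2).ne' (by linarith only [key])
                          have r_3 : 1 * T.m u2 + -2 * T.m u3 + 2 * T.m u4 = 0 := by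
                            have key := Groth.Agent.Helper6.NT.rowfun5 T u0 u1 u2 u3 u4 hinj u3
                            rw [Groth.Agent.Helper6.NT.symm' T u3 u0, z_0_3, Groth.Agent.Helper6.NT.symm' T u3 u1, z_1_3, Groth.Agent.Helper6.NT.symm' T u3 u2, taq_2_3, (h2 u3).2, tap_3_4] at key
                            exact mul_left_cancel₀ (T.w_pos u3).ne' (by linarith only [key])
                          have r_4 : 1 * T.m u3 + -2 * T.m u4 = 0 := by
                            have key := Groth.Agent.Helper6.NT.rowfun5 T u0 u1 u2 u3 u4 hinj u4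
                            rw [Groth.Agent.Helper6.NT.symm' T u4 u0, z_0_4, Groth.Agent.Helper6.NT.symm' T u4 u1, z_1_4, Groth.Agent.Helper6.NT.symm' T u4 u2, z_2_4, Groth.Agent.Helper6.NT.symm' T u4 u3, taq_3_4, (h2 u4).2] at key
                            exact mul_left_cancel₀ (T.w_pos u4).ne' (by linarith only [key])
                          have f0 : T.m u1 = T.m u1 := rfl
                          have f1 : T.m u0 = 2 * T.m u1 := by linarith only [r_0, r_1, r_2, r_3, r_4]
                          have f2 : T.m u2 = 2 * T.m u1 := by linarith only [r_0, r_1, r_2, r_3, r_4]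
                          have f3 : T.m u3 = 2 * T.m u1 := by linarith only [r_0, r_1, r_2, r_3, r_4]
                          have f4 : T.m u4 = T.m u1 := by linarith only [r_0, r_1, r_2, r_3, r_4]
                          have f5 : T.w u1 = 2 * T.w u0 := by linarith only [tw_0_1, tw_0_2, tw_2_3, tw_3_4]
                          have f6 : T.w u0 = T.w u0 := rfl
                          have f7 : T.w u2 = T.w u0 := by linarith only [tw_0_1, tw_0_2, tw_2_3, tw_3_4]
                          have f8 : T.w u3 = T.w u0 := by linarith only [tw_0_1, tw_0_2, tw_2_3, tw_3_4]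
                          have f9 : T.w u4 = 2 * T.w u0 := by linarith only [tw_0_1, tw_0_2, tw_2_3, tw_3_4]
                          have f10 : T.a u1 u1 = -4 * T.w u0 := by have := (h2 u1).2; linarith only [this, tw_0_1, tw_0_2, tw_2_3, tw_3_4]
                          have f11 : T.a u1 u0 = 2 * T.w u0 := by rw [Groth.Agent.Helper6.NT.symm' T u1 u0]; linarith only [tap_0_1, tw_0_1, tw_0_2, tw_2_3, tw_3_4]
                          have f12 : T.a u1 u2 = 0 := by exact z_1_2
                          have f13 : T.a u1 u3 = 0 := by exact z_1_3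
                          have f14 : T.a u1 u4 = 0 := by exact z_1_4
                          have f15 : T.a u0 u0 = -2 * T.w u0 := by have := (h2 u0).2; linarith only [this, tw_0_1, tw_0_2, tw_2_3, tw_3_4]
                          have f16 : T.a u0 u2 = T.w u0 := by linarith only [tap_0_2, tw_0_1, tw_0_2, tw_2_3, tw_3_4]
                          have f17 : T.a u0 u3 = 0 := by exact z_0_3
                          have f18 : T.a u0 u4 = 0 := by exact z_0_4
                          have f19 : T.a u2 u2 = -2 * T.w u0 := by have := (h2 u2).2; linarith only [this, tw_0_1, tw_0_2, tw_2_3, tw_3_4]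
                          have f20 : T.a u2 u3 = T.w u0 := by linarith only [tap_2_3, tw_0_1, tw_0_2, tw_2_3, tw_3_4]
                          have f21 : T.a u2 u4 = 0 := by exact z_2_4
                          have f22 : T.a u3 u3 = -2 * T.w u0 := by have := (h2 u3).2; linarith only [this, tw_0_1, tw_0_2, tw_2_3, tw_3_4]
                          have f23 : T.a u3 u4 = 2 * T.w u0 := by linarith only [tap_3_4, tw_0_1, tw_0_2, tw_2_3, tw_3_4]
                          have f24 : T.a u4 u4 = -4 * T.w u0 := by have := (h2 u4).2; linarith only [this, tw_0_1, tw_0_2, tw_2_3, tw_3_4]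
                          have hsig := Groth.Agent.Helper6.NT.inj5 u1 u0 u2 u3 u4 hn_1_0.symm hn_2_1 hn_2_0 hn_3_1 hn_3_0 hn_3_2 hn_4_1 hn_4_0 hn_4_2 hn_4_3
                          exact ⟨Equiv.ofBijective _ (Finite.injective_iff_bijective.1 hsig), T.m u1, T.w u0, Or.inr (Or.inr (Or.inr (Or.inr (Or.inr (Or.inl ⟨f0, f1, f2, f3, f4, f5, f6, f7, f8, f9, f10, f11, f12, f13, f14, f15, f16, f17, f18, f19, f20, f21, f22, f23, f24⟩)))))⟩
                        · -- (3,4) Dm
                          have hinj := Groth.Agent.Helper6.NT.inj5 u0 u1 u2 u3 u4 hn_1_0 hn_2_0 hn_2_1 hn_3_0 hn_3_1 hn_3_2 hn_4_0 hn_4_1 hn_4_2 hn_4_3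
                          have r_0 : -2 * T.m u0 + 2 * T.m u1 + 1 * T.m u2 = 0 := by
                            have key := Groth.Agent.Helper6.NT.rowfun5 T u0 u1 u2 u3 u4 hinj u0
                            rw [(h2 u0).2, tap_0_1, tap_0_2, z_0_3, z_0_4] at key
                            exact mul_left_cancel₀ (T.w_pos u0).ne' (by linarith only [key])
                          have r_1 : 1 * T.m u0 + -2 * T.m u1 = 0 := by
                            have key := Groth.Agent.Helper6.NT.rowfun5 T u0 u1 u2 u3 u4 hinj u1
                            rw [Groth.Agent.Helper6.NT.symm' T u1 u0, taq_0_1, (h2 u1).2, z_1_2, z_1_3, z_1_4] at key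
                            exact mul_left_cancel₀ (T.w_pos u1).ne' (by linarith only [key])
                          have r_2 : 1 * T.m u0 + -2 * T.m u2 + 1 * T.m u3 = 0 := by
                            have key := Groth.Agent.Helper6.NT.rowfun5 T u0 u1 u2 u3 u4 hinj u2
                            rw [Groth.Agent.Helper6.NT.symm' T u2 u0, taq_0_2, Groth.Agent.Helper6.NT.symm' T u2 u1, z_1_2, (h2 u2).2, tap_2_3, z_2_4] at key
                            exact mul_left_cancel₀ (T.w_pos u2).ne' (by linarith only [key])
                          have r_3 : 1 * T.m u2 + -2 * T.m u3 + 1 * T.m u4 = 0 := by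
                            have key := Groth.Agent.Helper6.NT.rowfun5 T u0 u1 u2 u3 u4 hinj u3
                            rw [Groth.Agent.Helper6.NT.symm' T u3 u0, z_0_3, Groth.Agent.Helper6.NT.symm' T u3 u1, z_1_3, Groth.Agent.Helper6.NT.symm' T u3 u2, taq_2_3, (h2 u3).2, tap_3_4] at key
                            exact mul_left_cancel₀ (T.w_pos u3).ne' (by linarith only [key])
                          have r_4 : 2 * T.m u3 + -2 * T.m u4 = 0 := by
                            have key := Groth.Agent.Helper6.NT.rowfun5 T u0 u1 u2 u3 u4 hinj u4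
                            rw [Groth.Agent.Helper6.NT.symm' T u4 u0, z_0_4, Groth.Agent.Helper6.NT.symm' T u4 u1, z_1_4, Groth.Agent.Helper6.NT.symm' T u4 u2, z_2_4, Groth.Agent.Helper6.NT.symm' T u4 u3, taq_3_4, (h2 u4).2] at key
                            exact mul_left_cancel₀ (T.w_pos u4).ne' (by linarith only [key])
                          have f0 : T.m u4 = 2 * T.m u1 := by linarith only [r_0, r_1, r_2, r_3, r_4]
                          have f1 : T.m u3 = 2 * T.m u1 := by linarith only [r_0, r_1, r_2, r_3, r_4]
                          have f2 : T.m u2 = 2 * T.m u1 := by linarith only [r_0, r_1, r_2, r_3, r_4]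
                          have f3 : T.m u0 = 2 * T.m u1 := by linarith only [r_0, r_1, r_2, r_3, r_4]
                          have f4 : T.m u1 = T.m u1 := rfl
                          have f5 : T.w u4 = T.w u4 := rfl
                          have f6 : T.w u3 = 2 * T.w u4 := by linarith only [tw_0_1, tw_0_2, tw_2_3, tw_3_4]
                          have f7 : T.w u2 = 2 * T.w u4 := by linarith only [tw_0_1, tw_0_2, tw_2_3, tw_3_4]
                          have f8 : T.w u0 = 2 * T.w u4 := by linarith only [tw_0_1, tw_0_2, tw_2_3, tw_3_4]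
                          have f9 : T.w u1 = 4 * T.w u4 := by linarith only [tw_0_1, tw_0_2, tw_2_3, tw_3_4]
                          have f10 : T.a u4 u4 = -2 * T.w u4 := by have := (h2 u4).2; linarith only [this, tw_0_1, tw_0_2, tw_2_3, tw_3_4]
                          have f11 : T.a u4 u3 = 2 * T.w u4 := by rw [Groth.Agent.Helper6.NT.symm' T u4 u3]; linarith only [tap_3_4, tw_0_1, tw_0_2, tw_2_3, tw_3_4]
                          have f12 : T.a u4 u2 = 0 := by rw [Groth.Agent.Helper6.NT.symm' T u4 u2]; exact z_2_4
                          have f13 : T.a u4 u0 = 0 := by rw [Groth.Agent.Helper6.NT.symm' T u4 u0]; exact z_0_4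
                          have f14 : T.a u4 u1 = 0 := by rw [Groth.Agent.Helper6.NT.symm' T u4 u1]; exact z_1_4
                          have f15 : T.a u3 u3 = -4 * T.w u4 := by have := (h2 u3).2; linarith only [this, tw_0_1, tw_0_2, tw_2_3, tw_3_4]
                          have f16 : T.a u3 u2 = 2 * T.w u4 := by rw [Groth.Agent.Helper6.NT.symm' T u3 u2]; linarith only [tap_2_3, tw_0_1, tw_0_2, tw_2_3, tw_3_4]
                          have f17 : T.a u3 u0 = 0 := by rw [Groth.Agent.Helper6.NT.symm' T u3 u0]; exact z_0_3
                          have f18 : T.a u3 u1 = 0 := by rw [Groth.Agent.Helper6.NT.symm' T u3 u1]; exact z_1_3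
                          have f19 : T.a u2 u2 = -4 * T.w u4 := by have := (h2 u2).2; linarith only [this, tw_0_1, tw_0_2, tw_2_3, tw_3_4]
                          have f20 : T.a u2 u0 = 2 * T.w u4 := by rw [Groth.Agent.Helper6.NT.symm' T u2 u0]; linarith only [tap_0_2, tw_0_1, tw_0_2, tw_2_3, tw_3_4]
                          have f21 : T.a u2 u1 = 0 := by rw [Groth.Agent.Helper6.NT.symm' T u2 u1]; exact z_1_2
                          have f22 : T.a u0 u0 = -4 * T.w u4 := by have := (h2 u0).2; linarith only [this, tw_0_1, tw_0_2, tw_2_3, tw_3_4]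
                          have f23 : T.a u0 u1 = 4 * T.w u4 := by linarith only [tap_0_1, tw_0_1, tw_0_2, tw_2_3, tw_3_4]
                          have f24 : T.a u1 u1 = -8 * T.w u4 := by have := (h2 u1).2; linarith only [this, tw_0_1, tw_0_2, tw_2_3, tw_3_4]
                          have hsig := Groth.Agent.Helper6.NT.inj5 u4 u3 u2 u0 u1 hn_4_3.symm hn_4_2.symm hn_3_2.symm hn_4_0.symm hn_3_0.symm hn_2_0.symm hn_4_1.symm hn_3_1.symm hn_2_1.symm hn_1_0
                          exact ⟨Equiv.ofBijective _ (Finite.injective_iff_bijective.1 hsig), T.m u1, T.w u4, Or.inr (Or.inr (Or.inr (Or.inl ⟨f0, f1, f2, f3, f4, f5, f6, f7, f8, f9, f10, f11, f12, f13, f14, f15, f16, f17, f18, f19, f20, f21, f22, f23, f24⟩)))⟩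
                        · -- (3,4) Tp
                          exfalso
                          have key := Groth.Agent.Helper6.NT.negfun3 T h2 u2 u3 u4 (by norm_num) 1 2 1 (by norm_num) (by norm_num)
                          linarith only [key, tap_2_3, taq_2_3, z_2_4, tap_3_4, taq_3_4, T.w_pos u2, T.w_pos u3, T.w_pos u4]
                        · -- (3,4) Tm
                          exfalso
                          have key := Groth.Agent.Helper6.NT.negfun3 T h2 u2 u3 u4 (by norm_num) 1 2 3 (by norm_num) (by norm_num)
                          linarith only [key, tap_2_3, taq_2_3, z_2_4, tap_3_4, taq_3_4, T.w_pos u2, T.w_pos u3, T.w_pos u4]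
                      · push Not at hx
                        have cl_3 := hx
                        clear hx
                        exfalso
                        refine Groth.Agent.Helper6.NT.closed_contra T [u0, u1, u2, u3] (by simp) (by simp) ?_
                        intro i hi j hj
                        simp only [List.mem_cons, List.not_mem_nil, or_false, not_or] at hi hj
                        rcases hi with rfl | rfl | rfl | rfl
                        · exact cl_0 j ⟨hj.1, hj.2.1, hj.2.2.1⟩
                        · exact cl_1 j ⟨hj.1, hj.2.1, hj.2.2.1⟩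
                        · exact cl_2 j ⟨hj.1, hj.2.1, hj.2.2.1, hj.2.2.2⟩
                        · exact cl_3 j ⟨hj.1, hj.2.1, hj.2.2.1, hj.2.2.2⟩
                  · -- (2,3) Dp
                    exfalso
                    have key := Groth.Agent.Helper6.NT.negfun4 T h2 u0 u1 u2 u3 (by norm_num) 2 1 2 1 (by norm_num) (by norm_num)
                    linarith only [key, tap_0_1, taq_0_1, tap_0_2, taq_0_2, z_0_3, z_1_2, z_1_3, tap_2_3, taq_2_3, T.w_pos u0, T.w_pos u1, T.w_pos u2, T.w_pos u3]
                  · -- (2,3) Dm
                    exfalso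
                    have key := Groth.Agent.Helper6.NT.negfun4 T h2 u0 u1 u2 u3 (by norm_num) 2 1 2 2 (by norm_num) (by norm_num)
                    linarith only [key, tap_0_1, taq_0_1, tap_0_2, taq_0_2, z_0_3, z_1_2, z_1_3, tap_2_3, taq_2_3, T.w_pos u0, T.w_pos u1, T.w_pos u2, T.w_pos u3]
                  · -- (2,3) Tp
                    exfalso
                    have key := Groth.Agent.Helper6.NT.negfun3 T h2 u0 u2 u3 (by norm_num) 1 2 1 (by norm_num) (by norm_num)
                    linarith only [key, tap_0_2, taq_0_2, z_0_3, tap_2_3, taq_2_3, T.w_pos u0, T.w_pos u2, T.w_pos u3]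
                  · -- (2,3) Tm
                    exfalso
                    have key := Groth.Agent.Helper6.NT.negfun3 T h2 u0 u2 u3 (by norm_num) 1 2 3 (by norm_num) (by norm_num)
                    linarith only [key, tap_0_2, taq_0_2, z_0_3, tap_2_3, taq_2_3, T.w_pos u0, T.w_pos u2, T.w_pos u3]
                · push Not at hx
                  have cl_2 := hx
                  clear hx
                  exfalso
                  refine Groth.Agent.Helper6.NT.closed_contra T [u0, u1, u2] (by simp) (by simp) ?_
                  intro i hi j hj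
                  simp only [List.mem_cons, List.not_mem_nil, or_false, not_or] at hi hj
                  rcases hi with rfl | rfl | rfl
                  · exact cl_0 j ⟨hj.1, hj.2.1, hj.2.2⟩
                  · exact cl_1 j ⟨hj.1, hj.2.1, hj.2.2⟩
                  · exact cl_2 j ⟨hj.1, hj.2.1, hj.2.2⟩
          · -- (1,2) nonzero
            obtain ⟨lbp_1_2, lbq_1_2⟩ := Groth.Agent.Helper6.NT.lb T u1 u2 hn_2_1.symm nz_1_2
            exfalso
            have key := Groth.Agent.Helper6.NT.negfun3 T h2 u0 u1 u2 (by norm_num) 1 1 1 (by norm_num) (by norm_num)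
            linarith only [key, tap_0_1, taq_0_1, tap_0_2, taq_0_2, lbp_1_2, lbq_1_2, T.w_pos u0, T.w_pos u1, T.w_pos u2]
        · -- (0,2) Dp
          exfalso
          have key := Groth.Agent.Helper6.NT.negfun3 T h2 u0 u1 u2 (by norm_num) 2 1 1 (by norm_num) (by norm_num)
          linarith only [key, tap_0_1, taq_0_1, tap_0_2, taq_0_2, T.offDiag_nonneg u1 u2 hn_2_1.symm, T.w_pos u0, T.w_pos u1, T.w_pos u2]
        · -- (0,2) Dm
          exfalso
          have key := Groth.Agent.Helper6.NT.negfun3 T h2 u0 u1 u2 (by norm_num) 2 1 2 (by norm_num) (by norm_num)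
          linarith only [key, tap_0_1, taq_0_1, tap_0_2, taq_0_2, T.offDiag_nonneg u1 u2 hn_2_1.symm, T.w_pos u0, T.w_pos u1, T.w_pos u2]
        · -- (0,2) Tp
          exfalso
          have key := Groth.Agent.Helper6.NT.negfun3 T h2 u0 u1 u2 (by norm_num) 2 1 1 (by norm_num) (by norm_num)
          linarith only [key, tap_0_1, taq_0_1, tap_0_2, taq_0_2, T.offDiag_nonneg u1 u2 hn_2_1.symm, T.w_pos u0, T.w_pos u1, T.w_pos u2]
        · -- (0,2) Tm
          exfalso
          have key := Groth.Agent.Helper6.NT.negfun3 T h2 u0 u1 u2 (by norm_num) 2 1 3 (by norm_num) (by norm_num)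
          linarith only [key, tap_0_1, taq_0_1, tap_0_2, taq_0_2, T.offDiag_nonneg u1 u2 hn_2_1.symm, T.w_pos u0, T.w_pos u1, T.w_pos u2]
      · push Not at hx
        have cl_0 := hx
        clear hx
        by_cases hx : ∃ j, (j ≠ u0 ∧ j ≠ u1) ∧ T.a u1 j ≠ 0
        · obtain ⟨u2, ⟨hn_2_0, hn_2_1⟩, e_1_2⟩ := hx
          have z_0_2 : T.a u0 u2 = 0 := cl_0 u2 ⟨hn_2_0, hn_2_1⟩
          rcases Groth.Agent.Helper6.NT.edge5 T h2 (by norm_num) u1 u2 hn_2_1.symm e_1_2 with ⟨tw_1_2, tap_1_2, taq_1_2⟩ | ⟨tw_1_2, tap_1_2, taq_1_2⟩ | ⟨tw_1_2, tap_1_2, taq_1_2⟩ | ⟨tw_1_2, tap_1_2, taq_1_2⟩ | ⟨tw_1_2, tap_1_2, taq_1_2⟩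
          · -- (1,2) S
            by_cases hx : ∃ j, (j ≠ u0 ∧ j ≠ u1 ∧ j ≠ u2) ∧ T.a u1 j ≠ 0
            · obtain ⟨u3, ⟨hn_3_0, hn_3_1, hn_3_2⟩, e_1_3⟩ := hx
              have z_0_3 : T.a u0 u3 = 0 := cl_0 u3 ⟨hn_3_0, hn_3_1⟩
              rcases Groth.Agent.Helper6.NT.edge5 T h2 (by norm_num) u1 u3 hn_3_1.symm e_1_3 with ⟨tw_1_3, tap_1_3, taq_1_3⟩ | ⟨tw_1_3, tap_1_3, taq_1_3⟩ | ⟨tw_1_3, tap_1_3, taq_1_3⟩ | ⟨tw_1_3, tap_1_3, taq_1_3⟩ | ⟨tw_1_3, tap_1_3, taq_1_3⟩
              · -- (1,3) S
                exfalso
                have key := Groth.Agent.Helper6.NT.negfun4 T h2 u0 u1 u2 u3 (by norm_num) 2 2 1 1 (by norm_num) (by norm_num)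
                linarith only [key, tap_0_1, taq_0_1, z_0_2, z_0_3, tap_1_2, taq_1_2, tap_1_3, taq_1_3, T.offDiag_nonneg u2 u3 hn_3_2.symm, T.w_pos u0, T.w_pos u1, T.w_pos u2, T.w_pos u3]
              · -- (1,3) Dp
                exfalso
                have key := Groth.Agent.Helper6.NT.negfun3 T h2 u0 u1 u3 (by norm_num) 2 2 1 (by norm_num) (by norm_num)
                linarith only [key, tap_0_1, taq_0_1, z_0_3, tap_1_3, taq_1_3, T.w_pos u0, T.w_pos u1, T.w_pos u3]
              · -- (1,3) Dm
                exfalso
                have key := Groth.Agent.Helper6.NT.negfun3 T h2 u0 u1 u3 (by norm_num) 1 1 1 (by norm_num) (by norm_num)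
                linarith only [key, tap_0_1, taq_0_1, z_0_3, tap_1_3, taq_1_3, T.w_pos u0, T.w_pos u1, T.w_pos u3]
              · -- (1,3) Tp
                exfalso
                have key := Groth.Agent.Helper6.NT.negfun3 T h2 u1 u2 u3 (by norm_num) 2 1 1 (by norm_num) (by norm_num)
                linarith only [key, tap_1_2, taq_1_2, tap_1_3, taq_1_3, T.offDiag_nonneg u2 u3 hn_3_2.symm, T.w_pos u1, T.w_pos u2, T.w_pos u3]
              · -- (1,3) Tm
                exfalso
                have key := Groth.Agent.Helper6.NT.negfun3 T h2 u1 u2 u3 (by norm_num) 2 1 3 (by norm_num) (by norm_num)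
                linarith only [key, tap_1_2, taq_1_2, tap_1_3, taq_1_3, T.offDiag_nonneg u2 u3 hn_3_2.symm, T.w_pos u1, T.w_pos u2, T.w_pos u3]
            · push Not at hx
              have cl_1 := hx
              clear hx
              by_cases hx : ∃ j, (j ≠ u0 ∧ j ≠ u1 ∧ j ≠ u2) ∧ T.a u2 j ≠ 0
              · obtain ⟨u3, ⟨hn_3_0, hn_3_1, hn_3_2⟩, e_2_3⟩ := hx
                have z_0_3 : T.a u0 u3 = 0 := cl_0 u3 ⟨hn_3_0, hn_3_1⟩
                have z_1_3 : T.a u1 u3 = 0 := cl_1 u3 ⟨hn_3_0, hn_3_1, hn_3_2⟩
                rcases Groth.Agent.Helper6.NT.edge5 T h2 (by norm_num) u2 u3 hn_3_2.symm e_2_3 with ⟨tw_2_3, tap_2_3, taq_2_3⟩ | ⟨tw_2_3, tap_2_3, taq_2_3⟩ | ⟨tw_2_3, tap_2_3, taq_2_3⟩ | ⟨tw_2_3, tap_2_3, taq_2_3⟩ | ⟨tw_2_3, tap_2_3, taq_2_3⟩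
                · -- (2,3) S
                  by_cases hx : ∃ j, (j ≠ u0 ∧ j ≠ u1 ∧ j ≠ u2 ∧ j ≠ u3) ∧ T.a u2 j ≠ 0
                  · obtain ⟨u4, ⟨hn_4_0, hn_4_1, hn_4_2, hn_4_3⟩, e_2_4⟩ := hx
                    have z_0_4 : T.a u0 u4 = 0 := cl_0 u4 ⟨hn_4_0, hn_4_1⟩
                    have z_1_4 : T.a u1 u4 = 0 := cl_1 u4 ⟨hn_4_0, hn_4_1, hn_4_2⟩
                    rcases Groth.Agent.Helper6.NT.edge5 T h2 (by norm_num) u2 u4 hn_4_2.symm e_2_4 with ⟨tw_2_4, tap_2_4, taq_2_4⟩ | ⟨tw_2_4, tap_2_4, taq_2_4⟩ | ⟨tw_2_4, tap_2_4, taq_2_4⟩ | ⟨tw_2_4, tap_2_4, taq_2_4⟩ | ⟨tw_2_4, tap_2_4, taq_2_4⟩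
                    · -- (2,4) S
                      rcases eq_or_ne (T.a u3 u4) 0 with z_3_4 | nz_3_4
                      · -- (3,4) zero
                        have hinj := Groth.Agent.Helper6.NT.inj5 u0 u1 u2 u3 u4 hn_1_0 hn_2_0 hn_2_1 hn_3_0 hn_3_1 hn_3_2 hn_4_0 hn_4_1 hn_4_2 hn_4_3
                        have r_0 : -2 * T.m u0 + 2 * T.m u1 = 0 := by
                          have key := Groth.Agent.Helper6.NT.rowfun5 T u0 u1 u2 u3 u4 hinj u0
                          rw [(h2 u0).2, tap_0_1, z_0_2, z_0_3, z_0_4] at key
                          exact mul_left_cancel₀ (T.w_pos u0).ne' (by linarith only [key])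
                        have r_1 : 1 * T.m u0 + -2 * T.m u1 + 1 * T.m u2 = 0 := by
                          have key := Groth.Agent.Helper6.NT.rowfun5 T u0 u1 u2 u3 u4 hinj u1
                          rw [Groth.Agent.Helper6.NT.symm' T u1 u0, taq_0_1, (h2 u1).2, tap_1_2, z_1_3, z_1_4] at key
                          exact mul_left_cancel₀ (T.w_pos u1).ne' (by linarith only [key])
                        have r_2 : 1 * T.m u1 + -2 * T.m u2 + 1 * T.m u3 + 1 * T.m u4 = 0 := by
                          have key := Groth.Agent.Helper6.NT.rowfun5 T u0 u1 u2 u3 u4 hinj u2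
                          rw [Groth.Agent.Helper6.NT.symm' T u2 u0, z_0_2, Groth.Agent.Helper6.NT.symm' T u2 u1, taq_1_2, (h2 u2).2, tap_2_3, tap_2_4] at key
                          exact mul_left_cancel₀ (T.w_pos u2).ne' (by linarith only [key])
                        have r_3 : 1 * T.m u2 + -2 * T.m u3 = 0 := by
                          have key := Groth.Agent.Helper6.NT.rowfun5 T u0 u1 u2 u3 u4 hinj u3
                          rw [Groth.Agent.Helper6.NT.symm' T u3 u0, z_0_3, Groth.Agent.Helper6.NT.symm' T u3 u1, z_1_3, Groth.Agent.Helper6.NT.symm' T u3 u2, taq_2_3, (h2 u3).2, z_3_4] at key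
                          exact mul_left_cancel₀ (T.w_pos u3).ne' (by linarith only [key])
                        have r_4 : 1 * T.m u2 + -2 * T.m u4 = 0 := by
                          have key := Groth.Agent.Helper6.NT.rowfun5 T u0 u1 u2 u3 u4 hinj u4
                          rw [Groth.Agent.Helper6.NT.symm' T u4 u0, z_0_4, Groth.Agent.Helper6.NT.symm' T u4 u1, z_1_4, Groth.Agent.Helper6.NT.symm' T u4 u2, taq_2_4, Groth.Agent.Helper6.NT.symm' T u4 u3, z_3_4, (h2 u4).2] at key
                          exact mul_left_cancel₀ (T.w_pos u4).ne' (by linarith only [key])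
                        have f0 : T.m u0 = 2 * T.m u3 := by linarith only [r_0, r_1, r_2, r_3, r_4]
                        have f1 : T.m u1 = 2 * T.m u3 := by linarith only [r_0, r_1, r_2, r_3, r_4]
                        have f2 : T.m u2 = 2 * T.m u3 := by linarith only [r_0, r_1, r_2, r_3, r_4]
                        have f3 : T.m u3 = T.m u3 := rfl
                        have f4 : T.m u4 = T.m u3 := by linarith only [r_0, r_1, r_2, r_3, r_4]
                        have f5 : T.w u0 = T.w u0 := rfl
                        have f6 : T.w u1 = 2 * T.w u0 := by linarith only [tw_0_1, tw_1_2, tw_2_3, tw_2_4]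
                        have f7 : T.w u2 = 2 * T.w u0 := by linarith only [tw_0_1, tw_1_2, tw_2_3, tw_2_4]
                        have f8 : T.w u3 = 2 * T.w u0 := by linarith only [tw_0_1, tw_1_2, tw_2_3, tw_2_4]
                        have f9 : T.w u4 = 2 * T.w u0 := by linarith only [tw_0_1, tw_1_2, tw_2_3, tw_2_4]
                        have f10 : T.a u0 u0 = -2 * T.w u0 := by have := (h2 u0).2; linarith only [this, tw_0_1, tw_1_2, tw_2_3, tw_2_4]
                        have f11 : T.a u0 u1 = 2 * T.w u0 := by linarith only [tap_0_1, tw_0_1, tw_1_2, tw_2_3, tw_2_4]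
                        have f12 : T.a u0 u2 = 0 := by exact z_0_2
                        have f13 : T.a u0 u3 = 0 := by exact z_0_3
                        have f14 : T.a u0 u4 = 0 := by exact z_0_4
                        have f15 : T.a u1 u1 = -4 * T.w u0 := by have := (h2 u1).2; linarith only [this, tw_0_1, tw_1_2, tw_2_3, tw_2_4]
                        have f16 : T.a u1 u2 = 2 * T.w u0 := by linarith only [tap_1_2, tw_0_1, tw_1_2, tw_2_3, tw_2_4]
                        have f17 : T.a u1 u3 = 0 := by exact z_1_3
                        have f18 : T.a u1 u4 = 0 := by exact z_1_4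
                        have f19 : T.a u2 u2 = -4 * T.w u0 := by have := (h2 u2).2; linarith only [this, tw_0_1, tw_1_2, tw_2_3, tw_2_4]
                        have f20 : T.a u2 u3 = 2 * T.w u0 := by linarith only [tap_2_3, tw_0_1, tw_1_2, tw_2_3, tw_2_4]
                        have f21 : T.a u2 u4 = 2 * T.w u0 := by linarith only [tap_2_4, tw_0_1, tw_1_2, tw_2_3, tw_2_4]
                        have f22 : T.a u3 u3 = -4 * T.w u0 := by have := (h2 u3).2; linarith only [this, tw_0_1, tw_1_2, tw_2_3, tw_2_4]
                        have f23 : T.a u3 u4 = 0 := by exact z_3_4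
                        have f24 : T.a u4 u4 = -4 * T.w u0 := by have := (h2 u4).2; linarith only [this, tw_0_1, tw_1_2, tw_2_3, tw_2_4]
                        have hsig := Groth.Agent.Helper6.NT.inj5 u0 u1 u2 u3 u4 hn_1_0 hn_2_0 hn_2_1 hn_3_0 hn_3_1 hn_3_2 hn_4_0 hn_4_1 hn_4_2 hn_4_3
                        exact ⟨Equiv.ofBijective _ (Finite.injective_iff_bijective.1 hsig), T.m u3, T.w u0, Or.inr (Or.inr (Or.inr (Or.inr (Or.inr (Or.inr (Or.inr (Or.inr (⟨f0, f1, f2, f3, f4, f5, f6, f7, f8, f9, f10, f11, f12, f13, f14, f15, f16, f17, f18, f19, f20, f21, f22, f23, f24⟩))))))))⟩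
                      · -- (3,4) nonzero
                        obtain ⟨lbp_3_4, lbq_3_4⟩ := Groth.Agent.Helper6.NT.lb T u3 u4 hn_4_3.symm nz_3_4
                        exfalso
                        have key := Groth.Agent.Helper6.NT.negfun3 T h2 u2 u3 u4 (by norm_num) 1 1 1 (by norm_num) (by norm_num)
                        linarith only [key, tap_2_3, taq_2_3, tap_2_4, taq_2_4, lbp_3_4, lbq_3_4, T.w_pos u2, T.w_pos u3, T.w_pos u4]
                    · -- (2,4) Dp
                      exfalso
                      have key := Groth.Agent.Helper6.NT.negfun4 T h2 u1 u2 u3 u4 (by norm_num) 1 2 1 1 (by norm_num) (by norm_num)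
                      linarith only [key, tap_1_2, taq_1_2, z_1_3, z_1_4, tap_2_3, taq_2_3, tap_2_4, taq_2_4, T.offDiag_nonneg u3 u4 hn_4_3.symm, T.w_pos u1, T.w_pos u2, T.w_pos u3, T.w_pos u4]
                    · -- (2,4) Dm
                      exfalso
                      have key := Groth.Agent.Helper6.NT.negfun4 T h2 u1 u2 u3 u4 (by norm_num) 1 2 1 2 (by norm_num) (by norm_num)
                      linarith only [key, tap_1_2, taq_1_2, z_1_3, z_1_4, tap_2_3, taq_2_3, tap_2_4, taq_2_4, T.offDiag_nonneg u3 u4 hn_4_3.symm, T.w_pos u1, T.w_pos u2, T.w_pos u3, T.w_pos u4]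
                    · -- (2,4) Tp
                      exfalso
                      have key := Groth.Agent.Helper6.NT.negfun3 T h2 u2 u3 u4 (by norm_num) 2 1 1 (by norm_num) (by norm_num)
                      linarith only [key, tap_2_3, taq_2_3, tap_2_4, taq_2_4, T.offDiag_nonneg u3 u4 hn_4_3.symm, T.w_pos u2, T.w_pos u3, T.w_pos u4]
                    · -- (2,4) Tm
                      exfalso
                      have key := Groth.Agent.Helper6.NT.negfun3 T h2 u2 u3 u4 (by norm_num) 2 1 3 (by norm_num) (by norm_num)
                      linarith only [key, tap_2_3, taq_2_3, tap_2_4, taq_2_4, T.offDiag_nonneg u3 u4 hn_4_3.symm, T.w_pos u2, T.w_pos u3, T.w_pos u4]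
                  · push Not at hx
                    have cl_2 := hx
                    clear hx
                    by_cases hx : ∃ j, (j ≠ u0 ∧ j ≠ u1 ∧ j ≠ u2 ∧ j ≠ u3) ∧ T.a u3 j ≠ 0
                    · obtain ⟨u4, ⟨hn_4_0, hn_4_1, hn_4_2, hn_4_3⟩, e_3_4⟩ := hx
                      have z_0_4 : T.a u0 u4 = 0 := cl_0 u4 ⟨hn_4_0, hn_4_1⟩
                      have z_1_4 : T.a u1 u4 = 0 := cl_1 u4 ⟨hn_4_0, hn_4_1, hn_4_2⟩
                      have z_2_4 : T.a u2 u4 = 0 := cl_2 u4 ⟨hn_4_0, hn_4_1, hn_4_2, hn_4_3⟩
                      rcases Groth.Agent.Helper6.NT.edge5 T h2 (by norm_num) u3 u4 hn_4_3.symm e_3_4 with ⟨tw_3_4, tap_3_4, taq_3_4⟩ | ⟨tw_3_4, tap_3_4, taq_3_4⟩ | ⟨tw_3_4, tap_3_4, taq_3_4⟩ | ⟨tw_3_4, tap_3_4, taq_3_4⟩ | ⟨tw_3_4, tap_3_4, taq_3_4⟩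
                      · -- (3,4) S
                        have hinj := Groth.Agent.Helper6.NT.inj5 u0 u1 u2 u3 u4 hn_1_0 hn_2_0 hn_2_1 hn_3_0 hn_3_1 hn_3_2 hn_4_0 hn_4_1 hn_4_2 hn_4_3
                        have r_0 : -2 * T.m u0 + 2 * T.m u1 = 0 := by
                          have key := Groth.Agent.Helper6.NT.rowfun5 T u0 u1 u2 u3 u4 hinj u0
                          rw [(h2 u0).2, tap_0_1, z_0_2, z_0_3, z_0_4] at key
                          exact mul_left_cancel₀ (T.w_pos u0).ne' (by linarith only [key])
                        have r_1 : 1 * T.m u0 + -2 * T.m u1 + 1 * T.m u2 = 0 := by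
                          have key := Groth.Agent.Helper6.NT.rowfun5 T u0 u1 u2 u3 u4 hinj u1
                          rw [Groth.Agent.Helper6.NT.symm' T u1 u0, taq_0_1, (h2 u1).2, tap_1_2, z_1_3, z_1_4] at key
                          exact mul_left_cancel₀ (T.w_pos u1).ne' (by linarith only [key])
                        have r_2 : 1 * T.m u1 + -2 * T.m u2 + 1 * T.m u3 = 0 := by
                          have key := Groth.Agent.Helper6.NT.rowfun5 T u0 u1 u2 u3 u4 hinj u2
                          rw [Groth.Agent.Helper6.NT.symm' T u2 u0, z_0_2, Groth.Agent.Helper6.NT.symm' T u2 u1, taq_1_2, (h2 u2).2, tap_2_3, z_2_4] at key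
                          exact mul_left_cancel₀ (T.w_pos u2).ne' (by linarith only [key])
                        have r_3 : 1 * T.m u2 + -2 * T.m u3 + 1 * T.m u4 = 0 := by
                          have key := Groth.Agent.Helper6.NT.rowfun5 T u0 u1 u2 u3 u4 hinj u3
                          rw [Groth.Agent.Helper6.NT.symm' T u3 u0, z_0_3, Groth.Agent.Helper6.NT.symm' T u3 u1, z_1_3, Groth.Agent.Helper6.NT.symm' T u3 u2, taq_2_3, (h2 u3).2, tap_3_4] at key
                          exact mul_left_cancel₀ (T.w_pos u3).ne' (by linarith only [key])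
                        have r_4 : 1 * T.m u3 + -2 * T.m u4 = 0 := by
                          have key := Groth.Agent.Helper6.NT.rowfun5 T u0 u1 u2 u3 u4 hinj u4
                          rw [Groth.Agent.Helper6.NT.symm' T u4 u0, z_0_4, Groth.Agent.Helper6.NT.symm' T u4 u1, z_1_4, Groth.Agent.Helper6.NT.symm' T u4 u2, z_2_4, Groth.Agent.Helper6.NT.symm' T u4 u3, taq_3_4, (h2 u4).2] at key
                          exact mul_left_cancel₀ (T.w_pos u4).ne' (by linarith only [key])
                        exfalso
                        linarith only [r_0, r_1, r_2, r_3, r_4, T.m_pos u0, T.m_pos u1, T.m_pos u2, T.m_pos u3, T.m_pos u4]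
                      · -- (3,4) Dp
                        have hinj := Groth.Agent.Helper6.NT.inj5 u0 u1 u2 u3 u4 hn_1_0 hn_2_0 hn_2_1 hn_3_0 hn_3_1 hn_3_2 hn_4_0 hn_4_1 hn_4_2 hn_4_3
                        have r_0 : -2 * T.m u0 + 2 * T.m u1 = 0 := by
                          have key := Groth.Agent.Helper6.NT.rowfun5 T u0 u1 u2 u3 u4 hinj u0
                          rw [(h2 u0).2, tap_0_1, z_0_2, z_0_3, z_0_4] at key
                          exact mul_left_cancel₀ (T.w_pos u0).ne' (by linarith only [key])
                        have r_1 : 1 * T.m u0 + -2 * T.m u1 + 1 * T.m u2 = 0 := by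
                          have key := Groth.Agent.Helper6.NT.rowfun5 T u0 u1 u2 u3 u4 hinj u1
                          rw [Groth.Agent.Helper6.NT.symm' T u1 u0, taq_0_1, (h2 u1).2, tap_1_2, z_1_3, z_1_4] at key
                          exact mul_left_cancel₀ (T.w_pos u1).ne' (by linarith only [key])
                        have r_2 : 1 * T.m u1 + -2 * T.m u2 + 1 * T.m u3 = 0 := by
                          have key := Groth.Agent.Helper6.NT.rowfun5 T u0 u1 u2 u3 u4 hinj u2
                          rw [Groth.Agent.Helper6.NT.symm' T u2 u0, z_0_2, Groth.Agent.Helper6.NT.symm' T u2 u1, taq_1_2, (h2 u2).2, tap_2_3, z_2_4] at key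
                          exact mul_left_cancel₀ (T.w_pos u2).ne' (by linarith only [key])
                        have r_3 : 1 * T.m u2 + -2 * T.m u3 + 2 * T.m u4 = 0 := by
                          have key := Groth.Agent.Helper6.NT.rowfun5 T u0 u1 u2 u3 u4 hinj u3
                          rw [Groth.Agent.Helper6.NT.symm' T u3 u0, z_0_3, Groth.Agent.Helper6.NT.symm' T u3 u1, z_1_3, Groth.Agent.Helper6.NT.symm' T u3 u2, taq_2_3, (h2 u3).2, tap_3_4] at key
                          exact mul_left_cancel₀ (T.w_pos u3).ne' (by linarith only [key])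
                        have r_4 : 1 * T.m u3 + -2 * T.m u4 = 0 := by
                          have key := Groth.Agent.Helper6.NT.rowfun5 T u0 u1 u2 u3 u4 hinj u4
                          rw [Groth.Agent.Helper6.NT.symm' T u4 u0, z_0_4, Groth.Agent.Helper6.NT.symm' T u4 u1, z_1_4, Groth.Agent.Helper6.NT.symm' T u4 u2, z_2_4, Groth.Agent.Helper6.NT.symm' T u4 u3, taq_3_4, (h2 u4).2] at key
                          exact mul_left_cancel₀ (T.w_pos u4).ne' (by linarith only [key])
                        have f0 : T.m u0 = 2 * T.m u4 := by linarith only [r_0, r_1, r_2, r_3, r_4]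
                        have f1 : T.m u1 = 2 * T.m u4 := by linarith only [r_0, r_1, r_2, r_3, r_4]
                        have f2 : T.m u2 = 2 * T.m u4 := by linarith only [r_0, r_1, r_2, r_3, r_4]
                        have f3 : T.m u3 = 2 * T.m u4 := by linarith only [r_0, r_1, r_2, r_3, r_4]
                        have f4 : T.m u4 = T.m u4 := rfl
                        have f5 : T.w u0 = T.w u0 := rfl
                        have f6 : T.w u1 = 2 * T.w u0 := by linarith only [tw_0_1, tw_1_2, tw_2_3, tw_3_4]
                        have f7 : T.w u2 = 2 * T.w u0 := by linarith only [tw_0_1, tw_1_2, tw_2_3, tw_3_4]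
                        have f8 : T.w u3 = 2 * T.w u0 := by linarith only [tw_0_1, tw_1_2, tw_2_3, tw_3_4]
                        have f9 : T.w u4 = 4 * T.w u0 := by linarith only [tw_0_1, tw_1_2, tw_2_3, tw_3_4]
                        have f10 : T.a u0 u0 = -2 * T.w u0 := by have := (h2 u0).2; linarith only [this, tw_0_1, tw_1_2, tw_2_3, tw_3_4]
                        have f11 : T.a u0 u1 = 2 * T.w u0 := by linarith only [tap_0_1, tw_0_1, tw_1_2, tw_2_3, tw_3_4]
                        have f12 : T.a u0 u2 = 0 := by exact z_0_2
                        have f13 : T.a u0 u3 = 0 := by exact z_0_3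
                        have f14 : T.a u0 u4 = 0 := by exact z_0_4
                        have f15 : T.a u1 u1 = -4 * T.w u0 := by have := (h2 u1).2; linarith only [this, tw_0_1, tw_1_2, tw_2_3, tw_3_4]
                        have f16 : T.a u1 u2 = 2 * T.w u0 := by linarith only [tap_1_2, tw_0_1, tw_1_2, tw_2_3, tw_3_4]
                        have f17 : T.a u1 u3 = 0 := by exact z_1_3
                        have f18 : T.a u1 u4 = 0 := by exact z_1_4
                        have f19 : T.a u2 u2 = -4 * T.w u0 := by have := (h2 u2).2; linarith only [this, tw_0_1, tw_1_2, tw_2_3, tw_3_4]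
                        have f20 : T.a u2 u3 = 2 * T.w u0 := by linarith only [tap_2_3, tw_0_1, tw_1_2, tw_2_3, tw_3_4]
                        have f21 : T.a u2 u4 = 0 := by exact z_2_4
                        have f22 : T.a u3 u3 = -4 * T.w u0 := by have := (h2 u3).2; linarith only [this, tw_0_1, tw_1_2, tw_2_3, tw_3_4]
                        have f23 : T.a u3 u4 = 4 * T.w u0 := by linarith only [tap_3_4, tw_0_1, tw_1_2, tw_2_3, tw_3_4]
                        have f24 : T.a u4 u4 = -8 * T.w u0 := by have := (h2 u4).2; linarith only [this, tw_0_1, tw_1_2, tw_2_3, tw_3_4]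
                        have hsig := Groth.Agent.Helper6.NT.inj5 u0 u1 u2 u3 u4 hn_1_0 hn_2_0 hn_2_1 hn_3_0 hn_3_1 hn_3_2 hn_4_0 hn_4_1 hn_4_2 hn_4_3
                        exact ⟨Equiv.ofBijective _ (Finite.injective_iff_bijective.1 hsig), T.m u4, T.w u0, Or.inr (Or.inr (Or.inr (Or.inl ⟨f0, f1, f2, f3, f4, f5, f6, f7, f8, f9, f10, f11, f12, f13, f14, f15, f16, f17, f18, f19, f20, f21, f22, f23, f24⟩)))⟩
                      · -- (3,4) Dm
                        have hinj := Groth.Agent.Helper6.NT.inj5 u0 u1 u2 u3 u4 hn_1_0 hn_2_0 hn_2_1 hn_3_0 hn_3_1 hn_3_2 hn_4_0 hn_4_1 hn_4_2 hn_4_3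
                        have r_0 : -2 * T.m u0 + 2 * T.m u1 = 0 := by
                          have key := Groth.Agent.Helper6.NT.rowfun5 T u0 u1 u2 u3 u4 hinj u0
                          rw [(h2 u0).2, tap_0_1, z_0_2, z_0_3, z_0_4] at key
                          exact mul_left_cancel₀ (T.w_pos u0).ne' (by linarith only [key])
                        have r_1 : 1 * T.m u0 + -2 * T.m u1 + 1 * T.m u2 = 0 := by
                          have key := Groth.Agent.Helper6.NT.rowfun5 T u0 u1 u2 u3 u4 hinj u1
                          rw [Groth.Agent.Helper6.NT.symm' T u1 u0, taq_0_1, (h2 u1).2, tap_1_2, z_1_3, z_1_4] at key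
                          exact mul_left_cancel₀ (T.w_pos u1).ne' (by linarith only [key])
                        have r_2 : 1 * T.m u1 + -2 * T.m u2 + 1 * T.m u3 = 0 := by
                          have key := Groth.Agent.Helper6.NT.rowfun5 T u0 u1 u2 u3 u4 hinj u2
                          rw [Groth.Agent.Helper6.NT.symm' T u2 u0, z_0_2, Groth.Agent.Helper6.NT.symm' T u2 u1, taq_1_2, (h2 u2).2, tap_2_3, z_2_4] at key
                          exact mul_left_cancel₀ (T.w_pos u2).ne' (by linarith only [key])
                        have r_3 : 1 * T.m u2 + -2 * T.m u3 + 1 * T.m u4 = 0 := by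
                          have key := Groth.Agent.Helper6.NT.rowfun5 T u0 u1 u2 u3 u4 hinj u3
                          rw [Groth.Agent.Helper6.NT.symm' T u3 u0, z_0_3, Groth.Agent.Helper6.NT.symm' T u3 u1, z_1_3, Groth.Agent.Helper6.NT.symm' T u3 u2, taq_2_3, (h2 u3).2, tap_3_4] at key
                          exact mul_left_cancel₀ (T.w_pos u3).ne' (by linarith only [key])
                        have r_4 : 2 * T.m u3 + -2 * T.m u4 = 0 := by
                          have key := Groth.Agent.Helper6.NT.rowfun5 T u0 u1 u2 u3 u4 hinj u4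
                          rw [Groth.Agent.Helper6.NT.symm' T u4 u0, z_0_4, Groth.Agent.Helper6.NT.symm' T u4 u1, z_1_4, Groth.Agent.Helper6.NT.symm' T u4 u2, z_2_4, Groth.Agent.Helper6.NT.symm' T u4 u3, taq_3_4, (h2 u4).2] at key
                          exact mul_left_cancel₀ (T.w_pos u4).ne' (by linarith only [key])
                        have f0 : T.m u0 = T.m u0 := rfl
                        have f1 : T.m u1 = T.m u0 := by linarith only [r_0, r_1, r_2, r_3, r_4]
                        have f2 : T.m u2 = T.m u0 := by linarith only [r_0, r_1, r_2, r_3, r_4]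
                        have f3 : T.m u3 = T.m u0 := by linarith only [r_0, r_1, r_2, r_3, r_4]
                        have f4 : T.m u4 = T.m u0 := by linarith only [r_0, r_1, r_2, r_3, r_4]
                        have f5 : T.w u0 = T.w u0 := rfl
                        have f6 : T.w u1 = 2 * T.w u0 := by linarith only [tw_0_1, tw_1_2, tw_2_3, tw_3_4]
                        have f7 : T.w u2 = 2 * T.w u0 := by linarith only [tw_0_1, tw_1_2, tw_2_3, tw_3_4]
                        have f8 : T.w u3 = 2 * T.w u0 := by linarith only [tw_0_1, tw_1_2, tw_2_3, tw_3_4]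
                        have f9 : T.w u4 = T.w u0 := by linarith only [tw_0_1, tw_1_2, tw_2_3, tw_3_4]
                        have f10 : T.a u0 u0 = -2 * T.w u0 := by have := (h2 u0).2; linarith only [this, tw_0_1, tw_1_2, tw_2_3, tw_3_4]
                        have f11 : T.a u0 u1 = 2 * T.w u0 := by linarith only [tap_0_1, tw_0_1, tw_1_2, tw_2_3, tw_3_4]
                        have f12 : T.a u0 u2 = 0 := by exact z_0_2
                        have f13 : T.a u0 u3 = 0 := by exact z_0_3
                        have f14 : T.a u0 u4 = 0 := by exact z_0_4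
                        have f15 : T.a u1 u1 = -4 * T.w u0 := by have := (h2 u1).2; linarith only [this, tw_0_1, tw_1_2, tw_2_3, tw_3_4]
                        have f16 : T.a u1 u2 = 2 * T.w u0 := by linarith only [tap_1_2, tw_0_1, tw_1_2, tw_2_3, tw_3_4]
                        have f17 : T.a u1 u3 = 0 := by exact z_1_3
                        have f18 : T.a u1 u4 = 0 := by exact z_1_4
                        have f19 : T.a u2 u2 = -4 * T.w u0 := by have := (h2 u2).2; linarith only [this, tw_0_1, tw_1_2, tw_2_3, tw_3_4]
                        have f20 : T.a u2 u3 = 2 * T.w u0 := by linarith only [tap_2_3, tw_0_1, tw_1_2, tw_2_3, tw_3_4]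
                        have f21 : T.a u2 u4 = 0 := by exact z_2_4
                        have f22 : T.a u3 u3 = -4 * T.w u0 := by have := (h2 u3).2; linarith only [this, tw_0_1, tw_1_2, tw_2_3, tw_3_4]
                        have f23 : T.a u3 u4 = 2 * T.w u0 := by linarith only [tap_3_4, tw_0_1, tw_1_2, tw_2_3, tw_3_4]
                        have f24 : T.a u4 u4 = -2 * T.w u0 := by have := (h2 u4).2; linarith only [this, tw_0_1, tw_1_2, tw_2_3, tw_3_4]
                        have hsig := Groth.Agent.Helper6.NT.inj5 u0 u1 u2 u3 u4 hn_1_0 hn_2_0 hn_2_1 hn_3_0 hn_3_1 hn_3_2 hn_4_0 hn_4_1 hn_4_2 hn_4_3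
                        exact ⟨Equiv.ofBijective _ (Finite.injective_iff_bijective.1 hsig), T.m u0, T.w u0, Or.inr (Or.inr (Or.inr (Or.inr (Or.inl ⟨f0, f1, f2, f3, f4, f5, f6, f7, f8, f9, f10, f11, f12, f13, f14, f15, f16, f17, f18, f19, f20, f21, f22, f23, f24⟩))))⟩
                      · -- (3,4) Tp
                        exfalso
                        have key := Groth.Agent.Helper6.NT.negfun3 T h2 u2 u3 u4 (by norm_num) 1 2 1 (by norm_num) (by norm_num)
                        linarith only [key, tap_2_3, taq_2_3, z_2_4, tap_3_4, taq_3_4, T.w_pos u2, T.w_pos u3, T.w_pos u4]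
                      · -- (3,4) Tm
                        exfalso
                        have key := Groth.Agent.Helper6.NT.negfun3 T h2 u2 u3 u4 (by norm_num) 1 2 3 (by norm_num) (by norm_num)
                        linarith only [key, tap_2_3, taq_2_3, z_2_4, tap_3_4, taq_3_4, T.w_pos u2, T.w_pos u3, T.w_pos u4]
                    · push Not at hx
                      have cl_3 := hx
                      clear hx
                      exfalso
                      refine Groth.Agent.Helper6.NT.closed_contra T [u0, u1, u2, u3] (by simp) (by simp) ?_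
                      intro i hi j hj
                      simp only [List.mem_cons, List.not_mem_nil, or_false, not_or] at hi hj
                      rcases hi with rfl | rfl | rfl | rfl
                      · exact cl_0 j ⟨hj.1, hj.2.1⟩
                      · exact cl_1 j ⟨hj.1, hj.2.1, hj.2.2.1⟩
                      · exact cl_2 j ⟨hj.1, hj.2.1, hj.2.2.1, hj.2.2.2⟩
                      · exact cl_3 j ⟨hj.1, hj.2.1, hj.2.2.1, hj.2.2.2⟩
                · -- (2,3) Dp
                  exfalso
                  have key := Groth.Agent.Helper6.NT.negfun4 T h2 u0 u1 u2 u3 (by norm_num) 2 2 2 1 (by norm_num) (by norm_num)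
                  linarith only [key, tap_0_1, taq_0_1, z_0_2, z_0_3, tap_1_2, taq_1_2, z_1_3, tap_2_3, taq_2_3, T.w_pos u0, T.w_pos u1, T.w_pos u2, T.w_pos u3]
                · -- (2,3) Dm
                  exfalso
                  have key := Groth.Agent.Helper6.NT.negfun4 T h2 u0 u1 u2 u3 (by norm_num) 1 1 1 1 (by norm_num) (by norm_num)
                  linarith only [key, tap_0_1, taq_0_1, z_0_2, z_0_3, tap_1_2, taq_1_2, z_1_3, tap_2_3, taq_2_3, T.w_pos u0, T.w_pos u1, T.w_pos u2, T.w_pos u3]
                · -- (2,3) Tp
                  exfalso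
                  have key := Groth.Agent.Helper6.NT.negfun3 T h2 u1 u2 u3 (by norm_num) 1 2 1 (by norm_num) (by norm_num)
                  linarith only [key, tap_1_2, taq_1_2, z_1_3, tap_2_3, taq_2_3, T.w_pos u1, T.w_pos u2, T.w_pos u3]
                · -- (2,3) Tm
                  exfalso
                  have key := Groth.Agent.Helper6.NT.negfun3 T h2 u1 u2 u3 (by norm_num) 1 2 3 (by norm_num) (by norm_num)
                  linarith only [key, tap_1_2, taq_1_2, z_1_3, tap_2_3, taq_2_3, T.w_pos u1, T.w_pos u2, T.w_pos u3]
              · push Not at hx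
                have cl_2 := hx
                clear hx
                exfalso
                refine Groth.Agent.Helper6.NT.closed_contra T [u0, u1, u2] (by simp) (by simp) ?_
                intro i hi j hj
                simp only [List.mem_cons, List.not_mem_nil, or_false, not_or] at hi hj
                rcases hi with rfl | rfl | rfl
                · exact cl_0 j ⟨hj.1, hj.2.1⟩
                · exact cl_1 j ⟨hj.1, hj.2.1, hj.2.2⟩
                · exact cl_2 j ⟨hj.1, hj.2.1, hj.2.2⟩
          · -- (1,2) Dp
            exfalso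
            have key := Groth.Agent.Helper6.NT.negfun3 T h2 u0 u1 u2 (by norm_num) 2 2 1 (by norm_num) (by norm_num)
            linarith only [key, tap_0_1, taq_0_1, z_0_2, tap_1_2, taq_1_2, T.w_pos u0, T.w_pos u1, T.w_pos u2]
          · -- (1,2) Dm
            exfalso
            have key := Groth.Agent.Helper6.NT.negfun3 T h2 u0 u1 u2 (by norm_num) 1 1 1 (by norm_num) (by norm_num)
            linarith only [key, tap_0_1, taq_0_1, z_0_2, tap_1_2, taq_1_2, T.w_pos u0, T.w_pos u1, T.w_pos u2]
          · -- (1,2) Tp
            exfalso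
            have key := Groth.Agent.Helper6.NT.negfun3 T h2 u0 u1 u2 (by norm_num) 2 2 1 (by norm_num) (by norm_num)
            linarith only [key, tap_0_1, taq_0_1, z_0_2, tap_1_2, taq_1_2, T.w_pos u0, T.w_pos u1, T.w_pos u2]
          · -- (1,2) Tm
            exfalso
            have key := Groth.Agent.Helper6.NT.negfun3 T h2 u0 u1 u2 (by norm_num) 2 2 3 (by norm_num) (by norm_num)
            linarith only [key, tap_0_1, taq_0_1, z_0_2, tap_1_2, taq_1_2, T.w_pos u0, T.w_pos u1, T.w_pos u2]
        · push Not at hx
          have cl_1 := hx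
          clear hx
          exfalso
          refine Groth.Agent.Helper6.NT.closed_contra T [u0, u1] (by simp) (by simp) ?_
          intro i hi j hj
          simp only [List.mem_cons, List.not_mem_nil, or_false, not_or] at hi hj
          rcases hi with rfl | rfl
          · exact cl_0 j ⟨hj.1, hj.2⟩
          · exact cl_1 j ⟨hj.1, hj.2⟩
    · -- (0,1) Dm
      by_cases hx : ∃ j, (j ≠ u0 ∧ j ≠ u1) ∧ T.a u0 j ≠ 0
      · obtain ⟨u2, ⟨hn_2_0, hn_2_1⟩, e_0_2⟩ := hx
        rcases Groth.Agent.Helper6.NT.edge5 T h2 (by norm_num) u0 u2 hn_2_0.symm e_0_2 with ⟨tw_0_2, tap_0_2, taq_0_2⟩ | ⟨tw_0_2, tap_0_2, taq_0_2⟩ | ⟨tw_0_2, tap_0_2, taq_0_2⟩ | ⟨tw_0_2, tap_0_2, taq_0_2⟩ | ⟨tw_0_2, tap_0_2, taq_0_2⟩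
        · -- (0,2) S
          rcases eq_or_ne (T.a u1 u2) 0 with z_1_2 | nz_1_2
          · -- (1,2) zero
            by_cases hx : ∃ j, (j ≠ u0 ∧ j ≠ u1 ∧ j ≠ u2) ∧ T.a u0 j ≠ 0
            · obtain ⟨u3, ⟨hn_3_0, hn_3_1, hn_3_2⟩, e_0_3⟩ := hx
              rcases Groth.Agent.Helper6.NT.edge5 T h2 (by norm_num) u0 u3 hn_3_0.symm e_0_3 with ⟨tw_0_3, tap_0_3, taq_0_3⟩ | ⟨tw_0_3, tap_0_3, taq_0_3⟩ | ⟨tw_0_3, tap_0_3, taq_0_3⟩ | ⟨tw_0_3, tap_0_3, taq_0_3⟩ | ⟨tw_0_3, tap_0_3, taq_0_3⟩
              · -- (0,3) S
                exfalso
                have key := Groth.Agent.Helper6.NT.negfun4 T h2 u0 u1 u2 u3 (by norm_num) 2 2 1 1 (by norm_num) (by norm_num)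
                linarith only [key, tap_0_1, taq_0_1, tap_0_2, taq_0_2, tap_0_3, taq_0_3, z_1_2, T.offDiag_nonneg u1 u3 hn_3_1.symm, T.offDiag_nonneg u2 u3 hn_3_2.symm, T.w_pos u0, T.w_pos u1, T.w_pos u2, T.w_pos u3]
              · -- (0,3) Dp
                exfalso
                have key := Groth.Agent.Helper6.NT.negfun3 T h2 u0 u1 u3 (by norm_num) 2 2 1 (by norm_num) (by norm_num)
                linarith only [key, tap_0_1, taq_0_1, tap_0_3, taq_0_3, T.offDiag_nonneg u1 u3 hn_3_1.symm, T.w_pos u0, T.w_pos u1, T.w_pos u3]
              · -- (0,3) Dm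
                exfalso
                have key := Groth.Agent.Helper6.NT.negfun3 T h2 u0 u1 u3 (by norm_num) 1 1 1 (by norm_num) (by norm_num)
                linarith only [key, tap_0_1, taq_0_1, tap_0_3, taq_0_3, T.offDiag_nonneg u1 u3 hn_3_1.symm, T.w_pos u0, T.w_pos u1, T.w_pos u3]
              · -- (0,3) Tp
                exfalso
                have key := Groth.Agent.Helper6.NT.negfun3 T h2 u0 u2 u3 (by norm_num) 2 1 1 (by norm_num) (by norm_num)
                linarith only [key, tap_0_2, taq_0_2, tap_0_3, taq_0_3, T.offDiag_nonneg u2 u3 hn_3_2.symm, T.w_pos u0, T.w_pos u2, T.w_pos u3]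
              · -- (0,3) Tm
                exfalso
                have key := Groth.Agent.Helper6.NT.negfun3 T h2 u0 u2 u3 (by norm_num) 2 1 3 (by norm_num) (by norm_num)
                linarith only [key, tap_0_2, taq_0_2, tap_0_3, taq_0_3, T.offDiag_nonneg u2 u3 hn_3_2.symm, T.w_pos u0, T.w_pos u2, T.w_pos u3]
            · push Not at hx
              have cl_0 := hx
              clear hx
              by_cases hx : ∃ j, (j ≠ u0 ∧ j ≠ u1 ∧ j ≠ u2) ∧ T.a u1 j ≠ 0
              · obtain ⟨u3, ⟨hn_3_0, hn_3_1, hn_3_2⟩, e_1_3⟩ := hx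
                have z_0_3 : T.a u0 u3 = 0 := cl_0 u3 ⟨hn_3_0, hn_3_1, hn_3_2⟩
                rcases Groth.Agent.Helper6.NT.edge5 T h2 (by norm_num) u1 u3 hn_3_1.symm e_1_3 with ⟨tw_1_3, tap_1_3, taq_1_3⟩ | ⟨tw_1_3, tap_1_3, taq_1_3⟩ | ⟨tw_1_3, tap_1_3, taq_1_3⟩ | ⟨tw_1_3, tap_1_3, taq_1_3⟩ | ⟨tw_1_3, tap_1_3, taq_1_3⟩
                · -- (1,3) S
                  rcases eq_or_ne (T.a u2 u3) 0 with z_2_3 | nz_2_3
                  · -- (2,3) zero
                    by_cases hx : ∃ j, (j ≠ u0 ∧ j ≠ u1 ∧ j ≠ u2 ∧ j ≠ u3) ∧ T.a u1 j ≠ 0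
                    · obtain ⟨u4, ⟨hn_4_0, hn_4_1, hn_4_2, hn_4_3⟩, e_1_4⟩ := hx
                      have z_0_4 : T.a u0 u4 = 0 := cl_0 u4 ⟨hn_4_0, hn_4_1, hn_4_2⟩
                      rcases Groth.Agent.Helper6.NT.edge5 T h2 (by norm_num) u1 u4 hn_4_1.symm e_1_4 with ⟨tw_1_4, tap_1_4, taq_1_4⟩ | ⟨tw_1_4, tap_1_4, taq_1_4⟩ | ⟨tw_1_4, tap_1_4, taq_1_4⟩ | ⟨tw_1_4, tap_1_4, taq_1_4⟩ | ⟨tw_1_4, tap_1_4, taq_1_4⟩
                      · -- (1,4) S
                        exfalso
                        have key := Groth.Agent.Helper6.NT.negfun4 T h2 u0 u1 u3 u4 (by norm_num) 1 2 1 1 (by norm_num) (by norm_num)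
                        linarith only [key, tap_0_1, taq_0_1, z_0_3, z_0_4, tap_1_3, taq_1_3, tap_1_4, taq_1_4, T.offDiag_nonneg u3 u4 hn_4_3.symm, T.w_pos u0, T.w_pos u1, T.w_pos u3, T.w_pos u4]
                      · -- (1,4) Dp
                        exfalso
                        have key := Groth.Agent.Helper6.NT.negfun3 T h2 u0 u1 u4 (by norm_num) 1 2 1 (by norm_num) (by norm_num)
                        linarith only [key, tap_0_1, taq_0_1, z_0_4, tap_1_4, taq_1_4, T.w_pos u0, T.w_pos u1, T.w_pos u4]
                      · -- (1,4) Dm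
                        exfalso
                        have key := Groth.Agent.Helper6.NT.negfun3 T h2 u0 u1 u4 (by norm_num) 1 2 2 (by norm_num) (by norm_num)
                        linarith only [key, tap_0_1, taq_0_1, z_0_4, tap_1_4, taq_1_4, T.w_pos u0, T.w_pos u1, T.w_pos u4]
                      · -- (1,4) Tp
                        exfalso
                        have key := Groth.Agent.Helper6.NT.negfun3 T h2 u1 u3 u4 (by norm_num) 2 1 1 (by norm_num) (by norm_num)
                        linarith only [key, tap_1_3, taq_1_3, tap_1_4, taq_1_4, T.offDiag_nonneg u3 u4 hn_4_3.symm, T.w_pos u1, T.w_pos u3, T.w_pos u4]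
                      · -- (1,4) Tm
                        exfalso
                        have key := Groth.Agent.Helper6.NT.negfun3 T h2 u1 u3 u4 (by norm_num) 2 1 3 (by norm_num) (by norm_num)
                        linarith only [key, tap_1_3, taq_1_3, tap_1_4, taq_1_4, T.offDiag_nonneg u3 u4 hn_4_3.symm, T.w_pos u1, T.w_pos u3, T.w_pos u4]
                    · push Not at hx
                      have cl_1 := hx
                      clear hx
                      by_cases hx : ∃ j, (j ≠ u0 ∧ j ≠ u1 ∧ j ≠ u2 ∧ j ≠ u3) ∧ T.a u2 j ≠ 0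
                      · obtain ⟨u4, ⟨hn_4_0, hn_4_1, hn_4_2, hn_4_3⟩, e_2_4⟩ := hx
                        have z_0_4 : T.a u0 u4 = 0 := cl_0 u4 ⟨hn_4_0, hn_4_1, hn_4_2⟩
                        have z_1_4 : T.a u1 u4 = 0 := cl_1 u4 ⟨hn_4_0, hn_4_1, hn_4_2, hn_4_3⟩
                        rcases Groth.Agent.Helper6.NT.edge5 T h2 (by norm_num) u2 u4 hn_4_2.symm e_2_4 with ⟨tw_2_4, tap_2_4, taq_2_4⟩ | ⟨tw_2_4, tap_2_4, taq_2_4⟩ | ⟨tw_2_4, tap_2_4, taq_2_4⟩ | ⟨tw_2_4, tap_2_4, taq_2_4⟩ | ⟨tw_2_4, tap_2_4, taq_2_4⟩
                        · -- (2,4) S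
                          rcases eq_or_ne (T.a u3 u4) 0 with z_3_4 | nz_3_4
                          · -- (3,4) zero
                            have hinj := Groth.Agent.Helper6.NT.inj5 u0 u1 u2 u3 u4 hn_1_0 hn_2_0 hn_2_1 hn_3_0 hn_3_1 hn_3_2 hn_4_0 hn_4_1 hn_4_2 hn_4_3
                            have r_0 : -2 * T.m u0 + 1 * T.m u1 + 1 * T.m u2 = 0 := by
                              have key := Groth.Agent.Helper6.NT.rowfun5 T u0 u1 u2 u3 u4 hinj u0
                              rw [(h2 u0).2, tap_0_1, tap_0_2, z_0_3, z_0_4] at key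
                              exact mul_left_cancel₀ (T.w_pos u0).ne' (by linarith only [key])
                            have r_1 : 2 * T.m u0 + -2 * T.m u1 + 1 * T.m u3 = 0 := by
                              have key := Groth.Agent.Helper6.NT.rowfun5 T u0 u1 u2 u3 u4 hinj u1
                              rw [Groth.Agent.Helper6.NT.symm' T u1 u0, taq_0_1, (h2 u1).2, z_1_2, tap_1_3, z_1_4] at key
                              exact mul_left_cancel₀ (T.w_pos u1).ne' (by linarith only [key])
                            have r_2 : 1 * T.m u0 + -2 * T.m u2 + 1 * T.m u4 = 0 := by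
                              have key := Groth.Agent.Helper6.NT.rowfun5 T u0 u1 u2 u3 u4 hinj u2
                              rw [Groth.Agent.Helper6.NT.symm' T u2 u0, taq_0_2, Groth.Agent.Helper6.NT.symm' T u2 u1, z_1_2, (h2 u2).2, z_2_3, tap_2_4] at key
                              exact mul_left_cancel₀ (T.w_pos u2).ne' (by linarith only [key])
                            have r_3 : 1 * T.m u1 + -2 * T.m u3 = 0 := by
                              have key := Groth.Agent.Helper6.NT.rowfun5 T u0 u1 u2 u3 u4 hinj u3
                              rw [Groth.Agent.Helper6.NT.symm' T u3 u0, z_0_3, Groth.Agent.Helper6.NT.symm' T u3 u1, taq_1_3, Groth.Agent.Helper6.NT.symm' T u3 u2, z_2_3, (h2 u3).2, z_3_4] at key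
                              exact mul_left_cancel₀ (T.w_pos u3).ne' (by linarith only [key])
                            have r_4 : 1 * T.m u2 + -2 * T.m u4 = 0 := by
                              have key := Groth.Agent.Helper6.NT.rowfun5 T u0 u1 u2 u3 u4 hinj u4
                              rw [Groth.Agent.Helper6.NT.symm' T u4 u0, z_0_4, Groth.Agent.Helper6.NT.symm' T u4 u1, z_1_4, Groth.Agent.Helper6.NT.symm' T u4 u2, taq_2_4, Groth.Agent.Helper6.NT.symm' T u4 u3, z_3_4, (h2 u4).2] at key
                              exact mul_left_cancel₀ (T.w_pos u4).ne' (by linarith only [key])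
                            have f0 : T.m u4 = T.m u4 := rfl
                            have f1 : T.m u2 = 2 * T.m u4 := by linarith only [r_0, r_1, r_2, r_3, r_4]
                            have f2 : T.m u0 = 3 * T.m u4 := by linarith only [r_0, r_1, r_2, r_3, r_4]
                            have f3 : T.m u1 = 4 * T.m u4 := by linarith only [r_0, r_1, r_2, r_3, r_4]
                            have f4 : T.m u3 = 2 * T.m u4 := by linarith only [r_0, r_1, r_2, r_3, r_4]
                            have f5 : T.w u4 = 2 * T.w u1 := by linarith only [tw_0_1, tw_0_2, tw_1_3, tw_2_4]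
                            have f6 : T.w u2 = 2 * T.w u1 := by linarith only [tw_0_1, tw_0_2, tw_1_3, tw_2_4]
                            have f7 : T.w u0 = 2 * T.w u1 := by linarith only [tw_0_1, tw_0_2, tw_1_3, tw_2_4]
                            have f8 : T.w u1 = T.w u1 := rfl
                            have f9 : T.w u3 = T.w u1 := by linarith only [tw_0_1, tw_0_2, tw_1_3, tw_2_4]
                            have f10 : T.a u4 u4 = -4 * T.w u1 := by have := (h2 u4).2; linarith only [this, tw_0_1, tw_0_2, tw_1_3, tw_2_4]
                            have f11 : T.a u4 u2 = 2 * T.w u1 := by rw [Groth.Agent.Helper6.NT.symm' T u4 u2]; linarith only [tap_2_4, tw_0_1, tw_0_2, tw_1_3, tw_2_4]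
                            have f12 : T.a u4 u0 = 0 := by rw [Groth.Agent.Helper6.NT.symm' T u4 u0]; exact z_0_4
                            have f13 : T.a u4 u1 = 0 := by rw [Groth.Agent.Helper6.NT.symm' T u4 u1]; exact z_1_4
                            have f14 : T.a u4 u3 = 0 := by rw [Groth.Agent.Helper6.NT.symm' T u4 u3]; exact z_3_4
                            have f15 : T.a u2 u2 = -4 * T.w u1 := by have := (h2 u2).2; linarith only [this, tw_0_1, tw_0_2, tw_1_3, tw_2_4]
                            have f16 : T.a u2 u0 = 2 * T.w u1 := by rw [Groth.Agent.Helper6.NT.symm' T u2 u0]; linarith only [tap_0_2, tw_0_1, tw_0_2, tw_1_3, tw_2_4]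
                            have f17 : T.a u2 u1 = 0 := by rw [Groth.Agent.Helper6.NT.symm' T u2 u1]; exact z_1_2
                            have f18 : T.a u2 u3 = 0 := by exact z_2_3
                            have f19 : T.a u0 u0 = -4 * T.w u1 := by have := (h2 u0).2; linarith only [this, tw_0_1, tw_0_2, tw_1_3, tw_2_4]
                            have f20 : T.a u0 u1 = 2 * T.w u1 := by linarith only [tap_0_1, tw_0_1, tw_0_2, tw_1_3, tw_2_4]
                            have f21 : T.a u0 u3 = 0 := by exact z_0_3
                            have f22 : T.a u1 u1 = -2 * T.w u1 := by have := (h2 u1).2; linarith only [this, tw_0_1, tw_0_2, tw_1_3, tw_2_4]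
                            have f23 : T.a u1 u3 = T.w u1 := by linarith only [tap_1_3, tw_0_1, tw_0_2, tw_1_3, tw_2_4]
                            have f24 : T.a u3 u3 = -2 * T.w u1 := by have := (h2 u3).2; linarith only [this, tw_0_1, tw_0_2, tw_1_3, tw_2_4]
                            have hsig := Groth.Agent.Helper6.NT.inj5 u4 u2 u0 u1 u3 hn_4_2.symm hn_4_0.symm hn_2_0.symm hn_4_1.symm hn_2_1.symm hn_1_0 hn_4_3.symm hn_3_2 hn_3_0 hn_3_1
                            exact ⟨Equiv.ofBijective _ (Finite.injective_iff_bijective.1 hsig), T.m u4, T.w u1, Or.inr (Or.inr (Or.inl ⟨f0, f1, f2, f3, f4, f5, f6, f7, f8, f9, f10, f11, f12, f13, f14, f15, f16, f17, f18, f19, f20, f21, f22, f23, f24⟩))⟩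
                          · -- (3,4) nonzero
                            obtain ⟨lbp_3_4, lbq_3_4⟩ := Groth.Agent.Helper6.NT.lb T u3 u4 hn_4_3.symm nz_3_4
                            rcases Groth.Agent.Helper6.NT.edge5 T h2 (by norm_num) u3 u4 hn_4_3.symm nz_3_4 with ⟨tw_3_4, tap_3_4, taq_3_4⟩ | ⟨tw_3_4, tap_3_4, taq_3_4⟩ | ⟨tw_3_4, tap_3_4, taq_3_4⟩ | ⟨tw_3_4, tap_3_4, taq_3_4⟩ | ⟨tw_3_4, tap_3_4, taq_3_4⟩
                            · -- (3,4) S
                              exfalso
                              linarith only [tap_0_1, tap_0_2, tap_1_3, tap_3_4, tap_2_4, taq_0_1, taq_0_2, taq_1_3, taq_3_4, taq_2_4, T.w_pos u0, T.w_pos u1, T.w_pos u2, T.w_pos u3, T.w_pos u4]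
                            · -- (3,4) Dp
                              exfalso
                              have key := Groth.Agent.Helper6.NT.negfun4 T h2 u0 u1 u3 u4 (by norm_num) 1 2 2 1 (by norm_num) (by norm_num)
                              linarith only [key, tap_0_1, taq_0_1, z_0_3, z_0_4, tap_1_3, taq_1_3, z_1_4, tap_3_4, taq_3_4, T.w_pos u0, T.w_pos u1, T.w_pos u3, T.w_pos u4]
                            · -- (3,4) Dm
                              exfalso
                              have key := Groth.Agent.Helper6.NT.negfun4 T h2 u0 u1 u3 u4 (by norm_num) 1 2 2 2 (by norm_num) (by norm_num)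
                              linarith only [key, tap_0_1, taq_0_1, z_0_3, z_0_4, tap_1_3, taq_1_3, z_1_4, tap_3_4, taq_3_4, T.w_pos u0, T.w_pos u1, T.w_pos u3, T.w_pos u4]
                            · -- (3,4) Tp
                              exfalso
                              have key := Groth.Agent.Helper6.NT.negfun3 T h2 u2 u3 u4 (by norm_num) 1 3 2 (by norm_num) (by norm_num)
                              linarith only [key, z_2_3, tap_2_4, taq_2_4, tap_3_4, taq_3_4, T.w_pos u2, T.w_pos u3, T.w_pos u4]
                            · -- (3,4) Tm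
                              exfalso
                              have key := Groth.Agent.Helper6.NT.negfun3 T h2 u2 u3 u4 (by norm_num) 1 1 2 (by norm_num) (by norm_num)
                              linarith only [key, z_2_3, tap_2_4, taq_2_4, tap_3_4, taq_3_4, T.w_pos u2, T.w_pos u3, T.w_pos u4]
                        · -- (2,4) Dp
                          exfalso
                          have key := Groth.Agent.Helper6.NT.negfun4 T h2 u0 u1 u2 u4 (by norm_num) 2 2 2 1 (by norm_num) (by norm_num)
                          linarith only [key, tap_0_1, taq_0_1, tap_0_2, taq_0_2, z_0_4, z_1_2, z_1_4, tap_2_4, taq_2_4, T.w_pos u0, T.w_pos u1, T.w_pos u2, T.w_pos u4]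
                        · -- (2,4) Dm
                          exfalso
                          have key := Groth.Agent.Helper6.NT.negfun4 T h2 u0 u1 u2 u4 (by norm_num) 1 1 1 1 (by norm_num) (by norm_num)
                          linarith only [key, tap_0_1, taq_0_1, tap_0_2, taq_0_2, z_0_4, z_1_2, z_1_4, tap_2_4, taq_2_4, T.w_pos u0, T.w_pos u1, T.w_pos u2, T.w_pos u4]
                        · -- (2,4) Tp
                          exfalso
                          have key := Groth.Agent.Helper6.NT.negfun3 T h2 u0 u2 u4 (by norm_num) 1 2 1 (by norm_num) (by norm_num)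
                          linarith only [key, tap_0_2, taq_0_2, z_0_4, tap_2_4, taq_2_4, T.w_pos u0, T.w_pos u2, T.w_pos u4]
                        · -- (2,4) Tm
                          exfalso
                          have key := Groth.Agent.Helper6.NT.negfun3 T h2 u0 u2 u4 (by norm_num) 1 2 3 (by norm_num) (by norm_num)
                          linarith only [key, tap_0_2, taq_0_2, z_0_4, tap_2_4, taq_2_4, T.w_pos u0, T.w_pos u2, T.w_pos u4]
                      · push Not at hx
                        have cl_2 := hx
                        clear hx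
                        by_cases hx : ∃ j, (j ≠ u0 ∧ j ≠ u1 ∧ j ≠ u2 ∧ j ≠ u3) ∧ T.a u3 j ≠ 0
                        · obtain ⟨u4, ⟨hn_4_0, hn_4_1, hn_4_2, hn_4_3⟩, e_3_4⟩ := hx
                          have z_0_4 : T.a u0 u4 = 0 := cl_0 u4 ⟨hn_4_0, hn_4_1, hn_4_2⟩
                          have z_1_4 : T.a u1 u4 = 0 := cl_1 u4 ⟨hn_4_0, hn_4_1, hn_4_2, hn_4_3⟩
                          have z_2_4 : T.a u2 u4 = 0 := cl_2 u4 ⟨hn_4_0, hn_4_1, hn_4_2, hn_4_3⟩
                          rcases Groth.Agent.Helper6.NT.edge5 T h2 (by norm_num) u3 u4 hn_4_3.symm e_3_4 with ⟨tw_3_4, tap_3_4, taq_3_4⟩ | ⟨tw_3_4, tap_3_4, taq_3_4⟩ | ⟨tw_3_4, tap_3_4, taq_3_4⟩ | ⟨tw_3_4, tap_3_4, taq_3_4⟩ | ⟨tw_3_4, tap_3_4, taq_3_4⟩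
                          · -- (3,4) S
                            have hinj := Groth.Agent.Helper6.NT.inj5 u0 u1 u2 u3 u4 hn_1_0 hn_2_0 hn_2_1 hn_3_0 hn_3_1 hn_3_2 hn_4_0 hn_4_1 hn_4_2 hn_4_3
                            have r_0 : -2 * T.m u0 + 1 * T.m u1 + 1 * T.m u2 = 0 := by
                              have key := Groth.Agent.Helper6.NT.rowfun5 T u0 u1 u2 u3 u4 hinj u0
                              rw [(h2 u0).2, tap_0_1, tap_0_2, z_0_3, z_0_4] at key
                              exact mul_left_cancel₀ (T.w_pos u0).ne' (by linarith only [key])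
                            have r_1 : 2 * T.m u0 + -2 * T.m u1 + 1 * T.m u3 = 0 := by
                              have key := Groth.Agent.Helper6.NT.rowfun5 T u0 u1 u2 u3 u4 hinj u1
                              rw [Groth.Agent.Helper6.NT.symm' T u1 u0, taq_0_1, (h2 u1).2, z_1_2, tap_1_3, z_1_4] at key
                              exact mul_left_cancel₀ (T.w_pos u1).ne' (by linarith only [key])
                            have r_2 : 1 * T.m u0 + -2 * T.m u2 = 0 := by
                              have key := Groth.Agent.Helper6.NT.rowfun5 T u0 u1 u2 u3 u4 hinj u2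
                              rw [Groth.Agent.Helper6.NT.symm' T u2 u0, taq_0_2, Groth.Agent.Helper6.NT.symm' T u2 u1, z_1_2, (h2 u2).2, z_2_3, z_2_4] at key
                              exact mul_left_cancel₀ (T.w_pos u2).ne' (by linarith only [key])
                            have r_3 : 1 * T.m u1 + -2 * T.m u3 + 1 * T.m u4 = 0 := by
                              have key := Groth.Agent.Helper6.NT.rowfun5 T u0 u1 u2 u3 u4 hinj u3
                              rw [Groth.Agent.Helper6.NT.symm' T u3 u0, z_0_3, Groth.Agent.Helper6.NT.symm' T u3 u1, taq_1_3, Groth.Agent.Helper6.NT.symm' T u3 u2, z_2_3, (h2 u3).2, tap_3_4] at key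
                              exact mul_left_cancel₀ (T.w_pos u3).ne' (by linarith only [key])
                            have r_4 : 1 * T.m u3 + -2 * T.m u4 = 0 := by
                              have key := Groth.Agent.Helper6.NT.rowfun5 T u0 u1 u2 u3 u4 hinj u4
                              rw [Groth.Agent.Helper6.NT.symm' T u4 u0, z_0_4, Groth.Agent.Helper6.NT.symm' T u4 u1, z_1_4, Groth.Agent.Helper6.NT.symm' T u4 u2, z_2_4, Groth.Agent.Helper6.NT.symm' T u4 u3, taq_3_4, (h2 u4).2] at key
                              exact mul_left_cancel₀ (T.w_pos u4).ne' (by linarith only [key])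
                            have f0 : T.m u4 = T.m u4 := rfl
                            have f1 : T.m u3 = 2 * T.m u4 := by linarith only [r_0, r_1, r_2, r_3, r_4]
                            have f2 : T.m u1 = 3 * T.m u4 := by linarith only [r_0, r_1, r_2, r_3, r_4]
                            have f3 : T.m u0 = 2 * T.m u4 := by linarith only [r_0, r_1, r_2, r_3, r_4]
                            have f4 : T.m u2 = T.m u4 := by linarith only [r_0, r_1, r_2, r_3, r_4]
                            have f5 : T.w u4 = T.w u4 := rfl
                            have f6 : T.w u3 = T.w u4 := by linarith only [tw_0_1, tw_0_2, tw_1_3, tw_3_4]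
                            have f7 : T.w u1 = T.w u4 := by linarith only [tw_0_1, tw_0_2, tw_1_3, tw_3_4]
                            have f8 : T.w u0 = 2 * T.w u4 := by linarith only [tw_0_1, tw_0_2, tw_1_3, tw_3_4]
                            have f9 : T.w u2 = 2 * T.w u4 := by linarith only [tw_0_1, tw_0_2, tw_1_3, tw_3_4]
                            have f10 : T.a u4 u4 = -2 * T.w u4 := by have := (h2 u4).2; linarith only [this, tw_0_1, tw_0_2, tw_1_3, tw_3_4]
                            have f11 : T.a u4 u3 = T.w u4 := by rw [Groth.Agent.Helper6.NT.symm' T u4 u3]; linarith only [tap_3_4, tw_0_1, tw_0_2, tw_1_3, tw_3_4]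
                            have f12 : T.a u4 u1 = 0 := by rw [Groth.Agent.Helper6.NT.symm' T u4 u1]; exact z_1_4
                            have f13 : T.a u4 u0 = 0 := by rw [Groth.Agent.Helper6.NT.symm' T u4 u0]; exact z_0_4
                            have f14 : T.a u4 u2 = 0 := by rw [Groth.Agent.Helper6.NT.symm' T u4 u2]; exact z_2_4
                            have f15 : T.a u3 u3 = -2 * T.w u4 := by have := (h2 u3).2; linarith only [this, tw_0_1, tw_0_2, tw_1_3, tw_3_4]
                            have f16 : T.a u3 u1 = T.w u4 := by rw [Groth.Agent.Helper6.NT.symm' T u3 u1]; linarith only [tap_1_3, tw_0_1, tw_0_2, tw_1_3, tw_3_4]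
                            have f17 : T.a u3 u0 = 0 := by rw [Groth.Agent.Helper6.NT.symm' T u3 u0]; exact z_0_3
                            have f18 : T.a u3 u2 = 0 := by rw [Groth.Agent.Helper6.NT.symm' T u3 u2]; exact z_2_3
                            have f19 : T.a u1 u1 = -2 * T.w u4 := by have := (h2 u1).2; linarith only [this, tw_0_1, tw_0_2, tw_1_3, tw_3_4]
                            have f20 : T.a u1 u0 = 2 * T.w u4 := by rw [Groth.Agent.Helper6.NT.symm' T u1 u0]; linarith only [tap_0_1, tw_0_1, tw_0_2, tw_1_3, tw_3_4]
                            have f21 : T.a u1 u2 = 0 := by exact z_1_2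
                            have f22 : T.a u0 u0 = -4 * T.w u4 := by have := (h2 u0).2; linarith only [this, tw_0_1, tw_0_2, tw_1_3, tw_3_4]
                            have f23 : T.a u0 u2 = 2 * T.w u4 := by linarith only [tap_0_2, tw_0_1, tw_0_2, tw_1_3, tw_3_4]
                            have f24 : T.a u2 u2 = -4 * T.w u4 := by have := (h2 u2).2; linarith only [this, tw_0_1, tw_0_2, tw_1_3, tw_3_4]
                            have hsig := Groth.Agent.Helper6.NT.inj5 u4 u3 u1 u0 u2 hn_4_3.symm hn_4_1.symm hn_3_1.symm hn_4_0.symm hn_3_0.symm hn_1_0.symm hn_4_2.symm hn_3_2.symm hn_2_1 hn_2_0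
                            exact ⟨Equiv.ofBijective _ (Finite.injective_iff_bijective.1 hsig), T.m u4, T.w u4, Or.inr (Or.inl ⟨f0, f1, f2, f3, f4, f5, f6, f7, f8, f9, f10, f11, f12, f13, f14, f15, f16, f17, f18, f19, f20, f21, f22, f23, f24⟩)⟩
                          · -- (3,4) Dp
                            exfalso
                            have key := Groth.Agent.Helper6.NT.negfun4 T h2 u0 u1 u3 u4 (by norm_num) 1 2 2 1 (by norm_num) (by norm_num)
                            linarith only [key, tap_0_1, taq_0_1, z_0_3, z_0_4, tap_1_3, taq_1_3, z_1_4, tap_3_4, taq_3_4, T.w_pos u0, T.w_pos u1, T.w_pos u3, T.w_pos u4]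
                          · -- (3,4) Dm
                            exfalso
                            have key := Groth.Agent.Helper6.NT.negfun4 T h2 u0 u1 u3 u4 (by norm_num) 1 2 2 2 (by norm_num) (by norm_num)
                            linarith only [key, tap_0_1, taq_0_1, z_0_3, z_0_4, tap_1_3, taq_1_3, z_1_4, tap_3_4, taq_3_4, T.w_pos u0, T.w_pos u1, T.w_pos u3, T.w_pos u4]
                          · -- (3,4) Tp
                            exfalso
                            have key := Groth.Agent.Helper6.NT.negfun3 T h2 u1 u3 u4 (by norm_num) 1 2 1 (by norm_num) (by norm_num)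
                            linarith only [key, tap_1_3, taq_1_3, z_1_4, tap_3_4, taq_3_4, T.w_pos u1, T.w_pos u3, T.w_pos u4]
                          · -- (3,4) Tm
                            exfalso
                            have key := Groth.Agent.Helper6.NT.negfun3 T h2 u1 u3 u4 (by norm_num) 1 2 3 (by norm_num) (by norm_num)
                            linarith only [key, tap_1_3, taq_1_3, z_1_4, tap_3_4, taq_3_4, T.w_pos u1, T.w_pos u3, T.w_pos u4]
                        · push Not at hx
                          have cl_3 := hx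
                          clear hx
                          exfalso
                          refine Groth.Agent.Helper6.NT.closed_contra T [u0, u1, u2, u3] (by simp) (by simp) ?_
                          intro i hi j hj
                          simp only [List.mem_cons, List.not_mem_nil, or_false, not_or] at hi hj
                          rcases hi with rfl | rfl | rfl | rfl
                          · exact cl_0 j ⟨hj.1, hj.2.1, hj.2.2.1⟩
                          · exact cl_1 j ⟨hj.1, hj.2.1, hj.2.2.1, hj.2.2.2⟩
                          · exact cl_2 j ⟨hj.1, hj.2.1, hj.2.2.1, hj.2.2.2⟩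
                          · exact cl_3 j ⟨hj.1, hj.2.1, hj.2.2.1, hj.2.2.2⟩
                  · -- (2,3) nonzero
                    obtain ⟨lbp_2_3, lbq_2_3⟩ := Groth.Agent.Helper6.NT.lb T u2 u3 hn_3_2.symm nz_2_3
                    exfalso
                    have key := Groth.Agent.Helper6.NT.negfun4 T h2 u0 u1 u2 u3 (by norm_num) 2 3 2 2 (by norm_num) (by norm_num)
                    linarith only [key, tap_0_1, taq_0_1, tap_0_2, taq_0_2, z_0_3, z_1_2, tap_1_3, taq_1_3, lbp_2_3, lbq_2_3, T.w_pos u0, T.w_pos u1, T.w_pos u2, T.w_pos u3]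
                · -- (1,3) Dp
                  exfalso
                  have key := Groth.Agent.Helper6.NT.negfun3 T h2 u0 u1 u3 (by norm_num) 1 2 1 (by norm_num) (by norm_num)
                  linarith only [key, tap_0_1, taq_0_1, z_0_3, tap_1_3, taq_1_3, T.w_pos u0, T.w_pos u1, T.w_pos u3]
                · -- (1,3) Dm
                  exfalso
                  have key := Groth.Agent.Helper6.NT.negfun3 T h2 u0 u1 u3 (by norm_num) 1 2 2 (by norm_num) (by norm_num)
                  linarith only [key, tap_0_1, taq_0_1, z_0_3, tap_1_3, taq_1_3, T.w_pos u0, T.w_pos u1, T.w_pos u3]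
                · -- (1,3) Tp
                  exfalso
                  have key := Groth.Agent.Helper6.NT.negfun3 T h2 u0 u1 u3 (by norm_num) 1 2 1 (by norm_num) (by norm_num)
                  linarith only [key, tap_0_1, taq_0_1, z_0_3, tap_1_3, taq_1_3, T.w_pos u0, T.w_pos u1, T.w_pos u3]
                · -- (1,3) Tm
                  exfalso
                  have key := Groth.Agent.Helper6.NT.negfun3 T h2 u0 u1 u3 (by norm_num) 1 2 3 (by norm_num) (by norm_num)
                  linarith only [key, tap_0_1, taq_0_1, z_0_3, tap_1_3, taq_1_3, T.w_pos u0, T.w_pos u1, T.w_pos u3]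
              · push Not at hx
                have cl_1 := hx
                clear hx
                by_cases hx : ∃ j, (j ≠ u0 ∧ j ≠ u1 ∧ j ≠ u2) ∧ T.a u2 j ≠ 0
                · obtain ⟨u3, ⟨hn_3_0, hn_3_1, hn_3_2⟩, e_2_3⟩ := hx
                  have z_0_3 : T.a u0 u3 = 0 := cl_0 u3 ⟨hn_3_0, hn_3_1, hn_3_2⟩
                  have z_1_3 : T.a u1 u3 = 0 := cl_1 u3 ⟨hn_3_0, hn_3_1, hn_3_2⟩
                  rcases Groth.Agent.Helper6.NT.edge5 T h2 (by norm_num) u2 u3 hn_3_2.symm e_2_3 with ⟨tw_2_3, tap_2_3, taq_2_3⟩ | ⟨tw_2_3, tap_2_3, taq_2_3⟩ | ⟨tw_2_3, tap_2_3, taq_2_3⟩ | ⟨tw_2_3, tap_2_3, taq_2_3⟩ | ⟨tw_2_3, tap_2_3, taq_2_3⟩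
                  · -- (2,3) S
                    by_cases hx : ∃ j, (j ≠ u0 ∧ j ≠ u1 ∧ j ≠ u2 ∧ j ≠ u3) ∧ T.a u2 j ≠ 0
                    · obtain ⟨u4, ⟨hn_4_0, hn_4_1, hn_4_2, hn_4_3⟩, e_2_4⟩ := hx
                      have z_0_4 : T.a u0 u4 = 0 := cl_0 u4 ⟨hn_4_0, hn_4_1, hn_4_2⟩
                      have z_1_4 : T.a u1 u4 = 0 := cl_1 u4 ⟨hn_4_0, hn_4_1, hn_4_2⟩
                      rcases Groth.Agent.Helper6.NT.edge5 T h2 (by norm_num) u2 u4 hn_4_2.symm e_2_4 with ⟨tw_2_4, tap_2_4, taq_2_4⟩ | ⟨tw_2_4, tap_2_4, taq_2_4⟩ | ⟨tw_2_4, tap_2_4, taq_2_4⟩ | ⟨tw_2_4, tap_2_4, taq_2_4⟩ | ⟨tw_2_4, tap_2_4, taq_2_4⟩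
                      · -- (2,4) S
                        rcases eq_or_ne (T.a u3 u4) 0 with z_3_4 | nz_3_4
                        · -- (3,4) zero
                          have hinj := Groth.Agent.Helper6.NT.inj5 u0 u1 u2 u3 u4 hn_1_0 hn_2_0 hn_2_1 hn_3_0 hn_3_1 hn_3_2 hn_4_0 hn_4_1 hn_4_2 hn_4_3
                          have r_0 : -2 * T.m u0 + 1 * T.m u1 + 1 * T.m u2 = 0 := by
                            have key := Groth.Agent.Helper6.NT.rowfun5 T u0 u1 u2 u3 u4 hinj u0
                            rw [(h2 u0).2, tap_0_1, tap_0_2, z_0_3, z_0_4] at key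
                            exact mul_left_cancel₀ (T.w_pos u0).ne' (by linarith only [key])
                          have r_1 : 2 * T.m u0 + -2 * T.m u1 = 0 := by
                            have key := Groth.Agent.Helper6.NT.rowfun5 T u0 u1 u2 u3 u4 hinj u1
                            rw [Groth.Agent.Helper6.NT.symm' T u1 u0, taq_0_1, (h2 u1).2, z_1_2, z_1_3, z_1_4] at key
                            exact mul_left_cancel₀ (T.w_pos u1).ne' (by linarith only [key])
                          have r_2 : 1 * T.m u0 + -2 * T.m u2 + 1 * T.m u3 + 1 * T.m u4 = 0 := by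
                            have key := Groth.Agent.Helper6.NT.rowfun5 T u0 u1 u2 u3 u4 hinj u2
                            rw [Groth.Agent.Helper6.NT.symm' T u2 u0, taq_0_2, Groth.Agent.Helper6.NT.symm' T u2 u1, z_1_2, (h2 u2).2, tap_2_3, tap_2_4] at key
                            exact mul_left_cancel₀ (T.w_pos u2).ne' (by linarith only [key])
                          have r_3 : 1 * T.m u2 + -2 * T.m u3 = 0 := by
                            have key := Groth.Agent.Helper6.NT.rowfun5 T u0 u1 u2 u3 u4 hinj u3
                            rw [Groth.Agent.Helper6.NT.symm' T u3 u0, z_0_3, Groth.Agent.Helper6.NT.symm' T u3 u1, z_1_3, Groth.Agent.Helper6.NT.symm' T u3 u2, taq_2_3, (h2 u3).2, z_3_4] at key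
                            exact mul_left_cancel₀ (T.w_pos u3).ne' (by linarith only [key])
                          have r_4 : 1 * T.m u2 + -2 * T.m u4 = 0 := by
                            have key := Groth.Agent.Helper6.NT.rowfun5 T u0 u1 u2 u3 u4 hinj u4
                            rw [Groth.Agent.Helper6.NT.symm' T u4 u0, z_0_4, Groth.Agent.Helper6.NT.symm' T u4 u1, z_1_4, Groth.Agent.Helper6.NT.symm' T u4 u2, taq_2_4, Groth.Agent.Helper6.NT.symm' T u4 u3, z_3_4, (h2 u4).2] at key
                            exact mul_left_cancel₀ (T.w_pos u4).ne' (by linarith only [key])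
                          have f0 : T.m u1 = 2 * T.m u3 := by linarith only [r_0, r_1, r_2, r_3, r_4]
                          have f1 : T.m u0 = 2 * T.m u3 := by linarith only [r_0, r_1, r_2, r_3, r_4]
                          have f2 : T.m u2 = 2 * T.m u3 := by linarith only [r_0, r_1, r_2, r_3, r_4]
                          have f3 : T.m u3 = T.m u3 := rfl
                          have f4 : T.m u4 = T.m u3 := by linarith only [r_0, r_1, r_2, r_3, r_4]
                          have f5 : T.w u1 = T.w u1 := rfl
                          have f6 : T.w u0 = 2 * T.w u1 := by linarith only [tw_0_1, tw_0_2, tw_2_3, tw_2_4]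
                          have f7 : T.w u2 = 2 * T.w u1 := by linarith only [tw_0_1, tw_0_2, tw_2_3, tw_2_4]
                          have f8 : T.w u3 = 2 * T.w u1 := by linarith only [tw_0_1, tw_0_2, tw_2_3, tw_2_4]
                          have f9 : T.w u4 = 2 * T.w u1 := by linarith only [tw_0_1, tw_0_2, tw_2_3, tw_2_4]
                          have f10 : T.a u1 u1 = -2 * T.w u1 := by have := (h2 u1).2; linarith only [this, tw_0_1, tw_0_2, tw_2_3, tw_2_4]
                          have f11 : T.a u1 u0 = 2 * T.w u1 := by rw [Groth.Agent.Helper6.NT.symm' T u1 u0]; linarith only [tap_0_1, tw_0_1, tw_0_2, tw_2_3, tw_2_4]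
                          have f12 : T.a u1 u2 = 0 := by exact z_1_2
                          have f13 : T.a u1 u3 = 0 := by exact z_1_3
                          have f14 : T.a u1 u4 = 0 := by exact z_1_4
                          have f15 : T.a u0 u0 = -4 * T.w u1 := by have := (h2 u0).2; linarith only [this, tw_0_1, tw_0_2, tw_2_3, tw_2_4]
                          have f16 : T.a u0 u2 = 2 * T.w u1 := by linarith only [tap_0_2, tw_0_1, tw_0_2, tw_2_3, tw_2_4]
                          have f17 : T.a u0 u3 = 0 := by exact z_0_3
                          have f18 : T.a u0 u4 = 0 := by exact z_0_4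
                          have f19 : T.a u2 u2 = -4 * T.w u1 := by have := (h2 u2).2; linarith only [this, tw_0_1, tw_0_2, tw_2_3, tw_2_4]
                          have f20 : T.a u2 u3 = 2 * T.w u1 := by linarith only [tap_2_3, tw_0_1, tw_0_2, tw_2_3, tw_2_4]
                          have f21 : T.a u2 u4 = 2 * T.w u1 := by linarith only [tap_2_4, tw_0_1, tw_0_2, tw_2_3, tw_2_4]
                          have f22 : T.a u3 u3 = -4 * T.w u1 := by have := (h2 u3).2; linarith only [this, tw_0_1, tw_0_2, tw_2_3, tw_2_4]
                          have f23 : T.a u3 u4 = 0 := by exact z_3_4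
                          have f24 : T.a u4 u4 = -4 * T.w u1 := by have := (h2 u4).2; linarith only [this, tw_0_1, tw_0_2, tw_2_3, tw_2_4]
                          have hsig := Groth.Agent.Helper6.NT.inj5 u1 u0 u2 u3 u4 hn_1_0.symm hn_2_1 hn_2_0 hn_3_1 hn_3_0 hn_3_2 hn_4_1 hn_4_0 hn_4_2 hn_4_3
                          exact ⟨Equiv.ofBijective _ (Finite.injective_iff_bijective.1 hsig), T.m u3, T.w u1, Or.inr (Or.inr (Or.inr (Or.inr (Or.inr (Or.inr (Or.inr (Or.inr (⟨f0, f1, f2, f3, f4, f5, f6, f7, f8, f9, f10, f11, f12, f13, f14, f15, f16, f17, f18, f19, f20, f21, f22, f23, f24⟩))))))))⟩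
                        · -- (3,4) nonzero
                          obtain ⟨lbp_3_4, lbq_3_4⟩ := Groth.Agent.Helper6.NT.lb T u3 u4 hn_4_3.symm nz_3_4
                          exfalso
                          have key := Groth.Agent.Helper6.NT.negfun3 T h2 u2 u3 u4 (by norm_num) 1 1 1 (by norm_num) (by norm_num)
                          linarith only [key, tap_2_3, taq_2_3, tap_2_4, taq_2_4, lbp_3_4, lbq_3_4, T.w_pos u2, T.w_pos u3, T.w_pos u4]
                      · -- (2,4) Dp
                        exfalso
                        have key := Groth.Agent.Helper6.NT.negfun4 T h2 u0 u2 u3 u4 (by norm_num) 1 2 1 1 (by norm_num) (by norm_num)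
                        linarith only [key, tap_0_2, taq_0_2, z_0_3, z_0_4, tap_2_3, taq_2_3, tap_2_4, taq_2_4, T.offDiag_nonneg u3 u4 hn_4_3.symm, T.w_pos u0, T.w_pos u2, T.w_pos u3, T.w_pos u4]
                      · -- (2,4) Dm
                        exfalso
                        have key := Groth.Agent.Helper6.NT.negfun4 T h2 u0 u2 u3 u4 (by norm_num) 1 2 1 2 (by norm_num) (by norm_num)
                        linarith only [key, tap_0_2, taq_0_2, z_0_3, z_0_4, tap_2_3, taq_2_3, tap_2_4, taq_2_4, T.offDiag_nonneg u3 u4 hn_4_3.symm, T.w_pos u0, T.w_pos u2, T.w_pos u3, T.w_pos u4]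
                      · -- (2,4) Tp
                        exfalso
                        have key := Groth.Agent.Helper6.NT.negfun3 T h2 u2 u3 u4 (by norm_num) 2 1 1 (by norm_num) (by norm_num)
                        linarith only [key, tap_2_3, taq_2_3, tap_2_4, taq_2_4, T.offDiag_nonneg u3 u4 hn_4_3.symm, T.w_pos u2, T.w_pos u3, T.w_pos u4]
                      · -- (2,4) Tm
                        exfalso
                        have key := Groth.Agent.Helper6.NT.negfun3 T h2 u2 u3 u4 (by norm_num) 2 1 3 (by norm_num) (by norm_num)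
                        linarith only [key, tap_2_3, taq_2_3, tap_2_4, taq_2_4, T.offDiag_nonneg u3 u4 hn_4_3.symm, T.w_pos u2, T.w_pos u3, T.w_pos u4]
                    · push Not at hx
                      have cl_2 := hx
                      clear hx
                      by_cases hx : ∃ j, (j ≠ u0 ∧ j ≠ u1 ∧ j ≠ u2 ∧ j ≠ u3) ∧ T.a u3 j ≠ 0
                      · obtain ⟨u4, ⟨hn_4_0, hn_4_1, hn_4_2, hn_4_3⟩, e_3_4⟩ := hx
                        have z_0_4 : T.a u0 u4 = 0 := cl_0 u4 ⟨hn_4_0, hn_4_1, hn_4_2⟩
                        have z_1_4 : T.a u1 u4 = 0 := cl_1 u4 ⟨hn_4_0, hn_4_1, hn_4_2⟩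
                        have z_2_4 : T.a u2 u4 = 0 := cl_2 u4 ⟨hn_4_0, hn_4_1, hn_4_2, hn_4_3⟩
                        rcases Groth.Agent.Helper6.NT.edge5 T h2 (by norm_num) u3 u4 hn_4_3.symm e_3_4 with ⟨tw_3_4, tap_3_4, taq_3_4⟩ | ⟨tw_3_4, tap_3_4, taq_3_4⟩ | ⟨tw_3_4, tap_3_4, taq_3_4⟩ | ⟨tw_3_4, tap_3_4, taq_3_4⟩ | ⟨tw_3_4, tap_3_4, taq_3_4⟩
                        · -- (3,4) S
                          have hinj := Groth.Agent.Helper6.NT.inj5 u0 u1 u2 u3 u4 hn_1_0 hn_2_0 hn_2_1 hn_3_0 hn_3_1 hn_3_2 hn_4_0 hn_4_1 hn_4_2 hn_4_3
                          have r_0 : -2 * T.m u0 + 1 * T.m u1 + 1 * T.m u2 = 0 := by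
                            have key := Groth.Agent.Helper6.NT.rowfun5 T u0 u1 u2 u3 u4 hinj u0
                            rw [(h2 u0).2, tap_0_1, tap_0_2, z_0_3, z_0_4] at key
                            exact mul_left_cancel₀ (T.w_pos u0).ne' (by linarith only [key])
                          have r_1 : 2 * T.m u0 + -2 * T.m u1 = 0 := by
                            have key := Groth.Agent.Helper6.NT.rowfun5 T u0 u1 u2 u3 u4 hinj u1
                            rw [Groth.Agent.Helper6.NT.symm' T u1 u0, taq_0_1, (h2 u1).2, z_1_2, z_1_3, z_1_4] at key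
                            exact mul_left_cancel₀ (T.w_pos u1).ne' (by linarith only [key])
                          have r_2 : 1 * T.m u0 + -2 * T.m u2 + 1 * T.m u3 = 0 := by
                            have key := Groth.Agent.Helper6.NT.rowfun5 T u0 u1 u2 u3 u4 hinj u2
                            rw [Groth.Agent.Helper6.NT.symm' T u2 u0, taq_0_2, Groth.Agent.Helper6.NT.symm' T u2 u1, z_1_2, (h2 u2).2, tap_2_3, z_2_4] at key
                            exact mul_left_cancel₀ (T.w_pos u2).ne' (by linarith only [key])
                          have r_3 : 1 * T.m u2 + -2 * T.m u3 + 1 * T.m u4 = 0 := by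
                            have key := Groth.Agent.Helper6.NT.rowfun5 T u0 u1 u2 u3 u4 hinj u3
                            rw [Groth.Agent.Helper6.NT.symm' T u3 u0, z_0_3, Groth.Agent.Helper6.NT.symm' T u3 u1, z_1_3, Groth.Agent.Helper6.NT.symm' T u3 u2, taq_2_3, (h2 u3).2, tap_3_4] at key
                            exact mul_left_cancel₀ (T.w_pos u3).ne' (by linarith only [key])
                          have r_4 : 1 * T.m u3 + -2 * T.m u4 = 0 := by
                            have key := Groth.Agent.Helper6.NT.rowfun5 T u0 u1 u2 u3 u4 hinj u4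
                            rw [Groth.Agent.Helper6.NT.symm' T u4 u0, z_0_4, Groth.Agent.Helper6.NT.symm' T u4 u1, z_1_4, Groth.Agent.Helper6.NT.symm' T u4 u2, z_2_4, Groth.Agent.Helper6.NT.symm' T u4 u3, taq_3_4, (h2 u4).2] at key
                            exact mul_left_cancel₀ (T.w_pos u4).ne' (by linarith only [key])
                          exfalso
                          linarith only [r_0, r_1, r_2, r_3, r_4, T.m_pos u0, T.m_pos u1, T.m_pos u2, T.m_pos u3, T.m_pos u4]
                        · -- (3,4) Dp
                          have hinj := Groth.Agent.Helper6.NT.inj5 u0 u1 u2 u3 u4 hn_1_0 hn_2_0 hn_2_1 hn_3_0 hn_3_1 hn_3_2 hn_4_0 hn_4_1 hn_4_2 hn_4_3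
                          have r_0 : -2 * T.m u0 + 1 * T.m u1 + 1 * T.m u2 = 0 := by
                            have key := Groth.Agent.Helper6.NT.rowfun5 T u0 u1 u2 u3 u4 hinj u0
                            rw [(h2 u0).2, tap_0_1, tap_0_2, z_0_3, z_0_4] at key
                            exact mul_left_cancel₀ (T.w_pos u0).ne' (by linarith only [key])
                          have r_1 : 2 * T.m u0 + -2 * T.m u1 = 0 := by
                            have key := Groth.Agent.Helper6.NT.rowfun5 T u0 u1 u2 u3 u4 hinj u1
                            rw [Groth.Agent.Helper6.NT.symm' T u1 u0, taq_0_1, (h2 u1).2, z_1_2, z_1_3, z_1_4] at key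
                            exact mul_left_cancel₀ (T.w_pos u1).ne' (by linarith only [key])
                          have r_2 : 1 * T.m u0 + -2 * T.m u2 + 1 * T.m u3 = 0 := by
                            have key := Groth.Agent.Helper6.NT.rowfun5 T u0 u1 u2 u3 u4 hinj u2
                            rw [Groth.Agent.Helper6.NT.symm' T u2 u0, taq_0_2, Groth.Agent.Helper6.NT.symm' T u2 u1, z_1_2, (h2 u2).2, tap_2_3, z_2_4] at key
                            exact mul_left_cancel₀ (T.w_pos u2).ne' (by linarith only [key])
                          have r_3 : 1 * T.m u2 + -2 * T.m u3 + 2 * T.m u4 = 0 := by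
                            have key := Groth.Agent.Helper6.NT.rowfun5 T u0 u1 u2 u3 u4 hinj u3
                            rw [Groth.Agent.Helper6.NT.symm' T u3 u0, z_0_3, Groth.Agent.Helper6.NT.symm' T u3 u1, z_1_3, Groth.Agent.Helper6.NT.symm' T u3 u2, taq_2_3, (h2 u3).2, tap_3_4] at key
                            exact mul_left_cancel₀ (T.w_pos u3).ne' (by linarith only [key])
                          have r_4 : 1 * T.m u3 + -2 * T.m u4 = 0 := by
                            have key := Groth.Agent.Helper6.NT.rowfun5 T u0 u1 u2 u3 u4 hinj u4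
                            rw [Groth.Agent.Helper6.NT.symm' T u4 u0, z_0_4, Groth.Agent.Helper6.NT.symm' T u4 u1, z_1_4, Groth.Agent.Helper6.NT.symm' T u4 u2, z_2_4, Groth.Agent.Helper6.NT.symm' T u4 u3, taq_3_4, (h2 u4).2] at key
                            exact mul_left_cancel₀ (T.w_pos u4).ne' (by linarith only [key])
                          have f0 : T.m u1 = 2 * T.m u4 := by linarith only [r_0, r_1, r_2, r_3, r_4]
                          have f1 : T.m u0 = 2 * T.m u4 := by linarith only [r_0, r_1, r_2, r_3, r_4]
                          have f2 : T.m u2 = 2 * T.m u4 := by linarith only [r_0, r_1, r_2, r_3, r_4]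
                          have f3 : T.m u3 = 2 * T.m u4 := by linarith only [r_0, r_1, r_2, r_3, r_4]
                          have f4 : T.m u4 = T.m u4 := rfl
                          have f5 : T.w u1 = T.w u1 := rfl
                          have f6 : T.w u0 = 2 * T.w u1 := by linarith only [tw_0_1, tw_0_2, tw_2_3, tw_3_4]
                          have f7 : T.w u2 = 2 * T.w u1 := by linarith only [tw_0_1, tw_0_2, tw_2_3, tw_3_4]
                          have f8 : T.w u3 = 2 * T.w u1 := by linarith only [tw_0_1, tw_0_2, tw_2_3, tw_3_4]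
                          have f9 : T.w u4 = 4 * T.w u1 := by linarith only [tw_0_1, tw_0_2, tw_2_3, tw_3_4]
                          have f10 : T.a u1 u1 = -2 * T.w u1 := by have := (h2 u1).2; linarith only [this, tw_0_1, tw_0_2, tw_2_3, tw_3_4]
                          have f11 : T.a u1 u0 = 2 * T.w u1 := by rw [Groth.Agent.Helper6.NT.symm' T u1 u0]; linarith only [tap_0_1, tw_0_1, tw_0_2, tw_2_3, tw_3_4]
                          have f12 : T.a u1 u2 = 0 := by exact z_1_2
                          have f13 : T.a u1 u3 = 0 := by exact z_1_3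
                          have f14 : T.a u1 u4 = 0 := by exact z_1_4
                          have f15 : T.a u0 u0 = -4 * T.w u1 := by have := (h2 u0).2; linarith only [this, tw_0_1, tw_0_2, tw_2_3, tw_3_4]
                          have f16 : T.a u0 u2 = 2 * T.w u1 := by linarith only [tap_0_2, tw_0_1, tw_0_2, tw_2_3, tw_3_4]
                          have f17 : T.a u0 u3 = 0 := by exact z_0_3
                          have f18 : T.a u0 u4 = 0 := by exact z_0_4
                          have f19 : T.a u2 u2 = -4 * T.w u1 := by have := (h2 u2).2; linarith only [this, tw_0_1, tw_0_2, tw_2_3, tw_3_4]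
                          have f20 : T.a u2 u3 = 2 * T.w u1 := by linarith only [tap_2_3, tw_0_1, tw_0_2, tw_2_3, tw_3_4]
                          have f21 : T.a u2 u4 = 0 := by exact z_2_4
                          have f22 : T.a u3 u3 = -4 * T.w u1 := by have := (h2 u3).2; linarith only [this, tw_0_1, tw_0_2, tw_2_3, tw_3_4]
                          have f23 : T.a u3 u4 = 4 * T.w u1 := by linarith only [tap_3_4, tw_0_1, tw_0_2, tw_2_3, tw_3_4]
                          have f24 : T.a u4 u4 = -8 * T.w u1 := by have := (h2 u4).2; linarith only [this, tw_0_1, tw_0_2, tw_2_3, tw_3_4]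
                          have hsig := Groth.Agent.Helper6.NT.inj5 u1 u0 u2 u3 u4 hn_1_0.symm hn_2_1 hn_2_0 hn_3_1 hn_3_0 hn_3_2 hn_4_1 hn_4_0 hn_4_2 hn_4_3
                          exact ⟨Equiv.ofBijective _ (Finite.injective_iff_bijective.1 hsig), T.m u4, T.w u1, Or.inr (Or.inr (Or.inr (Or.inl ⟨f0, f1, f2, f3, f4, f5, f6, f7, f8, f9, f10, f11, f12, f13, f14, f15, f16, f17, f18, f19, f20, f21, f22, f23, f24⟩)))⟩
                        · -- (3,4) Dm
                          have hinj := Groth.Agent.Helper6.NT.inj5 u0 u1 u2 u3 u4 hn_1_0 hn_2_0 hn_2_1 hn_3_0 hn_3_1 hn_3_2 hn_4_0 hn_4_1 hn_4_2 hn_4_3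
                          have r_0 : -2 * T.m u0 + 1 * T.m u1 + 1 * T.m u2 = 0 := by
                            have key := Groth.Agent.Helper6.NT.rowfun5 T u0 u1 u2 u3 u4 hinj u0
                            rw [(h2 u0).2, tap_0_1, tap_0_2, z_0_3, z_0_4] at key
                            exact mul_left_cancel₀ (T.w_pos u0).ne' (by linarith only [key])
                          have r_1 : 2 * T.m u0 + -2 * T.m u1 = 0 := by
                            have key := Groth.Agent.Helper6.NT.rowfun5 T u0 u1 u2 u3 u4 hinj u1
                            rw [Groth.Agent.Helper6.NT.symm' T u1 u0, taq_0_1, (h2 u1).2, z_1_2, z_1_3, z_1_4] at key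
                            exact mul_left_cancel₀ (T.w_pos u1).ne' (by linarith only [key])
                          have r_2 : 1 * T.m u0 + -2 * T.m u2 + 1 * T.m u3 = 0 := by
                            have key := Groth.Agent.Helper6.NT.rowfun5 T u0 u1 u2 u3 u4 hinj u2
                            rw [Groth.Agent.Helper6.NT.symm' T u2 u0, taq_0_2, Groth.Agent.Helper6.NT.symm' T u2 u1, z_1_2, (h2 u2).2, tap_2_3, z_2_4] at key
                            exact mul_left_cancel₀ (T.w_pos u2).ne' (by linarith only [key])
                          have r_3 : 1 * T.m u2 + -2 * T.m u3 + 1 * T.m u4 = 0 := by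
                            have key := Groth.Agent.Helper6.NT.rowfun5 T u0 u1 u2 u3 u4 hinj u3
                            rw [Groth.Agent.Helper6.NT.symm' T u3 u0, z_0_3, Groth.Agent.Helper6.NT.symm' T u3 u1, z_1_3, Groth.Agent.Helper6.NT.symm' T u3 u2, taq_2_3, (h2 u3).2, tap_3_4] at key
                            exact mul_left_cancel₀ (T.w_pos u3).ne' (by linarith only [key])
                          have r_4 : 2 * T.m u3 + -2 * T.m u4 = 0 := by
                            have key := Groth.Agent.Helper6.NT.rowfun5 T u0 u1 u2 u3 u4 hinj u4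
                            rw [Groth.Agent.Helper6.NT.symm' T u4 u0, z_0_4, Groth.Agent.Helper6.NT.symm' T u4 u1, z_1_4, Groth.Agent.Helper6.NT.symm' T u4 u2, z_2_4, Groth.Agent.Helper6.NT.symm' T u4 u3, taq_3_4, (h2 u4).2] at key
                            exact mul_left_cancel₀ (T.w_pos u4).ne' (by linarith only [key])
                          have f0 : T.m u1 = T.m u1 := rfl
                          have f1 : T.m u0 = T.m u1 := by linarith only [r_0, r_1, r_2, r_3, r_4]
                          have f2 : T.m u2 = T.m u1 := by linarith only [r_0, r_1, r_2, r_3, r_4]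
                          have f3 : T.m u3 = T.m u1 := by linarith only [r_0, r_1, r_2, r_3, r_4]
                          have f4 : T.m u4 = T.m u1 := by linarith only [r_0, r_1, r_2, r_3, r_4]
                          have f5 : T.w u1 = T.w u1 := rfl
                          have f6 : T.w u0 = 2 * T.w u1 := by linarith only [tw_0_1, tw_0_2, tw_2_3, tw_3_4]
                          have f7 : T.w u2 = 2 * T.w u1 := by linarith only [tw_0_1, tw_0_2, tw_2_3, tw_3_4]
                          have f8 : T.w u3 = 2 * T.w u1 := by linarith only [tw_0_1, tw_0_2, tw_2_3, tw_3_4]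
                          have f9 : T.w u4 = T.w u1 := by linarith only [tw_0_1, tw_0_2, tw_2_3, tw_3_4]
                          have f10 : T.a u1 u1 = -2 * T.w u1 := by have := (h2 u1).2; linarith only [this, tw_0_1, tw_0_2, tw_2_3, tw_3_4]
                          have f11 : T.a u1 u0 = 2 * T.w u1 := by rw [Groth.Agent.Helper6.NT.symm' T u1 u0]; linarith only [tap_0_1, tw_0_1, tw_0_2, tw_2_3, tw_3_4]
                          have f12 : T.a u1 u2 = 0 := by exact z_1_2
                          have f13 : T.a u1 u3 = 0 := by exact z_1_3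
                          have f14 : T.a u1 u4 = 0 := by exact z_1_4
                          have f15 : T.a u0 u0 = -4 * T.w u1 := by have := (h2 u0).2; linarith only [this, tw_0_1, tw_0_2, tw_2_3, tw_3_4]
                          have f16 : T.a u0 u2 = 2 * T.w u1 := by linarith only [tap_0_2, tw_0_1, tw_0_2, tw_2_3, tw_3_4]
                          have f17 : T.a u0 u3 = 0 := by exact z_0_3
                          have f18 : T.a u0 u4 = 0 := by exact z_0_4
                          have f19 : T.a u2 u2 = -4 * T.w u1 := by have := (h2 u2).2; linarith only [this, tw_0_1, tw_0_2, tw_2_3, tw_3_4]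
                          have f20 : T.a u2 u3 = 2 * T.w u1 := by linarith only [tap_2_3, tw_0_1, tw_0_2, tw_2_3, tw_3_4]
                          have f21 : T.a u2 u4 = 0 := by exact z_2_4
                          have f22 : T.a u3 u3 = -4 * T.w u1 := by have := (h2 u3).2; linarith only [this, tw_0_1, tw_0_2, tw_2_3, tw_3_4]
                          have f23 : T.a u3 u4 = 2 * T.w u1 := by linarith only [tap_3_4, tw_0_1, tw_0_2, tw_2_3, tw_3_4]
                          have f24 : T.a u4 u4 = -2 * T.w u1 := by have := (h2 u4).2; linarith only [this, tw_0_1, tw_0_2, tw_2_3, tw_3_4]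
                          have hsig := Groth.Agent.Helper6.NT.inj5 u1 u0 u2 u3 u4 hn_1_0.symm hn_2_1 hn_2_0 hn_3_1 hn_3_0 hn_3_2 hn_4_1 hn_4_0 hn_4_2 hn_4_3
                          exact ⟨Equiv.ofBijective _ (Finite.injective_iff_bijective.1 hsig), T.m u1, T.w u1, Or.inr (Or.inr (Or.inr (Or.inr (Or.inl ⟨f0, f1, f2, f3, f4, f5, f6, f7, f8, f9, f10, f11, f12, f13, f14, f15, f16, f17, f18, f19, f20, f21, f22, f23, f24⟩))))⟩
                        · -- (3,4) Tp
                          exfalso
                          have key := Groth.Agent.Helper6.NT.negfun3 T h2 u2 u3 u4 (by norm_num) 1 2 1 (by norm_num) (by norm_num)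
                          linarith only [key, tap_2_3, taq_2_3, z_2_4, tap_3_4, taq_3_4, T.w_pos u2, T.w_pos u3, T.w_pos u4]
                        · -- (3,4) Tm
                          exfalso
                          have key := Groth.Agent.Helper6.NT.negfun3 T h2 u2 u3 u4 (by norm_num) 1 2 3 (by norm_num) (by norm_num)
                          linarith only [key, tap_2_3, taq_2_3, z_2_4, tap_3_4, taq_3_4, T.w_pos u2, T.w_pos u3, T.w_pos u4]
                      · push Not at hx
                        have cl_3 := hx
                        clear hx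
                        exfalso
                        refine Groth.Agent.Helper6.NT.closed_contra T [u0, u1, u2, u3] (by simp) (by simp) ?_
                        intro i hi j hj
                        simp only [List.mem_cons, List.not_mem_nil, or_false, not_or] at hi hj
                        rcases hi with rfl | rfl | rfl | rfl
                        · exact cl_0 j ⟨hj.1, hj.2.1, hj.2.2.1⟩
                        · exact cl_1 j ⟨hj.1, hj.2.1, hj.2.2.1⟩
                        · exact cl_2 j ⟨hj.1, hj.2.1, hj.2.2.1, hj.2.2.2⟩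
                        · exact cl_3 j ⟨hj.1, hj.2.1, hj.2.2.1, hj.2.2.2⟩
                  · -- (2,3) Dp
                    exfalso
                    have key := Groth.Agent.Helper6.NT.negfun4 T h2 u0 u1 u2 u3 (by norm_num) 2 2 2 1 (by norm_num) (by norm_num)
                    linarith only [key, tap_0_1, taq_0_1, tap_0_2, taq_0_2, z_0_3, z_1_2, z_1_3, tap_2_3, taq_2_3, T.w_pos u0, T.w_pos u1, T.w_pos u2, T.w_pos u3]
                  · -- (2,3) Dm
                    exfalso
                    have key := Groth.Agent.Helper6.NT.negfun4 T h2 u0 u1 u2 u3 (by norm_num) 1 1 1 1 (by norm_num) (by norm_num)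
                    linarith only [key, tap_0_1, taq_0_1, tap_0_2, taq_0_2, z_0_3, z_1_2, z_1_3, tap_2_3, taq_2_3, T.w_pos u0, T.w_pos u1, T.w_pos u2, T.w_pos u3]
                  · -- (2,3) Tp
                    exfalso
                    have key := Groth.Agent.Helper6.NT.negfun3 T h2 u0 u2 u3 (by norm_num) 1 2 1 (by norm_num) (by norm_num)
                    linarith only [key, tap_0_2, taq_0_2, z_0_3, tap_2_3, taq_2_3, T.w_pos u0, T.w_pos u2, T.w_pos u3]
                  · -- (2,3) Tm
                    exfalso
                    have key := Groth.Agent.Helper6.NT.negfun3 T h2 u0 u2 u3 (by norm_num) 1 2 3 (by norm_num) (by norm_num)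
                    linarith only [key, tap_0_2, taq_0_2, z_0_3, tap_2_3, taq_2_3, T.w_pos u0, T.w_pos u2, T.w_pos u3]
                · push Not at hx
                  have cl_2 := hx
                  clear hx
                  exfalso
                  refine Groth.Agent.Helper6.NT.closed_contra T [u0, u1, u2] (by simp) (by simp) ?_
                  intro i hi j hj
                  simp only [List.mem_cons, List.not_mem_nil, or_false, not_or] at hi hj
                  rcases hi with rfl | rfl | rfl
                  · exact cl_0 j ⟨hj.1, hj.2.1, hj.2.2⟩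
                  · exact cl_1 j ⟨hj.1, hj.2.1, hj.2.2⟩
                  · exact cl_2 j ⟨hj.1, hj.2.1, hj.2.2⟩
          · -- (1,2) nonzero
            obtain ⟨lbp_1_2, lbq_1_2⟩ := Groth.Agent.Helper6.NT.lb T u1 u2 hn_2_1.symm nz_1_2
            exfalso
            have key := Groth.Agent.Helper6.NT.negfun3 T h2 u0 u1 u2 (by norm_num) 1 1 1 (by norm_num) (by norm_num)
            linarith only [key, tap_0_1, taq_0_1, tap_0_2, taq_0_2, lbp_1_2, lbq_1_2, T.w_pos u0, T.w_pos u1, T.w_pos u2]
        · -- (0,2) Dp
          exfalso
          have key := Groth.Agent.Helper6.NT.negfun3 T h2 u0 u1 u2 (by norm_num) 2 2 1 (by norm_num) (by norm_num)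
          linarith only [key, tap_0_1, taq_0_1, tap_0_2, taq_0_2, T.offDiag_nonneg u1 u2 hn_2_1.symm, T.w_pos u0, T.w_pos u1, T.w_pos u2]
        · -- (0,2) Dm
          exfalso
          have key := Groth.Agent.Helper6.NT.negfun3 T h2 u0 u1 u2 (by norm_num) 1 1 1 (by norm_num) (by norm_num)
          linarith only [key, tap_0_1, taq_0_1, tap_0_2, taq_0_2, T.offDiag_nonneg u1 u2 hn_2_1.symm, T.w_pos u0, T.w_pos u1, T.w_pos u2]
        · -- (0,2) Tp
          exfalso
          have key := Groth.Agent.Helper6.NT.negfun3 T h2 u0 u1 u2 (by norm_num) 2 2 1 (by norm_num) (by norm_num)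
          linarith only [key, tap_0_1, taq_0_1, tap_0_2, taq_0_2, T.offDiag_nonneg u1 u2 hn_2_1.symm, T.w_pos u0, T.w_pos u1, T.w_pos u2]
        · -- (0,2) Tm
          exfalso
          have key := Groth.Agent.Helper6.NT.negfun3 T h2 u0 u1 u2 (by norm_num) 2 2 3 (by norm_num) (by norm_num)
          linarith only [key, tap_0_1, taq_0_1, tap_0_2, taq_0_2, T.offDiag_nonneg u1 u2 hn_2_1.symm, T.w_pos u0, T.w_pos u1, T.w_pos u2]
      · push Not at hx
        have cl_0 := hx
        clear hx
        by_cases hx : ∃ j, (j ≠ u0 ∧ j ≠ u1) ∧ T.a u1 j ≠ 0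
        · obtain ⟨u2, ⟨hn_2_0, hn_2_1⟩, e_1_2⟩ := hx
          have z_0_2 : T.a u0 u2 = 0 := cl_0 u2 ⟨hn_2_0, hn_2_1⟩
          rcases Groth.Agent.Helper6.NT.edge5 T h2 (by norm_num) u1 u2 hn_2_1.symm e_1_2 with ⟨tw_1_2, tap_1_2, taq_1_2⟩ | ⟨tw_1_2, tap_1_2, taq_1_2⟩ | ⟨tw_1_2, tap_1_2, taq_1_2⟩ | ⟨tw_1_2, tap_1_2, taq_1_2⟩ | ⟨tw_1_2, tap_1_2, taq_1_2⟩
          · -- (1,2) S
            by_cases hx : ∃ j, (j ≠ u0 ∧ j ≠ u1 ∧ j ≠ u2) ∧ T.a u1 j ≠ 0
            · obtain ⟨u3, ⟨hn_3_0, hn_3_1, hn_3_2⟩, e_1_3⟩ := hx
              have z_0_3 : T.a u0 u3 = 0 := cl_0 u3 ⟨hn_3_0, hn_3_1⟩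
              rcases Groth.Agent.Helper6.NT.edge5 T h2 (by norm_num) u1 u3 hn_3_1.symm e_1_3 with ⟨tw_1_3, tap_1_3, taq_1_3⟩ | ⟨tw_1_3, tap_1_3, taq_1_3⟩ | ⟨tw_1_3, tap_1_3, taq_1_3⟩ | ⟨tw_1_3, tap_1_3, taq_1_3⟩ | ⟨tw_1_3, tap_1_3, taq_1_3⟩
              · -- (1,3) S
                exfalso
                have key := Groth.Agent.Helper6.NT.negfun4 T h2 u0 u1 u2 u3 (by norm_num) 1 2 1 1 (by norm_num) (by norm_num)
                linarith only [key, tap_0_1, taq_0_1, z_0_2, z_0_3, tap_1_2, taq_1_2, tap_1_3, taq_1_3, T.offDiag_nonneg u2 u3 hn_3_2.symm, T.w_pos u0, T.w_pos u1, T.w_pos u2, T.w_pos u3]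
              · -- (1,3) Dp
                exfalso
                have key := Groth.Agent.Helper6.NT.negfun3 T h2 u0 u1 u3 (by norm_num) 1 2 1 (by norm_num) (by norm_num)
                linarith only [key, tap_0_1, taq_0_1, z_0_3, tap_1_3, taq_1_3, T.w_pos u0, T.w_pos u1, T.w_pos u3]
              · -- (1,3) Dm
                exfalso
                have key := Groth.Agent.Helper6.NT.negfun3 T h2 u0 u1 u3 (by norm_num) 1 2 2 (by norm_num) (by norm_num)
                linarith only [key, tap_0_1, taq_0_1, z_0_3, tap_1_3, taq_1_3, T.w_pos u0, T.w_pos u1, T.w_pos u3]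
              · -- (1,3) Tp
                exfalso
                have key := Groth.Agent.Helper6.NT.negfun3 T h2 u1 u2 u3 (by norm_num) 2 1 1 (by norm_num) (by norm_num)
                linarith only [key, tap_1_2, taq_1_2, tap_1_3, taq_1_3, T.offDiag_nonneg u2 u3 hn_3_2.symm, T.w_pos u1, T.w_pos u2, T.w_pos u3]
              · -- (1,3) Tm
                exfalso
                have key := Groth.Agent.Helper6.NT.negfun3 T h2 u1 u2 u3 (by norm_num) 2 1 3 (by norm_num) (by norm_num)
                linarith only [key, tap_1_2, taq_1_2, tap_1_3, taq_1_3, T.offDiag_nonneg u2 u3 hn_3_2.symm, T.w_pos u1, T.w_pos u2, T.w_pos u3]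
            · push Not at hx
              have cl_1 := hx
              clear hx
              by_cases hx : ∃ j, (j ≠ u0 ∧ j ≠ u1 ∧ j ≠ u2) ∧ T.a u2 j ≠ 0
              · obtain ⟨u3, ⟨hn_3_0, hn_3_1, hn_3_2⟩, e_2_3⟩ := hx
                have z_0_3 : T.a u0 u3 = 0 := cl_0 u3 ⟨hn_3_0, hn_3_1⟩
                have z_1_3 : T.a u1 u3 = 0 := cl_1 u3 ⟨hn_3_0, hn_3_1, hn_3_2⟩
                rcases Groth.Agent.Helper6.NT.edge5 T h2 (by norm_num) u2 u3 hn_3_2.symm e_2_3 with ⟨tw_2_3, tap_2_3, taq_2_3⟩ | ⟨tw_2_3, tap_2_3, taq_2_3⟩ | ⟨tw_2_3, tap_2_3, taq_2_3⟩ | ⟨tw_2_3, tap_2_3, taq_2_3⟩ | ⟨tw_2_3, tap_2_3, taq_2_3⟩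
                · -- (2,3) S
                  by_cases hx : ∃ j, (j ≠ u0 ∧ j ≠ u1 ∧ j ≠ u2 ∧ j ≠ u3) ∧ T.a u2 j ≠ 0
                  · obtain ⟨u4, ⟨hn_4_0, hn_4_1, hn_4_2, hn_4_3⟩, e_2_4⟩ := hx
                    have z_0_4 : T.a u0 u4 = 0 := cl_0 u4 ⟨hn_4_0, hn_4_1⟩
                    have z_1_4 : T.a u1 u4 = 0 := cl_1 u4 ⟨hn_4_0, hn_4_1, hn_4_2⟩
                    rcases Groth.Agent.Helper6.NT.edge5 T h2 (by norm_num) u2 u4 hn_4_2.symm e_2_4 with ⟨tw_2_4, tap_2_4, taq_2_4⟩ | ⟨tw_2_4, tap_2_4, taq_2_4⟩ | ⟨tw_2_4, tap_2_4, taq_2_4⟩ | ⟨tw_2_4, tap_2_4, taq_2_4⟩ | ⟨tw_2_4, tap_2_4, taq_2_4⟩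
                    · -- (2,4) S
                      rcases eq_or_ne (T.a u3 u4) 0 with z_3_4 | nz_3_4
                      · -- (3,4) zero
                        have hinj := Groth.Agent.Helper6.NT.inj5 u0 u1 u2 u3 u4 hn_1_0 hn_2_0 hn_2_1 hn_3_0 hn_3_1 hn_3_2 hn_4_0 hn_4_1 hn_4_2 hn_4_3
                        have r_0 : -2 * T.m u0 + 1 * T.m u1 = 0 := by
                          have key := Groth.Agent.Helper6.NT.rowfun5 T u0 u1 u2 u3 u4 hinj u0
                          rw [(h2 u0).2, tap_0_1, z_0_2, z_0_3, z_0_4] at key
                          exact mul_left_cancel₀ (T.w_pos u0).ne' (by linarith only [key])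
                        have r_1 : 2 * T.m u0 + -2 * T.m u1 + 1 * T.m u2 = 0 := by
                          have key := Groth.Agent.Helper6.NT.rowfun5 T u0 u1 u2 u3 u4 hinj u1
                          rw [Groth.Agent.Helper6.NT.symm' T u1 u0, taq_0_1, (h2 u1).2, tap_1_2, z_1_3, z_1_4] at key
                          exact mul_left_cancel₀ (T.w_pos u1).ne' (by linarith only [key])
                        have r_2 : 1 * T.m u1 + -2 * T.m u2 + 1 * T.m u3 + 1 * T.m u4 = 0 := by
                          have key := Groth.Agent.Helper6.NT.rowfun5 T u0 u1 u2 u3 u4 hinj u2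
                          rw [Groth.Agent.Helper6.NT.symm' T u2 u0, z_0_2, Groth.Agent.Helper6.NT.symm' T u2 u1, taq_1_2, (h2 u2).2, tap_2_3, tap_2_4] at key
                          exact mul_left_cancel₀ (T.w_pos u2).ne' (by linarith only [key])
                        have r_3 : 1 * T.m u2 + -2 * T.m u3 = 0 := by
                          have key := Groth.Agent.Helper6.NT.rowfun5 T u0 u1 u2 u3 u4 hinj u3
                          rw [Groth.Agent.Helper6.NT.symm' T u3 u0, z_0_3, Groth.Agent.Helper6.NT.symm' T u3 u1, z_1_3, Groth.Agent.Helper6.NT.symm' T u3 u2, taq_2_3, (h2 u3).2, z_3_4] at key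
                          exact mul_left_cancel₀ (T.w_pos u3).ne' (by linarith only [key])
                        have r_4 : 1 * T.m u2 + -2 * T.m u4 = 0 := by
                          have key := Groth.Agent.Helper6.NT.rowfun5 T u0 u1 u2 u3 u4 hinj u4
                          rw [Groth.Agent.Helper6.NT.symm' T u4 u0, z_0_4, Groth.Agent.Helper6.NT.symm' T u4 u1, z_1_4, Groth.Agent.Helper6.NT.symm' T u4 u2, taq_2_4, Groth.Agent.Helper6.NT.symm' T u4 u3, z_3_4, (h2 u4).2] at key
                          exact mul_left_cancel₀ (T.w_pos u4).ne' (by linarith only [key])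
                        have f0 : T.m u0 = T.m u0 := rfl
                        have f1 : T.m u1 = 2 * T.m u0 := by linarith only [r_0, r_1, r_2, r_3, r_4]
                        have f2 : T.m u2 = 2 * T.m u0 := by linarith only [r_0, r_1, r_2, r_3, r_4]
                        have f3 : T.m u3 = T.m u0 := by linarith only [r_0, r_1, r_2, r_3, r_4]
                        have f4 : T.m u4 = T.m u0 := by linarith only [r_0, r_1, r_2, r_3, r_4]
                        have f5 : T.w u0 = 2 * T.w u1 := by linarith only [tw_0_1, tw_1_2, tw_2_3, tw_2_4]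
                        have f6 : T.w u1 = T.w u1 := rfl
                        have f7 : T.w u2 = T.w u1 := by linarith only [tw_0_1, tw_1_2, tw_2_3, tw_2_4]
                        have f8 : T.w u3 = T.w u1 := by linarith only [tw_0_1, tw_1_2, tw_2_3, tw_2_4]
                        have f9 : T.w u4 = T.w u1 := by linarith only [tw_0_1, tw_1_2, tw_2_3, tw_2_4]
                        have f10 : T.a u0 u0 = -4 * T.w u1 := by have := (h2 u0).2; linarith only [this, tw_0_1, tw_1_2, tw_2_3, tw_2_4]
                        have f11 : T.a u0 u1 = 2 * T.w u1 := by linarith only [tap_0_1, tw_0_1, tw_1_2, tw_2_3, tw_2_4]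
                        have f12 : T.a u0 u2 = 0 := by exact z_0_2
                        have f13 : T.a u0 u3 = 0 := by exact z_0_3
                        have f14 : T.a u0 u4 = 0 := by exact z_0_4
                        have f15 : T.a u1 u1 = -2 * T.w u1 := by have := (h2 u1).2; linarith only [this, tw_0_1, tw_1_2, tw_2_3, tw_2_4]
                        have f16 : T.a u1 u2 = T.w u1 := by linarith only [tap_1_2, tw_0_1, tw_1_2, tw_2_3, tw_2_4]
                        have f17 : T.a u1 u3 = 0 := by exact z_1_3
                        have f18 : T.a u1 u4 = 0 := by exact z_1_4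
                        have f19 : T.a u2 u2 = -2 * T.w u1 := by have := (h2 u2).2; linarith only [this, tw_0_1, tw_1_2, tw_2_3, tw_2_4]
                        have f20 : T.a u2 u3 = T.w u1 := by linarith only [tap_2_3, tw_0_1, tw_1_2, tw_2_3, tw_2_4]
                        have f21 : T.a u2 u4 = T.w u1 := by linarith only [tap_2_4, tw_0_1, tw_1_2, tw_2_3, tw_2_4]
                        have f22 : T.a u3 u3 = -2 * T.w u1 := by have := (h2 u3).2; linarith only [this, tw_0_1, tw_1_2, tw_2_3, tw_2_4]
                        have f23 : T.a u3 u4 = 0 := by exact z_3_4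
                        have f24 : T.a u4 u4 = -2 * T.w u1 := by have := (h2 u4).2; linarith only [this, tw_0_1, tw_1_2, tw_2_3, tw_2_4]
                        have hsig := Groth.Agent.Helper6.NT.inj5 u0 u1 u2 u3 u4 hn_1_0 hn_2_0 hn_2_1 hn_3_0 hn_3_1 hn_3_2 hn_4_0 hn_4_1 hn_4_2 hn_4_3
                        exact ⟨Equiv.ofBijective _ (Finite.injective_iff_bijective.1 hsig), T.m u0, T.w u1, Or.inr (Or.inr (Or.inr (Or.inr (Or.inr (Or.inr (Or.inr (Or.inl ⟨f0, f1, f2, f3, f4, f5, f6, f7, f8, f9, f10, f11, f12, f13, f14, f15, f16, f17, f18, f19, f20, f21, f22, f23, f24⟩)))))))⟩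
                      · -- (3,4) nonzero
                        obtain ⟨lbp_3_4, lbq_3_4⟩ := Groth.Agent.Helper6.NT.lb T u3 u4 hn_4_3.symm nz_3_4
                        exfalso
                        have key := Groth.Agent.Helper6.NT.negfun3 T h2 u2 u3 u4 (by norm_num) 1 1 1 (by norm_num) (by norm_num)
                        linarith only [key, tap_2_3, taq_2_3, tap_2_4, taq_2_4, lbp_3_4, lbq_3_4, T.w_pos u2, T.w_pos u3, T.w_pos u4]
                    · -- (2,4) Dp
                      exfalso
                      have key := Groth.Agent.Helper6.NT.negfun4 T h2 u1 u2 u3 u4 (by norm_num) 1 2 1 1 (by norm_num) (by norm_num)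
                      linarith only [key, tap_1_2, taq_1_2, z_1_3, z_1_4, tap_2_3, taq_2_3, tap_2_4, taq_2_4, T.offDiag_nonneg u3 u4 hn_4_3.symm, T.w_pos u1, T.w_pos u2, T.w_pos u3, T.w_pos u4]
                    · -- (2,4) Dm
                      exfalso
                      have key := Groth.Agent.Helper6.NT.negfun4 T h2 u1 u2 u3 u4 (by norm_num) 1 2 1 2 (by norm_num) (by norm_num)
                      linarith only [key, tap_1_2, taq_1_2, z_1_3, z_1_4, tap_2_3, taq_2_3, tap_2_4, taq_2_4, T.offDiag_nonneg u3 u4 hn_4_3.symm, T.w_pos u1, T.w_pos u2, T.w_pos u3, T.w_pos u4]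
                    · -- (2,4) Tp
                      exfalso
                      have key := Groth.Agent.Helper6.NT.negfun3 T h2 u2 u3 u4 (by norm_num) 2 1 1 (by norm_num) (by norm_num)
                      linarith only [key, tap_2_3, taq_2_3, tap_2_4, taq_2_4, T.offDiag_nonneg u3 u4 hn_4_3.symm, T.w_pos u2, T.w_pos u3, T.w_pos u4]
                    · -- (2,4) Tm
                      exfalso
                      have key := Groth.Agent.Helper6.NT.negfun3 T h2 u2 u3 u4 (by norm_num) 2 1 3 (by norm_num) (by norm_num)
                      linarith only [key, tap_2_3, taq_2_3, tap_2_4, taq_2_4, T.offDiag_nonneg u3 u4 hn_4_3.symm, T.w_pos u2, T.w_pos u3, T.w_pos u4]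
                  · push Not at hx
                    have cl_2 := hx
                    clear hx
                    by_cases hx : ∃ j, (j ≠ u0 ∧ j ≠ u1 ∧ j ≠ u2 ∧ j ≠ u3) ∧ T.a u3 j ≠ 0
                    · obtain ⟨u4, ⟨hn_4_0, hn_4_1, hn_4_2, hn_4_3⟩, e_3_4⟩ := hx
                      have z_0_4 : T.a u0 u4 = 0 := cl_0 u4 ⟨hn_4_0, hn_4_1⟩
                      have z_1_4 : T.a u1 u4 = 0 := cl_1 u4 ⟨hn_4_0, hn_4_1, hn_4_2⟩
                      have z_2_4 : T.a u2 u4 = 0 := cl_2 u4 ⟨hn_4_0, hn_4_1, hn_4_2, hn_4_3⟩
                      rcases Groth.Agent.Helper6.NT.edge5 T h2 (by norm_num) u3 u4 hn_4_3.symm e_3_4 with ⟨tw_3_4, tap_3_4, taq_3_4⟩ | ⟨tw_3_4, tap_3_4, taq_3_4⟩ | ⟨tw_3_4, tap_3_4, taq_3_4⟩ | ⟨tw_3_4, tap_3_4, taq_3_4⟩ | ⟨tw_3_4, tap_3_4, taq_3_4⟩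
                      · -- (3,4) S
                        have hinj := Groth.Agent.Helper6.NT.inj5 u0 u1 u2 u3 u4 hn_1_0 hn_2_0 hn_2_1 hn_3_0 hn_3_1 hn_3_2 hn_4_0 hn_4_1 hn_4_2 hn_4_3
                        have r_0 : -2 * T.m u0 + 1 * T.m u1 = 0 := by
                          have key := Groth.Agent.Helper6.NT.rowfun5 T u0 u1 u2 u3 u4 hinj u0
                          rw [(h2 u0).2, tap_0_1, z_0_2, z_0_3, z_0_4] at key
                          exact mul_left_cancel₀ (T.w_pos u0).ne' (by linarith only [key])
                        have r_1 : 2 * T.m u0 + -2 * T.m u1 + 1 * T.m u2 = 0 := by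
                          have key := Groth.Agent.Helper6.NT.rowfun5 T u0 u1 u2 u3 u4 hinj u1
                          rw [Groth.Agent.Helper6.NT.symm' T u1 u0, taq_0_1, (h2 u1).2, tap_1_2, z_1_3, z_1_4] at key
                          exact mul_left_cancel₀ (T.w_pos u1).ne' (by linarith only [key])
                        have r_2 : 1 * T.m u1 + -2 * T.m u2 + 1 * T.m u3 = 0 := by
                          have key := Groth.Agent.Helper6.NT.rowfun5 T u0 u1 u2 u3 u4 hinj u2
                          rw [Groth.Agent.Helper6.NT.symm' T u2 u0, z_0_2, Groth.Agent.Helper6.NT.symm' T u2 u1, taq_1_2, (h2 u2).2, tap_2_3, z_2_4] at key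
                          exact mul_left_cancel₀ (T.w_pos u2).ne' (by linarith only [key])
                        have r_3 : 1 * T.m u2 + -2 * T.m u3 + 1 * T.m u4 = 0 := by
                          have key := Groth.Agent.Helper6.NT.rowfun5 T u0 u1 u2 u3 u4 hinj u3
                          rw [Groth.Agent.Helper6.NT.symm' T u3 u0, z_0_3, Groth.Agent.Helper6.NT.symm' T u3 u1, z_1_3, Groth.Agent.Helper6.NT.symm' T u3 u2, taq_2_3, (h2 u3).2, tap_3_4] at key
                          exact mul_left_cancel₀ (T.w_pos u3).ne' (by linarith only [key])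
                        have r_4 : 1 * T.m u3 + -2 * T.m u4 = 0 := by
                          have key := Groth.Agent.Helper6.NT.rowfun5 T u0 u1 u2 u3 u4 hinj u4
                          rw [Groth.Agent.Helper6.NT.symm' T u4 u0, z_0_4, Groth.Agent.Helper6.NT.symm' T u4 u1, z_1_4, Groth.Agent.Helper6.NT.symm' T u4 u2, z_2_4, Groth.Agent.Helper6.NT.symm' T u4 u3, taq_3_4, (h2 u4).2] at key
                          exact mul_left_cancel₀ (T.w_pos u4).ne' (by linarith only [key])
                        exfalso
                        linarith only [r_0, r_1, r_2, r_3, r_4, T.m_pos u0, T.m_pos u1, T.m_pos u2, T.m_pos u3, T.m_pos u4]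
                      · -- (3,4) Dp
                        have hinj := Groth.Agent.Helper6.NT.inj5 u0 u1 u2 u3 u4 hn_1_0 hn_2_0 hn_2_1 hn_3_0 hn_3_1 hn_3_2 hn_4_0 hn_4_1 hn_4_2 hn_4_3
                        have r_0 : -2 * T.m u0 + 1 * T.m u1 = 0 := by
                          have key := Groth.Agent.Helper6.NT.rowfun5 T u0 u1 u2 u3 u4 hinj u0
                          rw [(h2 u0).2, tap_0_1, z_0_2, z_0_3, z_0_4] at key
                          exact mul_left_cancel₀ (T.w_pos u0).ne' (by linarith only [key])
                        have r_1 : 2 * T.m u0 + -2 * T.m u1 + 1 * T.m u2 = 0 := by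
                          have key := Groth.Agent.Helper6.NT.rowfun5 T u0 u1 u2 u3 u4 hinj u1
                          rw [Groth.Agent.Helper6.NT.symm' T u1 u0, taq_0_1, (h2 u1).2, tap_1_2, z_1_3, z_1_4] at key
                          exact mul_left_cancel₀ (T.w_pos u1).ne' (by linarith only [key])
                        have r_2 : 1 * T.m u1 + -2 * T.m u2 + 1 * T.m u3 = 0 := by
                          have key := Groth.Agent.Helper6.NT.rowfun5 T u0 u1 u2 u3 u4 hinj u2
                          rw [Groth.Agent.Helper6.NT.symm' T u2 u0, z_0_2, Groth.Agent.Helper6.NT.symm' T u2 u1, taq_1_2, (h2 u2).2, tap_2_3, z_2_4] at key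
                          exact mul_left_cancel₀ (T.w_pos u2).ne' (by linarith only [key])
                        have r_3 : 1 * T.m u2 + -2 * T.m u3 + 2 * T.m u4 = 0 := by
                          have key := Groth.Agent.Helper6.NT.rowfun5 T u0 u1 u2 u3 u4 hinj u3
                          rw [Groth.Agent.Helper6.NT.symm' T u3 u0, z_0_3, Groth.Agent.Helper6.NT.symm' T u3 u1, z_1_3, Groth.Agent.Helper6.NT.symm' T u3 u2, taq_2_3, (h2 u3).2, tap_3_4] at key
                          exact mul_left_cancel₀ (T.w_pos u3).ne' (by linarith only [key])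
                        have r_4 : 1 * T.m u3 + -2 * T.m u4 = 0 := by
                          have key := Groth.Agent.Helper6.NT.rowfun5 T u0 u1 u2 u3 u4 hinj u4
                          rw [Groth.Agent.Helper6.NT.symm' T u4 u0, z_0_4, Groth.Agent.Helper6.NT.symm' T u4 u1, z_1_4, Groth.Agent.Helper6.NT.symm' T u4 u2, z_2_4, Groth.Agent.Helper6.NT.symm' T u4 u3, taq_3_4, (h2 u4).2] at key
                          exact mul_left_cancel₀ (T.w_pos u4).ne' (by linarith only [key])
                        have f0 : T.m u0 = T.m u0 := rfl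
                        have f1 : T.m u1 = 2 * T.m u0 := by linarith only [r_0, r_1, r_2, r_3, r_4]
                        have f2 : T.m u2 = 2 * T.m u0 := by linarith only [r_0, r_1, r_2, r_3, r_4]
                        have f3 : T.m u3 = 2 * T.m u0 := by linarith only [r_0, r_1, r_2, r_3, r_4]
                        have f4 : T.m u4 = T.m u0 := by linarith only [r_0, r_1, r_2, r_3, r_4]
                        have f5 : T.w u0 = 2 * T.w u1 := by linarith only [tw_0_1, tw_1_2, tw_2_3, tw_3_4]
                        have f6 : T.w u1 = T.w u1 := rfl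
                        have f7 : T.w u2 = T.w u1 := by linarith only [tw_0_1, tw_1_2, tw_2_3, tw_3_4]
                        have f8 : T.w u3 = T.w u1 := by linarith only [tw_0_1, tw_1_2, tw_2_3, tw_3_4]
                        have f9 : T.w u4 = 2 * T.w u1 := by linarith only [tw_0_1, tw_1_2, tw_2_3, tw_3_4]
                        have f10 : T.a u0 u0 = -4 * T.w u1 := by have := (h2 u0).2; linarith only [this, tw_0_1, tw_1_2, tw_2_3, tw_3_4]
                        have f11 : T.a u0 u1 = 2 * T.w u1 := by linarith only [tap_0_1, tw_0_1, tw_1_2, tw_2_3, tw_3_4]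
                        have f12 : T.a u0 u2 = 0 := by exact z_0_2
                        have f13 : T.a u0 u3 = 0 := by exact z_0_3
                        have f14 : T.a u0 u4 = 0 := by exact z_0_4
                        have f15 : T.a u1 u1 = -2 * T.w u1 := by have := (h2 u1).2; linarith only [this, tw_0_1, tw_1_2, tw_2_3, tw_3_4]
                        have f16 : T.a u1 u2 = T.w u1 := by linarith only [tap_1_2, tw_0_1, tw_1_2, tw_2_3, tw_3_4]
                        have f17 : T.a u1 u3 = 0 := by exact z_1_3
                        have f18 : T.a u1 u4 = 0 := by exact z_1_4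
                        have f19 : T.a u2 u2 = -2 * T.w u1 := by have := (h2 u2).2; linarith only [this, tw_0_1, tw_1_2, tw_2_3, tw_3_4]
                        have f20 : T.a u2 u3 = T.w u1 := by linarith only [tap_2_3, tw_0_1, tw_1_2, tw_2_3, tw_3_4]
                        have f21 : T.a u2 u4 = 0 := by exact z_2_4
                        have f22 : T.a u3 u3 = -2 * T.w u1 := by have := (h2 u3).2; linarith only [this, tw_0_1, tw_1_2, tw_2_3, tw_3_4]
                        have f23 : T.a u3 u4 = 2 * T.w u1 := by linarith only [tap_3_4, tw_0_1, tw_1_2, tw_2_3, tw_3_4]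
                        have f24 : T.a u4 u4 = -4 * T.w u1 := by have := (h2 u4).2; linarith only [this, tw_0_1, tw_1_2, tw_2_3, tw_3_4]
                        have hsig := Groth.Agent.Helper6.NT.inj5 u0 u1 u2 u3 u4 hn_1_0 hn_2_0 hn_2_1 hn_3_0 hn_3_1 hn_3_2 hn_4_0 hn_4_1 hn_4_2 hn_4_3
                        exact ⟨Equiv.ofBijective _ (Finite.injective_iff_bijective.1 hsig), T.m u0, T.w u1, Or.inr (Or.inr (Or.inr (Or.inr (Or.inr (Or.inl ⟨f0, f1, f2, f3, f4, f5, f6, f7, f8, f9, f10, f11, f12, f13, f14, f15, f16, f17, f18, f19, f20, f21, f22, f23, f24⟩)))))⟩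
                      · -- (3,4) Dm
                        have hinj := Groth.Agent.Helper6.NT.inj5 u0 u1 u2 u3 u4 hn_1_0 hn_2_0 hn_2_1 hn_3_0 hn_3_1 hn_3_2 hn_4_0 hn_4_1 hn_4_2 hn_4_3
                        have r_0 : -2 * T.m u0 + 1 * T.m u1 = 0 := by
                          have key := Groth.Agent.Helper6.NT.rowfun5 T u0 u1 u2 u3 u4 hinj u0
                          rw [(h2 u0).2, tap_0_1, z_0_2, z_0_3, z_0_4] at key
                          exact mul_left_cancel₀ (T.w_pos u0).ne' (by linarith only [key])
                        have r_1 : 2 * T.m u0 + -2 * T.m u1 + 1 * T.m u2 = 0 := by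
                          have key := Groth.Agent.Helper6.NT.rowfun5 T u0 u1 u2 u3 u4 hinj u1
                          rw [Groth.Agent.Helper6.NT.symm' T u1 u0, taq_0_1, (h2 u1).2, tap_1_2, z_1_3, z_1_4] at key
                          exact mul_left_cancel₀ (T.w_pos u1).ne' (by linarith only [key])
                        have r_2 : 1 * T.m u1 + -2 * T.m u2 + 1 * T.m u3 = 0 := by
                          have key := Groth.Agent.Helper6.NT.rowfun5 T u0 u1 u2 u3 u4 hinj u2
                          rw [Groth.Agent.Helper6.NT.symm' T u2 u0, z_0_2, Groth.Agent.Helper6.NT.symm' T u2 u1, taq_1_2, (h2 u2).2, tap_2_3, z_2_4] at key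
                          exact mul_left_cancel₀ (T.w_pos u2).ne' (by linarith only [key])
                        have r_3 : 1 * T.m u2 + -2 * T.m u3 + 1 * T.m u4 = 0 := by
                          have key := Groth.Agent.Helper6.NT.rowfun5 T u0 u1 u2 u3 u4 hinj u3
                          rw [Groth.Agent.Helper6.NT.symm' T u3 u0, z_0_3, Groth.Agent.Helper6.NT.symm' T u3 u1, z_1_3, Groth.Agent.Helper6.NT.symm' T u3 u2, taq_2_3, (h2 u3).2, tap_3_4] at key
                          exact mul_left_cancel₀ (T.w_pos u3).ne' (by linarith only [key])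
                        have r_4 : 2 * T.m u3 + -2 * T.m u4 = 0 := by
                          have key := Groth.Agent.Helper6.NT.rowfun5 T u0 u1 u2 u3 u4 hinj u4
                          rw [Groth.Agent.Helper6.NT.symm' T u4 u0, z_0_4, Groth.Agent.Helper6.NT.symm' T u4 u1, z_1_4, Groth.Agent.Helper6.NT.symm' T u4 u2, z_2_4, Groth.Agent.Helper6.NT.symm' T u4 u3, taq_3_4, (h2 u4).2] at key
                          exact mul_left_cancel₀ (T.w_pos u4).ne' (by linarith only [key])
                        have f0 : T.m u4 = 2 * T.m u0 := by linarith only [r_0, r_1, r_2, r_3, r_4]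
                        have f1 : T.m u3 = 2 * T.m u0 := by linarith only [r_0, r_1, r_2, r_3, r_4]
                        have f2 : T.m u2 = 2 * T.m u0 := by linarith only [r_0, r_1, r_2, r_3, r_4]
                        have f3 : T.m u1 = 2 * T.m u0 := by linarith only [r_0, r_1, r_2, r_3, r_4]
                        have f4 : T.m u0 = T.m u0 := rfl
                        have f5 : T.w u4 = T.w u4 := rfl
                        have f6 : T.w u3 = 2 * T.w u4 := by linarith only [tw_0_1, tw_1_2, tw_2_3, tw_3_4]
                        have f7 : T.w u2 = 2 * T.w u4 := by linarith only [tw_0_1, tw_1_2, tw_2_3, tw_3_4]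
                        have f8 : T.w u1 = 2 * T.w u4 := by linarith only [tw_0_1, tw_1_2, tw_2_3, tw_3_4]
                        have f9 : T.w u0 = 4 * T.w u4 := by linarith only [tw_0_1, tw_1_2, tw_2_3, tw_3_4]
                        have f10 : T.a u4 u4 = -2 * T.w u4 := by have := (h2 u4).2; linarith only [this, tw_0_1, tw_1_2, tw_2_3, tw_3_4]
                        have f11 : T.a u4 u3 = 2 * T.w u4 := by rw [Groth.Agent.Helper6.NT.symm' T u4 u3]; linarith only [tap_3_4, tw_0_1, tw_1_2, tw_2_3, tw_3_4]
                        have f12 : T.a u4 u2 = 0 := by rw [Groth.Agent.Helper6.NT.symm' T u4 u2]; exact z_2_4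
                        have f13 : T.a u4 u1 = 0 := by rw [Groth.Agent.Helper6.NT.symm' T u4 u1]; exact z_1_4
                        have f14 : T.a u4 u0 = 0 := by rw [Groth.Agent.Helper6.NT.symm' T u4 u0]; exact z_0_4
                        have f15 : T.a u3 u3 = -4 * T.w u4 := by have := (h2 u3).2; linarith only [this, tw_0_1, tw_1_2, tw_2_3, tw_3_4]
                        have f16 : T.a u3 u2 = 2 * T.w u4 := by rw [Groth.Agent.Helper6.NT.symm' T u3 u2]; linarith only [tap_2_3, tw_0_1, tw_1_2, tw_2_3, tw_3_4]
                        have f17 : T.a u3 u1 = 0 := by rw [Groth.Agent.Helper6.NT.symm' T u3 u1]; exact z_1_3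
                        have f18 : T.a u3 u0 = 0 := by rw [Groth.Agent.Helper6.NT.symm' T u3 u0]; exact z_0_3
                        have f19 : T.a u2 u2 = -4 * T.w u4 := by have := (h2 u2).2; linarith only [this, tw_0_1, tw_1_2, tw_2_3, tw_3_4]
                        have f20 : T.a u2 u1 = 2 * T.w u4 := by rw [Groth.Agent.Helper6.NT.symm' T u2 u1]; linarith only [tap_1_2, tw_0_1, tw_1_2, tw_2_3, tw_3_4]
                        have f21 : T.a u2 u0 = 0 := by rw [Groth.Agent.Helper6.NT.symm' T u2 u0]; exact z_0_2
                        have f22 : T.a u1 u1 = -4 * T.w u4 := by have := (h2 u1).2; linarith only [this, tw_0_1, tw_1_2, tw_2_3, tw_3_4]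
                        have f23 : T.a u1 u0 = 4 * T.w u4 := by rw [Groth.Agent.Helper6.NT.symm' T u1 u0]; linarith only [tap_0_1, tw_0_1, tw_1_2, tw_2_3, tw_3_4]
                        have f24 : T.a u0 u0 = -8 * T.w u4 := by have := (h2 u0).2; linarith only [this, tw_0_1, tw_1_2, tw_2_3, tw_3_4]
                        have hsig := Groth.Agent.Helper6.NT.inj5 u4 u3 u2 u1 u0 hn_4_3.symm hn_4_2.symm hn_3_2.symm hn_4_1.symm hn_3_1.symm hn_2_1.symm hn_4_0.symm hn_3_0.symm hn_2_0.symm hn_1_0.symm
                        exact ⟨Equiv.ofBijective _ (Finite.injective_iff_bijective.1 hsig), T.m u0, T.w u4, Or.inr (Or.inr (Or.inr (Or.inl ⟨f0, f1, f2, f3, f4, f5, f6, f7, f8, f9, f10, f11, f12, f13, f14, f15, f16, f17, f18, f19, f20, f21, f22, f23, f24⟩)))⟩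
                      · -- (3,4) Tp
                        exfalso
                        have key := Groth.Agent.Helper6.NT.negfun3 T h2 u2 u3 u4 (by norm_num) 1 2 1 (by norm_num) (by norm_num)
                        linarith only [key, tap_2_3, taq_2_3, z_2_4, tap_3_4, taq_3_4, T.w_pos u2, T.w_pos u3, T.w_pos u4]
                      · -- (3,4) Tm
                        exfalso
                        have key := Groth.Agent.Helper6.NT.negfun3 T h2 u2 u3 u4 (by norm_num) 1 2 3 (by norm_num) (by norm_num)
                        linarith only [key, tap_2_3, taq_2_3, z_2_4, tap_3_4, taq_3_4, T.w_pos u2, T.w_pos u3, T.w_pos u4]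
                    · push Not at hx
                      have cl_3 := hx
                      clear hx
                      exfalso
                      refine Groth.Agent.Helper6.NT.closed_contra T [u0, u1, u2, u3] (by simp) (by simp) ?_
                      intro i hi j hj
                      simp only [List.mem_cons, List.not_mem_nil, or_false, not_or] at hi hj
                      rcases hi with rfl | rfl | rfl | rfl
                      · exact cl_0 j ⟨hj.1, hj.2.1⟩
                      · exact cl_1 j ⟨hj.1, hj.2.1, hj.2.2.1⟩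
                      · exact cl_2 j ⟨hj.1, hj.2.1, hj.2.2.1, hj.2.2.2⟩
                      · exact cl_3 j ⟨hj.1, hj.2.1, hj.2.2.1, hj.2.2.2⟩
                · -- (2,3) Dp
                  exfalso
                  have key := Groth.Agent.Helper6.NT.negfun4 T h2 u0 u1 u2 u3 (by norm_num) 1 2 2 1 (by norm_num) (by norm_num)
                  linarith only [key, tap_0_1, taq_0_1, z_0_2, z_0_3, tap_1_2, taq_1_2, z_1_3, tap_2_3, taq_2_3, T.w_pos u0, T.w_pos u1, T.w_pos u2, T.w_pos u3]
                · -- (2,3) Dm
                  exfalso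
                  have key := Groth.Agent.Helper6.NT.negfun4 T h2 u0 u1 u2 u3 (by norm_num) 1 2 2 2 (by norm_num) (by norm_num)
                  linarith only [key, tap_0_1, taq_0_1, z_0_2, z_0_3, tap_1_2, taq_1_2, z_1_3, tap_2_3, taq_2_3, T.w_pos u0, T.w_pos u1, T.w_pos u2, T.w_pos u3]
                · -- (2,3) Tp
                  exfalso
                  have key := Groth.Agent.Helper6.NT.negfun3 T h2 u1 u2 u3 (by norm_num) 1 2 1 (by norm_num) (by norm_num)
                  linarith only [key, tap_1_2, taq_1_2, z_1_3, tap_2_3, taq_2_3, T.w_pos u1, T.w_pos u2, T.w_pos u3]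
                · -- (2,3) Tm
                  exfalso
                  have key := Groth.Agent.Helper6.NT.negfun3 T h2 u1 u2 u3 (by norm_num) 1 2 3 (by norm_num) (by norm_num)
                  linarith only [key, tap_1_2, taq_1_2, z_1_3, tap_2_3, taq_2_3, T.w_pos u1, T.w_pos u2, T.w_pos u3]
              · push Not at hx
                have cl_2 := hx
                clear hx
                exfalso
                refine Groth.Agent.Helper6.NT.closed_contra T [u0, u1, u2] (by simp) (by simp) ?_
                intro i hi j hj
                simp only [List.mem_cons, List.not_mem_nil, or_false, not_or] at hi hj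
                rcases hi with rfl | rfl | rfl
                · exact cl_0 j ⟨hj.1, hj.2.1⟩
                · exact cl_1 j ⟨hj.1, hj.2.1, hj.2.2⟩
                · exact cl_2 j ⟨hj.1, hj.2.1, hj.2.2⟩
          · -- (1,2) Dp
            exfalso
            have key := Groth.Agent.Helper6.NT.negfun3 T h2 u0 u1 u2 (by norm_num) 1 2 1 (by norm_num) (by norm_num)
            linarith only [key, tap_0_1, taq_0_1, z_0_2, tap_1_2, taq_1_2, T.w_pos u0, T.w_pos u1, T.w_pos u2]
          · -- (1,2) Dm
            exfalso
            have key := Groth.Agent.Helper6.NT.negfun3 T h2 u0 u1 u2 (by norm_num) 1 2 2 (by norm_num) (by norm_num)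
            linarith only [key, tap_0_1, taq_0_1, z_0_2, tap_1_2, taq_1_2, T.w_pos u0, T.w_pos u1, T.w_pos u2]
          · -- (1,2) Tp
            exfalso
            have key := Groth.Agent.Helper6.NT.negfun3 T h2 u0 u1 u2 (by norm_num) 1 2 1 (by norm_num) (by norm_num)
            linarith only [key, tap_0_1, taq_0_1, z_0_2, tap_1_2, taq_1_2, T.w_pos u0, T.w_pos u1, T.w_pos u2]
          · -- (1,2) Tm
            exfalso
            have key := Groth.Agent.Helper6.NT.negfun3 T h2 u0 u1 u2 (by norm_num) 1 2 3 (by norm_num) (by norm_num)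
            linarith only [key, tap_0_1, taq_0_1, z_0_2, tap_1_2, taq_1_2, T.w_pos u0, T.w_pos u1, T.w_pos u2]
        · push Not at hx
          have cl_1 := hx
          clear hx
          exfalso
          refine Groth.Agent.Helper6.NT.closed_contra T [u0, u1] (by simp) (by simp) ?_
          intro i hi j hj
          simp only [List.mem_cons, List.not_mem_nil, or_false, not_or] at hi hj
          rcases hi with rfl | rfl
          · exact cl_0 j ⟨hj.1, hj.2⟩
          · exact cl_1 j ⟨hj.1, hj.2⟩
    · -- (0,1) Tp
      by_cases hx : ∃ j, (j ≠ u0 ∧ j ≠ u1) ∧ T.a u0 j ≠ 0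
      · obtain ⟨u2, ⟨hn_2_0, hn_2_1⟩, e_0_2⟩ := hx
        rcases Groth.Agent.Helper6.NT.edge5 T h2 (by norm_num) u0 u2 hn_2_0.symm e_0_2 with ⟨tw_0_2, tap_0_2, taq_0_2⟩ | ⟨tw_0_2, tap_0_2, taq_0_2⟩ | ⟨tw_0_2, tap_0_2, taq_0_2⟩ | ⟨tw_0_2, tap_0_2, taq_0_2⟩ | ⟨tw_0_2, tap_0_2, taq_0_2⟩
        · -- (0,2) S
          exfalso
          have key := Groth.Agent.Helper6.NT.negfun3 T h2 u0 u1 u2 (by norm_num) 2 1 1 (by norm_num) (by norm_num)
          linarith only [key, tap_0_1, taq_0_1, tap_0_2, taq_0_2, T.offDiag_nonneg u1 u2 hn_2_1.symm, T.w_pos u0, T.w_pos u1, T.w_pos u2]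
        · -- (0,2) Dp
          exfalso
          have key := Groth.Agent.Helper6.NT.negfun3 T h2 u0 u1 u2 (by norm_num) 2 1 1 (by norm_num) (by norm_num)
          linarith only [key, tap_0_1, taq_0_1, tap_0_2, taq_0_2, T.offDiag_nonneg u1 u2 hn_2_1.symm, T.w_pos u0, T.w_pos u1, T.w_pos u2]
        · -- (0,2) Dm
          exfalso
          have key := Groth.Agent.Helper6.NT.negfun3 T h2 u0 u1 u2 (by norm_num) 2 1 2 (by norm_num) (by norm_num)
          linarith only [key, tap_0_1, taq_0_1, tap_0_2, taq_0_2, T.offDiag_nonneg u1 u2 hn_2_1.symm, T.w_pos u0, T.w_pos u1, T.w_pos u2]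
        · -- (0,2) Tp
          exfalso
          have key := Groth.Agent.Helper6.NT.negfun3 T h2 u0 u1 u2 (by norm_num) 2 1 1 (by norm_num) (by norm_num)
          linarith only [key, tap_0_1, taq_0_1, tap_0_2, taq_0_2, T.offDiag_nonneg u1 u2 hn_2_1.symm, T.w_pos u0, T.w_pos u1, T.w_pos u2]
        · -- (0,2) Tm
          exfalso
          have key := Groth.Agent.Helper6.NT.negfun3 T h2 u0 u1 u2 (by norm_num) 2 1 3 (by norm_num) (by norm_num)
          linarith only [key, tap_0_1, taq_0_1, tap_0_2, taq_0_2, T.offDiag_nonneg u1 u2 hn_2_1.symm, T.w_pos u0, T.w_pos u1, T.w_pos u2]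
      · push Not at hx
        have cl_0 := hx
        clear hx
        by_cases hx : ∃ j, (j ≠ u0 ∧ j ≠ u1) ∧ T.a u1 j ≠ 0
        · obtain ⟨u2, ⟨hn_2_0, hn_2_1⟩, e_1_2⟩ := hx
          have z_0_2 : T.a u0 u2 = 0 := cl_0 u2 ⟨hn_2_0, hn_2_1⟩
          rcases Groth.Agent.Helper6.NT.edge5 T h2 (by norm_num) u1 u2 hn_2_1.symm e_1_2 with ⟨tw_1_2, tap_1_2, taq_1_2⟩ | ⟨tw_1_2, tap_1_2, taq_1_2⟩ | ⟨tw_1_2, tap_1_2, taq_1_2⟩ | ⟨tw_1_2, tap_1_2, taq_1_2⟩ | ⟨tw_1_2, tap_1_2, taq_1_2⟩
          · -- (1,2) S
            exfalso
            have key := Groth.Agent.Helper6.NT.negfun3 T h2 u0 u1 u2 (by norm_num) 3 2 1 (by norm_num) (by norm_num)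
            linarith only [key, tap_0_1, taq_0_1, z_0_2, tap_1_2, taq_1_2, T.w_pos u0, T.w_pos u1, T.w_pos u2]
          · -- (1,2) Dp
            exfalso
            have key := Groth.Agent.Helper6.NT.negfun3 T h2 u0 u1 u2 (by norm_num) 3 2 1 (by norm_num) (by norm_num)
            linarith only [key, tap_0_1, taq_0_1, z_0_2, tap_1_2, taq_1_2, T.w_pos u0, T.w_pos u1, T.w_pos u2]
          · -- (1,2) Dm
            exfalso
            have key := Groth.Agent.Helper6.NT.negfun3 T h2 u0 u1 u2 (by norm_num) 3 2 2 (by norm_num) (by norm_num)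
            linarith only [key, tap_0_1, taq_0_1, z_0_2, tap_1_2, taq_1_2, T.w_pos u0, T.w_pos u1, T.w_pos u2]
          · -- (1,2) Tp
            exfalso
            have key := Groth.Agent.Helper6.NT.negfun3 T h2 u0 u1 u2 (by norm_num) 3 2 1 (by norm_num) (by norm_num)
            linarith only [key, tap_0_1, taq_0_1, z_0_2, tap_1_2, taq_1_2, T.w_pos u0, T.w_pos u1, T.w_pos u2]
          · -- (1,2) Tm
            exfalso
            have key := Groth.Agent.Helper6.NT.negfun3 T h2 u0 u1 u2 (by norm_num) 1 1 1 (by norm_num) (by norm_num)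
            linarith only [key, tap_0_1, taq_0_1, z_0_2, tap_1_2, taq_1_2, T.w_pos u0, T.w_pos u1, T.w_pos u2]
        · push Not at hx
          have cl_1 := hx
          clear hx
          exfalso
          refine Groth.Agent.Helper6.NT.closed_contra T [u0, u1] (by simp) (by simp) ?_
          intro i hi j hj
          simp only [List.mem_cons, List.not_mem_nil, or_false, not_or] at hi hj
          rcases hi with rfl | rfl
          · exact cl_0 j ⟨hj.1, hj.2⟩
          · exact cl_1 j ⟨hj.1, hj.2⟩
    · -- (0,1) Tm
      by_cases hx : ∃ j, (j ≠ u0 ∧ j ≠ u1) ∧ T.a u0 j ≠ 0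
      · obtain ⟨u2, ⟨hn_2_0, hn_2_1⟩, e_0_2⟩ := hx
        rcases Groth.Agent.Helper6.NT.edge5 T h2 (by norm_num) u0 u2 hn_2_0.symm e_0_2 with ⟨tw_0_2, tap_0_2, taq_0_2⟩ | ⟨tw_0_2, tap_0_2, taq_0_2⟩ | ⟨tw_0_2, tap_0_2, taq_0_2⟩ | ⟨tw_0_2, tap_0_2, taq_0_2⟩ | ⟨tw_0_2, tap_0_2, taq_0_2⟩
        · -- (0,2) S
          exfalso
          have key := Groth.Agent.Helper6.NT.negfun3 T h2 u0 u1 u2 (by norm_num) 2 3 1 (by norm_num) (by norm_num)
          linarith only [key, tap_0_1, taq_0_1, tap_0_2, taq_0_2, T.offDiag_nonneg u1 u2 hn_2_1.symm, T.w_pos u0, T.w_pos u1, T.w_pos u2]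
        · -- (0,2) Dp
          exfalso
          have key := Groth.Agent.Helper6.NT.negfun3 T h2 u0 u1 u2 (by norm_num) 2 3 1 (by norm_num) (by norm_num)
          linarith only [key, tap_0_1, taq_0_1, tap_0_2, taq_0_2, T.offDiag_nonneg u1 u2 hn_2_1.symm, T.w_pos u0, T.w_pos u1, T.w_pos u2]
        · -- (0,2) Dm
          exfalso
          have key := Groth.Agent.Helper6.NT.negfun3 T h2 u0 u1 u2 (by norm_num) 2 3 2 (by norm_num) (by norm_num)
          linarith only [key, tap_0_1, taq_0_1, tap_0_2, taq_0_2, T.offDiag_nonneg u1 u2 hn_2_1.symm, T.w_pos u0, T.w_pos u1, T.w_pos u2]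
        · -- (0,2) Tp
          exfalso
          have key := Groth.Agent.Helper6.NT.negfun3 T h2 u0 u1 u2 (by norm_num) 2 3 1 (by norm_num) (by norm_num)
          linarith only [key, tap_0_1, taq_0_1, tap_0_2, taq_0_2, T.offDiag_nonneg u1 u2 hn_2_1.symm, T.w_pos u0, T.w_pos u1, T.w_pos u2]
        · -- (0,2) Tm
          exfalso
          have key := Groth.Agent.Helper6.NT.negfun3 T h2 u0 u1 u2 (by norm_num) 1 1 1 (by norm_num) (by norm_num)
          linarith only [key, tap_0_1, taq_0_1, tap_0_2, taq_0_2, T.offDiag_nonneg u1 u2 hn_2_1.symm, T.w_pos u0, T.w_pos u1, T.w_pos u2]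
      · push Not at hx
        have cl_0 := hx
        clear hx
        by_cases hx : ∃ j, (j ≠ u0 ∧ j ≠ u1) ∧ T.a u1 j ≠ 0
        · obtain ⟨u2, ⟨hn_2_0, hn_2_1⟩, e_1_2⟩ := hx
          have z_0_2 : T.a u0 u2 = 0 := cl_0 u2 ⟨hn_2_0, hn_2_1⟩
          rcases Groth.Agent.Helper6.NT.edge5 T h2 (by norm_num) u1 u2 hn_2_1.symm e_1_2 with ⟨tw_1_2, tap_1_2, taq_1_2⟩ | ⟨tw_1_2, tap_1_2, taq_1_2⟩ | ⟨tw_1_2, tap_1_2, taq_1_2⟩ | ⟨tw_1_2, tap_1_2, taq_1_2⟩ | ⟨tw_1_2, tap_1_2, taq_1_2⟩
          · -- (1,2) S
            exfalso
            have key := Groth.Agent.Helper6.NT.negfun3 T h2 u0 u1 u2 (by norm_num) 1 2 1 (by norm_num) (by norm_num)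
            linarith only [key, tap_0_1, taq_0_1, z_0_2, tap_1_2, taq_1_2, T.w_pos u0, T.w_pos u1, T.w_pos u2]
          · -- (1,2) Dp
            exfalso
            have key := Groth.Agent.Helper6.NT.negfun3 T h2 u0 u1 u2 (by norm_num) 1 2 1 (by norm_num) (by norm_num)
            linarith only [key, tap_0_1, taq_0_1, z_0_2, tap_1_2, taq_1_2, T.w_pos u0, T.w_pos u1, T.w_pos u2]
          · -- (1,2) Dm
            exfalso
            have key := Groth.Agent.Helper6.NT.negfun3 T h2 u0 u1 u2 (by norm_num) 1 2 2 (by norm_num) (by norm_num)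
            linarith only [key, tap_0_1, taq_0_1, z_0_2, tap_1_2, taq_1_2, T.w_pos u0, T.w_pos u1, T.w_pos u2]
          · -- (1,2) Tp
            exfalso
            have key := Groth.Agent.Helper6.NT.negfun3 T h2 u0 u1 u2 (by norm_num) 1 2 1 (by norm_num) (by norm_num)
            linarith only [key, tap_0_1, taq_0_1, z_0_2, tap_1_2, taq_1_2, T.w_pos u0, T.w_pos u1, T.w_pos u2]
          · -- (1,2) Tm
            exfalso
            have key := Groth.Agent.Helper6.NT.negfun3 T h2 u0 u1 u2 (by norm_num) 1 2 3 (by norm_num) (by norm_num)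
            linarith only [key, tap_0_1, taq_0_1, z_0_2, tap_1_2, taq_1_2, T.w_pos u0, T.w_pos u1, T.w_pos u2]
        · push Not at hx
          have cl_1 := hx
          clear hx
          exfalso
          refine Groth.Agent.Helper6.NT.closed_contra T [u0, u1] (by simp) (by simp) ?_
          intro i hi j hj
          simp only [List.mem_cons, List.not_mem_nil, or_false, not_or] at hi hj
          rcases hi with rfl | rfl
          · exact cl_0 j ⟨hj.1, hj.2⟩
          · exact cl_1 j ⟨hj.1, hj.2⟩
  · push Not at hx
    have cl_0 := hx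
    clear hx
    exfalso
    refine Groth.Agent.Helper6.NT.closed_contra T [u0] (by simp) (by simp) ?_
    intro i hi j hj
    simp only [List.mem_cons, List.not_mem_nil, or_false, not_or] at hi hj
    subst hi
    · exact cl_0 j hj

end Groth.Agent.S7365
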