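import Groth.Statements.S7367
import Groth.Agent.Lib.Helper6.NumType16

set_option autoImplicit false
open Finset
open Models Models.NumericalType

namespace Groth.Agent.S7367

/-- Genus one classification: case n = 6: let T be a minimal numerical type of genus 1 on 6 indices.
Then all g_i = 0 and, for some permutation σ of the indices and some integers m, w, the
multiplicities, weights and intersection matrix (m_{σ(i)}, w_{σ(i)}, a_{σ(i)σ(j)}) are those of one
of the following 7 types: [cycle] m = (m, m, m, m, m, m), w = (w, w, w, w, w, w), a = (-2 * w w 0 0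
0 w / w -2 * w w 0 0 0 / 0 w -2 * w w 0 0 / 0 0 w -2 * w w 0 / 0 0 0 w -2 * w w / w 0 0 0 w -2 * w);
[up chain equal up] m = (2 * m, 2 * m, 2 * m, 2 * m, 2 * m, m), w = (w, 2 * w, 2 * w, 2 * w, 2 * w,
4 * w), a = (-2 * w 2 * w 0 0 0 0 / 2 * w -4 * w 2 * w 0 0 0 / 0 2 * w -4 * w 2 * w 0 0 / 0 0 2 * w
-4 * w 2 * w 0 / 0 0 0 2 * w -4 * w 4 * w / 0 0 0 0 4 * w -8 * w); [up chain equal down] m = (m, m,
m, m, m, m), w = (w, 2 * w, 2 * w, 2 * w, 2 * w, w), a = (-2 * w 2 * w 0 0 0 0 / 2 * w -4 * w 2 * w
0 0 0 / 0 2 * w -4 * w 2 * w 0 0 / 0 0 2 * w -4 * w 2 * w 0 / 0 0 0 2 * w -4 * w 2 * w / 0 0 0 0 2 *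
w -2 * w); [down chain equal up] m = (m, 2 * m, 2 * m, 2 * m, 2 * m, m), w = (2 * w, w, w, w, w, 2 *
w), a = (-4 * w 2 * w 0 0 0 0 / 2 * w -2 * w w 0 0 0 / 0 w -2 * w w 0 0 / 0 0 w -2 * w w 0 / 0 0 0 w
-2 * w 2 * w / 0 0 0 0 2 * w -4 * w); [D extended up] m = (m, 2 * m, 2 * m, 2 * m, m, m), w = (2 *
w, w, w, w, w, w), a = (-4 * w 2 * w 0 0 0 0 / 2 * w -2 * w w 0 0 0 / 0 w -2 * w w 0 0 / 0 0 w -2 *
w w w / 0 0 0 w -2 * w 0 / 0 0 0 w 0 -2 * w); [D extended down] m = (2 * m, 2 * m, 2 * m, 2 * m, m,
m), w = (w, 2 * w, 2 * w, 2 * w, 2 * w, 2 * w), a = (-2 * w 2 * w 0 0 0 0 / 2 * w -4 * w 2 * w 0 0 0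
/ 0 2 * w -4 * w 2 * w 0 0 / 0 0 2 * w -4 * w 2 * w 2 * w / 0 0 0 2 * w -4 * w 0 / 0 0 0 2 * w 0 -4
* w); [double triple] m = (m, m, 2 * m, 2 * m, m, m), w = (w, w, w, w, w, w), a = (-2 * w 0 w 0 0 0
/ 0 -2 * w w 0 0 0 / w w -2 * w w 0 0 / 0 0 w -2 * w w w / 0 0 0 w -2 * w 0 / 0 0 0 w 0 -2 * w).
Only the classification direction is stated. (In the family with weights (w, 2w, …, 2w, w) the
consecutive intersection numbers are 2w, as divisibility by the weights forces; the published list
prints w there, and omits m_{n-2} = 2m in the two D-type families.) -/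
theorem result (T : Models.NumericalType 6) (hmin : T.IsMinimal) (hg : T.genus = 1) :
    (∀ i, T.g i = 0) ∧ ∃ (σ : Equiv.Perm (Fin 6)) (m w : ℤ),
      ((T.m (σ 0) = m ∧ T.m (σ 1) = m ∧ T.m (σ 2) = m ∧ T.m (σ 3) = m ∧ T.m (σ 4) = m ∧ T.m (σ 5) = m ∧ T.w (σ 0) = w ∧ T.w (σ 1) = w ∧ T.w (σ 2) = w ∧ T.w (σ 3) = w ∧ T.w (σ 4) = w ∧ T.w (σ 5) = w ∧ T.a (σ 0) (σ 0) = -2 * w ∧ T.a (σ 0) (σ 1) = w ∧ T.a (σ 0) (σ 2) = 0 ∧ T.a (σ 0) (σ 3) = 0 ∧ T.a (σ 0) (σ 4) = 0 ∧ T.a (σ 0) (σ 5) = w ∧ T.a (σ 1) (σ 1) = -2 * w ∧ T.a (σ 1) (σ 2) = w ∧ T.a (σ 1) (σ 3) = 0 ∧ T.a (σ 1) (σ 4) = 0 ∧ T.a (σ 1) (σ 5) = 0 ∧ T.a (σ 2) (σ 2) = -2 * w ∧ T.a (σ 2) (σ 3) = w ∧ T.a (σ 2) (σ 4) = 0 ∧ T.a (σ 2) (σ 5) = 0 ∧ T.a (σ 3) (σ 3) = -2 * w ∧ T.a (σ 3) (σ 4) = w ∧ T.a (σ 3) (σ 5) = 0 ∧ T.a (σ 4) (σ 4) = -2 * w ∧ T.a (σ 4) (σ 5) = w ∧ T.a (σ 5) (σ 5) = -2 * w) ∨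
      (T.m (σ 0) = 2 * m ∧ T.m (σ 1) = 2 * m ∧ T.m (σ 2) = 2 * m ∧ T.m (σ 3) = 2 * m ∧ T.m (σ 4) = 2 * m ∧ T.m (σ 5) = m ∧ T.w (σ 0) = w ∧ T.w (σ 1) = 2 * w ∧ T.w (σ 2) = 2 * w ∧ T.w (σ 3) = 2 * w ∧ T.w (σ 4) = 2 * w ∧ T.w (σ 5) = 4 * w ∧ T.a (σ 0) (σ 0) = -2 * w ∧ T.a (σ 0) (σ 1) = 2 * w ∧ T.a (σ 0) (σ 2) = 0 ∧ T.a (σ 0) (σ 3) = 0 ∧ T.a (σ 0) (σ 4) = 0 ∧ T.a (σ 0) (σ 5) = 0 ∧ T.a (σ 1) (σ 1) = -4 * w ∧ T.a (σ 1) (σ 2) = 2 * w ∧ T.a (σ 1) (σ 3) = 0 ∧ T.a (σ 1) (σ 4) = 0 ∧ T.a (σ 1) (σ 5) = 0 ∧ T.a (σ 2) (σ 2) = -4 * w ∧ T.a (σ 2) (σ 3) = 2 * w ∧ T.a (σ 2) (σ 4) = 0 ∧ T.a (σ 2) (σ 5) = 0 ∧ T.a (σ 3) (σ 3) = -4 * w ∧ T.a (σ 3) (σ 4) = 2 * w ∧ T.a (σ 3) (σ 5) = 0 ∧ T.a (σ 4) (σ 4) = -4 * w ∧ T.a (σ 4) (σ 5) = 4 * w ∧ T.a (σ 5) (σ 5) = -8 * w) ∨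
      (T.m (σ 0) = m ∧ T.m (σ 1) = m ∧ T.m (σ 2) = m ∧ T.m (σ 3) = m ∧ T.m (σ 4) = m ∧ T.m (σ 5) = m ∧ T.w (σ 0) = w ∧ T.w (σ 1) = 2 * w ∧ T.w (σ 2) = 2 * w ∧ T.w (σ 3) = 2 * w ∧ T.w (σ 4) = 2 * w ∧ T.w (σ 5) = w ∧ T.a (σ 0) (σ 0) = -2 * w ∧ T.a (σ 0) (σ 1) = 2 * w ∧ T.a (σ 0) (σ 2) = 0 ∧ T.a (σ 0) (σ 3) = 0 ∧ T.a (σ 0) (σ 4) = 0 ∧ T.a (σ 0) (σ 5) = 0 ∧ T.a (σ 1) (σ 1) = -4 * w ∧ T.a (σ 1) (σ 2) = 2 * w ∧ T.a (σ 1) (σ 3) = 0 ∧ T.a (σ 1) (σ 4) = 0 ∧ T.a (σ 1) (σ 5) = 0 ∧ T.a (σ 2) (σ 2) = -4 * w ∧ T.a (σ 2) (σ 3) = 2 * w ∧ T.a (σ 2) (σ 4) = 0 ∧ T.a (σ 2) (σ 5) = 0 ∧ T.a (σ 3) (σ 3) = -4 * w ∧ T.a (σ 3) (σ 4) = 2 * w ∧ T.a (σ 3) (σ 5) = 0 ∧ T.a (σ 4) (σ 4) = -4 * w ∧ T.a (σ 4) (σ 5) = 2 * w ∧ T.a (σ 5) (σ 5) = -2 * w) ∨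
      (T.m (σ 0) = m ∧ T.m (σ 1) = 2 * m ∧ T.m (σ 2) = 2 * m ∧ T.m (σ 3) = 2 * m ∧ T.m (σ 4) = 2 * m ∧ T.m (σ 5) = m ∧ T.w (σ 0) = 2 * w ∧ T.w (σ 1) = w ∧ T.w (σ 2) = w ∧ T.w (σ 3) = w ∧ T.w (σ 4) = w ∧ T.w (σ 5) = 2 * w ∧ T.a (σ 0) (σ 0) = -4 * w ∧ T.a (σ 0) (σ 1) = 2 * w ∧ T.a (σ 0) (σ 2) = 0 ∧ T.a (σ 0) (σ 3) = 0 ∧ T.a (σ 0) (σ 4) = 0 ∧ T.a (σ 0) (σ 5) = 0 ∧ T.a (σ 1) (σ 1) = -2 * w ∧ T.a (σ 1) (σ 2) = w ∧ T.a (σ 1) (σ 3) = 0 ∧ T.a (σ 1) (σ 4) = 0 ∧ T.a (σ 1) (σ 5) = 0 ∧ T.a (σ 2) (σ 2) = -2 * w ∧ T.a (σ 2) (σ 3) = w ∧ T.a (σ 2) (σ 4) = 0 ∧ T.a (σ 2) (σ 5) = 0 ∧ T.a (σ 3) (σ 3) = -2 * w ∧ T.a (σ 3) (σ 4) = w ∧ T.a (σ 3) (σ 5) = 0 ∧ T.a (σ 4) (σ 4) = -2 * w ∧ T.a (σ 4) (σ 5) = 2 * w ∧ T.a (σ 5) (σ 5) = -4 * w) ∨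
      (T.m (σ 0) = m ∧ T.m (σ 1) = 2 * m ∧ T.m (σ 2) = 2 * m ∧ T.m (σ 3) = 2 * m ∧ T.m (σ 4) = m ∧ T.m (σ 5) = m ∧ T.w (σ 0) = 2 * w ∧ T.w (σ 1) = w ∧ T.w (σ 2) = w ∧ T.w (σ 3) = w ∧ T.w (σ 4) = w ∧ T.w (σ 5) = w ∧ T.a (σ 0) (σ 0) = -4 * w ∧ T.a (σ 0) (σ 1) = 2 * w ∧ T.a (σ 0) (σ 2) = 0 ∧ T.a (σ 0) (σ 3) = 0 ∧ T.a (σ 0) (σ 4) = 0 ∧ T.a (σ 0) (σ 5) = 0 ∧ T.a (σ 1) (σ 1) = -2 * w ∧ T.a (σ 1) (σ 2) = w ∧ T.a (σ 1) (σ 3) = 0 ∧ T.a (σ 1) (σ 4) = 0 ∧ T.a (σ 1) (σ 5) = 0 ∧ T.a (σ 2) (σ 2) = -2 * w ∧ T.a (σ 2) (σ 3) = w ∧ T.a (σ 2) (σ 4) = 0 ∧ T.a (σ 2) (σ 5) = 0 ∧ T.a (σ 3) (σ 3) = -2 * w ∧ T.a (σ 3) (σ 4) = w ∧ T.a (σ 3) (σ 5) = w ∧ T.a (σ 4) (σ 4) = -2 * w ∧ T.a (σ 4) (σ 5) = 0 ∧ T.a (σ 5) (σ 5) = -2 * w) ∨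
      (T.m (σ 0) = 2 * m ∧ T.m (σ 1) = 2 * m ∧ T.m (σ 2) = 2 * m ∧ T.m (σ 3) = 2 * m ∧ T.m (σ 4) = m ∧ T.m (σ 5) = m ∧ T.w (σ 0) = w ∧ T.w (σ 1) = 2 * w ∧ T.w (σ 2) = 2 * w ∧ T.w (σ 3) = 2 * w ∧ T.w (σ 4) = 2 * w ∧ T.w (σ 5) = 2 * w ∧ T.a (σ 0) (σ 0) = -2 * w ∧ T.a (σ 0) (σ 1) = 2 * w ∧ T.a (σ 0) (σ 2) = 0 ∧ T.a (σ 0) (σ 3) = 0 ∧ T.a (σ 0) (σ 4) = 0 ∧ T.a (σ 0) (σ 5) = 0 ∧ T.a (σ 1) (σ 1) = -4 * w ∧ T.a (σ 1) (σ 2) = 2 * w ∧ T.a (σ 1) (σ 3) = 0 ∧ T.a (σ 1) (σ 4) = 0 ∧ T.a (σ 1) (σ 5) = 0 ∧ T.a (σ 2) (σ 2) = -4 * w ∧ T.a (σ 2) (σ 3) = 2 * w ∧ T.a (σ 2) (σ 4) = 0 ∧ T.a (σ 2) (σ 5) = 0 ∧ T.a (σ 3) (σ 3) = -4 * w ∧ T.a (σ 3) (σ 4) = 2 * w ∧ T.a (σ 3) (σ 5) = 2 * w ∧ T.a (σ 4) (σ 4) = -4 * w ∧ T.a (σ 4) (σ 5) = 0 ∧ T.a (σ 5) (σ 5) = -4 * w) ∨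
      (T.m (σ 0) = m ∧ T.m (σ 1) = m ∧ T.m (σ 2) = 2 * m ∧ T.m (σ 3) = 2 * m ∧ T.m (σ 4) = m ∧ T.m (σ 5) = m ∧ T.w (σ 0) = w ∧ T.w (σ 1) = w ∧ T.w (σ 2) = w ∧ T.w (σ 3) = w ∧ T.w (σ 4) = w ∧ T.w (σ 5) = w ∧ T.a (σ 0) (σ 0) = -2 * w ∧ T.a (σ 0) (σ 1) = 0 ∧ T.a (σ 0) (σ 2) = w ∧ T.a (σ 0) (σ 3) = 0 ∧ T.a (σ 0) (σ 4) = 0 ∧ T.a (σ 0) (σ 5) = 0 ∧ T.a (σ 1) (σ 1) = -2 * w ∧ T.a (σ 1) (σ 2) = w ∧ T.a (σ 1) (σ 3) = 0 ∧ T.a (σ 1) (σ 4) = 0 ∧ T.a (σ 1) (σ 5) = 0 ∧ T.a (σ 2) (σ 2) = -2 * w ∧ T.a (σ 2) (σ 3) = w ∧ T.a (σ 2) (σ 4) = 0 ∧ T.a (σ 2) (σ 5) = 0 ∧ T.a (σ 3) (σ 3) = -2 * w ∧ T.a (σ 3) (σ 4) = w ∧ T.a (σ 3) (σ 5) = w ∧ T.a (σ 4) (σ 4) = -2 * w ∧ T.a (σ 4) (σ 5) = 0 ∧ T.a (σ 5) (σ 5) = -2 * w)) := by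
  have h2 := Groth.Agent.Helper6.NT.all_minusTwo T (by norm_num) hmin hg
  refine ⟨fun i => (h2 i).1, ?_⟩
  obtain ⟨u0, -⟩ : ∃ u0 : Fin 6, True := ⟨0, trivial⟩
  by_cases hx : ∃ j, j ≠ u0 ∧ T.a u0 j ≠ 0
  · obtain ⟨u1, hn_1_0, e_0_1⟩ := hx
    rcases Groth.Agent.Helper6.NT.edge5 T h2 (by norm_num) u0 u1 hn_1_0.symm e_0_1 with ⟨tw_0_1, tap_0_1, taq_0_1⟩ | ⟨tw_0_1, tap_0_1, taq_0_1⟩ | ⟨tw_0_1, tap_0_1, taq_0_1⟩ | ⟨tw_0_1, tap_0_1, taq_0_1⟩ | ⟨tw_0_1, tap_0_1, taq_0_1⟩
    · -- (0,1) S
      by_cases hx : ∃ j, (j ≠ u0 ∧ j ≠ u1) ∧ T.a u0 j ≠ 0
      · obtain ⟨u2, ⟨hn_2_0, hn_2_1⟩, e_0_2⟩ := hx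
        rcases Groth.Agent.Helper6.NT.edge5 T h2 (by norm_num) u0 u2 hn_2_0.symm e_0_2 with ⟨tw_0_2, tap_0_2, taq_0_2⟩ | ⟨tw_0_2, tap_0_2, taq_0_2⟩ | ⟨tw_0_2, tap_0_2, taq_0_2⟩ | ⟨tw_0_2, tap_0_2, taq_0_2⟩ | ⟨tw_0_2, tap_0_2, taq_0_2⟩
        · -- (0,2) S
          rcases eq_or_ne (T.a u1 u2) 0 with z_1_2 | nz_1_2
          · -- (1,2) zero
            by_cases hx : ∃ j, (j ≠ u0 ∧ j ≠ u1 ∧ j ≠ u2) ∧ T.a u0 j ≠ 0
            · obtain ⟨u3, ⟨hn_3_0, hn_3_1, hn_3_2⟩, e_0_3⟩ := hx
              rcases Groth.Agent.Helper6.NT.edge5 T h2 (by norm_num) u0 u3 hn_3_0.symm e_0_3 with ⟨tw_0_3, tap_0_3, taq_0_3⟩ | ⟨tw_0_3, tap_0_3, taq_0_3⟩ | ⟨tw_0_3, tap_0_3, taq_0_3⟩ | ⟨tw_0_3, tap_0_3, taq_0_3⟩ | ⟨tw_0_3, tap_0_3, taq_0_3⟩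
              · -- (0,3) S
                rcases eq_or_ne (T.a u1 u3) 0 with z_1_3 | nz_1_3
                · -- (1,3) zero
                  rcases eq_or_ne (T.a u2 u3) 0 with z_2_3 | nz_2_3
                  · -- (2,3) zero
                    by_cases hx : ∃ j, (j ≠ u0 ∧ j ≠ u1 ∧ j ≠ u2 ∧ j ≠ u3) ∧ T.a u0 j ≠ 0
                    · obtain ⟨u4, ⟨hn_4_0, hn_4_1, hn_4_2, hn_4_3⟩, e_0_4⟩ := hx
                      rcases Groth.Agent.Helper6.NT.edge5 T h2 (by norm_num) u0 u4 hn_4_0.symm e_0_4 with ⟨tw_0_4, tap_0_4, taq_0_4⟩ | ⟨tw_0_4, tap_0_4, taq_0_4⟩ | ⟨tw_0_4, tap_0_4, taq_0_4⟩ | ⟨tw_0_4, tap_0_4, taq_0_4⟩ | ⟨tw_0_4, tap_0_4, taq_0_4⟩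
                      · -- (0,4) S
                        exfalso
                        have key := Groth.Agent.Helper6.NT.negfun5 T h2 u0 u1 u2 u3 u4 (by norm_num) 2 1 1 1 1 (by norm_num) (by norm_num)
                        linarith only [key, tap_0_1, taq_0_1, tap_0_2, taq_0_2, tap_0_3, taq_0_3, tap_0_4, taq_0_4, z_1_2, z_1_3, T.offDiag_nonneg u1 u4 hn_4_1.symm, z_2_3, T.offDiag_nonneg u2 u4 hn_4_2.symm, T.offDiag_nonneg u3 u4 hn_4_3.symm, T.w_pos u0, T.w_pos u1, T.w_pos u2, T.w_pos u3, T.w_pos u4]
                      · -- (0,4) Dp
                        exfalso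
                        have key := Groth.Agent.Helper6.NT.negfun4 T h2 u0 u2 u3 u4 (by norm_num) 2 1 1 1 (by norm_num) (by norm_num)
                        linarith only [key, tap_0_2, taq_0_2, tap_0_3, taq_0_3, tap_0_4, taq_0_4, z_2_3, T.offDiag_nonneg u2 u4 hn_4_2.symm, T.offDiag_nonneg u3 u4 hn_4_3.symm, T.w_pos u0, T.w_pos u2, T.w_pos u3, T.w_pos u4]
                      · -- (0,4) Dm
                        exfalso
                        have key := Groth.Agent.Helper6.NT.negfun4 T h2 u0 u2 u3 u4 (by norm_num) 2 1 1 2 (by norm_num) (by norm_num)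
                        linarith only [key, tap_0_2, taq_0_2, tap_0_3, taq_0_3, tap_0_4, taq_0_4, z_2_3, T.offDiag_nonneg u2 u4 hn_4_2.symm, T.offDiag_nonneg u3 u4 hn_4_3.symm, T.w_pos u0, T.w_pos u2, T.w_pos u3, T.w_pos u4]
                      · -- (0,4) Tp
                        exfalso
                        have key := Groth.Agent.Helper6.NT.negfun3 T h2 u0 u3 u4 (by norm_num) 2 1 1 (by norm_num) (by norm_num)
                        linarith only [key, tap_0_3, taq_0_3, tap_0_4, taq_0_4, T.offDiag_nonneg u3 u4 hn_4_3.symm, T.w_pos u0, T.w_pos u3, T.w_pos u4]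
                      · -- (0,4) Tm
                        exfalso
                        have key := Groth.Agent.Helper6.NT.negfun3 T h2 u0 u3 u4 (by norm_num) 2 1 3 (by norm_num) (by norm_num)
                        linarith only [key, tap_0_3, taq_0_3, tap_0_4, taq_0_4, T.offDiag_nonneg u3 u4 hn_4_3.symm, T.w_pos u0, T.w_pos u3, T.w_pos u4]
                    · push Not at hx
                      have cl_0 := hx
                      clear hx
                      by_cases hx : ∃ j, (j ≠ u0 ∧ j ≠ u1 ∧ j ≠ u2 ∧ j ≠ u3) ∧ T.a u1 j ≠ 0
                      · obtain ⟨u4, ⟨hn_4_0, hn_4_1, hn_4_2, hn_4_3⟩, e_1_4⟩ := hx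
                        have z_0_4 : T.a u0 u4 = 0 := cl_0 u4 ⟨hn_4_0, hn_4_1, hn_4_2, hn_4_3⟩
                        rcases Groth.Agent.Helper6.NT.edge5 T h2 (by norm_num) u1 u4 hn_4_1.symm e_1_4 with ⟨tw_1_4, tap_1_4, taq_1_4⟩ | ⟨tw_1_4, tap_1_4, taq_1_4⟩ | ⟨tw_1_4, tap_1_4, taq_1_4⟩ | ⟨tw_1_4, tap_1_4, taq_1_4⟩ | ⟨tw_1_4, tap_1_4, taq_1_4⟩
                        · -- (1,4) S
                          rcases eq_or_ne (T.a u2 u4) 0 with z_2_4 | nz_2_4
                          · -- (2,4) zero
                            rcases eq_or_ne (T.a u3 u4) 0 with z_3_4 | nz_3_4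
                            · -- (3,4) zero
                              by_cases hx : ∃ j, (j ≠ u0 ∧ j ≠ u1 ∧ j ≠ u2 ∧ j ≠ u3 ∧ j ≠ u4) ∧ T.a u1 j ≠ 0
                              · obtain ⟨u5, ⟨hn_5_0, hn_5_1, hn_5_2, hn_5_3, hn_5_4⟩, e_1_5⟩ := hx
                                have z_0_5 : T.a u0 u5 = 0 := cl_0 u5 ⟨hn_5_0, hn_5_1, hn_5_2, hn_5_3⟩
                                rcases Groth.Agent.Helper6.NT.edge5 T h2 (by norm_num) u1 u5 hn_5_1.symm e_1_5 with ⟨tw_1_5, tap_1_5, taq_1_5⟩ | ⟨tw_1_5, tap_1_5, taq_1_5⟩ | ⟨tw_1_5, tap_1_5, taq_1_5⟩ | ⟨tw_1_5, tap_1_5, taq_1_5⟩ | ⟨tw_1_5, tap_1_5, taq_1_5⟩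
                                · -- (1,5) S
                                  rcases eq_or_ne (T.a u2 u5) 0 with z_2_5 | nz_2_5
                                  · -- (2,5) zero
                                    rcases eq_or_ne (T.a u3 u5) 0 with z_3_5 | nz_3_5
                                    · -- (3,5) zero
                                      rcases eq_or_ne (T.a u4 u5) 0 with z_4_5 | nz_4_5
                                      · -- (4,5) zero
                                        have hinj := Groth.Agent.Helper6.NT.inj6 u0 u1 u2 u3 u4 u5 hn_1_0 hn_2_0 hn_2_1 hn_3_0 hn_3_1 hn_3_2 hn_4_0 hn_4_1 hn_4_2 hn_4_3 hn_5_0 hn_5_1 hn_5_2 hn_5_3 hn_5_4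
                                        have r_0 : -2 * T.m u0 + 1 * T.m u1 + 1 * T.m u2 + 1 * T.m u3 = 0 := by
                                          have key := Groth.Agent.Helper6.NT.rowfun6 T u0 u1 u2 u3 u4 u5 hinj u0
                                          rw [(h2 u0).2, tap_0_1, tap_0_2, tap_0_3, z_0_4, z_0_5] at key
                                          exact mul_left_cancel₀ (T.w_pos u0).ne' (by linarith only [key])
                                        have r_1 : 1 * T.m u0 + -2 * T.m u1 + 1 * T.m u4 + 1 * T.m u5 = 0 := by
                                          have key := Groth.Agent.Helper6.NT.rowfun6 T u0 u1 u2 u3 u4 u5 hinj u1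
                                          rw [Groth.Agent.Helper6.NT.symm' T u1 u0, taq_0_1, (h2 u1).2, z_1_2, z_1_3, tap_1_4, tap_1_5] at key
                                          exact mul_left_cancel₀ (T.w_pos u1).ne' (by linarith only [key])
                                        have r_2 : 1 * T.m u0 + -2 * T.m u2 = 0 := by
                                          have key := Groth.Agent.Helper6.NT.rowfun6 T u0 u1 u2 u3 u4 u5 hinj u2
                                          rw [Groth.Agent.Helper6.NT.symm' T u2 u0, taq_0_2, Groth.Agent.Helper6.NT.symm' T u2 u1, z_1_2, (h2 u2).2, z_2_3, z_2_4, z_2_5] at key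
                                          exact mul_left_cancel₀ (T.w_pos u2).ne' (by linarith only [key])
                                        have r_3 : 1 * T.m u0 + -2 * T.m u3 = 0 := by
                                          have key := Groth.Agent.Helper6.NT.rowfun6 T u0 u1 u2 u3 u4 u5 hinj u3
                                          rw [Groth.Agent.Helper6.NT.symm' T u3 u0, taq_0_3, Groth.Agent.Helper6.NT.symm' T u3 u1, z_1_3, Groth.Agent.Helper6.NT.symm' T u3 u2, z_2_3, (h2 u3).2, z_3_4, z_3_5] at key
                                          exact mul_left_cancel₀ (T.w_pos u3).ne' (by linarith only [key])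
                                        have r_4 : 1 * T.m u1 + -2 * T.m u4 = 0 := by
                                          have key := Groth.Agent.Helper6.NT.rowfun6 T u0 u1 u2 u3 u4 u5 hinj u4
                                          rw [Groth.Agent.Helper6.NT.symm' T u4 u0, z_0_4, Groth.Agent.Helper6.NT.symm' T u4 u1, taq_1_4, Groth.Agent.Helper6.NT.symm' T u4 u2, z_2_4, Groth.Agent.Helper6.NT.symm' T u4 u3, z_3_4, (h2 u4).2, z_4_5] at key
                                          exact mul_left_cancel₀ (T.w_pos u4).ne' (by linarith only [key])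
                                        have r_5 : 1 * T.m u1 + -2 * T.m u5 = 0 := by
                                          have key := Groth.Agent.Helper6.NT.rowfun6 T u0 u1 u2 u3 u4 u5 hinj u5
                                          rw [Groth.Agent.Helper6.NT.symm' T u5 u0, z_0_5, Groth.Agent.Helper6.NT.symm' T u5 u1, taq_1_5, Groth.Agent.Helper6.NT.symm' T u5 u2, z_2_5, Groth.Agent.Helper6.NT.symm' T u5 u3, z_3_5, Groth.Agent.Helper6.NT.symm' T u5 u4, z_4_5, (h2 u5).2] at key
                                          exact mul_left_cancel₀ (T.w_pos u5).ne' (by linarith only [key])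
                                        have f0 : T.m u2 = T.m u2 := rfl
                                        have f1 : T.m u3 = T.m u2 := by linarith only [r_0, r_1, r_2, r_3, r_4, r_5]
                                        have f2 : T.m u0 = 2 * T.m u2 := by linarith only [r_0, r_1, r_2, r_3, r_4, r_5]
                                        have f3 : T.m u1 = 2 * T.m u2 := by linarith only [r_0, r_1, r_2, r_3, r_4, r_5]
                                        have f4 : T.m u4 = T.m u2 := by linarith only [r_0, r_1, r_2, r_3, r_4, r_5]
                                        have f5 : T.m u5 = T.m u2 := by linarith only [r_0, r_1, r_2, r_3, r_4, r_5]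
                                        have f6 : T.w u2 = T.w u2 := rfl
                                        have f7 : T.w u3 = T.w u2 := by linarith only [tw_0_1, tw_0_2, tw_0_3, tw_1_4, tw_1_5]
                                        have f8 : T.w u0 = T.w u2 := by linarith only [tw_0_1, tw_0_2, tw_0_3, tw_1_4, tw_1_5]
                                        have f9 : T.w u1 = T.w u2 := by linarith only [tw_0_1, tw_0_2, tw_0_3, tw_1_4, tw_1_5]
                                        have f10 : T.w u4 = T.w u2 := by linarith only [tw_0_1, tw_0_2, tw_0_3, tw_1_4, tw_1_5]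
                                        have f11 : T.w u5 = T.w u2 := by linarith only [tw_0_1, tw_0_2, tw_0_3, tw_1_4, tw_1_5]
                                        have f12 : T.a u2 u2 = -2 * T.w u2 := by have := (h2 u2).2; linarith only [this, tw_0_1, tw_0_2, tw_0_3, tw_1_4, tw_1_5]
                                        have f13 : T.a u2 u3 = 0 := by exact z_2_3
                                        have f14 : T.a u2 u0 = T.w u2 := by rw [Groth.Agent.Helper6.NT.symm' T u2 u0]; linarith only [tap_0_2, tw_0_1, tw_0_2, tw_0_3, tw_1_4, tw_1_5]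
                                        have f15 : T.a u2 u1 = 0 := by rw [Groth.Agent.Helper6.NT.symm' T u2 u1]; exact z_1_2
                                        have f16 : T.a u2 u4 = 0 := by exact z_2_4
                                        have f17 : T.a u2 u5 = 0 := by exact z_2_5
                                        have f18 : T.a u3 u3 = -2 * T.w u2 := by have := (h2 u3).2; linarith only [this, tw_0_1, tw_0_2, tw_0_3, tw_1_4, tw_1_5]
                                        have f19 : T.a u3 u0 = T.w u2 := by rw [Groth.Agent.Helper6.NT.symm' T u3 u0]; linarith only [tap_0_3, tw_0_1, tw_0_2, tw_0_3, tw_1_4, tw_1_5]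
                                        have f20 : T.a u3 u1 = 0 := by rw [Groth.Agent.Helper6.NT.symm' T u3 u1]; exact z_1_3
                                        have f21 : T.a u3 u4 = 0 := by exact z_3_4
                                        have f22 : T.a u3 u5 = 0 := by exact z_3_5
                                        have f23 : T.a u0 u0 = -2 * T.w u2 := by have := (h2 u0).2; linarith only [this, tw_0_1, tw_0_2, tw_0_3, tw_1_4, tw_1_5]
                                        have f24 : T.a u0 u1 = T.w u2 := by linarith only [tap_0_1, tw_0_1, tw_0_2, tw_0_3, tw_1_4, tw_1_5]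
                                        have f25 : T.a u0 u4 = 0 := by exact z_0_4
                                        have f26 : T.a u0 u5 = 0 := by exact z_0_5
                                        have f27 : T.a u1 u1 = -2 * T.w u2 := by have := (h2 u1).2; linarith only [this, tw_0_1, tw_0_2, tw_0_3, tw_1_4, tw_1_5]
                                        have f28 : T.a u1 u4 = T.w u2 := by linarith only [tap_1_4, tw_0_1, tw_0_2, tw_0_3, tw_1_4, tw_1_5]
                                        have f29 : T.a u1 u5 = T.w u2 := by linarith only [tap_1_5, tw_0_1, tw_0_2, tw_0_3, tw_1_4, tw_1_5]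
                                        have f30 : T.a u4 u4 = -2 * T.w u2 := by have := (h2 u4).2; linarith only [this, tw_0_1, tw_0_2, tw_0_3, tw_1_4, tw_1_5]
                                        have f31 : T.a u4 u5 = 0 := by exact z_4_5
                                        have f32 : T.a u5 u5 = -2 * T.w u2 := by have := (h2 u5).2; linarith only [this, tw_0_1, tw_0_2, tw_0_3, tw_1_4, tw_1_5]
                                        have hsig := Groth.Agent.Helper6.NT.inj6 u2 u3 u0 u1 u4 u5 hn_3_2 hn_2_0.symm hn_3_0.symm hn_2_1.symm hn_3_1.symm hn_1_0 hn_4_2 hn_4_3 hn_4_0 hn_4_1 hn_5_2 hn_5_3 hn_5_0 hn_5_1 hn_5_4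
                                        exact ⟨Equiv.ofBijective _ (Finite.injective_iff_bijective.1 hsig), T.m u2, T.w u2, Or.inr (Or.inr (Or.inr (Or.inr (Or.inr (Or.inr (⟨f0, f1, f2, f3, f4, f5, f6, f7, f8, f9, f10, f11, f12, f13, f14, f15, f16, f17, f18, f19, f20, f21, f22, f23, f24, f25, f26, f27, f28, f29, f30, f31, f32⟩))))))⟩
                                      · -- (4,5) nonzero
                                        obtain ⟨lbp_4_5, lbq_4_5⟩ := Groth.Agent.Helper6.NT.lb T u4 u5 hn_5_4.symm nz_4_5
                                        exfalso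
                                        have key := Groth.Agent.Helper6.NT.negfun3 T h2 u1 u4 u5 (by norm_num) 1 1 1 (by norm_num) (by norm_num)
                                        linarith only [key, tap_1_4, taq_1_4, tap_1_5, taq_1_5, lbp_4_5, lbq_4_5, T.w_pos u1, T.w_pos u4, T.w_pos u5]
                                    · -- (3,5) nonzero
                                      obtain ⟨lbp_3_5, lbq_3_5⟩ := Groth.Agent.Helper6.NT.lb T u3 u5 hn_5_3.symm nz_3_5
                                      exfalso
                                      have key := Groth.Agent.Helper6.NT.negfun4 T h2 u0 u1 u3 u5 (by norm_num) 1 1 1 1 (by norm_num) (by norm_num)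
                                      linarith only [key, tap_0_1, taq_0_1, tap_0_3, taq_0_3, z_0_5, z_1_3, tap_1_5, taq_1_5, lbp_3_5, lbq_3_5, T.w_pos u0, T.w_pos u1, T.w_pos u3, T.w_pos u5]
                                  · -- (2,5) nonzero
                                    obtain ⟨lbp_2_5, lbq_2_5⟩ := Groth.Agent.Helper6.NT.lb T u2 u5 hn_5_2.symm nz_2_5
                                    exfalso
                                    have key := Groth.Agent.Helper6.NT.negfun4 T h2 u0 u1 u2 u5 (by norm_num) 1 1 1 1 (by norm_num) (by norm_num)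
                                    linarith only [key, tap_0_1, taq_0_1, tap_0_2, taq_0_2, z_0_5, z_1_2, tap_1_5, taq_1_5, lbp_2_5, lbq_2_5, T.w_pos u0, T.w_pos u1, T.w_pos u2, T.w_pos u5]
                                · -- (1,5) Dp
                                  exfalso
                                  have key := Groth.Agent.Helper6.NT.negfun4 T h2 u0 u1 u4 u5 (by norm_num) 1 2 1 1 (by norm_num) (by norm_num)
                                  linarith only [key, tap_0_1, taq_0_1, z_0_4, z_0_5, tap_1_4, taq_1_4, tap_1_5, taq_1_5, T.offDiag_nonneg u4 u5 hn_5_4.symm, T.w_pos u0, T.w_pos u1, T.w_pos u4, T.w_pos u5]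
                                · -- (1,5) Dm
                                  exfalso
                                  have key := Groth.Agent.Helper6.NT.negfun4 T h2 u0 u1 u4 u5 (by norm_num) 1 2 1 2 (by norm_num) (by norm_num)
                                  linarith only [key, tap_0_1, taq_0_1, z_0_4, z_0_5, tap_1_4, taq_1_4, tap_1_5, taq_1_5, T.offDiag_nonneg u4 u5 hn_5_4.symm, T.w_pos u0, T.w_pos u1, T.w_pos u4, T.w_pos u5]
                                · -- (1,5) Tp
                                  exfalso
                                  have key := Groth.Agent.Helper6.NT.negfun3 T h2 u1 u4 u5 (by norm_num) 2 1 1 (by norm_num) (by norm_num)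
                                  linarith only [key, tap_1_4, taq_1_4, tap_1_5, taq_1_5, T.offDiag_nonneg u4 u5 hn_5_4.symm, T.w_pos u1, T.w_pos u4, T.w_pos u5]
                                · -- (1,5) Tm
                                  exfalso
                                  have key := Groth.Agent.Helper6.NT.negfun3 T h2 u1 u4 u5 (by norm_num) 2 1 3 (by norm_num) (by norm_num)
                                  linarith only [key, tap_1_4, taq_1_4, tap_1_5, taq_1_5, T.offDiag_nonneg u4 u5 hn_5_4.symm, T.w_pos u1, T.w_pos u4, T.w_pos u5]
                              · push Not at hx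
                                have cl_1 := hx
                                clear hx
                                by_cases hx : ∃ j, (j ≠ u0 ∧ j ≠ u1 ∧ j ≠ u2 ∧ j ≠ u3 ∧ j ≠ u4) ∧ T.a u2 j ≠ 0
                                · obtain ⟨u5, ⟨hn_5_0, hn_5_1, hn_5_2, hn_5_3, hn_5_4⟩, e_2_5⟩ := hx
                                  have z_0_5 : T.a u0 u5 = 0 := cl_0 u5 ⟨hn_5_0, hn_5_1, hn_5_2, hn_5_3⟩
                                  have z_1_5 : T.a u1 u5 = 0 := cl_1 u5 ⟨hn_5_0, hn_5_1, hn_5_2, hn_5_3, hn_5_4⟩
                                  rcases Groth.Agent.Helper6.NT.edge5 T h2 (by norm_num) u2 u5 hn_5_2.symm e_2_5 with ⟨tw_2_5, tap_2_5, taq_2_5⟩ | ⟨tw_2_5, tap_2_5, taq_2_5⟩ | ⟨tw_2_5, tap_2_5, taq_2_5⟩ | ⟨tw_2_5, tap_2_5, taq_2_5⟩ | ⟨tw_2_5, tap_2_5, taq_2_5⟩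
                                  · -- (2,5) S
                                    rcases eq_or_ne (T.a u3 u5) 0 with z_3_5 | nz_3_5
                                    · -- (3,5) zero
                                      rcases eq_or_ne (T.a u4 u5) 0 with z_4_5 | nz_4_5
                                      · -- (4,5) zero
                                        have hinj := Groth.Agent.Helper6.NT.inj6 u0 u1 u2 u3 u4 u5 hn_1_0 hn_2_0 hn_2_1 hn_3_0 hn_3_1 hn_3_2 hn_4_0 hn_4_1 hn_4_2 hn_4_3 hn_5_0 hn_5_1 hn_5_2 hn_5_3 hn_5_4
                                        have r_0 : -2 * T.m u0 + 1 * T.m u1 + 1 * T.m u2 + 1 * T.m u3 = 0 := by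
                                          have key := Groth.Agent.Helper6.NT.rowfun6 T u0 u1 u2 u3 u4 u5 hinj u0
                                          rw [(h2 u0).2, tap_0_1, tap_0_2, tap_0_3, z_0_4, z_0_5] at key
                                          exact mul_left_cancel₀ (T.w_pos u0).ne' (by linarith only [key])
                                        have r_1 : 1 * T.m u0 + -2 * T.m u1 + 1 * T.m u4 = 0 := by
                                          have key := Groth.Agent.Helper6.NT.rowfun6 T u0 u1 u2 u3 u4 u5 hinj u1
                                          rw [Groth.Agent.Helper6.NT.symm' T u1 u0, taq_0_1, (h2 u1).2, z_1_2, z_1_3, tap_1_4, z_1_5] at key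
                                          exact mul_left_cancel₀ (T.w_pos u1).ne' (by linarith only [key])
                                        have r_2 : 1 * T.m u0 + -2 * T.m u2 + 1 * T.m u5 = 0 := by
                                          have key := Groth.Agent.Helper6.NT.rowfun6 T u0 u1 u2 u3 u4 u5 hinj u2
                                          rw [Groth.Agent.Helper6.NT.symm' T u2 u0, taq_0_2, Groth.Agent.Helper6.NT.symm' T u2 u1, z_1_2, (h2 u2).2, z_2_3, z_2_4, tap_2_5] at key
                                          exact mul_left_cancel₀ (T.w_pos u2).ne' (by linarith only [key])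
                                        have r_3 : 1 * T.m u0 + -2 * T.m u3 = 0 := by
                                          have key := Groth.Agent.Helper6.NT.rowfun6 T u0 u1 u2 u3 u4 u5 hinj u3
                                          rw [Groth.Agent.Helper6.NT.symm' T u3 u0, taq_0_3, Groth.Agent.Helper6.NT.symm' T u3 u1, z_1_3, Groth.Agent.Helper6.NT.symm' T u3 u2, z_2_3, (h2 u3).2, z_3_4, z_3_5] at key
                                          exact mul_left_cancel₀ (T.w_pos u3).ne' (by linarith only [key])
                                        have r_4 : 1 * T.m u1 + -2 * T.m u4 = 0 := by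
                                          have key := Groth.Agent.Helper6.NT.rowfun6 T u0 u1 u2 u3 u4 u5 hinj u4
                                          rw [Groth.Agent.Helper6.NT.symm' T u4 u0, z_0_4, Groth.Agent.Helper6.NT.symm' T u4 u1, taq_1_4, Groth.Agent.Helper6.NT.symm' T u4 u2, z_2_4, Groth.Agent.Helper6.NT.symm' T u4 u3, z_3_4, (h2 u4).2, z_4_5] at key
                                          exact mul_left_cancel₀ (T.w_pos u4).ne' (by linarith only [key])
                                        have r_5 : 1 * T.m u2 + -2 * T.m u5 = 0 := by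
                                          have key := Groth.Agent.Helper6.NT.rowfun6 T u0 u1 u2 u3 u4 u5 hinj u5
                                          rw [Groth.Agent.Helper6.NT.symm' T u5 u0, z_0_5, Groth.Agent.Helper6.NT.symm' T u5 u1, z_1_5, Groth.Agent.Helper6.NT.symm' T u5 u2, taq_2_5, Groth.Agent.Helper6.NT.symm' T u5 u3, z_3_5, Groth.Agent.Helper6.NT.symm' T u5 u4, z_4_5, (h2 u5).2] at key
                                          exact mul_left_cancel₀ (T.w_pos u5).ne' (by linarith only [key])
                                        exfalso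
                                        linarith only [r_0, r_1, r_2, r_3, r_4, r_5, T.m_pos u0, T.m_pos u1, T.m_pos u2, T.m_pos u3, T.m_pos u4, T.m_pos u5]
                                      · -- (4,5) nonzero
                                        obtain ⟨lbp_4_5, lbq_4_5⟩ := Groth.Agent.Helper6.NT.lb T u4 u5 hn_5_4.symm nz_4_5
                                        exfalso
                                        have key := Groth.Agent.Helper6.NT.negfun5 T h2 u0 u1 u2 u4 u5 (by norm_num) 1 1 1 1 1 (by norm_num) (by norm_num)
                                        linarith only [key, tap_0_1, taq_0_1, tap_0_2, taq_0_2, z_0_4, z_0_5, z_1_2, tap_1_4, taq_1_4, z_1_5, z_2_4, tap_2_5, taq_2_5, lbp_4_5, lbq_4_5, T.w_pos u0, T.w_pos u1, T.w_pos u2, T.w_pos u4, T.w_pos u5]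
                                    · -- (3,5) nonzero
                                      obtain ⟨lbp_3_5, lbq_3_5⟩ := Groth.Agent.Helper6.NT.lb T u3 u5 hn_5_3.symm nz_3_5
                                      exfalso
                                      have key := Groth.Agent.Helper6.NT.negfun4 T h2 u0 u2 u3 u5 (by norm_num) 1 1 1 1 (by norm_num) (by norm_num)
                                      linarith only [key, tap_0_2, taq_0_2, tap_0_3, taq_0_3, z_0_5, z_2_3, tap_2_5, taq_2_5, lbp_3_5, lbq_3_5, T.w_pos u0, T.w_pos u2, T.w_pos u3, T.w_pos u5]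
                                  · -- (2,5) Dp
                                    exfalso
                                    have key := Groth.Agent.Helper6.NT.negfun5 T h2 u0 u1 u2 u3 u5 (by norm_num) 2 1 2 1 1 (by norm_num) (by norm_num)
                                    linarith only [key, tap_0_1, taq_0_1, tap_0_2, taq_0_2, tap_0_3, taq_0_3, z_0_5, z_1_2, z_1_3, z_1_5, z_2_3, tap_2_5, taq_2_5, T.offDiag_nonneg u3 u5 hn_5_3.symm, T.w_pos u0, T.w_pos u1, T.w_pos u2, T.w_pos u3, T.w_pos u5]
                                  · -- (2,5) Dm
                                    exfalso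
                                    have key := Groth.Agent.Helper6.NT.negfun5 T h2 u0 u1 u2 u3 u5 (by norm_num) 2 1 2 1 2 (by norm_num) (by norm_num)
                                    linarith only [key, tap_0_1, taq_0_1, tap_0_2, taq_0_2, tap_0_3, taq_0_3, z_0_5, z_1_2, z_1_3, z_1_5, z_2_3, tap_2_5, taq_2_5, T.offDiag_nonneg u3 u5 hn_5_3.symm, T.w_pos u0, T.w_pos u1, T.w_pos u2, T.w_pos u3, T.w_pos u5]
                                  · -- (2,5) Tp
                                    exfalso
                                    have key := Groth.Agent.Helper6.NT.negfun3 T h2 u0 u2 u5 (by norm_num) 1 2 1 (by norm_num) (by norm_num)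
                                    linarith only [key, tap_0_2, taq_0_2, z_0_5, tap_2_5, taq_2_5, T.w_pos u0, T.w_pos u2, T.w_pos u5]
                                  · -- (2,5) Tm
                                    exfalso
                                    have key := Groth.Agent.Helper6.NT.negfun3 T h2 u0 u2 u5 (by norm_num) 1 2 3 (by norm_num) (by norm_num)
                                    linarith only [key, tap_0_2, taq_0_2, z_0_5, tap_2_5, taq_2_5, T.w_pos u0, T.w_pos u2, T.w_pos u5]
                                · push Not at hx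
                                  have cl_2 := hx
                                  clear hx
                                  by_cases hx : ∃ j, (j ≠ u0 ∧ j ≠ u1 ∧ j ≠ u2 ∧ j ≠ u3 ∧ j ≠ u4) ∧ T.a u3 j ≠ 0
                                  · obtain ⟨u5, ⟨hn_5_0, hn_5_1, hn_5_2, hn_5_3, hn_5_4⟩, e_3_5⟩ := hx
                                    have z_0_5 : T.a u0 u5 = 0 := cl_0 u5 ⟨hn_5_0, hn_5_1, hn_5_2, hn_5_3⟩
                                    have z_1_5 : T.a u1 u5 = 0 := cl_1 u5 ⟨hn_5_0, hn_5_1, hn_5_2, hn_5_3, hn_5_4⟩
                                    have z_2_5 : T.a u2 u5 = 0 := cl_2 u5 ⟨hn_5_0, hn_5_1, hn_5_2, hn_5_3, hn_5_4⟩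
                                    rcases Groth.Agent.Helper6.NT.edge5 T h2 (by norm_num) u3 u5 hn_5_3.symm e_3_5 with ⟨tw_3_5, tap_3_5, taq_3_5⟩ | ⟨tw_3_5, tap_3_5, taq_3_5⟩ | ⟨tw_3_5, tap_3_5, taq_3_5⟩ | ⟨tw_3_5, tap_3_5, taq_3_5⟩ | ⟨tw_3_5, tap_3_5, taq_3_5⟩
                                    · -- (3,5) S
                                      rcases eq_or_ne (T.a u4 u5) 0 with z_4_5 | nz_4_5
                                      · -- (4,5) zero
                                        have hinj := Groth.Agent.Helper6.NT.inj6 u0 u1 u2 u3 u4 u5 hn_1_0 hn_2_0 hn_2_1 hn_3_0 hn_3_1 hn_3_2 hn_4_0 hn_4_1 hn_4_2 hn_4_3 hn_5_0 hn_5_1 hn_5_2 hn_5_3 hn_5_4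
                                        have r_0 : -2 * T.m u0 + 1 * T.m u1 + 1 * T.m u2 + 1 * T.m u3 = 0 := by
                                          have key := Groth.Agent.Helper6.NT.rowfun6 T u0 u1 u2 u3 u4 u5 hinj u0
                                          rw [(h2 u0).2, tap_0_1, tap_0_2, tap_0_3, z_0_4, z_0_5] at key
                                          exact mul_left_cancel₀ (T.w_pos u0).ne' (by linarith only [key])
                                        have r_1 : 1 * T.m u0 + -2 * T.m u1 + 1 * T.m u4 = 0 := by
                                          have key := Groth.Agent.Helper6.NT.rowfun6 T u0 u1 u2 u3 u4 u5 hinj u1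
                                          rw [Groth.Agent.Helper6.NT.symm' T u1 u0, taq_0_1, (h2 u1).2, z_1_2, z_1_3, tap_1_4, z_1_5] at key
                                          exact mul_left_cancel₀ (T.w_pos u1).ne' (by linarith only [key])
                                        have r_2 : 1 * T.m u0 + -2 * T.m u2 = 0 := by
                                          have key := Groth.Agent.Helper6.NT.rowfun6 T u0 u1 u2 u3 u4 u5 hinj u2
                                          rw [Groth.Agent.Helper6.NT.symm' T u2 u0, taq_0_2, Groth.Agent.Helper6.NT.symm' T u2 u1, z_1_2, (h2 u2).2, z_2_3, z_2_4, z_2_5] at key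
                                          exact mul_left_cancel₀ (T.w_pos u2).ne' (by linarith only [key])
                                        have r_3 : 1 * T.m u0 + -2 * T.m u3 + 1 * T.m u5 = 0 := by
                                          have key := Groth.Agent.Helper6.NT.rowfun6 T u0 u1 u2 u3 u4 u5 hinj u3
                                          rw [Groth.Agent.Helper6.NT.symm' T u3 u0, taq_0_3, Groth.Agent.Helper6.NT.symm' T u3 u1, z_1_3, Groth.Agent.Helper6.NT.symm' T u3 u2, z_2_3, (h2 u3).2, z_3_4, tap_3_5] at key
                                          exact mul_left_cancel₀ (T.w_pos u3).ne' (by linarith only [key])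
                                        have r_4 : 1 * T.m u1 + -2 * T.m u4 = 0 := by
                                          have key := Groth.Agent.Helper6.NT.rowfun6 T u0 u1 u2 u3 u4 u5 hinj u4
                                          rw [Groth.Agent.Helper6.NT.symm' T u4 u0, z_0_4, Groth.Agent.Helper6.NT.symm' T u4 u1, taq_1_4, Groth.Agent.Helper6.NT.symm' T u4 u2, z_2_4, Groth.Agent.Helper6.NT.symm' T u4 u3, z_3_4, (h2 u4).2, z_4_5] at key
                                          exact mul_left_cancel₀ (T.w_pos u4).ne' (by linarith only [key])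
                                        have r_5 : 1 * T.m u3 + -2 * T.m u5 = 0 := by
                                          have key := Groth.Agent.Helper6.NT.rowfun6 T u0 u1 u2 u3 u4 u5 hinj u5
                                          rw [Groth.Agent.Helper6.NT.symm' T u5 u0, z_0_5, Groth.Agent.Helper6.NT.symm' T u5 u1, z_1_5, Groth.Agent.Helper6.NT.symm' T u5 u2, z_2_5, Groth.Agent.Helper6.NT.symm' T u5 u3, taq_3_5, Groth.Agent.Helper6.NT.symm' T u5 u4, z_4_5, (h2 u5).2] at key
                                          exact mul_left_cancel₀ (T.w_pos u5).ne' (by linarith only [key])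
                                        exfalso
                                        linarith only [r_0, r_1, r_2, r_3, r_4, r_5, T.m_pos u0, T.m_pos u1, T.m_pos u2, T.m_pos u3, T.m_pos u4, T.m_pos u5]
                                      · -- (4,5) nonzero
                                        obtain ⟨lbp_4_5, lbq_4_5⟩ := Groth.Agent.Helper6.NT.lb T u4 u5 hn_5_4.symm nz_4_5
                                        exfalso
                                        have key := Groth.Agent.Helper6.NT.negfun5 T h2 u0 u1 u3 u4 u5 (by norm_num) 1 1 1 1 1 (by norm_num) (by norm_num)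
                                        linarith only [key, tap_0_1, taq_0_1, tap_0_3, taq_0_3, z_0_4, z_0_5, z_1_3, tap_1_4, taq_1_4, z_1_5, z_3_4, tap_3_5, taq_3_5, lbp_4_5, lbq_4_5, T.w_pos u0, T.w_pos u1, T.w_pos u3, T.w_pos u4, T.w_pos u5]
                                    · -- (3,5) Dp
                                      exfalso
                                      have key := Groth.Agent.Helper6.NT.negfun5 T h2 u0 u1 u2 u3 u5 (by norm_num) 2 1 1 2 1 (by norm_num) (by norm_num)
                                      linarith only [key, tap_0_1, taq_0_1, tap_0_2, taq_0_2, tap_0_3, taq_0_3, z_0_5, z_1_2, z_1_3, z_1_5, z_2_3, z_2_5, tap_3_5, taq_3_5, T.w_pos u0, T.w_pos u1, T.w_pos u2, T.w_pos u3, T.w_pos u5]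
                                    · -- (3,5) Dm
                                      exfalso
                                      have key := Groth.Agent.Helper6.NT.negfun5 T h2 u0 u1 u2 u3 u5 (by norm_num) 2 1 1 2 2 (by norm_num) (by norm_num)
                                      linarith only [key, tap_0_1, taq_0_1, tap_0_2, taq_0_2, tap_0_3, taq_0_3, z_0_5, z_1_2, z_1_3, z_1_5, z_2_3, z_2_5, tap_3_5, taq_3_5, T.w_pos u0, T.w_pos u1, T.w_pos u2, T.w_pos u3, T.w_pos u5]
                                    · -- (3,5) Tp
                                      exfalso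
                                      have key := Groth.Agent.Helper6.NT.negfun3 T h2 u0 u3 u5 (by norm_num) 1 2 1 (by norm_num) (by norm_num)
                                      linarith only [key, tap_0_3, taq_0_3, z_0_5, tap_3_5, taq_3_5, T.w_pos u0, T.w_pos u3, T.w_pos u5]
                                    · -- (3,5) Tm
                                      exfalso
                                      have key := Groth.Agent.Helper6.NT.negfun3 T h2 u0 u3 u5 (by norm_num) 1 2 3 (by norm_num) (by norm_num)
                                      linarith only [key, tap_0_3, taq_0_3, z_0_5, tap_3_5, taq_3_5, T.w_pos u0, T.w_pos u3, T.w_pos u5]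
                                  · push Not at hx
                                    have cl_3 := hx
                                    clear hx
                                    by_cases hx : ∃ j, (j ≠ u0 ∧ j ≠ u1 ∧ j ≠ u2 ∧ j ≠ u3 ∧ j ≠ u4) ∧ T.a u4 j ≠ 0
                                    · obtain ⟨u5, ⟨hn_5_0, hn_5_1, hn_5_2, hn_5_3, hn_5_4⟩, e_4_5⟩ := hx
                                      have z_0_5 : T.a u0 u5 = 0 := cl_0 u5 ⟨hn_5_0, hn_5_1, hn_5_2, hn_5_3⟩
                                      have z_1_5 : T.a u1 u5 = 0 := cl_1 u5 ⟨hn_5_0, hn_5_1, hn_5_2, hn_5_3, hn_5_4⟩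
                                      have z_2_5 : T.a u2 u5 = 0 := cl_2 u5 ⟨hn_5_0, hn_5_1, hn_5_2, hn_5_3, hn_5_4⟩
                                      have z_3_5 : T.a u3 u5 = 0 := cl_3 u5 ⟨hn_5_0, hn_5_1, hn_5_2, hn_5_3, hn_5_4⟩
                                      rcases Groth.Agent.Helper6.NT.edge5 T h2 (by norm_num) u4 u5 hn_5_4.symm e_4_5 with ⟨tw_4_5, tap_4_5, taq_4_5⟩ | ⟨tw_4_5, tap_4_5, taq_4_5⟩ | ⟨tw_4_5, tap_4_5, taq_4_5⟩ | ⟨tw_4_5, tap_4_5, taq_4_5⟩ | ⟨tw_4_5, tap_4_5, taq_4_5⟩
                                      · -- (4,5) S
                                        have hinj := Groth.Agent.Helper6.NT.inj6 u0 u1 u2 u3 u4 u5 hn_1_0 hn_2_0 hn_2_1 hn_3_0 hn_3_1 hn_3_2 hn_4_0 hn_4_1 hn_4_2 hn_4_3 hn_5_0 hn_5_1 hn_5_2 hn_5_3 hn_5_4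
                                        have r_0 : -2 * T.m u0 + 1 * T.m u1 + 1 * T.m u2 + 1 * T.m u3 = 0 := by
                                          have key := Groth.Agent.Helper6.NT.rowfun6 T u0 u1 u2 u3 u4 u5 hinj u0
                                          rw [(h2 u0).2, tap_0_1, tap_0_2, tap_0_3, z_0_4, z_0_5] at key
                                          exact mul_left_cancel₀ (T.w_pos u0).ne' (by linarith only [key])
                                        have r_1 : 1 * T.m u0 + -2 * T.m u1 + 1 * T.m u4 = 0 := by
                                          have key := Groth.Agent.Helper6.NT.rowfun6 T u0 u1 u2 u3 u4 u5 hinj u1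
                                          rw [Groth.Agent.Helper6.NT.symm' T u1 u0, taq_0_1, (h2 u1).2, z_1_2, z_1_3, tap_1_4, z_1_5] at key
                                          exact mul_left_cancel₀ (T.w_pos u1).ne' (by linarith only [key])
                                        have r_2 : 1 * T.m u0 + -2 * T.m u2 = 0 := by
                                          have key := Groth.Agent.Helper6.NT.rowfun6 T u0 u1 u2 u3 u4 u5 hinj u2
                                          rw [Groth.Agent.Helper6.NT.symm' T u2 u0, taq_0_2, Groth.Agent.Helper6.NT.symm' T u2 u1, z_1_2, (h2 u2).2, z_2_3, z_2_4, z_2_5] at key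
                                          exact mul_left_cancel₀ (T.w_pos u2).ne' (by linarith only [key])
                                        have r_3 : 1 * T.m u0 + -2 * T.m u3 = 0 := by
                                          have key := Groth.Agent.Helper6.NT.rowfun6 T u0 u1 u2 u3 u4 u5 hinj u3
                                          rw [Groth.Agent.Helper6.NT.symm' T u3 u0, taq_0_3, Groth.Agent.Helper6.NT.symm' T u3 u1, z_1_3, Groth.Agent.Helper6.NT.symm' T u3 u2, z_2_3, (h2 u3).2, z_3_4, z_3_5] at key
                                          exact mul_left_cancel₀ (T.w_pos u3).ne' (by linarith only [key])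
                                        have r_4 : 1 * T.m u1 + -2 * T.m u4 + 1 * T.m u5 = 0 := by
                                          have key := Groth.Agent.Helper6.NT.rowfun6 T u0 u1 u2 u3 u4 u5 hinj u4
                                          rw [Groth.Agent.Helper6.NT.symm' T u4 u0, z_0_4, Groth.Agent.Helper6.NT.symm' T u4 u1, taq_1_4, Groth.Agent.Helper6.NT.symm' T u4 u2, z_2_4, Groth.Agent.Helper6.NT.symm' T u4 u3, z_3_4, (h2 u4).2, tap_4_5] at key
                                          exact mul_left_cancel₀ (T.w_pos u4).ne' (by linarith only [key])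
                                        have r_5 : 1 * T.m u4 + -2 * T.m u5 = 0 := by
                                          have key := Groth.Agent.Helper6.NT.rowfun6 T u0 u1 u2 u3 u4 u5 hinj u5
                                          rw [Groth.Agent.Helper6.NT.symm' T u5 u0, z_0_5, Groth.Agent.Helper6.NT.symm' T u5 u1, z_1_5, Groth.Agent.Helper6.NT.symm' T u5 u2, z_2_5, Groth.Agent.Helper6.NT.symm' T u5 u3, z_3_5, Groth.Agent.Helper6.NT.symm' T u5 u4, taq_4_5, (h2 u5).2] at key
                                          exact mul_left_cancel₀ (T.w_pos u5).ne' (by linarith only [key])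
                                        exfalso
                                        linarith only [r_0, r_1, r_2, r_3, r_4, r_5, T.m_pos u0, T.m_pos u1, T.m_pos u2, T.m_pos u3, T.m_pos u4, T.m_pos u5]
                                      · -- (4,5) Dp
                                        have hinj := Groth.Agent.Helper6.NT.inj6 u0 u1 u2 u3 u4 u5 hn_1_0 hn_2_0 hn_2_1 hn_3_0 hn_3_1 hn_3_2 hn_4_0 hn_4_1 hn_4_2 hn_4_3 hn_5_0 hn_5_1 hn_5_2 hn_5_3 hn_5_4
                                        have r_0 : -2 * T.m u0 + 1 * T.m u1 + 1 * T.m u2 + 1 * T.m u3 = 0 := by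
                                          have key := Groth.Agent.Helper6.NT.rowfun6 T u0 u1 u2 u3 u4 u5 hinj u0
                                          rw [(h2 u0).2, tap_0_1, tap_0_2, tap_0_3, z_0_4, z_0_5] at key
                                          exact mul_left_cancel₀ (T.w_pos u0).ne' (by linarith only [key])
                                        have r_1 : 1 * T.m u0 + -2 * T.m u1 + 1 * T.m u4 = 0 := by
                                          have key := Groth.Agent.Helper6.NT.rowfun6 T u0 u1 u2 u3 u4 u5 hinj u1
                                          rw [Groth.Agent.Helper6.NT.symm' T u1 u0, taq_0_1, (h2 u1).2, z_1_2, z_1_3, tap_1_4, z_1_5] at key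
                                          exact mul_left_cancel₀ (T.w_pos u1).ne' (by linarith only [key])
                                        have r_2 : 1 * T.m u0 + -2 * T.m u2 = 0 := by
                                          have key := Groth.Agent.Helper6.NT.rowfun6 T u0 u1 u2 u3 u4 u5 hinj u2
                                          rw [Groth.Agent.Helper6.NT.symm' T u2 u0, taq_0_2, Groth.Agent.Helper6.NT.symm' T u2 u1, z_1_2, (h2 u2).2, z_2_3, z_2_4, z_2_5] at key
                                          exact mul_left_cancel₀ (T.w_pos u2).ne' (by linarith only [key])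
                                        have r_3 : 1 * T.m u0 + -2 * T.m u3 = 0 := by
                                          have key := Groth.Agent.Helper6.NT.rowfun6 T u0 u1 u2 u3 u4 u5 hinj u3
                                          rw [Groth.Agent.Helper6.NT.symm' T u3 u0, taq_0_3, Groth.Agent.Helper6.NT.symm' T u3 u1, z_1_3, Groth.Agent.Helper6.NT.symm' T u3 u2, z_2_3, (h2 u3).2, z_3_4, z_3_5] at key
                                          exact mul_left_cancel₀ (T.w_pos u3).ne' (by linarith only [key])
                                        have r_4 : 1 * T.m u1 + -2 * T.m u4 + 2 * T.m u5 = 0 := by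
                                          have key := Groth.Agent.Helper6.NT.rowfun6 T u0 u1 u2 u3 u4 u5 hinj u4
                                          rw [Groth.Agent.Helper6.NT.symm' T u4 u0, z_0_4, Groth.Agent.Helper6.NT.symm' T u4 u1, taq_1_4, Groth.Agent.Helper6.NT.symm' T u4 u2, z_2_4, Groth.Agent.Helper6.NT.symm' T u4 u3, z_3_4, (h2 u4).2, tap_4_5] at key
                                          exact mul_left_cancel₀ (T.w_pos u4).ne' (by linarith only [key])
                                        have r_5 : 1 * T.m u4 + -2 * T.m u5 = 0 := by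
                                          have key := Groth.Agent.Helper6.NT.rowfun6 T u0 u1 u2 u3 u4 u5 hinj u5
                                          rw [Groth.Agent.Helper6.NT.symm' T u5 u0, z_0_5, Groth.Agent.Helper6.NT.symm' T u5 u1, z_1_5, Groth.Agent.Helper6.NT.symm' T u5 u2, z_2_5, Groth.Agent.Helper6.NT.symm' T u5 u3, z_3_5, Groth.Agent.Helper6.NT.symm' T u5 u4, taq_4_5, (h2 u5).2] at key
                                          exact mul_left_cancel₀ (T.w_pos u5).ne' (by linarith only [key])
                                        have f0 : T.m u5 = T.m u5 := rfl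
                                        have f1 : T.m u4 = 2 * T.m u5 := by linarith only [r_0, r_1, r_2, r_3, r_4, r_5]
                                        have f2 : T.m u1 = 2 * T.m u5 := by linarith only [r_0, r_1, r_2, r_3, r_4, r_5]
                                        have f3 : T.m u0 = 2 * T.m u5 := by linarith only [r_0, r_1, r_2, r_3, r_4, r_5]
                                        have f4 : T.m u2 = T.m u5 := by linarith only [r_0, r_1, r_2, r_3, r_4, r_5]
                                        have f5 : T.m u3 = T.m u5 := by linarith only [r_0, r_1, r_2, r_3, r_4, r_5]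
                                        have f6 : T.w u5 = 2 * T.w u4 := by linarith only [tw_0_1, tw_0_2, tw_0_3, tw_1_4, tw_4_5]
                                        have f7 : T.w u4 = T.w u4 := rfl
                                        have f8 : T.w u1 = T.w u4 := by linarith only [tw_0_1, tw_0_2, tw_0_3, tw_1_4, tw_4_5]
                                        have f9 : T.w u0 = T.w u4 := by linarith only [tw_0_1, tw_0_2, tw_0_3, tw_1_4, tw_4_5]
                                        have f10 : T.w u2 = T.w u4 := by linarith only [tw_0_1, tw_0_2, tw_0_3, tw_1_4, tw_4_5]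
                                        have f11 : T.w u3 = T.w u4 := by linarith only [tw_0_1, tw_0_2, tw_0_3, tw_1_4, tw_4_5]
                                        have f12 : T.a u5 u5 = -4 * T.w u4 := by have := (h2 u5).2; linarith only [this, tw_0_1, tw_0_2, tw_0_3, tw_1_4, tw_4_5]
                                        have f13 : T.a u5 u4 = 2 * T.w u4 := by rw [Groth.Agent.Helper6.NT.symm' T u5 u4]; linarith only [tap_4_5, tw_0_1, tw_0_2, tw_0_3, tw_1_4, tw_4_5]
                                        have f14 : T.a u5 u1 = 0 := by rw [Groth.Agent.Helper6.NT.symm' T u5 u1]; exact z_1_5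
                                        have f15 : T.a u5 u0 = 0 := by rw [Groth.Agent.Helper6.NT.symm' T u5 u0]; exact z_0_5
                                        have f16 : T.a u5 u2 = 0 := by rw [Groth.Agent.Helper6.NT.symm' T u5 u2]; exact z_2_5
                                        have f17 : T.a u5 u3 = 0 := by rw [Groth.Agent.Helper6.NT.symm' T u5 u3]; exact z_3_5
                                        have f18 : T.a u4 u4 = -2 * T.w u4 := by have := (h2 u4).2; linarith only [this, tw_0_1, tw_0_2, tw_0_3, tw_1_4, tw_4_5]
                                        have f19 : T.a u4 u1 = T.w u4 := by rw [Groth.Agent.Helper6.NT.symm' T u4 u1]; linarith only [tap_1_4, tw_0_1, tw_0_2, tw_0_3, tw_1_4, tw_4_5]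
                                        have f20 : T.a u4 u0 = 0 := by rw [Groth.Agent.Helper6.NT.symm' T u4 u0]; exact z_0_4
                                        have f21 : T.a u4 u2 = 0 := by rw [Groth.Agent.Helper6.NT.symm' T u4 u2]; exact z_2_4
                                        have f22 : T.a u4 u3 = 0 := by rw [Groth.Agent.Helper6.NT.symm' T u4 u3]; exact z_3_4
                                        have f23 : T.a u1 u1 = -2 * T.w u4 := by have := (h2 u1).2; linarith only [this, tw_0_1, tw_0_2, tw_0_3, tw_1_4, tw_4_5]
                                        have f24 : T.a u1 u0 = T.w u4 := by rw [Groth.Agent.Helper6.NT.symm' T u1 u0]; linarith only [tap_0_1, tw_0_1, tw_0_2, tw_0_3, tw_1_4, tw_4_5]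
                                        have f25 : T.a u1 u2 = 0 := by exact z_1_2
                                        have f26 : T.a u1 u3 = 0 := by exact z_1_3
                                        have f27 : T.a u0 u0 = -2 * T.w u4 := by have := (h2 u0).2; linarith only [this, tw_0_1, tw_0_2, tw_0_3, tw_1_4, tw_4_5]
                                        have f28 : T.a u0 u2 = T.w u4 := by linarith only [tap_0_2, tw_0_1, tw_0_2, tw_0_3, tw_1_4, tw_4_5]
                                        have f29 : T.a u0 u3 = T.w u4 := by linarith only [tap_0_3, tw_0_1, tw_0_2, tw_0_3, tw_1_4, tw_4_5]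
                                        have f30 : T.a u2 u2 = -2 * T.w u4 := by have := (h2 u2).2; linarith only [this, tw_0_1, tw_0_2, tw_0_3, tw_1_4, tw_4_5]
                                        have f31 : T.a u2 u3 = 0 := by exact z_2_3
                                        have f32 : T.a u3 u3 = -2 * T.w u4 := by have := (h2 u3).2; linarith only [this, tw_0_1, tw_0_2, tw_0_3, tw_1_4, tw_4_5]
                                        have hsig := Groth.Agent.Helper6.NT.inj6 u5 u4 u1 u0 u2 u3 hn_5_4.symm hn_5_1.symm hn_4_1.symm hn_5_0.symm hn_4_0.symm hn_1_0.symm hn_5_2.symm hn_4_2.symm hn_2_1 hn_2_0 hn_5_3.symm hn_4_3.symm hn_3_1 hn_3_0 hn_3_2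
                                        exact ⟨Equiv.ofBijective _ (Finite.injective_iff_bijective.1 hsig), T.m u5, T.w u4, Or.inr (Or.inr (Or.inr (Or.inr (Or.inl ⟨f0, f1, f2, f3, f4, f5, f6, f7, f8, f9, f10, f11, f12, f13, f14, f15, f16, f17, f18, f19, f20, f21, f22, f23, f24, f25, f26, f27, f28, f29, f30, f31, f32⟩))))⟩
                                      · -- (4,5) Dm
                                        have hinj := Groth.Agent.Helper6.NT.inj6 u0 u1 u2 u3 u4 u5 hn_1_0 hn_2_0 hn_2_1 hn_3_0 hn_3_1 hn_3_2 hn_4_0 hn_4_1 hn_4_2 hn_4_3 hn_5_0 hn_5_1 hn_5_2 hn_5_3 hn_5_4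
                                        have r_0 : -2 * T.m u0 + 1 * T.m u1 + 1 * T.m u2 + 1 * T.m u3 = 0 := by
                                          have key := Groth.Agent.Helper6.NT.rowfun6 T u0 u1 u2 u3 u4 u5 hinj u0
                                          rw [(h2 u0).2, tap_0_1, tap_0_2, tap_0_3, z_0_4, z_0_5] at key
                                          exact mul_left_cancel₀ (T.w_pos u0).ne' (by linarith only [key])
                                        have r_1 : 1 * T.m u0 + -2 * T.m u1 + 1 * T.m u4 = 0 := by
                                          have key := Groth.Agent.Helper6.NT.rowfun6 T u0 u1 u2 u3 u4 u5 hinj u1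
                                          rw [Groth.Agent.Helper6.NT.symm' T u1 u0, taq_0_1, (h2 u1).2, z_1_2, z_1_3, tap_1_4, z_1_5] at key
                                          exact mul_left_cancel₀ (T.w_pos u1).ne' (by linarith only [key])
                                        have r_2 : 1 * T.m u0 + -2 * T.m u2 = 0 := by
                                          have key := Groth.Agent.Helper6.NT.rowfun6 T u0 u1 u2 u3 u4 u5 hinj u2
                                          rw [Groth.Agent.Helper6.NT.symm' T u2 u0, taq_0_2, Groth.Agent.Helper6.NT.symm' T u2 u1, z_1_2, (h2 u2).2, z_2_3, z_2_4, z_2_5] at key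
                                          exact mul_left_cancel₀ (T.w_pos u2).ne' (by linarith only [key])
                                        have r_3 : 1 * T.m u0 + -2 * T.m u3 = 0 := by
                                          have key := Groth.Agent.Helper6.NT.rowfun6 T u0 u1 u2 u3 u4 u5 hinj u3
                                          rw [Groth.Agent.Helper6.NT.symm' T u3 u0, taq_0_3, Groth.Agent.Helper6.NT.symm' T u3 u1, z_1_3, Groth.Agent.Helper6.NT.symm' T u3 u2, z_2_3, (h2 u3).2, z_3_4, z_3_5] at key
                                          exact mul_left_cancel₀ (T.w_pos u3).ne' (by linarith only [key])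
                                        have r_4 : 1 * T.m u1 + -2 * T.m u4 + 1 * T.m u5 = 0 := by
                                          have key := Groth.Agent.Helper6.NT.rowfun6 T u0 u1 u2 u3 u4 u5 hinj u4
                                          rw [Groth.Agent.Helper6.NT.symm' T u4 u0, z_0_4, Groth.Agent.Helper6.NT.symm' T u4 u1, taq_1_4, Groth.Agent.Helper6.NT.symm' T u4 u2, z_2_4, Groth.Agent.Helper6.NT.symm' T u4 u3, z_3_4, (h2 u4).2, tap_4_5] at key
                                          exact mul_left_cancel₀ (T.w_pos u4).ne' (by linarith only [key])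
                                        have r_5 : 2 * T.m u4 + -2 * T.m u5 = 0 := by
                                          have key := Groth.Agent.Helper6.NT.rowfun6 T u0 u1 u2 u3 u4 u5 hinj u5
                                          rw [Groth.Agent.Helper6.NT.symm' T u5 u0, z_0_5, Groth.Agent.Helper6.NT.symm' T u5 u1, z_1_5, Groth.Agent.Helper6.NT.symm' T u5 u2, z_2_5, Groth.Agent.Helper6.NT.symm' T u5 u3, z_3_5, Groth.Agent.Helper6.NT.symm' T u5 u4, taq_4_5, (h2 u5).2] at key
                                          exact mul_left_cancel₀ (T.w_pos u5).ne' (by linarith only [key])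
                                        have f0 : T.m u5 = 2 * T.m u2 := by linarith only [r_0, r_1, r_2, r_3, r_4, r_5]
                                        have f1 : T.m u4 = 2 * T.m u2 := by linarith only [r_0, r_1, r_2, r_3, r_4, r_5]
                                        have f2 : T.m u1 = 2 * T.m u2 := by linarith only [r_0, r_1, r_2, r_3, r_4, r_5]
                                        have f3 : T.m u0 = 2 * T.m u2 := by linarith only [r_0, r_1, r_2, r_3, r_4, r_5]
                                        have f4 : T.m u2 = T.m u2 := rfl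
                                        have f5 : T.m u3 = T.m u2 := by linarith only [r_0, r_1, r_2, r_3, r_4, r_5]
                                        have f6 : T.w u5 = T.w u5 := rfl
                                        have f7 : T.w u4 = 2 * T.w u5 := by linarith only [tw_0_1, tw_0_2, tw_0_3, tw_1_4, tw_4_5]
                                        have f8 : T.w u1 = 2 * T.w u5 := by linarith only [tw_0_1, tw_0_2, tw_0_3, tw_1_4, tw_4_5]
                                        have f9 : T.w u0 = 2 * T.w u5 := by linarith only [tw_0_1, tw_0_2, tw_0_3, tw_1_4, tw_4_5]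
                                        have f10 : T.w u2 = 2 * T.w u5 := by linarith only [tw_0_1, tw_0_2, tw_0_3, tw_1_4, tw_4_5]
                                        have f11 : T.w u3 = 2 * T.w u5 := by linarith only [tw_0_1, tw_0_2, tw_0_3, tw_1_4, tw_4_5]
                                        have f12 : T.a u5 u5 = -2 * T.w u5 := by have := (h2 u5).2; linarith only [this, tw_0_1, tw_0_2, tw_0_3, tw_1_4, tw_4_5]
                                        have f13 : T.a u5 u4 = 2 * T.w u5 := by rw [Groth.Agent.Helper6.NT.symm' T u5 u4]; linarith only [tap_4_5, tw_0_1, tw_0_2, tw_0_3, tw_1_4, tw_4_5]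
                                        have f14 : T.a u5 u1 = 0 := by rw [Groth.Agent.Helper6.NT.symm' T u5 u1]; exact z_1_5
                                        have f15 : T.a u5 u0 = 0 := by rw [Groth.Agent.Helper6.NT.symm' T u5 u0]; exact z_0_5
                                        have f16 : T.a u5 u2 = 0 := by rw [Groth.Agent.Helper6.NT.symm' T u5 u2]; exact z_2_5
                                        have f17 : T.a u5 u3 = 0 := by rw [Groth.Agent.Helper6.NT.symm' T u5 u3]; exact z_3_5
                                        have f18 : T.a u4 u4 = -4 * T.w u5 := by have := (h2 u4).2; linarith only [this, tw_0_1, tw_0_2, tw_0_3, tw_1_4, tw_4_5]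
                                        have f19 : T.a u4 u1 = 2 * T.w u5 := by rw [Groth.Agent.Helper6.NT.symm' T u4 u1]; linarith only [tap_1_4, tw_0_1, tw_0_2, tw_0_3, tw_1_4, tw_4_5]
                                        have f20 : T.a u4 u0 = 0 := by rw [Groth.Agent.Helper6.NT.symm' T u4 u0]; exact z_0_4
                                        have f21 : T.a u4 u2 = 0 := by rw [Groth.Agent.Helper6.NT.symm' T u4 u2]; exact z_2_4
                                        have f22 : T.a u4 u3 = 0 := by rw [Groth.Agent.Helper6.NT.symm' T u4 u3]; exact z_3_4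
                                        have f23 : T.a u1 u1 = -4 * T.w u5 := by have := (h2 u1).2; linarith only [this, tw_0_1, tw_0_2, tw_0_3, tw_1_4, tw_4_5]
                                        have f24 : T.a u1 u0 = 2 * T.w u5 := by rw [Groth.Agent.Helper6.NT.symm' T u1 u0]; linarith only [tap_0_1, tw_0_1, tw_0_2, tw_0_3, tw_1_4, tw_4_5]
                                        have f25 : T.a u1 u2 = 0 := by exact z_1_2
                                        have f26 : T.a u1 u3 = 0 := by exact z_1_3
                                        have f27 : T.a u0 u0 = -4 * T.w u5 := by have := (h2 u0).2; linarith only [this, tw_0_1, tw_0_2, tw_0_3, tw_1_4, tw_4_5]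
                                        have f28 : T.a u0 u2 = 2 * T.w u5 := by linarith only [tap_0_2, tw_0_1, tw_0_2, tw_0_3, tw_1_4, tw_4_5]
                                        have f29 : T.a u0 u3 = 2 * T.w u5 := by linarith only [tap_0_3, tw_0_1, tw_0_2, tw_0_3, tw_1_4, tw_4_5]
                                        have f30 : T.a u2 u2 = -4 * T.w u5 := by have := (h2 u2).2; linarith only [this, tw_0_1, tw_0_2, tw_0_3, tw_1_4, tw_4_5]
                                        have f31 : T.a u2 u3 = 0 := by exact z_2_3
                                        have f32 : T.a u3 u3 = -4 * T.w u5 := by have := (h2 u3).2; linarith only [this, tw_0_1, tw_0_2, tw_0_3, tw_1_4, tw_4_5]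
                                        have hsig := Groth.Agent.Helper6.NT.inj6 u5 u4 u1 u0 u2 u3 hn_5_4.symm hn_5_1.symm hn_4_1.symm hn_5_0.symm hn_4_0.symm hn_1_0.symm hn_5_2.symm hn_4_2.symm hn_2_1 hn_2_0 hn_5_3.symm hn_4_3.symm hn_3_1 hn_3_0 hn_3_2
                                        exact ⟨Equiv.ofBijective _ (Finite.injective_iff_bijective.1 hsig), T.m u2, T.w u5, Or.inr (Or.inr (Or.inr (Or.inr (Or.inr (Or.inl ⟨f0, f1, f2, f3, f4, f5, f6, f7, f8, f9, f10, f11, f12, f13, f14, f15, f16, f17, f18, f19, f20, f21, f22, f23, f24, f25, f26, f27, f28, f29, f30, f31, f32⟩)))))⟩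
                                      · -- (4,5) Tp
                                        exfalso
                                        have key := Groth.Agent.Helper6.NT.negfun3 T h2 u1 u4 u5 (by norm_num) 1 2 1 (by norm_num) (by norm_num)
                                        linarith only [key, tap_1_4, taq_1_4, z_1_5, tap_4_5, taq_4_5, T.w_pos u1, T.w_pos u4, T.w_pos u5]
                                      · -- (4,5) Tm
                                        exfalso
                                        have key := Groth.Agent.Helper6.NT.negfun3 T h2 u1 u4 u5 (by norm_num) 1 2 3 (by norm_num) (by norm_num)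
                                        linarith only [key, tap_1_4, taq_1_4, z_1_5, tap_4_5, taq_4_5, T.w_pos u1, T.w_pos u4, T.w_pos u5]
                                    · push Not at hx
                                      have cl_4 := hx
                                      clear hx
                                      exfalso
                                      refine Groth.Agent.Helper6.NT.closed_contra T [u0, u1, u2, u3, u4] (by simp) (by simp) ?_
                                      intro i hi j hj
                                      simp only [List.mem_cons, List.not_mem_nil, or_false, not_or] at hi hj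
                                      rcases hi with rfl | rfl | rfl | rfl | rfl
                                      · exact cl_0 j ⟨hj.1, hj.2.1, hj.2.2.1, hj.2.2.2.1⟩
                                      · exact cl_1 j ⟨hj.1, hj.2.1, hj.2.2.1, hj.2.2.2.1, hj.2.2.2.2⟩
                                      · exact cl_2 j ⟨hj.1, hj.2.1, hj.2.2.1, hj.2.2.2.1, hj.2.2.2.2⟩
                                      · exact cl_3 j ⟨hj.1, hj.2.1, hj.2.2.1, hj.2.2.2.1, hj.2.2.2.2⟩
                                      · exact cl_4 j ⟨hj.1, hj.2.1, hj.2.2.1, hj.2.2.2.1, hj.2.2.2.2⟩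
                            · -- (3,4) nonzero
                              obtain ⟨lbp_3_4, lbq_3_4⟩ := Groth.Agent.Helper6.NT.lb T u3 u4 hn_4_3.symm nz_3_4
                              exfalso
                              have key := Groth.Agent.Helper6.NT.negfun4 T h2 u0 u1 u3 u4 (by norm_num) 1 1 1 1 (by norm_num) (by norm_num)
                              linarith only [key, tap_0_1, taq_0_1, tap_0_3, taq_0_3, z_0_4, z_1_3, tap_1_4, taq_1_4, lbp_3_4, lbq_3_4, T.w_pos u0, T.w_pos u1, T.w_pos u3, T.w_pos u4]
                          · -- (2,4) nonzero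
                            obtain ⟨lbp_2_4, lbq_2_4⟩ := Groth.Agent.Helper6.NT.lb T u2 u4 hn_4_2.symm nz_2_4
                            exfalso
                            have key := Groth.Agent.Helper6.NT.negfun4 T h2 u0 u1 u2 u4 (by norm_num) 1 1 1 1 (by norm_num) (by norm_num)
                            linarith only [key, tap_0_1, taq_0_1, tap_0_2, taq_0_2, z_0_4, z_1_2, tap_1_4, taq_1_4, lbp_2_4, lbq_2_4, T.w_pos u0, T.w_pos u1, T.w_pos u2, T.w_pos u4]
                        · -- (1,4) Dp
                          exfalso
                          have key := Groth.Agent.Helper6.NT.negfun5 T h2 u0 u1 u2 u3 u4 (by norm_num) 2 2 1 1 1 (by norm_num) (by norm_num)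
                          linarith only [key, tap_0_1, taq_0_1, tap_0_2, taq_0_2, tap_0_3, taq_0_3, z_0_4, z_1_2, z_1_3, tap_1_4, taq_1_4, z_2_3, T.offDiag_nonneg u2 u4 hn_4_2.symm, T.offDiag_nonneg u3 u4 hn_4_3.symm, T.w_pos u0, T.w_pos u1, T.w_pos u2, T.w_pos u3, T.w_pos u4]
                        · -- (1,4) Dm
                          exfalso
                          have key := Groth.Agent.Helper6.NT.negfun5 T h2 u0 u1 u2 u3 u4 (by norm_num) 2 2 1 1 2 (by norm_num) (by norm_num)
                          linarith only [key, tap_0_1, taq_0_1, tap_0_2, taq_0_2, tap_0_3, taq_0_3, z_0_4, z_1_2, z_1_3, tap_1_4, taq_1_4, z_2_3, T.offDiag_nonneg u2 u4 hn_4_2.symm, T.offDiag_nonneg u3 u4 hn_4_3.symm, T.w_pos u0, T.w_pos u1, T.w_pos u2, T.w_pos u3, T.w_pos u4]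
                        · -- (1,4) Tp
                          exfalso
                          have key := Groth.Agent.Helper6.NT.negfun3 T h2 u0 u1 u4 (by norm_num) 1 2 1 (by norm_num) (by norm_num)
                          linarith only [key, tap_0_1, taq_0_1, z_0_4, tap_1_4, taq_1_4, T.w_pos u0, T.w_pos u1, T.w_pos u4]
                        · -- (1,4) Tm
                          exfalso
                          have key := Groth.Agent.Helper6.NT.negfun3 T h2 u0 u1 u4 (by norm_num) 1 2 3 (by norm_num) (by norm_num)
                          linarith only [key, tap_0_1, taq_0_1, z_0_4, tap_1_4, taq_1_4, T.w_pos u0, T.w_pos u1, T.w_pos u4]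
                      · push Not at hx
                        have cl_1 := hx
                        clear hx
                        by_cases hx : ∃ j, (j ≠ u0 ∧ j ≠ u1 ∧ j ≠ u2 ∧ j ≠ u3) ∧ T.a u2 j ≠ 0
                        · obtain ⟨u4, ⟨hn_4_0, hn_4_1, hn_4_2, hn_4_3⟩, e_2_4⟩ := hx
                          have z_0_4 : T.a u0 u4 = 0 := cl_0 u4 ⟨hn_4_0, hn_4_1, hn_4_2, hn_4_3⟩
                          have z_1_4 : T.a u1 u4 = 0 := cl_1 u4 ⟨hn_4_0, hn_4_1, hn_4_2, hn_4_3⟩
                          rcases Groth.Agent.Helper6.NT.edge5 T h2 (by norm_num) u2 u4 hn_4_2.symm e_2_4 with ⟨tw_2_4, tap_2_4, taq_2_4⟩ | ⟨tw_2_4, tap_2_4, taq_2_4⟩ | ⟨tw_2_4, tap_2_4, taq_2_4⟩ | ⟨tw_2_4, tap_2_4, taq_2_4⟩ | ⟨tw_2_4, tap_2_4, taq_2_4⟩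
                          · -- (2,4) S
                            rcases eq_or_ne (T.a u3 u4) 0 with z_3_4 | nz_3_4
                            · -- (3,4) zero
                              by_cases hx : ∃ j, (j ≠ u0 ∧ j ≠ u1 ∧ j ≠ u2 ∧ j ≠ u3 ∧ j ≠ u4) ∧ T.a u2 j ≠ 0
                              · obtain ⟨u5, ⟨hn_5_0, hn_5_1, hn_5_2, hn_5_3, hn_5_4⟩, e_2_5⟩ := hx
                                have z_0_5 : T.a u0 u5 = 0 := cl_0 u5 ⟨hn_5_0, hn_5_1, hn_5_2, hn_5_3⟩
                                have z_1_5 : T.a u1 u5 = 0 := cl_1 u5 ⟨hn_5_0, hn_5_1, hn_5_2, hn_5_3⟩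
                                rcases Groth.Agent.Helper6.NT.edge5 T h2 (by norm_num) u2 u5 hn_5_2.symm e_2_5 with ⟨tw_2_5, tap_2_5, taq_2_5⟩ | ⟨tw_2_5, tap_2_5, taq_2_5⟩ | ⟨tw_2_5, tap_2_5, taq_2_5⟩ | ⟨tw_2_5, tap_2_5, taq_2_5⟩ | ⟨tw_2_5, tap_2_5, taq_2_5⟩
                                · -- (2,5) S
                                  rcases eq_or_ne (T.a u3 u5) 0 with z_3_5 | nz_3_5
                                  · -- (3,5) zero
                                    rcases eq_or_ne (T.a u4 u5) 0 with z_4_5 | nz_4_5
                                    · -- (4,5) zero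
                                      have hinj := Groth.Agent.Helper6.NT.inj6 u0 u1 u2 u3 u4 u5 hn_1_0 hn_2_0 hn_2_1 hn_3_0 hn_3_1 hn_3_2 hn_4_0 hn_4_1 hn_4_2 hn_4_3 hn_5_0 hn_5_1 hn_5_2 hn_5_3 hn_5_4
                                      have r_0 : -2 * T.m u0 + 1 * T.m u1 + 1 * T.m u2 + 1 * T.m u3 = 0 := by
                                        have key := Groth.Agent.Helper6.NT.rowfun6 T u0 u1 u2 u3 u4 u5 hinj u0
                                        rw [(h2 u0).2, tap_0_1, tap_0_2, tap_0_3, z_0_4, z_0_5] at key
                                        exact mul_left_cancel₀ (T.w_pos u0).ne' (by linarith only [key])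
                                      have r_1 : 1 * T.m u0 + -2 * T.m u1 = 0 := by
                                        have key := Groth.Agent.Helper6.NT.rowfun6 T u0 u1 u2 u3 u4 u5 hinj u1
                                        rw [Groth.Agent.Helper6.NT.symm' T u1 u0, taq_0_1, (h2 u1).2, z_1_2, z_1_3, z_1_4, z_1_5] at key
                                        exact mul_left_cancel₀ (T.w_pos u1).ne' (by linarith only [key])
                                      have r_2 : 1 * T.m u0 + -2 * T.m u2 + 1 * T.m u4 + 1 * T.m u5 = 0 := by
                                        have key := Groth.Agent.Helper6.NT.rowfun6 T u0 u1 u2 u3 u4 u5 hinj u2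
                                        rw [Groth.Agent.Helper6.NT.symm' T u2 u0, taq_0_2, Groth.Agent.Helper6.NT.symm' T u2 u1, z_1_2, (h2 u2).2, z_2_3, tap_2_4, tap_2_5] at key
                                        exact mul_left_cancel₀ (T.w_pos u2).ne' (by linarith only [key])
                                      have r_3 : 1 * T.m u0 + -2 * T.m u3 = 0 := by
                                        have key := Groth.Agent.Helper6.NT.rowfun6 T u0 u1 u2 u3 u4 u5 hinj u3
                                        rw [Groth.Agent.Helper6.NT.symm' T u3 u0, taq_0_3, Groth.Agent.Helper6.NT.symm' T u3 u1, z_1_3, Groth.Agent.Helper6.NT.symm' T u3 u2, z_2_3, (h2 u3).2, z_3_4, z_3_5] at key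
                                        exact mul_left_cancel₀ (T.w_pos u3).ne' (by linarith only [key])
                                      have r_4 : 1 * T.m u2 + -2 * T.m u4 = 0 := by
                                        have key := Groth.Agent.Helper6.NT.rowfun6 T u0 u1 u2 u3 u4 u5 hinj u4
                                        rw [Groth.Agent.Helper6.NT.symm' T u4 u0, z_0_4, Groth.Agent.Helper6.NT.symm' T u4 u1, z_1_4, Groth.Agent.Helper6.NT.symm' T u4 u2, taq_2_4, Groth.Agent.Helper6.NT.symm' T u4 u3, z_3_4, (h2 u4).2, z_4_5] at key
                                        exact mul_left_cancel₀ (T.w_pos u4).ne' (by linarith only [key])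
                                      have r_5 : 1 * T.m u2 + -2 * T.m u5 = 0 := by
                                        have key := Groth.Agent.Helper6.NT.rowfun6 T u0 u1 u2 u3 u4 u5 hinj u5
                                        rw [Groth.Agent.Helper6.NT.symm' T u5 u0, z_0_5, Groth.Agent.Helper6.NT.symm' T u5 u1, z_1_5, Groth.Agent.Helper6.NT.symm' T u5 u2, taq_2_5, Groth.Agent.Helper6.NT.symm' T u5 u3, z_3_5, Groth.Agent.Helper6.NT.symm' T u5 u4, z_4_5, (h2 u5).2] at key
                                        exact mul_left_cancel₀ (T.w_pos u5).ne' (by linarith only [key])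
                                      have f0 : T.m u1 = T.m u1 := rfl
                                      have f1 : T.m u3 = T.m u1 := by linarith only [r_0, r_1, r_2, r_3, r_4, r_5]
                                      have f2 : T.m u0 = 2 * T.m u1 := by linarith only [r_0, r_1, r_2, r_3, r_4, r_5]
                                      have f3 : T.m u2 = 2 * T.m u1 := by linarith only [r_0, r_1, r_2, r_3, r_4, r_5]
                                      have f4 : T.m u4 = T.m u1 := by linarith only [r_0, r_1, r_2, r_3, r_4, r_5]
                                      have f5 : T.m u5 = T.m u1 := by linarith only [r_0, r_1, r_2, r_3, r_4, r_5]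
                                      have f6 : T.w u1 = T.w u1 := rfl
                                      have f7 : T.w u3 = T.w u1 := by linarith only [tw_0_1, tw_0_2, tw_0_3, tw_2_4, tw_2_5]
                                      have f8 : T.w u0 = T.w u1 := by linarith only [tw_0_1, tw_0_2, tw_0_3, tw_2_4, tw_2_5]
                                      have f9 : T.w u2 = T.w u1 := by linarith only [tw_0_1, tw_0_2, tw_0_3, tw_2_4, tw_2_5]
                                      have f10 : T.w u4 = T.w u1 := by linarith only [tw_0_1, tw_0_2, tw_0_3, tw_2_4, tw_2_5]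
                                      have f11 : T.w u5 = T.w u1 := by linarith only [tw_0_1, tw_0_2, tw_0_3, tw_2_4, tw_2_5]
                                      have f12 : T.a u1 u1 = -2 * T.w u1 := by have := (h2 u1).2; linarith only [this, tw_0_1, tw_0_2, tw_0_3, tw_2_4, tw_2_5]
                                      have f13 : T.a u1 u3 = 0 := by exact z_1_3
                                      have f14 : T.a u1 u0 = T.w u1 := by rw [Groth.Agent.Helper6.NT.symm' T u1 u0]; linarith only [tap_0_1, tw_0_1, tw_0_2, tw_0_3, tw_2_4, tw_2_5]
                                      have f15 : T.a u1 u2 = 0 := by exact z_1_2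
                                      have f16 : T.a u1 u4 = 0 := by exact z_1_4
                                      have f17 : T.a u1 u5 = 0 := by exact z_1_5
                                      have f18 : T.a u3 u3 = -2 * T.w u1 := by have := (h2 u3).2; linarith only [this, tw_0_1, tw_0_2, tw_0_3, tw_2_4, tw_2_5]
                                      have f19 : T.a u3 u0 = T.w u1 := by rw [Groth.Agent.Helper6.NT.symm' T u3 u0]; linarith only [tap_0_3, tw_0_1, tw_0_2, tw_0_3, tw_2_4, tw_2_5]
                                      have f20 : T.a u3 u2 = 0 := by rw [Groth.Agent.Helper6.NT.symm' T u3 u2]; exact z_2_3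
                                      have f21 : T.a u3 u4 = 0 := by exact z_3_4
                                      have f22 : T.a u3 u5 = 0 := by exact z_3_5
                                      have f23 : T.a u0 u0 = -2 * T.w u1 := by have := (h2 u0).2; linarith only [this, tw_0_1, tw_0_2, tw_0_3, tw_2_4, tw_2_5]
                                      have f24 : T.a u0 u2 = T.w u1 := by linarith only [tap_0_2, tw_0_1, tw_0_2, tw_0_3, tw_2_4, tw_2_5]
                                      have f25 : T.a u0 u4 = 0 := by exact z_0_4
                                      have f26 : T.a u0 u5 = 0 := by exact z_0_5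
                                      have f27 : T.a u2 u2 = -2 * T.w u1 := by have := (h2 u2).2; linarith only [this, tw_0_1, tw_0_2, tw_0_3, tw_2_4, tw_2_5]
                                      have f28 : T.a u2 u4 = T.w u1 := by linarith only [tap_2_4, tw_0_1, tw_0_2, tw_0_3, tw_2_4, tw_2_5]
                                      have f29 : T.a u2 u5 = T.w u1 := by linarith only [tap_2_5, tw_0_1, tw_0_2, tw_0_3, tw_2_4, tw_2_5]
                                      have f30 : T.a u4 u4 = -2 * T.w u1 := by have := (h2 u4).2; linarith only [this, tw_0_1, tw_0_2, tw_0_3, tw_2_4, tw_2_5]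
                                      have f31 : T.a u4 u5 = 0 := by exact z_4_5
                                      have f32 : T.a u5 u5 = -2 * T.w u1 := by have := (h2 u5).2; linarith only [this, tw_0_1, tw_0_2, tw_0_3, tw_2_4, tw_2_5]
                                      have hsig := Groth.Agent.Helper6.NT.inj6 u1 u3 u0 u2 u4 u5 hn_3_1 hn_1_0.symm hn_3_0.symm hn_2_1 hn_3_2.symm hn_2_0 hn_4_1 hn_4_3 hn_4_0 hn_4_2 hn_5_1 hn_5_3 hn_5_0 hn_5_2 hn_5_4
                                      exact ⟨Equiv.ofBijective _ (Finite.injective_iff_bijective.1 hsig), T.m u1, T.w u1, Or.inr (Or.inr (Or.inr (Or.inr (Or.inr (Or.inr (⟨f0, f1, f2, f3, f4, f5, f6, f7, f8, f9, f10, f11, f12, f13, f14, f15, f16, f17, f18, f19, f20, f21, f22, f23, f24, f25, f26, f27, f28, f29, f30, f31, f32⟩))))))⟩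
                                    · -- (4,5) nonzero
                                      obtain ⟨lbp_4_5, lbq_4_5⟩ := Groth.Agent.Helper6.NT.lb T u4 u5 hn_5_4.symm nz_4_5
                                      exfalso
                                      have key := Groth.Agent.Helper6.NT.negfun3 T h2 u2 u4 u5 (by norm_num) 1 1 1 (by norm_num) (by norm_num)
                                      linarith only [key, tap_2_4, taq_2_4, tap_2_5, taq_2_5, lbp_4_5, lbq_4_5, T.w_pos u2, T.w_pos u4, T.w_pos u5]
                                  · -- (3,5) nonzero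
                                    obtain ⟨lbp_3_5, lbq_3_5⟩ := Groth.Agent.Helper6.NT.lb T u3 u5 hn_5_3.symm nz_3_5
                                    exfalso
                                    have key := Groth.Agent.Helper6.NT.negfun4 T h2 u0 u2 u3 u5 (by norm_num) 1 1 1 1 (by norm_num) (by norm_num)
                                    linarith only [key, tap_0_2, taq_0_2, tap_0_3, taq_0_3, z_0_5, z_2_3, tap_2_5, taq_2_5, lbp_3_5, lbq_3_5, T.w_pos u0, T.w_pos u2, T.w_pos u3, T.w_pos u5]
                                · -- (2,5) Dp
                                  exfalso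
                                  have key := Groth.Agent.Helper6.NT.negfun4 T h2 u0 u2 u4 u5 (by norm_num) 1 2 1 1 (by norm_num) (by norm_num)
                                  linarith only [key, tap_0_2, taq_0_2, z_0_4, z_0_5, tap_2_4, taq_2_4, tap_2_5, taq_2_5, T.offDiag_nonneg u4 u5 hn_5_4.symm, T.w_pos u0, T.w_pos u2, T.w_pos u4, T.w_pos u5]
                                · -- (2,5) Dm
                                  exfalso
                                  have key := Groth.Agent.Helper6.NT.negfun4 T h2 u0 u2 u4 u5 (by norm_num) 1 2 1 2 (by norm_num) (by norm_num)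
                                  linarith only [key, tap_0_2, taq_0_2, z_0_4, z_0_5, tap_2_4, taq_2_4, tap_2_5, taq_2_5, T.offDiag_nonneg u4 u5 hn_5_4.symm, T.w_pos u0, T.w_pos u2, T.w_pos u4, T.w_pos u5]
                                · -- (2,5) Tp
                                  exfalso
                                  have key := Groth.Agent.Helper6.NT.negfun3 T h2 u2 u4 u5 (by norm_num) 2 1 1 (by norm_num) (by norm_num)
                                  linarith only [key, tap_2_4, taq_2_4, tap_2_5, taq_2_5, T.offDiag_nonneg u4 u5 hn_5_4.symm, T.w_pos u2, T.w_pos u4, T.w_pos u5]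
                                · -- (2,5) Tm
                                  exfalso
                                  have key := Groth.Agent.Helper6.NT.negfun3 T h2 u2 u4 u5 (by norm_num) 2 1 3 (by norm_num) (by norm_num)
                                  linarith only [key, tap_2_4, taq_2_4, tap_2_5, taq_2_5, T.offDiag_nonneg u4 u5 hn_5_4.symm, T.w_pos u2, T.w_pos u4, T.w_pos u5]
                              · push Not at hx
                                have cl_2 := hx
                                clear hx
                                by_cases hx : ∃ j, (j ≠ u0 ∧ j ≠ u1 ∧ j ≠ u2 ∧ j ≠ u3 ∧ j ≠ u4) ∧ T.a u3 j ≠ 0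
                                · obtain ⟨u5, ⟨hn_5_0, hn_5_1, hn_5_2, hn_5_3, hn_5_4⟩, e_3_5⟩ := hx
                                  have z_0_5 : T.a u0 u5 = 0 := cl_0 u5 ⟨hn_5_0, hn_5_1, hn_5_2, hn_5_3⟩
                                  have z_1_5 : T.a u1 u5 = 0 := cl_1 u5 ⟨hn_5_0, hn_5_1, hn_5_2, hn_5_3⟩
                                  have z_2_5 : T.a u2 u5 = 0 := cl_2 u5 ⟨hn_5_0, hn_5_1, hn_5_2, hn_5_3, hn_5_4⟩
                                  rcases Groth.Agent.Helper6.NT.edge5 T h2 (by norm_num) u3 u5 hn_5_3.symm e_3_5 with ⟨tw_3_5, tap_3_5, taq_3_5⟩ | ⟨tw_3_5, tap_3_5, taq_3_5⟩ | ⟨tw_3_5, tap_3_5, taq_3_5⟩ | ⟨tw_3_5, tap_3_5, taq_3_5⟩ | ⟨tw_3_5, tap_3_5, taq_3_5⟩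
                                  · -- (3,5) S
                                    rcases eq_or_ne (T.a u4 u5) 0 with z_4_5 | nz_4_5
                                    · -- (4,5) zero
                                      have hinj := Groth.Agent.Helper6.NT.inj6 u0 u1 u2 u3 u4 u5 hn_1_0 hn_2_0 hn_2_1 hn_3_0 hn_3_1 hn_3_2 hn_4_0 hn_4_1 hn_4_2 hn_4_3 hn_5_0 hn_5_1 hn_5_2 hn_5_3 hn_5_4
                                      have r_0 : -2 * T.m u0 + 1 * T.m u1 + 1 * T.m u2 + 1 * T.m u3 = 0 := by
                                        have key := Groth.Agent.Helper6.NT.rowfun6 T u0 u1 u2 u3 u4 u5 hinj u0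
                                        rw [(h2 u0).2, tap_0_1, tap_0_2, tap_0_3, z_0_4, z_0_5] at key
                                        exact mul_left_cancel₀ (T.w_pos u0).ne' (by linarith only [key])
                                      have r_1 : 1 * T.m u0 + -2 * T.m u1 = 0 := by
                                        have key := Groth.Agent.Helper6.NT.rowfun6 T u0 u1 u2 u3 u4 u5 hinj u1
                                        rw [Groth.Agent.Helper6.NT.symm' T u1 u0, taq_0_1, (h2 u1).2, z_1_2, z_1_3, z_1_4, z_1_5] at key
                                        exact mul_left_cancel₀ (T.w_pos u1).ne' (by linarith only [key])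
                                      have r_2 : 1 * T.m u0 + -2 * T.m u2 + 1 * T.m u4 = 0 := by
                                        have key := Groth.Agent.Helper6.NT.rowfun6 T u0 u1 u2 u3 u4 u5 hinj u2
                                        rw [Groth.Agent.Helper6.NT.symm' T u2 u0, taq_0_2, Groth.Agent.Helper6.NT.symm' T u2 u1, z_1_2, (h2 u2).2, z_2_3, tap_2_4, z_2_5] at key
                                        exact mul_left_cancel₀ (T.w_pos u2).ne' (by linarith only [key])
                                      have r_3 : 1 * T.m u0 + -2 * T.m u3 + 1 * T.m u5 = 0 := by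
                                        have key := Groth.Agent.Helper6.NT.rowfun6 T u0 u1 u2 u3 u4 u5 hinj u3
                                        rw [Groth.Agent.Helper6.NT.symm' T u3 u0, taq_0_3, Groth.Agent.Helper6.NT.symm' T u3 u1, z_1_3, Groth.Agent.Helper6.NT.symm' T u3 u2, z_2_3, (h2 u3).2, z_3_4, tap_3_5] at key
                                        exact mul_left_cancel₀ (T.w_pos u3).ne' (by linarith only [key])
                                      have r_4 : 1 * T.m u2 + -2 * T.m u4 = 0 := by
                                        have key := Groth.Agent.Helper6.NT.rowfun6 T u0 u1 u2 u3 u4 u5 hinj u4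
                                        rw [Groth.Agent.Helper6.NT.symm' T u4 u0, z_0_4, Groth.Agent.Helper6.NT.symm' T u4 u1, z_1_4, Groth.Agent.Helper6.NT.symm' T u4 u2, taq_2_4, Groth.Agent.Helper6.NT.symm' T u4 u3, z_3_4, (h2 u4).2, z_4_5] at key
                                        exact mul_left_cancel₀ (T.w_pos u4).ne' (by linarith only [key])
                                      have r_5 : 1 * T.m u3 + -2 * T.m u5 = 0 := by
                                        have key := Groth.Agent.Helper6.NT.rowfun6 T u0 u1 u2 u3 u4 u5 hinj u5
                                        rw [Groth.Agent.Helper6.NT.symm' T u5 u0, z_0_5, Groth.Agent.Helper6.NT.symm' T u5 u1, z_1_5, Groth.Agent.Helper6.NT.symm' T u5 u2, z_2_5, Groth.Agent.Helper6.NT.symm' T u5 u3, taq_3_5, Groth.Agent.Helper6.NT.symm' T u5 u4, z_4_5, (h2 u5).2] at key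
                                        exact mul_left_cancel₀ (T.w_pos u5).ne' (by linarith only [key])
                                      exfalso
                                      linarith only [r_0, r_1, r_2, r_3, r_4, r_5, T.m_pos u0, T.m_pos u1, T.m_pos u2, T.m_pos u3, T.m_pos u4, T.m_pos u5]
                                    · -- (4,5) nonzero
                                      obtain ⟨lbp_4_5, lbq_4_5⟩ := Groth.Agent.Helper6.NT.lb T u4 u5 hn_5_4.symm nz_4_5
                                      exfalso
                                      have key := Groth.Agent.Helper6.NT.negfun5 T h2 u0 u2 u3 u4 u5 (by norm_num) 1 1 1 1 1 (by norm_num) (by norm_num)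
                                      linarith only [key, tap_0_2, taq_0_2, tap_0_3, taq_0_3, z_0_4, z_0_5, z_2_3, tap_2_4, taq_2_4, z_2_5, z_3_4, tap_3_5, taq_3_5, lbp_4_5, lbq_4_5, T.w_pos u0, T.w_pos u2, T.w_pos u3, T.w_pos u4, T.w_pos u5]
                                  · -- (3,5) Dp
                                    exfalso
                                    have key := Groth.Agent.Helper6.NT.negfun5 T h2 u0 u1 u2 u3 u5 (by norm_num) 2 1 1 2 1 (by norm_num) (by norm_num)
                                    linarith only [key, tap_0_1, taq_0_1, tap_0_2, taq_0_2, tap_0_3, taq_0_3, z_0_5, z_1_2, z_1_3, z_1_5, z_2_3, z_2_5, tap_3_5, taq_3_5, T.w_pos u0, T.w_pos u1, T.w_pos u2, T.w_pos u3, T.w_pos u5]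
                                  · -- (3,5) Dm
                                    exfalso
                                    have key := Groth.Agent.Helper6.NT.negfun5 T h2 u0 u1 u2 u3 u5 (by norm_num) 2 1 1 2 2 (by norm_num) (by norm_num)
                                    linarith only [key, tap_0_1, taq_0_1, tap_0_2, taq_0_2, tap_0_3, taq_0_3, z_0_5, z_1_2, z_1_3, z_1_5, z_2_3, z_2_5, tap_3_5, taq_3_5, T.w_pos u0, T.w_pos u1, T.w_pos u2, T.w_pos u3, T.w_pos u5]
                                  · -- (3,5) Tp
                                    exfalso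
                                    have key := Groth.Agent.Helper6.NT.negfun3 T h2 u0 u3 u5 (by norm_num) 1 2 1 (by norm_num) (by norm_num)
                                    linarith only [key, tap_0_3, taq_0_3, z_0_5, tap_3_5, taq_3_5, T.w_pos u0, T.w_pos u3, T.w_pos u5]
                                  · -- (3,5) Tm
                                    exfalso
                                    have key := Groth.Agent.Helper6.NT.negfun3 T h2 u0 u3 u5 (by norm_num) 1 2 3 (by norm_num) (by norm_num)
                                    linarith only [key, tap_0_3, taq_0_3, z_0_5, tap_3_5, taq_3_5, T.w_pos u0, T.w_pos u3, T.w_pos u5]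
                                · push Not at hx
                                  have cl_3 := hx
                                  clear hx
                                  by_cases hx : ∃ j, (j ≠ u0 ∧ j ≠ u1 ∧ j ≠ u2 ∧ j ≠ u3 ∧ j ≠ u4) ∧ T.a u4 j ≠ 0
                                  · obtain ⟨u5, ⟨hn_5_0, hn_5_1, hn_5_2, hn_5_3, hn_5_4⟩, e_4_5⟩ := hx
                                    have z_0_5 : T.a u0 u5 = 0 := cl_0 u5 ⟨hn_5_0, hn_5_1, hn_5_2, hn_5_3⟩
                                    have z_1_5 : T.a u1 u5 = 0 := cl_1 u5 ⟨hn_5_0, hn_5_1, hn_5_2, hn_5_3⟩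
                                    have z_2_5 : T.a u2 u5 = 0 := cl_2 u5 ⟨hn_5_0, hn_5_1, hn_5_2, hn_5_3, hn_5_4⟩
                                    have z_3_5 : T.a u3 u5 = 0 := cl_3 u5 ⟨hn_5_0, hn_5_1, hn_5_2, hn_5_3, hn_5_4⟩
                                    rcases Groth.Agent.Helper6.NT.edge5 T h2 (by norm_num) u4 u5 hn_5_4.symm e_4_5 with ⟨tw_4_5, tap_4_5, taq_4_5⟩ | ⟨tw_4_5, tap_4_5, taq_4_5⟩ | ⟨tw_4_5, tap_4_5, taq_4_5⟩ | ⟨tw_4_5, tap_4_5, taq_4_5⟩ | ⟨tw_4_5, tap_4_5, taq_4_5⟩
                                    · -- (4,5) S
                                      have hinj := Groth.Agent.Helper6.NT.inj6 u0 u1 u2 u3 u4 u5 hn_1_0 hn_2_0 hn_2_1 hn_3_0 hn_3_1 hn_3_2 hn_4_0 hn_4_1 hn_4_2 hn_4_3 hn_5_0 hn_5_1 hn_5_2 hn_5_3 hn_5_4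
                                      have r_0 : -2 * T.m u0 + 1 * T.m u1 + 1 * T.m u2 + 1 * T.m u3 = 0 := by
                                        have key := Groth.Agent.Helper6.NT.rowfun6 T u0 u1 u2 u3 u4 u5 hinj u0
                                        rw [(h2 u0).2, tap_0_1, tap_0_2, tap_0_3, z_0_4, z_0_5] at key
                                        exact mul_left_cancel₀ (T.w_pos u0).ne' (by linarith only [key])
                                      have r_1 : 1 * T.m u0 + -2 * T.m u1 = 0 := by
                                        have key := Groth.Agent.Helper6.NT.rowfun6 T u0 u1 u2 u3 u4 u5 hinj u1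
                                        rw [Groth.Agent.Helper6.NT.symm' T u1 u0, taq_0_1, (h2 u1).2, z_1_2, z_1_3, z_1_4, z_1_5] at key
                                        exact mul_left_cancel₀ (T.w_pos u1).ne' (by linarith only [key])
                                      have r_2 : 1 * T.m u0 + -2 * T.m u2 + 1 * T.m u4 = 0 := by
                                        have key := Groth.Agent.Helper6.NT.rowfun6 T u0 u1 u2 u3 u4 u5 hinj u2
                                        rw [Groth.Agent.Helper6.NT.symm' T u2 u0, taq_0_2, Groth.Agent.Helper6.NT.symm' T u2 u1, z_1_2, (h2 u2).2, z_2_3, tap_2_4, z_2_5] at key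
                                        exact mul_left_cancel₀ (T.w_pos u2).ne' (by linarith only [key])
                                      have r_3 : 1 * T.m u0 + -2 * T.m u3 = 0 := by
                                        have key := Groth.Agent.Helper6.NT.rowfun6 T u0 u1 u2 u3 u4 u5 hinj u3
                                        rw [Groth.Agent.Helper6.NT.symm' T u3 u0, taq_0_3, Groth.Agent.Helper6.NT.symm' T u3 u1, z_1_3, Groth.Agent.Helper6.NT.symm' T u3 u2, z_2_3, (h2 u3).2, z_3_4, z_3_5] at key
                                        exact mul_left_cancel₀ (T.w_pos u3).ne' (by linarith only [key])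
                                      have r_4 : 1 * T.m u2 + -2 * T.m u4 + 1 * T.m u5 = 0 := by
                                        have key := Groth.Agent.Helper6.NT.rowfun6 T u0 u1 u2 u3 u4 u5 hinj u4
                                        rw [Groth.Agent.Helper6.NT.symm' T u4 u0, z_0_4, Groth.Agent.Helper6.NT.symm' T u4 u1, z_1_4, Groth.Agent.Helper6.NT.symm' T u4 u2, taq_2_4, Groth.Agent.Helper6.NT.symm' T u4 u3, z_3_4, (h2 u4).2, tap_4_5] at key
                                        exact mul_left_cancel₀ (T.w_pos u4).ne' (by linarith only [key])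
                                      have r_5 : 1 * T.m u4 + -2 * T.m u5 = 0 := by
                                        have key := Groth.Agent.Helper6.NT.rowfun6 T u0 u1 u2 u3 u4 u5 hinj u5
                                        rw [Groth.Agent.Helper6.NT.symm' T u5 u0, z_0_5, Groth.Agent.Helper6.NT.symm' T u5 u1, z_1_5, Groth.Agent.Helper6.NT.symm' T u5 u2, z_2_5, Groth.Agent.Helper6.NT.symm' T u5 u3, z_3_5, Groth.Agent.Helper6.NT.symm' T u5 u4, taq_4_5, (h2 u5).2] at key
                                        exact mul_left_cancel₀ (T.w_pos u5).ne' (by linarith only [key])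
                                      exfalso
                                      linarith only [r_0, r_1, r_2, r_3, r_4, r_5, T.m_pos u0, T.m_pos u1, T.m_pos u2, T.m_pos u3, T.m_pos u4, T.m_pos u5]
                                    · -- (4,5) Dp
                                      have hinj := Groth.Agent.Helper6.NT.inj6 u0 u1 u2 u3 u4 u5 hn_1_0 hn_2_0 hn_2_1 hn_3_0 hn_3_1 hn_3_2 hn_4_0 hn_4_1 hn_4_2 hn_4_3 hn_5_0 hn_5_1 hn_5_2 hn_5_3 hn_5_4
                                      have r_0 : -2 * T.m u0 + 1 * T.m u1 + 1 * T.m u2 + 1 * T.m u3 = 0 := by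
                                        have key := Groth.Agent.Helper6.NT.rowfun6 T u0 u1 u2 u3 u4 u5 hinj u0
                                        rw [(h2 u0).2, tap_0_1, tap_0_2, tap_0_3, z_0_4, z_0_5] at key
                                        exact mul_left_cancel₀ (T.w_pos u0).ne' (by linarith only [key])
                                      have r_1 : 1 * T.m u0 + -2 * T.m u1 = 0 := by
                                        have key := Groth.Agent.Helper6.NT.rowfun6 T u0 u1 u2 u3 u4 u5 hinj u1
                                        rw [Groth.Agent.Helper6.NT.symm' T u1 u0, taq_0_1, (h2 u1).2, z_1_2, z_1_3, z_1_4, z_1_5] at key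
                                        exact mul_left_cancel₀ (T.w_pos u1).ne' (by linarith only [key])
                                      have r_2 : 1 * T.m u0 + -2 * T.m u2 + 1 * T.m u4 = 0 := by
                                        have key := Groth.Agent.Helper6.NT.rowfun6 T u0 u1 u2 u3 u4 u5 hinj u2
                                        rw [Groth.Agent.Helper6.NT.symm' T u2 u0, taq_0_2, Groth.Agent.Helper6.NT.symm' T u2 u1, z_1_2, (h2 u2).2, z_2_3, tap_2_4, z_2_5] at key
                                        exact mul_left_cancel₀ (T.w_pos u2).ne' (by linarith only [key])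
                                      have r_3 : 1 * T.m u0 + -2 * T.m u3 = 0 := by
                                        have key := Groth.Agent.Helper6.NT.rowfun6 T u0 u1 u2 u3 u4 u5 hinj u3
                                        rw [Groth.Agent.Helper6.NT.symm' T u3 u0, taq_0_3, Groth.Agent.Helper6.NT.symm' T u3 u1, z_1_3, Groth.Agent.Helper6.NT.symm' T u3 u2, z_2_3, (h2 u3).2, z_3_4, z_3_5] at key
                                        exact mul_left_cancel₀ (T.w_pos u3).ne' (by linarith only [key])
                                      have r_4 : 1 * T.m u2 + -2 * T.m u4 + 2 * T.m u5 = 0 := by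
                                        have key := Groth.Agent.Helper6.NT.rowfun6 T u0 u1 u2 u3 u4 u5 hinj u4
                                        rw [Groth.Agent.Helper6.NT.symm' T u4 u0, z_0_4, Groth.Agent.Helper6.NT.symm' T u4 u1, z_1_4, Groth.Agent.Helper6.NT.symm' T u4 u2, taq_2_4, Groth.Agent.Helper6.NT.symm' T u4 u3, z_3_4, (h2 u4).2, tap_4_5] at key
                                        exact mul_left_cancel₀ (T.w_pos u4).ne' (by linarith only [key])
                                      have r_5 : 1 * T.m u4 + -2 * T.m u5 = 0 := by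
                                        have key := Groth.Agent.Helper6.NT.rowfun6 T u0 u1 u2 u3 u4 u5 hinj u5
                                        rw [Groth.Agent.Helper6.NT.symm' T u5 u0, z_0_5, Groth.Agent.Helper6.NT.symm' T u5 u1, z_1_5, Groth.Agent.Helper6.NT.symm' T u5 u2, z_2_5, Groth.Agent.Helper6.NT.symm' T u5 u3, z_3_5, Groth.Agent.Helper6.NT.symm' T u5 u4, taq_4_5, (h2 u5).2] at key
                                        exact mul_left_cancel₀ (T.w_pos u5).ne' (by linarith only [key])
                                      have f0 : T.m u5 = T.m u5 := rfl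
                                      have f1 : T.m u4 = 2 * T.m u5 := by linarith only [r_0, r_1, r_2, r_3, r_4, r_5]
                                      have f2 : T.m u2 = 2 * T.m u5 := by linarith only [r_0, r_1, r_2, r_3, r_4, r_5]
                                      have f3 : T.m u0 = 2 * T.m u5 := by linarith only [r_0, r_1, r_2, r_3, r_4, r_5]
                                      have f4 : T.m u1 = T.m u5 := by linarith only [r_0, r_1, r_2, r_3, r_4, r_5]
                                      have f5 : T.m u3 = T.m u5 := by linarith only [r_0, r_1, r_2, r_3, r_4, r_5]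
                                      have f6 : T.w u5 = 2 * T.w u4 := by linarith only [tw_0_1, tw_0_2, tw_0_3, tw_2_4, tw_4_5]
                                      have f7 : T.w u4 = T.w u4 := rfl
                                      have f8 : T.w u2 = T.w u4 := by linarith only [tw_0_1, tw_0_2, tw_0_3, tw_2_4, tw_4_5]
                                      have f9 : T.w u0 = T.w u4 := by linarith only [tw_0_1, tw_0_2, tw_0_3, tw_2_4, tw_4_5]
                                      have f10 : T.w u1 = T.w u4 := by linarith only [tw_0_1, tw_0_2, tw_0_3, tw_2_4, tw_4_5]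
                                      have f11 : T.w u3 = T.w u4 := by linarith only [tw_0_1, tw_0_2, tw_0_3, tw_2_4, tw_4_5]
                                      have f12 : T.a u5 u5 = -4 * T.w u4 := by have := (h2 u5).2; linarith only [this, tw_0_1, tw_0_2, tw_0_3, tw_2_4, tw_4_5]
                                      have f13 : T.a u5 u4 = 2 * T.w u4 := by rw [Groth.Agent.Helper6.NT.symm' T u5 u4]; linarith only [tap_4_5, tw_0_1, tw_0_2, tw_0_3, tw_2_4, tw_4_5]
                                      have f14 : T.a u5 u2 = 0 := by rw [Groth.Agent.Helper6.NT.symm' T u5 u2]; exact z_2_5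
                                      have f15 : T.a u5 u0 = 0 := by rw [Groth.Agent.Helper6.NT.symm' T u5 u0]; exact z_0_5
                                      have f16 : T.a u5 u1 = 0 := by rw [Groth.Agent.Helper6.NT.symm' T u5 u1]; exact z_1_5
                                      have f17 : T.a u5 u3 = 0 := by rw [Groth.Agent.Helper6.NT.symm' T u5 u3]; exact z_3_5
                                      have f18 : T.a u4 u4 = -2 * T.w u4 := by have := (h2 u4).2; linarith only [this, tw_0_1, tw_0_2, tw_0_3, tw_2_4, tw_4_5]
                                      have f19 : T.a u4 u2 = T.w u4 := by rw [Groth.Agent.Helper6.NT.symm' T u4 u2]; linarith only [tap_2_4, tw_0_1, tw_0_2, tw_0_3, tw_2_4, tw_4_5]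
                                      have f20 : T.a u4 u0 = 0 := by rw [Groth.Agent.Helper6.NT.symm' T u4 u0]; exact z_0_4
                                      have f21 : T.a u4 u1 = 0 := by rw [Groth.Agent.Helper6.NT.symm' T u4 u1]; exact z_1_4
                                      have f22 : T.a u4 u3 = 0 := by rw [Groth.Agent.Helper6.NT.symm' T u4 u3]; exact z_3_4
                                      have f23 : T.a u2 u2 = -2 * T.w u4 := by have := (h2 u2).2; linarith only [this, tw_0_1, tw_0_2, tw_0_3, tw_2_4, tw_4_5]
                                      have f24 : T.a u2 u0 = T.w u4 := by rw [Groth.Agent.Helper6.NT.symm' T u2 u0]; linarith only [tap_0_2, tw_0_1, tw_0_2, tw_0_3, tw_2_4, tw_4_5]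
                                      have f25 : T.a u2 u1 = 0 := by rw [Groth.Agent.Helper6.NT.symm' T u2 u1]; exact z_1_2
                                      have f26 : T.a u2 u3 = 0 := by exact z_2_3
                                      have f27 : T.a u0 u0 = -2 * T.w u4 := by have := (h2 u0).2; linarith only [this, tw_0_1, tw_0_2, tw_0_3, tw_2_4, tw_4_5]
                                      have f28 : T.a u0 u1 = T.w u4 := by linarith only [tap_0_1, tw_0_1, tw_0_2, tw_0_3, tw_2_4, tw_4_5]
                                      have f29 : T.a u0 u3 = T.w u4 := by linarith only [tap_0_3, tw_0_1, tw_0_2, tw_0_3, tw_2_4, tw_4_5]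
                                      have f30 : T.a u1 u1 = -2 * T.w u4 := by have := (h2 u1).2; linarith only [this, tw_0_1, tw_0_2, tw_0_3, tw_2_4, tw_4_5]
                                      have f31 : T.a u1 u3 = 0 := by exact z_1_3
                                      have f32 : T.a u3 u3 = -2 * T.w u4 := by have := (h2 u3).2; linarith only [this, tw_0_1, tw_0_2, tw_0_3, tw_2_4, tw_4_5]
                                      have hsig := Groth.Agent.Helper6.NT.inj6 u5 u4 u2 u0 u1 u3 hn_5_4.symm hn_5_2.symm hn_4_2.symm hn_5_0.symm hn_4_0.symm hn_2_0.symm hn_5_1.symm hn_4_1.symm hn_2_1.symm hn_1_0 hn_5_3.symm hn_4_3.symm hn_3_2 hn_3_0 hn_3_1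
                                      exact ⟨Equiv.ofBijective _ (Finite.injective_iff_bijective.1 hsig), T.m u5, T.w u4, Or.inr (Or.inr (Or.inr (Or.inr (Or.inl ⟨f0, f1, f2, f3, f4, f5, f6, f7, f8, f9, f10, f11, f12, f13, f14, f15, f16, f17, f18, f19, f20, f21, f22, f23, f24, f25, f26, f27, f28, f29, f30, f31, f32⟩))))⟩
                                    · -- (4,5) Dm
                                      have hinj := Groth.Agent.Helper6.NT.inj6 u0 u1 u2 u3 u4 u5 hn_1_0 hn_2_0 hn_2_1 hn_3_0 hn_3_1 hn_3_2 hn_4_0 hn_4_1 hn_4_2 hn_4_3 hn_5_0 hn_5_1 hn_5_2 hn_5_3 hn_5_4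
                                      have r_0 : -2 * T.m u0 + 1 * T.m u1 + 1 * T.m u2 + 1 * T.m u3 = 0 := by
                                        have key := Groth.Agent.Helper6.NT.rowfun6 T u0 u1 u2 u3 u4 u5 hinj u0
                                        rw [(h2 u0).2, tap_0_1, tap_0_2, tap_0_3, z_0_4, z_0_5] at key
                                        exact mul_left_cancel₀ (T.w_pos u0).ne' (by linarith only [key])
                                      have r_1 : 1 * T.m u0 + -2 * T.m u1 = 0 := by
                                        have key := Groth.Agent.Helper6.NT.rowfun6 T u0 u1 u2 u3 u4 u5 hinj u1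
                                        rw [Groth.Agent.Helper6.NT.symm' T u1 u0, taq_0_1, (h2 u1).2, z_1_2, z_1_3, z_1_4, z_1_5] at key
                                        exact mul_left_cancel₀ (T.w_pos u1).ne' (by linarith only [key])
                                      have r_2 : 1 * T.m u0 + -2 * T.m u2 + 1 * T.m u4 = 0 := by
                                        have key := Groth.Agent.Helper6.NT.rowfun6 T u0 u1 u2 u3 u4 u5 hinj u2
                                        rw [Groth.Agent.Helper6.NT.symm' T u2 u0, taq_0_2, Groth.Agent.Helper6.NT.symm' T u2 u1, z_1_2, (h2 u2).2, z_2_3, tap_2_4, z_2_5] at key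
                                        exact mul_left_cancel₀ (T.w_pos u2).ne' (by linarith only [key])
                                      have r_3 : 1 * T.m u0 + -2 * T.m u3 = 0 := by
                                        have key := Groth.Agent.Helper6.NT.rowfun6 T u0 u1 u2 u3 u4 u5 hinj u3
                                        rw [Groth.Agent.Helper6.NT.symm' T u3 u0, taq_0_3, Groth.Agent.Helper6.NT.symm' T u3 u1, z_1_3, Groth.Agent.Helper6.NT.symm' T u3 u2, z_2_3, (h2 u3).2, z_3_4, z_3_5] at key
                                        exact mul_left_cancel₀ (T.w_pos u3).ne' (by linarith only [key])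
                                      have r_4 : 1 * T.m u2 + -2 * T.m u4 + 1 * T.m u5 = 0 := by
                                        have key := Groth.Agent.Helper6.NT.rowfun6 T u0 u1 u2 u3 u4 u5 hinj u4
                                        rw [Groth.Agent.Helper6.NT.symm' T u4 u0, z_0_4, Groth.Agent.Helper6.NT.symm' T u4 u1, z_1_4, Groth.Agent.Helper6.NT.symm' T u4 u2, taq_2_4, Groth.Agent.Helper6.NT.symm' T u4 u3, z_3_4, (h2 u4).2, tap_4_5] at key
                                        exact mul_left_cancel₀ (T.w_pos u4).ne' (by linarith only [key])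
                                      have r_5 : 2 * T.m u4 + -2 * T.m u5 = 0 := by
                                        have key := Groth.Agent.Helper6.NT.rowfun6 T u0 u1 u2 u3 u4 u5 hinj u5
                                        rw [Groth.Agent.Helper6.NT.symm' T u5 u0, z_0_5, Groth.Agent.Helper6.NT.symm' T u5 u1, z_1_5, Groth.Agent.Helper6.NT.symm' T u5 u2, z_2_5, Groth.Agent.Helper6.NT.symm' T u5 u3, z_3_5, Groth.Agent.Helper6.NT.symm' T u5 u4, taq_4_5, (h2 u5).2] at key
                                        exact mul_left_cancel₀ (T.w_pos u5).ne' (by linarith only [key])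
                                      have f0 : T.m u5 = 2 * T.m u1 := by linarith only [r_0, r_1, r_2, r_3, r_4, r_5]
                                      have f1 : T.m u4 = 2 * T.m u1 := by linarith only [r_0, r_1, r_2, r_3, r_4, r_5]
                                      have f2 : T.m u2 = 2 * T.m u1 := by linarith only [r_0, r_1, r_2, r_3, r_4, r_5]
                                      have f3 : T.m u0 = 2 * T.m u1 := by linarith only [r_0, r_1, r_2, r_3, r_4, r_5]
                                      have f4 : T.m u1 = T.m u1 := rfl
                                      have f5 : T.m u3 = T.m u1 := by linarith only [r_0, r_1, r_2, r_3, r_4, r_5]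
                                      have f6 : T.w u5 = T.w u5 := rfl
                                      have f7 : T.w u4 = 2 * T.w u5 := by linarith only [tw_0_1, tw_0_2, tw_0_3, tw_2_4, tw_4_5]
                                      have f8 : T.w u2 = 2 * T.w u5 := by linarith only [tw_0_1, tw_0_2, tw_0_3, tw_2_4, tw_4_5]
                                      have f9 : T.w u0 = 2 * T.w u5 := by linarith only [tw_0_1, tw_0_2, tw_0_3, tw_2_4, tw_4_5]
                                      have f10 : T.w u1 = 2 * T.w u5 := by linarith only [tw_0_1, tw_0_2, tw_0_3, tw_2_4, tw_4_5]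
                                      have f11 : T.w u3 = 2 * T.w u5 := by linarith only [tw_0_1, tw_0_2, tw_0_3, tw_2_4, tw_4_5]
                                      have f12 : T.a u5 u5 = -2 * T.w u5 := by have := (h2 u5).2; linarith only [this, tw_0_1, tw_0_2, tw_0_3, tw_2_4, tw_4_5]
                                      have f13 : T.a u5 u4 = 2 * T.w u5 := by rw [Groth.Agent.Helper6.NT.symm' T u5 u4]; linarith only [tap_4_5, tw_0_1, tw_0_2, tw_0_3, tw_2_4, tw_4_5]
                                      have f14 : T.a u5 u2 = 0 := by rw [Groth.Agent.Helper6.NT.symm' T u5 u2]; exact z_2_5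
                                      have f15 : T.a u5 u0 = 0 := by rw [Groth.Agent.Helper6.NT.symm' T u5 u0]; exact z_0_5
                                      have f16 : T.a u5 u1 = 0 := by rw [Groth.Agent.Helper6.NT.symm' T u5 u1]; exact z_1_5
                                      have f17 : T.a u5 u3 = 0 := by rw [Groth.Agent.Helper6.NT.symm' T u5 u3]; exact z_3_5
                                      have f18 : T.a u4 u4 = -4 * T.w u5 := by have := (h2 u4).2; linarith only [this, tw_0_1, tw_0_2, tw_0_3, tw_2_4, tw_4_5]
                                      have f19 : T.a u4 u2 = 2 * T.w u5 := by rw [Groth.Agent.Helper6.NT.symm' T u4 u2]; linarith only [tap_2_4, tw_0_1, tw_0_2, tw_0_3, tw_2_4, tw_4_5]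
                                      have f20 : T.a u4 u0 = 0 := by rw [Groth.Agent.Helper6.NT.symm' T u4 u0]; exact z_0_4
                                      have f21 : T.a u4 u1 = 0 := by rw [Groth.Agent.Helper6.NT.symm' T u4 u1]; exact z_1_4
                                      have f22 : T.a u4 u3 = 0 := by rw [Groth.Agent.Helper6.NT.symm' T u4 u3]; exact z_3_4
                                      have f23 : T.a u2 u2 = -4 * T.w u5 := by have := (h2 u2).2; linarith only [this, tw_0_1, tw_0_2, tw_0_3, tw_2_4, tw_4_5]
                                      have f24 : T.a u2 u0 = 2 * T.w u5 := by rw [Groth.Agent.Helper6.NT.symm' T u2 u0]; linarith only [tap_0_2, tw_0_1, tw_0_2, tw_0_3, tw_2_4, tw_4_5]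
                                      have f25 : T.a u2 u1 = 0 := by rw [Groth.Agent.Helper6.NT.symm' T u2 u1]; exact z_1_2
                                      have f26 : T.a u2 u3 = 0 := by exact z_2_3
                                      have f27 : T.a u0 u0 = -4 * T.w u5 := by have := (h2 u0).2; linarith only [this, tw_0_1, tw_0_2, tw_0_3, tw_2_4, tw_4_5]
                                      have f28 : T.a u0 u1 = 2 * T.w u5 := by linarith only [tap_0_1, tw_0_1, tw_0_2, tw_0_3, tw_2_4, tw_4_5]
                                      have f29 : T.a u0 u3 = 2 * T.w u5 := by linarith only [tap_0_3, tw_0_1, tw_0_2, tw_0_3, tw_2_4, tw_4_5]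
                                      have f30 : T.a u1 u1 = -4 * T.w u5 := by have := (h2 u1).2; linarith only [this, tw_0_1, tw_0_2, tw_0_3, tw_2_4, tw_4_5]
                                      have f31 : T.a u1 u3 = 0 := by exact z_1_3
                                      have f32 : T.a u3 u3 = -4 * T.w u5 := by have := (h2 u3).2; linarith only [this, tw_0_1, tw_0_2, tw_0_3, tw_2_4, tw_4_5]
                                      have hsig := Groth.Agent.Helper6.NT.inj6 u5 u4 u2 u0 u1 u3 hn_5_4.symm hn_5_2.symm hn_4_2.symm hn_5_0.symm hn_4_0.symm hn_2_0.symm hn_5_1.symm hn_4_1.symm hn_2_1.symm hn_1_0 hn_5_3.symm hn_4_3.symm hn_3_2 hn_3_0 hn_3_1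
                                      exact ⟨Equiv.ofBijective _ (Finite.injective_iff_bijective.1 hsig), T.m u1, T.w u5, Or.inr (Or.inr (Or.inr (Or.inr (Or.inr (Or.inl ⟨f0, f1, f2, f3, f4, f5, f6, f7, f8, f9, f10, f11, f12, f13, f14, f15, f16, f17, f18, f19, f20, f21, f22, f23, f24, f25, f26, f27, f28, f29, f30, f31, f32⟩)))))⟩
                                    · -- (4,5) Tp
                                      exfalso
                                      have key := Groth.Agent.Helper6.NT.negfun3 T h2 u2 u4 u5 (by norm_num) 1 2 1 (by norm_num) (by norm_num)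
                                      linarith only [key, tap_2_4, taq_2_4, z_2_5, tap_4_5, taq_4_5, T.w_pos u2, T.w_pos u4, T.w_pos u5]
                                    · -- (4,5) Tm
                                      exfalso
                                      have key := Groth.Agent.Helper6.NT.negfun3 T h2 u2 u4 u5 (by norm_num) 1 2 3 (by norm_num) (by norm_num)
                                      linarith only [key, tap_2_4, taq_2_4, z_2_5, tap_4_5, taq_4_5, T.w_pos u2, T.w_pos u4, T.w_pos u5]
                                  · push Not at hx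
                                    have cl_4 := hx
                                    clear hx
                                    exfalso
                                    refine Groth.Agent.Helper6.NT.closed_contra T [u0, u1, u2, u3, u4] (by simp) (by simp) ?_
                                    intro i hi j hj
                                    simp only [List.mem_cons, List.not_mem_nil, or_false, not_or] at hi hj
                                    rcases hi with rfl | rfl | rfl | rfl | rfl
                                    · exact cl_0 j ⟨hj.1, hj.2.1, hj.2.2.1, hj.2.2.2.1⟩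
                                    · exact cl_1 j ⟨hj.1, hj.2.1, hj.2.2.1, hj.2.2.2.1⟩
                                    · exact cl_2 j ⟨hj.1, hj.2.1, hj.2.2.1, hj.2.2.2.1, hj.2.2.2.2⟩
                                    · exact cl_3 j ⟨hj.1, hj.2.1, hj.2.2.1, hj.2.2.2.1, hj.2.2.2.2⟩
                                    · exact cl_4 j ⟨hj.1, hj.2.1, hj.2.2.1, hj.2.2.2.1, hj.2.2.2.2⟩
                            · -- (3,4) nonzero
                              obtain ⟨lbp_3_4, lbq_3_4⟩ := Groth.Agent.Helper6.NT.lb T u3 u4 hn_4_3.symm nz_3_4
                              exfalso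
                              have key := Groth.Agent.Helper6.NT.negfun4 T h2 u0 u2 u3 u4 (by norm_num) 1 1 1 1 (by norm_num) (by norm_num)
                              linarith only [key, tap_0_2, taq_0_2, tap_0_3, taq_0_3, z_0_4, z_2_3, tap_2_4, taq_2_4, lbp_3_4, lbq_3_4, T.w_pos u0, T.w_pos u2, T.w_pos u3, T.w_pos u4]
                          · -- (2,4) Dp
                            exfalso
                            have key := Groth.Agent.Helper6.NT.negfun5 T h2 u0 u1 u2 u3 u4 (by norm_num) 2 1 2 1 1 (by norm_num) (by norm_num)
                            linarith only [key, tap_0_1, taq_0_1, tap_0_2, taq_0_2, tap_0_3, taq_0_3, z_0_4, z_1_2, z_1_3, z_1_4, z_2_3, tap_2_4, taq_2_4, T.offDiag_nonneg u3 u4 hn_4_3.symm, T.w_pos u0, T.w_pos u1, T.w_pos u2, T.w_pos u3, T.w_pos u4]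
                          · -- (2,4) Dm
                            exfalso
                            have key := Groth.Agent.Helper6.NT.negfun5 T h2 u0 u1 u2 u3 u4 (by norm_num) 2 1 2 1 2 (by norm_num) (by norm_num)
                            linarith only [key, tap_0_1, taq_0_1, tap_0_2, taq_0_2, tap_0_3, taq_0_3, z_0_4, z_1_2, z_1_3, z_1_4, z_2_3, tap_2_4, taq_2_4, T.offDiag_nonneg u3 u4 hn_4_3.symm, T.w_pos u0, T.w_pos u1, T.w_pos u2, T.w_pos u3, T.w_pos u4]
                          · -- (2,4) Tp
                            exfalso
                            have key := Groth.Agent.Helper6.NT.negfun3 T h2 u0 u2 u4 (by norm_num) 1 2 1 (by norm_num) (by norm_num)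
                            linarith only [key, tap_0_2, taq_0_2, z_0_4, tap_2_4, taq_2_4, T.w_pos u0, T.w_pos u2, T.w_pos u4]
                          · -- (2,4) Tm
                            exfalso
                            have key := Groth.Agent.Helper6.NT.negfun3 T h2 u0 u2 u4 (by norm_num) 1 2 3 (by norm_num) (by norm_num)
                            linarith only [key, tap_0_2, taq_0_2, z_0_4, tap_2_4, taq_2_4, T.w_pos u0, T.w_pos u2, T.w_pos u4]
                        · push Not at hx
                          have cl_2 := hx
                          clear hx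
                          by_cases hx : ∃ j, (j ≠ u0 ∧ j ≠ u1 ∧ j ≠ u2 ∧ j ≠ u3) ∧ T.a u3 j ≠ 0
                          · obtain ⟨u4, ⟨hn_4_0, hn_4_1, hn_4_2, hn_4_3⟩, e_3_4⟩ := hx
                            have z_0_4 : T.a u0 u4 = 0 := cl_0 u4 ⟨hn_4_0, hn_4_1, hn_4_2, hn_4_3⟩
                            have z_1_4 : T.a u1 u4 = 0 := cl_1 u4 ⟨hn_4_0, hn_4_1, hn_4_2, hn_4_3⟩
                            have z_2_4 : T.a u2 u4 = 0 := cl_2 u4 ⟨hn_4_0, hn_4_1, hn_4_2, hn_4_3⟩
                            rcases Groth.Agent.Helper6.NT.edge5 T h2 (by norm_num) u3 u4 hn_4_3.symm e_3_4 with ⟨tw_3_4, tap_3_4, taq_3_4⟩ | ⟨tw_3_4, tap_3_4, taq_3_4⟩ | ⟨tw_3_4, tap_3_4, taq_3_4⟩ | ⟨tw_3_4, tap_3_4, taq_3_4⟩ | ⟨tw_3_4, tap_3_4, taq_3_4⟩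
                            · -- (3,4) S
                              by_cases hx : ∃ j, (j ≠ u0 ∧ j ≠ u1 ∧ j ≠ u2 ∧ j ≠ u3 ∧ j ≠ u4) ∧ T.a u3 j ≠ 0
                              · obtain ⟨u5, ⟨hn_5_0, hn_5_1, hn_5_2, hn_5_3, hn_5_4⟩, e_3_5⟩ := hx
                                have z_0_5 : T.a u0 u5 = 0 := cl_0 u5 ⟨hn_5_0, hn_5_1, hn_5_2, hn_5_3⟩
                                have z_1_5 : T.a u1 u5 = 0 := cl_1 u5 ⟨hn_5_0, hn_5_1, hn_5_2, hn_5_3⟩
                                have z_2_5 : T.a u2 u5 = 0 := cl_2 u5 ⟨hn_5_0, hn_5_1, hn_5_2, hn_5_3⟩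
                                rcases Groth.Agent.Helper6.NT.edge5 T h2 (by norm_num) u3 u5 hn_5_3.symm e_3_5 with ⟨tw_3_5, tap_3_5, taq_3_5⟩ | ⟨tw_3_5, tap_3_5, taq_3_5⟩ | ⟨tw_3_5, tap_3_5, taq_3_5⟩ | ⟨tw_3_5, tap_3_5, taq_3_5⟩ | ⟨tw_3_5, tap_3_5, taq_3_5⟩
                                · -- (3,5) S
                                  rcases eq_or_ne (T.a u4 u5) 0 with z_4_5 | nz_4_5
                                  · -- (4,5) zero
                                    have hinj := Groth.Agent.Helper6.NT.inj6 u0 u1 u2 u3 u4 u5 hn_1_0 hn_2_0 hn_2_1 hn_3_0 hn_3_1 hn_3_2 hn_4_0 hn_4_1 hn_4_2 hn_4_3 hn_5_0 hn_5_1 hn_5_2 hn_5_3 hn_5_4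
                                    have r_0 : -2 * T.m u0 + 1 * T.m u1 + 1 * T.m u2 + 1 * T.m u3 = 0 := by
                                      have key := Groth.Agent.Helper6.NT.rowfun6 T u0 u1 u2 u3 u4 u5 hinj u0
                                      rw [(h2 u0).2, tap_0_1, tap_0_2, tap_0_3, z_0_4, z_0_5] at key
                                      exact mul_left_cancel₀ (T.w_pos u0).ne' (by linarith only [key])
                                    have r_1 : 1 * T.m u0 + -2 * T.m u1 = 0 := by
                                      have key := Groth.Agent.Helper6.NT.rowfun6 T u0 u1 u2 u3 u4 u5 hinj u1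
                                      rw [Groth.Agent.Helper6.NT.symm' T u1 u0, taq_0_1, (h2 u1).2, z_1_2, z_1_3, z_1_4, z_1_5] at key
                                      exact mul_left_cancel₀ (T.w_pos u1).ne' (by linarith only [key])
                                    have r_2 : 1 * T.m u0 + -2 * T.m u2 = 0 := by
                                      have key := Groth.Agent.Helper6.NT.rowfun6 T u0 u1 u2 u3 u4 u5 hinj u2
                                      rw [Groth.Agent.Helper6.NT.symm' T u2 u0, taq_0_2, Groth.Agent.Helper6.NT.symm' T u2 u1, z_1_2, (h2 u2).2, z_2_3, z_2_4, z_2_5] at key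
                                      exact mul_left_cancel₀ (T.w_pos u2).ne' (by linarith only [key])
                                    have r_3 : 1 * T.m u0 + -2 * T.m u3 + 1 * T.m u4 + 1 * T.m u5 = 0 := by
                                      have key := Groth.Agent.Helper6.NT.rowfun6 T u0 u1 u2 u3 u4 u5 hinj u3
                                      rw [Groth.Agent.Helper6.NT.symm' T u3 u0, taq_0_3, Groth.Agent.Helper6.NT.symm' T u3 u1, z_1_3, Groth.Agent.Helper6.NT.symm' T u3 u2, z_2_3, (h2 u3).2, tap_3_4, tap_3_5] at key
                                      exact mul_left_cancel₀ (T.w_pos u3).ne' (by linarith only [key])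
                                    have r_4 : 1 * T.m u3 + -2 * T.m u4 = 0 := by
                                      have key := Groth.Agent.Helper6.NT.rowfun6 T u0 u1 u2 u3 u4 u5 hinj u4
                                      rw [Groth.Agent.Helper6.NT.symm' T u4 u0, z_0_4, Groth.Agent.Helper6.NT.symm' T u4 u1, z_1_4, Groth.Agent.Helper6.NT.symm' T u4 u2, z_2_4, Groth.Agent.Helper6.NT.symm' T u4 u3, taq_3_4, (h2 u4).2, z_4_5] at key
                                      exact mul_left_cancel₀ (T.w_pos u4).ne' (by linarith only [key])
                                    have r_5 : 1 * T.m u3 + -2 * T.m u5 = 0 := by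
                                      have key := Groth.Agent.Helper6.NT.rowfun6 T u0 u1 u2 u3 u4 u5 hinj u5
                                      rw [Groth.Agent.Helper6.NT.symm' T u5 u0, z_0_5, Groth.Agent.Helper6.NT.symm' T u5 u1, z_1_5, Groth.Agent.Helper6.NT.symm' T u5 u2, z_2_5, Groth.Agent.Helper6.NT.symm' T u5 u3, taq_3_5, Groth.Agent.Helper6.NT.symm' T u5 u4, z_4_5, (h2 u5).2] at key
                                      exact mul_left_cancel₀ (T.w_pos u5).ne' (by linarith only [key])
                                    have f0 : T.m u1 = T.m u1 := rfl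
                                    have f1 : T.m u2 = T.m u1 := by linarith only [r_0, r_1, r_2, r_3, r_4, r_5]
                                    have f2 : T.m u0 = 2 * T.m u1 := by linarith only [r_0, r_1, r_2, r_3, r_4, r_5]
                                    have f3 : T.m u3 = 2 * T.m u1 := by linarith only [r_0, r_1, r_2, r_3, r_4, r_5]
                                    have f4 : T.m u4 = T.m u1 := by linarith only [r_0, r_1, r_2, r_3, r_4, r_5]
                                    have f5 : T.m u5 = T.m u1 := by linarith only [r_0, r_1, r_2, r_3, r_4, r_5]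
                                    have f6 : T.w u1 = T.w u1 := rfl
                                    have f7 : T.w u2 = T.w u1 := by linarith only [tw_0_1, tw_0_2, tw_0_3, tw_3_4, tw_3_5]
                                    have f8 : T.w u0 = T.w u1 := by linarith only [tw_0_1, tw_0_2, tw_0_3, tw_3_4, tw_3_5]
                                    have f9 : T.w u3 = T.w u1 := by linarith only [tw_0_1, tw_0_2, tw_0_3, tw_3_4, tw_3_5]
                                    have f10 : T.w u4 = T.w u1 := by linarith only [tw_0_1, tw_0_2, tw_0_3, tw_3_4, tw_3_5]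
                                    have f11 : T.w u5 = T.w u1 := by linarith only [tw_0_1, tw_0_2, tw_0_3, tw_3_4, tw_3_5]
                                    have f12 : T.a u1 u1 = -2 * T.w u1 := by have := (h2 u1).2; linarith only [this, tw_0_1, tw_0_2, tw_0_3, tw_3_4, tw_3_5]
                                    have f13 : T.a u1 u2 = 0 := by exact z_1_2
                                    have f14 : T.a u1 u0 = T.w u1 := by rw [Groth.Agent.Helper6.NT.symm' T u1 u0]; linarith only [tap_0_1, tw_0_1, tw_0_2, tw_0_3, tw_3_4, tw_3_5]
                                    have f15 : T.a u1 u3 = 0 := by exact z_1_3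
                                    have f16 : T.a u1 u4 = 0 := by exact z_1_4
                                    have f17 : T.a u1 u5 = 0 := by exact z_1_5
                                    have f18 : T.a u2 u2 = -2 * T.w u1 := by have := (h2 u2).2; linarith only [this, tw_0_1, tw_0_2, tw_0_3, tw_3_4, tw_3_5]
                                    have f19 : T.a u2 u0 = T.w u1 := by rw [Groth.Agent.Helper6.NT.symm' T u2 u0]; linarith only [tap_0_2, tw_0_1, tw_0_2, tw_0_3, tw_3_4, tw_3_5]
                                    have f20 : T.a u2 u3 = 0 := by exact z_2_3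
                                    have f21 : T.a u2 u4 = 0 := by exact z_2_4
                                    have f22 : T.a u2 u5 = 0 := by exact z_2_5
                                    have f23 : T.a u0 u0 = -2 * T.w u1 := by have := (h2 u0).2; linarith only [this, tw_0_1, tw_0_2, tw_0_3, tw_3_4, tw_3_5]
                                    have f24 : T.a u0 u3 = T.w u1 := by linarith only [tap_0_3, tw_0_1, tw_0_2, tw_0_3, tw_3_4, tw_3_5]
                                    have f25 : T.a u0 u4 = 0 := by exact z_0_4
                                    have f26 : T.a u0 u5 = 0 := by exact z_0_5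
                                    have f27 : T.a u3 u3 = -2 * T.w u1 := by have := (h2 u3).2; linarith only [this, tw_0_1, tw_0_2, tw_0_3, tw_3_4, tw_3_5]
                                    have f28 : T.a u3 u4 = T.w u1 := by linarith only [tap_3_4, tw_0_1, tw_0_2, tw_0_3, tw_3_4, tw_3_5]
                                    have f29 : T.a u3 u5 = T.w u1 := by linarith only [tap_3_5, tw_0_1, tw_0_2, tw_0_3, tw_3_4, tw_3_5]
                                    have f30 : T.a u4 u4 = -2 * T.w u1 := by have := (h2 u4).2; linarith only [this, tw_0_1, tw_0_2, tw_0_3, tw_3_4, tw_3_5]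
                                    have f31 : T.a u4 u5 = 0 := by exact z_4_5
                                    have f32 : T.a u5 u5 = -2 * T.w u1 := by have := (h2 u5).2; linarith only [this, tw_0_1, tw_0_2, tw_0_3, tw_3_4, tw_3_5]
                                    have hsig := Groth.Agent.Helper6.NT.inj6 u1 u2 u0 u3 u4 u5 hn_2_1 hn_1_0.symm hn_2_0.symm hn_3_1 hn_3_2 hn_3_0 hn_4_1 hn_4_2 hn_4_0 hn_4_3 hn_5_1 hn_5_2 hn_5_0 hn_5_3 hn_5_4
                                    exact ⟨Equiv.ofBijective _ (Finite.injective_iff_bijective.1 hsig), T.m u1, T.w u1, Or.inr (Or.inr (Or.inr (Or.inr (Or.inr (Or.inr (⟨f0, f1, f2, f3, f4, f5, f6, f7, f8, f9, f10, f11, f12, f13, f14, f15, f16, f17, f18, f19, f20, f21, f22, f23, f24, f25, f26, f27, f28, f29, f30, f31, f32⟩))))))⟩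
                                  · -- (4,5) nonzero
                                    obtain ⟨lbp_4_5, lbq_4_5⟩ := Groth.Agent.Helper6.NT.lb T u4 u5 hn_5_4.symm nz_4_5
                                    exfalso
                                    have key := Groth.Agent.Helper6.NT.negfun3 T h2 u3 u4 u5 (by norm_num) 1 1 1 (by norm_num) (by norm_num)
                                    linarith only [key, tap_3_4, taq_3_4, tap_3_5, taq_3_5, lbp_4_5, lbq_4_5, T.w_pos u3, T.w_pos u4, T.w_pos u5]
                                · -- (3,5) Dp
                                  exfalso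
                                  have key := Groth.Agent.Helper6.NT.negfun4 T h2 u0 u3 u4 u5 (by norm_num) 1 2 1 1 (by norm_num) (by norm_num)
                                  linarith only [key, tap_0_3, taq_0_3, z_0_4, z_0_5, tap_3_4, taq_3_4, tap_3_5, taq_3_5, T.offDiag_nonneg u4 u5 hn_5_4.symm, T.w_pos u0, T.w_pos u3, T.w_pos u4, T.w_pos u5]
                                · -- (3,5) Dm
                                  exfalso
                                  have key := Groth.Agent.Helper6.NT.negfun4 T h2 u0 u3 u4 u5 (by norm_num) 1 2 1 2 (by norm_num) (by norm_num)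
                                  linarith only [key, tap_0_3, taq_0_3, z_0_4, z_0_5, tap_3_4, taq_3_4, tap_3_5, taq_3_5, T.offDiag_nonneg u4 u5 hn_5_4.symm, T.w_pos u0, T.w_pos u3, T.w_pos u4, T.w_pos u5]
                                · -- (3,5) Tp
                                  exfalso
                                  have key := Groth.Agent.Helper6.NT.negfun3 T h2 u3 u4 u5 (by norm_num) 2 1 1 (by norm_num) (by norm_num)
                                  linarith only [key, tap_3_4, taq_3_4, tap_3_5, taq_3_5, T.offDiag_nonneg u4 u5 hn_5_4.symm, T.w_pos u3, T.w_pos u4, T.w_pos u5]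
                                · -- (3,5) Tm
                                  exfalso
                                  have key := Groth.Agent.Helper6.NT.negfun3 T h2 u3 u4 u5 (by norm_num) 2 1 3 (by norm_num) (by norm_num)
                                  linarith only [key, tap_3_4, taq_3_4, tap_3_5, taq_3_5, T.offDiag_nonneg u4 u5 hn_5_4.symm, T.w_pos u3, T.w_pos u4, T.w_pos u5]
                              · push Not at hx
                                have cl_3 := hx
                                clear hx
                                by_cases hx : ∃ j, (j ≠ u0 ∧ j ≠ u1 ∧ j ≠ u2 ∧ j ≠ u3 ∧ j ≠ u4) ∧ T.a u4 j ≠ 0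
                                · obtain ⟨u5, ⟨hn_5_0, hn_5_1, hn_5_2, hn_5_3, hn_5_4⟩, e_4_5⟩ := hx
                                  have z_0_5 : T.a u0 u5 = 0 := cl_0 u5 ⟨hn_5_0, hn_5_1, hn_5_2, hn_5_3⟩
                                  have z_1_5 : T.a u1 u5 = 0 := cl_1 u5 ⟨hn_5_0, hn_5_1, hn_5_2, hn_5_3⟩
                                  have z_2_5 : T.a u2 u5 = 0 := cl_2 u5 ⟨hn_5_0, hn_5_1, hn_5_2, hn_5_3⟩
                                  have z_3_5 : T.a u3 u5 = 0 := cl_3 u5 ⟨hn_5_0, hn_5_1, hn_5_2, hn_5_3, hn_5_4⟩
                                  rcases Groth.Agent.Helper6.NT.edge5 T h2 (by norm_num) u4 u5 hn_5_4.symm e_4_5 with ⟨tw_4_5, tap_4_5, taq_4_5⟩ | ⟨tw_4_5, tap_4_5, taq_4_5⟩ | ⟨tw_4_5, tap_4_5, taq_4_5⟩ | ⟨tw_4_5, tap_4_5, taq_4_5⟩ | ⟨tw_4_5, tap_4_5, taq_4_5⟩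
                                  · -- (4,5) S
                                    have hinj := Groth.Agent.Helper6.NT.inj6 u0 u1 u2 u3 u4 u5 hn_1_0 hn_2_0 hn_2_1 hn_3_0 hn_3_1 hn_3_2 hn_4_0 hn_4_1 hn_4_2 hn_4_3 hn_5_0 hn_5_1 hn_5_2 hn_5_3 hn_5_4
                                    have r_0 : -2 * T.m u0 + 1 * T.m u1 + 1 * T.m u2 + 1 * T.m u3 = 0 := by
                                      have key := Groth.Agent.Helper6.NT.rowfun6 T u0 u1 u2 u3 u4 u5 hinj u0
                                      rw [(h2 u0).2, tap_0_1, tap_0_2, tap_0_3, z_0_4, z_0_5] at key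
                                      exact mul_left_cancel₀ (T.w_pos u0).ne' (by linarith only [key])
                                    have r_1 : 1 * T.m u0 + -2 * T.m u1 = 0 := by
                                      have key := Groth.Agent.Helper6.NT.rowfun6 T u0 u1 u2 u3 u4 u5 hinj u1
                                      rw [Groth.Agent.Helper6.NT.symm' T u1 u0, taq_0_1, (h2 u1).2, z_1_2, z_1_3, z_1_4, z_1_5] at key
                                      exact mul_left_cancel₀ (T.w_pos u1).ne' (by linarith only [key])
                                    have r_2 : 1 * T.m u0 + -2 * T.m u2 = 0 := by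
                                      have key := Groth.Agent.Helper6.NT.rowfun6 T u0 u1 u2 u3 u4 u5 hinj u2
                                      rw [Groth.Agent.Helper6.NT.symm' T u2 u0, taq_0_2, Groth.Agent.Helper6.NT.symm' T u2 u1, z_1_2, (h2 u2).2, z_2_3, z_2_4, z_2_5] at key
                                      exact mul_left_cancel₀ (T.w_pos u2).ne' (by linarith only [key])
                                    have r_3 : 1 * T.m u0 + -2 * T.m u3 + 1 * T.m u4 = 0 := by
                                      have key := Groth.Agent.Helper6.NT.rowfun6 T u0 u1 u2 u3 u4 u5 hinj u3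
                                      rw [Groth.Agent.Helper6.NT.symm' T u3 u0, taq_0_3, Groth.Agent.Helper6.NT.symm' T u3 u1, z_1_3, Groth.Agent.Helper6.NT.symm' T u3 u2, z_2_3, (h2 u3).2, tap_3_4, z_3_5] at key
                                      exact mul_left_cancel₀ (T.w_pos u3).ne' (by linarith only [key])
                                    have r_4 : 1 * T.m u3 + -2 * T.m u4 + 1 * T.m u5 = 0 := by
                                      have key := Groth.Agent.Helper6.NT.rowfun6 T u0 u1 u2 u3 u4 u5 hinj u4
                                      rw [Groth.Agent.Helper6.NT.symm' T u4 u0, z_0_4, Groth.Agent.Helper6.NT.symm' T u4 u1, z_1_4, Groth.Agent.Helper6.NT.symm' T u4 u2, z_2_4, Groth.Agent.Helper6.NT.symm' T u4 u3, taq_3_4, (h2 u4).2, tap_4_5] at key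
                                      exact mul_left_cancel₀ (T.w_pos u4).ne' (by linarith only [key])
                                    have r_5 : 1 * T.m u4 + -2 * T.m u5 = 0 := by
                                      have key := Groth.Agent.Helper6.NT.rowfun6 T u0 u1 u2 u3 u4 u5 hinj u5
                                      rw [Groth.Agent.Helper6.NT.symm' T u5 u0, z_0_5, Groth.Agent.Helper6.NT.symm' T u5 u1, z_1_5, Groth.Agent.Helper6.NT.symm' T u5 u2, z_2_5, Groth.Agent.Helper6.NT.symm' T u5 u3, z_3_5, Groth.Agent.Helper6.NT.symm' T u5 u4, taq_4_5, (h2 u5).2] at key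
                                      exact mul_left_cancel₀ (T.w_pos u5).ne' (by linarith only [key])
                                    exfalso
                                    linarith only [r_0, r_1, r_2, r_3, r_4, r_5, T.m_pos u0, T.m_pos u1, T.m_pos u2, T.m_pos u3, T.m_pos u4, T.m_pos u5]
                                  · -- (4,5) Dp
                                    have hinj := Groth.Agent.Helper6.NT.inj6 u0 u1 u2 u3 u4 u5 hn_1_0 hn_2_0 hn_2_1 hn_3_0 hn_3_1 hn_3_2 hn_4_0 hn_4_1 hn_4_2 hn_4_3 hn_5_0 hn_5_1 hn_5_2 hn_5_3 hn_5_4
                                    have r_0 : -2 * T.m u0 + 1 * T.m u1 + 1 * T.m u2 + 1 * T.m u3 = 0 := by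
                                      have key := Groth.Agent.Helper6.NT.rowfun6 T u0 u1 u2 u3 u4 u5 hinj u0
                                      rw [(h2 u0).2, tap_0_1, tap_0_2, tap_0_3, z_0_4, z_0_5] at key
                                      exact mul_left_cancel₀ (T.w_pos u0).ne' (by linarith only [key])
                                    have r_1 : 1 * T.m u0 + -2 * T.m u1 = 0 := by
                                      have key := Groth.Agent.Helper6.NT.rowfun6 T u0 u1 u2 u3 u4 u5 hinj u1
                                      rw [Groth.Agent.Helper6.NT.symm' T u1 u0, taq_0_1, (h2 u1).2, z_1_2, z_1_3, z_1_4, z_1_5] at key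
                                      exact mul_left_cancel₀ (T.w_pos u1).ne' (by linarith only [key])
                                    have r_2 : 1 * T.m u0 + -2 * T.m u2 = 0 := by
                                      have key := Groth.Agent.Helper6.NT.rowfun6 T u0 u1 u2 u3 u4 u5 hinj u2
                                      rw [Groth.Agent.Helper6.NT.symm' T u2 u0, taq_0_2, Groth.Agent.Helper6.NT.symm' T u2 u1, z_1_2, (h2 u2).2, z_2_3, z_2_4, z_2_5] at key
                                      exact mul_left_cancel₀ (T.w_pos u2).ne' (by linarith only [key])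
                                    have r_3 : 1 * T.m u0 + -2 * T.m u3 + 1 * T.m u4 = 0 := by
                                      have key := Groth.Agent.Helper6.NT.rowfun6 T u0 u1 u2 u3 u4 u5 hinj u3
                                      rw [Groth.Agent.Helper6.NT.symm' T u3 u0, taq_0_3, Groth.Agent.Helper6.NT.symm' T u3 u1, z_1_3, Groth.Agent.Helper6.NT.symm' T u3 u2, z_2_3, (h2 u3).2, tap_3_4, z_3_5] at key
                                      exact mul_left_cancel₀ (T.w_pos u3).ne' (by linarith only [key])
                                    have r_4 : 1 * T.m u3 + -2 * T.m u4 + 2 * T.m u5 = 0 := by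
                                      have key := Groth.Agent.Helper6.NT.rowfun6 T u0 u1 u2 u3 u4 u5 hinj u4
                                      rw [Groth.Agent.Helper6.NT.symm' T u4 u0, z_0_4, Groth.Agent.Helper6.NT.symm' T u4 u1, z_1_4, Groth.Agent.Helper6.NT.symm' T u4 u2, z_2_4, Groth.Agent.Helper6.NT.symm' T u4 u3, taq_3_4, (h2 u4).2, tap_4_5] at key
                                      exact mul_left_cancel₀ (T.w_pos u4).ne' (by linarith only [key])
                                    have r_5 : 1 * T.m u4 + -2 * T.m u5 = 0 := by
                                      have key := Groth.Agent.Helper6.NT.rowfun6 T u0 u1 u2 u3 u4 u5 hinj u5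
                                      rw [Groth.Agent.Helper6.NT.symm' T u5 u0, z_0_5, Groth.Agent.Helper6.NT.symm' T u5 u1, z_1_5, Groth.Agent.Helper6.NT.symm' T u5 u2, z_2_5, Groth.Agent.Helper6.NT.symm' T u5 u3, z_3_5, Groth.Agent.Helper6.NT.symm' T u5 u4, taq_4_5, (h2 u5).2] at key
                                      exact mul_left_cancel₀ (T.w_pos u5).ne' (by linarith only [key])
                                    have f0 : T.m u5 = T.m u5 := rfl
                                    have f1 : T.m u4 = 2 * T.m u5 := by linarith only [r_0, r_1, r_2, r_3, r_4, r_5]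
                                    have f2 : T.m u3 = 2 * T.m u5 := by linarith only [r_0, r_1, r_2, r_3, r_4, r_5]
                                    have f3 : T.m u0 = 2 * T.m u5 := by linarith only [r_0, r_1, r_2, r_3, r_4, r_5]
                                    have f4 : T.m u1 = T.m u5 := by linarith only [r_0, r_1, r_2, r_3, r_4, r_5]
                                    have f5 : T.m u2 = T.m u5 := by linarith only [r_0, r_1, r_2, r_3, r_4, r_5]
                                    have f6 : T.w u5 = 2 * T.w u4 := by linarith only [tw_0_1, tw_0_2, tw_0_3, tw_3_4, tw_4_5]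
                                    have f7 : T.w u4 = T.w u4 := rfl
                                    have f8 : T.w u3 = T.w u4 := by linarith only [tw_0_1, tw_0_2, tw_0_3, tw_3_4, tw_4_5]
                                    have f9 : T.w u0 = T.w u4 := by linarith only [tw_0_1, tw_0_2, tw_0_3, tw_3_4, tw_4_5]
                                    have f10 : T.w u1 = T.w u4 := by linarith only [tw_0_1, tw_0_2, tw_0_3, tw_3_4, tw_4_5]
                                    have f11 : T.w u2 = T.w u4 := by linarith only [tw_0_1, tw_0_2, tw_0_3, tw_3_4, tw_4_5]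
                                    have f12 : T.a u5 u5 = -4 * T.w u4 := by have := (h2 u5).2; linarith only [this, tw_0_1, tw_0_2, tw_0_3, tw_3_4, tw_4_5]
                                    have f13 : T.a u5 u4 = 2 * T.w u4 := by rw [Groth.Agent.Helper6.NT.symm' T u5 u4]; linarith only [tap_4_5, tw_0_1, tw_0_2, tw_0_3, tw_3_4, tw_4_5]
                                    have f14 : T.a u5 u3 = 0 := by rw [Groth.Agent.Helper6.NT.symm' T u5 u3]; exact z_3_5
                                    have f15 : T.a u5 u0 = 0 := by rw [Groth.Agent.Helper6.NT.symm' T u5 u0]; exact z_0_5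
                                    have f16 : T.a u5 u1 = 0 := by rw [Groth.Agent.Helper6.NT.symm' T u5 u1]; exact z_1_5
                                    have f17 : T.a u5 u2 = 0 := by rw [Groth.Agent.Helper6.NT.symm' T u5 u2]; exact z_2_5
                                    have f18 : T.a u4 u4 = -2 * T.w u4 := by have := (h2 u4).2; linarith only [this, tw_0_1, tw_0_2, tw_0_3, tw_3_4, tw_4_5]
                                    have f19 : T.a u4 u3 = T.w u4 := by rw [Groth.Agent.Helper6.NT.symm' T u4 u3]; linarith only [tap_3_4, tw_0_1, tw_0_2, tw_0_3, tw_3_4, tw_4_5]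
                                    have f20 : T.a u4 u0 = 0 := by rw [Groth.Agent.Helper6.NT.symm' T u4 u0]; exact z_0_4
                                    have f21 : T.a u4 u1 = 0 := by rw [Groth.Agent.Helper6.NT.symm' T u4 u1]; exact z_1_4
                                    have f22 : T.a u4 u2 = 0 := by rw [Groth.Agent.Helper6.NT.symm' T u4 u2]; exact z_2_4
                                    have f23 : T.a u3 u3 = -2 * T.w u4 := by have := (h2 u3).2; linarith only [this, tw_0_1, tw_0_2, tw_0_3, tw_3_4, tw_4_5]
                                    have f24 : T.a u3 u0 = T.w u4 := by rw [Groth.Agent.Helper6.NT.symm' T u3 u0]; linarith only [tap_0_3, tw_0_1, tw_0_2, tw_0_3, tw_3_4, tw_4_5]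
                                    have f25 : T.a u3 u1 = 0 := by rw [Groth.Agent.Helper6.NT.symm' T u3 u1]; exact z_1_3
                                    have f26 : T.a u3 u2 = 0 := by rw [Groth.Agent.Helper6.NT.symm' T u3 u2]; exact z_2_3
                                    have f27 : T.a u0 u0 = -2 * T.w u4 := by have := (h2 u0).2; linarith only [this, tw_0_1, tw_0_2, tw_0_3, tw_3_4, tw_4_5]
                                    have f28 : T.a u0 u1 = T.w u4 := by linarith only [tap_0_1, tw_0_1, tw_0_2, tw_0_3, tw_3_4, tw_4_5]
                                    have f29 : T.a u0 u2 = T.w u4 := by linarith only [tap_0_2, tw_0_1, tw_0_2, tw_0_3, tw_3_4, tw_4_5]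
                                    have f30 : T.a u1 u1 = -2 * T.w u4 := by have := (h2 u1).2; linarith only [this, tw_0_1, tw_0_2, tw_0_3, tw_3_4, tw_4_5]
                                    have f31 : T.a u1 u2 = 0 := by exact z_1_2
                                    have f32 : T.a u2 u2 = -2 * T.w u4 := by have := (h2 u2).2; linarith only [this, tw_0_1, tw_0_2, tw_0_3, tw_3_4, tw_4_5]
                                    have hsig := Groth.Agent.Helper6.NT.inj6 u5 u4 u3 u0 u1 u2 hn_5_4.symm hn_5_3.symm hn_4_3.symm hn_5_0.symm hn_4_0.symm hn_3_0.symm hn_5_1.symm hn_4_1.symm hn_3_1.symm hn_1_0 hn_5_2.symm hn_4_2.symm hn_3_2.symm hn_2_0 hn_2_1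
                                    exact ⟨Equiv.ofBijective _ (Finite.injective_iff_bijective.1 hsig), T.m u5, T.w u4, Or.inr (Or.inr (Or.inr (Or.inr (Or.inl ⟨f0, f1, f2, f3, f4, f5, f6, f7, f8, f9, f10, f11, f12, f13, f14, f15, f16, f17, f18, f19, f20, f21, f22, f23, f24, f25, f26, f27, f28, f29, f30, f31, f32⟩))))⟩
                                  · -- (4,5) Dm
                                    have hinj := Groth.Agent.Helper6.NT.inj6 u0 u1 u2 u3 u4 u5 hn_1_0 hn_2_0 hn_2_1 hn_3_0 hn_3_1 hn_3_2 hn_4_0 hn_4_1 hn_4_2 hn_4_3 hn_5_0 hn_5_1 hn_5_2 hn_5_3 hn_5_4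
                                    have r_0 : -2 * T.m u0 + 1 * T.m u1 + 1 * T.m u2 + 1 * T.m u3 = 0 := by
                                      have key := Groth.Agent.Helper6.NT.rowfun6 T u0 u1 u2 u3 u4 u5 hinj u0
                                      rw [(h2 u0).2, tap_0_1, tap_0_2, tap_0_3, z_0_4, z_0_5] at key
                                      exact mul_left_cancel₀ (T.w_pos u0).ne' (by linarith only [key])
                                    have r_1 : 1 * T.m u0 + -2 * T.m u1 = 0 := by
                                      have key := Groth.Agent.Helper6.NT.rowfun6 T u0 u1 u2 u3 u4 u5 hinj u1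
                                      rw [Groth.Agent.Helper6.NT.symm' T u1 u0, taq_0_1, (h2 u1).2, z_1_2, z_1_3, z_1_4, z_1_5] at key
                                      exact mul_left_cancel₀ (T.w_pos u1).ne' (by linarith only [key])
                                    have r_2 : 1 * T.m u0 + -2 * T.m u2 = 0 := by
                                      have key := Groth.Agent.Helper6.NT.rowfun6 T u0 u1 u2 u3 u4 u5 hinj u2
                                      rw [Groth.Agent.Helper6.NT.symm' T u2 u0, taq_0_2, Groth.Agent.Helper6.NT.symm' T u2 u1, z_1_2, (h2 u2).2, z_2_3, z_2_4, z_2_5] at key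
                                      exact mul_left_cancel₀ (T.w_pos u2).ne' (by linarith only [key])
                                    have r_3 : 1 * T.m u0 + -2 * T.m u3 + 1 * T.m u4 = 0 := by
                                      have key := Groth.Agent.Helper6.NT.rowfun6 T u0 u1 u2 u3 u4 u5 hinj u3
                                      rw [Groth.Agent.Helper6.NT.symm' T u3 u0, taq_0_3, Groth.Agent.Helper6.NT.symm' T u3 u1, z_1_3, Groth.Agent.Helper6.NT.symm' T u3 u2, z_2_3, (h2 u3).2, tap_3_4, z_3_5] at key
                                      exact mul_left_cancel₀ (T.w_pos u3).ne' (by linarith only [key])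
                                    have r_4 : 1 * T.m u3 + -2 * T.m u4 + 1 * T.m u5 = 0 := by
                                      have key := Groth.Agent.Helper6.NT.rowfun6 T u0 u1 u2 u3 u4 u5 hinj u4
                                      rw [Groth.Agent.Helper6.NT.symm' T u4 u0, z_0_4, Groth.Agent.Helper6.NT.symm' T u4 u1, z_1_4, Groth.Agent.Helper6.NT.symm' T u4 u2, z_2_4, Groth.Agent.Helper6.NT.symm' T u4 u3, taq_3_4, (h2 u4).2, tap_4_5] at key
                                      exact mul_left_cancel₀ (T.w_pos u4).ne' (by linarith only [key])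
                                    have r_5 : 2 * T.m u4 + -2 * T.m u5 = 0 := by
                                      have key := Groth.Agent.Helper6.NT.rowfun6 T u0 u1 u2 u3 u4 u5 hinj u5
                                      rw [Groth.Agent.Helper6.NT.symm' T u5 u0, z_0_5, Groth.Agent.Helper6.NT.symm' T u5 u1, z_1_5, Groth.Agent.Helper6.NT.symm' T u5 u2, z_2_5, Groth.Agent.Helper6.NT.symm' T u5 u3, z_3_5, Groth.Agent.Helper6.NT.symm' T u5 u4, taq_4_5, (h2 u5).2] at key
                                      exact mul_left_cancel₀ (T.w_pos u5).ne' (by linarith only [key])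
                                    have f0 : T.m u5 = 2 * T.m u1 := by linarith only [r_0, r_1, r_2, r_3, r_4, r_5]
                                    have f1 : T.m u4 = 2 * T.m u1 := by linarith only [r_0, r_1, r_2, r_3, r_4, r_5]
                                    have f2 : T.m u3 = 2 * T.m u1 := by linarith only [r_0, r_1, r_2, r_3, r_4, r_5]
                                    have f3 : T.m u0 = 2 * T.m u1 := by linarith only [r_0, r_1, r_2, r_3, r_4, r_5]
                                    have f4 : T.m u1 = T.m u1 := rfl
                                    have f5 : T.m u2 = T.m u1 := by linarith only [r_0, r_1, r_2, r_3, r_4, r_5]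
                                    have f6 : T.w u5 = T.w u5 := rfl
                                    have f7 : T.w u4 = 2 * T.w u5 := by linarith only [tw_0_1, tw_0_2, tw_0_3, tw_3_4, tw_4_5]
                                    have f8 : T.w u3 = 2 * T.w u5 := by linarith only [tw_0_1, tw_0_2, tw_0_3, tw_3_4, tw_4_5]
                                    have f9 : T.w u0 = 2 * T.w u5 := by linarith only [tw_0_1, tw_0_2, tw_0_3, tw_3_4, tw_4_5]
                                    have f10 : T.w u1 = 2 * T.w u5 := by linarith only [tw_0_1, tw_0_2, tw_0_3, tw_3_4, tw_4_5]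
                                    have f11 : T.w u2 = 2 * T.w u5 := by linarith only [tw_0_1, tw_0_2, tw_0_3, tw_3_4, tw_4_5]
                                    have f12 : T.a u5 u5 = -2 * T.w u5 := by have := (h2 u5).2; linarith only [this, tw_0_1, tw_0_2, tw_0_3, tw_3_4, tw_4_5]
                                    have f13 : T.a u5 u4 = 2 * T.w u5 := by rw [Groth.Agent.Helper6.NT.symm' T u5 u4]; linarith only [tap_4_5, tw_0_1, tw_0_2, tw_0_3, tw_3_4, tw_4_5]
                                    have f14 : T.a u5 u3 = 0 := by rw [Groth.Agent.Helper6.NT.symm' T u5 u3]; exact z_3_5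
                                    have f15 : T.a u5 u0 = 0 := by rw [Groth.Agent.Helper6.NT.symm' T u5 u0]; exact z_0_5
                                    have f16 : T.a u5 u1 = 0 := by rw [Groth.Agent.Helper6.NT.symm' T u5 u1]; exact z_1_5
                                    have f17 : T.a u5 u2 = 0 := by rw [Groth.Agent.Helper6.NT.symm' T u5 u2]; exact z_2_5
                                    have f18 : T.a u4 u4 = -4 * T.w u5 := by have := (h2 u4).2; linarith only [this, tw_0_1, tw_0_2, tw_0_3, tw_3_4, tw_4_5]
                                    have f19 : T.a u4 u3 = 2 * T.w u5 := by rw [Groth.Agent.Helper6.NT.symm' T u4 u3]; linarith only [tap_3_4, tw_0_1, tw_0_2, tw_0_3, tw_3_4, tw_4_5]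
                                    have f20 : T.a u4 u0 = 0 := by rw [Groth.Agent.Helper6.NT.symm' T u4 u0]; exact z_0_4
                                    have f21 : T.a u4 u1 = 0 := by rw [Groth.Agent.Helper6.NT.symm' T u4 u1]; exact z_1_4
                                    have f22 : T.a u4 u2 = 0 := by rw [Groth.Agent.Helper6.NT.symm' T u4 u2]; exact z_2_4
                                    have f23 : T.a u3 u3 = -4 * T.w u5 := by have := (h2 u3).2; linarith only [this, tw_0_1, tw_0_2, tw_0_3, tw_3_4, tw_4_5]
                                    have f24 : T.a u3 u0 = 2 * T.w u5 := by rw [Groth.Agent.Helper6.NT.symm' T u3 u0]; linarith only [tap_0_3, tw_0_1, tw_0_2, tw_0_3, tw_3_4, tw_4_5]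
                                    have f25 : T.a u3 u1 = 0 := by rw [Groth.Agent.Helper6.NT.symm' T u3 u1]; exact z_1_3
                                    have f26 : T.a u3 u2 = 0 := by rw [Groth.Agent.Helper6.NT.symm' T u3 u2]; exact z_2_3
                                    have f27 : T.a u0 u0 = -4 * T.w u5 := by have := (h2 u0).2; linarith only [this, tw_0_1, tw_0_2, tw_0_3, tw_3_4, tw_4_5]
                                    have f28 : T.a u0 u1 = 2 * T.w u5 := by linarith only [tap_0_1, tw_0_1, tw_0_2, tw_0_3, tw_3_4, tw_4_5]
                                    have f29 : T.a u0 u2 = 2 * T.w u5 := by linarith only [tap_0_2, tw_0_1, tw_0_2, tw_0_3, tw_3_4, tw_4_5]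
                                    have f30 : T.a u1 u1 = -4 * T.w u5 := by have := (h2 u1).2; linarith only [this, tw_0_1, tw_0_2, tw_0_3, tw_3_4, tw_4_5]
                                    have f31 : T.a u1 u2 = 0 := by exact z_1_2
                                    have f32 : T.a u2 u2 = -4 * T.w u5 := by have := (h2 u2).2; linarith only [this, tw_0_1, tw_0_2, tw_0_3, tw_3_4, tw_4_5]
                                    have hsig := Groth.Agent.Helper6.NT.inj6 u5 u4 u3 u0 u1 u2 hn_5_4.symm hn_5_3.symm hn_4_3.symm hn_5_0.symm hn_4_0.symm hn_3_0.symm hn_5_1.symm hn_4_1.symm hn_3_1.symm hn_1_0 hn_5_2.symm hn_4_2.symm hn_3_2.symm hn_2_0 hn_2_1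
                                    exact ⟨Equiv.ofBijective _ (Finite.injective_iff_bijective.1 hsig), T.m u1, T.w u5, Or.inr (Or.inr (Or.inr (Or.inr (Or.inr (Or.inl ⟨f0, f1, f2, f3, f4, f5, f6, f7, f8, f9, f10, f11, f12, f13, f14, f15, f16, f17, f18, f19, f20, f21, f22, f23, f24, f25, f26, f27, f28, f29, f30, f31, f32⟩)))))⟩
                                  · -- (4,5) Tp
                                    exfalso
                                    have key := Groth.Agent.Helper6.NT.negfun3 T h2 u3 u4 u5 (by norm_num) 1 2 1 (by norm_num) (by norm_num)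
                                    linarith only [key, tap_3_4, taq_3_4, z_3_5, tap_4_5, taq_4_5, T.w_pos u3, T.w_pos u4, T.w_pos u5]
                                  · -- (4,5) Tm
                                    exfalso
                                    have key := Groth.Agent.Helper6.NT.negfun3 T h2 u3 u4 u5 (by norm_num) 1 2 3 (by norm_num) (by norm_num)
                                    linarith only [key, tap_3_4, taq_3_4, z_3_5, tap_4_5, taq_4_5, T.w_pos u3, T.w_pos u4, T.w_pos u5]
                                · push Not at hx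
                                  have cl_4 := hx
                                  clear hx
                                  exfalso
                                  refine Groth.Agent.Helper6.NT.closed_contra T [u0, u1, u2, u3, u4] (by simp) (by simp) ?_
                                  intro i hi j hj
                                  simp only [List.mem_cons, List.not_mem_nil, or_false, not_or] at hi hj
                                  rcases hi with rfl | rfl | rfl | rfl | rfl
                                  · exact cl_0 j ⟨hj.1, hj.2.1, hj.2.2.1, hj.2.2.2.1⟩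
                                  · exact cl_1 j ⟨hj.1, hj.2.1, hj.2.2.1, hj.2.2.2.1⟩
                                  · exact cl_2 j ⟨hj.1, hj.2.1, hj.2.2.1, hj.2.2.2.1⟩
                                  · exact cl_3 j ⟨hj.1, hj.2.1, hj.2.2.1, hj.2.2.2.1, hj.2.2.2.2⟩
                                  · exact cl_4 j ⟨hj.1, hj.2.1, hj.2.2.1, hj.2.2.2.1, hj.2.2.2.2⟩
                            · -- (3,4) Dp
                              exfalso
                              have key := Groth.Agent.Helper6.NT.negfun5 T h2 u0 u1 u2 u3 u4 (by norm_num) 2 1 1 2 1 (by norm_num) (by norm_num)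
                              linarith only [key, tap_0_1, taq_0_1, tap_0_2, taq_0_2, tap_0_3, taq_0_3, z_0_4, z_1_2, z_1_3, z_1_4, z_2_3, z_2_4, tap_3_4, taq_3_4, T.w_pos u0, T.w_pos u1, T.w_pos u2, T.w_pos u3, T.w_pos u4]
                            · -- (3,4) Dm
                              exfalso
                              have key := Groth.Agent.Helper6.NT.negfun5 T h2 u0 u1 u2 u3 u4 (by norm_num) 2 1 1 2 2 (by norm_num) (by norm_num)
                              linarith only [key, tap_0_1, taq_0_1, tap_0_2, taq_0_2, tap_0_3, taq_0_3, z_0_4, z_1_2, z_1_3, z_1_4, z_2_3, z_2_4, tap_3_4, taq_3_4, T.w_pos u0, T.w_pos u1, T.w_pos u2, T.w_pos u3, T.w_pos u4]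
                            · -- (3,4) Tp
                              exfalso
                              have key := Groth.Agent.Helper6.NT.negfun3 T h2 u0 u3 u4 (by norm_num) 1 2 1 (by norm_num) (by norm_num)
                              linarith only [key, tap_0_3, taq_0_3, z_0_4, tap_3_4, taq_3_4, T.w_pos u0, T.w_pos u3, T.w_pos u4]
                            · -- (3,4) Tm
                              exfalso
                              have key := Groth.Agent.Helper6.NT.negfun3 T h2 u0 u3 u4 (by norm_num) 1 2 3 (by norm_num) (by norm_num)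
                              linarith only [key, tap_0_3, taq_0_3, z_0_4, tap_3_4, taq_3_4, T.w_pos u0, T.w_pos u3, T.w_pos u4]
                          · push Not at hx
                            have cl_3 := hx
                            clear hx
                            exfalso
                            refine Groth.Agent.Helper6.NT.closed_contra T [u0, u1, u2, u3] (by simp) (by simp) ?_
                            intro i hi j hj
                            simp only [List.mem_cons, List.not_mem_nil, or_false, not_or] at hi hj
                            rcases hi with rfl | rfl | rfl | rfl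
                            · exact cl_0 j ⟨hj.1, hj.2.1, hj.2.2.1, hj.2.2.2⟩
                            · exact cl_1 j ⟨hj.1, hj.2.1, hj.2.2.1, hj.2.2.2⟩
                            · exact cl_2 j ⟨hj.1, hj.2.1, hj.2.2.1, hj.2.2.2⟩
                            · exact cl_3 j ⟨hj.1, hj.2.1, hj.2.2.1, hj.2.2.2⟩
                  · -- (2,3) nonzero
                    obtain ⟨lbp_2_3, lbq_2_3⟩ := Groth.Agent.Helper6.NT.lb T u2 u3 hn_3_2.symm nz_2_3
                    exfalso
                    have key := Groth.Agent.Helper6.NT.negfun3 T h2 u0 u2 u3 (by norm_num) 1 1 1 (by norm_num) (by norm_num)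
                    linarith only [key, tap_0_2, taq_0_2, tap_0_3, taq_0_3, lbp_2_3, lbq_2_3, T.w_pos u0, T.w_pos u2, T.w_pos u3]
                · -- (1,3) nonzero
                  obtain ⟨lbp_1_3, lbq_1_3⟩ := Groth.Agent.Helper6.NT.lb T u1 u3 hn_3_1.symm nz_1_3
                  exfalso
                  have key := Groth.Agent.Helper6.NT.negfun3 T h2 u0 u1 u3 (by norm_num) 1 1 1 (by norm_num) (by norm_num)
                  linarith only [key, tap_0_1, taq_0_1, tap_0_3, taq_0_3, lbp_1_3, lbq_1_3, T.w_pos u0, T.w_pos u1, T.w_pos u3]
              · -- (0,3) Dp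
                exfalso
                have key := Groth.Agent.Helper6.NT.negfun4 T h2 u0 u1 u2 u3 (by norm_num) 2 1 1 1 (by norm_num) (by norm_num)
                linarith only [key, tap_0_1, taq_0_1, tap_0_2, taq_0_2, tap_0_3, taq_0_3, z_1_2, T.offDiag_nonneg u1 u3 hn_3_1.symm, T.offDiag_nonneg u2 u3 hn_3_2.symm, T.w_pos u0, T.w_pos u1, T.w_pos u2, T.w_pos u3]
              · -- (0,3) Dm
                exfalso
                have key := Groth.Agent.Helper6.NT.negfun4 T h2 u0 u1 u2 u3 (by norm_num) 2 1 1 2 (by norm_num) (by norm_num)
                linarith only [key, tap_0_1, taq_0_1, tap_0_2, taq_0_2, tap_0_3, taq_0_3, z_1_2, T.offDiag_nonneg u1 u3 hn_3_1.symm, T.offDiag_nonneg u2 u3 hn_3_2.symm, T.w_pos u0, T.w_pos u1, T.w_pos u2, T.w_pos u3]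
              · -- (0,3) Tp
                exfalso
                have key := Groth.Agent.Helper6.NT.negfun3 T h2 u0 u2 u3 (by norm_num) 2 1 1 (by norm_num) (by norm_num)
                linarith only [key, tap_0_2, taq_0_2, tap_0_3, taq_0_3, T.offDiag_nonneg u2 u3 hn_3_2.symm, T.w_pos u0, T.w_pos u2, T.w_pos u3]
              · -- (0,3) Tm
                exfalso
                have key := Groth.Agent.Helper6.NT.negfun3 T h2 u0 u2 u3 (by norm_num) 2 1 3 (by norm_num) (by norm_num)
                linarith only [key, tap_0_2, taq_0_2, tap_0_3, taq_0_3, T.offDiag_nonneg u2 u3 hn_3_2.symm, T.w_pos u0, T.w_pos u2, T.w_pos u3]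
            · push Not at hx
              have cl_0 := hx
              clear hx
              by_cases hx : ∃ j, (j ≠ u0 ∧ j ≠ u1 ∧ j ≠ u2) ∧ T.a u1 j ≠ 0
              · obtain ⟨u3, ⟨hn_3_0, hn_3_1, hn_3_2⟩, e_1_3⟩ := hx
                have z_0_3 : T.a u0 u3 = 0 := cl_0 u3 ⟨hn_3_0, hn_3_1, hn_3_2⟩
                rcases Groth.Agent.Helper6.NT.edge5 T h2 (by norm_num) u1 u3 hn_3_1.symm e_1_3 with ⟨tw_1_3, tap_1_3, taq_1_3⟩ | ⟨tw_1_3, tap_1_3, taq_1_3⟩ | ⟨tw_1_3, tap_1_3, taq_1_3⟩ | ⟨tw_1_3, tap_1_3, taq_1_3⟩ | ⟨tw_1_3, tap_1_3, taq_1_3⟩
                · -- (1,3) S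
                  rcases eq_or_ne (T.a u2 u3) 0 with z_2_3 | nz_2_3
                  · -- (2,3) zero
                    by_cases hx : ∃ j, (j ≠ u0 ∧ j ≠ u1 ∧ j ≠ u2 ∧ j ≠ u3) ∧ T.a u1 j ≠ 0
                    · obtain ⟨u4, ⟨hn_4_0, hn_4_1, hn_4_2, hn_4_3⟩, e_1_4⟩ := hx
                      have z_0_4 : T.a u0 u4 = 0 := cl_0 u4 ⟨hn_4_0, hn_4_1, hn_4_2⟩
                      rcases Groth.Agent.Helper6.NT.edge5 T h2 (by norm_num) u1 u4 hn_4_1.symm e_1_4 with ⟨tw_1_4, tap_1_4, taq_1_4⟩ | ⟨tw_1_4, tap_1_4, taq_1_4⟩ | ⟨tw_1_4, tap_1_4, taq_1_4⟩ | ⟨tw_1_4, tap_1_4, taq_1_4⟩ | ⟨tw_1_4, tap_1_4, taq_1_4⟩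
                      · -- (1,4) S
                        rcases eq_or_ne (T.a u2 u4) 0 with z_2_4 | nz_2_4
                        · -- (2,4) zero
                          rcases eq_or_ne (T.a u3 u4) 0 with z_3_4 | nz_3_4
                          · -- (3,4) zero
                            by_cases hx : ∃ j, (j ≠ u0 ∧ j ≠ u1 ∧ j ≠ u2 ∧ j ≠ u3 ∧ j ≠ u4) ∧ T.a u1 j ≠ 0
                            · obtain ⟨u5, ⟨hn_5_0, hn_5_1, hn_5_2, hn_5_3, hn_5_4⟩, e_1_5⟩ := hx
                              have z_0_5 : T.a u0 u5 = 0 := cl_0 u5 ⟨hn_5_0, hn_5_1, hn_5_2⟩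
                              rcases Groth.Agent.Helper6.NT.edge5 T h2 (by norm_num) u1 u5 hn_5_1.symm e_1_5 with ⟨tw_1_5, tap_1_5, taq_1_5⟩ | ⟨tw_1_5, tap_1_5, taq_1_5⟩ | ⟨tw_1_5, tap_1_5, taq_1_5⟩ | ⟨tw_1_5, tap_1_5, taq_1_5⟩ | ⟨tw_1_5, tap_1_5, taq_1_5⟩
                              · -- (1,5) S
                                exfalso
                                have key := Groth.Agent.Helper6.NT.negfun5 T h2 u0 u1 u3 u4 u5 (by norm_num) 1 2 1 1 1 (by norm_num) (by norm_num)
                                linarith only [key, tap_0_1, taq_0_1, z_0_3, z_0_4, z_0_5, tap_1_3, taq_1_3, tap_1_4, taq_1_4, tap_1_5, taq_1_5, z_3_4, T.offDiag_nonneg u3 u5 hn_5_3.symm, T.offDiag_nonneg u4 u5 hn_5_4.symm, T.w_pos u0, T.w_pos u1, T.w_pos u3, T.w_pos u4, T.w_pos u5]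
                              · -- (1,5) Dp
                                exfalso
                                have key := Groth.Agent.Helper6.NT.negfun4 T h2 u1 u3 u4 u5 (by norm_num) 2 1 1 1 (by norm_num) (by norm_num)
                                linarith only [key, tap_1_3, taq_1_3, tap_1_4, taq_1_4, tap_1_5, taq_1_5, z_3_4, T.offDiag_nonneg u3 u5 hn_5_3.symm, T.offDiag_nonneg u4 u5 hn_5_4.symm, T.w_pos u1, T.w_pos u3, T.w_pos u4, T.w_pos u5]
                              · -- (1,5) Dm
                                exfalso
                                have key := Groth.Agent.Helper6.NT.negfun4 T h2 u1 u3 u4 u5 (by norm_num) 2 1 1 2 (by norm_num) (by norm_num)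
                                linarith only [key, tap_1_3, taq_1_3, tap_1_4, taq_1_4, tap_1_5, taq_1_5, z_3_4, T.offDiag_nonneg u3 u5 hn_5_3.symm, T.offDiag_nonneg u4 u5 hn_5_4.symm, T.w_pos u1, T.w_pos u3, T.w_pos u4, T.w_pos u5]
                              · -- (1,5) Tp
                                exfalso
                                have key := Groth.Agent.Helper6.NT.negfun3 T h2 u1 u4 u5 (by norm_num) 2 1 1 (by norm_num) (by norm_num)
                                linarith only [key, tap_1_4, taq_1_4, tap_1_5, taq_1_5, T.offDiag_nonneg u4 u5 hn_5_4.symm, T.w_pos u1, T.w_pos u4, T.w_pos u5]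
                              · -- (1,5) Tm
                                exfalso
                                have key := Groth.Agent.Helper6.NT.negfun3 T h2 u1 u4 u5 (by norm_num) 2 1 3 (by norm_num) (by norm_num)
                                linarith only [key, tap_1_4, taq_1_4, tap_1_5, taq_1_5, T.offDiag_nonneg u4 u5 hn_5_4.symm, T.w_pos u1, T.w_pos u4, T.w_pos u5]
                            · push Not at hx
                              have cl_1 := hx
                              clear hx
                              by_cases hx : ∃ j, (j ≠ u0 ∧ j ≠ u1 ∧ j ≠ u2 ∧ j ≠ u3 ∧ j ≠ u4) ∧ T.a u2 j ≠ 0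
                              · obtain ⟨u5, ⟨hn_5_0, hn_5_1, hn_5_2, hn_5_3, hn_5_4⟩, e_2_5⟩ := hx
                                have z_0_5 : T.a u0 u5 = 0 := cl_0 u5 ⟨hn_5_0, hn_5_1, hn_5_2⟩
                                have z_1_5 : T.a u1 u5 = 0 := cl_1 u5 ⟨hn_5_0, hn_5_1, hn_5_2, hn_5_3, hn_5_4⟩
                                rcases Groth.Agent.Helper6.NT.edge5 T h2 (by norm_num) u2 u5 hn_5_2.symm e_2_5 with ⟨tw_2_5, tap_2_5, taq_2_5⟩ | ⟨tw_2_5, tap_2_5, taq_2_5⟩ | ⟨tw_2_5, tap_2_5, taq_2_5⟩ | ⟨tw_2_5, tap_2_5, taq_2_5⟩ | ⟨tw_2_5, tap_2_5, taq_2_5⟩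
                                · -- (2,5) S
                                  rcases eq_or_ne (T.a u3 u5) 0 with z_3_5 | nz_3_5
                                  · -- (3,5) zero
                                    rcases eq_or_ne (T.a u4 u5) 0 with z_4_5 | nz_4_5
                                    · -- (4,5) zero
                                      have hinj := Groth.Agent.Helper6.NT.inj6 u0 u1 u2 u3 u4 u5 hn_1_0 hn_2_0 hn_2_1 hn_3_0 hn_3_1 hn_3_2 hn_4_0 hn_4_1 hn_4_2 hn_4_3 hn_5_0 hn_5_1 hn_5_2 hn_5_3 hn_5_4
                                      have r_0 : -2 * T.m u0 + 1 * T.m u1 + 1 * T.m u2 = 0 := by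
                                        have key := Groth.Agent.Helper6.NT.rowfun6 T u0 u1 u2 u3 u4 u5 hinj u0
                                        rw [(h2 u0).2, tap_0_1, tap_0_2, z_0_3, z_0_4, z_0_5] at key
                                        exact mul_left_cancel₀ (T.w_pos u0).ne' (by linarith only [key])
                                      have r_1 : 1 * T.m u0 + -2 * T.m u1 + 1 * T.m u3 + 1 * T.m u4 = 0 := by
                                        have key := Groth.Agent.Helper6.NT.rowfun6 T u0 u1 u2 u3 u4 u5 hinj u1
                                        rw [Groth.Agent.Helper6.NT.symm' T u1 u0, taq_0_1, (h2 u1).2, z_1_2, tap_1_3, tap_1_4, z_1_5] at key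
                                        exact mul_left_cancel₀ (T.w_pos u1).ne' (by linarith only [key])
                                      have r_2 : 1 * T.m u0 + -2 * T.m u2 + 1 * T.m u5 = 0 := by
                                        have key := Groth.Agent.Helper6.NT.rowfun6 T u0 u1 u2 u3 u4 u5 hinj u2
                                        rw [Groth.Agent.Helper6.NT.symm' T u2 u0, taq_0_2, Groth.Agent.Helper6.NT.symm' T u2 u1, z_1_2, (h2 u2).2, z_2_3, z_2_4, tap_2_5] at key
                                        exact mul_left_cancel₀ (T.w_pos u2).ne' (by linarith only [key])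
                                      have r_3 : 1 * T.m u1 + -2 * T.m u3 = 0 := by
                                        have key := Groth.Agent.Helper6.NT.rowfun6 T u0 u1 u2 u3 u4 u5 hinj u3
                                        rw [Groth.Agent.Helper6.NT.symm' T u3 u0, z_0_3, Groth.Agent.Helper6.NT.symm' T u3 u1, taq_1_3, Groth.Agent.Helper6.NT.symm' T u3 u2, z_2_3, (h2 u3).2, z_3_4, z_3_5] at key
                                        exact mul_left_cancel₀ (T.w_pos u3).ne' (by linarith only [key])
                                      have r_4 : 1 * T.m u1 + -2 * T.m u4 = 0 := by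
                                        have key := Groth.Agent.Helper6.NT.rowfun6 T u0 u1 u2 u3 u4 u5 hinj u4
                                        rw [Groth.Agent.Helper6.NT.symm' T u4 u0, z_0_4, Groth.Agent.Helper6.NT.symm' T u4 u1, taq_1_4, Groth.Agent.Helper6.NT.symm' T u4 u2, z_2_4, Groth.Agent.Helper6.NT.symm' T u4 u3, z_3_4, (h2 u4).2, z_4_5] at key
                                        exact mul_left_cancel₀ (T.w_pos u4).ne' (by linarith only [key])
                                      have r_5 : 1 * T.m u2 + -2 * T.m u5 = 0 := by
                                        have key := Groth.Agent.Helper6.NT.rowfun6 T u0 u1 u2 u3 u4 u5 hinj u5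
                                        rw [Groth.Agent.Helper6.NT.symm' T u5 u0, z_0_5, Groth.Agent.Helper6.NT.symm' T u5 u1, z_1_5, Groth.Agent.Helper6.NT.symm' T u5 u2, taq_2_5, Groth.Agent.Helper6.NT.symm' T u5 u3, z_3_5, Groth.Agent.Helper6.NT.symm' T u5 u4, z_4_5, (h2 u5).2] at key
                                        exact mul_left_cancel₀ (T.w_pos u5).ne' (by linarith only [key])
                                      exfalso
                                      linarith only [r_0, r_1, r_2, r_3, r_4, r_5, T.m_pos u0, T.m_pos u1, T.m_pos u2, T.m_pos u3, T.m_pos u4, T.m_pos u5]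
                                    · -- (4,5) nonzero
                                      obtain ⟨lbp_4_5, lbq_4_5⟩ := Groth.Agent.Helper6.NT.lb T u4 u5 hn_5_4.symm nz_4_5
                                      exfalso
                                      have key := Groth.Agent.Helper6.NT.negfun5 T h2 u0 u1 u2 u4 u5 (by norm_num) 1 1 1 1 1 (by norm_num) (by norm_num)
                                      linarith only [key, tap_0_1, taq_0_1, tap_0_2, taq_0_2, z_0_4, z_0_5, z_1_2, tap_1_4, taq_1_4, z_1_5, z_2_4, tap_2_5, taq_2_5, lbp_4_5, lbq_4_5, T.w_pos u0, T.w_pos u1, T.w_pos u2, T.w_pos u4, T.w_pos u5]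
                                  · -- (3,5) nonzero
                                    obtain ⟨lbp_3_5, lbq_3_5⟩ := Groth.Agent.Helper6.NT.lb T u3 u5 hn_5_3.symm nz_3_5
                                    exfalso
                                    have key := Groth.Agent.Helper6.NT.negfun5 T h2 u0 u1 u2 u3 u5 (by norm_num) 1 1 1 1 1 (by norm_num) (by norm_num)
                                    linarith only [key, tap_0_1, taq_0_1, tap_0_2, taq_0_2, z_0_3, z_0_5, z_1_2, tap_1_3, taq_1_3, z_1_5, z_2_3, tap_2_5, taq_2_5, lbp_3_5, lbq_3_5, T.w_pos u0, T.w_pos u1, T.w_pos u2, T.w_pos u3, T.w_pos u5]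
                                · -- (2,5) Dp
                                  rcases eq_or_ne (T.a u3 u5) 0 with z_3_5 | nz_3_5
                                  · -- (3,5) zero
                                    rcases eq_or_ne (T.a u4 u5) 0 with z_4_5 | nz_4_5
                                    · -- (4,5) zero
                                      have hinj := Groth.Agent.Helper6.NT.inj6 u0 u1 u2 u3 u4 u5 hn_1_0 hn_2_0 hn_2_1 hn_3_0 hn_3_1 hn_3_2 hn_4_0 hn_4_1 hn_4_2 hn_4_3 hn_5_0 hn_5_1 hn_5_2 hn_5_3 hn_5_4
                                      have r_0 : -2 * T.m u0 + 1 * T.m u1 + 1 * T.m u2 = 0 := by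
                                        have key := Groth.Agent.Helper6.NT.rowfun6 T u0 u1 u2 u3 u4 u5 hinj u0
                                        rw [(h2 u0).2, tap_0_1, tap_0_2, z_0_3, z_0_4, z_0_5] at key
                                        exact mul_left_cancel₀ (T.w_pos u0).ne' (by linarith only [key])
                                      have r_1 : 1 * T.m u0 + -2 * T.m u1 + 1 * T.m u3 + 1 * T.m u4 = 0 := by
                                        have key := Groth.Agent.Helper6.NT.rowfun6 T u0 u1 u2 u3 u4 u5 hinj u1
                                        rw [Groth.Agent.Helper6.NT.symm' T u1 u0, taq_0_1, (h2 u1).2, z_1_2, tap_1_3, tap_1_4, z_1_5] at key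
                                        exact mul_left_cancel₀ (T.w_pos u1).ne' (by linarith only [key])
                                      have r_2 : 1 * T.m u0 + -2 * T.m u2 + 2 * T.m u5 = 0 := by
                                        have key := Groth.Agent.Helper6.NT.rowfun6 T u0 u1 u2 u3 u4 u5 hinj u2
                                        rw [Groth.Agent.Helper6.NT.symm' T u2 u0, taq_0_2, Groth.Agent.Helper6.NT.symm' T u2 u1, z_1_2, (h2 u2).2, z_2_3, z_2_4, tap_2_5] at key
                                        exact mul_left_cancel₀ (T.w_pos u2).ne' (by linarith only [key])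
                                      have r_3 : 1 * T.m u1 + -2 * T.m u3 = 0 := by
                                        have key := Groth.Agent.Helper6.NT.rowfun6 T u0 u1 u2 u3 u4 u5 hinj u3
                                        rw [Groth.Agent.Helper6.NT.symm' T u3 u0, z_0_3, Groth.Agent.Helper6.NT.symm' T u3 u1, taq_1_3, Groth.Agent.Helper6.NT.symm' T u3 u2, z_2_3, (h2 u3).2, z_3_4, z_3_5] at key
                                        exact mul_left_cancel₀ (T.w_pos u3).ne' (by linarith only [key])
                                      have r_4 : 1 * T.m u1 + -2 * T.m u4 = 0 := by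
                                        have key := Groth.Agent.Helper6.NT.rowfun6 T u0 u1 u2 u3 u4 u5 hinj u4
                                        rw [Groth.Agent.Helper6.NT.symm' T u4 u0, z_0_4, Groth.Agent.Helper6.NT.symm' T u4 u1, taq_1_4, Groth.Agent.Helper6.NT.symm' T u4 u2, z_2_4, Groth.Agent.Helper6.NT.symm' T u4 u3, z_3_4, (h2 u4).2, z_4_5] at key
                                        exact mul_left_cancel₀ (T.w_pos u4).ne' (by linarith only [key])
                                      have r_5 : 1 * T.m u2 + -2 * T.m u5 = 0 := by
                                        have key := Groth.Agent.Helper6.NT.rowfun6 T u0 u1 u2 u3 u4 u5 hinj u5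
                                        rw [Groth.Agent.Helper6.NT.symm' T u5 u0, z_0_5, Groth.Agent.Helper6.NT.symm' T u5 u1, z_1_5, Groth.Agent.Helper6.NT.symm' T u5 u2, taq_2_5, Groth.Agent.Helper6.NT.symm' T u5 u3, z_3_5, Groth.Agent.Helper6.NT.symm' T u5 u4, z_4_5, (h2 u5).2] at key
                                        exact mul_left_cancel₀ (T.w_pos u5).ne' (by linarith only [key])
                                      have f0 : T.m u5 = T.m u5 := rfl
                                      have f1 : T.m u2 = 2 * T.m u5 := by linarith only [r_0, r_1, r_2, r_3, r_4, r_5]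
                                      have f2 : T.m u0 = 2 * T.m u5 := by linarith only [r_0, r_1, r_2, r_3, r_4, r_5]
                                      have f3 : T.m u1 = 2 * T.m u5 := by linarith only [r_0, r_1, r_2, r_3, r_4, r_5]
                                      have f4 : T.m u3 = T.m u5 := by linarith only [r_0, r_1, r_2, r_3, r_4, r_5]
                                      have f5 : T.m u4 = T.m u5 := by linarith only [r_0, r_1, r_2, r_3, r_4, r_5]
                                      have f6 : T.w u5 = 2 * T.w u2 := by linarith only [tw_0_1, tw_0_2, tw_1_3, tw_1_4, tw_2_5]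
                                      have f7 : T.w u2 = T.w u2 := rfl
                                      have f8 : T.w u0 = T.w u2 := by linarith only [tw_0_1, tw_0_2, tw_1_3, tw_1_4, tw_2_5]
                                      have f9 : T.w u1 = T.w u2 := by linarith only [tw_0_1, tw_0_2, tw_1_3, tw_1_4, tw_2_5]
                                      have f10 : T.w u3 = T.w u2 := by linarith only [tw_0_1, tw_0_2, tw_1_3, tw_1_4, tw_2_5]
                                      have f11 : T.w u4 = T.w u2 := by linarith only [tw_0_1, tw_0_2, tw_1_3, tw_1_4, tw_2_5]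
                                      have f12 : T.a u5 u5 = -4 * T.w u2 := by have := (h2 u5).2; linarith only [this, tw_0_1, tw_0_2, tw_1_3, tw_1_4, tw_2_5]
                                      have f13 : T.a u5 u2 = 2 * T.w u2 := by rw [Groth.Agent.Helper6.NT.symm' T u5 u2]; linarith only [tap_2_5, tw_0_1, tw_0_2, tw_1_3, tw_1_4, tw_2_5]
                                      have f14 : T.a u5 u0 = 0 := by rw [Groth.Agent.Helper6.NT.symm' T u5 u0]; exact z_0_5
                                      have f15 : T.a u5 u1 = 0 := by rw [Groth.Agent.Helper6.NT.symm' T u5 u1]; exact z_1_5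
                                      have f16 : T.a u5 u3 = 0 := by rw [Groth.Agent.Helper6.NT.symm' T u5 u3]; exact z_3_5
                                      have f17 : T.a u5 u4 = 0 := by rw [Groth.Agent.Helper6.NT.symm' T u5 u4]; exact z_4_5
                                      have f18 : T.a u2 u2 = -2 * T.w u2 := by have := (h2 u2).2; linarith only [this, tw_0_1, tw_0_2, tw_1_3, tw_1_4, tw_2_5]
                                      have f19 : T.a u2 u0 = T.w u2 := by rw [Groth.Agent.Helper6.NT.symm' T u2 u0]; linarith only [tap_0_2, tw_0_1, tw_0_2, tw_1_3, tw_1_4, tw_2_5]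
                                      have f20 : T.a u2 u1 = 0 := by rw [Groth.Agent.Helper6.NT.symm' T u2 u1]; exact z_1_2
                                      have f21 : T.a u2 u3 = 0 := by exact z_2_3
                                      have f22 : T.a u2 u4 = 0 := by exact z_2_4
                                      have f23 : T.a u0 u0 = -2 * T.w u2 := by have := (h2 u0).2; linarith only [this, tw_0_1, tw_0_2, tw_1_3, tw_1_4, tw_2_5]
                                      have f24 : T.a u0 u1 = T.w u2 := by linarith only [tap_0_1, tw_0_1, tw_0_2, tw_1_3, tw_1_4, tw_2_5]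
                                      have f25 : T.a u0 u3 = 0 := by exact z_0_3
                                      have f26 : T.a u0 u4 = 0 := by exact z_0_4
                                      have f27 : T.a u1 u1 = -2 * T.w u2 := by have := (h2 u1).2; linarith only [this, tw_0_1, tw_0_2, tw_1_3, tw_1_4, tw_2_5]
                                      have f28 : T.a u1 u3 = T.w u2 := by linarith only [tap_1_3, tw_0_1, tw_0_2, tw_1_3, tw_1_4, tw_2_5]
                                      have f29 : T.a u1 u4 = T.w u2 := by linarith only [tap_1_4, tw_0_1, tw_0_2, tw_1_3, tw_1_4, tw_2_5]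
                                      have f30 : T.a u3 u3 = -2 * T.w u2 := by have := (h2 u3).2; linarith only [this, tw_0_1, tw_0_2, tw_1_3, tw_1_4, tw_2_5]
                                      have f31 : T.a u3 u4 = 0 := by exact z_3_4
                                      have f32 : T.a u4 u4 = -2 * T.w u2 := by have := (h2 u4).2; linarith only [this, tw_0_1, tw_0_2, tw_1_3, tw_1_4, tw_2_5]
                                      have hsig := Groth.Agent.Helper6.NT.inj6 u5 u2 u0 u1 u3 u4 hn_5_2.symm hn_5_0.symm hn_2_0.symm hn_5_1.symm hn_2_1.symm hn_1_0 hn_5_3.symm hn_3_2 hn_3_0 hn_3_1 hn_5_4.symm hn_4_2 hn_4_0 hn_4_1 hn_4_3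
                                      exact ⟨Equiv.ofBijective _ (Finite.injective_iff_bijective.1 hsig), T.m u5, T.w u2, Or.inr (Or.inr (Or.inr (Or.inr (Or.inl ⟨f0, f1, f2, f3, f4, f5, f6, f7, f8, f9, f10, f11, f12, f13, f14, f15, f16, f17, f18, f19, f20, f21, f22, f23, f24, f25, f26, f27, f28, f29, f30, f31, f32⟩))))⟩
                                    · -- (4,5) nonzero
                                      obtain ⟨lbp_4_5, lbq_4_5⟩ := Groth.Agent.Helper6.NT.lb T u4 u5 hn_5_4.symm nz_4_5
                                      exfalso
                                      have key := Groth.Agent.Helper6.NT.negfun5 T h2 u0 u1 u2 u4 u5 (by norm_num) 2 2 3 2 2 (by norm_num) (by norm_num)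
                                      linarith only [key, tap_0_1, taq_0_1, tap_0_2, taq_0_2, z_0_4, z_0_5, z_1_2, tap_1_4, taq_1_4, z_1_5, z_2_4, tap_2_5, taq_2_5, lbp_4_5, lbq_4_5, T.w_pos u0, T.w_pos u1, T.w_pos u2, T.w_pos u4, T.w_pos u5]
                                  · -- (3,5) nonzero
                                    obtain ⟨lbp_3_5, lbq_3_5⟩ := Groth.Agent.Helper6.NT.lb T u3 u5 hn_5_3.symm nz_3_5
                                    exfalso
                                    have key := Groth.Agent.Helper6.NT.negfun5 T h2 u0 u1 u2 u3 u5 (by norm_num) 2 2 3 2 2 (by norm_num) (by norm_num)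
                                    linarith only [key, tap_0_1, taq_0_1, tap_0_2, taq_0_2, z_0_3, z_0_5, z_1_2, tap_1_3, taq_1_3, z_1_5, z_2_3, tap_2_5, taq_2_5, lbp_3_5, lbq_3_5, T.w_pos u0, T.w_pos u1, T.w_pos u2, T.w_pos u3, T.w_pos u5]
                                · -- (2,5) Dm
                                  rcases eq_or_ne (T.a u3 u5) 0 with z_3_5 | nz_3_5
                                  · -- (3,5) zero
                                    rcases eq_or_ne (T.a u4 u5) 0 with z_4_5 | nz_4_5
                                    · -- (4,5) zero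
                                      have hinj := Groth.Agent.Helper6.NT.inj6 u0 u1 u2 u3 u4 u5 hn_1_0 hn_2_0 hn_2_1 hn_3_0 hn_3_1 hn_3_2 hn_4_0 hn_4_1 hn_4_2 hn_4_3 hn_5_0 hn_5_1 hn_5_2 hn_5_3 hn_5_4
                                      have r_0 : -2 * T.m u0 + 1 * T.m u1 + 1 * T.m u2 = 0 := by
                                        have key := Groth.Agent.Helper6.NT.rowfun6 T u0 u1 u2 u3 u4 u5 hinj u0
                                        rw [(h2 u0).2, tap_0_1, tap_0_2, z_0_3, z_0_4, z_0_5] at key
                                        exact mul_left_cancel₀ (T.w_pos u0).ne' (by linarith only [key])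
                                      have r_1 : 1 * T.m u0 + -2 * T.m u1 + 1 * T.m u3 + 1 * T.m u4 = 0 := by
                                        have key := Groth.Agent.Helper6.NT.rowfun6 T u0 u1 u2 u3 u4 u5 hinj u1
                                        rw [Groth.Agent.Helper6.NT.symm' T u1 u0, taq_0_1, (h2 u1).2, z_1_2, tap_1_3, tap_1_4, z_1_5] at key
                                        exact mul_left_cancel₀ (T.w_pos u1).ne' (by linarith only [key])
                                      have r_2 : 1 * T.m u0 + -2 * T.m u2 + 1 * T.m u5 = 0 := by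
                                        have key := Groth.Agent.Helper6.NT.rowfun6 T u0 u1 u2 u3 u4 u5 hinj u2
                                        rw [Groth.Agent.Helper6.NT.symm' T u2 u0, taq_0_2, Groth.Agent.Helper6.NT.symm' T u2 u1, z_1_2, (h2 u2).2, z_2_3, z_2_4, tap_2_5] at key
                                        exact mul_left_cancel₀ (T.w_pos u2).ne' (by linarith only [key])
                                      have r_3 : 1 * T.m u1 + -2 * T.m u3 = 0 := by
                                        have key := Groth.Agent.Helper6.NT.rowfun6 T u0 u1 u2 u3 u4 u5 hinj u3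
                                        rw [Groth.Agent.Helper6.NT.symm' T u3 u0, z_0_3, Groth.Agent.Helper6.NT.symm' T u3 u1, taq_1_3, Groth.Agent.Helper6.NT.symm' T u3 u2, z_2_3, (h2 u3).2, z_3_4, z_3_5] at key
                                        exact mul_left_cancel₀ (T.w_pos u3).ne' (by linarith only [key])
                                      have r_4 : 1 * T.m u1 + -2 * T.m u4 = 0 := by
                                        have key := Groth.Agent.Helper6.NT.rowfun6 T u0 u1 u2 u3 u4 u5 hinj u4
                                        rw [Groth.Agent.Helper6.NT.symm' T u4 u0, z_0_4, Groth.Agent.Helper6.NT.symm' T u4 u1, taq_1_4, Groth.Agent.Helper6.NT.symm' T u4 u2, z_2_4, Groth.Agent.Helper6.NT.symm' T u4 u3, z_3_4, (h2 u4).2, z_4_5] at key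
                                        exact mul_left_cancel₀ (T.w_pos u4).ne' (by linarith only [key])
                                      have r_5 : 2 * T.m u2 + -2 * T.m u5 = 0 := by
                                        have key := Groth.Agent.Helper6.NT.rowfun6 T u0 u1 u2 u3 u4 u5 hinj u5
                                        rw [Groth.Agent.Helper6.NT.symm' T u5 u0, z_0_5, Groth.Agent.Helper6.NT.symm' T u5 u1, z_1_5, Groth.Agent.Helper6.NT.symm' T u5 u2, taq_2_5, Groth.Agent.Helper6.NT.symm' T u5 u3, z_3_5, Groth.Agent.Helper6.NT.symm' T u5 u4, z_4_5, (h2 u5).2] at key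
                                        exact mul_left_cancel₀ (T.w_pos u5).ne' (by linarith only [key])
                                      have f0 : T.m u5 = 2 * T.m u3 := by linarith only [r_0, r_1, r_2, r_3, r_4, r_5]
                                      have f1 : T.m u2 = 2 * T.m u3 := by linarith only [r_0, r_1, r_2, r_3, r_4, r_5]
                                      have f2 : T.m u0 = 2 * T.m u3 := by linarith only [r_0, r_1, r_2, r_3, r_4, r_5]
                                      have f3 : T.m u1 = 2 * T.m u3 := by linarith only [r_0, r_1, r_2, r_3, r_4, r_5]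
                                      have f4 : T.m u3 = T.m u3 := rfl
                                      have f5 : T.m u4 = T.m u3 := by linarith only [r_0, r_1, r_2, r_3, r_4, r_5]
                                      have f6 : T.w u5 = T.w u5 := rfl
                                      have f7 : T.w u2 = 2 * T.w u5 := by linarith only [tw_0_1, tw_0_2, tw_1_3, tw_1_4, tw_2_5]
                                      have f8 : T.w u0 = 2 * T.w u5 := by linarith only [tw_0_1, tw_0_2, tw_1_3, tw_1_4, tw_2_5]
                                      have f9 : T.w u1 = 2 * T.w u5 := by linarith only [tw_0_1, tw_0_2, tw_1_3, tw_1_4, tw_2_5]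
                                      have f10 : T.w u3 = 2 * T.w u5 := by linarith only [tw_0_1, tw_0_2, tw_1_3, tw_1_4, tw_2_5]
                                      have f11 : T.w u4 = 2 * T.w u5 := by linarith only [tw_0_1, tw_0_2, tw_1_3, tw_1_4, tw_2_5]
                                      have f12 : T.a u5 u5 = -2 * T.w u5 := by have := (h2 u5).2; linarith only [this, tw_0_1, tw_0_2, tw_1_3, tw_1_4, tw_2_5]
                                      have f13 : T.a u5 u2 = 2 * T.w u5 := by rw [Groth.Agent.Helper6.NT.symm' T u5 u2]; linarith only [tap_2_5, tw_0_1, tw_0_2, tw_1_3, tw_1_4, tw_2_5]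
                                      have f14 : T.a u5 u0 = 0 := by rw [Groth.Agent.Helper6.NT.symm' T u5 u0]; exact z_0_5
                                      have f15 : T.a u5 u1 = 0 := by rw [Groth.Agent.Helper6.NT.symm' T u5 u1]; exact z_1_5
                                      have f16 : T.a u5 u3 = 0 := by rw [Groth.Agent.Helper6.NT.symm' T u5 u3]; exact z_3_5
                                      have f17 : T.a u5 u4 = 0 := by rw [Groth.Agent.Helper6.NT.symm' T u5 u4]; exact z_4_5
                                      have f18 : T.a u2 u2 = -4 * T.w u5 := by have := (h2 u2).2; linarith only [this, tw_0_1, tw_0_2, tw_1_3, tw_1_4, tw_2_5]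
                                      have f19 : T.a u2 u0 = 2 * T.w u5 := by rw [Groth.Agent.Helper6.NT.symm' T u2 u0]; linarith only [tap_0_2, tw_0_1, tw_0_2, tw_1_3, tw_1_4, tw_2_5]
                                      have f20 : T.a u2 u1 = 0 := by rw [Groth.Agent.Helper6.NT.symm' T u2 u1]; exact z_1_2
                                      have f21 : T.a u2 u3 = 0 := by exact z_2_3
                                      have f22 : T.a u2 u4 = 0 := by exact z_2_4
                                      have f23 : T.a u0 u0 = -4 * T.w u5 := by have := (h2 u0).2; linarith only [this, tw_0_1, tw_0_2, tw_1_3, tw_1_4, tw_2_5]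
                                      have f24 : T.a u0 u1 = 2 * T.w u5 := by linarith only [tap_0_1, tw_0_1, tw_0_2, tw_1_3, tw_1_4, tw_2_5]
                                      have f25 : T.a u0 u3 = 0 := by exact z_0_3
                                      have f26 : T.a u0 u4 = 0 := by exact z_0_4
                                      have f27 : T.a u1 u1 = -4 * T.w u5 := by have := (h2 u1).2; linarith only [this, tw_0_1, tw_0_2, tw_1_3, tw_1_4, tw_2_5]
                                      have f28 : T.a u1 u3 = 2 * T.w u5 := by linarith only [tap_1_3, tw_0_1, tw_0_2, tw_1_3, tw_1_4, tw_2_5]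
                                      have f29 : T.a u1 u4 = 2 * T.w u5 := by linarith only [tap_1_4, tw_0_1, tw_0_2, tw_1_3, tw_1_4, tw_2_5]
                                      have f30 : T.a u3 u3 = -4 * T.w u5 := by have := (h2 u3).2; linarith only [this, tw_0_1, tw_0_2, tw_1_3, tw_1_4, tw_2_5]
                                      have f31 : T.a u3 u4 = 0 := by exact z_3_4
                                      have f32 : T.a u4 u4 = -4 * T.w u5 := by have := (h2 u4).2; linarith only [this, tw_0_1, tw_0_2, tw_1_3, tw_1_4, tw_2_5]
                                      have hsig := Groth.Agent.Helper6.NT.inj6 u5 u2 u0 u1 u3 u4 hn_5_2.symm hn_5_0.symm hn_2_0.symm hn_5_1.symm hn_2_1.symm hn_1_0 hn_5_3.symm hn_3_2 hn_3_0 hn_3_1 hn_5_4.symm hn_4_2 hn_4_0 hn_4_1 hn_4_3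
                                      exact ⟨Equiv.ofBijective _ (Finite.injective_iff_bijective.1 hsig), T.m u3, T.w u5, Or.inr (Or.inr (Or.inr (Or.inr (Or.inr (Or.inl ⟨f0, f1, f2, f3, f4, f5, f6, f7, f8, f9, f10, f11, f12, f13, f14, f15, f16, f17, f18, f19, f20, f21, f22, f23, f24, f25, f26, f27, f28, f29, f30, f31, f32⟩)))))⟩
                                    · -- (4,5) nonzero
                                      obtain ⟨lbp_4_5, lbq_4_5⟩ := Groth.Agent.Helper6.NT.lb T u4 u5 hn_5_4.symm nz_4_5
                                      exfalso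
                                      have key := Groth.Agent.Helper6.NT.negfun5 T h2 u0 u1 u2 u4 u5 (by norm_num) 2 2 2 2 3 (by norm_num) (by norm_num)
                                      linarith only [key, tap_0_1, taq_0_1, tap_0_2, taq_0_2, z_0_4, z_0_5, z_1_2, tap_1_4, taq_1_4, z_1_5, z_2_4, tap_2_5, taq_2_5, lbp_4_5, lbq_4_5, T.w_pos u0, T.w_pos u1, T.w_pos u2, T.w_pos u4, T.w_pos u5]
                                  · -- (3,5) nonzero
                                    obtain ⟨lbp_3_5, lbq_3_5⟩ := Groth.Agent.Helper6.NT.lb T u3 u5 hn_5_3.symm nz_3_5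
                                    exfalso
                                    have key := Groth.Agent.Helper6.NT.negfun5 T h2 u0 u1 u2 u3 u5 (by norm_num) 2 2 2 2 3 (by norm_num) (by norm_num)
                                    linarith only [key, tap_0_1, taq_0_1, tap_0_2, taq_0_2, z_0_3, z_0_5, z_1_2, tap_1_3, taq_1_3, z_1_5, z_2_3, tap_2_5, taq_2_5, lbp_3_5, lbq_3_5, T.w_pos u0, T.w_pos u1, T.w_pos u2, T.w_pos u3, T.w_pos u5]
                                · -- (2,5) Tp
                                  exfalso
                                  have key := Groth.Agent.Helper6.NT.negfun3 T h2 u0 u2 u5 (by norm_num) 1 2 1 (by norm_num) (by norm_num)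
                                  linarith only [key, tap_0_2, taq_0_2, z_0_5, tap_2_5, taq_2_5, T.w_pos u0, T.w_pos u2, T.w_pos u5]
                                · -- (2,5) Tm
                                  exfalso
                                  have key := Groth.Agent.Helper6.NT.negfun3 T h2 u0 u2 u5 (by norm_num) 1 2 3 (by norm_num) (by norm_num)
                                  linarith only [key, tap_0_2, taq_0_2, z_0_5, tap_2_5, taq_2_5, T.w_pos u0, T.w_pos u2, T.w_pos u5]
                              · push Not at hx
                                have cl_2 := hx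
                                clear hx
                                by_cases hx : ∃ j, (j ≠ u0 ∧ j ≠ u1 ∧ j ≠ u2 ∧ j ≠ u3 ∧ j ≠ u4) ∧ T.a u3 j ≠ 0
                                · obtain ⟨u5, ⟨hn_5_0, hn_5_1, hn_5_2, hn_5_3, hn_5_4⟩, e_3_5⟩ := hx
                                  have z_0_5 : T.a u0 u5 = 0 := cl_0 u5 ⟨hn_5_0, hn_5_1, hn_5_2⟩
                                  have z_1_5 : T.a u1 u5 = 0 := cl_1 u5 ⟨hn_5_0, hn_5_1, hn_5_2, hn_5_3, hn_5_4⟩
                                  have z_2_5 : T.a u2 u5 = 0 := cl_2 u5 ⟨hn_5_0, hn_5_1, hn_5_2, hn_5_3, hn_5_4⟩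
                                  rcases Groth.Agent.Helper6.NT.edge5 T h2 (by norm_num) u3 u5 hn_5_3.symm e_3_5 with ⟨tw_3_5, tap_3_5, taq_3_5⟩ | ⟨tw_3_5, tap_3_5, taq_3_5⟩ | ⟨tw_3_5, tap_3_5, taq_3_5⟩ | ⟨tw_3_5, tap_3_5, taq_3_5⟩ | ⟨tw_3_5, tap_3_5, taq_3_5⟩
                                  · -- (3,5) S
                                    rcases eq_or_ne (T.a u4 u5) 0 with z_4_5 | nz_4_5
                                    · -- (4,5) zero
                                      have hinj := Groth.Agent.Helper6.NT.inj6 u0 u1 u2 u3 u4 u5 hn_1_0 hn_2_0 hn_2_1 hn_3_0 hn_3_1 hn_3_2 hn_4_0 hn_4_1 hn_4_2 hn_4_3 hn_5_0 hn_5_1 hn_5_2 hn_5_3 hn_5_4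
                                      have r_0 : -2 * T.m u0 + 1 * T.m u1 + 1 * T.m u2 = 0 := by
                                        have key := Groth.Agent.Helper6.NT.rowfun6 T u0 u1 u2 u3 u4 u5 hinj u0
                                        rw [(h2 u0).2, tap_0_1, tap_0_2, z_0_3, z_0_4, z_0_5] at key
                                        exact mul_left_cancel₀ (T.w_pos u0).ne' (by linarith only [key])
                                      have r_1 : 1 * T.m u0 + -2 * T.m u1 + 1 * T.m u3 + 1 * T.m u4 = 0 := by
                                        have key := Groth.Agent.Helper6.NT.rowfun6 T u0 u1 u2 u3 u4 u5 hinj u1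
                                        rw [Groth.Agent.Helper6.NT.symm' T u1 u0, taq_0_1, (h2 u1).2, z_1_2, tap_1_3, tap_1_4, z_1_5] at key
                                        exact mul_left_cancel₀ (T.w_pos u1).ne' (by linarith only [key])
                                      have r_2 : 1 * T.m u0 + -2 * T.m u2 = 0 := by
                                        have key := Groth.Agent.Helper6.NT.rowfun6 T u0 u1 u2 u3 u4 u5 hinj u2
                                        rw [Groth.Agent.Helper6.NT.symm' T u2 u0, taq_0_2, Groth.Agent.Helper6.NT.symm' T u2 u1, z_1_2, (h2 u2).2, z_2_3, z_2_4, z_2_5] at key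
                                        exact mul_left_cancel₀ (T.w_pos u2).ne' (by linarith only [key])
                                      have r_3 : 1 * T.m u1 + -2 * T.m u3 + 1 * T.m u5 = 0 := by
                                        have key := Groth.Agent.Helper6.NT.rowfun6 T u0 u1 u2 u3 u4 u5 hinj u3
                                        rw [Groth.Agent.Helper6.NT.symm' T u3 u0, z_0_3, Groth.Agent.Helper6.NT.symm' T u3 u1, taq_1_3, Groth.Agent.Helper6.NT.symm' T u3 u2, z_2_3, (h2 u3).2, z_3_4, tap_3_5] at key
                                        exact mul_left_cancel₀ (T.w_pos u3).ne' (by linarith only [key])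
                                      have r_4 : 1 * T.m u1 + -2 * T.m u4 = 0 := by
                                        have key := Groth.Agent.Helper6.NT.rowfun6 T u0 u1 u2 u3 u4 u5 hinj u4
                                        rw [Groth.Agent.Helper6.NT.symm' T u4 u0, z_0_4, Groth.Agent.Helper6.NT.symm' T u4 u1, taq_1_4, Groth.Agent.Helper6.NT.symm' T u4 u2, z_2_4, Groth.Agent.Helper6.NT.symm' T u4 u3, z_3_4, (h2 u4).2, z_4_5] at key
                                        exact mul_left_cancel₀ (T.w_pos u4).ne' (by linarith only [key])
                                      have r_5 : 1 * T.m u3 + -2 * T.m u5 = 0 := by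
                                        have key := Groth.Agent.Helper6.NT.rowfun6 T u0 u1 u2 u3 u4 u5 hinj u5
                                        rw [Groth.Agent.Helper6.NT.symm' T u5 u0, z_0_5, Groth.Agent.Helper6.NT.symm' T u5 u1, z_1_5, Groth.Agent.Helper6.NT.symm' T u5 u2, z_2_5, Groth.Agent.Helper6.NT.symm' T u5 u3, taq_3_5, Groth.Agent.Helper6.NT.symm' T u5 u4, z_4_5, (h2 u5).2] at key
                                        exact mul_left_cancel₀ (T.w_pos u5).ne' (by linarith only [key])
                                      exfalso
                                      linarith only [r_0, r_1, r_2, r_3, r_4, r_5, T.m_pos u0, T.m_pos u1, T.m_pos u2, T.m_pos u3, T.m_pos u4, T.m_pos u5]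
                                    · -- (4,5) nonzero
                                      obtain ⟨lbp_4_5, lbq_4_5⟩ := Groth.Agent.Helper6.NT.lb T u4 u5 hn_5_4.symm nz_4_5
                                      exfalso
                                      have key := Groth.Agent.Helper6.NT.negfun4 T h2 u1 u3 u4 u5 (by norm_num) 1 1 1 1 (by norm_num) (by norm_num)
                                      linarith only [key, tap_1_3, taq_1_3, tap_1_4, taq_1_4, z_1_5, z_3_4, tap_3_5, taq_3_5, lbp_4_5, lbq_4_5, T.w_pos u1, T.w_pos u3, T.w_pos u4, T.w_pos u5]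
                                  · -- (3,5) Dp
                                    exfalso
                                    have key := Groth.Agent.Helper6.NT.negfun5 T h2 u0 u1 u3 u4 u5 (by norm_num) 1 2 2 1 1 (by norm_num) (by norm_num)
                                    linarith only [key, tap_0_1, taq_0_1, z_0_3, z_0_4, z_0_5, tap_1_3, taq_1_3, tap_1_4, taq_1_4, z_1_5, z_3_4, tap_3_5, taq_3_5, T.offDiag_nonneg u4 u5 hn_5_4.symm, T.w_pos u0, T.w_pos u1, T.w_pos u3, T.w_pos u4, T.w_pos u5]
                                  · -- (3,5) Dm
                                    exfalso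
                                    have key := Groth.Agent.Helper6.NT.negfun5 T h2 u0 u1 u3 u4 u5 (by norm_num) 1 2 2 1 2 (by norm_num) (by norm_num)
                                    linarith only [key, tap_0_1, taq_0_1, z_0_3, z_0_4, z_0_5, tap_1_3, taq_1_3, tap_1_4, taq_1_4, z_1_5, z_3_4, tap_3_5, taq_3_5, T.offDiag_nonneg u4 u5 hn_5_4.symm, T.w_pos u0, T.w_pos u1, T.w_pos u3, T.w_pos u4, T.w_pos u5]
                                  · -- (3,5) Tp
                                    exfalso
                                    have key := Groth.Agent.Helper6.NT.negfun3 T h2 u1 u3 u5 (by norm_num) 1 2 1 (by norm_num) (by norm_num)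
                                    linarith only [key, tap_1_3, taq_1_3, z_1_5, tap_3_5, taq_3_5, T.w_pos u1, T.w_pos u3, T.w_pos u5]
                                  · -- (3,5) Tm
                                    exfalso
                                    have key := Groth.Agent.Helper6.NT.negfun3 T h2 u1 u3 u5 (by norm_num) 1 2 3 (by norm_num) (by norm_num)
                                    linarith only [key, tap_1_3, taq_1_3, z_1_5, tap_3_5, taq_3_5, T.w_pos u1, T.w_pos u3, T.w_pos u5]
                                · push Not at hx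
                                  have cl_3 := hx
                                  clear hx
                                  by_cases hx : ∃ j, (j ≠ u0 ∧ j ≠ u1 ∧ j ≠ u2 ∧ j ≠ u3 ∧ j ≠ u4) ∧ T.a u4 j ≠ 0
                                  · obtain ⟨u5, ⟨hn_5_0, hn_5_1, hn_5_2, hn_5_3, hn_5_4⟩, e_4_5⟩ := hx
                                    have z_0_5 : T.a u0 u5 = 0 := cl_0 u5 ⟨hn_5_0, hn_5_1, hn_5_2⟩
                                    have z_1_5 : T.a u1 u5 = 0 := cl_1 u5 ⟨hn_5_0, hn_5_1, hn_5_2, hn_5_3, hn_5_4⟩
                                    have z_2_5 : T.a u2 u5 = 0 := cl_2 u5 ⟨hn_5_0, hn_5_1, hn_5_2, hn_5_3, hn_5_4⟩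
                                    have z_3_5 : T.a u3 u5 = 0 := cl_3 u5 ⟨hn_5_0, hn_5_1, hn_5_2, hn_5_3, hn_5_4⟩
                                    rcases Groth.Agent.Helper6.NT.edge5 T h2 (by norm_num) u4 u5 hn_5_4.symm e_4_5 with ⟨tw_4_5, tap_4_5, taq_4_5⟩ | ⟨tw_4_5, tap_4_5, taq_4_5⟩ | ⟨tw_4_5, tap_4_5, taq_4_5⟩ | ⟨tw_4_5, tap_4_5, taq_4_5⟩ | ⟨tw_4_5, tap_4_5, taq_4_5⟩
                                    · -- (4,5) S
                                      have hinj := Groth.Agent.Helper6.NT.inj6 u0 u1 u2 u3 u4 u5 hn_1_0 hn_2_0 hn_2_1 hn_3_0 hn_3_1 hn_3_2 hn_4_0 hn_4_1 hn_4_2 hn_4_3 hn_5_0 hn_5_1 hn_5_2 hn_5_3 hn_5_4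
                                      have r_0 : -2 * T.m u0 + 1 * T.m u1 + 1 * T.m u2 = 0 := by
                                        have key := Groth.Agent.Helper6.NT.rowfun6 T u0 u1 u2 u3 u4 u5 hinj u0
                                        rw [(h2 u0).2, tap_0_1, tap_0_2, z_0_3, z_0_4, z_0_5] at key
                                        exact mul_left_cancel₀ (T.w_pos u0).ne' (by linarith only [key])
                                      have r_1 : 1 * T.m u0 + -2 * T.m u1 + 1 * T.m u3 + 1 * T.m u4 = 0 := by
                                        have key := Groth.Agent.Helper6.NT.rowfun6 T u0 u1 u2 u3 u4 u5 hinj u1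
                                        rw [Groth.Agent.Helper6.NT.symm' T u1 u0, taq_0_1, (h2 u1).2, z_1_2, tap_1_3, tap_1_4, z_1_5] at key
                                        exact mul_left_cancel₀ (T.w_pos u1).ne' (by linarith only [key])
                                      have r_2 : 1 * T.m u0 + -2 * T.m u2 = 0 := by
                                        have key := Groth.Agent.Helper6.NT.rowfun6 T u0 u1 u2 u3 u4 u5 hinj u2
                                        rw [Groth.Agent.Helper6.NT.symm' T u2 u0, taq_0_2, Groth.Agent.Helper6.NT.symm' T u2 u1, z_1_2, (h2 u2).2, z_2_3, z_2_4, z_2_5] at key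
                                        exact mul_left_cancel₀ (T.w_pos u2).ne' (by linarith only [key])
                                      have r_3 : 1 * T.m u1 + -2 * T.m u3 = 0 := by
                                        have key := Groth.Agent.Helper6.NT.rowfun6 T u0 u1 u2 u3 u4 u5 hinj u3
                                        rw [Groth.Agent.Helper6.NT.symm' T u3 u0, z_0_3, Groth.Agent.Helper6.NT.symm' T u3 u1, taq_1_3, Groth.Agent.Helper6.NT.symm' T u3 u2, z_2_3, (h2 u3).2, z_3_4, z_3_5] at key
                                        exact mul_left_cancel₀ (T.w_pos u3).ne' (by linarith only [key])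
                                      have r_4 : 1 * T.m u1 + -2 * T.m u4 + 1 * T.m u5 = 0 := by
                                        have key := Groth.Agent.Helper6.NT.rowfun6 T u0 u1 u2 u3 u4 u5 hinj u4
                                        rw [Groth.Agent.Helper6.NT.symm' T u4 u0, z_0_4, Groth.Agent.Helper6.NT.symm' T u4 u1, taq_1_4, Groth.Agent.Helper6.NT.symm' T u4 u2, z_2_4, Groth.Agent.Helper6.NT.symm' T u4 u3, z_3_4, (h2 u4).2, tap_4_5] at key
                                        exact mul_left_cancel₀ (T.w_pos u4).ne' (by linarith only [key])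
                                      have r_5 : 1 * T.m u4 + -2 * T.m u5 = 0 := by
                                        have key := Groth.Agent.Helper6.NT.rowfun6 T u0 u1 u2 u3 u4 u5 hinj u5
                                        rw [Groth.Agent.Helper6.NT.symm' T u5 u0, z_0_5, Groth.Agent.Helper6.NT.symm' T u5 u1, z_1_5, Groth.Agent.Helper6.NT.symm' T u5 u2, z_2_5, Groth.Agent.Helper6.NT.symm' T u5 u3, z_3_5, Groth.Agent.Helper6.NT.symm' T u5 u4, taq_4_5, (h2 u5).2] at key
                                        exact mul_left_cancel₀ (T.w_pos u5).ne' (by linarith only [key])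
                                      exfalso
                                      linarith only [r_0, r_1, r_2, r_3, r_4, r_5, T.m_pos u0, T.m_pos u1, T.m_pos u2, T.m_pos u3, T.m_pos u4, T.m_pos u5]
                                    · -- (4,5) Dp
                                      exfalso
                                      have key := Groth.Agent.Helper6.NT.negfun5 T h2 u0 u1 u3 u4 u5 (by norm_num) 1 2 1 2 1 (by norm_num) (by norm_num)
                                      linarith only [key, tap_0_1, taq_0_1, z_0_3, z_0_4, z_0_5, tap_1_3, taq_1_3, tap_1_4, taq_1_4, z_1_5, z_3_4, z_3_5, tap_4_5, taq_4_5, T.w_pos u0, T.w_pos u1, T.w_pos u3, T.w_pos u4, T.w_pos u5]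
                                    · -- (4,5) Dm
                                      exfalso
                                      have key := Groth.Agent.Helper6.NT.negfun5 T h2 u0 u1 u3 u4 u5 (by norm_num) 1 2 1 2 2 (by norm_num) (by norm_num)
                                      linarith only [key, tap_0_1, taq_0_1, z_0_3, z_0_4, z_0_5, tap_1_3, taq_1_3, tap_1_4, taq_1_4, z_1_5, z_3_4, z_3_5, tap_4_5, taq_4_5, T.w_pos u0, T.w_pos u1, T.w_pos u3, T.w_pos u4, T.w_pos u5]
                                    · -- (4,5) Tp
                                      exfalso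
                                      have key := Groth.Agent.Helper6.NT.negfun3 T h2 u1 u4 u5 (by norm_num) 1 2 1 (by norm_num) (by norm_num)
                                      linarith only [key, tap_1_4, taq_1_4, z_1_5, tap_4_5, taq_4_5, T.w_pos u1, T.w_pos u4, T.w_pos u5]
                                    · -- (4,5) Tm
                                      exfalso
                                      have key := Groth.Agent.Helper6.NT.negfun3 T h2 u1 u4 u5 (by norm_num) 1 2 3 (by norm_num) (by norm_num)
                                      linarith only [key, tap_1_4, taq_1_4, z_1_5, tap_4_5, taq_4_5, T.w_pos u1, T.w_pos u4, T.w_pos u5]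
                                  · push Not at hx
                                    have cl_4 := hx
                                    clear hx
                                    exfalso
                                    refine Groth.Agent.Helper6.NT.closed_contra T [u0, u1, u2, u3, u4] (by simp) (by simp) ?_
                                    intro i hi j hj
                                    simp only [List.mem_cons, List.not_mem_nil, or_false, not_or] at hi hj
                                    rcases hi with rfl | rfl | rfl | rfl | rfl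
                                    · exact cl_0 j ⟨hj.1, hj.2.1, hj.2.2.1⟩
                                    · exact cl_1 j ⟨hj.1, hj.2.1, hj.2.2.1, hj.2.2.2.1, hj.2.2.2.2⟩
                                    · exact cl_2 j ⟨hj.1, hj.2.1, hj.2.2.1, hj.2.2.2.1, hj.2.2.2.2⟩
                                    · exact cl_3 j ⟨hj.1, hj.2.1, hj.2.2.1, hj.2.2.2.1, hj.2.2.2.2⟩
                                    · exact cl_4 j ⟨hj.1, hj.2.1, hj.2.2.1, hj.2.2.2.1, hj.2.2.2.2⟩
                          · -- (3,4) nonzero
                            obtain ⟨lbp_3_4, lbq_3_4⟩ := Groth.Agent.Helper6.NT.lb T u3 u4 hn_4_3.symm nz_3_4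
                            exfalso
                            have key := Groth.Agent.Helper6.NT.negfun3 T h2 u1 u3 u4 (by norm_num) 1 1 1 (by norm_num) (by norm_num)
                            linarith only [key, tap_1_3, taq_1_3, tap_1_4, taq_1_4, lbp_3_4, lbq_3_4, T.w_pos u1, T.w_pos u3, T.w_pos u4]
                        · -- (2,4) nonzero
                          obtain ⟨lbp_2_4, lbq_2_4⟩ := Groth.Agent.Helper6.NT.lb T u2 u4 hn_4_2.symm nz_2_4
                          exfalso
                          have key := Groth.Agent.Helper6.NT.negfun4 T h2 u0 u1 u2 u4 (by norm_num) 1 1 1 1 (by norm_num) (by norm_num)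
                          linarith only [key, tap_0_1, taq_0_1, tap_0_2, taq_0_2, z_0_4, z_1_2, tap_1_4, taq_1_4, lbp_2_4, lbq_2_4, T.w_pos u0, T.w_pos u1, T.w_pos u2, T.w_pos u4]
                      · -- (1,4) Dp
                        exfalso
                        have key := Groth.Agent.Helper6.NT.negfun4 T h2 u0 u1 u3 u4 (by norm_num) 1 2 1 1 (by norm_num) (by norm_num)
                        linarith only [key, tap_0_1, taq_0_1, z_0_3, z_0_4, tap_1_3, taq_1_3, tap_1_4, taq_1_4, T.offDiag_nonneg u3 u4 hn_4_3.symm, T.w_pos u0, T.w_pos u1, T.w_pos u3, T.w_pos u4]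
                      · -- (1,4) Dm
                        exfalso
                        have key := Groth.Agent.Helper6.NT.negfun4 T h2 u0 u1 u3 u4 (by norm_num) 1 2 1 2 (by norm_num) (by norm_num)
                        linarith only [key, tap_0_1, taq_0_1, z_0_3, z_0_4, tap_1_3, taq_1_3, tap_1_4, taq_1_4, T.offDiag_nonneg u3 u4 hn_4_3.symm, T.w_pos u0, T.w_pos u1, T.w_pos u3, T.w_pos u4]
                      · -- (1,4) Tp
                        exfalso
                        have key := Groth.Agent.Helper6.NT.negfun3 T h2 u1 u3 u4 (by norm_num) 2 1 1 (by norm_num) (by norm_num)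
                        linarith only [key, tap_1_3, taq_1_3, tap_1_4, taq_1_4, T.offDiag_nonneg u3 u4 hn_4_3.symm, T.w_pos u1, T.w_pos u3, T.w_pos u4]
                      · -- (1,4) Tm
                        exfalso
                        have key := Groth.Agent.Helper6.NT.negfun3 T h2 u1 u3 u4 (by norm_num) 2 1 3 (by norm_num) (by norm_num)
                        linarith only [key, tap_1_3, taq_1_3, tap_1_4, taq_1_4, T.offDiag_nonneg u3 u4 hn_4_3.symm, T.w_pos u1, T.w_pos u3, T.w_pos u4]
                    · push Not at hx
                      have cl_1 := hx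
                      clear hx
                      by_cases hx : ∃ j, (j ≠ u0 ∧ j ≠ u1 ∧ j ≠ u2 ∧ j ≠ u3) ∧ T.a u2 j ≠ 0
                      · obtain ⟨u4, ⟨hn_4_0, hn_4_1, hn_4_2, hn_4_3⟩, e_2_4⟩ := hx
                        have z_0_4 : T.a u0 u4 = 0 := cl_0 u4 ⟨hn_4_0, hn_4_1, hn_4_2⟩
                        have z_1_4 : T.a u1 u4 = 0 := cl_1 u4 ⟨hn_4_0, hn_4_1, hn_4_2, hn_4_3⟩
                        rcases Groth.Agent.Helper6.NT.edge5 T h2 (by norm_num) u2 u4 hn_4_2.symm e_2_4 with ⟨tw_2_4, tap_2_4, taq_2_4⟩ | ⟨tw_2_4, tap_2_4, taq_2_4⟩ | ⟨tw_2_4, tap_2_4, taq_2_4⟩ | ⟨tw_2_4, tap_2_4, taq_2_4⟩ | ⟨tw_2_4, tap_2_4, taq_2_4⟩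
                        · -- (2,4) S
                          rcases eq_or_ne (T.a u3 u4) 0 with z_3_4 | nz_3_4
                          · -- (3,4) zero
                            by_cases hx : ∃ j, (j ≠ u0 ∧ j ≠ u1 ∧ j ≠ u2 ∧ j ≠ u3 ∧ j ≠ u4) ∧ T.a u2 j ≠ 0
                            · obtain ⟨u5, ⟨hn_5_0, hn_5_1, hn_5_2, hn_5_3, hn_5_4⟩, e_2_5⟩ := hx
                              have z_0_5 : T.a u0 u5 = 0 := cl_0 u5 ⟨hn_5_0, hn_5_1, hn_5_2⟩
                              have z_1_5 : T.a u1 u5 = 0 := cl_1 u5 ⟨hn_5_0, hn_5_1, hn_5_2, hn_5_3⟩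
                              rcases Groth.Agent.Helper6.NT.edge5 T h2 (by norm_num) u2 u5 hn_5_2.symm e_2_5 with ⟨tw_2_5, tap_2_5, taq_2_5⟩ | ⟨tw_2_5, tap_2_5, taq_2_5⟩ | ⟨tw_2_5, tap_2_5, taq_2_5⟩ | ⟨tw_2_5, tap_2_5, taq_2_5⟩ | ⟨tw_2_5, tap_2_5, taq_2_5⟩
                              · -- (2,5) S
                                rcases eq_or_ne (T.a u3 u5) 0 with z_3_5 | nz_3_5
                                · -- (3,5) zero
                                  rcases eq_or_ne (T.a u4 u5) 0 with z_4_5 | nz_4_5
                                  · -- (4,5) zero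
                                    have hinj := Groth.Agent.Helper6.NT.inj6 u0 u1 u2 u3 u4 u5 hn_1_0 hn_2_0 hn_2_1 hn_3_0 hn_3_1 hn_3_2 hn_4_0 hn_4_1 hn_4_2 hn_4_3 hn_5_0 hn_5_1 hn_5_2 hn_5_3 hn_5_4
                                    have r_0 : -2 * T.m u0 + 1 * T.m u1 + 1 * T.m u2 = 0 := by
                                      have key := Groth.Agent.Helper6.NT.rowfun6 T u0 u1 u2 u3 u4 u5 hinj u0
                                      rw [(h2 u0).2, tap_0_1, tap_0_2, z_0_3, z_0_4, z_0_5] at key
                                      exact mul_left_cancel₀ (T.w_pos u0).ne' (by linarith only [key])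
                                    have r_1 : 1 * T.m u0 + -2 * T.m u1 + 1 * T.m u3 = 0 := by
                                      have key := Groth.Agent.Helper6.NT.rowfun6 T u0 u1 u2 u3 u4 u5 hinj u1
                                      rw [Groth.Agent.Helper6.NT.symm' T u1 u0, taq_0_1, (h2 u1).2, z_1_2, tap_1_3, z_1_4, z_1_5] at key
                                      exact mul_left_cancel₀ (T.w_pos u1).ne' (by linarith only [key])
                                    have r_2 : 1 * T.m u0 + -2 * T.m u2 + 1 * T.m u4 + 1 * T.m u5 = 0 := by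
                                      have key := Groth.Agent.Helper6.NT.rowfun6 T u0 u1 u2 u3 u4 u5 hinj u2
                                      rw [Groth.Agent.Helper6.NT.symm' T u2 u0, taq_0_2, Groth.Agent.Helper6.NT.symm' T u2 u1, z_1_2, (h2 u2).2, z_2_3, tap_2_4, tap_2_5] at key
                                      exact mul_left_cancel₀ (T.w_pos u2).ne' (by linarith only [key])
                                    have r_3 : 1 * T.m u1 + -2 * T.m u3 = 0 := by
                                      have key := Groth.Agent.Helper6.NT.rowfun6 T u0 u1 u2 u3 u4 u5 hinj u3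
                                      rw [Groth.Agent.Helper6.NT.symm' T u3 u0, z_0_3, Groth.Agent.Helper6.NT.symm' T u3 u1, taq_1_3, Groth.Agent.Helper6.NT.symm' T u3 u2, z_2_3, (h2 u3).2, z_3_4, z_3_5] at key
                                      exact mul_left_cancel₀ (T.w_pos u3).ne' (by linarith only [key])
                                    have r_4 : 1 * T.m u2 + -2 * T.m u4 = 0 := by
                                      have key := Groth.Agent.Helper6.NT.rowfun6 T u0 u1 u2 u3 u4 u5 hinj u4
                                      rw [Groth.Agent.Helper6.NT.symm' T u4 u0, z_0_4, Groth.Agent.Helper6.NT.symm' T u4 u1, z_1_4, Groth.Agent.Helper6.NT.symm' T u4 u2, taq_2_4, Groth.Agent.Helper6.NT.symm' T u4 u3, z_3_4, (h2 u4).2, z_4_5] at key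
                                      exact mul_left_cancel₀ (T.w_pos u4).ne' (by linarith only [key])
                                    have r_5 : 1 * T.m u2 + -2 * T.m u5 = 0 := by
                                      have key := Groth.Agent.Helper6.NT.rowfun6 T u0 u1 u2 u3 u4 u5 hinj u5
                                      rw [Groth.Agent.Helper6.NT.symm' T u5 u0, z_0_5, Groth.Agent.Helper6.NT.symm' T u5 u1, z_1_5, Groth.Agent.Helper6.NT.symm' T u5 u2, taq_2_5, Groth.Agent.Helper6.NT.symm' T u5 u3, z_3_5, Groth.Agent.Helper6.NT.symm' T u5 u4, z_4_5, (h2 u5).2] at key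
                                      exact mul_left_cancel₀ (T.w_pos u5).ne' (by linarith only [key])
                                    exfalso
                                    linarith only [r_0, r_1, r_2, r_3, r_4, r_5, T.m_pos u0, T.m_pos u1, T.m_pos u2, T.m_pos u3, T.m_pos u4, T.m_pos u5]
                                  · -- (4,5) nonzero
                                    obtain ⟨lbp_4_5, lbq_4_5⟩ := Groth.Agent.Helper6.NT.lb T u4 u5 hn_5_4.symm nz_4_5
                                    exfalso
                                    have key := Groth.Agent.Helper6.NT.negfun3 T h2 u2 u4 u5 (by norm_num) 1 1 1 (by norm_num) (by norm_num)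
                                    linarith only [key, tap_2_4, taq_2_4, tap_2_5, taq_2_5, lbp_4_5, lbq_4_5, T.w_pos u2, T.w_pos u4, T.w_pos u5]
                                · -- (3,5) nonzero
                                  obtain ⟨lbp_3_5, lbq_3_5⟩ := Groth.Agent.Helper6.NT.lb T u3 u5 hn_5_3.symm nz_3_5
                                  exfalso
                                  have key := Groth.Agent.Helper6.NT.negfun5 T h2 u0 u1 u2 u3 u5 (by norm_num) 1 1 1 1 1 (by norm_num) (by norm_num)
                                  linarith only [key, tap_0_1, taq_0_1, tap_0_2, taq_0_2, z_0_3, z_0_5, z_1_2, tap_1_3, taq_1_3, z_1_5, z_2_3, tap_2_5, taq_2_5, lbp_3_5, lbq_3_5, T.w_pos u0, T.w_pos u1, T.w_pos u2, T.w_pos u3, T.w_pos u5]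
                              · -- (2,5) Dp
                                exfalso
                                have key := Groth.Agent.Helper6.NT.negfun4 T h2 u0 u2 u4 u5 (by norm_num) 1 2 1 1 (by norm_num) (by norm_num)
                                linarith only [key, tap_0_2, taq_0_2, z_0_4, z_0_5, tap_2_4, taq_2_4, tap_2_5, taq_2_5, T.offDiag_nonneg u4 u5 hn_5_4.symm, T.w_pos u0, T.w_pos u2, T.w_pos u4, T.w_pos u5]
                              · -- (2,5) Dm
                                exfalso
                                have key := Groth.Agent.Helper6.NT.negfun4 T h2 u0 u2 u4 u5 (by norm_num) 1 2 1 2 (by norm_num) (by norm_num)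
                                linarith only [key, tap_0_2, taq_0_2, z_0_4, z_0_5, tap_2_4, taq_2_4, tap_2_5, taq_2_5, T.offDiag_nonneg u4 u5 hn_5_4.symm, T.w_pos u0, T.w_pos u2, T.w_pos u4, T.w_pos u5]
                              · -- (2,5) Tp
                                exfalso
                                have key := Groth.Agent.Helper6.NT.negfun3 T h2 u2 u4 u5 (by norm_num) 2 1 1 (by norm_num) (by norm_num)
                                linarith only [key, tap_2_4, taq_2_4, tap_2_5, taq_2_5, T.offDiag_nonneg u4 u5 hn_5_4.symm, T.w_pos u2, T.w_pos u4, T.w_pos u5]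
                              · -- (2,5) Tm
                                exfalso
                                have key := Groth.Agent.Helper6.NT.negfun3 T h2 u2 u4 u5 (by norm_num) 2 1 3 (by norm_num) (by norm_num)
                                linarith only [key, tap_2_4, taq_2_4, tap_2_5, taq_2_5, T.offDiag_nonneg u4 u5 hn_5_4.symm, T.w_pos u2, T.w_pos u4, T.w_pos u5]
                            · push Not at hx
                              have cl_2 := hx
                              clear hx
                              by_cases hx : ∃ j, (j ≠ u0 ∧ j ≠ u1 ∧ j ≠ u2 ∧ j ≠ u3 ∧ j ≠ u4) ∧ T.a u3 j ≠ 0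
                              · obtain ⟨u5, ⟨hn_5_0, hn_5_1, hn_5_2, hn_5_3, hn_5_4⟩, e_3_5⟩ := hx
                                have z_0_5 : T.a u0 u5 = 0 := cl_0 u5 ⟨hn_5_0, hn_5_1, hn_5_2⟩
                                have z_1_5 : T.a u1 u5 = 0 := cl_1 u5 ⟨hn_5_0, hn_5_1, hn_5_2, hn_5_3⟩
                                have z_2_5 : T.a u2 u5 = 0 := cl_2 u5 ⟨hn_5_0, hn_5_1, hn_5_2, hn_5_3, hn_5_4⟩
                                rcases Groth.Agent.Helper6.NT.edge5 T h2 (by norm_num) u3 u5 hn_5_3.symm e_3_5 with ⟨tw_3_5, tap_3_5, taq_3_5⟩ | ⟨tw_3_5, tap_3_5, taq_3_5⟩ | ⟨tw_3_5, tap_3_5, taq_3_5⟩ | ⟨tw_3_5, tap_3_5, taq_3_5⟩ | ⟨tw_3_5, tap_3_5, taq_3_5⟩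
                                · -- (3,5) S
                                  rcases eq_or_ne (T.a u4 u5) 0 with z_4_5 | nz_4_5
                                  · -- (4,5) zero
                                    have hinj := Groth.Agent.Helper6.NT.inj6 u0 u1 u2 u3 u4 u5 hn_1_0 hn_2_0 hn_2_1 hn_3_0 hn_3_1 hn_3_2 hn_4_0 hn_4_1 hn_4_2 hn_4_3 hn_5_0 hn_5_1 hn_5_2 hn_5_3 hn_5_4
                                    have r_0 : -2 * T.m u0 + 1 * T.m u1 + 1 * T.m u2 = 0 := by
                                      have key := Groth.Agent.Helper6.NT.rowfun6 T u0 u1 u2 u3 u4 u5 hinj u0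
                                      rw [(h2 u0).2, tap_0_1, tap_0_2, z_0_3, z_0_4, z_0_5] at key
                                      exact mul_left_cancel₀ (T.w_pos u0).ne' (by linarith only [key])
                                    have r_1 : 1 * T.m u0 + -2 * T.m u1 + 1 * T.m u3 = 0 := by
                                      have key := Groth.Agent.Helper6.NT.rowfun6 T u0 u1 u2 u3 u4 u5 hinj u1
                                      rw [Groth.Agent.Helper6.NT.symm' T u1 u0, taq_0_1, (h2 u1).2, z_1_2, tap_1_3, z_1_4, z_1_5] at key
                                      exact mul_left_cancel₀ (T.w_pos u1).ne' (by linarith only [key])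
                                    have r_2 : 1 * T.m u0 + -2 * T.m u2 + 1 * T.m u4 = 0 := by
                                      have key := Groth.Agent.Helper6.NT.rowfun6 T u0 u1 u2 u3 u4 u5 hinj u2
                                      rw [Groth.Agent.Helper6.NT.symm' T u2 u0, taq_0_2, Groth.Agent.Helper6.NT.symm' T u2 u1, z_1_2, (h2 u2).2, z_2_3, tap_2_4, z_2_5] at key
                                      exact mul_left_cancel₀ (T.w_pos u2).ne' (by linarith only [key])
                                    have r_3 : 1 * T.m u1 + -2 * T.m u3 + 1 * T.m u5 = 0 := by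
                                      have key := Groth.Agent.Helper6.NT.rowfun6 T u0 u1 u2 u3 u4 u5 hinj u3
                                      rw [Groth.Agent.Helper6.NT.symm' T u3 u0, z_0_3, Groth.Agent.Helper6.NT.symm' T u3 u1, taq_1_3, Groth.Agent.Helper6.NT.symm' T u3 u2, z_2_3, (h2 u3).2, z_3_4, tap_3_5] at key
                                      exact mul_left_cancel₀ (T.w_pos u3).ne' (by linarith only [key])
                                    have r_4 : 1 * T.m u2 + -2 * T.m u4 = 0 := by
                                      have key := Groth.Agent.Helper6.NT.rowfun6 T u0 u1 u2 u3 u4 u5 hinj u4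
                                      rw [Groth.Agent.Helper6.NT.symm' T u4 u0, z_0_4, Groth.Agent.Helper6.NT.symm' T u4 u1, z_1_4, Groth.Agent.Helper6.NT.symm' T u4 u2, taq_2_4, Groth.Agent.Helper6.NT.symm' T u4 u3, z_3_4, (h2 u4).2, z_4_5] at key
                                      exact mul_left_cancel₀ (T.w_pos u4).ne' (by linarith only [key])
                                    have r_5 : 1 * T.m u3 + -2 * T.m u5 = 0 := by
                                      have key := Groth.Agent.Helper6.NT.rowfun6 T u0 u1 u2 u3 u4 u5 hinj u5
                                      rw [Groth.Agent.Helper6.NT.symm' T u5 u0, z_0_5, Groth.Agent.Helper6.NT.symm' T u5 u1, z_1_5, Groth.Agent.Helper6.NT.symm' T u5 u2, z_2_5, Groth.Agent.Helper6.NT.symm' T u5 u3, taq_3_5, Groth.Agent.Helper6.NT.symm' T u5 u4, z_4_5, (h2 u5).2] at key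
                                      exact mul_left_cancel₀ (T.w_pos u5).ne' (by linarith only [key])
                                    exfalso
                                    linarith only [r_0, r_1, r_2, r_3, r_4, r_5, T.m_pos u0, T.m_pos u1, T.m_pos u2, T.m_pos u3, T.m_pos u4, T.m_pos u5]
                                  · -- (4,5) nonzero
                                    obtain ⟨lbp_4_5, lbq_4_5⟩ := Groth.Agent.Helper6.NT.lb T u4 u5 hn_5_4.symm nz_4_5
                                    rcases Groth.Agent.Helper6.NT.edge5 T h2 (by norm_num) u4 u5 hn_5_4.symm nz_4_5 with ⟨tw_4_5, tap_4_5, taq_4_5⟩ | ⟨tw_4_5, tap_4_5, taq_4_5⟩ | ⟨tw_4_5, tap_4_5, taq_4_5⟩ | ⟨tw_4_5, tap_4_5, taq_4_5⟩ | ⟨tw_4_5, tap_4_5, taq_4_5⟩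
                                    · -- (4,5) S
                                      have hinj := Groth.Agent.Helper6.NT.inj6 u0 u1 u2 u3 u4 u5 hn_1_0 hn_2_0 hn_2_1 hn_3_0 hn_3_1 hn_3_2 hn_4_0 hn_4_1 hn_4_2 hn_4_3 hn_5_0 hn_5_1 hn_5_2 hn_5_3 hn_5_4
                                      have r_0 : -2 * T.m u0 + 1 * T.m u1 + 1 * T.m u2 = 0 := by
                                        have key := Groth.Agent.Helper6.NT.rowfun6 T u0 u1 u2 u3 u4 u5 hinj u0
                                        rw [(h2 u0).2, tap_0_1, tap_0_2, z_0_3, z_0_4, z_0_5] at key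
                                        exact mul_left_cancel₀ (T.w_pos u0).ne' (by linarith only [key])
                                      have r_1 : 1 * T.m u0 + -2 * T.m u1 + 1 * T.m u3 = 0 := by
                                        have key := Groth.Agent.Helper6.NT.rowfun6 T u0 u1 u2 u3 u4 u5 hinj u1
                                        rw [Groth.Agent.Helper6.NT.symm' T u1 u0, taq_0_1, (h2 u1).2, z_1_2, tap_1_3, z_1_4, z_1_5] at key
                                        exact mul_left_cancel₀ (T.w_pos u1).ne' (by linarith only [key])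
                                      have r_2 : 1 * T.m u0 + -2 * T.m u2 + 1 * T.m u4 = 0 := by
                                        have key := Groth.Agent.Helper6.NT.rowfun6 T u0 u1 u2 u3 u4 u5 hinj u2
                                        rw [Groth.Agent.Helper6.NT.symm' T u2 u0, taq_0_2, Groth.Agent.Helper6.NT.symm' T u2 u1, z_1_2, (h2 u2).2, z_2_3, tap_2_4, z_2_5] at key
                                        exact mul_left_cancel₀ (T.w_pos u2).ne' (by linarith only [key])
                                      have r_3 : 1 * T.m u1 + -2 * T.m u3 + 1 * T.m u5 = 0 := by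
                                        have key := Groth.Agent.Helper6.NT.rowfun6 T u0 u1 u2 u3 u4 u5 hinj u3
                                        rw [Groth.Agent.Helper6.NT.symm' T u3 u0, z_0_3, Groth.Agent.Helper6.NT.symm' T u3 u1, taq_1_3, Groth.Agent.Helper6.NT.symm' T u3 u2, z_2_3, (h2 u3).2, z_3_4, tap_3_5] at key
                                        exact mul_left_cancel₀ (T.w_pos u3).ne' (by linarith only [key])
                                      have r_4 : 1 * T.m u2 + -2 * T.m u4 + 1 * T.m u5 = 0 := by
                                        have key := Groth.Agent.Helper6.NT.rowfun6 T u0 u1 u2 u3 u4 u5 hinj u4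
                                        rw [Groth.Agent.Helper6.NT.symm' T u4 u0, z_0_4, Groth.Agent.Helper6.NT.symm' T u4 u1, z_1_4, Groth.Agent.Helper6.NT.symm' T u4 u2, taq_2_4, Groth.Agent.Helper6.NT.symm' T u4 u3, z_3_4, (h2 u4).2, tap_4_5] at key
                                        exact mul_left_cancel₀ (T.w_pos u4).ne' (by linarith only [key])
                                      have r_5 : 1 * T.m u3 + 1 * T.m u4 + -2 * T.m u5 = 0 := by
                                        have key := Groth.Agent.Helper6.NT.rowfun6 T u0 u1 u2 u3 u4 u5 hinj u5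
                                        rw [Groth.Agent.Helper6.NT.symm' T u5 u0, z_0_5, Groth.Agent.Helper6.NT.symm' T u5 u1, z_1_5, Groth.Agent.Helper6.NT.symm' T u5 u2, z_2_5, Groth.Agent.Helper6.NT.symm' T u5 u3, taq_3_5, Groth.Agent.Helper6.NT.symm' T u5 u4, taq_4_5, (h2 u5).2] at key
                                        exact mul_left_cancel₀ (T.w_pos u5).ne' (by linarith only [key])
                                      have f0 : T.m u0 = T.m u0 := rfl
                                      have f1 : T.m u1 = T.m u0 := by linarith only [r_0, r_1, r_2, r_3, r_4, r_5]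
                                      have f2 : T.m u3 = T.m u0 := by linarith only [r_0, r_1, r_2, r_3, r_4, r_5]
                                      have f3 : T.m u5 = T.m u0 := by linarith only [r_0, r_1, r_2, r_3, r_4, r_5]
                                      have f4 : T.m u4 = T.m u0 := by linarith only [r_0, r_1, r_2, r_3, r_4, r_5]
                                      have f5 : T.m u2 = T.m u0 := by linarith only [r_0, r_1, r_2, r_3, r_4, r_5]
                                      have f6 : T.w u0 = T.w u0 := rfl
                                      have f7 : T.w u1 = T.w u0 := by linarith only [tw_0_1, tw_0_2, tw_1_3, tw_2_4, tw_4_5, tw_3_5]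
                                      have f8 : T.w u3 = T.w u0 := by linarith only [tw_0_1, tw_0_2, tw_1_3, tw_2_4, tw_4_5, tw_3_5]
                                      have f9 : T.w u5 = T.w u0 := by linarith only [tw_0_1, tw_0_2, tw_1_3, tw_2_4, tw_4_5, tw_3_5]
                                      have f10 : T.w u4 = T.w u0 := by linarith only [tw_0_1, tw_0_2, tw_1_3, tw_2_4, tw_4_5, tw_3_5]
                                      have f11 : T.w u2 = T.w u0 := by linarith only [tw_0_1, tw_0_2, tw_1_3, tw_2_4, tw_4_5, tw_3_5]
                                      have f12 : T.a u0 u0 = -2 * T.w u0 := by have := (h2 u0).2; linarith only [this, tw_0_1, tw_0_2, tw_1_3, tw_2_4, tw_4_5, tw_3_5]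
                                      have f13 : T.a u0 u1 = T.w u0 := by linarith only [tap_0_1, tw_0_1, tw_0_2, tw_1_3, tw_2_4, tw_4_5, tw_3_5]
                                      have f14 : T.a u0 u3 = 0 := by exact z_0_3
                                      have f15 : T.a u0 u5 = 0 := by exact z_0_5
                                      have f16 : T.a u0 u4 = 0 := by exact z_0_4
                                      have f17 : T.a u0 u2 = T.w u0 := by linarith only [tap_0_2, tw_0_1, tw_0_2, tw_1_3, tw_2_4, tw_4_5, tw_3_5]
                                      have f18 : T.a u1 u1 = -2 * T.w u0 := by have := (h2 u1).2; linarith only [this, tw_0_1, tw_0_2, tw_1_3, tw_2_4, tw_4_5, tw_3_5]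
                                      have f19 : T.a u1 u3 = T.w u0 := by linarith only [tap_1_3, tw_0_1, tw_0_2, tw_1_3, tw_2_4, tw_4_5, tw_3_5]
                                      have f20 : T.a u1 u5 = 0 := by exact z_1_5
                                      have f21 : T.a u1 u4 = 0 := by exact z_1_4
                                      have f22 : T.a u1 u2 = 0 := by exact z_1_2
                                      have f23 : T.a u3 u3 = -2 * T.w u0 := by have := (h2 u3).2; linarith only [this, tw_0_1, tw_0_2, tw_1_3, tw_2_4, tw_4_5, tw_3_5]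
                                      have f24 : T.a u3 u5 = T.w u0 := by linarith only [tap_3_5, tw_0_1, tw_0_2, tw_1_3, tw_2_4, tw_4_5, tw_3_5]
                                      have f25 : T.a u3 u4 = 0 := by exact z_3_4
                                      have f26 : T.a u3 u2 = 0 := by rw [Groth.Agent.Helper6.NT.symm' T u3 u2]; exact z_2_3
                                      have f27 : T.a u5 u5 = -2 * T.w u0 := by have := (h2 u5).2; linarith only [this, tw_0_1, tw_0_2, tw_1_3, tw_2_4, tw_4_5, tw_3_5]
                                      have f28 : T.a u5 u4 = T.w u0 := by rw [Groth.Agent.Helper6.NT.symm' T u5 u4]; linarith only [tap_4_5, tw_0_1, tw_0_2, tw_1_3, tw_2_4, tw_4_5, tw_3_5]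
                                      have f29 : T.a u5 u2 = 0 := by rw [Groth.Agent.Helper6.NT.symm' T u5 u2]; exact z_2_5
                                      have f30 : T.a u4 u4 = -2 * T.w u0 := by have := (h2 u4).2; linarith only [this, tw_0_1, tw_0_2, tw_1_3, tw_2_4, tw_4_5, tw_3_5]
                                      have f31 : T.a u4 u2 = T.w u0 := by rw [Groth.Agent.Helper6.NT.symm' T u4 u2]; linarith only [tap_2_4, tw_0_1, tw_0_2, tw_1_3, tw_2_4, tw_4_5, tw_3_5]
                                      have f32 : T.a u2 u2 = -2 * T.w u0 := by have := (h2 u2).2; linarith only [this, tw_0_1, tw_0_2, tw_1_3, tw_2_4, tw_4_5, tw_3_5]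
                                      have hsig := Groth.Agent.Helper6.NT.inj6 u0 u1 u3 u5 u4 u2 hn_1_0 hn_3_0 hn_3_1 hn_5_0 hn_5_1 hn_5_3 hn_4_0 hn_4_1 hn_4_3 hn_5_4.symm hn_2_0 hn_2_1 hn_3_2.symm hn_5_2.symm hn_4_2.symm
                                      exact ⟨Equiv.ofBijective _ (Finite.injective_iff_bijective.1 hsig), T.m u0, T.w u0, Or.inl ⟨f0, f1, f2, f3, f4, f5, f6, f7, f8, f9, f10, f11, f12, f13, f14, f15, f16, f17, f18, f19, f20, f21, f22, f23, f24, f25, f26, f27, f28, f29, f30, f31, f32⟩⟩
                                    · -- (4,5) Dp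
                                      exfalso
                                      have key := Groth.Agent.Helper6.NT.negfun5 T h2 u1 u2 u3 u4 u5 (by norm_num) 1 2 2 4 3 (by norm_num) (by norm_num)
                                      linarith only [key, z_1_2, tap_1_3, taq_1_3, z_1_4, z_1_5, z_2_3, tap_2_4, taq_2_4, z_2_5, z_3_4, tap_3_5, taq_3_5, tap_4_5, taq_4_5, T.w_pos u1, T.w_pos u2, T.w_pos u3, T.w_pos u4, T.w_pos u5]
                                    · -- (4,5) Dm
                                      exfalso
                                      have key := Groth.Agent.Helper6.NT.negfun5 T h2 u1 u2 u3 u4 u5 (by norm_num) 1 1 2 2 3 (by norm_num) (by norm_num)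
                                      linarith only [key, z_1_2, tap_1_3, taq_1_3, z_1_4, z_1_5, z_2_3, tap_2_4, taq_2_4, z_2_5, z_3_4, tap_3_5, taq_3_5, tap_4_5, taq_4_5, T.w_pos u1, T.w_pos u2, T.w_pos u3, T.w_pos u4, T.w_pos u5]
                                    · -- (4,5) Tp
                                      exfalso
                                      have key := Groth.Agent.Helper6.NT.negfun3 T h2 u3 u4 u5 (by norm_num) 1 3 2 (by norm_num) (by norm_num)
                                      linarith only [key, z_3_4, tap_3_5, taq_3_5, tap_4_5, taq_4_5, T.w_pos u3, T.w_pos u4, T.w_pos u5]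
                                    · -- (4,5) Tm
                                      exfalso
                                      have key := Groth.Agent.Helper6.NT.negfun3 T h2 u3 u4 u5 (by norm_num) 1 1 2 (by norm_num) (by norm_num)
                                      linarith only [key, z_3_4, tap_3_5, taq_3_5, tap_4_5, taq_4_5, T.w_pos u3, T.w_pos u4, T.w_pos u5]
                                · -- (3,5) Dp
                                  rcases eq_or_ne (T.a u4 u5) 0 with z_4_5 | nz_4_5
                                  · -- (4,5) zero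
                                    have hinj := Groth.Agent.Helper6.NT.inj6 u0 u1 u2 u3 u4 u5 hn_1_0 hn_2_0 hn_2_1 hn_3_0 hn_3_1 hn_3_2 hn_4_0 hn_4_1 hn_4_2 hn_4_3 hn_5_0 hn_5_1 hn_5_2 hn_5_3 hn_5_4
                                    have r_0 : -2 * T.m u0 + 1 * T.m u1 + 1 * T.m u2 = 0 := by
                                      have key := Groth.Agent.Helper6.NT.rowfun6 T u0 u1 u2 u3 u4 u5 hinj u0
                                      rw [(h2 u0).2, tap_0_1, tap_0_2, z_0_3, z_0_4, z_0_5] at key
                                      exact mul_left_cancel₀ (T.w_pos u0).ne' (by linarith only [key])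
                                    have r_1 : 1 * T.m u0 + -2 * T.m u1 + 1 * T.m u3 = 0 := by
                                      have key := Groth.Agent.Helper6.NT.rowfun6 T u0 u1 u2 u3 u4 u5 hinj u1
                                      rw [Groth.Agent.Helper6.NT.symm' T u1 u0, taq_0_1, (h2 u1).2, z_1_2, tap_1_3, z_1_4, z_1_5] at key
                                      exact mul_left_cancel₀ (T.w_pos u1).ne' (by linarith only [key])
                                    have r_2 : 1 * T.m u0 + -2 * T.m u2 + 1 * T.m u4 = 0 := by
                                      have key := Groth.Agent.Helper6.NT.rowfun6 T u0 u1 u2 u3 u4 u5 hinj u2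
                                      rw [Groth.Agent.Helper6.NT.symm' T u2 u0, taq_0_2, Groth.Agent.Helper6.NT.symm' T u2 u1, z_1_2, (h2 u2).2, z_2_3, tap_2_4, z_2_5] at key
                                      exact mul_left_cancel₀ (T.w_pos u2).ne' (by linarith only [key])
                                    have r_3 : 1 * T.m u1 + -2 * T.m u3 + 2 * T.m u5 = 0 := by
                                      have key := Groth.Agent.Helper6.NT.rowfun6 T u0 u1 u2 u3 u4 u5 hinj u3
                                      rw [Groth.Agent.Helper6.NT.symm' T u3 u0, z_0_3, Groth.Agent.Helper6.NT.symm' T u3 u1, taq_1_3, Groth.Agent.Helper6.NT.symm' T u3 u2, z_2_3, (h2 u3).2, z_3_4, tap_3_5] at key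
                                      exact mul_left_cancel₀ (T.w_pos u3).ne' (by linarith only [key])
                                    have r_4 : 1 * T.m u2 + -2 * T.m u4 = 0 := by
                                      have key := Groth.Agent.Helper6.NT.rowfun6 T u0 u1 u2 u3 u4 u5 hinj u4
                                      rw [Groth.Agent.Helper6.NT.symm' T u4 u0, z_0_4, Groth.Agent.Helper6.NT.symm' T u4 u1, z_1_4, Groth.Agent.Helper6.NT.symm' T u4 u2, taq_2_4, Groth.Agent.Helper6.NT.symm' T u4 u3, z_3_4, (h2 u4).2, z_4_5] at key
                                      exact mul_left_cancel₀ (T.w_pos u4).ne' (by linarith only [key])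
                                    have r_5 : 1 * T.m u3 + -2 * T.m u5 = 0 := by
                                      have key := Groth.Agent.Helper6.NT.rowfun6 T u0 u1 u2 u3 u4 u5 hinj u5
                                      rw [Groth.Agent.Helper6.NT.symm' T u5 u0, z_0_5, Groth.Agent.Helper6.NT.symm' T u5 u1, z_1_5, Groth.Agent.Helper6.NT.symm' T u5 u2, z_2_5, Groth.Agent.Helper6.NT.symm' T u5 u3, taq_3_5, Groth.Agent.Helper6.NT.symm' T u5 u4, z_4_5, (h2 u5).2] at key
                                      exact mul_left_cancel₀ (T.w_pos u5).ne' (by linarith only [key])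
                                    exfalso
                                    linarith only [r_0, r_1, r_2, r_3, r_4, r_5, T.m_pos u0, T.m_pos u1, T.m_pos u2, T.m_pos u3, T.m_pos u4, T.m_pos u5]
                                  · -- (4,5) nonzero
                                    obtain ⟨lbp_4_5, lbq_4_5⟩ := Groth.Agent.Helper6.NT.lb T u4 u5 hn_5_4.symm nz_4_5
                                    exfalso
                                    have key := Groth.Agent.Helper6.NT.negfun5 T h2 u1 u2 u3 u4 u5 (by norm_num) 2 1 4 2 3 (by norm_num) (by norm_num)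
                                    linarith only [key, z_1_2, tap_1_3, taq_1_3, z_1_4, z_1_5, z_2_3, tap_2_4, taq_2_4, z_2_5, z_3_4, tap_3_5, taq_3_5, lbp_4_5, lbq_4_5, T.w_pos u1, T.w_pos u2, T.w_pos u3, T.w_pos u4, T.w_pos u5]
                                · -- (3,5) Dm
                                  rcases eq_or_ne (T.a u4 u5) 0 with z_4_5 | nz_4_5
                                  · -- (4,5) zero
                                    have hinj := Groth.Agent.Helper6.NT.inj6 u0 u1 u2 u3 u4 u5 hn_1_0 hn_2_0 hn_2_1 hn_3_0 hn_3_1 hn_3_2 hn_4_0 hn_4_1 hn_4_2 hn_4_3 hn_5_0 hn_5_1 hn_5_2 hn_5_3 hn_5_4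
                                    have r_0 : -2 * T.m u0 + 1 * T.m u1 + 1 * T.m u2 = 0 := by
                                      have key := Groth.Agent.Helper6.NT.rowfun6 T u0 u1 u2 u3 u4 u5 hinj u0
                                      rw [(h2 u0).2, tap_0_1, tap_0_2, z_0_3, z_0_4, z_0_5] at key
                                      exact mul_left_cancel₀ (T.w_pos u0).ne' (by linarith only [key])
                                    have r_1 : 1 * T.m u0 + -2 * T.m u1 + 1 * T.m u3 = 0 := by
                                      have key := Groth.Agent.Helper6.NT.rowfun6 T u0 u1 u2 u3 u4 u5 hinj u1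
                                      rw [Groth.Agent.Helper6.NT.symm' T u1 u0, taq_0_1, (h2 u1).2, z_1_2, tap_1_3, z_1_4, z_1_5] at key
                                      exact mul_left_cancel₀ (T.w_pos u1).ne' (by linarith only [key])
                                    have r_2 : 1 * T.m u0 + -2 * T.m u2 + 1 * T.m u4 = 0 := by
                                      have key := Groth.Agent.Helper6.NT.rowfun6 T u0 u1 u2 u3 u4 u5 hinj u2
                                      rw [Groth.Agent.Helper6.NT.symm' T u2 u0, taq_0_2, Groth.Agent.Helper6.NT.symm' T u2 u1, z_1_2, (h2 u2).2, z_2_3, tap_2_4, z_2_5] at key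
                                      exact mul_left_cancel₀ (T.w_pos u2).ne' (by linarith only [key])
                                    have r_3 : 1 * T.m u1 + -2 * T.m u3 + 1 * T.m u5 = 0 := by
                                      have key := Groth.Agent.Helper6.NT.rowfun6 T u0 u1 u2 u3 u4 u5 hinj u3
                                      rw [Groth.Agent.Helper6.NT.symm' T u3 u0, z_0_3, Groth.Agent.Helper6.NT.symm' T u3 u1, taq_1_3, Groth.Agent.Helper6.NT.symm' T u3 u2, z_2_3, (h2 u3).2, z_3_4, tap_3_5] at key
                                      exact mul_left_cancel₀ (T.w_pos u3).ne' (by linarith only [key])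
                                    have r_4 : 1 * T.m u2 + -2 * T.m u4 = 0 := by
                                      have key := Groth.Agent.Helper6.NT.rowfun6 T u0 u1 u2 u3 u4 u5 hinj u4
                                      rw [Groth.Agent.Helper6.NT.symm' T u4 u0, z_0_4, Groth.Agent.Helper6.NT.symm' T u4 u1, z_1_4, Groth.Agent.Helper6.NT.symm' T u4 u2, taq_2_4, Groth.Agent.Helper6.NT.symm' T u4 u3, z_3_4, (h2 u4).2, z_4_5] at key
                                      exact mul_left_cancel₀ (T.w_pos u4).ne' (by linarith only [key])
                                    have r_5 : 2 * T.m u3 + -2 * T.m u5 = 0 := by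
                                      have key := Groth.Agent.Helper6.NT.rowfun6 T u0 u1 u2 u3 u4 u5 hinj u5
                                      rw [Groth.Agent.Helper6.NT.symm' T u5 u0, z_0_5, Groth.Agent.Helper6.NT.symm' T u5 u1, z_1_5, Groth.Agent.Helper6.NT.symm' T u5 u2, z_2_5, Groth.Agent.Helper6.NT.symm' T u5 u3, taq_3_5, Groth.Agent.Helper6.NT.symm' T u5 u4, z_4_5, (h2 u5).2] at key
                                      exact mul_left_cancel₀ (T.w_pos u5).ne' (by linarith only [key])
                                    exfalso
                                    linarith only [r_0, r_1, r_2, r_3, r_4, r_5, T.m_pos u0, T.m_pos u1, T.m_pos u2, T.m_pos u3, T.m_pos u4, T.m_pos u5]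
                                  · -- (4,5) nonzero
                                    obtain ⟨lbp_4_5, lbq_4_5⟩ := Groth.Agent.Helper6.NT.lb T u4 u5 hn_5_4.symm nz_4_5
                                    exfalso
                                    have key := Groth.Agent.Helper6.NT.negfun5 T h2 u1 u2 u3 u4 u5 (by norm_num) 1 1 2 2 3 (by norm_num) (by norm_num)
                                    linarith only [key, z_1_2, tap_1_3, taq_1_3, z_1_4, z_1_5, z_2_3, tap_2_4, taq_2_4, z_2_5, z_3_4, tap_3_5, taq_3_5, lbp_4_5, lbq_4_5, T.w_pos u1, T.w_pos u2, T.w_pos u3, T.w_pos u4, T.w_pos u5]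
                                · -- (3,5) Tp
                                  exfalso
                                  have key := Groth.Agent.Helper6.NT.negfun3 T h2 u1 u3 u5 (by norm_num) 1 2 1 (by norm_num) (by norm_num)
                                  linarith only [key, tap_1_3, taq_1_3, z_1_5, tap_3_5, taq_3_5, T.w_pos u1, T.w_pos u3, T.w_pos u5]
                                · -- (3,5) Tm
                                  exfalso
                                  have key := Groth.Agent.Helper6.NT.negfun3 T h2 u1 u3 u5 (by norm_num) 1 2 3 (by norm_num) (by norm_num)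
                                  linarith only [key, tap_1_3, taq_1_3, z_1_5, tap_3_5, taq_3_5, T.w_pos u1, T.w_pos u3, T.w_pos u5]
                              · push Not at hx
                                have cl_3 := hx
                                clear hx
                                by_cases hx : ∃ j, (j ≠ u0 ∧ j ≠ u1 ∧ j ≠ u2 ∧ j ≠ u3 ∧ j ≠ u4) ∧ T.a u4 j ≠ 0
                                · obtain ⟨u5, ⟨hn_5_0, hn_5_1, hn_5_2, hn_5_3, hn_5_4⟩, e_4_5⟩ := hx
                                  have z_0_5 : T.a u0 u5 = 0 := cl_0 u5 ⟨hn_5_0, hn_5_1, hn_5_2⟩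
                                  have z_1_5 : T.a u1 u5 = 0 := cl_1 u5 ⟨hn_5_0, hn_5_1, hn_5_2, hn_5_3⟩
                                  have z_2_5 : T.a u2 u5 = 0 := cl_2 u5 ⟨hn_5_0, hn_5_1, hn_5_2, hn_5_3, hn_5_4⟩
                                  have z_3_5 : T.a u3 u5 = 0 := cl_3 u5 ⟨hn_5_0, hn_5_1, hn_5_2, hn_5_3, hn_5_4⟩
                                  rcases Groth.Agent.Helper6.NT.edge5 T h2 (by norm_num) u4 u5 hn_5_4.symm e_4_5 with ⟨tw_4_5, tap_4_5, taq_4_5⟩ | ⟨tw_4_5, tap_4_5, taq_4_5⟩ | ⟨tw_4_5, tap_4_5, taq_4_5⟩ | ⟨tw_4_5, tap_4_5, taq_4_5⟩ | ⟨tw_4_5, tap_4_5, taq_4_5⟩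
                                  · -- (4,5) S
                                    have hinj := Groth.Agent.Helper6.NT.inj6 u0 u1 u2 u3 u4 u5 hn_1_0 hn_2_0 hn_2_1 hn_3_0 hn_3_1 hn_3_2 hn_4_0 hn_4_1 hn_4_2 hn_4_3 hn_5_0 hn_5_1 hn_5_2 hn_5_3 hn_5_4
                                    have r_0 : -2 * T.m u0 + 1 * T.m u1 + 1 * T.m u2 = 0 := by
                                      have key := Groth.Agent.Helper6.NT.rowfun6 T u0 u1 u2 u3 u4 u5 hinj u0
                                      rw [(h2 u0).2, tap_0_1, tap_0_2, z_0_3, z_0_4, z_0_5] at key
                                      exact mul_left_cancel₀ (T.w_pos u0).ne' (by linarith only [key])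
                                    have r_1 : 1 * T.m u0 + -2 * T.m u1 + 1 * T.m u3 = 0 := by
                                      have key := Groth.Agent.Helper6.NT.rowfun6 T u0 u1 u2 u3 u4 u5 hinj u1
                                      rw [Groth.Agent.Helper6.NT.symm' T u1 u0, taq_0_1, (h2 u1).2, z_1_2, tap_1_3, z_1_4, z_1_5] at key
                                      exact mul_left_cancel₀ (T.w_pos u1).ne' (by linarith only [key])
                                    have r_2 : 1 * T.m u0 + -2 * T.m u2 + 1 * T.m u4 = 0 := by
                                      have key := Groth.Agent.Helper6.NT.rowfun6 T u0 u1 u2 u3 u4 u5 hinj u2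
                                      rw [Groth.Agent.Helper6.NT.symm' T u2 u0, taq_0_2, Groth.Agent.Helper6.NT.symm' T u2 u1, z_1_2, (h2 u2).2, z_2_3, tap_2_4, z_2_5] at key
                                      exact mul_left_cancel₀ (T.w_pos u2).ne' (by linarith only [key])
                                    have r_3 : 1 * T.m u1 + -2 * T.m u3 = 0 := by
                                      have key := Groth.Agent.Helper6.NT.rowfun6 T u0 u1 u2 u3 u4 u5 hinj u3
                                      rw [Groth.Agent.Helper6.NT.symm' T u3 u0, z_0_3, Groth.Agent.Helper6.NT.symm' T u3 u1, taq_1_3, Groth.Agent.Helper6.NT.symm' T u3 u2, z_2_3, (h2 u3).2, z_3_4, z_3_5] at key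
                                      exact mul_left_cancel₀ (T.w_pos u3).ne' (by linarith only [key])
                                    have r_4 : 1 * T.m u2 + -2 * T.m u4 + 1 * T.m u5 = 0 := by
                                      have key := Groth.Agent.Helper6.NT.rowfun6 T u0 u1 u2 u3 u4 u5 hinj u4
                                      rw [Groth.Agent.Helper6.NT.symm' T u4 u0, z_0_4, Groth.Agent.Helper6.NT.symm' T u4 u1, z_1_4, Groth.Agent.Helper6.NT.symm' T u4 u2, taq_2_4, Groth.Agent.Helper6.NT.symm' T u4 u3, z_3_4, (h2 u4).2, tap_4_5] at key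
                                      exact mul_left_cancel₀ (T.w_pos u4).ne' (by linarith only [key])
                                    have r_5 : 1 * T.m u4 + -2 * T.m u5 = 0 := by
                                      have key := Groth.Agent.Helper6.NT.rowfun6 T u0 u1 u2 u3 u4 u5 hinj u5
                                      rw [Groth.Agent.Helper6.NT.symm' T u5 u0, z_0_5, Groth.Agent.Helper6.NT.symm' T u5 u1, z_1_5, Groth.Agent.Helper6.NT.symm' T u5 u2, z_2_5, Groth.Agent.Helper6.NT.symm' T u5 u3, z_3_5, Groth.Agent.Helper6.NT.symm' T u5 u4, taq_4_5, (h2 u5).2] at key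
                                      exact mul_left_cancel₀ (T.w_pos u5).ne' (by linarith only [key])
                                    exfalso
                                    linarith only [r_0, r_1, r_2, r_3, r_4, r_5, T.m_pos u0, T.m_pos u1, T.m_pos u2, T.m_pos u3, T.m_pos u4, T.m_pos u5]
                                  · -- (4,5) Dp
                                    have hinj := Groth.Agent.Helper6.NT.inj6 u0 u1 u2 u3 u4 u5 hn_1_0 hn_2_0 hn_2_1 hn_3_0 hn_3_1 hn_3_2 hn_4_0 hn_4_1 hn_4_2 hn_4_3 hn_5_0 hn_5_1 hn_5_2 hn_5_3 hn_5_4
                                    have r_0 : -2 * T.m u0 + 1 * T.m u1 + 1 * T.m u2 = 0 := by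
                                      have key := Groth.Agent.Helper6.NT.rowfun6 T u0 u1 u2 u3 u4 u5 hinj u0
                                      rw [(h2 u0).2, tap_0_1, tap_0_2, z_0_3, z_0_4, z_0_5] at key
                                      exact mul_left_cancel₀ (T.w_pos u0).ne' (by linarith only [key])
                                    have r_1 : 1 * T.m u0 + -2 * T.m u1 + 1 * T.m u3 = 0 := by
                                      have key := Groth.Agent.Helper6.NT.rowfun6 T u0 u1 u2 u3 u4 u5 hinj u1
                                      rw [Groth.Agent.Helper6.NT.symm' T u1 u0, taq_0_1, (h2 u1).2, z_1_2, tap_1_3, z_1_4, z_1_5] at key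
                                      exact mul_left_cancel₀ (T.w_pos u1).ne' (by linarith only [key])
                                    have r_2 : 1 * T.m u0 + -2 * T.m u2 + 1 * T.m u4 = 0 := by
                                      have key := Groth.Agent.Helper6.NT.rowfun6 T u0 u1 u2 u3 u4 u5 hinj u2
                                      rw [Groth.Agent.Helper6.NT.symm' T u2 u0, taq_0_2, Groth.Agent.Helper6.NT.symm' T u2 u1, z_1_2, (h2 u2).2, z_2_3, tap_2_4, z_2_5] at key
                                      exact mul_left_cancel₀ (T.w_pos u2).ne' (by linarith only [key])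
                                    have r_3 : 1 * T.m u1 + -2 * T.m u3 = 0 := by
                                      have key := Groth.Agent.Helper6.NT.rowfun6 T u0 u1 u2 u3 u4 u5 hinj u3
                                      rw [Groth.Agent.Helper6.NT.symm' T u3 u0, z_0_3, Groth.Agent.Helper6.NT.symm' T u3 u1, taq_1_3, Groth.Agent.Helper6.NT.symm' T u3 u2, z_2_3, (h2 u3).2, z_3_4, z_3_5] at key
                                      exact mul_left_cancel₀ (T.w_pos u3).ne' (by linarith only [key])
                                    have r_4 : 1 * T.m u2 + -2 * T.m u4 + 2 * T.m u5 = 0 := by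
                                      have key := Groth.Agent.Helper6.NT.rowfun6 T u0 u1 u2 u3 u4 u5 hinj u4
                                      rw [Groth.Agent.Helper6.NT.symm' T u4 u0, z_0_4, Groth.Agent.Helper6.NT.symm' T u4 u1, z_1_4, Groth.Agent.Helper6.NT.symm' T u4 u2, taq_2_4, Groth.Agent.Helper6.NT.symm' T u4 u3, z_3_4, (h2 u4).2, tap_4_5] at key
                                      exact mul_left_cancel₀ (T.w_pos u4).ne' (by linarith only [key])
                                    have r_5 : 1 * T.m u4 + -2 * T.m u5 = 0 := by
                                      have key := Groth.Agent.Helper6.NT.rowfun6 T u0 u1 u2 u3 u4 u5 hinj u5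
                                      rw [Groth.Agent.Helper6.NT.symm' T u5 u0, z_0_5, Groth.Agent.Helper6.NT.symm' T u5 u1, z_1_5, Groth.Agent.Helper6.NT.symm' T u5 u2, z_2_5, Groth.Agent.Helper6.NT.symm' T u5 u3, z_3_5, Groth.Agent.Helper6.NT.symm' T u5 u4, taq_4_5, (h2 u5).2] at key
                                      exact mul_left_cancel₀ (T.w_pos u5).ne' (by linarith only [key])
                                    exfalso
                                    linarith only [r_0, r_1, r_2, r_3, r_4, r_5, T.m_pos u0, T.m_pos u1, T.m_pos u2, T.m_pos u3, T.m_pos u4, T.m_pos u5]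
                                  · -- (4,5) Dm
                                    have hinj := Groth.Agent.Helper6.NT.inj6 u0 u1 u2 u3 u4 u5 hn_1_0 hn_2_0 hn_2_1 hn_3_0 hn_3_1 hn_3_2 hn_4_0 hn_4_1 hn_4_2 hn_4_3 hn_5_0 hn_5_1 hn_5_2 hn_5_3 hn_5_4
                                    have r_0 : -2 * T.m u0 + 1 * T.m u1 + 1 * T.m u2 = 0 := by
                                      have key := Groth.Agent.Helper6.NT.rowfun6 T u0 u1 u2 u3 u4 u5 hinj u0
                                      rw [(h2 u0).2, tap_0_1, tap_0_2, z_0_3, z_0_4, z_0_5] at key
                                      exact mul_left_cancel₀ (T.w_pos u0).ne' (by linarith only [key])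
                                    have r_1 : 1 * T.m u0 + -2 * T.m u1 + 1 * T.m u3 = 0 := by
                                      have key := Groth.Agent.Helper6.NT.rowfun6 T u0 u1 u2 u3 u4 u5 hinj u1
                                      rw [Groth.Agent.Helper6.NT.symm' T u1 u0, taq_0_1, (h2 u1).2, z_1_2, tap_1_3, z_1_4, z_1_5] at key
                                      exact mul_left_cancel₀ (T.w_pos u1).ne' (by linarith only [key])
                                    have r_2 : 1 * T.m u0 + -2 * T.m u2 + 1 * T.m u4 = 0 := by
                                      have key := Groth.Agent.Helper6.NT.rowfun6 T u0 u1 u2 u3 u4 u5 hinj u2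
                                      rw [Groth.Agent.Helper6.NT.symm' T u2 u0, taq_0_2, Groth.Agent.Helper6.NT.symm' T u2 u1, z_1_2, (h2 u2).2, z_2_3, tap_2_4, z_2_5] at key
                                      exact mul_left_cancel₀ (T.w_pos u2).ne' (by linarith only [key])
                                    have r_3 : 1 * T.m u1 + -2 * T.m u3 = 0 := by
                                      have key := Groth.Agent.Helper6.NT.rowfun6 T u0 u1 u2 u3 u4 u5 hinj u3
                                      rw [Groth.Agent.Helper6.NT.symm' T u3 u0, z_0_3, Groth.Agent.Helper6.NT.symm' T u3 u1, taq_1_3, Groth.Agent.Helper6.NT.symm' T u3 u2, z_2_3, (h2 u3).2, z_3_4, z_3_5] at key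
                                      exact mul_left_cancel₀ (T.w_pos u3).ne' (by linarith only [key])
                                    have r_4 : 1 * T.m u2 + -2 * T.m u4 + 1 * T.m u5 = 0 := by
                                      have key := Groth.Agent.Helper6.NT.rowfun6 T u0 u1 u2 u3 u4 u5 hinj u4
                                      rw [Groth.Agent.Helper6.NT.symm' T u4 u0, z_0_4, Groth.Agent.Helper6.NT.symm' T u4 u1, z_1_4, Groth.Agent.Helper6.NT.symm' T u4 u2, taq_2_4, Groth.Agent.Helper6.NT.symm' T u4 u3, z_3_4, (h2 u4).2, tap_4_5] at key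
                                      exact mul_left_cancel₀ (T.w_pos u4).ne' (by linarith only [key])
                                    have r_5 : 2 * T.m u4 + -2 * T.m u5 = 0 := by
                                      have key := Groth.Agent.Helper6.NT.rowfun6 T u0 u1 u2 u3 u4 u5 hinj u5
                                      rw [Groth.Agent.Helper6.NT.symm' T u5 u0, z_0_5, Groth.Agent.Helper6.NT.symm' T u5 u1, z_1_5, Groth.Agent.Helper6.NT.symm' T u5 u2, z_2_5, Groth.Agent.Helper6.NT.symm' T u5 u3, z_3_5, Groth.Agent.Helper6.NT.symm' T u5 u4, taq_4_5, (h2 u5).2] at key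
                                      exact mul_left_cancel₀ (T.w_pos u5).ne' (by linarith only [key])
                                    exfalso
                                    linarith only [r_0, r_1, r_2, r_3, r_4, r_5, T.m_pos u0, T.m_pos u1, T.m_pos u2, T.m_pos u3, T.m_pos u4, T.m_pos u5]
                                  · -- (4,5) Tp
                                    exfalso
                                    have key := Groth.Agent.Helper6.NT.negfun3 T h2 u2 u4 u5 (by norm_num) 1 2 1 (by norm_num) (by norm_num)
                                    linarith only [key, tap_2_4, taq_2_4, z_2_5, tap_4_5, taq_4_5, T.w_pos u2, T.w_pos u4, T.w_pos u5]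
                                  · -- (4,5) Tm
                                    exfalso
                                    have key := Groth.Agent.Helper6.NT.negfun3 T h2 u2 u4 u5 (by norm_num) 1 2 3 (by norm_num) (by norm_num)
                                    linarith only [key, tap_2_4, taq_2_4, z_2_5, tap_4_5, taq_4_5, T.w_pos u2, T.w_pos u4, T.w_pos u5]
                                · push Not at hx
                                  have cl_4 := hx
                                  clear hx
                                  exfalso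
                                  refine Groth.Agent.Helper6.NT.closed_contra T [u0, u1, u2, u3, u4] (by simp) (by simp) ?_
                                  intro i hi j hj
                                  simp only [List.mem_cons, List.not_mem_nil, or_false, not_or] at hi hj
                                  rcases hi with rfl | rfl | rfl | rfl | rfl
                                  · exact cl_0 j ⟨hj.1, hj.2.1, hj.2.2.1⟩
                                  · exact cl_1 j ⟨hj.1, hj.2.1, hj.2.2.1, hj.2.2.2.1⟩
                                  · exact cl_2 j ⟨hj.1, hj.2.1, hj.2.2.1, hj.2.2.2.1, hj.2.2.2.2⟩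
                                  · exact cl_3 j ⟨hj.1, hj.2.1, hj.2.2.1, hj.2.2.2.1, hj.2.2.2.2⟩
                                  · exact cl_4 j ⟨hj.1, hj.2.1, hj.2.2.1, hj.2.2.2.1, hj.2.2.2.2⟩
                          · -- (3,4) nonzero
                            obtain ⟨lbp_3_4, lbq_3_4⟩ := Groth.Agent.Helper6.NT.lb T u3 u4 hn_4_3.symm nz_3_4
                            exfalso
                            have key := Groth.Agent.Helper6.NT.negfun5 T h2 u0 u1 u2 u3 u4 (by norm_num) 1 1 1 1 1 (by norm_num) (by norm_num)
                            linarith only [key, tap_0_1, taq_0_1, tap_0_2, taq_0_2, z_0_3, z_0_4, z_1_2, tap_1_3, taq_1_3, z_1_4, z_2_3, tap_2_4, taq_2_4, lbp_3_4, lbq_3_4, T.w_pos u0, T.w_pos u1, T.w_pos u2, T.w_pos u3, T.w_pos u4]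
                        · -- (2,4) Dp
                          rcases eq_or_ne (T.a u3 u4) 0 with z_3_4 | nz_3_4
                          · -- (3,4) zero
                            by_cases hx : ∃ j, (j ≠ u0 ∧ j ≠ u1 ∧ j ≠ u2 ∧ j ≠ u3 ∧ j ≠ u4) ∧ T.a u2 j ≠ 0
                            · obtain ⟨u5, ⟨hn_5_0, hn_5_1, hn_5_2, hn_5_3, hn_5_4⟩, e_2_5⟩ := hx
                              have z_0_5 : T.a u0 u5 = 0 := cl_0 u5 ⟨hn_5_0, hn_5_1, hn_5_2⟩
                              have z_1_5 : T.a u1 u5 = 0 := cl_1 u5 ⟨hn_5_0, hn_5_1, hn_5_2, hn_5_3⟩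
                              rcases Groth.Agent.Helper6.NT.edge5 T h2 (by norm_num) u2 u5 hn_5_2.symm e_2_5 with ⟨tw_2_5, tap_2_5, taq_2_5⟩ | ⟨tw_2_5, tap_2_5, taq_2_5⟩ | ⟨tw_2_5, tap_2_5, taq_2_5⟩ | ⟨tw_2_5, tap_2_5, taq_2_5⟩ | ⟨tw_2_5, tap_2_5, taq_2_5⟩
                              · -- (2,5) S
                                exfalso
                                have key := Groth.Agent.Helper6.NT.negfun4 T h2 u0 u2 u4 u5 (by norm_num) 1 2 1 1 (by norm_num) (by norm_num)
                                linarith only [key, tap_0_2, taq_0_2, z_0_4, z_0_5, tap_2_4, taq_2_4, tap_2_5, taq_2_5, T.offDiag_nonneg u4 u5 hn_5_4.symm, T.w_pos u0, T.w_pos u2, T.w_pos u4, T.w_pos u5]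
                              · -- (2,5) Dp
                                exfalso
                                have key := Groth.Agent.Helper6.NT.negfun3 T h2 u2 u4 u5 (by norm_num) 2 1 1 (by norm_num) (by norm_num)
                                linarith only [key, tap_2_4, taq_2_4, tap_2_5, taq_2_5, T.offDiag_nonneg u4 u5 hn_5_4.symm, T.w_pos u2, T.w_pos u4, T.w_pos u5]
                              · -- (2,5) Dm
                                exfalso
                                have key := Groth.Agent.Helper6.NT.negfun3 T h2 u2 u4 u5 (by norm_num) 2 1 2 (by norm_num) (by norm_num)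
                                linarith only [key, tap_2_4, taq_2_4, tap_2_5, taq_2_5, T.offDiag_nonneg u4 u5 hn_5_4.symm, T.w_pos u2, T.w_pos u4, T.w_pos u5]
                              · -- (2,5) Tp
                                exfalso
                                have key := Groth.Agent.Helper6.NT.negfun3 T h2 u2 u4 u5 (by norm_num) 2 1 1 (by norm_num) (by norm_num)
                                linarith only [key, tap_2_4, taq_2_4, tap_2_5, taq_2_5, T.offDiag_nonneg u4 u5 hn_5_4.symm, T.w_pos u2, T.w_pos u4, T.w_pos u5]
                              · -- (2,5) Tm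
                                exfalso
                                have key := Groth.Agent.Helper6.NT.negfun3 T h2 u2 u4 u5 (by norm_num) 2 1 3 (by norm_num) (by norm_num)
                                linarith only [key, tap_2_4, taq_2_4, tap_2_5, taq_2_5, T.offDiag_nonneg u4 u5 hn_5_4.symm, T.w_pos u2, T.w_pos u4, T.w_pos u5]
                            · push Not at hx
                              have cl_2 := hx
                              clear hx
                              by_cases hx : ∃ j, (j ≠ u0 ∧ j ≠ u1 ∧ j ≠ u2 ∧ j ≠ u3 ∧ j ≠ u4) ∧ T.a u3 j ≠ 0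
                              · obtain ⟨u5, ⟨hn_5_0, hn_5_1, hn_5_2, hn_5_3, hn_5_4⟩, e_3_5⟩ := hx
                                have z_0_5 : T.a u0 u5 = 0 := cl_0 u5 ⟨hn_5_0, hn_5_1, hn_5_2⟩
                                have z_1_5 : T.a u1 u5 = 0 := cl_1 u5 ⟨hn_5_0, hn_5_1, hn_5_2, hn_5_3⟩
                                have z_2_5 : T.a u2 u5 = 0 := cl_2 u5 ⟨hn_5_0, hn_5_1, hn_5_2, hn_5_3, hn_5_4⟩
                                rcases Groth.Agent.Helper6.NT.edge5 T h2 (by norm_num) u3 u5 hn_5_3.symm e_3_5 with ⟨tw_3_5, tap_3_5, taq_3_5⟩ | ⟨tw_3_5, tap_3_5, taq_3_5⟩ | ⟨tw_3_5, tap_3_5, taq_3_5⟩ | ⟨tw_3_5, tap_3_5, taq_3_5⟩ | ⟨tw_3_5, tap_3_5, taq_3_5⟩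
                                · -- (3,5) S
                                  rcases eq_or_ne (T.a u4 u5) 0 with z_4_5 | nz_4_5
                                  · -- (4,5) zero
                                    have hinj := Groth.Agent.Helper6.NT.inj6 u0 u1 u2 u3 u4 u5 hn_1_0 hn_2_0 hn_2_1 hn_3_0 hn_3_1 hn_3_2 hn_4_0 hn_4_1 hn_4_2 hn_4_3 hn_5_0 hn_5_1 hn_5_2 hn_5_3 hn_5_4
                                    have r_0 : -2 * T.m u0 + 1 * T.m u1 + 1 * T.m u2 = 0 := by
                                      have key := Groth.Agent.Helper6.NT.rowfun6 T u0 u1 u2 u3 u4 u5 hinj u0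
                                      rw [(h2 u0).2, tap_0_1, tap_0_2, z_0_3, z_0_4, z_0_5] at key
                                      exact mul_left_cancel₀ (T.w_pos u0).ne' (by linarith only [key])
                                    have r_1 : 1 * T.m u0 + -2 * T.m u1 + 1 * T.m u3 = 0 := by
                                      have key := Groth.Agent.Helper6.NT.rowfun6 T u0 u1 u2 u3 u4 u5 hinj u1
                                      rw [Groth.Agent.Helper6.NT.symm' T u1 u0, taq_0_1, (h2 u1).2, z_1_2, tap_1_3, z_1_4, z_1_5] at key
                                      exact mul_left_cancel₀ (T.w_pos u1).ne' (by linarith only [key])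
                                    have r_2 : 1 * T.m u0 + -2 * T.m u2 + 2 * T.m u4 = 0 := by
                                      have key := Groth.Agent.Helper6.NT.rowfun6 T u0 u1 u2 u3 u4 u5 hinj u2
                                      rw [Groth.Agent.Helper6.NT.symm' T u2 u0, taq_0_2, Groth.Agent.Helper6.NT.symm' T u2 u1, z_1_2, (h2 u2).2, z_2_3, tap_2_4, z_2_5] at key
                                      exact mul_left_cancel₀ (T.w_pos u2).ne' (by linarith only [key])
                                    have r_3 : 1 * T.m u1 + -2 * T.m u3 + 1 * T.m u5 = 0 := by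
                                      have key := Groth.Agent.Helper6.NT.rowfun6 T u0 u1 u2 u3 u4 u5 hinj u3
                                      rw [Groth.Agent.Helper6.NT.symm' T u3 u0, z_0_3, Groth.Agent.Helper6.NT.symm' T u3 u1, taq_1_3, Groth.Agent.Helper6.NT.symm' T u3 u2, z_2_3, (h2 u3).2, z_3_4, tap_3_5] at key
                                      exact mul_left_cancel₀ (T.w_pos u3).ne' (by linarith only [key])
                                    have r_4 : 1 * T.m u2 + -2 * T.m u4 = 0 := by
                                      have key := Groth.Agent.Helper6.NT.rowfun6 T u0 u1 u2 u3 u4 u5 hinj u4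
                                      rw [Groth.Agent.Helper6.NT.symm' T u4 u0, z_0_4, Groth.Agent.Helper6.NT.symm' T u4 u1, z_1_4, Groth.Agent.Helper6.NT.symm' T u4 u2, taq_2_4, Groth.Agent.Helper6.NT.symm' T u4 u3, z_3_4, (h2 u4).2, z_4_5] at key
                                      exact mul_left_cancel₀ (T.w_pos u4).ne' (by linarith only [key])
                                    have r_5 : 1 * T.m u3 + -2 * T.m u5 = 0 := by
                                      have key := Groth.Agent.Helper6.NT.rowfun6 T u0 u1 u2 u3 u4 u5 hinj u5
                                      rw [Groth.Agent.Helper6.NT.symm' T u5 u0, z_0_5, Groth.Agent.Helper6.NT.symm' T u5 u1, z_1_5, Groth.Agent.Helper6.NT.symm' T u5 u2, z_2_5, Groth.Agent.Helper6.NT.symm' T u5 u3, taq_3_5, Groth.Agent.Helper6.NT.symm' T u5 u4, z_4_5, (h2 u5).2] at key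
                                      exact mul_left_cancel₀ (T.w_pos u5).ne' (by linarith only [key])
                                    exfalso
                                    linarith only [r_0, r_1, r_2, r_3, r_4, r_5, T.m_pos u0, T.m_pos u1, T.m_pos u2, T.m_pos u3, T.m_pos u4, T.m_pos u5]
                                  · -- (4,5) nonzero
                                    obtain ⟨lbp_4_5, lbq_4_5⟩ := Groth.Agent.Helper6.NT.lb T u4 u5 hn_5_4.symm nz_4_5
                                    exfalso
                                    have key := Groth.Agent.Helper6.NT.negfun5 T h2 u0 u2 u3 u4 u5 (by norm_num) 2 4 1 3 2 (by norm_num) (by norm_num)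
                                    linarith only [key, tap_0_2, taq_0_2, z_0_3, z_0_4, z_0_5, z_2_3, tap_2_4, taq_2_4, z_2_5, z_3_4, tap_3_5, taq_3_5, lbp_4_5, lbq_4_5, T.w_pos u0, T.w_pos u2, T.w_pos u3, T.w_pos u4, T.w_pos u5]
                                · -- (3,5) Dp
                                  rcases eq_or_ne (T.a u4 u5) 0 with z_4_5 | nz_4_5
                                  · -- (4,5) zero
                                    have hinj := Groth.Agent.Helper6.NT.inj6 u0 u1 u2 u3 u4 u5 hn_1_0 hn_2_0 hn_2_1 hn_3_0 hn_3_1 hn_3_2 hn_4_0 hn_4_1 hn_4_2 hn_4_3 hn_5_0 hn_5_1 hn_5_2 hn_5_3 hn_5_4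
                                    have r_0 : -2 * T.m u0 + 1 * T.m u1 + 1 * T.m u2 = 0 := by
                                      have key := Groth.Agent.Helper6.NT.rowfun6 T u0 u1 u2 u3 u4 u5 hinj u0
                                      rw [(h2 u0).2, tap_0_1, tap_0_2, z_0_3, z_0_4, z_0_5] at key
                                      exact mul_left_cancel₀ (T.w_pos u0).ne' (by linarith only [key])
                                    have r_1 : 1 * T.m u0 + -2 * T.m u1 + 1 * T.m u3 = 0 := by
                                      have key := Groth.Agent.Helper6.NT.rowfun6 T u0 u1 u2 u3 u4 u5 hinj u1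
                                      rw [Groth.Agent.Helper6.NT.symm' T u1 u0, taq_0_1, (h2 u1).2, z_1_2, tap_1_3, z_1_4, z_1_5] at key
                                      exact mul_left_cancel₀ (T.w_pos u1).ne' (by linarith only [key])
                                    have r_2 : 1 * T.m u0 + -2 * T.m u2 + 2 * T.m u4 = 0 := by
                                      have key := Groth.Agent.Helper6.NT.rowfun6 T u0 u1 u2 u3 u4 u5 hinj u2
                                      rw [Groth.Agent.Helper6.NT.symm' T u2 u0, taq_0_2, Groth.Agent.Helper6.NT.symm' T u2 u1, z_1_2, (h2 u2).2, z_2_3, tap_2_4, z_2_5] at key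
                                      exact mul_left_cancel₀ (T.w_pos u2).ne' (by linarith only [key])
                                    have r_3 : 1 * T.m u1 + -2 * T.m u3 + 2 * T.m u5 = 0 := by
                                      have key := Groth.Agent.Helper6.NT.rowfun6 T u0 u1 u2 u3 u4 u5 hinj u3
                                      rw [Groth.Agent.Helper6.NT.symm' T u3 u0, z_0_3, Groth.Agent.Helper6.NT.symm' T u3 u1, taq_1_3, Groth.Agent.Helper6.NT.symm' T u3 u2, z_2_3, (h2 u3).2, z_3_4, tap_3_5] at key
                                      exact mul_left_cancel₀ (T.w_pos u3).ne' (by linarith only [key])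
                                    have r_4 : 1 * T.m u2 + -2 * T.m u4 = 0 := by
                                      have key := Groth.Agent.Helper6.NT.rowfun6 T u0 u1 u2 u3 u4 u5 hinj u4
                                      rw [Groth.Agent.Helper6.NT.symm' T u4 u0, z_0_4, Groth.Agent.Helper6.NT.symm' T u4 u1, z_1_4, Groth.Agent.Helper6.NT.symm' T u4 u2, taq_2_4, Groth.Agent.Helper6.NT.symm' T u4 u3, z_3_4, (h2 u4).2, z_4_5] at key
                                      exact mul_left_cancel₀ (T.w_pos u4).ne' (by linarith only [key])
                                    have r_5 : 1 * T.m u3 + -2 * T.m u5 = 0 := by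
                                      have key := Groth.Agent.Helper6.NT.rowfun6 T u0 u1 u2 u3 u4 u5 hinj u5
                                      rw [Groth.Agent.Helper6.NT.symm' T u5 u0, z_0_5, Groth.Agent.Helper6.NT.symm' T u5 u1, z_1_5, Groth.Agent.Helper6.NT.symm' T u5 u2, z_2_5, Groth.Agent.Helper6.NT.symm' T u5 u3, taq_3_5, Groth.Agent.Helper6.NT.symm' T u5 u4, z_4_5, (h2 u5).2] at key
                                      exact mul_left_cancel₀ (T.w_pos u5).ne' (by linarith only [key])
                                    have f0 : T.m u4 = T.m u4 := rfl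
                                    have f1 : T.m u2 = 2 * T.m u4 := by linarith only [r_0, r_1, r_2, r_3, r_4, r_5]
                                    have f2 : T.m u0 = 2 * T.m u4 := by linarith only [r_0, r_1, r_2, r_3, r_4, r_5]
                                    have f3 : T.m u1 = 2 * T.m u4 := by linarith only [r_0, r_1, r_2, r_3, r_4, r_5]
                                    have f4 : T.m u3 = 2 * T.m u4 := by linarith only [r_0, r_1, r_2, r_3, r_4, r_5]
                                    have f5 : T.m u5 = T.m u4 := by linarith only [r_0, r_1, r_2, r_3, r_4, r_5]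
                                    have f6 : T.w u4 = 2 * T.w u2 := by linarith only [tw_0_1, tw_0_2, tw_1_3, tw_2_4, tw_3_5]
                                    have f7 : T.w u2 = T.w u2 := rfl
                                    have f8 : T.w u0 = T.w u2 := by linarith only [tw_0_1, tw_0_2, tw_1_3, tw_2_4, tw_3_5]
                                    have f9 : T.w u1 = T.w u2 := by linarith only [tw_0_1, tw_0_2, tw_1_3, tw_2_4, tw_3_5]
                                    have f10 : T.w u3 = T.w u2 := by linarith only [tw_0_1, tw_0_2, tw_1_3, tw_2_4, tw_3_5]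
                                    have f11 : T.w u5 = 2 * T.w u2 := by linarith only [tw_0_1, tw_0_2, tw_1_3, tw_2_4, tw_3_5]
                                    have f12 : T.a u4 u4 = -4 * T.w u2 := by have := (h2 u4).2; linarith only [this, tw_0_1, tw_0_2, tw_1_3, tw_2_4, tw_3_5]
                                    have f13 : T.a u4 u2 = 2 * T.w u2 := by rw [Groth.Agent.Helper6.NT.symm' T u4 u2]; linarith only [tap_2_4, tw_0_1, tw_0_2, tw_1_3, tw_2_4, tw_3_5]
                                    have f14 : T.a u4 u0 = 0 := by rw [Groth.Agent.Helper6.NT.symm' T u4 u0]; exact z_0_4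
                                    have f15 : T.a u4 u1 = 0 := by rw [Groth.Agent.Helper6.NT.symm' T u4 u1]; exact z_1_4
                                    have f16 : T.a u4 u3 = 0 := by rw [Groth.Agent.Helper6.NT.symm' T u4 u3]; exact z_3_4
                                    have f17 : T.a u4 u5 = 0 := by exact z_4_5
                                    have f18 : T.a u2 u2 = -2 * T.w u2 := by have := (h2 u2).2; linarith only [this, tw_0_1, tw_0_2, tw_1_3, tw_2_4, tw_3_5]
                                    have f19 : T.a u2 u0 = T.w u2 := by rw [Groth.Agent.Helper6.NT.symm' T u2 u0]; linarith only [tap_0_2, tw_0_1, tw_0_2, tw_1_3, tw_2_4, tw_3_5]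
                                    have f20 : T.a u2 u1 = 0 := by rw [Groth.Agent.Helper6.NT.symm' T u2 u1]; exact z_1_2
                                    have f21 : T.a u2 u3 = 0 := by exact z_2_3
                                    have f22 : T.a u2 u5 = 0 := by exact z_2_5
                                    have f23 : T.a u0 u0 = -2 * T.w u2 := by have := (h2 u0).2; linarith only [this, tw_0_1, tw_0_2, tw_1_3, tw_2_4, tw_3_5]
                                    have f24 : T.a u0 u1 = T.w u2 := by linarith only [tap_0_1, tw_0_1, tw_0_2, tw_1_3, tw_2_4, tw_3_5]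
                                    have f25 : T.a u0 u3 = 0 := by exact z_0_3
                                    have f26 : T.a u0 u5 = 0 := by exact z_0_5
                                    have f27 : T.a u1 u1 = -2 * T.w u2 := by have := (h2 u1).2; linarith only [this, tw_0_1, tw_0_2, tw_1_3, tw_2_4, tw_3_5]
                                    have f28 : T.a u1 u3 = T.w u2 := by linarith only [tap_1_3, tw_0_1, tw_0_2, tw_1_3, tw_2_4, tw_3_5]
                                    have f29 : T.a u1 u5 = 0 := by exact z_1_5
                                    have f30 : T.a u3 u3 = -2 * T.w u2 := by have := (h2 u3).2; linarith only [this, tw_0_1, tw_0_2, tw_1_3, tw_2_4, tw_3_5]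
                                    have f31 : T.a u3 u5 = 2 * T.w u2 := by linarith only [tap_3_5, tw_0_1, tw_0_2, tw_1_3, tw_2_4, tw_3_5]
                                    have f32 : T.a u5 u5 = -4 * T.w u2 := by have := (h2 u5).2; linarith only [this, tw_0_1, tw_0_2, tw_1_3, tw_2_4, tw_3_5]
                                    have hsig := Groth.Agent.Helper6.NT.inj6 u4 u2 u0 u1 u3 u5 hn_4_2.symm hn_4_0.symm hn_2_0.symm hn_4_1.symm hn_2_1.symm hn_1_0 hn_4_3.symm hn_3_2 hn_3_0 hn_3_1 hn_5_4 hn_5_2 hn_5_0 hn_5_1 hn_5_3
                                    exact ⟨Equiv.ofBijective _ (Finite.injective_iff_bijective.1 hsig), T.m u4, T.w u2, Or.inr (Or.inr (Or.inr (Or.inl ⟨f0, f1, f2, f3, f4, f5, f6, f7, f8, f9, f10, f11, f12, f13, f14, f15, f16, f17, f18, f19, f20, f21, f22, f23, f24, f25, f26, f27, f28, f29, f30, f31, f32⟩)))⟩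
                                  · -- (4,5) nonzero
                                    obtain ⟨lbp_4_5, lbq_4_5⟩ := Groth.Agent.Helper6.NT.lb T u4 u5 hn_5_4.symm nz_4_5
                                    exfalso
                                    have key := Groth.Agent.Helper6.NT.negfun4 T h2 u2 u3 u4 u5 (by norm_num) 1 1 1 1 (by norm_num) (by norm_num)
                                    linarith only [key, z_2_3, tap_2_4, taq_2_4, z_2_5, z_3_4, tap_3_5, taq_3_5, lbp_4_5, lbq_4_5, T.w_pos u2, T.w_pos u3, T.w_pos u4, T.w_pos u5]
                                · -- (3,5) Dm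
                                  rcases eq_or_ne (T.a u4 u5) 0 with z_4_5 | nz_4_5
                                  · -- (4,5) zero
                                    have hinj := Groth.Agent.Helper6.NT.inj6 u0 u1 u2 u3 u4 u5 hn_1_0 hn_2_0 hn_2_1 hn_3_0 hn_3_1 hn_3_2 hn_4_0 hn_4_1 hn_4_2 hn_4_3 hn_5_0 hn_5_1 hn_5_2 hn_5_3 hn_5_4
                                    have r_0 : -2 * T.m u0 + 1 * T.m u1 + 1 * T.m u2 = 0 := by
                                      have key := Groth.Agent.Helper6.NT.rowfun6 T u0 u1 u2 u3 u4 u5 hinj u0
                                      rw [(h2 u0).2, tap_0_1, tap_0_2, z_0_3, z_0_4, z_0_5] at key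
                                      exact mul_left_cancel₀ (T.w_pos u0).ne' (by linarith only [key])
                                    have r_1 : 1 * T.m u0 + -2 * T.m u1 + 1 * T.m u3 = 0 := by
                                      have key := Groth.Agent.Helper6.NT.rowfun6 T u0 u1 u2 u3 u4 u5 hinj u1
                                      rw [Groth.Agent.Helper6.NT.symm' T u1 u0, taq_0_1, (h2 u1).2, z_1_2, tap_1_3, z_1_4, z_1_5] at key
                                      exact mul_left_cancel₀ (T.w_pos u1).ne' (by linarith only [key])
                                    have r_2 : 1 * T.m u0 + -2 * T.m u2 + 2 * T.m u4 = 0 := by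
                                      have key := Groth.Agent.Helper6.NT.rowfun6 T u0 u1 u2 u3 u4 u5 hinj u2
                                      rw [Groth.Agent.Helper6.NT.symm' T u2 u0, taq_0_2, Groth.Agent.Helper6.NT.symm' T u2 u1, z_1_2, (h2 u2).2, z_2_3, tap_2_4, z_2_5] at key
                                      exact mul_left_cancel₀ (T.w_pos u2).ne' (by linarith only [key])
                                    have r_3 : 1 * T.m u1 + -2 * T.m u3 + 1 * T.m u5 = 0 := by
                                      have key := Groth.Agent.Helper6.NT.rowfun6 T u0 u1 u2 u3 u4 u5 hinj u3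
                                      rw [Groth.Agent.Helper6.NT.symm' T u3 u0, z_0_3, Groth.Agent.Helper6.NT.symm' T u3 u1, taq_1_3, Groth.Agent.Helper6.NT.symm' T u3 u2, z_2_3, (h2 u3).2, z_3_4, tap_3_5] at key
                                      exact mul_left_cancel₀ (T.w_pos u3).ne' (by linarith only [key])
                                    have r_4 : 1 * T.m u2 + -2 * T.m u4 = 0 := by
                                      have key := Groth.Agent.Helper6.NT.rowfun6 T u0 u1 u2 u3 u4 u5 hinj u4
                                      rw [Groth.Agent.Helper6.NT.symm' T u4 u0, z_0_4, Groth.Agent.Helper6.NT.symm' T u4 u1, z_1_4, Groth.Agent.Helper6.NT.symm' T u4 u2, taq_2_4, Groth.Agent.Helper6.NT.symm' T u4 u3, z_3_4, (h2 u4).2, z_4_5] at key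
                                      exact mul_left_cancel₀ (T.w_pos u4).ne' (by linarith only [key])
                                    have r_5 : 2 * T.m u3 + -2 * T.m u5 = 0 := by
                                      have key := Groth.Agent.Helper6.NT.rowfun6 T u0 u1 u2 u3 u4 u5 hinj u5
                                      rw [Groth.Agent.Helper6.NT.symm' T u5 u0, z_0_5, Groth.Agent.Helper6.NT.symm' T u5 u1, z_1_5, Groth.Agent.Helper6.NT.symm' T u5 u2, z_2_5, Groth.Agent.Helper6.NT.symm' T u5 u3, taq_3_5, Groth.Agent.Helper6.NT.symm' T u5 u4, z_4_5, (h2 u5).2] at key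
                                      exact mul_left_cancel₀ (T.w_pos u5).ne' (by linarith only [key])
                                    have f0 : T.m u5 = 2 * T.m u4 := by linarith only [r_0, r_1, r_2, r_3, r_4, r_5]
                                    have f1 : T.m u3 = 2 * T.m u4 := by linarith only [r_0, r_1, r_2, r_3, r_4, r_5]
                                    have f2 : T.m u1 = 2 * T.m u4 := by linarith only [r_0, r_1, r_2, r_3, r_4, r_5]
                                    have f3 : T.m u0 = 2 * T.m u4 := by linarith only [r_0, r_1, r_2, r_3, r_4, r_5]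
                                    have f4 : T.m u2 = 2 * T.m u4 := by linarith only [r_0, r_1, r_2, r_3, r_4, r_5]
                                    have f5 : T.m u4 = T.m u4 := rfl
                                    have f6 : T.w u5 = T.w u5 := rfl
                                    have f7 : T.w u3 = 2 * T.w u5 := by linarith only [tw_0_1, tw_0_2, tw_1_3, tw_2_4, tw_3_5]
                                    have f8 : T.w u1 = 2 * T.w u5 := by linarith only [tw_0_1, tw_0_2, tw_1_3, tw_2_4, tw_3_5]
                                    have f9 : T.w u0 = 2 * T.w u5 := by linarith only [tw_0_1, tw_0_2, tw_1_3, tw_2_4, tw_3_5]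
                                    have f10 : T.w u2 = 2 * T.w u5 := by linarith only [tw_0_1, tw_0_2, tw_1_3, tw_2_4, tw_3_5]
                                    have f11 : T.w u4 = 4 * T.w u5 := by linarith only [tw_0_1, tw_0_2, tw_1_3, tw_2_4, tw_3_5]
                                    have f12 : T.a u5 u5 = -2 * T.w u5 := by have := (h2 u5).2; linarith only [this, tw_0_1, tw_0_2, tw_1_3, tw_2_4, tw_3_5]
                                    have f13 : T.a u5 u3 = 2 * T.w u5 := by rw [Groth.Agent.Helper6.NT.symm' T u5 u3]; linarith only [tap_3_5, tw_0_1, tw_0_2, tw_1_3, tw_2_4, tw_3_5]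
                                    have f14 : T.a u5 u1 = 0 := by rw [Groth.Agent.Helper6.NT.symm' T u5 u1]; exact z_1_5
                                    have f15 : T.a u5 u0 = 0 := by rw [Groth.Agent.Helper6.NT.symm' T u5 u0]; exact z_0_5
                                    have f16 : T.a u5 u2 = 0 := by rw [Groth.Agent.Helper6.NT.symm' T u5 u2]; exact z_2_5
                                    have f17 : T.a u5 u4 = 0 := by rw [Groth.Agent.Helper6.NT.symm' T u5 u4]; exact z_4_5
                                    have f18 : T.a u3 u3 = -4 * T.w u5 := by have := (h2 u3).2; linarith only [this, tw_0_1, tw_0_2, tw_1_3, tw_2_4, tw_3_5]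
                                    have f19 : T.a u3 u1 = 2 * T.w u5 := by rw [Groth.Agent.Helper6.NT.symm' T u3 u1]; linarith only [tap_1_3, tw_0_1, tw_0_2, tw_1_3, tw_2_4, tw_3_5]
                                    have f20 : T.a u3 u0 = 0 := by rw [Groth.Agent.Helper6.NT.symm' T u3 u0]; exact z_0_3
                                    have f21 : T.a u3 u2 = 0 := by rw [Groth.Agent.Helper6.NT.symm' T u3 u2]; exact z_2_3
                                    have f22 : T.a u3 u4 = 0 := by exact z_3_4
                                    have f23 : T.a u1 u1 = -4 * T.w u5 := by have := (h2 u1).2; linarith only [this, tw_0_1, tw_0_2, tw_1_3, tw_2_4, tw_3_5]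
                                    have f24 : T.a u1 u0 = 2 * T.w u5 := by rw [Groth.Agent.Helper6.NT.symm' T u1 u0]; linarith only [tap_0_1, tw_0_1, tw_0_2, tw_1_3, tw_2_4, tw_3_5]
                                    have f25 : T.a u1 u2 = 0 := by exact z_1_2
                                    have f26 : T.a u1 u4 = 0 := by exact z_1_4
                                    have f27 : T.a u0 u0 = -4 * T.w u5 := by have := (h2 u0).2; linarith only [this, tw_0_1, tw_0_2, tw_1_3, tw_2_4, tw_3_5]
                                    have f28 : T.a u0 u2 = 2 * T.w u5 := by linarith only [tap_0_2, tw_0_1, tw_0_2, tw_1_3, tw_2_4, tw_3_5]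
                                    have f29 : T.a u0 u4 = 0 := by exact z_0_4
                                    have f30 : T.a u2 u2 = -4 * T.w u5 := by have := (h2 u2).2; linarith only [this, tw_0_1, tw_0_2, tw_1_3, tw_2_4, tw_3_5]
                                    have f31 : T.a u2 u4 = 4 * T.w u5 := by linarith only [tap_2_4, tw_0_1, tw_0_2, tw_1_3, tw_2_4, tw_3_5]
                                    have f32 : T.a u4 u4 = -8 * T.w u5 := by have := (h2 u4).2; linarith only [this, tw_0_1, tw_0_2, tw_1_3, tw_2_4, tw_3_5]
                                    have hsig := Groth.Agent.Helper6.NT.inj6 u5 u3 u1 u0 u2 u4 hn_5_3.symm hn_5_1.symm hn_3_1.symm hn_5_0.symm hn_3_0.symm hn_1_0.symm hn_5_2.symm hn_3_2.symm hn_2_1 hn_2_0 hn_5_4.symm hn_4_3 hn_4_1 hn_4_0 hn_4_2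
                                    exact ⟨Equiv.ofBijective _ (Finite.injective_iff_bijective.1 hsig), T.m u4, T.w u5, Or.inr (Or.inl ⟨f0, f1, f2, f3, f4, f5, f6, f7, f8, f9, f10, f11, f12, f13, f14, f15, f16, f17, f18, f19, f20, f21, f22, f23, f24, f25, f26, f27, f28, f29, f30, f31, f32⟩)⟩
                                  · -- (4,5) nonzero
                                    obtain ⟨lbp_4_5, lbq_4_5⟩ := Groth.Agent.Helper6.NT.lb T u4 u5 hn_5_4.symm nz_4_5
                                    exfalso
                                    have key := Groth.Agent.Helper6.NT.negfun4 T h2 u2 u3 u4 u5 (by norm_num) 2 1 2 2 (by norm_num) (by norm_num)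
                                    linarith only [key, z_2_3, tap_2_4, taq_2_4, z_2_5, z_3_4, tap_3_5, taq_3_5, lbp_4_5, lbq_4_5, T.w_pos u2, T.w_pos u3, T.w_pos u4, T.w_pos u5]
                                · -- (3,5) Tp
                                  exfalso
                                  have key := Groth.Agent.Helper6.NT.negfun3 T h2 u1 u3 u5 (by norm_num) 1 2 1 (by norm_num) (by norm_num)
                                  linarith only [key, tap_1_3, taq_1_3, z_1_5, tap_3_5, taq_3_5, T.w_pos u1, T.w_pos u3, T.w_pos u5]
                                · -- (3,5) Tm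
                                  exfalso
                                  have key := Groth.Agent.Helper6.NT.negfun3 T h2 u1 u3 u5 (by norm_num) 1 2 3 (by norm_num) (by norm_num)
                                  linarith only [key, tap_1_3, taq_1_3, z_1_5, tap_3_5, taq_3_5, T.w_pos u1, T.w_pos u3, T.w_pos u5]
                              · push Not at hx
                                have cl_3 := hx
                                clear hx
                                by_cases hx : ∃ j, (j ≠ u0 ∧ j ≠ u1 ∧ j ≠ u2 ∧ j ≠ u3 ∧ j ≠ u4) ∧ T.a u4 j ≠ 0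
                                · obtain ⟨u5, ⟨hn_5_0, hn_5_1, hn_5_2, hn_5_3, hn_5_4⟩, e_4_5⟩ := hx
                                  have z_0_5 : T.a u0 u5 = 0 := cl_0 u5 ⟨hn_5_0, hn_5_1, hn_5_2⟩
                                  have z_1_5 : T.a u1 u5 = 0 := cl_1 u5 ⟨hn_5_0, hn_5_1, hn_5_2, hn_5_3⟩
                                  have z_2_5 : T.a u2 u5 = 0 := cl_2 u5 ⟨hn_5_0, hn_5_1, hn_5_2, hn_5_3, hn_5_4⟩
                                  have z_3_5 : T.a u3 u5 = 0 := cl_3 u5 ⟨hn_5_0, hn_5_1, hn_5_2, hn_5_3, hn_5_4⟩
                                  rcases Groth.Agent.Helper6.NT.edge5 T h2 (by norm_num) u4 u5 hn_5_4.symm e_4_5 with ⟨tw_4_5, tap_4_5, taq_4_5⟩ | ⟨tw_4_5, tap_4_5, taq_4_5⟩ | ⟨tw_4_5, tap_4_5, taq_4_5⟩ | ⟨tw_4_5, tap_4_5, taq_4_5⟩ | ⟨tw_4_5, tap_4_5, taq_4_5⟩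
                                  · -- (4,5) S
                                    exfalso
                                    have key := Groth.Agent.Helper6.NT.negfun5 T h2 u0 u1 u2 u4 u5 (by norm_num) 2 1 3 2 1 (by norm_num) (by norm_num)
                                    linarith only [key, tap_0_1, taq_0_1, tap_0_2, taq_0_2, z_0_4, z_0_5, z_1_2, z_1_4, z_1_5, tap_2_4, taq_2_4, z_2_5, tap_4_5, taq_4_5, T.w_pos u0, T.w_pos u1, T.w_pos u2, T.w_pos u4, T.w_pos u5]
                                  · -- (4,5) Dp
                                    exfalso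
                                    have key := Groth.Agent.Helper6.NT.negfun3 T h2 u2 u4 u5 (by norm_num) 2 2 1 (by norm_num) (by norm_num)
                                    linarith only [key, tap_2_4, taq_2_4, z_2_5, tap_4_5, taq_4_5, T.w_pos u2, T.w_pos u4, T.w_pos u5]
                                  · -- (4,5) Dm
                                    exfalso
                                    have key := Groth.Agent.Helper6.NT.negfun3 T h2 u2 u4 u5 (by norm_num) 1 1 1 (by norm_num) (by norm_num)
                                    linarith only [key, tap_2_4, taq_2_4, z_2_5, tap_4_5, taq_4_5, T.w_pos u2, T.w_pos u4, T.w_pos u5]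
                                  · -- (4,5) Tp
                                    exfalso
                                    have key := Groth.Agent.Helper6.NT.negfun3 T h2 u2 u4 u5 (by norm_num) 2 2 1 (by norm_num) (by norm_num)
                                    linarith only [key, tap_2_4, taq_2_4, z_2_5, tap_4_5, taq_4_5, T.w_pos u2, T.w_pos u4, T.w_pos u5]
                                  · -- (4,5) Tm
                                    exfalso
                                    have key := Groth.Agent.Helper6.NT.negfun3 T h2 u2 u4 u5 (by norm_num) 2 2 3 (by norm_num) (by norm_num)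
                                    linarith only [key, tap_2_4, taq_2_4, z_2_5, tap_4_5, taq_4_5, T.w_pos u2, T.w_pos u4, T.w_pos u5]
                                · push Not at hx
                                  have cl_4 := hx
                                  clear hx
                                  exfalso
                                  refine Groth.Agent.Helper6.NT.closed_contra T [u0, u1, u2, u3, u4] (by simp) (by simp) ?_
                                  intro i hi j hj
                                  simp only [List.mem_cons, List.not_mem_nil, or_false, not_or] at hi hj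
                                  rcases hi with rfl | rfl | rfl | rfl | rfl
                                  · exact cl_0 j ⟨hj.1, hj.2.1, hj.2.2.1⟩
                                  · exact cl_1 j ⟨hj.1, hj.2.1, hj.2.2.1, hj.2.2.2.1⟩
                                  · exact cl_2 j ⟨hj.1, hj.2.1, hj.2.2.1, hj.2.2.2.1, hj.2.2.2.2⟩
                                  · exact cl_3 j ⟨hj.1, hj.2.1, hj.2.2.1, hj.2.2.2.1, hj.2.2.2.2⟩
                                  · exact cl_4 j ⟨hj.1, hj.2.1, hj.2.2.1, hj.2.2.2.1, hj.2.2.2.2⟩
                          · -- (3,4) nonzero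
                            obtain ⟨lbp_3_4, lbq_3_4⟩ := Groth.Agent.Helper6.NT.lb T u3 u4 hn_4_3.symm nz_3_4
                            exfalso
                            have key := Groth.Agent.Helper6.NT.negfun5 T h2 u0 u1 u2 u3 u4 (by norm_num) 2 2 3 2 2 (by norm_num) (by norm_num)
                            linarith only [key, tap_0_1, taq_0_1, tap_0_2, taq_0_2, z_0_3, z_0_4, z_1_2, tap_1_3, taq_1_3, z_1_4, z_2_3, tap_2_4, taq_2_4, lbp_3_4, lbq_3_4, T.w_pos u0, T.w_pos u1, T.w_pos u2, T.w_pos u3, T.w_pos u4]
                        · -- (2,4) Dm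
                          rcases eq_or_ne (T.a u3 u4) 0 with z_3_4 | nz_3_4
                          · -- (3,4) zero
                            by_cases hx : ∃ j, (j ≠ u0 ∧ j ≠ u1 ∧ j ≠ u2 ∧ j ≠ u3 ∧ j ≠ u4) ∧ T.a u2 j ≠ 0
                            · obtain ⟨u5, ⟨hn_5_0, hn_5_1, hn_5_2, hn_5_3, hn_5_4⟩, e_2_5⟩ := hx
                              have z_0_5 : T.a u0 u5 = 0 := cl_0 u5 ⟨hn_5_0, hn_5_1, hn_5_2⟩
                              have z_1_5 : T.a u1 u5 = 0 := cl_1 u5 ⟨hn_5_0, hn_5_1, hn_5_2, hn_5_3⟩
                              rcases Groth.Agent.Helper6.NT.edge5 T h2 (by norm_num) u2 u5 hn_5_2.symm e_2_5 with ⟨tw_2_5, tap_2_5, taq_2_5⟩ | ⟨tw_2_5, tap_2_5, taq_2_5⟩ | ⟨tw_2_5, tap_2_5, taq_2_5⟩ | ⟨tw_2_5, tap_2_5, taq_2_5⟩ | ⟨tw_2_5, tap_2_5, taq_2_5⟩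
                              · -- (2,5) S
                                exfalso
                                have key := Groth.Agent.Helper6.NT.negfun4 T h2 u0 u2 u4 u5 (by norm_num) 1 2 2 1 (by norm_num) (by norm_num)
                                linarith only [key, tap_0_2, taq_0_2, z_0_4, z_0_5, tap_2_4, taq_2_4, tap_2_5, taq_2_5, T.offDiag_nonneg u4 u5 hn_5_4.symm, T.w_pos u0, T.w_pos u2, T.w_pos u4, T.w_pos u5]
                              · -- (2,5) Dp
                                exfalso
                                have key := Groth.Agent.Helper6.NT.negfun3 T h2 u2 u4 u5 (by norm_num) 2 2 1 (by norm_num) (by norm_num)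
                                linarith only [key, tap_2_4, taq_2_4, tap_2_5, taq_2_5, T.offDiag_nonneg u4 u5 hn_5_4.symm, T.w_pos u2, T.w_pos u4, T.w_pos u5]
                              · -- (2,5) Dm
                                exfalso
                                have key := Groth.Agent.Helper6.NT.negfun3 T h2 u2 u4 u5 (by norm_num) 1 1 1 (by norm_num) (by norm_num)
                                linarith only [key, tap_2_4, taq_2_4, tap_2_5, taq_2_5, T.offDiag_nonneg u4 u5 hn_5_4.symm, T.w_pos u2, T.w_pos u4, T.w_pos u5]
                              · -- (2,5) Tp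
                                exfalso
                                have key := Groth.Agent.Helper6.NT.negfun3 T h2 u2 u4 u5 (by norm_num) 2 2 1 (by norm_num) (by norm_num)
                                linarith only [key, tap_2_4, taq_2_4, tap_2_5, taq_2_5, T.offDiag_nonneg u4 u5 hn_5_4.symm, T.w_pos u2, T.w_pos u4, T.w_pos u5]
                              · -- (2,5) Tm
                                exfalso
                                have key := Groth.Agent.Helper6.NT.negfun3 T h2 u2 u4 u5 (by norm_num) 2 2 3 (by norm_num) (by norm_num)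
                                linarith only [key, tap_2_4, taq_2_4, tap_2_5, taq_2_5, T.offDiag_nonneg u4 u5 hn_5_4.symm, T.w_pos u2, T.w_pos u4, T.w_pos u5]
                            · push Not at hx
                              have cl_2 := hx
                              clear hx
                              by_cases hx : ∃ j, (j ≠ u0 ∧ j ≠ u1 ∧ j ≠ u2 ∧ j ≠ u3 ∧ j ≠ u4) ∧ T.a u3 j ≠ 0
                              · obtain ⟨u5, ⟨hn_5_0, hn_5_1, hn_5_2, hn_5_3, hn_5_4⟩, e_3_5⟩ := hx
                                have z_0_5 : T.a u0 u5 = 0 := cl_0 u5 ⟨hn_5_0, hn_5_1, hn_5_2⟩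
                                have z_1_5 : T.a u1 u5 = 0 := cl_1 u5 ⟨hn_5_0, hn_5_1, hn_5_2, hn_5_3⟩
                                have z_2_5 : T.a u2 u5 = 0 := cl_2 u5 ⟨hn_5_0, hn_5_1, hn_5_2, hn_5_3, hn_5_4⟩
                                rcases Groth.Agent.Helper6.NT.edge5 T h2 (by norm_num) u3 u5 hn_5_3.symm e_3_5 with ⟨tw_3_5, tap_3_5, taq_3_5⟩ | ⟨tw_3_5, tap_3_5, taq_3_5⟩ | ⟨tw_3_5, tap_3_5, taq_3_5⟩ | ⟨tw_3_5, tap_3_5, taq_3_5⟩ | ⟨tw_3_5, tap_3_5, taq_3_5⟩
                                · -- (3,5) S
                                  rcases eq_or_ne (T.a u4 u5) 0 with z_4_5 | nz_4_5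
                                  · -- (4,5) zero
                                    have hinj := Groth.Agent.Helper6.NT.inj6 u0 u1 u2 u3 u4 u5 hn_1_0 hn_2_0 hn_2_1 hn_3_0 hn_3_1 hn_3_2 hn_4_0 hn_4_1 hn_4_2 hn_4_3 hn_5_0 hn_5_1 hn_5_2 hn_5_3 hn_5_4
                                    have r_0 : -2 * T.m u0 + 1 * T.m u1 + 1 * T.m u2 = 0 := by
                                      have key := Groth.Agent.Helper6.NT.rowfun6 T u0 u1 u2 u3 u4 u5 hinj u0
                                      rw [(h2 u0).2, tap_0_1, tap_0_2, z_0_3, z_0_4, z_0_5] at key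
                                      exact mul_left_cancel₀ (T.w_pos u0).ne' (by linarith only [key])
                                    have r_1 : 1 * T.m u0 + -2 * T.m u1 + 1 * T.m u3 = 0 := by
                                      have key := Groth.Agent.Helper6.NT.rowfun6 T u0 u1 u2 u3 u4 u5 hinj u1
                                      rw [Groth.Agent.Helper6.NT.symm' T u1 u0, taq_0_1, (h2 u1).2, z_1_2, tap_1_3, z_1_4, z_1_5] at key
                                      exact mul_left_cancel₀ (T.w_pos u1).ne' (by linarith only [key])
                                    have r_2 : 1 * T.m u0 + -2 * T.m u2 + 1 * T.m u4 = 0 := by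
                                      have key := Groth.Agent.Helper6.NT.rowfun6 T u0 u1 u2 u3 u4 u5 hinj u2
                                      rw [Groth.Agent.Helper6.NT.symm' T u2 u0, taq_0_2, Groth.Agent.Helper6.NT.symm' T u2 u1, z_1_2, (h2 u2).2, z_2_3, tap_2_4, z_2_5] at key
                                      exact mul_left_cancel₀ (T.w_pos u2).ne' (by linarith only [key])
                                    have r_3 : 1 * T.m u1 + -2 * T.m u3 + 1 * T.m u5 = 0 := by
                                      have key := Groth.Agent.Helper6.NT.rowfun6 T u0 u1 u2 u3 u4 u5 hinj u3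
                                      rw [Groth.Agent.Helper6.NT.symm' T u3 u0, z_0_3, Groth.Agent.Helper6.NT.symm' T u3 u1, taq_1_3, Groth.Agent.Helper6.NT.symm' T u3 u2, z_2_3, (h2 u3).2, z_3_4, tap_3_5] at key
                                      exact mul_left_cancel₀ (T.w_pos u3).ne' (by linarith only [key])
                                    have r_4 : 2 * T.m u2 + -2 * T.m u4 = 0 := by
                                      have key := Groth.Agent.Helper6.NT.rowfun6 T u0 u1 u2 u3 u4 u5 hinj u4
                                      rw [Groth.Agent.Helper6.NT.symm' T u4 u0, z_0_4, Groth.Agent.Helper6.NT.symm' T u4 u1, z_1_4, Groth.Agent.Helper6.NT.symm' T u4 u2, taq_2_4, Groth.Agent.Helper6.NT.symm' T u4 u3, z_3_4, (h2 u4).2, z_4_5] at key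
                                      exact mul_left_cancel₀ (T.w_pos u4).ne' (by linarith only [key])
                                    have r_5 : 1 * T.m u3 + -2 * T.m u5 = 0 := by
                                      have key := Groth.Agent.Helper6.NT.rowfun6 T u0 u1 u2 u3 u4 u5 hinj u5
                                      rw [Groth.Agent.Helper6.NT.symm' T u5 u0, z_0_5, Groth.Agent.Helper6.NT.symm' T u5 u1, z_1_5, Groth.Agent.Helper6.NT.symm' T u5 u2, z_2_5, Groth.Agent.Helper6.NT.symm' T u5 u3, taq_3_5, Groth.Agent.Helper6.NT.symm' T u5 u4, z_4_5, (h2 u5).2] at key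
                                      exact mul_left_cancel₀ (T.w_pos u5).ne' (by linarith only [key])
                                    exfalso
                                    linarith only [r_0, r_1, r_2, r_3, r_4, r_5, T.m_pos u0, T.m_pos u1, T.m_pos u2, T.m_pos u3, T.m_pos u4, T.m_pos u5]
                                  · -- (4,5) nonzero
                                    obtain ⟨lbp_4_5, lbq_4_5⟩ := Groth.Agent.Helper6.NT.lb T u4 u5 hn_5_4.symm nz_4_5
                                    exfalso
                                    have key := Groth.Agent.Helper6.NT.negfun5 T h2 u0 u2 u3 u4 u5 (by norm_num) 1 2 1 3 2 (by norm_num) (by norm_num)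
                                    linarith only [key, tap_0_2, taq_0_2, z_0_3, z_0_4, z_0_5, z_2_3, tap_2_4, taq_2_4, z_2_5, z_3_4, tap_3_5, taq_3_5, lbp_4_5, lbq_4_5, T.w_pos u0, T.w_pos u2, T.w_pos u3, T.w_pos u4, T.w_pos u5]
                                · -- (3,5) Dp
                                  rcases eq_or_ne (T.a u4 u5) 0 with z_4_5 | nz_4_5
                                  · -- (4,5) zero
                                    have hinj := Groth.Agent.Helper6.NT.inj6 u0 u1 u2 u3 u4 u5 hn_1_0 hn_2_0 hn_2_1 hn_3_0 hn_3_1 hn_3_2 hn_4_0 hn_4_1 hn_4_2 hn_4_3 hn_5_0 hn_5_1 hn_5_2 hn_5_3 hn_5_4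
                                    have r_0 : -2 * T.m u0 + 1 * T.m u1 + 1 * T.m u2 = 0 := by
                                      have key := Groth.Agent.Helper6.NT.rowfun6 T u0 u1 u2 u3 u4 u5 hinj u0
                                      rw [(h2 u0).2, tap_0_1, tap_0_2, z_0_3, z_0_4, z_0_5] at key
                                      exact mul_left_cancel₀ (T.w_pos u0).ne' (by linarith only [key])
                                    have r_1 : 1 * T.m u0 + -2 * T.m u1 + 1 * T.m u3 = 0 := by
                                      have key := Groth.Agent.Helper6.NT.rowfun6 T u0 u1 u2 u3 u4 u5 hinj u1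
                                      rw [Groth.Agent.Helper6.NT.symm' T u1 u0, taq_0_1, (h2 u1).2, z_1_2, tap_1_3, z_1_4, z_1_5] at key
                                      exact mul_left_cancel₀ (T.w_pos u1).ne' (by linarith only [key])
                                    have r_2 : 1 * T.m u0 + -2 * T.m u2 + 1 * T.m u4 = 0 := by
                                      have key := Groth.Agent.Helper6.NT.rowfun6 T u0 u1 u2 u3 u4 u5 hinj u2
                                      rw [Groth.Agent.Helper6.NT.symm' T u2 u0, taq_0_2, Groth.Agent.Helper6.NT.symm' T u2 u1, z_1_2, (h2 u2).2, z_2_3, tap_2_4, z_2_5] at key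
                                      exact mul_left_cancel₀ (T.w_pos u2).ne' (by linarith only [key])
                                    have r_3 : 1 * T.m u1 + -2 * T.m u3 + 2 * T.m u5 = 0 := by
                                      have key := Groth.Agent.Helper6.NT.rowfun6 T u0 u1 u2 u3 u4 u5 hinj u3
                                      rw [Groth.Agent.Helper6.NT.symm' T u3 u0, z_0_3, Groth.Agent.Helper6.NT.symm' T u3 u1, taq_1_3, Groth.Agent.Helper6.NT.symm' T u3 u2, z_2_3, (h2 u3).2, z_3_4, tap_3_5] at key
                                      exact mul_left_cancel₀ (T.w_pos u3).ne' (by linarith only [key])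
                                    have r_4 : 2 * T.m u2 + -2 * T.m u4 = 0 := by
                                      have key := Groth.Agent.Helper6.NT.rowfun6 T u0 u1 u2 u3 u4 u5 hinj u4
                                      rw [Groth.Agent.Helper6.NT.symm' T u4 u0, z_0_4, Groth.Agent.Helper6.NT.symm' T u4 u1, z_1_4, Groth.Agent.Helper6.NT.symm' T u4 u2, taq_2_4, Groth.Agent.Helper6.NT.symm' T u4 u3, z_3_4, (h2 u4).2, z_4_5] at key
                                      exact mul_left_cancel₀ (T.w_pos u4).ne' (by linarith only [key])
                                    have r_5 : 1 * T.m u3 + -2 * T.m u5 = 0 := by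
                                      have key := Groth.Agent.Helper6.NT.rowfun6 T u0 u1 u2 u3 u4 u5 hinj u5
                                      rw [Groth.Agent.Helper6.NT.symm' T u5 u0, z_0_5, Groth.Agent.Helper6.NT.symm' T u5 u1, z_1_5, Groth.Agent.Helper6.NT.symm' T u5 u2, z_2_5, Groth.Agent.Helper6.NT.symm' T u5 u3, taq_3_5, Groth.Agent.Helper6.NT.symm' T u5 u4, z_4_5, (h2 u5).2] at key
                                      exact mul_left_cancel₀ (T.w_pos u5).ne' (by linarith only [key])
                                    have f0 : T.m u4 = 2 * T.m u5 := by linarith only [r_0, r_1, r_2, r_3, r_4, r_5]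
                                    have f1 : T.m u2 = 2 * T.m u5 := by linarith only [r_0, r_1, r_2, r_3, r_4, r_5]
                                    have f2 : T.m u0 = 2 * T.m u5 := by linarith only [r_0, r_1, r_2, r_3, r_4, r_5]
                                    have f3 : T.m u1 = 2 * T.m u5 := by linarith only [r_0, r_1, r_2, r_3, r_4, r_5]
                                    have f4 : T.m u3 = 2 * T.m u5 := by linarith only [r_0, r_1, r_2, r_3, r_4, r_5]
                                    have f5 : T.m u5 = T.m u5 := rfl
                                    have f6 : T.w u4 = T.w u4 := rfl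
                                    have f7 : T.w u2 = 2 * T.w u4 := by linarith only [tw_0_1, tw_0_2, tw_1_3, tw_2_4, tw_3_5]
                                    have f8 : T.w u0 = 2 * T.w u4 := by linarith only [tw_0_1, tw_0_2, tw_1_3, tw_2_4, tw_3_5]
                                    have f9 : T.w u1 = 2 * T.w u4 := by linarith only [tw_0_1, tw_0_2, tw_1_3, tw_2_4, tw_3_5]
                                    have f10 : T.w u3 = 2 * T.w u4 := by linarith only [tw_0_1, tw_0_2, tw_1_3, tw_2_4, tw_3_5]
                                    have f11 : T.w u5 = 4 * T.w u4 := by linarith only [tw_0_1, tw_0_2, tw_1_3, tw_2_4, tw_3_5]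
                                    have f12 : T.a u4 u4 = -2 * T.w u4 := by have := (h2 u4).2; linarith only [this, tw_0_1, tw_0_2, tw_1_3, tw_2_4, tw_3_5]
                                    have f13 : T.a u4 u2 = 2 * T.w u4 := by rw [Groth.Agent.Helper6.NT.symm' T u4 u2]; linarith only [tap_2_4, tw_0_1, tw_0_2, tw_1_3, tw_2_4, tw_3_5]
                                    have f14 : T.a u4 u0 = 0 := by rw [Groth.Agent.Helper6.NT.symm' T u4 u0]; exact z_0_4
                                    have f15 : T.a u4 u1 = 0 := by rw [Groth.Agent.Helper6.NT.symm' T u4 u1]; exact z_1_4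
                                    have f16 : T.a u4 u3 = 0 := by rw [Groth.Agent.Helper6.NT.symm' T u4 u3]; exact z_3_4
                                    have f17 : T.a u4 u5 = 0 := by exact z_4_5
                                    have f18 : T.a u2 u2 = -4 * T.w u4 := by have := (h2 u2).2; linarith only [this, tw_0_1, tw_0_2, tw_1_3, tw_2_4, tw_3_5]
                                    have f19 : T.a u2 u0 = 2 * T.w u4 := by rw [Groth.Agent.Helper6.NT.symm' T u2 u0]; linarith only [tap_0_2, tw_0_1, tw_0_2, tw_1_3, tw_2_4, tw_3_5]
                                    have f20 : T.a u2 u1 = 0 := by rw [Groth.Agent.Helper6.NT.symm' T u2 u1]; exact z_1_2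
                                    have f21 : T.a u2 u3 = 0 := by exact z_2_3
                                    have f22 : T.a u2 u5 = 0 := by exact z_2_5
                                    have f23 : T.a u0 u0 = -4 * T.w u4 := by have := (h2 u0).2; linarith only [this, tw_0_1, tw_0_2, tw_1_3, tw_2_4, tw_3_5]
                                    have f24 : T.a u0 u1 = 2 * T.w u4 := by linarith only [tap_0_1, tw_0_1, tw_0_2, tw_1_3, tw_2_4, tw_3_5]
                                    have f25 : T.a u0 u3 = 0 := by exact z_0_3
                                    have f26 : T.a u0 u5 = 0 := by exact z_0_5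
                                    have f27 : T.a u1 u1 = -4 * T.w u4 := by have := (h2 u1).2; linarith only [this, tw_0_1, tw_0_2, tw_1_3, tw_2_4, tw_3_5]
                                    have f28 : T.a u1 u3 = 2 * T.w u4 := by linarith only [tap_1_3, tw_0_1, tw_0_2, tw_1_3, tw_2_4, tw_3_5]
                                    have f29 : T.a u1 u5 = 0 := by exact z_1_5
                                    have f30 : T.a u3 u3 = -4 * T.w u4 := by have := (h2 u3).2; linarith only [this, tw_0_1, tw_0_2, tw_1_3, tw_2_4, tw_3_5]
                                    have f31 : T.a u3 u5 = 4 * T.w u4 := by linarith only [tap_3_5, tw_0_1, tw_0_2, tw_1_3, tw_2_4, tw_3_5]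
                                    have f32 : T.a u5 u5 = -8 * T.w u4 := by have := (h2 u5).2; linarith only [this, tw_0_1, tw_0_2, tw_1_3, tw_2_4, tw_3_5]
                                    have hsig := Groth.Agent.Helper6.NT.inj6 u4 u2 u0 u1 u3 u5 hn_4_2.symm hn_4_0.symm hn_2_0.symm hn_4_1.symm hn_2_1.symm hn_1_0 hn_4_3.symm hn_3_2 hn_3_0 hn_3_1 hn_5_4 hn_5_2 hn_5_0 hn_5_1 hn_5_3
                                    exact ⟨Equiv.ofBijective _ (Finite.injective_iff_bijective.1 hsig), T.m u5, T.w u4, Or.inr (Or.inl ⟨f0, f1, f2, f3, f4, f5, f6, f7, f8, f9, f10, f11, f12, f13, f14, f15, f16, f17, f18, f19, f20, f21, f22, f23, f24, f25, f26, f27, f28, f29, f30, f31, f32⟩)⟩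
                                  · -- (4,5) nonzero
                                    obtain ⟨lbp_4_5, lbq_4_5⟩ := Groth.Agent.Helper6.NT.lb T u4 u5 hn_5_4.symm nz_4_5
                                    exfalso
                                    have key := Groth.Agent.Helper6.NT.negfun4 T h2 u2 u3 u4 u5 (by norm_num) 1 2 2 2 (by norm_num) (by norm_num)
                                    linarith only [key, z_2_3, tap_2_4, taq_2_4, z_2_5, z_3_4, tap_3_5, taq_3_5, lbp_4_5, lbq_4_5, T.w_pos u2, T.w_pos u3, T.w_pos u4, T.w_pos u5]
                                · -- (3,5) Dm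
                                  rcases eq_or_ne (T.a u4 u5) 0 with z_4_5 | nz_4_5
                                  · -- (4,5) zero
                                    have hinj := Groth.Agent.Helper6.NT.inj6 u0 u1 u2 u3 u4 u5 hn_1_0 hn_2_0 hn_2_1 hn_3_0 hn_3_1 hn_3_2 hn_4_0 hn_4_1 hn_4_2 hn_4_3 hn_5_0 hn_5_1 hn_5_2 hn_5_3 hn_5_4
                                    have r_0 : -2 * T.m u0 + 1 * T.m u1 + 1 * T.m u2 = 0 := by
                                      have key := Groth.Agent.Helper6.NT.rowfun6 T u0 u1 u2 u3 u4 u5 hinj u0
                                      rw [(h2 u0).2, tap_0_1, tap_0_2, z_0_3, z_0_4, z_0_5] at key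
                                      exact mul_left_cancel₀ (T.w_pos u0).ne' (by linarith only [key])
                                    have r_1 : 1 * T.m u0 + -2 * T.m u1 + 1 * T.m u3 = 0 := by
                                      have key := Groth.Agent.Helper6.NT.rowfun6 T u0 u1 u2 u3 u4 u5 hinj u1
                                      rw [Groth.Agent.Helper6.NT.symm' T u1 u0, taq_0_1, (h2 u1).2, z_1_2, tap_1_3, z_1_4, z_1_5] at key
                                      exact mul_left_cancel₀ (T.w_pos u1).ne' (by linarith only [key])
                                    have r_2 : 1 * T.m u0 + -2 * T.m u2 + 1 * T.m u4 = 0 := by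
                                      have key := Groth.Agent.Helper6.NT.rowfun6 T u0 u1 u2 u3 u4 u5 hinj u2
                                      rw [Groth.Agent.Helper6.NT.symm' T u2 u0, taq_0_2, Groth.Agent.Helper6.NT.symm' T u2 u1, z_1_2, (h2 u2).2, z_2_3, tap_2_4, z_2_5] at key
                                      exact mul_left_cancel₀ (T.w_pos u2).ne' (by linarith only [key])
                                    have r_3 : 1 * T.m u1 + -2 * T.m u3 + 1 * T.m u5 = 0 := by
                                      have key := Groth.Agent.Helper6.NT.rowfun6 T u0 u1 u2 u3 u4 u5 hinj u3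
                                      rw [Groth.Agent.Helper6.NT.symm' T u3 u0, z_0_3, Groth.Agent.Helper6.NT.symm' T u3 u1, taq_1_3, Groth.Agent.Helper6.NT.symm' T u3 u2, z_2_3, (h2 u3).2, z_3_4, tap_3_5] at key
                                      exact mul_left_cancel₀ (T.w_pos u3).ne' (by linarith only [key])
                                    have r_4 : 2 * T.m u2 + -2 * T.m u4 = 0 := by
                                      have key := Groth.Agent.Helper6.NT.rowfun6 T u0 u1 u2 u3 u4 u5 hinj u4
                                      rw [Groth.Agent.Helper6.NT.symm' T u4 u0, z_0_4, Groth.Agent.Helper6.NT.symm' T u4 u1, z_1_4, Groth.Agent.Helper6.NT.symm' T u4 u2, taq_2_4, Groth.Agent.Helper6.NT.symm' T u4 u3, z_3_4, (h2 u4).2, z_4_5] at key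
                                      exact mul_left_cancel₀ (T.w_pos u4).ne' (by linarith only [key])
                                    have r_5 : 2 * T.m u3 + -2 * T.m u5 = 0 := by
                                      have key := Groth.Agent.Helper6.NT.rowfun6 T u0 u1 u2 u3 u4 u5 hinj u5
                                      rw [Groth.Agent.Helper6.NT.symm' T u5 u0, z_0_5, Groth.Agent.Helper6.NT.symm' T u5 u1, z_1_5, Groth.Agent.Helper6.NT.symm' T u5 u2, z_2_5, Groth.Agent.Helper6.NT.symm' T u5 u3, taq_3_5, Groth.Agent.Helper6.NT.symm' T u5 u4, z_4_5, (h2 u5).2] at key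
                                      exact mul_left_cancel₀ (T.w_pos u5).ne' (by linarith only [key])
                                    have f0 : T.m u4 = T.m u4 := rfl
                                    have f1 : T.m u2 = T.m u4 := by linarith only [r_0, r_1, r_2, r_3, r_4, r_5]
                                    have f2 : T.m u0 = T.m u4 := by linarith only [r_0, r_1, r_2, r_3, r_4, r_5]
                                    have f3 : T.m u1 = T.m u4 := by linarith only [r_0, r_1, r_2, r_3, r_4, r_5]
                                    have f4 : T.m u3 = T.m u4 := by linarith only [r_0, r_1, r_2, r_3, r_4, r_5]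
                                    have f5 : T.m u5 = T.m u4 := by linarith only [r_0, r_1, r_2, r_3, r_4, r_5]
                                    have f6 : T.w u4 = T.w u4 := rfl
                                    have f7 : T.w u2 = 2 * T.w u4 := by linarith only [tw_0_1, tw_0_2, tw_1_3, tw_2_4, tw_3_5]
                                    have f8 : T.w u0 = 2 * T.w u4 := by linarith only [tw_0_1, tw_0_2, tw_1_3, tw_2_4, tw_3_5]
                                    have f9 : T.w u1 = 2 * T.w u4 := by linarith only [tw_0_1, tw_0_2, tw_1_3, tw_2_4, tw_3_5]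
                                    have f10 : T.w u3 = 2 * T.w u4 := by linarith only [tw_0_1, tw_0_2, tw_1_3, tw_2_4, tw_3_5]
                                    have f11 : T.w u5 = T.w u4 := by linarith only [tw_0_1, tw_0_2, tw_1_3, tw_2_4, tw_3_5]
                                    have f12 : T.a u4 u4 = -2 * T.w u4 := by have := (h2 u4).2; linarith only [this, tw_0_1, tw_0_2, tw_1_3, tw_2_4, tw_3_5]
                                    have f13 : T.a u4 u2 = 2 * T.w u4 := by rw [Groth.Agent.Helper6.NT.symm' T u4 u2]; linarith only [tap_2_4, tw_0_1, tw_0_2, tw_1_3, tw_2_4, tw_3_5]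
                                    have f14 : T.a u4 u0 = 0 := by rw [Groth.Agent.Helper6.NT.symm' T u4 u0]; exact z_0_4
                                    have f15 : T.a u4 u1 = 0 := by rw [Groth.Agent.Helper6.NT.symm' T u4 u1]; exact z_1_4
                                    have f16 : T.a u4 u3 = 0 := by rw [Groth.Agent.Helper6.NT.symm' T u4 u3]; exact z_3_4
                                    have f17 : T.a u4 u5 = 0 := by exact z_4_5
                                    have f18 : T.a u2 u2 = -4 * T.w u4 := by have := (h2 u2).2; linarith only [this, tw_0_1, tw_0_2, tw_1_3, tw_2_4, tw_3_5]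
                                    have f19 : T.a u2 u0 = 2 * T.w u4 := by rw [Groth.Agent.Helper6.NT.symm' T u2 u0]; linarith only [tap_0_2, tw_0_1, tw_0_2, tw_1_3, tw_2_4, tw_3_5]
                                    have f20 : T.a u2 u1 = 0 := by rw [Groth.Agent.Helper6.NT.symm' T u2 u1]; exact z_1_2
                                    have f21 : T.a u2 u3 = 0 := by exact z_2_3
                                    have f22 : T.a u2 u5 = 0 := by exact z_2_5
                                    have f23 : T.a u0 u0 = -4 * T.w u4 := by have := (h2 u0).2; linarith only [this, tw_0_1, tw_0_2, tw_1_3, tw_2_4, tw_3_5]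
                                    have f24 : T.a u0 u1 = 2 * T.w u4 := by linarith only [tap_0_1, tw_0_1, tw_0_2, tw_1_3, tw_2_4, tw_3_5]
                                    have f25 : T.a u0 u3 = 0 := by exact z_0_3
                                    have f26 : T.a u0 u5 = 0 := by exact z_0_5
                                    have f27 : T.a u1 u1 = -4 * T.w u4 := by have := (h2 u1).2; linarith only [this, tw_0_1, tw_0_2, tw_1_3, tw_2_4, tw_3_5]
                                    have f28 : T.a u1 u3 = 2 * T.w u4 := by linarith only [tap_1_3, tw_0_1, tw_0_2, tw_1_3, tw_2_4, tw_3_5]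
                                    have f29 : T.a u1 u5 = 0 := by exact z_1_5
                                    have f30 : T.a u3 u3 = -4 * T.w u4 := by have := (h2 u3).2; linarith only [this, tw_0_1, tw_0_2, tw_1_3, tw_2_4, tw_3_5]
                                    have f31 : T.a u3 u5 = 2 * T.w u4 := by linarith only [tap_3_5, tw_0_1, tw_0_2, tw_1_3, tw_2_4, tw_3_5]
                                    have f32 : T.a u5 u5 = -2 * T.w u4 := by have := (h2 u5).2; linarith only [this, tw_0_1, tw_0_2, tw_1_3, tw_2_4, tw_3_5]
                                    have hsig := Groth.Agent.Helper6.NT.inj6 u4 u2 u0 u1 u3 u5 hn_4_2.symm hn_4_0.symm hn_2_0.symm hn_4_1.symm hn_2_1.symm hn_1_0 hn_4_3.symm hn_3_2 hn_3_0 hn_3_1 hn_5_4 hn_5_2 hn_5_0 hn_5_1 hn_5_3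
                                    exact ⟨Equiv.ofBijective _ (Finite.injective_iff_bijective.1 hsig), T.m u4, T.w u4, Or.inr (Or.inr (Or.inl ⟨f0, f1, f2, f3, f4, f5, f6, f7, f8, f9, f10, f11, f12, f13, f14, f15, f16, f17, f18, f19, f20, f21, f22, f23, f24, f25, f26, f27, f28, f29, f30, f31, f32⟩))⟩
                                  · -- (4,5) nonzero
                                    obtain ⟨lbp_4_5, lbq_4_5⟩ := Groth.Agent.Helper6.NT.lb T u4 u5 hn_5_4.symm nz_4_5
                                    exfalso
                                    have key := Groth.Agent.Helper6.NT.negfun4 T h2 u2 u3 u4 u5 (by norm_num) 1 1 2 2 (by norm_num) (by norm_num)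
                                    linarith only [key, z_2_3, tap_2_4, taq_2_4, z_2_5, z_3_4, tap_3_5, taq_3_5, lbp_4_5, lbq_4_5, T.w_pos u2, T.w_pos u3, T.w_pos u4, T.w_pos u5]
                                · -- (3,5) Tp
                                  exfalso
                                  have key := Groth.Agent.Helper6.NT.negfun3 T h2 u1 u3 u5 (by norm_num) 1 2 1 (by norm_num) (by norm_num)
                                  linarith only [key, tap_1_3, taq_1_3, z_1_5, tap_3_5, taq_3_5, T.w_pos u1, T.w_pos u3, T.w_pos u5]
                                · -- (3,5) Tm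
                                  exfalso
                                  have key := Groth.Agent.Helper6.NT.negfun3 T h2 u1 u3 u5 (by norm_num) 1 2 3 (by norm_num) (by norm_num)
                                  linarith only [key, tap_1_3, taq_1_3, z_1_5, tap_3_5, taq_3_5, T.w_pos u1, T.w_pos u3, T.w_pos u5]
                              · push Not at hx
                                have cl_3 := hx
                                clear hx
                                by_cases hx : ∃ j, (j ≠ u0 ∧ j ≠ u1 ∧ j ≠ u2 ∧ j ≠ u3 ∧ j ≠ u4) ∧ T.a u4 j ≠ 0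
                                · obtain ⟨u5, ⟨hn_5_0, hn_5_1, hn_5_2, hn_5_3, hn_5_4⟩, e_4_5⟩ := hx
                                  have z_0_5 : T.a u0 u5 = 0 := cl_0 u5 ⟨hn_5_0, hn_5_1, hn_5_2⟩
                                  have z_1_5 : T.a u1 u5 = 0 := cl_1 u5 ⟨hn_5_0, hn_5_1, hn_5_2, hn_5_3⟩
                                  have z_2_5 : T.a u2 u5 = 0 := cl_2 u5 ⟨hn_5_0, hn_5_1, hn_5_2, hn_5_3, hn_5_4⟩
                                  have z_3_5 : T.a u3 u5 = 0 := cl_3 u5 ⟨hn_5_0, hn_5_1, hn_5_2, hn_5_3, hn_5_4⟩
                                  rcases Groth.Agent.Helper6.NT.edge5 T h2 (by norm_num) u4 u5 hn_5_4.symm e_4_5 with ⟨tw_4_5, tap_4_5, taq_4_5⟩ | ⟨tw_4_5, tap_4_5, taq_4_5⟩ | ⟨tw_4_5, tap_4_5, taq_4_5⟩ | ⟨tw_4_5, tap_4_5, taq_4_5⟩ | ⟨tw_4_5, tap_4_5, taq_4_5⟩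
                                  · -- (4,5) S
                                    exfalso
                                    have key := Groth.Agent.Helper6.NT.negfun5 T h2 u0 u1 u2 u4 u5 (by norm_num) 2 1 3 4 2 (by norm_num) (by norm_num)
                                    linarith only [key, tap_0_1, taq_0_1, tap_0_2, taq_0_2, z_0_4, z_0_5, z_1_2, z_1_4, z_1_5, tap_2_4, taq_2_4, z_2_5, tap_4_5, taq_4_5, T.w_pos u0, T.w_pos u1, T.w_pos u2, T.w_pos u4, T.w_pos u5]
                                  · -- (4,5) Dp
                                    exfalso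
                                    have key := Groth.Agent.Helper6.NT.negfun3 T h2 u2 u4 u5 (by norm_num) 1 2 1 (by norm_num) (by norm_num)
                                    linarith only [key, tap_2_4, taq_2_4, z_2_5, tap_4_5, taq_4_5, T.w_pos u2, T.w_pos u4, T.w_pos u5]
                                  · -- (4,5) Dm
                                    exfalso
                                    have key := Groth.Agent.Helper6.NT.negfun3 T h2 u2 u4 u5 (by norm_num) 1 2 2 (by norm_num) (by norm_num)
                                    linarith only [key, tap_2_4, taq_2_4, z_2_5, tap_4_5, taq_4_5, T.w_pos u2, T.w_pos u4, T.w_pos u5]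
                                  · -- (4,5) Tp
                                    exfalso
                                    have key := Groth.Agent.Helper6.NT.negfun3 T h2 u2 u4 u5 (by norm_num) 1 2 1 (by norm_num) (by norm_num)
                                    linarith only [key, tap_2_4, taq_2_4, z_2_5, tap_4_5, taq_4_5, T.w_pos u2, T.w_pos u4, T.w_pos u5]
                                  · -- (4,5) Tm
                                    exfalso
                                    have key := Groth.Agent.Helper6.NT.negfun3 T h2 u2 u4 u5 (by norm_num) 1 2 3 (by norm_num) (by norm_num)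
                                    linarith only [key, tap_2_4, taq_2_4, z_2_5, tap_4_5, taq_4_5, T.w_pos u2, T.w_pos u4, T.w_pos u5]
                                · push Not at hx
                                  have cl_4 := hx
                                  clear hx
                                  exfalso
                                  refine Groth.Agent.Helper6.NT.closed_contra T [u0, u1, u2, u3, u4] (by simp) (by simp) ?_
                                  intro i hi j hj
                                  simp only [List.mem_cons, List.not_mem_nil, or_false, not_or] at hi hj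
                                  rcases hi with rfl | rfl | rfl | rfl | rfl
                                  · exact cl_0 j ⟨hj.1, hj.2.1, hj.2.2.1⟩
                                  · exact cl_1 j ⟨hj.1, hj.2.1, hj.2.2.1, hj.2.2.2.1⟩
                                  · exact cl_2 j ⟨hj.1, hj.2.1, hj.2.2.1, hj.2.2.2.1, hj.2.2.2.2⟩
                                  · exact cl_3 j ⟨hj.1, hj.2.1, hj.2.2.1, hj.2.2.2.1, hj.2.2.2.2⟩
                                  · exact cl_4 j ⟨hj.1, hj.2.1, hj.2.2.1, hj.2.2.2.1, hj.2.2.2.2⟩
                          · -- (3,4) nonzero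
                            obtain ⟨lbp_3_4, lbq_3_4⟩ := Groth.Agent.Helper6.NT.lb T u3 u4 hn_4_3.symm nz_3_4
                            exfalso
                            have key := Groth.Agent.Helper6.NT.negfun5 T h2 u0 u1 u2 u3 u4 (by norm_num) 2 2 2 2 3 (by norm_num) (by norm_num)
                            linarith only [key, tap_0_1, taq_0_1, tap_0_2, taq_0_2, z_0_3, z_0_4, z_1_2, tap_1_3, taq_1_3, z_1_4, z_2_3, tap_2_4, taq_2_4, lbp_3_4, lbq_3_4, T.w_pos u0, T.w_pos u1, T.w_pos u2, T.w_pos u3, T.w_pos u4]
                        · -- (2,4) Tp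
                          exfalso
                          have key := Groth.Agent.Helper6.NT.negfun3 T h2 u0 u2 u4 (by norm_num) 1 2 1 (by norm_num) (by norm_num)
                          linarith only [key, tap_0_2, taq_0_2, z_0_4, tap_2_4, taq_2_4, T.w_pos u0, T.w_pos u2, T.w_pos u4]
                        · -- (2,4) Tm
                          exfalso
                          have key := Groth.Agent.Helper6.NT.negfun3 T h2 u0 u2 u4 (by norm_num) 1 2 3 (by norm_num) (by norm_num)
                          linarith only [key, tap_0_2, taq_0_2, z_0_4, tap_2_4, taq_2_4, T.w_pos u0, T.w_pos u2, T.w_pos u4]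
                      · push Not at hx
                        have cl_2 := hx
                        clear hx
                        by_cases hx : ∃ j, (j ≠ u0 ∧ j ≠ u1 ∧ j ≠ u2 ∧ j ≠ u3) ∧ T.a u3 j ≠ 0
                        · obtain ⟨u4, ⟨hn_4_0, hn_4_1, hn_4_2, hn_4_3⟩, e_3_4⟩ := hx
                          have z_0_4 : T.a u0 u4 = 0 := cl_0 u4 ⟨hn_4_0, hn_4_1, hn_4_2⟩
                          have z_1_4 : T.a u1 u4 = 0 := cl_1 u4 ⟨hn_4_0, hn_4_1, hn_4_2, hn_4_3⟩
                          have z_2_4 : T.a u2 u4 = 0 := cl_2 u4 ⟨hn_4_0, hn_4_1, hn_4_2, hn_4_3⟩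
                          rcases Groth.Agent.Helper6.NT.edge5 T h2 (by norm_num) u3 u4 hn_4_3.symm e_3_4 with ⟨tw_3_4, tap_3_4, taq_3_4⟩ | ⟨tw_3_4, tap_3_4, taq_3_4⟩ | ⟨tw_3_4, tap_3_4, taq_3_4⟩ | ⟨tw_3_4, tap_3_4, taq_3_4⟩ | ⟨tw_3_4, tap_3_4, taq_3_4⟩
                          · -- (3,4) S
                            by_cases hx : ∃ j, (j ≠ u0 ∧ j ≠ u1 ∧ j ≠ u2 ∧ j ≠ u3 ∧ j ≠ u4) ∧ T.a u3 j ≠ 0
                            · obtain ⟨u5, ⟨hn_5_0, hn_5_1, hn_5_2, hn_5_3, hn_5_4⟩, e_3_5⟩ := hx
                              have z_0_5 : T.a u0 u5 = 0 := cl_0 u5 ⟨hn_5_0, hn_5_1, hn_5_2⟩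
                              have z_1_5 : T.a u1 u5 = 0 := cl_1 u5 ⟨hn_5_0, hn_5_1, hn_5_2, hn_5_3⟩
                              have z_2_5 : T.a u2 u5 = 0 := cl_2 u5 ⟨hn_5_0, hn_5_1, hn_5_2, hn_5_3⟩
                              rcases Groth.Agent.Helper6.NT.edge5 T h2 (by norm_num) u3 u5 hn_5_3.symm e_3_5 with ⟨tw_3_5, tap_3_5, taq_3_5⟩ | ⟨tw_3_5, tap_3_5, taq_3_5⟩ | ⟨tw_3_5, tap_3_5, taq_3_5⟩ | ⟨tw_3_5, tap_3_5, taq_3_5⟩ | ⟨tw_3_5, tap_3_5, taq_3_5⟩
                              · -- (3,5) S
                                rcases eq_or_ne (T.a u4 u5) 0 with z_4_5 | nz_4_5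
                                · -- (4,5) zero
                                  have hinj := Groth.Agent.Helper6.NT.inj6 u0 u1 u2 u3 u4 u5 hn_1_0 hn_2_0 hn_2_1 hn_3_0 hn_3_1 hn_3_2 hn_4_0 hn_4_1 hn_4_2 hn_4_3 hn_5_0 hn_5_1 hn_5_2 hn_5_3 hn_5_4
                                  have r_0 : -2 * T.m u0 + 1 * T.m u1 + 1 * T.m u2 = 0 := by
                                    have key := Groth.Agent.Helper6.NT.rowfun6 T u0 u1 u2 u3 u4 u5 hinj u0
                                    rw [(h2 u0).2, tap_0_1, tap_0_2, z_0_3, z_0_4, z_0_5] at key
                                    exact mul_left_cancel₀ (T.w_pos u0).ne' (by linarith only [key])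
                                  have r_1 : 1 * T.m u0 + -2 * T.m u1 + 1 * T.m u3 = 0 := by
                                    have key := Groth.Agent.Helper6.NT.rowfun6 T u0 u1 u2 u3 u4 u5 hinj u1
                                    rw [Groth.Agent.Helper6.NT.symm' T u1 u0, taq_0_1, (h2 u1).2, z_1_2, tap_1_3, z_1_4, z_1_5] at key
                                    exact mul_left_cancel₀ (T.w_pos u1).ne' (by linarith only [key])
                                  have r_2 : 1 * T.m u0 + -2 * T.m u2 = 0 := by
                                    have key := Groth.Agent.Helper6.NT.rowfun6 T u0 u1 u2 u3 u4 u5 hinj u2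
                                    rw [Groth.Agent.Helper6.NT.symm' T u2 u0, taq_0_2, Groth.Agent.Helper6.NT.symm' T u2 u1, z_1_2, (h2 u2).2, z_2_3, z_2_4, z_2_5] at key
                                    exact mul_left_cancel₀ (T.w_pos u2).ne' (by linarith only [key])
                                  have r_3 : 1 * T.m u1 + -2 * T.m u3 + 1 * T.m u4 + 1 * T.m u5 = 0 := by
                                    have key := Groth.Agent.Helper6.NT.rowfun6 T u0 u1 u2 u3 u4 u5 hinj u3
                                    rw [Groth.Agent.Helper6.NT.symm' T u3 u0, z_0_3, Groth.Agent.Helper6.NT.symm' T u3 u1, taq_1_3, Groth.Agent.Helper6.NT.symm' T u3 u2, z_2_3, (h2 u3).2, tap_3_4, tap_3_5] at key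
                                    exact mul_left_cancel₀ (T.w_pos u3).ne' (by linarith only [key])
                                  have r_4 : 1 * T.m u3 + -2 * T.m u4 = 0 := by
                                    have key := Groth.Agent.Helper6.NT.rowfun6 T u0 u1 u2 u3 u4 u5 hinj u4
                                    rw [Groth.Agent.Helper6.NT.symm' T u4 u0, z_0_4, Groth.Agent.Helper6.NT.symm' T u4 u1, z_1_4, Groth.Agent.Helper6.NT.symm' T u4 u2, z_2_4, Groth.Agent.Helper6.NT.symm' T u4 u3, taq_3_4, (h2 u4).2, z_4_5] at key
                                    exact mul_left_cancel₀ (T.w_pos u4).ne' (by linarith only [key])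
                                  have r_5 : 1 * T.m u3 + -2 * T.m u5 = 0 := by
                                    have key := Groth.Agent.Helper6.NT.rowfun6 T u0 u1 u2 u3 u4 u5 hinj u5
                                    rw [Groth.Agent.Helper6.NT.symm' T u5 u0, z_0_5, Groth.Agent.Helper6.NT.symm' T u5 u1, z_1_5, Groth.Agent.Helper6.NT.symm' T u5 u2, z_2_5, Groth.Agent.Helper6.NT.symm' T u5 u3, taq_3_5, Groth.Agent.Helper6.NT.symm' T u5 u4, z_4_5, (h2 u5).2] at key
                                    exact mul_left_cancel₀ (T.w_pos u5).ne' (by linarith only [key])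
                                  exfalso
                                  linarith only [r_0, r_1, r_2, r_3, r_4, r_5, T.m_pos u0, T.m_pos u1, T.m_pos u2, T.m_pos u3, T.m_pos u4, T.m_pos u5]
                                · -- (4,5) nonzero
                                  obtain ⟨lbp_4_5, lbq_4_5⟩ := Groth.Agent.Helper6.NT.lb T u4 u5 hn_5_4.symm nz_4_5
                                  exfalso
                                  have key := Groth.Agent.Helper6.NT.negfun3 T h2 u3 u4 u5 (by norm_num) 1 1 1 (by norm_num) (by norm_num)
                                  linarith only [key, tap_3_4, taq_3_4, tap_3_5, taq_3_5, lbp_4_5, lbq_4_5, T.w_pos u3, T.w_pos u4, T.w_pos u5]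
                              · -- (3,5) Dp
                                exfalso
                                have key := Groth.Agent.Helper6.NT.negfun4 T h2 u1 u3 u4 u5 (by norm_num) 1 2 1 1 (by norm_num) (by norm_num)
                                linarith only [key, tap_1_3, taq_1_3, z_1_4, z_1_5, tap_3_4, taq_3_4, tap_3_5, taq_3_5, T.offDiag_nonneg u4 u5 hn_5_4.symm, T.w_pos u1, T.w_pos u3, T.w_pos u4, T.w_pos u5]
                              · -- (3,5) Dm
                                exfalso
                                have key := Groth.Agent.Helper6.NT.negfun4 T h2 u1 u3 u4 u5 (by norm_num) 1 2 1 2 (by norm_num) (by norm_num)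
                                linarith only [key, tap_1_3, taq_1_3, z_1_4, z_1_5, tap_3_4, taq_3_4, tap_3_5, taq_3_5, T.offDiag_nonneg u4 u5 hn_5_4.symm, T.w_pos u1, T.w_pos u3, T.w_pos u4, T.w_pos u5]
                              · -- (3,5) Tp
                                exfalso
                                have key := Groth.Agent.Helper6.NT.negfun3 T h2 u3 u4 u5 (by norm_num) 2 1 1 (by norm_num) (by norm_num)
                                linarith only [key, tap_3_4, taq_3_4, tap_3_5, taq_3_5, T.offDiag_nonneg u4 u5 hn_5_4.symm, T.w_pos u3, T.w_pos u4, T.w_pos u5]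
                              · -- (3,5) Tm
                                exfalso
                                have key := Groth.Agent.Helper6.NT.negfun3 T h2 u3 u4 u5 (by norm_num) 2 1 3 (by norm_num) (by norm_num)
                                linarith only [key, tap_3_4, taq_3_4, tap_3_5, taq_3_5, T.offDiag_nonneg u4 u5 hn_5_4.symm, T.w_pos u3, T.w_pos u4, T.w_pos u5]
                            · push Not at hx
                              have cl_3 := hx
                              clear hx
                              by_cases hx : ∃ j, (j ≠ u0 ∧ j ≠ u1 ∧ j ≠ u2 ∧ j ≠ u3 ∧ j ≠ u4) ∧ T.a u4 j ≠ 0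
                              · obtain ⟨u5, ⟨hn_5_0, hn_5_1, hn_5_2, hn_5_3, hn_5_4⟩, e_4_5⟩ := hx
                                have z_0_5 : T.a u0 u5 = 0 := cl_0 u5 ⟨hn_5_0, hn_5_1, hn_5_2⟩
                                have z_1_5 : T.a u1 u5 = 0 := cl_1 u5 ⟨hn_5_0, hn_5_1, hn_5_2, hn_5_3⟩
                                have z_2_5 : T.a u2 u5 = 0 := cl_2 u5 ⟨hn_5_0, hn_5_1, hn_5_2, hn_5_3⟩
                                have z_3_5 : T.a u3 u5 = 0 := cl_3 u5 ⟨hn_5_0, hn_5_1, hn_5_2, hn_5_3, hn_5_4⟩
                                rcases Groth.Agent.Helper6.NT.edge5 T h2 (by norm_num) u4 u5 hn_5_4.symm e_4_5 with ⟨tw_4_5, tap_4_5, taq_4_5⟩ | ⟨tw_4_5, tap_4_5, taq_4_5⟩ | ⟨tw_4_5, tap_4_5, taq_4_5⟩ | ⟨tw_4_5, tap_4_5, taq_4_5⟩ | ⟨tw_4_5, tap_4_5, taq_4_5⟩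
                                · -- (4,5) S
                                  have hinj := Groth.Agent.Helper6.NT.inj6 u0 u1 u2 u3 u4 u5 hn_1_0 hn_2_0 hn_2_1 hn_3_0 hn_3_1 hn_3_2 hn_4_0 hn_4_1 hn_4_2 hn_4_3 hn_5_0 hn_5_1 hn_5_2 hn_5_3 hn_5_4
                                  have r_0 : -2 * T.m u0 + 1 * T.m u1 + 1 * T.m u2 = 0 := by
                                    have key := Groth.Agent.Helper6.NT.rowfun6 T u0 u1 u2 u3 u4 u5 hinj u0
                                    rw [(h2 u0).2, tap_0_1, tap_0_2, z_0_3, z_0_4, z_0_5] at key
                                    exact mul_left_cancel₀ (T.w_pos u0).ne' (by linarith only [key])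
                                  have r_1 : 1 * T.m u0 + -2 * T.m u1 + 1 * T.m u3 = 0 := by
                                    have key := Groth.Agent.Helper6.NT.rowfun6 T u0 u1 u2 u3 u4 u5 hinj u1
                                    rw [Groth.Agent.Helper6.NT.symm' T u1 u0, taq_0_1, (h2 u1).2, z_1_2, tap_1_3, z_1_4, z_1_5] at key
                                    exact mul_left_cancel₀ (T.w_pos u1).ne' (by linarith only [key])
                                  have r_2 : 1 * T.m u0 + -2 * T.m u2 = 0 := by
                                    have key := Groth.Agent.Helper6.NT.rowfun6 T u0 u1 u2 u3 u4 u5 hinj u2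
                                    rw [Groth.Agent.Helper6.NT.symm' T u2 u0, taq_0_2, Groth.Agent.Helper6.NT.symm' T u2 u1, z_1_2, (h2 u2).2, z_2_3, z_2_4, z_2_5] at key
                                    exact mul_left_cancel₀ (T.w_pos u2).ne' (by linarith only [key])
                                  have r_3 : 1 * T.m u1 + -2 * T.m u3 + 1 * T.m u4 = 0 := by
                                    have key := Groth.Agent.Helper6.NT.rowfun6 T u0 u1 u2 u3 u4 u5 hinj u3
                                    rw [Groth.Agent.Helper6.NT.symm' T u3 u0, z_0_3, Groth.Agent.Helper6.NT.symm' T u3 u1, taq_1_3, Groth.Agent.Helper6.NT.symm' T u3 u2, z_2_3, (h2 u3).2, tap_3_4, z_3_5] at key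
                                    exact mul_left_cancel₀ (T.w_pos u3).ne' (by linarith only [key])
                                  have r_4 : 1 * T.m u3 + -2 * T.m u4 + 1 * T.m u5 = 0 := by
                                    have key := Groth.Agent.Helper6.NT.rowfun6 T u0 u1 u2 u3 u4 u5 hinj u4
                                    rw [Groth.Agent.Helper6.NT.symm' T u4 u0, z_0_4, Groth.Agent.Helper6.NT.symm' T u4 u1, z_1_4, Groth.Agent.Helper6.NT.symm' T u4 u2, z_2_4, Groth.Agent.Helper6.NT.symm' T u4 u3, taq_3_4, (h2 u4).2, tap_4_5] at key
                                    exact mul_left_cancel₀ (T.w_pos u4).ne' (by linarith only [key])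
                                  have r_5 : 1 * T.m u4 + -2 * T.m u5 = 0 := by
                                    have key := Groth.Agent.Helper6.NT.rowfun6 T u0 u1 u2 u3 u4 u5 hinj u5
                                    rw [Groth.Agent.Helper6.NT.symm' T u5 u0, z_0_5, Groth.Agent.Helper6.NT.symm' T u5 u1, z_1_5, Groth.Agent.Helper6.NT.symm' T u5 u2, z_2_5, Groth.Agent.Helper6.NT.symm' T u5 u3, z_3_5, Groth.Agent.Helper6.NT.symm' T u5 u4, taq_4_5, (h2 u5).2] at key
                                    exact mul_left_cancel₀ (T.w_pos u5).ne' (by linarith only [key])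
                                  exfalso
                                  linarith only [r_0, r_1, r_2, r_3, r_4, r_5, T.m_pos u0, T.m_pos u1, T.m_pos u2, T.m_pos u3, T.m_pos u4, T.m_pos u5]
                                · -- (4,5) Dp
                                  have hinj := Groth.Agent.Helper6.NT.inj6 u0 u1 u2 u3 u4 u5 hn_1_0 hn_2_0 hn_2_1 hn_3_0 hn_3_1 hn_3_2 hn_4_0 hn_4_1 hn_4_2 hn_4_3 hn_5_0 hn_5_1 hn_5_2 hn_5_3 hn_5_4
                                  have r_0 : -2 * T.m u0 + 1 * T.m u1 + 1 * T.m u2 = 0 := by
                                    have key := Groth.Agent.Helper6.NT.rowfun6 T u0 u1 u2 u3 u4 u5 hinj u0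
                                    rw [(h2 u0).2, tap_0_1, tap_0_2, z_0_3, z_0_4, z_0_5] at key
                                    exact mul_left_cancel₀ (T.w_pos u0).ne' (by linarith only [key])
                                  have r_1 : 1 * T.m u0 + -2 * T.m u1 + 1 * T.m u3 = 0 := by
                                    have key := Groth.Agent.Helper6.NT.rowfun6 T u0 u1 u2 u3 u4 u5 hinj u1
                                    rw [Groth.Agent.Helper6.NT.symm' T u1 u0, taq_0_1, (h2 u1).2, z_1_2, tap_1_3, z_1_4, z_1_5] at key
                                    exact mul_left_cancel₀ (T.w_pos u1).ne' (by linarith only [key])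
                                  have r_2 : 1 * T.m u0 + -2 * T.m u2 = 0 := by
                                    have key := Groth.Agent.Helper6.NT.rowfun6 T u0 u1 u2 u3 u4 u5 hinj u2
                                    rw [Groth.Agent.Helper6.NT.symm' T u2 u0, taq_0_2, Groth.Agent.Helper6.NT.symm' T u2 u1, z_1_2, (h2 u2).2, z_2_3, z_2_4, z_2_5] at key
                                    exact mul_left_cancel₀ (T.w_pos u2).ne' (by linarith only [key])
                                  have r_3 : 1 * T.m u1 + -2 * T.m u3 + 1 * T.m u4 = 0 := by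
                                    have key := Groth.Agent.Helper6.NT.rowfun6 T u0 u1 u2 u3 u4 u5 hinj u3
                                    rw [Groth.Agent.Helper6.NT.symm' T u3 u0, z_0_3, Groth.Agent.Helper6.NT.symm' T u3 u1, taq_1_3, Groth.Agent.Helper6.NT.symm' T u3 u2, z_2_3, (h2 u3).2, tap_3_4, z_3_5] at key
                                    exact mul_left_cancel₀ (T.w_pos u3).ne' (by linarith only [key])
                                  have r_4 : 1 * T.m u3 + -2 * T.m u4 + 2 * T.m u5 = 0 := by
                                    have key := Groth.Agent.Helper6.NT.rowfun6 T u0 u1 u2 u3 u4 u5 hinj u4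
                                    rw [Groth.Agent.Helper6.NT.symm' T u4 u0, z_0_4, Groth.Agent.Helper6.NT.symm' T u4 u1, z_1_4, Groth.Agent.Helper6.NT.symm' T u4 u2, z_2_4, Groth.Agent.Helper6.NT.symm' T u4 u3, taq_3_4, (h2 u4).2, tap_4_5] at key
                                    exact mul_left_cancel₀ (T.w_pos u4).ne' (by linarith only [key])
                                  have r_5 : 1 * T.m u4 + -2 * T.m u5 = 0 := by
                                    have key := Groth.Agent.Helper6.NT.rowfun6 T u0 u1 u2 u3 u4 u5 hinj u5
                                    rw [Groth.Agent.Helper6.NT.symm' T u5 u0, z_0_5, Groth.Agent.Helper6.NT.symm' T u5 u1, z_1_5, Groth.Agent.Helper6.NT.symm' T u5 u2, z_2_5, Groth.Agent.Helper6.NT.symm' T u5 u3, z_3_5, Groth.Agent.Helper6.NT.symm' T u5 u4, taq_4_5, (h2 u5).2] at key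
                                    exact mul_left_cancel₀ (T.w_pos u5).ne' (by linarith only [key])
                                  exfalso
                                  linarith only [r_0, r_1, r_2, r_3, r_4, r_5, T.m_pos u0, T.m_pos u1, T.m_pos u2, T.m_pos u3, T.m_pos u4, T.m_pos u5]
                                · -- (4,5) Dm
                                  have hinj := Groth.Agent.Helper6.NT.inj6 u0 u1 u2 u3 u4 u5 hn_1_0 hn_2_0 hn_2_1 hn_3_0 hn_3_1 hn_3_2 hn_4_0 hn_4_1 hn_4_2 hn_4_3 hn_5_0 hn_5_1 hn_5_2 hn_5_3 hn_5_4
                                  have r_0 : -2 * T.m u0 + 1 * T.m u1 + 1 * T.m u2 = 0 := by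
                                    have key := Groth.Agent.Helper6.NT.rowfun6 T u0 u1 u2 u3 u4 u5 hinj u0
                                    rw [(h2 u0).2, tap_0_1, tap_0_2, z_0_3, z_0_4, z_0_5] at key
                                    exact mul_left_cancel₀ (T.w_pos u0).ne' (by linarith only [key])
                                  have r_1 : 1 * T.m u0 + -2 * T.m u1 + 1 * T.m u3 = 0 := by
                                    have key := Groth.Agent.Helper6.NT.rowfun6 T u0 u1 u2 u3 u4 u5 hinj u1
                                    rw [Groth.Agent.Helper6.NT.symm' T u1 u0, taq_0_1, (h2 u1).2, z_1_2, tap_1_3, z_1_4, z_1_5] at key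
                                    exact mul_left_cancel₀ (T.w_pos u1).ne' (by linarith only [key])
                                  have r_2 : 1 * T.m u0 + -2 * T.m u2 = 0 := by
                                    have key := Groth.Agent.Helper6.NT.rowfun6 T u0 u1 u2 u3 u4 u5 hinj u2
                                    rw [Groth.Agent.Helper6.NT.symm' T u2 u0, taq_0_2, Groth.Agent.Helper6.NT.symm' T u2 u1, z_1_2, (h2 u2).2, z_2_3, z_2_4, z_2_5] at key
                                    exact mul_left_cancel₀ (T.w_pos u2).ne' (by linarith only [key])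
                                  have r_3 : 1 * T.m u1 + -2 * T.m u3 + 1 * T.m u4 = 0 := by
                                    have key := Groth.Agent.Helper6.NT.rowfun6 T u0 u1 u2 u3 u4 u5 hinj u3
                                    rw [Groth.Agent.Helper6.NT.symm' T u3 u0, z_0_3, Groth.Agent.Helper6.NT.symm' T u3 u1, taq_1_3, Groth.Agent.Helper6.NT.symm' T u3 u2, z_2_3, (h2 u3).2, tap_3_4, z_3_5] at key
                                    exact mul_left_cancel₀ (T.w_pos u3).ne' (by linarith only [key])
                                  have r_4 : 1 * T.m u3 + -2 * T.m u4 + 1 * T.m u5 = 0 := by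
                                    have key := Groth.Agent.Helper6.NT.rowfun6 T u0 u1 u2 u3 u4 u5 hinj u4
                                    rw [Groth.Agent.Helper6.NT.symm' T u4 u0, z_0_4, Groth.Agent.Helper6.NT.symm' T u4 u1, z_1_4, Groth.Agent.Helper6.NT.symm' T u4 u2, z_2_4, Groth.Agent.Helper6.NT.symm' T u4 u3, taq_3_4, (h2 u4).2, tap_4_5] at key
                                    exact mul_left_cancel₀ (T.w_pos u4).ne' (by linarith only [key])
                                  have r_5 : 2 * T.m u4 + -2 * T.m u5 = 0 := by
                                    have key := Groth.Agent.Helper6.NT.rowfun6 T u0 u1 u2 u3 u4 u5 hinj u5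
                                    rw [Groth.Agent.Helper6.NT.symm' T u5 u0, z_0_5, Groth.Agent.Helper6.NT.symm' T u5 u1, z_1_5, Groth.Agent.Helper6.NT.symm' T u5 u2, z_2_5, Groth.Agent.Helper6.NT.symm' T u5 u3, z_3_5, Groth.Agent.Helper6.NT.symm' T u5 u4, taq_4_5, (h2 u5).2] at key
                                    exact mul_left_cancel₀ (T.w_pos u5).ne' (by linarith only [key])
                                  exfalso
                                  linarith only [r_0, r_1, r_2, r_3, r_4, r_5, T.m_pos u0, T.m_pos u1, T.m_pos u2, T.m_pos u3, T.m_pos u4, T.m_pos u5]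
                                · -- (4,5) Tp
                                  exfalso
                                  have key := Groth.Agent.Helper6.NT.negfun3 T h2 u3 u4 u5 (by norm_num) 1 2 1 (by norm_num) (by norm_num)
                                  linarith only [key, tap_3_4, taq_3_4, z_3_5, tap_4_5, taq_4_5, T.w_pos u3, T.w_pos u4, T.w_pos u5]
                                · -- (4,5) Tm
                                  exfalso
                                  have key := Groth.Agent.Helper6.NT.negfun3 T h2 u3 u4 u5 (by norm_num) 1 2 3 (by norm_num) (by norm_num)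
                                  linarith only [key, tap_3_4, taq_3_4, z_3_5, tap_4_5, taq_4_5, T.w_pos u3, T.w_pos u4, T.w_pos u5]
                              · push Not at hx
                                have cl_4 := hx
                                clear hx
                                exfalso
                                refine Groth.Agent.Helper6.NT.closed_contra T [u0, u1, u2, u3, u4] (by simp) (by simp) ?_
                                intro i hi j hj
                                simp only [List.mem_cons, List.not_mem_nil, or_false, not_or] at hi hj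
                                rcases hi with rfl | rfl | rfl | rfl | rfl
                                · exact cl_0 j ⟨hj.1, hj.2.1, hj.2.2.1⟩
                                · exact cl_1 j ⟨hj.1, hj.2.1, hj.2.2.1, hj.2.2.2.1⟩
                                · exact cl_2 j ⟨hj.1, hj.2.1, hj.2.2.1, hj.2.2.2.1⟩
                                · exact cl_3 j ⟨hj.1, hj.2.1, hj.2.2.1, hj.2.2.2.1, hj.2.2.2.2⟩
                                · exact cl_4 j ⟨hj.1, hj.2.1, hj.2.2.1, hj.2.2.2.1, hj.2.2.2.2⟩
                          · -- (3,4) Dp
                            by_cases hx : ∃ j, (j ≠ u0 ∧ j ≠ u1 ∧ j ≠ u2 ∧ j ≠ u3 ∧ j ≠ u4) ∧ T.a u3 j ≠ 0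
                            · obtain ⟨u5, ⟨hn_5_0, hn_5_1, hn_5_2, hn_5_3, hn_5_4⟩, e_3_5⟩ := hx
                              have z_0_5 : T.a u0 u5 = 0 := cl_0 u5 ⟨hn_5_0, hn_5_1, hn_5_2⟩
                              have z_1_5 : T.a u1 u5 = 0 := cl_1 u5 ⟨hn_5_0, hn_5_1, hn_5_2, hn_5_3⟩
                              have z_2_5 : T.a u2 u5 = 0 := cl_2 u5 ⟨hn_5_0, hn_5_1, hn_5_2, hn_5_3⟩
                              rcases Groth.Agent.Helper6.NT.edge5 T h2 (by norm_num) u3 u5 hn_5_3.symm e_3_5 with ⟨tw_3_5, tap_3_5, taq_3_5⟩ | ⟨tw_3_5, tap_3_5, taq_3_5⟩ | ⟨tw_3_5, tap_3_5, taq_3_5⟩ | ⟨tw_3_5, tap_3_5, taq_3_5⟩ | ⟨tw_3_5, tap_3_5, taq_3_5⟩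
                              · -- (3,5) S
                                exfalso
                                have key := Groth.Agent.Helper6.NT.negfun4 T h2 u1 u3 u4 u5 (by norm_num) 1 2 1 1 (by norm_num) (by norm_num)
                                linarith only [key, tap_1_3, taq_1_3, z_1_4, z_1_5, tap_3_4, taq_3_4, tap_3_5, taq_3_5, T.offDiag_nonneg u4 u5 hn_5_4.symm, T.w_pos u1, T.w_pos u3, T.w_pos u4, T.w_pos u5]
                              · -- (3,5) Dp
                                exfalso
                                have key := Groth.Agent.Helper6.NT.negfun3 T h2 u3 u4 u5 (by norm_num) 2 1 1 (by norm_num) (by norm_num)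
                                linarith only [key, tap_3_4, taq_3_4, tap_3_5, taq_3_5, T.offDiag_nonneg u4 u5 hn_5_4.symm, T.w_pos u3, T.w_pos u4, T.w_pos u5]
                              · -- (3,5) Dm
                                exfalso
                                have key := Groth.Agent.Helper6.NT.negfun3 T h2 u3 u4 u5 (by norm_num) 2 1 2 (by norm_num) (by norm_num)
                                linarith only [key, tap_3_4, taq_3_4, tap_3_5, taq_3_5, T.offDiag_nonneg u4 u5 hn_5_4.symm, T.w_pos u3, T.w_pos u4, T.w_pos u5]
                              · -- (3,5) Tp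
                                exfalso
                                have key := Groth.Agent.Helper6.NT.negfun3 T h2 u3 u4 u5 (by norm_num) 2 1 1 (by norm_num) (by norm_num)
                                linarith only [key, tap_3_4, taq_3_4, tap_3_5, taq_3_5, T.offDiag_nonneg u4 u5 hn_5_4.symm, T.w_pos u3, T.w_pos u4, T.w_pos u5]
                              · -- (3,5) Tm
                                exfalso
                                have key := Groth.Agent.Helper6.NT.negfun3 T h2 u3 u4 u5 (by norm_num) 2 1 3 (by norm_num) (by norm_num)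
                                linarith only [key, tap_3_4, taq_3_4, tap_3_5, taq_3_5, T.offDiag_nonneg u4 u5 hn_5_4.symm, T.w_pos u3, T.w_pos u4, T.w_pos u5]
                            · push Not at hx
                              have cl_3 := hx
                              clear hx
                              by_cases hx : ∃ j, (j ≠ u0 ∧ j ≠ u1 ∧ j ≠ u2 ∧ j ≠ u3 ∧ j ≠ u4) ∧ T.a u4 j ≠ 0
                              · obtain ⟨u5, ⟨hn_5_0, hn_5_1, hn_5_2, hn_5_3, hn_5_4⟩, e_4_5⟩ := hx
                                have z_0_5 : T.a u0 u5 = 0 := cl_0 u5 ⟨hn_5_0, hn_5_1, hn_5_2⟩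
                                have z_1_5 : T.a u1 u5 = 0 := cl_1 u5 ⟨hn_5_0, hn_5_1, hn_5_2, hn_5_3⟩
                                have z_2_5 : T.a u2 u5 = 0 := cl_2 u5 ⟨hn_5_0, hn_5_1, hn_5_2, hn_5_3⟩
                                have z_3_5 : T.a u3 u5 = 0 := cl_3 u5 ⟨hn_5_0, hn_5_1, hn_5_2, hn_5_3, hn_5_4⟩
                                rcases Groth.Agent.Helper6.NT.edge5 T h2 (by norm_num) u4 u5 hn_5_4.symm e_4_5 with ⟨tw_4_5, tap_4_5, taq_4_5⟩ | ⟨tw_4_5, tap_4_5, taq_4_5⟩ | ⟨tw_4_5, tap_4_5, taq_4_5⟩ | ⟨tw_4_5, tap_4_5, taq_4_5⟩ | ⟨tw_4_5, tap_4_5, taq_4_5⟩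
                                · -- (4,5) S
                                  exfalso
                                  have key := Groth.Agent.Helper6.NT.negfun5 T h2 u0 u1 u3 u4 u5 (by norm_num) 1 2 3 2 1 (by norm_num) (by norm_num)
                                  linarith only [key, tap_0_1, taq_0_1, z_0_3, z_0_4, z_0_5, tap_1_3, taq_1_3, z_1_4, z_1_5, tap_3_4, taq_3_4, z_3_5, tap_4_5, taq_4_5, T.w_pos u0, T.w_pos u1, T.w_pos u3, T.w_pos u4, T.w_pos u5]
                                · -- (4,5) Dp
                                  exfalso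
                                  have key := Groth.Agent.Helper6.NT.negfun3 T h2 u3 u4 u5 (by norm_num) 2 2 1 (by norm_num) (by norm_num)
                                  linarith only [key, tap_3_4, taq_3_4, z_3_5, tap_4_5, taq_4_5, T.w_pos u3, T.w_pos u4, T.w_pos u5]
                                · -- (4,5) Dm
                                  exfalso
                                  have key := Groth.Agent.Helper6.NT.negfun3 T h2 u3 u4 u5 (by norm_num) 1 1 1 (by norm_num) (by norm_num)
                                  linarith only [key, tap_3_4, taq_3_4, z_3_5, tap_4_5, taq_4_5, T.w_pos u3, T.w_pos u4, T.w_pos u5]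
                                · -- (4,5) Tp
                                  exfalso
                                  have key := Groth.Agent.Helper6.NT.negfun3 T h2 u3 u4 u5 (by norm_num) 2 2 1 (by norm_num) (by norm_num)
                                  linarith only [key, tap_3_4, taq_3_4, z_3_5, tap_4_5, taq_4_5, T.w_pos u3, T.w_pos u4, T.w_pos u5]
                                · -- (4,5) Tm
                                  exfalso
                                  have key := Groth.Agent.Helper6.NT.negfun3 T h2 u3 u4 u5 (by norm_num) 2 2 3 (by norm_num) (by norm_num)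
                                  linarith only [key, tap_3_4, taq_3_4, z_3_5, tap_4_5, taq_4_5, T.w_pos u3, T.w_pos u4, T.w_pos u5]
                              · push Not at hx
                                have cl_4 := hx
                                clear hx
                                exfalso
                                refine Groth.Agent.Helper6.NT.closed_contra T [u0, u1, u2, u3, u4] (by simp) (by simp) ?_
                                intro i hi j hj
                                simp only [List.mem_cons, List.not_mem_nil, or_false, not_or] at hi hj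
                                rcases hi with rfl | rfl | rfl | rfl | rfl
                                · exact cl_0 j ⟨hj.1, hj.2.1, hj.2.2.1⟩
                                · exact cl_1 j ⟨hj.1, hj.2.1, hj.2.2.1, hj.2.2.2.1⟩
                                · exact cl_2 j ⟨hj.1, hj.2.1, hj.2.2.1, hj.2.2.2.1⟩
                                · exact cl_3 j ⟨hj.1, hj.2.1, hj.2.2.1, hj.2.2.2.1, hj.2.2.2.2⟩
                                · exact cl_4 j ⟨hj.1, hj.2.1, hj.2.2.1, hj.2.2.2.1, hj.2.2.2.2⟩
                          · -- (3,4) Dm
                            by_cases hx : ∃ j, (j ≠ u0 ∧ j ≠ u1 ∧ j ≠ u2 ∧ j ≠ u3 ∧ j ≠ u4) ∧ T.a u3 j ≠ 0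
                            · obtain ⟨u5, ⟨hn_5_0, hn_5_1, hn_5_2, hn_5_3, hn_5_4⟩, e_3_5⟩ := hx
                              have z_0_5 : T.a u0 u5 = 0 := cl_0 u5 ⟨hn_5_0, hn_5_1, hn_5_2⟩
                              have z_1_5 : T.a u1 u5 = 0 := cl_1 u5 ⟨hn_5_0, hn_5_1, hn_5_2, hn_5_3⟩
                              have z_2_5 : T.a u2 u5 = 0 := cl_2 u5 ⟨hn_5_0, hn_5_1, hn_5_2, hn_5_3⟩
                              rcases Groth.Agent.Helper6.NT.edge5 T h2 (by norm_num) u3 u5 hn_5_3.symm e_3_5 with ⟨tw_3_5, tap_3_5, taq_3_5⟩ | ⟨tw_3_5, tap_3_5, taq_3_5⟩ | ⟨tw_3_5, tap_3_5, taq_3_5⟩ | ⟨tw_3_5, tap_3_5, taq_3_5⟩ | ⟨tw_3_5, tap_3_5, taq_3_5⟩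
                              · -- (3,5) S
                                exfalso
                                have key := Groth.Agent.Helper6.NT.negfun4 T h2 u1 u3 u4 u5 (by norm_num) 1 2 2 1 (by norm_num) (by norm_num)
                                linarith only [key, tap_1_3, taq_1_3, z_1_4, z_1_5, tap_3_4, taq_3_4, tap_3_5, taq_3_5, T.offDiag_nonneg u4 u5 hn_5_4.symm, T.w_pos u1, T.w_pos u3, T.w_pos u4, T.w_pos u5]
                              · -- (3,5) Dp
                                exfalso
                                have key := Groth.Agent.Helper6.NT.negfun3 T h2 u3 u4 u5 (by norm_num) 2 2 1 (by norm_num) (by norm_num)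
                                linarith only [key, tap_3_4, taq_3_4, tap_3_5, taq_3_5, T.offDiag_nonneg u4 u5 hn_5_4.symm, T.w_pos u3, T.w_pos u4, T.w_pos u5]
                              · -- (3,5) Dm
                                exfalso
                                have key := Groth.Agent.Helper6.NT.negfun3 T h2 u3 u4 u5 (by norm_num) 1 1 1 (by norm_num) (by norm_num)
                                linarith only [key, tap_3_4, taq_3_4, tap_3_5, taq_3_5, T.offDiag_nonneg u4 u5 hn_5_4.symm, T.w_pos u3, T.w_pos u4, T.w_pos u5]
                              · -- (3,5) Tp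
                                exfalso
                                have key := Groth.Agent.Helper6.NT.negfun3 T h2 u3 u4 u5 (by norm_num) 2 2 1 (by norm_num) (by norm_num)
                                linarith only [key, tap_3_4, taq_3_4, tap_3_5, taq_3_5, T.offDiag_nonneg u4 u5 hn_5_4.symm, T.w_pos u3, T.w_pos u4, T.w_pos u5]
                              · -- (3,5) Tm
                                exfalso
                                have key := Groth.Agent.Helper6.NT.negfun3 T h2 u3 u4 u5 (by norm_num) 2 2 3 (by norm_num) (by norm_num)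
                                linarith only [key, tap_3_4, taq_3_4, tap_3_5, taq_3_5, T.offDiag_nonneg u4 u5 hn_5_4.symm, T.w_pos u3, T.w_pos u4, T.w_pos u5]
                            · push Not at hx
                              have cl_3 := hx
                              clear hx
                              by_cases hx : ∃ j, (j ≠ u0 ∧ j ≠ u1 ∧ j ≠ u2 ∧ j ≠ u3 ∧ j ≠ u4) ∧ T.a u4 j ≠ 0
                              · obtain ⟨u5, ⟨hn_5_0, hn_5_1, hn_5_2, hn_5_3, hn_5_4⟩, e_4_5⟩ := hx
                                have z_0_5 : T.a u0 u5 = 0 := cl_0 u5 ⟨hn_5_0, hn_5_1, hn_5_2⟩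
                                have z_1_5 : T.a u1 u5 = 0 := cl_1 u5 ⟨hn_5_0, hn_5_1, hn_5_2, hn_5_3⟩
                                have z_2_5 : T.a u2 u5 = 0 := cl_2 u5 ⟨hn_5_0, hn_5_1, hn_5_2, hn_5_3⟩
                                have z_3_5 : T.a u3 u5 = 0 := cl_3 u5 ⟨hn_5_0, hn_5_1, hn_5_2, hn_5_3, hn_5_4⟩
                                rcases Groth.Agent.Helper6.NT.edge5 T h2 (by norm_num) u4 u5 hn_5_4.symm e_4_5 with ⟨tw_4_5, tap_4_5, taq_4_5⟩ | ⟨tw_4_5, tap_4_5, taq_4_5⟩ | ⟨tw_4_5, tap_4_5, taq_4_5⟩ | ⟨tw_4_5, tap_4_5, taq_4_5⟩ | ⟨tw_4_5, tap_4_5, taq_4_5⟩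
                                · -- (4,5) S
                                  exfalso
                                  have key := Groth.Agent.Helper6.NT.negfun5 T h2 u0 u1 u3 u4 u5 (by norm_num) 1 2 3 4 2 (by norm_num) (by norm_num)
                                  linarith only [key, tap_0_1, taq_0_1, z_0_3, z_0_4, z_0_5, tap_1_3, taq_1_3, z_1_4, z_1_5, tap_3_4, taq_3_4, z_3_5, tap_4_5, taq_4_5, T.w_pos u0, T.w_pos u1, T.w_pos u3, T.w_pos u4, T.w_pos u5]
                                · -- (4,5) Dp
                                  exfalso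
                                  have key := Groth.Agent.Helper6.NT.negfun3 T h2 u3 u4 u5 (by norm_num) 1 2 1 (by norm_num) (by norm_num)
                                  linarith only [key, tap_3_4, taq_3_4, z_3_5, tap_4_5, taq_4_5, T.w_pos u3, T.w_pos u4, T.w_pos u5]
                                · -- (4,5) Dm
                                  exfalso
                                  have key := Groth.Agent.Helper6.NT.negfun3 T h2 u3 u4 u5 (by norm_num) 1 2 2 (by norm_num) (by norm_num)
                                  linarith only [key, tap_3_4, taq_3_4, z_3_5, tap_4_5, taq_4_5, T.w_pos u3, T.w_pos u4, T.w_pos u5]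
                                · -- (4,5) Tp
                                  exfalso
                                  have key := Groth.Agent.Helper6.NT.negfun3 T h2 u3 u4 u5 (by norm_num) 1 2 1 (by norm_num) (by norm_num)
                                  linarith only [key, tap_3_4, taq_3_4, z_3_5, tap_4_5, taq_4_5, T.w_pos u3, T.w_pos u4, T.w_pos u5]
                                · -- (4,5) Tm
                                  exfalso
                                  have key := Groth.Agent.Helper6.NT.negfun3 T h2 u3 u4 u5 (by norm_num) 1 2 3 (by norm_num) (by norm_num)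
                                  linarith only [key, tap_3_4, taq_3_4, z_3_5, tap_4_5, taq_4_5, T.w_pos u3, T.w_pos u4, T.w_pos u5]
                              · push Not at hx
                                have cl_4 := hx
                                clear hx
                                exfalso
                                refine Groth.Agent.Helper6.NT.closed_contra T [u0, u1, u2, u3, u4] (by simp) (by simp) ?_
                                intro i hi j hj
                                simp only [List.mem_cons, List.not_mem_nil, or_false, not_or] at hi hj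
                                rcases hi with rfl | rfl | rfl | rfl | rfl
                                · exact cl_0 j ⟨hj.1, hj.2.1, hj.2.2.1⟩
                                · exact cl_1 j ⟨hj.1, hj.2.1, hj.2.2.1, hj.2.2.2.1⟩
                                · exact cl_2 j ⟨hj.1, hj.2.1, hj.2.2.1, hj.2.2.2.1⟩
                                · exact cl_3 j ⟨hj.1, hj.2.1, hj.2.2.1, hj.2.2.2.1, hj.2.2.2.2⟩
                                · exact cl_4 j ⟨hj.1, hj.2.1, hj.2.2.1, hj.2.2.2.1, hj.2.2.2.2⟩
                          · -- (3,4) Tp
                            exfalso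
                            have key := Groth.Agent.Helper6.NT.negfun3 T h2 u1 u3 u4 (by norm_num) 1 2 1 (by norm_num) (by norm_num)
                            linarith only [key, tap_1_3, taq_1_3, z_1_4, tap_3_4, taq_3_4, T.w_pos u1, T.w_pos u3, T.w_pos u4]
                          · -- (3,4) Tm
                            exfalso
                            have key := Groth.Agent.Helper6.NT.negfun3 T h2 u1 u3 u4 (by norm_num) 1 2 3 (by norm_num) (by norm_num)
                            linarith only [key, tap_1_3, taq_1_3, z_1_4, tap_3_4, taq_3_4, T.w_pos u1, T.w_pos u3, T.w_pos u4]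
                        · push Not at hx
                          have cl_3 := hx
                          clear hx
                          exfalso
                          refine Groth.Agent.Helper6.NT.closed_contra T [u0, u1, u2, u3] (by simp) (by simp) ?_
                          intro i hi j hj
                          simp only [List.mem_cons, List.not_mem_nil, or_false, not_or] at hi hj
                          rcases hi with rfl | rfl | rfl | rfl
                          · exact cl_0 j ⟨hj.1, hj.2.1, hj.2.2.1⟩
                          · exact cl_1 j ⟨hj.1, hj.2.1, hj.2.2.1, hj.2.2.2⟩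
                          · exact cl_2 j ⟨hj.1, hj.2.1, hj.2.2.1, hj.2.2.2⟩
                          · exact cl_3 j ⟨hj.1, hj.2.1, hj.2.2.1, hj.2.2.2⟩
                  · -- (2,3) nonzero
                    obtain ⟨lbp_2_3, lbq_2_3⟩ := Groth.Agent.Helper6.NT.lb T u2 u3 hn_3_2.symm nz_2_3
                    exfalso
                    have key := Groth.Agent.Helper6.NT.negfun4 T h2 u0 u1 u2 u3 (by norm_num) 1 1 1 1 (by norm_num) (by norm_num)
                    linarith only [key, tap_0_1, taq_0_1, tap_0_2, taq_0_2, z_0_3, z_1_2, tap_1_3, taq_1_3, lbp_2_3, lbq_2_3, T.w_pos u0, T.w_pos u1, T.w_pos u2, T.w_pos u3]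
                · -- (1,3) Dp
                  rcases eq_or_ne (T.a u2 u3) 0 with z_2_3 | nz_2_3
                  · -- (2,3) zero
                    by_cases hx : ∃ j, (j ≠ u0 ∧ j ≠ u1 ∧ j ≠ u2 ∧ j ≠ u3) ∧ T.a u1 j ≠ 0
                    · obtain ⟨u4, ⟨hn_4_0, hn_4_1, hn_4_2, hn_4_3⟩, e_1_4⟩ := hx
                      have z_0_4 : T.a u0 u4 = 0 := cl_0 u4 ⟨hn_4_0, hn_4_1, hn_4_2⟩
                      rcases Groth.Agent.Helper6.NT.edge5 T h2 (by norm_num) u1 u4 hn_4_1.symm e_1_4 with ⟨tw_1_4, tap_1_4, taq_1_4⟩ | ⟨tw_1_4, tap_1_4, taq_1_4⟩ | ⟨tw_1_4, tap_1_4, taq_1_4⟩ | ⟨tw_1_4, tap_1_4, taq_1_4⟩ | ⟨tw_1_4, tap_1_4, taq_1_4⟩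
                      · -- (1,4) S
                        exfalso
                        have key := Groth.Agent.Helper6.NT.negfun4 T h2 u0 u1 u3 u4 (by norm_num) 1 2 1 1 (by norm_num) (by norm_num)
                        linarith only [key, tap_0_1, taq_0_1, z_0_3, z_0_4, tap_1_3, taq_1_3, tap_1_4, taq_1_4, T.offDiag_nonneg u3 u4 hn_4_3.symm, T.w_pos u0, T.w_pos u1, T.w_pos u3, T.w_pos u4]
                      · -- (1,4) Dp
                        exfalso
                        have key := Groth.Agent.Helper6.NT.negfun3 T h2 u1 u3 u4 (by norm_num) 2 1 1 (by norm_num) (by norm_num)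
                        linarith only [key, tap_1_3, taq_1_3, tap_1_4, taq_1_4, T.offDiag_nonneg u3 u4 hn_4_3.symm, T.w_pos u1, T.w_pos u3, T.w_pos u4]
                      · -- (1,4) Dm
                        exfalso
                        have key := Groth.Agent.Helper6.NT.negfun3 T h2 u1 u3 u4 (by norm_num) 2 1 2 (by norm_num) (by norm_num)
                        linarith only [key, tap_1_3, taq_1_3, tap_1_4, taq_1_4, T.offDiag_nonneg u3 u4 hn_4_3.symm, T.w_pos u1, T.w_pos u3, T.w_pos u4]
                      · -- (1,4) Tp
                        exfalso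
                        have key := Groth.Agent.Helper6.NT.negfun3 T h2 u1 u3 u4 (by norm_num) 2 1 1 (by norm_num) (by norm_num)
                        linarith only [key, tap_1_3, taq_1_3, tap_1_4, taq_1_4, T.offDiag_nonneg u3 u4 hn_4_3.symm, T.w_pos u1, T.w_pos u3, T.w_pos u4]
                      · -- (1,4) Tm
                        exfalso
                        have key := Groth.Agent.Helper6.NT.negfun3 T h2 u1 u3 u4 (by norm_num) 2 1 3 (by norm_num) (by norm_num)
                        linarith only [key, tap_1_3, taq_1_3, tap_1_4, taq_1_4, T.offDiag_nonneg u3 u4 hn_4_3.symm, T.w_pos u1, T.w_pos u3, T.w_pos u4]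
                    · push Not at hx
                      have cl_1 := hx
                      clear hx
                      by_cases hx : ∃ j, (j ≠ u0 ∧ j ≠ u1 ∧ j ≠ u2 ∧ j ≠ u3) ∧ T.a u2 j ≠ 0
                      · obtain ⟨u4, ⟨hn_4_0, hn_4_1, hn_4_2, hn_4_3⟩, e_2_4⟩ := hx
                        have z_0_4 : T.a u0 u4 = 0 := cl_0 u4 ⟨hn_4_0, hn_4_1, hn_4_2⟩
                        have z_1_4 : T.a u1 u4 = 0 := cl_1 u4 ⟨hn_4_0, hn_4_1, hn_4_2, hn_4_3⟩
                        rcases Groth.Agent.Helper6.NT.edge5 T h2 (by norm_num) u2 u4 hn_4_2.symm e_2_4 with ⟨tw_2_4, tap_2_4, taq_2_4⟩ | ⟨tw_2_4, tap_2_4, taq_2_4⟩ | ⟨tw_2_4, tap_2_4, taq_2_4⟩ | ⟨tw_2_4, tap_2_4, taq_2_4⟩ | ⟨tw_2_4, tap_2_4, taq_2_4⟩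
                        · -- (2,4) S
                          rcases eq_or_ne (T.a u3 u4) 0 with z_3_4 | nz_3_4
                          · -- (3,4) zero
                            by_cases hx : ∃ j, (j ≠ u0 ∧ j ≠ u1 ∧ j ≠ u2 ∧ j ≠ u3 ∧ j ≠ u4) ∧ T.a u2 j ≠ 0
                            · obtain ⟨u5, ⟨hn_5_0, hn_5_1, hn_5_2, hn_5_3, hn_5_4⟩, e_2_5⟩ := hx
                              have z_0_5 : T.a u0 u5 = 0 := cl_0 u5 ⟨hn_5_0, hn_5_1, hn_5_2⟩
                              have z_1_5 : T.a u1 u5 = 0 := cl_1 u5 ⟨hn_5_0, hn_5_1, hn_5_2, hn_5_3⟩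
                              rcases Groth.Agent.Helper6.NT.edge5 T h2 (by norm_num) u2 u5 hn_5_2.symm e_2_5 with ⟨tw_2_5, tap_2_5, taq_2_5⟩ | ⟨tw_2_5, tap_2_5, taq_2_5⟩ | ⟨tw_2_5, tap_2_5, taq_2_5⟩ | ⟨tw_2_5, tap_2_5, taq_2_5⟩ | ⟨tw_2_5, tap_2_5, taq_2_5⟩
                              · -- (2,5) S
                                rcases eq_or_ne (T.a u3 u5) 0 with z_3_5 | nz_3_5
                                · -- (3,5) zero
                                  rcases eq_or_ne (T.a u4 u5) 0 with z_4_5 | nz_4_5
                                  · -- (4,5) zero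
                                    have hinj := Groth.Agent.Helper6.NT.inj6 u0 u1 u2 u3 u4 u5 hn_1_0 hn_2_0 hn_2_1 hn_3_0 hn_3_1 hn_3_2 hn_4_0 hn_4_1 hn_4_2 hn_4_3 hn_5_0 hn_5_1 hn_5_2 hn_5_3 hn_5_4
                                    have r_0 : -2 * T.m u0 + 1 * T.m u1 + 1 * T.m u2 = 0 := by
                                      have key := Groth.Agent.Helper6.NT.rowfun6 T u0 u1 u2 u3 u4 u5 hinj u0
                                      rw [(h2 u0).2, tap_0_1, tap_0_2, z_0_3, z_0_4, z_0_5] at key
                                      exact mul_left_cancel₀ (T.w_pos u0).ne' (by linarith only [key])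
                                    have r_1 : 1 * T.m u0 + -2 * T.m u1 + 2 * T.m u3 = 0 := by
                                      have key := Groth.Agent.Helper6.NT.rowfun6 T u0 u1 u2 u3 u4 u5 hinj u1
                                      rw [Groth.Agent.Helper6.NT.symm' T u1 u0, taq_0_1, (h2 u1).2, z_1_2, tap_1_3, z_1_4, z_1_5] at key
                                      exact mul_left_cancel₀ (T.w_pos u1).ne' (by linarith only [key])
                                    have r_2 : 1 * T.m u0 + -2 * T.m u2 + 1 * T.m u4 + 1 * T.m u5 = 0 := by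
                                      have key := Groth.Agent.Helper6.NT.rowfun6 T u0 u1 u2 u3 u4 u5 hinj u2
                                      rw [Groth.Agent.Helper6.NT.symm' T u2 u0, taq_0_2, Groth.Agent.Helper6.NT.symm' T u2 u1, z_1_2, (h2 u2).2, z_2_3, tap_2_4, tap_2_5] at key
                                      exact mul_left_cancel₀ (T.w_pos u2).ne' (by linarith only [key])
                                    have r_3 : 1 * T.m u1 + -2 * T.m u3 = 0 := by
                                      have key := Groth.Agent.Helper6.NT.rowfun6 T u0 u1 u2 u3 u4 u5 hinj u3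
                                      rw [Groth.Agent.Helper6.NT.symm' T u3 u0, z_0_3, Groth.Agent.Helper6.NT.symm' T u3 u1, taq_1_3, Groth.Agent.Helper6.NT.symm' T u3 u2, z_2_3, (h2 u3).2, z_3_4, z_3_5] at key
                                      exact mul_left_cancel₀ (T.w_pos u3).ne' (by linarith only [key])
                                    have r_4 : 1 * T.m u2 + -2 * T.m u4 = 0 := by
                                      have key := Groth.Agent.Helper6.NT.rowfun6 T u0 u1 u2 u3 u4 u5 hinj u4
                                      rw [Groth.Agent.Helper6.NT.symm' T u4 u0, z_0_4, Groth.Agent.Helper6.NT.symm' T u4 u1, z_1_4, Groth.Agent.Helper6.NT.symm' T u4 u2, taq_2_4, Groth.Agent.Helper6.NT.symm' T u4 u3, z_3_4, (h2 u4).2, z_4_5] at key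
                                      exact mul_left_cancel₀ (T.w_pos u4).ne' (by linarith only [key])
                                    have r_5 : 1 * T.m u2 + -2 * T.m u5 = 0 := by
                                      have key := Groth.Agent.Helper6.NT.rowfun6 T u0 u1 u2 u3 u4 u5 hinj u5
                                      rw [Groth.Agent.Helper6.NT.symm' T u5 u0, z_0_5, Groth.Agent.Helper6.NT.symm' T u5 u1, z_1_5, Groth.Agent.Helper6.NT.symm' T u5 u2, taq_2_5, Groth.Agent.Helper6.NT.symm' T u5 u3, z_3_5, Groth.Agent.Helper6.NT.symm' T u5 u4, z_4_5, (h2 u5).2] at key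
                                      exact mul_left_cancel₀ (T.w_pos u5).ne' (by linarith only [key])
                                    have f0 : T.m u3 = T.m u3 := rfl
                                    have f1 : T.m u1 = 2 * T.m u3 := by linarith only [r_0, r_1, r_2, r_3, r_4, r_5]
                                    have f2 : T.m u0 = 2 * T.m u3 := by linarith only [r_0, r_1, r_2, r_3, r_4, r_5]
                                    have f3 : T.m u2 = 2 * T.m u3 := by linarith only [r_0, r_1, r_2, r_3, r_4, r_5]
                                    have f4 : T.m u4 = T.m u3 := by linarith only [r_0, r_1, r_2, r_3, r_4, r_5]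
                                    have f5 : T.m u5 = T.m u3 := by linarith only [r_0, r_1, r_2, r_3, r_4, r_5]
                                    have f6 : T.w u3 = 2 * T.w u1 := by linarith only [tw_0_1, tw_0_2, tw_1_3, tw_2_4, tw_2_5]
                                    have f7 : T.w u1 = T.w u1 := rfl
                                    have f8 : T.w u0 = T.w u1 := by linarith only [tw_0_1, tw_0_2, tw_1_3, tw_2_4, tw_2_5]
                                    have f9 : T.w u2 = T.w u1 := by linarith only [tw_0_1, tw_0_2, tw_1_3, tw_2_4, tw_2_5]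
                                    have f10 : T.w u4 = T.w u1 := by linarith only [tw_0_1, tw_0_2, tw_1_3, tw_2_4, tw_2_5]
                                    have f11 : T.w u5 = T.w u1 := by linarith only [tw_0_1, tw_0_2, tw_1_3, tw_2_4, tw_2_5]
                                    have f12 : T.a u3 u3 = -4 * T.w u1 := by have := (h2 u3).2; linarith only [this, tw_0_1, tw_0_2, tw_1_3, tw_2_4, tw_2_5]
                                    have f13 : T.a u3 u1 = 2 * T.w u1 := by rw [Groth.Agent.Helper6.NT.symm' T u3 u1]; linarith only [tap_1_3, tw_0_1, tw_0_2, tw_1_3, tw_2_4, tw_2_5]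
                                    have f14 : T.a u3 u0 = 0 := by rw [Groth.Agent.Helper6.NT.symm' T u3 u0]; exact z_0_3
                                    have f15 : T.a u3 u2 = 0 := by rw [Groth.Agent.Helper6.NT.symm' T u3 u2]; exact z_2_3
                                    have f16 : T.a u3 u4 = 0 := by exact z_3_4
                                    have f17 : T.a u3 u5 = 0 := by exact z_3_5
                                    have f18 : T.a u1 u1 = -2 * T.w u1 := by have := (h2 u1).2; linarith only [this, tw_0_1, tw_0_2, tw_1_3, tw_2_4, tw_2_5]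
                                    have f19 : T.a u1 u0 = T.w u1 := by rw [Groth.Agent.Helper6.NT.symm' T u1 u0]; linarith only [tap_0_1, tw_0_1, tw_0_2, tw_1_3, tw_2_4, tw_2_5]
                                    have f20 : T.a u1 u2 = 0 := by exact z_1_2
                                    have f21 : T.a u1 u4 = 0 := by exact z_1_4
                                    have f22 : T.a u1 u5 = 0 := by exact z_1_5
                                    have f23 : T.a u0 u0 = -2 * T.w u1 := by have := (h2 u0).2; linarith only [this, tw_0_1, tw_0_2, tw_1_3, tw_2_4, tw_2_5]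
                                    have f24 : T.a u0 u2 = T.w u1 := by linarith only [tap_0_2, tw_0_1, tw_0_2, tw_1_3, tw_2_4, tw_2_5]
                                    have f25 : T.a u0 u4 = 0 := by exact z_0_4
                                    have f26 : T.a u0 u5 = 0 := by exact z_0_5
                                    have f27 : T.a u2 u2 = -2 * T.w u1 := by have := (h2 u2).2; linarith only [this, tw_0_1, tw_0_2, tw_1_3, tw_2_4, tw_2_5]
                                    have f28 : T.a u2 u4 = T.w u1 := by linarith only [tap_2_4, tw_0_1, tw_0_2, tw_1_3, tw_2_4, tw_2_5]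
                                    have f29 : T.a u2 u5 = T.w u1 := by linarith only [tap_2_5, tw_0_1, tw_0_2, tw_1_3, tw_2_4, tw_2_5]
                                    have f30 : T.a u4 u4 = -2 * T.w u1 := by have := (h2 u4).2; linarith only [this, tw_0_1, tw_0_2, tw_1_3, tw_2_4, tw_2_5]
                                    have f31 : T.a u4 u5 = 0 := by exact z_4_5
                                    have f32 : T.a u5 u5 = -2 * T.w u1 := by have := (h2 u5).2; linarith only [this, tw_0_1, tw_0_2, tw_1_3, tw_2_4, tw_2_5]
                                    have hsig := Groth.Agent.Helper6.NT.inj6 u3 u1 u0 u2 u4 u5 hn_3_1.symm hn_3_0.symm hn_1_0.symm hn_3_2.symm hn_2_1 hn_2_0 hn_4_3 hn_4_1 hn_4_0 hn_4_2 hn_5_3 hn_5_1 hn_5_0 hn_5_2 hn_5_4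
                                    exact ⟨Equiv.ofBijective _ (Finite.injective_iff_bijective.1 hsig), T.m u3, T.w u1, Or.inr (Or.inr (Or.inr (Or.inr (Or.inl ⟨f0, f1, f2, f3, f4, f5, f6, f7, f8, f9, f10, f11, f12, f13, f14, f15, f16, f17, f18, f19, f20, f21, f22, f23, f24, f25, f26, f27, f28, f29, f30, f31, f32⟩))))⟩
                                  · -- (4,5) nonzero
                                    obtain ⟨lbp_4_5, lbq_4_5⟩ := Groth.Agent.Helper6.NT.lb T u4 u5 hn_5_4.symm nz_4_5
                                    exfalso
                                    have key := Groth.Agent.Helper6.NT.negfun3 T h2 u2 u4 u5 (by norm_num) 1 1 1 (by norm_num) (by norm_num)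
                                    linarith only [key, tap_2_4, taq_2_4, tap_2_5, taq_2_5, lbp_4_5, lbq_4_5, T.w_pos u2, T.w_pos u4, T.w_pos u5]
                                · -- (3,5) nonzero
                                  obtain ⟨lbp_3_5, lbq_3_5⟩ := Groth.Agent.Helper6.NT.lb T u3 u5 hn_5_3.symm nz_3_5
                                  exfalso
                                  have key := Groth.Agent.Helper6.NT.negfun5 T h2 u0 u1 u2 u3 u5 (by norm_num) 2 3 2 2 2 (by norm_num) (by norm_num)
                                  linarith only [key, tap_0_1, taq_0_1, tap_0_2, taq_0_2, z_0_3, z_0_5, z_1_2, tap_1_3, taq_1_3, z_1_5, z_2_3, tap_2_5, taq_2_5, lbp_3_5, lbq_3_5, T.w_pos u0, T.w_pos u1, T.w_pos u2, T.w_pos u3, T.w_pos u5]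
                              · -- (2,5) Dp
                                exfalso
                                have key := Groth.Agent.Helper6.NT.negfun4 T h2 u0 u2 u4 u5 (by norm_num) 1 2 1 1 (by norm_num) (by norm_num)
                                linarith only [key, tap_0_2, taq_0_2, z_0_4, z_0_5, tap_2_4, taq_2_4, tap_2_5, taq_2_5, T.offDiag_nonneg u4 u5 hn_5_4.symm, T.w_pos u0, T.w_pos u2, T.w_pos u4, T.w_pos u5]
                              · -- (2,5) Dm
                                exfalso
                                have key := Groth.Agent.Helper6.NT.negfun4 T h2 u0 u2 u4 u5 (by norm_num) 1 2 1 2 (by norm_num) (by norm_num)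
                                linarith only [key, tap_0_2, taq_0_2, z_0_4, z_0_5, tap_2_4, taq_2_4, tap_2_5, taq_2_5, T.offDiag_nonneg u4 u5 hn_5_4.symm, T.w_pos u0, T.w_pos u2, T.w_pos u4, T.w_pos u5]
                              · -- (2,5) Tp
                                exfalso
                                have key := Groth.Agent.Helper6.NT.negfun3 T h2 u2 u4 u5 (by norm_num) 2 1 1 (by norm_num) (by norm_num)
                                linarith only [key, tap_2_4, taq_2_4, tap_2_5, taq_2_5, T.offDiag_nonneg u4 u5 hn_5_4.symm, T.w_pos u2, T.w_pos u4, T.w_pos u5]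
                              · -- (2,5) Tm
                                exfalso
                                have key := Groth.Agent.Helper6.NT.negfun3 T h2 u2 u4 u5 (by norm_num) 2 1 3 (by norm_num) (by norm_num)
                                linarith only [key, tap_2_4, taq_2_4, tap_2_5, taq_2_5, T.offDiag_nonneg u4 u5 hn_5_4.symm, T.w_pos u2, T.w_pos u4, T.w_pos u5]
                            · push Not at hx
                              have cl_2 := hx
                              clear hx
                              by_cases hx : ∃ j, (j ≠ u0 ∧ j ≠ u1 ∧ j ≠ u2 ∧ j ≠ u3 ∧ j ≠ u4) ∧ T.a u3 j ≠ 0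
                              · obtain ⟨u5, ⟨hn_5_0, hn_5_1, hn_5_2, hn_5_3, hn_5_4⟩, e_3_5⟩ := hx
                                have z_0_5 : T.a u0 u5 = 0 := cl_0 u5 ⟨hn_5_0, hn_5_1, hn_5_2⟩
                                have z_1_5 : T.a u1 u5 = 0 := cl_1 u5 ⟨hn_5_0, hn_5_1, hn_5_2, hn_5_3⟩
                                have z_2_5 : T.a u2 u5 = 0 := cl_2 u5 ⟨hn_5_0, hn_5_1, hn_5_2, hn_5_3, hn_5_4⟩
                                rcases Groth.Agent.Helper6.NT.edge5 T h2 (by norm_num) u3 u5 hn_5_3.symm e_3_5 with ⟨tw_3_5, tap_3_5, taq_3_5⟩ | ⟨tw_3_5, tap_3_5, taq_3_5⟩ | ⟨tw_3_5, tap_3_5, taq_3_5⟩ | ⟨tw_3_5, tap_3_5, taq_3_5⟩ | ⟨tw_3_5, tap_3_5, taq_3_5⟩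
                                · -- (3,5) S
                                  exfalso
                                  have key := Groth.Agent.Helper6.NT.negfun5 T h2 u0 u1 u2 u3 u5 (by norm_num) 2 3 1 2 1 (by norm_num) (by norm_num)
                                  linarith only [key, tap_0_1, taq_0_1, tap_0_2, taq_0_2, z_0_3, z_0_5, z_1_2, tap_1_3, taq_1_3, z_1_5, z_2_3, z_2_5, tap_3_5, taq_3_5, T.w_pos u0, T.w_pos u1, T.w_pos u2, T.w_pos u3, T.w_pos u5]
                                · -- (3,5) Dp
                                  exfalso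
                                  have key := Groth.Agent.Helper6.NT.negfun3 T h2 u1 u3 u5 (by norm_num) 2 2 1 (by norm_num) (by norm_num)
                                  linarith only [key, tap_1_3, taq_1_3, z_1_5, tap_3_5, taq_3_5, T.w_pos u1, T.w_pos u3, T.w_pos u5]
                                · -- (3,5) Dm
                                  exfalso
                                  have key := Groth.Agent.Helper6.NT.negfun3 T h2 u1 u3 u5 (by norm_num) 1 1 1 (by norm_num) (by norm_num)
                                  linarith only [key, tap_1_3, taq_1_3, z_1_5, tap_3_5, taq_3_5, T.w_pos u1, T.w_pos u3, T.w_pos u5]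
                                · -- (3,5) Tp
                                  exfalso
                                  have key := Groth.Agent.Helper6.NT.negfun3 T h2 u1 u3 u5 (by norm_num) 2 2 1 (by norm_num) (by norm_num)
                                  linarith only [key, tap_1_3, taq_1_3, z_1_5, tap_3_5, taq_3_5, T.w_pos u1, T.w_pos u3, T.w_pos u5]
                                · -- (3,5) Tm
                                  exfalso
                                  have key := Groth.Agent.Helper6.NT.negfun3 T h2 u1 u3 u5 (by norm_num) 2 2 3 (by norm_num) (by norm_num)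
                                  linarith only [key, tap_1_3, taq_1_3, z_1_5, tap_3_5, taq_3_5, T.w_pos u1, T.w_pos u3, T.w_pos u5]
                              · push Not at hx
                                have cl_3 := hx
                                clear hx
                                by_cases hx : ∃ j, (j ≠ u0 ∧ j ≠ u1 ∧ j ≠ u2 ∧ j ≠ u3 ∧ j ≠ u4) ∧ T.a u4 j ≠ 0
                                · obtain ⟨u5, ⟨hn_5_0, hn_5_1, hn_5_2, hn_5_3, hn_5_4⟩, e_4_5⟩ := hx
                                  have z_0_5 : T.a u0 u5 = 0 := cl_0 u5 ⟨hn_5_0, hn_5_1, hn_5_2⟩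
                                  have z_1_5 : T.a u1 u5 = 0 := cl_1 u5 ⟨hn_5_0, hn_5_1, hn_5_2, hn_5_3⟩
                                  have z_2_5 : T.a u2 u5 = 0 := cl_2 u5 ⟨hn_5_0, hn_5_1, hn_5_2, hn_5_3, hn_5_4⟩
                                  have z_3_5 : T.a u3 u5 = 0 := cl_3 u5 ⟨hn_5_0, hn_5_1, hn_5_2, hn_5_3, hn_5_4⟩
                                  rcases Groth.Agent.Helper6.NT.edge5 T h2 (by norm_num) u4 u5 hn_5_4.symm e_4_5 with ⟨tw_4_5, tap_4_5, taq_4_5⟩ | ⟨tw_4_5, tap_4_5, taq_4_5⟩ | ⟨tw_4_5, tap_4_5, taq_4_5⟩ | ⟨tw_4_5, tap_4_5, taq_4_5⟩ | ⟨tw_4_5, tap_4_5, taq_4_5⟩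
                                  · -- (4,5) S
                                    have hinj := Groth.Agent.Helper6.NT.inj6 u0 u1 u2 u3 u4 u5 hn_1_0 hn_2_0 hn_2_1 hn_3_0 hn_3_1 hn_3_2 hn_4_0 hn_4_1 hn_4_2 hn_4_3 hn_5_0 hn_5_1 hn_5_2 hn_5_3 hn_5_4
                                    have r_0 : -2 * T.m u0 + 1 * T.m u1 + 1 * T.m u2 = 0 := by
                                      have key := Groth.Agent.Helper6.NT.rowfun6 T u0 u1 u2 u3 u4 u5 hinj u0
                                      rw [(h2 u0).2, tap_0_1, tap_0_2, z_0_3, z_0_4, z_0_5] at key
                                      exact mul_left_cancel₀ (T.w_pos u0).ne' (by linarith only [key])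
                                    have r_1 : 1 * T.m u0 + -2 * T.m u1 + 2 * T.m u3 = 0 := by
                                      have key := Groth.Agent.Helper6.NT.rowfun6 T u0 u1 u2 u3 u4 u5 hinj u1
                                      rw [Groth.Agent.Helper6.NT.symm' T u1 u0, taq_0_1, (h2 u1).2, z_1_2, tap_1_3, z_1_4, z_1_5] at key
                                      exact mul_left_cancel₀ (T.w_pos u1).ne' (by linarith only [key])
                                    have r_2 : 1 * T.m u0 + -2 * T.m u2 + 1 * T.m u4 = 0 := by
                                      have key := Groth.Agent.Helper6.NT.rowfun6 T u0 u1 u2 u3 u4 u5 hinj u2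
                                      rw [Groth.Agent.Helper6.NT.symm' T u2 u0, taq_0_2, Groth.Agent.Helper6.NT.symm' T u2 u1, z_1_2, (h2 u2).2, z_2_3, tap_2_4, z_2_5] at key
                                      exact mul_left_cancel₀ (T.w_pos u2).ne' (by linarith only [key])
                                    have r_3 : 1 * T.m u1 + -2 * T.m u3 = 0 := by
                                      have key := Groth.Agent.Helper6.NT.rowfun6 T u0 u1 u2 u3 u4 u5 hinj u3
                                      rw [Groth.Agent.Helper6.NT.symm' T u3 u0, z_0_3, Groth.Agent.Helper6.NT.symm' T u3 u1, taq_1_3, Groth.Agent.Helper6.NT.symm' T u3 u2, z_2_3, (h2 u3).2, z_3_4, z_3_5] at key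
                                      exact mul_left_cancel₀ (T.w_pos u3).ne' (by linarith only [key])
                                    have r_4 : 1 * T.m u2 + -2 * T.m u4 + 1 * T.m u5 = 0 := by
                                      have key := Groth.Agent.Helper6.NT.rowfun6 T u0 u1 u2 u3 u4 u5 hinj u4
                                      rw [Groth.Agent.Helper6.NT.symm' T u4 u0, z_0_4, Groth.Agent.Helper6.NT.symm' T u4 u1, z_1_4, Groth.Agent.Helper6.NT.symm' T u4 u2, taq_2_4, Groth.Agent.Helper6.NT.symm' T u4 u3, z_3_4, (h2 u4).2, tap_4_5] at key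
                                      exact mul_left_cancel₀ (T.w_pos u4).ne' (by linarith only [key])
                                    have r_5 : 1 * T.m u4 + -2 * T.m u5 = 0 := by
                                      have key := Groth.Agent.Helper6.NT.rowfun6 T u0 u1 u2 u3 u4 u5 hinj u5
                                      rw [Groth.Agent.Helper6.NT.symm' T u5 u0, z_0_5, Groth.Agent.Helper6.NT.symm' T u5 u1, z_1_5, Groth.Agent.Helper6.NT.symm' T u5 u2, z_2_5, Groth.Agent.Helper6.NT.symm' T u5 u3, z_3_5, Groth.Agent.Helper6.NT.symm' T u5 u4, taq_4_5, (h2 u5).2] at key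
                                      exact mul_left_cancel₀ (T.w_pos u5).ne' (by linarith only [key])
                                    exfalso
                                    linarith only [r_0, r_1, r_2, r_3, r_4, r_5, T.m_pos u0, T.m_pos u1, T.m_pos u2, T.m_pos u3, T.m_pos u4, T.m_pos u5]
                                  · -- (4,5) Dp
                                    have hinj := Groth.Agent.Helper6.NT.inj6 u0 u1 u2 u3 u4 u5 hn_1_0 hn_2_0 hn_2_1 hn_3_0 hn_3_1 hn_3_2 hn_4_0 hn_4_1 hn_4_2 hn_4_3 hn_5_0 hn_5_1 hn_5_2 hn_5_3 hn_5_4
                                    have r_0 : -2 * T.m u0 + 1 * T.m u1 + 1 * T.m u2 = 0 := by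
                                      have key := Groth.Agent.Helper6.NT.rowfun6 T u0 u1 u2 u3 u4 u5 hinj u0
                                      rw [(h2 u0).2, tap_0_1, tap_0_2, z_0_3, z_0_4, z_0_5] at key
                                      exact mul_left_cancel₀ (T.w_pos u0).ne' (by linarith only [key])
                                    have r_1 : 1 * T.m u0 + -2 * T.m u1 + 2 * T.m u3 = 0 := by
                                      have key := Groth.Agent.Helper6.NT.rowfun6 T u0 u1 u2 u3 u4 u5 hinj u1
                                      rw [Groth.Agent.Helper6.NT.symm' T u1 u0, taq_0_1, (h2 u1).2, z_1_2, tap_1_3, z_1_4, z_1_5] at key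
                                      exact mul_left_cancel₀ (T.w_pos u1).ne' (by linarith only [key])
                                    have r_2 : 1 * T.m u0 + -2 * T.m u2 + 1 * T.m u4 = 0 := by
                                      have key := Groth.Agent.Helper6.NT.rowfun6 T u0 u1 u2 u3 u4 u5 hinj u2
                                      rw [Groth.Agent.Helper6.NT.symm' T u2 u0, taq_0_2, Groth.Agent.Helper6.NT.symm' T u2 u1, z_1_2, (h2 u2).2, z_2_3, tap_2_4, z_2_5] at key
                                      exact mul_left_cancel₀ (T.w_pos u2).ne' (by linarith only [key])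
                                    have r_3 : 1 * T.m u1 + -2 * T.m u3 = 0 := by
                                      have key := Groth.Agent.Helper6.NT.rowfun6 T u0 u1 u2 u3 u4 u5 hinj u3
                                      rw [Groth.Agent.Helper6.NT.symm' T u3 u0, z_0_3, Groth.Agent.Helper6.NT.symm' T u3 u1, taq_1_3, Groth.Agent.Helper6.NT.symm' T u3 u2, z_2_3, (h2 u3).2, z_3_4, z_3_5] at key
                                      exact mul_left_cancel₀ (T.w_pos u3).ne' (by linarith only [key])
                                    have r_4 : 1 * T.m u2 + -2 * T.m u4 + 2 * T.m u5 = 0 := by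
                                      have key := Groth.Agent.Helper6.NT.rowfun6 T u0 u1 u2 u3 u4 u5 hinj u4
                                      rw [Groth.Agent.Helper6.NT.symm' T u4 u0, z_0_4, Groth.Agent.Helper6.NT.symm' T u4 u1, z_1_4, Groth.Agent.Helper6.NT.symm' T u4 u2, taq_2_4, Groth.Agent.Helper6.NT.symm' T u4 u3, z_3_4, (h2 u4).2, tap_4_5] at key
                                      exact mul_left_cancel₀ (T.w_pos u4).ne' (by linarith only [key])
                                    have r_5 : 1 * T.m u4 + -2 * T.m u5 = 0 := by
                                      have key := Groth.Agent.Helper6.NT.rowfun6 T u0 u1 u2 u3 u4 u5 hinj u5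
                                      rw [Groth.Agent.Helper6.NT.symm' T u5 u0, z_0_5, Groth.Agent.Helper6.NT.symm' T u5 u1, z_1_5, Groth.Agent.Helper6.NT.symm' T u5 u2, z_2_5, Groth.Agent.Helper6.NT.symm' T u5 u3, z_3_5, Groth.Agent.Helper6.NT.symm' T u5 u4, taq_4_5, (h2 u5).2] at key
                                      exact mul_left_cancel₀ (T.w_pos u5).ne' (by linarith only [key])
                                    have f0 : T.m u3 = T.m u3 := rfl
                                    have f1 : T.m u1 = 2 * T.m u3 := by linarith only [r_0, r_1, r_2, r_3, r_4, r_5]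
                                    have f2 : T.m u0 = 2 * T.m u3 := by linarith only [r_0, r_1, r_2, r_3, r_4, r_5]
                                    have f3 : T.m u2 = 2 * T.m u3 := by linarith only [r_0, r_1, r_2, r_3, r_4, r_5]
                                    have f4 : T.m u4 = 2 * T.m u3 := by linarith only [r_0, r_1, r_2, r_3, r_4, r_5]
                                    have f5 : T.m u5 = T.m u3 := by linarith only [r_0, r_1, r_2, r_3, r_4, r_5]
                                    have f6 : T.w u3 = 2 * T.w u1 := by linarith only [tw_0_1, tw_0_2, tw_1_3, tw_2_4, tw_4_5]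
                                    have f7 : T.w u1 = T.w u1 := rfl
                                    have f8 : T.w u0 = T.w u1 := by linarith only [tw_0_1, tw_0_2, tw_1_3, tw_2_4, tw_4_5]
                                    have f9 : T.w u2 = T.w u1 := by linarith only [tw_0_1, tw_0_2, tw_1_3, tw_2_4, tw_4_5]
                                    have f10 : T.w u4 = T.w u1 := by linarith only [tw_0_1, tw_0_2, tw_1_3, tw_2_4, tw_4_5]
                                    have f11 : T.w u5 = 2 * T.w u1 := by linarith only [tw_0_1, tw_0_2, tw_1_3, tw_2_4, tw_4_5]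
                                    have f12 : T.a u3 u3 = -4 * T.w u1 := by have := (h2 u3).2; linarith only [this, tw_0_1, tw_0_2, tw_1_3, tw_2_4, tw_4_5]
                                    have f13 : T.a u3 u1 = 2 * T.w u1 := by rw [Groth.Agent.Helper6.NT.symm' T u3 u1]; linarith only [tap_1_3, tw_0_1, tw_0_2, tw_1_3, tw_2_4, tw_4_5]
                                    have f14 : T.a u3 u0 = 0 := by rw [Groth.Agent.Helper6.NT.symm' T u3 u0]; exact z_0_3
                                    have f15 : T.a u3 u2 = 0 := by rw [Groth.Agent.Helper6.NT.symm' T u3 u2]; exact z_2_3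
                                    have f16 : T.a u3 u4 = 0 := by exact z_3_4
                                    have f17 : T.a u3 u5 = 0 := by exact z_3_5
                                    have f18 : T.a u1 u1 = -2 * T.w u1 := by have := (h2 u1).2; linarith only [this, tw_0_1, tw_0_2, tw_1_3, tw_2_4, tw_4_5]
                                    have f19 : T.a u1 u0 = T.w u1 := by rw [Groth.Agent.Helper6.NT.symm' T u1 u0]; linarith only [tap_0_1, tw_0_1, tw_0_2, tw_1_3, tw_2_4, tw_4_5]
                                    have f20 : T.a u1 u2 = 0 := by exact z_1_2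
                                    have f21 : T.a u1 u4 = 0 := by exact z_1_4
                                    have f22 : T.a u1 u5 = 0 := by exact z_1_5
                                    have f23 : T.a u0 u0 = -2 * T.w u1 := by have := (h2 u0).2; linarith only [this, tw_0_1, tw_0_2, tw_1_3, tw_2_4, tw_4_5]
                                    have f24 : T.a u0 u2 = T.w u1 := by linarith only [tap_0_2, tw_0_1, tw_0_2, tw_1_3, tw_2_4, tw_4_5]
                                    have f25 : T.a u0 u4 = 0 := by exact z_0_4
                                    have f26 : T.a u0 u5 = 0 := by exact z_0_5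
                                    have f27 : T.a u2 u2 = -2 * T.w u1 := by have := (h2 u2).2; linarith only [this, tw_0_1, tw_0_2, tw_1_3, tw_2_4, tw_4_5]
                                    have f28 : T.a u2 u4 = T.w u1 := by linarith only [tap_2_4, tw_0_1, tw_0_2, tw_1_3, tw_2_4, tw_4_5]
                                    have f29 : T.a u2 u5 = 0 := by exact z_2_5
                                    have f30 : T.a u4 u4 = -2 * T.w u1 := by have := (h2 u4).2; linarith only [this, tw_0_1, tw_0_2, tw_1_3, tw_2_4, tw_4_5]
                                    have f31 : T.a u4 u5 = 2 * T.w u1 := by linarith only [tap_4_5, tw_0_1, tw_0_2, tw_1_3, tw_2_4, tw_4_5]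
                                    have f32 : T.a u5 u5 = -4 * T.w u1 := by have := (h2 u5).2; linarith only [this, tw_0_1, tw_0_2, tw_1_3, tw_2_4, tw_4_5]
                                    have hsig := Groth.Agent.Helper6.NT.inj6 u3 u1 u0 u2 u4 u5 hn_3_1.symm hn_3_0.symm hn_1_0.symm hn_3_2.symm hn_2_1 hn_2_0 hn_4_3 hn_4_1 hn_4_0 hn_4_2 hn_5_3 hn_5_1 hn_5_0 hn_5_2 hn_5_4
                                    exact ⟨Equiv.ofBijective _ (Finite.injective_iff_bijective.1 hsig), T.m u3, T.w u1, Or.inr (Or.inr (Or.inr (Or.inl ⟨f0, f1, f2, f3, f4, f5, f6, f7, f8, f9, f10, f11, f12, f13, f14, f15, f16, f17, f18, f19, f20, f21, f22, f23, f24, f25, f26, f27, f28, f29, f30, f31, f32⟩)))⟩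
                                  · -- (4,5) Dm
                                    have hinj := Groth.Agent.Helper6.NT.inj6 u0 u1 u2 u3 u4 u5 hn_1_0 hn_2_0 hn_2_1 hn_3_0 hn_3_1 hn_3_2 hn_4_0 hn_4_1 hn_4_2 hn_4_3 hn_5_0 hn_5_1 hn_5_2 hn_5_3 hn_5_4
                                    have r_0 : -2 * T.m u0 + 1 * T.m u1 + 1 * T.m u2 = 0 := by
                                      have key := Groth.Agent.Helper6.NT.rowfun6 T u0 u1 u2 u3 u4 u5 hinj u0
                                      rw [(h2 u0).2, tap_0_1, tap_0_2, z_0_3, z_0_4, z_0_5] at key
                                      exact mul_left_cancel₀ (T.w_pos u0).ne' (by linarith only [key])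
                                    have r_1 : 1 * T.m u0 + -2 * T.m u1 + 2 * T.m u3 = 0 := by
                                      have key := Groth.Agent.Helper6.NT.rowfun6 T u0 u1 u2 u3 u4 u5 hinj u1
                                      rw [Groth.Agent.Helper6.NT.symm' T u1 u0, taq_0_1, (h2 u1).2, z_1_2, tap_1_3, z_1_4, z_1_5] at key
                                      exact mul_left_cancel₀ (T.w_pos u1).ne' (by linarith only [key])
                                    have r_2 : 1 * T.m u0 + -2 * T.m u2 + 1 * T.m u4 = 0 := by
                                      have key := Groth.Agent.Helper6.NT.rowfun6 T u0 u1 u2 u3 u4 u5 hinj u2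
                                      rw [Groth.Agent.Helper6.NT.symm' T u2 u0, taq_0_2, Groth.Agent.Helper6.NT.symm' T u2 u1, z_1_2, (h2 u2).2, z_2_3, tap_2_4, z_2_5] at key
                                      exact mul_left_cancel₀ (T.w_pos u2).ne' (by linarith only [key])
                                    have r_3 : 1 * T.m u1 + -2 * T.m u3 = 0 := by
                                      have key := Groth.Agent.Helper6.NT.rowfun6 T u0 u1 u2 u3 u4 u5 hinj u3
                                      rw [Groth.Agent.Helper6.NT.symm' T u3 u0, z_0_3, Groth.Agent.Helper6.NT.symm' T u3 u1, taq_1_3, Groth.Agent.Helper6.NT.symm' T u3 u2, z_2_3, (h2 u3).2, z_3_4, z_3_5] at key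
                                      exact mul_left_cancel₀ (T.w_pos u3).ne' (by linarith only [key])
                                    have r_4 : 1 * T.m u2 + -2 * T.m u4 + 1 * T.m u5 = 0 := by
                                      have key := Groth.Agent.Helper6.NT.rowfun6 T u0 u1 u2 u3 u4 u5 hinj u4
                                      rw [Groth.Agent.Helper6.NT.symm' T u4 u0, z_0_4, Groth.Agent.Helper6.NT.symm' T u4 u1, z_1_4, Groth.Agent.Helper6.NT.symm' T u4 u2, taq_2_4, Groth.Agent.Helper6.NT.symm' T u4 u3, z_3_4, (h2 u4).2, tap_4_5] at key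
                                      exact mul_left_cancel₀ (T.w_pos u4).ne' (by linarith only [key])
                                    have r_5 : 2 * T.m u4 + -2 * T.m u5 = 0 := by
                                      have key := Groth.Agent.Helper6.NT.rowfun6 T u0 u1 u2 u3 u4 u5 hinj u5
                                      rw [Groth.Agent.Helper6.NT.symm' T u5 u0, z_0_5, Groth.Agent.Helper6.NT.symm' T u5 u1, z_1_5, Groth.Agent.Helper6.NT.symm' T u5 u2, z_2_5, Groth.Agent.Helper6.NT.symm' T u5 u3, z_3_5, Groth.Agent.Helper6.NT.symm' T u5 u4, taq_4_5, (h2 u5).2] at key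
                                      exact mul_left_cancel₀ (T.w_pos u5).ne' (by linarith only [key])
                                    have f0 : T.m u5 = 2 * T.m u3 := by linarith only [r_0, r_1, r_2, r_3, r_4, r_5]
                                    have f1 : T.m u4 = 2 * T.m u3 := by linarith only [r_0, r_1, r_2, r_3, r_4, r_5]
                                    have f2 : T.m u2 = 2 * T.m u3 := by linarith only [r_0, r_1, r_2, r_3, r_4, r_5]
                                    have f3 : T.m u0 = 2 * T.m u3 := by linarith only [r_0, r_1, r_2, r_3, r_4, r_5]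
                                    have f4 : T.m u1 = 2 * T.m u3 := by linarith only [r_0, r_1, r_2, r_3, r_4, r_5]
                                    have f5 : T.m u3 = T.m u3 := rfl
                                    have f6 : T.w u5 = T.w u5 := rfl
                                    have f7 : T.w u4 = 2 * T.w u5 := by linarith only [tw_0_1, tw_0_2, tw_1_3, tw_2_4, tw_4_5]
                                    have f8 : T.w u2 = 2 * T.w u5 := by linarith only [tw_0_1, tw_0_2, tw_1_3, tw_2_4, tw_4_5]
                                    have f9 : T.w u0 = 2 * T.w u5 := by linarith only [tw_0_1, tw_0_2, tw_1_3, tw_2_4, tw_4_5]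
                                    have f10 : T.w u1 = 2 * T.w u5 := by linarith only [tw_0_1, tw_0_2, tw_1_3, tw_2_4, tw_4_5]
                                    have f11 : T.w u3 = 4 * T.w u5 := by linarith only [tw_0_1, tw_0_2, tw_1_3, tw_2_4, tw_4_5]
                                    have f12 : T.a u5 u5 = -2 * T.w u5 := by have := (h2 u5).2; linarith only [this, tw_0_1, tw_0_2, tw_1_3, tw_2_4, tw_4_5]
                                    have f13 : T.a u5 u4 = 2 * T.w u5 := by rw [Groth.Agent.Helper6.NT.symm' T u5 u4]; linarith only [tap_4_5, tw_0_1, tw_0_2, tw_1_3, tw_2_4, tw_4_5]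
                                    have f14 : T.a u5 u2 = 0 := by rw [Groth.Agent.Helper6.NT.symm' T u5 u2]; exact z_2_5
                                    have f15 : T.a u5 u0 = 0 := by rw [Groth.Agent.Helper6.NT.symm' T u5 u0]; exact z_0_5
                                    have f16 : T.a u5 u1 = 0 := by rw [Groth.Agent.Helper6.NT.symm' T u5 u1]; exact z_1_5
                                    have f17 : T.a u5 u3 = 0 := by rw [Groth.Agent.Helper6.NT.symm' T u5 u3]; exact z_3_5
                                    have f18 : T.a u4 u4 = -4 * T.w u5 := by have := (h2 u4).2; linarith only [this, tw_0_1, tw_0_2, tw_1_3, tw_2_4, tw_4_5]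
                                    have f19 : T.a u4 u2 = 2 * T.w u5 := by rw [Groth.Agent.Helper6.NT.symm' T u4 u2]; linarith only [tap_2_4, tw_0_1, tw_0_2, tw_1_3, tw_2_4, tw_4_5]
                                    have f20 : T.a u4 u0 = 0 := by rw [Groth.Agent.Helper6.NT.symm' T u4 u0]; exact z_0_4
                                    have f21 : T.a u4 u1 = 0 := by rw [Groth.Agent.Helper6.NT.symm' T u4 u1]; exact z_1_4
                                    have f22 : T.a u4 u3 = 0 := by rw [Groth.Agent.Helper6.NT.symm' T u4 u3]; exact z_3_4
                                    have f23 : T.a u2 u2 = -4 * T.w u5 := by have := (h2 u2).2; linarith only [this, tw_0_1, tw_0_2, tw_1_3, tw_2_4, tw_4_5]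
                                    have f24 : T.a u2 u0 = 2 * T.w u5 := by rw [Groth.Agent.Helper6.NT.symm' T u2 u0]; linarith only [tap_0_2, tw_0_1, tw_0_2, tw_1_3, tw_2_4, tw_4_5]
                                    have f25 : T.a u2 u1 = 0 := by rw [Groth.Agent.Helper6.NT.symm' T u2 u1]; exact z_1_2
                                    have f26 : T.a u2 u3 = 0 := by exact z_2_3
                                    have f27 : T.a u0 u0 = -4 * T.w u5 := by have := (h2 u0).2; linarith only [this, tw_0_1, tw_0_2, tw_1_3, tw_2_4, tw_4_5]
                                    have f28 : T.a u0 u1 = 2 * T.w u5 := by linarith only [tap_0_1, tw_0_1, tw_0_2, tw_1_3, tw_2_4, tw_4_5]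
                                    have f29 : T.a u0 u3 = 0 := by exact z_0_3
                                    have f30 : T.a u1 u1 = -4 * T.w u5 := by have := (h2 u1).2; linarith only [this, tw_0_1, tw_0_2, tw_1_3, tw_2_4, tw_4_5]
                                    have f31 : T.a u1 u3 = 4 * T.w u5 := by linarith only [tap_1_3, tw_0_1, tw_0_2, tw_1_3, tw_2_4, tw_4_5]
                                    have f32 : T.a u3 u3 = -8 * T.w u5 := by have := (h2 u3).2; linarith only [this, tw_0_1, tw_0_2, tw_1_3, tw_2_4, tw_4_5]
                                    have hsig := Groth.Agent.Helper6.NT.inj6 u5 u4 u2 u0 u1 u3 hn_5_4.symm hn_5_2.symm hn_4_2.symm hn_5_0.symm hn_4_0.symm hn_2_0.symm hn_5_1.symm hn_4_1.symm hn_2_1.symm hn_1_0 hn_5_3.symm hn_4_3.symm hn_3_2 hn_3_0 hn_3_1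
                                    exact ⟨Equiv.ofBijective _ (Finite.injective_iff_bijective.1 hsig), T.m u3, T.w u5, Or.inr (Or.inl ⟨f0, f1, f2, f3, f4, f5, f6, f7, f8, f9, f10, f11, f12, f13, f14, f15, f16, f17, f18, f19, f20, f21, f22, f23, f24, f25, f26, f27, f28, f29, f30, f31, f32⟩)⟩
                                  · -- (4,5) Tp
                                    exfalso
                                    have key := Groth.Agent.Helper6.NT.negfun3 T h2 u2 u4 u5 (by norm_num) 1 2 1 (by norm_num) (by norm_num)
                                    linarith only [key, tap_2_4, taq_2_4, z_2_5, tap_4_5, taq_4_5, T.w_pos u2, T.w_pos u4, T.w_pos u5]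
                                  · -- (4,5) Tm
                                    exfalso
                                    have key := Groth.Agent.Helper6.NT.negfun3 T h2 u2 u4 u5 (by norm_num) 1 2 3 (by norm_num) (by norm_num)
                                    linarith only [key, tap_2_4, taq_2_4, z_2_5, tap_4_5, taq_4_5, T.w_pos u2, T.w_pos u4, T.w_pos u5]
                                · push Not at hx
                                  have cl_4 := hx
                                  clear hx
                                  exfalso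
                                  refine Groth.Agent.Helper6.NT.closed_contra T [u0, u1, u2, u3, u4] (by simp) (by simp) ?_
                                  intro i hi j hj
                                  simp only [List.mem_cons, List.not_mem_nil, or_false, not_or] at hi hj
                                  rcases hi with rfl | rfl | rfl | rfl | rfl
                                  · exact cl_0 j ⟨hj.1, hj.2.1, hj.2.2.1⟩
                                  · exact cl_1 j ⟨hj.1, hj.2.1, hj.2.2.1, hj.2.2.2.1⟩
                                  · exact cl_2 j ⟨hj.1, hj.2.1, hj.2.2.1, hj.2.2.2.1, hj.2.2.2.2⟩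
                                  · exact cl_3 j ⟨hj.1, hj.2.1, hj.2.2.1, hj.2.2.2.1, hj.2.2.2.2⟩
                                  · exact cl_4 j ⟨hj.1, hj.2.1, hj.2.2.1, hj.2.2.2.1, hj.2.2.2.2⟩
                          · -- (3,4) nonzero
                            obtain ⟨lbp_3_4, lbq_3_4⟩ := Groth.Agent.Helper6.NT.lb T u3 u4 hn_4_3.symm nz_3_4
                            exfalso
                            have key := Groth.Agent.Helper6.NT.negfun5 T h2 u0 u1 u2 u3 u4 (by norm_num) 2 3 2 2 2 (by norm_num) (by norm_num)
                            linarith only [key, tap_0_1, taq_0_1, tap_0_2, taq_0_2, z_0_3, z_0_4, z_1_2, tap_1_3, taq_1_3, z_1_4, z_2_3, tap_2_4, taq_2_4, lbp_3_4, lbq_3_4, T.w_pos u0, T.w_pos u1, T.w_pos u2, T.w_pos u3, T.w_pos u4]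
                        · -- (2,4) Dp
                          exfalso
                          have key := Groth.Agent.Helper6.NT.negfun5 T h2 u0 u1 u2 u3 u4 (by norm_num) 2 2 2 1 1 (by norm_num) (by norm_num)
                          linarith only [key, tap_0_1, taq_0_1, tap_0_2, taq_0_2, z_0_3, z_0_4, z_1_2, tap_1_3, taq_1_3, z_1_4, z_2_3, tap_2_4, taq_2_4, T.offDiag_nonneg u3 u4 hn_4_3.symm, T.w_pos u0, T.w_pos u1, T.w_pos u2, T.w_pos u3, T.w_pos u4]
                        · -- (2,4) Dm
                          exfalso
                          have key := Groth.Agent.Helper6.NT.negfun5 T h2 u0 u1 u2 u3 u4 (by norm_num) 2 2 2 1 2 (by norm_num) (by norm_num)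
                          linarith only [key, tap_0_1, taq_0_1, tap_0_2, taq_0_2, z_0_3, z_0_4, z_1_2, tap_1_3, taq_1_3, z_1_4, z_2_3, tap_2_4, taq_2_4, T.offDiag_nonneg u3 u4 hn_4_3.symm, T.w_pos u0, T.w_pos u1, T.w_pos u2, T.w_pos u3, T.w_pos u4]
                        · -- (2,4) Tp
                          exfalso
                          have key := Groth.Agent.Helper6.NT.negfun3 T h2 u0 u2 u4 (by norm_num) 1 2 1 (by norm_num) (by norm_num)
                          linarith only [key, tap_0_2, taq_0_2, z_0_4, tap_2_4, taq_2_4, T.w_pos u0, T.w_pos u2, T.w_pos u4]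
                        · -- (2,4) Tm
                          exfalso
                          have key := Groth.Agent.Helper6.NT.negfun3 T h2 u0 u2 u4 (by norm_num) 1 2 3 (by norm_num) (by norm_num)
                          linarith only [key, tap_0_2, taq_0_2, z_0_4, tap_2_4, taq_2_4, T.w_pos u0, T.w_pos u2, T.w_pos u4]
                      · push Not at hx
                        have cl_2 := hx
                        clear hx
                        by_cases hx : ∃ j, (j ≠ u0 ∧ j ≠ u1 ∧ j ≠ u2 ∧ j ≠ u3) ∧ T.a u3 j ≠ 0
                        · obtain ⟨u4, ⟨hn_4_0, hn_4_1, hn_4_2, hn_4_3⟩, e_3_4⟩ := hx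
                          have z_0_4 : T.a u0 u4 = 0 := cl_0 u4 ⟨hn_4_0, hn_4_1, hn_4_2⟩
                          have z_1_4 : T.a u1 u4 = 0 := cl_1 u4 ⟨hn_4_0, hn_4_1, hn_4_2, hn_4_3⟩
                          have z_2_4 : T.a u2 u4 = 0 := cl_2 u4 ⟨hn_4_0, hn_4_1, hn_4_2, hn_4_3⟩
                          rcases Groth.Agent.Helper6.NT.edge5 T h2 (by norm_num) u3 u4 hn_4_3.symm e_3_4 with ⟨tw_3_4, tap_3_4, taq_3_4⟩ | ⟨tw_3_4, tap_3_4, taq_3_4⟩ | ⟨tw_3_4, tap_3_4, taq_3_4⟩ | ⟨tw_3_4, tap_3_4, taq_3_4⟩ | ⟨tw_3_4, tap_3_4, taq_3_4⟩
                          · -- (3,4) S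
                            exfalso
                            have key := Groth.Agent.Helper6.NT.negfun5 T h2 u0 u1 u2 u3 u4 (by norm_num) 2 3 1 2 1 (by norm_num) (by norm_num)
                            linarith only [key, tap_0_1, taq_0_1, tap_0_2, taq_0_2, z_0_3, z_0_4, z_1_2, tap_1_3, taq_1_3, z_1_4, z_2_3, z_2_4, tap_3_4, taq_3_4, T.w_pos u0, T.w_pos u1, T.w_pos u2, T.w_pos u3, T.w_pos u4]
                          · -- (3,4) Dp
                            exfalso
                            have key := Groth.Agent.Helper6.NT.negfun3 T h2 u1 u3 u4 (by norm_num) 2 2 1 (by norm_num) (by norm_num)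
                            linarith only [key, tap_1_3, taq_1_3, z_1_4, tap_3_4, taq_3_4, T.w_pos u1, T.w_pos u3, T.w_pos u4]
                          · -- (3,4) Dm
                            exfalso
                            have key := Groth.Agent.Helper6.NT.negfun3 T h2 u1 u3 u4 (by norm_num) 1 1 1 (by norm_num) (by norm_num)
                            linarith only [key, tap_1_3, taq_1_3, z_1_4, tap_3_4, taq_3_4, T.w_pos u1, T.w_pos u3, T.w_pos u4]
                          · -- (3,4) Tp
                            exfalso
                            have key := Groth.Agent.Helper6.NT.negfun3 T h2 u1 u3 u4 (by norm_num) 2 2 1 (by norm_num) (by norm_num)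
                            linarith only [key, tap_1_3, taq_1_3, z_1_4, tap_3_4, taq_3_4, T.w_pos u1, T.w_pos u3, T.w_pos u4]
                          · -- (3,4) Tm
                            exfalso
                            have key := Groth.Agent.Helper6.NT.negfun3 T h2 u1 u3 u4 (by norm_num) 2 2 3 (by norm_num) (by norm_num)
                            linarith only [key, tap_1_3, taq_1_3, z_1_4, tap_3_4, taq_3_4, T.w_pos u1, T.w_pos u3, T.w_pos u4]
                        · push Not at hx
                          have cl_3 := hx
                          clear hx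
                          exfalso
                          refine Groth.Agent.Helper6.NT.closed_contra T [u0, u1, u2, u3] (by simp) (by simp) ?_
                          intro i hi j hj
                          simp only [List.mem_cons, List.not_mem_nil, or_false, not_or] at hi hj
                          rcases hi with rfl | rfl | rfl | rfl
                          · exact cl_0 j ⟨hj.1, hj.2.1, hj.2.2.1⟩
                          · exact cl_1 j ⟨hj.1, hj.2.1, hj.2.2.1, hj.2.2.2⟩
                          · exact cl_2 j ⟨hj.1, hj.2.1, hj.2.2.1, hj.2.2.2⟩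
                          · exact cl_3 j ⟨hj.1, hj.2.1, hj.2.2.1, hj.2.2.2⟩
                  · -- (2,3) nonzero
                    obtain ⟨lbp_2_3, lbq_2_3⟩ := Groth.Agent.Helper6.NT.lb T u2 u3 hn_3_2.symm nz_2_3
                    exfalso
                    have key := Groth.Agent.Helper6.NT.negfun4 T h2 u0 u1 u2 u3 (by norm_num) 2 3 2 2 (by norm_num) (by norm_num)
                    linarith only [key, tap_0_1, taq_0_1, tap_0_2, taq_0_2, z_0_3, z_1_2, tap_1_3, taq_1_3, lbp_2_3, lbq_2_3, T.w_pos u0, T.w_pos u1, T.w_pos u2, T.w_pos u3]
                · -- (1,3) Dm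
                  rcases eq_or_ne (T.a u2 u3) 0 with z_2_3 | nz_2_3
                  · -- (2,3) zero
                    by_cases hx : ∃ j, (j ≠ u0 ∧ j ≠ u1 ∧ j ≠ u2 ∧ j ≠ u3) ∧ T.a u1 j ≠ 0
                    · obtain ⟨u4, ⟨hn_4_0, hn_4_1, hn_4_2, hn_4_3⟩, e_1_4⟩ := hx
                      have z_0_4 : T.a u0 u4 = 0 := cl_0 u4 ⟨hn_4_0, hn_4_1, hn_4_2⟩
                      rcases Groth.Agent.Helper6.NT.edge5 T h2 (by norm_num) u1 u4 hn_4_1.symm e_1_4 with ⟨tw_1_4, tap_1_4, taq_1_4⟩ | ⟨tw_1_4, tap_1_4, taq_1_4⟩ | ⟨tw_1_4, tap_1_4, taq_1_4⟩ | ⟨tw_1_4, tap_1_4, taq_1_4⟩ | ⟨tw_1_4, tap_1_4, taq_1_4⟩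
                      · -- (1,4) S
                        exfalso
                        have key := Groth.Agent.Helper6.NT.negfun4 T h2 u0 u1 u3 u4 (by norm_num) 1 2 2 1 (by norm_num) (by norm_num)
                        linarith only [key, tap_0_1, taq_0_1, z_0_3, z_0_4, tap_1_3, taq_1_3, tap_1_4, taq_1_4, T.offDiag_nonneg u3 u4 hn_4_3.symm, T.w_pos u0, T.w_pos u1, T.w_pos u3, T.w_pos u4]
                      · -- (1,4) Dp
                        exfalso
                        have key := Groth.Agent.Helper6.NT.negfun3 T h2 u1 u3 u4 (by norm_num) 2 2 1 (by norm_num) (by norm_num)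
                        linarith only [key, tap_1_3, taq_1_3, tap_1_4, taq_1_4, T.offDiag_nonneg u3 u4 hn_4_3.symm, T.w_pos u1, T.w_pos u3, T.w_pos u4]
                      · -- (1,4) Dm
                        exfalso
                        have key := Groth.Agent.Helper6.NT.negfun3 T h2 u1 u3 u4 (by norm_num) 1 1 1 (by norm_num) (by norm_num)
                        linarith only [key, tap_1_3, taq_1_3, tap_1_4, taq_1_4, T.offDiag_nonneg u3 u4 hn_4_3.symm, T.w_pos u1, T.w_pos u3, T.w_pos u4]
                      · -- (1,4) Tp
                        exfalso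
                        have key := Groth.Agent.Helper6.NT.negfun3 T h2 u1 u3 u4 (by norm_num) 2 2 1 (by norm_num) (by norm_num)
                        linarith only [key, tap_1_3, taq_1_3, tap_1_4, taq_1_4, T.offDiag_nonneg u3 u4 hn_4_3.symm, T.w_pos u1, T.w_pos u3, T.w_pos u4]
                      · -- (1,4) Tm
                        exfalso
                        have key := Groth.Agent.Helper6.NT.negfun3 T h2 u1 u3 u4 (by norm_num) 2 2 3 (by norm_num) (by norm_num)
                        linarith only [key, tap_1_3, taq_1_3, tap_1_4, taq_1_4, T.offDiag_nonneg u3 u4 hn_4_3.symm, T.w_pos u1, T.w_pos u3, T.w_pos u4]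
                    · push Not at hx
                      have cl_1 := hx
                      clear hx
                      by_cases hx : ∃ j, (j ≠ u0 ∧ j ≠ u1 ∧ j ≠ u2 ∧ j ≠ u3) ∧ T.a u2 j ≠ 0
                      · obtain ⟨u4, ⟨hn_4_0, hn_4_1, hn_4_2, hn_4_3⟩, e_2_4⟩ := hx
                        have z_0_4 : T.a u0 u4 = 0 := cl_0 u4 ⟨hn_4_0, hn_4_1, hn_4_2⟩
                        have z_1_4 : T.a u1 u4 = 0 := cl_1 u4 ⟨hn_4_0, hn_4_1, hn_4_2, hn_4_3⟩
                        rcases Groth.Agent.Helper6.NT.edge5 T h2 (by norm_num) u2 u4 hn_4_2.symm e_2_4 with ⟨tw_2_4, tap_2_4, taq_2_4⟩ | ⟨tw_2_4, tap_2_4, taq_2_4⟩ | ⟨tw_2_4, tap_2_4, taq_2_4⟩ | ⟨tw_2_4, tap_2_4, taq_2_4⟩ | ⟨tw_2_4, tap_2_4, taq_2_4⟩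
                        · -- (2,4) S
                          rcases eq_or_ne (T.a u3 u4) 0 with z_3_4 | nz_3_4
                          · -- (3,4) zero
                            by_cases hx : ∃ j, (j ≠ u0 ∧ j ≠ u1 ∧ j ≠ u2 ∧ j ≠ u3 ∧ j ≠ u4) ∧ T.a u2 j ≠ 0
                            · obtain ⟨u5, ⟨hn_5_0, hn_5_1, hn_5_2, hn_5_3, hn_5_4⟩, e_2_5⟩ := hx
                              have z_0_5 : T.a u0 u5 = 0 := cl_0 u5 ⟨hn_5_0, hn_5_1, hn_5_2⟩
                              have z_1_5 : T.a u1 u5 = 0 := cl_1 u5 ⟨hn_5_0, hn_5_1, hn_5_2, hn_5_3⟩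
                              rcases Groth.Agent.Helper6.NT.edge5 T h2 (by norm_num) u2 u5 hn_5_2.symm e_2_5 with ⟨tw_2_5, tap_2_5, taq_2_5⟩ | ⟨tw_2_5, tap_2_5, taq_2_5⟩ | ⟨tw_2_5, tap_2_5, taq_2_5⟩ | ⟨tw_2_5, tap_2_5, taq_2_5⟩ | ⟨tw_2_5, tap_2_5, taq_2_5⟩
                              · -- (2,5) S
                                rcases eq_or_ne (T.a u3 u5) 0 with z_3_5 | nz_3_5
                                · -- (3,5) zero
                                  rcases eq_or_ne (T.a u4 u5) 0 with z_4_5 | nz_4_5
                                  · -- (4,5) zero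
                                    have hinj := Groth.Agent.Helper6.NT.inj6 u0 u1 u2 u3 u4 u5 hn_1_0 hn_2_0 hn_2_1 hn_3_0 hn_3_1 hn_3_2 hn_4_0 hn_4_1 hn_4_2 hn_4_3 hn_5_0 hn_5_1 hn_5_2 hn_5_3 hn_5_4
                                    have r_0 : -2 * T.m u0 + 1 * T.m u1 + 1 * T.m u2 = 0 := by
                                      have key := Groth.Agent.Helper6.NT.rowfun6 T u0 u1 u2 u3 u4 u5 hinj u0
                                      rw [(h2 u0).2, tap_0_1, tap_0_2, z_0_3, z_0_4, z_0_5] at key
                                      exact mul_left_cancel₀ (T.w_pos u0).ne' (by linarith only [key])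
                                    have r_1 : 1 * T.m u0 + -2 * T.m u1 + 1 * T.m u3 = 0 := by
                                      have key := Groth.Agent.Helper6.NT.rowfun6 T u0 u1 u2 u3 u4 u5 hinj u1
                                      rw [Groth.Agent.Helper6.NT.symm' T u1 u0, taq_0_1, (h2 u1).2, z_1_2, tap_1_3, z_1_4, z_1_5] at key
                                      exact mul_left_cancel₀ (T.w_pos u1).ne' (by linarith only [key])
                                    have r_2 : 1 * T.m u0 + -2 * T.m u2 + 1 * T.m u4 + 1 * T.m u5 = 0 := by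
                                      have key := Groth.Agent.Helper6.NT.rowfun6 T u0 u1 u2 u3 u4 u5 hinj u2
                                      rw [Groth.Agent.Helper6.NT.symm' T u2 u0, taq_0_2, Groth.Agent.Helper6.NT.symm' T u2 u1, z_1_2, (h2 u2).2, z_2_3, tap_2_4, tap_2_5] at key
                                      exact mul_left_cancel₀ (T.w_pos u2).ne' (by linarith only [key])
                                    have r_3 : 2 * T.m u1 + -2 * T.m u3 = 0 := by
                                      have key := Groth.Agent.Helper6.NT.rowfun6 T u0 u1 u2 u3 u4 u5 hinj u3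
                                      rw [Groth.Agent.Helper6.NT.symm' T u3 u0, z_0_3, Groth.Agent.Helper6.NT.symm' T u3 u1, taq_1_3, Groth.Agent.Helper6.NT.symm' T u3 u2, z_2_3, (h2 u3).2, z_3_4, z_3_5] at key
                                      exact mul_left_cancel₀ (T.w_pos u3).ne' (by linarith only [key])
                                    have r_4 : 1 * T.m u2 + -2 * T.m u4 = 0 := by
                                      have key := Groth.Agent.Helper6.NT.rowfun6 T u0 u1 u2 u3 u4 u5 hinj u4
                                      rw [Groth.Agent.Helper6.NT.symm' T u4 u0, z_0_4, Groth.Agent.Helper6.NT.symm' T u4 u1, z_1_4, Groth.Agent.Helper6.NT.symm' T u4 u2, taq_2_4, Groth.Agent.Helper6.NT.symm' T u4 u3, z_3_4, (h2 u4).2, z_4_5] at key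
                                      exact mul_left_cancel₀ (T.w_pos u4).ne' (by linarith only [key])
                                    have r_5 : 1 * T.m u2 + -2 * T.m u5 = 0 := by
                                      have key := Groth.Agent.Helper6.NT.rowfun6 T u0 u1 u2 u3 u4 u5 hinj u5
                                      rw [Groth.Agent.Helper6.NT.symm' T u5 u0, z_0_5, Groth.Agent.Helper6.NT.symm' T u5 u1, z_1_5, Groth.Agent.Helper6.NT.symm' T u5 u2, taq_2_5, Groth.Agent.Helper6.NT.symm' T u5 u3, z_3_5, Groth.Agent.Helper6.NT.symm' T u5 u4, z_4_5, (h2 u5).2] at key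
                                      exact mul_left_cancel₀ (T.w_pos u5).ne' (by linarith only [key])
                                    have f0 : T.m u3 = 2 * T.m u4 := by linarith only [r_0, r_1, r_2, r_3, r_4, r_5]
                                    have f1 : T.m u1 = 2 * T.m u4 := by linarith only [r_0, r_1, r_2, r_3, r_4, r_5]
                                    have f2 : T.m u0 = 2 * T.m u4 := by linarith only [r_0, r_1, r_2, r_3, r_4, r_5]
                                    have f3 : T.m u2 = 2 * T.m u4 := by linarith only [r_0, r_1, r_2, r_3, r_4, r_5]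
                                    have f4 : T.m u4 = T.m u4 := rfl
                                    have f5 : T.m u5 = T.m u4 := by linarith only [r_0, r_1, r_2, r_3, r_4, r_5]
                                    have f6 : T.w u3 = T.w u3 := rfl
                                    have f7 : T.w u1 = 2 * T.w u3 := by linarith only [tw_0_1, tw_0_2, tw_1_3, tw_2_4, tw_2_5]
                                    have f8 : T.w u0 = 2 * T.w u3 := by linarith only [tw_0_1, tw_0_2, tw_1_3, tw_2_4, tw_2_5]
                                    have f9 : T.w u2 = 2 * T.w u3 := by linarith only [tw_0_1, tw_0_2, tw_1_3, tw_2_4, tw_2_5]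
                                    have f10 : T.w u4 = 2 * T.w u3 := by linarith only [tw_0_1, tw_0_2, tw_1_3, tw_2_4, tw_2_5]
                                    have f11 : T.w u5 = 2 * T.w u3 := by linarith only [tw_0_1, tw_0_2, tw_1_3, tw_2_4, tw_2_5]
                                    have f12 : T.a u3 u3 = -2 * T.w u3 := by have := (h2 u3).2; linarith only [this, tw_0_1, tw_0_2, tw_1_3, tw_2_4, tw_2_5]
                                    have f13 : T.a u3 u1 = 2 * T.w u3 := by rw [Groth.Agent.Helper6.NT.symm' T u3 u1]; linarith only [tap_1_3, tw_0_1, tw_0_2, tw_1_3, tw_2_4, tw_2_5]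
                                    have f14 : T.a u3 u0 = 0 := by rw [Groth.Agent.Helper6.NT.symm' T u3 u0]; exact z_0_3
                                    have f15 : T.a u3 u2 = 0 := by rw [Groth.Agent.Helper6.NT.symm' T u3 u2]; exact z_2_3
                                    have f16 : T.a u3 u4 = 0 := by exact z_3_4
                                    have f17 : T.a u3 u5 = 0 := by exact z_3_5
                                    have f18 : T.a u1 u1 = -4 * T.w u3 := by have := (h2 u1).2; linarith only [this, tw_0_1, tw_0_2, tw_1_3, tw_2_4, tw_2_5]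
                                    have f19 : T.a u1 u0 = 2 * T.w u3 := by rw [Groth.Agent.Helper6.NT.symm' T u1 u0]; linarith only [tap_0_1, tw_0_1, tw_0_2, tw_1_3, tw_2_4, tw_2_5]
                                    have f20 : T.a u1 u2 = 0 := by exact z_1_2
                                    have f21 : T.a u1 u4 = 0 := by exact z_1_4
                                    have f22 : T.a u1 u5 = 0 := by exact z_1_5
                                    have f23 : T.a u0 u0 = -4 * T.w u3 := by have := (h2 u0).2; linarith only [this, tw_0_1, tw_0_2, tw_1_3, tw_2_4, tw_2_5]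
                                    have f24 : T.a u0 u2 = 2 * T.w u3 := by linarith only [tap_0_2, tw_0_1, tw_0_2, tw_1_3, tw_2_4, tw_2_5]
                                    have f25 : T.a u0 u4 = 0 := by exact z_0_4
                                    have f26 : T.a u0 u5 = 0 := by exact z_0_5
                                    have f27 : T.a u2 u2 = -4 * T.w u3 := by have := (h2 u2).2; linarith only [this, tw_0_1, tw_0_2, tw_1_3, tw_2_4, tw_2_5]
                                    have f28 : T.a u2 u4 = 2 * T.w u3 := by linarith only [tap_2_4, tw_0_1, tw_0_2, tw_1_3, tw_2_4, tw_2_5]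
                                    have f29 : T.a u2 u5 = 2 * T.w u3 := by linarith only [tap_2_5, tw_0_1, tw_0_2, tw_1_3, tw_2_4, tw_2_5]
                                    have f30 : T.a u4 u4 = -4 * T.w u3 := by have := (h2 u4).2; linarith only [this, tw_0_1, tw_0_2, tw_1_3, tw_2_4, tw_2_5]
                                    have f31 : T.a u4 u5 = 0 := by exact z_4_5
                                    have f32 : T.a u5 u5 = -4 * T.w u3 := by have := (h2 u5).2; linarith only [this, tw_0_1, tw_0_2, tw_1_3, tw_2_4, tw_2_5]
                                    have hsig := Groth.Agent.Helper6.NT.inj6 u3 u1 u0 u2 u4 u5 hn_3_1.symm hn_3_0.symm hn_1_0.symm hn_3_2.symm hn_2_1 hn_2_0 hn_4_3 hn_4_1 hn_4_0 hn_4_2 hn_5_3 hn_5_1 hn_5_0 hn_5_2 hn_5_4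
                                    exact ⟨Equiv.ofBijective _ (Finite.injective_iff_bijective.1 hsig), T.m u4, T.w u3, Or.inr (Or.inr (Or.inr (Or.inr (Or.inr (Or.inl ⟨f0, f1, f2, f3, f4, f5, f6, f7, f8, f9, f10, f11, f12, f13, f14, f15, f16, f17, f18, f19, f20, f21, f22, f23, f24, f25, f26, f27, f28, f29, f30, f31, f32⟩)))))⟩
                                  · -- (4,5) nonzero
                                    obtain ⟨lbp_4_5, lbq_4_5⟩ := Groth.Agent.Helper6.NT.lb T u4 u5 hn_5_4.symm nz_4_5
                                    exfalso
                                    have key := Groth.Agent.Helper6.NT.negfun3 T h2 u2 u4 u5 (by norm_num) 1 1 1 (by norm_num) (by norm_num)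
                                    linarith only [key, tap_2_4, taq_2_4, tap_2_5, taq_2_5, lbp_4_5, lbq_4_5, T.w_pos u2, T.w_pos u4, T.w_pos u5]
                                · -- (3,5) nonzero
                                  obtain ⟨lbp_3_5, lbq_3_5⟩ := Groth.Agent.Helper6.NT.lb T u3 u5 hn_5_3.symm nz_3_5
                                  exfalso
                                  have key := Groth.Agent.Helper6.NT.negfun5 T h2 u0 u1 u2 u3 u5 (by norm_num) 2 2 2 3 2 (by norm_num) (by norm_num)
                                  linarith only [key, tap_0_1, taq_0_1, tap_0_2, taq_0_2, z_0_3, z_0_5, z_1_2, tap_1_3, taq_1_3, z_1_5, z_2_3, tap_2_5, taq_2_5, lbp_3_5, lbq_3_5, T.w_pos u0, T.w_pos u1, T.w_pos u2, T.w_pos u3, T.w_pos u5]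
                              · -- (2,5) Dp
                                exfalso
                                have key := Groth.Agent.Helper6.NT.negfun4 T h2 u0 u2 u4 u5 (by norm_num) 1 2 1 1 (by norm_num) (by norm_num)
                                linarith only [key, tap_0_2, taq_0_2, z_0_4, z_0_5, tap_2_4, taq_2_4, tap_2_5, taq_2_5, T.offDiag_nonneg u4 u5 hn_5_4.symm, T.w_pos u0, T.w_pos u2, T.w_pos u4, T.w_pos u5]
                              · -- (2,5) Dm
                                exfalso
                                have key := Groth.Agent.Helper6.NT.negfun4 T h2 u0 u2 u4 u5 (by norm_num) 1 2 1 2 (by norm_num) (by norm_num)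
                                linarith only [key, tap_0_2, taq_0_2, z_0_4, z_0_5, tap_2_4, taq_2_4, tap_2_5, taq_2_5, T.offDiag_nonneg u4 u5 hn_5_4.symm, T.w_pos u0, T.w_pos u2, T.w_pos u4, T.w_pos u5]
                              · -- (2,5) Tp
                                exfalso
                                have key := Groth.Agent.Helper6.NT.negfun3 T h2 u2 u4 u5 (by norm_num) 2 1 1 (by norm_num) (by norm_num)
                                linarith only [key, tap_2_4, taq_2_4, tap_2_5, taq_2_5, T.offDiag_nonneg u4 u5 hn_5_4.symm, T.w_pos u2, T.w_pos u4, T.w_pos u5]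
                              · -- (2,5) Tm
                                exfalso
                                have key := Groth.Agent.Helper6.NT.negfun3 T h2 u2 u4 u5 (by norm_num) 2 1 3 (by norm_num) (by norm_num)
                                linarith only [key, tap_2_4, taq_2_4, tap_2_5, taq_2_5, T.offDiag_nonneg u4 u5 hn_5_4.symm, T.w_pos u2, T.w_pos u4, T.w_pos u5]
                            · push Not at hx
                              have cl_2 := hx
                              clear hx
                              by_cases hx : ∃ j, (j ≠ u0 ∧ j ≠ u1 ∧ j ≠ u2 ∧ j ≠ u3 ∧ j ≠ u4) ∧ T.a u3 j ≠ 0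
                              · obtain ⟨u5, ⟨hn_5_0, hn_5_1, hn_5_2, hn_5_3, hn_5_4⟩, e_3_5⟩ := hx
                                have z_0_5 : T.a u0 u5 = 0 := cl_0 u5 ⟨hn_5_0, hn_5_1, hn_5_2⟩
                                have z_1_5 : T.a u1 u5 = 0 := cl_1 u5 ⟨hn_5_0, hn_5_1, hn_5_2, hn_5_3⟩
                                have z_2_5 : T.a u2 u5 = 0 := cl_2 u5 ⟨hn_5_0, hn_5_1, hn_5_2, hn_5_3, hn_5_4⟩
                                rcases Groth.Agent.Helper6.NT.edge5 T h2 (by norm_num) u3 u5 hn_5_3.symm e_3_5 with ⟨tw_3_5, tap_3_5, taq_3_5⟩ | ⟨tw_3_5, tap_3_5, taq_3_5⟩ | ⟨tw_3_5, tap_3_5, taq_3_5⟩ | ⟨tw_3_5, tap_3_5, taq_3_5⟩ | ⟨tw_3_5, tap_3_5, taq_3_5⟩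
                                · -- (3,5) S
                                  exfalso
                                  have key := Groth.Agent.Helper6.NT.negfun5 T h2 u0 u1 u2 u3 u5 (by norm_num) 2 3 1 4 2 (by norm_num) (by norm_num)
                                  linarith only [key, tap_0_1, taq_0_1, tap_0_2, taq_0_2, z_0_3, z_0_5, z_1_2, tap_1_3, taq_1_3, z_1_5, z_2_3, z_2_5, tap_3_5, taq_3_5, T.w_pos u0, T.w_pos u1, T.w_pos u2, T.w_pos u3, T.w_pos u5]
                                · -- (3,5) Dp
                                  exfalso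
                                  have key := Groth.Agent.Helper6.NT.negfun3 T h2 u1 u3 u5 (by norm_num) 1 2 1 (by norm_num) (by norm_num)
                                  linarith only [key, tap_1_3, taq_1_3, z_1_5, tap_3_5, taq_3_5, T.w_pos u1, T.w_pos u3, T.w_pos u5]
                                · -- (3,5) Dm
                                  exfalso
                                  have key := Groth.Agent.Helper6.NT.negfun3 T h2 u1 u3 u5 (by norm_num) 1 2 2 (by norm_num) (by norm_num)
                                  linarith only [key, tap_1_3, taq_1_3, z_1_5, tap_3_5, taq_3_5, T.w_pos u1, T.w_pos u3, T.w_pos u5]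
                                · -- (3,5) Tp
                                  exfalso
                                  have key := Groth.Agent.Helper6.NT.negfun3 T h2 u1 u3 u5 (by norm_num) 1 2 1 (by norm_num) (by norm_num)
                                  linarith only [key, tap_1_3, taq_1_3, z_1_5, tap_3_5, taq_3_5, T.w_pos u1, T.w_pos u3, T.w_pos u5]
                                · -- (3,5) Tm
                                  exfalso
                                  have key := Groth.Agent.Helper6.NT.negfun3 T h2 u1 u3 u5 (by norm_num) 1 2 3 (by norm_num) (by norm_num)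
                                  linarith only [key, tap_1_3, taq_1_3, z_1_5, tap_3_5, taq_3_5, T.w_pos u1, T.w_pos u3, T.w_pos u5]
                              · push Not at hx
                                have cl_3 := hx
                                clear hx
                                by_cases hx : ∃ j, (j ≠ u0 ∧ j ≠ u1 ∧ j ≠ u2 ∧ j ≠ u3 ∧ j ≠ u4) ∧ T.a u4 j ≠ 0
                                · obtain ⟨u5, ⟨hn_5_0, hn_5_1, hn_5_2, hn_5_3, hn_5_4⟩, e_4_5⟩ := hx
                                  have z_0_5 : T.a u0 u5 = 0 := cl_0 u5 ⟨hn_5_0, hn_5_1, hn_5_2⟩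
                                  have z_1_5 : T.a u1 u5 = 0 := cl_1 u5 ⟨hn_5_0, hn_5_1, hn_5_2, hn_5_3⟩
                                  have z_2_5 : T.a u2 u5 = 0 := cl_2 u5 ⟨hn_5_0, hn_5_1, hn_5_2, hn_5_3, hn_5_4⟩
                                  have z_3_5 : T.a u3 u5 = 0 := cl_3 u5 ⟨hn_5_0, hn_5_1, hn_5_2, hn_5_3, hn_5_4⟩
                                  rcases Groth.Agent.Helper6.NT.edge5 T h2 (by norm_num) u4 u5 hn_5_4.symm e_4_5 with ⟨tw_4_5, tap_4_5, taq_4_5⟩ | ⟨tw_4_5, tap_4_5, taq_4_5⟩ | ⟨tw_4_5, tap_4_5, taq_4_5⟩ | ⟨tw_4_5, tap_4_5, taq_4_5⟩ | ⟨tw_4_5, tap_4_5, taq_4_5⟩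
                                  · -- (4,5) S
                                    have hinj := Groth.Agent.Helper6.NT.inj6 u0 u1 u2 u3 u4 u5 hn_1_0 hn_2_0 hn_2_1 hn_3_0 hn_3_1 hn_3_2 hn_4_0 hn_4_1 hn_4_2 hn_4_3 hn_5_0 hn_5_1 hn_5_2 hn_5_3 hn_5_4
                                    have r_0 : -2 * T.m u0 + 1 * T.m u1 + 1 * T.m u2 = 0 := by
                                      have key := Groth.Agent.Helper6.NT.rowfun6 T u0 u1 u2 u3 u4 u5 hinj u0
                                      rw [(h2 u0).2, tap_0_1, tap_0_2, z_0_3, z_0_4, z_0_5] at key
                                      exact mul_left_cancel₀ (T.w_pos u0).ne' (by linarith only [key])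
                                    have r_1 : 1 * T.m u0 + -2 * T.m u1 + 1 * T.m u3 = 0 := by
                                      have key := Groth.Agent.Helper6.NT.rowfun6 T u0 u1 u2 u3 u4 u5 hinj u1
                                      rw [Groth.Agent.Helper6.NT.symm' T u1 u0, taq_0_1, (h2 u1).2, z_1_2, tap_1_3, z_1_4, z_1_5] at key
                                      exact mul_left_cancel₀ (T.w_pos u1).ne' (by linarith only [key])
                                    have r_2 : 1 * T.m u0 + -2 * T.m u2 + 1 * T.m u4 = 0 := by
                                      have key := Groth.Agent.Helper6.NT.rowfun6 T u0 u1 u2 u3 u4 u5 hinj u2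
                                      rw [Groth.Agent.Helper6.NT.symm' T u2 u0, taq_0_2, Groth.Agent.Helper6.NT.symm' T u2 u1, z_1_2, (h2 u2).2, z_2_3, tap_2_4, z_2_5] at key
                                      exact mul_left_cancel₀ (T.w_pos u2).ne' (by linarith only [key])
                                    have r_3 : 2 * T.m u1 + -2 * T.m u3 = 0 := by
                                      have key := Groth.Agent.Helper6.NT.rowfun6 T u0 u1 u2 u3 u4 u5 hinj u3
                                      rw [Groth.Agent.Helper6.NT.symm' T u3 u0, z_0_3, Groth.Agent.Helper6.NT.symm' T u3 u1, taq_1_3, Groth.Agent.Helper6.NT.symm' T u3 u2, z_2_3, (h2 u3).2, z_3_4, z_3_5] at key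
                                      exact mul_left_cancel₀ (T.w_pos u3).ne' (by linarith only [key])
                                    have r_4 : 1 * T.m u2 + -2 * T.m u4 + 1 * T.m u5 = 0 := by
                                      have key := Groth.Agent.Helper6.NT.rowfun6 T u0 u1 u2 u3 u4 u5 hinj u4
                                      rw [Groth.Agent.Helper6.NT.symm' T u4 u0, z_0_4, Groth.Agent.Helper6.NT.symm' T u4 u1, z_1_4, Groth.Agent.Helper6.NT.symm' T u4 u2, taq_2_4, Groth.Agent.Helper6.NT.symm' T u4 u3, z_3_4, (h2 u4).2, tap_4_5] at key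
                                      exact mul_left_cancel₀ (T.w_pos u4).ne' (by linarith only [key])
                                    have r_5 : 1 * T.m u4 + -2 * T.m u5 = 0 := by
                                      have key := Groth.Agent.Helper6.NT.rowfun6 T u0 u1 u2 u3 u4 u5 hinj u5
                                      rw [Groth.Agent.Helper6.NT.symm' T u5 u0, z_0_5, Groth.Agent.Helper6.NT.symm' T u5 u1, z_1_5, Groth.Agent.Helper6.NT.symm' T u5 u2, z_2_5, Groth.Agent.Helper6.NT.symm' T u5 u3, z_3_5, Groth.Agent.Helper6.NT.symm' T u5 u4, taq_4_5, (h2 u5).2] at key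
                                      exact mul_left_cancel₀ (T.w_pos u5).ne' (by linarith only [key])
                                    exfalso
                                    linarith only [r_0, r_1, r_2, r_3, r_4, r_5, T.m_pos u0, T.m_pos u1, T.m_pos u2, T.m_pos u3, T.m_pos u4, T.m_pos u5]
                                  · -- (4,5) Dp
                                    have hinj := Groth.Agent.Helper6.NT.inj6 u0 u1 u2 u3 u4 u5 hn_1_0 hn_2_0 hn_2_1 hn_3_0 hn_3_1 hn_3_2 hn_4_0 hn_4_1 hn_4_2 hn_4_3 hn_5_0 hn_5_1 hn_5_2 hn_5_3 hn_5_4
                                    have r_0 : -2 * T.m u0 + 1 * T.m u1 + 1 * T.m u2 = 0 := by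
                                      have key := Groth.Agent.Helper6.NT.rowfun6 T u0 u1 u2 u3 u4 u5 hinj u0
                                      rw [(h2 u0).2, tap_0_1, tap_0_2, z_0_3, z_0_4, z_0_5] at key
                                      exact mul_left_cancel₀ (T.w_pos u0).ne' (by linarith only [key])
                                    have r_1 : 1 * T.m u0 + -2 * T.m u1 + 1 * T.m u3 = 0 := by
                                      have key := Groth.Agent.Helper6.NT.rowfun6 T u0 u1 u2 u3 u4 u5 hinj u1
                                      rw [Groth.Agent.Helper6.NT.symm' T u1 u0, taq_0_1, (h2 u1).2, z_1_2, tap_1_3, z_1_4, z_1_5] at key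
                                      exact mul_left_cancel₀ (T.w_pos u1).ne' (by linarith only [key])
                                    have r_2 : 1 * T.m u0 + -2 * T.m u2 + 1 * T.m u4 = 0 := by
                                      have key := Groth.Agent.Helper6.NT.rowfun6 T u0 u1 u2 u3 u4 u5 hinj u2
                                      rw [Groth.Agent.Helper6.NT.symm' T u2 u0, taq_0_2, Groth.Agent.Helper6.NT.symm' T u2 u1, z_1_2, (h2 u2).2, z_2_3, tap_2_4, z_2_5] at key
                                      exact mul_left_cancel₀ (T.w_pos u2).ne' (by linarith only [key])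
                                    have r_3 : 2 * T.m u1 + -2 * T.m u3 = 0 := by
                                      have key := Groth.Agent.Helper6.NT.rowfun6 T u0 u1 u2 u3 u4 u5 hinj u3
                                      rw [Groth.Agent.Helper6.NT.symm' T u3 u0, z_0_3, Groth.Agent.Helper6.NT.symm' T u3 u1, taq_1_3, Groth.Agent.Helper6.NT.symm' T u3 u2, z_2_3, (h2 u3).2, z_3_4, z_3_5] at key
                                      exact mul_left_cancel₀ (T.w_pos u3).ne' (by linarith only [key])
                                    have r_4 : 1 * T.m u2 + -2 * T.m u4 + 2 * T.m u5 = 0 := by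
                                      have key := Groth.Agent.Helper6.NT.rowfun6 T u0 u1 u2 u3 u4 u5 hinj u4
                                      rw [Groth.Agent.Helper6.NT.symm' T u4 u0, z_0_4, Groth.Agent.Helper6.NT.symm' T u4 u1, z_1_4, Groth.Agent.Helper6.NT.symm' T u4 u2, taq_2_4, Groth.Agent.Helper6.NT.symm' T u4 u3, z_3_4, (h2 u4).2, tap_4_5] at key
                                      exact mul_left_cancel₀ (T.w_pos u4).ne' (by linarith only [key])
                                    have r_5 : 1 * T.m u4 + -2 * T.m u5 = 0 := by
                                      have key := Groth.Agent.Helper6.NT.rowfun6 T u0 u1 u2 u3 u4 u5 hinj u5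
                                      rw [Groth.Agent.Helper6.NT.symm' T u5 u0, z_0_5, Groth.Agent.Helper6.NT.symm' T u5 u1, z_1_5, Groth.Agent.Helper6.NT.symm' T u5 u2, z_2_5, Groth.Agent.Helper6.NT.symm' T u5 u3, z_3_5, Groth.Agent.Helper6.NT.symm' T u5 u4, taq_4_5, (h2 u5).2] at key
                                      exact mul_left_cancel₀ (T.w_pos u5).ne' (by linarith only [key])
                                    have f0 : T.m u3 = 2 * T.m u5 := by linarith only [r_0, r_1, r_2, r_3, r_4, r_5]
                                    have f1 : T.m u1 = 2 * T.m u5 := by linarith only [r_0, r_1, r_2, r_3, r_4, r_5]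
                                    have f2 : T.m u0 = 2 * T.m u5 := by linarith only [r_0, r_1, r_2, r_3, r_4, r_5]
                                    have f3 : T.m u2 = 2 * T.m u5 := by linarith only [r_0, r_1, r_2, r_3, r_4, r_5]
                                    have f4 : T.m u4 = 2 * T.m u5 := by linarith only [r_0, r_1, r_2, r_3, r_4, r_5]
                                    have f5 : T.m u5 = T.m u5 := rfl
                                    have f6 : T.w u3 = T.w u3 := rfl
                                    have f7 : T.w u1 = 2 * T.w u3 := by linarith only [tw_0_1, tw_0_2, tw_1_3, tw_2_4, tw_4_5]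
                                    have f8 : T.w u0 = 2 * T.w u3 := by linarith only [tw_0_1, tw_0_2, tw_1_3, tw_2_4, tw_4_5]
                                    have f9 : T.w u2 = 2 * T.w u3 := by linarith only [tw_0_1, tw_0_2, tw_1_3, tw_2_4, tw_4_5]
                                    have f10 : T.w u4 = 2 * T.w u3 := by linarith only [tw_0_1, tw_0_2, tw_1_3, tw_2_4, tw_4_5]
                                    have f11 : T.w u5 = 4 * T.w u3 := by linarith only [tw_0_1, tw_0_2, tw_1_3, tw_2_4, tw_4_5]
                                    have f12 : T.a u3 u3 = -2 * T.w u3 := by have := (h2 u3).2; linarith only [this, tw_0_1, tw_0_2, tw_1_3, tw_2_4, tw_4_5]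
                                    have f13 : T.a u3 u1 = 2 * T.w u3 := by rw [Groth.Agent.Helper6.NT.symm' T u3 u1]; linarith only [tap_1_3, tw_0_1, tw_0_2, tw_1_3, tw_2_4, tw_4_5]
                                    have f14 : T.a u3 u0 = 0 := by rw [Groth.Agent.Helper6.NT.symm' T u3 u0]; exact z_0_3
                                    have f15 : T.a u3 u2 = 0 := by rw [Groth.Agent.Helper6.NT.symm' T u3 u2]; exact z_2_3
                                    have f16 : T.a u3 u4 = 0 := by exact z_3_4
                                    have f17 : T.a u3 u5 = 0 := by exact z_3_5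
                                    have f18 : T.a u1 u1 = -4 * T.w u3 := by have := (h2 u1).2; linarith only [this, tw_0_1, tw_0_2, tw_1_3, tw_2_4, tw_4_5]
                                    have f19 : T.a u1 u0 = 2 * T.w u3 := by rw [Groth.Agent.Helper6.NT.symm' T u1 u0]; linarith only [tap_0_1, tw_0_1, tw_0_2, tw_1_3, tw_2_4, tw_4_5]
                                    have f20 : T.a u1 u2 = 0 := by exact z_1_2
                                    have f21 : T.a u1 u4 = 0 := by exact z_1_4
                                    have f22 : T.a u1 u5 = 0 := by exact z_1_5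
                                    have f23 : T.a u0 u0 = -4 * T.w u3 := by have := (h2 u0).2; linarith only [this, tw_0_1, tw_0_2, tw_1_3, tw_2_4, tw_4_5]
                                    have f24 : T.a u0 u2 = 2 * T.w u3 := by linarith only [tap_0_2, tw_0_1, tw_0_2, tw_1_3, tw_2_4, tw_4_5]
                                    have f25 : T.a u0 u4 = 0 := by exact z_0_4
                                    have f26 : T.a u0 u5 = 0 := by exact z_0_5
                                    have f27 : T.a u2 u2 = -4 * T.w u3 := by have := (h2 u2).2; linarith only [this, tw_0_1, tw_0_2, tw_1_3, tw_2_4, tw_4_5]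
                                    have f28 : T.a u2 u4 = 2 * T.w u3 := by linarith only [tap_2_4, tw_0_1, tw_0_2, tw_1_3, tw_2_4, tw_4_5]
                                    have f29 : T.a u2 u5 = 0 := by exact z_2_5
                                    have f30 : T.a u4 u4 = -4 * T.w u3 := by have := (h2 u4).2; linarith only [this, tw_0_1, tw_0_2, tw_1_3, tw_2_4, tw_4_5]
                                    have f31 : T.a u4 u5 = 4 * T.w u3 := by linarith only [tap_4_5, tw_0_1, tw_0_2, tw_1_3, tw_2_4, tw_4_5]
                                    have f32 : T.a u5 u5 = -8 * T.w u3 := by have := (h2 u5).2; linarith only [this, tw_0_1, tw_0_2, tw_1_3, tw_2_4, tw_4_5]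
                                    have hsig := Groth.Agent.Helper6.NT.inj6 u3 u1 u0 u2 u4 u5 hn_3_1.symm hn_3_0.symm hn_1_0.symm hn_3_2.symm hn_2_1 hn_2_0 hn_4_3 hn_4_1 hn_4_0 hn_4_2 hn_5_3 hn_5_1 hn_5_0 hn_5_2 hn_5_4
                                    exact ⟨Equiv.ofBijective _ (Finite.injective_iff_bijective.1 hsig), T.m u5, T.w u3, Or.inr (Or.inl ⟨f0, f1, f2, f3, f4, f5, f6, f7, f8, f9, f10, f11, f12, f13, f14, f15, f16, f17, f18, f19, f20, f21, f22, f23, f24, f25, f26, f27, f28, f29, f30, f31, f32⟩)⟩
                                  · -- (4,5) Dm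
                                    have hinj := Groth.Agent.Helper6.NT.inj6 u0 u1 u2 u3 u4 u5 hn_1_0 hn_2_0 hn_2_1 hn_3_0 hn_3_1 hn_3_2 hn_4_0 hn_4_1 hn_4_2 hn_4_3 hn_5_0 hn_5_1 hn_5_2 hn_5_3 hn_5_4
                                    have r_0 : -2 * T.m u0 + 1 * T.m u1 + 1 * T.m u2 = 0 := by
                                      have key := Groth.Agent.Helper6.NT.rowfun6 T u0 u1 u2 u3 u4 u5 hinj u0
                                      rw [(h2 u0).2, tap_0_1, tap_0_2, z_0_3, z_0_4, z_0_5] at key
                                      exact mul_left_cancel₀ (T.w_pos u0).ne' (by linarith only [key])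
                                    have r_1 : 1 * T.m u0 + -2 * T.m u1 + 1 * T.m u3 = 0 := by
                                      have key := Groth.Agent.Helper6.NT.rowfun6 T u0 u1 u2 u3 u4 u5 hinj u1
                                      rw [Groth.Agent.Helper6.NT.symm' T u1 u0, taq_0_1, (h2 u1).2, z_1_2, tap_1_3, z_1_4, z_1_5] at key
                                      exact mul_left_cancel₀ (T.w_pos u1).ne' (by linarith only [key])
                                    have r_2 : 1 * T.m u0 + -2 * T.m u2 + 1 * T.m u4 = 0 := by
                                      have key := Groth.Agent.Helper6.NT.rowfun6 T u0 u1 u2 u3 u4 u5 hinj u2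
                                      rw [Groth.Agent.Helper6.NT.symm' T u2 u0, taq_0_2, Groth.Agent.Helper6.NT.symm' T u2 u1, z_1_2, (h2 u2).2, z_2_3, tap_2_4, z_2_5] at key
                                      exact mul_left_cancel₀ (T.w_pos u2).ne' (by linarith only [key])
                                    have r_3 : 2 * T.m u1 + -2 * T.m u3 = 0 := by
                                      have key := Groth.Agent.Helper6.NT.rowfun6 T u0 u1 u2 u3 u4 u5 hinj u3
                                      rw [Groth.Agent.Helper6.NT.symm' T u3 u0, z_0_3, Groth.Agent.Helper6.NT.symm' T u3 u1, taq_1_3, Groth.Agent.Helper6.NT.symm' T u3 u2, z_2_3, (h2 u3).2, z_3_4, z_3_5] at key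
                                      exact mul_left_cancel₀ (T.w_pos u3).ne' (by linarith only [key])
                                    have r_4 : 1 * T.m u2 + -2 * T.m u4 + 1 * T.m u5 = 0 := by
                                      have key := Groth.Agent.Helper6.NT.rowfun6 T u0 u1 u2 u3 u4 u5 hinj u4
                                      rw [Groth.Agent.Helper6.NT.symm' T u4 u0, z_0_4, Groth.Agent.Helper6.NT.symm' T u4 u1, z_1_4, Groth.Agent.Helper6.NT.symm' T u4 u2, taq_2_4, Groth.Agent.Helper6.NT.symm' T u4 u3, z_3_4, (h2 u4).2, tap_4_5] at key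
                                      exact mul_left_cancel₀ (T.w_pos u4).ne' (by linarith only [key])
                                    have r_5 : 2 * T.m u4 + -2 * T.m u5 = 0 := by
                                      have key := Groth.Agent.Helper6.NT.rowfun6 T u0 u1 u2 u3 u4 u5 hinj u5
                                      rw [Groth.Agent.Helper6.NT.symm' T u5 u0, z_0_5, Groth.Agent.Helper6.NT.symm' T u5 u1, z_1_5, Groth.Agent.Helper6.NT.symm' T u5 u2, z_2_5, Groth.Agent.Helper6.NT.symm' T u5 u3, z_3_5, Groth.Agent.Helper6.NT.symm' T u5 u4, taq_4_5, (h2 u5).2] at key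
                                      exact mul_left_cancel₀ (T.w_pos u5).ne' (by linarith only [key])
                                    have f0 : T.m u3 = T.m u3 := rfl
                                    have f1 : T.m u1 = T.m u3 := by linarith only [r_0, r_1, r_2, r_3, r_4, r_5]
                                    have f2 : T.m u0 = T.m u3 := by linarith only [r_0, r_1, r_2, r_3, r_4, r_5]
                                    have f3 : T.m u2 = T.m u3 := by linarith only [r_0, r_1, r_2, r_3, r_4, r_5]
                                    have f4 : T.m u4 = T.m u3 := by linarith only [r_0, r_1, r_2, r_3, r_4, r_5]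
                                    have f5 : T.m u5 = T.m u3 := by linarith only [r_0, r_1, r_2, r_3, r_4, r_5]
                                    have f6 : T.w u3 = T.w u3 := rfl
                                    have f7 : T.w u1 = 2 * T.w u3 := by linarith only [tw_0_1, tw_0_2, tw_1_3, tw_2_4, tw_4_5]
                                    have f8 : T.w u0 = 2 * T.w u3 := by linarith only [tw_0_1, tw_0_2, tw_1_3, tw_2_4, tw_4_5]
                                    have f9 : T.w u2 = 2 * T.w u3 := by linarith only [tw_0_1, tw_0_2, tw_1_3, tw_2_4, tw_4_5]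
                                    have f10 : T.w u4 = 2 * T.w u3 := by linarith only [tw_0_1, tw_0_2, tw_1_3, tw_2_4, tw_4_5]
                                    have f11 : T.w u5 = T.w u3 := by linarith only [tw_0_1, tw_0_2, tw_1_3, tw_2_4, tw_4_5]
                                    have f12 : T.a u3 u3 = -2 * T.w u3 := by have := (h2 u3).2; linarith only [this, tw_0_1, tw_0_2, tw_1_3, tw_2_4, tw_4_5]
                                    have f13 : T.a u3 u1 = 2 * T.w u3 := by rw [Groth.Agent.Helper6.NT.symm' T u3 u1]; linarith only [tap_1_3, tw_0_1, tw_0_2, tw_1_3, tw_2_4, tw_4_5]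
                                    have f14 : T.a u3 u0 = 0 := by rw [Groth.Agent.Helper6.NT.symm' T u3 u0]; exact z_0_3
                                    have f15 : T.a u3 u2 = 0 := by rw [Groth.Agent.Helper6.NT.symm' T u3 u2]; exact z_2_3
                                    have f16 : T.a u3 u4 = 0 := by exact z_3_4
                                    have f17 : T.a u3 u5 = 0 := by exact z_3_5
                                    have f18 : T.a u1 u1 = -4 * T.w u3 := by have := (h2 u1).2; linarith only [this, tw_0_1, tw_0_2, tw_1_3, tw_2_4, tw_4_5]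
                                    have f19 : T.a u1 u0 = 2 * T.w u3 := by rw [Groth.Agent.Helper6.NT.symm' T u1 u0]; linarith only [tap_0_1, tw_0_1, tw_0_2, tw_1_3, tw_2_4, tw_4_5]
                                    have f20 : T.a u1 u2 = 0 := by exact z_1_2
                                    have f21 : T.a u1 u4 = 0 := by exact z_1_4
                                    have f22 : T.a u1 u5 = 0 := by exact z_1_5
                                    have f23 : T.a u0 u0 = -4 * T.w u3 := by have := (h2 u0).2; linarith only [this, tw_0_1, tw_0_2, tw_1_3, tw_2_4, tw_4_5]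
                                    have f24 : T.a u0 u2 = 2 * T.w u3 := by linarith only [tap_0_2, tw_0_1, tw_0_2, tw_1_3, tw_2_4, tw_4_5]
                                    have f25 : T.a u0 u4 = 0 := by exact z_0_4
                                    have f26 : T.a u0 u5 = 0 := by exact z_0_5
                                    have f27 : T.a u2 u2 = -4 * T.w u3 := by have := (h2 u2).2; linarith only [this, tw_0_1, tw_0_2, tw_1_3, tw_2_4, tw_4_5]
                                    have f28 : T.a u2 u4 = 2 * T.w u3 := by linarith only [tap_2_4, tw_0_1, tw_0_2, tw_1_3, tw_2_4, tw_4_5]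
                                    have f29 : T.a u2 u5 = 0 := by exact z_2_5
                                    have f30 : T.a u4 u4 = -4 * T.w u3 := by have := (h2 u4).2; linarith only [this, tw_0_1, tw_0_2, tw_1_3, tw_2_4, tw_4_5]
                                    have f31 : T.a u4 u5 = 2 * T.w u3 := by linarith only [tap_4_5, tw_0_1, tw_0_2, tw_1_3, tw_2_4, tw_4_5]
                                    have f32 : T.a u5 u5 = -2 * T.w u3 := by have := (h2 u5).2; linarith only [this, tw_0_1, tw_0_2, tw_1_3, tw_2_4, tw_4_5]
                                    have hsig := Groth.Agent.Helper6.NT.inj6 u3 u1 u0 u2 u4 u5 hn_3_1.symm hn_3_0.symm hn_1_0.symm hn_3_2.symm hn_2_1 hn_2_0 hn_4_3 hn_4_1 hn_4_0 hn_4_2 hn_5_3 hn_5_1 hn_5_0 hn_5_2 hn_5_4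
                                    exact ⟨Equiv.ofBijective _ (Finite.injective_iff_bijective.1 hsig), T.m u3, T.w u3, Or.inr (Or.inr (Or.inl ⟨f0, f1, f2, f3, f4, f5, f6, f7, f8, f9, f10, f11, f12, f13, f14, f15, f16, f17, f18, f19, f20, f21, f22, f23, f24, f25, f26, f27, f28, f29, f30, f31, f32⟩))⟩
                                  · -- (4,5) Tp
                                    exfalso
                                    have key := Groth.Agent.Helper6.NT.negfun3 T h2 u2 u4 u5 (by norm_num) 1 2 1 (by norm_num) (by norm_num)
                                    linarith only [key, tap_2_4, taq_2_4, z_2_5, tap_4_5, taq_4_5, T.w_pos u2, T.w_pos u4, T.w_pos u5]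
                                  · -- (4,5) Tm
                                    exfalso
                                    have key := Groth.Agent.Helper6.NT.negfun3 T h2 u2 u4 u5 (by norm_num) 1 2 3 (by norm_num) (by norm_num)
                                    linarith only [key, tap_2_4, taq_2_4, z_2_5, tap_4_5, taq_4_5, T.w_pos u2, T.w_pos u4, T.w_pos u5]
                                · push Not at hx
                                  have cl_4 := hx
                                  clear hx
                                  exfalso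
                                  refine Groth.Agent.Helper6.NT.closed_contra T [u0, u1, u2, u3, u4] (by simp) (by simp) ?_
                                  intro i hi j hj
                                  simp only [List.mem_cons, List.not_mem_nil, or_false, not_or] at hi hj
                                  rcases hi with rfl | rfl | rfl | rfl | rfl
                                  · exact cl_0 j ⟨hj.1, hj.2.1, hj.2.2.1⟩
                                  · exact cl_1 j ⟨hj.1, hj.2.1, hj.2.2.1, hj.2.2.2.1⟩
                                  · exact cl_2 j ⟨hj.1, hj.2.1, hj.2.2.1, hj.2.2.2.1, hj.2.2.2.2⟩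
                                  · exact cl_3 j ⟨hj.1, hj.2.1, hj.2.2.1, hj.2.2.2.1, hj.2.2.2.2⟩
                                  · exact cl_4 j ⟨hj.1, hj.2.1, hj.2.2.1, hj.2.2.2.1, hj.2.2.2.2⟩
                          · -- (3,4) nonzero
                            obtain ⟨lbp_3_4, lbq_3_4⟩ := Groth.Agent.Helper6.NT.lb T u3 u4 hn_4_3.symm nz_3_4
                            exfalso
                            have key := Groth.Agent.Helper6.NT.negfun5 T h2 u0 u1 u2 u3 u4 (by norm_num) 2 2 2 3 2 (by norm_num) (by norm_num)
                            linarith only [key, tap_0_1, taq_0_1, tap_0_2, taq_0_2, z_0_3, z_0_4, z_1_2, tap_1_3, taq_1_3, z_1_4, z_2_3, tap_2_4, taq_2_4, lbp_3_4, lbq_3_4, T.w_pos u0, T.w_pos u1, T.w_pos u2, T.w_pos u3, T.w_pos u4]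
                        · -- (2,4) Dp
                          exfalso
                          have key := Groth.Agent.Helper6.NT.negfun5 T h2 u0 u1 u2 u3 u4 (by norm_num) 2 2 2 2 1 (by norm_num) (by norm_num)
                          linarith only [key, tap_0_1, taq_0_1, tap_0_2, taq_0_2, z_0_3, z_0_4, z_1_2, tap_1_3, taq_1_3, z_1_4, z_2_3, tap_2_4, taq_2_4, T.offDiag_nonneg u3 u4 hn_4_3.symm, T.w_pos u0, T.w_pos u1, T.w_pos u2, T.w_pos u3, T.w_pos u4]
                        · -- (2,4) Dm
                          exfalso
                          have key := Groth.Agent.Helper6.NT.negfun5 T h2 u0 u1 u2 u3 u4 (by norm_num) 1 1 1 1 1 (by norm_num) (by norm_num)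
                          linarith only [key, tap_0_1, taq_0_1, tap_0_2, taq_0_2, z_0_3, z_0_4, z_1_2, tap_1_3, taq_1_3, z_1_4, z_2_3, tap_2_4, taq_2_4, T.offDiag_nonneg u3 u4 hn_4_3.symm, T.w_pos u0, T.w_pos u1, T.w_pos u2, T.w_pos u3, T.w_pos u4]
                        · -- (2,4) Tp
                          exfalso
                          have key := Groth.Agent.Helper6.NT.negfun3 T h2 u0 u2 u4 (by norm_num) 1 2 1 (by norm_num) (by norm_num)
                          linarith only [key, tap_0_2, taq_0_2, z_0_4, tap_2_4, taq_2_4, T.w_pos u0, T.w_pos u2, T.w_pos u4]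
                        · -- (2,4) Tm
                          exfalso
                          have key := Groth.Agent.Helper6.NT.negfun3 T h2 u0 u2 u4 (by norm_num) 1 2 3 (by norm_num) (by norm_num)
                          linarith only [key, tap_0_2, taq_0_2, z_0_4, tap_2_4, taq_2_4, T.w_pos u0, T.w_pos u2, T.w_pos u4]
                      · push Not at hx
                        have cl_2 := hx
                        clear hx
                        by_cases hx : ∃ j, (j ≠ u0 ∧ j ≠ u1 ∧ j ≠ u2 ∧ j ≠ u3) ∧ T.a u3 j ≠ 0
                        · obtain ⟨u4, ⟨hn_4_0, hn_4_1, hn_4_2, hn_4_3⟩, e_3_4⟩ := hx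
                          have z_0_4 : T.a u0 u4 = 0 := cl_0 u4 ⟨hn_4_0, hn_4_1, hn_4_2⟩
                          have z_1_4 : T.a u1 u4 = 0 := cl_1 u4 ⟨hn_4_0, hn_4_1, hn_4_2, hn_4_3⟩
                          have z_2_4 : T.a u2 u4 = 0 := cl_2 u4 ⟨hn_4_0, hn_4_1, hn_4_2, hn_4_3⟩
                          rcases Groth.Agent.Helper6.NT.edge5 T h2 (by norm_num) u3 u4 hn_4_3.symm e_3_4 with ⟨tw_3_4, tap_3_4, taq_3_4⟩ | ⟨tw_3_4, tap_3_4, taq_3_4⟩ | ⟨tw_3_4, tap_3_4, taq_3_4⟩ | ⟨tw_3_4, tap_3_4, taq_3_4⟩ | ⟨tw_3_4, tap_3_4, taq_3_4⟩
                          · -- (3,4) S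
                            exfalso
                            have key := Groth.Agent.Helper6.NT.negfun5 T h2 u0 u1 u2 u3 u4 (by norm_num) 2 3 1 4 2 (by norm_num) (by norm_num)
                            linarith only [key, tap_0_1, taq_0_1, tap_0_2, taq_0_2, z_0_3, z_0_4, z_1_2, tap_1_3, taq_1_3, z_1_4, z_2_3, z_2_4, tap_3_4, taq_3_4, T.w_pos u0, T.w_pos u1, T.w_pos u2, T.w_pos u3, T.w_pos u4]
                          · -- (3,4) Dp
                            exfalso
                            have key := Groth.Agent.Helper6.NT.negfun3 T h2 u1 u3 u4 (by norm_num) 1 2 1 (by norm_num) (by norm_num)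
                            linarith only [key, tap_1_3, taq_1_3, z_1_4, tap_3_4, taq_3_4, T.w_pos u1, T.w_pos u3, T.w_pos u4]
                          · -- (3,4) Dm
                            exfalso
                            have key := Groth.Agent.Helper6.NT.negfun3 T h2 u1 u3 u4 (by norm_num) 1 2 2 (by norm_num) (by norm_num)
                            linarith only [key, tap_1_3, taq_1_3, z_1_4, tap_3_4, taq_3_4, T.w_pos u1, T.w_pos u3, T.w_pos u4]
                          · -- (3,4) Tp
                            exfalso
                            have key := Groth.Agent.Helper6.NT.negfun3 T h2 u1 u3 u4 (by norm_num) 1 2 1 (by norm_num) (by norm_num)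
                            linarith only [key, tap_1_3, taq_1_3, z_1_4, tap_3_4, taq_3_4, T.w_pos u1, T.w_pos u3, T.w_pos u4]
                          · -- (3,4) Tm
                            exfalso
                            have key := Groth.Agent.Helper6.NT.negfun3 T h2 u1 u3 u4 (by norm_num) 1 2 3 (by norm_num) (by norm_num)
                            linarith only [key, tap_1_3, taq_1_3, z_1_4, tap_3_4, taq_3_4, T.w_pos u1, T.w_pos u3, T.w_pos u4]
                        · push Not at hx
                          have cl_3 := hx
                          clear hx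
                          exfalso
                          refine Groth.Agent.Helper6.NT.closed_contra T [u0, u1, u2, u3] (by simp) (by simp) ?_
                          intro i hi j hj
                          simp only [List.mem_cons, List.not_mem_nil, or_false, not_or] at hi hj
                          rcases hi with rfl | rfl | rfl | rfl
                          · exact cl_0 j ⟨hj.1, hj.2.1, hj.2.2.1⟩
                          · exact cl_1 j ⟨hj.1, hj.2.1, hj.2.2.1, hj.2.2.2⟩
                          · exact cl_2 j ⟨hj.1, hj.2.1, hj.2.2.1, hj.2.2.2⟩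
                          · exact cl_3 j ⟨hj.1, hj.2.1, hj.2.2.1, hj.2.2.2⟩
                  · -- (2,3) nonzero
                    obtain ⟨lbp_2_3, lbq_2_3⟩ := Groth.Agent.Helper6.NT.lb T u2 u3 hn_3_2.symm nz_2_3
                    exfalso
                    have key := Groth.Agent.Helper6.NT.negfun4 T h2 u0 u1 u2 u3 (by norm_num) 2 2 2 3 (by norm_num) (by norm_num)
                    linarith only [key, tap_0_1, taq_0_1, tap_0_2, taq_0_2, z_0_3, z_1_2, tap_1_3, taq_1_3, lbp_2_3, lbq_2_3, T.w_pos u0, T.w_pos u1, T.w_pos u2, T.w_pos u3]
                · -- (1,3) Tp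
                  exfalso
                  have key := Groth.Agent.Helper6.NT.negfun3 T h2 u0 u1 u3 (by norm_num) 1 2 1 (by norm_num) (by norm_num)
                  linarith only [key, tap_0_1, taq_0_1, z_0_3, tap_1_3, taq_1_3, T.w_pos u0, T.w_pos u1, T.w_pos u3]
                · -- (1,3) Tm
                  exfalso
                  have key := Groth.Agent.Helper6.NT.negfun3 T h2 u0 u1 u3 (by norm_num) 1 2 3 (by norm_num) (by norm_num)
                  linarith only [key, tap_0_1, taq_0_1, z_0_3, tap_1_3, taq_1_3, T.w_pos u0, T.w_pos u1, T.w_pos u3]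
              · push Not at hx
                have cl_1 := hx
                clear hx
                by_cases hx : ∃ j, (j ≠ u0 ∧ j ≠ u1 ∧ j ≠ u2) ∧ T.a u2 j ≠ 0
                · obtain ⟨u3, ⟨hn_3_0, hn_3_1, hn_3_2⟩, e_2_3⟩ := hx
                  have z_0_3 : T.a u0 u3 = 0 := cl_0 u3 ⟨hn_3_0, hn_3_1, hn_3_2⟩
                  have z_1_3 : T.a u1 u3 = 0 := cl_1 u3 ⟨hn_3_0, hn_3_1, hn_3_2⟩
                  rcases Groth.Agent.Helper6.NT.edge5 T h2 (by norm_num) u2 u3 hn_3_2.symm e_2_3 with ⟨tw_2_3, tap_2_3, taq_2_3⟩ | ⟨tw_2_3, tap_2_3, taq_2_3⟩ | ⟨tw_2_3, tap_2_3, taq_2_3⟩ | ⟨tw_2_3, tap_2_3, taq_2_3⟩ | ⟨tw_2_3, tap_2_3, taq_2_3⟩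
                  · -- (2,3) S
                    by_cases hx : ∃ j, (j ≠ u0 ∧ j ≠ u1 ∧ j ≠ u2 ∧ j ≠ u3) ∧ T.a u2 j ≠ 0
                    · obtain ⟨u4, ⟨hn_4_0, hn_4_1, hn_4_2, hn_4_3⟩, e_2_4⟩ := hx
                      have z_0_4 : T.a u0 u4 = 0 := cl_0 u4 ⟨hn_4_0, hn_4_1, hn_4_2⟩
                      have z_1_4 : T.a u1 u4 = 0 := cl_1 u4 ⟨hn_4_0, hn_4_1, hn_4_2⟩
                      rcases Groth.Agent.Helper6.NT.edge5 T h2 (by norm_num) u2 u4 hn_4_2.symm e_2_4 with ⟨tw_2_4, tap_2_4, taq_2_4⟩ | ⟨tw_2_4, tap_2_4, taq_2_4⟩ | ⟨tw_2_4, tap_2_4, taq_2_4⟩ | ⟨tw_2_4, tap_2_4, taq_2_4⟩ | ⟨tw_2_4, tap_2_4, taq_2_4⟩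
                      · -- (2,4) S
                        rcases eq_or_ne (T.a u3 u4) 0 with z_3_4 | nz_3_4
                        · -- (3,4) zero
                          by_cases hx : ∃ j, (j ≠ u0 ∧ j ≠ u1 ∧ j ≠ u2 ∧ j ≠ u3 ∧ j ≠ u4) ∧ T.a u2 j ≠ 0
                          · obtain ⟨u5, ⟨hn_5_0, hn_5_1, hn_5_2, hn_5_3, hn_5_4⟩, e_2_5⟩ := hx
                            have z_0_5 : T.a u0 u5 = 0 := cl_0 u5 ⟨hn_5_0, hn_5_1, hn_5_2⟩
                            have z_1_5 : T.a u1 u5 = 0 := cl_1 u5 ⟨hn_5_0, hn_5_1, hn_5_2⟩
                            rcases Groth.Agent.Helper6.NT.edge5 T h2 (by norm_num) u2 u5 hn_5_2.symm e_2_5 with ⟨tw_2_5, tap_2_5, taq_2_5⟩ | ⟨tw_2_5, tap_2_5, taq_2_5⟩ | ⟨tw_2_5, tap_2_5, taq_2_5⟩ | ⟨tw_2_5, tap_2_5, taq_2_5⟩ | ⟨tw_2_5, tap_2_5, taq_2_5⟩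
                            · -- (2,5) S
                              exfalso
                              have key := Groth.Agent.Helper6.NT.negfun5 T h2 u0 u2 u3 u4 u5 (by norm_num) 1 2 1 1 1 (by norm_num) (by norm_num)
                              linarith only [key, tap_0_2, taq_0_2, z_0_3, z_0_4, z_0_5, tap_2_3, taq_2_3, tap_2_4, taq_2_4, tap_2_5, taq_2_5, z_3_4, T.offDiag_nonneg u3 u5 hn_5_3.symm, T.offDiag_nonneg u4 u5 hn_5_4.symm, T.w_pos u0, T.w_pos u2, T.w_pos u3, T.w_pos u4, T.w_pos u5]
                            · -- (2,5) Dp
                              exfalso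
                              have key := Groth.Agent.Helper6.NT.negfun4 T h2 u2 u3 u4 u5 (by norm_num) 2 1 1 1 (by norm_num) (by norm_num)
                              linarith only [key, tap_2_3, taq_2_3, tap_2_4, taq_2_4, tap_2_5, taq_2_5, z_3_4, T.offDiag_nonneg u3 u5 hn_5_3.symm, T.offDiag_nonneg u4 u5 hn_5_4.symm, T.w_pos u2, T.w_pos u3, T.w_pos u4, T.w_pos u5]
                            · -- (2,5) Dm
                              exfalso
                              have key := Groth.Agent.Helper6.NT.negfun4 T h2 u2 u3 u4 u5 (by norm_num) 2 1 1 2 (by norm_num) (by norm_num)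
                              linarith only [key, tap_2_3, taq_2_3, tap_2_4, taq_2_4, tap_2_5, taq_2_5, z_3_4, T.offDiag_nonneg u3 u5 hn_5_3.symm, T.offDiag_nonneg u4 u5 hn_5_4.symm, T.w_pos u2, T.w_pos u3, T.w_pos u4, T.w_pos u5]
                            · -- (2,5) Tp
                              exfalso
                              have key := Groth.Agent.Helper6.NT.negfun3 T h2 u2 u4 u5 (by norm_num) 2 1 1 (by norm_num) (by norm_num)
                              linarith only [key, tap_2_4, taq_2_4, tap_2_5, taq_2_5, T.offDiag_nonneg u4 u5 hn_5_4.symm, T.w_pos u2, T.w_pos u4, T.w_pos u5]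
                            · -- (2,5) Tm
                              exfalso
                              have key := Groth.Agent.Helper6.NT.negfun3 T h2 u2 u4 u5 (by norm_num) 2 1 3 (by norm_num) (by norm_num)
                              linarith only [key, tap_2_4, taq_2_4, tap_2_5, taq_2_5, T.offDiag_nonneg u4 u5 hn_5_4.symm, T.w_pos u2, T.w_pos u4, T.w_pos u5]
                          · push Not at hx
                            have cl_2 := hx
                            clear hx
                            by_cases hx : ∃ j, (j ≠ u0 ∧ j ≠ u1 ∧ j ≠ u2 ∧ j ≠ u3 ∧ j ≠ u4) ∧ T.a u3 j ≠ 0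
                            · obtain ⟨u5, ⟨hn_5_0, hn_5_1, hn_5_2, hn_5_3, hn_5_4⟩, e_3_5⟩ := hx
                              have z_0_5 : T.a u0 u5 = 0 := cl_0 u5 ⟨hn_5_0, hn_5_1, hn_5_2⟩
                              have z_1_5 : T.a u1 u5 = 0 := cl_1 u5 ⟨hn_5_0, hn_5_1, hn_5_2⟩
                              have z_2_5 : T.a u2 u5 = 0 := cl_2 u5 ⟨hn_5_0, hn_5_1, hn_5_2, hn_5_3, hn_5_4⟩
                              rcases Groth.Agent.Helper6.NT.edge5 T h2 (by norm_num) u3 u5 hn_5_3.symm e_3_5 with ⟨tw_3_5, tap_3_5, taq_3_5⟩ | ⟨tw_3_5, tap_3_5, taq_3_5⟩ | ⟨tw_3_5, tap_3_5, taq_3_5⟩ | ⟨tw_3_5, tap_3_5, taq_3_5⟩ | ⟨tw_3_5, tap_3_5, taq_3_5⟩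
                              · -- (3,5) S
                                rcases eq_or_ne (T.a u4 u5) 0 with z_4_5 | nz_4_5
                                · -- (4,5) zero
                                  have hinj := Groth.Agent.Helper6.NT.inj6 u0 u1 u2 u3 u4 u5 hn_1_0 hn_2_0 hn_2_1 hn_3_0 hn_3_1 hn_3_2 hn_4_0 hn_4_1 hn_4_2 hn_4_3 hn_5_0 hn_5_1 hn_5_2 hn_5_3 hn_5_4
                                  have r_0 : -2 * T.m u0 + 1 * T.m u1 + 1 * T.m u2 = 0 := by
                                    have key := Groth.Agent.Helper6.NT.rowfun6 T u0 u1 u2 u3 u4 u5 hinj u0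
                                    rw [(h2 u0).2, tap_0_1, tap_0_2, z_0_3, z_0_4, z_0_5] at key
                                    exact mul_left_cancel₀ (T.w_pos u0).ne' (by linarith only [key])
                                  have r_1 : 1 * T.m u0 + -2 * T.m u1 = 0 := by
                                    have key := Groth.Agent.Helper6.NT.rowfun6 T u0 u1 u2 u3 u4 u5 hinj u1
                                    rw [Groth.Agent.Helper6.NT.symm' T u1 u0, taq_0_1, (h2 u1).2, z_1_2, z_1_3, z_1_4, z_1_5] at key
                                    exact mul_left_cancel₀ (T.w_pos u1).ne' (by linarith only [key])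
                                  have r_2 : 1 * T.m u0 + -2 * T.m u2 + 1 * T.m u3 + 1 * T.m u4 = 0 := by
                                    have key := Groth.Agent.Helper6.NT.rowfun6 T u0 u1 u2 u3 u4 u5 hinj u2
                                    rw [Groth.Agent.Helper6.NT.symm' T u2 u0, taq_0_2, Groth.Agent.Helper6.NT.symm' T u2 u1, z_1_2, (h2 u2).2, tap_2_3, tap_2_4, z_2_5] at key
                                    exact mul_left_cancel₀ (T.w_pos u2).ne' (by linarith only [key])
                                  have r_3 : 1 * T.m u2 + -2 * T.m u3 + 1 * T.m u5 = 0 := by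
                                    have key := Groth.Agent.Helper6.NT.rowfun6 T u0 u1 u2 u3 u4 u5 hinj u3
                                    rw [Groth.Agent.Helper6.NT.symm' T u3 u0, z_0_3, Groth.Agent.Helper6.NT.symm' T u3 u1, z_1_3, Groth.Agent.Helper6.NT.symm' T u3 u2, taq_2_3, (h2 u3).2, z_3_4, tap_3_5] at key
                                    exact mul_left_cancel₀ (T.w_pos u3).ne' (by linarith only [key])
                                  have r_4 : 1 * T.m u2 + -2 * T.m u4 = 0 := by
                                    have key := Groth.Agent.Helper6.NT.rowfun6 T u0 u1 u2 u3 u4 u5 hinj u4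
                                    rw [Groth.Agent.Helper6.NT.symm' T u4 u0, z_0_4, Groth.Agent.Helper6.NT.symm' T u4 u1, z_1_4, Groth.Agent.Helper6.NT.symm' T u4 u2, taq_2_4, Groth.Agent.Helper6.NT.symm' T u4 u3, z_3_4, (h2 u4).2, z_4_5] at key
                                    exact mul_left_cancel₀ (T.w_pos u4).ne' (by linarith only [key])
                                  have r_5 : 1 * T.m u3 + -2 * T.m u5 = 0 := by
                                    have key := Groth.Agent.Helper6.NT.rowfun6 T u0 u1 u2 u3 u4 u5 hinj u5
                                    rw [Groth.Agent.Helper6.NT.symm' T u5 u0, z_0_5, Groth.Agent.Helper6.NT.symm' T u5 u1, z_1_5, Groth.Agent.Helper6.NT.symm' T u5 u2, z_2_5, Groth.Agent.Helper6.NT.symm' T u5 u3, taq_3_5, Groth.Agent.Helper6.NT.symm' T u5 u4, z_4_5, (h2 u5).2] at key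
                                    exact mul_left_cancel₀ (T.w_pos u5).ne' (by linarith only [key])
                                  exfalso
                                  linarith only [r_0, r_1, r_2, r_3, r_4, r_5, T.m_pos u0, T.m_pos u1, T.m_pos u2, T.m_pos u3, T.m_pos u4, T.m_pos u5]
                                · -- (4,5) nonzero
                                  obtain ⟨lbp_4_5, lbq_4_5⟩ := Groth.Agent.Helper6.NT.lb T u4 u5 hn_5_4.symm nz_4_5
                                  exfalso
                                  have key := Groth.Agent.Helper6.NT.negfun4 T h2 u2 u3 u4 u5 (by norm_num) 1 1 1 1 (by norm_num) (by norm_num)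
                                  linarith only [key, tap_2_3, taq_2_3, tap_2_4, taq_2_4, z_2_5, z_3_4, tap_3_5, taq_3_5, lbp_4_5, lbq_4_5, T.w_pos u2, T.w_pos u3, T.w_pos u4, T.w_pos u5]
                              · -- (3,5) Dp
                                exfalso
                                have key := Groth.Agent.Helper6.NT.negfun5 T h2 u0 u2 u3 u4 u5 (by norm_num) 1 2 2 1 1 (by norm_num) (by norm_num)
                                linarith only [key, tap_0_2, taq_0_2, z_0_3, z_0_4, z_0_5, tap_2_3, taq_2_3, tap_2_4, taq_2_4, z_2_5, z_3_4, tap_3_5, taq_3_5, T.offDiag_nonneg u4 u5 hn_5_4.symm, T.w_pos u0, T.w_pos u2, T.w_pos u3, T.w_pos u4, T.w_pos u5]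
                              · -- (3,5) Dm
                                exfalso
                                have key := Groth.Agent.Helper6.NT.negfun5 T h2 u0 u2 u3 u4 u5 (by norm_num) 1 2 2 1 2 (by norm_num) (by norm_num)
                                linarith only [key, tap_0_2, taq_0_2, z_0_3, z_0_4, z_0_5, tap_2_3, taq_2_3, tap_2_4, taq_2_4, z_2_5, z_3_4, tap_3_5, taq_3_5, T.offDiag_nonneg u4 u5 hn_5_4.symm, T.w_pos u0, T.w_pos u2, T.w_pos u3, T.w_pos u4, T.w_pos u5]
                              · -- (3,5) Tp
                                exfalso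
                                have key := Groth.Agent.Helper6.NT.negfun3 T h2 u2 u3 u5 (by norm_num) 1 2 1 (by norm_num) (by norm_num)
                                linarith only [key, tap_2_3, taq_2_3, z_2_5, tap_3_5, taq_3_5, T.w_pos u2, T.w_pos u3, T.w_pos u5]
                              · -- (3,5) Tm
                                exfalso
                                have key := Groth.Agent.Helper6.NT.negfun3 T h2 u2 u3 u5 (by norm_num) 1 2 3 (by norm_num) (by norm_num)
                                linarith only [key, tap_2_3, taq_2_3, z_2_5, tap_3_5, taq_3_5, T.w_pos u2, T.w_pos u3, T.w_pos u5]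
                            · push Not at hx
                              have cl_3 := hx
                              clear hx
                              by_cases hx : ∃ j, (j ≠ u0 ∧ j ≠ u1 ∧ j ≠ u2 ∧ j ≠ u3 ∧ j ≠ u4) ∧ T.a u4 j ≠ 0
                              · obtain ⟨u5, ⟨hn_5_0, hn_5_1, hn_5_2, hn_5_3, hn_5_4⟩, e_4_5⟩ := hx
                                have z_0_5 : T.a u0 u5 = 0 := cl_0 u5 ⟨hn_5_0, hn_5_1, hn_5_2⟩
                                have z_1_5 : T.a u1 u5 = 0 := cl_1 u5 ⟨hn_5_0, hn_5_1, hn_5_2⟩
                                have z_2_5 : T.a u2 u5 = 0 := cl_2 u5 ⟨hn_5_0, hn_5_1, hn_5_2, hn_5_3, hn_5_4⟩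
                                have z_3_5 : T.a u3 u5 = 0 := cl_3 u5 ⟨hn_5_0, hn_5_1, hn_5_2, hn_5_3, hn_5_4⟩
                                rcases Groth.Agent.Helper6.NT.edge5 T h2 (by norm_num) u4 u5 hn_5_4.symm e_4_5 with ⟨tw_4_5, tap_4_5, taq_4_5⟩ | ⟨tw_4_5, tap_4_5, taq_4_5⟩ | ⟨tw_4_5, tap_4_5, taq_4_5⟩ | ⟨tw_4_5, tap_4_5, taq_4_5⟩ | ⟨tw_4_5, tap_4_5, taq_4_5⟩
                                · -- (4,5) S
                                  have hinj := Groth.Agent.Helper6.NT.inj6 u0 u1 u2 u3 u4 u5 hn_1_0 hn_2_0 hn_2_1 hn_3_0 hn_3_1 hn_3_2 hn_4_0 hn_4_1 hn_4_2 hn_4_3 hn_5_0 hn_5_1 hn_5_2 hn_5_3 hn_5_4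
                                  have r_0 : -2 * T.m u0 + 1 * T.m u1 + 1 * T.m u2 = 0 := by
                                    have key := Groth.Agent.Helper6.NT.rowfun6 T u0 u1 u2 u3 u4 u5 hinj u0
                                    rw [(h2 u0).2, tap_0_1, tap_0_2, z_0_3, z_0_4, z_0_5] at key
                                    exact mul_left_cancel₀ (T.w_pos u0).ne' (by linarith only [key])
                                  have r_1 : 1 * T.m u0 + -2 * T.m u1 = 0 := by
                                    have key := Groth.Agent.Helper6.NT.rowfun6 T u0 u1 u2 u3 u4 u5 hinj u1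
                                    rw [Groth.Agent.Helper6.NT.symm' T u1 u0, taq_0_1, (h2 u1).2, z_1_2, z_1_3, z_1_4, z_1_5] at key
                                    exact mul_left_cancel₀ (T.w_pos u1).ne' (by linarith only [key])
                                  have r_2 : 1 * T.m u0 + -2 * T.m u2 + 1 * T.m u3 + 1 * T.m u4 = 0 := by
                                    have key := Groth.Agent.Helper6.NT.rowfun6 T u0 u1 u2 u3 u4 u5 hinj u2
                                    rw [Groth.Agent.Helper6.NT.symm' T u2 u0, taq_0_2, Groth.Agent.Helper6.NT.symm' T u2 u1, z_1_2, (h2 u2).2, tap_2_3, tap_2_4, z_2_5] at key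
                                    exact mul_left_cancel₀ (T.w_pos u2).ne' (by linarith only [key])
                                  have r_3 : 1 * T.m u2 + -2 * T.m u3 = 0 := by
                                    have key := Groth.Agent.Helper6.NT.rowfun6 T u0 u1 u2 u3 u4 u5 hinj u3
                                    rw [Groth.Agent.Helper6.NT.symm' T u3 u0, z_0_3, Groth.Agent.Helper6.NT.symm' T u3 u1, z_1_3, Groth.Agent.Helper6.NT.symm' T u3 u2, taq_2_3, (h2 u3).2, z_3_4, z_3_5] at key
                                    exact mul_left_cancel₀ (T.w_pos u3).ne' (by linarith only [key])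
                                  have r_4 : 1 * T.m u2 + -2 * T.m u4 + 1 * T.m u5 = 0 := by
                                    have key := Groth.Agent.Helper6.NT.rowfun6 T u0 u1 u2 u3 u4 u5 hinj u4
                                    rw [Groth.Agent.Helper6.NT.symm' T u4 u0, z_0_4, Groth.Agent.Helper6.NT.symm' T u4 u1, z_1_4, Groth.Agent.Helper6.NT.symm' T u4 u2, taq_2_4, Groth.Agent.Helper6.NT.symm' T u4 u3, z_3_4, (h2 u4).2, tap_4_5] at key
                                    exact mul_left_cancel₀ (T.w_pos u4).ne' (by linarith only [key])
                                  have r_5 : 1 * T.m u4 + -2 * T.m u5 = 0 := by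
                                    have key := Groth.Agent.Helper6.NT.rowfun6 T u0 u1 u2 u3 u4 u5 hinj u5
                                    rw [Groth.Agent.Helper6.NT.symm' T u5 u0, z_0_5, Groth.Agent.Helper6.NT.symm' T u5 u1, z_1_5, Groth.Agent.Helper6.NT.symm' T u5 u2, z_2_5, Groth.Agent.Helper6.NT.symm' T u5 u3, z_3_5, Groth.Agent.Helper6.NT.symm' T u5 u4, taq_4_5, (h2 u5).2] at key
                                    exact mul_left_cancel₀ (T.w_pos u5).ne' (by linarith only [key])
                                  exfalso
                                  linarith only [r_0, r_1, r_2, r_3, r_4, r_5, T.m_pos u0, T.m_pos u1, T.m_pos u2, T.m_pos u3, T.m_pos u4, T.m_pos u5]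
                                · -- (4,5) Dp
                                  exfalso
                                  have key := Groth.Agent.Helper6.NT.negfun5 T h2 u0 u2 u3 u4 u5 (by norm_num) 1 2 1 2 1 (by norm_num) (by norm_num)
                                  linarith only [key, tap_0_2, taq_0_2, z_0_3, z_0_4, z_0_5, tap_2_3, taq_2_3, tap_2_4, taq_2_4, z_2_5, z_3_4, z_3_5, tap_4_5, taq_4_5, T.w_pos u0, T.w_pos u2, T.w_pos u3, T.w_pos u4, T.w_pos u5]
                                · -- (4,5) Dm
                                  exfalso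
                                  have key := Groth.Agent.Helper6.NT.negfun5 T h2 u0 u2 u3 u4 u5 (by norm_num) 1 2 1 2 2 (by norm_num) (by norm_num)
                                  linarith only [key, tap_0_2, taq_0_2, z_0_3, z_0_4, z_0_5, tap_2_3, taq_2_3, tap_2_4, taq_2_4, z_2_5, z_3_4, z_3_5, tap_4_5, taq_4_5, T.w_pos u0, T.w_pos u2, T.w_pos u3, T.w_pos u4, T.w_pos u5]
                                · -- (4,5) Tp
                                  exfalso
                                  have key := Groth.Agent.Helper6.NT.negfun3 T h2 u2 u4 u5 (by norm_num) 1 2 1 (by norm_num) (by norm_num)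
                                  linarith only [key, tap_2_4, taq_2_4, z_2_5, tap_4_5, taq_4_5, T.w_pos u2, T.w_pos u4, T.w_pos u5]
                                · -- (4,5) Tm
                                  exfalso
                                  have key := Groth.Agent.Helper6.NT.negfun3 T h2 u2 u4 u5 (by norm_num) 1 2 3 (by norm_num) (by norm_num)
                                  linarith only [key, tap_2_4, taq_2_4, z_2_5, tap_4_5, taq_4_5, T.w_pos u2, T.w_pos u4, T.w_pos u5]
                              · push Not at hx
                                have cl_4 := hx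
                                clear hx
                                exfalso
                                refine Groth.Agent.Helper6.NT.closed_contra T [u0, u1, u2, u3, u4] (by simp) (by simp) ?_
                                intro i hi j hj
                                simp only [List.mem_cons, List.not_mem_nil, or_false, not_or] at hi hj
                                rcases hi with rfl | rfl | rfl | rfl | rfl
                                · exact cl_0 j ⟨hj.1, hj.2.1, hj.2.2.1⟩
                                · exact cl_1 j ⟨hj.1, hj.2.1, hj.2.2.1⟩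
                                · exact cl_2 j ⟨hj.1, hj.2.1, hj.2.2.1, hj.2.2.2.1, hj.2.2.2.2⟩
                                · exact cl_3 j ⟨hj.1, hj.2.1, hj.2.2.1, hj.2.2.2.1, hj.2.2.2.2⟩
                                · exact cl_4 j ⟨hj.1, hj.2.1, hj.2.2.1, hj.2.2.2.1, hj.2.2.2.2⟩
                        · -- (3,4) nonzero
                          obtain ⟨lbp_3_4, lbq_3_4⟩ := Groth.Agent.Helper6.NT.lb T u3 u4 hn_4_3.symm nz_3_4
                          exfalso
                          have key := Groth.Agent.Helper6.NT.negfun3 T h2 u2 u3 u4 (by norm_num) 1 1 1 (by norm_num) (by norm_num)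
                          linarith only [key, tap_2_3, taq_2_3, tap_2_4, taq_2_4, lbp_3_4, lbq_3_4, T.w_pos u2, T.w_pos u3, T.w_pos u4]
                      · -- (2,4) Dp
                        exfalso
                        have key := Groth.Agent.Helper6.NT.negfun4 T h2 u0 u2 u3 u4 (by norm_num) 1 2 1 1 (by norm_num) (by norm_num)
                        linarith only [key, tap_0_2, taq_0_2, z_0_3, z_0_4, tap_2_3, taq_2_3, tap_2_4, taq_2_4, T.offDiag_nonneg u3 u4 hn_4_3.symm, T.w_pos u0, T.w_pos u2, T.w_pos u3, T.w_pos u4]
                      · -- (2,4) Dm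
                        exfalso
                        have key := Groth.Agent.Helper6.NT.negfun4 T h2 u0 u2 u3 u4 (by norm_num) 1 2 1 2 (by norm_num) (by norm_num)
                        linarith only [key, tap_0_2, taq_0_2, z_0_3, z_0_4, tap_2_3, taq_2_3, tap_2_4, taq_2_4, T.offDiag_nonneg u3 u4 hn_4_3.symm, T.w_pos u0, T.w_pos u2, T.w_pos u3, T.w_pos u4]
                      · -- (2,4) Tp
                        exfalso
                        have key := Groth.Agent.Helper6.NT.negfun3 T h2 u2 u3 u4 (by norm_num) 2 1 1 (by norm_num) (by norm_num)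
                        linarith only [key, tap_2_3, taq_2_3, tap_2_4, taq_2_4, T.offDiag_nonneg u3 u4 hn_4_3.symm, T.w_pos u2, T.w_pos u3, T.w_pos u4]
                      · -- (2,4) Tm
                        exfalso
                        have key := Groth.Agent.Helper6.NT.negfun3 T h2 u2 u3 u4 (by norm_num) 2 1 3 (by norm_num) (by norm_num)
                        linarith only [key, tap_2_3, taq_2_3, tap_2_4, taq_2_4, T.offDiag_nonneg u3 u4 hn_4_3.symm, T.w_pos u2, T.w_pos u3, T.w_pos u4]
                    · push Not at hx
                      have cl_2 := hx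
                      clear hx
                      by_cases hx : ∃ j, (j ≠ u0 ∧ j ≠ u1 ∧ j ≠ u2 ∧ j ≠ u3) ∧ T.a u3 j ≠ 0
                      · obtain ⟨u4, ⟨hn_4_0, hn_4_1, hn_4_2, hn_4_3⟩, e_3_4⟩ := hx
                        have z_0_4 : T.a u0 u4 = 0 := cl_0 u4 ⟨hn_4_0, hn_4_1, hn_4_2⟩
                        have z_1_4 : T.a u1 u4 = 0 := cl_1 u4 ⟨hn_4_0, hn_4_1, hn_4_2⟩
                        have z_2_4 : T.a u2 u4 = 0 := cl_2 u4 ⟨hn_4_0, hn_4_1, hn_4_2, hn_4_3⟩
                        rcases Groth.Agent.Helper6.NT.edge5 T h2 (by norm_num) u3 u4 hn_4_3.symm e_3_4 with ⟨tw_3_4, tap_3_4, taq_3_4⟩ | ⟨tw_3_4, tap_3_4, taq_3_4⟩ | ⟨tw_3_4, tap_3_4, taq_3_4⟩ | ⟨tw_3_4, tap_3_4, taq_3_4⟩ | ⟨tw_3_4, tap_3_4, taq_3_4⟩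
                        · -- (3,4) S
                          by_cases hx : ∃ j, (j ≠ u0 ∧ j ≠ u1 ∧ j ≠ u2 ∧ j ≠ u3 ∧ j ≠ u4) ∧ T.a u3 j ≠ 0
                          · obtain ⟨u5, ⟨hn_5_0, hn_5_1, hn_5_2, hn_5_3, hn_5_4⟩, e_3_5⟩ := hx
                            have z_0_5 : T.a u0 u5 = 0 := cl_0 u5 ⟨hn_5_0, hn_5_1, hn_5_2⟩
                            have z_1_5 : T.a u1 u5 = 0 := cl_1 u5 ⟨hn_5_0, hn_5_1, hn_5_2⟩
                            have z_2_5 : T.a u2 u5 = 0 := cl_2 u5 ⟨hn_5_0, hn_5_1, hn_5_2, hn_5_3⟩
                            rcases Groth.Agent.Helper6.NT.edge5 T h2 (by norm_num) u3 u5 hn_5_3.symm e_3_5 with ⟨tw_3_5, tap_3_5, taq_3_5⟩ | ⟨tw_3_5, tap_3_5, taq_3_5⟩ | ⟨tw_3_5, tap_3_5, taq_3_5⟩ | ⟨tw_3_5, tap_3_5, taq_3_5⟩ | ⟨tw_3_5, tap_3_5, taq_3_5⟩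
                            · -- (3,5) S
                              rcases eq_or_ne (T.a u4 u5) 0 with z_4_5 | nz_4_5
                              · -- (4,5) zero
                                have hinj := Groth.Agent.Helper6.NT.inj6 u0 u1 u2 u3 u4 u5 hn_1_0 hn_2_0 hn_2_1 hn_3_0 hn_3_1 hn_3_2 hn_4_0 hn_4_1 hn_4_2 hn_4_3 hn_5_0 hn_5_1 hn_5_2 hn_5_3 hn_5_4
                                have r_0 : -2 * T.m u0 + 1 * T.m u1 + 1 * T.m u2 = 0 := by
                                  have key := Groth.Agent.Helper6.NT.rowfun6 T u0 u1 u2 u3 u4 u5 hinj u0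
                                  rw [(h2 u0).2, tap_0_1, tap_0_2, z_0_3, z_0_4, z_0_5] at key
                                  exact mul_left_cancel₀ (T.w_pos u0).ne' (by linarith only [key])
                                have r_1 : 1 * T.m u0 + -2 * T.m u1 = 0 := by
                                  have key := Groth.Agent.Helper6.NT.rowfun6 T u0 u1 u2 u3 u4 u5 hinj u1
                                  rw [Groth.Agent.Helper6.NT.symm' T u1 u0, taq_0_1, (h2 u1).2, z_1_2, z_1_3, z_1_4, z_1_5] at key
                                  exact mul_left_cancel₀ (T.w_pos u1).ne' (by linarith only [key])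
                                have r_2 : 1 * T.m u0 + -2 * T.m u2 + 1 * T.m u3 = 0 := by
                                  have key := Groth.Agent.Helper6.NT.rowfun6 T u0 u1 u2 u3 u4 u5 hinj u2
                                  rw [Groth.Agent.Helper6.NT.symm' T u2 u0, taq_0_2, Groth.Agent.Helper6.NT.symm' T u2 u1, z_1_2, (h2 u2).2, tap_2_3, z_2_4, z_2_5] at key
                                  exact mul_left_cancel₀ (T.w_pos u2).ne' (by linarith only [key])
                                have r_3 : 1 * T.m u2 + -2 * T.m u3 + 1 * T.m u4 + 1 * T.m u5 = 0 := by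
                                  have key := Groth.Agent.Helper6.NT.rowfun6 T u0 u1 u2 u3 u4 u5 hinj u3
                                  rw [Groth.Agent.Helper6.NT.symm' T u3 u0, z_0_3, Groth.Agent.Helper6.NT.symm' T u3 u1, z_1_3, Groth.Agent.Helper6.NT.symm' T u3 u2, taq_2_3, (h2 u3).2, tap_3_4, tap_3_5] at key
                                  exact mul_left_cancel₀ (T.w_pos u3).ne' (by linarith only [key])
                                have r_4 : 1 * T.m u3 + -2 * T.m u4 = 0 := by
                                  have key := Groth.Agent.Helper6.NT.rowfun6 T u0 u1 u2 u3 u4 u5 hinj u4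
                                  rw [Groth.Agent.Helper6.NT.symm' T u4 u0, z_0_4, Groth.Agent.Helper6.NT.symm' T u4 u1, z_1_4, Groth.Agent.Helper6.NT.symm' T u4 u2, z_2_4, Groth.Agent.Helper6.NT.symm' T u4 u3, taq_3_4, (h2 u4).2, z_4_5] at key
                                  exact mul_left_cancel₀ (T.w_pos u4).ne' (by linarith only [key])
                                have r_5 : 1 * T.m u3 + -2 * T.m u5 = 0 := by
                                  have key := Groth.Agent.Helper6.NT.rowfun6 T u0 u1 u2 u3 u4 u5 hinj u5
                                  rw [Groth.Agent.Helper6.NT.symm' T u5 u0, z_0_5, Groth.Agent.Helper6.NT.symm' T u5 u1, z_1_5, Groth.Agent.Helper6.NT.symm' T u5 u2, z_2_5, Groth.Agent.Helper6.NT.symm' T u5 u3, taq_3_5, Groth.Agent.Helper6.NT.symm' T u5 u4, z_4_5, (h2 u5).2] at key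
                                  exact mul_left_cancel₀ (T.w_pos u5).ne' (by linarith only [key])
                                exfalso
                                linarith only [r_0, r_1, r_2, r_3, r_4, r_5, T.m_pos u0, T.m_pos u1, T.m_pos u2, T.m_pos u3, T.m_pos u4, T.m_pos u5]
                              · -- (4,5) nonzero
                                obtain ⟨lbp_4_5, lbq_4_5⟩ := Groth.Agent.Helper6.NT.lb T u4 u5 hn_5_4.symm nz_4_5
                                exfalso
                                have key := Groth.Agent.Helper6.NT.negfun3 T h2 u3 u4 u5 (by norm_num) 1 1 1 (by norm_num) (by norm_num)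
                                linarith only [key, tap_3_4, taq_3_4, tap_3_5, taq_3_5, lbp_4_5, lbq_4_5, T.w_pos u3, T.w_pos u4, T.w_pos u5]
                            · -- (3,5) Dp
                              exfalso
                              have key := Groth.Agent.Helper6.NT.negfun4 T h2 u2 u3 u4 u5 (by norm_num) 1 2 1 1 (by norm_num) (by norm_num)
                              linarith only [key, tap_2_3, taq_2_3, z_2_4, z_2_5, tap_3_4, taq_3_4, tap_3_5, taq_3_5, T.offDiag_nonneg u4 u5 hn_5_4.symm, T.w_pos u2, T.w_pos u3, T.w_pos u4, T.w_pos u5]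
                            · -- (3,5) Dm
                              exfalso
                              have key := Groth.Agent.Helper6.NT.negfun4 T h2 u2 u3 u4 u5 (by norm_num) 1 2 1 2 (by norm_num) (by norm_num)
                              linarith only [key, tap_2_3, taq_2_3, z_2_4, z_2_5, tap_3_4, taq_3_4, tap_3_5, taq_3_5, T.offDiag_nonneg u4 u5 hn_5_4.symm, T.w_pos u2, T.w_pos u3, T.w_pos u4, T.w_pos u5]
                            · -- (3,5) Tp
                              exfalso
                              have key := Groth.Agent.Helper6.NT.negfun3 T h2 u3 u4 u5 (by norm_num) 2 1 1 (by norm_num) (by norm_num)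
                              linarith only [key, tap_3_4, taq_3_4, tap_3_5, taq_3_5, T.offDiag_nonneg u4 u5 hn_5_4.symm, T.w_pos u3, T.w_pos u4, T.w_pos u5]
                            · -- (3,5) Tm
                              exfalso
                              have key := Groth.Agent.Helper6.NT.negfun3 T h2 u3 u4 u5 (by norm_num) 2 1 3 (by norm_num) (by norm_num)
                              linarith only [key, tap_3_4, taq_3_4, tap_3_5, taq_3_5, T.offDiag_nonneg u4 u5 hn_5_4.symm, T.w_pos u3, T.w_pos u4, T.w_pos u5]
                          · push Not at hx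
                            have cl_3 := hx
                            clear hx
                            by_cases hx : ∃ j, (j ≠ u0 ∧ j ≠ u1 ∧ j ≠ u2 ∧ j ≠ u3 ∧ j ≠ u4) ∧ T.a u4 j ≠ 0
                            · obtain ⟨u5, ⟨hn_5_0, hn_5_1, hn_5_2, hn_5_3, hn_5_4⟩, e_4_5⟩ := hx
                              have z_0_5 : T.a u0 u5 = 0 := cl_0 u5 ⟨hn_5_0, hn_5_1, hn_5_2⟩
                              have z_1_5 : T.a u1 u5 = 0 := cl_1 u5 ⟨hn_5_0, hn_5_1, hn_5_2⟩
                              have z_2_5 : T.a u2 u5 = 0 := cl_2 u5 ⟨hn_5_0, hn_5_1, hn_5_2, hn_5_3⟩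
                              have z_3_5 : T.a u3 u5 = 0 := cl_3 u5 ⟨hn_5_0, hn_5_1, hn_5_2, hn_5_3, hn_5_4⟩
                              rcases Groth.Agent.Helper6.NT.edge5 T h2 (by norm_num) u4 u5 hn_5_4.symm e_4_5 with ⟨tw_4_5, tap_4_5, taq_4_5⟩ | ⟨tw_4_5, tap_4_5, taq_4_5⟩ | ⟨tw_4_5, tap_4_5, taq_4_5⟩ | ⟨tw_4_5, tap_4_5, taq_4_5⟩ | ⟨tw_4_5, tap_4_5, taq_4_5⟩
                              · -- (4,5) S
                                have hinj := Groth.Agent.Helper6.NT.inj6 u0 u1 u2 u3 u4 u5 hn_1_0 hn_2_0 hn_2_1 hn_3_0 hn_3_1 hn_3_2 hn_4_0 hn_4_1 hn_4_2 hn_4_3 hn_5_0 hn_5_1 hn_5_2 hn_5_3 hn_5_4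
                                have r_0 : -2 * T.m u0 + 1 * T.m u1 + 1 * T.m u2 = 0 := by
                                  have key := Groth.Agent.Helper6.NT.rowfun6 T u0 u1 u2 u3 u4 u5 hinj u0
                                  rw [(h2 u0).2, tap_0_1, tap_0_2, z_0_3, z_0_4, z_0_5] at key
                                  exact mul_left_cancel₀ (T.w_pos u0).ne' (by linarith only [key])
                                have r_1 : 1 * T.m u0 + -2 * T.m u1 = 0 := by
                                  have key := Groth.Agent.Helper6.NT.rowfun6 T u0 u1 u2 u3 u4 u5 hinj u1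
                                  rw [Groth.Agent.Helper6.NT.symm' T u1 u0, taq_0_1, (h2 u1).2, z_1_2, z_1_3, z_1_4, z_1_5] at key
                                  exact mul_left_cancel₀ (T.w_pos u1).ne' (by linarith only [key])
                                have r_2 : 1 * T.m u0 + -2 * T.m u2 + 1 * T.m u3 = 0 := by
                                  have key := Groth.Agent.Helper6.NT.rowfun6 T u0 u1 u2 u3 u4 u5 hinj u2
                                  rw [Groth.Agent.Helper6.NT.symm' T u2 u0, taq_0_2, Groth.Agent.Helper6.NT.symm' T u2 u1, z_1_2, (h2 u2).2, tap_2_3, z_2_4, z_2_5] at key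
                                  exact mul_left_cancel₀ (T.w_pos u2).ne' (by linarith only [key])
                                have r_3 : 1 * T.m u2 + -2 * T.m u3 + 1 * T.m u4 = 0 := by
                                  have key := Groth.Agent.Helper6.NT.rowfun6 T u0 u1 u2 u3 u4 u5 hinj u3
                                  rw [Groth.Agent.Helper6.NT.symm' T u3 u0, z_0_3, Groth.Agent.Helper6.NT.symm' T u3 u1, z_1_3, Groth.Agent.Helper6.NT.symm' T u3 u2, taq_2_3, (h2 u3).2, tap_3_4, z_3_5] at key
                                  exact mul_left_cancel₀ (T.w_pos u3).ne' (by linarith only [key])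
                                have r_4 : 1 * T.m u3 + -2 * T.m u4 + 1 * T.m u5 = 0 := by
                                  have key := Groth.Agent.Helper6.NT.rowfun6 T u0 u1 u2 u3 u4 u5 hinj u4
                                  rw [Groth.Agent.Helper6.NT.symm' T u4 u0, z_0_4, Groth.Agent.Helper6.NT.symm' T u4 u1, z_1_4, Groth.Agent.Helper6.NT.symm' T u4 u2, z_2_4, Groth.Agent.Helper6.NT.symm' T u4 u3, taq_3_4, (h2 u4).2, tap_4_5] at key
                                  exact mul_left_cancel₀ (T.w_pos u4).ne' (by linarith only [key])
                                have r_5 : 1 * T.m u4 + -2 * T.m u5 = 0 := by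
                                  have key := Groth.Agent.Helper6.NT.rowfun6 T u0 u1 u2 u3 u4 u5 hinj u5
                                  rw [Groth.Agent.Helper6.NT.symm' T u5 u0, z_0_5, Groth.Agent.Helper6.NT.symm' T u5 u1, z_1_5, Groth.Agent.Helper6.NT.symm' T u5 u2, z_2_5, Groth.Agent.Helper6.NT.symm' T u5 u3, z_3_5, Groth.Agent.Helper6.NT.symm' T u5 u4, taq_4_5, (h2 u5).2] at key
                                  exact mul_left_cancel₀ (T.w_pos u5).ne' (by linarith only [key])
                                exfalso
                                linarith only [r_0, r_1, r_2, r_3, r_4, r_5, T.m_pos u0, T.m_pos u1, T.m_pos u2, T.m_pos u3, T.m_pos u4, T.m_pos u5]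
                              · -- (4,5) Dp
                                have hinj := Groth.Agent.Helper6.NT.inj6 u0 u1 u2 u3 u4 u5 hn_1_0 hn_2_0 hn_2_1 hn_3_0 hn_3_1 hn_3_2 hn_4_0 hn_4_1 hn_4_2 hn_4_3 hn_5_0 hn_5_1 hn_5_2 hn_5_3 hn_5_4
                                have r_0 : -2 * T.m u0 + 1 * T.m u1 + 1 * T.m u2 = 0 := by
                                  have key := Groth.Agent.Helper6.NT.rowfun6 T u0 u1 u2 u3 u4 u5 hinj u0
                                  rw [(h2 u0).2, tap_0_1, tap_0_2, z_0_3, z_0_4, z_0_5] at key
                                  exact mul_left_cancel₀ (T.w_pos u0).ne' (by linarith only [key])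
                                have r_1 : 1 * T.m u0 + -2 * T.m u1 = 0 := by
                                  have key := Groth.Agent.Helper6.NT.rowfun6 T u0 u1 u2 u3 u4 u5 hinj u1
                                  rw [Groth.Agent.Helper6.NT.symm' T u1 u0, taq_0_1, (h2 u1).2, z_1_2, z_1_3, z_1_4, z_1_5] at key
                                  exact mul_left_cancel₀ (T.w_pos u1).ne' (by linarith only [key])
                                have r_2 : 1 * T.m u0 + -2 * T.m u2 + 1 * T.m u3 = 0 := by
                                  have key := Groth.Agent.Helper6.NT.rowfun6 T u0 u1 u2 u3 u4 u5 hinj u2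
                                  rw [Groth.Agent.Helper6.NT.symm' T u2 u0, taq_0_2, Groth.Agent.Helper6.NT.symm' T u2 u1, z_1_2, (h2 u2).2, tap_2_3, z_2_4, z_2_5] at key
                                  exact mul_left_cancel₀ (T.w_pos u2).ne' (by linarith only [key])
                                have r_3 : 1 * T.m u2 + -2 * T.m u3 + 1 * T.m u4 = 0 := by
                                  have key := Groth.Agent.Helper6.NT.rowfun6 T u0 u1 u2 u3 u4 u5 hinj u3
                                  rw [Groth.Agent.Helper6.NT.symm' T u3 u0, z_0_3, Groth.Agent.Helper6.NT.symm' T u3 u1, z_1_3, Groth.Agent.Helper6.NT.symm' T u3 u2, taq_2_3, (h2 u3).2, tap_3_4, z_3_5] at key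
                                  exact mul_left_cancel₀ (T.w_pos u3).ne' (by linarith only [key])
                                have r_4 : 1 * T.m u3 + -2 * T.m u4 + 2 * T.m u5 = 0 := by
                                  have key := Groth.Agent.Helper6.NT.rowfun6 T u0 u1 u2 u3 u4 u5 hinj u4
                                  rw [Groth.Agent.Helper6.NT.symm' T u4 u0, z_0_4, Groth.Agent.Helper6.NT.symm' T u4 u1, z_1_4, Groth.Agent.Helper6.NT.symm' T u4 u2, z_2_4, Groth.Agent.Helper6.NT.symm' T u4 u3, taq_3_4, (h2 u4).2, tap_4_5] at key
                                  exact mul_left_cancel₀ (T.w_pos u4).ne' (by linarith only [key])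
                                have r_5 : 1 * T.m u4 + -2 * T.m u5 = 0 := by
                                  have key := Groth.Agent.Helper6.NT.rowfun6 T u0 u1 u2 u3 u4 u5 hinj u5
                                  rw [Groth.Agent.Helper6.NT.symm' T u5 u0, z_0_5, Groth.Agent.Helper6.NT.symm' T u5 u1, z_1_5, Groth.Agent.Helper6.NT.symm' T u5 u2, z_2_5, Groth.Agent.Helper6.NT.symm' T u5 u3, z_3_5, Groth.Agent.Helper6.NT.symm' T u5 u4, taq_4_5, (h2 u5).2] at key
                                  exact mul_left_cancel₀ (T.w_pos u5).ne' (by linarith only [key])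
                                exfalso
                                linarith only [r_0, r_1, r_2, r_3, r_4, r_5, T.m_pos u0, T.m_pos u1, T.m_pos u2, T.m_pos u3, T.m_pos u4, T.m_pos u5]
                              · -- (4,5) Dm
                                have hinj := Groth.Agent.Helper6.NT.inj6 u0 u1 u2 u3 u4 u5 hn_1_0 hn_2_0 hn_2_1 hn_3_0 hn_3_1 hn_3_2 hn_4_0 hn_4_1 hn_4_2 hn_4_3 hn_5_0 hn_5_1 hn_5_2 hn_5_3 hn_5_4
                                have r_0 : -2 * T.m u0 + 1 * T.m u1 + 1 * T.m u2 = 0 := by
                                  have key := Groth.Agent.Helper6.NT.rowfun6 T u0 u1 u2 u3 u4 u5 hinj u0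
                                  rw [(h2 u0).2, tap_0_1, tap_0_2, z_0_3, z_0_4, z_0_5] at key
                                  exact mul_left_cancel₀ (T.w_pos u0).ne' (by linarith only [key])
                                have r_1 : 1 * T.m u0 + -2 * T.m u1 = 0 := by
                                  have key := Groth.Agent.Helper6.NT.rowfun6 T u0 u1 u2 u3 u4 u5 hinj u1
                                  rw [Groth.Agent.Helper6.NT.symm' T u1 u0, taq_0_1, (h2 u1).2, z_1_2, z_1_3, z_1_4, z_1_5] at key
                                  exact mul_left_cancel₀ (T.w_pos u1).ne' (by linarith only [key])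
                                have r_2 : 1 * T.m u0 + -2 * T.m u2 + 1 * T.m u3 = 0 := by
                                  have key := Groth.Agent.Helper6.NT.rowfun6 T u0 u1 u2 u3 u4 u5 hinj u2
                                  rw [Groth.Agent.Helper6.NT.symm' T u2 u0, taq_0_2, Groth.Agent.Helper6.NT.symm' T u2 u1, z_1_2, (h2 u2).2, tap_2_3, z_2_4, z_2_5] at key
                                  exact mul_left_cancel₀ (T.w_pos u2).ne' (by linarith only [key])
                                have r_3 : 1 * T.m u2 + -2 * T.m u3 + 1 * T.m u4 = 0 := by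
                                  have key := Groth.Agent.Helper6.NT.rowfun6 T u0 u1 u2 u3 u4 u5 hinj u3
                                  rw [Groth.Agent.Helper6.NT.symm' T u3 u0, z_0_3, Groth.Agent.Helper6.NT.symm' T u3 u1, z_1_3, Groth.Agent.Helper6.NT.symm' T u3 u2, taq_2_3, (h2 u3).2, tap_3_4, z_3_5] at key
                                  exact mul_left_cancel₀ (T.w_pos u3).ne' (by linarith only [key])
                                have r_4 : 1 * T.m u3 + -2 * T.m u4 + 1 * T.m u5 = 0 := by
                                  have key := Groth.Agent.Helper6.NT.rowfun6 T u0 u1 u2 u3 u4 u5 hinj u4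
                                  rw [Groth.Agent.Helper6.NT.symm' T u4 u0, z_0_4, Groth.Agent.Helper6.NT.symm' T u4 u1, z_1_4, Groth.Agent.Helper6.NT.symm' T u4 u2, z_2_4, Groth.Agent.Helper6.NT.symm' T u4 u3, taq_3_4, (h2 u4).2, tap_4_5] at key
                                  exact mul_left_cancel₀ (T.w_pos u4).ne' (by linarith only [key])
                                have r_5 : 2 * T.m u4 + -2 * T.m u5 = 0 := by
                                  have key := Groth.Agent.Helper6.NT.rowfun6 T u0 u1 u2 u3 u4 u5 hinj u5
                                  rw [Groth.Agent.Helper6.NT.symm' T u5 u0, z_0_5, Groth.Agent.Helper6.NT.symm' T u5 u1, z_1_5, Groth.Agent.Helper6.NT.symm' T u5 u2, z_2_5, Groth.Agent.Helper6.NT.symm' T u5 u3, z_3_5, Groth.Agent.Helper6.NT.symm' T u5 u4, taq_4_5, (h2 u5).2] at key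
                                  exact mul_left_cancel₀ (T.w_pos u5).ne' (by linarith only [key])
                                exfalso
                                linarith only [r_0, r_1, r_2, r_3, r_4, r_5, T.m_pos u0, T.m_pos u1, T.m_pos u2, T.m_pos u3, T.m_pos u4, T.m_pos u5]
                              · -- (4,5) Tp
                                exfalso
                                have key := Groth.Agent.Helper6.NT.negfun3 T h2 u3 u4 u5 (by norm_num) 1 2 1 (by norm_num) (by norm_num)
                                linarith only [key, tap_3_4, taq_3_4, z_3_5, tap_4_5, taq_4_5, T.w_pos u3, T.w_pos u4, T.w_pos u5]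
                              · -- (4,5) Tm
                                exfalso
                                have key := Groth.Agent.Helper6.NT.negfun3 T h2 u3 u4 u5 (by norm_num) 1 2 3 (by norm_num) (by norm_num)
                                linarith only [key, tap_3_4, taq_3_4, z_3_5, tap_4_5, taq_4_5, T.w_pos u3, T.w_pos u4, T.w_pos u5]
                            · push Not at hx
                              have cl_4 := hx
                              clear hx
                              exfalso
                              refine Groth.Agent.Helper6.NT.closed_contra T [u0, u1, u2, u3, u4] (by simp) (by simp) ?_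
                              intro i hi j hj
                              simp only [List.mem_cons, List.not_mem_nil, or_false, not_or] at hi hj
                              rcases hi with rfl | rfl | rfl | rfl | rfl
                              · exact cl_0 j ⟨hj.1, hj.2.1, hj.2.2.1⟩
                              · exact cl_1 j ⟨hj.1, hj.2.1, hj.2.2.1⟩
                              · exact cl_2 j ⟨hj.1, hj.2.1, hj.2.2.1, hj.2.2.2.1⟩
                              · exact cl_3 j ⟨hj.1, hj.2.1, hj.2.2.1, hj.2.2.2.1, hj.2.2.2.2⟩
                              · exact cl_4 j ⟨hj.1, hj.2.1, hj.2.2.1, hj.2.2.2.1, hj.2.2.2.2⟩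
                        · -- (3,4) Dp
                          by_cases hx : ∃ j, (j ≠ u0 ∧ j ≠ u1 ∧ j ≠ u2 ∧ j ≠ u3 ∧ j ≠ u4) ∧ T.a u3 j ≠ 0
                          · obtain ⟨u5, ⟨hn_5_0, hn_5_1, hn_5_2, hn_5_3, hn_5_4⟩, e_3_5⟩ := hx
                            have z_0_5 : T.a u0 u5 = 0 := cl_0 u5 ⟨hn_5_0, hn_5_1, hn_5_2⟩
                            have z_1_5 : T.a u1 u5 = 0 := cl_1 u5 ⟨hn_5_0, hn_5_1, hn_5_2⟩
                            have z_2_5 : T.a u2 u5 = 0 := cl_2 u5 ⟨hn_5_0, hn_5_1, hn_5_2, hn_5_3⟩
                            rcases Groth.Agent.Helper6.NT.edge5 T h2 (by norm_num) u3 u5 hn_5_3.symm e_3_5 with ⟨tw_3_5, tap_3_5, taq_3_5⟩ | ⟨tw_3_5, tap_3_5, taq_3_5⟩ | ⟨tw_3_5, tap_3_5, taq_3_5⟩ | ⟨tw_3_5, tap_3_5, taq_3_5⟩ | ⟨tw_3_5, tap_3_5, taq_3_5⟩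
                            · -- (3,5) S
                              exfalso
                              have key := Groth.Agent.Helper6.NT.negfun4 T h2 u2 u3 u4 u5 (by norm_num) 1 2 1 1 (by norm_num) (by norm_num)
                              linarith only [key, tap_2_3, taq_2_3, z_2_4, z_2_5, tap_3_4, taq_3_4, tap_3_5, taq_3_5, T.offDiag_nonneg u4 u5 hn_5_4.symm, T.w_pos u2, T.w_pos u3, T.w_pos u4, T.w_pos u5]
                            · -- (3,5) Dp
                              exfalso
                              have key := Groth.Agent.Helper6.NT.negfun3 T h2 u3 u4 u5 (by norm_num) 2 1 1 (by norm_num) (by norm_num)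
                              linarith only [key, tap_3_4, taq_3_4, tap_3_5, taq_3_5, T.offDiag_nonneg u4 u5 hn_5_4.symm, T.w_pos u3, T.w_pos u4, T.w_pos u5]
                            · -- (3,5) Dm
                              exfalso
                              have key := Groth.Agent.Helper6.NT.negfun3 T h2 u3 u4 u5 (by norm_num) 2 1 2 (by norm_num) (by norm_num)
                              linarith only [key, tap_3_4, taq_3_4, tap_3_5, taq_3_5, T.offDiag_nonneg u4 u5 hn_5_4.symm, T.w_pos u3, T.w_pos u4, T.w_pos u5]
                            · -- (3,5) Tp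
                              exfalso
                              have key := Groth.Agent.Helper6.NT.negfun3 T h2 u3 u4 u5 (by norm_num) 2 1 1 (by norm_num) (by norm_num)
                              linarith only [key, tap_3_4, taq_3_4, tap_3_5, taq_3_5, T.offDiag_nonneg u4 u5 hn_5_4.symm, T.w_pos u3, T.w_pos u4, T.w_pos u5]
                            · -- (3,5) Tm
                              exfalso
                              have key := Groth.Agent.Helper6.NT.negfun3 T h2 u3 u4 u5 (by norm_num) 2 1 3 (by norm_num) (by norm_num)
                              linarith only [key, tap_3_4, taq_3_4, tap_3_5, taq_3_5, T.offDiag_nonneg u4 u5 hn_5_4.symm, T.w_pos u3, T.w_pos u4, T.w_pos u5]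
                          · push Not at hx
                            have cl_3 := hx
                            clear hx
                            by_cases hx : ∃ j, (j ≠ u0 ∧ j ≠ u1 ∧ j ≠ u2 ∧ j ≠ u3 ∧ j ≠ u4) ∧ T.a u4 j ≠ 0
                            · obtain ⟨u5, ⟨hn_5_0, hn_5_1, hn_5_2, hn_5_3, hn_5_4⟩, e_4_5⟩ := hx
                              have z_0_5 : T.a u0 u5 = 0 := cl_0 u5 ⟨hn_5_0, hn_5_1, hn_5_2⟩
                              have z_1_5 : T.a u1 u5 = 0 := cl_1 u5 ⟨hn_5_0, hn_5_1, hn_5_2⟩
                              have z_2_5 : T.a u2 u5 = 0 := cl_2 u5 ⟨hn_5_0, hn_5_1, hn_5_2, hn_5_3⟩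
                              have z_3_5 : T.a u3 u5 = 0 := cl_3 u5 ⟨hn_5_0, hn_5_1, hn_5_2, hn_5_3, hn_5_4⟩
                              rcases Groth.Agent.Helper6.NT.edge5 T h2 (by norm_num) u4 u5 hn_5_4.symm e_4_5 with ⟨tw_4_5, tap_4_5, taq_4_5⟩ | ⟨tw_4_5, tap_4_5, taq_4_5⟩ | ⟨tw_4_5, tap_4_5, taq_4_5⟩ | ⟨tw_4_5, tap_4_5, taq_4_5⟩ | ⟨tw_4_5, tap_4_5, taq_4_5⟩
                              · -- (4,5) S
                                exfalso
                                have key := Groth.Agent.Helper6.NT.negfun5 T h2 u0 u2 u3 u4 u5 (by norm_num) 1 2 3 2 1 (by norm_num) (by norm_num)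
                                linarith only [key, tap_0_2, taq_0_2, z_0_3, z_0_4, z_0_5, tap_2_3, taq_2_3, z_2_4, z_2_5, tap_3_4, taq_3_4, z_3_5, tap_4_5, taq_4_5, T.w_pos u0, T.w_pos u2, T.w_pos u3, T.w_pos u4, T.w_pos u5]
                              · -- (4,5) Dp
                                exfalso
                                have key := Groth.Agent.Helper6.NT.negfun3 T h2 u3 u4 u5 (by norm_num) 2 2 1 (by norm_num) (by norm_num)
                                linarith only [key, tap_3_4, taq_3_4, z_3_5, tap_4_5, taq_4_5, T.w_pos u3, T.w_pos u4, T.w_pos u5]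
                              · -- (4,5) Dm
                                exfalso
                                have key := Groth.Agent.Helper6.NT.negfun3 T h2 u3 u4 u5 (by norm_num) 1 1 1 (by norm_num) (by norm_num)
                                linarith only [key, tap_3_4, taq_3_4, z_3_5, tap_4_5, taq_4_5, T.w_pos u3, T.w_pos u4, T.w_pos u5]
                              · -- (4,5) Tp
                                exfalso
                                have key := Groth.Agent.Helper6.NT.negfun3 T h2 u3 u4 u5 (by norm_num) 2 2 1 (by norm_num) (by norm_num)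
                                linarith only [key, tap_3_4, taq_3_4, z_3_5, tap_4_5, taq_4_5, T.w_pos u3, T.w_pos u4, T.w_pos u5]
                              · -- (4,5) Tm
                                exfalso
                                have key := Groth.Agent.Helper6.NT.negfun3 T h2 u3 u4 u5 (by norm_num) 2 2 3 (by norm_num) (by norm_num)
                                linarith only [key, tap_3_4, taq_3_4, z_3_5, tap_4_5, taq_4_5, T.w_pos u3, T.w_pos u4, T.w_pos u5]
                            · push Not at hx
                              have cl_4 := hx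
                              clear hx
                              exfalso
                              refine Groth.Agent.Helper6.NT.closed_contra T [u0, u1, u2, u3, u4] (by simp) (by simp) ?_
                              intro i hi j hj
                              simp only [List.mem_cons, List.not_mem_nil, or_false, not_or] at hi hj
                              rcases hi with rfl | rfl | rfl | rfl | rfl
                              · exact cl_0 j ⟨hj.1, hj.2.1, hj.2.2.1⟩
                              · exact cl_1 j ⟨hj.1, hj.2.1, hj.2.2.1⟩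
                              · exact cl_2 j ⟨hj.1, hj.2.1, hj.2.2.1, hj.2.2.2.1⟩
                              · exact cl_3 j ⟨hj.1, hj.2.1, hj.2.2.1, hj.2.2.2.1, hj.2.2.2.2⟩
                              · exact cl_4 j ⟨hj.1, hj.2.1, hj.2.2.1, hj.2.2.2.1, hj.2.2.2.2⟩
                        · -- (3,4) Dm
                          by_cases hx : ∃ j, (j ≠ u0 ∧ j ≠ u1 ∧ j ≠ u2 ∧ j ≠ u3 ∧ j ≠ u4) ∧ T.a u3 j ≠ 0
                          · obtain ⟨u5, ⟨hn_5_0, hn_5_1, hn_5_2, hn_5_3, hn_5_4⟩, e_3_5⟩ := hx
                            have z_0_5 : T.a u0 u5 = 0 := cl_0 u5 ⟨hn_5_0, hn_5_1, hn_5_2⟩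
                            have z_1_5 : T.a u1 u5 = 0 := cl_1 u5 ⟨hn_5_0, hn_5_1, hn_5_2⟩
                            have z_2_5 : T.a u2 u5 = 0 := cl_2 u5 ⟨hn_5_0, hn_5_1, hn_5_2, hn_5_3⟩
                            rcases Groth.Agent.Helper6.NT.edge5 T h2 (by norm_num) u3 u5 hn_5_3.symm e_3_5 with ⟨tw_3_5, tap_3_5, taq_3_5⟩ | ⟨tw_3_5, tap_3_5, taq_3_5⟩ | ⟨tw_3_5, tap_3_5, taq_3_5⟩ | ⟨tw_3_5, tap_3_5, taq_3_5⟩ | ⟨tw_3_5, tap_3_5, taq_3_5⟩
                            · -- (3,5) S
                              exfalso
                              have key := Groth.Agent.Helper6.NT.negfun4 T h2 u2 u3 u4 u5 (by norm_num) 1 2 2 1 (by norm_num) (by norm_num)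
                              linarith only [key, tap_2_3, taq_2_3, z_2_4, z_2_5, tap_3_4, taq_3_4, tap_3_5, taq_3_5, T.offDiag_nonneg u4 u5 hn_5_4.symm, T.w_pos u2, T.w_pos u3, T.w_pos u4, T.w_pos u5]
                            · -- (3,5) Dp
                              exfalso
                              have key := Groth.Agent.Helper6.NT.negfun3 T h2 u3 u4 u5 (by norm_num) 2 2 1 (by norm_num) (by norm_num)
                              linarith only [key, tap_3_4, taq_3_4, tap_3_5, taq_3_5, T.offDiag_nonneg u4 u5 hn_5_4.symm, T.w_pos u3, T.w_pos u4, T.w_pos u5]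
                            · -- (3,5) Dm
                              exfalso
                              have key := Groth.Agent.Helper6.NT.negfun3 T h2 u3 u4 u5 (by norm_num) 1 1 1 (by norm_num) (by norm_num)
                              linarith only [key, tap_3_4, taq_3_4, tap_3_5, taq_3_5, T.offDiag_nonneg u4 u5 hn_5_4.symm, T.w_pos u3, T.w_pos u4, T.w_pos u5]
                            · -- (3,5) Tp
                              exfalso
                              have key := Groth.Agent.Helper6.NT.negfun3 T h2 u3 u4 u5 (by norm_num) 2 2 1 (by norm_num) (by norm_num)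
                              linarith only [key, tap_3_4, taq_3_4, tap_3_5, taq_3_5, T.offDiag_nonneg u4 u5 hn_5_4.symm, T.w_pos u3, T.w_pos u4, T.w_pos u5]
                            · -- (3,5) Tm
                              exfalso
                              have key := Groth.Agent.Helper6.NT.negfun3 T h2 u3 u4 u5 (by norm_num) 2 2 3 (by norm_num) (by norm_num)
                              linarith only [key, tap_3_4, taq_3_4, tap_3_5, taq_3_5, T.offDiag_nonneg u4 u5 hn_5_4.symm, T.w_pos u3, T.w_pos u4, T.w_pos u5]
                          · push Not at hx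
                            have cl_3 := hx
                            clear hx
                            by_cases hx : ∃ j, (j ≠ u0 ∧ j ≠ u1 ∧ j ≠ u2 ∧ j ≠ u3 ∧ j ≠ u4) ∧ T.a u4 j ≠ 0
                            · obtain ⟨u5, ⟨hn_5_0, hn_5_1, hn_5_2, hn_5_3, hn_5_4⟩, e_4_5⟩ := hx
                              have z_0_5 : T.a u0 u5 = 0 := cl_0 u5 ⟨hn_5_0, hn_5_1, hn_5_2⟩
                              have z_1_5 : T.a u1 u5 = 0 := cl_1 u5 ⟨hn_5_0, hn_5_1, hn_5_2⟩
                              have z_2_5 : T.a u2 u5 = 0 := cl_2 u5 ⟨hn_5_0, hn_5_1, hn_5_2, hn_5_3⟩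
                              have z_3_5 : T.a u3 u5 = 0 := cl_3 u5 ⟨hn_5_0, hn_5_1, hn_5_2, hn_5_3, hn_5_4⟩
                              rcases Groth.Agent.Helper6.NT.edge5 T h2 (by norm_num) u4 u5 hn_5_4.symm e_4_5 with ⟨tw_4_5, tap_4_5, taq_4_5⟩ | ⟨tw_4_5, tap_4_5, taq_4_5⟩ | ⟨tw_4_5, tap_4_5, taq_4_5⟩ | ⟨tw_4_5, tap_4_5, taq_4_5⟩ | ⟨tw_4_5, tap_4_5, taq_4_5⟩
                              · -- (4,5) S
                                exfalso
                                have key := Groth.Agent.Helper6.NT.negfun5 T h2 u0 u2 u3 u4 u5 (by norm_num) 1 2 3 4 2 (by norm_num) (by norm_num)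
                                linarith only [key, tap_0_2, taq_0_2, z_0_3, z_0_4, z_0_5, tap_2_3, taq_2_3, z_2_4, z_2_5, tap_3_4, taq_3_4, z_3_5, tap_4_5, taq_4_5, T.w_pos u0, T.w_pos u2, T.w_pos u3, T.w_pos u4, T.w_pos u5]
                              · -- (4,5) Dp
                                exfalso
                                have key := Groth.Agent.Helper6.NT.negfun3 T h2 u3 u4 u5 (by norm_num) 1 2 1 (by norm_num) (by norm_num)
                                linarith only [key, tap_3_4, taq_3_4, z_3_5, tap_4_5, taq_4_5, T.w_pos u3, T.w_pos u4, T.w_pos u5]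
                              · -- (4,5) Dm
                                exfalso
                                have key := Groth.Agent.Helper6.NT.negfun3 T h2 u3 u4 u5 (by norm_num) 1 2 2 (by norm_num) (by norm_num)
                                linarith only [key, tap_3_4, taq_3_4, z_3_5, tap_4_5, taq_4_5, T.w_pos u3, T.w_pos u4, T.w_pos u5]
                              · -- (4,5) Tp
                                exfalso
                                have key := Groth.Agent.Helper6.NT.negfun3 T h2 u3 u4 u5 (by norm_num) 1 2 1 (by norm_num) (by norm_num)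
                                linarith only [key, tap_3_4, taq_3_4, z_3_5, tap_4_5, taq_4_5, T.w_pos u3, T.w_pos u4, T.w_pos u5]
                              · -- (4,5) Tm
                                exfalso
                                have key := Groth.Agent.Helper6.NT.negfun3 T h2 u3 u4 u5 (by norm_num) 1 2 3 (by norm_num) (by norm_num)
                                linarith only [key, tap_3_4, taq_3_4, z_3_5, tap_4_5, taq_4_5, T.w_pos u3, T.w_pos u4, T.w_pos u5]
                            · push Not at hx
                              have cl_4 := hx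
                              clear hx
                              exfalso
                              refine Groth.Agent.Helper6.NT.closed_contra T [u0, u1, u2, u3, u4] (by simp) (by simp) ?_
                              intro i hi j hj
                              simp only [List.mem_cons, List.not_mem_nil, or_false, not_or] at hi hj
                              rcases hi with rfl | rfl | rfl | rfl | rfl
                              · exact cl_0 j ⟨hj.1, hj.2.1, hj.2.2.1⟩
                              · exact cl_1 j ⟨hj.1, hj.2.1, hj.2.2.1⟩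
                              · exact cl_2 j ⟨hj.1, hj.2.1, hj.2.2.1, hj.2.2.2.1⟩
                              · exact cl_3 j ⟨hj.1, hj.2.1, hj.2.2.1, hj.2.2.2.1, hj.2.2.2.2⟩
                              · exact cl_4 j ⟨hj.1, hj.2.1, hj.2.2.1, hj.2.2.2.1, hj.2.2.2.2⟩
                        · -- (3,4) Tp
                          exfalso
                          have key := Groth.Agent.Helper6.NT.negfun3 T h2 u2 u3 u4 (by norm_num) 1 2 1 (by norm_num) (by norm_num)
                          linarith only [key, tap_2_3, taq_2_3, z_2_4, tap_3_4, taq_3_4, T.w_pos u2, T.w_pos u3, T.w_pos u4]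
                        · -- (3,4) Tm
                          exfalso
                          have key := Groth.Agent.Helper6.NT.negfun3 T h2 u2 u3 u4 (by norm_num) 1 2 3 (by norm_num) (by norm_num)
                          linarith only [key, tap_2_3, taq_2_3, z_2_4, tap_3_4, taq_3_4, T.w_pos u2, T.w_pos u3, T.w_pos u4]
                      · push Not at hx
                        have cl_3 := hx
                        clear hx
                        exfalso
                        refine Groth.Agent.Helper6.NT.closed_contra T [u0, u1, u2, u3] (by simp) (by simp) ?_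
                        intro i hi j hj
                        simp only [List.mem_cons, List.not_mem_nil, or_false, not_or] at hi hj
                        rcases hi with rfl | rfl | rfl | rfl
                        · exact cl_0 j ⟨hj.1, hj.2.1, hj.2.2.1⟩
                        · exact cl_1 j ⟨hj.1, hj.2.1, hj.2.2.1⟩
                        · exact cl_2 j ⟨hj.1, hj.2.1, hj.2.2.1, hj.2.2.2⟩
                        · exact cl_3 j ⟨hj.1, hj.2.1, hj.2.2.1, hj.2.2.2⟩
                  · -- (2,3) Dp
                    by_cases hx : ∃ j, (j ≠ u0 ∧ j ≠ u1 ∧ j ≠ u2 ∧ j ≠ u3) ∧ T.a u2 j ≠ 0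
                    · obtain ⟨u4, ⟨hn_4_0, hn_4_1, hn_4_2, hn_4_3⟩, e_2_4⟩ := hx
                      have z_0_4 : T.a u0 u4 = 0 := cl_0 u4 ⟨hn_4_0, hn_4_1, hn_4_2⟩
                      have z_1_4 : T.a u1 u4 = 0 := cl_1 u4 ⟨hn_4_0, hn_4_1, hn_4_2⟩
                      rcases Groth.Agent.Helper6.NT.edge5 T h2 (by norm_num) u2 u4 hn_4_2.symm e_2_4 with ⟨tw_2_4, tap_2_4, taq_2_4⟩ | ⟨tw_2_4, tap_2_4, taq_2_4⟩ | ⟨tw_2_4, tap_2_4, taq_2_4⟩ | ⟨tw_2_4, tap_2_4, taq_2_4⟩ | ⟨tw_2_4, tap_2_4, taq_2_4⟩
                      · -- (2,4) S
                        exfalso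
                        have key := Groth.Agent.Helper6.NT.negfun4 T h2 u0 u2 u3 u4 (by norm_num) 1 2 1 1 (by norm_num) (by norm_num)
                        linarith only [key, tap_0_2, taq_0_2, z_0_3, z_0_4, tap_2_3, taq_2_3, tap_2_4, taq_2_4, T.offDiag_nonneg u3 u4 hn_4_3.symm, T.w_pos u0, T.w_pos u2, T.w_pos u3, T.w_pos u4]
                      · -- (2,4) Dp
                        exfalso
                        have key := Groth.Agent.Helper6.NT.negfun3 T h2 u2 u3 u4 (by norm_num) 2 1 1 (by norm_num) (by norm_num)
                        linarith only [key, tap_2_3, taq_2_3, tap_2_4, taq_2_4, T.offDiag_nonneg u3 u4 hn_4_3.symm, T.w_pos u2, T.w_pos u3, T.w_pos u4]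
                      · -- (2,4) Dm
                        exfalso
                        have key := Groth.Agent.Helper6.NT.negfun3 T h2 u2 u3 u4 (by norm_num) 2 1 2 (by norm_num) (by norm_num)
                        linarith only [key, tap_2_3, taq_2_3, tap_2_4, taq_2_4, T.offDiag_nonneg u3 u4 hn_4_3.symm, T.w_pos u2, T.w_pos u3, T.w_pos u4]
                      · -- (2,4) Tp
                        exfalso
                        have key := Groth.Agent.Helper6.NT.negfun3 T h2 u2 u3 u4 (by norm_num) 2 1 1 (by norm_num) (by norm_num)
                        linarith only [key, tap_2_3, taq_2_3, tap_2_4, taq_2_4, T.offDiag_nonneg u3 u4 hn_4_3.symm, T.w_pos u2, T.w_pos u3, T.w_pos u4]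
                      · -- (2,4) Tm
                        exfalso
                        have key := Groth.Agent.Helper6.NT.negfun3 T h2 u2 u3 u4 (by norm_num) 2 1 3 (by norm_num) (by norm_num)
                        linarith only [key, tap_2_3, taq_2_3, tap_2_4, taq_2_4, T.offDiag_nonneg u3 u4 hn_4_3.symm, T.w_pos u2, T.w_pos u3, T.w_pos u4]
                    · push Not at hx
                      have cl_2 := hx
                      clear hx
                      by_cases hx : ∃ j, (j ≠ u0 ∧ j ≠ u1 ∧ j ≠ u2 ∧ j ≠ u3) ∧ T.a u3 j ≠ 0
                      · obtain ⟨u4, ⟨hn_4_0, hn_4_1, hn_4_2, hn_4_3⟩, e_3_4⟩ := hx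
                        have z_0_4 : T.a u0 u4 = 0 := cl_0 u4 ⟨hn_4_0, hn_4_1, hn_4_2⟩
                        have z_1_4 : T.a u1 u4 = 0 := cl_1 u4 ⟨hn_4_0, hn_4_1, hn_4_2⟩
                        have z_2_4 : T.a u2 u4 = 0 := cl_2 u4 ⟨hn_4_0, hn_4_1, hn_4_2, hn_4_3⟩
                        rcases Groth.Agent.Helper6.NT.edge5 T h2 (by norm_num) u3 u4 hn_4_3.symm e_3_4 with ⟨tw_3_4, tap_3_4, taq_3_4⟩ | ⟨tw_3_4, tap_3_4, taq_3_4⟩ | ⟨tw_3_4, tap_3_4, taq_3_4⟩ | ⟨tw_3_4, tap_3_4, taq_3_4⟩ | ⟨tw_3_4, tap_3_4, taq_3_4⟩
                        · -- (3,4) S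
                          exfalso
                          have key := Groth.Agent.Helper6.NT.negfun5 T h2 u0 u1 u2 u3 u4 (by norm_num) 2 1 3 2 1 (by norm_num) (by norm_num)
                          linarith only [key, tap_0_1, taq_0_1, tap_0_2, taq_0_2, z_0_3, z_0_4, z_1_2, z_1_3, z_1_4, tap_2_3, taq_2_3, z_2_4, tap_3_4, taq_3_4, T.w_pos u0, T.w_pos u1, T.w_pos u2, T.w_pos u3, T.w_pos u4]
                        · -- (3,4) Dp
                          exfalso
                          have key := Groth.Agent.Helper6.NT.negfun3 T h2 u2 u3 u4 (by norm_num) 2 2 1 (by norm_num) (by norm_num)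
                          linarith only [key, tap_2_3, taq_2_3, z_2_4, tap_3_4, taq_3_4, T.w_pos u2, T.w_pos u3, T.w_pos u4]
                        · -- (3,4) Dm
                          exfalso
                          have key := Groth.Agent.Helper6.NT.negfun3 T h2 u2 u3 u4 (by norm_num) 1 1 1 (by norm_num) (by norm_num)
                          linarith only [key, tap_2_3, taq_2_3, z_2_4, tap_3_4, taq_3_4, T.w_pos u2, T.w_pos u3, T.w_pos u4]
                        · -- (3,4) Tp
                          exfalso
                          have key := Groth.Agent.Helper6.NT.negfun3 T h2 u2 u3 u4 (by norm_num) 2 2 1 (by norm_num) (by norm_num)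
                          linarith only [key, tap_2_3, taq_2_3, z_2_4, tap_3_4, taq_3_4, T.w_pos u2, T.w_pos u3, T.w_pos u4]
                        · -- (3,4) Tm
                          exfalso
                          have key := Groth.Agent.Helper6.NT.negfun3 T h2 u2 u3 u4 (by norm_num) 2 2 3 (by norm_num) (by norm_num)
                          linarith only [key, tap_2_3, taq_2_3, z_2_4, tap_3_4, taq_3_4, T.w_pos u2, T.w_pos u3, T.w_pos u4]
                      · push Not at hx
                        have cl_3 := hx
                        clear hx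
                        exfalso
                        refine Groth.Agent.Helper6.NT.closed_contra T [u0, u1, u2, u3] (by simp) (by simp) ?_
                        intro i hi j hj
                        simp only [List.mem_cons, List.not_mem_nil, or_false, not_or] at hi hj
                        rcases hi with rfl | rfl | rfl | rfl
                        · exact cl_0 j ⟨hj.1, hj.2.1, hj.2.2.1⟩
                        · exact cl_1 j ⟨hj.1, hj.2.1, hj.2.2.1⟩
                        · exact cl_2 j ⟨hj.1, hj.2.1, hj.2.2.1, hj.2.2.2⟩
                        · exact cl_3 j ⟨hj.1, hj.2.1, hj.2.2.1, hj.2.2.2⟩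
                  · -- (2,3) Dm
                    by_cases hx : ∃ j, (j ≠ u0 ∧ j ≠ u1 ∧ j ≠ u2 ∧ j ≠ u3) ∧ T.a u2 j ≠ 0
                    · obtain ⟨u4, ⟨hn_4_0, hn_4_1, hn_4_2, hn_4_3⟩, e_2_4⟩ := hx
                      have z_0_4 : T.a u0 u4 = 0 := cl_0 u4 ⟨hn_4_0, hn_4_1, hn_4_2⟩
                      have z_1_4 : T.a u1 u4 = 0 := cl_1 u4 ⟨hn_4_0, hn_4_1, hn_4_2⟩
                      rcases Groth.Agent.Helper6.NT.edge5 T h2 (by norm_num) u2 u4 hn_4_2.symm e_2_4 with ⟨tw_2_4, tap_2_4, taq_2_4⟩ | ⟨tw_2_4, tap_2_4, taq_2_4⟩ | ⟨tw_2_4, tap_2_4, taq_2_4⟩ | ⟨tw_2_4, tap_2_4, taq_2_4⟩ | ⟨tw_2_4, tap_2_4, taq_2_4⟩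
                      · -- (2,4) S
                        exfalso
                        have key := Groth.Agent.Helper6.NT.negfun4 T h2 u0 u2 u3 u4 (by norm_num) 1 2 2 1 (by norm_num) (by norm_num)
                        linarith only [key, tap_0_2, taq_0_2, z_0_3, z_0_4, tap_2_3, taq_2_3, tap_2_4, taq_2_4, T.offDiag_nonneg u3 u4 hn_4_3.symm, T.w_pos u0, T.w_pos u2, T.w_pos u3, T.w_pos u4]
                      · -- (2,4) Dp
                        exfalso
                        have key := Groth.Agent.Helper6.NT.negfun3 T h2 u2 u3 u4 (by norm_num) 2 2 1 (by norm_num) (by norm_num)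
                        linarith only [key, tap_2_3, taq_2_3, tap_2_4, taq_2_4, T.offDiag_nonneg u3 u4 hn_4_3.symm, T.w_pos u2, T.w_pos u3, T.w_pos u4]
                      · -- (2,4) Dm
                        exfalso
                        have key := Groth.Agent.Helper6.NT.negfun3 T h2 u2 u3 u4 (by norm_num) 1 1 1 (by norm_num) (by norm_num)
                        linarith only [key, tap_2_3, taq_2_3, tap_2_4, taq_2_4, T.offDiag_nonneg u3 u4 hn_4_3.symm, T.w_pos u2, T.w_pos u3, T.w_pos u4]
                      · -- (2,4) Tp
                        exfalso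
                        have key := Groth.Agent.Helper6.NT.negfun3 T h2 u2 u3 u4 (by norm_num) 2 2 1 (by norm_num) (by norm_num)
                        linarith only [key, tap_2_3, taq_2_3, tap_2_4, taq_2_4, T.offDiag_nonneg u3 u4 hn_4_3.symm, T.w_pos u2, T.w_pos u3, T.w_pos u4]
                      · -- (2,4) Tm
                        exfalso
                        have key := Groth.Agent.Helper6.NT.negfun3 T h2 u2 u3 u4 (by norm_num) 2 2 3 (by norm_num) (by norm_num)
                        linarith only [key, tap_2_3, taq_2_3, tap_2_4, taq_2_4, T.offDiag_nonneg u3 u4 hn_4_3.symm, T.w_pos u2, T.w_pos u3, T.w_pos u4]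
                    · push Not at hx
                      have cl_2 := hx
                      clear hx
                      by_cases hx : ∃ j, (j ≠ u0 ∧ j ≠ u1 ∧ j ≠ u2 ∧ j ≠ u3) ∧ T.a u3 j ≠ 0
                      · obtain ⟨u4, ⟨hn_4_0, hn_4_1, hn_4_2, hn_4_3⟩, e_3_4⟩ := hx
                        have z_0_4 : T.a u0 u4 = 0 := cl_0 u4 ⟨hn_4_0, hn_4_1, hn_4_2⟩
                        have z_1_4 : T.a u1 u4 = 0 := cl_1 u4 ⟨hn_4_0, hn_4_1, hn_4_2⟩
                        have z_2_4 : T.a u2 u4 = 0 := cl_2 u4 ⟨hn_4_0, hn_4_1, hn_4_2, hn_4_3⟩
                        rcases Groth.Agent.Helper6.NT.edge5 T h2 (by norm_num) u3 u4 hn_4_3.symm e_3_4 with ⟨tw_3_4, tap_3_4, taq_3_4⟩ | ⟨tw_3_4, tap_3_4, taq_3_4⟩ | ⟨tw_3_4, tap_3_4, taq_3_4⟩ | ⟨tw_3_4, tap_3_4, taq_3_4⟩ | ⟨tw_3_4, tap_3_4, taq_3_4⟩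
                        · -- (3,4) S
                          exfalso
                          have key := Groth.Agent.Helper6.NT.negfun5 T h2 u0 u1 u2 u3 u4 (by norm_num) 2 1 3 4 2 (by norm_num) (by norm_num)
                          linarith only [key, tap_0_1, taq_0_1, tap_0_2, taq_0_2, z_0_3, z_0_4, z_1_2, z_1_3, z_1_4, tap_2_3, taq_2_3, z_2_4, tap_3_4, taq_3_4, T.w_pos u0, T.w_pos u1, T.w_pos u2, T.w_pos u3, T.w_pos u4]
                        · -- (3,4) Dp
                          exfalso
                          have key := Groth.Agent.Helper6.NT.negfun3 T h2 u2 u3 u4 (by norm_num) 1 2 1 (by norm_num) (by norm_num)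
                          linarith only [key, tap_2_3, taq_2_3, z_2_4, tap_3_4, taq_3_4, T.w_pos u2, T.w_pos u3, T.w_pos u4]
                        · -- (3,4) Dm
                          exfalso
                          have key := Groth.Agent.Helper6.NT.negfun3 T h2 u2 u3 u4 (by norm_num) 1 2 2 (by norm_num) (by norm_num)
                          linarith only [key, tap_2_3, taq_2_3, z_2_4, tap_3_4, taq_3_4, T.w_pos u2, T.w_pos u3, T.w_pos u4]
                        · -- (3,4) Tp
                          exfalso
                          have key := Groth.Agent.Helper6.NT.negfun3 T h2 u2 u3 u4 (by norm_num) 1 2 1 (by norm_num) (by norm_num)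
                          linarith only [key, tap_2_3, taq_2_3, z_2_4, tap_3_4, taq_3_4, T.w_pos u2, T.w_pos u3, T.w_pos u4]
                        · -- (3,4) Tm
                          exfalso
                          have key := Groth.Agent.Helper6.NT.negfun3 T h2 u2 u3 u4 (by norm_num) 1 2 3 (by norm_num) (by norm_num)
                          linarith only [key, tap_2_3, taq_2_3, z_2_4, tap_3_4, taq_3_4, T.w_pos u2, T.w_pos u3, T.w_pos u4]
                      · push Not at hx
                        have cl_3 := hx
                        clear hx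
                        exfalso
                        refine Groth.Agent.Helper6.NT.closed_contra T [u0, u1, u2, u3] (by simp) (by simp) ?_
                        intro i hi j hj
                        simp only [List.mem_cons, List.not_mem_nil, or_false, not_or] at hi hj
                        rcases hi with rfl | rfl | rfl | rfl
                        · exact cl_0 j ⟨hj.1, hj.2.1, hj.2.2.1⟩
                        · exact cl_1 j ⟨hj.1, hj.2.1, hj.2.2.1⟩
                        · exact cl_2 j ⟨hj.1, hj.2.1, hj.2.2.1, hj.2.2.2⟩
                        · exact cl_3 j ⟨hj.1, hj.2.1, hj.2.2.1, hj.2.2.2⟩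
                  · -- (2,3) Tp
                    exfalso
                    have key := Groth.Agent.Helper6.NT.negfun3 T h2 u0 u2 u3 (by norm_num) 1 2 1 (by norm_num) (by norm_num)
                    linarith only [key, tap_0_2, taq_0_2, z_0_3, tap_2_3, taq_2_3, T.w_pos u0, T.w_pos u2, T.w_pos u3]
                  · -- (2,3) Tm
                    exfalso
                    have key := Groth.Agent.Helper6.NT.negfun3 T h2 u0 u2 u3 (by norm_num) 1 2 3 (by norm_num) (by norm_num)
                    linarith only [key, tap_0_2, taq_0_2, z_0_3, tap_2_3, taq_2_3, T.w_pos u0, T.w_pos u2, T.w_pos u3]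
                · push Not at hx
                  have cl_2 := hx
                  clear hx
                  exfalso
                  refine Groth.Agent.Helper6.NT.closed_contra T [u0, u1, u2] (by simp) (by simp) ?_
                  intro i hi j hj
                  simp only [List.mem_cons, List.not_mem_nil, or_false, not_or] at hi hj
                  rcases hi with rfl | rfl | rfl
                  · exact cl_0 j ⟨hj.1, hj.2.1, hj.2.2⟩
                  · exact cl_1 j ⟨hj.1, hj.2.1, hj.2.2⟩
                  · exact cl_2 j ⟨hj.1, hj.2.1, hj.2.2⟩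
          · -- (1,2) nonzero
            obtain ⟨lbp_1_2, lbq_1_2⟩ := Groth.Agent.Helper6.NT.lb T u1 u2 hn_2_1.symm nz_1_2
            exfalso
            have key := Groth.Agent.Helper6.NT.negfun3 T h2 u0 u1 u2 (by norm_num) 1 1 1 (by norm_num) (by norm_num)
            linarith only [key, tap_0_1, taq_0_1, tap_0_2, taq_0_2, lbp_1_2, lbq_1_2, T.w_pos u0, T.w_pos u1, T.w_pos u2]
        · -- (0,2) Dp
          rcases eq_or_ne (T.a u1 u2) 0 with z_1_2 | nz_1_2
          · -- (1,2) zero
            by_cases hx : ∃ j, (j ≠ u0 ∧ j ≠ u1 ∧ j ≠ u2) ∧ T.a u0 j ≠ 0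
            · obtain ⟨u3, ⟨hn_3_0, hn_3_1, hn_3_2⟩, e_0_3⟩ := hx
              rcases Groth.Agent.Helper6.NT.edge5 T h2 (by norm_num) u0 u3 hn_3_0.symm e_0_3 with ⟨tw_0_3, tap_0_3, taq_0_3⟩ | ⟨tw_0_3, tap_0_3, taq_0_3⟩ | ⟨tw_0_3, tap_0_3, taq_0_3⟩ | ⟨tw_0_3, tap_0_3, taq_0_3⟩ | ⟨tw_0_3, tap_0_3, taq_0_3⟩
              · -- (0,3) S
                exfalso
                have key := Groth.Agent.Helper6.NT.negfun4 T h2 u0 u1 u2 u3 (by norm_num) 2 1 1 1 (by norm_num) (by norm_num)
                linarith only [key, tap_0_1, taq_0_1, tap_0_2, taq_0_2, tap_0_3, taq_0_3, z_1_2, T.offDiag_nonneg u1 u3 hn_3_1.symm, T.offDiag_nonneg u2 u3 hn_3_2.symm, T.w_pos u0, T.w_pos u1, T.w_pos u2, T.w_pos u3]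
              · -- (0,3) Dp
                exfalso
                have key := Groth.Agent.Helper6.NT.negfun3 T h2 u0 u2 u3 (by norm_num) 2 1 1 (by norm_num) (by norm_num)
                linarith only [key, tap_0_2, taq_0_2, tap_0_3, taq_0_3, T.offDiag_nonneg u2 u3 hn_3_2.symm, T.w_pos u0, T.w_pos u2, T.w_pos u3]
              · -- (0,3) Dm
                exfalso
                have key := Groth.Agent.Helper6.NT.negfun3 T h2 u0 u2 u3 (by norm_num) 2 1 2 (by norm_num) (by norm_num)
                linarith only [key, tap_0_2, taq_0_2, tap_0_3, taq_0_3, T.offDiag_nonneg u2 u3 hn_3_2.symm, T.w_pos u0, T.w_pos u2, T.w_pos u3]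
              · -- (0,3) Tp
                exfalso
                have key := Groth.Agent.Helper6.NT.negfun3 T h2 u0 u2 u3 (by norm_num) 2 1 1 (by norm_num) (by norm_num)
                linarith only [key, tap_0_2, taq_0_2, tap_0_3, taq_0_3, T.offDiag_nonneg u2 u3 hn_3_2.symm, T.w_pos u0, T.w_pos u2, T.w_pos u3]
              · -- (0,3) Tm
                exfalso
                have key := Groth.Agent.Helper6.NT.negfun3 T h2 u0 u2 u3 (by norm_num) 2 1 3 (by norm_num) (by norm_num)
                linarith only [key, tap_0_2, taq_0_2, tap_0_3, taq_0_3, T.offDiag_nonneg u2 u3 hn_3_2.symm, T.w_pos u0, T.w_pos u2, T.w_pos u3]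
            · push Not at hx
              have cl_0 := hx
              clear hx
              by_cases hx : ∃ j, (j ≠ u0 ∧ j ≠ u1 ∧ j ≠ u2) ∧ T.a u1 j ≠ 0
              · obtain ⟨u3, ⟨hn_3_0, hn_3_1, hn_3_2⟩, e_1_3⟩ := hx
                have z_0_3 : T.a u0 u3 = 0 := cl_0 u3 ⟨hn_3_0, hn_3_1, hn_3_2⟩
                rcases Groth.Agent.Helper6.NT.edge5 T h2 (by norm_num) u1 u3 hn_3_1.symm e_1_3 with ⟨tw_1_3, tap_1_3, taq_1_3⟩ | ⟨tw_1_3, tap_1_3, taq_1_3⟩ | ⟨tw_1_3, tap_1_3, taq_1_3⟩ | ⟨tw_1_3, tap_1_3, taq_1_3⟩ | ⟨tw_1_3, tap_1_3, taq_1_3⟩
                · -- (1,3) S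
                  rcases eq_or_ne (T.a u2 u3) 0 with z_2_3 | nz_2_3
                  · -- (2,3) zero
                    by_cases hx : ∃ j, (j ≠ u0 ∧ j ≠ u1 ∧ j ≠ u2 ∧ j ≠ u3) ∧ T.a u1 j ≠ 0
                    · obtain ⟨u4, ⟨hn_4_0, hn_4_1, hn_4_2, hn_4_3⟩, e_1_4⟩ := hx
                      have z_0_4 : T.a u0 u4 = 0 := cl_0 u4 ⟨hn_4_0, hn_4_1, hn_4_2⟩
                      rcases Groth.Agent.Helper6.NT.edge5 T h2 (by norm_num) u1 u4 hn_4_1.symm e_1_4 with ⟨tw_1_4, tap_1_4, taq_1_4⟩ | ⟨tw_1_4, tap_1_4, taq_1_4⟩ | ⟨tw_1_4, tap_1_4, taq_1_4⟩ | ⟨tw_1_4, tap_1_4, taq_1_4⟩ | ⟨tw_1_4, tap_1_4, taq_1_4⟩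
                      · -- (1,4) S
                        exfalso
                        have key := Groth.Agent.Helper6.NT.negfun5 T h2 u0 u1 u2 u3 u4 (by norm_num) 2 2 1 1 1 (by norm_num) (by norm_num)
                        linarith only [key, tap_0_1, taq_0_1, tap_0_2, taq_0_2, z_0_3, z_0_4, z_1_2, tap_1_3, taq_1_3, tap_1_4, taq_1_4, z_2_3, T.offDiag_nonneg u2 u4 hn_4_2.symm, T.offDiag_nonneg u3 u4 hn_4_3.symm, T.w_pos u0, T.w_pos u1, T.w_pos u2, T.w_pos u3, T.w_pos u4]
                      · -- (1,4) Dp
                        exfalso
                        have key := Groth.Agent.Helper6.NT.negfun4 T h2 u0 u1 u3 u4 (by norm_num) 1 2 1 1 (by norm_num) (by norm_num)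
                        linarith only [key, tap_0_1, taq_0_1, z_0_3, z_0_4, tap_1_3, taq_1_3, tap_1_4, taq_1_4, T.offDiag_nonneg u3 u4 hn_4_3.symm, T.w_pos u0, T.w_pos u1, T.w_pos u3, T.w_pos u4]
                      · -- (1,4) Dm
                        exfalso
                        have key := Groth.Agent.Helper6.NT.negfun4 T h2 u0 u1 u3 u4 (by norm_num) 1 2 1 2 (by norm_num) (by norm_num)
                        linarith only [key, tap_0_1, taq_0_1, z_0_3, z_0_4, tap_1_3, taq_1_3, tap_1_4, taq_1_4, T.offDiag_nonneg u3 u4 hn_4_3.symm, T.w_pos u0, T.w_pos u1, T.w_pos u3, T.w_pos u4]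
                      · -- (1,4) Tp
                        exfalso
                        have key := Groth.Agent.Helper6.NT.negfun3 T h2 u1 u3 u4 (by norm_num) 2 1 1 (by norm_num) (by norm_num)
                        linarith only [key, tap_1_3, taq_1_3, tap_1_4, taq_1_4, T.offDiag_nonneg u3 u4 hn_4_3.symm, T.w_pos u1, T.w_pos u3, T.w_pos u4]
                      · -- (1,4) Tm
                        exfalso
                        have key := Groth.Agent.Helper6.NT.negfun3 T h2 u1 u3 u4 (by norm_num) 2 1 3 (by norm_num) (by norm_num)
                        linarith only [key, tap_1_3, taq_1_3, tap_1_4, taq_1_4, T.offDiag_nonneg u3 u4 hn_4_3.symm, T.w_pos u1, T.w_pos u3, T.w_pos u4]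
                    · push Not at hx
                      have cl_1 := hx
                      clear hx
                      by_cases hx : ∃ j, (j ≠ u0 ∧ j ≠ u1 ∧ j ≠ u2 ∧ j ≠ u3) ∧ T.a u2 j ≠ 0
                      · obtain ⟨u4, ⟨hn_4_0, hn_4_1, hn_4_2, hn_4_3⟩, e_2_4⟩ := hx
                        have z_0_4 : T.a u0 u4 = 0 := cl_0 u4 ⟨hn_4_0, hn_4_1, hn_4_2⟩
                        have z_1_4 : T.a u1 u4 = 0 := cl_1 u4 ⟨hn_4_0, hn_4_1, hn_4_2, hn_4_3⟩
                        rcases Groth.Agent.Helper6.NT.edge5 T h2 (by norm_num) u2 u4 hn_4_2.symm e_2_4 with ⟨tw_2_4, tap_2_4, taq_2_4⟩ | ⟨tw_2_4, tap_2_4, taq_2_4⟩ | ⟨tw_2_4, tap_2_4, taq_2_4⟩ | ⟨tw_2_4, tap_2_4, taq_2_4⟩ | ⟨tw_2_4, tap_2_4, taq_2_4⟩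
                        · -- (2,4) S
                          exfalso
                          have key := Groth.Agent.Helper6.NT.negfun5 T h2 u0 u1 u2 u3 u4 (by norm_num) 3 2 2 1 1 (by norm_num) (by norm_num)
                          linarith only [key, tap_0_1, taq_0_1, tap_0_2, taq_0_2, z_0_3, z_0_4, z_1_2, tap_1_3, taq_1_3, z_1_4, z_2_3, tap_2_4, taq_2_4, T.offDiag_nonneg u3 u4 hn_4_3.symm, T.w_pos u0, T.w_pos u1, T.w_pos u2, T.w_pos u3, T.w_pos u4]
                        · -- (2,4) Dp
                          exfalso
                          have key := Groth.Agent.Helper6.NT.negfun3 T h2 u0 u2 u4 (by norm_num) 2 2 1 (by norm_num) (by norm_num)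
                          linarith only [key, tap_0_2, taq_0_2, z_0_4, tap_2_4, taq_2_4, T.w_pos u0, T.w_pos u2, T.w_pos u4]
                        · -- (2,4) Dm
                          exfalso
                          have key := Groth.Agent.Helper6.NT.negfun3 T h2 u0 u2 u4 (by norm_num) 1 1 1 (by norm_num) (by norm_num)
                          linarith only [key, tap_0_2, taq_0_2, z_0_4, tap_2_4, taq_2_4, T.w_pos u0, T.w_pos u2, T.w_pos u4]
                        · -- (2,4) Tp
                          exfalso
                          have key := Groth.Agent.Helper6.NT.negfun3 T h2 u0 u2 u4 (by norm_num) 2 2 1 (by norm_num) (by norm_num)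
                          linarith only [key, tap_0_2, taq_0_2, z_0_4, tap_2_4, taq_2_4, T.w_pos u0, T.w_pos u2, T.w_pos u4]
                        · -- (2,4) Tm
                          exfalso
                          have key := Groth.Agent.Helper6.NT.negfun3 T h2 u0 u2 u4 (by norm_num) 2 2 3 (by norm_num) (by norm_num)
                          linarith only [key, tap_0_2, taq_0_2, z_0_4, tap_2_4, taq_2_4, T.w_pos u0, T.w_pos u2, T.w_pos u4]
                      · push Not at hx
                        have cl_2 := hx
                        clear hx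
                        by_cases hx : ∃ j, (j ≠ u0 ∧ j ≠ u1 ∧ j ≠ u2 ∧ j ≠ u3) ∧ T.a u3 j ≠ 0
                        · obtain ⟨u4, ⟨hn_4_0, hn_4_1, hn_4_2, hn_4_3⟩, e_3_4⟩ := hx
                          have z_0_4 : T.a u0 u4 = 0 := cl_0 u4 ⟨hn_4_0, hn_4_1, hn_4_2⟩
                          have z_1_4 : T.a u1 u4 = 0 := cl_1 u4 ⟨hn_4_0, hn_4_1, hn_4_2, hn_4_3⟩
                          have z_2_4 : T.a u2 u4 = 0 := cl_2 u4 ⟨hn_4_0, hn_4_1, hn_4_2, hn_4_3⟩
                          rcases Groth.Agent.Helper6.NT.edge5 T h2 (by norm_num) u3 u4 hn_4_3.symm e_3_4 with ⟨tw_3_4, tap_3_4, taq_3_4⟩ | ⟨tw_3_4, tap_3_4, taq_3_4⟩ | ⟨tw_3_4, tap_3_4, taq_3_4⟩ | ⟨tw_3_4, tap_3_4, taq_3_4⟩ | ⟨tw_3_4, tap_3_4, taq_3_4⟩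
                          · -- (3,4) S
                            by_cases hx : ∃ j, (j ≠ u0 ∧ j ≠ u1 ∧ j ≠ u2 ∧ j ≠ u3 ∧ j ≠ u4) ∧ T.a u3 j ≠ 0
                            · obtain ⟨u5, ⟨hn_5_0, hn_5_1, hn_5_2, hn_5_3, hn_5_4⟩, e_3_5⟩ := hx
                              have z_0_5 : T.a u0 u5 = 0 := cl_0 u5 ⟨hn_5_0, hn_5_1, hn_5_2⟩
                              have z_1_5 : T.a u1 u5 = 0 := cl_1 u5 ⟨hn_5_0, hn_5_1, hn_5_2, hn_5_3⟩
                              have z_2_5 : T.a u2 u5 = 0 := cl_2 u5 ⟨hn_5_0, hn_5_1, hn_5_2, hn_5_3⟩
                              rcases Groth.Agent.Helper6.NT.edge5 T h2 (by norm_num) u3 u5 hn_5_3.symm e_3_5 with ⟨tw_3_5, tap_3_5, taq_3_5⟩ | ⟨tw_3_5, tap_3_5, taq_3_5⟩ | ⟨tw_3_5, tap_3_5, taq_3_5⟩ | ⟨tw_3_5, tap_3_5, taq_3_5⟩ | ⟨tw_3_5, tap_3_5, taq_3_5⟩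
                              · -- (3,5) S
                                rcases eq_or_ne (T.a u4 u5) 0 with z_4_5 | nz_4_5
                                · -- (4,5) zero
                                  have hinj := Groth.Agent.Helper6.NT.inj6 u0 u1 u2 u3 u4 u5 hn_1_0 hn_2_0 hn_2_1 hn_3_0 hn_3_1 hn_3_2 hn_4_0 hn_4_1 hn_4_2 hn_4_3 hn_5_0 hn_5_1 hn_5_2 hn_5_3 hn_5_4
                                  have r_0 : -2 * T.m u0 + 1 * T.m u1 + 2 * T.m u2 = 0 := by
                                    have key := Groth.Agent.Helper6.NT.rowfun6 T u0 u1 u2 u3 u4 u5 hinj u0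
                                    rw [(h2 u0).2, tap_0_1, tap_0_2, z_0_3, z_0_4, z_0_5] at key
                                    exact mul_left_cancel₀ (T.w_pos u0).ne' (by linarith only [key])
                                  have r_1 : 1 * T.m u0 + -2 * T.m u1 + 1 * T.m u3 = 0 := by
                                    have key := Groth.Agent.Helper6.NT.rowfun6 T u0 u1 u2 u3 u4 u5 hinj u1
                                    rw [Groth.Agent.Helper6.NT.symm' T u1 u0, taq_0_1, (h2 u1).2, z_1_2, tap_1_3, z_1_4, z_1_5] at key
                                    exact mul_left_cancel₀ (T.w_pos u1).ne' (by linarith only [key])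
                                  have r_2 : 1 * T.m u0 + -2 * T.m u2 = 0 := by
                                    have key := Groth.Agent.Helper6.NT.rowfun6 T u0 u1 u2 u3 u4 u5 hinj u2
                                    rw [Groth.Agent.Helper6.NT.symm' T u2 u0, taq_0_2, Groth.Agent.Helper6.NT.symm' T u2 u1, z_1_2, (h2 u2).2, z_2_3, z_2_4, z_2_5] at key
                                    exact mul_left_cancel₀ (T.w_pos u2).ne' (by linarith only [key])
                                  have r_3 : 1 * T.m u1 + -2 * T.m u3 + 1 * T.m u4 + 1 * T.m u5 = 0 := by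
                                    have key := Groth.Agent.Helper6.NT.rowfun6 T u0 u1 u2 u3 u4 u5 hinj u3
                                    rw [Groth.Agent.Helper6.NT.symm' T u3 u0, z_0_3, Groth.Agent.Helper6.NT.symm' T u3 u1, taq_1_3, Groth.Agent.Helper6.NT.symm' T u3 u2, z_2_3, (h2 u3).2, tap_3_4, tap_3_5] at key
                                    exact mul_left_cancel₀ (T.w_pos u3).ne' (by linarith only [key])
                                  have r_4 : 1 * T.m u3 + -2 * T.m u4 = 0 := by
                                    have key := Groth.Agent.Helper6.NT.rowfun6 T u0 u1 u2 u3 u4 u5 hinj u4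
                                    rw [Groth.Agent.Helper6.NT.symm' T u4 u0, z_0_4, Groth.Agent.Helper6.NT.symm' T u4 u1, z_1_4, Groth.Agent.Helper6.NT.symm' T u4 u2, z_2_4, Groth.Agent.Helper6.NT.symm' T u4 u3, taq_3_4, (h2 u4).2, z_4_5] at key
                                    exact mul_left_cancel₀ (T.w_pos u4).ne' (by linarith only [key])
                                  have r_5 : 1 * T.m u3 + -2 * T.m u5 = 0 := by
                                    have key := Groth.Agent.Helper6.NT.rowfun6 T u0 u1 u2 u3 u4 u5 hinj u5
                                    rw [Groth.Agent.Helper6.NT.symm' T u5 u0, z_0_5, Groth.Agent.Helper6.NT.symm' T u5 u1, z_1_5, Groth.Agent.Helper6.NT.symm' T u5 u2, z_2_5, Groth.Agent.Helper6.NT.symm' T u5 u3, taq_3_5, Groth.Agent.Helper6.NT.symm' T u5 u4, z_4_5, (h2 u5).2] at key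
                                    exact mul_left_cancel₀ (T.w_pos u5).ne' (by linarith only [key])
                                  have f0 : T.m u2 = T.m u2 := rfl
                                  have f1 : T.m u0 = 2 * T.m u2 := by linarith only [r_0, r_1, r_2, r_3, r_4, r_5]
                                  have f2 : T.m u1 = 2 * T.m u2 := by linarith only [r_0, r_1, r_2, r_3, r_4, r_5]
                                  have f3 : T.m u3 = 2 * T.m u2 := by linarith only [r_0, r_1, r_2, r_3, r_4, r_5]
                                  have f4 : T.m u4 = T.m u2 := by linarith only [r_0, r_1, r_2, r_3, r_4, r_5]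
                                  have f5 : T.m u5 = T.m u2 := by linarith only [r_0, r_1, r_2, r_3, r_4, r_5]
                                  have f6 : T.w u2 = 2 * T.w u0 := by linarith only [tw_0_1, tw_0_2, tw_1_3, tw_3_4, tw_3_5]
                                  have f7 : T.w u0 = T.w u0 := rfl
                                  have f8 : T.w u1 = T.w u0 := by linarith only [tw_0_1, tw_0_2, tw_1_3, tw_3_4, tw_3_5]
                                  have f9 : T.w u3 = T.w u0 := by linarith only [tw_0_1, tw_0_2, tw_1_3, tw_3_4, tw_3_5]
                                  have f10 : T.w u4 = T.w u0 := by linarith only [tw_0_1, tw_0_2, tw_1_3, tw_3_4, tw_3_5]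
                                  have f11 : T.w u5 = T.w u0 := by linarith only [tw_0_1, tw_0_2, tw_1_3, tw_3_4, tw_3_5]
                                  have f12 : T.a u2 u2 = -4 * T.w u0 := by have := (h2 u2).2; linarith only [this, tw_0_1, tw_0_2, tw_1_3, tw_3_4, tw_3_5]
                                  have f13 : T.a u2 u0 = 2 * T.w u0 := by rw [Groth.Agent.Helper6.NT.symm' T u2 u0]; linarith only [tap_0_2, tw_0_1, tw_0_2, tw_1_3, tw_3_4, tw_3_5]
                                  have f14 : T.a u2 u1 = 0 := by rw [Groth.Agent.Helper6.NT.symm' T u2 u1]; exact z_1_2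
                                  have f15 : T.a u2 u3 = 0 := by exact z_2_3
                                  have f16 : T.a u2 u4 = 0 := by exact z_2_4
                                  have f17 : T.a u2 u5 = 0 := by exact z_2_5
                                  have f18 : T.a u0 u0 = -2 * T.w u0 := by have := (h2 u0).2; linarith only [this, tw_0_1, tw_0_2, tw_1_3, tw_3_4, tw_3_5]
                                  have f19 : T.a u0 u1 = T.w u0 := by linarith only [tap_0_1, tw_0_1, tw_0_2, tw_1_3, tw_3_4, tw_3_5]
                                  have f20 : T.a u0 u3 = 0 := by exact z_0_3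
                                  have f21 : T.a u0 u4 = 0 := by exact z_0_4
                                  have f22 : T.a u0 u5 = 0 := by exact z_0_5
                                  have f23 : T.a u1 u1 = -2 * T.w u0 := by have := (h2 u1).2; linarith only [this, tw_0_1, tw_0_2, tw_1_3, tw_3_4, tw_3_5]
                                  have f24 : T.a u1 u3 = T.w u0 := by linarith only [tap_1_3, tw_0_1, tw_0_2, tw_1_3, tw_3_4, tw_3_5]
                                  have f25 : T.a u1 u4 = 0 := by exact z_1_4
                                  have f26 : T.a u1 u5 = 0 := by exact z_1_5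
                                  have f27 : T.a u3 u3 = -2 * T.w u0 := by have := (h2 u3).2; linarith only [this, tw_0_1, tw_0_2, tw_1_3, tw_3_4, tw_3_5]
                                  have f28 : T.a u3 u4 = T.w u0 := by linarith only [tap_3_4, tw_0_1, tw_0_2, tw_1_3, tw_3_4, tw_3_5]
                                  have f29 : T.a u3 u5 = T.w u0 := by linarith only [tap_3_5, tw_0_1, tw_0_2, tw_1_3, tw_3_4, tw_3_5]
                                  have f30 : T.a u4 u4 = -2 * T.w u0 := by have := (h2 u4).2; linarith only [this, tw_0_1, tw_0_2, tw_1_3, tw_3_4, tw_3_5]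
                                  have f31 : T.a u4 u5 = 0 := by exact z_4_5
                                  have f32 : T.a u5 u5 = -2 * T.w u0 := by have := (h2 u5).2; linarith only [this, tw_0_1, tw_0_2, tw_1_3, tw_3_4, tw_3_5]
                                  have hsig := Groth.Agent.Helper6.NT.inj6 u2 u0 u1 u3 u4 u5 hn_2_0.symm hn_2_1.symm hn_1_0 hn_3_2 hn_3_0 hn_3_1 hn_4_2 hn_4_0 hn_4_1 hn_4_3 hn_5_2 hn_5_0 hn_5_1 hn_5_3 hn_5_4
                                  exact ⟨Equiv.ofBijective _ (Finite.injective_iff_bijective.1 hsig), T.m u2, T.w u0, Or.inr (Or.inr (Or.inr (Or.inr (Or.inl ⟨f0, f1, f2, f3, f4, f5, f6, f7, f8, f9, f10, f11, f12, f13, f14, f15, f16, f17, f18, f19, f20, f21, f22, f23, f24, f25, f26, f27, f28, f29, f30, f31, f32⟩))))⟩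
                                · -- (4,5) nonzero
                                  obtain ⟨lbp_4_5, lbq_4_5⟩ := Groth.Agent.Helper6.NT.lb T u4 u5 hn_5_4.symm nz_4_5
                                  exfalso
                                  have key := Groth.Agent.Helper6.NT.negfun3 T h2 u3 u4 u5 (by norm_num) 1 1 1 (by norm_num) (by norm_num)
                                  linarith only [key, tap_3_4, taq_3_4, tap_3_5, taq_3_5, lbp_4_5, lbq_4_5, T.w_pos u3, T.w_pos u4, T.w_pos u5]
                              · -- (3,5) Dp
                                exfalso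
                                have key := Groth.Agent.Helper6.NT.negfun4 T h2 u1 u3 u4 u5 (by norm_num) 1 2 1 1 (by norm_num) (by norm_num)
                                linarith only [key, tap_1_3, taq_1_3, z_1_4, z_1_5, tap_3_4, taq_3_4, tap_3_5, taq_3_5, T.offDiag_nonneg u4 u5 hn_5_4.symm, T.w_pos u1, T.w_pos u3, T.w_pos u4, T.w_pos u5]
                              · -- (3,5) Dm
                                exfalso
                                have key := Groth.Agent.Helper6.NT.negfun4 T h2 u1 u3 u4 u5 (by norm_num) 1 2 1 2 (by norm_num) (by norm_num)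
                                linarith only [key, tap_1_3, taq_1_3, z_1_4, z_1_5, tap_3_4, taq_3_4, tap_3_5, taq_3_5, T.offDiag_nonneg u4 u5 hn_5_4.symm, T.w_pos u1, T.w_pos u3, T.w_pos u4, T.w_pos u5]
                              · -- (3,5) Tp
                                exfalso
                                have key := Groth.Agent.Helper6.NT.negfun3 T h2 u3 u4 u5 (by norm_num) 2 1 1 (by norm_num) (by norm_num)
                                linarith only [key, tap_3_4, taq_3_4, tap_3_5, taq_3_5, T.offDiag_nonneg u4 u5 hn_5_4.symm, T.w_pos u3, T.w_pos u4, T.w_pos u5]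
                              · -- (3,5) Tm
                                exfalso
                                have key := Groth.Agent.Helper6.NT.negfun3 T h2 u3 u4 u5 (by norm_num) 2 1 3 (by norm_num) (by norm_num)
                                linarith only [key, tap_3_4, taq_3_4, tap_3_5, taq_3_5, T.offDiag_nonneg u4 u5 hn_5_4.symm, T.w_pos u3, T.w_pos u4, T.w_pos u5]
                            · push Not at hx
                              have cl_3 := hx
                              clear hx
                              by_cases hx : ∃ j, (j ≠ u0 ∧ j ≠ u1 ∧ j ≠ u2 ∧ j ≠ u3 ∧ j ≠ u4) ∧ T.a u4 j ≠ 0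
                              · obtain ⟨u5, ⟨hn_5_0, hn_5_1, hn_5_2, hn_5_3, hn_5_4⟩, e_4_5⟩ := hx
                                have z_0_5 : T.a u0 u5 = 0 := cl_0 u5 ⟨hn_5_0, hn_5_1, hn_5_2⟩
                                have z_1_5 : T.a u1 u5 = 0 := cl_1 u5 ⟨hn_5_0, hn_5_1, hn_5_2, hn_5_3⟩
                                have z_2_5 : T.a u2 u5 = 0 := cl_2 u5 ⟨hn_5_0, hn_5_1, hn_5_2, hn_5_3⟩
                                have z_3_5 : T.a u3 u5 = 0 := cl_3 u5 ⟨hn_5_0, hn_5_1, hn_5_2, hn_5_3, hn_5_4⟩
                                rcases Groth.Agent.Helper6.NT.edge5 T h2 (by norm_num) u4 u5 hn_5_4.symm e_4_5 with ⟨tw_4_5, tap_4_5, taq_4_5⟩ | ⟨tw_4_5, tap_4_5, taq_4_5⟩ | ⟨tw_4_5, tap_4_5, taq_4_5⟩ | ⟨tw_4_5, tap_4_5, taq_4_5⟩ | ⟨tw_4_5, tap_4_5, taq_4_5⟩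
                                · -- (4,5) S
                                  have hinj := Groth.Agent.Helper6.NT.inj6 u0 u1 u2 u3 u4 u5 hn_1_0 hn_2_0 hn_2_1 hn_3_0 hn_3_1 hn_3_2 hn_4_0 hn_4_1 hn_4_2 hn_4_3 hn_5_0 hn_5_1 hn_5_2 hn_5_3 hn_5_4
                                  have r_0 : -2 * T.m u0 + 1 * T.m u1 + 2 * T.m u2 = 0 := by
                                    have key := Groth.Agent.Helper6.NT.rowfun6 T u0 u1 u2 u3 u4 u5 hinj u0
                                    rw [(h2 u0).2, tap_0_1, tap_0_2, z_0_3, z_0_4, z_0_5] at key
                                    exact mul_left_cancel₀ (T.w_pos u0).ne' (by linarith only [key])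
                                  have r_1 : 1 * T.m u0 + -2 * T.m u1 + 1 * T.m u3 = 0 := by
                                    have key := Groth.Agent.Helper6.NT.rowfun6 T u0 u1 u2 u3 u4 u5 hinj u1
                                    rw [Groth.Agent.Helper6.NT.symm' T u1 u0, taq_0_1, (h2 u1).2, z_1_2, tap_1_3, z_1_4, z_1_5] at key
                                    exact mul_left_cancel₀ (T.w_pos u1).ne' (by linarith only [key])
                                  have r_2 : 1 * T.m u0 + -2 * T.m u2 = 0 := by
                                    have key := Groth.Agent.Helper6.NT.rowfun6 T u0 u1 u2 u3 u4 u5 hinj u2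
                                    rw [Groth.Agent.Helper6.NT.symm' T u2 u0, taq_0_2, Groth.Agent.Helper6.NT.symm' T u2 u1, z_1_2, (h2 u2).2, z_2_3, z_2_4, z_2_5] at key
                                    exact mul_left_cancel₀ (T.w_pos u2).ne' (by linarith only [key])
                                  have r_3 : 1 * T.m u1 + -2 * T.m u3 + 1 * T.m u4 = 0 := by
                                    have key := Groth.Agent.Helper6.NT.rowfun6 T u0 u1 u2 u3 u4 u5 hinj u3
                                    rw [Groth.Agent.Helper6.NT.symm' T u3 u0, z_0_3, Groth.Agent.Helper6.NT.symm' T u3 u1, taq_1_3, Groth.Agent.Helper6.NT.symm' T u3 u2, z_2_3, (h2 u3).2, tap_3_4, z_3_5] at key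
                                    exact mul_left_cancel₀ (T.w_pos u3).ne' (by linarith only [key])
                                  have r_4 : 1 * T.m u3 + -2 * T.m u4 + 1 * T.m u5 = 0 := by
                                    have key := Groth.Agent.Helper6.NT.rowfun6 T u0 u1 u2 u3 u4 u5 hinj u4
                                    rw [Groth.Agent.Helper6.NT.symm' T u4 u0, z_0_4, Groth.Agent.Helper6.NT.symm' T u4 u1, z_1_4, Groth.Agent.Helper6.NT.symm' T u4 u2, z_2_4, Groth.Agent.Helper6.NT.symm' T u4 u3, taq_3_4, (h2 u4).2, tap_4_5] at key
                                    exact mul_left_cancel₀ (T.w_pos u4).ne' (by linarith only [key])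
                                  have r_5 : 1 * T.m u4 + -2 * T.m u5 = 0 := by
                                    have key := Groth.Agent.Helper6.NT.rowfun6 T u0 u1 u2 u3 u4 u5 hinj u5
                                    rw [Groth.Agent.Helper6.NT.symm' T u5 u0, z_0_5, Groth.Agent.Helper6.NT.symm' T u5 u1, z_1_5, Groth.Agent.Helper6.NT.symm' T u5 u2, z_2_5, Groth.Agent.Helper6.NT.symm' T u5 u3, z_3_5, Groth.Agent.Helper6.NT.symm' T u5 u4, taq_4_5, (h2 u5).2] at key
                                    exact mul_left_cancel₀ (T.w_pos u5).ne' (by linarith only [key])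
                                  exfalso
                                  linarith only [r_0, r_1, r_2, r_3, r_4, r_5, T.m_pos u0, T.m_pos u1, T.m_pos u2, T.m_pos u3, T.m_pos u4, T.m_pos u5]
                                · -- (4,5) Dp
                                  have hinj := Groth.Agent.Helper6.NT.inj6 u0 u1 u2 u3 u4 u5 hn_1_0 hn_2_0 hn_2_1 hn_3_0 hn_3_1 hn_3_2 hn_4_0 hn_4_1 hn_4_2 hn_4_3 hn_5_0 hn_5_1 hn_5_2 hn_5_3 hn_5_4
                                  have r_0 : -2 * T.m u0 + 1 * T.m u1 + 2 * T.m u2 = 0 := by
                                    have key := Groth.Agent.Helper6.NT.rowfun6 T u0 u1 u2 u3 u4 u5 hinj u0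
                                    rw [(h2 u0).2, tap_0_1, tap_0_2, z_0_3, z_0_4, z_0_5] at key
                                    exact mul_left_cancel₀ (T.w_pos u0).ne' (by linarith only [key])
                                  have r_1 : 1 * T.m u0 + -2 * T.m u1 + 1 * T.m u3 = 0 := by
                                    have key := Groth.Agent.Helper6.NT.rowfun6 T u0 u1 u2 u3 u4 u5 hinj u1
                                    rw [Groth.Agent.Helper6.NT.symm' T u1 u0, taq_0_1, (h2 u1).2, z_1_2, tap_1_3, z_1_4, z_1_5] at key
                                    exact mul_left_cancel₀ (T.w_pos u1).ne' (by linarith only [key])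
                                  have r_2 : 1 * T.m u0 + -2 * T.m u2 = 0 := by
                                    have key := Groth.Agent.Helper6.NT.rowfun6 T u0 u1 u2 u3 u4 u5 hinj u2
                                    rw [Groth.Agent.Helper6.NT.symm' T u2 u0, taq_0_2, Groth.Agent.Helper6.NT.symm' T u2 u1, z_1_2, (h2 u2).2, z_2_3, z_2_4, z_2_5] at key
                                    exact mul_left_cancel₀ (T.w_pos u2).ne' (by linarith only [key])
                                  have r_3 : 1 * T.m u1 + -2 * T.m u3 + 1 * T.m u4 = 0 := by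
                                    have key := Groth.Agent.Helper6.NT.rowfun6 T u0 u1 u2 u3 u4 u5 hinj u3
                                    rw [Groth.Agent.Helper6.NT.symm' T u3 u0, z_0_3, Groth.Agent.Helper6.NT.symm' T u3 u1, taq_1_3, Groth.Agent.Helper6.NT.symm' T u3 u2, z_2_3, (h2 u3).2, tap_3_4, z_3_5] at key
                                    exact mul_left_cancel₀ (T.w_pos u3).ne' (by linarith only [key])
                                  have r_4 : 1 * T.m u3 + -2 * T.m u4 + 2 * T.m u5 = 0 := by
                                    have key := Groth.Agent.Helper6.NT.rowfun6 T u0 u1 u2 u3 u4 u5 hinj u4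
                                    rw [Groth.Agent.Helper6.NT.symm' T u4 u0, z_0_4, Groth.Agent.Helper6.NT.symm' T u4 u1, z_1_4, Groth.Agent.Helper6.NT.symm' T u4 u2, z_2_4, Groth.Agent.Helper6.NT.symm' T u4 u3, taq_3_4, (h2 u4).2, tap_4_5] at key
                                    exact mul_left_cancel₀ (T.w_pos u4).ne' (by linarith only [key])
                                  have r_5 : 1 * T.m u4 + -2 * T.m u5 = 0 := by
                                    have key := Groth.Agent.Helper6.NT.rowfun6 T u0 u1 u2 u3 u4 u5 hinj u5
                                    rw [Groth.Agent.Helper6.NT.symm' T u5 u0, z_0_5, Groth.Agent.Helper6.NT.symm' T u5 u1, z_1_5, Groth.Agent.Helper6.NT.symm' T u5 u2, z_2_5, Groth.Agent.Helper6.NT.symm' T u5 u3, z_3_5, Groth.Agent.Helper6.NT.symm' T u5 u4, taq_4_5, (h2 u5).2] at key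
                                    exact mul_left_cancel₀ (T.w_pos u5).ne' (by linarith only [key])
                                  have f0 : T.m u2 = T.m u2 := rfl
                                  have f1 : T.m u0 = 2 * T.m u2 := by linarith only [r_0, r_1, r_2, r_3, r_4, r_5]
                                  have f2 : T.m u1 = 2 * T.m u2 := by linarith only [r_0, r_1, r_2, r_3, r_4, r_5]
                                  have f3 : T.m u3 = 2 * T.m u2 := by linarith only [r_0, r_1, r_2, r_3, r_4, r_5]
                                  have f4 : T.m u4 = 2 * T.m u2 := by linarith only [r_0, r_1, r_2, r_3, r_4, r_5]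
                                  have f5 : T.m u5 = T.m u2 := by linarith only [r_0, r_1, r_2, r_3, r_4, r_5]
                                  have f6 : T.w u2 = 2 * T.w u0 := by linarith only [tw_0_1, tw_0_2, tw_1_3, tw_3_4, tw_4_5]
                                  have f7 : T.w u0 = T.w u0 := rfl
                                  have f8 : T.w u1 = T.w u0 := by linarith only [tw_0_1, tw_0_2, tw_1_3, tw_3_4, tw_4_5]
                                  have f9 : T.w u3 = T.w u0 := by linarith only [tw_0_1, tw_0_2, tw_1_3, tw_3_4, tw_4_5]
                                  have f10 : T.w u4 = T.w u0 := by linarith only [tw_0_1, tw_0_2, tw_1_3, tw_3_4, tw_4_5]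
                                  have f11 : T.w u5 = 2 * T.w u0 := by linarith only [tw_0_1, tw_0_2, tw_1_3, tw_3_4, tw_4_5]
                                  have f12 : T.a u2 u2 = -4 * T.w u0 := by have := (h2 u2).2; linarith only [this, tw_0_1, tw_0_2, tw_1_3, tw_3_4, tw_4_5]
                                  have f13 : T.a u2 u0 = 2 * T.w u0 := by rw [Groth.Agent.Helper6.NT.symm' T u2 u0]; linarith only [tap_0_2, tw_0_1, tw_0_2, tw_1_3, tw_3_4, tw_4_5]
                                  have f14 : T.a u2 u1 = 0 := by rw [Groth.Agent.Helper6.NT.symm' T u2 u1]; exact z_1_2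
                                  have f15 : T.a u2 u3 = 0 := by exact z_2_3
                                  have f16 : T.a u2 u4 = 0 := by exact z_2_4
                                  have f17 : T.a u2 u5 = 0 := by exact z_2_5
                                  have f18 : T.a u0 u0 = -2 * T.w u0 := by have := (h2 u0).2; linarith only [this, tw_0_1, tw_0_2, tw_1_3, tw_3_4, tw_4_5]
                                  have f19 : T.a u0 u1 = T.w u0 := by linarith only [tap_0_1, tw_0_1, tw_0_2, tw_1_3, tw_3_4, tw_4_5]
                                  have f20 : T.a u0 u3 = 0 := by exact z_0_3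
                                  have f21 : T.a u0 u4 = 0 := by exact z_0_4
                                  have f22 : T.a u0 u5 = 0 := by exact z_0_5
                                  have f23 : T.a u1 u1 = -2 * T.w u0 := by have := (h2 u1).2; linarith only [this, tw_0_1, tw_0_2, tw_1_3, tw_3_4, tw_4_5]
                                  have f24 : T.a u1 u3 = T.w u0 := by linarith only [tap_1_3, tw_0_1, tw_0_2, tw_1_3, tw_3_4, tw_4_5]
                                  have f25 : T.a u1 u4 = 0 := by exact z_1_4
                                  have f26 : T.a u1 u5 = 0 := by exact z_1_5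
                                  have f27 : T.a u3 u3 = -2 * T.w u0 := by have := (h2 u3).2; linarith only [this, tw_0_1, tw_0_2, tw_1_3, tw_3_4, tw_4_5]
                                  have f28 : T.a u3 u4 = T.w u0 := by linarith only [tap_3_4, tw_0_1, tw_0_2, tw_1_3, tw_3_4, tw_4_5]
                                  have f29 : T.a u3 u5 = 0 := by exact z_3_5
                                  have f30 : T.a u4 u4 = -2 * T.w u0 := by have := (h2 u4).2; linarith only [this, tw_0_1, tw_0_2, tw_1_3, tw_3_4, tw_4_5]
                                  have f31 : T.a u4 u5 = 2 * T.w u0 := by linarith only [tap_4_5, tw_0_1, tw_0_2, tw_1_3, tw_3_4, tw_4_5]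
                                  have f32 : T.a u5 u5 = -4 * T.w u0 := by have := (h2 u5).2; linarith only [this, tw_0_1, tw_0_2, tw_1_3, tw_3_4, tw_4_5]
                                  have hsig := Groth.Agent.Helper6.NT.inj6 u2 u0 u1 u3 u4 u5 hn_2_0.symm hn_2_1.symm hn_1_0 hn_3_2 hn_3_0 hn_3_1 hn_4_2 hn_4_0 hn_4_1 hn_4_3 hn_5_2 hn_5_0 hn_5_1 hn_5_3 hn_5_4
                                  exact ⟨Equiv.ofBijective _ (Finite.injective_iff_bijective.1 hsig), T.m u2, T.w u0, Or.inr (Or.inr (Or.inr (Or.inl ⟨f0, f1, f2, f3, f4, f5, f6, f7, f8, f9, f10, f11, f12, f13, f14, f15, f16, f17, f18, f19, f20, f21, f22, f23, f24, f25, f26, f27, f28, f29, f30, f31, f32⟩)))⟩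
                                · -- (4,5) Dm
                                  have hinj := Groth.Agent.Helper6.NT.inj6 u0 u1 u2 u3 u4 u5 hn_1_0 hn_2_0 hn_2_1 hn_3_0 hn_3_1 hn_3_2 hn_4_0 hn_4_1 hn_4_2 hn_4_3 hn_5_0 hn_5_1 hn_5_2 hn_5_3 hn_5_4
                                  have r_0 : -2 * T.m u0 + 1 * T.m u1 + 2 * T.m u2 = 0 := by
                                    have key := Groth.Agent.Helper6.NT.rowfun6 T u0 u1 u2 u3 u4 u5 hinj u0
                                    rw [(h2 u0).2, tap_0_1, tap_0_2, z_0_3, z_0_4, z_0_5] at key
                                    exact mul_left_cancel₀ (T.w_pos u0).ne' (by linarith only [key])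
                                  have r_1 : 1 * T.m u0 + -2 * T.m u1 + 1 * T.m u3 = 0 := by
                                    have key := Groth.Agent.Helper6.NT.rowfun6 T u0 u1 u2 u3 u4 u5 hinj u1
                                    rw [Groth.Agent.Helper6.NT.symm' T u1 u0, taq_0_1, (h2 u1).2, z_1_2, tap_1_3, z_1_4, z_1_5] at key
                                    exact mul_left_cancel₀ (T.w_pos u1).ne' (by linarith only [key])
                                  have r_2 : 1 * T.m u0 + -2 * T.m u2 = 0 := by
                                    have key := Groth.Agent.Helper6.NT.rowfun6 T u0 u1 u2 u3 u4 u5 hinj u2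
                                    rw [Groth.Agent.Helper6.NT.symm' T u2 u0, taq_0_2, Groth.Agent.Helper6.NT.symm' T u2 u1, z_1_2, (h2 u2).2, z_2_3, z_2_4, z_2_5] at key
                                    exact mul_left_cancel₀ (T.w_pos u2).ne' (by linarith only [key])
                                  have r_3 : 1 * T.m u1 + -2 * T.m u3 + 1 * T.m u4 = 0 := by
                                    have key := Groth.Agent.Helper6.NT.rowfun6 T u0 u1 u2 u3 u4 u5 hinj u3
                                    rw [Groth.Agent.Helper6.NT.symm' T u3 u0, z_0_3, Groth.Agent.Helper6.NT.symm' T u3 u1, taq_1_3, Groth.Agent.Helper6.NT.symm' T u3 u2, z_2_3, (h2 u3).2, tap_3_4, z_3_5] at key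
                                    exact mul_left_cancel₀ (T.w_pos u3).ne' (by linarith only [key])
                                  have r_4 : 1 * T.m u3 + -2 * T.m u4 + 1 * T.m u5 = 0 := by
                                    have key := Groth.Agent.Helper6.NT.rowfun6 T u0 u1 u2 u3 u4 u5 hinj u4
                                    rw [Groth.Agent.Helper6.NT.symm' T u4 u0, z_0_4, Groth.Agent.Helper6.NT.symm' T u4 u1, z_1_4, Groth.Agent.Helper6.NT.symm' T u4 u2, z_2_4, Groth.Agent.Helper6.NT.symm' T u4 u3, taq_3_4, (h2 u4).2, tap_4_5] at key
                                    exact mul_left_cancel₀ (T.w_pos u4).ne' (by linarith only [key])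
                                  have r_5 : 2 * T.m u4 + -2 * T.m u5 = 0 := by
                                    have key := Groth.Agent.Helper6.NT.rowfun6 T u0 u1 u2 u3 u4 u5 hinj u5
                                    rw [Groth.Agent.Helper6.NT.symm' T u5 u0, z_0_5, Groth.Agent.Helper6.NT.symm' T u5 u1, z_1_5, Groth.Agent.Helper6.NT.symm' T u5 u2, z_2_5, Groth.Agent.Helper6.NT.symm' T u5 u3, z_3_5, Groth.Agent.Helper6.NT.symm' T u5 u4, taq_4_5, (h2 u5).2] at key
                                    exact mul_left_cancel₀ (T.w_pos u5).ne' (by linarith only [key])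
                                  have f0 : T.m u5 = 2 * T.m u2 := by linarith only [r_0, r_1, r_2, r_3, r_4, r_5]
                                  have f1 : T.m u4 = 2 * T.m u2 := by linarith only [r_0, r_1, r_2, r_3, r_4, r_5]
                                  have f2 : T.m u3 = 2 * T.m u2 := by linarith only [r_0, r_1, r_2, r_3, r_4, r_5]
                                  have f3 : T.m u1 = 2 * T.m u2 := by linarith only [r_0, r_1, r_2, r_3, r_4, r_5]
                                  have f4 : T.m u0 = 2 * T.m u2 := by linarith only [r_0, r_1, r_2, r_3, r_4, r_5]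
                                  have f5 : T.m u2 = T.m u2 := rfl
                                  have f6 : T.w u5 = T.w u5 := rfl
                                  have f7 : T.w u4 = 2 * T.w u5 := by linarith only [tw_0_1, tw_0_2, tw_1_3, tw_3_4, tw_4_5]
                                  have f8 : T.w u3 = 2 * T.w u5 := by linarith only [tw_0_1, tw_0_2, tw_1_3, tw_3_4, tw_4_5]
                                  have f9 : T.w u1 = 2 * T.w u5 := by linarith only [tw_0_1, tw_0_2, tw_1_3, tw_3_4, tw_4_5]
                                  have f10 : T.w u0 = 2 * T.w u5 := by linarith only [tw_0_1, tw_0_2, tw_1_3, tw_3_4, tw_4_5]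
                                  have f11 : T.w u2 = 4 * T.w u5 := by linarith only [tw_0_1, tw_0_2, tw_1_3, tw_3_4, tw_4_5]
                                  have f12 : T.a u5 u5 = -2 * T.w u5 := by have := (h2 u5).2; linarith only [this, tw_0_1, tw_0_2, tw_1_3, tw_3_4, tw_4_5]
                                  have f13 : T.a u5 u4 = 2 * T.w u5 := by rw [Groth.Agent.Helper6.NT.symm' T u5 u4]; linarith only [tap_4_5, tw_0_1, tw_0_2, tw_1_3, tw_3_4, tw_4_5]
                                  have f14 : T.a u5 u3 = 0 := by rw [Groth.Agent.Helper6.NT.symm' T u5 u3]; exact z_3_5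
                                  have f15 : T.a u5 u1 = 0 := by rw [Groth.Agent.Helper6.NT.symm' T u5 u1]; exact z_1_5
                                  have f16 : T.a u5 u0 = 0 := by rw [Groth.Agent.Helper6.NT.symm' T u5 u0]; exact z_0_5
                                  have f17 : T.a u5 u2 = 0 := by rw [Groth.Agent.Helper6.NT.symm' T u5 u2]; exact z_2_5
                                  have f18 : T.a u4 u4 = -4 * T.w u5 := by have := (h2 u4).2; linarith only [this, tw_0_1, tw_0_2, tw_1_3, tw_3_4, tw_4_5]
                                  have f19 : T.a u4 u3 = 2 * T.w u5 := by rw [Groth.Agent.Helper6.NT.symm' T u4 u3]; linarith only [tap_3_4, tw_0_1, tw_0_2, tw_1_3, tw_3_4, tw_4_5]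
                                  have f20 : T.a u4 u1 = 0 := by rw [Groth.Agent.Helper6.NT.symm' T u4 u1]; exact z_1_4
                                  have f21 : T.a u4 u0 = 0 := by rw [Groth.Agent.Helper6.NT.symm' T u4 u0]; exact z_0_4
                                  have f22 : T.a u4 u2 = 0 := by rw [Groth.Agent.Helper6.NT.symm' T u4 u2]; exact z_2_4
                                  have f23 : T.a u3 u3 = -4 * T.w u5 := by have := (h2 u3).2; linarith only [this, tw_0_1, tw_0_2, tw_1_3, tw_3_4, tw_4_5]
                                  have f24 : T.a u3 u1 = 2 * T.w u5 := by rw [Groth.Agent.Helper6.NT.symm' T u3 u1]; linarith only [tap_1_3, tw_0_1, tw_0_2, tw_1_3, tw_3_4, tw_4_5]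
                                  have f25 : T.a u3 u0 = 0 := by rw [Groth.Agent.Helper6.NT.symm' T u3 u0]; exact z_0_3
                                  have f26 : T.a u3 u2 = 0 := by rw [Groth.Agent.Helper6.NT.symm' T u3 u2]; exact z_2_3
                                  have f27 : T.a u1 u1 = -4 * T.w u5 := by have := (h2 u1).2; linarith only [this, tw_0_1, tw_0_2, tw_1_3, tw_3_4, tw_4_5]
                                  have f28 : T.a u1 u0 = 2 * T.w u5 := by rw [Groth.Agent.Helper6.NT.symm' T u1 u0]; linarith only [tap_0_1, tw_0_1, tw_0_2, tw_1_3, tw_3_4, tw_4_5]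
                                  have f29 : T.a u1 u2 = 0 := by exact z_1_2
                                  have f30 : T.a u0 u0 = -4 * T.w u5 := by have := (h2 u0).2; linarith only [this, tw_0_1, tw_0_2, tw_1_3, tw_3_4, tw_4_5]
                                  have f31 : T.a u0 u2 = 4 * T.w u5 := by linarith only [tap_0_2, tw_0_1, tw_0_2, tw_1_3, tw_3_4, tw_4_5]
                                  have f32 : T.a u2 u2 = -8 * T.w u5 := by have := (h2 u2).2; linarith only [this, tw_0_1, tw_0_2, tw_1_3, tw_3_4, tw_4_5]
                                  have hsig := Groth.Agent.Helper6.NT.inj6 u5 u4 u3 u1 u0 u2 hn_5_4.symm hn_5_3.symm hn_4_3.symm hn_5_1.symm hn_4_1.symm hn_3_1.symm hn_5_0.symm hn_4_0.symm hn_3_0.symm hn_1_0.symm hn_5_2.symm hn_4_2.symm hn_3_2.symm hn_2_1 hn_2_0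
                                  exact ⟨Equiv.ofBijective _ (Finite.injective_iff_bijective.1 hsig), T.m u2, T.w u5, Or.inr (Or.inl ⟨f0, f1, f2, f3, f4, f5, f6, f7, f8, f9, f10, f11, f12, f13, f14, f15, f16, f17, f18, f19, f20, f21, f22, f23, f24, f25, f26, f27, f28, f29, f30, f31, f32⟩)⟩
                                · -- (4,5) Tp
                                  exfalso
                                  have key := Groth.Agent.Helper6.NT.negfun3 T h2 u3 u4 u5 (by norm_num) 1 2 1 (by norm_num) (by norm_num)
                                  linarith only [key, tap_3_4, taq_3_4, z_3_5, tap_4_5, taq_4_5, T.w_pos u3, T.w_pos u4, T.w_pos u5]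
                                · -- (4,5) Tm
                                  exfalso
                                  have key := Groth.Agent.Helper6.NT.negfun3 T h2 u3 u4 u5 (by norm_num) 1 2 3 (by norm_num) (by norm_num)
                                  linarith only [key, tap_3_4, taq_3_4, z_3_5, tap_4_5, taq_4_5, T.w_pos u3, T.w_pos u4, T.w_pos u5]
                              · push Not at hx
                                have cl_4 := hx
                                clear hx
                                exfalso
                                refine Groth.Agent.Helper6.NT.closed_contra T [u0, u1, u2, u3, u4] (by simp) (by simp) ?_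
                                intro i hi j hj
                                simp only [List.mem_cons, List.not_mem_nil, or_false, not_or] at hi hj
                                rcases hi with rfl | rfl | rfl | rfl | rfl
                                · exact cl_0 j ⟨hj.1, hj.2.1, hj.2.2.1⟩
                                · exact cl_1 j ⟨hj.1, hj.2.1, hj.2.2.1, hj.2.2.2.1⟩
                                · exact cl_2 j ⟨hj.1, hj.2.1, hj.2.2.1, hj.2.2.2.1⟩
                                · exact cl_3 j ⟨hj.1, hj.2.1, hj.2.2.1, hj.2.2.2.1, hj.2.2.2.2⟩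
                                · exact cl_4 j ⟨hj.1, hj.2.1, hj.2.2.1, hj.2.2.2.1, hj.2.2.2.2⟩
                          · -- (3,4) Dp
                            exfalso
                            have key := Groth.Agent.Helper6.NT.negfun5 T h2 u0 u1 u2 u3 u4 (by norm_num) 2 2 1 2 1 (by norm_num) (by norm_num)
                            linarith only [key, tap_0_1, taq_0_1, tap_0_2, taq_0_2, z_0_3, z_0_4, z_1_2, tap_1_3, taq_1_3, z_1_4, z_2_3, z_2_4, tap_3_4, taq_3_4, T.w_pos u0, T.w_pos u1, T.w_pos u2, T.w_pos u3, T.w_pos u4]
                          · -- (3,4) Dm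
                            exfalso
                            have key := Groth.Agent.Helper6.NT.negfun5 T h2 u0 u1 u2 u3 u4 (by norm_num) 2 2 1 2 2 (by norm_num) (by norm_num)
                            linarith only [key, tap_0_1, taq_0_1, tap_0_2, taq_0_2, z_0_3, z_0_4, z_1_2, tap_1_3, taq_1_3, z_1_4, z_2_3, z_2_4, tap_3_4, taq_3_4, T.w_pos u0, T.w_pos u1, T.w_pos u2, T.w_pos u3, T.w_pos u4]
                          · -- (3,4) Tp
                            exfalso
                            have key := Groth.Agent.Helper6.NT.negfun3 T h2 u1 u3 u4 (by norm_num) 1 2 1 (by norm_num) (by norm_num)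
                            linarith only [key, tap_1_3, taq_1_3, z_1_4, tap_3_4, taq_3_4, T.w_pos u1, T.w_pos u3, T.w_pos u4]
                          · -- (3,4) Tm
                            exfalso
                            have key := Groth.Agent.Helper6.NT.negfun3 T h2 u1 u3 u4 (by norm_num) 1 2 3 (by norm_num) (by norm_num)
                            linarith only [key, tap_1_3, taq_1_3, z_1_4, tap_3_4, taq_3_4, T.w_pos u1, T.w_pos u3, T.w_pos u4]
                        · push Not at hx
                          have cl_3 := hx
                          clear hx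
                          exfalso
                          refine Groth.Agent.Helper6.NT.closed_contra T [u0, u1, u2, u3] (by simp) (by simp) ?_
                          intro i hi j hj
                          simp only [List.mem_cons, List.not_mem_nil, or_false, not_or] at hi hj
                          rcases hi with rfl | rfl | rfl | rfl
                          · exact cl_0 j ⟨hj.1, hj.2.1, hj.2.2.1⟩
                          · exact cl_1 j ⟨hj.1, hj.2.1, hj.2.2.1, hj.2.2.2⟩
                          · exact cl_2 j ⟨hj.1, hj.2.1, hj.2.2.1, hj.2.2.2⟩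
                          · exact cl_3 j ⟨hj.1, hj.2.1, hj.2.2.1, hj.2.2.2⟩
                  · -- (2,3) nonzero
                    obtain ⟨lbp_2_3, lbq_2_3⟩ := Groth.Agent.Helper6.NT.lb T u2 u3 hn_3_2.symm nz_2_3
                    exfalso
                    have key := Groth.Agent.Helper6.NT.negfun4 T h2 u0 u1 u2 u3 (by norm_num) 3 2 2 2 (by norm_num) (by norm_num)
                    linarith only [key, tap_0_1, taq_0_1, tap_0_2, taq_0_2, z_0_3, z_1_2, tap_1_3, taq_1_3, lbp_2_3, lbq_2_3, T.w_pos u0, T.w_pos u1, T.w_pos u2, T.w_pos u3]
                · -- (1,3) Dp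
                  exfalso
                  have key := Groth.Agent.Helper6.NT.negfun4 T h2 u0 u1 u2 u3 (by norm_num) 2 2 1 1 (by norm_num) (by norm_num)
                  linarith only [key, tap_0_1, taq_0_1, tap_0_2, taq_0_2, z_0_3, z_1_2, tap_1_3, taq_1_3, T.offDiag_nonneg u2 u3 hn_3_2.symm, T.w_pos u0, T.w_pos u1, T.w_pos u2, T.w_pos u3]
                · -- (1,3) Dm
                  exfalso
                  have key := Groth.Agent.Helper6.NT.negfun4 T h2 u0 u1 u2 u3 (by norm_num) 2 2 1 2 (by norm_num) (by norm_num)
                  linarith only [key, tap_0_1, taq_0_1, tap_0_2, taq_0_2, z_0_3, z_1_2, tap_1_3, taq_1_3, T.offDiag_nonneg u2 u3 hn_3_2.symm, T.w_pos u0, T.w_pos u1, T.w_pos u2, T.w_pos u3]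
                · -- (1,3) Tp
                  exfalso
                  have key := Groth.Agent.Helper6.NT.negfun3 T h2 u0 u1 u3 (by norm_num) 1 2 1 (by norm_num) (by norm_num)
                  linarith only [key, tap_0_1, taq_0_1, z_0_3, tap_1_3, taq_1_3, T.w_pos u0, T.w_pos u1, T.w_pos u3]
                · -- (1,3) Tm
                  exfalso
                  have key := Groth.Agent.Helper6.NT.negfun3 T h2 u0 u1 u3 (by norm_num) 1 2 3 (by norm_num) (by norm_num)
                  linarith only [key, tap_0_1, taq_0_1, z_0_3, tap_1_3, taq_1_3, T.w_pos u0, T.w_pos u1, T.w_pos u3]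
              · push Not at hx
                have cl_1 := hx
                clear hx
                by_cases hx : ∃ j, (j ≠ u0 ∧ j ≠ u1 ∧ j ≠ u2) ∧ T.a u2 j ≠ 0
                · obtain ⟨u3, ⟨hn_3_0, hn_3_1, hn_3_2⟩, e_2_3⟩ := hx
                  have z_0_3 : T.a u0 u3 = 0 := cl_0 u3 ⟨hn_3_0, hn_3_1, hn_3_2⟩
                  have z_1_3 : T.a u1 u3 = 0 := cl_1 u3 ⟨hn_3_0, hn_3_1, hn_3_2⟩
                  rcases Groth.Agent.Helper6.NT.edge5 T h2 (by norm_num) u2 u3 hn_3_2.symm e_2_3 with ⟨tw_2_3, tap_2_3, taq_2_3⟩ | ⟨tw_2_3, tap_2_3, taq_2_3⟩ | ⟨tw_2_3, tap_2_3, taq_2_3⟩ | ⟨tw_2_3, tap_2_3, taq_2_3⟩ | ⟨tw_2_3, tap_2_3, taq_2_3⟩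
                  · -- (2,3) S
                    by_cases hx : ∃ j, (j ≠ u0 ∧ j ≠ u1 ∧ j ≠ u2 ∧ j ≠ u3) ∧ T.a u2 j ≠ 0
                    · obtain ⟨u4, ⟨hn_4_0, hn_4_1, hn_4_2, hn_4_3⟩, e_2_4⟩ := hx
                      have z_0_4 : T.a u0 u4 = 0 := cl_0 u4 ⟨hn_4_0, hn_4_1, hn_4_2⟩
                      have z_1_4 : T.a u1 u4 = 0 := cl_1 u4 ⟨hn_4_0, hn_4_1, hn_4_2⟩
                      rcases Groth.Agent.Helper6.NT.edge5 T h2 (by norm_num) u2 u4 hn_4_2.symm e_2_4 with ⟨tw_2_4, tap_2_4, taq_2_4⟩ | ⟨tw_2_4, tap_2_4, taq_2_4⟩ | ⟨tw_2_4, tap_2_4, taq_2_4⟩ | ⟨tw_2_4, tap_2_4, taq_2_4⟩ | ⟨tw_2_4, tap_2_4, taq_2_4⟩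
                      · -- (2,4) S
                        exfalso
                        have key := Groth.Agent.Helper6.NT.negfun4 T h2 u0 u2 u3 u4 (by norm_num) 2 2 1 1 (by norm_num) (by norm_num)
                        linarith only [key, tap_0_2, taq_0_2, z_0_3, z_0_4, tap_2_3, taq_2_3, tap_2_4, taq_2_4, T.offDiag_nonneg u3 u4 hn_4_3.symm, T.w_pos u0, T.w_pos u2, T.w_pos u3, T.w_pos u4]
                      · -- (2,4) Dp
                        exfalso
                        have key := Groth.Agent.Helper6.NT.negfun3 T h2 u0 u2 u4 (by norm_num) 2 2 1 (by norm_num) (by norm_num)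
                        linarith only [key, tap_0_2, taq_0_2, z_0_4, tap_2_4, taq_2_4, T.w_pos u0, T.w_pos u2, T.w_pos u4]
                      · -- (2,4) Dm
                        exfalso
                        have key := Groth.Agent.Helper6.NT.negfun3 T h2 u0 u2 u4 (by norm_num) 1 1 1 (by norm_num) (by norm_num)
                        linarith only [key, tap_0_2, taq_0_2, z_0_4, tap_2_4, taq_2_4, T.w_pos u0, T.w_pos u2, T.w_pos u4]
                      · -- (2,4) Tp
                        exfalso
                        have key := Groth.Agent.Helper6.NT.negfun3 T h2 u2 u3 u4 (by norm_num) 2 1 1 (by norm_num) (by norm_num)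
                        linarith only [key, tap_2_3, taq_2_3, tap_2_4, taq_2_4, T.offDiag_nonneg u3 u4 hn_4_3.symm, T.w_pos u2, T.w_pos u3, T.w_pos u4]
                      · -- (2,4) Tm
                        exfalso
                        have key := Groth.Agent.Helper6.NT.negfun3 T h2 u2 u3 u4 (by norm_num) 2 1 3 (by norm_num) (by norm_num)
                        linarith only [key, tap_2_3, taq_2_3, tap_2_4, taq_2_4, T.offDiag_nonneg u3 u4 hn_4_3.symm, T.w_pos u2, T.w_pos u3, T.w_pos u4]
                    · push Not at hx
                      have cl_2 := hx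
                      clear hx
                      by_cases hx : ∃ j, (j ≠ u0 ∧ j ≠ u1 ∧ j ≠ u2 ∧ j ≠ u3) ∧ T.a u3 j ≠ 0
                      · obtain ⟨u4, ⟨hn_4_0, hn_4_1, hn_4_2, hn_4_3⟩, e_3_4⟩ := hx
                        have z_0_4 : T.a u0 u4 = 0 := cl_0 u4 ⟨hn_4_0, hn_4_1, hn_4_2⟩
                        have z_1_4 : T.a u1 u4 = 0 := cl_1 u4 ⟨hn_4_0, hn_4_1, hn_4_2⟩
                        have z_2_4 : T.a u2 u4 = 0 := cl_2 u4 ⟨hn_4_0, hn_4_1, hn_4_2, hn_4_3⟩
                        rcases Groth.Agent.Helper6.NT.edge5 T h2 (by norm_num) u3 u4 hn_4_3.symm e_3_4 with ⟨tw_3_4, tap_3_4, taq_3_4⟩ | ⟨tw_3_4, tap_3_4, taq_3_4⟩ | ⟨tw_3_4, tap_3_4, taq_3_4⟩ | ⟨tw_3_4, tap_3_4, taq_3_4⟩ | ⟨tw_3_4, tap_3_4, taq_3_4⟩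
                        · -- (3,4) S
                          exfalso
                          have key := Groth.Agent.Helper6.NT.negfun5 T h2 u0 u1 u2 u3 u4 (by norm_num) 4 2 3 2 1 (by norm_num) (by norm_num)
                          linarith only [key, tap_0_1, taq_0_1, tap_0_2, taq_0_2, z_0_3, z_0_4, z_1_2, z_1_3, z_1_4, tap_2_3, taq_2_3, z_2_4, tap_3_4, taq_3_4, T.w_pos u0, T.w_pos u1, T.w_pos u2, T.w_pos u3, T.w_pos u4]
                        · -- (3,4) Dp
                          exfalso
                          have key := Groth.Agent.Helper6.NT.negfun4 T h2 u0 u2 u3 u4 (by norm_num) 2 2 2 1 (by norm_num) (by norm_num)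
                          linarith only [key, tap_0_2, taq_0_2, z_0_3, z_0_4, tap_2_3, taq_2_3, z_2_4, tap_3_4, taq_3_4, T.w_pos u0, T.w_pos u2, T.w_pos u3, T.w_pos u4]
                        · -- (3,4) Dm
                          exfalso
                          have key := Groth.Agent.Helper6.NT.negfun4 T h2 u0 u2 u3 u4 (by norm_num) 1 1 1 1 (by norm_num) (by norm_num)
                          linarith only [key, tap_0_2, taq_0_2, z_0_3, z_0_4, tap_2_3, taq_2_3, z_2_4, tap_3_4, taq_3_4, T.w_pos u0, T.w_pos u2, T.w_pos u3, T.w_pos u4]
                        · -- (3,4) Tp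
                          exfalso
                          have key := Groth.Agent.Helper6.NT.negfun3 T h2 u2 u3 u4 (by norm_num) 1 2 1 (by norm_num) (by norm_num)
                          linarith only [key, tap_2_3, taq_2_3, z_2_4, tap_3_4, taq_3_4, T.w_pos u2, T.w_pos u3, T.w_pos u4]
                        · -- (3,4) Tm
                          exfalso
                          have key := Groth.Agent.Helper6.NT.negfun3 T h2 u2 u3 u4 (by norm_num) 1 2 3 (by norm_num) (by norm_num)
                          linarith only [key, tap_2_3, taq_2_3, z_2_4, tap_3_4, taq_3_4, T.w_pos u2, T.w_pos u3, T.w_pos u4]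
                      · push Not at hx
                        have cl_3 := hx
                        clear hx
                        exfalso
                        refine Groth.Agent.Helper6.NT.closed_contra T [u0, u1, u2, u3] (by simp) (by simp) ?_
                        intro i hi j hj
                        simp only [List.mem_cons, List.not_mem_nil, or_false, not_or] at hi hj
                        rcases hi with rfl | rfl | rfl | rfl
                        · exact cl_0 j ⟨hj.1, hj.2.1, hj.2.2.1⟩
                        · exact cl_1 j ⟨hj.1, hj.2.1, hj.2.2.1⟩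
                        · exact cl_2 j ⟨hj.1, hj.2.1, hj.2.2.1, hj.2.2.2⟩
                        · exact cl_3 j ⟨hj.1, hj.2.1, hj.2.2.1, hj.2.2.2⟩
                  · -- (2,3) Dp
                    exfalso
                    have key := Groth.Agent.Helper6.NT.negfun3 T h2 u0 u2 u3 (by norm_num) 2 2 1 (by norm_num) (by norm_num)
                    linarith only [key, tap_0_2, taq_0_2, z_0_3, tap_2_3, taq_2_3, T.w_pos u0, T.w_pos u2, T.w_pos u3]
                  · -- (2,3) Dm
                    exfalso
                    have key := Groth.Agent.Helper6.NT.negfun3 T h2 u0 u2 u3 (by norm_num) 1 1 1 (by norm_num) (by norm_num)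
                    linarith only [key, tap_0_2, taq_0_2, z_0_3, tap_2_3, taq_2_3, T.w_pos u0, T.w_pos u2, T.w_pos u3]
                  · -- (2,3) Tp
                    exfalso
                    have key := Groth.Agent.Helper6.NT.negfun3 T h2 u0 u2 u3 (by norm_num) 2 2 1 (by norm_num) (by norm_num)
                    linarith only [key, tap_0_2, taq_0_2, z_0_3, tap_2_3, taq_2_3, T.w_pos u0, T.w_pos u2, T.w_pos u3]
                  · -- (2,3) Tm
                    exfalso
                    have key := Groth.Agent.Helper6.NT.negfun3 T h2 u0 u2 u3 (by norm_num) 2 2 3 (by norm_num) (by norm_num)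
                    linarith only [key, tap_0_2, taq_0_2, z_0_3, tap_2_3, taq_2_3, T.w_pos u0, T.w_pos u2, T.w_pos u3]
                · push Not at hx
                  have cl_2 := hx
                  clear hx
                  exfalso
                  refine Groth.Agent.Helper6.NT.closed_contra T [u0, u1, u2] (by simp) (by simp) ?_
                  intro i hi j hj
                  simp only [List.mem_cons, List.not_mem_nil, or_false, not_or] at hi hj
                  rcases hi with rfl | rfl | rfl
                  · exact cl_0 j ⟨hj.1, hj.2.1, hj.2.2⟩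
                  · exact cl_1 j ⟨hj.1, hj.2.1, hj.2.2⟩
                  · exact cl_2 j ⟨hj.1, hj.2.1, hj.2.2⟩
          · -- (1,2) nonzero
            obtain ⟨lbp_1_2, lbq_1_2⟩ := Groth.Agent.Helper6.NT.lb T u1 u2 hn_2_1.symm nz_1_2
            exfalso
            have key := Groth.Agent.Helper6.NT.negfun3 T h2 u0 u1 u2 (by norm_num) 1 1 1 (by norm_num) (by norm_num)
            linarith only [key, tap_0_1, taq_0_1, tap_0_2, taq_0_2, lbp_1_2, lbq_1_2, T.w_pos u0, T.w_pos u1, T.w_pos u2]
        · -- (0,2) Dm
          rcases eq_or_ne (T.a u1 u2) 0 with z_1_2 | nz_1_2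
          · -- (1,2) zero
            by_cases hx : ∃ j, (j ≠ u0 ∧ j ≠ u1 ∧ j ≠ u2) ∧ T.a u0 j ≠ 0
            · obtain ⟨u3, ⟨hn_3_0, hn_3_1, hn_3_2⟩, e_0_3⟩ := hx
              rcases Groth.Agent.Helper6.NT.edge5 T h2 (by norm_num) u0 u3 hn_3_0.symm e_0_3 with ⟨tw_0_3, tap_0_3, taq_0_3⟩ | ⟨tw_0_3, tap_0_3, taq_0_3⟩ | ⟨tw_0_3, tap_0_3, taq_0_3⟩ | ⟨tw_0_3, tap_0_3, taq_0_3⟩ | ⟨tw_0_3, tap_0_3, taq_0_3⟩
              · -- (0,3) S
                exfalso
                have key := Groth.Agent.Helper6.NT.negfun4 T h2 u0 u1 u2 u3 (by norm_num) 2 1 2 1 (by norm_num) (by norm_num)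
                linarith only [key, tap_0_1, taq_0_1, tap_0_2, taq_0_2, tap_0_3, taq_0_3, z_1_2, T.offDiag_nonneg u1 u3 hn_3_1.symm, T.offDiag_nonneg u2 u3 hn_3_2.symm, T.w_pos u0, T.w_pos u1, T.w_pos u2, T.w_pos u3]
              · -- (0,3) Dp
                exfalso
                have key := Groth.Agent.Helper6.NT.negfun3 T h2 u0 u2 u3 (by norm_num) 2 2 1 (by norm_num) (by norm_num)
                linarith only [key, tap_0_2, taq_0_2, tap_0_3, taq_0_3, T.offDiag_nonneg u2 u3 hn_3_2.symm, T.w_pos u0, T.w_pos u2, T.w_pos u3]
              · -- (0,3) Dm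
                exfalso
                have key := Groth.Agent.Helper6.NT.negfun3 T h2 u0 u2 u3 (by norm_num) 1 1 1 (by norm_num) (by norm_num)
                linarith only [key, tap_0_2, taq_0_2, tap_0_3, taq_0_3, T.offDiag_nonneg u2 u3 hn_3_2.symm, T.w_pos u0, T.w_pos u2, T.w_pos u3]
              · -- (0,3) Tp
                exfalso
                have key := Groth.Agent.Helper6.NT.negfun3 T h2 u0 u2 u3 (by norm_num) 2 2 1 (by norm_num) (by norm_num)
                linarith only [key, tap_0_2, taq_0_2, tap_0_3, taq_0_3, T.offDiag_nonneg u2 u3 hn_3_2.symm, T.w_pos u0, T.w_pos u2, T.w_pos u3]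
              · -- (0,3) Tm
                exfalso
                have key := Groth.Agent.Helper6.NT.negfun3 T h2 u0 u2 u3 (by norm_num) 2 2 3 (by norm_num) (by norm_num)
                linarith only [key, tap_0_2, taq_0_2, tap_0_3, taq_0_3, T.offDiag_nonneg u2 u3 hn_3_2.symm, T.w_pos u0, T.w_pos u2, T.w_pos u3]
            · push Not at hx
              have cl_0 := hx
              clear hx
              by_cases hx : ∃ j, (j ≠ u0 ∧ j ≠ u1 ∧ j ≠ u2) ∧ T.a u1 j ≠ 0
              · obtain ⟨u3, ⟨hn_3_0, hn_3_1, hn_3_2⟩, e_1_3⟩ := hx
                have z_0_3 : T.a u0 u3 = 0 := cl_0 u3 ⟨hn_3_0, hn_3_1, hn_3_2⟩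
                rcases Groth.Agent.Helper6.NT.edge5 T h2 (by norm_num) u1 u3 hn_3_1.symm e_1_3 with ⟨tw_1_3, tap_1_3, taq_1_3⟩ | ⟨tw_1_3, tap_1_3, taq_1_3⟩ | ⟨tw_1_3, tap_1_3, taq_1_3⟩ | ⟨tw_1_3, tap_1_3, taq_1_3⟩ | ⟨tw_1_3, tap_1_3, taq_1_3⟩
                · -- (1,3) S
                  rcases eq_or_ne (T.a u2 u3) 0 with z_2_3 | nz_2_3
                  · -- (2,3) zero
                    by_cases hx : ∃ j, (j ≠ u0 ∧ j ≠ u1 ∧ j ≠ u2 ∧ j ≠ u3) ∧ T.a u1 j ≠ 0
                    · obtain ⟨u4, ⟨hn_4_0, hn_4_1, hn_4_2, hn_4_3⟩, e_1_4⟩ := hx
                      have z_0_4 : T.a u0 u4 = 0 := cl_0 u4 ⟨hn_4_0, hn_4_1, hn_4_2⟩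
                      rcases Groth.Agent.Helper6.NT.edge5 T h2 (by norm_num) u1 u4 hn_4_1.symm e_1_4 with ⟨tw_1_4, tap_1_4, taq_1_4⟩ | ⟨tw_1_4, tap_1_4, taq_1_4⟩ | ⟨tw_1_4, tap_1_4, taq_1_4⟩ | ⟨tw_1_4, tap_1_4, taq_1_4⟩ | ⟨tw_1_4, tap_1_4, taq_1_4⟩
                      · -- (1,4) S
                        exfalso
                        have key := Groth.Agent.Helper6.NT.negfun5 T h2 u0 u1 u2 u3 u4 (by norm_num) 2 2 2 1 1 (by norm_num) (by norm_num)
                        linarith only [key, tap_0_1, taq_0_1, tap_0_2, taq_0_2, z_0_3, z_0_4, z_1_2, tap_1_3, taq_1_3, tap_1_4, taq_1_4, z_2_3, T.offDiag_nonneg u2 u4 hn_4_2.symm, T.offDiag_nonneg u3 u4 hn_4_3.symm, T.w_pos u0, T.w_pos u1, T.w_pos u2, T.w_pos u3, T.w_pos u4]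
                      · -- (1,4) Dp
                        exfalso
                        have key := Groth.Agent.Helper6.NT.negfun4 T h2 u0 u1 u3 u4 (by norm_num) 1 2 1 1 (by norm_num) (by norm_num)
                        linarith only [key, tap_0_1, taq_0_1, z_0_3, z_0_4, tap_1_3, taq_1_3, tap_1_4, taq_1_4, T.offDiag_nonneg u3 u4 hn_4_3.symm, T.w_pos u0, T.w_pos u1, T.w_pos u3, T.w_pos u4]
                      · -- (1,4) Dm
                        exfalso
                        have key := Groth.Agent.Helper6.NT.negfun4 T h2 u0 u1 u3 u4 (by norm_num) 1 2 1 2 (by norm_num) (by norm_num)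
                        linarith only [key, tap_0_1, taq_0_1, z_0_3, z_0_4, tap_1_3, taq_1_3, tap_1_4, taq_1_4, T.offDiag_nonneg u3 u4 hn_4_3.symm, T.w_pos u0, T.w_pos u1, T.w_pos u3, T.w_pos u4]
                      · -- (1,4) Tp
                        exfalso
                        have key := Groth.Agent.Helper6.NT.negfun3 T h2 u1 u3 u4 (by norm_num) 2 1 1 (by norm_num) (by norm_num)
                        linarith only [key, tap_1_3, taq_1_3, tap_1_4, taq_1_4, T.offDiag_nonneg u3 u4 hn_4_3.symm, T.w_pos u1, T.w_pos u3, T.w_pos u4]
                      · -- (1,4) Tm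
                        exfalso
                        have key := Groth.Agent.Helper6.NT.negfun3 T h2 u1 u3 u4 (by norm_num) 2 1 3 (by norm_num) (by norm_num)
                        linarith only [key, tap_1_3, taq_1_3, tap_1_4, taq_1_4, T.offDiag_nonneg u3 u4 hn_4_3.symm, T.w_pos u1, T.w_pos u3, T.w_pos u4]
                    · push Not at hx
                      have cl_1 := hx
                      clear hx
                      by_cases hx : ∃ j, (j ≠ u0 ∧ j ≠ u1 ∧ j ≠ u2 ∧ j ≠ u3) ∧ T.a u2 j ≠ 0
                      · obtain ⟨u4, ⟨hn_4_0, hn_4_1, hn_4_2, hn_4_3⟩, e_2_4⟩ := hx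
                        have z_0_4 : T.a u0 u4 = 0 := cl_0 u4 ⟨hn_4_0, hn_4_1, hn_4_2⟩
                        have z_1_4 : T.a u1 u4 = 0 := cl_1 u4 ⟨hn_4_0, hn_4_1, hn_4_2, hn_4_3⟩
                        rcases Groth.Agent.Helper6.NT.edge5 T h2 (by norm_num) u2 u4 hn_4_2.symm e_2_4 with ⟨tw_2_4, tap_2_4, taq_2_4⟩ | ⟨tw_2_4, tap_2_4, taq_2_4⟩ | ⟨tw_2_4, tap_2_4, taq_2_4⟩ | ⟨tw_2_4, tap_2_4, taq_2_4⟩ | ⟨tw_2_4, tap_2_4, taq_2_4⟩
                        · -- (2,4) S
                          exfalso
                          have key := Groth.Agent.Helper6.NT.negfun5 T h2 u0 u1 u2 u3 u4 (by norm_num) 3 2 4 1 2 (by norm_num) (by norm_num)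
                          linarith only [key, tap_0_1, taq_0_1, tap_0_2, taq_0_2, z_0_3, z_0_4, z_1_2, tap_1_3, taq_1_3, z_1_4, z_2_3, tap_2_4, taq_2_4, T.offDiag_nonneg u3 u4 hn_4_3.symm, T.w_pos u0, T.w_pos u1, T.w_pos u2, T.w_pos u3, T.w_pos u4]
                        · -- (2,4) Dp
                          exfalso
                          have key := Groth.Agent.Helper6.NT.negfun3 T h2 u0 u2 u4 (by norm_num) 1 2 1 (by norm_num) (by norm_num)
                          linarith only [key, tap_0_2, taq_0_2, z_0_4, tap_2_4, taq_2_4, T.w_pos u0, T.w_pos u2, T.w_pos u4]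
                        · -- (2,4) Dm
                          exfalso
                          have key := Groth.Agent.Helper6.NT.negfun3 T h2 u0 u2 u4 (by norm_num) 1 2 2 (by norm_num) (by norm_num)
                          linarith only [key, tap_0_2, taq_0_2, z_0_4, tap_2_4, taq_2_4, T.w_pos u0, T.w_pos u2, T.w_pos u4]
                        · -- (2,4) Tp
                          exfalso
                          have key := Groth.Agent.Helper6.NT.negfun3 T h2 u0 u2 u4 (by norm_num) 1 2 1 (by norm_num) (by norm_num)
                          linarith only [key, tap_0_2, taq_0_2, z_0_4, tap_2_4, taq_2_4, T.w_pos u0, T.w_pos u2, T.w_pos u4]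
                        · -- (2,4) Tm
                          exfalso
                          have key := Groth.Agent.Helper6.NT.negfun3 T h2 u0 u2 u4 (by norm_num) 1 2 3 (by norm_num) (by norm_num)
                          linarith only [key, tap_0_2, taq_0_2, z_0_4, tap_2_4, taq_2_4, T.w_pos u0, T.w_pos u2, T.w_pos u4]
                      · push Not at hx
                        have cl_2 := hx
                        clear hx
                        by_cases hx : ∃ j, (j ≠ u0 ∧ j ≠ u1 ∧ j ≠ u2 ∧ j ≠ u3) ∧ T.a u3 j ≠ 0
                        · obtain ⟨u4, ⟨hn_4_0, hn_4_1, hn_4_2, hn_4_3⟩, e_3_4⟩ := hx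
                          have z_0_4 : T.a u0 u4 = 0 := cl_0 u4 ⟨hn_4_0, hn_4_1, hn_4_2⟩
                          have z_1_4 : T.a u1 u4 = 0 := cl_1 u4 ⟨hn_4_0, hn_4_1, hn_4_2, hn_4_3⟩
                          have z_2_4 : T.a u2 u4 = 0 := cl_2 u4 ⟨hn_4_0, hn_4_1, hn_4_2, hn_4_3⟩
                          rcases Groth.Agent.Helper6.NT.edge5 T h2 (by norm_num) u3 u4 hn_4_3.symm e_3_4 with ⟨tw_3_4, tap_3_4, taq_3_4⟩ | ⟨tw_3_4, tap_3_4, taq_3_4⟩ | ⟨tw_3_4, tap_3_4, taq_3_4⟩ | ⟨tw_3_4, tap_3_4, taq_3_4⟩ | ⟨tw_3_4, tap_3_4, taq_3_4⟩
                          · -- (3,4) S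
                            by_cases hx : ∃ j, (j ≠ u0 ∧ j ≠ u1 ∧ j ≠ u2 ∧ j ≠ u3 ∧ j ≠ u4) ∧ T.a u3 j ≠ 0
                            · obtain ⟨u5, ⟨hn_5_0, hn_5_1, hn_5_2, hn_5_3, hn_5_4⟩, e_3_5⟩ := hx
                              have z_0_5 : T.a u0 u5 = 0 := cl_0 u5 ⟨hn_5_0, hn_5_1, hn_5_2⟩
                              have z_1_5 : T.a u1 u5 = 0 := cl_1 u5 ⟨hn_5_0, hn_5_1, hn_5_2, hn_5_3⟩
                              have z_2_5 : T.a u2 u5 = 0 := cl_2 u5 ⟨hn_5_0, hn_5_1, hn_5_2, hn_5_3⟩
                              rcases Groth.Agent.Helper6.NT.edge5 T h2 (by norm_num) u3 u5 hn_5_3.symm e_3_5 with ⟨tw_3_5, tap_3_5, taq_3_5⟩ | ⟨tw_3_5, tap_3_5, taq_3_5⟩ | ⟨tw_3_5, tap_3_5, taq_3_5⟩ | ⟨tw_3_5, tap_3_5, taq_3_5⟩ | ⟨tw_3_5, tap_3_5, taq_3_5⟩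
                              · -- (3,5) S
                                rcases eq_or_ne (T.a u4 u5) 0 with z_4_5 | nz_4_5
                                · -- (4,5) zero
                                  have hinj := Groth.Agent.Helper6.NT.inj6 u0 u1 u2 u3 u4 u5 hn_1_0 hn_2_0 hn_2_1 hn_3_0 hn_3_1 hn_3_2 hn_4_0 hn_4_1 hn_4_2 hn_4_3 hn_5_0 hn_5_1 hn_5_2 hn_5_3 hn_5_4
                                  have r_0 : -2 * T.m u0 + 1 * T.m u1 + 1 * T.m u2 = 0 := by
                                    have key := Groth.Agent.Helper6.NT.rowfun6 T u0 u1 u2 u3 u4 u5 hinj u0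
                                    rw [(h2 u0).2, tap_0_1, tap_0_2, z_0_3, z_0_4, z_0_5] at key
                                    exact mul_left_cancel₀ (T.w_pos u0).ne' (by linarith only [key])
                                  have r_1 : 1 * T.m u0 + -2 * T.m u1 + 1 * T.m u3 = 0 := by
                                    have key := Groth.Agent.Helper6.NT.rowfun6 T u0 u1 u2 u3 u4 u5 hinj u1
                                    rw [Groth.Agent.Helper6.NT.symm' T u1 u0, taq_0_1, (h2 u1).2, z_1_2, tap_1_3, z_1_4, z_1_5] at key
                                    exact mul_left_cancel₀ (T.w_pos u1).ne' (by linarith only [key])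
                                  have r_2 : 2 * T.m u0 + -2 * T.m u2 = 0 := by
                                    have key := Groth.Agent.Helper6.NT.rowfun6 T u0 u1 u2 u3 u4 u5 hinj u2
                                    rw [Groth.Agent.Helper6.NT.symm' T u2 u0, taq_0_2, Groth.Agent.Helper6.NT.symm' T u2 u1, z_1_2, (h2 u2).2, z_2_3, z_2_4, z_2_5] at key
                                    exact mul_left_cancel₀ (T.w_pos u2).ne' (by linarith only [key])
                                  have r_3 : 1 * T.m u1 + -2 * T.m u3 + 1 * T.m u4 + 1 * T.m u5 = 0 := by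
                                    have key := Groth.Agent.Helper6.NT.rowfun6 T u0 u1 u2 u3 u4 u5 hinj u3
                                    rw [Groth.Agent.Helper6.NT.symm' T u3 u0, z_0_3, Groth.Agent.Helper6.NT.symm' T u3 u1, taq_1_3, Groth.Agent.Helper6.NT.symm' T u3 u2, z_2_3, (h2 u3).2, tap_3_4, tap_3_5] at key
                                    exact mul_left_cancel₀ (T.w_pos u3).ne' (by linarith only [key])
                                  have r_4 : 1 * T.m u3 + -2 * T.m u4 = 0 := by
                                    have key := Groth.Agent.Helper6.NT.rowfun6 T u0 u1 u2 u3 u4 u5 hinj u4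
                                    rw [Groth.Agent.Helper6.NT.symm' T u4 u0, z_0_4, Groth.Agent.Helper6.NT.symm' T u4 u1, z_1_4, Groth.Agent.Helper6.NT.symm' T u4 u2, z_2_4, Groth.Agent.Helper6.NT.symm' T u4 u3, taq_3_4, (h2 u4).2, z_4_5] at key
                                    exact mul_left_cancel₀ (T.w_pos u4).ne' (by linarith only [key])
                                  have r_5 : 1 * T.m u3 + -2 * T.m u5 = 0 := by
                                    have key := Groth.Agent.Helper6.NT.rowfun6 T u0 u1 u2 u3 u4 u5 hinj u5
                                    rw [Groth.Agent.Helper6.NT.symm' T u5 u0, z_0_5, Groth.Agent.Helper6.NT.symm' T u5 u1, z_1_5, Groth.Agent.Helper6.NT.symm' T u5 u2, z_2_5, Groth.Agent.Helper6.NT.symm' T u5 u3, taq_3_5, Groth.Agent.Helper6.NT.symm' T u5 u4, z_4_5, (h2 u5).2] at key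
                                    exact mul_left_cancel₀ (T.w_pos u5).ne' (by linarith only [key])
                                  have f0 : T.m u2 = 2 * T.m u4 := by linarith only [r_0, r_1, r_2, r_3, r_4, r_5]
                                  have f1 : T.m u0 = 2 * T.m u4 := by linarith only [r_0, r_1, r_2, r_3, r_4, r_5]
                                  have f2 : T.m u1 = 2 * T.m u4 := by linarith only [r_0, r_1, r_2, r_3, r_4, r_5]
                                  have f3 : T.m u3 = 2 * T.m u4 := by linarith only [r_0, r_1, r_2, r_3, r_4, r_5]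
                                  have f4 : T.m u4 = T.m u4 := rfl
                                  have f5 : T.m u5 = T.m u4 := by linarith only [r_0, r_1, r_2, r_3, r_4, r_5]
                                  have f6 : T.w u2 = T.w u2 := rfl
                                  have f7 : T.w u0 = 2 * T.w u2 := by linarith only [tw_0_1, tw_0_2, tw_1_3, tw_3_4, tw_3_5]
                                  have f8 : T.w u1 = 2 * T.w u2 := by linarith only [tw_0_1, tw_0_2, tw_1_3, tw_3_4, tw_3_5]
                                  have f9 : T.w u3 = 2 * T.w u2 := by linarith only [tw_0_1, tw_0_2, tw_1_3, tw_3_4, tw_3_5]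
                                  have f10 : T.w u4 = 2 * T.w u2 := by linarith only [tw_0_1, tw_0_2, tw_1_3, tw_3_4, tw_3_5]
                                  have f11 : T.w u5 = 2 * T.w u2 := by linarith only [tw_0_1, tw_0_2, tw_1_3, tw_3_4, tw_3_5]
                                  have f12 : T.a u2 u2 = -2 * T.w u2 := by have := (h2 u2).2; linarith only [this, tw_0_1, tw_0_2, tw_1_3, tw_3_4, tw_3_5]
                                  have f13 : T.a u2 u0 = 2 * T.w u2 := by rw [Groth.Agent.Helper6.NT.symm' T u2 u0]; linarith only [tap_0_2, tw_0_1, tw_0_2, tw_1_3, tw_3_4, tw_3_5]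
                                  have f14 : T.a u2 u1 = 0 := by rw [Groth.Agent.Helper6.NT.symm' T u2 u1]; exact z_1_2
                                  have f15 : T.a u2 u3 = 0 := by exact z_2_3
                                  have f16 : T.a u2 u4 = 0 := by exact z_2_4
                                  have f17 : T.a u2 u5 = 0 := by exact z_2_5
                                  have f18 : T.a u0 u0 = -4 * T.w u2 := by have := (h2 u0).2; linarith only [this, tw_0_1, tw_0_2, tw_1_3, tw_3_4, tw_3_5]
                                  have f19 : T.a u0 u1 = 2 * T.w u2 := by linarith only [tap_0_1, tw_0_1, tw_0_2, tw_1_3, tw_3_4, tw_3_5]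
                                  have f20 : T.a u0 u3 = 0 := by exact z_0_3
                                  have f21 : T.a u0 u4 = 0 := by exact z_0_4
                                  have f22 : T.a u0 u5 = 0 := by exact z_0_5
                                  have f23 : T.a u1 u1 = -4 * T.w u2 := by have := (h2 u1).2; linarith only [this, tw_0_1, tw_0_2, tw_1_3, tw_3_4, tw_3_5]
                                  have f24 : T.a u1 u3 = 2 * T.w u2 := by linarith only [tap_1_3, tw_0_1, tw_0_2, tw_1_3, tw_3_4, tw_3_5]
                                  have f25 : T.a u1 u4 = 0 := by exact z_1_4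
                                  have f26 : T.a u1 u5 = 0 := by exact z_1_5
                                  have f27 : T.a u3 u3 = -4 * T.w u2 := by have := (h2 u3).2; linarith only [this, tw_0_1, tw_0_2, tw_1_3, tw_3_4, tw_3_5]
                                  have f28 : T.a u3 u4 = 2 * T.w u2 := by linarith only [tap_3_4, tw_0_1, tw_0_2, tw_1_3, tw_3_4, tw_3_5]
                                  have f29 : T.a u3 u5 = 2 * T.w u2 := by linarith only [tap_3_5, tw_0_1, tw_0_2, tw_1_3, tw_3_4, tw_3_5]
                                  have f30 : T.a u4 u4 = -4 * T.w u2 := by have := (h2 u4).2; linarith only [this, tw_0_1, tw_0_2, tw_1_3, tw_3_4, tw_3_5]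
                                  have f31 : T.a u4 u5 = 0 := by exact z_4_5
                                  have f32 : T.a u5 u5 = -4 * T.w u2 := by have := (h2 u5).2; linarith only [this, tw_0_1, tw_0_2, tw_1_3, tw_3_4, tw_3_5]
                                  have hsig := Groth.Agent.Helper6.NT.inj6 u2 u0 u1 u3 u4 u5 hn_2_0.symm hn_2_1.symm hn_1_0 hn_3_2 hn_3_0 hn_3_1 hn_4_2 hn_4_0 hn_4_1 hn_4_3 hn_5_2 hn_5_0 hn_5_1 hn_5_3 hn_5_4
                                  exact ⟨Equiv.ofBijective _ (Finite.injective_iff_bijective.1 hsig), T.m u4, T.w u2, Or.inr (Or.inr (Or.inr (Or.inr (Or.inr (Or.inl ⟨f0, f1, f2, f3, f4, f5, f6, f7, f8, f9, f10, f11, f12, f13, f14, f15, f16, f17, f18, f19, f20, f21, f22, f23, f24, f25, f26, f27, f28, f29, f30, f31, f32⟩)))))⟩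
                                · -- (4,5) nonzero
                                  obtain ⟨lbp_4_5, lbq_4_5⟩ := Groth.Agent.Helper6.NT.lb T u4 u5 hn_5_4.symm nz_4_5
                                  exfalso
                                  have key := Groth.Agent.Helper6.NT.negfun3 T h2 u3 u4 u5 (by norm_num) 1 1 1 (by norm_num) (by norm_num)
                                  linarith only [key, tap_3_4, taq_3_4, tap_3_5, taq_3_5, lbp_4_5, lbq_4_5, T.w_pos u3, T.w_pos u4, T.w_pos u5]
                              · -- (3,5) Dp
                                exfalso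
                                have key := Groth.Agent.Helper6.NT.negfun4 T h2 u1 u3 u4 u5 (by norm_num) 1 2 1 1 (by norm_num) (by norm_num)
                                linarith only [key, tap_1_3, taq_1_3, z_1_4, z_1_5, tap_3_4, taq_3_4, tap_3_5, taq_3_5, T.offDiag_nonneg u4 u5 hn_5_4.symm, T.w_pos u1, T.w_pos u3, T.w_pos u4, T.w_pos u5]
                              · -- (3,5) Dm
                                exfalso
                                have key := Groth.Agent.Helper6.NT.negfun4 T h2 u1 u3 u4 u5 (by norm_num) 1 2 1 2 (by norm_num) (by norm_num)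
                                linarith only [key, tap_1_3, taq_1_3, z_1_4, z_1_5, tap_3_4, taq_3_4, tap_3_5, taq_3_5, T.offDiag_nonneg u4 u5 hn_5_4.symm, T.w_pos u1, T.w_pos u3, T.w_pos u4, T.w_pos u5]
                              · -- (3,5) Tp
                                exfalso
                                have key := Groth.Agent.Helper6.NT.negfun3 T h2 u3 u4 u5 (by norm_num) 2 1 1 (by norm_num) (by norm_num)
                                linarith only [key, tap_3_4, taq_3_4, tap_3_5, taq_3_5, T.offDiag_nonneg u4 u5 hn_5_4.symm, T.w_pos u3, T.w_pos u4, T.w_pos u5]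
                              · -- (3,5) Tm
                                exfalso
                                have key := Groth.Agent.Helper6.NT.negfun3 T h2 u3 u4 u5 (by norm_num) 2 1 3 (by norm_num) (by norm_num)
                                linarith only [key, tap_3_4, taq_3_4, tap_3_5, taq_3_5, T.offDiag_nonneg u4 u5 hn_5_4.symm, T.w_pos u3, T.w_pos u4, T.w_pos u5]
                            · push Not at hx
                              have cl_3 := hx
                              clear hx
                              by_cases hx : ∃ j, (j ≠ u0 ∧ j ≠ u1 ∧ j ≠ u2 ∧ j ≠ u3 ∧ j ≠ u4) ∧ T.a u4 j ≠ 0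
                              · obtain ⟨u5, ⟨hn_5_0, hn_5_1, hn_5_2, hn_5_3, hn_5_4⟩, e_4_5⟩ := hx
                                have z_0_5 : T.a u0 u5 = 0 := cl_0 u5 ⟨hn_5_0, hn_5_1, hn_5_2⟩
                                have z_1_5 : T.a u1 u5 = 0 := cl_1 u5 ⟨hn_5_0, hn_5_1, hn_5_2, hn_5_3⟩
                                have z_2_5 : T.a u2 u5 = 0 := cl_2 u5 ⟨hn_5_0, hn_5_1, hn_5_2, hn_5_3⟩
                                have z_3_5 : T.a u3 u5 = 0 := cl_3 u5 ⟨hn_5_0, hn_5_1, hn_5_2, hn_5_3, hn_5_4⟩
                                rcases Groth.Agent.Helper6.NT.edge5 T h2 (by norm_num) u4 u5 hn_5_4.symm e_4_5 with ⟨tw_4_5, tap_4_5, taq_4_5⟩ | ⟨tw_4_5, tap_4_5, taq_4_5⟩ | ⟨tw_4_5, tap_4_5, taq_4_5⟩ | ⟨tw_4_5, tap_4_5, taq_4_5⟩ | ⟨tw_4_5, tap_4_5, taq_4_5⟩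
                                · -- (4,5) S
                                  have hinj := Groth.Agent.Helper6.NT.inj6 u0 u1 u2 u3 u4 u5 hn_1_0 hn_2_0 hn_2_1 hn_3_0 hn_3_1 hn_3_2 hn_4_0 hn_4_1 hn_4_2 hn_4_3 hn_5_0 hn_5_1 hn_5_2 hn_5_3 hn_5_4
                                  have r_0 : -2 * T.m u0 + 1 * T.m u1 + 1 * T.m u2 = 0 := by
                                    have key := Groth.Agent.Helper6.NT.rowfun6 T u0 u1 u2 u3 u4 u5 hinj u0
                                    rw [(h2 u0).2, tap_0_1, tap_0_2, z_0_3, z_0_4, z_0_5] at key
                                    exact mul_left_cancel₀ (T.w_pos u0).ne' (by linarith only [key])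
                                  have r_1 : 1 * T.m u0 + -2 * T.m u1 + 1 * T.m u3 = 0 := by
                                    have key := Groth.Agent.Helper6.NT.rowfun6 T u0 u1 u2 u3 u4 u5 hinj u1
                                    rw [Groth.Agent.Helper6.NT.symm' T u1 u0, taq_0_1, (h2 u1).2, z_1_2, tap_1_3, z_1_4, z_1_5] at key
                                    exact mul_left_cancel₀ (T.w_pos u1).ne' (by linarith only [key])
                                  have r_2 : 2 * T.m u0 + -2 * T.m u2 = 0 := by
                                    have key := Groth.Agent.Helper6.NT.rowfun6 T u0 u1 u2 u3 u4 u5 hinj u2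
                                    rw [Groth.Agent.Helper6.NT.symm' T u2 u0, taq_0_2, Groth.Agent.Helper6.NT.symm' T u2 u1, z_1_2, (h2 u2).2, z_2_3, z_2_4, z_2_5] at key
                                    exact mul_left_cancel₀ (T.w_pos u2).ne' (by linarith only [key])
                                  have r_3 : 1 * T.m u1 + -2 * T.m u3 + 1 * T.m u4 = 0 := by
                                    have key := Groth.Agent.Helper6.NT.rowfun6 T u0 u1 u2 u3 u4 u5 hinj u3
                                    rw [Groth.Agent.Helper6.NT.symm' T u3 u0, z_0_3, Groth.Agent.Helper6.NT.symm' T u3 u1, taq_1_3, Groth.Agent.Helper6.NT.symm' T u3 u2, z_2_3, (h2 u3).2, tap_3_4, z_3_5] at key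
                                    exact mul_left_cancel₀ (T.w_pos u3).ne' (by linarith only [key])
                                  have r_4 : 1 * T.m u3 + -2 * T.m u4 + 1 * T.m u5 = 0 := by
                                    have key := Groth.Agent.Helper6.NT.rowfun6 T u0 u1 u2 u3 u4 u5 hinj u4
                                    rw [Groth.Agent.Helper6.NT.symm' T u4 u0, z_0_4, Groth.Agent.Helper6.NT.symm' T u4 u1, z_1_4, Groth.Agent.Helper6.NT.symm' T u4 u2, z_2_4, Groth.Agent.Helper6.NT.symm' T u4 u3, taq_3_4, (h2 u4).2, tap_4_5] at key
                                    exact mul_left_cancel₀ (T.w_pos u4).ne' (by linarith only [key])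
                                  have r_5 : 1 * T.m u4 + -2 * T.m u5 = 0 := by
                                    have key := Groth.Agent.Helper6.NT.rowfun6 T u0 u1 u2 u3 u4 u5 hinj u5
                                    rw [Groth.Agent.Helper6.NT.symm' T u5 u0, z_0_5, Groth.Agent.Helper6.NT.symm' T u5 u1, z_1_5, Groth.Agent.Helper6.NT.symm' T u5 u2, z_2_5, Groth.Agent.Helper6.NT.symm' T u5 u3, z_3_5, Groth.Agent.Helper6.NT.symm' T u5 u4, taq_4_5, (h2 u5).2] at key
                                    exact mul_left_cancel₀ (T.w_pos u5).ne' (by linarith only [key])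
                                  exfalso
                                  linarith only [r_0, r_1, r_2, r_3, r_4, r_5, T.m_pos u0, T.m_pos u1, T.m_pos u2, T.m_pos u3, T.m_pos u4, T.m_pos u5]
                                · -- (4,5) Dp
                                  have hinj := Groth.Agent.Helper6.NT.inj6 u0 u1 u2 u3 u4 u5 hn_1_0 hn_2_0 hn_2_1 hn_3_0 hn_3_1 hn_3_2 hn_4_0 hn_4_1 hn_4_2 hn_4_3 hn_5_0 hn_5_1 hn_5_2 hn_5_3 hn_5_4
                                  have r_0 : -2 * T.m u0 + 1 * T.m u1 + 1 * T.m u2 = 0 := by
                                    have key := Groth.Agent.Helper6.NT.rowfun6 T u0 u1 u2 u3 u4 u5 hinj u0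
                                    rw [(h2 u0).2, tap_0_1, tap_0_2, z_0_3, z_0_4, z_0_5] at key
                                    exact mul_left_cancel₀ (T.w_pos u0).ne' (by linarith only [key])
                                  have r_1 : 1 * T.m u0 + -2 * T.m u1 + 1 * T.m u3 = 0 := by
                                    have key := Groth.Agent.Helper6.NT.rowfun6 T u0 u1 u2 u3 u4 u5 hinj u1
                                    rw [Groth.Agent.Helper6.NT.symm' T u1 u0, taq_0_1, (h2 u1).2, z_1_2, tap_1_3, z_1_4, z_1_5] at key
                                    exact mul_left_cancel₀ (T.w_pos u1).ne' (by linarith only [key])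
                                  have r_2 : 2 * T.m u0 + -2 * T.m u2 = 0 := by
                                    have key := Groth.Agent.Helper6.NT.rowfun6 T u0 u1 u2 u3 u4 u5 hinj u2
                                    rw [Groth.Agent.Helper6.NT.symm' T u2 u0, taq_0_2, Groth.Agent.Helper6.NT.symm' T u2 u1, z_1_2, (h2 u2).2, z_2_3, z_2_4, z_2_5] at key
                                    exact mul_left_cancel₀ (T.w_pos u2).ne' (by linarith only [key])
                                  have r_3 : 1 * T.m u1 + -2 * T.m u3 + 1 * T.m u4 = 0 := by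
                                    have key := Groth.Agent.Helper6.NT.rowfun6 T u0 u1 u2 u3 u4 u5 hinj u3
                                    rw [Groth.Agent.Helper6.NT.symm' T u3 u0, z_0_3, Groth.Agent.Helper6.NT.symm' T u3 u1, taq_1_3, Groth.Agent.Helper6.NT.symm' T u3 u2, z_2_3, (h2 u3).2, tap_3_4, z_3_5] at key
                                    exact mul_left_cancel₀ (T.w_pos u3).ne' (by linarith only [key])
                                  have r_4 : 1 * T.m u3 + -2 * T.m u4 + 2 * T.m u5 = 0 := by
                                    have key := Groth.Agent.Helper6.NT.rowfun6 T u0 u1 u2 u3 u4 u5 hinj u4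
                                    rw [Groth.Agent.Helper6.NT.symm' T u4 u0, z_0_4, Groth.Agent.Helper6.NT.symm' T u4 u1, z_1_4, Groth.Agent.Helper6.NT.symm' T u4 u2, z_2_4, Groth.Agent.Helper6.NT.symm' T u4 u3, taq_3_4, (h2 u4).2, tap_4_5] at key
                                    exact mul_left_cancel₀ (T.w_pos u4).ne' (by linarith only [key])
                                  have r_5 : 1 * T.m u4 + -2 * T.m u5 = 0 := by
                                    have key := Groth.Agent.Helper6.NT.rowfun6 T u0 u1 u2 u3 u4 u5 hinj u5
                                    rw [Groth.Agent.Helper6.NT.symm' T u5 u0, z_0_5, Groth.Agent.Helper6.NT.symm' T u5 u1, z_1_5, Groth.Agent.Helper6.NT.symm' T u5 u2, z_2_5, Groth.Agent.Helper6.NT.symm' T u5 u3, z_3_5, Groth.Agent.Helper6.NT.symm' T u5 u4, taq_4_5, (h2 u5).2] at key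
                                    exact mul_left_cancel₀ (T.w_pos u5).ne' (by linarith only [key])
                                  have f0 : T.m u2 = 2 * T.m u5 := by linarith only [r_0, r_1, r_2, r_3, r_4, r_5]
                                  have f1 : T.m u0 = 2 * T.m u5 := by linarith only [r_0, r_1, r_2, r_3, r_4, r_5]
                                  have f2 : T.m u1 = 2 * T.m u5 := by linarith only [r_0, r_1, r_2, r_3, r_4, r_5]
                                  have f3 : T.m u3 = 2 * T.m u5 := by linarith only [r_0, r_1, r_2, r_3, r_4, r_5]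
                                  have f4 : T.m u4 = 2 * T.m u5 := by linarith only [r_0, r_1, r_2, r_3, r_4, r_5]
                                  have f5 : T.m u5 = T.m u5 := rfl
                                  have f6 : T.w u2 = T.w u2 := rfl
                                  have f7 : T.w u0 = 2 * T.w u2 := by linarith only [tw_0_1, tw_0_2, tw_1_3, tw_3_4, tw_4_5]
                                  have f8 : T.w u1 = 2 * T.w u2 := by linarith only [tw_0_1, tw_0_2, tw_1_3, tw_3_4, tw_4_5]
                                  have f9 : T.w u3 = 2 * T.w u2 := by linarith only [tw_0_1, tw_0_2, tw_1_3, tw_3_4, tw_4_5]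
                                  have f10 : T.w u4 = 2 * T.w u2 := by linarith only [tw_0_1, tw_0_2, tw_1_3, tw_3_4, tw_4_5]
                                  have f11 : T.w u5 = 4 * T.w u2 := by linarith only [tw_0_1, tw_0_2, tw_1_3, tw_3_4, tw_4_5]
                                  have f12 : T.a u2 u2 = -2 * T.w u2 := by have := (h2 u2).2; linarith only [this, tw_0_1, tw_0_2, tw_1_3, tw_3_4, tw_4_5]
                                  have f13 : T.a u2 u0 = 2 * T.w u2 := by rw [Groth.Agent.Helper6.NT.symm' T u2 u0]; linarith only [tap_0_2, tw_0_1, tw_0_2, tw_1_3, tw_3_4, tw_4_5]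
                                  have f14 : T.a u2 u1 = 0 := by rw [Groth.Agent.Helper6.NT.symm' T u2 u1]; exact z_1_2
                                  have f15 : T.a u2 u3 = 0 := by exact z_2_3
                                  have f16 : T.a u2 u4 = 0 := by exact z_2_4
                                  have f17 : T.a u2 u5 = 0 := by exact z_2_5
                                  have f18 : T.a u0 u0 = -4 * T.w u2 := by have := (h2 u0).2; linarith only [this, tw_0_1, tw_0_2, tw_1_3, tw_3_4, tw_4_5]
                                  have f19 : T.a u0 u1 = 2 * T.w u2 := by linarith only [tap_0_1, tw_0_1, tw_0_2, tw_1_3, tw_3_4, tw_4_5]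
                                  have f20 : T.a u0 u3 = 0 := by exact z_0_3
                                  have f21 : T.a u0 u4 = 0 := by exact z_0_4
                                  have f22 : T.a u0 u5 = 0 := by exact z_0_5
                                  have f23 : T.a u1 u1 = -4 * T.w u2 := by have := (h2 u1).2; linarith only [this, tw_0_1, tw_0_2, tw_1_3, tw_3_4, tw_4_5]
                                  have f24 : T.a u1 u3 = 2 * T.w u2 := by linarith only [tap_1_3, tw_0_1, tw_0_2, tw_1_3, tw_3_4, tw_4_5]
                                  have f25 : T.a u1 u4 = 0 := by exact z_1_4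
                                  have f26 : T.a u1 u5 = 0 := by exact z_1_5
                                  have f27 : T.a u3 u3 = -4 * T.w u2 := by have := (h2 u3).2; linarith only [this, tw_0_1, tw_0_2, tw_1_3, tw_3_4, tw_4_5]
                                  have f28 : T.a u3 u4 = 2 * T.w u2 := by linarith only [tap_3_4, tw_0_1, tw_0_2, tw_1_3, tw_3_4, tw_4_5]
                                  have f29 : T.a u3 u5 = 0 := by exact z_3_5
                                  have f30 : T.a u4 u4 = -4 * T.w u2 := by have := (h2 u4).2; linarith only [this, tw_0_1, tw_0_2, tw_1_3, tw_3_4, tw_4_5]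
                                  have f31 : T.a u4 u5 = 4 * T.w u2 := by linarith only [tap_4_5, tw_0_1, tw_0_2, tw_1_3, tw_3_4, tw_4_5]
                                  have f32 : T.a u5 u5 = -8 * T.w u2 := by have := (h2 u5).2; linarith only [this, tw_0_1, tw_0_2, tw_1_3, tw_3_4, tw_4_5]
                                  have hsig := Groth.Agent.Helper6.NT.inj6 u2 u0 u1 u3 u4 u5 hn_2_0.symm hn_2_1.symm hn_1_0 hn_3_2 hn_3_0 hn_3_1 hn_4_2 hn_4_0 hn_4_1 hn_4_3 hn_5_2 hn_5_0 hn_5_1 hn_5_3 hn_5_4
                                  exact ⟨Equiv.ofBijective _ (Finite.injective_iff_bijective.1 hsig), T.m u5, T.w u2, Or.inr (Or.inl ⟨f0, f1, f2, f3, f4, f5, f6, f7, f8, f9, f10, f11, f12, f13, f14, f15, f16, f17, f18, f19, f20, f21, f22, f23, f24, f25, f26, f27, f28, f29, f30, f31, f32⟩)⟩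
                                · -- (4,5) Dm
                                  have hinj := Groth.Agent.Helper6.NT.inj6 u0 u1 u2 u3 u4 u5 hn_1_0 hn_2_0 hn_2_1 hn_3_0 hn_3_1 hn_3_2 hn_4_0 hn_4_1 hn_4_2 hn_4_3 hn_5_0 hn_5_1 hn_5_2 hn_5_3 hn_5_4
                                  have r_0 : -2 * T.m u0 + 1 * T.m u1 + 1 * T.m u2 = 0 := by
                                    have key := Groth.Agent.Helper6.NT.rowfun6 T u0 u1 u2 u3 u4 u5 hinj u0
                                    rw [(h2 u0).2, tap_0_1, tap_0_2, z_0_3, z_0_4, z_0_5] at key
                                    exact mul_left_cancel₀ (T.w_pos u0).ne' (by linarith only [key])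
                                  have r_1 : 1 * T.m u0 + -2 * T.m u1 + 1 * T.m u3 = 0 := by
                                    have key := Groth.Agent.Helper6.NT.rowfun6 T u0 u1 u2 u3 u4 u5 hinj u1
                                    rw [Groth.Agent.Helper6.NT.symm' T u1 u0, taq_0_1, (h2 u1).2, z_1_2, tap_1_3, z_1_4, z_1_5] at key
                                    exact mul_left_cancel₀ (T.w_pos u1).ne' (by linarith only [key])
                                  have r_2 : 2 * T.m u0 + -2 * T.m u2 = 0 := by
                                    have key := Groth.Agent.Helper6.NT.rowfun6 T u0 u1 u2 u3 u4 u5 hinj u2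
                                    rw [Groth.Agent.Helper6.NT.symm' T u2 u0, taq_0_2, Groth.Agent.Helper6.NT.symm' T u2 u1, z_1_2, (h2 u2).2, z_2_3, z_2_4, z_2_5] at key
                                    exact mul_left_cancel₀ (T.w_pos u2).ne' (by linarith only [key])
                                  have r_3 : 1 * T.m u1 + -2 * T.m u3 + 1 * T.m u4 = 0 := by
                                    have key := Groth.Agent.Helper6.NT.rowfun6 T u0 u1 u2 u3 u4 u5 hinj u3
                                    rw [Groth.Agent.Helper6.NT.symm' T u3 u0, z_0_3, Groth.Agent.Helper6.NT.symm' T u3 u1, taq_1_3, Groth.Agent.Helper6.NT.symm' T u3 u2, z_2_3, (h2 u3).2, tap_3_4, z_3_5] at key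
                                    exact mul_left_cancel₀ (T.w_pos u3).ne' (by linarith only [key])
                                  have r_4 : 1 * T.m u3 + -2 * T.m u4 + 1 * T.m u5 = 0 := by
                                    have key := Groth.Agent.Helper6.NT.rowfun6 T u0 u1 u2 u3 u4 u5 hinj u4
                                    rw [Groth.Agent.Helper6.NT.symm' T u4 u0, z_0_4, Groth.Agent.Helper6.NT.symm' T u4 u1, z_1_4, Groth.Agent.Helper6.NT.symm' T u4 u2, z_2_4, Groth.Agent.Helper6.NT.symm' T u4 u3, taq_3_4, (h2 u4).2, tap_4_5] at key
                                    exact mul_left_cancel₀ (T.w_pos u4).ne' (by linarith only [key])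
                                  have r_5 : 2 * T.m u4 + -2 * T.m u5 = 0 := by
                                    have key := Groth.Agent.Helper6.NT.rowfun6 T u0 u1 u2 u3 u4 u5 hinj u5
                                    rw [Groth.Agent.Helper6.NT.symm' T u5 u0, z_0_5, Groth.Agent.Helper6.NT.symm' T u5 u1, z_1_5, Groth.Agent.Helper6.NT.symm' T u5 u2, z_2_5, Groth.Agent.Helper6.NT.symm' T u5 u3, z_3_5, Groth.Agent.Helper6.NT.symm' T u5 u4, taq_4_5, (h2 u5).2] at key
                                    exact mul_left_cancel₀ (T.w_pos u5).ne' (by linarith only [key])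
                                  have f0 : T.m u2 = T.m u2 := rfl
                                  have f1 : T.m u0 = T.m u2 := by linarith only [r_0, r_1, r_2, r_3, r_4, r_5]
                                  have f2 : T.m u1 = T.m u2 := by linarith only [r_0, r_1, r_2, r_3, r_4, r_5]
                                  have f3 : T.m u3 = T.m u2 := by linarith only [r_0, r_1, r_2, r_3, r_4, r_5]
                                  have f4 : T.m u4 = T.m u2 := by linarith only [r_0, r_1, r_2, r_3, r_4, r_5]
                                  have f5 : T.m u5 = T.m u2 := by linarith only [r_0, r_1, r_2, r_3, r_4, r_5]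
                                  have f6 : T.w u2 = T.w u2 := rfl
                                  have f7 : T.w u0 = 2 * T.w u2 := by linarith only [tw_0_1, tw_0_2, tw_1_3, tw_3_4, tw_4_5]
                                  have f8 : T.w u1 = 2 * T.w u2 := by linarith only [tw_0_1, tw_0_2, tw_1_3, tw_3_4, tw_4_5]
                                  have f9 : T.w u3 = 2 * T.w u2 := by linarith only [tw_0_1, tw_0_2, tw_1_3, tw_3_4, tw_4_5]
                                  have f10 : T.w u4 = 2 * T.w u2 := by linarith only [tw_0_1, tw_0_2, tw_1_3, tw_3_4, tw_4_5]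
                                  have f11 : T.w u5 = T.w u2 := by linarith only [tw_0_1, tw_0_2, tw_1_3, tw_3_4, tw_4_5]
                                  have f12 : T.a u2 u2 = -2 * T.w u2 := by have := (h2 u2).2; linarith only [this, tw_0_1, tw_0_2, tw_1_3, tw_3_4, tw_4_5]
                                  have f13 : T.a u2 u0 = 2 * T.w u2 := by rw [Groth.Agent.Helper6.NT.symm' T u2 u0]; linarith only [tap_0_2, tw_0_1, tw_0_2, tw_1_3, tw_3_4, tw_4_5]
                                  have f14 : T.a u2 u1 = 0 := by rw [Groth.Agent.Helper6.NT.symm' T u2 u1]; exact z_1_2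
                                  have f15 : T.a u2 u3 = 0 := by exact z_2_3
                                  have f16 : T.a u2 u4 = 0 := by exact z_2_4
                                  have f17 : T.a u2 u5 = 0 := by exact z_2_5
                                  have f18 : T.a u0 u0 = -4 * T.w u2 := by have := (h2 u0).2; linarith only [this, tw_0_1, tw_0_2, tw_1_3, tw_3_4, tw_4_5]
                                  have f19 : T.a u0 u1 = 2 * T.w u2 := by linarith only [tap_0_1, tw_0_1, tw_0_2, tw_1_3, tw_3_4, tw_4_5]
                                  have f20 : T.a u0 u3 = 0 := by exact z_0_3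
                                  have f21 : T.a u0 u4 = 0 := by exact z_0_4
                                  have f22 : T.a u0 u5 = 0 := by exact z_0_5
                                  have f23 : T.a u1 u1 = -4 * T.w u2 := by have := (h2 u1).2; linarith only [this, tw_0_1, tw_0_2, tw_1_3, tw_3_4, tw_4_5]
                                  have f24 : T.a u1 u3 = 2 * T.w u2 := by linarith only [tap_1_3, tw_0_1, tw_0_2, tw_1_3, tw_3_4, tw_4_5]
                                  have f25 : T.a u1 u4 = 0 := by exact z_1_4
                                  have f26 : T.a u1 u5 = 0 := by exact z_1_5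
                                  have f27 : T.a u3 u3 = -4 * T.w u2 := by have := (h2 u3).2; linarith only [this, tw_0_1, tw_0_2, tw_1_3, tw_3_4, tw_4_5]
                                  have f28 : T.a u3 u4 = 2 * T.w u2 := by linarith only [tap_3_4, tw_0_1, tw_0_2, tw_1_3, tw_3_4, tw_4_5]
                                  have f29 : T.a u3 u5 = 0 := by exact z_3_5
                                  have f30 : T.a u4 u4 = -4 * T.w u2 := by have := (h2 u4).2; linarith only [this, tw_0_1, tw_0_2, tw_1_3, tw_3_4, tw_4_5]
                                  have f31 : T.a u4 u5 = 2 * T.w u2 := by linarith only [tap_4_5, tw_0_1, tw_0_2, tw_1_3, tw_3_4, tw_4_5]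
                                  have f32 : T.a u5 u5 = -2 * T.w u2 := by have := (h2 u5).2; linarith only [this, tw_0_1, tw_0_2, tw_1_3, tw_3_4, tw_4_5]
                                  have hsig := Groth.Agent.Helper6.NT.inj6 u2 u0 u1 u3 u4 u5 hn_2_0.symm hn_2_1.symm hn_1_0 hn_3_2 hn_3_0 hn_3_1 hn_4_2 hn_4_0 hn_4_1 hn_4_3 hn_5_2 hn_5_0 hn_5_1 hn_5_3 hn_5_4
                                  exact ⟨Equiv.ofBijective _ (Finite.injective_iff_bijective.1 hsig), T.m u2, T.w u2, Or.inr (Or.inr (Or.inl ⟨f0, f1, f2, f3, f4, f5, f6, f7, f8, f9, f10, f11, f12, f13, f14, f15, f16, f17, f18, f19, f20, f21, f22, f23, f24, f25, f26, f27, f28, f29, f30, f31, f32⟩))⟩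
                                · -- (4,5) Tp
                                  exfalso
                                  have key := Groth.Agent.Helper6.NT.negfun3 T h2 u3 u4 u5 (by norm_num) 1 2 1 (by norm_num) (by norm_num)
                                  linarith only [key, tap_3_4, taq_3_4, z_3_5, tap_4_5, taq_4_5, T.w_pos u3, T.w_pos u4, T.w_pos u5]
                                · -- (4,5) Tm
                                  exfalso
                                  have key := Groth.Agent.Helper6.NT.negfun3 T h2 u3 u4 u5 (by norm_num) 1 2 3 (by norm_num) (by norm_num)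
                                  linarith only [key, tap_3_4, taq_3_4, z_3_5, tap_4_5, taq_4_5, T.w_pos u3, T.w_pos u4, T.w_pos u5]
                              · push Not at hx
                                have cl_4 := hx
                                clear hx
                                exfalso
                                refine Groth.Agent.Helper6.NT.closed_contra T [u0, u1, u2, u3, u4] (by simp) (by simp) ?_
                                intro i hi j hj
                                simp only [List.mem_cons, List.not_mem_nil, or_false, not_or] at hi hj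
                                rcases hi with rfl | rfl | rfl | rfl | rfl
                                · exact cl_0 j ⟨hj.1, hj.2.1, hj.2.2.1⟩
                                · exact cl_1 j ⟨hj.1, hj.2.1, hj.2.2.1, hj.2.2.2.1⟩
                                · exact cl_2 j ⟨hj.1, hj.2.1, hj.2.2.1, hj.2.2.2.1⟩
                                · exact cl_3 j ⟨hj.1, hj.2.1, hj.2.2.1, hj.2.2.2.1, hj.2.2.2.2⟩
                                · exact cl_4 j ⟨hj.1, hj.2.1, hj.2.2.1, hj.2.2.2.1, hj.2.2.2.2⟩
                          · -- (3,4) Dp
                            exfalso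
                            have key := Groth.Agent.Helper6.NT.negfun5 T h2 u0 u1 u2 u3 u4 (by norm_num) 2 2 2 2 1 (by norm_num) (by norm_num)
                            linarith only [key, tap_0_1, taq_0_1, tap_0_2, taq_0_2, z_0_3, z_0_4, z_1_2, tap_1_3, taq_1_3, z_1_4, z_2_3, z_2_4, tap_3_4, taq_3_4, T.w_pos u0, T.w_pos u1, T.w_pos u2, T.w_pos u3, T.w_pos u4]
                          · -- (3,4) Dm
                            exfalso
                            have key := Groth.Agent.Helper6.NT.negfun5 T h2 u0 u1 u2 u3 u4 (by norm_num) 1 1 1 1 1 (by norm_num) (by norm_num)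
                            linarith only [key, tap_0_1, taq_0_1, tap_0_2, taq_0_2, z_0_3, z_0_4, z_1_2, tap_1_3, taq_1_3, z_1_4, z_2_3, z_2_4, tap_3_4, taq_3_4, T.w_pos u0, T.w_pos u1, T.w_pos u2, T.w_pos u3, T.w_pos u4]
                          · -- (3,4) Tp
                            exfalso
                            have key := Groth.Agent.Helper6.NT.negfun3 T h2 u1 u3 u4 (by norm_num) 1 2 1 (by norm_num) (by norm_num)
                            linarith only [key, tap_1_3, taq_1_3, z_1_4, tap_3_4, taq_3_4, T.w_pos u1, T.w_pos u3, T.w_pos u4]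
                          · -- (3,4) Tm
                            exfalso
                            have key := Groth.Agent.Helper6.NT.negfun3 T h2 u1 u3 u4 (by norm_num) 1 2 3 (by norm_num) (by norm_num)
                            linarith only [key, tap_1_3, taq_1_3, z_1_4, tap_3_4, taq_3_4, T.w_pos u1, T.w_pos u3, T.w_pos u4]
                        · push Not at hx
                          have cl_3 := hx
                          clear hx
                          exfalso
                          refine Groth.Agent.Helper6.NT.closed_contra T [u0, u1, u2, u3] (by simp) (by simp) ?_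
                          intro i hi j hj
                          simp only [List.mem_cons, List.not_mem_nil, or_false, not_or] at hi hj
                          rcases hi with rfl | rfl | rfl | rfl
                          · exact cl_0 j ⟨hj.1, hj.2.1, hj.2.2.1⟩
                          · exact cl_1 j ⟨hj.1, hj.2.1, hj.2.2.1, hj.2.2.2⟩
                          · exact cl_2 j ⟨hj.1, hj.2.1, hj.2.2.1, hj.2.2.2⟩
                          · exact cl_3 j ⟨hj.1, hj.2.1, hj.2.2.1, hj.2.2.2⟩
                  · -- (2,3) nonzero
                    obtain ⟨lbp_2_3, lbq_2_3⟩ := Groth.Agent.Helper6.NT.lb T u2 u3 hn_3_2.symm nz_2_3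
                    exfalso
                    have key := Groth.Agent.Helper6.NT.negfun4 T h2 u0 u1 u2 u3 (by norm_num) 2 2 3 2 (by norm_num) (by norm_num)
                    linarith only [key, tap_0_1, taq_0_1, tap_0_2, taq_0_2, z_0_3, z_1_2, tap_1_3, taq_1_3, lbp_2_3, lbq_2_3, T.w_pos u0, T.w_pos u1, T.w_pos u2, T.w_pos u3]
                · -- (1,3) Dp
                  exfalso
                  have key := Groth.Agent.Helper6.NT.negfun4 T h2 u0 u1 u2 u3 (by norm_num) 2 2 2 1 (by norm_num) (by norm_num)
                  linarith only [key, tap_0_1, taq_0_1, tap_0_2, taq_0_2, z_0_3, z_1_2, tap_1_3, taq_1_3, T.offDiag_nonneg u2 u3 hn_3_2.symm, T.w_pos u0, T.w_pos u1, T.w_pos u2, T.w_pos u3]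
                · -- (1,3) Dm
                  exfalso
                  have key := Groth.Agent.Helper6.NT.negfun4 T h2 u0 u1 u2 u3 (by norm_num) 1 1 1 1 (by norm_num) (by norm_num)
                  linarith only [key, tap_0_1, taq_0_1, tap_0_2, taq_0_2, z_0_3, z_1_2, tap_1_3, taq_1_3, T.offDiag_nonneg u2 u3 hn_3_2.symm, T.w_pos u0, T.w_pos u1, T.w_pos u2, T.w_pos u3]
                · -- (1,3) Tp
                  exfalso
                  have key := Groth.Agent.Helper6.NT.negfun3 T h2 u0 u1 u3 (by norm_num) 1 2 1 (by norm_num) (by norm_num)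
                  linarith only [key, tap_0_1, taq_0_1, z_0_3, tap_1_3, taq_1_3, T.w_pos u0, T.w_pos u1, T.w_pos u3]
                · -- (1,3) Tm
                  exfalso
                  have key := Groth.Agent.Helper6.NT.negfun3 T h2 u0 u1 u3 (by norm_num) 1 2 3 (by norm_num) (by norm_num)
                  linarith only [key, tap_0_1, taq_0_1, z_0_3, tap_1_3, taq_1_3, T.w_pos u0, T.w_pos u1, T.w_pos u3]
              · push Not at hx
                have cl_1 := hx
                clear hx
                by_cases hx : ∃ j, (j ≠ u0 ∧ j ≠ u1 ∧ j ≠ u2) ∧ T.a u2 j ≠ 0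
                · obtain ⟨u3, ⟨hn_3_0, hn_3_1, hn_3_2⟩, e_2_3⟩ := hx
                  have z_0_3 : T.a u0 u3 = 0 := cl_0 u3 ⟨hn_3_0, hn_3_1, hn_3_2⟩
                  have z_1_3 : T.a u1 u3 = 0 := cl_1 u3 ⟨hn_3_0, hn_3_1, hn_3_2⟩
                  rcases Groth.Agent.Helper6.NT.edge5 T h2 (by norm_num) u2 u3 hn_3_2.symm e_2_3 with ⟨tw_2_3, tap_2_3, taq_2_3⟩ | ⟨tw_2_3, tap_2_3, taq_2_3⟩ | ⟨tw_2_3, tap_2_3, taq_2_3⟩ | ⟨tw_2_3, tap_2_3, taq_2_3⟩ | ⟨tw_2_3, tap_2_3, taq_2_3⟩
                  · -- (2,3) S
                    by_cases hx : ∃ j, (j ≠ u0 ∧ j ≠ u1 ∧ j ≠ u2 ∧ j ≠ u3) ∧ T.a u2 j ≠ 0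
                    · obtain ⟨u4, ⟨hn_4_0, hn_4_1, hn_4_2, hn_4_3⟩, e_2_4⟩ := hx
                      have z_0_4 : T.a u0 u4 = 0 := cl_0 u4 ⟨hn_4_0, hn_4_1, hn_4_2⟩
                      have z_1_4 : T.a u1 u4 = 0 := cl_1 u4 ⟨hn_4_0, hn_4_1, hn_4_2⟩
                      rcases Groth.Agent.Helper6.NT.edge5 T h2 (by norm_num) u2 u4 hn_4_2.symm e_2_4 with ⟨tw_2_4, tap_2_4, taq_2_4⟩ | ⟨tw_2_4, tap_2_4, taq_2_4⟩ | ⟨tw_2_4, tap_2_4, taq_2_4⟩ | ⟨tw_2_4, tap_2_4, taq_2_4⟩ | ⟨tw_2_4, tap_2_4, taq_2_4⟩
                      · -- (2,4) S
                        exfalso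
                        have key := Groth.Agent.Helper6.NT.negfun4 T h2 u0 u2 u3 u4 (by norm_num) 1 2 1 1 (by norm_num) (by norm_num)
                        linarith only [key, tap_0_2, taq_0_2, z_0_3, z_0_4, tap_2_3, taq_2_3, tap_2_4, taq_2_4, T.offDiag_nonneg u3 u4 hn_4_3.symm, T.w_pos u0, T.w_pos u2, T.w_pos u3, T.w_pos u4]
                      · -- (2,4) Dp
                        exfalso
                        have key := Groth.Agent.Helper6.NT.negfun3 T h2 u0 u2 u4 (by norm_num) 1 2 1 (by norm_num) (by norm_num)
                        linarith only [key, tap_0_2, taq_0_2, z_0_4, tap_2_4, taq_2_4, T.w_pos u0, T.w_pos u2, T.w_pos u4]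
                      · -- (2,4) Dm
                        exfalso
                        have key := Groth.Agent.Helper6.NT.negfun3 T h2 u0 u2 u4 (by norm_num) 1 2 2 (by norm_num) (by norm_num)
                        linarith only [key, tap_0_2, taq_0_2, z_0_4, tap_2_4, taq_2_4, T.w_pos u0, T.w_pos u2, T.w_pos u4]
                      · -- (2,4) Tp
                        exfalso
                        have key := Groth.Agent.Helper6.NT.negfun3 T h2 u2 u3 u4 (by norm_num) 2 1 1 (by norm_num) (by norm_num)
                        linarith only [key, tap_2_3, taq_2_3, tap_2_4, taq_2_4, T.offDiag_nonneg u3 u4 hn_4_3.symm, T.w_pos u2, T.w_pos u3, T.w_pos u4]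
                      · -- (2,4) Tm
                        exfalso
                        have key := Groth.Agent.Helper6.NT.negfun3 T h2 u2 u3 u4 (by norm_num) 2 1 3 (by norm_num) (by norm_num)
                        linarith only [key, tap_2_3, taq_2_3, tap_2_4, taq_2_4, T.offDiag_nonneg u3 u4 hn_4_3.symm, T.w_pos u2, T.w_pos u3, T.w_pos u4]
                    · push Not at hx
                      have cl_2 := hx
                      clear hx
                      by_cases hx : ∃ j, (j ≠ u0 ∧ j ≠ u1 ∧ j ≠ u2 ∧ j ≠ u3) ∧ T.a u3 j ≠ 0
                      · obtain ⟨u4, ⟨hn_4_0, hn_4_1, hn_4_2, hn_4_3⟩, e_3_4⟩ := hx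
                        have z_0_4 : T.a u0 u4 = 0 := cl_0 u4 ⟨hn_4_0, hn_4_1, hn_4_2⟩
                        have z_1_4 : T.a u1 u4 = 0 := cl_1 u4 ⟨hn_4_0, hn_4_1, hn_4_2⟩
                        have z_2_4 : T.a u2 u4 = 0 := cl_2 u4 ⟨hn_4_0, hn_4_1, hn_4_2, hn_4_3⟩
                        rcases Groth.Agent.Helper6.NT.edge5 T h2 (by norm_num) u3 u4 hn_4_3.symm e_3_4 with ⟨tw_3_4, tap_3_4, taq_3_4⟩ | ⟨tw_3_4, tap_3_4, taq_3_4⟩ | ⟨tw_3_4, tap_3_4, taq_3_4⟩ | ⟨tw_3_4, tap_3_4, taq_3_4⟩ | ⟨tw_3_4, tap_3_4, taq_3_4⟩
                        · -- (3,4) S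
                          exfalso
                          have key := Groth.Agent.Helper6.NT.negfun5 T h2 u0 u1 u2 u3 u4 (by norm_num) 2 1 3 2 1 (by norm_num) (by norm_num)
                          linarith only [key, tap_0_1, taq_0_1, tap_0_2, taq_0_2, z_0_3, z_0_4, z_1_2, z_1_3, z_1_4, tap_2_3, taq_2_3, z_2_4, tap_3_4, taq_3_4, T.w_pos u0, T.w_pos u1, T.w_pos u2, T.w_pos u3, T.w_pos u4]
                        · -- (3,4) Dp
                          exfalso
                          have key := Groth.Agent.Helper6.NT.negfun4 T h2 u0 u2 u3 u4 (by norm_num) 1 2 2 1 (by norm_num) (by norm_num)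
                          linarith only [key, tap_0_2, taq_0_2, z_0_3, z_0_4, tap_2_3, taq_2_3, z_2_4, tap_3_4, taq_3_4, T.w_pos u0, T.w_pos u2, T.w_pos u3, T.w_pos u4]
                        · -- (3,4) Dm
                          exfalso
                          have key := Groth.Agent.Helper6.NT.negfun4 T h2 u0 u2 u3 u4 (by norm_num) 1 2 2 2 (by norm_num) (by norm_num)
                          linarith only [key, tap_0_2, taq_0_2, z_0_3, z_0_4, tap_2_3, taq_2_3, z_2_4, tap_3_4, taq_3_4, T.w_pos u0, T.w_pos u2, T.w_pos u3, T.w_pos u4]
                        · -- (3,4) Tp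
                          exfalso
                          have key := Groth.Agent.Helper6.NT.negfun3 T h2 u2 u3 u4 (by norm_num) 1 2 1 (by norm_num) (by norm_num)
                          linarith only [key, tap_2_3, taq_2_3, z_2_4, tap_3_4, taq_3_4, T.w_pos u2, T.w_pos u3, T.w_pos u4]
                        · -- (3,4) Tm
                          exfalso
                          have key := Groth.Agent.Helper6.NT.negfun3 T h2 u2 u3 u4 (by norm_num) 1 2 3 (by norm_num) (by norm_num)
                          linarith only [key, tap_2_3, taq_2_3, z_2_4, tap_3_4, taq_3_4, T.w_pos u2, T.w_pos u3, T.w_pos u4]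
                      · push Not at hx
                        have cl_3 := hx
                        clear hx
                        exfalso
                        refine Groth.Agent.Helper6.NT.closed_contra T [u0, u1, u2, u3] (by simp) (by simp) ?_
                        intro i hi j hj
                        simp only [List.mem_cons, List.not_mem_nil, or_false, not_or] at hi hj
                        rcases hi with rfl | rfl | rfl | rfl
                        · exact cl_0 j ⟨hj.1, hj.2.1, hj.2.2.1⟩
                        · exact cl_1 j ⟨hj.1, hj.2.1, hj.2.2.1⟩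
                        · exact cl_2 j ⟨hj.1, hj.2.1, hj.2.2.1, hj.2.2.2⟩
                        · exact cl_3 j ⟨hj.1, hj.2.1, hj.2.2.1, hj.2.2.2⟩
                  · -- (2,3) Dp
                    exfalso
                    have key := Groth.Agent.Helper6.NT.negfun3 T h2 u0 u2 u3 (by norm_num) 1 2 1 (by norm_num) (by norm_num)
                    linarith only [key, tap_0_2, taq_0_2, z_0_3, tap_2_3, taq_2_3, T.w_pos u0, T.w_pos u2, T.w_pos u3]
                  · -- (2,3) Dm
                    exfalso
                    have key := Groth.Agent.Helper6.NT.negfun3 T h2 u0 u2 u3 (by norm_num) 1 2 2 (by norm_num) (by norm_num)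
                    linarith only [key, tap_0_2, taq_0_2, z_0_3, tap_2_3, taq_2_3, T.w_pos u0, T.w_pos u2, T.w_pos u3]
                  · -- (2,3) Tp
                    exfalso
                    have key := Groth.Agent.Helper6.NT.negfun3 T h2 u0 u2 u3 (by norm_num) 1 2 1 (by norm_num) (by norm_num)
                    linarith only [key, tap_0_2, taq_0_2, z_0_3, tap_2_3, taq_2_3, T.w_pos u0, T.w_pos u2, T.w_pos u3]
                  · -- (2,3) Tm
                    exfalso
                    have key := Groth.Agent.Helper6.NT.negfun3 T h2 u0 u2 u3 (by norm_num) 1 2 3 (by norm_num) (by norm_num)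
                    linarith only [key, tap_0_2, taq_0_2, z_0_3, tap_2_3, taq_2_3, T.w_pos u0, T.w_pos u2, T.w_pos u3]
                · push Not at hx
                  have cl_2 := hx
                  clear hx
                  exfalso
                  refine Groth.Agent.Helper6.NT.closed_contra T [u0, u1, u2] (by simp) (by simp) ?_
                  intro i hi j hj
                  simp only [List.mem_cons, List.not_mem_nil, or_false, not_or] at hi hj
                  rcases hi with rfl | rfl | rfl
                  · exact cl_0 j ⟨hj.1, hj.2.1, hj.2.2⟩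
                  · exact cl_1 j ⟨hj.1, hj.2.1, hj.2.2⟩
                  · exact cl_2 j ⟨hj.1, hj.2.1, hj.2.2⟩
          · -- (1,2) nonzero
            obtain ⟨lbp_1_2, lbq_1_2⟩ := Groth.Agent.Helper6.NT.lb T u1 u2 hn_2_1.symm nz_1_2
            exfalso
            have key := Groth.Agent.Helper6.NT.negfun3 T h2 u0 u1 u2 (by norm_num) 1 1 1 (by norm_num) (by norm_num)
            linarith only [key, tap_0_1, taq_0_1, tap_0_2, taq_0_2, lbp_1_2, lbq_1_2, T.w_pos u0, T.w_pos u1, T.w_pos u2]
        · -- (0,2) Tp
          exfalso
          have key := Groth.Agent.Helper6.NT.negfun3 T h2 u0 u1 u2 (by norm_num) 2 1 1 (by norm_num) (by norm_num)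
          linarith only [key, tap_0_1, taq_0_1, tap_0_2, taq_0_2, T.offDiag_nonneg u1 u2 hn_2_1.symm, T.w_pos u0, T.w_pos u1, T.w_pos u2]
        · -- (0,2) Tm
          exfalso
          have key := Groth.Agent.Helper6.NT.negfun3 T h2 u0 u1 u2 (by norm_num) 2 1 3 (by norm_num) (by norm_num)
          linarith only [key, tap_0_1, taq_0_1, tap_0_2, taq_0_2, T.offDiag_nonneg u1 u2 hn_2_1.symm, T.w_pos u0, T.w_pos u1, T.w_pos u2]
      · push Not at hx
        have cl_0 := hx
        clear hx
        by_cases hx : ∃ j, (j ≠ u0 ∧ j ≠ u1) ∧ T.a u1 j ≠ 0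
        · obtain ⟨u2, ⟨hn_2_0, hn_2_1⟩, e_1_2⟩ := hx
          have z_0_2 : T.a u0 u2 = 0 := cl_0 u2 ⟨hn_2_0, hn_2_1⟩
          rcases Groth.Agent.Helper6.NT.edge5 T h2 (by norm_num) u1 u2 hn_2_1.symm e_1_2 with ⟨tw_1_2, tap_1_2, taq_1_2⟩ | ⟨tw_1_2, tap_1_2, taq_1_2⟩ | ⟨tw_1_2, tap_1_2, taq_1_2⟩ | ⟨tw_1_2, tap_1_2, taq_1_2⟩ | ⟨tw_1_2, tap_1_2, taq_1_2⟩
          · -- (1,2) S
            by_cases hx : ∃ j, (j ≠ u0 ∧ j ≠ u1 ∧ j ≠ u2) ∧ T.a u1 j ≠ 0
            · obtain ⟨u3, ⟨hn_3_0, hn_3_1, hn_3_2⟩, e_1_3⟩ := hx
              have z_0_3 : T.a u0 u3 = 0 := cl_0 u3 ⟨hn_3_0, hn_3_1⟩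
              rcases Groth.Agent.Helper6.NT.edge5 T h2 (by norm_num) u1 u3 hn_3_1.symm e_1_3 with ⟨tw_1_3, tap_1_3, taq_1_3⟩ | ⟨tw_1_3, tap_1_3, taq_1_3⟩ | ⟨tw_1_3, tap_1_3, taq_1_3⟩ | ⟨tw_1_3, tap_1_3, taq_1_3⟩ | ⟨tw_1_3, tap_1_3, taq_1_3⟩
              · -- (1,3) S
                rcases eq_or_ne (T.a u2 u3) 0 with z_2_3 | nz_2_3
                · -- (2,3) zero
                  by_cases hx : ∃ j, (j ≠ u0 ∧ j ≠ u1 ∧ j ≠ u2 ∧ j ≠ u3) ∧ T.a u1 j ≠ 0
                  · obtain ⟨u4, ⟨hn_4_0, hn_4_1, hn_4_2, hn_4_3⟩, e_1_4⟩ := hx
                    have z_0_4 : T.a u0 u4 = 0 := cl_0 u4 ⟨hn_4_0, hn_4_1⟩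
                    rcases Groth.Agent.Helper6.NT.edge5 T h2 (by norm_num) u1 u4 hn_4_1.symm e_1_4 with ⟨tw_1_4, tap_1_4, taq_1_4⟩ | ⟨tw_1_4, tap_1_4, taq_1_4⟩ | ⟨tw_1_4, tap_1_4, taq_1_4⟩ | ⟨tw_1_4, tap_1_4, taq_1_4⟩ | ⟨tw_1_4, tap_1_4, taq_1_4⟩
                    · -- (1,4) S
                      exfalso
                      have key := Groth.Agent.Helper6.NT.negfun5 T h2 u0 u1 u2 u3 u4 (by norm_num) 1 2 1 1 1 (by norm_num) (by norm_num)
                      linarith only [key, tap_0_1, taq_0_1, z_0_2, z_0_3, z_0_4, tap_1_2, taq_1_2, tap_1_3, taq_1_3, tap_1_4, taq_1_4, z_2_3, T.offDiag_nonneg u2 u4 hn_4_2.symm, T.offDiag_nonneg u3 u4 hn_4_3.symm, T.w_pos u0, T.w_pos u1, T.w_pos u2, T.w_pos u3, T.w_pos u4]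
                    · -- (1,4) Dp
                      exfalso
                      have key := Groth.Agent.Helper6.NT.negfun4 T h2 u1 u2 u3 u4 (by norm_num) 2 1 1 1 (by norm_num) (by norm_num)
                      linarith only [key, tap_1_2, taq_1_2, tap_1_3, taq_1_3, tap_1_4, taq_1_4, z_2_3, T.offDiag_nonneg u2 u4 hn_4_2.symm, T.offDiag_nonneg u3 u4 hn_4_3.symm, T.w_pos u1, T.w_pos u2, T.w_pos u3, T.w_pos u4]
                    · -- (1,4) Dm
                      exfalso
                      have key := Groth.Agent.Helper6.NT.negfun4 T h2 u1 u2 u3 u4 (by norm_num) 2 1 1 2 (by norm_num) (by norm_num)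
                      linarith only [key, tap_1_2, taq_1_2, tap_1_3, taq_1_3, tap_1_4, taq_1_4, z_2_3, T.offDiag_nonneg u2 u4 hn_4_2.symm, T.offDiag_nonneg u3 u4 hn_4_3.symm, T.w_pos u1, T.w_pos u2, T.w_pos u3, T.w_pos u4]
                    · -- (1,4) Tp
                      exfalso
                      have key := Groth.Agent.Helper6.NT.negfun3 T h2 u1 u3 u4 (by norm_num) 2 1 1 (by norm_num) (by norm_num)
                      linarith only [key, tap_1_3, taq_1_3, tap_1_4, taq_1_4, T.offDiag_nonneg u3 u4 hn_4_3.symm, T.w_pos u1, T.w_pos u3, T.w_pos u4]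
                    · -- (1,4) Tm
                      exfalso
                      have key := Groth.Agent.Helper6.NT.negfun3 T h2 u1 u3 u4 (by norm_num) 2 1 3 (by norm_num) (by norm_num)
                      linarith only [key, tap_1_3, taq_1_3, tap_1_4, taq_1_4, T.offDiag_nonneg u3 u4 hn_4_3.symm, T.w_pos u1, T.w_pos u3, T.w_pos u4]
                  · push Not at hx
                    have cl_1 := hx
                    clear hx
                    by_cases hx : ∃ j, (j ≠ u0 ∧ j ≠ u1 ∧ j ≠ u2 ∧ j ≠ u3) ∧ T.a u2 j ≠ 0
                    · obtain ⟨u4, ⟨hn_4_0, hn_4_1, hn_4_2, hn_4_3⟩, e_2_4⟩ := hx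
                      have z_0_4 : T.a u0 u4 = 0 := cl_0 u4 ⟨hn_4_0, hn_4_1⟩
                      have z_1_4 : T.a u1 u4 = 0 := cl_1 u4 ⟨hn_4_0, hn_4_1, hn_4_2, hn_4_3⟩
                      rcases Groth.Agent.Helper6.NT.edge5 T h2 (by norm_num) u2 u4 hn_4_2.symm e_2_4 with ⟨tw_2_4, tap_2_4, taq_2_4⟩ | ⟨tw_2_4, tap_2_4, taq_2_4⟩ | ⟨tw_2_4, tap_2_4, taq_2_4⟩ | ⟨tw_2_4, tap_2_4, taq_2_4⟩ | ⟨tw_2_4, tap_2_4, taq_2_4⟩
                      · -- (2,4) S
                        rcases eq_or_ne (T.a u3 u4) 0 with z_3_4 | nz_3_4
                        · -- (3,4) zero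
                          by_cases hx : ∃ j, (j ≠ u0 ∧ j ≠ u1 ∧ j ≠ u2 ∧ j ≠ u3 ∧ j ≠ u4) ∧ T.a u2 j ≠ 0
                          · obtain ⟨u5, ⟨hn_5_0, hn_5_1, hn_5_2, hn_5_3, hn_5_4⟩, e_2_5⟩ := hx
                            have z_0_5 : T.a u0 u5 = 0 := cl_0 u5 ⟨hn_5_0, hn_5_1⟩
                            have z_1_5 : T.a u1 u5 = 0 := cl_1 u5 ⟨hn_5_0, hn_5_1, hn_5_2, hn_5_3⟩
                            rcases Groth.Agent.Helper6.NT.edge5 T h2 (by norm_num) u2 u5 hn_5_2.symm e_2_5 with ⟨tw_2_5, tap_2_5, taq_2_5⟩ | ⟨tw_2_5, tap_2_5, taq_2_5⟩ | ⟨tw_2_5, tap_2_5, taq_2_5⟩ | ⟨tw_2_5, tap_2_5, taq_2_5⟩ | ⟨tw_2_5, tap_2_5, taq_2_5⟩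
                            · -- (2,5) S
                              rcases eq_or_ne (T.a u3 u5) 0 with z_3_5 | nz_3_5
                              · -- (3,5) zero
                                rcases eq_or_ne (T.a u4 u5) 0 with z_4_5 | nz_4_5
                                · -- (4,5) zero
                                  have hinj := Groth.Agent.Helper6.NT.inj6 u0 u1 u2 u3 u4 u5 hn_1_0 hn_2_0 hn_2_1 hn_3_0 hn_3_1 hn_3_2 hn_4_0 hn_4_1 hn_4_2 hn_4_3 hn_5_0 hn_5_1 hn_5_2 hn_5_3 hn_5_4
                                  have r_0 : -2 * T.m u0 + 1 * T.m u1 = 0 := by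
                                    have key := Groth.Agent.Helper6.NT.rowfun6 T u0 u1 u2 u3 u4 u5 hinj u0
                                    rw [(h2 u0).2, tap_0_1, z_0_2, z_0_3, z_0_4, z_0_5] at key
                                    exact mul_left_cancel₀ (T.w_pos u0).ne' (by linarith only [key])
                                  have r_1 : 1 * T.m u0 + -2 * T.m u1 + 1 * T.m u2 + 1 * T.m u3 = 0 := by
                                    have key := Groth.Agent.Helper6.NT.rowfun6 T u0 u1 u2 u3 u4 u5 hinj u1
                                    rw [Groth.Agent.Helper6.NT.symm' T u1 u0, taq_0_1, (h2 u1).2, tap_1_2, tap_1_3, z_1_4, z_1_5] at key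
                                    exact mul_left_cancel₀ (T.w_pos u1).ne' (by linarith only [key])
                                  have r_2 : 1 * T.m u1 + -2 * T.m u2 + 1 * T.m u4 + 1 * T.m u5 = 0 := by
                                    have key := Groth.Agent.Helper6.NT.rowfun6 T u0 u1 u2 u3 u4 u5 hinj u2
                                    rw [Groth.Agent.Helper6.NT.symm' T u2 u0, z_0_2, Groth.Agent.Helper6.NT.symm' T u2 u1, taq_1_2, (h2 u2).2, z_2_3, tap_2_4, tap_2_5] at key
                                    exact mul_left_cancel₀ (T.w_pos u2).ne' (by linarith only [key])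
                                  have r_3 : 1 * T.m u1 + -2 * T.m u3 = 0 := by
                                    have key := Groth.Agent.Helper6.NT.rowfun6 T u0 u1 u2 u3 u4 u5 hinj u3
                                    rw [Groth.Agent.Helper6.NT.symm' T u3 u0, z_0_3, Groth.Agent.Helper6.NT.symm' T u3 u1, taq_1_3, Groth.Agent.Helper6.NT.symm' T u3 u2, z_2_3, (h2 u3).2, z_3_4, z_3_5] at key
                                    exact mul_left_cancel₀ (T.w_pos u3).ne' (by linarith only [key])
                                  have r_4 : 1 * T.m u2 + -2 * T.m u4 = 0 := by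
                                    have key := Groth.Agent.Helper6.NT.rowfun6 T u0 u1 u2 u3 u4 u5 hinj u4
                                    rw [Groth.Agent.Helper6.NT.symm' T u4 u0, z_0_4, Groth.Agent.Helper6.NT.symm' T u4 u1, z_1_4, Groth.Agent.Helper6.NT.symm' T u4 u2, taq_2_4, Groth.Agent.Helper6.NT.symm' T u4 u3, z_3_4, (h2 u4).2, z_4_5] at key
                                    exact mul_left_cancel₀ (T.w_pos u4).ne' (by linarith only [key])
                                  have r_5 : 1 * T.m u2 + -2 * T.m u5 = 0 := by
                                    have key := Groth.Agent.Helper6.NT.rowfun6 T u0 u1 u2 u3 u4 u5 hinj u5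
                                    rw [Groth.Agent.Helper6.NT.symm' T u5 u0, z_0_5, Groth.Agent.Helper6.NT.symm' T u5 u1, z_1_5, Groth.Agent.Helper6.NT.symm' T u5 u2, taq_2_5, Groth.Agent.Helper6.NT.symm' T u5 u3, z_3_5, Groth.Agent.Helper6.NT.symm' T u5 u4, z_4_5, (h2 u5).2] at key
                                    exact mul_left_cancel₀ (T.w_pos u5).ne' (by linarith only [key])
                                  have f0 : T.m u0 = T.m u0 := rfl
                                  have f1 : T.m u3 = T.m u0 := by linarith only [r_0, r_1, r_2, r_3, r_4, r_5]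
                                  have f2 : T.m u1 = 2 * T.m u0 := by linarith only [r_0, r_1, r_2, r_3, r_4, r_5]
                                  have f3 : T.m u2 = 2 * T.m u0 := by linarith only [r_0, r_1, r_2, r_3, r_4, r_5]
                                  have f4 : T.m u4 = T.m u0 := by linarith only [r_0, r_1, r_2, r_3, r_4, r_5]
                                  have f5 : T.m u5 = T.m u0 := by linarith only [r_0, r_1, r_2, r_3, r_4, r_5]
                                  have f6 : T.w u0 = T.w u0 := rfl
                                  have f7 : T.w u3 = T.w u0 := by linarith only [tw_0_1, tw_1_2, tw_1_3, tw_2_4, tw_2_5]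
                                  have f8 : T.w u1 = T.w u0 := by linarith only [tw_0_1, tw_1_2, tw_1_3, tw_2_4, tw_2_5]
                                  have f9 : T.w u2 = T.w u0 := by linarith only [tw_0_1, tw_1_2, tw_1_3, tw_2_4, tw_2_5]
                                  have f10 : T.w u4 = T.w u0 := by linarith only [tw_0_1, tw_1_2, tw_1_3, tw_2_4, tw_2_5]
                                  have f11 : T.w u5 = T.w u0 := by linarith only [tw_0_1, tw_1_2, tw_1_3, tw_2_4, tw_2_5]
                                  have f12 : T.a u0 u0 = -2 * T.w u0 := by have := (h2 u0).2; linarith only [this, tw_0_1, tw_1_2, tw_1_3, tw_2_4, tw_2_5]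
                                  have f13 : T.a u0 u3 = 0 := by exact z_0_3
                                  have f14 : T.a u0 u1 = T.w u0 := by linarith only [tap_0_1, tw_0_1, tw_1_2, tw_1_3, tw_2_4, tw_2_5]
                                  have f15 : T.a u0 u2 = 0 := by exact z_0_2
                                  have f16 : T.a u0 u4 = 0 := by exact z_0_4
                                  have f17 : T.a u0 u5 = 0 := by exact z_0_5
                                  have f18 : T.a u3 u3 = -2 * T.w u0 := by have := (h2 u3).2; linarith only [this, tw_0_1, tw_1_2, tw_1_3, tw_2_4, tw_2_5]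
                                  have f19 : T.a u3 u1 = T.w u0 := by rw [Groth.Agent.Helper6.NT.symm' T u3 u1]; linarith only [tap_1_3, tw_0_1, tw_1_2, tw_1_3, tw_2_4, tw_2_5]
                                  have f20 : T.a u3 u2 = 0 := by rw [Groth.Agent.Helper6.NT.symm' T u3 u2]; exact z_2_3
                                  have f21 : T.a u3 u4 = 0 := by exact z_3_4
                                  have f22 : T.a u3 u5 = 0 := by exact z_3_5
                                  have f23 : T.a u1 u1 = -2 * T.w u0 := by have := (h2 u1).2; linarith only [this, tw_0_1, tw_1_2, tw_1_3, tw_2_4, tw_2_5]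
                                  have f24 : T.a u1 u2 = T.w u0 := by linarith only [tap_1_2, tw_0_1, tw_1_2, tw_1_3, tw_2_4, tw_2_5]
                                  have f25 : T.a u1 u4 = 0 := by exact z_1_4
                                  have f26 : T.a u1 u5 = 0 := by exact z_1_5
                                  have f27 : T.a u2 u2 = -2 * T.w u0 := by have := (h2 u2).2; linarith only [this, tw_0_1, tw_1_2, tw_1_3, tw_2_4, tw_2_5]
                                  have f28 : T.a u2 u4 = T.w u0 := by linarith only [tap_2_4, tw_0_1, tw_1_2, tw_1_3, tw_2_4, tw_2_5]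
                                  have f29 : T.a u2 u5 = T.w u0 := by linarith only [tap_2_5, tw_0_1, tw_1_2, tw_1_3, tw_2_4, tw_2_5]
                                  have f30 : T.a u4 u4 = -2 * T.w u0 := by have := (h2 u4).2; linarith only [this, tw_0_1, tw_1_2, tw_1_3, tw_2_4, tw_2_5]
                                  have f31 : T.a u4 u5 = 0 := by exact z_4_5
                                  have f32 : T.a u5 u5 = -2 * T.w u0 := by have := (h2 u5).2; linarith only [this, tw_0_1, tw_1_2, tw_1_3, tw_2_4, tw_2_5]
                                  have hsig := Groth.Agent.Helper6.NT.inj6 u0 u3 u1 u2 u4 u5 hn_3_0 hn_1_0 hn_3_1.symm hn_2_0 hn_3_2.symm hn_2_1 hn_4_0 hn_4_3 hn_4_1 hn_4_2 hn_5_0 hn_5_3 hn_5_1 hn_5_2 hn_5_4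
                                  exact ⟨Equiv.ofBijective _ (Finite.injective_iff_bijective.1 hsig), T.m u0, T.w u0, Or.inr (Or.inr (Or.inr (Or.inr (Or.inr (Or.inr (⟨f0, f1, f2, f3, f4, f5, f6, f7, f8, f9, f10, f11, f12, f13, f14, f15, f16, f17, f18, f19, f20, f21, f22, f23, f24, f25, f26, f27, f28, f29, f30, f31, f32⟩))))))⟩
                                · -- (4,5) nonzero
                                  obtain ⟨lbp_4_5, lbq_4_5⟩ := Groth.Agent.Helper6.NT.lb T u4 u5 hn_5_4.symm nz_4_5
                                  exfalso
                                  have key := Groth.Agent.Helper6.NT.negfun3 T h2 u2 u4 u5 (by norm_num) 1 1 1 (by norm_num) (by norm_num)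
                                  linarith only [key, tap_2_4, taq_2_4, tap_2_5, taq_2_5, lbp_4_5, lbq_4_5, T.w_pos u2, T.w_pos u4, T.w_pos u5]
                              · -- (3,5) nonzero
                                obtain ⟨lbp_3_5, lbq_3_5⟩ := Groth.Agent.Helper6.NT.lb T u3 u5 hn_5_3.symm nz_3_5
                                exfalso
                                have key := Groth.Agent.Helper6.NT.negfun4 T h2 u1 u2 u3 u5 (by norm_num) 1 1 1 1 (by norm_num) (by norm_num)
                                linarith only [key, tap_1_2, taq_1_2, tap_1_3, taq_1_3, z_1_5, z_2_3, tap_2_5, taq_2_5, lbp_3_5, lbq_3_5, T.w_pos u1, T.w_pos u2, T.w_pos u3, T.w_pos u5]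
                            · -- (2,5) Dp
                              exfalso
                              have key := Groth.Agent.Helper6.NT.negfun4 T h2 u1 u2 u4 u5 (by norm_num) 1 2 1 1 (by norm_num) (by norm_num)
                              linarith only [key, tap_1_2, taq_1_2, z_1_4, z_1_5, tap_2_4, taq_2_4, tap_2_5, taq_2_5, T.offDiag_nonneg u4 u5 hn_5_4.symm, T.w_pos u1, T.w_pos u2, T.w_pos u4, T.w_pos u5]
                            · -- (2,5) Dm
                              exfalso
                              have key := Groth.Agent.Helper6.NT.negfun4 T h2 u1 u2 u4 u5 (by norm_num) 1 2 1 2 (by norm_num) (by norm_num)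
                              linarith only [key, tap_1_2, taq_1_2, z_1_4, z_1_5, tap_2_4, taq_2_4, tap_2_5, taq_2_5, T.offDiag_nonneg u4 u5 hn_5_4.symm, T.w_pos u1, T.w_pos u2, T.w_pos u4, T.w_pos u5]
                            · -- (2,5) Tp
                              exfalso
                              have key := Groth.Agent.Helper6.NT.negfun3 T h2 u2 u4 u5 (by norm_num) 2 1 1 (by norm_num) (by norm_num)
                              linarith only [key, tap_2_4, taq_2_4, tap_2_5, taq_2_5, T.offDiag_nonneg u4 u5 hn_5_4.symm, T.w_pos u2, T.w_pos u4, T.w_pos u5]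
                            · -- (2,5) Tm
                              exfalso
                              have key := Groth.Agent.Helper6.NT.negfun3 T h2 u2 u4 u5 (by norm_num) 2 1 3 (by norm_num) (by norm_num)
                              linarith only [key, tap_2_4, taq_2_4, tap_2_5, taq_2_5, T.offDiag_nonneg u4 u5 hn_5_4.symm, T.w_pos u2, T.w_pos u4, T.w_pos u5]
                          · push Not at hx
                            have cl_2 := hx
                            clear hx
                            by_cases hx : ∃ j, (j ≠ u0 ∧ j ≠ u1 ∧ j ≠ u2 ∧ j ≠ u3 ∧ j ≠ u4) ∧ T.a u3 j ≠ 0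
                            · obtain ⟨u5, ⟨hn_5_0, hn_5_1, hn_5_2, hn_5_3, hn_5_4⟩, e_3_5⟩ := hx
                              have z_0_5 : T.a u0 u5 = 0 := cl_0 u5 ⟨hn_5_0, hn_5_1⟩
                              have z_1_5 : T.a u1 u5 = 0 := cl_1 u5 ⟨hn_5_0, hn_5_1, hn_5_2, hn_5_3⟩
                              have z_2_5 : T.a u2 u5 = 0 := cl_2 u5 ⟨hn_5_0, hn_5_1, hn_5_2, hn_5_3, hn_5_4⟩
                              rcases Groth.Agent.Helper6.NT.edge5 T h2 (by norm_num) u3 u5 hn_5_3.symm e_3_5 with ⟨tw_3_5, tap_3_5, taq_3_5⟩ | ⟨tw_3_5, tap_3_5, taq_3_5⟩ | ⟨tw_3_5, tap_3_5, taq_3_5⟩ | ⟨tw_3_5, tap_3_5, taq_3_5⟩ | ⟨tw_3_5, tap_3_5, taq_3_5⟩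
                              · -- (3,5) S
                                rcases eq_or_ne (T.a u4 u5) 0 with z_4_5 | nz_4_5
                                · -- (4,5) zero
                                  have hinj := Groth.Agent.Helper6.NT.inj6 u0 u1 u2 u3 u4 u5 hn_1_0 hn_2_0 hn_2_1 hn_3_0 hn_3_1 hn_3_2 hn_4_0 hn_4_1 hn_4_2 hn_4_3 hn_5_0 hn_5_1 hn_5_2 hn_5_3 hn_5_4
                                  have r_0 : -2 * T.m u0 + 1 * T.m u1 = 0 := by
                                    have key := Groth.Agent.Helper6.NT.rowfun6 T u0 u1 u2 u3 u4 u5 hinj u0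
                                    rw [(h2 u0).2, tap_0_1, z_0_2, z_0_3, z_0_4, z_0_5] at key
                                    exact mul_left_cancel₀ (T.w_pos u0).ne' (by linarith only [key])
                                  have r_1 : 1 * T.m u0 + -2 * T.m u1 + 1 * T.m u2 + 1 * T.m u3 = 0 := by
                                    have key := Groth.Agent.Helper6.NT.rowfun6 T u0 u1 u2 u3 u4 u5 hinj u1
                                    rw [Groth.Agent.Helper6.NT.symm' T u1 u0, taq_0_1, (h2 u1).2, tap_1_2, tap_1_3, z_1_4, z_1_5] at key
                                    exact mul_left_cancel₀ (T.w_pos u1).ne' (by linarith only [key])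
                                  have r_2 : 1 * T.m u1 + -2 * T.m u2 + 1 * T.m u4 = 0 := by
                                    have key := Groth.Agent.Helper6.NT.rowfun6 T u0 u1 u2 u3 u4 u5 hinj u2
                                    rw [Groth.Agent.Helper6.NT.symm' T u2 u0, z_0_2, Groth.Agent.Helper6.NT.symm' T u2 u1, taq_1_2, (h2 u2).2, z_2_3, tap_2_4, z_2_5] at key
                                    exact mul_left_cancel₀ (T.w_pos u2).ne' (by linarith only [key])
                                  have r_3 : 1 * T.m u1 + -2 * T.m u3 + 1 * T.m u5 = 0 := by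
                                    have key := Groth.Agent.Helper6.NT.rowfun6 T u0 u1 u2 u3 u4 u5 hinj u3
                                    rw [Groth.Agent.Helper6.NT.symm' T u3 u0, z_0_3, Groth.Agent.Helper6.NT.symm' T u3 u1, taq_1_3, Groth.Agent.Helper6.NT.symm' T u3 u2, z_2_3, (h2 u3).2, z_3_4, tap_3_5] at key
                                    exact mul_left_cancel₀ (T.w_pos u3).ne' (by linarith only [key])
                                  have r_4 : 1 * T.m u2 + -2 * T.m u4 = 0 := by
                                    have key := Groth.Agent.Helper6.NT.rowfun6 T u0 u1 u2 u3 u4 u5 hinj u4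
                                    rw [Groth.Agent.Helper6.NT.symm' T u4 u0, z_0_4, Groth.Agent.Helper6.NT.symm' T u4 u1, z_1_4, Groth.Agent.Helper6.NT.symm' T u4 u2, taq_2_4, Groth.Agent.Helper6.NT.symm' T u4 u3, z_3_4, (h2 u4).2, z_4_5] at key
                                    exact mul_left_cancel₀ (T.w_pos u4).ne' (by linarith only [key])
                                  have r_5 : 1 * T.m u3 + -2 * T.m u5 = 0 := by
                                    have key := Groth.Agent.Helper6.NT.rowfun6 T u0 u1 u2 u3 u4 u5 hinj u5
                                    rw [Groth.Agent.Helper6.NT.symm' T u5 u0, z_0_5, Groth.Agent.Helper6.NT.symm' T u5 u1, z_1_5, Groth.Agent.Helper6.NT.symm' T u5 u2, z_2_5, Groth.Agent.Helper6.NT.symm' T u5 u3, taq_3_5, Groth.Agent.Helper6.NT.symm' T u5 u4, z_4_5, (h2 u5).2] at key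
                                    exact mul_left_cancel₀ (T.w_pos u5).ne' (by linarith only [key])
                                  exfalso
                                  linarith only [r_0, r_1, r_2, r_3, r_4, r_5, T.m_pos u0, T.m_pos u1, T.m_pos u2, T.m_pos u3, T.m_pos u4, T.m_pos u5]
                                · -- (4,5) nonzero
                                  obtain ⟨lbp_4_5, lbq_4_5⟩ := Groth.Agent.Helper6.NT.lb T u4 u5 hn_5_4.symm nz_4_5
                                  exfalso
                                  have key := Groth.Agent.Helper6.NT.negfun5 T h2 u1 u2 u3 u4 u5 (by norm_num) 1 1 1 1 1 (by norm_num) (by norm_num)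
                                  linarith only [key, tap_1_2, taq_1_2, tap_1_3, taq_1_3, z_1_4, z_1_5, z_2_3, tap_2_4, taq_2_4, z_2_5, z_3_4, tap_3_5, taq_3_5, lbp_4_5, lbq_4_5, T.w_pos u1, T.w_pos u2, T.w_pos u3, T.w_pos u4, T.w_pos u5]
                              · -- (3,5) Dp
                                exfalso
                                have key := Groth.Agent.Helper6.NT.negfun5 T h2 u0 u1 u2 u3 u5 (by norm_num) 1 2 1 2 1 (by norm_num) (by norm_num)
                                linarith only [key, tap_0_1, taq_0_1, z_0_2, z_0_3, z_0_5, tap_1_2, taq_1_2, tap_1_3, taq_1_3, z_1_5, z_2_3, z_2_5, tap_3_5, taq_3_5, T.w_pos u0, T.w_pos u1, T.w_pos u2, T.w_pos u3, T.w_pos u5]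
                              · -- (3,5) Dm
                                exfalso
                                have key := Groth.Agent.Helper6.NT.negfun5 T h2 u0 u1 u2 u3 u5 (by norm_num) 1 2 1 2 2 (by norm_num) (by norm_num)
                                linarith only [key, tap_0_1, taq_0_1, z_0_2, z_0_3, z_0_5, tap_1_2, taq_1_2, tap_1_3, taq_1_3, z_1_5, z_2_3, z_2_5, tap_3_5, taq_3_5, T.w_pos u0, T.w_pos u1, T.w_pos u2, T.w_pos u3, T.w_pos u5]
                              · -- (3,5) Tp
                                exfalso
                                have key := Groth.Agent.Helper6.NT.negfun3 T h2 u1 u3 u5 (by norm_num) 1 2 1 (by norm_num) (by norm_num)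
                                linarith only [key, tap_1_3, taq_1_3, z_1_5, tap_3_5, taq_3_5, T.w_pos u1, T.w_pos u3, T.w_pos u5]
                              · -- (3,5) Tm
                                exfalso
                                have key := Groth.Agent.Helper6.NT.negfun3 T h2 u1 u3 u5 (by norm_num) 1 2 3 (by norm_num) (by norm_num)
                                linarith only [key, tap_1_3, taq_1_3, z_1_5, tap_3_5, taq_3_5, T.w_pos u1, T.w_pos u3, T.w_pos u5]
                            · push Not at hx
                              have cl_3 := hx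
                              clear hx
                              by_cases hx : ∃ j, (j ≠ u0 ∧ j ≠ u1 ∧ j ≠ u2 ∧ j ≠ u3 ∧ j ≠ u4) ∧ T.a u4 j ≠ 0
                              · obtain ⟨u5, ⟨hn_5_0, hn_5_1, hn_5_2, hn_5_3, hn_5_4⟩, e_4_5⟩ := hx
                                have z_0_5 : T.a u0 u5 = 0 := cl_0 u5 ⟨hn_5_0, hn_5_1⟩
                                have z_1_5 : T.a u1 u5 = 0 := cl_1 u5 ⟨hn_5_0, hn_5_1, hn_5_2, hn_5_3⟩
                                have z_2_5 : T.a u2 u5 = 0 := cl_2 u5 ⟨hn_5_0, hn_5_1, hn_5_2, hn_5_3, hn_5_4⟩
                                have z_3_5 : T.a u3 u5 = 0 := cl_3 u5 ⟨hn_5_0, hn_5_1, hn_5_2, hn_5_3, hn_5_4⟩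
                                rcases Groth.Agent.Helper6.NT.edge5 T h2 (by norm_num) u4 u5 hn_5_4.symm e_4_5 with ⟨tw_4_5, tap_4_5, taq_4_5⟩ | ⟨tw_4_5, tap_4_5, taq_4_5⟩ | ⟨tw_4_5, tap_4_5, taq_4_5⟩ | ⟨tw_4_5, tap_4_5, taq_4_5⟩ | ⟨tw_4_5, tap_4_5, taq_4_5⟩
                                · -- (4,5) S
                                  have hinj := Groth.Agent.Helper6.NT.inj6 u0 u1 u2 u3 u4 u5 hn_1_0 hn_2_0 hn_2_1 hn_3_0 hn_3_1 hn_3_2 hn_4_0 hn_4_1 hn_4_2 hn_4_3 hn_5_0 hn_5_1 hn_5_2 hn_5_3 hn_5_4
                                  have r_0 : -2 * T.m u0 + 1 * T.m u1 = 0 := by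
                                    have key := Groth.Agent.Helper6.NT.rowfun6 T u0 u1 u2 u3 u4 u5 hinj u0
                                    rw [(h2 u0).2, tap_0_1, z_0_2, z_0_3, z_0_4, z_0_5] at key
                                    exact mul_left_cancel₀ (T.w_pos u0).ne' (by linarith only [key])
                                  have r_1 : 1 * T.m u0 + -2 * T.m u1 + 1 * T.m u2 + 1 * T.m u3 = 0 := by
                                    have key := Groth.Agent.Helper6.NT.rowfun6 T u0 u1 u2 u3 u4 u5 hinj u1
                                    rw [Groth.Agent.Helper6.NT.symm' T u1 u0, taq_0_1, (h2 u1).2, tap_1_2, tap_1_3, z_1_4, z_1_5] at key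
                                    exact mul_left_cancel₀ (T.w_pos u1).ne' (by linarith only [key])
                                  have r_2 : 1 * T.m u1 + -2 * T.m u2 + 1 * T.m u4 = 0 := by
                                    have key := Groth.Agent.Helper6.NT.rowfun6 T u0 u1 u2 u3 u4 u5 hinj u2
                                    rw [Groth.Agent.Helper6.NT.symm' T u2 u0, z_0_2, Groth.Agent.Helper6.NT.symm' T u2 u1, taq_1_2, (h2 u2).2, z_2_3, tap_2_4, z_2_5] at key
                                    exact mul_left_cancel₀ (T.w_pos u2).ne' (by linarith only [key])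
                                  have r_3 : 1 * T.m u1 + -2 * T.m u3 = 0 := by
                                    have key := Groth.Agent.Helper6.NT.rowfun6 T u0 u1 u2 u3 u4 u5 hinj u3
                                    rw [Groth.Agent.Helper6.NT.symm' T u3 u0, z_0_3, Groth.Agent.Helper6.NT.symm' T u3 u1, taq_1_3, Groth.Agent.Helper6.NT.symm' T u3 u2, z_2_3, (h2 u3).2, z_3_4, z_3_5] at key
                                    exact mul_left_cancel₀ (T.w_pos u3).ne' (by linarith only [key])
                                  have r_4 : 1 * T.m u2 + -2 * T.m u4 + 1 * T.m u5 = 0 := by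
                                    have key := Groth.Agent.Helper6.NT.rowfun6 T u0 u1 u2 u3 u4 u5 hinj u4
                                    rw [Groth.Agent.Helper6.NT.symm' T u4 u0, z_0_4, Groth.Agent.Helper6.NT.symm' T u4 u1, z_1_4, Groth.Agent.Helper6.NT.symm' T u4 u2, taq_2_4, Groth.Agent.Helper6.NT.symm' T u4 u3, z_3_4, (h2 u4).2, tap_4_5] at key
                                    exact mul_left_cancel₀ (T.w_pos u4).ne' (by linarith only [key])
                                  have r_5 : 1 * T.m u4 + -2 * T.m u5 = 0 := by
                                    have key := Groth.Agent.Helper6.NT.rowfun6 T u0 u1 u2 u3 u4 u5 hinj u5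
                                    rw [Groth.Agent.Helper6.NT.symm' T u5 u0, z_0_5, Groth.Agent.Helper6.NT.symm' T u5 u1, z_1_5, Groth.Agent.Helper6.NT.symm' T u5 u2, z_2_5, Groth.Agent.Helper6.NT.symm' T u5 u3, z_3_5, Groth.Agent.Helper6.NT.symm' T u5 u4, taq_4_5, (h2 u5).2] at key
                                    exact mul_left_cancel₀ (T.w_pos u5).ne' (by linarith only [key])
                                  exfalso
                                  linarith only [r_0, r_1, r_2, r_3, r_4, r_5, T.m_pos u0, T.m_pos u1, T.m_pos u2, T.m_pos u3, T.m_pos u4, T.m_pos u5]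
                                · -- (4,5) Dp
                                  have hinj := Groth.Agent.Helper6.NT.inj6 u0 u1 u2 u3 u4 u5 hn_1_0 hn_2_0 hn_2_1 hn_3_0 hn_3_1 hn_3_2 hn_4_0 hn_4_1 hn_4_2 hn_4_3 hn_5_0 hn_5_1 hn_5_2 hn_5_3 hn_5_4
                                  have r_0 : -2 * T.m u0 + 1 * T.m u1 = 0 := by
                                    have key := Groth.Agent.Helper6.NT.rowfun6 T u0 u1 u2 u3 u4 u5 hinj u0
                                    rw [(h2 u0).2, tap_0_1, z_0_2, z_0_3, z_0_4, z_0_5] at key
                                    exact mul_left_cancel₀ (T.w_pos u0).ne' (by linarith only [key])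
                                  have r_1 : 1 * T.m u0 + -2 * T.m u1 + 1 * T.m u2 + 1 * T.m u3 = 0 := by
                                    have key := Groth.Agent.Helper6.NT.rowfun6 T u0 u1 u2 u3 u4 u5 hinj u1
                                    rw [Groth.Agent.Helper6.NT.symm' T u1 u0, taq_0_1, (h2 u1).2, tap_1_2, tap_1_3, z_1_4, z_1_5] at key
                                    exact mul_left_cancel₀ (T.w_pos u1).ne' (by linarith only [key])
                                  have r_2 : 1 * T.m u1 + -2 * T.m u2 + 1 * T.m u4 = 0 := by
                                    have key := Groth.Agent.Helper6.NT.rowfun6 T u0 u1 u2 u3 u4 u5 hinj u2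
                                    rw [Groth.Agent.Helper6.NT.symm' T u2 u0, z_0_2, Groth.Agent.Helper6.NT.symm' T u2 u1, taq_1_2, (h2 u2).2, z_2_3, tap_2_4, z_2_5] at key
                                    exact mul_left_cancel₀ (T.w_pos u2).ne' (by linarith only [key])
                                  have r_3 : 1 * T.m u1 + -2 * T.m u3 = 0 := by
                                    have key := Groth.Agent.Helper6.NT.rowfun6 T u0 u1 u2 u3 u4 u5 hinj u3
                                    rw [Groth.Agent.Helper6.NT.symm' T u3 u0, z_0_3, Groth.Agent.Helper6.NT.symm' T u3 u1, taq_1_3, Groth.Agent.Helper6.NT.symm' T u3 u2, z_2_3, (h2 u3).2, z_3_4, z_3_5] at key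
                                    exact mul_left_cancel₀ (T.w_pos u3).ne' (by linarith only [key])
                                  have r_4 : 1 * T.m u2 + -2 * T.m u4 + 2 * T.m u5 = 0 := by
                                    have key := Groth.Agent.Helper6.NT.rowfun6 T u0 u1 u2 u3 u4 u5 hinj u4
                                    rw [Groth.Agent.Helper6.NT.symm' T u4 u0, z_0_4, Groth.Agent.Helper6.NT.symm' T u4 u1, z_1_4, Groth.Agent.Helper6.NT.symm' T u4 u2, taq_2_4, Groth.Agent.Helper6.NT.symm' T u4 u3, z_3_4, (h2 u4).2, tap_4_5] at key
                                    exact mul_left_cancel₀ (T.w_pos u4).ne' (by linarith only [key])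
                                  have r_5 : 1 * T.m u4 + -2 * T.m u5 = 0 := by
                                    have key := Groth.Agent.Helper6.NT.rowfun6 T u0 u1 u2 u3 u4 u5 hinj u5
                                    rw [Groth.Agent.Helper6.NT.symm' T u5 u0, z_0_5, Groth.Agent.Helper6.NT.symm' T u5 u1, z_1_5, Groth.Agent.Helper6.NT.symm' T u5 u2, z_2_5, Groth.Agent.Helper6.NT.symm' T u5 u3, z_3_5, Groth.Agent.Helper6.NT.symm' T u5 u4, taq_4_5, (h2 u5).2] at key
                                    exact mul_left_cancel₀ (T.w_pos u5).ne' (by linarith only [key])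
                                  have f0 : T.m u5 = T.m u5 := rfl
                                  have f1 : T.m u4 = 2 * T.m u5 := by linarith only [r_0, r_1, r_2, r_3, r_4, r_5]
                                  have f2 : T.m u2 = 2 * T.m u5 := by linarith only [r_0, r_1, r_2, r_3, r_4, r_5]
                                  have f3 : T.m u1 = 2 * T.m u5 := by linarith only [r_0, r_1, r_2, r_3, r_4, r_5]
                                  have f4 : T.m u0 = T.m u5 := by linarith only [r_0, r_1, r_2, r_3, r_4, r_5]
                                  have f5 : T.m u3 = T.m u5 := by linarith only [r_0, r_1, r_2, r_3, r_4, r_5]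
                                  have f6 : T.w u5 = 2 * T.w u4 := by linarith only [tw_0_1, tw_1_2, tw_1_3, tw_2_4, tw_4_5]
                                  have f7 : T.w u4 = T.w u4 := rfl
                                  have f8 : T.w u2 = T.w u4 := by linarith only [tw_0_1, tw_1_2, tw_1_3, tw_2_4, tw_4_5]
                                  have f9 : T.w u1 = T.w u4 := by linarith only [tw_0_1, tw_1_2, tw_1_3, tw_2_4, tw_4_5]
                                  have f10 : T.w u0 = T.w u4 := by linarith only [tw_0_1, tw_1_2, tw_1_3, tw_2_4, tw_4_5]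
                                  have f11 : T.w u3 = T.w u4 := by linarith only [tw_0_1, tw_1_2, tw_1_3, tw_2_4, tw_4_5]
                                  have f12 : T.a u5 u5 = -4 * T.w u4 := by have := (h2 u5).2; linarith only [this, tw_0_1, tw_1_2, tw_1_3, tw_2_4, tw_4_5]
                                  have f13 : T.a u5 u4 = 2 * T.w u4 := by rw [Groth.Agent.Helper6.NT.symm' T u5 u4]; linarith only [tap_4_5, tw_0_1, tw_1_2, tw_1_3, tw_2_4, tw_4_5]
                                  have f14 : T.a u5 u2 = 0 := by rw [Groth.Agent.Helper6.NT.symm' T u5 u2]; exact z_2_5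
                                  have f15 : T.a u5 u1 = 0 := by rw [Groth.Agent.Helper6.NT.symm' T u5 u1]; exact z_1_5
                                  have f16 : T.a u5 u0 = 0 := by rw [Groth.Agent.Helper6.NT.symm' T u5 u0]; exact z_0_5
                                  have f17 : T.a u5 u3 = 0 := by rw [Groth.Agent.Helper6.NT.symm' T u5 u3]; exact z_3_5
                                  have f18 : T.a u4 u4 = -2 * T.w u4 := by have := (h2 u4).2; linarith only [this, tw_0_1, tw_1_2, tw_1_3, tw_2_4, tw_4_5]
                                  have f19 : T.a u4 u2 = T.w u4 := by rw [Groth.Agent.Helper6.NT.symm' T u4 u2]; linarith only [tap_2_4, tw_0_1, tw_1_2, tw_1_3, tw_2_4, tw_4_5]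
                                  have f20 : T.a u4 u1 = 0 := by rw [Groth.Agent.Helper6.NT.symm' T u4 u1]; exact z_1_4
                                  have f21 : T.a u4 u0 = 0 := by rw [Groth.Agent.Helper6.NT.symm' T u4 u0]; exact z_0_4
                                  have f22 : T.a u4 u3 = 0 := by rw [Groth.Agent.Helper6.NT.symm' T u4 u3]; exact z_3_4
                                  have f23 : T.a u2 u2 = -2 * T.w u4 := by have := (h2 u2).2; linarith only [this, tw_0_1, tw_1_2, tw_1_3, tw_2_4, tw_4_5]
                                  have f24 : T.a u2 u1 = T.w u4 := by rw [Groth.Agent.Helper6.NT.symm' T u2 u1]; linarith only [tap_1_2, tw_0_1, tw_1_2, tw_1_3, tw_2_4, tw_4_5]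
                                  have f25 : T.a u2 u0 = 0 := by rw [Groth.Agent.Helper6.NT.symm' T u2 u0]; exact z_0_2
                                  have f26 : T.a u2 u3 = 0 := by exact z_2_3
                                  have f27 : T.a u1 u1 = -2 * T.w u4 := by have := (h2 u1).2; linarith only [this, tw_0_1, tw_1_2, tw_1_3, tw_2_4, tw_4_5]
                                  have f28 : T.a u1 u0 = T.w u4 := by rw [Groth.Agent.Helper6.NT.symm' T u1 u0]; linarith only [tap_0_1, tw_0_1, tw_1_2, tw_1_3, tw_2_4, tw_4_5]
                                  have f29 : T.a u1 u3 = T.w u4 := by linarith only [tap_1_3, tw_0_1, tw_1_2, tw_1_3, tw_2_4, tw_4_5]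
                                  have f30 : T.a u0 u0 = -2 * T.w u4 := by have := (h2 u0).2; linarith only [this, tw_0_1, tw_1_2, tw_1_3, tw_2_4, tw_4_5]
                                  have f31 : T.a u0 u3 = 0 := by exact z_0_3
                                  have f32 : T.a u3 u3 = -2 * T.w u4 := by have := (h2 u3).2; linarith only [this, tw_0_1, tw_1_2, tw_1_3, tw_2_4, tw_4_5]
                                  have hsig := Groth.Agent.Helper6.NT.inj6 u5 u4 u2 u1 u0 u3 hn_5_4.symm hn_5_2.symm hn_4_2.symm hn_5_1.symm hn_4_1.symm hn_2_1.symm hn_5_0.symm hn_4_0.symm hn_2_0.symm hn_1_0.symm hn_5_3.symm hn_4_3.symm hn_3_2 hn_3_1 hn_3_0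
                                  exact ⟨Equiv.ofBijective _ (Finite.injective_iff_bijective.1 hsig), T.m u5, T.w u4, Or.inr (Or.inr (Or.inr (Or.inr (Or.inl ⟨f0, f1, f2, f3, f4, f5, f6, f7, f8, f9, f10, f11, f12, f13, f14, f15, f16, f17, f18, f19, f20, f21, f22, f23, f24, f25, f26, f27, f28, f29, f30, f31, f32⟩))))⟩
                                · -- (4,5) Dm
                                  have hinj := Groth.Agent.Helper6.NT.inj6 u0 u1 u2 u3 u4 u5 hn_1_0 hn_2_0 hn_2_1 hn_3_0 hn_3_1 hn_3_2 hn_4_0 hn_4_1 hn_4_2 hn_4_3 hn_5_0 hn_5_1 hn_5_2 hn_5_3 hn_5_4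
                                  have r_0 : -2 * T.m u0 + 1 * T.m u1 = 0 := by
                                    have key := Groth.Agent.Helper6.NT.rowfun6 T u0 u1 u2 u3 u4 u5 hinj u0
                                    rw [(h2 u0).2, tap_0_1, z_0_2, z_0_3, z_0_4, z_0_5] at key
                                    exact mul_left_cancel₀ (T.w_pos u0).ne' (by linarith only [key])
                                  have r_1 : 1 * T.m u0 + -2 * T.m u1 + 1 * T.m u2 + 1 * T.m u3 = 0 := by
                                    have key := Groth.Agent.Helper6.NT.rowfun6 T u0 u1 u2 u3 u4 u5 hinj u1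
                                    rw [Groth.Agent.Helper6.NT.symm' T u1 u0, taq_0_1, (h2 u1).2, tap_1_2, tap_1_3, z_1_4, z_1_5] at key
                                    exact mul_left_cancel₀ (T.w_pos u1).ne' (by linarith only [key])
                                  have r_2 : 1 * T.m u1 + -2 * T.m u2 + 1 * T.m u4 = 0 := by
                                    have key := Groth.Agent.Helper6.NT.rowfun6 T u0 u1 u2 u3 u4 u5 hinj u2
                                    rw [Groth.Agent.Helper6.NT.symm' T u2 u0, z_0_2, Groth.Agent.Helper6.NT.symm' T u2 u1, taq_1_2, (h2 u2).2, z_2_3, tap_2_4, z_2_5] at key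
                                    exact mul_left_cancel₀ (T.w_pos u2).ne' (by linarith only [key])
                                  have r_3 : 1 * T.m u1 + -2 * T.m u3 = 0 := by
                                    have key := Groth.Agent.Helper6.NT.rowfun6 T u0 u1 u2 u3 u4 u5 hinj u3
                                    rw [Groth.Agent.Helper6.NT.symm' T u3 u0, z_0_3, Groth.Agent.Helper6.NT.symm' T u3 u1, taq_1_3, Groth.Agent.Helper6.NT.symm' T u3 u2, z_2_3, (h2 u3).2, z_3_4, z_3_5] at key
                                    exact mul_left_cancel₀ (T.w_pos u3).ne' (by linarith only [key])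
                                  have r_4 : 1 * T.m u2 + -2 * T.m u4 + 1 * T.m u5 = 0 := by
                                    have key := Groth.Agent.Helper6.NT.rowfun6 T u0 u1 u2 u3 u4 u5 hinj u4
                                    rw [Groth.Agent.Helper6.NT.symm' T u4 u0, z_0_4, Groth.Agent.Helper6.NT.symm' T u4 u1, z_1_4, Groth.Agent.Helper6.NT.symm' T u4 u2, taq_2_4, Groth.Agent.Helper6.NT.symm' T u4 u3, z_3_4, (h2 u4).2, tap_4_5] at key
                                    exact mul_left_cancel₀ (T.w_pos u4).ne' (by linarith only [key])
                                  have r_5 : 2 * T.m u4 + -2 * T.m u5 = 0 := by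
                                    have key := Groth.Agent.Helper6.NT.rowfun6 T u0 u1 u2 u3 u4 u5 hinj u5
                                    rw [Groth.Agent.Helper6.NT.symm' T u5 u0, z_0_5, Groth.Agent.Helper6.NT.symm' T u5 u1, z_1_5, Groth.Agent.Helper6.NT.symm' T u5 u2, z_2_5, Groth.Agent.Helper6.NT.symm' T u5 u3, z_3_5, Groth.Agent.Helper6.NT.symm' T u5 u4, taq_4_5, (h2 u5).2] at key
                                    exact mul_left_cancel₀ (T.w_pos u5).ne' (by linarith only [key])
                                  have f0 : T.m u5 = 2 * T.m u0 := by linarith only [r_0, r_1, r_2, r_3, r_4, r_5]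
                                  have f1 : T.m u4 = 2 * T.m u0 := by linarith only [r_0, r_1, r_2, r_3, r_4, r_5]
                                  have f2 : T.m u2 = 2 * T.m u0 := by linarith only [r_0, r_1, r_2, r_3, r_4, r_5]
                                  have f3 : T.m u1 = 2 * T.m u0 := by linarith only [r_0, r_1, r_2, r_3, r_4, r_5]
                                  have f4 : T.m u0 = T.m u0 := rfl
                                  have f5 : T.m u3 = T.m u0 := by linarith only [r_0, r_1, r_2, r_3, r_4, r_5]
                                  have f6 : T.w u5 = T.w u5 := rfl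
                                  have f7 : T.w u4 = 2 * T.w u5 := by linarith only [tw_0_1, tw_1_2, tw_1_3, tw_2_4, tw_4_5]
                                  have f8 : T.w u2 = 2 * T.w u5 := by linarith only [tw_0_1, tw_1_2, tw_1_3, tw_2_4, tw_4_5]
                                  have f9 : T.w u1 = 2 * T.w u5 := by linarith only [tw_0_1, tw_1_2, tw_1_3, tw_2_4, tw_4_5]
                                  have f10 : T.w u0 = 2 * T.w u5 := by linarith only [tw_0_1, tw_1_2, tw_1_3, tw_2_4, tw_4_5]
                                  have f11 : T.w u3 = 2 * T.w u5 := by linarith only [tw_0_1, tw_1_2, tw_1_3, tw_2_4, tw_4_5]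
                                  have f12 : T.a u5 u5 = -2 * T.w u5 := by have := (h2 u5).2; linarith only [this, tw_0_1, tw_1_2, tw_1_3, tw_2_4, tw_4_5]
                                  have f13 : T.a u5 u4 = 2 * T.w u5 := by rw [Groth.Agent.Helper6.NT.symm' T u5 u4]; linarith only [tap_4_5, tw_0_1, tw_1_2, tw_1_3, tw_2_4, tw_4_5]
                                  have f14 : T.a u5 u2 = 0 := by rw [Groth.Agent.Helper6.NT.symm' T u5 u2]; exact z_2_5
                                  have f15 : T.a u5 u1 = 0 := by rw [Groth.Agent.Helper6.NT.symm' T u5 u1]; exact z_1_5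
                                  have f16 : T.a u5 u0 = 0 := by rw [Groth.Agent.Helper6.NT.symm' T u5 u0]; exact z_0_5
                                  have f17 : T.a u5 u3 = 0 := by rw [Groth.Agent.Helper6.NT.symm' T u5 u3]; exact z_3_5
                                  have f18 : T.a u4 u4 = -4 * T.w u5 := by have := (h2 u4).2; linarith only [this, tw_0_1, tw_1_2, tw_1_3, tw_2_4, tw_4_5]
                                  have f19 : T.a u4 u2 = 2 * T.w u5 := by rw [Groth.Agent.Helper6.NT.symm' T u4 u2]; linarith only [tap_2_4, tw_0_1, tw_1_2, tw_1_3, tw_2_4, tw_4_5]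
                                  have f20 : T.a u4 u1 = 0 := by rw [Groth.Agent.Helper6.NT.symm' T u4 u1]; exact z_1_4
                                  have f21 : T.a u4 u0 = 0 := by rw [Groth.Agent.Helper6.NT.symm' T u4 u0]; exact z_0_4
                                  have f22 : T.a u4 u3 = 0 := by rw [Groth.Agent.Helper6.NT.symm' T u4 u3]; exact z_3_4
                                  have f23 : T.a u2 u2 = -4 * T.w u5 := by have := (h2 u2).2; linarith only [this, tw_0_1, tw_1_2, tw_1_3, tw_2_4, tw_4_5]
                                  have f24 : T.a u2 u1 = 2 * T.w u5 := by rw [Groth.Agent.Helper6.NT.symm' T u2 u1]; linarith only [tap_1_2, tw_0_1, tw_1_2, tw_1_3, tw_2_4, tw_4_5]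
                                  have f25 : T.a u2 u0 = 0 := by rw [Groth.Agent.Helper6.NT.symm' T u2 u0]; exact z_0_2
                                  have f26 : T.a u2 u3 = 0 := by exact z_2_3
                                  have f27 : T.a u1 u1 = -4 * T.w u5 := by have := (h2 u1).2; linarith only [this, tw_0_1, tw_1_2, tw_1_3, tw_2_4, tw_4_5]
                                  have f28 : T.a u1 u0 = 2 * T.w u5 := by rw [Groth.Agent.Helper6.NT.symm' T u1 u0]; linarith only [tap_0_1, tw_0_1, tw_1_2, tw_1_3, tw_2_4, tw_4_5]
                                  have f29 : T.a u1 u3 = 2 * T.w u5 := by linarith only [tap_1_3, tw_0_1, tw_1_2, tw_1_3, tw_2_4, tw_4_5]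
                                  have f30 : T.a u0 u0 = -4 * T.w u5 := by have := (h2 u0).2; linarith only [this, tw_0_1, tw_1_2, tw_1_3, tw_2_4, tw_4_5]
                                  have f31 : T.a u0 u3 = 0 := by exact z_0_3
                                  have f32 : T.a u3 u3 = -4 * T.w u5 := by have := (h2 u3).2; linarith only [this, tw_0_1, tw_1_2, tw_1_3, tw_2_4, tw_4_5]
                                  have hsig := Groth.Agent.Helper6.NT.inj6 u5 u4 u2 u1 u0 u3 hn_5_4.symm hn_5_2.symm hn_4_2.symm hn_5_1.symm hn_4_1.symm hn_2_1.symm hn_5_0.symm hn_4_0.symm hn_2_0.symm hn_1_0.symm hn_5_3.symm hn_4_3.symm hn_3_2 hn_3_1 hn_3_0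
                                  exact ⟨Equiv.ofBijective _ (Finite.injective_iff_bijective.1 hsig), T.m u0, T.w u5, Or.inr (Or.inr (Or.inr (Or.inr (Or.inr (Or.inl ⟨f0, f1, f2, f3, f4, f5, f6, f7, f8, f9, f10, f11, f12, f13, f14, f15, f16, f17, f18, f19, f20, f21, f22, f23, f24, f25, f26, f27, f28, f29, f30, f31, f32⟩)))))⟩
                                · -- (4,5) Tp
                                  exfalso
                                  have key := Groth.Agent.Helper6.NT.negfun3 T h2 u2 u4 u5 (by norm_num) 1 2 1 (by norm_num) (by norm_num)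
                                  linarith only [key, tap_2_4, taq_2_4, z_2_5, tap_4_5, taq_4_5, T.w_pos u2, T.w_pos u4, T.w_pos u5]
                                · -- (4,5) Tm
                                  exfalso
                                  have key := Groth.Agent.Helper6.NT.negfun3 T h2 u2 u4 u5 (by norm_num) 1 2 3 (by norm_num) (by norm_num)
                                  linarith only [key, tap_2_4, taq_2_4, z_2_5, tap_4_5, taq_4_5, T.w_pos u2, T.w_pos u4, T.w_pos u5]
                              · push Not at hx
                                have cl_4 := hx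
                                clear hx
                                exfalso
                                refine Groth.Agent.Helper6.NT.closed_contra T [u0, u1, u2, u3, u4] (by simp) (by simp) ?_
                                intro i hi j hj
                                simp only [List.mem_cons, List.not_mem_nil, or_false, not_or] at hi hj
                                rcases hi with rfl | rfl | rfl | rfl | rfl
                                · exact cl_0 j ⟨hj.1, hj.2.1⟩
                                · exact cl_1 j ⟨hj.1, hj.2.1, hj.2.2.1, hj.2.2.2.1⟩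
                                · exact cl_2 j ⟨hj.1, hj.2.1, hj.2.2.1, hj.2.2.2.1, hj.2.2.2.2⟩
                                · exact cl_3 j ⟨hj.1, hj.2.1, hj.2.2.1, hj.2.2.2.1, hj.2.2.2.2⟩
                                · exact cl_4 j ⟨hj.1, hj.2.1, hj.2.2.1, hj.2.2.2.1, hj.2.2.2.2⟩
                        · -- (3,4) nonzero
                          obtain ⟨lbp_3_4, lbq_3_4⟩ := Groth.Agent.Helper6.NT.lb T u3 u4 hn_4_3.symm nz_3_4
                          exfalso
                          have key := Groth.Agent.Helper6.NT.negfun4 T h2 u1 u2 u3 u4 (by norm_num) 1 1 1 1 (by norm_num) (by norm_num)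
                          linarith only [key, tap_1_2, taq_1_2, tap_1_3, taq_1_3, z_1_4, z_2_3, tap_2_4, taq_2_4, lbp_3_4, lbq_3_4, T.w_pos u1, T.w_pos u2, T.w_pos u3, T.w_pos u4]
                      · -- (2,4) Dp
                        exfalso
                        have key := Groth.Agent.Helper6.NT.negfun5 T h2 u0 u1 u2 u3 u4 (by norm_num) 1 2 2 1 1 (by norm_num) (by norm_num)
                        linarith only [key, tap_0_1, taq_0_1, z_0_2, z_0_3, z_0_4, tap_1_2, taq_1_2, tap_1_3, taq_1_3, z_1_4, z_2_3, tap_2_4, taq_2_4, T.offDiag_nonneg u3 u4 hn_4_3.symm, T.w_pos u0, T.w_pos u1, T.w_pos u2, T.w_pos u3, T.w_pos u4]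
                      · -- (2,4) Dm
                        exfalso
                        have key := Groth.Agent.Helper6.NT.negfun5 T h2 u0 u1 u2 u3 u4 (by norm_num) 1 2 2 1 2 (by norm_num) (by norm_num)
                        linarith only [key, tap_0_1, taq_0_1, z_0_2, z_0_3, z_0_4, tap_1_2, taq_1_2, tap_1_3, taq_1_3, z_1_4, z_2_3, tap_2_4, taq_2_4, T.offDiag_nonneg u3 u4 hn_4_3.symm, T.w_pos u0, T.w_pos u1, T.w_pos u2, T.w_pos u3, T.w_pos u4]
                      · -- (2,4) Tp
                        exfalso
                        have key := Groth.Agent.Helper6.NT.negfun3 T h2 u1 u2 u4 (by norm_num) 1 2 1 (by norm_num) (by norm_num)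
                        linarith only [key, tap_1_2, taq_1_2, z_1_4, tap_2_4, taq_2_4, T.w_pos u1, T.w_pos u2, T.w_pos u4]
                      · -- (2,4) Tm
                        exfalso
                        have key := Groth.Agent.Helper6.NT.negfun3 T h2 u1 u2 u4 (by norm_num) 1 2 3 (by norm_num) (by norm_num)
                        linarith only [key, tap_1_2, taq_1_2, z_1_4, tap_2_4, taq_2_4, T.w_pos u1, T.w_pos u2, T.w_pos u4]
                    · push Not at hx
                      have cl_2 := hx
                      clear hx
                      by_cases hx : ∃ j, (j ≠ u0 ∧ j ≠ u1 ∧ j ≠ u2 ∧ j ≠ u3) ∧ T.a u3 j ≠ 0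
                      · obtain ⟨u4, ⟨hn_4_0, hn_4_1, hn_4_2, hn_4_3⟩, e_3_4⟩ := hx
                        have z_0_4 : T.a u0 u4 = 0 := cl_0 u4 ⟨hn_4_0, hn_4_1⟩
                        have z_1_4 : T.a u1 u4 = 0 := cl_1 u4 ⟨hn_4_0, hn_4_1, hn_4_2, hn_4_3⟩
                        have z_2_4 : T.a u2 u4 = 0 := cl_2 u4 ⟨hn_4_0, hn_4_1, hn_4_2, hn_4_3⟩
                        rcases Groth.Agent.Helper6.NT.edge5 T h2 (by norm_num) u3 u4 hn_4_3.symm e_3_4 with ⟨tw_3_4, tap_3_4, taq_3_4⟩ | ⟨tw_3_4, tap_3_4, taq_3_4⟩ | ⟨tw_3_4, tap_3_4, taq_3_4⟩ | ⟨tw_3_4, tap_3_4, taq_3_4⟩ | ⟨tw_3_4, tap_3_4, taq_3_4⟩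
                        · -- (3,4) S
                          by_cases hx : ∃ j, (j ≠ u0 ∧ j ≠ u1 ∧ j ≠ u2 ∧ j ≠ u3 ∧ j ≠ u4) ∧ T.a u3 j ≠ 0
                          · obtain ⟨u5, ⟨hn_5_0, hn_5_1, hn_5_2, hn_5_3, hn_5_4⟩, e_3_5⟩ := hx
                            have z_0_5 : T.a u0 u5 = 0 := cl_0 u5 ⟨hn_5_0, hn_5_1⟩
                            have z_1_5 : T.a u1 u5 = 0 := cl_1 u5 ⟨hn_5_0, hn_5_1, hn_5_2, hn_5_3⟩
                            have z_2_5 : T.a u2 u5 = 0 := cl_2 u5 ⟨hn_5_0, hn_5_1, hn_5_2, hn_5_3⟩
                            rcases Groth.Agent.Helper6.NT.edge5 T h2 (by norm_num) u3 u5 hn_5_3.symm e_3_5 with ⟨tw_3_5, tap_3_5, taq_3_5⟩ | ⟨tw_3_5, tap_3_5, taq_3_5⟩ | ⟨tw_3_5, tap_3_5, taq_3_5⟩ | ⟨tw_3_5, tap_3_5, taq_3_5⟩ | ⟨tw_3_5, tap_3_5, taq_3_5⟩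
                            · -- (3,5) S
                              rcases eq_or_ne (T.a u4 u5) 0 with z_4_5 | nz_4_5
                              · -- (4,5) zero
                                have hinj := Groth.Agent.Helper6.NT.inj6 u0 u1 u2 u3 u4 u5 hn_1_0 hn_2_0 hn_2_1 hn_3_0 hn_3_1 hn_3_2 hn_4_0 hn_4_1 hn_4_2 hn_4_3 hn_5_0 hn_5_1 hn_5_2 hn_5_3 hn_5_4
                                have r_0 : -2 * T.m u0 + 1 * T.m u1 = 0 := by
                                  have key := Groth.Agent.Helper6.NT.rowfun6 T u0 u1 u2 u3 u4 u5 hinj u0
                                  rw [(h2 u0).2, tap_0_1, z_0_2, z_0_3, z_0_4, z_0_5] at key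
                                  exact mul_left_cancel₀ (T.w_pos u0).ne' (by linarith only [key])
                                have r_1 : 1 * T.m u0 + -2 * T.m u1 + 1 * T.m u2 + 1 * T.m u3 = 0 := by
                                  have key := Groth.Agent.Helper6.NT.rowfun6 T u0 u1 u2 u3 u4 u5 hinj u1
                                  rw [Groth.Agent.Helper6.NT.symm' T u1 u0, taq_0_1, (h2 u1).2, tap_1_2, tap_1_3, z_1_4, z_1_5] at key
                                  exact mul_left_cancel₀ (T.w_pos u1).ne' (by linarith only [key])
                                have r_2 : 1 * T.m u1 + -2 * T.m u2 = 0 := by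
                                  have key := Groth.Agent.Helper6.NT.rowfun6 T u0 u1 u2 u3 u4 u5 hinj u2
                                  rw [Groth.Agent.Helper6.NT.symm' T u2 u0, z_0_2, Groth.Agent.Helper6.NT.symm' T u2 u1, taq_1_2, (h2 u2).2, z_2_3, z_2_4, z_2_5] at key
                                  exact mul_left_cancel₀ (T.w_pos u2).ne' (by linarith only [key])
                                have r_3 : 1 * T.m u1 + -2 * T.m u3 + 1 * T.m u4 + 1 * T.m u5 = 0 := by
                                  have key := Groth.Agent.Helper6.NT.rowfun6 T u0 u1 u2 u3 u4 u5 hinj u3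
                                  rw [Groth.Agent.Helper6.NT.symm' T u3 u0, z_0_3, Groth.Agent.Helper6.NT.symm' T u3 u1, taq_1_3, Groth.Agent.Helper6.NT.symm' T u3 u2, z_2_3, (h2 u3).2, tap_3_4, tap_3_5] at key
                                  exact mul_left_cancel₀ (T.w_pos u3).ne' (by linarith only [key])
                                have r_4 : 1 * T.m u3 + -2 * T.m u4 = 0 := by
                                  have key := Groth.Agent.Helper6.NT.rowfun6 T u0 u1 u2 u3 u4 u5 hinj u4
                                  rw [Groth.Agent.Helper6.NT.symm' T u4 u0, z_0_4, Groth.Agent.Helper6.NT.symm' T u4 u1, z_1_4, Groth.Agent.Helper6.NT.symm' T u4 u2, z_2_4, Groth.Agent.Helper6.NT.symm' T u4 u3, taq_3_4, (h2 u4).2, z_4_5] at key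
                                  exact mul_left_cancel₀ (T.w_pos u4).ne' (by linarith only [key])
                                have r_5 : 1 * T.m u3 + -2 * T.m u5 = 0 := by
                                  have key := Groth.Agent.Helper6.NT.rowfun6 T u0 u1 u2 u3 u4 u5 hinj u5
                                  rw [Groth.Agent.Helper6.NT.symm' T u5 u0, z_0_5, Groth.Agent.Helper6.NT.symm' T u5 u1, z_1_5, Groth.Agent.Helper6.NT.symm' T u5 u2, z_2_5, Groth.Agent.Helper6.NT.symm' T u5 u3, taq_3_5, Groth.Agent.Helper6.NT.symm' T u5 u4, z_4_5, (h2 u5).2] at key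
                                  exact mul_left_cancel₀ (T.w_pos u5).ne' (by linarith only [key])
                                have f0 : T.m u0 = T.m u0 := rfl
                                have f1 : T.m u2 = T.m u0 := by linarith only [r_0, r_1, r_2, r_3, r_4, r_5]
                                have f2 : T.m u1 = 2 * T.m u0 := by linarith only [r_0, r_1, r_2, r_3, r_4, r_5]
                                have f3 : T.m u3 = 2 * T.m u0 := by linarith only [r_0, r_1, r_2, r_3, r_4, r_5]
                                have f4 : T.m u4 = T.m u0 := by linarith only [r_0, r_1, r_2, r_3, r_4, r_5]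
                                have f5 : T.m u5 = T.m u0 := by linarith only [r_0, r_1, r_2, r_3, r_4, r_5]
                                have f6 : T.w u0 = T.w u0 := rfl
                                have f7 : T.w u2 = T.w u0 := by linarith only [tw_0_1, tw_1_2, tw_1_3, tw_3_4, tw_3_5]
                                have f8 : T.w u1 = T.w u0 := by linarith only [tw_0_1, tw_1_2, tw_1_3, tw_3_4, tw_3_5]
                                have f9 : T.w u3 = T.w u0 := by linarith only [tw_0_1, tw_1_2, tw_1_3, tw_3_4, tw_3_5]
                                have f10 : T.w u4 = T.w u0 := by linarith only [tw_0_1, tw_1_2, tw_1_3, tw_3_4, tw_3_5]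
                                have f11 : T.w u5 = T.w u0 := by linarith only [tw_0_1, tw_1_2, tw_1_3, tw_3_4, tw_3_5]
                                have f12 : T.a u0 u0 = -2 * T.w u0 := by have := (h2 u0).2; linarith only [this, tw_0_1, tw_1_2, tw_1_3, tw_3_4, tw_3_5]
                                have f13 : T.a u0 u2 = 0 := by exact z_0_2
                                have f14 : T.a u0 u1 = T.w u0 := by linarith only [tap_0_1, tw_0_1, tw_1_2, tw_1_3, tw_3_4, tw_3_5]
                                have f15 : T.a u0 u3 = 0 := by exact z_0_3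
                                have f16 : T.a u0 u4 = 0 := by exact z_0_4
                                have f17 : T.a u0 u5 = 0 := by exact z_0_5
                                have f18 : T.a u2 u2 = -2 * T.w u0 := by have := (h2 u2).2; linarith only [this, tw_0_1, tw_1_2, tw_1_3, tw_3_4, tw_3_5]
                                have f19 : T.a u2 u1 = T.w u0 := by rw [Groth.Agent.Helper6.NT.symm' T u2 u1]; linarith only [tap_1_2, tw_0_1, tw_1_2, tw_1_3, tw_3_4, tw_3_5]
                                have f20 : T.a u2 u3 = 0 := by exact z_2_3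
                                have f21 : T.a u2 u4 = 0 := by exact z_2_4
                                have f22 : T.a u2 u5 = 0 := by exact z_2_5
                                have f23 : T.a u1 u1 = -2 * T.w u0 := by have := (h2 u1).2; linarith only [this, tw_0_1, tw_1_2, tw_1_3, tw_3_4, tw_3_5]
                                have f24 : T.a u1 u3 = T.w u0 := by linarith only [tap_1_3, tw_0_1, tw_1_2, tw_1_3, tw_3_4, tw_3_5]
                                have f25 : T.a u1 u4 = 0 := by exact z_1_4
                                have f26 : T.a u1 u5 = 0 := by exact z_1_5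
                                have f27 : T.a u3 u3 = -2 * T.w u0 := by have := (h2 u3).2; linarith only [this, tw_0_1, tw_1_2, tw_1_3, tw_3_4, tw_3_5]
                                have f28 : T.a u3 u4 = T.w u0 := by linarith only [tap_3_4, tw_0_1, tw_1_2, tw_1_3, tw_3_4, tw_3_5]
                                have f29 : T.a u3 u5 = T.w u0 := by linarith only [tap_3_5, tw_0_1, tw_1_2, tw_1_3, tw_3_4, tw_3_5]
                                have f30 : T.a u4 u4 = -2 * T.w u0 := by have := (h2 u4).2; linarith only [this, tw_0_1, tw_1_2, tw_1_3, tw_3_4, tw_3_5]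
                                have f31 : T.a u4 u5 = 0 := by exact z_4_5
                                have f32 : T.a u5 u5 = -2 * T.w u0 := by have := (h2 u5).2; linarith only [this, tw_0_1, tw_1_2, tw_1_3, tw_3_4, tw_3_5]
                                have hsig := Groth.Agent.Helper6.NT.inj6 u0 u2 u1 u3 u4 u5 hn_2_0 hn_1_0 hn_2_1.symm hn_3_0 hn_3_2 hn_3_1 hn_4_0 hn_4_2 hn_4_1 hn_4_3 hn_5_0 hn_5_2 hn_5_1 hn_5_3 hn_5_4
                                exact ⟨Equiv.ofBijective _ (Finite.injective_iff_bijective.1 hsig), T.m u0, T.w u0, Or.inr (Or.inr (Or.inr (Or.inr (Or.inr (Or.inr (⟨f0, f1, f2, f3, f4, f5, f6, f7, f8, f9, f10, f11, f12, f13, f14, f15, f16, f17, f18, f19, f20, f21, f22, f23, f24, f25, f26, f27, f28, f29, f30, f31, f32⟩))))))⟩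
                              · -- (4,5) nonzero
                                obtain ⟨lbp_4_5, lbq_4_5⟩ := Groth.Agent.Helper6.NT.lb T u4 u5 hn_5_4.symm nz_4_5
                                exfalso
                                have key := Groth.Agent.Helper6.NT.negfun3 T h2 u3 u4 u5 (by norm_num) 1 1 1 (by norm_num) (by norm_num)
                                linarith only [key, tap_3_4, taq_3_4, tap_3_5, taq_3_5, lbp_4_5, lbq_4_5, T.w_pos u3, T.w_pos u4, T.w_pos u5]
                            · -- (3,5) Dp
                              exfalso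
                              have key := Groth.Agent.Helper6.NT.negfun4 T h2 u1 u3 u4 u5 (by norm_num) 1 2 1 1 (by norm_num) (by norm_num)
                              linarith only [key, tap_1_3, taq_1_3, z_1_4, z_1_5, tap_3_4, taq_3_4, tap_3_5, taq_3_5, T.offDiag_nonneg u4 u5 hn_5_4.symm, T.w_pos u1, T.w_pos u3, T.w_pos u4, T.w_pos u5]
                            · -- (3,5) Dm
                              exfalso
                              have key := Groth.Agent.Helper6.NT.negfun4 T h2 u1 u3 u4 u5 (by norm_num) 1 2 1 2 (by norm_num) (by norm_num)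
                              linarith only [key, tap_1_3, taq_1_3, z_1_4, z_1_5, tap_3_4, taq_3_4, tap_3_5, taq_3_5, T.offDiag_nonneg u4 u5 hn_5_4.symm, T.w_pos u1, T.w_pos u3, T.w_pos u4, T.w_pos u5]
                            · -- (3,5) Tp
                              exfalso
                              have key := Groth.Agent.Helper6.NT.negfun3 T h2 u3 u4 u5 (by norm_num) 2 1 1 (by norm_num) (by norm_num)
                              linarith only [key, tap_3_4, taq_3_4, tap_3_5, taq_3_5, T.offDiag_nonneg u4 u5 hn_5_4.symm, T.w_pos u3, T.w_pos u4, T.w_pos u5]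
                            · -- (3,5) Tm
                              exfalso
                              have key := Groth.Agent.Helper6.NT.negfun3 T h2 u3 u4 u5 (by norm_num) 2 1 3 (by norm_num) (by norm_num)
                              linarith only [key, tap_3_4, taq_3_4, tap_3_5, taq_3_5, T.offDiag_nonneg u4 u5 hn_5_4.symm, T.w_pos u3, T.w_pos u4, T.w_pos u5]
                          · push Not at hx
                            have cl_3 := hx
                            clear hx
                            by_cases hx : ∃ j, (j ≠ u0 ∧ j ≠ u1 ∧ j ≠ u2 ∧ j ≠ u3 ∧ j ≠ u4) ∧ T.a u4 j ≠ 0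
                            · obtain ⟨u5, ⟨hn_5_0, hn_5_1, hn_5_2, hn_5_3, hn_5_4⟩, e_4_5⟩ := hx
                              have z_0_5 : T.a u0 u5 = 0 := cl_0 u5 ⟨hn_5_0, hn_5_1⟩
                              have z_1_5 : T.a u1 u5 = 0 := cl_1 u5 ⟨hn_5_0, hn_5_1, hn_5_2, hn_5_3⟩
                              have z_2_5 : T.a u2 u5 = 0 := cl_2 u5 ⟨hn_5_0, hn_5_1, hn_5_2, hn_5_3⟩
                              have z_3_5 : T.a u3 u5 = 0 := cl_3 u5 ⟨hn_5_0, hn_5_1, hn_5_2, hn_5_3, hn_5_4⟩
                              rcases Groth.Agent.Helper6.NT.edge5 T h2 (by norm_num) u4 u5 hn_5_4.symm e_4_5 with ⟨tw_4_5, tap_4_5, taq_4_5⟩ | ⟨tw_4_5, tap_4_5, taq_4_5⟩ | ⟨tw_4_5, tap_4_5, taq_4_5⟩ | ⟨tw_4_5, tap_4_5, taq_4_5⟩ | ⟨tw_4_5, tap_4_5, taq_4_5⟩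
                              · -- (4,5) S
                                have hinj := Groth.Agent.Helper6.NT.inj6 u0 u1 u2 u3 u4 u5 hn_1_0 hn_2_0 hn_2_1 hn_3_0 hn_3_1 hn_3_2 hn_4_0 hn_4_1 hn_4_2 hn_4_3 hn_5_0 hn_5_1 hn_5_2 hn_5_3 hn_5_4
                                have r_0 : -2 * T.m u0 + 1 * T.m u1 = 0 := by
                                  have key := Groth.Agent.Helper6.NT.rowfun6 T u0 u1 u2 u3 u4 u5 hinj u0
                                  rw [(h2 u0).2, tap_0_1, z_0_2, z_0_3, z_0_4, z_0_5] at key
                                  exact mul_left_cancel₀ (T.w_pos u0).ne' (by linarith only [key])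
                                have r_1 : 1 * T.m u0 + -2 * T.m u1 + 1 * T.m u2 + 1 * T.m u3 = 0 := by
                                  have key := Groth.Agent.Helper6.NT.rowfun6 T u0 u1 u2 u3 u4 u5 hinj u1
                                  rw [Groth.Agent.Helper6.NT.symm' T u1 u0, taq_0_1, (h2 u1).2, tap_1_2, tap_1_3, z_1_4, z_1_5] at key
                                  exact mul_left_cancel₀ (T.w_pos u1).ne' (by linarith only [key])
                                have r_2 : 1 * T.m u1 + -2 * T.m u2 = 0 := by
                                  have key := Groth.Agent.Helper6.NT.rowfun6 T u0 u1 u2 u3 u4 u5 hinj u2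
                                  rw [Groth.Agent.Helper6.NT.symm' T u2 u0, z_0_2, Groth.Agent.Helper6.NT.symm' T u2 u1, taq_1_2, (h2 u2).2, z_2_3, z_2_4, z_2_5] at key
                                  exact mul_left_cancel₀ (T.w_pos u2).ne' (by linarith only [key])
                                have r_3 : 1 * T.m u1 + -2 * T.m u3 + 1 * T.m u4 = 0 := by
                                  have key := Groth.Agent.Helper6.NT.rowfun6 T u0 u1 u2 u3 u4 u5 hinj u3
                                  rw [Groth.Agent.Helper6.NT.symm' T u3 u0, z_0_3, Groth.Agent.Helper6.NT.symm' T u3 u1, taq_1_3, Groth.Agent.Helper6.NT.symm' T u3 u2, z_2_3, (h2 u3).2, tap_3_4, z_3_5] at key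
                                  exact mul_left_cancel₀ (T.w_pos u3).ne' (by linarith only [key])
                                have r_4 : 1 * T.m u3 + -2 * T.m u4 + 1 * T.m u5 = 0 := by
                                  have key := Groth.Agent.Helper6.NT.rowfun6 T u0 u1 u2 u3 u4 u5 hinj u4
                                  rw [Groth.Agent.Helper6.NT.symm' T u4 u0, z_0_4, Groth.Agent.Helper6.NT.symm' T u4 u1, z_1_4, Groth.Agent.Helper6.NT.symm' T u4 u2, z_2_4, Groth.Agent.Helper6.NT.symm' T u4 u3, taq_3_4, (h2 u4).2, tap_4_5] at key
                                  exact mul_left_cancel₀ (T.w_pos u4).ne' (by linarith only [key])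
                                have r_5 : 1 * T.m u4 + -2 * T.m u5 = 0 := by
                                  have key := Groth.Agent.Helper6.NT.rowfun6 T u0 u1 u2 u3 u4 u5 hinj u5
                                  rw [Groth.Agent.Helper6.NT.symm' T u5 u0, z_0_5, Groth.Agent.Helper6.NT.symm' T u5 u1, z_1_5, Groth.Agent.Helper6.NT.symm' T u5 u2, z_2_5, Groth.Agent.Helper6.NT.symm' T u5 u3, z_3_5, Groth.Agent.Helper6.NT.symm' T u5 u4, taq_4_5, (h2 u5).2] at key
                                  exact mul_left_cancel₀ (T.w_pos u5).ne' (by linarith only [key])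
                                exfalso
                                linarith only [r_0, r_1, r_2, r_3, r_4, r_5, T.m_pos u0, T.m_pos u1, T.m_pos u2, T.m_pos u3, T.m_pos u4, T.m_pos u5]
                              · -- (4,5) Dp
                                have hinj := Groth.Agent.Helper6.NT.inj6 u0 u1 u2 u3 u4 u5 hn_1_0 hn_2_0 hn_2_1 hn_3_0 hn_3_1 hn_3_2 hn_4_0 hn_4_1 hn_4_2 hn_4_3 hn_5_0 hn_5_1 hn_5_2 hn_5_3 hn_5_4
                                have r_0 : -2 * T.m u0 + 1 * T.m u1 = 0 := by
                                  have key := Groth.Agent.Helper6.NT.rowfun6 T u0 u1 u2 u3 u4 u5 hinj u0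
                                  rw [(h2 u0).2, tap_0_1, z_0_2, z_0_3, z_0_4, z_0_5] at key
                                  exact mul_left_cancel₀ (T.w_pos u0).ne' (by linarith only [key])
                                have r_1 : 1 * T.m u0 + -2 * T.m u1 + 1 * T.m u2 + 1 * T.m u3 = 0 := by
                                  have key := Groth.Agent.Helper6.NT.rowfun6 T u0 u1 u2 u3 u4 u5 hinj u1
                                  rw [Groth.Agent.Helper6.NT.symm' T u1 u0, taq_0_1, (h2 u1).2, tap_1_2, tap_1_3, z_1_4, z_1_5] at key
                                  exact mul_left_cancel₀ (T.w_pos u1).ne' (by linarith only [key])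
                                have r_2 : 1 * T.m u1 + -2 * T.m u2 = 0 := by
                                  have key := Groth.Agent.Helper6.NT.rowfun6 T u0 u1 u2 u3 u4 u5 hinj u2
                                  rw [Groth.Agent.Helper6.NT.symm' T u2 u0, z_0_2, Groth.Agent.Helper6.NT.symm' T u2 u1, taq_1_2, (h2 u2).2, z_2_3, z_2_4, z_2_5] at key
                                  exact mul_left_cancel₀ (T.w_pos u2).ne' (by linarith only [key])
                                have r_3 : 1 * T.m u1 + -2 * T.m u3 + 1 * T.m u4 = 0 := by
                                  have key := Groth.Agent.Helper6.NT.rowfun6 T u0 u1 u2 u3 u4 u5 hinj u3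
                                  rw [Groth.Agent.Helper6.NT.symm' T u3 u0, z_0_3, Groth.Agent.Helper6.NT.symm' T u3 u1, taq_1_3, Groth.Agent.Helper6.NT.symm' T u3 u2, z_2_3, (h2 u3).2, tap_3_4, z_3_5] at key
                                  exact mul_left_cancel₀ (T.w_pos u3).ne' (by linarith only [key])
                                have r_4 : 1 * T.m u3 + -2 * T.m u4 + 2 * T.m u5 = 0 := by
                                  have key := Groth.Agent.Helper6.NT.rowfun6 T u0 u1 u2 u3 u4 u5 hinj u4
                                  rw [Groth.Agent.Helper6.NT.symm' T u4 u0, z_0_4, Groth.Agent.Helper6.NT.symm' T u4 u1, z_1_4, Groth.Agent.Helper6.NT.symm' T u4 u2, z_2_4, Groth.Agent.Helper6.NT.symm' T u4 u3, taq_3_4, (h2 u4).2, tap_4_5] at key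
                                  exact mul_left_cancel₀ (T.w_pos u4).ne' (by linarith only [key])
                                have r_5 : 1 * T.m u4 + -2 * T.m u5 = 0 := by
                                  have key := Groth.Agent.Helper6.NT.rowfun6 T u0 u1 u2 u3 u4 u5 hinj u5
                                  rw [Groth.Agent.Helper6.NT.symm' T u5 u0, z_0_5, Groth.Agent.Helper6.NT.symm' T u5 u1, z_1_5, Groth.Agent.Helper6.NT.symm' T u5 u2, z_2_5, Groth.Agent.Helper6.NT.symm' T u5 u3, z_3_5, Groth.Agent.Helper6.NT.symm' T u5 u4, taq_4_5, (h2 u5).2] at key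
                                  exact mul_left_cancel₀ (T.w_pos u5).ne' (by linarith only [key])
                                have f0 : T.m u5 = T.m u5 := rfl
                                have f1 : T.m u4 = 2 * T.m u5 := by linarith only [r_0, r_1, r_2, r_3, r_4, r_5]
                                have f2 : T.m u3 = 2 * T.m u5 := by linarith only [r_0, r_1, r_2, r_3, r_4, r_5]
                                have f3 : T.m u1 = 2 * T.m u5 := by linarith only [r_0, r_1, r_2, r_3, r_4, r_5]
                                have f4 : T.m u0 = T.m u5 := by linarith only [r_0, r_1, r_2, r_3, r_4, r_5]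
                                have f5 : T.m u2 = T.m u5 := by linarith only [r_0, r_1, r_2, r_3, r_4, r_5]
                                have f6 : T.w u5 = 2 * T.w u4 := by linarith only [tw_0_1, tw_1_2, tw_1_3, tw_3_4, tw_4_5]
                                have f7 : T.w u4 = T.w u4 := rfl
                                have f8 : T.w u3 = T.w u4 := by linarith only [tw_0_1, tw_1_2, tw_1_3, tw_3_4, tw_4_5]
                                have f9 : T.w u1 = T.w u4 := by linarith only [tw_0_1, tw_1_2, tw_1_3, tw_3_4, tw_4_5]
                                have f10 : T.w u0 = T.w u4 := by linarith only [tw_0_1, tw_1_2, tw_1_3, tw_3_4, tw_4_5]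
                                have f11 : T.w u2 = T.w u4 := by linarith only [tw_0_1, tw_1_2, tw_1_3, tw_3_4, tw_4_5]
                                have f12 : T.a u5 u5 = -4 * T.w u4 := by have := (h2 u5).2; linarith only [this, tw_0_1, tw_1_2, tw_1_3, tw_3_4, tw_4_5]
                                have f13 : T.a u5 u4 = 2 * T.w u4 := by rw [Groth.Agent.Helper6.NT.symm' T u5 u4]; linarith only [tap_4_5, tw_0_1, tw_1_2, tw_1_3, tw_3_4, tw_4_5]
                                have f14 : T.a u5 u3 = 0 := by rw [Groth.Agent.Helper6.NT.symm' T u5 u3]; exact z_3_5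
                                have f15 : T.a u5 u1 = 0 := by rw [Groth.Agent.Helper6.NT.symm' T u5 u1]; exact z_1_5
                                have f16 : T.a u5 u0 = 0 := by rw [Groth.Agent.Helper6.NT.symm' T u5 u0]; exact z_0_5
                                have f17 : T.a u5 u2 = 0 := by rw [Groth.Agent.Helper6.NT.symm' T u5 u2]; exact z_2_5
                                have f18 : T.a u4 u4 = -2 * T.w u4 := by have := (h2 u4).2; linarith only [this, tw_0_1, tw_1_2, tw_1_3, tw_3_4, tw_4_5]
                                have f19 : T.a u4 u3 = T.w u4 := by rw [Groth.Agent.Helper6.NT.symm' T u4 u3]; linarith only [tap_3_4, tw_0_1, tw_1_2, tw_1_3, tw_3_4, tw_4_5]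
                                have f20 : T.a u4 u1 = 0 := by rw [Groth.Agent.Helper6.NT.symm' T u4 u1]; exact z_1_4
                                have f21 : T.a u4 u0 = 0 := by rw [Groth.Agent.Helper6.NT.symm' T u4 u0]; exact z_0_4
                                have f22 : T.a u4 u2 = 0 := by rw [Groth.Agent.Helper6.NT.symm' T u4 u2]; exact z_2_4
                                have f23 : T.a u3 u3 = -2 * T.w u4 := by have := (h2 u3).2; linarith only [this, tw_0_1, tw_1_2, tw_1_3, tw_3_4, tw_4_5]
                                have f24 : T.a u3 u1 = T.w u4 := by rw [Groth.Agent.Helper6.NT.symm' T u3 u1]; linarith only [tap_1_3, tw_0_1, tw_1_2, tw_1_3, tw_3_4, tw_4_5]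
                                have f25 : T.a u3 u0 = 0 := by rw [Groth.Agent.Helper6.NT.symm' T u3 u0]; exact z_0_3
                                have f26 : T.a u3 u2 = 0 := by rw [Groth.Agent.Helper6.NT.symm' T u3 u2]; exact z_2_3
                                have f27 : T.a u1 u1 = -2 * T.w u4 := by have := (h2 u1).2; linarith only [this, tw_0_1, tw_1_2, tw_1_3, tw_3_4, tw_4_5]
                                have f28 : T.a u1 u0 = T.w u4 := by rw [Groth.Agent.Helper6.NT.symm' T u1 u0]; linarith only [tap_0_1, tw_0_1, tw_1_2, tw_1_3, tw_3_4, tw_4_5]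
                                have f29 : T.a u1 u2 = T.w u4 := by linarith only [tap_1_2, tw_0_1, tw_1_2, tw_1_3, tw_3_4, tw_4_5]
                                have f30 : T.a u0 u0 = -2 * T.w u4 := by have := (h2 u0).2; linarith only [this, tw_0_1, tw_1_2, tw_1_3, tw_3_4, tw_4_5]
                                have f31 : T.a u0 u2 = 0 := by exact z_0_2
                                have f32 : T.a u2 u2 = -2 * T.w u4 := by have := (h2 u2).2; linarith only [this, tw_0_1, tw_1_2, tw_1_3, tw_3_4, tw_4_5]
                                have hsig := Groth.Agent.Helper6.NT.inj6 u5 u4 u3 u1 u0 u2 hn_5_4.symm hn_5_3.symm hn_4_3.symm hn_5_1.symm hn_4_1.symm hn_3_1.symm hn_5_0.symm hn_4_0.symm hn_3_0.symm hn_1_0.symm hn_5_2.symm hn_4_2.symm hn_3_2.symm hn_2_1 hn_2_0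
                                exact ⟨Equiv.ofBijective _ (Finite.injective_iff_bijective.1 hsig), T.m u5, T.w u4, Or.inr (Or.inr (Or.inr (Or.inr (Or.inl ⟨f0, f1, f2, f3, f4, f5, f6, f7, f8, f9, f10, f11, f12, f13, f14, f15, f16, f17, f18, f19, f20, f21, f22, f23, f24, f25, f26, f27, f28, f29, f30, f31, f32⟩))))⟩
                              · -- (4,5) Dm
                                have hinj := Groth.Agent.Helper6.NT.inj6 u0 u1 u2 u3 u4 u5 hn_1_0 hn_2_0 hn_2_1 hn_3_0 hn_3_1 hn_3_2 hn_4_0 hn_4_1 hn_4_2 hn_4_3 hn_5_0 hn_5_1 hn_5_2 hn_5_3 hn_5_4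
                                have r_0 : -2 * T.m u0 + 1 * T.m u1 = 0 := by
                                  have key := Groth.Agent.Helper6.NT.rowfun6 T u0 u1 u2 u3 u4 u5 hinj u0
                                  rw [(h2 u0).2, tap_0_1, z_0_2, z_0_3, z_0_4, z_0_5] at key
                                  exact mul_left_cancel₀ (T.w_pos u0).ne' (by linarith only [key])
                                have r_1 : 1 * T.m u0 + -2 * T.m u1 + 1 * T.m u2 + 1 * T.m u3 = 0 := by
                                  have key := Groth.Agent.Helper6.NT.rowfun6 T u0 u1 u2 u3 u4 u5 hinj u1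
                                  rw [Groth.Agent.Helper6.NT.symm' T u1 u0, taq_0_1, (h2 u1).2, tap_1_2, tap_1_3, z_1_4, z_1_5] at key
                                  exact mul_left_cancel₀ (T.w_pos u1).ne' (by linarith only [key])
                                have r_2 : 1 * T.m u1 + -2 * T.m u2 = 0 := by
                                  have key := Groth.Agent.Helper6.NT.rowfun6 T u0 u1 u2 u3 u4 u5 hinj u2
                                  rw [Groth.Agent.Helper6.NT.symm' T u2 u0, z_0_2, Groth.Agent.Helper6.NT.symm' T u2 u1, taq_1_2, (h2 u2).2, z_2_3, z_2_4, z_2_5] at key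
                                  exact mul_left_cancel₀ (T.w_pos u2).ne' (by linarith only [key])
                                have r_3 : 1 * T.m u1 + -2 * T.m u3 + 1 * T.m u4 = 0 := by
                                  have key := Groth.Agent.Helper6.NT.rowfun6 T u0 u1 u2 u3 u4 u5 hinj u3
                                  rw [Groth.Agent.Helper6.NT.symm' T u3 u0, z_0_3, Groth.Agent.Helper6.NT.symm' T u3 u1, taq_1_3, Groth.Agent.Helper6.NT.symm' T u3 u2, z_2_3, (h2 u3).2, tap_3_4, z_3_5] at key
                                  exact mul_left_cancel₀ (T.w_pos u3).ne' (by linarith only [key])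
                                have r_4 : 1 * T.m u3 + -2 * T.m u4 + 1 * T.m u5 = 0 := by
                                  have key := Groth.Agent.Helper6.NT.rowfun6 T u0 u1 u2 u3 u4 u5 hinj u4
                                  rw [Groth.Agent.Helper6.NT.symm' T u4 u0, z_0_4, Groth.Agent.Helper6.NT.symm' T u4 u1, z_1_4, Groth.Agent.Helper6.NT.symm' T u4 u2, z_2_4, Groth.Agent.Helper6.NT.symm' T u4 u3, taq_3_4, (h2 u4).2, tap_4_5] at key
                                  exact mul_left_cancel₀ (T.w_pos u4).ne' (by linarith only [key])
                                have r_5 : 2 * T.m u4 + -2 * T.m u5 = 0 := by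
                                  have key := Groth.Agent.Helper6.NT.rowfun6 T u0 u1 u2 u3 u4 u5 hinj u5
                                  rw [Groth.Agent.Helper6.NT.symm' T u5 u0, z_0_5, Groth.Agent.Helper6.NT.symm' T u5 u1, z_1_5, Groth.Agent.Helper6.NT.symm' T u5 u2, z_2_5, Groth.Agent.Helper6.NT.symm' T u5 u3, z_3_5, Groth.Agent.Helper6.NT.symm' T u5 u4, taq_4_5, (h2 u5).2] at key
                                  exact mul_left_cancel₀ (T.w_pos u5).ne' (by linarith only [key])
                                have f0 : T.m u5 = 2 * T.m u0 := by linarith only [r_0, r_1, r_2, r_3, r_4, r_5]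
                                have f1 : T.m u4 = 2 * T.m u0 := by linarith only [r_0, r_1, r_2, r_3, r_4, r_5]
                                have f2 : T.m u3 = 2 * T.m u0 := by linarith only [r_0, r_1, r_2, r_3, r_4, r_5]
                                have f3 : T.m u1 = 2 * T.m u0 := by linarith only [r_0, r_1, r_2, r_3, r_4, r_5]
                                have f4 : T.m u0 = T.m u0 := rfl
                                have f5 : T.m u2 = T.m u0 := by linarith only [r_0, r_1, r_2, r_3, r_4, r_5]
                                have f6 : T.w u5 = T.w u5 := rfl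
                                have f7 : T.w u4 = 2 * T.w u5 := by linarith only [tw_0_1, tw_1_2, tw_1_3, tw_3_4, tw_4_5]
                                have f8 : T.w u3 = 2 * T.w u5 := by linarith only [tw_0_1, tw_1_2, tw_1_3, tw_3_4, tw_4_5]
                                have f9 : T.w u1 = 2 * T.w u5 := by linarith only [tw_0_1, tw_1_2, tw_1_3, tw_3_4, tw_4_5]
                                have f10 : T.w u0 = 2 * T.w u5 := by linarith only [tw_0_1, tw_1_2, tw_1_3, tw_3_4, tw_4_5]
                                have f11 : T.w u2 = 2 * T.w u5 := by linarith only [tw_0_1, tw_1_2, tw_1_3, tw_3_4, tw_4_5]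
                                have f12 : T.a u5 u5 = -2 * T.w u5 := by have := (h2 u5).2; linarith only [this, tw_0_1, tw_1_2, tw_1_3, tw_3_4, tw_4_5]
                                have f13 : T.a u5 u4 = 2 * T.w u5 := by rw [Groth.Agent.Helper6.NT.symm' T u5 u4]; linarith only [tap_4_5, tw_0_1, tw_1_2, tw_1_3, tw_3_4, tw_4_5]
                                have f14 : T.a u5 u3 = 0 := by rw [Groth.Agent.Helper6.NT.symm' T u5 u3]; exact z_3_5
                                have f15 : T.a u5 u1 = 0 := by rw [Groth.Agent.Helper6.NT.symm' T u5 u1]; exact z_1_5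
                                have f16 : T.a u5 u0 = 0 := by rw [Groth.Agent.Helper6.NT.symm' T u5 u0]; exact z_0_5
                                have f17 : T.a u5 u2 = 0 := by rw [Groth.Agent.Helper6.NT.symm' T u5 u2]; exact z_2_5
                                have f18 : T.a u4 u4 = -4 * T.w u5 := by have := (h2 u4).2; linarith only [this, tw_0_1, tw_1_2, tw_1_3, tw_3_4, tw_4_5]
                                have f19 : T.a u4 u3 = 2 * T.w u5 := by rw [Groth.Agent.Helper6.NT.symm' T u4 u3]; linarith only [tap_3_4, tw_0_1, tw_1_2, tw_1_3, tw_3_4, tw_4_5]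
                                have f20 : T.a u4 u1 = 0 := by rw [Groth.Agent.Helper6.NT.symm' T u4 u1]; exact z_1_4
                                have f21 : T.a u4 u0 = 0 := by rw [Groth.Agent.Helper6.NT.symm' T u4 u0]; exact z_0_4
                                have f22 : T.a u4 u2 = 0 := by rw [Groth.Agent.Helper6.NT.symm' T u4 u2]; exact z_2_4
                                have f23 : T.a u3 u3 = -4 * T.w u5 := by have := (h2 u3).2; linarith only [this, tw_0_1, tw_1_2, tw_1_3, tw_3_4, tw_4_5]
                                have f24 : T.a u3 u1 = 2 * T.w u5 := by rw [Groth.Agent.Helper6.NT.symm' T u3 u1]; linarith only [tap_1_3, tw_0_1, tw_1_2, tw_1_3, tw_3_4, tw_4_5]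
                                have f25 : T.a u3 u0 = 0 := by rw [Groth.Agent.Helper6.NT.symm' T u3 u0]; exact z_0_3
                                have f26 : T.a u3 u2 = 0 := by rw [Groth.Agent.Helper6.NT.symm' T u3 u2]; exact z_2_3
                                have f27 : T.a u1 u1 = -4 * T.w u5 := by have := (h2 u1).2; linarith only [this, tw_0_1, tw_1_2, tw_1_3, tw_3_4, tw_4_5]
                                have f28 : T.a u1 u0 = 2 * T.w u5 := by rw [Groth.Agent.Helper6.NT.symm' T u1 u0]; linarith only [tap_0_1, tw_0_1, tw_1_2, tw_1_3, tw_3_4, tw_4_5]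
                                have f29 : T.a u1 u2 = 2 * T.w u5 := by linarith only [tap_1_2, tw_0_1, tw_1_2, tw_1_3, tw_3_4, tw_4_5]
                                have f30 : T.a u0 u0 = -4 * T.w u5 := by have := (h2 u0).2; linarith only [this, tw_0_1, tw_1_2, tw_1_3, tw_3_4, tw_4_5]
                                have f31 : T.a u0 u2 = 0 := by exact z_0_2
                                have f32 : T.a u2 u2 = -4 * T.w u5 := by have := (h2 u2).2; linarith only [this, tw_0_1, tw_1_2, tw_1_3, tw_3_4, tw_4_5]
                                have hsig := Groth.Agent.Helper6.NT.inj6 u5 u4 u3 u1 u0 u2 hn_5_4.symm hn_5_3.symm hn_4_3.symm hn_5_1.symm hn_4_1.symm hn_3_1.symm hn_5_0.symm hn_4_0.symm hn_3_0.symm hn_1_0.symm hn_5_2.symm hn_4_2.symm hn_3_2.symm hn_2_1 hn_2_0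
                                exact ⟨Equiv.ofBijective _ (Finite.injective_iff_bijective.1 hsig), T.m u0, T.w u5, Or.inr (Or.inr (Or.inr (Or.inr (Or.inr (Or.inl ⟨f0, f1, f2, f3, f4, f5, f6, f7, f8, f9, f10, f11, f12, f13, f14, f15, f16, f17, f18, f19, f20, f21, f22, f23, f24, f25, f26, f27, f28, f29, f30, f31, f32⟩)))))⟩
                              · -- (4,5) Tp
                                exfalso
                                have key := Groth.Agent.Helper6.NT.negfun3 T h2 u3 u4 u5 (by norm_num) 1 2 1 (by norm_num) (by norm_num)
                                linarith only [key, tap_3_4, taq_3_4, z_3_5, tap_4_5, taq_4_5, T.w_pos u3, T.w_pos u4, T.w_pos u5]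
                              · -- (4,5) Tm
                                exfalso
                                have key := Groth.Agent.Helper6.NT.negfun3 T h2 u3 u4 u5 (by norm_num) 1 2 3 (by norm_num) (by norm_num)
                                linarith only [key, tap_3_4, taq_3_4, z_3_5, tap_4_5, taq_4_5, T.w_pos u3, T.w_pos u4, T.w_pos u5]
                            · push Not at hx
                              have cl_4 := hx
                              clear hx
                              exfalso
                              refine Groth.Agent.Helper6.NT.closed_contra T [u0, u1, u2, u3, u4] (by simp) (by simp) ?_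
                              intro i hi j hj
                              simp only [List.mem_cons, List.not_mem_nil, or_false, not_or] at hi hj
                              rcases hi with rfl | rfl | rfl | rfl | rfl
                              · exact cl_0 j ⟨hj.1, hj.2.1⟩
                              · exact cl_1 j ⟨hj.1, hj.2.1, hj.2.2.1, hj.2.2.2.1⟩
                              · exact cl_2 j ⟨hj.1, hj.2.1, hj.2.2.1, hj.2.2.2.1⟩
                              · exact cl_3 j ⟨hj.1, hj.2.1, hj.2.2.1, hj.2.2.2.1, hj.2.2.2.2⟩
                              · exact cl_4 j ⟨hj.1, hj.2.1, hj.2.2.1, hj.2.2.2.1, hj.2.2.2.2⟩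
                        · -- (3,4) Dp
                          exfalso
                          have key := Groth.Agent.Helper6.NT.negfun5 T h2 u0 u1 u2 u3 u4 (by norm_num) 1 2 1 2 1 (by norm_num) (by norm_num)
                          linarith only [key, tap_0_1, taq_0_1, z_0_2, z_0_3, z_0_4, tap_1_2, taq_1_2, tap_1_3, taq_1_3, z_1_4, z_2_3, z_2_4, tap_3_4, taq_3_4, T.w_pos u0, T.w_pos u1, T.w_pos u2, T.w_pos u3, T.w_pos u4]
                        · -- (3,4) Dm
                          exfalso
                          have key := Groth.Agent.Helper6.NT.negfun5 T h2 u0 u1 u2 u3 u4 (by norm_num) 1 2 1 2 2 (by norm_num) (by norm_num)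
                          linarith only [key, tap_0_1, taq_0_1, z_0_2, z_0_3, z_0_4, tap_1_2, taq_1_2, tap_1_3, taq_1_3, z_1_4, z_2_3, z_2_4, tap_3_4, taq_3_4, T.w_pos u0, T.w_pos u1, T.w_pos u2, T.w_pos u3, T.w_pos u4]
                        · -- (3,4) Tp
                          exfalso
                          have key := Groth.Agent.Helper6.NT.negfun3 T h2 u1 u3 u4 (by norm_num) 1 2 1 (by norm_num) (by norm_num)
                          linarith only [key, tap_1_3, taq_1_3, z_1_4, tap_3_4, taq_3_4, T.w_pos u1, T.w_pos u3, T.w_pos u4]
                        · -- (3,4) Tm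
                          exfalso
                          have key := Groth.Agent.Helper6.NT.negfun3 T h2 u1 u3 u4 (by norm_num) 1 2 3 (by norm_num) (by norm_num)
                          linarith only [key, tap_1_3, taq_1_3, z_1_4, tap_3_4, taq_3_4, T.w_pos u1, T.w_pos u3, T.w_pos u4]
                      · push Not at hx
                        have cl_3 := hx
                        clear hx
                        exfalso
                        refine Groth.Agent.Helper6.NT.closed_contra T [u0, u1, u2, u3] (by simp) (by simp) ?_
                        intro i hi j hj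
                        simp only [List.mem_cons, List.not_mem_nil, or_false, not_or] at hi hj
                        rcases hi with rfl | rfl | rfl | rfl
                        · exact cl_0 j ⟨hj.1, hj.2.1⟩
                        · exact cl_1 j ⟨hj.1, hj.2.1, hj.2.2.1, hj.2.2.2⟩
                        · exact cl_2 j ⟨hj.1, hj.2.1, hj.2.2.1, hj.2.2.2⟩
                        · exact cl_3 j ⟨hj.1, hj.2.1, hj.2.2.1, hj.2.2.2⟩
                · -- (2,3) nonzero
                  obtain ⟨lbp_2_3, lbq_2_3⟩ := Groth.Agent.Helper6.NT.lb T u2 u3 hn_3_2.symm nz_2_3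
                  exfalso
                  have key := Groth.Agent.Helper6.NT.negfun3 T h2 u1 u2 u3 (by norm_num) 1 1 1 (by norm_num) (by norm_num)
                  linarith only [key, tap_1_2, taq_1_2, tap_1_3, taq_1_3, lbp_2_3, lbq_2_3, T.w_pos u1, T.w_pos u2, T.w_pos u3]
              · -- (1,3) Dp
                exfalso
                have key := Groth.Agent.Helper6.NT.negfun4 T h2 u0 u1 u2 u3 (by norm_num) 1 2 1 1 (by norm_num) (by norm_num)
                linarith only [key, tap_0_1, taq_0_1, z_0_2, z_0_3, tap_1_2, taq_1_2, tap_1_3, taq_1_3, T.offDiag_nonneg u2 u3 hn_3_2.symm, T.w_pos u0, T.w_pos u1, T.w_pos u2, T.w_pos u3]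
              · -- (1,3) Dm
                exfalso
                have key := Groth.Agent.Helper6.NT.negfun4 T h2 u0 u1 u2 u3 (by norm_num) 1 2 1 2 (by norm_num) (by norm_num)
                linarith only [key, tap_0_1, taq_0_1, z_0_2, z_0_3, tap_1_2, taq_1_2, tap_1_3, taq_1_3, T.offDiag_nonneg u2 u3 hn_3_2.symm, T.w_pos u0, T.w_pos u1, T.w_pos u2, T.w_pos u3]
              · -- (1,3) Tp
                exfalso
                have key := Groth.Agent.Helper6.NT.negfun3 T h2 u1 u2 u3 (by norm_num) 2 1 1 (by norm_num) (by norm_num)
                linarith only [key, tap_1_2, taq_1_2, tap_1_3, taq_1_3, T.offDiag_nonneg u2 u3 hn_3_2.symm, T.w_pos u1, T.w_pos u2, T.w_pos u3]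
              · -- (1,3) Tm
                exfalso
                have key := Groth.Agent.Helper6.NT.negfun3 T h2 u1 u2 u3 (by norm_num) 2 1 3 (by norm_num) (by norm_num)
                linarith only [key, tap_1_2, taq_1_2, tap_1_3, taq_1_3, T.offDiag_nonneg u2 u3 hn_3_2.symm, T.w_pos u1, T.w_pos u2, T.w_pos u3]
            · push Not at hx
              have cl_1 := hx
              clear hx
              by_cases hx : ∃ j, (j ≠ u0 ∧ j ≠ u1 ∧ j ≠ u2) ∧ T.a u2 j ≠ 0
              · obtain ⟨u3, ⟨hn_3_0, hn_3_1, hn_3_2⟩, e_2_3⟩ := hx
                have z_0_3 : T.a u0 u3 = 0 := cl_0 u3 ⟨hn_3_0, hn_3_1⟩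
                have z_1_3 : T.a u1 u3 = 0 := cl_1 u3 ⟨hn_3_0, hn_3_1, hn_3_2⟩
                rcases Groth.Agent.Helper6.NT.edge5 T h2 (by norm_num) u2 u3 hn_3_2.symm e_2_3 with ⟨tw_2_3, tap_2_3, taq_2_3⟩ | ⟨tw_2_3, tap_2_3, taq_2_3⟩ | ⟨tw_2_3, tap_2_3, taq_2_3⟩ | ⟨tw_2_3, tap_2_3, taq_2_3⟩ | ⟨tw_2_3, tap_2_3, taq_2_3⟩
                · -- (2,3) S
                  by_cases hx : ∃ j, (j ≠ u0 ∧ j ≠ u1 ∧ j ≠ u2 ∧ j ≠ u3) ∧ T.a u2 j ≠ 0
                  · obtain ⟨u4, ⟨hn_4_0, hn_4_1, hn_4_2, hn_4_3⟩, e_2_4⟩ := hx
                    have z_0_4 : T.a u0 u4 = 0 := cl_0 u4 ⟨hn_4_0, hn_4_1⟩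
                    have z_1_4 : T.a u1 u4 = 0 := cl_1 u4 ⟨hn_4_0, hn_4_1, hn_4_2⟩
                    rcases Groth.Agent.Helper6.NT.edge5 T h2 (by norm_num) u2 u4 hn_4_2.symm e_2_4 with ⟨tw_2_4, tap_2_4, taq_2_4⟩ | ⟨tw_2_4, tap_2_4, taq_2_4⟩ | ⟨tw_2_4, tap_2_4, taq_2_4⟩ | ⟨tw_2_4, tap_2_4, taq_2_4⟩ | ⟨tw_2_4, tap_2_4, taq_2_4⟩
                    · -- (2,4) S
                      rcases eq_or_ne (T.a u3 u4) 0 with z_3_4 | nz_3_4
                      · -- (3,4) zero
                        by_cases hx : ∃ j, (j ≠ u0 ∧ j ≠ u1 ∧ j ≠ u2 ∧ j ≠ u3 ∧ j ≠ u4) ∧ T.a u2 j ≠ 0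
                        · obtain ⟨u5, ⟨hn_5_0, hn_5_1, hn_5_2, hn_5_3, hn_5_4⟩, e_2_5⟩ := hx
                          have z_0_5 : T.a u0 u5 = 0 := cl_0 u5 ⟨hn_5_0, hn_5_1⟩
                          have z_1_5 : T.a u1 u5 = 0 := cl_1 u5 ⟨hn_5_0, hn_5_1, hn_5_2⟩
                          rcases Groth.Agent.Helper6.NT.edge5 T h2 (by norm_num) u2 u5 hn_5_2.symm e_2_5 with ⟨tw_2_5, tap_2_5, taq_2_5⟩ | ⟨tw_2_5, tap_2_5, taq_2_5⟩ | ⟨tw_2_5, tap_2_5, taq_2_5⟩ | ⟨tw_2_5, tap_2_5, taq_2_5⟩ | ⟨tw_2_5, tap_2_5, taq_2_5⟩
                          · -- (2,5) S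
                            exfalso
                            have key := Groth.Agent.Helper6.NT.negfun5 T h2 u1 u2 u3 u4 u5 (by norm_num) 1 2 1 1 1 (by norm_num) (by norm_num)
                            linarith only [key, tap_1_2, taq_1_2, z_1_3, z_1_4, z_1_5, tap_2_3, taq_2_3, tap_2_4, taq_2_4, tap_2_5, taq_2_5, z_3_4, T.offDiag_nonneg u3 u5 hn_5_3.symm, T.offDiag_nonneg u4 u5 hn_5_4.symm, T.w_pos u1, T.w_pos u2, T.w_pos u3, T.w_pos u4, T.w_pos u5]
                          · -- (2,5) Dp
                            exfalso
                            have key := Groth.Agent.Helper6.NT.negfun4 T h2 u2 u3 u4 u5 (by norm_num) 2 1 1 1 (by norm_num) (by norm_num)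
                            linarith only [key, tap_2_3, taq_2_3, tap_2_4, taq_2_4, tap_2_5, taq_2_5, z_3_4, T.offDiag_nonneg u3 u5 hn_5_3.symm, T.offDiag_nonneg u4 u5 hn_5_4.symm, T.w_pos u2, T.w_pos u3, T.w_pos u4, T.w_pos u5]
                          · -- (2,5) Dm
                            exfalso
                            have key := Groth.Agent.Helper6.NT.negfun4 T h2 u2 u3 u4 u5 (by norm_num) 2 1 1 2 (by norm_num) (by norm_num)
                            linarith only [key, tap_2_3, taq_2_3, tap_2_4, taq_2_4, tap_2_5, taq_2_5, z_3_4, T.offDiag_nonneg u3 u5 hn_5_3.symm, T.offDiag_nonneg u4 u5 hn_5_4.symm, T.w_pos u2, T.w_pos u3, T.w_pos u4, T.w_pos u5]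
                          · -- (2,5) Tp
                            exfalso
                            have key := Groth.Agent.Helper6.NT.negfun3 T h2 u2 u4 u5 (by norm_num) 2 1 1 (by norm_num) (by norm_num)
                            linarith only [key, tap_2_4, taq_2_4, tap_2_5, taq_2_5, T.offDiag_nonneg u4 u5 hn_5_4.symm, T.w_pos u2, T.w_pos u4, T.w_pos u5]
                          · -- (2,5) Tm
                            exfalso
                            have key := Groth.Agent.Helper6.NT.negfun3 T h2 u2 u4 u5 (by norm_num) 2 1 3 (by norm_num) (by norm_num)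
                            linarith only [key, tap_2_4, taq_2_4, tap_2_5, taq_2_5, T.offDiag_nonneg u4 u5 hn_5_4.symm, T.w_pos u2, T.w_pos u4, T.w_pos u5]
                        · push Not at hx
                          have cl_2 := hx
                          clear hx
                          by_cases hx : ∃ j, (j ≠ u0 ∧ j ≠ u1 ∧ j ≠ u2 ∧ j ≠ u3 ∧ j ≠ u4) ∧ T.a u3 j ≠ 0
                          · obtain ⟨u5, ⟨hn_5_0, hn_5_1, hn_5_2, hn_5_3, hn_5_4⟩, e_3_5⟩ := hx
                            have z_0_5 : T.a u0 u5 = 0 := cl_0 u5 ⟨hn_5_0, hn_5_1⟩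
                            have z_1_5 : T.a u1 u5 = 0 := cl_1 u5 ⟨hn_5_0, hn_5_1, hn_5_2⟩
                            have z_2_5 : T.a u2 u5 = 0 := cl_2 u5 ⟨hn_5_0, hn_5_1, hn_5_2, hn_5_3, hn_5_4⟩
                            rcases Groth.Agent.Helper6.NT.edge5 T h2 (by norm_num) u3 u5 hn_5_3.symm e_3_5 with ⟨tw_3_5, tap_3_5, taq_3_5⟩ | ⟨tw_3_5, tap_3_5, taq_3_5⟩ | ⟨tw_3_5, tap_3_5, taq_3_5⟩ | ⟨tw_3_5, tap_3_5, taq_3_5⟩ | ⟨tw_3_5, tap_3_5, taq_3_5⟩
                            · -- (3,5) S
                              rcases eq_or_ne (T.a u4 u5) 0 with z_4_5 | nz_4_5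
                              · -- (4,5) zero
                                have hinj := Groth.Agent.Helper6.NT.inj6 u0 u1 u2 u3 u4 u5 hn_1_0 hn_2_0 hn_2_1 hn_3_0 hn_3_1 hn_3_2 hn_4_0 hn_4_1 hn_4_2 hn_4_3 hn_5_0 hn_5_1 hn_5_2 hn_5_3 hn_5_4
                                have r_0 : -2 * T.m u0 + 1 * T.m u1 = 0 := by
                                  have key := Groth.Agent.Helper6.NT.rowfun6 T u0 u1 u2 u3 u4 u5 hinj u0
                                  rw [(h2 u0).2, tap_0_1, z_0_2, z_0_3, z_0_4, z_0_5] at key
                                  exact mul_left_cancel₀ (T.w_pos u0).ne' (by linarith only [key])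
                                have r_1 : 1 * T.m u0 + -2 * T.m u1 + 1 * T.m u2 = 0 := by
                                  have key := Groth.Agent.Helper6.NT.rowfun6 T u0 u1 u2 u3 u4 u5 hinj u1
                                  rw [Groth.Agent.Helper6.NT.symm' T u1 u0, taq_0_1, (h2 u1).2, tap_1_2, z_1_3, z_1_4, z_1_5] at key
                                  exact mul_left_cancel₀ (T.w_pos u1).ne' (by linarith only [key])
                                have r_2 : 1 * T.m u1 + -2 * T.m u2 + 1 * T.m u3 + 1 * T.m u4 = 0 := by
                                  have key := Groth.Agent.Helper6.NT.rowfun6 T u0 u1 u2 u3 u4 u5 hinj u2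
                                  rw [Groth.Agent.Helper6.NT.symm' T u2 u0, z_0_2, Groth.Agent.Helper6.NT.symm' T u2 u1, taq_1_2, (h2 u2).2, tap_2_3, tap_2_4, z_2_5] at key
                                  exact mul_left_cancel₀ (T.w_pos u2).ne' (by linarith only [key])
                                have r_3 : 1 * T.m u2 + -2 * T.m u3 + 1 * T.m u5 = 0 := by
                                  have key := Groth.Agent.Helper6.NT.rowfun6 T u0 u1 u2 u3 u4 u5 hinj u3
                                  rw [Groth.Agent.Helper6.NT.symm' T u3 u0, z_0_3, Groth.Agent.Helper6.NT.symm' T u3 u1, z_1_3, Groth.Agent.Helper6.NT.symm' T u3 u2, taq_2_3, (h2 u3).2, z_3_4, tap_3_5] at key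
                                  exact mul_left_cancel₀ (T.w_pos u3).ne' (by linarith only [key])
                                have r_4 : 1 * T.m u2 + -2 * T.m u4 = 0 := by
                                  have key := Groth.Agent.Helper6.NT.rowfun6 T u0 u1 u2 u3 u4 u5 hinj u4
                                  rw [Groth.Agent.Helper6.NT.symm' T u4 u0, z_0_4, Groth.Agent.Helper6.NT.symm' T u4 u1, z_1_4, Groth.Agent.Helper6.NT.symm' T u4 u2, taq_2_4, Groth.Agent.Helper6.NT.symm' T u4 u3, z_3_4, (h2 u4).2, z_4_5] at key
                                  exact mul_left_cancel₀ (T.w_pos u4).ne' (by linarith only [key])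
                                have r_5 : 1 * T.m u3 + -2 * T.m u5 = 0 := by
                                  have key := Groth.Agent.Helper6.NT.rowfun6 T u0 u1 u2 u3 u4 u5 hinj u5
                                  rw [Groth.Agent.Helper6.NT.symm' T u5 u0, z_0_5, Groth.Agent.Helper6.NT.symm' T u5 u1, z_1_5, Groth.Agent.Helper6.NT.symm' T u5 u2, z_2_5, Groth.Agent.Helper6.NT.symm' T u5 u3, taq_3_5, Groth.Agent.Helper6.NT.symm' T u5 u4, z_4_5, (h2 u5).2] at key
                                  exact mul_left_cancel₀ (T.w_pos u5).ne' (by linarith only [key])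
                                exfalso
                                linarith only [r_0, r_1, r_2, r_3, r_4, r_5, T.m_pos u0, T.m_pos u1, T.m_pos u2, T.m_pos u3, T.m_pos u4, T.m_pos u5]
                              · -- (4,5) nonzero
                                obtain ⟨lbp_4_5, lbq_4_5⟩ := Groth.Agent.Helper6.NT.lb T u4 u5 hn_5_4.symm nz_4_5
                                exfalso
                                have key := Groth.Agent.Helper6.NT.negfun4 T h2 u2 u3 u4 u5 (by norm_num) 1 1 1 1 (by norm_num) (by norm_num)
                                linarith only [key, tap_2_3, taq_2_3, tap_2_4, taq_2_4, z_2_5, z_3_4, tap_3_5, taq_3_5, lbp_4_5, lbq_4_5, T.w_pos u2, T.w_pos u3, T.w_pos u4, T.w_pos u5]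
                            · -- (3,5) Dp
                              exfalso
                              have key := Groth.Agent.Helper6.NT.negfun5 T h2 u1 u2 u3 u4 u5 (by norm_num) 1 2 2 1 1 (by norm_num) (by norm_num)
                              linarith only [key, tap_1_2, taq_1_2, z_1_3, z_1_4, z_1_5, tap_2_3, taq_2_3, tap_2_4, taq_2_4, z_2_5, z_3_4, tap_3_5, taq_3_5, T.offDiag_nonneg u4 u5 hn_5_4.symm, T.w_pos u1, T.w_pos u2, T.w_pos u3, T.w_pos u4, T.w_pos u5]
                            · -- (3,5) Dm
                              exfalso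
                              have key := Groth.Agent.Helper6.NT.negfun5 T h2 u1 u2 u3 u4 u5 (by norm_num) 1 2 2 1 2 (by norm_num) (by norm_num)
                              linarith only [key, tap_1_2, taq_1_2, z_1_3, z_1_4, z_1_5, tap_2_3, taq_2_3, tap_2_4, taq_2_4, z_2_5, z_3_4, tap_3_5, taq_3_5, T.offDiag_nonneg u4 u5 hn_5_4.symm, T.w_pos u1, T.w_pos u2, T.w_pos u3, T.w_pos u4, T.w_pos u5]
                            · -- (3,5) Tp
                              exfalso
                              have key := Groth.Agent.Helper6.NT.negfun3 T h2 u2 u3 u5 (by norm_num) 1 2 1 (by norm_num) (by norm_num)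
                              linarith only [key, tap_2_3, taq_2_3, z_2_5, tap_3_5, taq_3_5, T.w_pos u2, T.w_pos u3, T.w_pos u5]
                            · -- (3,5) Tm
                              exfalso
                              have key := Groth.Agent.Helper6.NT.negfun3 T h2 u2 u3 u5 (by norm_num) 1 2 3 (by norm_num) (by norm_num)
                              linarith only [key, tap_2_3, taq_2_3, z_2_5, tap_3_5, taq_3_5, T.w_pos u2, T.w_pos u3, T.w_pos u5]
                          · push Not at hx
                            have cl_3 := hx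
                            clear hx
                            by_cases hx : ∃ j, (j ≠ u0 ∧ j ≠ u1 ∧ j ≠ u2 ∧ j ≠ u3 ∧ j ≠ u4) ∧ T.a u4 j ≠ 0
                            · obtain ⟨u5, ⟨hn_5_0, hn_5_1, hn_5_2, hn_5_3, hn_5_4⟩, e_4_5⟩ := hx
                              have z_0_5 : T.a u0 u5 = 0 := cl_0 u5 ⟨hn_5_0, hn_5_1⟩
                              have z_1_5 : T.a u1 u5 = 0 := cl_1 u5 ⟨hn_5_0, hn_5_1, hn_5_2⟩
                              have z_2_5 : T.a u2 u5 = 0 := cl_2 u5 ⟨hn_5_0, hn_5_1, hn_5_2, hn_5_3, hn_5_4⟩
                              have z_3_5 : T.a u3 u5 = 0 := cl_3 u5 ⟨hn_5_0, hn_5_1, hn_5_2, hn_5_3, hn_5_4⟩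
                              rcases Groth.Agent.Helper6.NT.edge5 T h2 (by norm_num) u4 u5 hn_5_4.symm e_4_5 with ⟨tw_4_5, tap_4_5, taq_4_5⟩ | ⟨tw_4_5, tap_4_5, taq_4_5⟩ | ⟨tw_4_5, tap_4_5, taq_4_5⟩ | ⟨tw_4_5, tap_4_5, taq_4_5⟩ | ⟨tw_4_5, tap_4_5, taq_4_5⟩
                              · -- (4,5) S
                                have hinj := Groth.Agent.Helper6.NT.inj6 u0 u1 u2 u3 u4 u5 hn_1_0 hn_2_0 hn_2_1 hn_3_0 hn_3_1 hn_3_2 hn_4_0 hn_4_1 hn_4_2 hn_4_3 hn_5_0 hn_5_1 hn_5_2 hn_5_3 hn_5_4
                                have r_0 : -2 * T.m u0 + 1 * T.m u1 = 0 := by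
                                  have key := Groth.Agent.Helper6.NT.rowfun6 T u0 u1 u2 u3 u4 u5 hinj u0
                                  rw [(h2 u0).2, tap_0_1, z_0_2, z_0_3, z_0_4, z_0_5] at key
                                  exact mul_left_cancel₀ (T.w_pos u0).ne' (by linarith only [key])
                                have r_1 : 1 * T.m u0 + -2 * T.m u1 + 1 * T.m u2 = 0 := by
                                  have key := Groth.Agent.Helper6.NT.rowfun6 T u0 u1 u2 u3 u4 u5 hinj u1
                                  rw [Groth.Agent.Helper6.NT.symm' T u1 u0, taq_0_1, (h2 u1).2, tap_1_2, z_1_3, z_1_4, z_1_5] at key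
                                  exact mul_left_cancel₀ (T.w_pos u1).ne' (by linarith only [key])
                                have r_2 : 1 * T.m u1 + -2 * T.m u2 + 1 * T.m u3 + 1 * T.m u4 = 0 := by
                                  have key := Groth.Agent.Helper6.NT.rowfun6 T u0 u1 u2 u3 u4 u5 hinj u2
                                  rw [Groth.Agent.Helper6.NT.symm' T u2 u0, z_0_2, Groth.Agent.Helper6.NT.symm' T u2 u1, taq_1_2, (h2 u2).2, tap_2_3, tap_2_4, z_2_5] at key
                                  exact mul_left_cancel₀ (T.w_pos u2).ne' (by linarith only [key])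
                                have r_3 : 1 * T.m u2 + -2 * T.m u3 = 0 := by
                                  have key := Groth.Agent.Helper6.NT.rowfun6 T u0 u1 u2 u3 u4 u5 hinj u3
                                  rw [Groth.Agent.Helper6.NT.symm' T u3 u0, z_0_3, Groth.Agent.Helper6.NT.symm' T u3 u1, z_1_3, Groth.Agent.Helper6.NT.symm' T u3 u2, taq_2_3, (h2 u3).2, z_3_4, z_3_5] at key
                                  exact mul_left_cancel₀ (T.w_pos u3).ne' (by linarith only [key])
                                have r_4 : 1 * T.m u2 + -2 * T.m u4 + 1 * T.m u5 = 0 := by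
                                  have key := Groth.Agent.Helper6.NT.rowfun6 T u0 u1 u2 u3 u4 u5 hinj u4
                                  rw [Groth.Agent.Helper6.NT.symm' T u4 u0, z_0_4, Groth.Agent.Helper6.NT.symm' T u4 u1, z_1_4, Groth.Agent.Helper6.NT.symm' T u4 u2, taq_2_4, Groth.Agent.Helper6.NT.symm' T u4 u3, z_3_4, (h2 u4).2, tap_4_5] at key
                                  exact mul_left_cancel₀ (T.w_pos u4).ne' (by linarith only [key])
                                have r_5 : 1 * T.m u4 + -2 * T.m u5 = 0 := by
                                  have key := Groth.Agent.Helper6.NT.rowfun6 T u0 u1 u2 u3 u4 u5 hinj u5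
                                  rw [Groth.Agent.Helper6.NT.symm' T u5 u0, z_0_5, Groth.Agent.Helper6.NT.symm' T u5 u1, z_1_5, Groth.Agent.Helper6.NT.symm' T u5 u2, z_2_5, Groth.Agent.Helper6.NT.symm' T u5 u3, z_3_5, Groth.Agent.Helper6.NT.symm' T u5 u4, taq_4_5, (h2 u5).2] at key
                                  exact mul_left_cancel₀ (T.w_pos u5).ne' (by linarith only [key])
                                exfalso
                                linarith only [r_0, r_1, r_2, r_3, r_4, r_5, T.m_pos u0, T.m_pos u1, T.m_pos u2, T.m_pos u3, T.m_pos u4, T.m_pos u5]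
                              · -- (4,5) Dp
                                exfalso
                                have key := Groth.Agent.Helper6.NT.negfun5 T h2 u1 u2 u3 u4 u5 (by norm_num) 1 2 1 2 1 (by norm_num) (by norm_num)
                                linarith only [key, tap_1_2, taq_1_2, z_1_3, z_1_4, z_1_5, tap_2_3, taq_2_3, tap_2_4, taq_2_4, z_2_5, z_3_4, z_3_5, tap_4_5, taq_4_5, T.w_pos u1, T.w_pos u2, T.w_pos u3, T.w_pos u4, T.w_pos u5]
                              · -- (4,5) Dm
                                exfalso
                                have key := Groth.Agent.Helper6.NT.negfun5 T h2 u1 u2 u3 u4 u5 (by norm_num) 1 2 1 2 2 (by norm_num) (by norm_num)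
                                linarith only [key, tap_1_2, taq_1_2, z_1_3, z_1_4, z_1_5, tap_2_3, taq_2_3, tap_2_4, taq_2_4, z_2_5, z_3_4, z_3_5, tap_4_5, taq_4_5, T.w_pos u1, T.w_pos u2, T.w_pos u3, T.w_pos u4, T.w_pos u5]
                              · -- (4,5) Tp
                                exfalso
                                have key := Groth.Agent.Helper6.NT.negfun3 T h2 u2 u4 u5 (by norm_num) 1 2 1 (by norm_num) (by norm_num)
                                linarith only [key, tap_2_4, taq_2_4, z_2_5, tap_4_5, taq_4_5, T.w_pos u2, T.w_pos u4, T.w_pos u5]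
                              · -- (4,5) Tm
                                exfalso
                                have key := Groth.Agent.Helper6.NT.negfun3 T h2 u2 u4 u5 (by norm_num) 1 2 3 (by norm_num) (by norm_num)
                                linarith only [key, tap_2_4, taq_2_4, z_2_5, tap_4_5, taq_4_5, T.w_pos u2, T.w_pos u4, T.w_pos u5]
                            · push Not at hx
                              have cl_4 := hx
                              clear hx
                              exfalso
                              refine Groth.Agent.Helper6.NT.closed_contra T [u0, u1, u2, u3, u4] (by simp) (by simp) ?_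
                              intro i hi j hj
                              simp only [List.mem_cons, List.not_mem_nil, or_false, not_or] at hi hj
                              rcases hi with rfl | rfl | rfl | rfl | rfl
                              · exact cl_0 j ⟨hj.1, hj.2.1⟩
                              · exact cl_1 j ⟨hj.1, hj.2.1, hj.2.2.1⟩
                              · exact cl_2 j ⟨hj.1, hj.2.1, hj.2.2.1, hj.2.2.2.1, hj.2.2.2.2⟩
                              · exact cl_3 j ⟨hj.1, hj.2.1, hj.2.2.1, hj.2.2.2.1, hj.2.2.2.2⟩
                              · exact cl_4 j ⟨hj.1, hj.2.1, hj.2.2.1, hj.2.2.2.1, hj.2.2.2.2⟩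
                      · -- (3,4) nonzero
                        obtain ⟨lbp_3_4, lbq_3_4⟩ := Groth.Agent.Helper6.NT.lb T u3 u4 hn_4_3.symm nz_3_4
                        exfalso
                        have key := Groth.Agent.Helper6.NT.negfun3 T h2 u2 u3 u4 (by norm_num) 1 1 1 (by norm_num) (by norm_num)
                        linarith only [key, tap_2_3, taq_2_3, tap_2_4, taq_2_4, lbp_3_4, lbq_3_4, T.w_pos u2, T.w_pos u3, T.w_pos u4]
                    · -- (2,4) Dp
                      exfalso
                      have key := Groth.Agent.Helper6.NT.negfun4 T h2 u1 u2 u3 u4 (by norm_num) 1 2 1 1 (by norm_num) (by norm_num)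
                      linarith only [key, tap_1_2, taq_1_2, z_1_3, z_1_4, tap_2_3, taq_2_3, tap_2_4, taq_2_4, T.offDiag_nonneg u3 u4 hn_4_3.symm, T.w_pos u1, T.w_pos u2, T.w_pos u3, T.w_pos u4]
                    · -- (2,4) Dm
                      exfalso
                      have key := Groth.Agent.Helper6.NT.negfun4 T h2 u1 u2 u3 u4 (by norm_num) 1 2 1 2 (by norm_num) (by norm_num)
                      linarith only [key, tap_1_2, taq_1_2, z_1_3, z_1_4, tap_2_3, taq_2_3, tap_2_4, taq_2_4, T.offDiag_nonneg u3 u4 hn_4_3.symm, T.w_pos u1, T.w_pos u2, T.w_pos u3, T.w_pos u4]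
                    · -- (2,4) Tp
                      exfalso
                      have key := Groth.Agent.Helper6.NT.negfun3 T h2 u2 u3 u4 (by norm_num) 2 1 1 (by norm_num) (by norm_num)
                      linarith only [key, tap_2_3, taq_2_3, tap_2_4, taq_2_4, T.offDiag_nonneg u3 u4 hn_4_3.symm, T.w_pos u2, T.w_pos u3, T.w_pos u4]
                    · -- (2,4) Tm
                      exfalso
                      have key := Groth.Agent.Helper6.NT.negfun3 T h2 u2 u3 u4 (by norm_num) 2 1 3 (by norm_num) (by norm_num)
                      linarith only [key, tap_2_3, taq_2_3, tap_2_4, taq_2_4, T.offDiag_nonneg u3 u4 hn_4_3.symm, T.w_pos u2, T.w_pos u3, T.w_pos u4]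
                  · push Not at hx
                    have cl_2 := hx
                    clear hx
                    by_cases hx : ∃ j, (j ≠ u0 ∧ j ≠ u1 ∧ j ≠ u2 ∧ j ≠ u3) ∧ T.a u3 j ≠ 0
                    · obtain ⟨u4, ⟨hn_4_0, hn_4_1, hn_4_2, hn_4_3⟩, e_3_4⟩ := hx
                      have z_0_4 : T.a u0 u4 = 0 := cl_0 u4 ⟨hn_4_0, hn_4_1⟩
                      have z_1_4 : T.a u1 u4 = 0 := cl_1 u4 ⟨hn_4_0, hn_4_1, hn_4_2⟩
                      have z_2_4 : T.a u2 u4 = 0 := cl_2 u4 ⟨hn_4_0, hn_4_1, hn_4_2, hn_4_3⟩
                      rcases Groth.Agent.Helper6.NT.edge5 T h2 (by norm_num) u3 u4 hn_4_3.symm e_3_4 with ⟨tw_3_4, tap_3_4, taq_3_4⟩ | ⟨tw_3_4, tap_3_4, taq_3_4⟩ | ⟨tw_3_4, tap_3_4, taq_3_4⟩ | ⟨tw_3_4, tap_3_4, taq_3_4⟩ | ⟨tw_3_4, tap_3_4, taq_3_4⟩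
                      · -- (3,4) S
                        by_cases hx : ∃ j, (j ≠ u0 ∧ j ≠ u1 ∧ j ≠ u2 ∧ j ≠ u3 ∧ j ≠ u4) ∧ T.a u3 j ≠ 0
                        · obtain ⟨u5, ⟨hn_5_0, hn_5_1, hn_5_2, hn_5_3, hn_5_4⟩, e_3_5⟩ := hx
                          have z_0_5 : T.a u0 u5 = 0 := cl_0 u5 ⟨hn_5_0, hn_5_1⟩
                          have z_1_5 : T.a u1 u5 = 0 := cl_1 u5 ⟨hn_5_0, hn_5_1, hn_5_2⟩
                          have z_2_5 : T.a u2 u5 = 0 := cl_2 u5 ⟨hn_5_0, hn_5_1, hn_5_2, hn_5_3⟩
                          rcases Groth.Agent.Helper6.NT.edge5 T h2 (by norm_num) u3 u5 hn_5_3.symm e_3_5 with ⟨tw_3_5, tap_3_5, taq_3_5⟩ | ⟨tw_3_5, tap_3_5, taq_3_5⟩ | ⟨tw_3_5, tap_3_5, taq_3_5⟩ | ⟨tw_3_5, tap_3_5, taq_3_5⟩ | ⟨tw_3_5, tap_3_5, taq_3_5⟩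
                          · -- (3,5) S
                            rcases eq_or_ne (T.a u4 u5) 0 with z_4_5 | nz_4_5
                            · -- (4,5) zero
                              have hinj := Groth.Agent.Helper6.NT.inj6 u0 u1 u2 u3 u4 u5 hn_1_0 hn_2_0 hn_2_1 hn_3_0 hn_3_1 hn_3_2 hn_4_0 hn_4_1 hn_4_2 hn_4_3 hn_5_0 hn_5_1 hn_5_2 hn_5_3 hn_5_4
                              have r_0 : -2 * T.m u0 + 1 * T.m u1 = 0 := by
                                have key := Groth.Agent.Helper6.NT.rowfun6 T u0 u1 u2 u3 u4 u5 hinj u0
                                rw [(h2 u0).2, tap_0_1, z_0_2, z_0_3, z_0_4, z_0_5] at key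
                                exact mul_left_cancel₀ (T.w_pos u0).ne' (by linarith only [key])
                              have r_1 : 1 * T.m u0 + -2 * T.m u1 + 1 * T.m u2 = 0 := by
                                have key := Groth.Agent.Helper6.NT.rowfun6 T u0 u1 u2 u3 u4 u5 hinj u1
                                rw [Groth.Agent.Helper6.NT.symm' T u1 u0, taq_0_1, (h2 u1).2, tap_1_2, z_1_3, z_1_4, z_1_5] at key
                                exact mul_left_cancel₀ (T.w_pos u1).ne' (by linarith only [key])
                              have r_2 : 1 * T.m u1 + -2 * T.m u2 + 1 * T.m u3 = 0 := by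
                                have key := Groth.Agent.Helper6.NT.rowfun6 T u0 u1 u2 u3 u4 u5 hinj u2
                                rw [Groth.Agent.Helper6.NT.symm' T u2 u0, z_0_2, Groth.Agent.Helper6.NT.symm' T u2 u1, taq_1_2, (h2 u2).2, tap_2_3, z_2_4, z_2_5] at key
                                exact mul_left_cancel₀ (T.w_pos u2).ne' (by linarith only [key])
                              have r_3 : 1 * T.m u2 + -2 * T.m u3 + 1 * T.m u4 + 1 * T.m u5 = 0 := by
                                have key := Groth.Agent.Helper6.NT.rowfun6 T u0 u1 u2 u3 u4 u5 hinj u3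
                                rw [Groth.Agent.Helper6.NT.symm' T u3 u0, z_0_3, Groth.Agent.Helper6.NT.symm' T u3 u1, z_1_3, Groth.Agent.Helper6.NT.symm' T u3 u2, taq_2_3, (h2 u3).2, tap_3_4, tap_3_5] at key
                                exact mul_left_cancel₀ (T.w_pos u3).ne' (by linarith only [key])
                              have r_4 : 1 * T.m u3 + -2 * T.m u4 = 0 := by
                                have key := Groth.Agent.Helper6.NT.rowfun6 T u0 u1 u2 u3 u4 u5 hinj u4
                                rw [Groth.Agent.Helper6.NT.symm' T u4 u0, z_0_4, Groth.Agent.Helper6.NT.symm' T u4 u1, z_1_4, Groth.Agent.Helper6.NT.symm' T u4 u2, z_2_4, Groth.Agent.Helper6.NT.symm' T u4 u3, taq_3_4, (h2 u4).2, z_4_5] at key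
                                exact mul_left_cancel₀ (T.w_pos u4).ne' (by linarith only [key])
                              have r_5 : 1 * T.m u3 + -2 * T.m u5 = 0 := by
                                have key := Groth.Agent.Helper6.NT.rowfun6 T u0 u1 u2 u3 u4 u5 hinj u5
                                rw [Groth.Agent.Helper6.NT.symm' T u5 u0, z_0_5, Groth.Agent.Helper6.NT.symm' T u5 u1, z_1_5, Groth.Agent.Helper6.NT.symm' T u5 u2, z_2_5, Groth.Agent.Helper6.NT.symm' T u5 u3, taq_3_5, Groth.Agent.Helper6.NT.symm' T u5 u4, z_4_5, (h2 u5).2] at key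
                                exact mul_left_cancel₀ (T.w_pos u5).ne' (by linarith only [key])
                              exfalso
                              linarith only [r_0, r_1, r_2, r_3, r_4, r_5, T.m_pos u0, T.m_pos u1, T.m_pos u2, T.m_pos u3, T.m_pos u4, T.m_pos u5]
                            · -- (4,5) nonzero
                              obtain ⟨lbp_4_5, lbq_4_5⟩ := Groth.Agent.Helper6.NT.lb T u4 u5 hn_5_4.symm nz_4_5
                              exfalso
                              have key := Groth.Agent.Helper6.NT.negfun3 T h2 u3 u4 u5 (by norm_num) 1 1 1 (by norm_num) (by norm_num)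
                              linarith only [key, tap_3_4, taq_3_4, tap_3_5, taq_3_5, lbp_4_5, lbq_4_5, T.w_pos u3, T.w_pos u4, T.w_pos u5]
                          · -- (3,5) Dp
                            exfalso
                            have key := Groth.Agent.Helper6.NT.negfun4 T h2 u2 u3 u4 u5 (by norm_num) 1 2 1 1 (by norm_num) (by norm_num)
                            linarith only [key, tap_2_3, taq_2_3, z_2_4, z_2_5, tap_3_4, taq_3_4, tap_3_5, taq_3_5, T.offDiag_nonneg u4 u5 hn_5_4.symm, T.w_pos u2, T.w_pos u3, T.w_pos u4, T.w_pos u5]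
                          · -- (3,5) Dm
                            exfalso
                            have key := Groth.Agent.Helper6.NT.negfun4 T h2 u2 u3 u4 u5 (by norm_num) 1 2 1 2 (by norm_num) (by norm_num)
                            linarith only [key, tap_2_3, taq_2_3, z_2_4, z_2_5, tap_3_4, taq_3_4, tap_3_5, taq_3_5, T.offDiag_nonneg u4 u5 hn_5_4.symm, T.w_pos u2, T.w_pos u3, T.w_pos u4, T.w_pos u5]
                          · -- (3,5) Tp
                            exfalso
                            have key := Groth.Agent.Helper6.NT.negfun3 T h2 u3 u4 u5 (by norm_num) 2 1 1 (by norm_num) (by norm_num)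
                            linarith only [key, tap_3_4, taq_3_4, tap_3_5, taq_3_5, T.offDiag_nonneg u4 u5 hn_5_4.symm, T.w_pos u3, T.w_pos u4, T.w_pos u5]
                          · -- (3,5) Tm
                            exfalso
                            have key := Groth.Agent.Helper6.NT.negfun3 T h2 u3 u4 u5 (by norm_num) 2 1 3 (by norm_num) (by norm_num)
                            linarith only [key, tap_3_4, taq_3_4, tap_3_5, taq_3_5, T.offDiag_nonneg u4 u5 hn_5_4.symm, T.w_pos u3, T.w_pos u4, T.w_pos u5]
                        · push Not at hx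
                          have cl_3 := hx
                          clear hx
                          by_cases hx : ∃ j, (j ≠ u0 ∧ j ≠ u1 ∧ j ≠ u2 ∧ j ≠ u3 ∧ j ≠ u4) ∧ T.a u4 j ≠ 0
                          · obtain ⟨u5, ⟨hn_5_0, hn_5_1, hn_5_2, hn_5_3, hn_5_4⟩, e_4_5⟩ := hx
                            have z_0_5 : T.a u0 u5 = 0 := cl_0 u5 ⟨hn_5_0, hn_5_1⟩
                            have z_1_5 : T.a u1 u5 = 0 := cl_1 u5 ⟨hn_5_0, hn_5_1, hn_5_2⟩
                            have z_2_5 : T.a u2 u5 = 0 := cl_2 u5 ⟨hn_5_0, hn_5_1, hn_5_2, hn_5_3⟩
                            have z_3_5 : T.a u3 u5 = 0 := cl_3 u5 ⟨hn_5_0, hn_5_1, hn_5_2, hn_5_3, hn_5_4⟩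
                            rcases Groth.Agent.Helper6.NT.edge5 T h2 (by norm_num) u4 u5 hn_5_4.symm e_4_5 with ⟨tw_4_5, tap_4_5, taq_4_5⟩ | ⟨tw_4_5, tap_4_5, taq_4_5⟩ | ⟨tw_4_5, tap_4_5, taq_4_5⟩ | ⟨tw_4_5, tap_4_5, taq_4_5⟩ | ⟨tw_4_5, tap_4_5, taq_4_5⟩
                            · -- (4,5) S
                              have hinj := Groth.Agent.Helper6.NT.inj6 u0 u1 u2 u3 u4 u5 hn_1_0 hn_2_0 hn_2_1 hn_3_0 hn_3_1 hn_3_2 hn_4_0 hn_4_1 hn_4_2 hn_4_3 hn_5_0 hn_5_1 hn_5_2 hn_5_3 hn_5_4
                              have r_0 : -2 * T.m u0 + 1 * T.m u1 = 0 := by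
                                have key := Groth.Agent.Helper6.NT.rowfun6 T u0 u1 u2 u3 u4 u5 hinj u0
                                rw [(h2 u0).2, tap_0_1, z_0_2, z_0_3, z_0_4, z_0_5] at key
                                exact mul_left_cancel₀ (T.w_pos u0).ne' (by linarith only [key])
                              have r_1 : 1 * T.m u0 + -2 * T.m u1 + 1 * T.m u2 = 0 := by
                                have key := Groth.Agent.Helper6.NT.rowfun6 T u0 u1 u2 u3 u4 u5 hinj u1
                                rw [Groth.Agent.Helper6.NT.symm' T u1 u0, taq_0_1, (h2 u1).2, tap_1_2, z_1_3, z_1_4, z_1_5] at key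
                                exact mul_left_cancel₀ (T.w_pos u1).ne' (by linarith only [key])
                              have r_2 : 1 * T.m u1 + -2 * T.m u2 + 1 * T.m u3 = 0 := by
                                have key := Groth.Agent.Helper6.NT.rowfun6 T u0 u1 u2 u3 u4 u5 hinj u2
                                rw [Groth.Agent.Helper6.NT.symm' T u2 u0, z_0_2, Groth.Agent.Helper6.NT.symm' T u2 u1, taq_1_2, (h2 u2).2, tap_2_3, z_2_4, z_2_5] at key
                                exact mul_left_cancel₀ (T.w_pos u2).ne' (by linarith only [key])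
                              have r_3 : 1 * T.m u2 + -2 * T.m u3 + 1 * T.m u4 = 0 := by
                                have key := Groth.Agent.Helper6.NT.rowfun6 T u0 u1 u2 u3 u4 u5 hinj u3
                                rw [Groth.Agent.Helper6.NT.symm' T u3 u0, z_0_3, Groth.Agent.Helper6.NT.symm' T u3 u1, z_1_3, Groth.Agent.Helper6.NT.symm' T u3 u2, taq_2_3, (h2 u3).2, tap_3_4, z_3_5] at key
                                exact mul_left_cancel₀ (T.w_pos u3).ne' (by linarith only [key])
                              have r_4 : 1 * T.m u3 + -2 * T.m u4 + 1 * T.m u5 = 0 := by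
                                have key := Groth.Agent.Helper6.NT.rowfun6 T u0 u1 u2 u3 u4 u5 hinj u4
                                rw [Groth.Agent.Helper6.NT.symm' T u4 u0, z_0_4, Groth.Agent.Helper6.NT.symm' T u4 u1, z_1_4, Groth.Agent.Helper6.NT.symm' T u4 u2, z_2_4, Groth.Agent.Helper6.NT.symm' T u4 u3, taq_3_4, (h2 u4).2, tap_4_5] at key
                                exact mul_left_cancel₀ (T.w_pos u4).ne' (by linarith only [key])
                              have r_5 : 1 * T.m u4 + -2 * T.m u5 = 0 := by
                                have key := Groth.Agent.Helper6.NT.rowfun6 T u0 u1 u2 u3 u4 u5 hinj u5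
                                rw [Groth.Agent.Helper6.NT.symm' T u5 u0, z_0_5, Groth.Agent.Helper6.NT.symm' T u5 u1, z_1_5, Groth.Agent.Helper6.NT.symm' T u5 u2, z_2_5, Groth.Agent.Helper6.NT.symm' T u5 u3, z_3_5, Groth.Agent.Helper6.NT.symm' T u5 u4, taq_4_5, (h2 u5).2] at key
                                exact mul_left_cancel₀ (T.w_pos u5).ne' (by linarith only [key])
                              exfalso
                              linarith only [r_0, r_1, r_2, r_3, r_4, r_5, T.m_pos u0, T.m_pos u1, T.m_pos u2, T.m_pos u3, T.m_pos u4, T.m_pos u5]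
                            · -- (4,5) Dp
                              have hinj := Groth.Agent.Helper6.NT.inj6 u0 u1 u2 u3 u4 u5 hn_1_0 hn_2_0 hn_2_1 hn_3_0 hn_3_1 hn_3_2 hn_4_0 hn_4_1 hn_4_2 hn_4_3 hn_5_0 hn_5_1 hn_5_2 hn_5_3 hn_5_4
                              have r_0 : -2 * T.m u0 + 1 * T.m u1 = 0 := by
                                have key := Groth.Agent.Helper6.NT.rowfun6 T u0 u1 u2 u3 u4 u5 hinj u0
                                rw [(h2 u0).2, tap_0_1, z_0_2, z_0_3, z_0_4, z_0_5] at key
                                exact mul_left_cancel₀ (T.w_pos u0).ne' (by linarith only [key])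
                              have r_1 : 1 * T.m u0 + -2 * T.m u1 + 1 * T.m u2 = 0 := by
                                have key := Groth.Agent.Helper6.NT.rowfun6 T u0 u1 u2 u3 u4 u5 hinj u1
                                rw [Groth.Agent.Helper6.NT.symm' T u1 u0, taq_0_1, (h2 u1).2, tap_1_2, z_1_3, z_1_4, z_1_5] at key
                                exact mul_left_cancel₀ (T.w_pos u1).ne' (by linarith only [key])
                              have r_2 : 1 * T.m u1 + -2 * T.m u2 + 1 * T.m u3 = 0 := by
                                have key := Groth.Agent.Helper6.NT.rowfun6 T u0 u1 u2 u3 u4 u5 hinj u2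
                                rw [Groth.Agent.Helper6.NT.symm' T u2 u0, z_0_2, Groth.Agent.Helper6.NT.symm' T u2 u1, taq_1_2, (h2 u2).2, tap_2_3, z_2_4, z_2_5] at key
                                exact mul_left_cancel₀ (T.w_pos u2).ne' (by linarith only [key])
                              have r_3 : 1 * T.m u2 + -2 * T.m u3 + 1 * T.m u4 = 0 := by
                                have key := Groth.Agent.Helper6.NT.rowfun6 T u0 u1 u2 u3 u4 u5 hinj u3
                                rw [Groth.Agent.Helper6.NT.symm' T u3 u0, z_0_3, Groth.Agent.Helper6.NT.symm' T u3 u1, z_1_3, Groth.Agent.Helper6.NT.symm' T u3 u2, taq_2_3, (h2 u3).2, tap_3_4, z_3_5] at key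
                                exact mul_left_cancel₀ (T.w_pos u3).ne' (by linarith only [key])
                              have r_4 : 1 * T.m u3 + -2 * T.m u4 + 2 * T.m u5 = 0 := by
                                have key := Groth.Agent.Helper6.NT.rowfun6 T u0 u1 u2 u3 u4 u5 hinj u4
                                rw [Groth.Agent.Helper6.NT.symm' T u4 u0, z_0_4, Groth.Agent.Helper6.NT.symm' T u4 u1, z_1_4, Groth.Agent.Helper6.NT.symm' T u4 u2, z_2_4, Groth.Agent.Helper6.NT.symm' T u4 u3, taq_3_4, (h2 u4).2, tap_4_5] at key
                                exact mul_left_cancel₀ (T.w_pos u4).ne' (by linarith only [key])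
                              have r_5 : 1 * T.m u4 + -2 * T.m u5 = 0 := by
                                have key := Groth.Agent.Helper6.NT.rowfun6 T u0 u1 u2 u3 u4 u5 hinj u5
                                rw [Groth.Agent.Helper6.NT.symm' T u5 u0, z_0_5, Groth.Agent.Helper6.NT.symm' T u5 u1, z_1_5, Groth.Agent.Helper6.NT.symm' T u5 u2, z_2_5, Groth.Agent.Helper6.NT.symm' T u5 u3, z_3_5, Groth.Agent.Helper6.NT.symm' T u5 u4, taq_4_5, (h2 u5).2] at key
                                exact mul_left_cancel₀ (T.w_pos u5).ne' (by linarith only [key])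
                              exfalso
                              linarith only [r_0, r_1, r_2, r_3, r_4, r_5, T.m_pos u0, T.m_pos u1, T.m_pos u2, T.m_pos u3, T.m_pos u4, T.m_pos u5]
                            · -- (4,5) Dm
                              have hinj := Groth.Agent.Helper6.NT.inj6 u0 u1 u2 u3 u4 u5 hn_1_0 hn_2_0 hn_2_1 hn_3_0 hn_3_1 hn_3_2 hn_4_0 hn_4_1 hn_4_2 hn_4_3 hn_5_0 hn_5_1 hn_5_2 hn_5_3 hn_5_4
                              have r_0 : -2 * T.m u0 + 1 * T.m u1 = 0 := by
                                have key := Groth.Agent.Helper6.NT.rowfun6 T u0 u1 u2 u3 u4 u5 hinj u0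
                                rw [(h2 u0).2, tap_0_1, z_0_2, z_0_3, z_0_4, z_0_5] at key
                                exact mul_left_cancel₀ (T.w_pos u0).ne' (by linarith only [key])
                              have r_1 : 1 * T.m u0 + -2 * T.m u1 + 1 * T.m u2 = 0 := by
                                have key := Groth.Agent.Helper6.NT.rowfun6 T u0 u1 u2 u3 u4 u5 hinj u1
                                rw [Groth.Agent.Helper6.NT.symm' T u1 u0, taq_0_1, (h2 u1).2, tap_1_2, z_1_3, z_1_4, z_1_5] at key
                                exact mul_left_cancel₀ (T.w_pos u1).ne' (by linarith only [key])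
                              have r_2 : 1 * T.m u1 + -2 * T.m u2 + 1 * T.m u3 = 0 := by
                                have key := Groth.Agent.Helper6.NT.rowfun6 T u0 u1 u2 u3 u4 u5 hinj u2
                                rw [Groth.Agent.Helper6.NT.symm' T u2 u0, z_0_2, Groth.Agent.Helper6.NT.symm' T u2 u1, taq_1_2, (h2 u2).2, tap_2_3, z_2_4, z_2_5] at key
                                exact mul_left_cancel₀ (T.w_pos u2).ne' (by linarith only [key])
                              have r_3 : 1 * T.m u2 + -2 * T.m u3 + 1 * T.m u4 = 0 := by
                                have key := Groth.Agent.Helper6.NT.rowfun6 T u0 u1 u2 u3 u4 u5 hinj u3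
                                rw [Groth.Agent.Helper6.NT.symm' T u3 u0, z_0_3, Groth.Agent.Helper6.NT.symm' T u3 u1, z_1_3, Groth.Agent.Helper6.NT.symm' T u3 u2, taq_2_3, (h2 u3).2, tap_3_4, z_3_5] at key
                                exact mul_left_cancel₀ (T.w_pos u3).ne' (by linarith only [key])
                              have r_4 : 1 * T.m u3 + -2 * T.m u4 + 1 * T.m u5 = 0 := by
                                have key := Groth.Agent.Helper6.NT.rowfun6 T u0 u1 u2 u3 u4 u5 hinj u4
                                rw [Groth.Agent.Helper6.NT.symm' T u4 u0, z_0_4, Groth.Agent.Helper6.NT.symm' T u4 u1, z_1_4, Groth.Agent.Helper6.NT.symm' T u4 u2, z_2_4, Groth.Agent.Helper6.NT.symm' T u4 u3, taq_3_4, (h2 u4).2, tap_4_5] at key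
                                exact mul_left_cancel₀ (T.w_pos u4).ne' (by linarith only [key])
                              have r_5 : 2 * T.m u4 + -2 * T.m u5 = 0 := by
                                have key := Groth.Agent.Helper6.NT.rowfun6 T u0 u1 u2 u3 u4 u5 hinj u5
                                rw [Groth.Agent.Helper6.NT.symm' T u5 u0, z_0_5, Groth.Agent.Helper6.NT.symm' T u5 u1, z_1_5, Groth.Agent.Helper6.NT.symm' T u5 u2, z_2_5, Groth.Agent.Helper6.NT.symm' T u5 u3, z_3_5, Groth.Agent.Helper6.NT.symm' T u5 u4, taq_4_5, (h2 u5).2] at key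
                                exact mul_left_cancel₀ (T.w_pos u5).ne' (by linarith only [key])
                              exfalso
                              linarith only [r_0, r_1, r_2, r_3, r_4, r_5, T.m_pos u0, T.m_pos u1, T.m_pos u2, T.m_pos u3, T.m_pos u4, T.m_pos u5]
                            · -- (4,5) Tp
                              exfalso
                              have key := Groth.Agent.Helper6.NT.negfun3 T h2 u3 u4 u5 (by norm_num) 1 2 1 (by norm_num) (by norm_num)
                              linarith only [key, tap_3_4, taq_3_4, z_3_5, tap_4_5, taq_4_5, T.w_pos u3, T.w_pos u4, T.w_pos u5]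
                            · -- (4,5) Tm
                              exfalso
                              have key := Groth.Agent.Helper6.NT.negfun3 T h2 u3 u4 u5 (by norm_num) 1 2 3 (by norm_num) (by norm_num)
                              linarith only [key, tap_3_4, taq_3_4, z_3_5, tap_4_5, taq_4_5, T.w_pos u3, T.w_pos u4, T.w_pos u5]
                          · push Not at hx
                            have cl_4 := hx
                            clear hx
                            exfalso
                            refine Groth.Agent.Helper6.NT.closed_contra T [u0, u1, u2, u3, u4] (by simp) (by simp) ?_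
                            intro i hi j hj
                            simp only [List.mem_cons, List.not_mem_nil, or_false, not_or] at hi hj
                            rcases hi with rfl | rfl | rfl | rfl | rfl
                            · exact cl_0 j ⟨hj.1, hj.2.1⟩
                            · exact cl_1 j ⟨hj.1, hj.2.1, hj.2.2.1⟩
                            · exact cl_2 j ⟨hj.1, hj.2.1, hj.2.2.1, hj.2.2.2.1⟩
                            · exact cl_3 j ⟨hj.1, hj.2.1, hj.2.2.1, hj.2.2.2.1, hj.2.2.2.2⟩
                            · exact cl_4 j ⟨hj.1, hj.2.1, hj.2.2.1, hj.2.2.2.1, hj.2.2.2.2⟩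
                      · -- (3,4) Dp
                        by_cases hx : ∃ j, (j ≠ u0 ∧ j ≠ u1 ∧ j ≠ u2 ∧ j ≠ u3 ∧ j ≠ u4) ∧ T.a u3 j ≠ 0
                        · obtain ⟨u5, ⟨hn_5_0, hn_5_1, hn_5_2, hn_5_3, hn_5_4⟩, e_3_5⟩ := hx
                          have z_0_5 : T.a u0 u5 = 0 := cl_0 u5 ⟨hn_5_0, hn_5_1⟩
                          have z_1_5 : T.a u1 u5 = 0 := cl_1 u5 ⟨hn_5_0, hn_5_1, hn_5_2⟩
                          have z_2_5 : T.a u2 u5 = 0 := cl_2 u5 ⟨hn_5_0, hn_5_1, hn_5_2, hn_5_3⟩
                          rcases Groth.Agent.Helper6.NT.edge5 T h2 (by norm_num) u3 u5 hn_5_3.symm e_3_5 with ⟨tw_3_5, tap_3_5, taq_3_5⟩ | ⟨tw_3_5, tap_3_5, taq_3_5⟩ | ⟨tw_3_5, tap_3_5, taq_3_5⟩ | ⟨tw_3_5, tap_3_5, taq_3_5⟩ | ⟨tw_3_5, tap_3_5, taq_3_5⟩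
                          · -- (3,5) S
                            exfalso
                            have key := Groth.Agent.Helper6.NT.negfun4 T h2 u2 u3 u4 u5 (by norm_num) 1 2 1 1 (by norm_num) (by norm_num)
                            linarith only [key, tap_2_3, taq_2_3, z_2_4, z_2_5, tap_3_4, taq_3_4, tap_3_5, taq_3_5, T.offDiag_nonneg u4 u5 hn_5_4.symm, T.w_pos u2, T.w_pos u3, T.w_pos u4, T.w_pos u5]
                          · -- (3,5) Dp
                            exfalso
                            have key := Groth.Agent.Helper6.NT.negfun3 T h2 u3 u4 u5 (by norm_num) 2 1 1 (by norm_num) (by norm_num)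
                            linarith only [key, tap_3_4, taq_3_4, tap_3_5, taq_3_5, T.offDiag_nonneg u4 u5 hn_5_4.symm, T.w_pos u3, T.w_pos u4, T.w_pos u5]
                          · -- (3,5) Dm
                            exfalso
                            have key := Groth.Agent.Helper6.NT.negfun3 T h2 u3 u4 u5 (by norm_num) 2 1 2 (by norm_num) (by norm_num)
                            linarith only [key, tap_3_4, taq_3_4, tap_3_5, taq_3_5, T.offDiag_nonneg u4 u5 hn_5_4.symm, T.w_pos u3, T.w_pos u4, T.w_pos u5]
                          · -- (3,5) Tp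
                            exfalso
                            have key := Groth.Agent.Helper6.NT.negfun3 T h2 u3 u4 u5 (by norm_num) 2 1 1 (by norm_num) (by norm_num)
                            linarith only [key, tap_3_4, taq_3_4, tap_3_5, taq_3_5, T.offDiag_nonneg u4 u5 hn_5_4.symm, T.w_pos u3, T.w_pos u4, T.w_pos u5]
                          · -- (3,5) Tm
                            exfalso
                            have key := Groth.Agent.Helper6.NT.negfun3 T h2 u3 u4 u5 (by norm_num) 2 1 3 (by norm_num) (by norm_num)
                            linarith only [key, tap_3_4, taq_3_4, tap_3_5, taq_3_5, T.offDiag_nonneg u4 u5 hn_5_4.symm, T.w_pos u3, T.w_pos u4, T.w_pos u5]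
                        · push Not at hx
                          have cl_3 := hx
                          clear hx
                          by_cases hx : ∃ j, (j ≠ u0 ∧ j ≠ u1 ∧ j ≠ u2 ∧ j ≠ u3 ∧ j ≠ u4) ∧ T.a u4 j ≠ 0
                          · obtain ⟨u5, ⟨hn_5_0, hn_5_1, hn_5_2, hn_5_3, hn_5_4⟩, e_4_5⟩ := hx
                            have z_0_5 : T.a u0 u5 = 0 := cl_0 u5 ⟨hn_5_0, hn_5_1⟩
                            have z_1_5 : T.a u1 u5 = 0 := cl_1 u5 ⟨hn_5_0, hn_5_1, hn_5_2⟩
                            have z_2_5 : T.a u2 u5 = 0 := cl_2 u5 ⟨hn_5_0, hn_5_1, hn_5_2, hn_5_3⟩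
                            have z_3_5 : T.a u3 u5 = 0 := cl_3 u5 ⟨hn_5_0, hn_5_1, hn_5_2, hn_5_3, hn_5_4⟩
                            rcases Groth.Agent.Helper6.NT.edge5 T h2 (by norm_num) u4 u5 hn_5_4.symm e_4_5 with ⟨tw_4_5, tap_4_5, taq_4_5⟩ | ⟨tw_4_5, tap_4_5, taq_4_5⟩ | ⟨tw_4_5, tap_4_5, taq_4_5⟩ | ⟨tw_4_5, tap_4_5, taq_4_5⟩ | ⟨tw_4_5, tap_4_5, taq_4_5⟩
                            · -- (4,5) S
                              exfalso
                              have key := Groth.Agent.Helper6.NT.negfun5 T h2 u1 u2 u3 u4 u5 (by norm_num) 1 2 3 2 1 (by norm_num) (by norm_num)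
                              linarith only [key, tap_1_2, taq_1_2, z_1_3, z_1_4, z_1_5, tap_2_3, taq_2_3, z_2_4, z_2_5, tap_3_4, taq_3_4, z_3_5, tap_4_5, taq_4_5, T.w_pos u1, T.w_pos u2, T.w_pos u3, T.w_pos u4, T.w_pos u5]
                            · -- (4,5) Dp
                              exfalso
                              have key := Groth.Agent.Helper6.NT.negfun3 T h2 u3 u4 u5 (by norm_num) 2 2 1 (by norm_num) (by norm_num)
                              linarith only [key, tap_3_4, taq_3_4, z_3_5, tap_4_5, taq_4_5, T.w_pos u3, T.w_pos u4, T.w_pos u5]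
                            · -- (4,5) Dm
                              exfalso
                              have key := Groth.Agent.Helper6.NT.negfun3 T h2 u3 u4 u5 (by norm_num) 1 1 1 (by norm_num) (by norm_num)
                              linarith only [key, tap_3_4, taq_3_4, z_3_5, tap_4_5, taq_4_5, T.w_pos u3, T.w_pos u4, T.w_pos u5]
                            · -- (4,5) Tp
                              exfalso
                              have key := Groth.Agent.Helper6.NT.negfun3 T h2 u3 u4 u5 (by norm_num) 2 2 1 (by norm_num) (by norm_num)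
                              linarith only [key, tap_3_4, taq_3_4, z_3_5, tap_4_5, taq_4_5, T.w_pos u3, T.w_pos u4, T.w_pos u5]
                            · -- (4,5) Tm
                              exfalso
                              have key := Groth.Agent.Helper6.NT.negfun3 T h2 u3 u4 u5 (by norm_num) 2 2 3 (by norm_num) (by norm_num)
                              linarith only [key, tap_3_4, taq_3_4, z_3_5, tap_4_5, taq_4_5, T.w_pos u3, T.w_pos u4, T.w_pos u5]
                          · push Not at hx
                            have cl_4 := hx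
                            clear hx
                            exfalso
                            refine Groth.Agent.Helper6.NT.closed_contra T [u0, u1, u2, u3, u4] (by simp) (by simp) ?_
                            intro i hi j hj
                            simp only [List.mem_cons, List.not_mem_nil, or_false, not_or] at hi hj
                            rcases hi with rfl | rfl | rfl | rfl | rfl
                            · exact cl_0 j ⟨hj.1, hj.2.1⟩
                            · exact cl_1 j ⟨hj.1, hj.2.1, hj.2.2.1⟩
                            · exact cl_2 j ⟨hj.1, hj.2.1, hj.2.2.1, hj.2.2.2.1⟩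
                            · exact cl_3 j ⟨hj.1, hj.2.1, hj.2.2.1, hj.2.2.2.1, hj.2.2.2.2⟩
                            · exact cl_4 j ⟨hj.1, hj.2.1, hj.2.2.1, hj.2.2.2.1, hj.2.2.2.2⟩
                      · -- (3,4) Dm
                        by_cases hx : ∃ j, (j ≠ u0 ∧ j ≠ u1 ∧ j ≠ u2 ∧ j ≠ u3 ∧ j ≠ u4) ∧ T.a u3 j ≠ 0
                        · obtain ⟨u5, ⟨hn_5_0, hn_5_1, hn_5_2, hn_5_3, hn_5_4⟩, e_3_5⟩ := hx
                          have z_0_5 : T.a u0 u5 = 0 := cl_0 u5 ⟨hn_5_0, hn_5_1⟩
                          have z_1_5 : T.a u1 u5 = 0 := cl_1 u5 ⟨hn_5_0, hn_5_1, hn_5_2⟩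
                          have z_2_5 : T.a u2 u5 = 0 := cl_2 u5 ⟨hn_5_0, hn_5_1, hn_5_2, hn_5_3⟩
                          rcases Groth.Agent.Helper6.NT.edge5 T h2 (by norm_num) u3 u5 hn_5_3.symm e_3_5 with ⟨tw_3_5, tap_3_5, taq_3_5⟩ | ⟨tw_3_5, tap_3_5, taq_3_5⟩ | ⟨tw_3_5, tap_3_5, taq_3_5⟩ | ⟨tw_3_5, tap_3_5, taq_3_5⟩ | ⟨tw_3_5, tap_3_5, taq_3_5⟩
                          · -- (3,5) S
                            exfalso
                            have key := Groth.Agent.Helper6.NT.negfun4 T h2 u2 u3 u4 u5 (by norm_num) 1 2 2 1 (by norm_num) (by norm_num)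
                            linarith only [key, tap_2_3, taq_2_3, z_2_4, z_2_5, tap_3_4, taq_3_4, tap_3_5, taq_3_5, T.offDiag_nonneg u4 u5 hn_5_4.symm, T.w_pos u2, T.w_pos u3, T.w_pos u4, T.w_pos u5]
                          · -- (3,5) Dp
                            exfalso
                            have key := Groth.Agent.Helper6.NT.negfun3 T h2 u3 u4 u5 (by norm_num) 2 2 1 (by norm_num) (by norm_num)
                            linarith only [key, tap_3_4, taq_3_4, tap_3_5, taq_3_5, T.offDiag_nonneg u4 u5 hn_5_4.symm, T.w_pos u3, T.w_pos u4, T.w_pos u5]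
                          · -- (3,5) Dm
                            exfalso
                            have key := Groth.Agent.Helper6.NT.negfun3 T h2 u3 u4 u5 (by norm_num) 1 1 1 (by norm_num) (by norm_num)
                            linarith only [key, tap_3_4, taq_3_4, tap_3_5, taq_3_5, T.offDiag_nonneg u4 u5 hn_5_4.symm, T.w_pos u3, T.w_pos u4, T.w_pos u5]
                          · -- (3,5) Tp
                            exfalso
                            have key := Groth.Agent.Helper6.NT.negfun3 T h2 u3 u4 u5 (by norm_num) 2 2 1 (by norm_num) (by norm_num)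
                            linarith only [key, tap_3_4, taq_3_4, tap_3_5, taq_3_5, T.offDiag_nonneg u4 u5 hn_5_4.symm, T.w_pos u3, T.w_pos u4, T.w_pos u5]
                          · -- (3,5) Tm
                            exfalso
                            have key := Groth.Agent.Helper6.NT.negfun3 T h2 u3 u4 u5 (by norm_num) 2 2 3 (by norm_num) (by norm_num)
                            linarith only [key, tap_3_4, taq_3_4, tap_3_5, taq_3_5, T.offDiag_nonneg u4 u5 hn_5_4.symm, T.w_pos u3, T.w_pos u4, T.w_pos u5]
                        · push Not at hx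
                          have cl_3 := hx
                          clear hx
                          by_cases hx : ∃ j, (j ≠ u0 ∧ j ≠ u1 ∧ j ≠ u2 ∧ j ≠ u3 ∧ j ≠ u4) ∧ T.a u4 j ≠ 0
                          · obtain ⟨u5, ⟨hn_5_0, hn_5_1, hn_5_2, hn_5_3, hn_5_4⟩, e_4_5⟩ := hx
                            have z_0_5 : T.a u0 u5 = 0 := cl_0 u5 ⟨hn_5_0, hn_5_1⟩
                            have z_1_5 : T.a u1 u5 = 0 := cl_1 u5 ⟨hn_5_0, hn_5_1, hn_5_2⟩
                            have z_2_5 : T.a u2 u5 = 0 := cl_2 u5 ⟨hn_5_0, hn_5_1, hn_5_2, hn_5_3⟩
                            have z_3_5 : T.a u3 u5 = 0 := cl_3 u5 ⟨hn_5_0, hn_5_1, hn_5_2, hn_5_3, hn_5_4⟩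
                            rcases Groth.Agent.Helper6.NT.edge5 T h2 (by norm_num) u4 u5 hn_5_4.symm e_4_5 with ⟨tw_4_5, tap_4_5, taq_4_5⟩ | ⟨tw_4_5, tap_4_5, taq_4_5⟩ | ⟨tw_4_5, tap_4_5, taq_4_5⟩ | ⟨tw_4_5, tap_4_5, taq_4_5⟩ | ⟨tw_4_5, tap_4_5, taq_4_5⟩
                            · -- (4,5) S
                              exfalso
                              have key := Groth.Agent.Helper6.NT.negfun5 T h2 u1 u2 u3 u4 u5 (by norm_num) 1 2 3 4 2 (by norm_num) (by norm_num)
                              linarith only [key, tap_1_2, taq_1_2, z_1_3, z_1_4, z_1_5, tap_2_3, taq_2_3, z_2_4, z_2_5, tap_3_4, taq_3_4, z_3_5, tap_4_5, taq_4_5, T.w_pos u1, T.w_pos u2, T.w_pos u3, T.w_pos u4, T.w_pos u5]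
                            · -- (4,5) Dp
                              exfalso
                              have key := Groth.Agent.Helper6.NT.negfun3 T h2 u3 u4 u5 (by norm_num) 1 2 1 (by norm_num) (by norm_num)
                              linarith only [key, tap_3_4, taq_3_4, z_3_5, tap_4_5, taq_4_5, T.w_pos u3, T.w_pos u4, T.w_pos u5]
                            · -- (4,5) Dm
                              exfalso
                              have key := Groth.Agent.Helper6.NT.negfun3 T h2 u3 u4 u5 (by norm_num) 1 2 2 (by norm_num) (by norm_num)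
                              linarith only [key, tap_3_4, taq_3_4, z_3_5, tap_4_5, taq_4_5, T.w_pos u3, T.w_pos u4, T.w_pos u5]
                            · -- (4,5) Tp
                              exfalso
                              have key := Groth.Agent.Helper6.NT.negfun3 T h2 u3 u4 u5 (by norm_num) 1 2 1 (by norm_num) (by norm_num)
                              linarith only [key, tap_3_4, taq_3_4, z_3_5, tap_4_5, taq_4_5, T.w_pos u3, T.w_pos u4, T.w_pos u5]
                            · -- (4,5) Tm
                              exfalso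
                              have key := Groth.Agent.Helper6.NT.negfun3 T h2 u3 u4 u5 (by norm_num) 1 2 3 (by norm_num) (by norm_num)
                              linarith only [key, tap_3_4, taq_3_4, z_3_5, tap_4_5, taq_4_5, T.w_pos u3, T.w_pos u4, T.w_pos u5]
                          · push Not at hx
                            have cl_4 := hx
                            clear hx
                            exfalso
                            refine Groth.Agent.Helper6.NT.closed_contra T [u0, u1, u2, u3, u4] (by simp) (by simp) ?_
                            intro i hi j hj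
                            simp only [List.mem_cons, List.not_mem_nil, or_false, not_or] at hi hj
                            rcases hi with rfl | rfl | rfl | rfl | rfl
                            · exact cl_0 j ⟨hj.1, hj.2.1⟩
                            · exact cl_1 j ⟨hj.1, hj.2.1, hj.2.2.1⟩
                            · exact cl_2 j ⟨hj.1, hj.2.1, hj.2.2.1, hj.2.2.2.1⟩
                            · exact cl_3 j ⟨hj.1, hj.2.1, hj.2.2.1, hj.2.2.2.1, hj.2.2.2.2⟩
                            · exact cl_4 j ⟨hj.1, hj.2.1, hj.2.2.1, hj.2.2.2.1, hj.2.2.2.2⟩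
                      · -- (3,4) Tp
                        exfalso
                        have key := Groth.Agent.Helper6.NT.negfun3 T h2 u2 u3 u4 (by norm_num) 1 2 1 (by norm_num) (by norm_num)
                        linarith only [key, tap_2_3, taq_2_3, z_2_4, tap_3_4, taq_3_4, T.w_pos u2, T.w_pos u3, T.w_pos u4]
                      · -- (3,4) Tm
                        exfalso
                        have key := Groth.Agent.Helper6.NT.negfun3 T h2 u2 u3 u4 (by norm_num) 1 2 3 (by norm_num) (by norm_num)
                        linarith only [key, tap_2_3, taq_2_3, z_2_4, tap_3_4, taq_3_4, T.w_pos u2, T.w_pos u3, T.w_pos u4]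
                    · push Not at hx
                      have cl_3 := hx
                      clear hx
                      exfalso
                      refine Groth.Agent.Helper6.NT.closed_contra T [u0, u1, u2, u3] (by simp) (by simp) ?_
                      intro i hi j hj
                      simp only [List.mem_cons, List.not_mem_nil, or_false, not_or] at hi hj
                      rcases hi with rfl | rfl | rfl | rfl
                      · exact cl_0 j ⟨hj.1, hj.2.1⟩
                      · exact cl_1 j ⟨hj.1, hj.2.1, hj.2.2.1⟩
                      · exact cl_2 j ⟨hj.1, hj.2.1, hj.2.2.1, hj.2.2.2⟩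
                      · exact cl_3 j ⟨hj.1, hj.2.1, hj.2.2.1, hj.2.2.2⟩
                · -- (2,3) Dp
                  by_cases hx : ∃ j, (j ≠ u0 ∧ j ≠ u1 ∧ j ≠ u2 ∧ j ≠ u3) ∧ T.a u2 j ≠ 0
                  · obtain ⟨u4, ⟨hn_4_0, hn_4_1, hn_4_2, hn_4_3⟩, e_2_4⟩ := hx
                    have z_0_4 : T.a u0 u4 = 0 := cl_0 u4 ⟨hn_4_0, hn_4_1⟩
                    have z_1_4 : T.a u1 u4 = 0 := cl_1 u4 ⟨hn_4_0, hn_4_1, hn_4_2⟩
                    rcases Groth.Agent.Helper6.NT.edge5 T h2 (by norm_num) u2 u4 hn_4_2.symm e_2_4 with ⟨tw_2_4, tap_2_4, taq_2_4⟩ | ⟨tw_2_4, tap_2_4, taq_2_4⟩ | ⟨tw_2_4, tap_2_4, taq_2_4⟩ | ⟨tw_2_4, tap_2_4, taq_2_4⟩ | ⟨tw_2_4, tap_2_4, taq_2_4⟩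
                    · -- (2,4) S
                      exfalso
                      have key := Groth.Agent.Helper6.NT.negfun4 T h2 u1 u2 u3 u4 (by norm_num) 1 2 1 1 (by norm_num) (by norm_num)
                      linarith only [key, tap_1_2, taq_1_2, z_1_3, z_1_4, tap_2_3, taq_2_3, tap_2_4, taq_2_4, T.offDiag_nonneg u3 u4 hn_4_3.symm, T.w_pos u1, T.w_pos u2, T.w_pos u3, T.w_pos u4]
                    · -- (2,4) Dp
                      exfalso
                      have key := Groth.Agent.Helper6.NT.negfun3 T h2 u2 u3 u4 (by norm_num) 2 1 1 (by norm_num) (by norm_num)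
                      linarith only [key, tap_2_3, taq_2_3, tap_2_4, taq_2_4, T.offDiag_nonneg u3 u4 hn_4_3.symm, T.w_pos u2, T.w_pos u3, T.w_pos u4]
                    · -- (2,4) Dm
                      exfalso
                      have key := Groth.Agent.Helper6.NT.negfun3 T h2 u2 u3 u4 (by norm_num) 2 1 2 (by norm_num) (by norm_num)
                      linarith only [key, tap_2_3, taq_2_3, tap_2_4, taq_2_4, T.offDiag_nonneg u3 u4 hn_4_3.symm, T.w_pos u2, T.w_pos u3, T.w_pos u4]
                    · -- (2,4) Tp
                      exfalso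
                      have key := Groth.Agent.Helper6.NT.negfun3 T h2 u2 u3 u4 (by norm_num) 2 1 1 (by norm_num) (by norm_num)
                      linarith only [key, tap_2_3, taq_2_3, tap_2_4, taq_2_4, T.offDiag_nonneg u3 u4 hn_4_3.symm, T.w_pos u2, T.w_pos u3, T.w_pos u4]
                    · -- (2,4) Tm
                      exfalso
                      have key := Groth.Agent.Helper6.NT.negfun3 T h2 u2 u3 u4 (by norm_num) 2 1 3 (by norm_num) (by norm_num)
                      linarith only [key, tap_2_3, taq_2_3, tap_2_4, taq_2_4, T.offDiag_nonneg u3 u4 hn_4_3.symm, T.w_pos u2, T.w_pos u3, T.w_pos u4]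
                  · push Not at hx
                    have cl_2 := hx
                    clear hx
                    by_cases hx : ∃ j, (j ≠ u0 ∧ j ≠ u1 ∧ j ≠ u2 ∧ j ≠ u3) ∧ T.a u3 j ≠ 0
                    · obtain ⟨u4, ⟨hn_4_0, hn_4_1, hn_4_2, hn_4_3⟩, e_3_4⟩ := hx
                      have z_0_4 : T.a u0 u4 = 0 := cl_0 u4 ⟨hn_4_0, hn_4_1⟩
                      have z_1_4 : T.a u1 u4 = 0 := cl_1 u4 ⟨hn_4_0, hn_4_1, hn_4_2⟩
                      have z_2_4 : T.a u2 u4 = 0 := cl_2 u4 ⟨hn_4_0, hn_4_1, hn_4_2, hn_4_3⟩
                      rcases Groth.Agent.Helper6.NT.edge5 T h2 (by norm_num) u3 u4 hn_4_3.symm e_3_4 with ⟨tw_3_4, tap_3_4, taq_3_4⟩ | ⟨tw_3_4, tap_3_4, taq_3_4⟩ | ⟨tw_3_4, tap_3_4, taq_3_4⟩ | ⟨tw_3_4, tap_3_4, taq_3_4⟩ | ⟨tw_3_4, tap_3_4, taq_3_4⟩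
                      · -- (3,4) S
                        exfalso
                        have key := Groth.Agent.Helper6.NT.negfun5 T h2 u0 u1 u2 u3 u4 (by norm_num) 1 2 3 2 1 (by norm_num) (by norm_num)
                        linarith only [key, tap_0_1, taq_0_1, z_0_2, z_0_3, z_0_4, tap_1_2, taq_1_2, z_1_3, z_1_4, tap_2_3, taq_2_3, z_2_4, tap_3_4, taq_3_4, T.w_pos u0, T.w_pos u1, T.w_pos u2, T.w_pos u3, T.w_pos u4]
                      · -- (3,4) Dp
                        exfalso
                        have key := Groth.Agent.Helper6.NT.negfun3 T h2 u2 u3 u4 (by norm_num) 2 2 1 (by norm_num) (by norm_num)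
                        linarith only [key, tap_2_3, taq_2_3, z_2_4, tap_3_4, taq_3_4, T.w_pos u2, T.w_pos u3, T.w_pos u4]
                      · -- (3,4) Dm
                        exfalso
                        have key := Groth.Agent.Helper6.NT.negfun3 T h2 u2 u3 u4 (by norm_num) 1 1 1 (by norm_num) (by norm_num)
                        linarith only [key, tap_2_3, taq_2_3, z_2_4, tap_3_4, taq_3_4, T.w_pos u2, T.w_pos u3, T.w_pos u4]
                      · -- (3,4) Tp
                        exfalso
                        have key := Groth.Agent.Helper6.NT.negfun3 T h2 u2 u3 u4 (by norm_num) 2 2 1 (by norm_num) (by norm_num)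
                        linarith only [key, tap_2_3, taq_2_3, z_2_4, tap_3_4, taq_3_4, T.w_pos u2, T.w_pos u3, T.w_pos u4]
                      · -- (3,4) Tm
                        exfalso
                        have key := Groth.Agent.Helper6.NT.negfun3 T h2 u2 u3 u4 (by norm_num) 2 2 3 (by norm_num) (by norm_num)
                        linarith only [key, tap_2_3, taq_2_3, z_2_4, tap_3_4, taq_3_4, T.w_pos u2, T.w_pos u3, T.w_pos u4]
                    · push Not at hx
                      have cl_3 := hx
                      clear hx
                      exfalso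
                      refine Groth.Agent.Helper6.NT.closed_contra T [u0, u1, u2, u3] (by simp) (by simp) ?_
                      intro i hi j hj
                      simp only [List.mem_cons, List.not_mem_nil, or_false, not_or] at hi hj
                      rcases hi with rfl | rfl | rfl | rfl
                      · exact cl_0 j ⟨hj.1, hj.2.1⟩
                      · exact cl_1 j ⟨hj.1, hj.2.1, hj.2.2.1⟩
                      · exact cl_2 j ⟨hj.1, hj.2.1, hj.2.2.1, hj.2.2.2⟩
                      · exact cl_3 j ⟨hj.1, hj.2.1, hj.2.2.1, hj.2.2.2⟩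
                · -- (2,3) Dm
                  by_cases hx : ∃ j, (j ≠ u0 ∧ j ≠ u1 ∧ j ≠ u2 ∧ j ≠ u3) ∧ T.a u2 j ≠ 0
                  · obtain ⟨u4, ⟨hn_4_0, hn_4_1, hn_4_2, hn_4_3⟩, e_2_4⟩ := hx
                    have z_0_4 : T.a u0 u4 = 0 := cl_0 u4 ⟨hn_4_0, hn_4_1⟩
                    have z_1_4 : T.a u1 u4 = 0 := cl_1 u4 ⟨hn_4_0, hn_4_1, hn_4_2⟩
                    rcases Groth.Agent.Helper6.NT.edge5 T h2 (by norm_num) u2 u4 hn_4_2.symm e_2_4 with ⟨tw_2_4, tap_2_4, taq_2_4⟩ | ⟨tw_2_4, tap_2_4, taq_2_4⟩ | ⟨tw_2_4, tap_2_4, taq_2_4⟩ | ⟨tw_2_4, tap_2_4, taq_2_4⟩ | ⟨tw_2_4, tap_2_4, taq_2_4⟩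
                    · -- (2,4) S
                      exfalso
                      have key := Groth.Agent.Helper6.NT.negfun4 T h2 u1 u2 u3 u4 (by norm_num) 1 2 2 1 (by norm_num) (by norm_num)
                      linarith only [key, tap_1_2, taq_1_2, z_1_3, z_1_4, tap_2_3, taq_2_3, tap_2_4, taq_2_4, T.offDiag_nonneg u3 u4 hn_4_3.symm, T.w_pos u1, T.w_pos u2, T.w_pos u3, T.w_pos u4]
                    · -- (2,4) Dp
                      exfalso
                      have key := Groth.Agent.Helper6.NT.negfun3 T h2 u2 u3 u4 (by norm_num) 2 2 1 (by norm_num) (by norm_num)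
                      linarith only [key, tap_2_3, taq_2_3, tap_2_4, taq_2_4, T.offDiag_nonneg u3 u4 hn_4_3.symm, T.w_pos u2, T.w_pos u3, T.w_pos u4]
                    · -- (2,4) Dm
                      exfalso
                      have key := Groth.Agent.Helper6.NT.negfun3 T h2 u2 u3 u4 (by norm_num) 1 1 1 (by norm_num) (by norm_num)
                      linarith only [key, tap_2_3, taq_2_3, tap_2_4, taq_2_4, T.offDiag_nonneg u3 u4 hn_4_3.symm, T.w_pos u2, T.w_pos u3, T.w_pos u4]
                    · -- (2,4) Tp
                      exfalso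
                      have key := Groth.Agent.Helper6.NT.negfun3 T h2 u2 u3 u4 (by norm_num) 2 2 1 (by norm_num) (by norm_num)
                      linarith only [key, tap_2_3, taq_2_3, tap_2_4, taq_2_4, T.offDiag_nonneg u3 u4 hn_4_3.symm, T.w_pos u2, T.w_pos u3, T.w_pos u4]
                    · -- (2,4) Tm
                      exfalso
                      have key := Groth.Agent.Helper6.NT.negfun3 T h2 u2 u3 u4 (by norm_num) 2 2 3 (by norm_num) (by norm_num)
                      linarith only [key, tap_2_3, taq_2_3, tap_2_4, taq_2_4, T.offDiag_nonneg u3 u4 hn_4_3.symm, T.w_pos u2, T.w_pos u3, T.w_pos u4]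
                  · push Not at hx
                    have cl_2 := hx
                    clear hx
                    by_cases hx : ∃ j, (j ≠ u0 ∧ j ≠ u1 ∧ j ≠ u2 ∧ j ≠ u3) ∧ T.a u3 j ≠ 0
                    · obtain ⟨u4, ⟨hn_4_0, hn_4_1, hn_4_2, hn_4_3⟩, e_3_4⟩ := hx
                      have z_0_4 : T.a u0 u4 = 0 := cl_0 u4 ⟨hn_4_0, hn_4_1⟩
                      have z_1_4 : T.a u1 u4 = 0 := cl_1 u4 ⟨hn_4_0, hn_4_1, hn_4_2⟩
                      have z_2_4 : T.a u2 u4 = 0 := cl_2 u4 ⟨hn_4_0, hn_4_1, hn_4_2, hn_4_3⟩
                      rcases Groth.Agent.Helper6.NT.edge5 T h2 (by norm_num) u3 u4 hn_4_3.symm e_3_4 with ⟨tw_3_4, tap_3_4, taq_3_4⟩ | ⟨tw_3_4, tap_3_4, taq_3_4⟩ | ⟨tw_3_4, tap_3_4, taq_3_4⟩ | ⟨tw_3_4, tap_3_4, taq_3_4⟩ | ⟨tw_3_4, tap_3_4, taq_3_4⟩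
                      · -- (3,4) S
                        exfalso
                        have key := Groth.Agent.Helper6.NT.negfun5 T h2 u0 u1 u2 u3 u4 (by norm_num) 1 2 3 4 2 (by norm_num) (by norm_num)
                        linarith only [key, tap_0_1, taq_0_1, z_0_2, z_0_3, z_0_4, tap_1_2, taq_1_2, z_1_3, z_1_4, tap_2_3, taq_2_3, z_2_4, tap_3_4, taq_3_4, T.w_pos u0, T.w_pos u1, T.w_pos u2, T.w_pos u3, T.w_pos u4]
                      · -- (3,4) Dp
                        exfalso
                        have key := Groth.Agent.Helper6.NT.negfun3 T h2 u2 u3 u4 (by norm_num) 1 2 1 (by norm_num) (by norm_num)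
                        linarith only [key, tap_2_3, taq_2_3, z_2_4, tap_3_4, taq_3_4, T.w_pos u2, T.w_pos u3, T.w_pos u4]
                      · -- (3,4) Dm
                        exfalso
                        have key := Groth.Agent.Helper6.NT.negfun3 T h2 u2 u3 u4 (by norm_num) 1 2 2 (by norm_num) (by norm_num)
                        linarith only [key, tap_2_3, taq_2_3, z_2_4, tap_3_4, taq_3_4, T.w_pos u2, T.w_pos u3, T.w_pos u4]
                      · -- (3,4) Tp
                        exfalso
                        have key := Groth.Agent.Helper6.NT.negfun3 T h2 u2 u3 u4 (by norm_num) 1 2 1 (by norm_num) (by norm_num)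
                        linarith only [key, tap_2_3, taq_2_3, z_2_4, tap_3_4, taq_3_4, T.w_pos u2, T.w_pos u3, T.w_pos u4]
                      · -- (3,4) Tm
                        exfalso
                        have key := Groth.Agent.Helper6.NT.negfun3 T h2 u2 u3 u4 (by norm_num) 1 2 3 (by norm_num) (by norm_num)
                        linarith only [key, tap_2_3, taq_2_3, z_2_4, tap_3_4, taq_3_4, T.w_pos u2, T.w_pos u3, T.w_pos u4]
                    · push Not at hx
                      have cl_3 := hx
                      clear hx
                      exfalso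
                      refine Groth.Agent.Helper6.NT.closed_contra T [u0, u1, u2, u3] (by simp) (by simp) ?_
                      intro i hi j hj
                      simp only [List.mem_cons, List.not_mem_nil, or_false, not_or] at hi hj
                      rcases hi with rfl | rfl | rfl | rfl
                      · exact cl_0 j ⟨hj.1, hj.2.1⟩
                      · exact cl_1 j ⟨hj.1, hj.2.1, hj.2.2.1⟩
                      · exact cl_2 j ⟨hj.1, hj.2.1, hj.2.2.1, hj.2.2.2⟩
                      · exact cl_3 j ⟨hj.1, hj.2.1, hj.2.2.1, hj.2.2.2⟩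
                · -- (2,3) Tp
                  exfalso
                  have key := Groth.Agent.Helper6.NT.negfun3 T h2 u1 u2 u3 (by norm_num) 1 2 1 (by norm_num) (by norm_num)
                  linarith only [key, tap_1_2, taq_1_2, z_1_3, tap_2_3, taq_2_3, T.w_pos u1, T.w_pos u2, T.w_pos u3]
                · -- (2,3) Tm
                  exfalso
                  have key := Groth.Agent.Helper6.NT.negfun3 T h2 u1 u2 u3 (by norm_num) 1 2 3 (by norm_num) (by norm_num)
                  linarith only [key, tap_1_2, taq_1_2, z_1_3, tap_2_3, taq_2_3, T.w_pos u1, T.w_pos u2, T.w_pos u3]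
              · push Not at hx
                have cl_2 := hx
                clear hx
                exfalso
                refine Groth.Agent.Helper6.NT.closed_contra T [u0, u1, u2] (by simp) (by simp) ?_
                intro i hi j hj
                simp only [List.mem_cons, List.not_mem_nil, or_false, not_or] at hi hj
                rcases hi with rfl | rfl | rfl
                · exact cl_0 j ⟨hj.1, hj.2.1⟩
                · exact cl_1 j ⟨hj.1, hj.2.1, hj.2.2⟩
                · exact cl_2 j ⟨hj.1, hj.2.1, hj.2.2⟩
          · -- (1,2) Dp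
            by_cases hx : ∃ j, (j ≠ u0 ∧ j ≠ u1 ∧ j ≠ u2) ∧ T.a u1 j ≠ 0
            · obtain ⟨u3, ⟨hn_3_0, hn_3_1, hn_3_2⟩, e_1_3⟩ := hx
              have z_0_3 : T.a u0 u3 = 0 := cl_0 u3 ⟨hn_3_0, hn_3_1⟩
              rcases Groth.Agent.Helper6.NT.edge5 T h2 (by norm_num) u1 u3 hn_3_1.symm e_1_3 with ⟨tw_1_3, tap_1_3, taq_1_3⟩ | ⟨tw_1_3, tap_1_3, taq_1_3⟩ | ⟨tw_1_3, tap_1_3, taq_1_3⟩ | ⟨tw_1_3, tap_1_3, taq_1_3⟩ | ⟨tw_1_3, tap_1_3, taq_1_3⟩
              · -- (1,3) S
                exfalso
                have key := Groth.Agent.Helper6.NT.negfun4 T h2 u0 u1 u2 u3 (by norm_num) 1 2 1 1 (by norm_num) (by norm_num)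
                linarith only [key, tap_0_1, taq_0_1, z_0_2, z_0_3, tap_1_2, taq_1_2, tap_1_3, taq_1_3, T.offDiag_nonneg u2 u3 hn_3_2.symm, T.w_pos u0, T.w_pos u1, T.w_pos u2, T.w_pos u3]
              · -- (1,3) Dp
                exfalso
                have key := Groth.Agent.Helper6.NT.negfun3 T h2 u1 u2 u3 (by norm_num) 2 1 1 (by norm_num) (by norm_num)
                linarith only [key, tap_1_2, taq_1_2, tap_1_3, taq_1_3, T.offDiag_nonneg u2 u3 hn_3_2.symm, T.w_pos u1, T.w_pos u2, T.w_pos u3]
              · -- (1,3) Dm
                exfalso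
                have key := Groth.Agent.Helper6.NT.negfun3 T h2 u1 u2 u3 (by norm_num) 2 1 2 (by norm_num) (by norm_num)
                linarith only [key, tap_1_2, taq_1_2, tap_1_3, taq_1_3, T.offDiag_nonneg u2 u3 hn_3_2.symm, T.w_pos u1, T.w_pos u2, T.w_pos u3]
              · -- (1,3) Tp
                exfalso
                have key := Groth.Agent.Helper6.NT.negfun3 T h2 u1 u2 u3 (by norm_num) 2 1 1 (by norm_num) (by norm_num)
                linarith only [key, tap_1_2, taq_1_2, tap_1_3, taq_1_3, T.offDiag_nonneg u2 u3 hn_3_2.symm, T.w_pos u1, T.w_pos u2, T.w_pos u3]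
              · -- (1,3) Tm
                exfalso
                have key := Groth.Agent.Helper6.NT.negfun3 T h2 u1 u2 u3 (by norm_num) 2 1 3 (by norm_num) (by norm_num)
                linarith only [key, tap_1_2, taq_1_2, tap_1_3, taq_1_3, T.offDiag_nonneg u2 u3 hn_3_2.symm, T.w_pos u1, T.w_pos u2, T.w_pos u3]
            · push Not at hx
              have cl_1 := hx
              clear hx
              by_cases hx : ∃ j, (j ≠ u0 ∧ j ≠ u1 ∧ j ≠ u2) ∧ T.a u2 j ≠ 0
              · obtain ⟨u3, ⟨hn_3_0, hn_3_1, hn_3_2⟩, e_2_3⟩ := hx
                have z_0_3 : T.a u0 u3 = 0 := cl_0 u3 ⟨hn_3_0, hn_3_1⟩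
                have z_1_3 : T.a u1 u3 = 0 := cl_1 u3 ⟨hn_3_0, hn_3_1, hn_3_2⟩
                rcases Groth.Agent.Helper6.NT.edge5 T h2 (by norm_num) u2 u3 hn_3_2.symm e_2_3 with ⟨tw_2_3, tap_2_3, taq_2_3⟩ | ⟨tw_2_3, tap_2_3, taq_2_3⟩ | ⟨tw_2_3, tap_2_3, taq_2_3⟩ | ⟨tw_2_3, tap_2_3, taq_2_3⟩ | ⟨tw_2_3, tap_2_3, taq_2_3⟩
                · -- (2,3) S
                  by_cases hx : ∃ j, (j ≠ u0 ∧ j ≠ u1 ∧ j ≠ u2 ∧ j ≠ u3) ∧ T.a u2 j ≠ 0
                  · obtain ⟨u4, ⟨hn_4_0, hn_4_1, hn_4_2, hn_4_3⟩, e_2_4⟩ := hx
                    have z_0_4 : T.a u0 u4 = 0 := cl_0 u4 ⟨hn_4_0, hn_4_1⟩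
                    have z_1_4 : T.a u1 u4 = 0 := cl_1 u4 ⟨hn_4_0, hn_4_1, hn_4_2⟩
                    rcases Groth.Agent.Helper6.NT.edge5 T h2 (by norm_num) u2 u4 hn_4_2.symm e_2_4 with ⟨tw_2_4, tap_2_4, taq_2_4⟩ | ⟨tw_2_4, tap_2_4, taq_2_4⟩ | ⟨tw_2_4, tap_2_4, taq_2_4⟩ | ⟨tw_2_4, tap_2_4, taq_2_4⟩ | ⟨tw_2_4, tap_2_4, taq_2_4⟩
                    · -- (2,4) S
                      exfalso
                      have key := Groth.Agent.Helper6.NT.negfun4 T h2 u1 u2 u3 u4 (by norm_num) 2 2 1 1 (by norm_num) (by norm_num)
                      linarith only [key, tap_1_2, taq_1_2, z_1_3, z_1_4, tap_2_3, taq_2_3, tap_2_4, taq_2_4, T.offDiag_nonneg u3 u4 hn_4_3.symm, T.w_pos u1, T.w_pos u2, T.w_pos u3, T.w_pos u4]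
                    · -- (2,4) Dp
                      exfalso
                      have key := Groth.Agent.Helper6.NT.negfun3 T h2 u1 u2 u4 (by norm_num) 2 2 1 (by norm_num) (by norm_num)
                      linarith only [key, tap_1_2, taq_1_2, z_1_4, tap_2_4, taq_2_4, T.w_pos u1, T.w_pos u2, T.w_pos u4]
                    · -- (2,4) Dm
                      exfalso
                      have key := Groth.Agent.Helper6.NT.negfun3 T h2 u1 u2 u4 (by norm_num) 1 1 1 (by norm_num) (by norm_num)
                      linarith only [key, tap_1_2, taq_1_2, z_1_4, tap_2_4, taq_2_4, T.w_pos u1, T.w_pos u2, T.w_pos u4]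
                    · -- (2,4) Tp
                      exfalso
                      have key := Groth.Agent.Helper6.NT.negfun3 T h2 u2 u3 u4 (by norm_num) 2 1 1 (by norm_num) (by norm_num)
                      linarith only [key, tap_2_3, taq_2_3, tap_2_4, taq_2_4, T.offDiag_nonneg u3 u4 hn_4_3.symm, T.w_pos u2, T.w_pos u3, T.w_pos u4]
                    · -- (2,4) Tm
                      exfalso
                      have key := Groth.Agent.Helper6.NT.negfun3 T h2 u2 u3 u4 (by norm_num) 2 1 3 (by norm_num) (by norm_num)
                      linarith only [key, tap_2_3, taq_2_3, tap_2_4, taq_2_4, T.offDiag_nonneg u3 u4 hn_4_3.symm, T.w_pos u2, T.w_pos u3, T.w_pos u4]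
                  · push Not at hx
                    have cl_2 := hx
                    clear hx
                    by_cases hx : ∃ j, (j ≠ u0 ∧ j ≠ u1 ∧ j ≠ u2 ∧ j ≠ u3) ∧ T.a u3 j ≠ 0
                    · obtain ⟨u4, ⟨hn_4_0, hn_4_1, hn_4_2, hn_4_3⟩, e_3_4⟩ := hx
                      have z_0_4 : T.a u0 u4 = 0 := cl_0 u4 ⟨hn_4_0, hn_4_1⟩
                      have z_1_4 : T.a u1 u4 = 0 := cl_1 u4 ⟨hn_4_0, hn_4_1, hn_4_2⟩
                      have z_2_4 : T.a u2 u4 = 0 := cl_2 u4 ⟨hn_4_0, hn_4_1, hn_4_2, hn_4_3⟩
                      rcases Groth.Agent.Helper6.NT.edge5 T h2 (by norm_num) u3 u4 hn_4_3.symm e_3_4 with ⟨tw_3_4, tap_3_4, taq_3_4⟩ | ⟨tw_3_4, tap_3_4, taq_3_4⟩ | ⟨tw_3_4, tap_3_4, taq_3_4⟩ | ⟨tw_3_4, tap_3_4, taq_3_4⟩ | ⟨tw_3_4, tap_3_4, taq_3_4⟩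
                      · -- (3,4) S
                        exfalso
                        have key := Groth.Agent.Helper6.NT.negfun5 T h2 u0 u1 u2 u3 u4 (by norm_num) 2 4 3 2 1 (by norm_num) (by norm_num)
                        linarith only [key, tap_0_1, taq_0_1, z_0_2, z_0_3, z_0_4, tap_1_2, taq_1_2, z_1_3, z_1_4, tap_2_3, taq_2_3, z_2_4, tap_3_4, taq_3_4, T.w_pos u0, T.w_pos u1, T.w_pos u2, T.w_pos u3, T.w_pos u4]
                      · -- (3,4) Dp
                        exfalso
                        have key := Groth.Agent.Helper6.NT.negfun4 T h2 u1 u2 u3 u4 (by norm_num) 2 2 2 1 (by norm_num) (by norm_num)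
                        linarith only [key, tap_1_2, taq_1_2, z_1_3, z_1_4, tap_2_3, taq_2_3, z_2_4, tap_3_4, taq_3_4, T.w_pos u1, T.w_pos u2, T.w_pos u3, T.w_pos u4]
                      · -- (3,4) Dm
                        exfalso
                        have key := Groth.Agent.Helper6.NT.negfun4 T h2 u1 u2 u3 u4 (by norm_num) 1 1 1 1 (by norm_num) (by norm_num)
                        linarith only [key, tap_1_2, taq_1_2, z_1_3, z_1_4, tap_2_3, taq_2_3, z_2_4, tap_3_4, taq_3_4, T.w_pos u1, T.w_pos u2, T.w_pos u3, T.w_pos u4]
                      · -- (3,4) Tp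
                        exfalso
                        have key := Groth.Agent.Helper6.NT.negfun3 T h2 u2 u3 u4 (by norm_num) 1 2 1 (by norm_num) (by norm_num)
                        linarith only [key, tap_2_3, taq_2_3, z_2_4, tap_3_4, taq_3_4, T.w_pos u2, T.w_pos u3, T.w_pos u4]
                      · -- (3,4) Tm
                        exfalso
                        have key := Groth.Agent.Helper6.NT.negfun3 T h2 u2 u3 u4 (by norm_num) 1 2 3 (by norm_num) (by norm_num)
                        linarith only [key, tap_2_3, taq_2_3, z_2_4, tap_3_4, taq_3_4, T.w_pos u2, T.w_pos u3, T.w_pos u4]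
                    · push Not at hx
                      have cl_3 := hx
                      clear hx
                      exfalso
                      refine Groth.Agent.Helper6.NT.closed_contra T [u0, u1, u2, u3] (by simp) (by simp) ?_
                      intro i hi j hj
                      simp only [List.mem_cons, List.not_mem_nil, or_false, not_or] at hi hj
                      rcases hi with rfl | rfl | rfl | rfl
                      · exact cl_0 j ⟨hj.1, hj.2.1⟩
                      · exact cl_1 j ⟨hj.1, hj.2.1, hj.2.2.1⟩
                      · exact cl_2 j ⟨hj.1, hj.2.1, hj.2.2.1, hj.2.2.2⟩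
                      · exact cl_3 j ⟨hj.1, hj.2.1, hj.2.2.1, hj.2.2.2⟩
                · -- (2,3) Dp
                  exfalso
                  have key := Groth.Agent.Helper6.NT.negfun3 T h2 u1 u2 u3 (by norm_num) 2 2 1 (by norm_num) (by norm_num)
                  linarith only [key, tap_1_2, taq_1_2, z_1_3, tap_2_3, taq_2_3, T.w_pos u1, T.w_pos u2, T.w_pos u3]
                · -- (2,3) Dm
                  exfalso
                  have key := Groth.Agent.Helper6.NT.negfun3 T h2 u1 u2 u3 (by norm_num) 1 1 1 (by norm_num) (by norm_num)
                  linarith only [key, tap_1_2, taq_1_2, z_1_3, tap_2_3, taq_2_3, T.w_pos u1, T.w_pos u2, T.w_pos u3]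
                · -- (2,3) Tp
                  exfalso
                  have key := Groth.Agent.Helper6.NT.negfun3 T h2 u1 u2 u3 (by norm_num) 2 2 1 (by norm_num) (by norm_num)
                  linarith only [key, tap_1_2, taq_1_2, z_1_3, tap_2_3, taq_2_3, T.w_pos u1, T.w_pos u2, T.w_pos u3]
                · -- (2,3) Tm
                  exfalso
                  have key := Groth.Agent.Helper6.NT.negfun3 T h2 u1 u2 u3 (by norm_num) 2 2 3 (by norm_num) (by norm_num)
                  linarith only [key, tap_1_2, taq_1_2, z_1_3, tap_2_3, taq_2_3, T.w_pos u1, T.w_pos u2, T.w_pos u3]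
              · push Not at hx
                have cl_2 := hx
                clear hx
                exfalso
                refine Groth.Agent.Helper6.NT.closed_contra T [u0, u1, u2] (by simp) (by simp) ?_
                intro i hi j hj
                simp only [List.mem_cons, List.not_mem_nil, or_false, not_or] at hi hj
                rcases hi with rfl | rfl | rfl
                · exact cl_0 j ⟨hj.1, hj.2.1⟩
                · exact cl_1 j ⟨hj.1, hj.2.1, hj.2.2⟩
                · exact cl_2 j ⟨hj.1, hj.2.1, hj.2.2⟩
          · -- (1,2) Dm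
            by_cases hx : ∃ j, (j ≠ u0 ∧ j ≠ u1 ∧ j ≠ u2) ∧ T.a u1 j ≠ 0
            · obtain ⟨u3, ⟨hn_3_0, hn_3_1, hn_3_2⟩, e_1_3⟩ := hx
              have z_0_3 : T.a u0 u3 = 0 := cl_0 u3 ⟨hn_3_0, hn_3_1⟩
              rcases Groth.Agent.Helper6.NT.edge5 T h2 (by norm_num) u1 u3 hn_3_1.symm e_1_3 with ⟨tw_1_3, tap_1_3, taq_1_3⟩ | ⟨tw_1_3, tap_1_3, taq_1_3⟩ | ⟨tw_1_3, tap_1_3, taq_1_3⟩ | ⟨tw_1_3, tap_1_3, taq_1_3⟩ | ⟨tw_1_3, tap_1_3, taq_1_3⟩
              · -- (1,3) S
                exfalso
                have key := Groth.Agent.Helper6.NT.negfun4 T h2 u0 u1 u2 u3 (by norm_num) 1 2 2 1 (by norm_num) (by norm_num)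
                linarith only [key, tap_0_1, taq_0_1, z_0_2, z_0_3, tap_1_2, taq_1_2, tap_1_3, taq_1_3, T.offDiag_nonneg u2 u3 hn_3_2.symm, T.w_pos u0, T.w_pos u1, T.w_pos u2, T.w_pos u3]
              · -- (1,3) Dp
                exfalso
                have key := Groth.Agent.Helper6.NT.negfun3 T h2 u1 u2 u3 (by norm_num) 2 2 1 (by norm_num) (by norm_num)
                linarith only [key, tap_1_2, taq_1_2, tap_1_3, taq_1_3, T.offDiag_nonneg u2 u3 hn_3_2.symm, T.w_pos u1, T.w_pos u2, T.w_pos u3]
              · -- (1,3) Dm
                exfalso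
                have key := Groth.Agent.Helper6.NT.negfun3 T h2 u1 u2 u3 (by norm_num) 1 1 1 (by norm_num) (by norm_num)
                linarith only [key, tap_1_2, taq_1_2, tap_1_3, taq_1_3, T.offDiag_nonneg u2 u3 hn_3_2.symm, T.w_pos u1, T.w_pos u2, T.w_pos u3]
              · -- (1,3) Tp
                exfalso
                have key := Groth.Agent.Helper6.NT.negfun3 T h2 u1 u2 u3 (by norm_num) 2 2 1 (by norm_num) (by norm_num)
                linarith only [key, tap_1_2, taq_1_2, tap_1_3, taq_1_3, T.offDiag_nonneg u2 u3 hn_3_2.symm, T.w_pos u1, T.w_pos u2, T.w_pos u3]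
              · -- (1,3) Tm
                exfalso
                have key := Groth.Agent.Helper6.NT.negfun3 T h2 u1 u2 u3 (by norm_num) 2 2 3 (by norm_num) (by norm_num)
                linarith only [key, tap_1_2, taq_1_2, tap_1_3, taq_1_3, T.offDiag_nonneg u2 u3 hn_3_2.symm, T.w_pos u1, T.w_pos u2, T.w_pos u3]
            · push Not at hx
              have cl_1 := hx
              clear hx
              by_cases hx : ∃ j, (j ≠ u0 ∧ j ≠ u1 ∧ j ≠ u2) ∧ T.a u2 j ≠ 0
              · obtain ⟨u3, ⟨hn_3_0, hn_3_1, hn_3_2⟩, e_2_3⟩ := hx
                have z_0_3 : T.a u0 u3 = 0 := cl_0 u3 ⟨hn_3_0, hn_3_1⟩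
                have z_1_3 : T.a u1 u3 = 0 := cl_1 u3 ⟨hn_3_0, hn_3_1, hn_3_2⟩
                rcases Groth.Agent.Helper6.NT.edge5 T h2 (by norm_num) u2 u3 hn_3_2.symm e_2_3 with ⟨tw_2_3, tap_2_3, taq_2_3⟩ | ⟨tw_2_3, tap_2_3, taq_2_3⟩ | ⟨tw_2_3, tap_2_3, taq_2_3⟩ | ⟨tw_2_3, tap_2_3, taq_2_3⟩ | ⟨tw_2_3, tap_2_3, taq_2_3⟩
                · -- (2,3) S
                  by_cases hx : ∃ j, (j ≠ u0 ∧ j ≠ u1 ∧ j ≠ u2 ∧ j ≠ u3) ∧ T.a u2 j ≠ 0
                  · obtain ⟨u4, ⟨hn_4_0, hn_4_1, hn_4_2, hn_4_3⟩, e_2_4⟩ := hx
                    have z_0_4 : T.a u0 u4 = 0 := cl_0 u4 ⟨hn_4_0, hn_4_1⟩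
                    have z_1_4 : T.a u1 u4 = 0 := cl_1 u4 ⟨hn_4_0, hn_4_1, hn_4_2⟩
                    rcases Groth.Agent.Helper6.NT.edge5 T h2 (by norm_num) u2 u4 hn_4_2.symm e_2_4 with ⟨tw_2_4, tap_2_4, taq_2_4⟩ | ⟨tw_2_4, tap_2_4, taq_2_4⟩ | ⟨tw_2_4, tap_2_4, taq_2_4⟩ | ⟨tw_2_4, tap_2_4, taq_2_4⟩ | ⟨tw_2_4, tap_2_4, taq_2_4⟩
                    · -- (2,4) S
                      exfalso
                      have key := Groth.Agent.Helper6.NT.negfun4 T h2 u1 u2 u3 u4 (by norm_num) 1 2 1 1 (by norm_num) (by norm_num)
                      linarith only [key, tap_1_2, taq_1_2, z_1_3, z_1_4, tap_2_3, taq_2_3, tap_2_4, taq_2_4, T.offDiag_nonneg u3 u4 hn_4_3.symm, T.w_pos u1, T.w_pos u2, T.w_pos u3, T.w_pos u4]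
                    · -- (2,4) Dp
                      exfalso
                      have key := Groth.Agent.Helper6.NT.negfun3 T h2 u1 u2 u4 (by norm_num) 1 2 1 (by norm_num) (by norm_num)
                      linarith only [key, tap_1_2, taq_1_2, z_1_4, tap_2_4, taq_2_4, T.w_pos u1, T.w_pos u2, T.w_pos u4]
                    · -- (2,4) Dm
                      exfalso
                      have key := Groth.Agent.Helper6.NT.negfun3 T h2 u1 u2 u4 (by norm_num) 1 2 2 (by norm_num) (by norm_num)
                      linarith only [key, tap_1_2, taq_1_2, z_1_4, tap_2_4, taq_2_4, T.w_pos u1, T.w_pos u2, T.w_pos u4]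
                    · -- (2,4) Tp
                      exfalso
                      have key := Groth.Agent.Helper6.NT.negfun3 T h2 u2 u3 u4 (by norm_num) 2 1 1 (by norm_num) (by norm_num)
                      linarith only [key, tap_2_3, taq_2_3, tap_2_4, taq_2_4, T.offDiag_nonneg u3 u4 hn_4_3.symm, T.w_pos u2, T.w_pos u3, T.w_pos u4]
                    · -- (2,4) Tm
                      exfalso
                      have key := Groth.Agent.Helper6.NT.negfun3 T h2 u2 u3 u4 (by norm_num) 2 1 3 (by norm_num) (by norm_num)
                      linarith only [key, tap_2_3, taq_2_3, tap_2_4, taq_2_4, T.offDiag_nonneg u3 u4 hn_4_3.symm, T.w_pos u2, T.w_pos u3, T.w_pos u4]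
                  · push Not at hx
                    have cl_2 := hx
                    clear hx
                    by_cases hx : ∃ j, (j ≠ u0 ∧ j ≠ u1 ∧ j ≠ u2 ∧ j ≠ u3) ∧ T.a u3 j ≠ 0
                    · obtain ⟨u4, ⟨hn_4_0, hn_4_1, hn_4_2, hn_4_3⟩, e_3_4⟩ := hx
                      have z_0_4 : T.a u0 u4 = 0 := cl_0 u4 ⟨hn_4_0, hn_4_1⟩
                      have z_1_4 : T.a u1 u4 = 0 := cl_1 u4 ⟨hn_4_0, hn_4_1, hn_4_2⟩
                      have z_2_4 : T.a u2 u4 = 0 := cl_2 u4 ⟨hn_4_0, hn_4_1, hn_4_2, hn_4_3⟩
                      rcases Groth.Agent.Helper6.NT.edge5 T h2 (by norm_num) u3 u4 hn_4_3.symm e_3_4 with ⟨tw_3_4, tap_3_4, taq_3_4⟩ | ⟨tw_3_4, tap_3_4, taq_3_4⟩ | ⟨tw_3_4, tap_3_4, taq_3_4⟩ | ⟨tw_3_4, tap_3_4, taq_3_4⟩ | ⟨tw_3_4, tap_3_4, taq_3_4⟩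
                      · -- (3,4) S
                        exfalso
                        have key := Groth.Agent.Helper6.NT.negfun5 T h2 u0 u1 u2 u3 u4 (by norm_num) 1 2 3 2 1 (by norm_num) (by norm_num)
                        linarith only [key, tap_0_1, taq_0_1, z_0_2, z_0_3, z_0_4, tap_1_2, taq_1_2, z_1_3, z_1_4, tap_2_3, taq_2_3, z_2_4, tap_3_4, taq_3_4, T.w_pos u0, T.w_pos u1, T.w_pos u2, T.w_pos u3, T.w_pos u4]
                      · -- (3,4) Dp
                        exfalso
                        have key := Groth.Agent.Helper6.NT.negfun4 T h2 u1 u2 u3 u4 (by norm_num) 1 2 2 1 (by norm_num) (by norm_num)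
                        linarith only [key, tap_1_2, taq_1_2, z_1_3, z_1_4, tap_2_3, taq_2_3, z_2_4, tap_3_4, taq_3_4, T.w_pos u1, T.w_pos u2, T.w_pos u3, T.w_pos u4]
                      · -- (3,4) Dm
                        exfalso
                        have key := Groth.Agent.Helper6.NT.negfun4 T h2 u1 u2 u3 u4 (by norm_num) 1 2 2 2 (by norm_num) (by norm_num)
                        linarith only [key, tap_1_2, taq_1_2, z_1_3, z_1_4, tap_2_3, taq_2_3, z_2_4, tap_3_4, taq_3_4, T.w_pos u1, T.w_pos u2, T.w_pos u3, T.w_pos u4]
                      · -- (3,4) Tp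
                        exfalso
                        have key := Groth.Agent.Helper6.NT.negfun3 T h2 u2 u3 u4 (by norm_num) 1 2 1 (by norm_num) (by norm_num)
                        linarith only [key, tap_2_3, taq_2_3, z_2_4, tap_3_4, taq_3_4, T.w_pos u2, T.w_pos u3, T.w_pos u4]
                      · -- (3,4) Tm
                        exfalso
                        have key := Groth.Agent.Helper6.NT.negfun3 T h2 u2 u3 u4 (by norm_num) 1 2 3 (by norm_num) (by norm_num)
                        linarith only [key, tap_2_3, taq_2_3, z_2_4, tap_3_4, taq_3_4, T.w_pos u2, T.w_pos u3, T.w_pos u4]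
                    · push Not at hx
                      have cl_3 := hx
                      clear hx
                      exfalso
                      refine Groth.Agent.Helper6.NT.closed_contra T [u0, u1, u2, u3] (by simp) (by simp) ?_
                      intro i hi j hj
                      simp only [List.mem_cons, List.not_mem_nil, or_false, not_or] at hi hj
                      rcases hi with rfl | rfl | rfl | rfl
                      · exact cl_0 j ⟨hj.1, hj.2.1⟩
                      · exact cl_1 j ⟨hj.1, hj.2.1, hj.2.2.1⟩
                      · exact cl_2 j ⟨hj.1, hj.2.1, hj.2.2.1, hj.2.2.2⟩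
                      · exact cl_3 j ⟨hj.1, hj.2.1, hj.2.2.1, hj.2.2.2⟩
                · -- (2,3) Dp
                  exfalso
                  have key := Groth.Agent.Helper6.NT.negfun3 T h2 u1 u2 u3 (by norm_num) 1 2 1 (by norm_num) (by norm_num)
                  linarith only [key, tap_1_2, taq_1_2, z_1_3, tap_2_3, taq_2_3, T.w_pos u1, T.w_pos u2, T.w_pos u3]
                · -- (2,3) Dm
                  exfalso
                  have key := Groth.Agent.Helper6.NT.negfun3 T h2 u1 u2 u3 (by norm_num) 1 2 2 (by norm_num) (by norm_num)
                  linarith only [key, tap_1_2, taq_1_2, z_1_3, tap_2_3, taq_2_3, T.w_pos u1, T.w_pos u2, T.w_pos u3]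
                · -- (2,3) Tp
                  exfalso
                  have key := Groth.Agent.Helper6.NT.negfun3 T h2 u1 u2 u3 (by norm_num) 1 2 1 (by norm_num) (by norm_num)
                  linarith only [key, tap_1_2, taq_1_2, z_1_3, tap_2_3, taq_2_3, T.w_pos u1, T.w_pos u2, T.w_pos u3]
                · -- (2,3) Tm
                  exfalso
                  have key := Groth.Agent.Helper6.NT.negfun3 T h2 u1 u2 u3 (by norm_num) 1 2 3 (by norm_num) (by norm_num)
                  linarith only [key, tap_1_2, taq_1_2, z_1_3, tap_2_3, taq_2_3, T.w_pos u1, T.w_pos u2, T.w_pos u3]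
              · push Not at hx
                have cl_2 := hx
                clear hx
                exfalso
                refine Groth.Agent.Helper6.NT.closed_contra T [u0, u1, u2] (by simp) (by simp) ?_
                intro i hi j hj
                simp only [List.mem_cons, List.not_mem_nil, or_false, not_or] at hi hj
                rcases hi with rfl | rfl | rfl
                · exact cl_0 j ⟨hj.1, hj.2.1⟩
                · exact cl_1 j ⟨hj.1, hj.2.1, hj.2.2⟩
                · exact cl_2 j ⟨hj.1, hj.2.1, hj.2.2⟩
          · -- (1,2) Tp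
            exfalso
            have key := Groth.Agent.Helper6.NT.negfun3 T h2 u0 u1 u2 (by norm_num) 1 2 1 (by norm_num) (by norm_num)
            linarith only [key, tap_0_1, taq_0_1, z_0_2, tap_1_2, taq_1_2, T.w_pos u0, T.w_pos u1, T.w_pos u2]
          · -- (1,2) Tm
            exfalso
            have key := Groth.Agent.Helper6.NT.negfun3 T h2 u0 u1 u2 (by norm_num) 1 2 3 (by norm_num) (by norm_num)
            linarith only [key, tap_0_1, taq_0_1, z_0_2, tap_1_2, taq_1_2, T.w_pos u0, T.w_pos u1, T.w_pos u2]
        · push Not at hx
          have cl_1 := hx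
          clear hx
          exfalso
          refine Groth.Agent.Helper6.NT.closed_contra T [u0, u1] (by simp) (by simp) ?_
          intro i hi j hj
          simp only [List.mem_cons, List.not_mem_nil, or_false, not_or] at hi hj
          rcases hi with rfl | rfl
          · exact cl_0 j ⟨hj.1, hj.2⟩
          · exact cl_1 j ⟨hj.1, hj.2⟩
    · -- (0,1) Dp
      by_cases hx : ∃ j, (j ≠ u0 ∧ j ≠ u1) ∧ T.a u0 j ≠ 0
      · obtain ⟨u2, ⟨hn_2_0, hn_2_1⟩, e_0_2⟩ := hx
        rcases Groth.Agent.Helper6.NT.edge5 T h2 (by norm_num) u0 u2 hn_2_0.symm e_0_2 with ⟨tw_0_2, tap_0_2, taq_0_2⟩ | ⟨tw_0_2, tap_0_2, taq_0_2⟩ | ⟨tw_0_2, tap_0_2, taq_0_2⟩ | ⟨tw_0_2, tap_0_2, taq_0_2⟩ | ⟨tw_0_2, tap_0_2, taq_0_2⟩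
        · -- (0,2) S
          rcases eq_or_ne (T.a u1 u2) 0 with z_1_2 | nz_1_2
          · -- (1,2) zero
            by_cases hx : ∃ j, (j ≠ u0 ∧ j ≠ u1 ∧ j ≠ u2) ∧ T.a u0 j ≠ 0
            · obtain ⟨u3, ⟨hn_3_0, hn_3_1, hn_3_2⟩, e_0_3⟩ := hx
              rcases Groth.Agent.Helper6.NT.edge5 T h2 (by norm_num) u0 u3 hn_3_0.symm e_0_3 with ⟨tw_0_3, tap_0_3, taq_0_3⟩ | ⟨tw_0_3, tap_0_3, taq_0_3⟩ | ⟨tw_0_3, tap_0_3, taq_0_3⟩ | ⟨tw_0_3, tap_0_3, taq_0_3⟩ | ⟨tw_0_3, tap_0_3, taq_0_3⟩
              · -- (0,3) S
                exfalso
                have key := Groth.Agent.Helper6.NT.negfun4 T h2 u0 u1 u2 u3 (by norm_num) 2 1 1 1 (by norm_num) (by norm_num)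
                linarith only [key, tap_0_1, taq_0_1, tap_0_2, taq_0_2, tap_0_3, taq_0_3, z_1_2, T.offDiag_nonneg u1 u3 hn_3_1.symm, T.offDiag_nonneg u2 u3 hn_3_2.symm, T.w_pos u0, T.w_pos u1, T.w_pos u2, T.w_pos u3]
              · -- (0,3) Dp
                exfalso
                have key := Groth.Agent.Helper6.NT.negfun3 T h2 u0 u1 u3 (by norm_num) 2 1 1 (by norm_num) (by norm_num)
                linarith only [key, tap_0_1, taq_0_1, tap_0_3, taq_0_3, T.offDiag_nonneg u1 u3 hn_3_1.symm, T.w_pos u0, T.w_pos u1, T.w_pos u3]
              · -- (0,3) Dm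
                exfalso
                have key := Groth.Agent.Helper6.NT.negfun3 T h2 u0 u1 u3 (by norm_num) 2 1 2 (by norm_num) (by norm_num)
                linarith only [key, tap_0_1, taq_0_1, tap_0_3, taq_0_3, T.offDiag_nonneg u1 u3 hn_3_1.symm, T.w_pos u0, T.w_pos u1, T.w_pos u3]
              · -- (0,3) Tp
                exfalso
                have key := Groth.Agent.Helper6.NT.negfun3 T h2 u0 u2 u3 (by norm_num) 2 1 1 (by norm_num) (by norm_num)
                linarith only [key, tap_0_2, taq_0_2, tap_0_3, taq_0_3, T.offDiag_nonneg u2 u3 hn_3_2.symm, T.w_pos u0, T.w_pos u2, T.w_pos u3]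
              · -- (0,3) Tm
                exfalso
                have key := Groth.Agent.Helper6.NT.negfun3 T h2 u0 u2 u3 (by norm_num) 2 1 3 (by norm_num) (by norm_num)
                linarith only [key, tap_0_2, taq_0_2, tap_0_3, taq_0_3, T.offDiag_nonneg u2 u3 hn_3_2.symm, T.w_pos u0, T.w_pos u2, T.w_pos u3]
            · push Not at hx
              have cl_0 := hx
              clear hx
              by_cases hx : ∃ j, (j ≠ u0 ∧ j ≠ u1 ∧ j ≠ u2) ∧ T.a u1 j ≠ 0
              · obtain ⟨u3, ⟨hn_3_0, hn_3_1, hn_3_2⟩, e_1_3⟩ := hx
                have z_0_3 : T.a u0 u3 = 0 := cl_0 u3 ⟨hn_3_0, hn_3_1, hn_3_2⟩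
                rcases Groth.Agent.Helper6.NT.edge5 T h2 (by norm_num) u1 u3 hn_3_1.symm e_1_3 with ⟨tw_1_3, tap_1_3, taq_1_3⟩ | ⟨tw_1_3, tap_1_3, taq_1_3⟩ | ⟨tw_1_3, tap_1_3, taq_1_3⟩ | ⟨tw_1_3, tap_1_3, taq_1_3⟩ | ⟨tw_1_3, tap_1_3, taq_1_3⟩
                · -- (1,3) S
                  rcases eq_or_ne (T.a u2 u3) 0 with z_2_3 | nz_2_3
                  · -- (2,3) zero
                    by_cases hx : ∃ j, (j ≠ u0 ∧ j ≠ u1 ∧ j ≠ u2 ∧ j ≠ u3) ∧ T.a u1 j ≠ 0
                    · obtain ⟨u4, ⟨hn_4_0, hn_4_1, hn_4_2, hn_4_3⟩, e_1_4⟩ := hx
                      have z_0_4 : T.a u0 u4 = 0 := cl_0 u4 ⟨hn_4_0, hn_4_1, hn_4_2⟩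
                      rcases Groth.Agent.Helper6.NT.edge5 T h2 (by norm_num) u1 u4 hn_4_1.symm e_1_4 with ⟨tw_1_4, tap_1_4, taq_1_4⟩ | ⟨tw_1_4, tap_1_4, taq_1_4⟩ | ⟨tw_1_4, tap_1_4, taq_1_4⟩ | ⟨tw_1_4, tap_1_4, taq_1_4⟩ | ⟨tw_1_4, tap_1_4, taq_1_4⟩
                      · -- (1,4) S
                        exfalso
                        have key := Groth.Agent.Helper6.NT.negfun4 T h2 u0 u1 u3 u4 (by norm_num) 2 2 1 1 (by norm_num) (by norm_num)
                        linarith only [key, tap_0_1, taq_0_1, z_0_3, z_0_4, tap_1_3, taq_1_3, tap_1_4, taq_1_4, T.offDiag_nonneg u3 u4 hn_4_3.symm, T.w_pos u0, T.w_pos u1, T.w_pos u3, T.w_pos u4]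
                      · -- (1,4) Dp
                        exfalso
                        have key := Groth.Agent.Helper6.NT.negfun3 T h2 u0 u1 u4 (by norm_num) 2 2 1 (by norm_num) (by norm_num)
                        linarith only [key, tap_0_1, taq_0_1, z_0_4, tap_1_4, taq_1_4, T.w_pos u0, T.w_pos u1, T.w_pos u4]
                      · -- (1,4) Dm
                        exfalso
                        have key := Groth.Agent.Helper6.NT.negfun3 T h2 u0 u1 u4 (by norm_num) 1 1 1 (by norm_num) (by norm_num)
                        linarith only [key, tap_0_1, taq_0_1, z_0_4, tap_1_4, taq_1_4, T.w_pos u0, T.w_pos u1, T.w_pos u4]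
                      · -- (1,4) Tp
                        exfalso
                        have key := Groth.Agent.Helper6.NT.negfun3 T h2 u1 u3 u4 (by norm_num) 2 1 1 (by norm_num) (by norm_num)
                        linarith only [key, tap_1_3, taq_1_3, tap_1_4, taq_1_4, T.offDiag_nonneg u3 u4 hn_4_3.symm, T.w_pos u1, T.w_pos u3, T.w_pos u4]
                      · -- (1,4) Tm
                        exfalso
                        have key := Groth.Agent.Helper6.NT.negfun3 T h2 u1 u3 u4 (by norm_num) 2 1 3 (by norm_num) (by norm_num)
                        linarith only [key, tap_1_3, taq_1_3, tap_1_4, taq_1_4, T.offDiag_nonneg u3 u4 hn_4_3.symm, T.w_pos u1, T.w_pos u3, T.w_pos u4]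
                    · push Not at hx
                      have cl_1 := hx
                      clear hx
                      by_cases hx : ∃ j, (j ≠ u0 ∧ j ≠ u1 ∧ j ≠ u2 ∧ j ≠ u3) ∧ T.a u2 j ≠ 0
                      · obtain ⟨u4, ⟨hn_4_0, hn_4_1, hn_4_2, hn_4_3⟩, e_2_4⟩ := hx
                        have z_0_4 : T.a u0 u4 = 0 := cl_0 u4 ⟨hn_4_0, hn_4_1, hn_4_2⟩
                        have z_1_4 : T.a u1 u4 = 0 := cl_1 u4 ⟨hn_4_0, hn_4_1, hn_4_2, hn_4_3⟩
                        rcases Groth.Agent.Helper6.NT.edge5 T h2 (by norm_num) u2 u4 hn_4_2.symm e_2_4 with ⟨tw_2_4, tap_2_4, taq_2_4⟩ | ⟨tw_2_4, tap_2_4, taq_2_4⟩ | ⟨tw_2_4, tap_2_4, taq_2_4⟩ | ⟨tw_2_4, tap_2_4, taq_2_4⟩ | ⟨tw_2_4, tap_2_4, taq_2_4⟩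
                        · -- (2,4) S
                          exfalso
                          have key := Groth.Agent.Helper6.NT.negfun5 T h2 u0 u1 u2 u3 u4 (by norm_num) 3 2 2 1 1 (by norm_num) (by norm_num)
                          linarith only [key, tap_0_1, taq_0_1, tap_0_2, taq_0_2, z_0_3, z_0_4, z_1_2, tap_1_3, taq_1_3, z_1_4, z_2_3, tap_2_4, taq_2_4, T.offDiag_nonneg u3 u4 hn_4_3.symm, T.w_pos u0, T.w_pos u1, T.w_pos u2, T.w_pos u3, T.w_pos u4]
                        · -- (2,4) Dp
                          exfalso
                          have key := Groth.Agent.Helper6.NT.negfun4 T h2 u0 u1 u2 u4 (by norm_num) 2 1 2 1 (by norm_num) (by norm_num)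
                          linarith only [key, tap_0_1, taq_0_1, tap_0_2, taq_0_2, z_0_4, z_1_2, z_1_4, tap_2_4, taq_2_4, T.w_pos u0, T.w_pos u1, T.w_pos u2, T.w_pos u4]
                        · -- (2,4) Dm
                          exfalso
                          have key := Groth.Agent.Helper6.NT.negfun4 T h2 u0 u1 u2 u4 (by norm_num) 2 1 2 2 (by norm_num) (by norm_num)
                          linarith only [key, tap_0_1, taq_0_1, tap_0_2, taq_0_2, z_0_4, z_1_2, z_1_4, tap_2_4, taq_2_4, T.w_pos u0, T.w_pos u1, T.w_pos u2, T.w_pos u4]
                        · -- (2,4) Tp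
                          exfalso
                          have key := Groth.Agent.Helper6.NT.negfun3 T h2 u0 u2 u4 (by norm_num) 1 2 1 (by norm_num) (by norm_num)
                          linarith only [key, tap_0_2, taq_0_2, z_0_4, tap_2_4, taq_2_4, T.w_pos u0, T.w_pos u2, T.w_pos u4]
                        · -- (2,4) Tm
                          exfalso
                          have key := Groth.Agent.Helper6.NT.negfun3 T h2 u0 u2 u4 (by norm_num) 1 2 3 (by norm_num) (by norm_num)
                          linarith only [key, tap_0_2, taq_0_2, z_0_4, tap_2_4, taq_2_4, T.w_pos u0, T.w_pos u2, T.w_pos u4]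
                      · push Not at hx
                        have cl_2 := hx
                        clear hx
                        by_cases hx : ∃ j, (j ≠ u0 ∧ j ≠ u1 ∧ j ≠ u2 ∧ j ≠ u3) ∧ T.a u3 j ≠ 0
                        · obtain ⟨u4, ⟨hn_4_0, hn_4_1, hn_4_2, hn_4_3⟩, e_3_4⟩ := hx
                          have z_0_4 : T.a u0 u4 = 0 := cl_0 u4 ⟨hn_4_0, hn_4_1, hn_4_2⟩
                          have z_1_4 : T.a u1 u4 = 0 := cl_1 u4 ⟨hn_4_0, hn_4_1, hn_4_2, hn_4_3⟩
                          have z_2_4 : T.a u2 u4 = 0 := cl_2 u4 ⟨hn_4_0, hn_4_1, hn_4_2, hn_4_3⟩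
                          rcases Groth.Agent.Helper6.NT.edge5 T h2 (by norm_num) u3 u4 hn_4_3.symm e_3_4 with ⟨tw_3_4, tap_3_4, taq_3_4⟩ | ⟨tw_3_4, tap_3_4, taq_3_4⟩ | ⟨tw_3_4, tap_3_4, taq_3_4⟩ | ⟨tw_3_4, tap_3_4, taq_3_4⟩ | ⟨tw_3_4, tap_3_4, taq_3_4⟩
                          · -- (3,4) S
                            exfalso
                            have key := Groth.Agent.Helper6.NT.negfun5 T h2 u0 u1 u2 u3 u4 (by norm_num) 4 3 2 2 1 (by norm_num) (by norm_num)
                            linarith only [key, tap_0_1, taq_0_1, tap_0_2, taq_0_2, z_0_3, z_0_4, z_1_2, tap_1_3, taq_1_3, z_1_4, z_2_3, z_2_4, tap_3_4, taq_3_4, T.w_pos u0, T.w_pos u1, T.w_pos u2, T.w_pos u3, T.w_pos u4]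
                          · -- (3,4) Dp
                            exfalso
                            have key := Groth.Agent.Helper6.NT.negfun4 T h2 u0 u1 u3 u4 (by norm_num) 2 2 2 1 (by norm_num) (by norm_num)
                            linarith only [key, tap_0_1, taq_0_1, z_0_3, z_0_4, tap_1_3, taq_1_3, z_1_4, tap_3_4, taq_3_4, T.w_pos u0, T.w_pos u1, T.w_pos u3, T.w_pos u4]
                          · -- (3,4) Dm
                            exfalso
                            have key := Groth.Agent.Helper6.NT.negfun4 T h2 u0 u1 u3 u4 (by norm_num) 1 1 1 1 (by norm_num) (by norm_num)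
                            linarith only [key, tap_0_1, taq_0_1, z_0_3, z_0_4, tap_1_3, taq_1_3, z_1_4, tap_3_4, taq_3_4, T.w_pos u0, T.w_pos u1, T.w_pos u3, T.w_pos u4]
                          · -- (3,4) Tp
                            exfalso
                            have key := Groth.Agent.Helper6.NT.negfun3 T h2 u1 u3 u4 (by norm_num) 1 2 1 (by norm_num) (by norm_num)
                            linarith only [key, tap_1_3, taq_1_3, z_1_4, tap_3_4, taq_3_4, T.w_pos u1, T.w_pos u3, T.w_pos u4]
                          · -- (3,4) Tm
                            exfalso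
                            have key := Groth.Agent.Helper6.NT.negfun3 T h2 u1 u3 u4 (by norm_num) 1 2 3 (by norm_num) (by norm_num)
                            linarith only [key, tap_1_3, taq_1_3, z_1_4, tap_3_4, taq_3_4, T.w_pos u1, T.w_pos u3, T.w_pos u4]
                        · push Not at hx
                          have cl_3 := hx
                          clear hx
                          exfalso
                          refine Groth.Agent.Helper6.NT.closed_contra T [u0, u1, u2, u3] (by simp) (by simp) ?_
                          intro i hi j hj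
                          simp only [List.mem_cons, List.not_mem_nil, or_false, not_or] at hi hj
                          rcases hi with rfl | rfl | rfl | rfl
                          · exact cl_0 j ⟨hj.1, hj.2.1, hj.2.2.1⟩
                          · exact cl_1 j ⟨hj.1, hj.2.1, hj.2.2.1, hj.2.2.2⟩
                          · exact cl_2 j ⟨hj.1, hj.2.1, hj.2.2.1, hj.2.2.2⟩
                          · exact cl_3 j ⟨hj.1, hj.2.1, hj.2.2.1, hj.2.2.2⟩
                  · -- (2,3) nonzero
                    obtain ⟨lbp_2_3, lbq_2_3⟩ := Groth.Agent.Helper6.NT.lb T u2 u3 hn_3_2.symm nz_2_3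
                    exfalso
                    have key := Groth.Agent.Helper6.NT.negfun4 T h2 u0 u1 u2 u3 (by norm_num) 3 2 2 2 (by norm_num) (by norm_num)
                    linarith only [key, tap_0_1, taq_0_1, tap_0_2, taq_0_2, z_0_3, z_1_2, tap_1_3, taq_1_3, lbp_2_3, lbq_2_3, T.w_pos u0, T.w_pos u1, T.w_pos u2, T.w_pos u3]
                · -- (1,3) Dp
                  exfalso
                  have key := Groth.Agent.Helper6.NT.negfun3 T h2 u0 u1 u3 (by norm_num) 2 2 1 (by norm_num) (by norm_num)
                  linarith only [key, tap_0_1, taq_0_1, z_0_3, tap_1_3, taq_1_3, T.w_pos u0, T.w_pos u1, T.w_pos u3]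
                · -- (1,3) Dm
                  exfalso
                  have key := Groth.Agent.Helper6.NT.negfun3 T h2 u0 u1 u3 (by norm_num) 1 1 1 (by norm_num) (by norm_num)
                  linarith only [key, tap_0_1, taq_0_1, z_0_3, tap_1_3, taq_1_3, T.w_pos u0, T.w_pos u1, T.w_pos u3]
                · -- (1,3) Tp
                  exfalso
                  have key := Groth.Agent.Helper6.NT.negfun3 T h2 u0 u1 u3 (by norm_num) 2 2 1 (by norm_num) (by norm_num)
                  linarith only [key, tap_0_1, taq_0_1, z_0_3, tap_1_3, taq_1_3, T.w_pos u0, T.w_pos u1, T.w_pos u3]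
                · -- (1,3) Tm
                  exfalso
                  have key := Groth.Agent.Helper6.NT.negfun3 T h2 u0 u1 u3 (by norm_num) 2 2 3 (by norm_num) (by norm_num)
                  linarith only [key, tap_0_1, taq_0_1, z_0_3, tap_1_3, taq_1_3, T.w_pos u0, T.w_pos u1, T.w_pos u3]
              · push Not at hx
                have cl_1 := hx
                clear hx
                by_cases hx : ∃ j, (j ≠ u0 ∧ j ≠ u1 ∧ j ≠ u2) ∧ T.a u2 j ≠ 0
                · obtain ⟨u3, ⟨hn_3_0, hn_3_1, hn_3_2⟩, e_2_3⟩ := hx
                  have z_0_3 : T.a u0 u3 = 0 := cl_0 u3 ⟨hn_3_0, hn_3_1, hn_3_2⟩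
                  have z_1_3 : T.a u1 u3 = 0 := cl_1 u3 ⟨hn_3_0, hn_3_1, hn_3_2⟩
                  rcases Groth.Agent.Helper6.NT.edge5 T h2 (by norm_num) u2 u3 hn_3_2.symm e_2_3 with ⟨tw_2_3, tap_2_3, taq_2_3⟩ | ⟨tw_2_3, tap_2_3, taq_2_3⟩ | ⟨tw_2_3, tap_2_3, taq_2_3⟩ | ⟨tw_2_3, tap_2_3, taq_2_3⟩ | ⟨tw_2_3, tap_2_3, taq_2_3⟩
                  · -- (2,3) S
                    by_cases hx : ∃ j, (j ≠ u0 ∧ j ≠ u1 ∧ j ≠ u2 ∧ j ≠ u3) ∧ T.a u2 j ≠ 0
                    · obtain ⟨u4, ⟨hn_4_0, hn_4_1, hn_4_2, hn_4_3⟩, e_2_4⟩ := hx
                      have z_0_4 : T.a u0 u4 = 0 := cl_0 u4 ⟨hn_4_0, hn_4_1, hn_4_2⟩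
                      have z_1_4 : T.a u1 u4 = 0 := cl_1 u4 ⟨hn_4_0, hn_4_1, hn_4_2⟩
                      rcases Groth.Agent.Helper6.NT.edge5 T h2 (by norm_num) u2 u4 hn_4_2.symm e_2_4 with ⟨tw_2_4, tap_2_4, taq_2_4⟩ | ⟨tw_2_4, tap_2_4, taq_2_4⟩ | ⟨tw_2_4, tap_2_4, taq_2_4⟩ | ⟨tw_2_4, tap_2_4, taq_2_4⟩ | ⟨tw_2_4, tap_2_4, taq_2_4⟩
                      · -- (2,4) S
                        exfalso
                        have key := Groth.Agent.Helper6.NT.negfun5 T h2 u0 u1 u2 u3 u4 (by norm_num) 2 1 2 1 1 (by norm_num) (by norm_num)
                        linarith only [key, tap_0_1, taq_0_1, tap_0_2, taq_0_2, z_0_3, z_0_4, z_1_2, z_1_3, z_1_4, tap_2_3, taq_2_3, tap_2_4, taq_2_4, T.offDiag_nonneg u3 u4 hn_4_3.symm, T.w_pos u0, T.w_pos u1, T.w_pos u2, T.w_pos u3, T.w_pos u4]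
                      · -- (2,4) Dp
                        exfalso
                        have key := Groth.Agent.Helper6.NT.negfun4 T h2 u0 u2 u3 u4 (by norm_num) 1 2 1 1 (by norm_num) (by norm_num)
                        linarith only [key, tap_0_2, taq_0_2, z_0_3, z_0_4, tap_2_3, taq_2_3, tap_2_4, taq_2_4, T.offDiag_nonneg u3 u4 hn_4_3.symm, T.w_pos u0, T.w_pos u2, T.w_pos u3, T.w_pos u4]
                      · -- (2,4) Dm
                        exfalso
                        have key := Groth.Agent.Helper6.NT.negfun4 T h2 u0 u2 u3 u4 (by norm_num) 1 2 1 2 (by norm_num) (by norm_num)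
                        linarith only [key, tap_0_2, taq_0_2, z_0_3, z_0_4, tap_2_3, taq_2_3, tap_2_4, taq_2_4, T.offDiag_nonneg u3 u4 hn_4_3.symm, T.w_pos u0, T.w_pos u2, T.w_pos u3, T.w_pos u4]
                      · -- (2,4) Tp
                        exfalso
                        have key := Groth.Agent.Helper6.NT.negfun3 T h2 u2 u3 u4 (by norm_num) 2 1 1 (by norm_num) (by norm_num)
                        linarith only [key, tap_2_3, taq_2_3, tap_2_4, taq_2_4, T.offDiag_nonneg u3 u4 hn_4_3.symm, T.w_pos u2, T.w_pos u3, T.w_pos u4]
                      · -- (2,4) Tm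
                        exfalso
                        have key := Groth.Agent.Helper6.NT.negfun3 T h2 u2 u3 u4 (by norm_num) 2 1 3 (by norm_num) (by norm_num)
                        linarith only [key, tap_2_3, taq_2_3, tap_2_4, taq_2_4, T.offDiag_nonneg u3 u4 hn_4_3.symm, T.w_pos u2, T.w_pos u3, T.w_pos u4]
                    · push Not at hx
                      have cl_2 := hx
                      clear hx
                      by_cases hx : ∃ j, (j ≠ u0 ∧ j ≠ u1 ∧ j ≠ u2 ∧ j ≠ u3) ∧ T.a u3 j ≠ 0
                      · obtain ⟨u4, ⟨hn_4_0, hn_4_1, hn_4_2, hn_4_3⟩, e_3_4⟩ := hx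
                        have z_0_4 : T.a u0 u4 = 0 := cl_0 u4 ⟨hn_4_0, hn_4_1, hn_4_2⟩
                        have z_1_4 : T.a u1 u4 = 0 := cl_1 u4 ⟨hn_4_0, hn_4_1, hn_4_2⟩
                        have z_2_4 : T.a u2 u4 = 0 := cl_2 u4 ⟨hn_4_0, hn_4_1, hn_4_2, hn_4_3⟩
                        rcases Groth.Agent.Helper6.NT.edge5 T h2 (by norm_num) u3 u4 hn_4_3.symm e_3_4 with ⟨tw_3_4, tap_3_4, taq_3_4⟩ | ⟨tw_3_4, tap_3_4, taq_3_4⟩ | ⟨tw_3_4, tap_3_4, taq_3_4⟩ | ⟨tw_3_4, tap_3_4, taq_3_4⟩ | ⟨tw_3_4, tap_3_4, taq_3_4⟩
                        · -- (3,4) S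
                          by_cases hx : ∃ j, (j ≠ u0 ∧ j ≠ u1 ∧ j ≠ u2 ∧ j ≠ u3 ∧ j ≠ u4) ∧ T.a u3 j ≠ 0
                          · obtain ⟨u5, ⟨hn_5_0, hn_5_1, hn_5_2, hn_5_3, hn_5_4⟩, e_3_5⟩ := hx
                            have z_0_5 : T.a u0 u5 = 0 := cl_0 u5 ⟨hn_5_0, hn_5_1, hn_5_2⟩
                            have z_1_5 : T.a u1 u5 = 0 := cl_1 u5 ⟨hn_5_0, hn_5_1, hn_5_2⟩
                            have z_2_5 : T.a u2 u5 = 0 := cl_2 u5 ⟨hn_5_0, hn_5_1, hn_5_2, hn_5_3⟩
                            rcases Groth.Agent.Helper6.NT.edge5 T h2 (by norm_num) u3 u5 hn_5_3.symm e_3_5 with ⟨tw_3_5, tap_3_5, taq_3_5⟩ | ⟨tw_3_5, tap_3_5, taq_3_5⟩ | ⟨tw_3_5, tap_3_5, taq_3_5⟩ | ⟨tw_3_5, tap_3_5, taq_3_5⟩ | ⟨tw_3_5, tap_3_5, taq_3_5⟩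
                            · -- (3,5) S
                              rcases eq_or_ne (T.a u4 u5) 0 with z_4_5 | nz_4_5
                              · -- (4,5) zero
                                have hinj := Groth.Agent.Helper6.NT.inj6 u0 u1 u2 u3 u4 u5 hn_1_0 hn_2_0 hn_2_1 hn_3_0 hn_3_1 hn_3_2 hn_4_0 hn_4_1 hn_4_2 hn_4_3 hn_5_0 hn_5_1 hn_5_2 hn_5_3 hn_5_4
                                have r_0 : -2 * T.m u0 + 2 * T.m u1 + 1 * T.m u2 = 0 := by
                                  have key := Groth.Agent.Helper6.NT.rowfun6 T u0 u1 u2 u3 u4 u5 hinj u0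
                                  rw [(h2 u0).2, tap_0_1, tap_0_2, z_0_3, z_0_4, z_0_5] at key
                                  exact mul_left_cancel₀ (T.w_pos u0).ne' (by linarith only [key])
                                have r_1 : 1 * T.m u0 + -2 * T.m u1 = 0 := by
                                  have key := Groth.Agent.Helper6.NT.rowfun6 T u0 u1 u2 u3 u4 u5 hinj u1
                                  rw [Groth.Agent.Helper6.NT.symm' T u1 u0, taq_0_1, (h2 u1).2, z_1_2, z_1_3, z_1_4, z_1_5] at key
                                  exact mul_left_cancel₀ (T.w_pos u1).ne' (by linarith only [key])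
                                have r_2 : 1 * T.m u0 + -2 * T.m u2 + 1 * T.m u3 = 0 := by
                                  have key := Groth.Agent.Helper6.NT.rowfun6 T u0 u1 u2 u3 u4 u5 hinj u2
                                  rw [Groth.Agent.Helper6.NT.symm' T u2 u0, taq_0_2, Groth.Agent.Helper6.NT.symm' T u2 u1, z_1_2, (h2 u2).2, tap_2_3, z_2_4, z_2_5] at key
                                  exact mul_left_cancel₀ (T.w_pos u2).ne' (by linarith only [key])
                                have r_3 : 1 * T.m u2 + -2 * T.m u3 + 1 * T.m u4 + 1 * T.m u5 = 0 := by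
                                  have key := Groth.Agent.Helper6.NT.rowfun6 T u0 u1 u2 u3 u4 u5 hinj u3
                                  rw [Groth.Agent.Helper6.NT.symm' T u3 u0, z_0_3, Groth.Agent.Helper6.NT.symm' T u3 u1, z_1_3, Groth.Agent.Helper6.NT.symm' T u3 u2, taq_2_3, (h2 u3).2, tap_3_4, tap_3_5] at key
                                  exact mul_left_cancel₀ (T.w_pos u3).ne' (by linarith only [key])
                                have r_4 : 1 * T.m u3 + -2 * T.m u4 = 0 := by
                                  have key := Groth.Agent.Helper6.NT.rowfun6 T u0 u1 u2 u3 u4 u5 hinj u4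
                                  rw [Groth.Agent.Helper6.NT.symm' T u4 u0, z_0_4, Groth.Agent.Helper6.NT.symm' T u4 u1, z_1_4, Groth.Agent.Helper6.NT.symm' T u4 u2, z_2_4, Groth.Agent.Helper6.NT.symm' T u4 u3, taq_3_4, (h2 u4).2, z_4_5] at key
                                  exact mul_left_cancel₀ (T.w_pos u4).ne' (by linarith only [key])
                                have r_5 : 1 * T.m u3 + -2 * T.m u5 = 0 := by
                                  have key := Groth.Agent.Helper6.NT.rowfun6 T u0 u1 u2 u3 u4 u5 hinj u5
                                  rw [Groth.Agent.Helper6.NT.symm' T u5 u0, z_0_5, Groth.Agent.Helper6.NT.symm' T u5 u1, z_1_5, Groth.Agent.Helper6.NT.symm' T u5 u2, z_2_5, Groth.Agent.Helper6.NT.symm' T u5 u3, taq_3_5, Groth.Agent.Helper6.NT.symm' T u5 u4, z_4_5, (h2 u5).2] at key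
                                  exact mul_left_cancel₀ (T.w_pos u5).ne' (by linarith only [key])
                                have f0 : T.m u1 = T.m u1 := rfl
                                have f1 : T.m u0 = 2 * T.m u1 := by linarith only [r_0, r_1, r_2, r_3, r_4, r_5]
                                have f2 : T.m u2 = 2 * T.m u1 := by linarith only [r_0, r_1, r_2, r_3, r_4, r_5]
                                have f3 : T.m u3 = 2 * T.m u1 := by linarith only [r_0, r_1, r_2, r_3, r_4, r_5]
                                have f4 : T.m u4 = T.m u1 := by linarith only [r_0, r_1, r_2, r_3, r_4, r_5]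
                                have f5 : T.m u5 = T.m u1 := by linarith only [r_0, r_1, r_2, r_3, r_4, r_5]
                                have f6 : T.w u1 = 2 * T.w u0 := by linarith only [tw_0_1, tw_0_2, tw_2_3, tw_3_4, tw_3_5]
                                have f7 : T.w u0 = T.w u0 := rfl
                                have f8 : T.w u2 = T.w u0 := by linarith only [tw_0_1, tw_0_2, tw_2_3, tw_3_4, tw_3_5]
                                have f9 : T.w u3 = T.w u0 := by linarith only [tw_0_1, tw_0_2, tw_2_3, tw_3_4, tw_3_5]
                                have f10 : T.w u4 = T.w u0 := by linarith only [tw_0_1, tw_0_2, tw_2_3, tw_3_4, tw_3_5]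
                                have f11 : T.w u5 = T.w u0 := by linarith only [tw_0_1, tw_0_2, tw_2_3, tw_3_4, tw_3_5]
                                have f12 : T.a u1 u1 = -4 * T.w u0 := by have := (h2 u1).2; linarith only [this, tw_0_1, tw_0_2, tw_2_3, tw_3_4, tw_3_5]
                                have f13 : T.a u1 u0 = 2 * T.w u0 := by rw [Groth.Agent.Helper6.NT.symm' T u1 u0]; linarith only [tap_0_1, tw_0_1, tw_0_2, tw_2_3, tw_3_4, tw_3_5]
                                have f14 : T.a u1 u2 = 0 := by exact z_1_2
                                have f15 : T.a u1 u3 = 0 := by exact z_1_3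
                                have f16 : T.a u1 u4 = 0 := by exact z_1_4
                                have f17 : T.a u1 u5 = 0 := by exact z_1_5
                                have f18 : T.a u0 u0 = -2 * T.w u0 := by have := (h2 u0).2; linarith only [this, tw_0_1, tw_0_2, tw_2_3, tw_3_4, tw_3_5]
                                have f19 : T.a u0 u2 = T.w u0 := by linarith only [tap_0_2, tw_0_1, tw_0_2, tw_2_3, tw_3_4, tw_3_5]
                                have f20 : T.a u0 u3 = 0 := by exact z_0_3
                                have f21 : T.a u0 u4 = 0 := by exact z_0_4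
                                have f22 : T.a u0 u5 = 0 := by exact z_0_5
                                have f23 : T.a u2 u2 = -2 * T.w u0 := by have := (h2 u2).2; linarith only [this, tw_0_1, tw_0_2, tw_2_3, tw_3_4, tw_3_5]
                                have f24 : T.a u2 u3 = T.w u0 := by linarith only [tap_2_3, tw_0_1, tw_0_2, tw_2_3, tw_3_4, tw_3_5]
                                have f25 : T.a u2 u4 = 0 := by exact z_2_4
                                have f26 : T.a u2 u5 = 0 := by exact z_2_5
                                have f27 : T.a u3 u3 = -2 * T.w u0 := by have := (h2 u3).2; linarith only [this, tw_0_1, tw_0_2, tw_2_3, tw_3_4, tw_3_5]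
                                have f28 : T.a u3 u4 = T.w u0 := by linarith only [tap_3_4, tw_0_1, tw_0_2, tw_2_3, tw_3_4, tw_3_5]
                                have f29 : T.a u3 u5 = T.w u0 := by linarith only [tap_3_5, tw_0_1, tw_0_2, tw_2_3, tw_3_4, tw_3_5]
                                have f30 : T.a u4 u4 = -2 * T.w u0 := by have := (h2 u4).2; linarith only [this, tw_0_1, tw_0_2, tw_2_3, tw_3_4, tw_3_5]
                                have f31 : T.a u4 u5 = 0 := by exact z_4_5
                                have f32 : T.a u5 u5 = -2 * T.w u0 := by have := (h2 u5).2; linarith only [this, tw_0_1, tw_0_2, tw_2_3, tw_3_4, tw_3_5]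
                                have hsig := Groth.Agent.Helper6.NT.inj6 u1 u0 u2 u3 u4 u5 hn_1_0.symm hn_2_1 hn_2_0 hn_3_1 hn_3_0 hn_3_2 hn_4_1 hn_4_0 hn_4_2 hn_4_3 hn_5_1 hn_5_0 hn_5_2 hn_5_3 hn_5_4
                                exact ⟨Equiv.ofBijective _ (Finite.injective_iff_bijective.1 hsig), T.m u1, T.w u0, Or.inr (Or.inr (Or.inr (Or.inr (Or.inl ⟨f0, f1, f2, f3, f4, f5, f6, f7, f8, f9, f10, f11, f12, f13, f14, f15, f16, f17, f18, f19, f20, f21, f22, f23, f24, f25, f26, f27, f28, f29, f30, f31, f32⟩))))⟩
                              · -- (4,5) nonzero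
                                obtain ⟨lbp_4_5, lbq_4_5⟩ := Groth.Agent.Helper6.NT.lb T u4 u5 hn_5_4.symm nz_4_5
                                exfalso
                                have key := Groth.Agent.Helper6.NT.negfun3 T h2 u3 u4 u5 (by norm_num) 1 1 1 (by norm_num) (by norm_num)
                                linarith only [key, tap_3_4, taq_3_4, tap_3_5, taq_3_5, lbp_4_5, lbq_4_5, T.w_pos u3, T.w_pos u4, T.w_pos u5]
                            · -- (3,5) Dp
                              exfalso
                              have key := Groth.Agent.Helper6.NT.negfun4 T h2 u2 u3 u4 u5 (by norm_num) 1 2 1 1 (by norm_num) (by norm_num)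
                              linarith only [key, tap_2_3, taq_2_3, z_2_4, z_2_5, tap_3_4, taq_3_4, tap_3_5, taq_3_5, T.offDiag_nonneg u4 u5 hn_5_4.symm, T.w_pos u2, T.w_pos u3, T.w_pos u4, T.w_pos u5]
                            · -- (3,5) Dm
                              exfalso
                              have key := Groth.Agent.Helper6.NT.negfun4 T h2 u2 u3 u4 u5 (by norm_num) 1 2 1 2 (by norm_num) (by norm_num)
                              linarith only [key, tap_2_3, taq_2_3, z_2_4, z_2_5, tap_3_4, taq_3_4, tap_3_5, taq_3_5, T.offDiag_nonneg u4 u5 hn_5_4.symm, T.w_pos u2, T.w_pos u3, T.w_pos u4, T.w_pos u5]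
                            · -- (3,5) Tp
                              exfalso
                              have key := Groth.Agent.Helper6.NT.negfun3 T h2 u3 u4 u5 (by norm_num) 2 1 1 (by norm_num) (by norm_num)
                              linarith only [key, tap_3_4, taq_3_4, tap_3_5, taq_3_5, T.offDiag_nonneg u4 u5 hn_5_4.symm, T.w_pos u3, T.w_pos u4, T.w_pos u5]
                            · -- (3,5) Tm
                              exfalso
                              have key := Groth.Agent.Helper6.NT.negfun3 T h2 u3 u4 u5 (by norm_num) 2 1 3 (by norm_num) (by norm_num)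
                              linarith only [key, tap_3_4, taq_3_4, tap_3_5, taq_3_5, T.offDiag_nonneg u4 u5 hn_5_4.symm, T.w_pos u3, T.w_pos u4, T.w_pos u5]
                          · push Not at hx
                            have cl_3 := hx
                            clear hx
                            by_cases hx : ∃ j, (j ≠ u0 ∧ j ≠ u1 ∧ j ≠ u2 ∧ j ≠ u3 ∧ j ≠ u4) ∧ T.a u4 j ≠ 0
                            · obtain ⟨u5, ⟨hn_5_0, hn_5_1, hn_5_2, hn_5_3, hn_5_4⟩, e_4_5⟩ := hx
                              have z_0_5 : T.a u0 u5 = 0 := cl_0 u5 ⟨hn_5_0, hn_5_1, hn_5_2⟩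
                              have z_1_5 : T.a u1 u5 = 0 := cl_1 u5 ⟨hn_5_0, hn_5_1, hn_5_2⟩
                              have z_2_5 : T.a u2 u5 = 0 := cl_2 u5 ⟨hn_5_0, hn_5_1, hn_5_2, hn_5_3⟩
                              have z_3_5 : T.a u3 u5 = 0 := cl_3 u5 ⟨hn_5_0, hn_5_1, hn_5_2, hn_5_3, hn_5_4⟩
                              rcases Groth.Agent.Helper6.NT.edge5 T h2 (by norm_num) u4 u5 hn_5_4.symm e_4_5 with ⟨tw_4_5, tap_4_5, taq_4_5⟩ | ⟨tw_4_5, tap_4_5, taq_4_5⟩ | ⟨tw_4_5, tap_4_5, taq_4_5⟩ | ⟨tw_4_5, tap_4_5, taq_4_5⟩ | ⟨tw_4_5, tap_4_5, taq_4_5⟩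
                              · -- (4,5) S
                                have hinj := Groth.Agent.Helper6.NT.inj6 u0 u1 u2 u3 u4 u5 hn_1_0 hn_2_0 hn_2_1 hn_3_0 hn_3_1 hn_3_2 hn_4_0 hn_4_1 hn_4_2 hn_4_3 hn_5_0 hn_5_1 hn_5_2 hn_5_3 hn_5_4
                                have r_0 : -2 * T.m u0 + 2 * T.m u1 + 1 * T.m u2 = 0 := by
                                  have key := Groth.Agent.Helper6.NT.rowfun6 T u0 u1 u2 u3 u4 u5 hinj u0
                                  rw [(h2 u0).2, tap_0_1, tap_0_2, z_0_3, z_0_4, z_0_5] at key
                                  exact mul_left_cancel₀ (T.w_pos u0).ne' (by linarith only [key])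
                                have r_1 : 1 * T.m u0 + -2 * T.m u1 = 0 := by
                                  have key := Groth.Agent.Helper6.NT.rowfun6 T u0 u1 u2 u3 u4 u5 hinj u1
                                  rw [Groth.Agent.Helper6.NT.symm' T u1 u0, taq_0_1, (h2 u1).2, z_1_2, z_1_3, z_1_4, z_1_5] at key
                                  exact mul_left_cancel₀ (T.w_pos u1).ne' (by linarith only [key])
                                have r_2 : 1 * T.m u0 + -2 * T.m u2 + 1 * T.m u3 = 0 := by
                                  have key := Groth.Agent.Helper6.NT.rowfun6 T u0 u1 u2 u3 u4 u5 hinj u2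
                                  rw [Groth.Agent.Helper6.NT.symm' T u2 u0, taq_0_2, Groth.Agent.Helper6.NT.symm' T u2 u1, z_1_2, (h2 u2).2, tap_2_3, z_2_4, z_2_5] at key
                                  exact mul_left_cancel₀ (T.w_pos u2).ne' (by linarith only [key])
                                have r_3 : 1 * T.m u2 + -2 * T.m u3 + 1 * T.m u4 = 0 := by
                                  have key := Groth.Agent.Helper6.NT.rowfun6 T u0 u1 u2 u3 u4 u5 hinj u3
                                  rw [Groth.Agent.Helper6.NT.symm' T u3 u0, z_0_3, Groth.Agent.Helper6.NT.symm' T u3 u1, z_1_3, Groth.Agent.Helper6.NT.symm' T u3 u2, taq_2_3, (h2 u3).2, tap_3_4, z_3_5] at key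
                                  exact mul_left_cancel₀ (T.w_pos u3).ne' (by linarith only [key])
                                have r_4 : 1 * T.m u3 + -2 * T.m u4 + 1 * T.m u5 = 0 := by
                                  have key := Groth.Agent.Helper6.NT.rowfun6 T u0 u1 u2 u3 u4 u5 hinj u4
                                  rw [Groth.Agent.Helper6.NT.symm' T u4 u0, z_0_4, Groth.Agent.Helper6.NT.symm' T u4 u1, z_1_4, Groth.Agent.Helper6.NT.symm' T u4 u2, z_2_4, Groth.Agent.Helper6.NT.symm' T u4 u3, taq_3_4, (h2 u4).2, tap_4_5] at key
                                  exact mul_left_cancel₀ (T.w_pos u4).ne' (by linarith only [key])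
                                have r_5 : 1 * T.m u4 + -2 * T.m u5 = 0 := by
                                  have key := Groth.Agent.Helper6.NT.rowfun6 T u0 u1 u2 u3 u4 u5 hinj u5
                                  rw [Groth.Agent.Helper6.NT.symm' T u5 u0, z_0_5, Groth.Agent.Helper6.NT.symm' T u5 u1, z_1_5, Groth.Agent.Helper6.NT.symm' T u5 u2, z_2_5, Groth.Agent.Helper6.NT.symm' T u5 u3, z_3_5, Groth.Agent.Helper6.NT.symm' T u5 u4, taq_4_5, (h2 u5).2] at key
                                  exact mul_left_cancel₀ (T.w_pos u5).ne' (by linarith only [key])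
                                exfalso
                                linarith only [r_0, r_1, r_2, r_3, r_4, r_5, T.m_pos u0, T.m_pos u1, T.m_pos u2, T.m_pos u3, T.m_pos u4, T.m_pos u5]
                              · -- (4,5) Dp
                                have hinj := Groth.Agent.Helper6.NT.inj6 u0 u1 u2 u3 u4 u5 hn_1_0 hn_2_0 hn_2_1 hn_3_0 hn_3_1 hn_3_2 hn_4_0 hn_4_1 hn_4_2 hn_4_3 hn_5_0 hn_5_1 hn_5_2 hn_5_3 hn_5_4
                                have r_0 : -2 * T.m u0 + 2 * T.m u1 + 1 * T.m u2 = 0 := by
                                  have key := Groth.Agent.Helper6.NT.rowfun6 T u0 u1 u2 u3 u4 u5 hinj u0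
                                  rw [(h2 u0).2, tap_0_1, tap_0_2, z_0_3, z_0_4, z_0_5] at key
                                  exact mul_left_cancel₀ (T.w_pos u0).ne' (by linarith only [key])
                                have r_1 : 1 * T.m u0 + -2 * T.m u1 = 0 := by
                                  have key := Groth.Agent.Helper6.NT.rowfun6 T u0 u1 u2 u3 u4 u5 hinj u1
                                  rw [Groth.Agent.Helper6.NT.symm' T u1 u0, taq_0_1, (h2 u1).2, z_1_2, z_1_3, z_1_4, z_1_5] at key
                                  exact mul_left_cancel₀ (T.w_pos u1).ne' (by linarith only [key])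
                                have r_2 : 1 * T.m u0 + -2 * T.m u2 + 1 * T.m u3 = 0 := by
                                  have key := Groth.Agent.Helper6.NT.rowfun6 T u0 u1 u2 u3 u4 u5 hinj u2
                                  rw [Groth.Agent.Helper6.NT.symm' T u2 u0, taq_0_2, Groth.Agent.Helper6.NT.symm' T u2 u1, z_1_2, (h2 u2).2, tap_2_3, z_2_4, z_2_5] at key
                                  exact mul_left_cancel₀ (T.w_pos u2).ne' (by linarith only [key])
                                have r_3 : 1 * T.m u2 + -2 * T.m u3 + 1 * T.m u4 = 0 := by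
                                  have key := Groth.Agent.Helper6.NT.rowfun6 T u0 u1 u2 u3 u4 u5 hinj u3
                                  rw [Groth.Agent.Helper6.NT.symm' T u3 u0, z_0_3, Groth.Agent.Helper6.NT.symm' T u3 u1, z_1_3, Groth.Agent.Helper6.NT.symm' T u3 u2, taq_2_3, (h2 u3).2, tap_3_4, z_3_5] at key
                                  exact mul_left_cancel₀ (T.w_pos u3).ne' (by linarith only [key])
                                have r_4 : 1 * T.m u3 + -2 * T.m u4 + 2 * T.m u5 = 0 := by
                                  have key := Groth.Agent.Helper6.NT.rowfun6 T u0 u1 u2 u3 u4 u5 hinj u4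
                                  rw [Groth.Agent.Helper6.NT.symm' T u4 u0, z_0_4, Groth.Agent.Helper6.NT.symm' T u4 u1, z_1_4, Groth.Agent.Helper6.NT.symm' T u4 u2, z_2_4, Groth.Agent.Helper6.NT.symm' T u4 u3, taq_3_4, (h2 u4).2, tap_4_5] at key
                                  exact mul_left_cancel₀ (T.w_pos u4).ne' (by linarith only [key])
                                have r_5 : 1 * T.m u4 + -2 * T.m u5 = 0 := by
                                  have key := Groth.Agent.Helper6.NT.rowfun6 T u0 u1 u2 u3 u4 u5 hinj u5
                                  rw [Groth.Agent.Helper6.NT.symm' T u5 u0, z_0_5, Groth.Agent.Helper6.NT.symm' T u5 u1, z_1_5, Groth.Agent.Helper6.NT.symm' T u5 u2, z_2_5, Groth.Agent.Helper6.NT.symm' T u5 u3, z_3_5, Groth.Agent.Helper6.NT.symm' T u5 u4, taq_4_5, (h2 u5).2] at key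
                                  exact mul_left_cancel₀ (T.w_pos u5).ne' (by linarith only [key])
                                have f0 : T.m u1 = T.m u1 := rfl
                                have f1 : T.m u0 = 2 * T.m u1 := by linarith only [r_0, r_1, r_2, r_3, r_4, r_5]
                                have f2 : T.m u2 = 2 * T.m u1 := by linarith only [r_0, r_1, r_2, r_3, r_4, r_5]
                                have f3 : T.m u3 = 2 * T.m u1 := by linarith only [r_0, r_1, r_2, r_3, r_4, r_5]
                                have f4 : T.m u4 = 2 * T.m u1 := by linarith only [r_0, r_1, r_2, r_3, r_4, r_5]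
                                have f5 : T.m u5 = T.m u1 := by linarith only [r_0, r_1, r_2, r_3, r_4, r_5]
                                have f6 : T.w u1 = 2 * T.w u0 := by linarith only [tw_0_1, tw_0_2, tw_2_3, tw_3_4, tw_4_5]
                                have f7 : T.w u0 = T.w u0 := rfl
                                have f8 : T.w u2 = T.w u0 := by linarith only [tw_0_1, tw_0_2, tw_2_3, tw_3_4, tw_4_5]
                                have f9 : T.w u3 = T.w u0 := by linarith only [tw_0_1, tw_0_2, tw_2_3, tw_3_4, tw_4_5]
                                have f10 : T.w u4 = T.w u0 := by linarith only [tw_0_1, tw_0_2, tw_2_3, tw_3_4, tw_4_5]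
                                have f11 : T.w u5 = 2 * T.w u0 := by linarith only [tw_0_1, tw_0_2, tw_2_3, tw_3_4, tw_4_5]
                                have f12 : T.a u1 u1 = -4 * T.w u0 := by have := (h2 u1).2; linarith only [this, tw_0_1, tw_0_2, tw_2_3, tw_3_4, tw_4_5]
                                have f13 : T.a u1 u0 = 2 * T.w u0 := by rw [Groth.Agent.Helper6.NT.symm' T u1 u0]; linarith only [tap_0_1, tw_0_1, tw_0_2, tw_2_3, tw_3_4, tw_4_5]
                                have f14 : T.a u1 u2 = 0 := by exact z_1_2
                                have f15 : T.a u1 u3 = 0 := by exact z_1_3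
                                have f16 : T.a u1 u4 = 0 := by exact z_1_4
                                have f17 : T.a u1 u5 = 0 := by exact z_1_5
                                have f18 : T.a u0 u0 = -2 * T.w u0 := by have := (h2 u0).2; linarith only [this, tw_0_1, tw_0_2, tw_2_3, tw_3_4, tw_4_5]
                                have f19 : T.a u0 u2 = T.w u0 := by linarith only [tap_0_2, tw_0_1, tw_0_2, tw_2_3, tw_3_4, tw_4_5]
                                have f20 : T.a u0 u3 = 0 := by exact z_0_3
                                have f21 : T.a u0 u4 = 0 := by exact z_0_4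
                                have f22 : T.a u0 u5 = 0 := by exact z_0_5
                                have f23 : T.a u2 u2 = -2 * T.w u0 := by have := (h2 u2).2; linarith only [this, tw_0_1, tw_0_2, tw_2_3, tw_3_4, tw_4_5]
                                have f24 : T.a u2 u3 = T.w u0 := by linarith only [tap_2_3, tw_0_1, tw_0_2, tw_2_3, tw_3_4, tw_4_5]
                                have f25 : T.a u2 u4 = 0 := by exact z_2_4
                                have f26 : T.a u2 u5 = 0 := by exact z_2_5
                                have f27 : T.a u3 u3 = -2 * T.w u0 := by have := (h2 u3).2; linarith only [this, tw_0_1, tw_0_2, tw_2_3, tw_3_4, tw_4_5]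
                                have f28 : T.a u3 u4 = T.w u0 := by linarith only [tap_3_4, tw_0_1, tw_0_2, tw_2_3, tw_3_4, tw_4_5]
                                have f29 : T.a u3 u5 = 0 := by exact z_3_5
                                have f30 : T.a u4 u4 = -2 * T.w u0 := by have := (h2 u4).2; linarith only [this, tw_0_1, tw_0_2, tw_2_3, tw_3_4, tw_4_5]
                                have f31 : T.a u4 u5 = 2 * T.w u0 := by linarith only [tap_4_5, tw_0_1, tw_0_2, tw_2_3, tw_3_4, tw_4_5]
                                have f32 : T.a u5 u5 = -4 * T.w u0 := by have := (h2 u5).2; linarith only [this, tw_0_1, tw_0_2, tw_2_3, tw_3_4, tw_4_5]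
                                have hsig := Groth.Agent.Helper6.NT.inj6 u1 u0 u2 u3 u4 u5 hn_1_0.symm hn_2_1 hn_2_0 hn_3_1 hn_3_0 hn_3_2 hn_4_1 hn_4_0 hn_4_2 hn_4_3 hn_5_1 hn_5_0 hn_5_2 hn_5_3 hn_5_4
                                exact ⟨Equiv.ofBijective _ (Finite.injective_iff_bijective.1 hsig), T.m u1, T.w u0, Or.inr (Or.inr (Or.inr (Or.inl ⟨f0, f1, f2, f3, f4, f5, f6, f7, f8, f9, f10, f11, f12, f13, f14, f15, f16, f17, f18, f19, f20, f21, f22, f23, f24, f25, f26, f27, f28, f29, f30, f31, f32⟩)))⟩
                              · -- (4,5) Dm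
                                have hinj := Groth.Agent.Helper6.NT.inj6 u0 u1 u2 u3 u4 u5 hn_1_0 hn_2_0 hn_2_1 hn_3_0 hn_3_1 hn_3_2 hn_4_0 hn_4_1 hn_4_2 hn_4_3 hn_5_0 hn_5_1 hn_5_2 hn_5_3 hn_5_4
                                have r_0 : -2 * T.m u0 + 2 * T.m u1 + 1 * T.m u2 = 0 := by
                                  have key := Groth.Agent.Helper6.NT.rowfun6 T u0 u1 u2 u3 u4 u5 hinj u0
                                  rw [(h2 u0).2, tap_0_1, tap_0_2, z_0_3, z_0_4, z_0_5] at key
                                  exact mul_left_cancel₀ (T.w_pos u0).ne' (by linarith only [key])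
                                have r_1 : 1 * T.m u0 + -2 * T.m u1 = 0 := by
                                  have key := Groth.Agent.Helper6.NT.rowfun6 T u0 u1 u2 u3 u4 u5 hinj u1
                                  rw [Groth.Agent.Helper6.NT.symm' T u1 u0, taq_0_1, (h2 u1).2, z_1_2, z_1_3, z_1_4, z_1_5] at key
                                  exact mul_left_cancel₀ (T.w_pos u1).ne' (by linarith only [key])
                                have r_2 : 1 * T.m u0 + -2 * T.m u2 + 1 * T.m u3 = 0 := by
                                  have key := Groth.Agent.Helper6.NT.rowfun6 T u0 u1 u2 u3 u4 u5 hinj u2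
                                  rw [Groth.Agent.Helper6.NT.symm' T u2 u0, taq_0_2, Groth.Agent.Helper6.NT.symm' T u2 u1, z_1_2, (h2 u2).2, tap_2_3, z_2_4, z_2_5] at key
                                  exact mul_left_cancel₀ (T.w_pos u2).ne' (by linarith only [key])
                                have r_3 : 1 * T.m u2 + -2 * T.m u3 + 1 * T.m u4 = 0 := by
                                  have key := Groth.Agent.Helper6.NT.rowfun6 T u0 u1 u2 u3 u4 u5 hinj u3
                                  rw [Groth.Agent.Helper6.NT.symm' T u3 u0, z_0_3, Groth.Agent.Helper6.NT.symm' T u3 u1, z_1_3, Groth.Agent.Helper6.NT.symm' T u3 u2, taq_2_3, (h2 u3).2, tap_3_4, z_3_5] at key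
                                  exact mul_left_cancel₀ (T.w_pos u3).ne' (by linarith only [key])
                                have r_4 : 1 * T.m u3 + -2 * T.m u4 + 1 * T.m u5 = 0 := by
                                  have key := Groth.Agent.Helper6.NT.rowfun6 T u0 u1 u2 u3 u4 u5 hinj u4
                                  rw [Groth.Agent.Helper6.NT.symm' T u4 u0, z_0_4, Groth.Agent.Helper6.NT.symm' T u4 u1, z_1_4, Groth.Agent.Helper6.NT.symm' T u4 u2, z_2_4, Groth.Agent.Helper6.NT.symm' T u4 u3, taq_3_4, (h2 u4).2, tap_4_5] at key
                                  exact mul_left_cancel₀ (T.w_pos u4).ne' (by linarith only [key])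
                                have r_5 : 2 * T.m u4 + -2 * T.m u5 = 0 := by
                                  have key := Groth.Agent.Helper6.NT.rowfun6 T u0 u1 u2 u3 u4 u5 hinj u5
                                  rw [Groth.Agent.Helper6.NT.symm' T u5 u0, z_0_5, Groth.Agent.Helper6.NT.symm' T u5 u1, z_1_5, Groth.Agent.Helper6.NT.symm' T u5 u2, z_2_5, Groth.Agent.Helper6.NT.symm' T u5 u3, z_3_5, Groth.Agent.Helper6.NT.symm' T u5 u4, taq_4_5, (h2 u5).2] at key
                                  exact mul_left_cancel₀ (T.w_pos u5).ne' (by linarith only [key])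
                                have f0 : T.m u5 = 2 * T.m u1 := by linarith only [r_0, r_1, r_2, r_3, r_4, r_5]
                                have f1 : T.m u4 = 2 * T.m u1 := by linarith only [r_0, r_1, r_2, r_3, r_4, r_5]
                                have f2 : T.m u3 = 2 * T.m u1 := by linarith only [r_0, r_1, r_2, r_3, r_4, r_5]
                                have f3 : T.m u2 = 2 * T.m u1 := by linarith only [r_0, r_1, r_2, r_3, r_4, r_5]
                                have f4 : T.m u0 = 2 * T.m u1 := by linarith only [r_0, r_1, r_2, r_3, r_4, r_5]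
                                have f5 : T.m u1 = T.m u1 := rfl
                                have f6 : T.w u5 = T.w u5 := rfl
                                have f7 : T.w u4 = 2 * T.w u5 := by linarith only [tw_0_1, tw_0_2, tw_2_3, tw_3_4, tw_4_5]
                                have f8 : T.w u3 = 2 * T.w u5 := by linarith only [tw_0_1, tw_0_2, tw_2_3, tw_3_4, tw_4_5]
                                have f9 : T.w u2 = 2 * T.w u5 := by linarith only [tw_0_1, tw_0_2, tw_2_3, tw_3_4, tw_4_5]
                                have f10 : T.w u0 = 2 * T.w u5 := by linarith only [tw_0_1, tw_0_2, tw_2_3, tw_3_4, tw_4_5]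
                                have f11 : T.w u1 = 4 * T.w u5 := by linarith only [tw_0_1, tw_0_2, tw_2_3, tw_3_4, tw_4_5]
                                have f12 : T.a u5 u5 = -2 * T.w u5 := by have := (h2 u5).2; linarith only [this, tw_0_1, tw_0_2, tw_2_3, tw_3_4, tw_4_5]
                                have f13 : T.a u5 u4 = 2 * T.w u5 := by rw [Groth.Agent.Helper6.NT.symm' T u5 u4]; linarith only [tap_4_5, tw_0_1, tw_0_2, tw_2_3, tw_3_4, tw_4_5]
                                have f14 : T.a u5 u3 = 0 := by rw [Groth.Agent.Helper6.NT.symm' T u5 u3]; exact z_3_5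
                                have f15 : T.a u5 u2 = 0 := by rw [Groth.Agent.Helper6.NT.symm' T u5 u2]; exact z_2_5
                                have f16 : T.a u5 u0 = 0 := by rw [Groth.Agent.Helper6.NT.symm' T u5 u0]; exact z_0_5
                                have f17 : T.a u5 u1 = 0 := by rw [Groth.Agent.Helper6.NT.symm' T u5 u1]; exact z_1_5
                                have f18 : T.a u4 u4 = -4 * T.w u5 := by have := (h2 u4).2; linarith only [this, tw_0_1, tw_0_2, tw_2_3, tw_3_4, tw_4_5]
                                have f19 : T.a u4 u3 = 2 * T.w u5 := by rw [Groth.Agent.Helper6.NT.symm' T u4 u3]; linarith only [tap_3_4, tw_0_1, tw_0_2, tw_2_3, tw_3_4, tw_4_5]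
                                have f20 : T.a u4 u2 = 0 := by rw [Groth.Agent.Helper6.NT.symm' T u4 u2]; exact z_2_4
                                have f21 : T.a u4 u0 = 0 := by rw [Groth.Agent.Helper6.NT.symm' T u4 u0]; exact z_0_4
                                have f22 : T.a u4 u1 = 0 := by rw [Groth.Agent.Helper6.NT.symm' T u4 u1]; exact z_1_4
                                have f23 : T.a u3 u3 = -4 * T.w u5 := by have := (h2 u3).2; linarith only [this, tw_0_1, tw_0_2, tw_2_3, tw_3_4, tw_4_5]
                                have f24 : T.a u3 u2 = 2 * T.w u5 := by rw [Groth.Agent.Helper6.NT.symm' T u3 u2]; linarith only [tap_2_3, tw_0_1, tw_0_2, tw_2_3, tw_3_4, tw_4_5]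
                                have f25 : T.a u3 u0 = 0 := by rw [Groth.Agent.Helper6.NT.symm' T u3 u0]; exact z_0_3
                                have f26 : T.a u3 u1 = 0 := by rw [Groth.Agent.Helper6.NT.symm' T u3 u1]; exact z_1_3
                                have f27 : T.a u2 u2 = -4 * T.w u5 := by have := (h2 u2).2; linarith only [this, tw_0_1, tw_0_2, tw_2_3, tw_3_4, tw_4_5]
                                have f28 : T.a u2 u0 = 2 * T.w u5 := by rw [Groth.Agent.Helper6.NT.symm' T u2 u0]; linarith only [tap_0_2, tw_0_1, tw_0_2, tw_2_3, tw_3_4, tw_4_5]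
                                have f29 : T.a u2 u1 = 0 := by rw [Groth.Agent.Helper6.NT.symm' T u2 u1]; exact z_1_2
                                have f30 : T.a u0 u0 = -4 * T.w u5 := by have := (h2 u0).2; linarith only [this, tw_0_1, tw_0_2, tw_2_3, tw_3_4, tw_4_5]
                                have f31 : T.a u0 u1 = 4 * T.w u5 := by linarith only [tap_0_1, tw_0_1, tw_0_2, tw_2_3, tw_3_4, tw_4_5]
                                have f32 : T.a u1 u1 = -8 * T.w u5 := by have := (h2 u1).2; linarith only [this, tw_0_1, tw_0_2, tw_2_3, tw_3_4, tw_4_5]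
                                have hsig := Groth.Agent.Helper6.NT.inj6 u5 u4 u3 u2 u0 u1 hn_5_4.symm hn_5_3.symm hn_4_3.symm hn_5_2.symm hn_4_2.symm hn_3_2.symm hn_5_0.symm hn_4_0.symm hn_3_0.symm hn_2_0.symm hn_5_1.symm hn_4_1.symm hn_3_1.symm hn_2_1.symm hn_1_0
                                exact ⟨Equiv.ofBijective _ (Finite.injective_iff_bijective.1 hsig), T.m u1, T.w u5, Or.inr (Or.inl ⟨f0, f1, f2, f3, f4, f5, f6, f7, f8, f9, f10, f11, f12, f13, f14, f15, f16, f17, f18, f19, f20, f21, f22, f23, f24, f25, f26, f27, f28, f29, f30, f31, f32⟩)⟩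
                              · -- (4,5) Tp
                                exfalso
                                have key := Groth.Agent.Helper6.NT.negfun3 T h2 u3 u4 u5 (by norm_num) 1 2 1 (by norm_num) (by norm_num)
                                linarith only [key, tap_3_4, taq_3_4, z_3_5, tap_4_5, taq_4_5, T.w_pos u3, T.w_pos u4, T.w_pos u5]
                              · -- (4,5) Tm
                                exfalso
                                have key := Groth.Agent.Helper6.NT.negfun3 T h2 u3 u4 u5 (by norm_num) 1 2 3 (by norm_num) (by norm_num)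
                                linarith only [key, tap_3_4, taq_3_4, z_3_5, tap_4_5, taq_4_5, T.w_pos u3, T.w_pos u4, T.w_pos u5]
                            · push Not at hx
                              have cl_4 := hx
                              clear hx
                              exfalso
                              refine Groth.Agent.Helper6.NT.closed_contra T [u0, u1, u2, u3, u4] (by simp) (by simp) ?_
                              intro i hi j hj
                              simp only [List.mem_cons, List.not_mem_nil, or_false, not_or] at hi hj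
                              rcases hi with rfl | rfl | rfl | rfl | rfl
                              · exact cl_0 j ⟨hj.1, hj.2.1, hj.2.2.1⟩
                              · exact cl_1 j ⟨hj.1, hj.2.1, hj.2.2.1⟩
                              · exact cl_2 j ⟨hj.1, hj.2.1, hj.2.2.1, hj.2.2.2.1⟩
                              · exact cl_3 j ⟨hj.1, hj.2.1, hj.2.2.1, hj.2.2.2.1, hj.2.2.2.2⟩
                              · exact cl_4 j ⟨hj.1, hj.2.1, hj.2.2.1, hj.2.2.2.1, hj.2.2.2.2⟩
                        · -- (3,4) Dp
                          exfalso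
                          have key := Groth.Agent.Helper6.NT.negfun5 T h2 u0 u1 u2 u3 u4 (by norm_num) 2 1 2 2 1 (by norm_num) (by norm_num)
                          linarith only [key, tap_0_1, taq_0_1, tap_0_2, taq_0_2, z_0_3, z_0_4, z_1_2, z_1_3, z_1_4, tap_2_3, taq_2_3, z_2_4, tap_3_4, taq_3_4, T.w_pos u0, T.w_pos u1, T.w_pos u2, T.w_pos u3, T.w_pos u4]
                        · -- (3,4) Dm
                          exfalso
                          have key := Groth.Agent.Helper6.NT.negfun5 T h2 u0 u1 u2 u3 u4 (by norm_num) 2 1 2 2 2 (by norm_num) (by norm_num)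
                          linarith only [key, tap_0_1, taq_0_1, tap_0_2, taq_0_2, z_0_3, z_0_4, z_1_2, z_1_3, z_1_4, tap_2_3, taq_2_3, z_2_4, tap_3_4, taq_3_4, T.w_pos u0, T.w_pos u1, T.w_pos u2, T.w_pos u3, T.w_pos u4]
                        · -- (3,4) Tp
                          exfalso
                          have key := Groth.Agent.Helper6.NT.negfun3 T h2 u2 u3 u4 (by norm_num) 1 2 1 (by norm_num) (by norm_num)
                          linarith only [key, tap_2_3, taq_2_3, z_2_4, tap_3_4, taq_3_4, T.w_pos u2, T.w_pos u3, T.w_pos u4]
                        · -- (3,4) Tm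
                          exfalso
                          have key := Groth.Agent.Helper6.NT.negfun3 T h2 u2 u3 u4 (by norm_num) 1 2 3 (by norm_num) (by norm_num)
                          linarith only [key, tap_2_3, taq_2_3, z_2_4, tap_3_4, taq_3_4, T.w_pos u2, T.w_pos u3, T.w_pos u4]
                      · push Not at hx
                        have cl_3 := hx
                        clear hx
                        exfalso
                        refine Groth.Agent.Helper6.NT.closed_contra T [u0, u1, u2, u3] (by simp) (by simp) ?_
                        intro i hi j hj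
                        simp only [List.mem_cons, List.not_mem_nil, or_false, not_or] at hi hj
                        rcases hi with rfl | rfl | rfl | rfl
                        · exact cl_0 j ⟨hj.1, hj.2.1, hj.2.2.1⟩
                        · exact cl_1 j ⟨hj.1, hj.2.1, hj.2.2.1⟩
                        · exact cl_2 j ⟨hj.1, hj.2.1, hj.2.2.1, hj.2.2.2⟩
                        · exact cl_3 j ⟨hj.1, hj.2.1, hj.2.2.1, hj.2.2.2⟩
                  · -- (2,3) Dp
                    exfalso
                    have key := Groth.Agent.Helper6.NT.negfun4 T h2 u0 u1 u2 u3 (by norm_num) 2 1 2 1 (by norm_num) (by norm_num)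
                    linarith only [key, tap_0_1, taq_0_1, tap_0_2, taq_0_2, z_0_3, z_1_2, z_1_3, tap_2_3, taq_2_3, T.w_pos u0, T.w_pos u1, T.w_pos u2, T.w_pos u3]
                  · -- (2,3) Dm
                    exfalso
                    have key := Groth.Agent.Helper6.NT.negfun4 T h2 u0 u1 u2 u3 (by norm_num) 2 1 2 2 (by norm_num) (by norm_num)
                    linarith only [key, tap_0_1, taq_0_1, tap_0_2, taq_0_2, z_0_3, z_1_2, z_1_3, tap_2_3, taq_2_3, T.w_pos u0, T.w_pos u1, T.w_pos u2, T.w_pos u3]
                  · -- (2,3) Tp
                    exfalso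
                    have key := Groth.Agent.Helper6.NT.negfun3 T h2 u0 u2 u3 (by norm_num) 1 2 1 (by norm_num) (by norm_num)
                    linarith only [key, tap_0_2, taq_0_2, z_0_3, tap_2_3, taq_2_3, T.w_pos u0, T.w_pos u2, T.w_pos u3]
                  · -- (2,3) Tm
                    exfalso
                    have key := Groth.Agent.Helper6.NT.negfun3 T h2 u0 u2 u3 (by norm_num) 1 2 3 (by norm_num) (by norm_num)
                    linarith only [key, tap_0_2, taq_0_2, z_0_3, tap_2_3, taq_2_3, T.w_pos u0, T.w_pos u2, T.w_pos u3]
                · push Not at hx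
                  have cl_2 := hx
                  clear hx
                  exfalso
                  refine Groth.Agent.Helper6.NT.closed_contra T [u0, u1, u2] (by simp) (by simp) ?_
                  intro i hi j hj
                  simp only [List.mem_cons, List.not_mem_nil, or_false, not_or] at hi hj
                  rcases hi with rfl | rfl | rfl
                  · exact cl_0 j ⟨hj.1, hj.2.1, hj.2.2⟩
                  · exact cl_1 j ⟨hj.1, hj.2.1, hj.2.2⟩
                  · exact cl_2 j ⟨hj.1, hj.2.1, hj.2.2⟩
          · -- (1,2) nonzero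
            obtain ⟨lbp_1_2, lbq_1_2⟩ := Groth.Agent.Helper6.NT.lb T u1 u2 hn_2_1.symm nz_1_2
            exfalso
            have key := Groth.Agent.Helper6.NT.negfun3 T h2 u0 u1 u2 (by norm_num) 1 1 1 (by norm_num) (by norm_num)
            linarith only [key, tap_0_1, taq_0_1, tap_0_2, taq_0_2, lbp_1_2, lbq_1_2, T.w_pos u0, T.w_pos u1, T.w_pos u2]
        · -- (0,2) Dp
          exfalso
          have key := Groth.Agent.Helper6.NT.negfun3 T h2 u0 u1 u2 (by norm_num) 2 1 1 (by norm_num) (by norm_num)
          linarith only [key, tap_0_1, taq_0_1, tap_0_2, taq_0_2, T.offDiag_nonneg u1 u2 hn_2_1.symm, T.w_pos u0, T.w_pos u1, T.w_pos u2]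
        · -- (0,2) Dm
          exfalso
          have key := Groth.Agent.Helper6.NT.negfun3 T h2 u0 u1 u2 (by norm_num) 2 1 2 (by norm_num) (by norm_num)
          linarith only [key, tap_0_1, taq_0_1, tap_0_2, taq_0_2, T.offDiag_nonneg u1 u2 hn_2_1.symm, T.w_pos u0, T.w_pos u1, T.w_pos u2]
        · -- (0,2) Tp
          exfalso
          have key := Groth.Agent.Helper6.NT.negfun3 T h2 u0 u1 u2 (by norm_num) 2 1 1 (by norm_num) (by norm_num)
          linarith only [key, tap_0_1, taq_0_1, tap_0_2, taq_0_2, T.offDiag_nonneg u1 u2 hn_2_1.symm, T.w_pos u0, T.w_pos u1, T.w_pos u2]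
        · -- (0,2) Tm
          exfalso
          have key := Groth.Agent.Helper6.NT.negfun3 T h2 u0 u1 u2 (by norm_num) 2 1 3 (by norm_num) (by norm_num)
          linarith only [key, tap_0_1, taq_0_1, tap_0_2, taq_0_2, T.offDiag_nonneg u1 u2 hn_2_1.symm, T.w_pos u0, T.w_pos u1, T.w_pos u2]
      · push Not at hx
        have cl_0 := hx
        clear hx
        by_cases hx : ∃ j, (j ≠ u0 ∧ j ≠ u1) ∧ T.a u1 j ≠ 0
        · obtain ⟨u2, ⟨hn_2_0, hn_2_1⟩, e_1_2⟩ := hx
          have z_0_2 : T.a u0 u2 = 0 := cl_0 u2 ⟨hn_2_0, hn_2_1⟩
          rcases Groth.Agent.Helper6.NT.edge5 T h2 (by norm_num) u1 u2 hn_2_1.symm e_1_2 with ⟨tw_1_2, tap_1_2, taq_1_2⟩ | ⟨tw_1_2, tap_1_2, taq_1_2⟩ | ⟨tw_1_2, tap_1_2, taq_1_2⟩ | ⟨tw_1_2, tap_1_2, taq_1_2⟩ | ⟨tw_1_2, tap_1_2, taq_1_2⟩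
          · -- (1,2) S
            by_cases hx : ∃ j, (j ≠ u0 ∧ j ≠ u1 ∧ j ≠ u2) ∧ T.a u1 j ≠ 0
            · obtain ⟨u3, ⟨hn_3_0, hn_3_1, hn_3_2⟩, e_1_3⟩ := hx
              have z_0_3 : T.a u0 u3 = 0 := cl_0 u3 ⟨hn_3_0, hn_3_1⟩
              rcases Groth.Agent.Helper6.NT.edge5 T h2 (by norm_num) u1 u3 hn_3_1.symm e_1_3 with ⟨tw_1_3, tap_1_3, taq_1_3⟩ | ⟨tw_1_3, tap_1_3, taq_1_3⟩ | ⟨tw_1_3, tap_1_3, taq_1_3⟩ | ⟨tw_1_3, tap_1_3, taq_1_3⟩ | ⟨tw_1_3, tap_1_3, taq_1_3⟩
              · -- (1,3) S
                exfalso
                have key := Groth.Agent.Helper6.NT.negfun4 T h2 u0 u1 u2 u3 (by norm_num) 2 2 1 1 (by norm_num) (by norm_num)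
                linarith only [key, tap_0_1, taq_0_1, z_0_2, z_0_3, tap_1_2, taq_1_2, tap_1_3, taq_1_3, T.offDiag_nonneg u2 u3 hn_3_2.symm, T.w_pos u0, T.w_pos u1, T.w_pos u2, T.w_pos u3]
              · -- (1,3) Dp
                exfalso
                have key := Groth.Agent.Helper6.NT.negfun3 T h2 u0 u1 u3 (by norm_num) 2 2 1 (by norm_num) (by norm_num)
                linarith only [key, tap_0_1, taq_0_1, z_0_3, tap_1_3, taq_1_3, T.w_pos u0, T.w_pos u1, T.w_pos u3]
              · -- (1,3) Dm
                exfalso
                have key := Groth.Agent.Helper6.NT.negfun3 T h2 u0 u1 u3 (by norm_num) 1 1 1 (by norm_num) (by norm_num)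
                linarith only [key, tap_0_1, taq_0_1, z_0_3, tap_1_3, taq_1_3, T.w_pos u0, T.w_pos u1, T.w_pos u3]
              · -- (1,3) Tp
                exfalso
                have key := Groth.Agent.Helper6.NT.negfun3 T h2 u1 u2 u3 (by norm_num) 2 1 1 (by norm_num) (by norm_num)
                linarith only [key, tap_1_2, taq_1_2, tap_1_3, taq_1_3, T.offDiag_nonneg u2 u3 hn_3_2.symm, T.w_pos u1, T.w_pos u2, T.w_pos u3]
              · -- (1,3) Tm
                exfalso
                have key := Groth.Agent.Helper6.NT.negfun3 T h2 u1 u2 u3 (by norm_num) 2 1 3 (by norm_num) (by norm_num)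
                linarith only [key, tap_1_2, taq_1_2, tap_1_3, taq_1_3, T.offDiag_nonneg u2 u3 hn_3_2.symm, T.w_pos u1, T.w_pos u2, T.w_pos u3]
            · push Not at hx
              have cl_1 := hx
              clear hx
              by_cases hx : ∃ j, (j ≠ u0 ∧ j ≠ u1 ∧ j ≠ u2) ∧ T.a u2 j ≠ 0
              · obtain ⟨u3, ⟨hn_3_0, hn_3_1, hn_3_2⟩, e_2_3⟩ := hx
                have z_0_3 : T.a u0 u3 = 0 := cl_0 u3 ⟨hn_3_0, hn_3_1⟩
                have z_1_3 : T.a u1 u3 = 0 := cl_1 u3 ⟨hn_3_0, hn_3_1, hn_3_2⟩
                rcases Groth.Agent.Helper6.NT.edge5 T h2 (by norm_num) u2 u3 hn_3_2.symm e_2_3 with ⟨tw_2_3, tap_2_3, taq_2_3⟩ | ⟨tw_2_3, tap_2_3, taq_2_3⟩ | ⟨tw_2_3, tap_2_3, taq_2_3⟩ | ⟨tw_2_3, tap_2_3, taq_2_3⟩ | ⟨tw_2_3, tap_2_3, taq_2_3⟩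
                · -- (2,3) S
                  by_cases hx : ∃ j, (j ≠ u0 ∧ j ≠ u1 ∧ j ≠ u2 ∧ j ≠ u3) ∧ T.a u2 j ≠ 0
                  · obtain ⟨u4, ⟨hn_4_0, hn_4_1, hn_4_2, hn_4_3⟩, e_2_4⟩ := hx
                    have z_0_4 : T.a u0 u4 = 0 := cl_0 u4 ⟨hn_4_0, hn_4_1⟩
                    have z_1_4 : T.a u1 u4 = 0 := cl_1 u4 ⟨hn_4_0, hn_4_1, hn_4_2⟩
                    rcases Groth.Agent.Helper6.NT.edge5 T h2 (by norm_num) u2 u4 hn_4_2.symm e_2_4 with ⟨tw_2_4, tap_2_4, taq_2_4⟩ | ⟨tw_2_4, tap_2_4, taq_2_4⟩ | ⟨tw_2_4, tap_2_4, taq_2_4⟩ | ⟨tw_2_4, tap_2_4, taq_2_4⟩ | ⟨tw_2_4, tap_2_4, taq_2_4⟩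
                    · -- (2,4) S
                      exfalso
                      have key := Groth.Agent.Helper6.NT.negfun5 T h2 u0 u1 u2 u3 u4 (by norm_num) 2 2 2 1 1 (by norm_num) (by norm_num)
                      linarith only [key, tap_0_1, taq_0_1, z_0_2, z_0_3, z_0_4, tap_1_2, taq_1_2, z_1_3, z_1_4, tap_2_3, taq_2_3, tap_2_4, taq_2_4, T.offDiag_nonneg u3 u4 hn_4_3.symm, T.w_pos u0, T.w_pos u1, T.w_pos u2, T.w_pos u3, T.w_pos u4]
                    · -- (2,4) Dp
                      exfalso
                      have key := Groth.Agent.Helper6.NT.negfun4 T h2 u1 u2 u3 u4 (by norm_num) 1 2 1 1 (by norm_num) (by norm_num)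
                      linarith only [key, tap_1_2, taq_1_2, z_1_3, z_1_4, tap_2_3, taq_2_3, tap_2_4, taq_2_4, T.offDiag_nonneg u3 u4 hn_4_3.symm, T.w_pos u1, T.w_pos u2, T.w_pos u3, T.w_pos u4]
                    · -- (2,4) Dm
                      exfalso
                      have key := Groth.Agent.Helper6.NT.negfun4 T h2 u1 u2 u3 u4 (by norm_num) 1 2 1 2 (by norm_num) (by norm_num)
                      linarith only [key, tap_1_2, taq_1_2, z_1_3, z_1_4, tap_2_3, taq_2_3, tap_2_4, taq_2_4, T.offDiag_nonneg u3 u4 hn_4_3.symm, T.w_pos u1, T.w_pos u2, T.w_pos u3, T.w_pos u4]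
                    · -- (2,4) Tp
                      exfalso
                      have key := Groth.Agent.Helper6.NT.negfun3 T h2 u2 u3 u4 (by norm_num) 2 1 1 (by norm_num) (by norm_num)
                      linarith only [key, tap_2_3, taq_2_3, tap_2_4, taq_2_4, T.offDiag_nonneg u3 u4 hn_4_3.symm, T.w_pos u2, T.w_pos u3, T.w_pos u4]
                    · -- (2,4) Tm
                      exfalso
                      have key := Groth.Agent.Helper6.NT.negfun3 T h2 u2 u3 u4 (by norm_num) 2 1 3 (by norm_num) (by norm_num)
                      linarith only [key, tap_2_3, taq_2_3, tap_2_4, taq_2_4, T.offDiag_nonneg u3 u4 hn_4_3.symm, T.w_pos u2, T.w_pos u3, T.w_pos u4]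
                  · push Not at hx
                    have cl_2 := hx
                    clear hx
                    by_cases hx : ∃ j, (j ≠ u0 ∧ j ≠ u1 ∧ j ≠ u2 ∧ j ≠ u3) ∧ T.a u3 j ≠ 0
                    · obtain ⟨u4, ⟨hn_4_0, hn_4_1, hn_4_2, hn_4_3⟩, e_3_4⟩ := hx
                      have z_0_4 : T.a u0 u4 = 0 := cl_0 u4 ⟨hn_4_0, hn_4_1⟩
                      have z_1_4 : T.a u1 u4 = 0 := cl_1 u4 ⟨hn_4_0, hn_4_1, hn_4_2⟩
                      have z_2_4 : T.a u2 u4 = 0 := cl_2 u4 ⟨hn_4_0, hn_4_1, hn_4_2, hn_4_3⟩
                      rcases Groth.Agent.Helper6.NT.edge5 T h2 (by norm_num) u3 u4 hn_4_3.symm e_3_4 with ⟨tw_3_4, tap_3_4, taq_3_4⟩ | ⟨tw_3_4, tap_3_4, taq_3_4⟩ | ⟨tw_3_4, tap_3_4, taq_3_4⟩ | ⟨tw_3_4, tap_3_4, taq_3_4⟩ | ⟨tw_3_4, tap_3_4, taq_3_4⟩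
                      · -- (3,4) S
                        by_cases hx : ∃ j, (j ≠ u0 ∧ j ≠ u1 ∧ j ≠ u2 ∧ j ≠ u3 ∧ j ≠ u4) ∧ T.a u3 j ≠ 0
                        · obtain ⟨u5, ⟨hn_5_0, hn_5_1, hn_5_2, hn_5_3, hn_5_4⟩, e_3_5⟩ := hx
                          have z_0_5 : T.a u0 u5 = 0 := cl_0 u5 ⟨hn_5_0, hn_5_1⟩
                          have z_1_5 : T.a u1 u5 = 0 := cl_1 u5 ⟨hn_5_0, hn_5_1, hn_5_2⟩
                          have z_2_5 : T.a u2 u5 = 0 := cl_2 u5 ⟨hn_5_0, hn_5_1, hn_5_2, hn_5_3⟩
                          rcases Groth.Agent.Helper6.NT.edge5 T h2 (by norm_num) u3 u5 hn_5_3.symm e_3_5 with ⟨tw_3_5, tap_3_5, taq_3_5⟩ | ⟨tw_3_5, tap_3_5, taq_3_5⟩ | ⟨tw_3_5, tap_3_5, taq_3_5⟩ | ⟨tw_3_5, tap_3_5, taq_3_5⟩ | ⟨tw_3_5, tap_3_5, taq_3_5⟩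
                          · -- (3,5) S
                            rcases eq_or_ne (T.a u4 u5) 0 with z_4_5 | nz_4_5
                            · -- (4,5) zero
                              have hinj := Groth.Agent.Helper6.NT.inj6 u0 u1 u2 u3 u4 u5 hn_1_0 hn_2_0 hn_2_1 hn_3_0 hn_3_1 hn_3_2 hn_4_0 hn_4_1 hn_4_2 hn_4_3 hn_5_0 hn_5_1 hn_5_2 hn_5_3 hn_5_4
                              have r_0 : -2 * T.m u0 + 2 * T.m u1 = 0 := by
                                have key := Groth.Agent.Helper6.NT.rowfun6 T u0 u1 u2 u3 u4 u5 hinj u0
                                rw [(h2 u0).2, tap_0_1, z_0_2, z_0_3, z_0_4, z_0_5] at key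
                                exact mul_left_cancel₀ (T.w_pos u0).ne' (by linarith only [key])
                              have r_1 : 1 * T.m u0 + -2 * T.m u1 + 1 * T.m u2 = 0 := by
                                have key := Groth.Agent.Helper6.NT.rowfun6 T u0 u1 u2 u3 u4 u5 hinj u1
                                rw [Groth.Agent.Helper6.NT.symm' T u1 u0, taq_0_1, (h2 u1).2, tap_1_2, z_1_3, z_1_4, z_1_5] at key
                                exact mul_left_cancel₀ (T.w_pos u1).ne' (by linarith only [key])
                              have r_2 : 1 * T.m u1 + -2 * T.m u2 + 1 * T.m u3 = 0 := by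
                                have key := Groth.Agent.Helper6.NT.rowfun6 T u0 u1 u2 u3 u4 u5 hinj u2
                                rw [Groth.Agent.Helper6.NT.symm' T u2 u0, z_0_2, Groth.Agent.Helper6.NT.symm' T u2 u1, taq_1_2, (h2 u2).2, tap_2_3, z_2_4, z_2_5] at key
                                exact mul_left_cancel₀ (T.w_pos u2).ne' (by linarith only [key])
                              have r_3 : 1 * T.m u2 + -2 * T.m u3 + 1 * T.m u4 + 1 * T.m u5 = 0 := by
                                have key := Groth.Agent.Helper6.NT.rowfun6 T u0 u1 u2 u3 u4 u5 hinj u3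
                                rw [Groth.Agent.Helper6.NT.symm' T u3 u0, z_0_3, Groth.Agent.Helper6.NT.symm' T u3 u1, z_1_3, Groth.Agent.Helper6.NT.symm' T u3 u2, taq_2_3, (h2 u3).2, tap_3_4, tap_3_5] at key
                                exact mul_left_cancel₀ (T.w_pos u3).ne' (by linarith only [key])
                              have r_4 : 1 * T.m u3 + -2 * T.m u4 = 0 := by
                                have key := Groth.Agent.Helper6.NT.rowfun6 T u0 u1 u2 u3 u4 u5 hinj u4
                                rw [Groth.Agent.Helper6.NT.symm' T u4 u0, z_0_4, Groth.Agent.Helper6.NT.symm' T u4 u1, z_1_4, Groth.Agent.Helper6.NT.symm' T u4 u2, z_2_4, Groth.Agent.Helper6.NT.symm' T u4 u3, taq_3_4, (h2 u4).2, z_4_5] at key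
                                exact mul_left_cancel₀ (T.w_pos u4).ne' (by linarith only [key])
                              have r_5 : 1 * T.m u3 + -2 * T.m u5 = 0 := by
                                have key := Groth.Agent.Helper6.NT.rowfun6 T u0 u1 u2 u3 u4 u5 hinj u5
                                rw [Groth.Agent.Helper6.NT.symm' T u5 u0, z_0_5, Groth.Agent.Helper6.NT.symm' T u5 u1, z_1_5, Groth.Agent.Helper6.NT.symm' T u5 u2, z_2_5, Groth.Agent.Helper6.NT.symm' T u5 u3, taq_3_5, Groth.Agent.Helper6.NT.symm' T u5 u4, z_4_5, (h2 u5).2] at key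
                                exact mul_left_cancel₀ (T.w_pos u5).ne' (by linarith only [key])
                              have f0 : T.m u0 = 2 * T.m u4 := by linarith only [r_0, r_1, r_2, r_3, r_4, r_5]
                              have f1 : T.m u1 = 2 * T.m u4 := by linarith only [r_0, r_1, r_2, r_3, r_4, r_5]
                              have f2 : T.m u2 = 2 * T.m u4 := by linarith only [r_0, r_1, r_2, r_3, r_4, r_5]
                              have f3 : T.m u3 = 2 * T.m u4 := by linarith only [r_0, r_1, r_2, r_3, r_4, r_5]
                              have f4 : T.m u4 = T.m u4 := rfl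
                              have f5 : T.m u5 = T.m u4 := by linarith only [r_0, r_1, r_2, r_3, r_4, r_5]
                              have f6 : T.w u0 = T.w u0 := rfl
                              have f7 : T.w u1 = 2 * T.w u0 := by linarith only [tw_0_1, tw_1_2, tw_2_3, tw_3_4, tw_3_5]
                              have f8 : T.w u2 = 2 * T.w u0 := by linarith only [tw_0_1, tw_1_2, tw_2_3, tw_3_4, tw_3_5]
                              have f9 : T.w u3 = 2 * T.w u0 := by linarith only [tw_0_1, tw_1_2, tw_2_3, tw_3_4, tw_3_5]
                              have f10 : T.w u4 = 2 * T.w u0 := by linarith only [tw_0_1, tw_1_2, tw_2_3, tw_3_4, tw_3_5]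
                              have f11 : T.w u5 = 2 * T.w u0 := by linarith only [tw_0_1, tw_1_2, tw_2_3, tw_3_4, tw_3_5]
                              have f12 : T.a u0 u0 = -2 * T.w u0 := by have := (h2 u0).2; linarith only [this, tw_0_1, tw_1_2, tw_2_3, tw_3_4, tw_3_5]
                              have f13 : T.a u0 u1 = 2 * T.w u0 := by linarith only [tap_0_1, tw_0_1, tw_1_2, tw_2_3, tw_3_4, tw_3_5]
                              have f14 : T.a u0 u2 = 0 := by exact z_0_2
                              have f15 : T.a u0 u3 = 0 := by exact z_0_3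
                              have f16 : T.a u0 u4 = 0 := by exact z_0_4
                              have f17 : T.a u0 u5 = 0 := by exact z_0_5
                              have f18 : T.a u1 u1 = -4 * T.w u0 := by have := (h2 u1).2; linarith only [this, tw_0_1, tw_1_2, tw_2_3, tw_3_4, tw_3_5]
                              have f19 : T.a u1 u2 = 2 * T.w u0 := by linarith only [tap_1_2, tw_0_1, tw_1_2, tw_2_3, tw_3_4, tw_3_5]
                              have f20 : T.a u1 u3 = 0 := by exact z_1_3
                              have f21 : T.a u1 u4 = 0 := by exact z_1_4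
                              have f22 : T.a u1 u5 = 0 := by exact z_1_5
                              have f23 : T.a u2 u2 = -4 * T.w u0 := by have := (h2 u2).2; linarith only [this, tw_0_1, tw_1_2, tw_2_3, tw_3_4, tw_3_5]
                              have f24 : T.a u2 u3 = 2 * T.w u0 := by linarith only [tap_2_3, tw_0_1, tw_1_2, tw_2_3, tw_3_4, tw_3_5]
                              have f25 : T.a u2 u4 = 0 := by exact z_2_4
                              have f26 : T.a u2 u5 = 0 := by exact z_2_5
                              have f27 : T.a u3 u3 = -4 * T.w u0 := by have := (h2 u3).2; linarith only [this, tw_0_1, tw_1_2, tw_2_3, tw_3_4, tw_3_5]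
                              have f28 : T.a u3 u4 = 2 * T.w u0 := by linarith only [tap_3_4, tw_0_1, tw_1_2, tw_2_3, tw_3_4, tw_3_5]
                              have f29 : T.a u3 u5 = 2 * T.w u0 := by linarith only [tap_3_5, tw_0_1, tw_1_2, tw_2_3, tw_3_4, tw_3_5]
                              have f30 : T.a u4 u4 = -4 * T.w u0 := by have := (h2 u4).2; linarith only [this, tw_0_1, tw_1_2, tw_2_3, tw_3_4, tw_3_5]
                              have f31 : T.a u4 u5 = 0 := by exact z_4_5
                              have f32 : T.a u5 u5 = -4 * T.w u0 := by have := (h2 u5).2; linarith only [this, tw_0_1, tw_1_2, tw_2_3, tw_3_4, tw_3_5]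
                              have hsig := Groth.Agent.Helper6.NT.inj6 u0 u1 u2 u3 u4 u5 hn_1_0 hn_2_0 hn_2_1 hn_3_0 hn_3_1 hn_3_2 hn_4_0 hn_4_1 hn_4_2 hn_4_3 hn_5_0 hn_5_1 hn_5_2 hn_5_3 hn_5_4
                              exact ⟨Equiv.ofBijective _ (Finite.injective_iff_bijective.1 hsig), T.m u4, T.w u0, Or.inr (Or.inr (Or.inr (Or.inr (Or.inr (Or.inl ⟨f0, f1, f2, f3, f4, f5, f6, f7, f8, f9, f10, f11, f12, f13, f14, f15, f16, f17, f18, f19, f20, f21, f22, f23, f24, f25, f26, f27, f28, f29, f30, f31, f32⟩)))))⟩
                            · -- (4,5) nonzero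
                              obtain ⟨lbp_4_5, lbq_4_5⟩ := Groth.Agent.Helper6.NT.lb T u4 u5 hn_5_4.symm nz_4_5
                              exfalso
                              have key := Groth.Agent.Helper6.NT.negfun3 T h2 u3 u4 u5 (by norm_num) 1 1 1 (by norm_num) (by norm_num)
                              linarith only [key, tap_3_4, taq_3_4, tap_3_5, taq_3_5, lbp_4_5, lbq_4_5, T.w_pos u3, T.w_pos u4, T.w_pos u5]
                          · -- (3,5) Dp
                            exfalso
                            have key := Groth.Agent.Helper6.NT.negfun4 T h2 u2 u3 u4 u5 (by norm_num) 1 2 1 1 (by norm_num) (by norm_num)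
                            linarith only [key, tap_2_3, taq_2_3, z_2_4, z_2_5, tap_3_4, taq_3_4, tap_3_5, taq_3_5, T.offDiag_nonneg u4 u5 hn_5_4.symm, T.w_pos u2, T.w_pos u3, T.w_pos u4, T.w_pos u5]
                          · -- (3,5) Dm
                            exfalso
                            have key := Groth.Agent.Helper6.NT.negfun4 T h2 u2 u3 u4 u5 (by norm_num) 1 2 1 2 (by norm_num) (by norm_num)
                            linarith only [key, tap_2_3, taq_2_3, z_2_4, z_2_5, tap_3_4, taq_3_4, tap_3_5, taq_3_5, T.offDiag_nonneg u4 u5 hn_5_4.symm, T.w_pos u2, T.w_pos u3, T.w_pos u4, T.w_pos u5]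
                          · -- (3,5) Tp
                            exfalso
                            have key := Groth.Agent.Helper6.NT.negfun3 T h2 u3 u4 u5 (by norm_num) 2 1 1 (by norm_num) (by norm_num)
                            linarith only [key, tap_3_4, taq_3_4, tap_3_5, taq_3_5, T.offDiag_nonneg u4 u5 hn_5_4.symm, T.w_pos u3, T.w_pos u4, T.w_pos u5]
                          · -- (3,5) Tm
                            exfalso
                            have key := Groth.Agent.Helper6.NT.negfun3 T h2 u3 u4 u5 (by norm_num) 2 1 3 (by norm_num) (by norm_num)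
                            linarith only [key, tap_3_4, taq_3_4, tap_3_5, taq_3_5, T.offDiag_nonneg u4 u5 hn_5_4.symm, T.w_pos u3, T.w_pos u4, T.w_pos u5]
                        · push Not at hx
                          have cl_3 := hx
                          clear hx
                          by_cases hx : ∃ j, (j ≠ u0 ∧ j ≠ u1 ∧ j ≠ u2 ∧ j ≠ u3 ∧ j ≠ u4) ∧ T.a u4 j ≠ 0
                          · obtain ⟨u5, ⟨hn_5_0, hn_5_1, hn_5_2, hn_5_3, hn_5_4⟩, e_4_5⟩ := hx
                            have z_0_5 : T.a u0 u5 = 0 := cl_0 u5 ⟨hn_5_0, hn_5_1⟩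
                            have z_1_5 : T.a u1 u5 = 0 := cl_1 u5 ⟨hn_5_0, hn_5_1, hn_5_2⟩
                            have z_2_5 : T.a u2 u5 = 0 := cl_2 u5 ⟨hn_5_0, hn_5_1, hn_5_2, hn_5_3⟩
                            have z_3_5 : T.a u3 u5 = 0 := cl_3 u5 ⟨hn_5_0, hn_5_1, hn_5_2, hn_5_3, hn_5_4⟩
                            rcases Groth.Agent.Helper6.NT.edge5 T h2 (by norm_num) u4 u5 hn_5_4.symm e_4_5 with ⟨tw_4_5, tap_4_5, taq_4_5⟩ | ⟨tw_4_5, tap_4_5, taq_4_5⟩ | ⟨tw_4_5, tap_4_5, taq_4_5⟩ | ⟨tw_4_5, tap_4_5, taq_4_5⟩ | ⟨tw_4_5, tap_4_5, taq_4_5⟩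
                            · -- (4,5) S
                              have hinj := Groth.Agent.Helper6.NT.inj6 u0 u1 u2 u3 u4 u5 hn_1_0 hn_2_0 hn_2_1 hn_3_0 hn_3_1 hn_3_2 hn_4_0 hn_4_1 hn_4_2 hn_4_3 hn_5_0 hn_5_1 hn_5_2 hn_5_3 hn_5_4
                              have r_0 : -2 * T.m u0 + 2 * T.m u1 = 0 := by
                                have key := Groth.Agent.Helper6.NT.rowfun6 T u0 u1 u2 u3 u4 u5 hinj u0
                                rw [(h2 u0).2, tap_0_1, z_0_2, z_0_3, z_0_4, z_0_5] at key
                                exact mul_left_cancel₀ (T.w_pos u0).ne' (by linarith only [key])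
                              have r_1 : 1 * T.m u0 + -2 * T.m u1 + 1 * T.m u2 = 0 := by
                                have key := Groth.Agent.Helper6.NT.rowfun6 T u0 u1 u2 u3 u4 u5 hinj u1
                                rw [Groth.Agent.Helper6.NT.symm' T u1 u0, taq_0_1, (h2 u1).2, tap_1_2, z_1_3, z_1_4, z_1_5] at key
                                exact mul_left_cancel₀ (T.w_pos u1).ne' (by linarith only [key])
                              have r_2 : 1 * T.m u1 + -2 * T.m u2 + 1 * T.m u3 = 0 := by
                                have key := Groth.Agent.Helper6.NT.rowfun6 T u0 u1 u2 u3 u4 u5 hinj u2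
                                rw [Groth.Agent.Helper6.NT.symm' T u2 u0, z_0_2, Groth.Agent.Helper6.NT.symm' T u2 u1, taq_1_2, (h2 u2).2, tap_2_3, z_2_4, z_2_5] at key
                                exact mul_left_cancel₀ (T.w_pos u2).ne' (by linarith only [key])
                              have r_3 : 1 * T.m u2 + -2 * T.m u3 + 1 * T.m u4 = 0 := by
                                have key := Groth.Agent.Helper6.NT.rowfun6 T u0 u1 u2 u3 u4 u5 hinj u3
                                rw [Groth.Agent.Helper6.NT.symm' T u3 u0, z_0_3, Groth.Agent.Helper6.NT.symm' T u3 u1, z_1_3, Groth.Agent.Helper6.NT.symm' T u3 u2, taq_2_3, (h2 u3).2, tap_3_4, z_3_5] at key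
                                exact mul_left_cancel₀ (T.w_pos u3).ne' (by linarith only [key])
                              have r_4 : 1 * T.m u3 + -2 * T.m u4 + 1 * T.m u5 = 0 := by
                                have key := Groth.Agent.Helper6.NT.rowfun6 T u0 u1 u2 u3 u4 u5 hinj u4
                                rw [Groth.Agent.Helper6.NT.symm' T u4 u0, z_0_4, Groth.Agent.Helper6.NT.symm' T u4 u1, z_1_4, Groth.Agent.Helper6.NT.symm' T u4 u2, z_2_4, Groth.Agent.Helper6.NT.symm' T u4 u3, taq_3_4, (h2 u4).2, tap_4_5] at key
                                exact mul_left_cancel₀ (T.w_pos u4).ne' (by linarith only [key])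
                              have r_5 : 1 * T.m u4 + -2 * T.m u5 = 0 := by
                                have key := Groth.Agent.Helper6.NT.rowfun6 T u0 u1 u2 u3 u4 u5 hinj u5
                                rw [Groth.Agent.Helper6.NT.symm' T u5 u0, z_0_5, Groth.Agent.Helper6.NT.symm' T u5 u1, z_1_5, Groth.Agent.Helper6.NT.symm' T u5 u2, z_2_5, Groth.Agent.Helper6.NT.symm' T u5 u3, z_3_5, Groth.Agent.Helper6.NT.symm' T u5 u4, taq_4_5, (h2 u5).2] at key
                                exact mul_left_cancel₀ (T.w_pos u5).ne' (by linarith only [key])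
                              exfalso
                              linarith only [r_0, r_1, r_2, r_3, r_4, r_5, T.m_pos u0, T.m_pos u1, T.m_pos u2, T.m_pos u3, T.m_pos u4, T.m_pos u5]
                            · -- (4,5) Dp
                              have hinj := Groth.Agent.Helper6.NT.inj6 u0 u1 u2 u3 u4 u5 hn_1_0 hn_2_0 hn_2_1 hn_3_0 hn_3_1 hn_3_2 hn_4_0 hn_4_1 hn_4_2 hn_4_3 hn_5_0 hn_5_1 hn_5_2 hn_5_3 hn_5_4
                              have r_0 : -2 * T.m u0 + 2 * T.m u1 = 0 := by
                                have key := Groth.Agent.Helper6.NT.rowfun6 T u0 u1 u2 u3 u4 u5 hinj u0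
                                rw [(h2 u0).2, tap_0_1, z_0_2, z_0_3, z_0_4, z_0_5] at key
                                exact mul_left_cancel₀ (T.w_pos u0).ne' (by linarith only [key])
                              have r_1 : 1 * T.m u0 + -2 * T.m u1 + 1 * T.m u2 = 0 := by
                                have key := Groth.Agent.Helper6.NT.rowfun6 T u0 u1 u2 u3 u4 u5 hinj u1
                                rw [Groth.Agent.Helper6.NT.symm' T u1 u0, taq_0_1, (h2 u1).2, tap_1_2, z_1_3, z_1_4, z_1_5] at key
                                exact mul_left_cancel₀ (T.w_pos u1).ne' (by linarith only [key])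
                              have r_2 : 1 * T.m u1 + -2 * T.m u2 + 1 * T.m u3 = 0 := by
                                have key := Groth.Agent.Helper6.NT.rowfun6 T u0 u1 u2 u3 u4 u5 hinj u2
                                rw [Groth.Agent.Helper6.NT.symm' T u2 u0, z_0_2, Groth.Agent.Helper6.NT.symm' T u2 u1, taq_1_2, (h2 u2).2, tap_2_3, z_2_4, z_2_5] at key
                                exact mul_left_cancel₀ (T.w_pos u2).ne' (by linarith only [key])
                              have r_3 : 1 * T.m u2 + -2 * T.m u3 + 1 * T.m u4 = 0 := by
                                have key := Groth.Agent.Helper6.NT.rowfun6 T u0 u1 u2 u3 u4 u5 hinj u3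
                                rw [Groth.Agent.Helper6.NT.symm' T u3 u0, z_0_3, Groth.Agent.Helper6.NT.symm' T u3 u1, z_1_3, Groth.Agent.Helper6.NT.symm' T u3 u2, taq_2_3, (h2 u3).2, tap_3_4, z_3_5] at key
                                exact mul_left_cancel₀ (T.w_pos u3).ne' (by linarith only [key])
                              have r_4 : 1 * T.m u3 + -2 * T.m u4 + 2 * T.m u5 = 0 := by
                                have key := Groth.Agent.Helper6.NT.rowfun6 T u0 u1 u2 u3 u4 u5 hinj u4
                                rw [Groth.Agent.Helper6.NT.symm' T u4 u0, z_0_4, Groth.Agent.Helper6.NT.symm' T u4 u1, z_1_4, Groth.Agent.Helper6.NT.symm' T u4 u2, z_2_4, Groth.Agent.Helper6.NT.symm' T u4 u3, taq_3_4, (h2 u4).2, tap_4_5] at key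
                                exact mul_left_cancel₀ (T.w_pos u4).ne' (by linarith only [key])
                              have r_5 : 1 * T.m u4 + -2 * T.m u5 = 0 := by
                                have key := Groth.Agent.Helper6.NT.rowfun6 T u0 u1 u2 u3 u4 u5 hinj u5
                                rw [Groth.Agent.Helper6.NT.symm' T u5 u0, z_0_5, Groth.Agent.Helper6.NT.symm' T u5 u1, z_1_5, Groth.Agent.Helper6.NT.symm' T u5 u2, z_2_5, Groth.Agent.Helper6.NT.symm' T u5 u3, z_3_5, Groth.Agent.Helper6.NT.symm' T u5 u4, taq_4_5, (h2 u5).2] at key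
                                exact mul_left_cancel₀ (T.w_pos u5).ne' (by linarith only [key])
                              have f0 : T.m u0 = 2 * T.m u5 := by linarith only [r_0, r_1, r_2, r_3, r_4, r_5]
                              have f1 : T.m u1 = 2 * T.m u5 := by linarith only [r_0, r_1, r_2, r_3, r_4, r_5]
                              have f2 : T.m u2 = 2 * T.m u5 := by linarith only [r_0, r_1, r_2, r_3, r_4, r_5]
                              have f3 : T.m u3 = 2 * T.m u5 := by linarith only [r_0, r_1, r_2, r_3, r_4, r_5]
                              have f4 : T.m u4 = 2 * T.m u5 := by linarith only [r_0, r_1, r_2, r_3, r_4, r_5]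
                              have f5 : T.m u5 = T.m u5 := rfl
                              have f6 : T.w u0 = T.w u0 := rfl
                              have f7 : T.w u1 = 2 * T.w u0 := by linarith only [tw_0_1, tw_1_2, tw_2_3, tw_3_4, tw_4_5]
                              have f8 : T.w u2 = 2 * T.w u0 := by linarith only [tw_0_1, tw_1_2, tw_2_3, tw_3_4, tw_4_5]
                              have f9 : T.w u3 = 2 * T.w u0 := by linarith only [tw_0_1, tw_1_2, tw_2_3, tw_3_4, tw_4_5]
                              have f10 : T.w u4 = 2 * T.w u0 := by linarith only [tw_0_1, tw_1_2, tw_2_3, tw_3_4, tw_4_5]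
                              have f11 : T.w u5 = 4 * T.w u0 := by linarith only [tw_0_1, tw_1_2, tw_2_3, tw_3_4, tw_4_5]
                              have f12 : T.a u0 u0 = -2 * T.w u0 := by have := (h2 u0).2; linarith only [this, tw_0_1, tw_1_2, tw_2_3, tw_3_4, tw_4_5]
                              have f13 : T.a u0 u1 = 2 * T.w u0 := by linarith only [tap_0_1, tw_0_1, tw_1_2, tw_2_3, tw_3_4, tw_4_5]
                              have f14 : T.a u0 u2 = 0 := by exact z_0_2
                              have f15 : T.a u0 u3 = 0 := by exact z_0_3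
                              have f16 : T.a u0 u4 = 0 := by exact z_0_4
                              have f17 : T.a u0 u5 = 0 := by exact z_0_5
                              have f18 : T.a u1 u1 = -4 * T.w u0 := by have := (h2 u1).2; linarith only [this, tw_0_1, tw_1_2, tw_2_3, tw_3_4, tw_4_5]
                              have f19 : T.a u1 u2 = 2 * T.w u0 := by linarith only [tap_1_2, tw_0_1, tw_1_2, tw_2_3, tw_3_4, tw_4_5]
                              have f20 : T.a u1 u3 = 0 := by exact z_1_3
                              have f21 : T.a u1 u4 = 0 := by exact z_1_4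
                              have f22 : T.a u1 u5 = 0 := by exact z_1_5
                              have f23 : T.a u2 u2 = -4 * T.w u0 := by have := (h2 u2).2; linarith only [this, tw_0_1, tw_1_2, tw_2_3, tw_3_4, tw_4_5]
                              have f24 : T.a u2 u3 = 2 * T.w u0 := by linarith only [tap_2_3, tw_0_1, tw_1_2, tw_2_3, tw_3_4, tw_4_5]
                              have f25 : T.a u2 u4 = 0 := by exact z_2_4
                              have f26 : T.a u2 u5 = 0 := by exact z_2_5
                              have f27 : T.a u3 u3 = -4 * T.w u0 := by have := (h2 u3).2; linarith only [this, tw_0_1, tw_1_2, tw_2_3, tw_3_4, tw_4_5]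
                              have f28 : T.a u3 u4 = 2 * T.w u0 := by linarith only [tap_3_4, tw_0_1, tw_1_2, tw_2_3, tw_3_4, tw_4_5]
                              have f29 : T.a u3 u5 = 0 := by exact z_3_5
                              have f30 : T.a u4 u4 = -4 * T.w u0 := by have := (h2 u4).2; linarith only [this, tw_0_1, tw_1_2, tw_2_3, tw_3_4, tw_4_5]
                              have f31 : T.a u4 u5 = 4 * T.w u0 := by linarith only [tap_4_5, tw_0_1, tw_1_2, tw_2_3, tw_3_4, tw_4_5]
                              have f32 : T.a u5 u5 = -8 * T.w u0 := by have := (h2 u5).2; linarith only [this, tw_0_1, tw_1_2, tw_2_3, tw_3_4, tw_4_5]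
                              have hsig := Groth.Agent.Helper6.NT.inj6 u0 u1 u2 u3 u4 u5 hn_1_0 hn_2_0 hn_2_1 hn_3_0 hn_3_1 hn_3_2 hn_4_0 hn_4_1 hn_4_2 hn_4_3 hn_5_0 hn_5_1 hn_5_2 hn_5_3 hn_5_4
                              exact ⟨Equiv.ofBijective _ (Finite.injective_iff_bijective.1 hsig), T.m u5, T.w u0, Or.inr (Or.inl ⟨f0, f1, f2, f3, f4, f5, f6, f7, f8, f9, f10, f11, f12, f13, f14, f15, f16, f17, f18, f19, f20, f21, f22, f23, f24, f25, f26, f27, f28, f29, f30, f31, f32⟩)⟩
                            · -- (4,5) Dm
                              have hinj := Groth.Agent.Helper6.NT.inj6 u0 u1 u2 u3 u4 u5 hn_1_0 hn_2_0 hn_2_1 hn_3_0 hn_3_1 hn_3_2 hn_4_0 hn_4_1 hn_4_2 hn_4_3 hn_5_0 hn_5_1 hn_5_2 hn_5_3 hn_5_4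
                              have r_0 : -2 * T.m u0 + 2 * T.m u1 = 0 := by
                                have key := Groth.Agent.Helper6.NT.rowfun6 T u0 u1 u2 u3 u4 u5 hinj u0
                                rw [(h2 u0).2, tap_0_1, z_0_2, z_0_3, z_0_4, z_0_5] at key
                                exact mul_left_cancel₀ (T.w_pos u0).ne' (by linarith only [key])
                              have r_1 : 1 * T.m u0 + -2 * T.m u1 + 1 * T.m u2 = 0 := by
                                have key := Groth.Agent.Helper6.NT.rowfun6 T u0 u1 u2 u3 u4 u5 hinj u1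
                                rw [Groth.Agent.Helper6.NT.symm' T u1 u0, taq_0_1, (h2 u1).2, tap_1_2, z_1_3, z_1_4, z_1_5] at key
                                exact mul_left_cancel₀ (T.w_pos u1).ne' (by linarith only [key])
                              have r_2 : 1 * T.m u1 + -2 * T.m u2 + 1 * T.m u3 = 0 := by
                                have key := Groth.Agent.Helper6.NT.rowfun6 T u0 u1 u2 u3 u4 u5 hinj u2
                                rw [Groth.Agent.Helper6.NT.symm' T u2 u0, z_0_2, Groth.Agent.Helper6.NT.symm' T u2 u1, taq_1_2, (h2 u2).2, tap_2_3, z_2_4, z_2_5] at key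
                                exact mul_left_cancel₀ (T.w_pos u2).ne' (by linarith only [key])
                              have r_3 : 1 * T.m u2 + -2 * T.m u3 + 1 * T.m u4 = 0 := by
                                have key := Groth.Agent.Helper6.NT.rowfun6 T u0 u1 u2 u3 u4 u5 hinj u3
                                rw [Groth.Agent.Helper6.NT.symm' T u3 u0, z_0_3, Groth.Agent.Helper6.NT.symm' T u3 u1, z_1_3, Groth.Agent.Helper6.NT.symm' T u3 u2, taq_2_3, (h2 u3).2, tap_3_4, z_3_5] at key
                                exact mul_left_cancel₀ (T.w_pos u3).ne' (by linarith only [key])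
                              have r_4 : 1 * T.m u3 + -2 * T.m u4 + 1 * T.m u5 = 0 := by
                                have key := Groth.Agent.Helper6.NT.rowfun6 T u0 u1 u2 u3 u4 u5 hinj u4
                                rw [Groth.Agent.Helper6.NT.symm' T u4 u0, z_0_4, Groth.Agent.Helper6.NT.symm' T u4 u1, z_1_4, Groth.Agent.Helper6.NT.symm' T u4 u2, z_2_4, Groth.Agent.Helper6.NT.symm' T u4 u3, taq_3_4, (h2 u4).2, tap_4_5] at key
                                exact mul_left_cancel₀ (T.w_pos u4).ne' (by linarith only [key])
                              have r_5 : 2 * T.m u4 + -2 * T.m u5 = 0 := by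
                                have key := Groth.Agent.Helper6.NT.rowfun6 T u0 u1 u2 u3 u4 u5 hinj u5
                                rw [Groth.Agent.Helper6.NT.symm' T u5 u0, z_0_5, Groth.Agent.Helper6.NT.symm' T u5 u1, z_1_5, Groth.Agent.Helper6.NT.symm' T u5 u2, z_2_5, Groth.Agent.Helper6.NT.symm' T u5 u3, z_3_5, Groth.Agent.Helper6.NT.symm' T u5 u4, taq_4_5, (h2 u5).2] at key
                                exact mul_left_cancel₀ (T.w_pos u5).ne' (by linarith only [key])
                              have f0 : T.m u0 = T.m u0 := rfl
                              have f1 : T.m u1 = T.m u0 := by linarith only [r_0, r_1, r_2, r_3, r_4, r_5]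
                              have f2 : T.m u2 = T.m u0 := by linarith only [r_0, r_1, r_2, r_3, r_4, r_5]
                              have f3 : T.m u3 = T.m u0 := by linarith only [r_0, r_1, r_2, r_3, r_4, r_5]
                              have f4 : T.m u4 = T.m u0 := by linarith only [r_0, r_1, r_2, r_3, r_4, r_5]
                              have f5 : T.m u5 = T.m u0 := by linarith only [r_0, r_1, r_2, r_3, r_4, r_5]
                              have f6 : T.w u0 = T.w u0 := rfl
                              have f7 : T.w u1 = 2 * T.w u0 := by linarith only [tw_0_1, tw_1_2, tw_2_3, tw_3_4, tw_4_5]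
                              have f8 : T.w u2 = 2 * T.w u0 := by linarith only [tw_0_1, tw_1_2, tw_2_3, tw_3_4, tw_4_5]
                              have f9 : T.w u3 = 2 * T.w u0 := by linarith only [tw_0_1, tw_1_2, tw_2_3, tw_3_4, tw_4_5]
                              have f10 : T.w u4 = 2 * T.w u0 := by linarith only [tw_0_1, tw_1_2, tw_2_3, tw_3_4, tw_4_5]
                              have f11 : T.w u5 = T.w u0 := by linarith only [tw_0_1, tw_1_2, tw_2_3, tw_3_4, tw_4_5]
                              have f12 : T.a u0 u0 = -2 * T.w u0 := by have := (h2 u0).2; linarith only [this, tw_0_1, tw_1_2, tw_2_3, tw_3_4, tw_4_5]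
                              have f13 : T.a u0 u1 = 2 * T.w u0 := by linarith only [tap_0_1, tw_0_1, tw_1_2, tw_2_3, tw_3_4, tw_4_5]
                              have f14 : T.a u0 u2 = 0 := by exact z_0_2
                              have f15 : T.a u0 u3 = 0 := by exact z_0_3
                              have f16 : T.a u0 u4 = 0 := by exact z_0_4
                              have f17 : T.a u0 u5 = 0 := by exact z_0_5
                              have f18 : T.a u1 u1 = -4 * T.w u0 := by have := (h2 u1).2; linarith only [this, tw_0_1, tw_1_2, tw_2_3, tw_3_4, tw_4_5]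
                              have f19 : T.a u1 u2 = 2 * T.w u0 := by linarith only [tap_1_2, tw_0_1, tw_1_2, tw_2_3, tw_3_4, tw_4_5]
                              have f20 : T.a u1 u3 = 0 := by exact z_1_3
                              have f21 : T.a u1 u4 = 0 := by exact z_1_4
                              have f22 : T.a u1 u5 = 0 := by exact z_1_5
                              have f23 : T.a u2 u2 = -4 * T.w u0 := by have := (h2 u2).2; linarith only [this, tw_0_1, tw_1_2, tw_2_3, tw_3_4, tw_4_5]
                              have f24 : T.a u2 u3 = 2 * T.w u0 := by linarith only [tap_2_3, tw_0_1, tw_1_2, tw_2_3, tw_3_4, tw_4_5]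
                              have f25 : T.a u2 u4 = 0 := by exact z_2_4
                              have f26 : T.a u2 u5 = 0 := by exact z_2_5
                              have f27 : T.a u3 u3 = -4 * T.w u0 := by have := (h2 u3).2; linarith only [this, tw_0_1, tw_1_2, tw_2_3, tw_3_4, tw_4_5]
                              have f28 : T.a u3 u4 = 2 * T.w u0 := by linarith only [tap_3_4, tw_0_1, tw_1_2, tw_2_3, tw_3_4, tw_4_5]
                              have f29 : T.a u3 u5 = 0 := by exact z_3_5
                              have f30 : T.a u4 u4 = -4 * T.w u0 := by have := (h2 u4).2; linarith only [this, tw_0_1, tw_1_2, tw_2_3, tw_3_4, tw_4_5]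
                              have f31 : T.a u4 u5 = 2 * T.w u0 := by linarith only [tap_4_5, tw_0_1, tw_1_2, tw_2_3, tw_3_4, tw_4_5]
                              have f32 : T.a u5 u5 = -2 * T.w u0 := by have := (h2 u5).2; linarith only [this, tw_0_1, tw_1_2, tw_2_3, tw_3_4, tw_4_5]
                              have hsig := Groth.Agent.Helper6.NT.inj6 u0 u1 u2 u3 u4 u5 hn_1_0 hn_2_0 hn_2_1 hn_3_0 hn_3_1 hn_3_2 hn_4_0 hn_4_1 hn_4_2 hn_4_3 hn_5_0 hn_5_1 hn_5_2 hn_5_3 hn_5_4
                              exact ⟨Equiv.ofBijective _ (Finite.injective_iff_bijective.1 hsig), T.m u0, T.w u0, Or.inr (Or.inr (Or.inl ⟨f0, f1, f2, f3, f4, f5, f6, f7, f8, f9, f10, f11, f12, f13, f14, f15, f16, f17, f18, f19, f20, f21, f22, f23, f24, f25, f26, f27, f28, f29, f30, f31, f32⟩))⟩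
                            · -- (4,5) Tp
                              exfalso
                              have key := Groth.Agent.Helper6.NT.negfun3 T h2 u3 u4 u5 (by norm_num) 1 2 1 (by norm_num) (by norm_num)
                              linarith only [key, tap_3_4, taq_3_4, z_3_5, tap_4_5, taq_4_5, T.w_pos u3, T.w_pos u4, T.w_pos u5]
                            · -- (4,5) Tm
                              exfalso
                              have key := Groth.Agent.Helper6.NT.negfun3 T h2 u3 u4 u5 (by norm_num) 1 2 3 (by norm_num) (by norm_num)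
                              linarith only [key, tap_3_4, taq_3_4, z_3_5, tap_4_5, taq_4_5, T.w_pos u3, T.w_pos u4, T.w_pos u5]
                          · push Not at hx
                            have cl_4 := hx
                            clear hx
                            exfalso
                            refine Groth.Agent.Helper6.NT.closed_contra T [u0, u1, u2, u3, u4] (by simp) (by simp) ?_
                            intro i hi j hj
                            simp only [List.mem_cons, List.not_mem_nil, or_false, not_or] at hi hj
                            rcases hi with rfl | rfl | rfl | rfl | rfl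
                            · exact cl_0 j ⟨hj.1, hj.2.1⟩
                            · exact cl_1 j ⟨hj.1, hj.2.1, hj.2.2.1⟩
                            · exact cl_2 j ⟨hj.1, hj.2.1, hj.2.2.1, hj.2.2.2.1⟩
                            · exact cl_3 j ⟨hj.1, hj.2.1, hj.2.2.1, hj.2.2.2.1, hj.2.2.2.2⟩
                            · exact cl_4 j ⟨hj.1, hj.2.1, hj.2.2.1, hj.2.2.2.1, hj.2.2.2.2⟩
                      · -- (3,4) Dp
                        exfalso
                        have key := Groth.Agent.Helper6.NT.negfun5 T h2 u0 u1 u2 u3 u4 (by norm_num) 2 2 2 2 1 (by norm_num) (by norm_num)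
                        linarith only [key, tap_0_1, taq_0_1, z_0_2, z_0_3, z_0_4, tap_1_2, taq_1_2, z_1_3, z_1_4, tap_2_3, taq_2_3, z_2_4, tap_3_4, taq_3_4, T.w_pos u0, T.w_pos u1, T.w_pos u2, T.w_pos u3, T.w_pos u4]
                      · -- (3,4) Dm
                        exfalso
                        have key := Groth.Agent.Helper6.NT.negfun5 T h2 u0 u1 u2 u3 u4 (by norm_num) 1 1 1 1 1 (by norm_num) (by norm_num)
                        linarith only [key, tap_0_1, taq_0_1, z_0_2, z_0_3, z_0_4, tap_1_2, taq_1_2, z_1_3, z_1_4, tap_2_3, taq_2_3, z_2_4, tap_3_4, taq_3_4, T.w_pos u0, T.w_pos u1, T.w_pos u2, T.w_pos u3, T.w_pos u4]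
                      · -- (3,4) Tp
                        exfalso
                        have key := Groth.Agent.Helper6.NT.negfun3 T h2 u2 u3 u4 (by norm_num) 1 2 1 (by norm_num) (by norm_num)
                        linarith only [key, tap_2_3, taq_2_3, z_2_4, tap_3_4, taq_3_4, T.w_pos u2, T.w_pos u3, T.w_pos u4]
                      · -- (3,4) Tm
                        exfalso
                        have key := Groth.Agent.Helper6.NT.negfun3 T h2 u2 u3 u4 (by norm_num) 1 2 3 (by norm_num) (by norm_num)
                        linarith only [key, tap_2_3, taq_2_3, z_2_4, tap_3_4, taq_3_4, T.w_pos u2, T.w_pos u3, T.w_pos u4]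
                    · push Not at hx
                      have cl_3 := hx
                      clear hx
                      exfalso
                      refine Groth.Agent.Helper6.NT.closed_contra T [u0, u1, u2, u3] (by simp) (by simp) ?_
                      intro i hi j hj
                      simp only [List.mem_cons, List.not_mem_nil, or_false, not_or] at hi hj
                      rcases hi with rfl | rfl | rfl | rfl
                      · exact cl_0 j ⟨hj.1, hj.2.1⟩
                      · exact cl_1 j ⟨hj.1, hj.2.1, hj.2.2.1⟩
                      · exact cl_2 j ⟨hj.1, hj.2.1, hj.2.2.1, hj.2.2.2⟩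
                      · exact cl_3 j ⟨hj.1, hj.2.1, hj.2.2.1, hj.2.2.2⟩
                · -- (2,3) Dp
                  exfalso
                  have key := Groth.Agent.Helper6.NT.negfun4 T h2 u0 u1 u2 u3 (by norm_num) 2 2 2 1 (by norm_num) (by norm_num)
                  linarith only [key, tap_0_1, taq_0_1, z_0_2, z_0_3, tap_1_2, taq_1_2, z_1_3, tap_2_3, taq_2_3, T.w_pos u0, T.w_pos u1, T.w_pos u2, T.w_pos u3]
                · -- (2,3) Dm
                  exfalso
                  have key := Groth.Agent.Helper6.NT.negfun4 T h2 u0 u1 u2 u3 (by norm_num) 1 1 1 1 (by norm_num) (by norm_num)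
                  linarith only [key, tap_0_1, taq_0_1, z_0_2, z_0_3, tap_1_2, taq_1_2, z_1_3, tap_2_3, taq_2_3, T.w_pos u0, T.w_pos u1, T.w_pos u2, T.w_pos u3]
                · -- (2,3) Tp
                  exfalso
                  have key := Groth.Agent.Helper6.NT.negfun3 T h2 u1 u2 u3 (by norm_num) 1 2 1 (by norm_num) (by norm_num)
                  linarith only [key, tap_1_2, taq_1_2, z_1_3, tap_2_3, taq_2_3, T.w_pos u1, T.w_pos u2, T.w_pos u3]
                · -- (2,3) Tm
                  exfalso
                  have key := Groth.Agent.Helper6.NT.negfun3 T h2 u1 u2 u3 (by norm_num) 1 2 3 (by norm_num) (by norm_num)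
                  linarith only [key, tap_1_2, taq_1_2, z_1_3, tap_2_3, taq_2_3, T.w_pos u1, T.w_pos u2, T.w_pos u3]
              · push Not at hx
                have cl_2 := hx
                clear hx
                exfalso
                refine Groth.Agent.Helper6.NT.closed_contra T [u0, u1, u2] (by simp) (by simp) ?_
                intro i hi j hj
                simp only [List.mem_cons, List.not_mem_nil, or_false, not_or] at hi hj
                rcases hi with rfl | rfl | rfl
                · exact cl_0 j ⟨hj.1, hj.2.1⟩
                · exact cl_1 j ⟨hj.1, hj.2.1, hj.2.2⟩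
                · exact cl_2 j ⟨hj.1, hj.2.1, hj.2.2⟩
          · -- (1,2) Dp
            exfalso
            have key := Groth.Agent.Helper6.NT.negfun3 T h2 u0 u1 u2 (by norm_num) 2 2 1 (by norm_num) (by norm_num)
            linarith only [key, tap_0_1, taq_0_1, z_0_2, tap_1_2, taq_1_2, T.w_pos u0, T.w_pos u1, T.w_pos u2]
          · -- (1,2) Dm
            exfalso
            have key := Groth.Agent.Helper6.NT.negfun3 T h2 u0 u1 u2 (by norm_num) 1 1 1 (by norm_num) (by norm_num)
            linarith only [key, tap_0_1, taq_0_1, z_0_2, tap_1_2, taq_1_2, T.w_pos u0, T.w_pos u1, T.w_pos u2]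
          · -- (1,2) Tp
            exfalso
            have key := Groth.Agent.Helper6.NT.negfun3 T h2 u0 u1 u2 (by norm_num) 2 2 1 (by norm_num) (by norm_num)
            linarith only [key, tap_0_1, taq_0_1, z_0_2, tap_1_2, taq_1_2, T.w_pos u0, T.w_pos u1, T.w_pos u2]
          · -- (1,2) Tm
            exfalso
            have key := Groth.Agent.Helper6.NT.negfun3 T h2 u0 u1 u2 (by norm_num) 2 2 3 (by norm_num) (by norm_num)
            linarith only [key, tap_0_1, taq_0_1, z_0_2, tap_1_2, taq_1_2, T.w_pos u0, T.w_pos u1, T.w_pos u2]
        · push Not at hx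
          have cl_1 := hx
          clear hx
          exfalso
          refine Groth.Agent.Helper6.NT.closed_contra T [u0, u1] (by simp) (by simp) ?_
          intro i hi j hj
          simp only [List.mem_cons, List.not_mem_nil, or_false, not_or] at hi hj
          rcases hi with rfl | rfl
          · exact cl_0 j ⟨hj.1, hj.2⟩
          · exact cl_1 j ⟨hj.1, hj.2⟩
    · -- (0,1) Dm
      by_cases hx : ∃ j, (j ≠ u0 ∧ j ≠ u1) ∧ T.a u0 j ≠ 0
      · obtain ⟨u2, ⟨hn_2_0, hn_2_1⟩, e_0_2⟩ := hx
        rcases Groth.Agent.Helper6.NT.edge5 T h2 (by norm_num) u0 u2 hn_2_0.symm e_0_2 with ⟨tw_0_2, tap_0_2, taq_0_2⟩ | ⟨tw_0_2, tap_0_2, taq_0_2⟩ | ⟨tw_0_2, tap_0_2, taq_0_2⟩ | ⟨tw_0_2, tap_0_2, taq_0_2⟩ | ⟨tw_0_2, tap_0_2, taq_0_2⟩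
        · -- (0,2) S
          rcases eq_or_ne (T.a u1 u2) 0 with z_1_2 | nz_1_2
          · -- (1,2) zero
            by_cases hx : ∃ j, (j ≠ u0 ∧ j ≠ u1 ∧ j ≠ u2) ∧ T.a u0 j ≠ 0
            · obtain ⟨u3, ⟨hn_3_0, hn_3_1, hn_3_2⟩, e_0_3⟩ := hx
              rcases Groth.Agent.Helper6.NT.edge5 T h2 (by norm_num) u0 u3 hn_3_0.symm e_0_3 with ⟨tw_0_3, tap_0_3, taq_0_3⟩ | ⟨tw_0_3, tap_0_3, taq_0_3⟩ | ⟨tw_0_3, tap_0_3, taq_0_3⟩ | ⟨tw_0_3, tap_0_3, taq_0_3⟩ | ⟨tw_0_3, tap_0_3, taq_0_3⟩
              · -- (0,3) S
                exfalso
                have key := Groth.Agent.Helper6.NT.negfun4 T h2 u0 u1 u2 u3 (by norm_num) 2 2 1 1 (by norm_num) (by norm_num)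
                linarith only [key, tap_0_1, taq_0_1, tap_0_2, taq_0_2, tap_0_3, taq_0_3, z_1_2, T.offDiag_nonneg u1 u3 hn_3_1.symm, T.offDiag_nonneg u2 u3 hn_3_2.symm, T.w_pos u0, T.w_pos u1, T.w_pos u2, T.w_pos u3]
              · -- (0,3) Dp
                exfalso
                have key := Groth.Agent.Helper6.NT.negfun3 T h2 u0 u1 u3 (by norm_num) 2 2 1 (by norm_num) (by norm_num)
                linarith only [key, tap_0_1, taq_0_1, tap_0_3, taq_0_3, T.offDiag_nonneg u1 u3 hn_3_1.symm, T.w_pos u0, T.w_pos u1, T.w_pos u3]
              · -- (0,3) Dm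
                exfalso
                have key := Groth.Agent.Helper6.NT.negfun3 T h2 u0 u1 u3 (by norm_num) 1 1 1 (by norm_num) (by norm_num)
                linarith only [key, tap_0_1, taq_0_1, tap_0_3, taq_0_3, T.offDiag_nonneg u1 u3 hn_3_1.symm, T.w_pos u0, T.w_pos u1, T.w_pos u3]
              · -- (0,3) Tp
                exfalso
                have key := Groth.Agent.Helper6.NT.negfun3 T h2 u0 u2 u3 (by norm_num) 2 1 1 (by norm_num) (by norm_num)
                linarith only [key, tap_0_2, taq_0_2, tap_0_3, taq_0_3, T.offDiag_nonneg u2 u3 hn_3_2.symm, T.w_pos u0, T.w_pos u2, T.w_pos u3]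
              · -- (0,3) Tm
                exfalso
                have key := Groth.Agent.Helper6.NT.negfun3 T h2 u0 u2 u3 (by norm_num) 2 1 3 (by norm_num) (by norm_num)
                linarith only [key, tap_0_2, taq_0_2, tap_0_3, taq_0_3, T.offDiag_nonneg u2 u3 hn_3_2.symm, T.w_pos u0, T.w_pos u2, T.w_pos u3]
            · push Not at hx
              have cl_0 := hx
              clear hx
              by_cases hx : ∃ j, (j ≠ u0 ∧ j ≠ u1 ∧ j ≠ u2) ∧ T.a u1 j ≠ 0
              · obtain ⟨u3, ⟨hn_3_0, hn_3_1, hn_3_2⟩, e_1_3⟩ := hx
                have z_0_3 : T.a u0 u3 = 0 := cl_0 u3 ⟨hn_3_0, hn_3_1, hn_3_2⟩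
                rcases Groth.Agent.Helper6.NT.edge5 T h2 (by norm_num) u1 u3 hn_3_1.symm e_1_3 with ⟨tw_1_3, tap_1_3, taq_1_3⟩ | ⟨tw_1_3, tap_1_3, taq_1_3⟩ | ⟨tw_1_3, tap_1_3, taq_1_3⟩ | ⟨tw_1_3, tap_1_3, taq_1_3⟩ | ⟨tw_1_3, tap_1_3, taq_1_3⟩
                · -- (1,3) S
                  rcases eq_or_ne (T.a u2 u3) 0 with z_2_3 | nz_2_3
                  · -- (2,3) zero
                    by_cases hx : ∃ j, (j ≠ u0 ∧ j ≠ u1 ∧ j ≠ u2 ∧ j ≠ u3) ∧ T.a u1 j ≠ 0
                    · obtain ⟨u4, ⟨hn_4_0, hn_4_1, hn_4_2, hn_4_3⟩, e_1_4⟩ := hx
                      have z_0_4 : T.a u0 u4 = 0 := cl_0 u4 ⟨hn_4_0, hn_4_1, hn_4_2⟩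
                      rcases Groth.Agent.Helper6.NT.edge5 T h2 (by norm_num) u1 u4 hn_4_1.symm e_1_4 with ⟨tw_1_4, tap_1_4, taq_1_4⟩ | ⟨tw_1_4, tap_1_4, taq_1_4⟩ | ⟨tw_1_4, tap_1_4, taq_1_4⟩ | ⟨tw_1_4, tap_1_4, taq_1_4⟩ | ⟨tw_1_4, tap_1_4, taq_1_4⟩
                      · -- (1,4) S
                        exfalso
                        have key := Groth.Agent.Helper6.NT.negfun4 T h2 u0 u1 u3 u4 (by norm_num) 1 2 1 1 (by norm_num) (by norm_num)
                        linarith only [key, tap_0_1, taq_0_1, z_0_3, z_0_4, tap_1_3, taq_1_3, tap_1_4, taq_1_4, T.offDiag_nonneg u3 u4 hn_4_3.symm, T.w_pos u0, T.w_pos u1, T.w_pos u3, T.w_pos u4]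
                      · -- (1,4) Dp
                        exfalso
                        have key := Groth.Agent.Helper6.NT.negfun3 T h2 u0 u1 u4 (by norm_num) 1 2 1 (by norm_num) (by norm_num)
                        linarith only [key, tap_0_1, taq_0_1, z_0_4, tap_1_4, taq_1_4, T.w_pos u0, T.w_pos u1, T.w_pos u4]
                      · -- (1,4) Dm
                        exfalso
                        have key := Groth.Agent.Helper6.NT.negfun3 T h2 u0 u1 u4 (by norm_num) 1 2 2 (by norm_num) (by norm_num)
                        linarith only [key, tap_0_1, taq_0_1, z_0_4, tap_1_4, taq_1_4, T.w_pos u0, T.w_pos u1, T.w_pos u4]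
                      · -- (1,4) Tp
                        exfalso
                        have key := Groth.Agent.Helper6.NT.negfun3 T h2 u1 u3 u4 (by norm_num) 2 1 1 (by norm_num) (by norm_num)
                        linarith only [key, tap_1_3, taq_1_3, tap_1_4, taq_1_4, T.offDiag_nonneg u3 u4 hn_4_3.symm, T.w_pos u1, T.w_pos u3, T.w_pos u4]
                      · -- (1,4) Tm
                        exfalso
                        have key := Groth.Agent.Helper6.NT.negfun3 T h2 u1 u3 u4 (by norm_num) 2 1 3 (by norm_num) (by norm_num)
                        linarith only [key, tap_1_3, taq_1_3, tap_1_4, taq_1_4, T.offDiag_nonneg u3 u4 hn_4_3.symm, T.w_pos u1, T.w_pos u3, T.w_pos u4]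
                    · push Not at hx
                      have cl_1 := hx
                      clear hx
                      by_cases hx : ∃ j, (j ≠ u0 ∧ j ≠ u1 ∧ j ≠ u2 ∧ j ≠ u3) ∧ T.a u2 j ≠ 0
                      · obtain ⟨u4, ⟨hn_4_0, hn_4_1, hn_4_2, hn_4_3⟩, e_2_4⟩ := hx
                        have z_0_4 : T.a u0 u4 = 0 := cl_0 u4 ⟨hn_4_0, hn_4_1, hn_4_2⟩
                        have z_1_4 : T.a u1 u4 = 0 := cl_1 u4 ⟨hn_4_0, hn_4_1, hn_4_2, hn_4_3⟩
                        rcases Groth.Agent.Helper6.NT.edge5 T h2 (by norm_num) u2 u4 hn_4_2.symm e_2_4 with ⟨tw_2_4, tap_2_4, taq_2_4⟩ | ⟨tw_2_4, tap_2_4, taq_2_4⟩ | ⟨tw_2_4, tap_2_4, taq_2_4⟩ | ⟨tw_2_4, tap_2_4, taq_2_4⟩ | ⟨tw_2_4, tap_2_4, taq_2_4⟩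
                        · -- (2,4) S
                          exfalso
                          have key := Groth.Agent.Helper6.NT.negfun5 T h2 u0 u1 u2 u3 u4 (by norm_num) 3 4 2 2 1 (by norm_num) (by norm_num)
                          linarith only [key, tap_0_1, taq_0_1, tap_0_2, taq_0_2, z_0_3, z_0_4, z_1_2, tap_1_3, taq_1_3, z_1_4, z_2_3, tap_2_4, taq_2_4, T.offDiag_nonneg u3 u4 hn_4_3.symm, T.w_pos u0, T.w_pos u1, T.w_pos u2, T.w_pos u3, T.w_pos u4]
                        · -- (2,4) Dp
                          exfalso
                          have key := Groth.Agent.Helper6.NT.negfun4 T h2 u0 u1 u2 u4 (by norm_num) 2 2 2 1 (by norm_num) (by norm_num)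
                          linarith only [key, tap_0_1, taq_0_1, tap_0_2, taq_0_2, z_0_4, z_1_2, z_1_4, tap_2_4, taq_2_4, T.w_pos u0, T.w_pos u1, T.w_pos u2, T.w_pos u4]
                        · -- (2,4) Dm
                          exfalso
                          have key := Groth.Agent.Helper6.NT.negfun4 T h2 u0 u1 u2 u4 (by norm_num) 1 1 1 1 (by norm_num) (by norm_num)
                          linarith only [key, tap_0_1, taq_0_1, tap_0_2, taq_0_2, z_0_4, z_1_2, z_1_4, tap_2_4, taq_2_4, T.w_pos u0, T.w_pos u1, T.w_pos u2, T.w_pos u4]
                        · -- (2,4) Tp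
                          exfalso
                          have key := Groth.Agent.Helper6.NT.negfun3 T h2 u0 u2 u4 (by norm_num) 1 2 1 (by norm_num) (by norm_num)
                          linarith only [key, tap_0_2, taq_0_2, z_0_4, tap_2_4, taq_2_4, T.w_pos u0, T.w_pos u2, T.w_pos u4]
                        · -- (2,4) Tm
                          exfalso
                          have key := Groth.Agent.Helper6.NT.negfun3 T h2 u0 u2 u4 (by norm_num) 1 2 3 (by norm_num) (by norm_num)
                          linarith only [key, tap_0_2, taq_0_2, z_0_4, tap_2_4, taq_2_4, T.w_pos u0, T.w_pos u2, T.w_pos u4]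
                      · push Not at hx
                        have cl_2 := hx
                        clear hx
                        by_cases hx : ∃ j, (j ≠ u0 ∧ j ≠ u1 ∧ j ≠ u2 ∧ j ≠ u3) ∧ T.a u3 j ≠ 0
                        · obtain ⟨u4, ⟨hn_4_0, hn_4_1, hn_4_2, hn_4_3⟩, e_3_4⟩ := hx
                          have z_0_4 : T.a u0 u4 = 0 := cl_0 u4 ⟨hn_4_0, hn_4_1, hn_4_2⟩
                          have z_1_4 : T.a u1 u4 = 0 := cl_1 u4 ⟨hn_4_0, hn_4_1, hn_4_2, hn_4_3⟩
                          have z_2_4 : T.a u2 u4 = 0 := cl_2 u4 ⟨hn_4_0, hn_4_1, hn_4_2, hn_4_3⟩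
                          rcases Groth.Agent.Helper6.NT.edge5 T h2 (by norm_num) u3 u4 hn_4_3.symm e_3_4 with ⟨tw_3_4, tap_3_4, taq_3_4⟩ | ⟨tw_3_4, tap_3_4, taq_3_4⟩ | ⟨tw_3_4, tap_3_4, taq_3_4⟩ | ⟨tw_3_4, tap_3_4, taq_3_4⟩ | ⟨tw_3_4, tap_3_4, taq_3_4⟩
                          · -- (3,4) S
                            exfalso
                            have key := Groth.Agent.Helper6.NT.negfun5 T h2 u0 u1 u2 u3 u4 (by norm_num) 2 3 1 2 1 (by norm_num) (by norm_num)
                            linarith only [key, tap_0_1, taq_0_1, tap_0_2, taq_0_2, z_0_3, z_0_4, z_1_2, tap_1_3, taq_1_3, z_1_4, z_2_3, z_2_4, tap_3_4, taq_3_4, T.w_pos u0, T.w_pos u1, T.w_pos u2, T.w_pos u3, T.w_pos u4]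
                          · -- (3,4) Dp
                            exfalso
                            have key := Groth.Agent.Helper6.NT.negfun4 T h2 u0 u1 u3 u4 (by norm_num) 1 2 2 1 (by norm_num) (by norm_num)
                            linarith only [key, tap_0_1, taq_0_1, z_0_3, z_0_4, tap_1_3, taq_1_3, z_1_4, tap_3_4, taq_3_4, T.w_pos u0, T.w_pos u1, T.w_pos u3, T.w_pos u4]
                          · -- (3,4) Dm
                            exfalso
                            have key := Groth.Agent.Helper6.NT.negfun4 T h2 u0 u1 u3 u4 (by norm_num) 1 2 2 2 (by norm_num) (by norm_num)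
                            linarith only [key, tap_0_1, taq_0_1, z_0_3, z_0_4, tap_1_3, taq_1_3, z_1_4, tap_3_4, taq_3_4, T.w_pos u0, T.w_pos u1, T.w_pos u3, T.w_pos u4]
                          · -- (3,4) Tp
                            exfalso
                            have key := Groth.Agent.Helper6.NT.negfun3 T h2 u1 u3 u4 (by norm_num) 1 2 1 (by norm_num) (by norm_num)
                            linarith only [key, tap_1_3, taq_1_3, z_1_4, tap_3_4, taq_3_4, T.w_pos u1, T.w_pos u3, T.w_pos u4]
                          · -- (3,4) Tm
                            exfalso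
                            have key := Groth.Agent.Helper6.NT.negfun3 T h2 u1 u3 u4 (by norm_num) 1 2 3 (by norm_num) (by norm_num)
                            linarith only [key, tap_1_3, taq_1_3, z_1_4, tap_3_4, taq_3_4, T.w_pos u1, T.w_pos u3, T.w_pos u4]
                        · push Not at hx
                          have cl_3 := hx
                          clear hx
                          exfalso
                          refine Groth.Agent.Helper6.NT.closed_contra T [u0, u1, u2, u3] (by simp) (by simp) ?_
                          intro i hi j hj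
                          simp only [List.mem_cons, List.not_mem_nil, or_false, not_or] at hi hj
                          rcases hi with rfl | rfl | rfl | rfl
                          · exact cl_0 j ⟨hj.1, hj.2.1, hj.2.2.1⟩
                          · exact cl_1 j ⟨hj.1, hj.2.1, hj.2.2.1, hj.2.2.2⟩
                          · exact cl_2 j ⟨hj.1, hj.2.1, hj.2.2.1, hj.2.2.2⟩
                          · exact cl_3 j ⟨hj.1, hj.2.1, hj.2.2.1, hj.2.2.2⟩
                  · -- (2,3) nonzero
                    obtain ⟨lbp_2_3, lbq_2_3⟩ := Groth.Agent.Helper6.NT.lb T u2 u3 hn_3_2.symm nz_2_3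
                    exfalso
                    have key := Groth.Agent.Helper6.NT.negfun4 T h2 u0 u1 u2 u3 (by norm_num) 2 3 2 2 (by norm_num) (by norm_num)
                    linarith only [key, tap_0_1, taq_0_1, tap_0_2, taq_0_2, z_0_3, z_1_2, tap_1_3, taq_1_3, lbp_2_3, lbq_2_3, T.w_pos u0, T.w_pos u1, T.w_pos u2, T.w_pos u3]
                · -- (1,3) Dp
                  exfalso
                  have key := Groth.Agent.Helper6.NT.negfun3 T h2 u0 u1 u3 (by norm_num) 1 2 1 (by norm_num) (by norm_num)
                  linarith only [key, tap_0_1, taq_0_1, z_0_3, tap_1_3, taq_1_3, T.w_pos u0, T.w_pos u1, T.w_pos u3]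
                · -- (1,3) Dm
                  exfalso
                  have key := Groth.Agent.Helper6.NT.negfun3 T h2 u0 u1 u3 (by norm_num) 1 2 2 (by norm_num) (by norm_num)
                  linarith only [key, tap_0_1, taq_0_1, z_0_3, tap_1_3, taq_1_3, T.w_pos u0, T.w_pos u1, T.w_pos u3]
                · -- (1,3) Tp
                  exfalso
                  have key := Groth.Agent.Helper6.NT.negfun3 T h2 u0 u1 u3 (by norm_num) 1 2 1 (by norm_num) (by norm_num)
                  linarith only [key, tap_0_1, taq_0_1, z_0_3, tap_1_3, taq_1_3, T.w_pos u0, T.w_pos u1, T.w_pos u3]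
                · -- (1,3) Tm
                  exfalso
                  have key := Groth.Agent.Helper6.NT.negfun3 T h2 u0 u1 u3 (by norm_num) 1 2 3 (by norm_num) (by norm_num)
                  linarith only [key, tap_0_1, taq_0_1, z_0_3, tap_1_3, taq_1_3, T.w_pos u0, T.w_pos u1, T.w_pos u3]
              · push Not at hx
                have cl_1 := hx
                clear hx
                by_cases hx : ∃ j, (j ≠ u0 ∧ j ≠ u1 ∧ j ≠ u2) ∧ T.a u2 j ≠ 0
                · obtain ⟨u3, ⟨hn_3_0, hn_3_1, hn_3_2⟩, e_2_3⟩ := hx
                  have z_0_3 : T.a u0 u3 = 0 := cl_0 u3 ⟨hn_3_0, hn_3_1, hn_3_2⟩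
                  have z_1_3 : T.a u1 u3 = 0 := cl_1 u3 ⟨hn_3_0, hn_3_1, hn_3_2⟩
                  rcases Groth.Agent.Helper6.NT.edge5 T h2 (by norm_num) u2 u3 hn_3_2.symm e_2_3 with ⟨tw_2_3, tap_2_3, taq_2_3⟩ | ⟨tw_2_3, tap_2_3, taq_2_3⟩ | ⟨tw_2_3, tap_2_3, taq_2_3⟩ | ⟨tw_2_3, tap_2_3, taq_2_3⟩ | ⟨tw_2_3, tap_2_3, taq_2_3⟩
                  · -- (2,3) S
                    by_cases hx : ∃ j, (j ≠ u0 ∧ j ≠ u1 ∧ j ≠ u2 ∧ j ≠ u3) ∧ T.a u2 j ≠ 0
                    · obtain ⟨u4, ⟨hn_4_0, hn_4_1, hn_4_2, hn_4_3⟩, e_2_4⟩ := hx
                      have z_0_4 : T.a u0 u4 = 0 := cl_0 u4 ⟨hn_4_0, hn_4_1, hn_4_2⟩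
                      have z_1_4 : T.a u1 u4 = 0 := cl_1 u4 ⟨hn_4_0, hn_4_1, hn_4_2⟩
                      rcases Groth.Agent.Helper6.NT.edge5 T h2 (by norm_num) u2 u4 hn_4_2.symm e_2_4 with ⟨tw_2_4, tap_2_4, taq_2_4⟩ | ⟨tw_2_4, tap_2_4, taq_2_4⟩ | ⟨tw_2_4, tap_2_4, taq_2_4⟩ | ⟨tw_2_4, tap_2_4, taq_2_4⟩ | ⟨tw_2_4, tap_2_4, taq_2_4⟩
                      · -- (2,4) S
                        exfalso
                        have key := Groth.Agent.Helper6.NT.negfun5 T h2 u0 u1 u2 u3 u4 (by norm_num) 2 2 2 1 1 (by norm_num) (by norm_num)
                        linarith only [key, tap_0_1, taq_0_1, tap_0_2, taq_0_2, z_0_3, z_0_4, z_1_2, z_1_3, z_1_4, tap_2_3, taq_2_3, tap_2_4, taq_2_4, T.offDiag_nonneg u3 u4 hn_4_3.symm, T.w_pos u0, T.w_pos u1, T.w_pos u2, T.w_pos u3, T.w_pos u4]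
                      · -- (2,4) Dp
                        exfalso
                        have key := Groth.Agent.Helper6.NT.negfun4 T h2 u0 u2 u3 u4 (by norm_num) 1 2 1 1 (by norm_num) (by norm_num)
                        linarith only [key, tap_0_2, taq_0_2, z_0_3, z_0_4, tap_2_3, taq_2_3, tap_2_4, taq_2_4, T.offDiag_nonneg u3 u4 hn_4_3.symm, T.w_pos u0, T.w_pos u2, T.w_pos u3, T.w_pos u4]
                      · -- (2,4) Dm
                        exfalso
                        have key := Groth.Agent.Helper6.NT.negfun4 T h2 u0 u2 u3 u4 (by norm_num) 1 2 1 2 (by norm_num) (by norm_num)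
                        linarith only [key, tap_0_2, taq_0_2, z_0_3, z_0_4, tap_2_3, taq_2_3, tap_2_4, taq_2_4, T.offDiag_nonneg u3 u4 hn_4_3.symm, T.w_pos u0, T.w_pos u2, T.w_pos u3, T.w_pos u4]
                      · -- (2,4) Tp
                        exfalso
                        have key := Groth.Agent.Helper6.NT.negfun3 T h2 u2 u3 u4 (by norm_num) 2 1 1 (by norm_num) (by norm_num)
                        linarith only [key, tap_2_3, taq_2_3, tap_2_4, taq_2_4, T.offDiag_nonneg u3 u4 hn_4_3.symm, T.w_pos u2, T.w_pos u3, T.w_pos u4]
                      · -- (2,4) Tm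
                        exfalso
                        have key := Groth.Agent.Helper6.NT.negfun3 T h2 u2 u3 u4 (by norm_num) 2 1 3 (by norm_num) (by norm_num)
                        linarith only [key, tap_2_3, taq_2_3, tap_2_4, taq_2_4, T.offDiag_nonneg u3 u4 hn_4_3.symm, T.w_pos u2, T.w_pos u3, T.w_pos u4]
                    · push Not at hx
                      have cl_2 := hx
                      clear hx
                      by_cases hx : ∃ j, (j ≠ u0 ∧ j ≠ u1 ∧ j ≠ u2 ∧ j ≠ u3) ∧ T.a u3 j ≠ 0
                      · obtain ⟨u4, ⟨hn_4_0, hn_4_1, hn_4_2, hn_4_3⟩, e_3_4⟩ := hx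
                        have z_0_4 : T.a u0 u4 = 0 := cl_0 u4 ⟨hn_4_0, hn_4_1, hn_4_2⟩
                        have z_1_4 : T.a u1 u4 = 0 := cl_1 u4 ⟨hn_4_0, hn_4_1, hn_4_2⟩
                        have z_2_4 : T.a u2 u4 = 0 := cl_2 u4 ⟨hn_4_0, hn_4_1, hn_4_2, hn_4_3⟩
                        rcases Groth.Agent.Helper6.NT.edge5 T h2 (by norm_num) u3 u4 hn_4_3.symm e_3_4 with ⟨tw_3_4, tap_3_4, taq_3_4⟩ | ⟨tw_3_4, tap_3_4, taq_3_4⟩ | ⟨tw_3_4, tap_3_4, taq_3_4⟩ | ⟨tw_3_4, tap_3_4, taq_3_4⟩ | ⟨tw_3_4, tap_3_4, taq_3_4⟩
                        · -- (3,4) S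
                          by_cases hx : ∃ j, (j ≠ u0 ∧ j ≠ u1 ∧ j ≠ u2 ∧ j ≠ u3 ∧ j ≠ u4) ∧ T.a u3 j ≠ 0
                          · obtain ⟨u5, ⟨hn_5_0, hn_5_1, hn_5_2, hn_5_3, hn_5_4⟩, e_3_5⟩ := hx
                            have z_0_5 : T.a u0 u5 = 0 := cl_0 u5 ⟨hn_5_0, hn_5_1, hn_5_2⟩
                            have z_1_5 : T.a u1 u5 = 0 := cl_1 u5 ⟨hn_5_0, hn_5_1, hn_5_2⟩
                            have z_2_5 : T.a u2 u5 = 0 := cl_2 u5 ⟨hn_5_0, hn_5_1, hn_5_2, hn_5_3⟩
                            rcases Groth.Agent.Helper6.NT.edge5 T h2 (by norm_num) u3 u5 hn_5_3.symm e_3_5 with ⟨tw_3_5, tap_3_5, taq_3_5⟩ | ⟨tw_3_5, tap_3_5, taq_3_5⟩ | ⟨tw_3_5, tap_3_5, taq_3_5⟩ | ⟨tw_3_5, tap_3_5, taq_3_5⟩ | ⟨tw_3_5, tap_3_5, taq_3_5⟩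
                            · -- (3,5) S
                              rcases eq_or_ne (T.a u4 u5) 0 with z_4_5 | nz_4_5
                              · -- (4,5) zero
                                have hinj := Groth.Agent.Helper6.NT.inj6 u0 u1 u2 u3 u4 u5 hn_1_0 hn_2_0 hn_2_1 hn_3_0 hn_3_1 hn_3_2 hn_4_0 hn_4_1 hn_4_2 hn_4_3 hn_5_0 hn_5_1 hn_5_2 hn_5_3 hn_5_4
                                have r_0 : -2 * T.m u0 + 1 * T.m u1 + 1 * T.m u2 = 0 := by
                                  have key := Groth.Agent.Helper6.NT.rowfun6 T u0 u1 u2 u3 u4 u5 hinj u0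
                                  rw [(h2 u0).2, tap_0_1, tap_0_2, z_0_3, z_0_4, z_0_5] at key
                                  exact mul_left_cancel₀ (T.w_pos u0).ne' (by linarith only [key])
                                have r_1 : 2 * T.m u0 + -2 * T.m u1 = 0 := by
                                  have key := Groth.Agent.Helper6.NT.rowfun6 T u0 u1 u2 u3 u4 u5 hinj u1
                                  rw [Groth.Agent.Helper6.NT.symm' T u1 u0, taq_0_1, (h2 u1).2, z_1_2, z_1_3, z_1_4, z_1_5] at key
                                  exact mul_left_cancel₀ (T.w_pos u1).ne' (by linarith only [key])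
                                have r_2 : 1 * T.m u0 + -2 * T.m u2 + 1 * T.m u3 = 0 := by
                                  have key := Groth.Agent.Helper6.NT.rowfun6 T u0 u1 u2 u3 u4 u5 hinj u2
                                  rw [Groth.Agent.Helper6.NT.symm' T u2 u0, taq_0_2, Groth.Agent.Helper6.NT.symm' T u2 u1, z_1_2, (h2 u2).2, tap_2_3, z_2_4, z_2_5] at key
                                  exact mul_left_cancel₀ (T.w_pos u2).ne' (by linarith only [key])
                                have r_3 : 1 * T.m u2 + -2 * T.m u3 + 1 * T.m u4 + 1 * T.m u5 = 0 := by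
                                  have key := Groth.Agent.Helper6.NT.rowfun6 T u0 u1 u2 u3 u4 u5 hinj u3
                                  rw [Groth.Agent.Helper6.NT.symm' T u3 u0, z_0_3, Groth.Agent.Helper6.NT.symm' T u3 u1, z_1_3, Groth.Agent.Helper6.NT.symm' T u3 u2, taq_2_3, (h2 u3).2, tap_3_4, tap_3_5] at key
                                  exact mul_left_cancel₀ (T.w_pos u3).ne' (by linarith only [key])
                                have r_4 : 1 * T.m u3 + -2 * T.m u4 = 0 := by
                                  have key := Groth.Agent.Helper6.NT.rowfun6 T u0 u1 u2 u3 u4 u5 hinj u4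
                                  rw [Groth.Agent.Helper6.NT.symm' T u4 u0, z_0_4, Groth.Agent.Helper6.NT.symm' T u4 u1, z_1_4, Groth.Agent.Helper6.NT.symm' T u4 u2, z_2_4, Groth.Agent.Helper6.NT.symm' T u4 u3, taq_3_4, (h2 u4).2, z_4_5] at key
                                  exact mul_left_cancel₀ (T.w_pos u4).ne' (by linarith only [key])
                                have r_5 : 1 * T.m u3 + -2 * T.m u5 = 0 := by
                                  have key := Groth.Agent.Helper6.NT.rowfun6 T u0 u1 u2 u3 u4 u5 hinj u5
                                  rw [Groth.Agent.Helper6.NT.symm' T u5 u0, z_0_5, Groth.Agent.Helper6.NT.symm' T u5 u1, z_1_5, Groth.Agent.Helper6.NT.symm' T u5 u2, z_2_5, Groth.Agent.Helper6.NT.symm' T u5 u3, taq_3_5, Groth.Agent.Helper6.NT.symm' T u5 u4, z_4_5, (h2 u5).2] at key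
                                  exact mul_left_cancel₀ (T.w_pos u5).ne' (by linarith only [key])
                                have f0 : T.m u1 = 2 * T.m u4 := by linarith only [r_0, r_1, r_2, r_3, r_4, r_5]
                                have f1 : T.m u0 = 2 * T.m u4 := by linarith only [r_0, r_1, r_2, r_3, r_4, r_5]
                                have f2 : T.m u2 = 2 * T.m u4 := by linarith only [r_0, r_1, r_2, r_3, r_4, r_5]
                                have f3 : T.m u3 = 2 * T.m u4 := by linarith only [r_0, r_1, r_2, r_3, r_4, r_5]
                                have f4 : T.m u4 = T.m u4 := rfl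
                                have f5 : T.m u5 = T.m u4 := by linarith only [r_0, r_1, r_2, r_3, r_4, r_5]
                                have f6 : T.w u1 = T.w u1 := rfl
                                have f7 : T.w u0 = 2 * T.w u1 := by linarith only [tw_0_1, tw_0_2, tw_2_3, tw_3_4, tw_3_5]
                                have f8 : T.w u2 = 2 * T.w u1 := by linarith only [tw_0_1, tw_0_2, tw_2_3, tw_3_4, tw_3_5]
                                have f9 : T.w u3 = 2 * T.w u1 := by linarith only [tw_0_1, tw_0_2, tw_2_3, tw_3_4, tw_3_5]
                                have f10 : T.w u4 = 2 * T.w u1 := by linarith only [tw_0_1, tw_0_2, tw_2_3, tw_3_4, tw_3_5]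
                                have f11 : T.w u5 = 2 * T.w u1 := by linarith only [tw_0_1, tw_0_2, tw_2_3, tw_3_4, tw_3_5]
                                have f12 : T.a u1 u1 = -2 * T.w u1 := by have := (h2 u1).2; linarith only [this, tw_0_1, tw_0_2, tw_2_3, tw_3_4, tw_3_5]
                                have f13 : T.a u1 u0 = 2 * T.w u1 := by rw [Groth.Agent.Helper6.NT.symm' T u1 u0]; linarith only [tap_0_1, tw_0_1, tw_0_2, tw_2_3, tw_3_4, tw_3_5]
                                have f14 : T.a u1 u2 = 0 := by exact z_1_2
                                have f15 : T.a u1 u3 = 0 := by exact z_1_3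
                                have f16 : T.a u1 u4 = 0 := by exact z_1_4
                                have f17 : T.a u1 u5 = 0 := by exact z_1_5
                                have f18 : T.a u0 u0 = -4 * T.w u1 := by have := (h2 u0).2; linarith only [this, tw_0_1, tw_0_2, tw_2_3, tw_3_4, tw_3_5]
                                have f19 : T.a u0 u2 = 2 * T.w u1 := by linarith only [tap_0_2, tw_0_1, tw_0_2, tw_2_3, tw_3_4, tw_3_5]
                                have f20 : T.a u0 u3 = 0 := by exact z_0_3
                                have f21 : T.a u0 u4 = 0 := by exact z_0_4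
                                have f22 : T.a u0 u5 = 0 := by exact z_0_5
                                have f23 : T.a u2 u2 = -4 * T.w u1 := by have := (h2 u2).2; linarith only [this, tw_0_1, tw_0_2, tw_2_3, tw_3_4, tw_3_5]
                                have f24 : T.a u2 u3 = 2 * T.w u1 := by linarith only [tap_2_3, tw_0_1, tw_0_2, tw_2_3, tw_3_4, tw_3_5]
                                have f25 : T.a u2 u4 = 0 := by exact z_2_4
                                have f26 : T.a u2 u5 = 0 := by exact z_2_5
                                have f27 : T.a u3 u3 = -4 * T.w u1 := by have := (h2 u3).2; linarith only [this, tw_0_1, tw_0_2, tw_2_3, tw_3_4, tw_3_5]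
                                have f28 : T.a u3 u4 = 2 * T.w u1 := by linarith only [tap_3_4, tw_0_1, tw_0_2, tw_2_3, tw_3_4, tw_3_5]
                                have f29 : T.a u3 u5 = 2 * T.w u1 := by linarith only [tap_3_5, tw_0_1, tw_0_2, tw_2_3, tw_3_4, tw_3_5]
                                have f30 : T.a u4 u4 = -4 * T.w u1 := by have := (h2 u4).2; linarith only [this, tw_0_1, tw_0_2, tw_2_3, tw_3_4, tw_3_5]
                                have f31 : T.a u4 u5 = 0 := by exact z_4_5
                                have f32 : T.a u5 u5 = -4 * T.w u1 := by have := (h2 u5).2; linarith only [this, tw_0_1, tw_0_2, tw_2_3, tw_3_4, tw_3_5]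
                                have hsig := Groth.Agent.Helper6.NT.inj6 u1 u0 u2 u3 u4 u5 hn_1_0.symm hn_2_1 hn_2_0 hn_3_1 hn_3_0 hn_3_2 hn_4_1 hn_4_0 hn_4_2 hn_4_3 hn_5_1 hn_5_0 hn_5_2 hn_5_3 hn_5_4
                                exact ⟨Equiv.ofBijective _ (Finite.injective_iff_bijective.1 hsig), T.m u4, T.w u1, Or.inr (Or.inr (Or.inr (Or.inr (Or.inr (Or.inl ⟨f0, f1, f2, f3, f4, f5, f6, f7, f8, f9, f10, f11, f12, f13, f14, f15, f16, f17, f18, f19, f20, f21, f22, f23, f24, f25, f26, f27, f28, f29, f30, f31, f32⟩)))))⟩
                              · -- (4,5) nonzero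
                                obtain ⟨lbp_4_5, lbq_4_5⟩ := Groth.Agent.Helper6.NT.lb T u4 u5 hn_5_4.symm nz_4_5
                                exfalso
                                have key := Groth.Agent.Helper6.NT.negfun3 T h2 u3 u4 u5 (by norm_num) 1 1 1 (by norm_num) (by norm_num)
                                linarith only [key, tap_3_4, taq_3_4, tap_3_5, taq_3_5, lbp_4_5, lbq_4_5, T.w_pos u3, T.w_pos u4, T.w_pos u5]
                            · -- (3,5) Dp
                              exfalso
                              have key := Groth.Agent.Helper6.NT.negfun4 T h2 u2 u3 u4 u5 (by norm_num) 1 2 1 1 (by norm_num) (by norm_num)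
                              linarith only [key, tap_2_3, taq_2_3, z_2_4, z_2_5, tap_3_4, taq_3_4, tap_3_5, taq_3_5, T.offDiag_nonneg u4 u5 hn_5_4.symm, T.w_pos u2, T.w_pos u3, T.w_pos u4, T.w_pos u5]
                            · -- (3,5) Dm
                              exfalso
                              have key := Groth.Agent.Helper6.NT.negfun4 T h2 u2 u3 u4 u5 (by norm_num) 1 2 1 2 (by norm_num) (by norm_num)
                              linarith only [key, tap_2_3, taq_2_3, z_2_4, z_2_5, tap_3_4, taq_3_4, tap_3_5, taq_3_5, T.offDiag_nonneg u4 u5 hn_5_4.symm, T.w_pos u2, T.w_pos u3, T.w_pos u4, T.w_pos u5]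
                            · -- (3,5) Tp
                              exfalso
                              have key := Groth.Agent.Helper6.NT.negfun3 T h2 u3 u4 u5 (by norm_num) 2 1 1 (by norm_num) (by norm_num)
                              linarith only [key, tap_3_4, taq_3_4, tap_3_5, taq_3_5, T.offDiag_nonneg u4 u5 hn_5_4.symm, T.w_pos u3, T.w_pos u4, T.w_pos u5]
                            · -- (3,5) Tm
                              exfalso
                              have key := Groth.Agent.Helper6.NT.negfun3 T h2 u3 u4 u5 (by norm_num) 2 1 3 (by norm_num) (by norm_num)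
                              linarith only [key, tap_3_4, taq_3_4, tap_3_5, taq_3_5, T.offDiag_nonneg u4 u5 hn_5_4.symm, T.w_pos u3, T.w_pos u4, T.w_pos u5]
                          · push Not at hx
                            have cl_3 := hx
                            clear hx
                            by_cases hx : ∃ j, (j ≠ u0 ∧ j ≠ u1 ∧ j ≠ u2 ∧ j ≠ u3 ∧ j ≠ u4) ∧ T.a u4 j ≠ 0
                            · obtain ⟨u5, ⟨hn_5_0, hn_5_1, hn_5_2, hn_5_3, hn_5_4⟩, e_4_5⟩ := hx
                              have z_0_5 : T.a u0 u5 = 0 := cl_0 u5 ⟨hn_5_0, hn_5_1, hn_5_2⟩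
                              have z_1_5 : T.a u1 u5 = 0 := cl_1 u5 ⟨hn_5_0, hn_5_1, hn_5_2⟩
                              have z_2_5 : T.a u2 u5 = 0 := cl_2 u5 ⟨hn_5_0, hn_5_1, hn_5_2, hn_5_3⟩
                              have z_3_5 : T.a u3 u5 = 0 := cl_3 u5 ⟨hn_5_0, hn_5_1, hn_5_2, hn_5_3, hn_5_4⟩
                              rcases Groth.Agent.Helper6.NT.edge5 T h2 (by norm_num) u4 u5 hn_5_4.symm e_4_5 with ⟨tw_4_5, tap_4_5, taq_4_5⟩ | ⟨tw_4_5, tap_4_5, taq_4_5⟩ | ⟨tw_4_5, tap_4_5, taq_4_5⟩ | ⟨tw_4_5, tap_4_5, taq_4_5⟩ | ⟨tw_4_5, tap_4_5, taq_4_5⟩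
                              · -- (4,5) S
                                have hinj := Groth.Agent.Helper6.NT.inj6 u0 u1 u2 u3 u4 u5 hn_1_0 hn_2_0 hn_2_1 hn_3_0 hn_3_1 hn_3_2 hn_4_0 hn_4_1 hn_4_2 hn_4_3 hn_5_0 hn_5_1 hn_5_2 hn_5_3 hn_5_4
                                have r_0 : -2 * T.m u0 + 1 * T.m u1 + 1 * T.m u2 = 0 := by
                                  have key := Groth.Agent.Helper6.NT.rowfun6 T u0 u1 u2 u3 u4 u5 hinj u0
                                  rw [(h2 u0).2, tap_0_1, tap_0_2, z_0_3, z_0_4, z_0_5] at key
                                  exact mul_left_cancel₀ (T.w_pos u0).ne' (by linarith only [key])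
                                have r_1 : 2 * T.m u0 + -2 * T.m u1 = 0 := by
                                  have key := Groth.Agent.Helper6.NT.rowfun6 T u0 u1 u2 u3 u4 u5 hinj u1
                                  rw [Groth.Agent.Helper6.NT.symm' T u1 u0, taq_0_1, (h2 u1).2, z_1_2, z_1_3, z_1_4, z_1_5] at key
                                  exact mul_left_cancel₀ (T.w_pos u1).ne' (by linarith only [key])
                                have r_2 : 1 * T.m u0 + -2 * T.m u2 + 1 * T.m u3 = 0 := by
                                  have key := Groth.Agent.Helper6.NT.rowfun6 T u0 u1 u2 u3 u4 u5 hinj u2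
                                  rw [Groth.Agent.Helper6.NT.symm' T u2 u0, taq_0_2, Groth.Agent.Helper6.NT.symm' T u2 u1, z_1_2, (h2 u2).2, tap_2_3, z_2_4, z_2_5] at key
                                  exact mul_left_cancel₀ (T.w_pos u2).ne' (by linarith only [key])
                                have r_3 : 1 * T.m u2 + -2 * T.m u3 + 1 * T.m u4 = 0 := by
                                  have key := Groth.Agent.Helper6.NT.rowfun6 T u0 u1 u2 u3 u4 u5 hinj u3
                                  rw [Groth.Agent.Helper6.NT.symm' T u3 u0, z_0_3, Groth.Agent.Helper6.NT.symm' T u3 u1, z_1_3, Groth.Agent.Helper6.NT.symm' T u3 u2, taq_2_3, (h2 u3).2, tap_3_4, z_3_5] at key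
                                  exact mul_left_cancel₀ (T.w_pos u3).ne' (by linarith only [key])
                                have r_4 : 1 * T.m u3 + -2 * T.m u4 + 1 * T.m u5 = 0 := by
                                  have key := Groth.Agent.Helper6.NT.rowfun6 T u0 u1 u2 u3 u4 u5 hinj u4
                                  rw [Groth.Agent.Helper6.NT.symm' T u4 u0, z_0_4, Groth.Agent.Helper6.NT.symm' T u4 u1, z_1_4, Groth.Agent.Helper6.NT.symm' T u4 u2, z_2_4, Groth.Agent.Helper6.NT.symm' T u4 u3, taq_3_4, (h2 u4).2, tap_4_5] at key
                                  exact mul_left_cancel₀ (T.w_pos u4).ne' (by linarith only [key])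
                                have r_5 : 1 * T.m u4 + -2 * T.m u5 = 0 := by
                                  have key := Groth.Agent.Helper6.NT.rowfun6 T u0 u1 u2 u3 u4 u5 hinj u5
                                  rw [Groth.Agent.Helper6.NT.symm' T u5 u0, z_0_5, Groth.Agent.Helper6.NT.symm' T u5 u1, z_1_5, Groth.Agent.Helper6.NT.symm' T u5 u2, z_2_5, Groth.Agent.Helper6.NT.symm' T u5 u3, z_3_5, Groth.Agent.Helper6.NT.symm' T u5 u4, taq_4_5, (h2 u5).2] at key
                                  exact mul_left_cancel₀ (T.w_pos u5).ne' (by linarith only [key])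
                                exfalso
                                linarith only [r_0, r_1, r_2, r_3, r_4, r_5, T.m_pos u0, T.m_pos u1, T.m_pos u2, T.m_pos u3, T.m_pos u4, T.m_pos u5]
                              · -- (4,5) Dp
                                have hinj := Groth.Agent.Helper6.NT.inj6 u0 u1 u2 u3 u4 u5 hn_1_0 hn_2_0 hn_2_1 hn_3_0 hn_3_1 hn_3_2 hn_4_0 hn_4_1 hn_4_2 hn_4_3 hn_5_0 hn_5_1 hn_5_2 hn_5_3 hn_5_4
                                have r_0 : -2 * T.m u0 + 1 * T.m u1 + 1 * T.m u2 = 0 := by
                                  have key := Groth.Agent.Helper6.NT.rowfun6 T u0 u1 u2 u3 u4 u5 hinj u0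
                                  rw [(h2 u0).2, tap_0_1, tap_0_2, z_0_3, z_0_4, z_0_5] at key
                                  exact mul_left_cancel₀ (T.w_pos u0).ne' (by linarith only [key])
                                have r_1 : 2 * T.m u0 + -2 * T.m u1 = 0 := by
                                  have key := Groth.Agent.Helper6.NT.rowfun6 T u0 u1 u2 u3 u4 u5 hinj u1
                                  rw [Groth.Agent.Helper6.NT.symm' T u1 u0, taq_0_1, (h2 u1).2, z_1_2, z_1_3, z_1_4, z_1_5] at key
                                  exact mul_left_cancel₀ (T.w_pos u1).ne' (by linarith only [key])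
                                have r_2 : 1 * T.m u0 + -2 * T.m u2 + 1 * T.m u3 = 0 := by
                                  have key := Groth.Agent.Helper6.NT.rowfun6 T u0 u1 u2 u3 u4 u5 hinj u2
                                  rw [Groth.Agent.Helper6.NT.symm' T u2 u0, taq_0_2, Groth.Agent.Helper6.NT.symm' T u2 u1, z_1_2, (h2 u2).2, tap_2_3, z_2_4, z_2_5] at key
                                  exact mul_left_cancel₀ (T.w_pos u2).ne' (by linarith only [key])
                                have r_3 : 1 * T.m u2 + -2 * T.m u3 + 1 * T.m u4 = 0 := by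
                                  have key := Groth.Agent.Helper6.NT.rowfun6 T u0 u1 u2 u3 u4 u5 hinj u3
                                  rw [Groth.Agent.Helper6.NT.symm' T u3 u0, z_0_3, Groth.Agent.Helper6.NT.symm' T u3 u1, z_1_3, Groth.Agent.Helper6.NT.symm' T u3 u2, taq_2_3, (h2 u3).2, tap_3_4, z_3_5] at key
                                  exact mul_left_cancel₀ (T.w_pos u3).ne' (by linarith only [key])
                                have r_4 : 1 * T.m u3 + -2 * T.m u4 + 2 * T.m u5 = 0 := by
                                  have key := Groth.Agent.Helper6.NT.rowfun6 T u0 u1 u2 u3 u4 u5 hinj u4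
                                  rw [Groth.Agent.Helper6.NT.symm' T u4 u0, z_0_4, Groth.Agent.Helper6.NT.symm' T u4 u1, z_1_4, Groth.Agent.Helper6.NT.symm' T u4 u2, z_2_4, Groth.Agent.Helper6.NT.symm' T u4 u3, taq_3_4, (h2 u4).2, tap_4_5] at key
                                  exact mul_left_cancel₀ (T.w_pos u4).ne' (by linarith only [key])
                                have r_5 : 1 * T.m u4 + -2 * T.m u5 = 0 := by
                                  have key := Groth.Agent.Helper6.NT.rowfun6 T u0 u1 u2 u3 u4 u5 hinj u5
                                  rw [Groth.Agent.Helper6.NT.symm' T u5 u0, z_0_5, Groth.Agent.Helper6.NT.symm' T u5 u1, z_1_5, Groth.Agent.Helper6.NT.symm' T u5 u2, z_2_5, Groth.Agent.Helper6.NT.symm' T u5 u3, z_3_5, Groth.Agent.Helper6.NT.symm' T u5 u4, taq_4_5, (h2 u5).2] at key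
                                  exact mul_left_cancel₀ (T.w_pos u5).ne' (by linarith only [key])
                                have f0 : T.m u1 = 2 * T.m u5 := by linarith only [r_0, r_1, r_2, r_3, r_4, r_5]
                                have f1 : T.m u0 = 2 * T.m u5 := by linarith only [r_0, r_1, r_2, r_3, r_4, r_5]
                                have f2 : T.m u2 = 2 * T.m u5 := by linarith only [r_0, r_1, r_2, r_3, r_4, r_5]
                                have f3 : T.m u3 = 2 * T.m u5 := by linarith only [r_0, r_1, r_2, r_3, r_4, r_5]
                                have f4 : T.m u4 = 2 * T.m u5 := by linarith only [r_0, r_1, r_2, r_3, r_4, r_5]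
                                have f5 : T.m u5 = T.m u5 := rfl
                                have f6 : T.w u1 = T.w u1 := rfl
                                have f7 : T.w u0 = 2 * T.w u1 := by linarith only [tw_0_1, tw_0_2, tw_2_3, tw_3_4, tw_4_5]
                                have f8 : T.w u2 = 2 * T.w u1 := by linarith only [tw_0_1, tw_0_2, tw_2_3, tw_3_4, tw_4_5]
                                have f9 : T.w u3 = 2 * T.w u1 := by linarith only [tw_0_1, tw_0_2, tw_2_3, tw_3_4, tw_4_5]
                                have f10 : T.w u4 = 2 * T.w u1 := by linarith only [tw_0_1, tw_0_2, tw_2_3, tw_3_4, tw_4_5]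
                                have f11 : T.w u5 = 4 * T.w u1 := by linarith only [tw_0_1, tw_0_2, tw_2_3, tw_3_4, tw_4_5]
                                have f12 : T.a u1 u1 = -2 * T.w u1 := by have := (h2 u1).2; linarith only [this, tw_0_1, tw_0_2, tw_2_3, tw_3_4, tw_4_5]
                                have f13 : T.a u1 u0 = 2 * T.w u1 := by rw [Groth.Agent.Helper6.NT.symm' T u1 u0]; linarith only [tap_0_1, tw_0_1, tw_0_2, tw_2_3, tw_3_4, tw_4_5]
                                have f14 : T.a u1 u2 = 0 := by exact z_1_2
                                have f15 : T.a u1 u3 = 0 := by exact z_1_3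
                                have f16 : T.a u1 u4 = 0 := by exact z_1_4
                                have f17 : T.a u1 u5 = 0 := by exact z_1_5
                                have f18 : T.a u0 u0 = -4 * T.w u1 := by have := (h2 u0).2; linarith only [this, tw_0_1, tw_0_2, tw_2_3, tw_3_4, tw_4_5]
                                have f19 : T.a u0 u2 = 2 * T.w u1 := by linarith only [tap_0_2, tw_0_1, tw_0_2, tw_2_3, tw_3_4, tw_4_5]
                                have f20 : T.a u0 u3 = 0 := by exact z_0_3
                                have f21 : T.a u0 u4 = 0 := by exact z_0_4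
                                have f22 : T.a u0 u5 = 0 := by exact z_0_5
                                have f23 : T.a u2 u2 = -4 * T.w u1 := by have := (h2 u2).2; linarith only [this, tw_0_1, tw_0_2, tw_2_3, tw_3_4, tw_4_5]
                                have f24 : T.a u2 u3 = 2 * T.w u1 := by linarith only [tap_2_3, tw_0_1, tw_0_2, tw_2_3, tw_3_4, tw_4_5]
                                have f25 : T.a u2 u4 = 0 := by exact z_2_4
                                have f26 : T.a u2 u5 = 0 := by exact z_2_5
                                have f27 : T.a u3 u3 = -4 * T.w u1 := by have := (h2 u3).2; linarith only [this, tw_0_1, tw_0_2, tw_2_3, tw_3_4, tw_4_5]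
                                have f28 : T.a u3 u4 = 2 * T.w u1 := by linarith only [tap_3_4, tw_0_1, tw_0_2, tw_2_3, tw_3_4, tw_4_5]
                                have f29 : T.a u3 u5 = 0 := by exact z_3_5
                                have f30 : T.a u4 u4 = -4 * T.w u1 := by have := (h2 u4).2; linarith only [this, tw_0_1, tw_0_2, tw_2_3, tw_3_4, tw_4_5]
                                have f31 : T.a u4 u5 = 4 * T.w u1 := by linarith only [tap_4_5, tw_0_1, tw_0_2, tw_2_3, tw_3_4, tw_4_5]
                                have f32 : T.a u5 u5 = -8 * T.w u1 := by have := (h2 u5).2; linarith only [this, tw_0_1, tw_0_2, tw_2_3, tw_3_4, tw_4_5]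
                                have hsig := Groth.Agent.Helper6.NT.inj6 u1 u0 u2 u3 u4 u5 hn_1_0.symm hn_2_1 hn_2_0 hn_3_1 hn_3_0 hn_3_2 hn_4_1 hn_4_0 hn_4_2 hn_4_3 hn_5_1 hn_5_0 hn_5_2 hn_5_3 hn_5_4
                                exact ⟨Equiv.ofBijective _ (Finite.injective_iff_bijective.1 hsig), T.m u5, T.w u1, Or.inr (Or.inl ⟨f0, f1, f2, f3, f4, f5, f6, f7, f8, f9, f10, f11, f12, f13, f14, f15, f16, f17, f18, f19, f20, f21, f22, f23, f24, f25, f26, f27, f28, f29, f30, f31, f32⟩)⟩
                              · -- (4,5) Dm
                                have hinj := Groth.Agent.Helper6.NT.inj6 u0 u1 u2 u3 u4 u5 hn_1_0 hn_2_0 hn_2_1 hn_3_0 hn_3_1 hn_3_2 hn_4_0 hn_4_1 hn_4_2 hn_4_3 hn_5_0 hn_5_1 hn_5_2 hn_5_3 hn_5_4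
                                have r_0 : -2 * T.m u0 + 1 * T.m u1 + 1 * T.m u2 = 0 := by
                                  have key := Groth.Agent.Helper6.NT.rowfun6 T u0 u1 u2 u3 u4 u5 hinj u0
                                  rw [(h2 u0).2, tap_0_1, tap_0_2, z_0_3, z_0_4, z_0_5] at key
                                  exact mul_left_cancel₀ (T.w_pos u0).ne' (by linarith only [key])
                                have r_1 : 2 * T.m u0 + -2 * T.m u1 = 0 := by
                                  have key := Groth.Agent.Helper6.NT.rowfun6 T u0 u1 u2 u3 u4 u5 hinj u1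
                                  rw [Groth.Agent.Helper6.NT.symm' T u1 u0, taq_0_1, (h2 u1).2, z_1_2, z_1_3, z_1_4, z_1_5] at key
                                  exact mul_left_cancel₀ (T.w_pos u1).ne' (by linarith only [key])
                                have r_2 : 1 * T.m u0 + -2 * T.m u2 + 1 * T.m u3 = 0 := by
                                  have key := Groth.Agent.Helper6.NT.rowfun6 T u0 u1 u2 u3 u4 u5 hinj u2
                                  rw [Groth.Agent.Helper6.NT.symm' T u2 u0, taq_0_2, Groth.Agent.Helper6.NT.symm' T u2 u1, z_1_2, (h2 u2).2, tap_2_3, z_2_4, z_2_5] at key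
                                  exact mul_left_cancel₀ (T.w_pos u2).ne' (by linarith only [key])
                                have r_3 : 1 * T.m u2 + -2 * T.m u3 + 1 * T.m u4 = 0 := by
                                  have key := Groth.Agent.Helper6.NT.rowfun6 T u0 u1 u2 u3 u4 u5 hinj u3
                                  rw [Groth.Agent.Helper6.NT.symm' T u3 u0, z_0_3, Groth.Agent.Helper6.NT.symm' T u3 u1, z_1_3, Groth.Agent.Helper6.NT.symm' T u3 u2, taq_2_3, (h2 u3).2, tap_3_4, z_3_5] at key
                                  exact mul_left_cancel₀ (T.w_pos u3).ne' (by linarith only [key])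
                                have r_4 : 1 * T.m u3 + -2 * T.m u4 + 1 * T.m u5 = 0 := by
                                  have key := Groth.Agent.Helper6.NT.rowfun6 T u0 u1 u2 u3 u4 u5 hinj u4
                                  rw [Groth.Agent.Helper6.NT.symm' T u4 u0, z_0_4, Groth.Agent.Helper6.NT.symm' T u4 u1, z_1_4, Groth.Agent.Helper6.NT.symm' T u4 u2, z_2_4, Groth.Agent.Helper6.NT.symm' T u4 u3, taq_3_4, (h2 u4).2, tap_4_5] at key
                                  exact mul_left_cancel₀ (T.w_pos u4).ne' (by linarith only [key])
                                have r_5 : 2 * T.m u4 + -2 * T.m u5 = 0 := by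
                                  have key := Groth.Agent.Helper6.NT.rowfun6 T u0 u1 u2 u3 u4 u5 hinj u5
                                  rw [Groth.Agent.Helper6.NT.symm' T u5 u0, z_0_5, Groth.Agent.Helper6.NT.symm' T u5 u1, z_1_5, Groth.Agent.Helper6.NT.symm' T u5 u2, z_2_5, Groth.Agent.Helper6.NT.symm' T u5 u3, z_3_5, Groth.Agent.Helper6.NT.symm' T u5 u4, taq_4_5, (h2 u5).2] at key
                                  exact mul_left_cancel₀ (T.w_pos u5).ne' (by linarith only [key])
                                have f0 : T.m u1 = T.m u1 := rfl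
                                have f1 : T.m u0 = T.m u1 := by linarith only [r_0, r_1, r_2, r_3, r_4, r_5]
                                have f2 : T.m u2 = T.m u1 := by linarith only [r_0, r_1, r_2, r_3, r_4, r_5]
                                have f3 : T.m u3 = T.m u1 := by linarith only [r_0, r_1, r_2, r_3, r_4, r_5]
                                have f4 : T.m u4 = T.m u1 := by linarith only [r_0, r_1, r_2, r_3, r_4, r_5]
                                have f5 : T.m u5 = T.m u1 := by linarith only [r_0, r_1, r_2, r_3, r_4, r_5]
                                have f6 : T.w u1 = T.w u1 := rfl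
                                have f7 : T.w u0 = 2 * T.w u1 := by linarith only [tw_0_1, tw_0_2, tw_2_3, tw_3_4, tw_4_5]
                                have f8 : T.w u2 = 2 * T.w u1 := by linarith only [tw_0_1, tw_0_2, tw_2_3, tw_3_4, tw_4_5]
                                have f9 : T.w u3 = 2 * T.w u1 := by linarith only [tw_0_1, tw_0_2, tw_2_3, tw_3_4, tw_4_5]
                                have f10 : T.w u4 = 2 * T.w u1 := by linarith only [tw_0_1, tw_0_2, tw_2_3, tw_3_4, tw_4_5]
                                have f11 : T.w u5 = T.w u1 := by linarith only [tw_0_1, tw_0_2, tw_2_3, tw_3_4, tw_4_5]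
                                have f12 : T.a u1 u1 = -2 * T.w u1 := by have := (h2 u1).2; linarith only [this, tw_0_1, tw_0_2, tw_2_3, tw_3_4, tw_4_5]
                                have f13 : T.a u1 u0 = 2 * T.w u1 := by rw [Groth.Agent.Helper6.NT.symm' T u1 u0]; linarith only [tap_0_1, tw_0_1, tw_0_2, tw_2_3, tw_3_4, tw_4_5]
                                have f14 : T.a u1 u2 = 0 := by exact z_1_2
                                have f15 : T.a u1 u3 = 0 := by exact z_1_3
                                have f16 : T.a u1 u4 = 0 := by exact z_1_4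
                                have f17 : T.a u1 u5 = 0 := by exact z_1_5
                                have f18 : T.a u0 u0 = -4 * T.w u1 := by have := (h2 u0).2; linarith only [this, tw_0_1, tw_0_2, tw_2_3, tw_3_4, tw_4_5]
                                have f19 : T.a u0 u2 = 2 * T.w u1 := by linarith only [tap_0_2, tw_0_1, tw_0_2, tw_2_3, tw_3_4, tw_4_5]
                                have f20 : T.a u0 u3 = 0 := by exact z_0_3
                                have f21 : T.a u0 u4 = 0 := by exact z_0_4
                                have f22 : T.a u0 u5 = 0 := by exact z_0_5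
                                have f23 : T.a u2 u2 = -4 * T.w u1 := by have := (h2 u2).2; linarith only [this, tw_0_1, tw_0_2, tw_2_3, tw_3_4, tw_4_5]
                                have f24 : T.a u2 u3 = 2 * T.w u1 := by linarith only [tap_2_3, tw_0_1, tw_0_2, tw_2_3, tw_3_4, tw_4_5]
                                have f25 : T.a u2 u4 = 0 := by exact z_2_4
                                have f26 : T.a u2 u5 = 0 := by exact z_2_5
                                have f27 : T.a u3 u3 = -4 * T.w u1 := by have := (h2 u3).2; linarith only [this, tw_0_1, tw_0_2, tw_2_3, tw_3_4, tw_4_5]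
                                have f28 : T.a u3 u4 = 2 * T.w u1 := by linarith only [tap_3_4, tw_0_1, tw_0_2, tw_2_3, tw_3_4, tw_4_5]
                                have f29 : T.a u3 u5 = 0 := by exact z_3_5
                                have f30 : T.a u4 u4 = -4 * T.w u1 := by have := (h2 u4).2; linarith only [this, tw_0_1, tw_0_2, tw_2_3, tw_3_4, tw_4_5]
                                have f31 : T.a u4 u5 = 2 * T.w u1 := by linarith only [tap_4_5, tw_0_1, tw_0_2, tw_2_3, tw_3_4, tw_4_5]
                                have f32 : T.a u5 u5 = -2 * T.w u1 := by have := (h2 u5).2; linarith only [this, tw_0_1, tw_0_2, tw_2_3, tw_3_4, tw_4_5]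
                                have hsig := Groth.Agent.Helper6.NT.inj6 u1 u0 u2 u3 u4 u5 hn_1_0.symm hn_2_1 hn_2_0 hn_3_1 hn_3_0 hn_3_2 hn_4_1 hn_4_0 hn_4_2 hn_4_3 hn_5_1 hn_5_0 hn_5_2 hn_5_3 hn_5_4
                                exact ⟨Equiv.ofBijective _ (Finite.injective_iff_bijective.1 hsig), T.m u1, T.w u1, Or.inr (Or.inr (Or.inl ⟨f0, f1, f2, f3, f4, f5, f6, f7, f8, f9, f10, f11, f12, f13, f14, f15, f16, f17, f18, f19, f20, f21, f22, f23, f24, f25, f26, f27, f28, f29, f30, f31, f32⟩))⟩
                              · -- (4,5) Tp
                                exfalso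
                                have key := Groth.Agent.Helper6.NT.negfun3 T h2 u3 u4 u5 (by norm_num) 1 2 1 (by norm_num) (by norm_num)
                                linarith only [key, tap_3_4, taq_3_4, z_3_5, tap_4_5, taq_4_5, T.w_pos u3, T.w_pos u4, T.w_pos u5]
                              · -- (4,5) Tm
                                exfalso
                                have key := Groth.Agent.Helper6.NT.negfun3 T h2 u3 u4 u5 (by norm_num) 1 2 3 (by norm_num) (by norm_num)
                                linarith only [key, tap_3_4, taq_3_4, z_3_5, tap_4_5, taq_4_5, T.w_pos u3, T.w_pos u4, T.w_pos u5]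
                            · push Not at hx
                              have cl_4 := hx
                              clear hx
                              exfalso
                              refine Groth.Agent.Helper6.NT.closed_contra T [u0, u1, u2, u3, u4] (by simp) (by simp) ?_
                              intro i hi j hj
                              simp only [List.mem_cons, List.not_mem_nil, or_false, not_or] at hi hj
                              rcases hi with rfl | rfl | rfl | rfl | rfl
                              · exact cl_0 j ⟨hj.1, hj.2.1, hj.2.2.1⟩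
                              · exact cl_1 j ⟨hj.1, hj.2.1, hj.2.2.1⟩
                              · exact cl_2 j ⟨hj.1, hj.2.1, hj.2.2.1, hj.2.2.2.1⟩
                              · exact cl_3 j ⟨hj.1, hj.2.1, hj.2.2.1, hj.2.2.2.1, hj.2.2.2.2⟩
                              · exact cl_4 j ⟨hj.1, hj.2.1, hj.2.2.1, hj.2.2.2.1, hj.2.2.2.2⟩
                        · -- (3,4) Dp
                          exfalso
                          have key := Groth.Agent.Helper6.NT.negfun5 T h2 u0 u1 u2 u3 u4 (by norm_num) 2 2 2 2 1 (by norm_num) (by norm_num)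
                          linarith only [key, tap_0_1, taq_0_1, tap_0_2, taq_0_2, z_0_3, z_0_4, z_1_2, z_1_3, z_1_4, tap_2_3, taq_2_3, z_2_4, tap_3_4, taq_3_4, T.w_pos u0, T.w_pos u1, T.w_pos u2, T.w_pos u3, T.w_pos u4]
                        · -- (3,4) Dm
                          exfalso
                          have key := Groth.Agent.Helper6.NT.negfun5 T h2 u0 u1 u2 u3 u4 (by norm_num) 1 1 1 1 1 (by norm_num) (by norm_num)
                          linarith only [key, tap_0_1, taq_0_1, tap_0_2, taq_0_2, z_0_3, z_0_4, z_1_2, z_1_3, z_1_4, tap_2_3, taq_2_3, z_2_4, tap_3_4, taq_3_4, T.w_pos u0, T.w_pos u1, T.w_pos u2, T.w_pos u3, T.w_pos u4]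
                        · -- (3,4) Tp
                          exfalso
                          have key := Groth.Agent.Helper6.NT.negfun3 T h2 u2 u3 u4 (by norm_num) 1 2 1 (by norm_num) (by norm_num)
                          linarith only [key, tap_2_3, taq_2_3, z_2_4, tap_3_4, taq_3_4, T.w_pos u2, T.w_pos u3, T.w_pos u4]
                        · -- (3,4) Tm
                          exfalso
                          have key := Groth.Agent.Helper6.NT.negfun3 T h2 u2 u3 u4 (by norm_num) 1 2 3 (by norm_num) (by norm_num)
                          linarith only [key, tap_2_3, taq_2_3, z_2_4, tap_3_4, taq_3_4, T.w_pos u2, T.w_pos u3, T.w_pos u4]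
                      · push Not at hx
                        have cl_3 := hx
                        clear hx
                        exfalso
                        refine Groth.Agent.Helper6.NT.closed_contra T [u0, u1, u2, u3] (by simp) (by simp) ?_
                        intro i hi j hj
                        simp only [List.mem_cons, List.not_mem_nil, or_false, not_or] at hi hj
                        rcases hi with rfl | rfl | rfl | rfl
                        · exact cl_0 j ⟨hj.1, hj.2.1, hj.2.2.1⟩
                        · exact cl_1 j ⟨hj.1, hj.2.1, hj.2.2.1⟩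
                        · exact cl_2 j ⟨hj.1, hj.2.1, hj.2.2.1, hj.2.2.2⟩
                        · exact cl_3 j ⟨hj.1, hj.2.1, hj.2.2.1, hj.2.2.2⟩
                  · -- (2,3) Dp
                    exfalso
                    have key := Groth.Agent.Helper6.NT.negfun4 T h2 u0 u1 u2 u3 (by norm_num) 2 2 2 1 (by norm_num) (by norm_num)
                    linarith only [key, tap_0_1, taq_0_1, tap_0_2, taq_0_2, z_0_3, z_1_2, z_1_3, tap_2_3, taq_2_3, T.w_pos u0, T.w_pos u1, T.w_pos u2, T.w_pos u3]
                  · -- (2,3) Dm
                    exfalso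
                    have key := Groth.Agent.Helper6.NT.negfun4 T h2 u0 u1 u2 u3 (by norm_num) 1 1 1 1 (by norm_num) (by norm_num)
                    linarith only [key, tap_0_1, taq_0_1, tap_0_2, taq_0_2, z_0_3, z_1_2, z_1_3, tap_2_3, taq_2_3, T.w_pos u0, T.w_pos u1, T.w_pos u2, T.w_pos u3]
                  · -- (2,3) Tp
                    exfalso
                    have key := Groth.Agent.Helper6.NT.negfun3 T h2 u0 u2 u3 (by norm_num) 1 2 1 (by norm_num) (by norm_num)
                    linarith only [key, tap_0_2, taq_0_2, z_0_3, tap_2_3, taq_2_3, T.w_pos u0, T.w_pos u2, T.w_pos u3]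
                  · -- (2,3) Tm
                    exfalso
                    have key := Groth.Agent.Helper6.NT.negfun3 T h2 u0 u2 u3 (by norm_num) 1 2 3 (by norm_num) (by norm_num)
                    linarith only [key, tap_0_2, taq_0_2, z_0_3, tap_2_3, taq_2_3, T.w_pos u0, T.w_pos u2, T.w_pos u3]
                · push Not at hx
                  have cl_2 := hx
                  clear hx
                  exfalso
                  refine Groth.Agent.Helper6.NT.closed_contra T [u0, u1, u2] (by simp) (by simp) ?_
                  intro i hi j hj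
                  simp only [List.mem_cons, List.not_mem_nil, or_false, not_or] at hi hj
                  rcases hi with rfl | rfl | rfl
                  · exact cl_0 j ⟨hj.1, hj.2.1, hj.2.2⟩
                  · exact cl_1 j ⟨hj.1, hj.2.1, hj.2.2⟩
                  · exact cl_2 j ⟨hj.1, hj.2.1, hj.2.2⟩
          · -- (1,2) nonzero
            obtain ⟨lbp_1_2, lbq_1_2⟩ := Groth.Agent.Helper6.NT.lb T u1 u2 hn_2_1.symm nz_1_2
            exfalso
            have key := Groth.Agent.Helper6.NT.negfun3 T h2 u0 u1 u2 (by norm_num) 1 1 1 (by norm_num) (by norm_num)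
            linarith only [key, tap_0_1, taq_0_1, tap_0_2, taq_0_2, lbp_1_2, lbq_1_2, T.w_pos u0, T.w_pos u1, T.w_pos u2]
        · -- (0,2) Dp
          exfalso
          have key := Groth.Agent.Helper6.NT.negfun3 T h2 u0 u1 u2 (by norm_num) 2 2 1 (by norm_num) (by norm_num)
          linarith only [key, tap_0_1, taq_0_1, tap_0_2, taq_0_2, T.offDiag_nonneg u1 u2 hn_2_1.symm, T.w_pos u0, T.w_pos u1, T.w_pos u2]
        · -- (0,2) Dm
          exfalso
          have key := Groth.Agent.Helper6.NT.negfun3 T h2 u0 u1 u2 (by norm_num) 1 1 1 (by norm_num) (by norm_num)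
          linarith only [key, tap_0_1, taq_0_1, tap_0_2, taq_0_2, T.offDiag_nonneg u1 u2 hn_2_1.symm, T.w_pos u0, T.w_pos u1, T.w_pos u2]
        · -- (0,2) Tp
          exfalso
          have key := Groth.Agent.Helper6.NT.negfun3 T h2 u0 u1 u2 (by norm_num) 2 2 1 (by norm_num) (by norm_num)
          linarith only [key, tap_0_1, taq_0_1, tap_0_2, taq_0_2, T.offDiag_nonneg u1 u2 hn_2_1.symm, T.w_pos u0, T.w_pos u1, T.w_pos u2]
        · -- (0,2) Tm
          exfalso
          have key := Groth.Agent.Helper6.NT.negfun3 T h2 u0 u1 u2 (by norm_num) 2 2 3 (by norm_num) (by norm_num)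
          linarith only [key, tap_0_1, taq_0_1, tap_0_2, taq_0_2, T.offDiag_nonneg u1 u2 hn_2_1.symm, T.w_pos u0, T.w_pos u1, T.w_pos u2]
      · push Not at hx
        have cl_0 := hx
        clear hx
        by_cases hx : ∃ j, (j ≠ u0 ∧ j ≠ u1) ∧ T.a u1 j ≠ 0
        · obtain ⟨u2, ⟨hn_2_0, hn_2_1⟩, e_1_2⟩ := hx
          have z_0_2 : T.a u0 u2 = 0 := cl_0 u2 ⟨hn_2_0, hn_2_1⟩
          rcases Groth.Agent.Helper6.NT.edge5 T h2 (by norm_num) u1 u2 hn_2_1.symm e_1_2 with ⟨tw_1_2, tap_1_2, taq_1_2⟩ | ⟨tw_1_2, tap_1_2, taq_1_2⟩ | ⟨tw_1_2, tap_1_2, taq_1_2⟩ | ⟨tw_1_2, tap_1_2, taq_1_2⟩ | ⟨tw_1_2, tap_1_2, taq_1_2⟩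
          · -- (1,2) S
            by_cases hx : ∃ j, (j ≠ u0 ∧ j ≠ u1 ∧ j ≠ u2) ∧ T.a u1 j ≠ 0
            · obtain ⟨u3, ⟨hn_3_0, hn_3_1, hn_3_2⟩, e_1_3⟩ := hx
              have z_0_3 : T.a u0 u3 = 0 := cl_0 u3 ⟨hn_3_0, hn_3_1⟩
              rcases Groth.Agent.Helper6.NT.edge5 T h2 (by norm_num) u1 u3 hn_3_1.symm e_1_3 with ⟨tw_1_3, tap_1_3, taq_1_3⟩ | ⟨tw_1_3, tap_1_3, taq_1_3⟩ | ⟨tw_1_3, tap_1_3, taq_1_3⟩ | ⟨tw_1_3, tap_1_3, taq_1_3⟩ | ⟨tw_1_3, tap_1_3, taq_1_3⟩
              · -- (1,3) S
                exfalso
                have key := Groth.Agent.Helper6.NT.negfun4 T h2 u0 u1 u2 u3 (by norm_num) 1 2 1 1 (by norm_num) (by norm_num)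
                linarith only [key, tap_0_1, taq_0_1, z_0_2, z_0_3, tap_1_2, taq_1_2, tap_1_3, taq_1_3, T.offDiag_nonneg u2 u3 hn_3_2.symm, T.w_pos u0, T.w_pos u1, T.w_pos u2, T.w_pos u3]
              · -- (1,3) Dp
                exfalso
                have key := Groth.Agent.Helper6.NT.negfun3 T h2 u0 u1 u3 (by norm_num) 1 2 1 (by norm_num) (by norm_num)
                linarith only [key, tap_0_1, taq_0_1, z_0_3, tap_1_3, taq_1_3, T.w_pos u0, T.w_pos u1, T.w_pos u3]
              · -- (1,3) Dm
                exfalso
                have key := Groth.Agent.Helper6.NT.negfun3 T h2 u0 u1 u3 (by norm_num) 1 2 2 (by norm_num) (by norm_num)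
                linarith only [key, tap_0_1, taq_0_1, z_0_3, tap_1_3, taq_1_3, T.w_pos u0, T.w_pos u1, T.w_pos u3]
              · -- (1,3) Tp
                exfalso
                have key := Groth.Agent.Helper6.NT.negfun3 T h2 u1 u2 u3 (by norm_num) 2 1 1 (by norm_num) (by norm_num)
                linarith only [key, tap_1_2, taq_1_2, tap_1_3, taq_1_3, T.offDiag_nonneg u2 u3 hn_3_2.symm, T.w_pos u1, T.w_pos u2, T.w_pos u3]
              · -- (1,3) Tm
                exfalso
                have key := Groth.Agent.Helper6.NT.negfun3 T h2 u1 u2 u3 (by norm_num) 2 1 3 (by norm_num) (by norm_num)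
                linarith only [key, tap_1_2, taq_1_2, tap_1_3, taq_1_3, T.offDiag_nonneg u2 u3 hn_3_2.symm, T.w_pos u1, T.w_pos u2, T.w_pos u3]
            · push Not at hx
              have cl_1 := hx
              clear hx
              by_cases hx : ∃ j, (j ≠ u0 ∧ j ≠ u1 ∧ j ≠ u2) ∧ T.a u2 j ≠ 0
              · obtain ⟨u3, ⟨hn_3_0, hn_3_1, hn_3_2⟩, e_2_3⟩ := hx
                have z_0_3 : T.a u0 u3 = 0 := cl_0 u3 ⟨hn_3_0, hn_3_1⟩
                have z_1_3 : T.a u1 u3 = 0 := cl_1 u3 ⟨hn_3_0, hn_3_1, hn_3_2⟩
                rcases Groth.Agent.Helper6.NT.edge5 T h2 (by norm_num) u2 u3 hn_3_2.symm e_2_3 with ⟨tw_2_3, tap_2_3, taq_2_3⟩ | ⟨tw_2_3, tap_2_3, taq_2_3⟩ | ⟨tw_2_3, tap_2_3, taq_2_3⟩ | ⟨tw_2_3, tap_2_3, taq_2_3⟩ | ⟨tw_2_3, tap_2_3, taq_2_3⟩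
                · -- (2,3) S
                  by_cases hx : ∃ j, (j ≠ u0 ∧ j ≠ u1 ∧ j ≠ u2 ∧ j ≠ u3) ∧ T.a u2 j ≠ 0
                  · obtain ⟨u4, ⟨hn_4_0, hn_4_1, hn_4_2, hn_4_3⟩, e_2_4⟩ := hx
                    have z_0_4 : T.a u0 u4 = 0 := cl_0 u4 ⟨hn_4_0, hn_4_1⟩
                    have z_1_4 : T.a u1 u4 = 0 := cl_1 u4 ⟨hn_4_0, hn_4_1, hn_4_2⟩
                    rcases Groth.Agent.Helper6.NT.edge5 T h2 (by norm_num) u2 u4 hn_4_2.symm e_2_4 with ⟨tw_2_4, tap_2_4, taq_2_4⟩ | ⟨tw_2_4, tap_2_4, taq_2_4⟩ | ⟨tw_2_4, tap_2_4, taq_2_4⟩ | ⟨tw_2_4, tap_2_4, taq_2_4⟩ | ⟨tw_2_4, tap_2_4, taq_2_4⟩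
                    · -- (2,4) S
                      exfalso
                      have key := Groth.Agent.Helper6.NT.negfun5 T h2 u0 u1 u2 u3 u4 (by norm_num) 1 2 2 1 1 (by norm_num) (by norm_num)
                      linarith only [key, tap_0_1, taq_0_1, z_0_2, z_0_3, z_0_4, tap_1_2, taq_1_2, z_1_3, z_1_4, tap_2_3, taq_2_3, tap_2_4, taq_2_4, T.offDiag_nonneg u3 u4 hn_4_3.symm, T.w_pos u0, T.w_pos u1, T.w_pos u2, T.w_pos u3, T.w_pos u4]
                    · -- (2,4) Dp
                      exfalso
                      have key := Groth.Agent.Helper6.NT.negfun4 T h2 u1 u2 u3 u4 (by norm_num) 1 2 1 1 (by norm_num) (by norm_num)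
                      linarith only [key, tap_1_2, taq_1_2, z_1_3, z_1_4, tap_2_3, taq_2_3, tap_2_4, taq_2_4, T.offDiag_nonneg u3 u4 hn_4_3.symm, T.w_pos u1, T.w_pos u2, T.w_pos u3, T.w_pos u4]
                    · -- (2,4) Dm
                      exfalso
                      have key := Groth.Agent.Helper6.NT.negfun4 T h2 u1 u2 u3 u4 (by norm_num) 1 2 1 2 (by norm_num) (by norm_num)
                      linarith only [key, tap_1_2, taq_1_2, z_1_3, z_1_4, tap_2_3, taq_2_3, tap_2_4, taq_2_4, T.offDiag_nonneg u3 u4 hn_4_3.symm, T.w_pos u1, T.w_pos u2, T.w_pos u3, T.w_pos u4]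
                    · -- (2,4) Tp
                      exfalso
                      have key := Groth.Agent.Helper6.NT.negfun3 T h2 u2 u3 u4 (by norm_num) 2 1 1 (by norm_num) (by norm_num)
                      linarith only [key, tap_2_3, taq_2_3, tap_2_4, taq_2_4, T.offDiag_nonneg u3 u4 hn_4_3.symm, T.w_pos u2, T.w_pos u3, T.w_pos u4]
                    · -- (2,4) Tm
                      exfalso
                      have key := Groth.Agent.Helper6.NT.negfun3 T h2 u2 u3 u4 (by norm_num) 2 1 3 (by norm_num) (by norm_num)
                      linarith only [key, tap_2_3, taq_2_3, tap_2_4, taq_2_4, T.offDiag_nonneg u3 u4 hn_4_3.symm, T.w_pos u2, T.w_pos u3, T.w_pos u4]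
                  · push Not at hx
                    have cl_2 := hx
                    clear hx
                    by_cases hx : ∃ j, (j ≠ u0 ∧ j ≠ u1 ∧ j ≠ u2 ∧ j ≠ u3) ∧ T.a u3 j ≠ 0
                    · obtain ⟨u4, ⟨hn_4_0, hn_4_1, hn_4_2, hn_4_3⟩, e_3_4⟩ := hx
                      have z_0_4 : T.a u0 u4 = 0 := cl_0 u4 ⟨hn_4_0, hn_4_1⟩
                      have z_1_4 : T.a u1 u4 = 0 := cl_1 u4 ⟨hn_4_0, hn_4_1, hn_4_2⟩
                      have z_2_4 : T.a u2 u4 = 0 := cl_2 u4 ⟨hn_4_0, hn_4_1, hn_4_2, hn_4_3⟩
                      rcases Groth.Agent.Helper6.NT.edge5 T h2 (by norm_num) u3 u4 hn_4_3.symm e_3_4 with ⟨tw_3_4, tap_3_4, taq_3_4⟩ | ⟨tw_3_4, tap_3_4, taq_3_4⟩ | ⟨tw_3_4, tap_3_4, taq_3_4⟩ | ⟨tw_3_4, tap_3_4, taq_3_4⟩ | ⟨tw_3_4, tap_3_4, taq_3_4⟩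
                      · -- (3,4) S
                        by_cases hx : ∃ j, (j ≠ u0 ∧ j ≠ u1 ∧ j ≠ u2 ∧ j ≠ u3 ∧ j ≠ u4) ∧ T.a u3 j ≠ 0
                        · obtain ⟨u5, ⟨hn_5_0, hn_5_1, hn_5_2, hn_5_3, hn_5_4⟩, e_3_5⟩ := hx
                          have z_0_5 : T.a u0 u5 = 0 := cl_0 u5 ⟨hn_5_0, hn_5_1⟩
                          have z_1_5 : T.a u1 u5 = 0 := cl_1 u5 ⟨hn_5_0, hn_5_1, hn_5_2⟩
                          have z_2_5 : T.a u2 u5 = 0 := cl_2 u5 ⟨hn_5_0, hn_5_1, hn_5_2, hn_5_3⟩
                          rcases Groth.Agent.Helper6.NT.edge5 T h2 (by norm_num) u3 u5 hn_5_3.symm e_3_5 with ⟨tw_3_5, tap_3_5, taq_3_5⟩ | ⟨tw_3_5, tap_3_5, taq_3_5⟩ | ⟨tw_3_5, tap_3_5, taq_3_5⟩ | ⟨tw_3_5, tap_3_5, taq_3_5⟩ | ⟨tw_3_5, tap_3_5, taq_3_5⟩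
                          · -- (3,5) S
                            rcases eq_or_ne (T.a u4 u5) 0 with z_4_5 | nz_4_5
                            · -- (4,5) zero
                              have hinj := Groth.Agent.Helper6.NT.inj6 u0 u1 u2 u3 u4 u5 hn_1_0 hn_2_0 hn_2_1 hn_3_0 hn_3_1 hn_3_2 hn_4_0 hn_4_1 hn_4_2 hn_4_3 hn_5_0 hn_5_1 hn_5_2 hn_5_3 hn_5_4
                              have r_0 : -2 * T.m u0 + 1 * T.m u1 = 0 := by
                                have key := Groth.Agent.Helper6.NT.rowfun6 T u0 u1 u2 u3 u4 u5 hinj u0
                                rw [(h2 u0).2, tap_0_1, z_0_2, z_0_3, z_0_4, z_0_5] at key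
                                exact mul_left_cancel₀ (T.w_pos u0).ne' (by linarith only [key])
                              have r_1 : 2 * T.m u0 + -2 * T.m u1 + 1 * T.m u2 = 0 := by
                                have key := Groth.Agent.Helper6.NT.rowfun6 T u0 u1 u2 u3 u4 u5 hinj u1
                                rw [Groth.Agent.Helper6.NT.symm' T u1 u0, taq_0_1, (h2 u1).2, tap_1_2, z_1_3, z_1_4, z_1_5] at key
                                exact mul_left_cancel₀ (T.w_pos u1).ne' (by linarith only [key])
                              have r_2 : 1 * T.m u1 + -2 * T.m u2 + 1 * T.m u3 = 0 := by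
                                have key := Groth.Agent.Helper6.NT.rowfun6 T u0 u1 u2 u3 u4 u5 hinj u2
                                rw [Groth.Agent.Helper6.NT.symm' T u2 u0, z_0_2, Groth.Agent.Helper6.NT.symm' T u2 u1, taq_1_2, (h2 u2).2, tap_2_3, z_2_4, z_2_5] at key
                                exact mul_left_cancel₀ (T.w_pos u2).ne' (by linarith only [key])
                              have r_3 : 1 * T.m u2 + -2 * T.m u3 + 1 * T.m u4 + 1 * T.m u5 = 0 := by
                                have key := Groth.Agent.Helper6.NT.rowfun6 T u0 u1 u2 u3 u4 u5 hinj u3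
                                rw [Groth.Agent.Helper6.NT.symm' T u3 u0, z_0_3, Groth.Agent.Helper6.NT.symm' T u3 u1, z_1_3, Groth.Agent.Helper6.NT.symm' T u3 u2, taq_2_3, (h2 u3).2, tap_3_4, tap_3_5] at key
                                exact mul_left_cancel₀ (T.w_pos u3).ne' (by linarith only [key])
                              have r_4 : 1 * T.m u3 + -2 * T.m u4 = 0 := by
                                have key := Groth.Agent.Helper6.NT.rowfun6 T u0 u1 u2 u3 u4 u5 hinj u4
                                rw [Groth.Agent.Helper6.NT.symm' T u4 u0, z_0_4, Groth.Agent.Helper6.NT.symm' T u4 u1, z_1_4, Groth.Agent.Helper6.NT.symm' T u4 u2, z_2_4, Groth.Agent.Helper6.NT.symm' T u4 u3, taq_3_4, (h2 u4).2, z_4_5] at key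
                                exact mul_left_cancel₀ (T.w_pos u4).ne' (by linarith only [key])
                              have r_5 : 1 * T.m u3 + -2 * T.m u5 = 0 := by
                                have key := Groth.Agent.Helper6.NT.rowfun6 T u0 u1 u2 u3 u4 u5 hinj u5
                                rw [Groth.Agent.Helper6.NT.symm' T u5 u0, z_0_5, Groth.Agent.Helper6.NT.symm' T u5 u1, z_1_5, Groth.Agent.Helper6.NT.symm' T u5 u2, z_2_5, Groth.Agent.Helper6.NT.symm' T u5 u3, taq_3_5, Groth.Agent.Helper6.NT.symm' T u5 u4, z_4_5, (h2 u5).2] at key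
                                exact mul_left_cancel₀ (T.w_pos u5).ne' (by linarith only [key])
                              have f0 : T.m u0 = T.m u0 := rfl
                              have f1 : T.m u1 = 2 * T.m u0 := by linarith only [r_0, r_1, r_2, r_3, r_4, r_5]
                              have f2 : T.m u2 = 2 * T.m u0 := by linarith only [r_0, r_1, r_2, r_3, r_4, r_5]
                              have f3 : T.m u3 = 2 * T.m u0 := by linarith only [r_0, r_1, r_2, r_3, r_4, r_5]
                              have f4 : T.m u4 = T.m u0 := by linarith only [r_0, r_1, r_2, r_3, r_4, r_5]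
                              have f5 : T.m u5 = T.m u0 := by linarith only [r_0, r_1, r_2, r_3, r_4, r_5]
                              have f6 : T.w u0 = 2 * T.w u1 := by linarith only [tw_0_1, tw_1_2, tw_2_3, tw_3_4, tw_3_5]
                              have f7 : T.w u1 = T.w u1 := rfl
                              have f8 : T.w u2 = T.w u1 := by linarith only [tw_0_1, tw_1_2, tw_2_3, tw_3_4, tw_3_5]
                              have f9 : T.w u3 = T.w u1 := by linarith only [tw_0_1, tw_1_2, tw_2_3, tw_3_4, tw_3_5]
                              have f10 : T.w u4 = T.w u1 := by linarith only [tw_0_1, tw_1_2, tw_2_3, tw_3_4, tw_3_5]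
                              have f11 : T.w u5 = T.w u1 := by linarith only [tw_0_1, tw_1_2, tw_2_3, tw_3_4, tw_3_5]
                              have f12 : T.a u0 u0 = -4 * T.w u1 := by have := (h2 u0).2; linarith only [this, tw_0_1, tw_1_2, tw_2_3, tw_3_4, tw_3_5]
                              have f13 : T.a u0 u1 = 2 * T.w u1 := by linarith only [tap_0_1, tw_0_1, tw_1_2, tw_2_3, tw_3_4, tw_3_5]
                              have f14 : T.a u0 u2 = 0 := by exact z_0_2
                              have f15 : T.a u0 u3 = 0 := by exact z_0_3
                              have f16 : T.a u0 u4 = 0 := by exact z_0_4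
                              have f17 : T.a u0 u5 = 0 := by exact z_0_5
                              have f18 : T.a u1 u1 = -2 * T.w u1 := by have := (h2 u1).2; linarith only [this, tw_0_1, tw_1_2, tw_2_3, tw_3_4, tw_3_5]
                              have f19 : T.a u1 u2 = T.w u1 := by linarith only [tap_1_2, tw_0_1, tw_1_2, tw_2_3, tw_3_4, tw_3_5]
                              have f20 : T.a u1 u3 = 0 := by exact z_1_3
                              have f21 : T.a u1 u4 = 0 := by exact z_1_4
                              have f22 : T.a u1 u5 = 0 := by exact z_1_5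
                              have f23 : T.a u2 u2 = -2 * T.w u1 := by have := (h2 u2).2; linarith only [this, tw_0_1, tw_1_2, tw_2_3, tw_3_4, tw_3_5]
                              have f24 : T.a u2 u3 = T.w u1 := by linarith only [tap_2_3, tw_0_1, tw_1_2, tw_2_3, tw_3_4, tw_3_5]
                              have f25 : T.a u2 u4 = 0 := by exact z_2_4
                              have f26 : T.a u2 u5 = 0 := by exact z_2_5
                              have f27 : T.a u3 u3 = -2 * T.w u1 := by have := (h2 u3).2; linarith only [this, tw_0_1, tw_1_2, tw_2_3, tw_3_4, tw_3_5]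
                              have f28 : T.a u3 u4 = T.w u1 := by linarith only [tap_3_4, tw_0_1, tw_1_2, tw_2_3, tw_3_4, tw_3_5]
                              have f29 : T.a u3 u5 = T.w u1 := by linarith only [tap_3_5, tw_0_1, tw_1_2, tw_2_3, tw_3_4, tw_3_5]
                              have f30 : T.a u4 u4 = -2 * T.w u1 := by have := (h2 u4).2; linarith only [this, tw_0_1, tw_1_2, tw_2_3, tw_3_4, tw_3_5]
                              have f31 : T.a u4 u5 = 0 := by exact z_4_5
                              have f32 : T.a u5 u5 = -2 * T.w u1 := by have := (h2 u5).2; linarith only [this, tw_0_1, tw_1_2, tw_2_3, tw_3_4, tw_3_5]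
                              have hsig := Groth.Agent.Helper6.NT.inj6 u0 u1 u2 u3 u4 u5 hn_1_0 hn_2_0 hn_2_1 hn_3_0 hn_3_1 hn_3_2 hn_4_0 hn_4_1 hn_4_2 hn_4_3 hn_5_0 hn_5_1 hn_5_2 hn_5_3 hn_5_4
                              exact ⟨Equiv.ofBijective _ (Finite.injective_iff_bijective.1 hsig), T.m u0, T.w u1, Or.inr (Or.inr (Or.inr (Or.inr (Or.inl ⟨f0, f1, f2, f3, f4, f5, f6, f7, f8, f9, f10, f11, f12, f13, f14, f15, f16, f17, f18, f19, f20, f21, f22, f23, f24, f25, f26, f27, f28, f29, f30, f31, f32⟩))))⟩
                            · -- (4,5) nonzero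
                              obtain ⟨lbp_4_5, lbq_4_5⟩ := Groth.Agent.Helper6.NT.lb T u4 u5 hn_5_4.symm nz_4_5
                              exfalso
                              have key := Groth.Agent.Helper6.NT.negfun3 T h2 u3 u4 u5 (by norm_num) 1 1 1 (by norm_num) (by norm_num)
                              linarith only [key, tap_3_4, taq_3_4, tap_3_5, taq_3_5, lbp_4_5, lbq_4_5, T.w_pos u3, T.w_pos u4, T.w_pos u5]
                          · -- (3,5) Dp
                            exfalso
                            have key := Groth.Agent.Helper6.NT.negfun4 T h2 u2 u3 u4 u5 (by norm_num) 1 2 1 1 (by norm_num) (by norm_num)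
                            linarith only [key, tap_2_3, taq_2_3, z_2_4, z_2_5, tap_3_4, taq_3_4, tap_3_5, taq_3_5, T.offDiag_nonneg u4 u5 hn_5_4.symm, T.w_pos u2, T.w_pos u3, T.w_pos u4, T.w_pos u5]
                          · -- (3,5) Dm
                            exfalso
                            have key := Groth.Agent.Helper6.NT.negfun4 T h2 u2 u3 u4 u5 (by norm_num) 1 2 1 2 (by norm_num) (by norm_num)
                            linarith only [key, tap_2_3, taq_2_3, z_2_4, z_2_5, tap_3_4, taq_3_4, tap_3_5, taq_3_5, T.offDiag_nonneg u4 u5 hn_5_4.symm, T.w_pos u2, T.w_pos u3, T.w_pos u4, T.w_pos u5]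
                          · -- (3,5) Tp
                            exfalso
                            have key := Groth.Agent.Helper6.NT.negfun3 T h2 u3 u4 u5 (by norm_num) 2 1 1 (by norm_num) (by norm_num)
                            linarith only [key, tap_3_4, taq_3_4, tap_3_5, taq_3_5, T.offDiag_nonneg u4 u5 hn_5_4.symm, T.w_pos u3, T.w_pos u4, T.w_pos u5]
                          · -- (3,5) Tm
                            exfalso
                            have key := Groth.Agent.Helper6.NT.negfun3 T h2 u3 u4 u5 (by norm_num) 2 1 3 (by norm_num) (by norm_num)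
                            linarith only [key, tap_3_4, taq_3_4, tap_3_5, taq_3_5, T.offDiag_nonneg u4 u5 hn_5_4.symm, T.w_pos u3, T.w_pos u4, T.w_pos u5]
                        · push Not at hx
                          have cl_3 := hx
                          clear hx
                          by_cases hx : ∃ j, (j ≠ u0 ∧ j ≠ u1 ∧ j ≠ u2 ∧ j ≠ u3 ∧ j ≠ u4) ∧ T.a u4 j ≠ 0
                          · obtain ⟨u5, ⟨hn_5_0, hn_5_1, hn_5_2, hn_5_3, hn_5_4⟩, e_4_5⟩ := hx
                            have z_0_5 : T.a u0 u5 = 0 := cl_0 u5 ⟨hn_5_0, hn_5_1⟩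
                            have z_1_5 : T.a u1 u5 = 0 := cl_1 u5 ⟨hn_5_0, hn_5_1, hn_5_2⟩
                            have z_2_5 : T.a u2 u5 = 0 := cl_2 u5 ⟨hn_5_0, hn_5_1, hn_5_2, hn_5_3⟩
                            have z_3_5 : T.a u3 u5 = 0 := cl_3 u5 ⟨hn_5_0, hn_5_1, hn_5_2, hn_5_3, hn_5_4⟩
                            rcases Groth.Agent.Helper6.NT.edge5 T h2 (by norm_num) u4 u5 hn_5_4.symm e_4_5 with ⟨tw_4_5, tap_4_5, taq_4_5⟩ | ⟨tw_4_5, tap_4_5, taq_4_5⟩ | ⟨tw_4_5, tap_4_5, taq_4_5⟩ | ⟨tw_4_5, tap_4_5, taq_4_5⟩ | ⟨tw_4_5, tap_4_5, taq_4_5⟩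
                            · -- (4,5) S
                              have hinj := Groth.Agent.Helper6.NT.inj6 u0 u1 u2 u3 u4 u5 hn_1_0 hn_2_0 hn_2_1 hn_3_0 hn_3_1 hn_3_2 hn_4_0 hn_4_1 hn_4_2 hn_4_3 hn_5_0 hn_5_1 hn_5_2 hn_5_3 hn_5_4
                              have r_0 : -2 * T.m u0 + 1 * T.m u1 = 0 := by
                                have key := Groth.Agent.Helper6.NT.rowfun6 T u0 u1 u2 u3 u4 u5 hinj u0
                                rw [(h2 u0).2, tap_0_1, z_0_2, z_0_3, z_0_4, z_0_5] at key
                                exact mul_left_cancel₀ (T.w_pos u0).ne' (by linarith only [key])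
                              have r_1 : 2 * T.m u0 + -2 * T.m u1 + 1 * T.m u2 = 0 := by
                                have key := Groth.Agent.Helper6.NT.rowfun6 T u0 u1 u2 u3 u4 u5 hinj u1
                                rw [Groth.Agent.Helper6.NT.symm' T u1 u0, taq_0_1, (h2 u1).2, tap_1_2, z_1_3, z_1_4, z_1_5] at key
                                exact mul_left_cancel₀ (T.w_pos u1).ne' (by linarith only [key])
                              have r_2 : 1 * T.m u1 + -2 * T.m u2 + 1 * T.m u3 = 0 := by
                                have key := Groth.Agent.Helper6.NT.rowfun6 T u0 u1 u2 u3 u4 u5 hinj u2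
                                rw [Groth.Agent.Helper6.NT.symm' T u2 u0, z_0_2, Groth.Agent.Helper6.NT.symm' T u2 u1, taq_1_2, (h2 u2).2, tap_2_3, z_2_4, z_2_5] at key
                                exact mul_left_cancel₀ (T.w_pos u2).ne' (by linarith only [key])
                              have r_3 : 1 * T.m u2 + -2 * T.m u3 + 1 * T.m u4 = 0 := by
                                have key := Groth.Agent.Helper6.NT.rowfun6 T u0 u1 u2 u3 u4 u5 hinj u3
                                rw [Groth.Agent.Helper6.NT.symm' T u3 u0, z_0_3, Groth.Agent.Helper6.NT.symm' T u3 u1, z_1_3, Groth.Agent.Helper6.NT.symm' T u3 u2, taq_2_3, (h2 u3).2, tap_3_4, z_3_5] at key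
                                exact mul_left_cancel₀ (T.w_pos u3).ne' (by linarith only [key])
                              have r_4 : 1 * T.m u3 + -2 * T.m u4 + 1 * T.m u5 = 0 := by
                                have key := Groth.Agent.Helper6.NT.rowfun6 T u0 u1 u2 u3 u4 u5 hinj u4
                                rw [Groth.Agent.Helper6.NT.symm' T u4 u0, z_0_4, Groth.Agent.Helper6.NT.symm' T u4 u1, z_1_4, Groth.Agent.Helper6.NT.symm' T u4 u2, z_2_4, Groth.Agent.Helper6.NT.symm' T u4 u3, taq_3_4, (h2 u4).2, tap_4_5] at key
                                exact mul_left_cancel₀ (T.w_pos u4).ne' (by linarith only [key])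
                              have r_5 : 1 * T.m u4 + -2 * T.m u5 = 0 := by
                                have key := Groth.Agent.Helper6.NT.rowfun6 T u0 u1 u2 u3 u4 u5 hinj u5
                                rw [Groth.Agent.Helper6.NT.symm' T u5 u0, z_0_5, Groth.Agent.Helper6.NT.symm' T u5 u1, z_1_5, Groth.Agent.Helper6.NT.symm' T u5 u2, z_2_5, Groth.Agent.Helper6.NT.symm' T u5 u3, z_3_5, Groth.Agent.Helper6.NT.symm' T u5 u4, taq_4_5, (h2 u5).2] at key
                                exact mul_left_cancel₀ (T.w_pos u5).ne' (by linarith only [key])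
                              exfalso
                              linarith only [r_0, r_1, r_2, r_3, r_4, r_5, T.m_pos u0, T.m_pos u1, T.m_pos u2, T.m_pos u3, T.m_pos u4, T.m_pos u5]
                            · -- (4,5) Dp
                              have hinj := Groth.Agent.Helper6.NT.inj6 u0 u1 u2 u3 u4 u5 hn_1_0 hn_2_0 hn_2_1 hn_3_0 hn_3_1 hn_3_2 hn_4_0 hn_4_1 hn_4_2 hn_4_3 hn_5_0 hn_5_1 hn_5_2 hn_5_3 hn_5_4
                              have r_0 : -2 * T.m u0 + 1 * T.m u1 = 0 := by
                                have key := Groth.Agent.Helper6.NT.rowfun6 T u0 u1 u2 u3 u4 u5 hinj u0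
                                rw [(h2 u0).2, tap_0_1, z_0_2, z_0_3, z_0_4, z_0_5] at key
                                exact mul_left_cancel₀ (T.w_pos u0).ne' (by linarith only [key])
                              have r_1 : 2 * T.m u0 + -2 * T.m u1 + 1 * T.m u2 = 0 := by
                                have key := Groth.Agent.Helper6.NT.rowfun6 T u0 u1 u2 u3 u4 u5 hinj u1
                                rw [Groth.Agent.Helper6.NT.symm' T u1 u0, taq_0_1, (h2 u1).2, tap_1_2, z_1_3, z_1_4, z_1_5] at key
                                exact mul_left_cancel₀ (T.w_pos u1).ne' (by linarith only [key])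
                              have r_2 : 1 * T.m u1 + -2 * T.m u2 + 1 * T.m u3 = 0 := by
                                have key := Groth.Agent.Helper6.NT.rowfun6 T u0 u1 u2 u3 u4 u5 hinj u2
                                rw [Groth.Agent.Helper6.NT.symm' T u2 u0, z_0_2, Groth.Agent.Helper6.NT.symm' T u2 u1, taq_1_2, (h2 u2).2, tap_2_3, z_2_4, z_2_5] at key
                                exact mul_left_cancel₀ (T.w_pos u2).ne' (by linarith only [key])
                              have r_3 : 1 * T.m u2 + -2 * T.m u3 + 1 * T.m u4 = 0 := by
                                have key := Groth.Agent.Helper6.NT.rowfun6 T u0 u1 u2 u3 u4 u5 hinj u3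
                                rw [Groth.Agent.Helper6.NT.symm' T u3 u0, z_0_3, Groth.Agent.Helper6.NT.symm' T u3 u1, z_1_3, Groth.Agent.Helper6.NT.symm' T u3 u2, taq_2_3, (h2 u3).2, tap_3_4, z_3_5] at key
                                exact mul_left_cancel₀ (T.w_pos u3).ne' (by linarith only [key])
                              have r_4 : 1 * T.m u3 + -2 * T.m u4 + 2 * T.m u5 = 0 := by
                                have key := Groth.Agent.Helper6.NT.rowfun6 T u0 u1 u2 u3 u4 u5 hinj u4
                                rw [Groth.Agent.Helper6.NT.symm' T u4 u0, z_0_4, Groth.Agent.Helper6.NT.symm' T u4 u1, z_1_4, Groth.Agent.Helper6.NT.symm' T u4 u2, z_2_4, Groth.Agent.Helper6.NT.symm' T u4 u3, taq_3_4, (h2 u4).2, tap_4_5] at key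
                                exact mul_left_cancel₀ (T.w_pos u4).ne' (by linarith only [key])
                              have r_5 : 1 * T.m u4 + -2 * T.m u5 = 0 := by
                                have key := Groth.Agent.Helper6.NT.rowfun6 T u0 u1 u2 u3 u4 u5 hinj u5
                                rw [Groth.Agent.Helper6.NT.symm' T u5 u0, z_0_5, Groth.Agent.Helper6.NT.symm' T u5 u1, z_1_5, Groth.Agent.Helper6.NT.symm' T u5 u2, z_2_5, Groth.Agent.Helper6.NT.symm' T u5 u3, z_3_5, Groth.Agent.Helper6.NT.symm' T u5 u4, taq_4_5, (h2 u5).2] at key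
                                exact mul_left_cancel₀ (T.w_pos u5).ne' (by linarith only [key])
                              have f0 : T.m u0 = T.m u0 := rfl
                              have f1 : T.m u1 = 2 * T.m u0 := by linarith only [r_0, r_1, r_2, r_3, r_4, r_5]
                              have f2 : T.m u2 = 2 * T.m u0 := by linarith only [r_0, r_1, r_2, r_3, r_4, r_5]
                              have f3 : T.m u3 = 2 * T.m u0 := by linarith only [r_0, r_1, r_2, r_3, r_4, r_5]
                              have f4 : T.m u4 = 2 * T.m u0 := by linarith only [r_0, r_1, r_2, r_3, r_4, r_5]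
                              have f5 : T.m u5 = T.m u0 := by linarith only [r_0, r_1, r_2, r_3, r_4, r_5]
                              have f6 : T.w u0 = 2 * T.w u1 := by linarith only [tw_0_1, tw_1_2, tw_2_3, tw_3_4, tw_4_5]
                              have f7 : T.w u1 = T.w u1 := rfl
                              have f8 : T.w u2 = T.w u1 := by linarith only [tw_0_1, tw_1_2, tw_2_3, tw_3_4, tw_4_5]
                              have f9 : T.w u3 = T.w u1 := by linarith only [tw_0_1, tw_1_2, tw_2_3, tw_3_4, tw_4_5]
                              have f10 : T.w u4 = T.w u1 := by linarith only [tw_0_1, tw_1_2, tw_2_3, tw_3_4, tw_4_5]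
                              have f11 : T.w u5 = 2 * T.w u1 := by linarith only [tw_0_1, tw_1_2, tw_2_3, tw_3_4, tw_4_5]
                              have f12 : T.a u0 u0 = -4 * T.w u1 := by have := (h2 u0).2; linarith only [this, tw_0_1, tw_1_2, tw_2_3, tw_3_4, tw_4_5]
                              have f13 : T.a u0 u1 = 2 * T.w u1 := by linarith only [tap_0_1, tw_0_1, tw_1_2, tw_2_3, tw_3_4, tw_4_5]
                              have f14 : T.a u0 u2 = 0 := by exact z_0_2
                              have f15 : T.a u0 u3 = 0 := by exact z_0_3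
                              have f16 : T.a u0 u4 = 0 := by exact z_0_4
                              have f17 : T.a u0 u5 = 0 := by exact z_0_5
                              have f18 : T.a u1 u1 = -2 * T.w u1 := by have := (h2 u1).2; linarith only [this, tw_0_1, tw_1_2, tw_2_3, tw_3_4, tw_4_5]
                              have f19 : T.a u1 u2 = T.w u1 := by linarith only [tap_1_2, tw_0_1, tw_1_2, tw_2_3, tw_3_4, tw_4_5]
                              have f20 : T.a u1 u3 = 0 := by exact z_1_3
                              have f21 : T.a u1 u4 = 0 := by exact z_1_4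
                              have f22 : T.a u1 u5 = 0 := by exact z_1_5
                              have f23 : T.a u2 u2 = -2 * T.w u1 := by have := (h2 u2).2; linarith only [this, tw_0_1, tw_1_2, tw_2_3, tw_3_4, tw_4_5]
                              have f24 : T.a u2 u3 = T.w u1 := by linarith only [tap_2_3, tw_0_1, tw_1_2, tw_2_3, tw_3_4, tw_4_5]
                              have f25 : T.a u2 u4 = 0 := by exact z_2_4
                              have f26 : T.a u2 u5 = 0 := by exact z_2_5
                              have f27 : T.a u3 u3 = -2 * T.w u1 := by have := (h2 u3).2; linarith only [this, tw_0_1, tw_1_2, tw_2_3, tw_3_4, tw_4_5]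
                              have f28 : T.a u3 u4 = T.w u1 := by linarith only [tap_3_4, tw_0_1, tw_1_2, tw_2_3, tw_3_4, tw_4_5]
                              have f29 : T.a u3 u5 = 0 := by exact z_3_5
                              have f30 : T.a u4 u4 = -2 * T.w u1 := by have := (h2 u4).2; linarith only [this, tw_0_1, tw_1_2, tw_2_3, tw_3_4, tw_4_5]
                              have f31 : T.a u4 u5 = 2 * T.w u1 := by linarith only [tap_4_5, tw_0_1, tw_1_2, tw_2_3, tw_3_4, tw_4_5]
                              have f32 : T.a u5 u5 = -4 * T.w u1 := by have := (h2 u5).2; linarith only [this, tw_0_1, tw_1_2, tw_2_3, tw_3_4, tw_4_5]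
                              have hsig := Groth.Agent.Helper6.NT.inj6 u0 u1 u2 u3 u4 u5 hn_1_0 hn_2_0 hn_2_1 hn_3_0 hn_3_1 hn_3_2 hn_4_0 hn_4_1 hn_4_2 hn_4_3 hn_5_0 hn_5_1 hn_5_2 hn_5_3 hn_5_4
                              exact ⟨Equiv.ofBijective _ (Finite.injective_iff_bijective.1 hsig), T.m u0, T.w u1, Or.inr (Or.inr (Or.inr (Or.inl ⟨f0, f1, f2, f3, f4, f5, f6, f7, f8, f9, f10, f11, f12, f13, f14, f15, f16, f17, f18, f19, f20, f21, f22, f23, f24, f25, f26, f27, f28, f29, f30, f31, f32⟩)))⟩
                            · -- (4,5) Dm
                              have hinj := Groth.Agent.Helper6.NT.inj6 u0 u1 u2 u3 u4 u5 hn_1_0 hn_2_0 hn_2_1 hn_3_0 hn_3_1 hn_3_2 hn_4_0 hn_4_1 hn_4_2 hn_4_3 hn_5_0 hn_5_1 hn_5_2 hn_5_3 hn_5_4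
                              have r_0 : -2 * T.m u0 + 1 * T.m u1 = 0 := by
                                have key := Groth.Agent.Helper6.NT.rowfun6 T u0 u1 u2 u3 u4 u5 hinj u0
                                rw [(h2 u0).2, tap_0_1, z_0_2, z_0_3, z_0_4, z_0_5] at key
                                exact mul_left_cancel₀ (T.w_pos u0).ne' (by linarith only [key])
                              have r_1 : 2 * T.m u0 + -2 * T.m u1 + 1 * T.m u2 = 0 := by
                                have key := Groth.Agent.Helper6.NT.rowfun6 T u0 u1 u2 u3 u4 u5 hinj u1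
                                rw [Groth.Agent.Helper6.NT.symm' T u1 u0, taq_0_1, (h2 u1).2, tap_1_2, z_1_3, z_1_4, z_1_5] at key
                                exact mul_left_cancel₀ (T.w_pos u1).ne' (by linarith only [key])
                              have r_2 : 1 * T.m u1 + -2 * T.m u2 + 1 * T.m u3 = 0 := by
                                have key := Groth.Agent.Helper6.NT.rowfun6 T u0 u1 u2 u3 u4 u5 hinj u2
                                rw [Groth.Agent.Helper6.NT.symm' T u2 u0, z_0_2, Groth.Agent.Helper6.NT.symm' T u2 u1, taq_1_2, (h2 u2).2, tap_2_3, z_2_4, z_2_5] at key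
                                exact mul_left_cancel₀ (T.w_pos u2).ne' (by linarith only [key])
                              have r_3 : 1 * T.m u2 + -2 * T.m u3 + 1 * T.m u4 = 0 := by
                                have key := Groth.Agent.Helper6.NT.rowfun6 T u0 u1 u2 u3 u4 u5 hinj u3
                                rw [Groth.Agent.Helper6.NT.symm' T u3 u0, z_0_3, Groth.Agent.Helper6.NT.symm' T u3 u1, z_1_3, Groth.Agent.Helper6.NT.symm' T u3 u2, taq_2_3, (h2 u3).2, tap_3_4, z_3_5] at key
                                exact mul_left_cancel₀ (T.w_pos u3).ne' (by linarith only [key])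
                              have r_4 : 1 * T.m u3 + -2 * T.m u4 + 1 * T.m u5 = 0 := by
                                have key := Groth.Agent.Helper6.NT.rowfun6 T u0 u1 u2 u3 u4 u5 hinj u4
                                rw [Groth.Agent.Helper6.NT.symm' T u4 u0, z_0_4, Groth.Agent.Helper6.NT.symm' T u4 u1, z_1_4, Groth.Agent.Helper6.NT.symm' T u4 u2, z_2_4, Groth.Agent.Helper6.NT.symm' T u4 u3, taq_3_4, (h2 u4).2, tap_4_5] at key
                                exact mul_left_cancel₀ (T.w_pos u4).ne' (by linarith only [key])
                              have r_5 : 2 * T.m u4 + -2 * T.m u5 = 0 := by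
                                have key := Groth.Agent.Helper6.NT.rowfun6 T u0 u1 u2 u3 u4 u5 hinj u5
                                rw [Groth.Agent.Helper6.NT.symm' T u5 u0, z_0_5, Groth.Agent.Helper6.NT.symm' T u5 u1, z_1_5, Groth.Agent.Helper6.NT.symm' T u5 u2, z_2_5, Groth.Agent.Helper6.NT.symm' T u5 u3, z_3_5, Groth.Agent.Helper6.NT.symm' T u5 u4, taq_4_5, (h2 u5).2] at key
                                exact mul_left_cancel₀ (T.w_pos u5).ne' (by linarith only [key])
                              have f0 : T.m u5 = 2 * T.m u0 := by linarith only [r_0, r_1, r_2, r_3, r_4, r_5]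
                              have f1 : T.m u4 = 2 * T.m u0 := by linarith only [r_0, r_1, r_2, r_3, r_4, r_5]
                              have f2 : T.m u3 = 2 * T.m u0 := by linarith only [r_0, r_1, r_2, r_3, r_4, r_5]
                              have f3 : T.m u2 = 2 * T.m u0 := by linarith only [r_0, r_1, r_2, r_3, r_4, r_5]
                              have f4 : T.m u1 = 2 * T.m u0 := by linarith only [r_0, r_1, r_2, r_3, r_4, r_5]
                              have f5 : T.m u0 = T.m u0 := rfl
                              have f6 : T.w u5 = T.w u5 := rfl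
                              have f7 : T.w u4 = 2 * T.w u5 := by linarith only [tw_0_1, tw_1_2, tw_2_3, tw_3_4, tw_4_5]
                              have f8 : T.w u3 = 2 * T.w u5 := by linarith only [tw_0_1, tw_1_2, tw_2_3, tw_3_4, tw_4_5]
                              have f9 : T.w u2 = 2 * T.w u5 := by linarith only [tw_0_1, tw_1_2, tw_2_3, tw_3_4, tw_4_5]
                              have f10 : T.w u1 = 2 * T.w u5 := by linarith only [tw_0_1, tw_1_2, tw_2_3, tw_3_4, tw_4_5]
                              have f11 : T.w u0 = 4 * T.w u5 := by linarith only [tw_0_1, tw_1_2, tw_2_3, tw_3_4, tw_4_5]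
                              have f12 : T.a u5 u5 = -2 * T.w u5 := by have := (h2 u5).2; linarith only [this, tw_0_1, tw_1_2, tw_2_3, tw_3_4, tw_4_5]
                              have f13 : T.a u5 u4 = 2 * T.w u5 := by rw [Groth.Agent.Helper6.NT.symm' T u5 u4]; linarith only [tap_4_5, tw_0_1, tw_1_2, tw_2_3, tw_3_4, tw_4_5]
                              have f14 : T.a u5 u3 = 0 := by rw [Groth.Agent.Helper6.NT.symm' T u5 u3]; exact z_3_5
                              have f15 : T.a u5 u2 = 0 := by rw [Groth.Agent.Helper6.NT.symm' T u5 u2]; exact z_2_5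
                              have f16 : T.a u5 u1 = 0 := by rw [Groth.Agent.Helper6.NT.symm' T u5 u1]; exact z_1_5
                              have f17 : T.a u5 u0 = 0 := by rw [Groth.Agent.Helper6.NT.symm' T u5 u0]; exact z_0_5
                              have f18 : T.a u4 u4 = -4 * T.w u5 := by have := (h2 u4).2; linarith only [this, tw_0_1, tw_1_2, tw_2_3, tw_3_4, tw_4_5]
                              have f19 : T.a u4 u3 = 2 * T.w u5 := by rw [Groth.Agent.Helper6.NT.symm' T u4 u3]; linarith only [tap_3_4, tw_0_1, tw_1_2, tw_2_3, tw_3_4, tw_4_5]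
                              have f20 : T.a u4 u2 = 0 := by rw [Groth.Agent.Helper6.NT.symm' T u4 u2]; exact z_2_4
                              have f21 : T.a u4 u1 = 0 := by rw [Groth.Agent.Helper6.NT.symm' T u4 u1]; exact z_1_4
                              have f22 : T.a u4 u0 = 0 := by rw [Groth.Agent.Helper6.NT.symm' T u4 u0]; exact z_0_4
                              have f23 : T.a u3 u3 = -4 * T.w u5 := by have := (h2 u3).2; linarith only [this, tw_0_1, tw_1_2, tw_2_3, tw_3_4, tw_4_5]
                              have f24 : T.a u3 u2 = 2 * T.w u5 := by rw [Groth.Agent.Helper6.NT.symm' T u3 u2]; linarith only [tap_2_3, tw_0_1, tw_1_2, tw_2_3, tw_3_4, tw_4_5]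
                              have f25 : T.a u3 u1 = 0 := by rw [Groth.Agent.Helper6.NT.symm' T u3 u1]; exact z_1_3
                              have f26 : T.a u3 u0 = 0 := by rw [Groth.Agent.Helper6.NT.symm' T u3 u0]; exact z_0_3
                              have f27 : T.a u2 u2 = -4 * T.w u5 := by have := (h2 u2).2; linarith only [this, tw_0_1, tw_1_2, tw_2_3, tw_3_4, tw_4_5]
                              have f28 : T.a u2 u1 = 2 * T.w u5 := by rw [Groth.Agent.Helper6.NT.symm' T u2 u1]; linarith only [tap_1_2, tw_0_1, tw_1_2, tw_2_3, tw_3_4, tw_4_5]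
                              have f29 : T.a u2 u0 = 0 := by rw [Groth.Agent.Helper6.NT.symm' T u2 u0]; exact z_0_2
                              have f30 : T.a u1 u1 = -4 * T.w u5 := by have := (h2 u1).2; linarith only [this, tw_0_1, tw_1_2, tw_2_3, tw_3_4, tw_4_5]
                              have f31 : T.a u1 u0 = 4 * T.w u5 := by rw [Groth.Agent.Helper6.NT.symm' T u1 u0]; linarith only [tap_0_1, tw_0_1, tw_1_2, tw_2_3, tw_3_4, tw_4_5]
                              have f32 : T.a u0 u0 = -8 * T.w u5 := by have := (h2 u0).2; linarith only [this, tw_0_1, tw_1_2, tw_2_3, tw_3_4, tw_4_5]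
                              have hsig := Groth.Agent.Helper6.NT.inj6 u5 u4 u3 u2 u1 u0 hn_5_4.symm hn_5_3.symm hn_4_3.symm hn_5_2.symm hn_4_2.symm hn_3_2.symm hn_5_1.symm hn_4_1.symm hn_3_1.symm hn_2_1.symm hn_5_0.symm hn_4_0.symm hn_3_0.symm hn_2_0.symm hn_1_0.symm
                              exact ⟨Equiv.ofBijective _ (Finite.injective_iff_bijective.1 hsig), T.m u0, T.w u5, Or.inr (Or.inl ⟨f0, f1, f2, f3, f4, f5, f6, f7, f8, f9, f10, f11, f12, f13, f14, f15, f16, f17, f18, f19, f20, f21, f22, f23, f24, f25, f26, f27, f28, f29, f30, f31, f32⟩)⟩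
                            · -- (4,5) Tp
                              exfalso
                              have key := Groth.Agent.Helper6.NT.negfun3 T h2 u3 u4 u5 (by norm_num) 1 2 1 (by norm_num) (by norm_num)
                              linarith only [key, tap_3_4, taq_3_4, z_3_5, tap_4_5, taq_4_5, T.w_pos u3, T.w_pos u4, T.w_pos u5]
                            · -- (4,5) Tm
                              exfalso
                              have key := Groth.Agent.Helper6.NT.negfun3 T h2 u3 u4 u5 (by norm_num) 1 2 3 (by norm_num) (by norm_num)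
                              linarith only [key, tap_3_4, taq_3_4, z_3_5, tap_4_5, taq_4_5, T.w_pos u3, T.w_pos u4, T.w_pos u5]
                          · push Not at hx
                            have cl_4 := hx
                            clear hx
                            exfalso
                            refine Groth.Agent.Helper6.NT.closed_contra T [u0, u1, u2, u3, u4] (by simp) (by simp) ?_
                            intro i hi j hj
                            simp only [List.mem_cons, List.not_mem_nil, or_false, not_or] at hi hj
                            rcases hi with rfl | rfl | rfl | rfl | rfl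
                            · exact cl_0 j ⟨hj.1, hj.2.1⟩
                            · exact cl_1 j ⟨hj.1, hj.2.1, hj.2.2.1⟩
                            · exact cl_2 j ⟨hj.1, hj.2.1, hj.2.2.1, hj.2.2.2.1⟩
                            · exact cl_3 j ⟨hj.1, hj.2.1, hj.2.2.1, hj.2.2.2.1, hj.2.2.2.2⟩
                            · exact cl_4 j ⟨hj.1, hj.2.1, hj.2.2.1, hj.2.2.2.1, hj.2.2.2.2⟩
                      · -- (3,4) Dp
                        exfalso
                        have key := Groth.Agent.Helper6.NT.negfun5 T h2 u0 u1 u2 u3 u4 (by norm_num) 1 2 2 2 1 (by norm_num) (by norm_num)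
                        linarith only [key, tap_0_1, taq_0_1, z_0_2, z_0_3, z_0_4, tap_1_2, taq_1_2, z_1_3, z_1_4, tap_2_3, taq_2_3, z_2_4, tap_3_4, taq_3_4, T.w_pos u0, T.w_pos u1, T.w_pos u2, T.w_pos u3, T.w_pos u4]
                      · -- (3,4) Dm
                        exfalso
                        have key := Groth.Agent.Helper6.NT.negfun5 T h2 u0 u1 u2 u3 u4 (by norm_num) 1 2 2 2 2 (by norm_num) (by norm_num)
                        linarith only [key, tap_0_1, taq_0_1, z_0_2, z_0_3, z_0_4, tap_1_2, taq_1_2, z_1_3, z_1_4, tap_2_3, taq_2_3, z_2_4, tap_3_4, taq_3_4, T.w_pos u0, T.w_pos u1, T.w_pos u2, T.w_pos u3, T.w_pos u4]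
                      · -- (3,4) Tp
                        exfalso
                        have key := Groth.Agent.Helper6.NT.negfun3 T h2 u2 u3 u4 (by norm_num) 1 2 1 (by norm_num) (by norm_num)
                        linarith only [key, tap_2_3, taq_2_3, z_2_4, tap_3_4, taq_3_4, T.w_pos u2, T.w_pos u3, T.w_pos u4]
                      · -- (3,4) Tm
                        exfalso
                        have key := Groth.Agent.Helper6.NT.negfun3 T h2 u2 u3 u4 (by norm_num) 1 2 3 (by norm_num) (by norm_num)
                        linarith only [key, tap_2_3, taq_2_3, z_2_4, tap_3_4, taq_3_4, T.w_pos u2, T.w_pos u3, T.w_pos u4]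
                    · push Not at hx
                      have cl_3 := hx
                      clear hx
                      exfalso
                      refine Groth.Agent.Helper6.NT.closed_contra T [u0, u1, u2, u3] (by simp) (by simp) ?_
                      intro i hi j hj
                      simp only [List.mem_cons, List.not_mem_nil, or_false, not_or] at hi hj
                      rcases hi with rfl | rfl | rfl | rfl
                      · exact cl_0 j ⟨hj.1, hj.2.1⟩
                      · exact cl_1 j ⟨hj.1, hj.2.1, hj.2.2.1⟩
                      · exact cl_2 j ⟨hj.1, hj.2.1, hj.2.2.1, hj.2.2.2⟩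
                      · exact cl_3 j ⟨hj.1, hj.2.1, hj.2.2.1, hj.2.2.2⟩
                · -- (2,3) Dp
                  exfalso
                  have key := Groth.Agent.Helper6.NT.negfun4 T h2 u0 u1 u2 u3 (by norm_num) 1 2 2 1 (by norm_num) (by norm_num)
                  linarith only [key, tap_0_1, taq_0_1, z_0_2, z_0_3, tap_1_2, taq_1_2, z_1_3, tap_2_3, taq_2_3, T.w_pos u0, T.w_pos u1, T.w_pos u2, T.w_pos u3]
                · -- (2,3) Dm
                  exfalso
                  have key := Groth.Agent.Helper6.NT.negfun4 T h2 u0 u1 u2 u3 (by norm_num) 1 2 2 2 (by norm_num) (by norm_num)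
                  linarith only [key, tap_0_1, taq_0_1, z_0_2, z_0_3, tap_1_2, taq_1_2, z_1_3, tap_2_3, taq_2_3, T.w_pos u0, T.w_pos u1, T.w_pos u2, T.w_pos u3]
                · -- (2,3) Tp
                  exfalso
                  have key := Groth.Agent.Helper6.NT.negfun3 T h2 u1 u2 u3 (by norm_num) 1 2 1 (by norm_num) (by norm_num)
                  linarith only [key, tap_1_2, taq_1_2, z_1_3, tap_2_3, taq_2_3, T.w_pos u1, T.w_pos u2, T.w_pos u3]
                · -- (2,3) Tm
                  exfalso
                  have key := Groth.Agent.Helper6.NT.negfun3 T h2 u1 u2 u3 (by norm_num) 1 2 3 (by norm_num) (by norm_num)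
                  linarith only [key, tap_1_2, taq_1_2, z_1_3, tap_2_3, taq_2_3, T.w_pos u1, T.w_pos u2, T.w_pos u3]
              · push Not at hx
                have cl_2 := hx
                clear hx
                exfalso
                refine Groth.Agent.Helper6.NT.closed_contra T [u0, u1, u2] (by simp) (by simp) ?_
                intro i hi j hj
                simp only [List.mem_cons, List.not_mem_nil, or_false, not_or] at hi hj
                rcases hi with rfl | rfl | rfl
                · exact cl_0 j ⟨hj.1, hj.2.1⟩
                · exact cl_1 j ⟨hj.1, hj.2.1, hj.2.2⟩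
                · exact cl_2 j ⟨hj.1, hj.2.1, hj.2.2⟩
          · -- (1,2) Dp
            exfalso
            have key := Groth.Agent.Helper6.NT.negfun3 T h2 u0 u1 u2 (by norm_num) 1 2 1 (by norm_num) (by norm_num)
            linarith only [key, tap_0_1, taq_0_1, z_0_2, tap_1_2, taq_1_2, T.w_pos u0, T.w_pos u1, T.w_pos u2]
          · -- (1,2) Dm
            exfalso
            have key := Groth.Agent.Helper6.NT.negfun3 T h2 u0 u1 u2 (by norm_num) 1 2 2 (by norm_num) (by norm_num)
            linarith only [key, tap_0_1, taq_0_1, z_0_2, tap_1_2, taq_1_2, T.w_pos u0, T.w_pos u1, T.w_pos u2]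
          · -- (1,2) Tp
            exfalso
            have key := Groth.Agent.Helper6.NT.negfun3 T h2 u0 u1 u2 (by norm_num) 1 2 1 (by norm_num) (by norm_num)
            linarith only [key, tap_0_1, taq_0_1, z_0_2, tap_1_2, taq_1_2, T.w_pos u0, T.w_pos u1, T.w_pos u2]
          · -- (1,2) Tm
            exfalso
            have key := Groth.Agent.Helper6.NT.negfun3 T h2 u0 u1 u2 (by norm_num) 1 2 3 (by norm_num) (by norm_num)
            linarith only [key, tap_0_1, taq_0_1, z_0_2, tap_1_2, taq_1_2, T.w_pos u0, T.w_pos u1, T.w_pos u2]
        · push Not at hx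
          have cl_1 := hx
          clear hx
          exfalso
          refine Groth.Agent.Helper6.NT.closed_contra T [u0, u1] (by simp) (by simp) ?_
          intro i hi j hj
          simp only [List.mem_cons, List.not_mem_nil, or_false, not_or] at hi hj
          rcases hi with rfl | rfl
          · exact cl_0 j ⟨hj.1, hj.2⟩
          · exact cl_1 j ⟨hj.1, hj.2⟩
    · -- (0,1) Tp
      by_cases hx : ∃ j, (j ≠ u0 ∧ j ≠ u1) ∧ T.a u0 j ≠ 0
      · obtain ⟨u2, ⟨hn_2_0, hn_2_1⟩, e_0_2⟩ := hx
        rcases Groth.Agent.Helper6.NT.edge5 T h2 (by norm_num) u0 u2 hn_2_0.symm e_0_2 with ⟨tw_0_2, tap_0_2, taq_0_2⟩ | ⟨tw_0_2, tap_0_2, taq_0_2⟩ | ⟨tw_0_2, tap_0_2, taq_0_2⟩ | ⟨tw_0_2, tap_0_2, taq_0_2⟩ | ⟨tw_0_2, tap_0_2, taq_0_2⟩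
        · -- (0,2) S
          exfalso
          have key := Groth.Agent.Helper6.NT.negfun3 T h2 u0 u1 u2 (by norm_num) 2 1 1 (by norm_num) (by norm_num)
          linarith only [key, tap_0_1, taq_0_1, tap_0_2, taq_0_2, T.offDiag_nonneg u1 u2 hn_2_1.symm, T.w_pos u0, T.w_pos u1, T.w_pos u2]
        · -- (0,2) Dp
          exfalso
          have key := Groth.Agent.Helper6.NT.negfun3 T h2 u0 u1 u2 (by norm_num) 2 1 1 (by norm_num) (by norm_num)
          linarith only [key, tap_0_1, taq_0_1, tap_0_2, taq_0_2, T.offDiag_nonneg u1 u2 hn_2_1.symm, T.w_pos u0, T.w_pos u1, T.w_pos u2]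
        · -- (0,2) Dm
          exfalso
          have key := Groth.Agent.Helper6.NT.negfun3 T h2 u0 u1 u2 (by norm_num) 2 1 2 (by norm_num) (by norm_num)
          linarith only [key, tap_0_1, taq_0_1, tap_0_2, taq_0_2, T.offDiag_nonneg u1 u2 hn_2_1.symm, T.w_pos u0, T.w_pos u1, T.w_pos u2]
        · -- (0,2) Tp
          exfalso
          have key := Groth.Agent.Helper6.NT.negfun3 T h2 u0 u1 u2 (by norm_num) 2 1 1 (by norm_num) (by norm_num)
          linarith only [key, tap_0_1, taq_0_1, tap_0_2, taq_0_2, T.offDiag_nonneg u1 u2 hn_2_1.symm, T.w_pos u0, T.w_pos u1, T.w_pos u2]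
        · -- (0,2) Tm
          exfalso
          have key := Groth.Agent.Helper6.NT.negfun3 T h2 u0 u1 u2 (by norm_num) 2 1 3 (by norm_num) (by norm_num)
          linarith only [key, tap_0_1, taq_0_1, tap_0_2, taq_0_2, T.offDiag_nonneg u1 u2 hn_2_1.symm, T.w_pos u0, T.w_pos u1, T.w_pos u2]
      · push Not at hx
        have cl_0 := hx
        clear hx
        by_cases hx : ∃ j, (j ≠ u0 ∧ j ≠ u1) ∧ T.a u1 j ≠ 0
        · obtain ⟨u2, ⟨hn_2_0, hn_2_1⟩, e_1_2⟩ := hx
          have z_0_2 : T.a u0 u2 = 0 := cl_0 u2 ⟨hn_2_0, hn_2_1⟩
          rcases Groth.Agent.Helper6.NT.edge5 T h2 (by norm_num) u1 u2 hn_2_1.symm e_1_2 with ⟨tw_1_2, tap_1_2, taq_1_2⟩ | ⟨tw_1_2, tap_1_2, taq_1_2⟩ | ⟨tw_1_2, tap_1_2, taq_1_2⟩ | ⟨tw_1_2, tap_1_2, taq_1_2⟩ | ⟨tw_1_2, tap_1_2, taq_1_2⟩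
          · -- (1,2) S
            exfalso
            have key := Groth.Agent.Helper6.NT.negfun3 T h2 u0 u1 u2 (by norm_num) 3 2 1 (by norm_num) (by norm_num)
            linarith only [key, tap_0_1, taq_0_1, z_0_2, tap_1_2, taq_1_2, T.w_pos u0, T.w_pos u1, T.w_pos u2]
          · -- (1,2) Dp
            exfalso
            have key := Groth.Agent.Helper6.NT.negfun3 T h2 u0 u1 u2 (by norm_num) 3 2 1 (by norm_num) (by norm_num)
            linarith only [key, tap_0_1, taq_0_1, z_0_2, tap_1_2, taq_1_2, T.w_pos u0, T.w_pos u1, T.w_pos u2]
          · -- (1,2) Dm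
            exfalso
            have key := Groth.Agent.Helper6.NT.negfun3 T h2 u0 u1 u2 (by norm_num) 3 2 2 (by norm_num) (by norm_num)
            linarith only [key, tap_0_1, taq_0_1, z_0_2, tap_1_2, taq_1_2, T.w_pos u0, T.w_pos u1, T.w_pos u2]
          · -- (1,2) Tp
            exfalso
            have key := Groth.Agent.Helper6.NT.negfun3 T h2 u0 u1 u2 (by norm_num) 3 2 1 (by norm_num) (by norm_num)
            linarith only [key, tap_0_1, taq_0_1, z_0_2, tap_1_2, taq_1_2, T.w_pos u0, T.w_pos u1, T.w_pos u2]
          · -- (1,2) Tm
            exfalso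
            have key := Groth.Agent.Helper6.NT.negfun3 T h2 u0 u1 u2 (by norm_num) 1 1 1 (by norm_num) (by norm_num)
            linarith only [key, tap_0_1, taq_0_1, z_0_2, tap_1_2, taq_1_2, T.w_pos u0, T.w_pos u1, T.w_pos u2]
        · push Not at hx
          have cl_1 := hx
          clear hx
          exfalso
          refine Groth.Agent.Helper6.NT.closed_contra T [u0, u1] (by simp) (by simp) ?_
          intro i hi j hj
          simp only [List.mem_cons, List.not_mem_nil, or_false, not_or] at hi hj
          rcases hi with rfl | rfl
          · exact cl_0 j ⟨hj.1, hj.2⟩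
          · exact cl_1 j ⟨hj.1, hj.2⟩
    · -- (0,1) Tm
      by_cases hx : ∃ j, (j ≠ u0 ∧ j ≠ u1) ∧ T.a u0 j ≠ 0
      · obtain ⟨u2, ⟨hn_2_0, hn_2_1⟩, e_0_2⟩ := hx
        rcases Groth.Agent.Helper6.NT.edge5 T h2 (by norm_num) u0 u2 hn_2_0.symm e_0_2 with ⟨tw_0_2, tap_0_2, taq_0_2⟩ | ⟨tw_0_2, tap_0_2, taq_0_2⟩ | ⟨tw_0_2, tap_0_2, taq_0_2⟩ | ⟨tw_0_2, tap_0_2, taq_0_2⟩ | ⟨tw_0_2, tap_0_2, taq_0_2⟩
        · -- (0,2) S
          exfalso
          have key := Groth.Agent.Helper6.NT.negfun3 T h2 u0 u1 u2 (by norm_num) 2 3 1 (by norm_num) (by norm_num)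
          linarith only [key, tap_0_1, taq_0_1, tap_0_2, taq_0_2, T.offDiag_nonneg u1 u2 hn_2_1.symm, T.w_pos u0, T.w_pos u1, T.w_pos u2]
        · -- (0,2) Dp
          exfalso
          have key := Groth.Agent.Helper6.NT.negfun3 T h2 u0 u1 u2 (by norm_num) 2 3 1 (by norm_num) (by norm_num)
          linarith only [key, tap_0_1, taq_0_1, tap_0_2, taq_0_2, T.offDiag_nonneg u1 u2 hn_2_1.symm, T.w_pos u0, T.w_pos u1, T.w_pos u2]
        · -- (0,2) Dm
          exfalso
          have key := Groth.Agent.Helper6.NT.negfun3 T h2 u0 u1 u2 (by norm_num) 2 3 2 (by norm_num) (by norm_num)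
          linarith only [key, tap_0_1, taq_0_1, tap_0_2, taq_0_2, T.offDiag_nonneg u1 u2 hn_2_1.symm, T.w_pos u0, T.w_pos u1, T.w_pos u2]
        · -- (0,2) Tp
          exfalso
          have key := Groth.Agent.Helper6.NT.negfun3 T h2 u0 u1 u2 (by norm_num) 2 3 1 (by norm_num) (by norm_num)
          linarith only [key, tap_0_1, taq_0_1, tap_0_2, taq_0_2, T.offDiag_nonneg u1 u2 hn_2_1.symm, T.w_pos u0, T.w_pos u1, T.w_pos u2]
        · -- (0,2) Tm
          exfalso
          have key := Groth.Agent.Helper6.NT.negfun3 T h2 u0 u1 u2 (by norm_num) 1 1 1 (by norm_num) (by norm_num)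
          linarith only [key, tap_0_1, taq_0_1, tap_0_2, taq_0_2, T.offDiag_nonneg u1 u2 hn_2_1.symm, T.w_pos u0, T.w_pos u1, T.w_pos u2]
      · push Not at hx
        have cl_0 := hx
        clear hx
        by_cases hx : ∃ j, (j ≠ u0 ∧ j ≠ u1) ∧ T.a u1 j ≠ 0
        · obtain ⟨u2, ⟨hn_2_0, hn_2_1⟩, e_1_2⟩ := hx
          have z_0_2 : T.a u0 u2 = 0 := cl_0 u2 ⟨hn_2_0, hn_2_1⟩
          rcases Groth.Agent.Helper6.NT.edge5 T h2 (by norm_num) u1 u2 hn_2_1.symm e_1_2 with ⟨tw_1_2, tap_1_2, taq_1_2⟩ | ⟨tw_1_2, tap_1_2, taq_1_2⟩ | ⟨tw_1_2, tap_1_2, taq_1_2⟩ | ⟨tw_1_2, tap_1_2, taq_1_2⟩ | ⟨tw_1_2, tap_1_2, taq_1_2⟩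
          · -- (1,2) S
            exfalso
            have key := Groth.Agent.Helper6.NT.negfun3 T h2 u0 u1 u2 (by norm_num) 1 2 1 (by norm_num) (by norm_num)
            linarith only [key, tap_0_1, taq_0_1, z_0_2, tap_1_2, taq_1_2, T.w_pos u0, T.w_pos u1, T.w_pos u2]
          · -- (1,2) Dp
            exfalso
            have key := Groth.Agent.Helper6.NT.negfun3 T h2 u0 u1 u2 (by norm_num) 1 2 1 (by norm_num) (by norm_num)
            linarith only [key, tap_0_1, taq_0_1, z_0_2, tap_1_2, taq_1_2, T.w_pos u0, T.w_pos u1, T.w_pos u2]
          · -- (1,2) Dm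
            exfalso
            have key := Groth.Agent.Helper6.NT.negfun3 T h2 u0 u1 u2 (by norm_num) 1 2 2 (by norm_num) (by norm_num)
            linarith only [key, tap_0_1, taq_0_1, z_0_2, tap_1_2, taq_1_2, T.w_pos u0, T.w_pos u1, T.w_pos u2]
          · -- (1,2) Tp
            exfalso
            have key := Groth.Agent.Helper6.NT.negfun3 T h2 u0 u1 u2 (by norm_num) 1 2 1 (by norm_num) (by norm_num)
            linarith only [key, tap_0_1, taq_0_1, z_0_2, tap_1_2, taq_1_2, T.w_pos u0, T.w_pos u1, T.w_pos u2]
          · -- (1,2) Tm
            exfalso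
            have key := Groth.Agent.Helper6.NT.negfun3 T h2 u0 u1 u2 (by norm_num) 1 2 3 (by norm_num) (by norm_num)
            linarith only [key, tap_0_1, taq_0_1, z_0_2, tap_1_2, taq_1_2, T.w_pos u0, T.w_pos u1, T.w_pos u2]
        · push Not at hx
          have cl_1 := hx
          clear hx
          exfalso
          refine Groth.Agent.Helper6.NT.closed_contra T [u0, u1] (by simp) (by simp) ?_
          intro i hi j hj
          simp only [List.mem_cons, List.not_mem_nil, or_false, not_or] at hi hj
          rcases hi with rfl | rfl
          · exact cl_0 j ⟨hj.1, hj.2⟩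
          · exact cl_1 j ⟨hj.1, hj.2⟩
  · push Not at hx
    have cl_0 := hx
    clear hx
    exfalso
    refine Groth.Agent.Helper6.NT.closed_contra T [u0] (by simp) (by simp) ?_
    intro i hi j hj
    simp only [List.mem_cons, List.not_mem_nil, or_false, not_or] at hi hj
    subst hi
    · exact cl_0 j hj

end Groth.Agent.S7367
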