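import Groth.Statements.S7368
import Groth.Agent.Lib.Helper6.NumType16
import Groth.Agent.Lib.Helper6.G1.N7P2
import Groth.Agent.Lib.Helper6.G1.N7P3
import Groth.Agent.Lib.Helper6.G1.N7P4

set_option autoImplicit false
open Finset
open Models Models.NumericalType

namespace Groth.Agent.S7368

/-- Genus one classification: case n = 7: let T be a minimal numerical type of genus 1 on 7 indices.
Then all g_i = 0 and, for some permutation σ of the indices and some integers m, w, the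
multiplicities, weights and intersection matrix (m_{σ(i)}, w_{σ(i)}, a_{σ(i)σ(j)}) are those of one
of the following 8 types: [cycle] m = (m, m, m, m, m, m, m), w = (w, w, w, w, w, w, w), a = (-2 * w
w 0 0 0 0 w / w -2 * w w 0 0 0 0 / 0 w -2 * w w 0 0 0 / 0 0 w -2 * w w 0 0 / 0 0 0 w -2 * w w 0 / 0
0 0 0 w -2 * w w / w 0 0 0 0 w -2 * w); [up chain equal up] m = (2 * m, 2 * m, 2 * m, 2 * m, 2 * m,
2 * m, m), w = (w, 2 * w, 2 * w, 2 * w, 2 * w, 2 * w, 4 * w), a = (-2 * w 2 * w 0 0 0 0 0 / 2 * w -4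
* w 2 * w 0 0 0 0 / 0 2 * w -4 * w 2 * w 0 0 0 / 0 0 2 * w -4 * w 2 * w 0 0 / 0 0 0 2 * w -4 * w 2 *
w 0 / 0 0 0 0 2 * w -4 * w 4 * w / 0 0 0 0 0 4 * w -8 * w); [up chain equal down] m = (m, m, m, m,
m, m, m), w = (w, 2 * w, 2 * w, 2 * w, 2 * w, 2 * w, w), a = (-2 * w 2 * w 0 0 0 0 0 / 2 * w -4 * w
2 * w 0 0 0 0 / 0 2 * w -4 * w 2 * w 0 0 0 / 0 0 2 * w -4 * w 2 * w 0 0 / 0 0 0 2 * w -4 * w 2 * w 0
/ 0 0 0 0 2 * w -4 * w 2 * w / 0 0 0 0 0 2 * w -2 * w); [down chain equal up] m = (m, 2 * m, 2 * m,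
2 * m, 2 * m, 2 * m, m), w = (2 * w, w, w, w, w, w, 2 * w), a = (-4 * w 2 * w 0 0 0 0 0 / 2 * w -2 *
w w 0 0 0 0 / 0 w -2 * w w 0 0 0 / 0 0 w -2 * w w 0 0 / 0 0 0 w -2 * w w 0 / 0 0 0 0 w -2 * w 2 * w
/ 0 0 0 0 0 2 * w -4 * w); [D extended up] m = (m, 2 * m, 2 * m, 2 * m, 2 * m, m, m), w = (2 * w, w,
w, w, w, w, w), a = (-4 * w 2 * w 0 0 0 0 0 / 2 * w -2 * w w 0 0 0 0 / 0 w -2 * w w 0 0 0 / 0 0 w -2
* w w 0 0 / 0 0 0 w -2 * w w w / 0 0 0 0 w -2 * w 0 / 0 0 0 0 w 0 -2 * w); [D extended down] m = (2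
* m, 2 * m, 2 * m, 2 * m, 2 * m, m, m), w = (w, 2 * w, 2 * w, 2 * w, 2 * w, 2 * w, 2 * w), a = (-2 *
w 2 * w 0 0 0 0 0 / 2 * w -4 * w 2 * w 0 0 0 0 / 0 2 * w -4 * w 2 * w 0 0 0 / 0 0 2 * w -4 * w 2 * w
0 0 / 0 0 0 2 * w -4 * w 2 * w 2 * w / 0 0 0 0 2 * w -4 * w 0 / 0 0 0 0 2 * w 0 -4 * w); [double
triple] m = (m, m, 2 * m, 2 * m, 2 * m, m, m), w = (w, w, w, w, w, w, w), a = (-2 * w 0 w 0 0 0 0 /
0 -2 * w w 0 0 0 0 / w w -2 * w w 0 0 0 / 0 0 w -2 * w w 0 0 / 0 0 0 w -2 * w w w / 0 0 0 0 w -2 * w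
0 / 0 0 0 0 w 0 -2 * w); [E6 completed] m = (m, 2 * m, 3 * m, m, 2 * m, m, 2 * m), w = (w, w, w, w,
w, w, w), a = (-2 * w w 0 0 0 0 0 / w -2 * w w 0 0 0 0 / 0 w -2 * w 0 w 0 w / 0 0 0 -2 * w w 0 0 / 0
0 w w -2 * w 0 0 / 0 0 0 0 0 -2 * w w / 0 0 w 0 0 w -2 * w). Only the classification direction is
stated. (In the family with weights (w, 2w, …, 2w, w) the consecutive intersection numbers are 2w,
as divisibility by the weights forces; the published list prints w there, and omits m_{n-2} = 2m in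
the two D-type families.) -/
theorem result (T : Models.NumericalType 7) (hmin : T.IsMinimal) (hg : T.genus = 1) :
    (∀ i, T.g i = 0) ∧ ∃ (σ : Equiv.Perm (Fin 7)) (m w : ℤ),
      ((T.m (σ 0) = m ∧ T.m (σ 1) = m ∧ T.m (σ 2) = m ∧ T.m (σ 3) = m ∧ T.m (σ 4) = m ∧ T.m (σ 5) = m ∧ T.m (σ 6) = m ∧ T.w (σ 0) = w ∧ T.w (σ 1) = w ∧ T.w (σ 2) = w ∧ T.w (σ 3) = w ∧ T.w (σ 4) = w ∧ T.w (σ 5) = w ∧ T.w (σ 6) = w ∧ T.a (σ 0) (σ 0) = -2 * w ∧ T.a (σ 0) (σ 1) = w ∧ T.a (σ 0) (σ 2) = 0 ∧ T.a (σ 0) (σ 3) = 0 ∧ T.a (σ 0) (σ 4) = 0 ∧ T.a (σ 0) (σ 5) = 0 ∧ T.a (σ 0) (σ 6) = w ∧ T.a (σ 1) (σ 1) = -2 * w ∧ T.a (σ 1) (σ 2) = w ∧ T.a (σ 1) (σ 3) = 0 ∧ T.a (σ 1) (σ 4) = 0 ∧ T.a (σ 1) (σ 5) = 0 ∧ T.a (σ 1) (σ 6) = 0 ∧ T.a (σ 2) (σ 2) = -2 * w ∧ T.a (σ 2) (σ 3) = w ∧ T.a (σ 2) (σ 4) = 0 ∧ T.a (σ 2) (σ 5) = 0 ∧ T.a (σ 2) (σ 6) = 0 ∧ T.a (σ 3) (σ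 3) = -2 * w ∧ T.a (σ 3) (σ 4) = w ∧ T.a (σ 3) (σ 5) = 0 ∧ T.a (σ 3) (σ 6) = 0 ∧ T.a (σ 4) (σ 4) = -2 * w ∧ T.a (σ 4) (σ 5) = w ∧ T.a (σ 4) (σ 6) = 0 ∧ T.a (σ 5) (σ 5) = -2 * w ∧ T.a (σ 5) (σ 6) = w ∧ T.a (σ 6) (σ 6) = -2 * w) ∨
      (T.m (σ 0) = 2 * m ∧ T.m (σ 1) = 2 * m ∧ T.m (σ 2) = 2 * m ∧ T.m (σ 3) = 2 * m ∧ T.m (σ 4) = 2 * m ∧ T.m (σ 5) = 2 * m ∧ T.m (σ 6) = m ∧ T.w (σ 0) = w ∧ T.w (σ 1) = 2 * w ∧ T.w (σ 2) = 2 * w ∧ T.w (σ 3) = 2 * w ∧ T.w (σ 4) = 2 * w ∧ T.w (σ 5) = 2 * w ∧ T.w (σ 6) = 4 * w ∧ T.a (σ 0) (σ 0) = -2 * w ∧ T.a (σ 0) (σ 1) = 2 * w ∧ T.a (σ 0) (σ 2) = 0 ∧ T.a (σ 0) (σ 3) = 0 ∧ T.a (σ 0) (σ 4) = 0 ∧ T.a (σ 0) (σ 5) = 0 ∧ T.a (σ 0) (σ 6) = 0 ∧ T.a (σ 1) (σ 1) = -4 * w ∧ T.a (σ 1) (σ 2) = 2 * w ∧ T.a (σ 1) (σ 3) = 0 ∧ T.a (σ 1) (σ 4) = 0 ∧ T.a (σ 1) (σ 5) = 0 ∧ T.a (σ 1) (σ 6) = 0 ∧ T.a (σ 2) (σ 2) = -4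 * w ∧ T.a (σ 2) (σ 3) = 2 * w ∧ T.a (σ 2) (σ 4) = 0 ∧ T.a (σ 2) (σ 5) = 0 ∧ T.a (σ 2) (σ 6) = 0 ∧ T.a (σ 3) (σ 3) = -4 * w ∧ T.a (σ 3) (σ 4) = 2 * w ∧ T.a (σ 3) (σ 5) = 0 ∧ T.a (σ 3) (σ 6) = 0 ∧ T.a (σ 4) (σ 4) = -4 * w ∧ T.a (σ 4) (σ 5) = 2 * w ∧ T.a (σ 4) (σ 6) = 0 ∧ T.a (σ 5) (σ 5) = -4 * w ∧ T.a (σ 5) (σ 6) = 4 * w ∧ T.a (σ 6) (σ 6) = -8 * w) ∨
      (T.m (σ 0) = m ∧ T.m (σ 1) = m ∧ T.m (σ 2) = m ∧ T.m (σ 3) = m ∧ T.m (σ 4) = m ∧ T.m (σ 5) = m ∧ T.m (σ 6) = m ∧ T.w (σ 0) = w ∧ T.w (σ 1) = 2 * w ∧ T.w (σ 2) = 2 * w ∧ T.w (σ 3) = 2 * w ∧ T.w (σ 4) = 2 * w ∧ T.w (σ 5) = 2 * w ∧ T.w (σ 6) = w ∧ T.a (σ 0) (σ 0) = -2 * w ∧ T.a (σ 0) (σ 1) = 2 * w ∧ T.a (σ 0) (σ 2) = 0 ∧ T.a (σ 0) (σ 3) = 0 ∧ T.a (σ 0) (σ 4) = 0 ∧ T.a (σ 0) (σ 5) = 0 ∧ T.a (σ 0) (σ 6) = 0 ∧ T.a (σ 1) (σ 1) = -4 * w ∧ T.a (σ 1) (σ 2) = 2 * w ∧ T.a (σ 1) (σ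 3) = 0 ∧ T.a (σ 1) (σ 4) = 0 ∧ T.a (σ 1) (σ 5) = 0 ∧ T.a (σ 1) (σ 6) = 0 ∧ T.a (σ 2) (σ 2) = -4 * w ∧ T.a (σ 2) (σ 3) = 2 * w ∧ T.a (σ 2) (σ 4) = 0 ∧ T.a (σ 2) (σ 5) = 0 ∧ T.a (σ 2) (σ 6) = 0 ∧ T.a (σ 3) (σ 3) = -4 * w ∧ T.a (σ 3) (σ 4) = 2 * w ∧ T.a (σ 3) (σ 5) = 0 ∧ T.a (σ 3) (σ 6) = 0 ∧ T.a (σ 4) (σ 4) = -4 * w ∧ T.a (σ 4) (σ 5) = 2 * w ∧ T.a (σ 4) (σ 6) = 0 ∧ T.a (σ 5) (σ 5) = -4 * w ∧ T.a (σ 5) (σ 6) = 2 * w ∧ T.a (σ 6) (σ 6) = -2 * w) ∨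
      (T.m (σ 0) = m ∧ T.m (σ 1) = 2 * m ∧ T.m (σ 2) = 2 * m ∧ T.m (σ 3) = 2 * m ∧ T.m (σ 4) = 2 * m ∧ T.m (σ 5) = 2 * m ∧ T.m (σ 6) = m ∧ T.w (σ 0) = 2 * w ∧ T.w (σ 1) = w ∧ T.w (σ 2) = w ∧ T.w (σ 3) = w ∧ T.w (σ 4) = w ∧ T.w (σ 5) = w ∧ T.w (σ 6) = 2 * w ∧ T.a (σ 0) (σ 0) = -4 * w ∧ T.a (σ 0) (σ 1) = 2 * w ∧ T.a (σ 0) (σ 2) = 0 ∧ T.a (σ 0) (σ 3) = 0 ∧ T.a (σ 0) (σ 4) = 0 ∧ T.a (σ 0) (σ 5) = 0 ∧ T.a (σ 0) (σ 6) = 0 ∧ T.a (σ 1) (σ 1) = -2 * w ∧ T.a (σ 1) (σ 2) = w ∧ T.a (σ 1) (σ 3) = 0 ∧ T.a (σ 1) (σ 4) = 0 ∧ T.a (σ 1) (σ 5) = 0 ∧ T.a (σ 1) (σ 6) = 0 ∧ T.a (σ 2) (σ 2) = -2 * w ∧ T.a (σ 2) (σ 3) = w ∧ T.a (σ 2) (σ 4) = 0 ∧ T.a (σ 2) (σ 5) = 0 ∧ T.a (σ 2) (σ 6) = 0 ∧ T.a (σ 3) (σ 3) = -2 * w ∧ T.a (σ 3) (σ 4) = w ∧ T.a (σ 3) (σ 5) = 0 ∧ T.a (σ 3) (σ 6) = 0 ∧ T.a (σ 4) (σ 4) = -2 * w ∧ T.a (σ 4) (σ 5) = w ∧ T.a (σ 4) (σ 6)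 = 0 ∧ T.a (σ 5) (σ 5) = -2 * w ∧ T.a (σ 5) (σ 6) = 2 * w ∧ T.a (σ 6) (σ 6) = -4 * w) ∨
      (T.m (σ 0) = m ∧ T.m (σ 1) = 2 * m ∧ T.m (σ 2) = 2 * m ∧ T.m (σ 3) = 2 * m ∧ T.m (σ 4) = 2 * m ∧ T.m (σ 5) = m ∧ T.m (σ 6) = m ∧ T.w (σ 0) = 2 * w ∧ T.w (σ 1) = w ∧ T.w (σ 2) = w ∧ T.w (σ 3) = w ∧ T.w (σ 4) = w ∧ T.w (σ 5) = w ∧ T.w (σ 6) = w ∧ T.a (σ 0) (σ 0) = -4 * w ∧ T.a (σ 0) (σ 1) = 2 * w ∧ T.a (σ 0) (σ 2) = 0 ∧ T.a (σ 0) (σ 3) = 0 ∧ T.a (σ 0) (σ 4) = 0 ∧ T.a (σ 0) (σ 5) = 0 ∧ T.a (σ 0) (σ 6) = 0 ∧ T.a (σ 1) (σ 1) = -2 * w ∧ T.a (σ 1) (σ 2) = w ∧ T.a (σ 1) (σ 3) = 0 ∧ T.a (σ 1) (σ 4) = 0 ∧ T.a (σ 1) (σ 5) = 0 ∧ T.a (σ 1) (σ 6) = 0 ∧ T.a (σ 2) (σ 2) = -2 * w ∧ T.a (σ 2) (σ 3) = w ∧ T.a (σ 2) (σ 4) = 0 ∧ T.a (σ 2) (σ 5) = 0 ∧ T.a (σ 2) (σ 6) = 0 ∧ T.a (σ 3) (σ 3) = -2 * w ∧ T.a (σ 3) (σ 4) = w ∧ T.a (σ 3) (σ 5) = 0 ∧ T.a (σ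 3) (σ 6) = 0 ∧ T.a (σ 4) (σ 4) = -2 * w ∧ T.a (σ 4) (σ 5) = w ∧ T.a (σ 4) (σ 6) = w ∧ T.a (σ 5) (σ 5) = -2 * w ∧ T.a (σ 5) (σ 6) = 0 ∧ T.a (σ 6) (σ 6) = -2 * w) ∨
      (T.m (σ 0) = 2 * m ∧ T.m (σ 1) = 2 * m ∧ T.m (σ 2) = 2 * m ∧ T.m (σ 3) = 2 * m ∧ T.m (σ 4) = 2 * m ∧ T.m (σ 5) = m ∧ T.m (σ 6) = m ∧ T.w (σ 0) = w ∧ T.w (σ 1) = 2 * w ∧ T.w (σ 2) = 2 * w ∧ T.w (σ 3) = 2 * w ∧ T.w (σ 4) = 2 * w ∧ T.w (σ 5) = 2 * w ∧ T.w (σ 6) = 2 * w ∧ T.a (σ 0) (σ 0) = -2 * w ∧ T.a (σ 0) (σ 1) = 2 * w ∧ T.a (σ 0) (σ 2) = 0 ∧ T.a (σ 0) (σ 3) = 0 ∧ T.a (σ 0) (σ 4) = 0 ∧ T.a (σ 0) (σ 5) = 0 ∧ T.a (σ 0) (σ 6) = 0 ∧ T.a (σ 1) (σ 1) = -4 * w ∧ T.a (σ 1) (σ 2) = 2 * w ∧ T.a (σ 1) (σ 3) = 0 ∧ T.a (σ 1) (σ 4) = 0 ∧ T.a (σ 1) (σ 5) = 0 ∧ T.a (σ 1) (σ 6) = 0 ∧ T.a (σ 2) (σ 2) = -4 * w ∧ T.a (σ 2) (σ 3) = 2 * w ∧ T.a (σ 2) (σ 4) = 0 ∧ T.a (σ 2) (σ 5)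 = 0 ∧ T.a (σ 2) (σ 6) = 0 ∧ T.a (σ 3) (σ 3) = -4 * w ∧ T.a (σ 3) (σ 4) = 2 * w ∧ T.a (σ 3) (σ 5) = 0 ∧ T.a (σ 3) (σ 6) = 0 ∧ T.a (σ 4) (σ 4) = -4 * w ∧ T.a (σ 4) (σ 5) = 2 * w ∧ T.a (σ 4) (σ 6) = 2 * w ∧ T.a (σ 5) (σ 5) = -4 * w ∧ T.a (σ 5) (σ 6) = 0 ∧ T.a (σ 6) (σ 6) = -4 * w) ∨
      (T.m (σ 0) = m ∧ T.m (σ 1) = m ∧ T.m (σ 2) = 2 * m ∧ T.m (σ 3) = 2 * m ∧ T.m (σ 4) = 2 * m ∧ T.m (σ 5) = m ∧ T.m (σ 6) = m ∧ T.w (σ 0) = w ∧ T.w (σ 1) = w ∧ T.w (σ 2) = w ∧ T.w (σ 3) = w ∧ T.w (σ 4) = w ∧ T.w (σ 5) = w ∧ T.w (σ 6) = w ∧ T.a (σ 0) (σ 0) = -2 * w ∧ T.a (σ 0) (σ 1) = 0 ∧ T.a (σ 0) (σ 2) = w ∧ T.a (σ 0) (σ 3) = 0 ∧ T.a (σ 0) (σ 4) = 0 ∧ T.a (σ 0) (σ 5) = 0 ∧ T.a (σ 0) (σ 6) = 0 ∧ T.a (σ 1) (σ 1) = -2 * w ∧ T.a (σ 1) (σ 2) = w ∧ T.a (σ 1) (σ 3) = 0 ∧ T.a (σ 1) (σ 4) = 0 ∧ T.a (σ 1) (σ 5) = 0 ∧ T.a (σ 1) (σ 6) = 0 ∧ T.a (σ 2) (σ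 2) = -2 * w ∧ T.a (σ 2) (σ 3) = w ∧ T.a (σ 2) (σ 4) = 0 ∧ T.a (σ 2) (σ 5) = 0 ∧ T.a (σ 2) (σ 6) = 0 ∧ T.a (σ 3) (σ 3) = -2 * w ∧ T.a (σ 3) (σ 4) = w ∧ T.a (σ 3) (σ 5) = 0 ∧ T.a (σ 3) (σ 6) = 0 ∧ T.a (σ 4) (σ 4) = -2 * w ∧ T.a (σ 4) (σ 5) = w ∧ T.a (σ 4) (σ 6) = w ∧ T.a (σ 5) (σ 5) = -2 * w ∧ T.a (σ 5) (σ 6) = 0 ∧ T.a (σ 6) (σ 6) = -2 * w) ∨
      (T.m (σ 0) = m ∧ T.m (σ 1) = 2 * m ∧ T.m (σ 2) = 3 * m ∧ T.m (σ 3) = m ∧ T.m (σ 4) = 2 * m ∧ T.m (σ 5) = m ∧ T.m (σ 6) = 2 * m ∧ T.w (σ 0) = w ∧ T.w (σ 1) = w ∧ T.w (σ 2) = w ∧ T.w (σ 3) = w ∧ T.w (σ 4) = w ∧ T.w (σ 5) = w ∧ T.w (σ 6) = w ∧ T.a (σ 0) (σ 0) = -2 * w ∧ T.a (σ 0) (σ 1) = w ∧ T.a (σ 0) (σ 2) = 0 ∧ T.a (σ 0) (σ 3) = 0 ∧ T.a (σ 0) (σ 4) = 0 ∧ T.a (σ 0) (σ 5) = 0 ∧ T.a (σ 0) (σ 6) = 0 ∧ T.a (σ 1) (σ 1) = -2 * w ∧ T.a (σ 1) (σ 2) = w ∧ T.a (σ 1) (σ 3) = 0 ∧ T.a (σ 1) (σ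 4) = 0 ∧ T.a (σ 1) (σ 5) = 0 ∧ T.a (σ 1) (σ 6) = 0 ∧ T.a (σ 2) (σ 2) = -2 * w ∧ T.a (σ 2) (σ 3) = 0 ∧ T.a (σ 2) (σ 4) = w ∧ T.a (σ 2) (σ 5) = 0 ∧ T.a (σ 2) (σ 6) = w ∧ T.a (σ 3) (σ 3) = -2 * w ∧ T.a (σ 3) (σ 4) = w ∧ T.a (σ 3) (σ 5) = 0 ∧ T.a (σ 3) (σ 6) = 0 ∧ T.a (σ 4) (σ 4) = -2 * w ∧ T.a (σ 4) (σ 5) = 0 ∧ T.a (σ 4) (σ 6) = 0 ∧ T.a (σ 5) (σ 5) = -2 * w ∧ T.a (σ 5) (σ 6) = w ∧ T.a (σ 6) (σ 6) = -2 * w)) := by
  have h2 := Groth.Agent.Helper6.NT.all_minusTwo T (by norm_num) hmin hg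
  refine ⟨fun i => (h2 i).1, ?_⟩
  obtain ⟨u0, -⟩ : ∃ u0 : Fin 7, True := ⟨0, trivial⟩
  by_cases hx : ∃ j, j ≠ u0 ∧ T.a u0 j ≠ 0
  · obtain ⟨u1, hn_1_0, e_0_1⟩ := hx
    rcases Groth.Agent.Helper6.NT.edge5 T h2 (by norm_num) u0 u1 hn_1_0.symm e_0_1 with ⟨tw_0_1, tap_0_1, taq_0_1⟩ | ⟨tw_0_1, tap_0_1, taq_0_1⟩ | ⟨tw_0_1, tap_0_1, taq_0_1⟩ | ⟨tw_0_1, tap_0_1, taq_0_1⟩ | ⟨tw_0_1, tap_0_1, taq_0_1⟩
    · -- (0,1) S
      by_cases hx : ∃ j, (j ≠ u0 ∧ j ≠ u1) ∧ T.a u0 j ≠ 0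
      · obtain ⟨u2, ⟨hn_2_0, hn_2_1⟩, e_0_2⟩ := hx
        rcases Groth.Agent.Helper6.NT.edge5 T h2 (by norm_num) u0 u2 hn_2_0.symm e_0_2 with ⟨tw_0_2, tap_0_2, taq_0_2⟩ | ⟨tw_0_2, tap_0_2, taq_0_2⟩ | ⟨tw_0_2, tap_0_2, taq_0_2⟩ | ⟨tw_0_2, tap_0_2, taq_0_2⟩ | ⟨tw_0_2, tap_0_2, taq_0_2⟩
        · -- (0,2) S
          rcases eq_or_ne (T.a u1 u2) 0 with z_1_2 | nz_1_2
          · -- (1,2) zero
            exact Groth.Agent.Helper6.G1.cut7_1 T h2 u0 u1 u2 hn_1_0 e_0_1 tw_0_1 tap_0_1 taq_0_1 hn_2_0 hn_2_1 e_0_2 tw_0_2 tap_0_2 taq_0_2 z_1_2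
          · -- (1,2) nonzero
            obtain ⟨lbp_1_2, lbq_1_2⟩ := Groth.Agent.Helper6.NT.lb T u1 u2 hn_2_1.symm nz_1_2
            exfalso
            have key := Groth.Agent.Helper6.NT.negfun3 T h2 u0 u1 u2 (by norm_num) 1 1 1 (by norm_num) (by norm_num)
            linarith only [key, tap_0_1, taq_0_1, tap_0_2, taq_0_2, lbp_1_2, lbq_1_2, T.w_pos u0, T.w_pos u1, T.w_pos u2]
        · -- (0,2) Dp
          rcases eq_or_ne (T.a u1 u2) 0 with z_1_2 | nz_1_2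
          · -- (1,2) zero
            exact Groth.Agent.Helper6.G1.cut7_18 T h2 u0 u1 u2 hn_1_0 e_0_1 tw_0_1 tap_0_1 taq_0_1 hn_2_0 hn_2_1 e_0_2 tw_0_2 tap_0_2 taq_0_2 z_1_2
          · -- (1,2) nonzero
            obtain ⟨lbp_1_2, lbq_1_2⟩ := Groth.Agent.Helper6.NT.lb T u1 u2 hn_2_1.symm nz_1_2
            exfalso
            have key := Groth.Agent.Helper6.NT.negfun3 T h2 u0 u1 u2 (by norm_num) 1 1 1 (by norm_num) (by norm_num)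
            linarith only [key, tap_0_1, taq_0_1, tap_0_2, taq_0_2, lbp_1_2, lbq_1_2, T.w_pos u0, T.w_pos u1, T.w_pos u2]
        · -- (0,2) Dm
          rcases eq_or_ne (T.a u1 u2) 0 with z_1_2 | nz_1_2
          · -- (1,2) zero
            exact Groth.Agent.Helper6.G1.cut7_20 T h2 u0 u1 u2 hn_1_0 e_0_1 tw_0_1 tap_0_1 taq_0_1 hn_2_0 hn_2_1 e_0_2 tw_0_2 tap_0_2 taq_0_2 z_1_2
          · -- (1,2) nonzero
            obtain ⟨lbp_1_2, lbq_1_2⟩ := Groth.Agent.Helper6.NT.lb T u1 u2 hn_2_1.symm nz_1_2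
            exfalso
            have key := Groth.Agent.Helper6.NT.negfun3 T h2 u0 u1 u2 (by norm_num) 1 1 1 (by norm_num) (by norm_num)
            linarith only [key, tap_0_1, taq_0_1, tap_0_2, taq_0_2, lbp_1_2, lbq_1_2, T.w_pos u0, T.w_pos u1, T.w_pos u2]
        · -- (0,2) Tp
          exfalso
          have key := Groth.Agent.Helper6.NT.negfun3 T h2 u0 u1 u2 (by norm_num) 2 1 1 (by norm_num) (by norm_num)
          linarith only [key, tap_0_1, taq_0_1, tap_0_2, taq_0_2, T.offDiag_nonneg u1 u2 hn_2_1.symm, T.w_pos u0, T.w_pos u1, T.w_pos u2]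
        · -- (0,2) Tm
          exfalso
          have key := Groth.Agent.Helper6.NT.negfun3 T h2 u0 u1 u2 (by norm_num) 2 1 3 (by norm_num) (by norm_num)
          linarith only [key, tap_0_1, taq_0_1, tap_0_2, taq_0_2, T.offDiag_nonneg u1 u2 hn_2_1.symm, T.w_pos u0, T.w_pos u1, T.w_pos u2]
      · push Not at hx
        have cl_0 := hx
        clear hx
        by_cases hx : ∃ j, (j ≠ u0 ∧ j ≠ u1) ∧ T.a u1 j ≠ 0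
        · obtain ⟨u2, ⟨hn_2_0, hn_2_1⟩, e_1_2⟩ := hx
          have z_0_2 : T.a u0 u2 = 0 := cl_0 u2 ⟨hn_2_0, hn_2_1⟩
          rcases Groth.Agent.Helper6.NT.edge5 T h2 (by norm_num) u1 u2 hn_2_1.symm e_1_2 with ⟨tw_1_2, tap_1_2, taq_1_2⟩ | ⟨tw_1_2, tap_1_2, taq_1_2⟩ | ⟨tw_1_2, tap_1_2, taq_1_2⟩ | ⟨tw_1_2, tap_1_2, taq_1_2⟩ | ⟨tw_1_2, tap_1_2, taq_1_2⟩
          · -- (1,2) S
            exact Groth.Agent.Helper6.G1.cut7_22 T h2 u0 u1 u2 hn_1_0 e_0_1 tw_0_1 tap_0_1 taq_0_1 cl_0 hn_2_0 hn_2_1 e_1_2 z_0_2 tw_1_2 tap_1_2 taq_1_2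
          · -- (1,2) Dp
            exact Groth.Agent.Helper6.G1.cut7_29 T h2 u0 u1 u2 hn_1_0 e_0_1 tw_0_1 tap_0_1 taq_0_1 cl_0 hn_2_0 hn_2_1 e_1_2 z_0_2 tw_1_2 tap_1_2 taq_1_2
          · -- (1,2) Dm
            exact Groth.Agent.Helper6.G1.cut7_30 T h2 u0 u1 u2 hn_1_0 e_0_1 tw_0_1 tap_0_1 taq_0_1 cl_0 hn_2_0 hn_2_1 e_1_2 z_0_2 tw_1_2 tap_1_2 taq_1_2
          · -- (1,2) Tp
            exfalso
            have key := Groth.Agent.Helper6.NT.negfun3 T h2 u0 u1 u2 (by norm_num) 1 2 1 (by norm_num) (by norm_num)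
            linarith only [key, tap_0_1, taq_0_1, z_0_2, tap_1_2, taq_1_2, T.w_pos u0, T.w_pos u1, T.w_pos u2]
          · -- (1,2) Tm
            exfalso
            have key := Groth.Agent.Helper6.NT.negfun3 T h2 u0 u1 u2 (by norm_num) 1 2 3 (by norm_num) (by norm_num)
            linarith only [key, tap_0_1, taq_0_1, z_0_2, tap_1_2, taq_1_2, T.w_pos u0, T.w_pos u1, T.w_pos u2]
        · push Not at hx
          have cl_1 := hx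
          clear hx
          exfalso
          refine Groth.Agent.Helper6.NT.closed_contra T [u0, u1] (by simp) (by simp) ?_
          intro i hi j hj
          simp only [List.mem_cons, List.not_mem_nil, or_false, not_or] at hi hj
          rcases hi with rfl | rfl
          · exact cl_0 j ⟨hj.1, hj.2⟩
          · exact cl_1 j ⟨hj.1, hj.2⟩
    · -- (0,1) Dp
      by_cases hx : ∃ j, (j ≠ u0 ∧ j ≠ u1) ∧ T.a u0 j ≠ 0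
      · obtain ⟨u2, ⟨hn_2_0, hn_2_1⟩, e_0_2⟩ := hx
        rcases Groth.Agent.Helper6.NT.edge5 T h2 (by norm_num) u0 u2 hn_2_0.symm e_0_2 with ⟨tw_0_2, tap_0_2, taq_0_2⟩ | ⟨tw_0_2, tap_0_2, taq_0_2⟩ | ⟨tw_0_2, tap_0_2, taq_0_2⟩ | ⟨tw_0_2, tap_0_2, taq_0_2⟩ | ⟨tw_0_2, tap_0_2, taq_0_2⟩
        · -- (0,2) S
          rcases eq_or_ne (T.a u1 u2) 0 with z_1_2 | nz_1_2
          · -- (1,2) zero
            exact Groth.Agent.Helper6.G1.cut7_31 T h2 u0 u1 u2 hn_1_0 e_0_1 tw_0_1 tap_0_1 taq_0_1 hn_2_0 hn_2_1 e_0_2 tw_0_2 tap_0_2 taq_0_2 z_1_2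
          · -- (1,2) nonzero
            obtain ⟨lbp_1_2, lbq_1_2⟩ := Groth.Agent.Helper6.NT.lb T u1 u2 hn_2_1.symm nz_1_2
            exfalso
            have key := Groth.Agent.Helper6.NT.negfun3 T h2 u0 u1 u2 (by norm_num) 1 1 1 (by norm_num) (by norm_num)
            linarith only [key, tap_0_1, taq_0_1, tap_0_2, taq_0_2, lbp_1_2, lbq_1_2, T.w_pos u0, T.w_pos u1, T.w_pos u2]
        · -- (0,2) Dp
          exfalso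
          have key := Groth.Agent.Helper6.NT.negfun3 T h2 u0 u1 u2 (by norm_num) 2 1 1 (by norm_num) (by norm_num)
          linarith only [key, tap_0_1, taq_0_1, tap_0_2, taq_0_2, T.offDiag_nonneg u1 u2 hn_2_1.symm, T.w_pos u0, T.w_pos u1, T.w_pos u2]
        · -- (0,2) Dm
          exfalso
          have key := Groth.Agent.Helper6.NT.negfun3 T h2 u0 u1 u2 (by norm_num) 2 1 2 (by norm_num) (by norm_num)
          linarith only [key, tap_0_1, taq_0_1, tap_0_2, taq_0_2, T.offDiag_nonneg u1 u2 hn_2_1.symm, T.w_pos u0, T.w_pos u1, T.w_pos u2]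
        · -- (0,2) Tp
          exfalso
          have key := Groth.Agent.Helper6.NT.negfun3 T h2 u0 u1 u2 (by norm_num) 2 1 1 (by norm_num) (by norm_num)
          linarith only [key, tap_0_1, taq_0_1, tap_0_2, taq_0_2, T.offDiag_nonneg u1 u2 hn_2_1.symm, T.w_pos u0, T.w_pos u1, T.w_pos u2]
        · -- (0,2) Tm
          exfalso
          have key := Groth.Agent.Helper6.NT.negfun3 T h2 u0 u1 u2 (by norm_num) 2 1 3 (by norm_num) (by norm_num)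
          linarith only [key, tap_0_1, taq_0_1, tap_0_2, taq_0_2, T.offDiag_nonneg u1 u2 hn_2_1.symm, T.w_pos u0, T.w_pos u1, T.w_pos u2]
      · push Not at hx
        have cl_0 := hx
        clear hx
        by_cases hx : ∃ j, (j ≠ u0 ∧ j ≠ u1) ∧ T.a u1 j ≠ 0
        · obtain ⟨u2, ⟨hn_2_0, hn_2_1⟩, e_1_2⟩ := hx
          have z_0_2 : T.a u0 u2 = 0 := cl_0 u2 ⟨hn_2_0, hn_2_1⟩
          rcases Groth.Agent.Helper6.NT.edge5 T h2 (by norm_num) u1 u2 hn_2_1.symm e_1_2 with ⟨tw_1_2, tap_1_2, taq_1_2⟩ | ⟨tw_1_2, tap_1_2, taq_1_2⟩ | ⟨tw_1_2, tap_1_2, taq_1_2⟩ | ⟨tw_1_2, tap_1_2, taq_1_2⟩ | ⟨tw_1_2, tap_1_2, taq_1_2⟩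
          · -- (1,2) S
            exact Groth.Agent.Helper6.G1.cut7_33 T h2 u0 u1 u2 hn_1_0 e_0_1 tw_0_1 tap_0_1 taq_0_1 cl_0 hn_2_0 hn_2_1 e_1_2 z_0_2 tw_1_2 tap_1_2 taq_1_2
          · -- (1,2) Dp
            exfalso
            have key := Groth.Agent.Helper6.NT.negfun3 T h2 u0 u1 u2 (by norm_num) 2 2 1 (by norm_num) (by norm_num)
            linarith only [key, tap_0_1, taq_0_1, z_0_2, tap_1_2, taq_1_2, T.w_pos u0, T.w_pos u1, T.w_pos u2]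
          · -- (1,2) Dm
            exfalso
            have key := Groth.Agent.Helper6.NT.negfun3 T h2 u0 u1 u2 (by norm_num) 1 1 1 (by norm_num) (by norm_num)
            linarith only [key, tap_0_1, taq_0_1, z_0_2, tap_1_2, taq_1_2, T.w_pos u0, T.w_pos u1, T.w_pos u2]
          · -- (1,2) Tp
            exfalso
            have key := Groth.Agent.Helper6.NT.negfun3 T h2 u0 u1 u2 (by norm_num) 2 2 1 (by norm_num) (by norm_num)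
            linarith only [key, tap_0_1, taq_0_1, z_0_2, tap_1_2, taq_1_2, T.w_pos u0, T.w_pos u1, T.w_pos u2]
          · -- (1,2) Tm
            exfalso
            have key := Groth.Agent.Helper6.NT.negfun3 T h2 u0 u1 u2 (by norm_num) 2 2 3 (by norm_num) (by norm_num)
            linarith only [key, tap_0_1, taq_0_1, z_0_2, tap_1_2, taq_1_2, T.w_pos u0, T.w_pos u1, T.w_pos u2]
        · push Not at hx
          have cl_1 := hx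
          clear hx
          exfalso
          refine Groth.Agent.Helper6.NT.closed_contra T [u0, u1] (by simp) (by simp) ?_
          intro i hi j hj
          simp only [List.mem_cons, List.not_mem_nil, or_false, not_or] at hi hj
          rcases hi with rfl | rfl
          · exact cl_0 j ⟨hj.1, hj.2⟩
          · exact cl_1 j ⟨hj.1, hj.2⟩
    · -- (0,1) Dm
      by_cases hx : ∃ j, (j ≠ u0 ∧ j ≠ u1) ∧ T.a u0 j ≠ 0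
      · obtain ⟨u2, ⟨hn_2_0, hn_2_1⟩, e_0_2⟩ := hx
        rcases Groth.Agent.Helper6.NT.edge5 T h2 (by norm_num) u0 u2 hn_2_0.symm e_0_2 with ⟨tw_0_2, tap_0_2, taq_0_2⟩ | ⟨tw_0_2, tap_0_2, taq_0_2⟩ | ⟨tw_0_2, tap_0_2, taq_0_2⟩ | ⟨tw_0_2, tap_0_2, taq_0_2⟩ | ⟨tw_0_2, tap_0_2, taq_0_2⟩
        · -- (0,2) S
          rcases eq_or_ne (T.a u1 u2) 0 with z_1_2 | nz_1_2
          · -- (1,2) zero
            exact Groth.Agent.Helper6.G1.cut7_35 T h2 u0 u1 u2 hn_1_0 e_0_1 tw_0_1 tap_0_1 taq_0_1 hn_2_0 hn_2_1 e_0_2 tw_0_2 tap_0_2 taq_0_2 z_1_2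
          · -- (1,2) nonzero
            obtain ⟨lbp_1_2, lbq_1_2⟩ := Groth.Agent.Helper6.NT.lb T u1 u2 hn_2_1.symm nz_1_2
            exfalso
            have key := Groth.Agent.Helper6.NT.negfun3 T h2 u0 u1 u2 (by norm_num) 1 1 1 (by norm_num) (by norm_num)
            linarith only [key, tap_0_1, taq_0_1, tap_0_2, taq_0_2, lbp_1_2, lbq_1_2, T.w_pos u0, T.w_pos u1, T.w_pos u2]
        · -- (0,2) Dp
          exfalso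
          have key := Groth.Agent.Helper6.NT.negfun3 T h2 u0 u1 u2 (by norm_num) 2 2 1 (by norm_num) (by norm_num)
          linarith only [key, tap_0_1, taq_0_1, tap_0_2, taq_0_2, T.offDiag_nonneg u1 u2 hn_2_1.symm, T.w_pos u0, T.w_pos u1, T.w_pos u2]
        · -- (0,2) Dm
          exfalso
          have key := Groth.Agent.Helper6.NT.negfun3 T h2 u0 u1 u2 (by norm_num) 1 1 1 (by norm_num) (by norm_num)
          linarith only [key, tap_0_1, taq_0_1, tap_0_2, taq_0_2, T.offDiag_nonneg u1 u2 hn_2_1.symm, T.w_pos u0, T.w_pos u1, T.w_pos u2]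
        · -- (0,2) Tp
          exfalso
          have key := Groth.Agent.Helper6.NT.negfun3 T h2 u0 u1 u2 (by norm_num) 2 2 1 (by norm_num) (by norm_num)
          linarith only [key, tap_0_1, taq_0_1, tap_0_2, taq_0_2, T.offDiag_nonneg u1 u2 hn_2_1.symm, T.w_pos u0, T.w_pos u1, T.w_pos u2]
        · -- (0,2) Tm
          exfalso
          have key := Groth.Agent.Helper6.NT.negfun3 T h2 u0 u1 u2 (by norm_num) 2 2 3 (by norm_num) (by norm_num)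
          linarith only [key, tap_0_1, taq_0_1, tap_0_2, taq_0_2, T.offDiag_nonneg u1 u2 hn_2_1.symm, T.w_pos u0, T.w_pos u1, T.w_pos u2]
      · push Not at hx
        have cl_0 := hx
        clear hx
        by_cases hx : ∃ j, (j ≠ u0 ∧ j ≠ u1) ∧ T.a u1 j ≠ 0
        · obtain ⟨u2, ⟨hn_2_0, hn_2_1⟩, e_1_2⟩ := hx
          have z_0_2 : T.a u0 u2 = 0 := cl_0 u2 ⟨hn_2_0, hn_2_1⟩
          rcases Groth.Agent.Helper6.NT.edge5 T h2 (by norm_num) u1 u2 hn_2_1.symm e_1_2 with ⟨tw_1_2, tap_1_2, taq_1_2⟩ | ⟨tw_1_2, tap_1_2, taq_1_2⟩ | ⟨tw_1_2, tap_1_2, taq_1_2⟩ | ⟨tw_1_2, tap_1_2, taq_1_2⟩ | ⟨tw_1_2, tap_1_2, taq_1_2⟩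
          · -- (1,2) S
            exact Groth.Agent.Helper6.G1.cut7_37 T h2 u0 u1 u2 hn_1_0 e_0_1 tw_0_1 tap_0_1 taq_0_1 cl_0 hn_2_0 hn_2_1 e_1_2 z_0_2 tw_1_2 tap_1_2 taq_1_2
          · -- (1,2) Dp
            exfalso
            have key := Groth.Agent.Helper6.NT.negfun3 T h2 u0 u1 u2 (by norm_num) 1 2 1 (by norm_num) (by norm_num)
            linarith only [key, tap_0_1, taq_0_1, z_0_2, tap_1_2, taq_1_2, T.w_pos u0, T.w_pos u1, T.w_pos u2]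
          · -- (1,2) Dm
            exfalso
            have key := Groth.Agent.Helper6.NT.negfun3 T h2 u0 u1 u2 (by norm_num) 1 2 2 (by norm_num) (by norm_num)
            linarith only [key, tap_0_1, taq_0_1, z_0_2, tap_1_2, taq_1_2, T.w_pos u0, T.w_pos u1, T.w_pos u2]
          · -- (1,2) Tp
            exfalso
            have key := Groth.Agent.Helper6.NT.negfun3 T h2 u0 u1 u2 (by norm_num) 1 2 1 (by norm_num) (by norm_num)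
            linarith only [key, tap_0_1, taq_0_1, z_0_2, tap_1_2, taq_1_2, T.w_pos u0, T.w_pos u1, T.w_pos u2]
          · -- (1,2) Tm
            exfalso
            have key := Groth.Agent.Helper6.NT.negfun3 T h2 u0 u1 u2 (by norm_num) 1 2 3 (by norm_num) (by norm_num)
            linarith only [key, tap_0_1, taq_0_1, z_0_2, tap_1_2, taq_1_2, T.w_pos u0, T.w_pos u1, T.w_pos u2]
        · push Not at hx
          have cl_1 := hx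
          clear hx
          exfalso
          refine Groth.Agent.Helper6.NT.closed_contra T [u0, u1] (by simp) (by simp) ?_
          intro i hi j hj
          simp only [List.mem_cons, List.not_mem_nil, or_false, not_or] at hi hj
          rcases hi with rfl | rfl
          · exact cl_0 j ⟨hj.1, hj.2⟩
          · exact cl_1 j ⟨hj.1, hj.2⟩
    · -- (0,1) Tp
      by_cases hx : ∃ j, (j ≠ u0 ∧ j ≠ u1) ∧ T.a u0 j ≠ 0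
      · obtain ⟨u2, ⟨hn_2_0, hn_2_1⟩, e_0_2⟩ := hx
        rcases Groth.Agent.Helper6.NT.edge5 T h2 (by norm_num) u0 u2 hn_2_0.symm e_0_2 with ⟨tw_0_2, tap_0_2, taq_0_2⟩ | ⟨tw_0_2, tap_0_2, taq_0_2⟩ | ⟨tw_0_2, tap_0_2, taq_0_2⟩ | ⟨tw_0_2, tap_0_2, taq_0_2⟩ | ⟨tw_0_2, tap_0_2, taq_0_2⟩
        · -- (0,2) S
          exfalso
          have key := Groth.Agent.Helper6.NT.negfun3 T h2 u0 u1 u2 (by norm_num) 2 1 1 (by norm_num) (by norm_num)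
          linarith only [key, tap_0_1, taq_0_1, tap_0_2, taq_0_2, T.offDiag_nonneg u1 u2 hn_2_1.symm, T.w_pos u0, T.w_pos u1, T.w_pos u2]
        · -- (0,2) Dp
          exfalso
          have key := Groth.Agent.Helper6.NT.negfun3 T h2 u0 u1 u2 (by norm_num) 2 1 1 (by norm_num) (by norm_num)
          linarith only [key, tap_0_1, taq_0_1, tap_0_2, taq_0_2, T.offDiag_nonneg u1 u2 hn_2_1.symm, T.w_pos u0, T.w_pos u1, T.w_pos u2]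
        · -- (0,2) Dm
          exfalso
          have key := Groth.Agent.Helper6.NT.negfun3 T h2 u0 u1 u2 (by norm_num) 2 1 2 (by norm_num) (by norm_num)
          linarith only [key, tap_0_1, taq_0_1, tap_0_2, taq_0_2, T.offDiag_nonneg u1 u2 hn_2_1.symm, T.w_pos u0, T.w_pos u1, T.w_pos u2]
        · -- (0,2) Tp
          exfalso
          have key := Groth.Agent.Helper6.NT.negfun3 T h2 u0 u1 u2 (by norm_num) 2 1 1 (by norm_num) (by norm_num)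
          linarith only [key, tap_0_1, taq_0_1, tap_0_2, taq_0_2, T.offDiag_nonneg u1 u2 hn_2_1.symm, T.w_pos u0, T.w_pos u1, T.w_pos u2]
        · -- (0,2) Tm
          exfalso
          have key := Groth.Agent.Helper6.NT.negfun3 T h2 u0 u1 u2 (by norm_num) 2 1 3 (by norm_num) (by norm_num)
          linarith only [key, tap_0_1, taq_0_1, tap_0_2, taq_0_2, T.offDiag_nonneg u1 u2 hn_2_1.symm, T.w_pos u0, T.w_pos u1, T.w_pos u2]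
      · push Not at hx
        have cl_0 := hx
        clear hx
        by_cases hx : ∃ j, (j ≠ u0 ∧ j ≠ u1) ∧ T.a u1 j ≠ 0
        · obtain ⟨u2, ⟨hn_2_0, hn_2_1⟩, e_1_2⟩ := hx
          have z_0_2 : T.a u0 u2 = 0 := cl_0 u2 ⟨hn_2_0, hn_2_1⟩
          rcases Groth.Agent.Helper6.NT.edge5 T h2 (by norm_num) u1 u2 hn_2_1.symm e_1_2 with ⟨tw_1_2, tap_1_2, taq_1_2⟩ | ⟨tw_1_2, tap_1_2, taq_1_2⟩ | ⟨tw_1_2, tap_1_2, taq_1_2⟩ | ⟨tw_1_2, tap_1_2, taq_1_2⟩ | ⟨tw_1_2, tap_1_2, taq_1_2⟩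
          · -- (1,2) S
            exfalso
            have key := Groth.Agent.Helper6.NT.negfun3 T h2 u0 u1 u2 (by norm_num) 3 2 1 (by norm_num) (by norm_num)
            linarith only [key, tap_0_1, taq_0_1, z_0_2, tap_1_2, taq_1_2, T.w_pos u0, T.w_pos u1, T.w_pos u2]
          · -- (1,2) Dp
            exfalso
            have key := Groth.Agent.Helper6.NT.negfun3 T h2 u0 u1 u2 (by norm_num) 3 2 1 (by norm_num) (by norm_num)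
            linarith only [key, tap_0_1, taq_0_1, z_0_2, tap_1_2, taq_1_2, T.w_pos u0, T.w_pos u1, T.w_pos u2]
          · -- (1,2) Dm
            exfalso
            have key := Groth.Agent.Helper6.NT.negfun3 T h2 u0 u1 u2 (by norm_num) 3 2 2 (by norm_num) (by norm_num)
            linarith only [key, tap_0_1, taq_0_1, z_0_2, tap_1_2, taq_1_2, T.w_pos u0, T.w_pos u1, T.w_pos u2]
          · -- (1,2) Tp
            exfalso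
            have key := Groth.Agent.Helper6.NT.negfun3 T h2 u0 u1 u2 (by norm_num) 3 2 1 (by norm_num) (by norm_num)
            linarith only [key, tap_0_1, taq_0_1, z_0_2, tap_1_2, taq_1_2, T.w_pos u0, T.w_pos u1, T.w_pos u2]
          · -- (1,2) Tm
            exfalso
            have key := Groth.Agent.Helper6.NT.negfun3 T h2 u0 u1 u2 (by norm_num) 1 1 1 (by norm_num) (by norm_num)
            linarith only [key, tap_0_1, taq_0_1, z_0_2, tap_1_2, taq_1_2, T.w_pos u0, T.w_pos u1, T.w_pos u2]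
        · push Not at hx
          have cl_1 := hx
          clear hx
          exfalso
          refine Groth.Agent.Helper6.NT.closed_contra T [u0, u1] (by simp) (by simp) ?_
          intro i hi j hj
          simp only [List.mem_cons, List.not_mem_nil, or_false, not_or] at hi hj
          rcases hi with rfl | rfl
          · exact cl_0 j ⟨hj.1, hj.2⟩
          · exact cl_1 j ⟨hj.1, hj.2⟩
    · -- (0,1) Tm
      by_cases hx : ∃ j, (j ≠ u0 ∧ j ≠ u1) ∧ T.a u0 j ≠ 0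
      · obtain ⟨u2, ⟨hn_2_0, hn_2_1⟩, e_0_2⟩ := hx
        rcases Groth.Agent.Helper6.NT.edge5 T h2 (by norm_num) u0 u2 hn_2_0.symm e_0_2 with ⟨tw_0_2, tap_0_2, taq_0_2⟩ | ⟨tw_0_2, tap_0_2, taq_0_2⟩ | ⟨tw_0_2, tap_0_2, taq_0_2⟩ | ⟨tw_0_2, tap_0_2, taq_0_2⟩ | ⟨tw_0_2, tap_0_2, taq_0_2⟩
        · -- (0,2) S
          exfalso
          have key := Groth.Agent.Helper6.NT.negfun3 T h2 u0 u1 u2 (by norm_num) 2 3 1 (by norm_num) (by norm_num)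
          linarith only [key, tap_0_1, taq_0_1, tap_0_2, taq_0_2, T.offDiag_nonneg u1 u2 hn_2_1.symm, T.w_pos u0, T.w_pos u1, T.w_pos u2]
        · -- (0,2) Dp
          exfalso
          have key := Groth.Agent.Helper6.NT.negfun3 T h2 u0 u1 u2 (by norm_num) 2 3 1 (by norm_num) (by norm_num)
          linarith only [key, tap_0_1, taq_0_1, tap_0_2, taq_0_2, T.offDiag_nonneg u1 u2 hn_2_1.symm, T.w_pos u0, T.w_pos u1, T.w_pos u2]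
        · -- (0,2) Dm
          exfalso
          have key := Groth.Agent.Helper6.NT.negfun3 T h2 u0 u1 u2 (by norm_num) 2 3 2 (by norm_num) (by norm_num)
          linarith only [key, tap_0_1, taq_0_1, tap_0_2, taq_0_2, T.offDiag_nonneg u1 u2 hn_2_1.symm, T.w_pos u0, T.w_pos u1, T.w_pos u2]
        · -- (0,2) Tp
          exfalso
          have key := Groth.Agent.Helper6.NT.negfun3 T h2 u0 u1 u2 (by norm_num) 2 3 1 (by norm_num) (by norm_num)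
          linarith only [key, tap_0_1, taq_0_1, tap_0_2, taq_0_2, T.offDiag_nonneg u1 u2 hn_2_1.symm, T.w_pos u0, T.w_pos u1, T.w_pos u2]
        · -- (0,2) Tm
          exfalso
          have key := Groth.Agent.Helper6.NT.negfun3 T h2 u0 u1 u2 (by norm_num) 1 1 1 (by norm_num) (by norm_num)
          linarith only [key, tap_0_1, taq_0_1, tap_0_2, taq_0_2, T.offDiag_nonneg u1 u2 hn_2_1.symm, T.w_pos u0, T.w_pos u1, T.w_pos u2]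
      · push Not at hx
        have cl_0 := hx
        clear hx
        by_cases hx : ∃ j, (j ≠ u0 ∧ j ≠ u1) ∧ T.a u1 j ≠ 0
        · obtain ⟨u2, ⟨hn_2_0, hn_2_1⟩, e_1_2⟩ := hx
          have z_0_2 : T.a u0 u2 = 0 := cl_0 u2 ⟨hn_2_0, hn_2_1⟩
          rcases Groth.Agent.Helper6.NT.edge5 T h2 (by norm_num) u1 u2 hn_2_1.symm e_1_2 with ⟨tw_1_2, tap_1_2, taq_1_2⟩ | ⟨tw_1_2, tap_1_2, taq_1_2⟩ | ⟨tw_1_2, tap_1_2, taq_1_2⟩ | ⟨tw_1_2, tap_1_2, taq_1_2⟩ | ⟨tw_1_2, tap_1_2, taq_1_2⟩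
          · -- (1,2) S
            exfalso
            have key := Groth.Agent.Helper6.NT.negfun3 T h2 u0 u1 u2 (by norm_num) 1 2 1 (by norm_num) (by norm_num)
            linarith only [key, tap_0_1, taq_0_1, z_0_2, tap_1_2, taq_1_2, T.w_pos u0, T.w_pos u1, T.w_pos u2]
          · -- (1,2) Dp
            exfalso
            have key := Groth.Agent.Helper6.NT.negfun3 T h2 u0 u1 u2 (by norm_num) 1 2 1 (by norm_num) (by norm_num)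
            linarith only [key, tap_0_1, taq_0_1, z_0_2, tap_1_2, taq_1_2, T.w_pos u0, T.w_pos u1, T.w_pos u2]
          · -- (1,2) Dm
            exfalso
            have key := Groth.Agent.Helper6.NT.negfun3 T h2 u0 u1 u2 (by norm_num) 1 2 2 (by norm_num) (by norm_num)
            linarith only [key, tap_0_1, taq_0_1, z_0_2, tap_1_2, taq_1_2, T.w_pos u0, T.w_pos u1, T.w_pos u2]
          · -- (1,2) Tp
            exfalso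
            have key := Groth.Agent.Helper6.NT.negfun3 T h2 u0 u1 u2 (by norm_num) 1 2 1 (by norm_num) (by norm_num)
            linarith only [key, tap_0_1, taq_0_1, z_0_2, tap_1_2, taq_1_2, T.w_pos u0, T.w_pos u1, T.w_pos u2]
          · -- (1,2) Tm
            exfalso
            have key := Groth.Agent.Helper6.NT.negfun3 T h2 u0 u1 u2 (by norm_num) 1 2 3 (by norm_num) (by norm_num)
            linarith only [key, tap_0_1, taq_0_1, z_0_2, tap_1_2, taq_1_2, T.w_pos u0, T.w_pos u1, T.w_pos u2]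
        · push Not at hx
          have cl_1 := hx
          clear hx
          exfalso
          refine Groth.Agent.Helper6.NT.closed_contra T [u0, u1] (by simp) (by simp) ?_
          intro i hi j hj
          simp only [List.mem_cons, List.not_mem_nil, or_false, not_or] at hi hj
          rcases hi with rfl | rfl
          · exact cl_0 j ⟨hj.1, hj.2⟩
          · exact cl_1 j ⟨hj.1, hj.2⟩
  · push Not at hx
    have cl_0 := hx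
    clear hx
    exfalso
    refine Groth.Agent.Helper6.NT.closed_contra T [u0] (by simp) (by simp) ?_
    intro i hi j hj
    simp only [List.mem_cons, List.not_mem_nil, or_false, not_or] at hi hj
    subst hi
    · exact cl_0 j hj

end Groth.Agent.S7368
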