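import Groth.Statements.S7390
import Mathlib
import Groth.Agent.Lib.Helper1.DiagAff

set_option autoImplicit false
universe u
open CategoryTheory AlgebraicGeometry
open Mor

namespace Groth.Agent.S7390

/-- Let `X` be a scheme such that every point lies in some affine open `X_s`, the locus where a global
section `s` generates an invertible `O_X`-module `L` (both depending on the point). Then the
diagonal of `X` is an affine morphism. -/
theorem result (X : Scheme.{u})
    (h : ∀ x : X, ∃ (L : X.Modules) (s : Coh.structureModule X ⟶ L), PicF.IsInvertible L ∧
      x ∈ CohB1.genLocus L s ∧ IsAffineOpen (CohB1.genLocus L s)) :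
    IsAffineHom (Limits.pullback.diagonal (Limits.terminal.from X)) := by
  apply Groth.Agent.Helper1.SecOps.isAffineHom_diagonal_of_cover
  intro x
  obtain ⟨L, s, hL, hx, haff⟩ := h x
  exact ⟨_, hx, haff, Groth.Agent.Helper1.GenLoc.isAffineHom_genLocus_ι L s hL⟩

end Groth.Agent.S7390
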