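import Groth.Statements.S7392
import Mathlib
import Groth.Agent.Lib.Lead.FLF5

set_option autoImplicit false
universe u
open CategoryTheory AlgebraicGeometry
open Opposite
open Mor

namespace Groth.Agent.S7392

section
open CategoryTheory AlgebraicGeometry
open Opposite

open Scheme.Modules Groth.Agent.Lead.FLF Groth.Agent.Helper1

variable (A : CommRingCat.{u}) (M : ModuleCat.{u} A)

/-- the ring map from `A` to the sections over an open of `Spec A` -/
noncomputable def toSections (U : (Spec A).Opens) : A ⟶ Γ(Spec A, U) :=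
  (Scheme.ΓSpecIso A).inv ≫ (Spec A).presheaf.map (homOfLE (le_top : U ≤ ⊤)).op

theorem specMap_toSections {U : (Spec A).Opens} (hU : IsAffineOpen U) :
    Spec.map (toSections A U) = hU.fromSpec := by
  rw [toSections, Spec.map_comp, ← (isAffineOpen_top (Spec A)).map_fromSpec hU
    (homOfLE (le_top : U ≤ ⊤)).op, IsAffineOpen.fromSpec_top]
  congr 1
  simp [Scheme.isoSpec_Spec_inv]

theorem backward (hM : Module.Projective A M) {U : (Spec A).Opens} (hU : IsAffineOpen U) :
    Module.Projective Γ(Spec A, U) Γ(tilde M, U) := by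
  let B : CommRingCat.{u} := Γ(Spec A, U)
  let φ : A ⟶ B := toSections A U
  have hφ : Spec.map φ = hU.fromSpec := specMap_toSections A hU
  haveI : IsOpenImmersion (Spec.map φ) := by rw [hφ]; infer_instance
  letI : Algebra A B := φ.hom.toAlgebra
  let iso2 : (tilde M).restrict hU.fromSpec ≅ tilde ((ModuleCat.extendScalars φ.hom).obj M) :=
    (restrictFunctorCongr hφ.symm).app (tilde M) ≪≫ tildeRestrictIso φ M
  let e1 : Γ((tilde M).restrict hU.fromSpec, ⊤) ≃ₗ[B] Γ(tilde M, U) :=
    sectionsLinearEquiv hU (tilde M)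
  let e2 := ((moduleSpecΓFunctor (R := B)).mapIso iso2).toLinearEquiv
  let e3 := (tilde.isoTop ((ModuleCat.extendScalars φ.hom).obj M)).toLinearEquiv
  let e4 : ((ModuleCat.extendScalars φ.hom).obj M) ≃ₗ[B] TensorProduct A B M :=
    Groth.Agent.Helper8.extScalEquiv (R := A) (S := B) M
  haveI : Module.Projective B (TensorProduct A B M) := inferInstance
  let e : TensorProduct A B M ≃ₗ[B] Γ(tilde M, U) :=
    e4.symm ≪≫ₗ (e3 ≪≫ₗ (e2.symm ≪≫ₗ e1))
  exact Module.Projective.of_equiv e

theorem smul_top_eq (r : Γ(Spec A, ⊤)) (x : Γ(tilde M, ⊤)) :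
    r • x = ((Scheme.ΓSpecIso A).hom.hom r : A) • x := by
  rw [smul_Spec_def]
  congr 1
  have : ((⊤ : (Spec A).Opens).leTop).op = 𝟙 _ := Subsingleton.elim _ _
  rw [this, CategoryTheory.Functor.map_id]
  simp

theorem forward (h : Module.Projective Γ(Spec A, ⊤) Γ(tilde M, ⊤)) : Module.Projective A M := by
  let σ : Γ(Spec A, ⊤) →+* A := (Scheme.ΓSpecIso A).hom.hom
  let σ' : A →+* Γ(Spec A, ⊤) := (Scheme.ΓSpecIso A).inv.hom
  haveI i1 : RingHomInvPair σ σ' := ⟨by ext x; simp [σ, σ'], by ext x; simp [σ, σ']⟩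
  haveI i2 : RingHomInvPair σ' σ := ⟨by ext x; simp [σ, σ'], by ext x; simp [σ, σ']⟩
  let j : Γ(tilde M, ⊤) ≃ₗ[A] M := (tilde.isoTop M).toLinearEquiv.symm
  let e : Γ(tilde M, ⊤) ≃ₛₗ[σ] M :=
    { j.toAddEquiv with
      map_smul' := fun r x => by
        show j (r • x) = σ r • j x
        rw [smul_top_eq]
        exact LinearEquiv.map_smul j _ _ }
  exact Module.Projective.of_equiv e

theorem main :
    (∀ U : (Spec A).Opens, IsAffineOpen U →
      Module.Projective ((Spec A).ringCatSheaf.obj.obj (op U)) ((tilde M).val.obj (op U))) ↔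
      Module.Projective A M :=
  ⟨fun h => forward A M (h ⊤ (isAffineOpen_top _)), fun hM U hU => backward A M hM hU⟩


end


/-- For a ring `A` and an `A`-module `M`, the module `M~` on `Spec A` is locally projective (projective
sections over every affine open) if and only if `M` is a projective `A`-module. -/
theorem result (A : CommRingCat.{u}) (M : ModuleCat.{u} A) :
    (∀ U : (Spec A).Opens, IsAffineOpen U →
      Module.Projective ((Spec A).ringCatSheaf.obj.obj (op U)) ((tilde M).val.obj (op U))) ↔
      Module.Projective A M := by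
  classical
  exact main A M

end Groth.Agent.S7392
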