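import Groth.Statements.S7393
import Groth.Agent.S4713
import Groth.Agent.Lib.Helper8.GScheme1
import Groth.Agent.Lib.Helper8.Andre11
import Groth.Agent.Lib.Helper8.EssFT1

set_option autoImplicit false
universe u
open CategoryTheory AlgebraicGeometry
open Mor

namespace Groth.Agent.S7393

/-- A scheme `X` is a G-scheme (every point has an affine open neighbourhood whose coordinate ring is a
G-ring) if and only if `X` is locally Noetherian and, for every closed point `x`, the completion map
of the local ring `O_{X,x} → O_{X,x}^∧` is a regular ring map. -/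
theorem result (X : Scheme.{u}) :
    (∀ x : X, ∃ U : X.Opens, x ∈ U ∧ IsAffineOpen U ∧ CAlg.IsGRing Γ(X, U)) ↔
      IsLocallyNoetherian X ∧ ∀ x : X, IsClosed ({x} : Set X) →
        CAlg.IsRegularHom (X.presheaf.stalk x)
          (AdicCompletion (IsLocalRing.maximalIdeal (X.presheaf.stalk x)) (X.presheaf.stalk x)) := by
  rw [Groth.Agent.Helper8.GScheme.gScheme_iff_stalks X]
  constructor
  · rintro ⟨hLN, h⟩
    exact ⟨hLN, fun x _ => h x⟩
  · rintro ⟨hLN, h⟩
    refine ⟨hLN, fun y => ?_⟩
    haveI := hLN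
    obtain ⟨x0, hx0mem, hx0cl⟩ := Groth.Agent.S4713.result X (closure {y}) isClosed_closure
      ⟨y, subset_closure rfl⟩
    have hspec : y ⤳ x0 := specializes_iff_mem_closure.mpr hx0mem
    have hG0 : CAlg.IsGRing (X.presheaf.stalk x0) :=
      Groth.Agent.Helper8.GRing.isGRing_of_isRegularHom_cpl _ (h x0 hx0cl)
    obtain ⟨W, hW, hx0W, -⟩ :=
      exists_isAffineOpen_mem_and_subset (X := X) (U := ⊤) (x := x0) (by simp)
    have hyW : y ∈ W := hspec.mem_open W.2 hx0W
    letI a1 : Algebra Γ(X, W) (X.presheaf.stalk x0) := X.presheaf.algebra_section_stalk ⟨x0, hx0W⟩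
    letI a2 : Algebra Γ(X, W) (X.presheaf.stalk y) := X.presheaf.algebra_section_stalk ⟨y, hyW⟩
    letI a3 : Algebra (X.presheaf.stalk x0) (X.presheaf.stalk y) :=
      (X.presheaf.stalkSpecializes hspec).hom.toAlgebra
    haveI : IsScalarTower Γ(X, W) (X.presheaf.stalk x0) (X.presheaf.stalk y) :=
      IsScalarTower.of_algebraMap_eq fun r => by
        change (X.presheaf.germ W y hyW).hom r =
          (X.presheaf.stalkSpecializes hspec).hom ((X.presheaf.germ W x0 hx0W).hom r)
        rw [← CommRingCat.comp_apply, TopCat.Presheaf.germ_stalkSpecializes]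
    haveI : IsLocalization.AtPrime (X.presheaf.stalk y) (hW.primeIdealOf ⟨y, hyW⟩).asIdeal :=
      hW.isLocalization_stalk ⟨y, hyW⟩
    haveI : Algebra.EssFiniteType Γ(X, W) (X.presheaf.stalk y) :=
      Algebra.EssFiniteType.of_isLocalization _ (hW.primeIdealOf ⟨y, hyW⟩).asIdeal.primeCompl
    haveI : Algebra.EssFiniteType (X.presheaf.stalk x0) (X.presheaf.stalk y) :=
      Algebra.EssFiniteType.of_comp Γ(X, W) _ _
    have hGy : CAlg.IsGRing (X.presheaf.stalk y) :=
      Groth.Agent.Helper8.EssFT.isGRing_of_essFiniteType _ hG0 _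
    exact Groth.Agent.Helper8.Andre.isRegularHom_cpl_of_isGRing _ hGy

end Groth.Agent.S7393
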