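import Groth.Statements.S7394
-- import your own Groth.Agent.* helpers here
import Groth.Agent.Lib.Helper7.ProdSurj.Main

set_option autoImplicit false
universe u
open CategoryTheory AlgebraicGeometry
open Lim

namespace Groth.Agent.S7394

/-- Let `S` be a scheme and `T_i → S`, `i ∈ I`, surjective affine morphisms. Then any product of the
`T_i` in the category of schemes over `S` maps surjectively onto `S`. -/
theorem result {S : Scheme.{u}} {I : Type u} (T : I → Over S)
    (hT : ∀ i, IsAffineHom (T i).hom ∧ Surjective (T i).hom) (c : Limits.Fan T) (hc : Limits.IsLimit c) :
    Surjective c.pt.hom := by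
  exact Groth.Agent.Helper7.ProdSurj.main T (fun i => (hT i).2) c hc

end Groth.Agent.S7394
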