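import Groth.Statements.S7397
import Mathlib.Tactic
-- import your own Groth.Agent.* helpers here

set_option autoImplicit false
universe u
open Mor

namespace Groth.Agent.S7397

/-- Let `A ⊆ B` be a ring extension and `b ∈ B`, `b ∉ A`, with `b^n, b^(n+1) ∈ A` for some `n ≥ 2`. Then
some `b' ∈ B` with `b' ∉ A` has `b'^2 ∈ A` and `b'^3 ∈ A`. -/
theorem result {B : Type u} [CommRing B] (A : Subring B) (b : B) (hb : b ∉ A)
    (n : ℕ) (hn : 2 ≤ n) (h1 : b ^ n ∈ A) (h2 : b ^ (n + 1) ∈ A) :
    ∃ b' : B, b' ∉ A ∧ b' ^ 2 ∈ A ∧ b' ^ 3 ∈ A := by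
  classical
  have hbig : ∀ m, n * n ≤ m → b ^ m ∈ A := by
    intro m hm
    obtain ⟨q, r, hr, rfl⟩ : ∃ q r, r < n ∧ m = n * q + r :=
      ⟨m / n, m % n, Nat.mod_lt _ (by omega), (Nat.div_add_mod m n).symm⟩
    have hq : n ≤ q := by
      by_contra hlt
      rw [not_le] at hlt
      have : n * q + r < n * n := by
        calc n * q + r < n * q + n := by omega
          _ = n * (q + 1) := by ring
          _ ≤ n * n := Nat.mul_le_mul_left _ hlt
      omega
    have : n * q + r = n * (q - r) + (n + 1) * r := by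
      have : q = (q - r) + r := by omega
      calc n * q + r = n * ((q - r) + r) + r := by rw [← this]
        _ = n * (q - r) + (n + 1) * r := by ring
    rw [this, pow_add, pow_mul, pow_mul]
    exact A.mul_mem (A.pow_mem h1 _) (A.pow_mem h2 _)
  set N := Nat.findGreatest (fun m => b ^ m ∉ A) (n * n) with hN
  have h1n : 1 ≤ n * n := by nlinarith
  have hspec : b ^ N ∉ A :=
    Nat.findGreatest_spec (P := fun m => b ^ m ∉ A) (m := 1) h1n (by simpa using hb)
  have hNpos : 1 ≤ N := Nat.le_findGreatest (P := fun m => b ^ m ∉ A) h1n (by simpa using hb)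
  have hgt : ∀ k, N < k → b ^ k ∈ A := by
    intro k hk
    by_cases hkn : k ≤ n * n
    · have := Nat.findGreatest_is_greatest (P := fun m => b ^ m ∉ A) hk hkn
      simpa using this
    · exact hbig k (by omega)
  refine ⟨b ^ N, hspec, ?_, ?_⟩
  · rw [← pow_mul]; exact hgt _ (by omega)
  · rw [← pow_mul]; exact hgt _ (by omega)

end Groth.Agent.S7397
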