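import Groth.Statements.S7412
-- import your own Groth.Agent.* helpers here

set_option autoImplicit false
universe u
open Desc

namespace Groth.Agent.S7412

/-- Let `R` be a ring and `f : M → N` a map of `R`-modules. Then `f` is universally injective (`f ⊗ 1_P`
is injective for every `R`-module `P`; here `P` ranges over modules in the same universe, which
suffices) if and only if the map of character modules `C(N) → C(M)`, `C(-) = Hom_ℤ(-, ℚ/ℤ)`, is a
split surjection of `R`-modules. -/
theorem result {R : Type u} [CommRing R] {M N : Type u}
    [AddCommGroup M] [Module R M] [AddCommGroup N] [Module R N] (f : M →ₗ[R] N) :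
    (∀ (P : Type u) [AddCommGroup P] [Module R P], Function.Injective (f.lTensor P)) ↔
      ∃ g : CharacterModule M →ₗ[R] CharacterModule N, (CharacterModule.dual f).comp g = LinearMap.id := by
  have he : ∀ (A B : Type u) [AddCommGroup A] [Module R A] [AddCommGroup B] [Module R B]
      (h : A →ₗ[R] CharacterModule B) (a : A) (b : B),
      CharacterModule.homEquiv h (TensorProduct.tmul R a b) = h a b := fun _ _ _ _ _ _ _ _ _ => rfl
  have hes : ∀ (A B : Type u) [AddCommGroup A] [Module R A] [AddCommGroup B] [Module R B]
      (c : CharacterModule (TensorProduct R A B)) (a : A) (b : B),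
      (CharacterModule.homEquiv.symm c) a b = c (TensorProduct.tmul R a b) :=
    fun _ _ _ _ _ _ _ _ _ => rfl
  have hd : ∀ (A B : Type u) [AddCommGroup A] [Module R A] [AddCommGroup B] [Module R B]
      (k : A →ₗ[R] B) (c : CharacterModule B) (a : A),
      (CharacterModule.dual k c) a = c (k a) := fun _ _ _ _ _ _ _ _ _ => rfl
  constructor
  · intro h
    have hinj := h (CharacterModule M)
    have hsurj := (CharacterModule.dual_surjective_iff_injective
      (f := f.lTensor (CharacterModule M))).mpr hinj
    obtain ⟨c, hc⟩ := hsurj (CharacterModule.homEquiv (R := R) (A := CharacterModule M) (B := M)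
      LinearMap.id)
    refine ⟨CharacterModule.homEquiv.symm c, ?_⟩
    ext χ m
    have h1 := congrArg (fun d : CharacterModule (TensorProduct R (CharacterModule M) M) =>
      d (TensorProduct.tmul R χ m)) hc
    rw [hd, he, LinearMap.lTensor_tmul] at h1
    rw [LinearMap.comp_apply, hd, hes]
    exact h1
  · rintro ⟨g, hg⟩ P _ _
    rw [← CharacterModule.dual_surjective_iff_injective]
    intro c'
    refine ⟨CharacterModule.homEquiv (g ∘ₗ CharacterModule.homEquiv.symm c'), ?_⟩
    apply CharacterModule.ext
    intro z
    induction z using TensorProduct.induction_on with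
    | zero => simp
    | add a b ha hb => rw [map_add, map_add, ha, hb]
    | tmul p m =>
      have h2 := congrArg (fun F : CharacterModule M →ₗ[R] CharacterModule M =>
        F (CharacterModule.homEquiv.symm c' p) m) hg
      simp only [LinearMap.comp_apply, LinearMap.id_apply] at h2
      rw [hd, hes] at h2
      rw [hd, LinearMap.lTensor_tmul, he, LinearMap.comp_apply]
      exact h2

end Groth.Agent.S7412
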