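import Groth.Statements.S7415
import Mathlib

set_option autoImplicit false
universe u
open CategoryTheory AlgebraicGeometry
open Mor

namespace Groth.Agent.S7415

section
open CategoryTheory AlgebraicGeometry

lemma finite_irr_of_openEmbedding {U X : Type*} [TopologicalSpace U] [TopologicalSpace X]
    {j : U → X} (hj : Topology.IsOpenEmbedding j) (h : (irreducibleComponents X).Finite) :
    (irreducibleComponents U).Finite := by
  refine Set.Finite.subset (h.image (fun W => j ⁻¹' W)) ?_
  intro Z hZ
  have hZirr : IsIrreducible Z := hZ.1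
  have himg : IsIrreducible (j '' Z) := hZirr.image j hj.continuous.continuousOn
  obtain ⟨W, hW, hWsub⟩ := exists_mem_irreducibleComponents_subset_of_isIrreducible _ himg
  refine ⟨W, hW, ?_⟩
  have hsub : Z ⊆ j ⁻¹' W := fun z hz => hWsub ⟨z, hz, rfl⟩
  have hirr : IsIrreducible (j ⁻¹' W) :=
    ⟨hZirr.nonempty.mono hsub, hW.1.isPreirreducible.preimage hj⟩
  exact (hZ.eq_of_ge hirr hsub)

lemma alg_crit (R : Type u) [CommRing R] [IsReduced R] (hfin : (minimalPrimes R).Finite)
    (I : Ideal R) (hI : I.IsPrime) :
    ∃ f : R, f ∉ I ∧ ∀ (x y : R), y * x = 0 → y ∉ I → ∃ n, f ^ n * x = 0 := by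
  classical
  obtain ⟨S, hS⟩ : ∃ S : Finset (Ideal R), ∀ q, q ∈ S ↔ q ∈ minimalPrimes R ∧ ¬ q ≤ I :=
    ⟨hfin.toFinset.filter (fun q => ¬ q ≤ I), fun q => by simp⟩
  have hnot : ¬ S.inf id ≤ I := by
    intro hle
    obtain ⟨q, hq, hqI⟩ := (Ideal.IsPrime.inf_le' hI).mp hle
    exact ((hS q).mp hq).2 hqI
  obtain ⟨f, hfS, hfI⟩ := SetLike.not_le_iff_exists.mp hnot
  refine ⟨f, hfI, fun x y hyx hy => ⟨1, ?_⟩⟩
  rw [pow_one]
  have hmem : f * x ∈ sInf (minimalPrimes R) := by
    rw [Submodule.mem_sInf]
    intro (q : Ideal R) hq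
    by_cases hqI : q ≤ I
    · have hqp : q.IsPrime := hq.1.1
      have : y * x ∈ q := by rw [hyx]; exact q.zero_mem
      rcases hqp.mem_or_mem this with h | h
      · exact absurd (hqI h) hy
      · exact q.mul_mem_left _ h
    · have : f ∈ q := by
        have h1 : S.inf id ≤ id q := Finset.inf_le ((hS q).mpr ⟨hq, hqI⟩)
        exact h1 hfS
      exact q.mul_mem_right _ this
  have h0 : sInf (minimalPrimes R) = ⊥ := by
    rw [minimalPrimes, Ideal.sInf_minimalPrimes]
    exact nilradical_eq_zero R
  rw [h0] at hmem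
  exact hmem

theorem main (X : Scheme.{u}) [AlgebraicGeometry.IsReduced X]
    (hirr : (irreducibleComponents (X : Type u)).Finite) (x : X) : X.IsGermInjectiveAt x := by
  have hall : ∀ i, (Spec (X.affineOpenCover.X i)).IsGermInjective := by
    intro i
    haveI : AlgebraicGeometry.IsReduced (Spec (X.affineOpenCover.X i)) :=
      isReduced_of_isOpenImmersion (X.affineOpenCover.f i)
    haveI : _root_.IsReduced (X.affineOpenCover.X i) :=
      (affine_isReduced_iff _).mp inferInstance
    have hfin1 : (irreducibleComponents (PrimeSpectrum (X.affineOpenCover.X i))).Finite :=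
      finite_irr_of_openEmbedding (X.affineOpenCover.f i).isOpenEmbedding hirr
    have hfin : (minimalPrimes (X.affineOpenCover.X i)).Finite := by
      rw [← PrimeSpectrum.vanishingIdeal_irreducibleComponents]
      exact hfin1.image _
    exact Scheme.IsGermInjective.Spec (fun I hI => alg_crit _ hfin I hI)
  haveI : ∀ i, ((X.affineOpenCover.openCover).X i).IsGermInjective := hall
  exact Scheme.IsGermInjective.of_openCover (X.affineOpenCover.openCover) x


end


/-- Let `X` be a reduced scheme with finitely many irreducible components and `x ∈ X`. Then `x` has an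
affine open neighbourhood `U` such that `O_X(U) → O_{X,x}` is injective. -/
theorem result (X : Scheme.{u}) [AlgebraicGeometry.IsReduced X]
    (hirr : (irreducibleComponents (X : Type u)).Finite) (x : X) : X.IsGermInjectiveAt x := by
  classical
  exact main X hirr x

end Groth.Agent.S7415
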