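import Groth.Statements.S7442
-- import your own Groth.Agent.* helpers here
import Groth.Agent.Lib.Helper7.FibDeg

set_option autoImplicit false
universe u
open CategoryTheory AlgebraicGeometry
open BddFib

namespace Groth.Agent.S7442

/-- Let `f : X → Y` and `h : Y → Z` with `g = h ∘ f`. If `f` is flat and surjective and `n` bounds the
degrees of the fibres of `g`, then `n` bounds the degrees of the fibres of `h`. -/
theorem result {X Y Z : Scheme.{u}} (f : X ⟶ Y) (h : Y ⟶ Z) [Flat f] [Surjective f]
    (n : ℕ) (hg : BddFib.FibreDegLE (f ≫ h) n) : BddFib.FibreDegLE h n := by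
  intro z
  exact Groth.Agent.Helper7.FibDeg.finiteOfDegLE_of_flat_surjective z _ _
    (Groth.Agent.Helper7.FibDeg.fiberMap f h z)
    (Groth.Agent.Helper7.FibDeg.fiberMap_toSpec f h z) n (hg z)

end Groth.Agent.S7442
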