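import Groth.Statements.S7451
import Groth.Agent.Lib.Helper3.ElemInv

set_option autoImplicit false
universe u
open CategoryTheory AlgebraicGeometry
open Desc

namespace Groth.Agent.S7451

/-- Let `k` be a field and `n ≥ 2`. For `i ≠ j` and `d ≥ 0` let `T_{i,j,d}` be the automorphism of
`𝔸^n_k` given by `x_i ↦ x_i + x_j^d` and fixing the other coordinates. Let `W ⊆ 𝔸^n_k` be a nonempty
open subscheme with `T_{i,j,d}⁻¹(W) = W` for all `i, j, d`. Then either `W = 𝔸^n_k`, or `k` has
prime characteristic `p` and the complement `𝔸^n_k ∖ W` consists of finitely many closed points,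
each of whose coordinates `a` in the residue field satisfies `a^(p^m) = a` for some `m ≥ 1`
(equivalently, is algebraic over `𝔽_p`). -/
theorem result (k : Type u) [Field k] (n : ℕ) (hn : 2 ≤ n)
    (W : (Spec (CommRingCat.of (MvPolynomial (Fin n) k))).Opens)
    (hW : (W : Set ↥(Spec (CommRingCat.of (MvPolynomial (Fin n) k)))).Nonempty)
    (hinv : ∀ (i j : Fin n), i ≠ j → ∀ d : ℕ,
      (Spec.map (CommRingCat.ofHom (MvPolynomial.aeval (R := k)
        (Function.update MvPolynomial.X i (MvPolynomial.X i + MvPolynomial.X j ^ d) :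
          Fin n → MvPolynomial (Fin n) k)).toRingHom)) ⁻¹ᵁ W = W) :
    W = ⊤ ∨ ∃ p : ℕ, p.Prime ∧ CharP k p ∧ ((W : Set ↥(Spec (CommRingCat.of (MvPolynomial (Fin n) k))))ᶜ).Finite ∧
      ∀ x : ↥(Spec (CommRingCat.of (MvPolynomial (Fin n) k))),
        x ∉ (W : Set ↥(Spec (CommRingCat.of (MvPolynomial (Fin n) k)))) →
        IsClosed ({x} : Set ↥(Spec (CommRingCat.of (MvPolynomial (Fin n) k)))) ∧ ∀ i : Fin n, ∃ m : ℕ, 0 < m ∧
          (algebraMap (MvPolynomial (Fin n) k) x.asIdeal.ResidueField (MvPolynomial.X i)) ^ (p ^ m) =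
            algebraMap (MvPolynomial (Fin n) k) x.asIdeal.ResidueField (MvPolynomial.X i) := by
  classical
  obtain ⟨Z, hZdef⟩ : ∃ Z : Set (PrimeSpectrum (MvPolynomial (Fin n) k)),
      Z = (W : Set ↥(Spec (CommRingCat.of (MvPolynomial (Fin n) k))))ᶜ := ⟨_, rfl⟩
  have hZW : ∀ Q : PrimeSpectrum (MvPolynomial (Fin n) k), Q ∈ Z ↔
      Q ∉ (W : Set ↥(Spec (CommRingCat.of (MvPolynomial (Fin n) k)))) := by
    intro Q; rw [hZdef]; rfl
  have hZcl : IsClosed Z := by
    rw [hZdef]; exact W.isOpen.isClosed_compl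
  obtain ⟨J, hJdef⟩ : ∃ J : Ideal (MvPolynomial (Fin n) k),
      J = PrimeSpectrum.vanishingIdeal Z := ⟨_, rfl⟩
  have hmemZ : ∀ Q : PrimeSpectrum (MvPolynomial (Fin n) k), Q ∈ Z ↔ J ≤ Q.asIdeal := by
    intro Q
    have h1 : PrimeSpectrum.zeroLocus (J : Set (MvPolynomial (Fin n) k)) = Z := by
      rw [hJdef, PrimeSpectrum.zeroLocus_vanishingIdeal_eq_closure, hZcl.closure_eq]
    rw [← h1, PrimeSpectrum.mem_zeroLocus]
    rfl
  have hcomap : ∀ (i j : Fin n), i ≠ j → ∀ d : ℕ, ∀ Q : PrimeSpectrum (MvPolynomial (Fin n) k),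
      Q ∈ Z → PrimeSpectrum.comap (MvPolynomial.aeval (R := k)
        (Function.update MvPolynomial.X i (MvPolynomial.X i + MvPolynomial.X j ^ d) :
          Fin n → MvPolynomial (Fin n) k)).toRingHom Q ∈ Z := by
    intro i j hij d Q hQ
    rw [hZW] at hQ ⊢
    intro hc
    apply hQ
    have h1 : Q ∈ (Spec.map (CommRingCat.ofHom (MvPolynomial.aeval (R := k)
        (Function.update MvPolynomial.X i (MvPolynomial.X i + MvPolynomial.X j ^ d) :
          Fin n → MvPolynomial (Fin n) k)).toRingHom)) ⁻¹ᵁ W := hc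
    rw [hinv i j hij d] at h1
    exact h1
  have hstab : ∀ i j : Fin n, i ≠ j → ∀ d : ℕ, ∀ F ∈ J,
      MvPolynomial.aeval (R := k) (Function.update MvPolynomial.X i
        (MvPolynomial.X i + MvPolynomial.X j ^ d)) F ∈ J := by
    intro i j hij d F hF
    rw [hJdef, PrimeSpectrum.mem_vanishingIdeal] at hF ⊢
    intro Q hQ
    exact hF _ (hcomap i j hij d Q hQ)
  have hJ : J ≠ ⊥ := by
    intro hJ0
    obtain ⟨y, hy⟩ := hW
    have h1 : (y : PrimeSpectrum (MvPolynomial (Fin n) k)) ∈ Z :=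
      (hmemZ y).mpr (by rw [hJ0]; exact bot_le)
    exact (hZW y).mp h1 hy
  have hWtop : Z = ∅ → W = ⊤ := by
    intro hZe
    apply TopologicalSpace.Opens.ext
    ext x
    constructor
    · intro _; trivial
    · intro _
      by_contra hx
      have h1 : (x : PrimeSpectrum (MvPolynomial (Fin n) k)) ∈ Z := (hZW x).mpr hx
      rw [hZe] at h1
      exact h1
  obtain ⟨p, hp⟩ := CharP.exists k
  rcases CharP.char_is_prime_or_zero k p with hpp | hp0
  · haveI : Fact p.Prime := ⟨hpp⟩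
    right
    have key : ∀ Q : PrimeSpectrum (MvPolynomial (Fin n) k), Q ∈ Z →
        Q.asIdeal ∈ J.minimalPrimes ∧ Q.asIdeal.IsMaximal := by
      intro Q hQ
      obtain ⟨P, hP, hPQ⟩ := Ideal.exists_minimalPrimes_le ((hmemZ Q).mp hQ)
      haveI : P.IsPrime := hP.1.1
      have hmax : P.IsMaximal :=
        Groth.Agent.Lib.Helper3.ElemInv.isMaximal_of_alg p hpp.one_lt P
          (fun j => Groth.Agent.Lib.Helper3.ElemInv.alg_of_minimal p hn J hstab hJ P hP j)
      have hPeq : P = Q.asIdeal := hmax.eq_of_le Q.isPrime.ne_top hPQ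
      rw [← hPeq]
      exact ⟨hP, hmax⟩
    refine ⟨p, hpp, hp, ?_, ?_⟩
    · have hfin : Z.Finite := by
        have h1 : (PrimeSpectrum.asIdeal ⁻¹' J.minimalPrimes :
            Set (PrimeSpectrum (MvPolynomial (Fin n) k))).Finite :=
          (Ideal.finite_minimalPrimes_of_isNoetherianRing _ J).preimage
            (fun a _ b _ h => PrimeSpectrum.ext h)
        exact h1.subset (fun Q hQ => (key Q hQ).1)
      rw [hZdef] at hfin
      exact hfin
    · intro x hx
      have hxZ : (x : PrimeSpectrum (MvPolynomial (Fin n) k)) ∈ Z := (hZW x).mpr hx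
      obtain ⟨hmin, hmax⟩ := key x hxZ
      refine ⟨(PrimeSpectrum.isClosed_singleton_iff_isMaximal
        (x : PrimeSpectrum (MvPolynomial (Fin n) k))).mpr hmax, fun i => ?_⟩
      obtain ⟨m, hm, hmem⟩ :=
        Groth.Agent.Lib.Helper3.ElemInv.alg_of_minimal p hn J hstab hJ _ hmin i
      refine ⟨m, hm, ?_⟩
      have h1 := (Ideal.algebraMap_residueField_eq_zero (I := x.asIdeal)).mpr hmem
      rw [map_sub, map_pow, sub_eq_zero] at h1
      exact h1
  · left
    subst hp0
    haveI : CharZero k := CharP.charP_to_charZero k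
    apply hWtop
    by_contra hne
    obtain ⟨Q, hQ⟩ := Set.nonempty_iff_ne_empty.mpr hne
    obtain ⟨P, hP, _⟩ := Ideal.exists_minimalPrimes_le ((hmemZ Q).mp hQ)
    exact Groth.Agent.Lib.Helper3.ElemInv.no_minimalPrimes_of_charZero hn J hstab hJ P hP

end Groth.Agent.S7451
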