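import Groth.Statements.S7452
import Mathlib
import Groth.Prelude.Def_Grpd
import Groth.Agent.S1889
import Groth.Agent.S7457
-- import your own Groth.Agent.* helpers here

set_option autoImplicit false
universe u
open CategoryTheory CategoryTheory.Limits AlgebraicGeometry
open Grpd

namespace Groth.Agent.S7452

open CategoryTheory CategoryTheory.Limits AlgebraicGeometry
namespace Aux
open Groth.Agent.S7457.Aux

theorem main (S : Scheme.{u}) (G : Grpd.GroupoidScheme S) (k : Type u) [Field k]
    (eU : G.U ≅ Spec (CommRingCat.of k)) : IsOpenMap ⇑G.c := by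
  obtain ⟨hint, hsub⟩ := Groth.Agent.S1889.Aux.field_base G k eU
  have h1 : G.c = θ G ≫ pullback.snd G.t G.t := by
    unfold θ
    rw [pullback.lift_snd]
  haveI : IsIso (θ G) := ⟨φ₀ G, θ_φ₀ G, φ₀_θ G⟩
  rw [h1]
  have h2 : IsOpenMap ⇑(θ G) := (θ G).homeomorph.isOpenMap
  have h3 : IsOpenMap ⇑(pullback.snd G.t G.t) := (pullback.snd G.t G.t).isOpenMap
  have : ⇑(θ G ≫ pullback.snd G.t G.t) = ⇑(pullback.snd G.t G.t) ∘ ⇑(θ G) := by
    ext x
    rfl
  rw [this]
  exact h3.comp h2

end Aux

/-- Let (U, R, s, t, c) be a groupoid scheme over S with U the spectrum of a field. Then the composition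
c : R x_(s,U,t) R -> R is an open map of topological spaces. (A groupoid scheme carries U, R, s, t,
c, e, i over S with the groupoid axioms on T-points; c is defined on the fibre product of s and t
and sends a pair (a, b) with s(a) = t(b) to a composed with b.) -/
theorem result (S : Scheme.{u}) (G : Grpd.GroupoidScheme S) (k : Type u) [Field k] (eU : G.U ≅ Spec (CommRingCat.of k)) : IsOpenMap ⇑G.c := by
  exact Aux.main S G k eU

end Groth.Agent.S7452
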