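import Groth.Statements.S7453
import Mathlib
import Groth.Prelude.Def_Grpd
import Groth.Agent.S1886
-- import your own Groth.Agent.* helpers here

set_option autoImplicit false
universe u
open CategoryTheory CategoryTheory.Limits AlgebraicGeometry
open Grpd

namespace Groth.Agent.S7453

open CategoryTheory CategoryTheory.Limits AlgebraicGeometry
namespace Aux

/-- a section of a morphism to the spectrum of a field is a closed immersion -/
lemma isClosedImmersion_of_section {X : Scheme.{u}} (k : Type u) [Field k]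
    (ε : Spec (CommRingCat.of k) ⟶ X) (ρ : X ⟶ Spec (CommRingCat.of k)) (h : ε ≫ ρ = 𝟙 _) :
    IsClosedImmersion ε := by
  haveI : IsImmersion ε := by
    haveI : IsImmersion (ε ≫ ρ) := by rw [h]; infer_instance
    exact IsImmersion.of_comp ε ρ
  refine IsClosedImmersion.of_isPreimmersion ε ?_
  let pt : Spec (CommRingCat.of k) := IsLocalRing.closedPoint k
  have hsub : ∀ w : Spec (CommRingCat.of k), w = pt := fun w => Subsingleton.elim _ _
  have hrange : Set.range ⇑ε = {ε pt} := by
    ext x
    constructor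
    · rintro ⟨w, rfl⟩
      rw [hsub w]
      rfl
    · rintro rfl
      exact ⟨pt, rfl⟩
  rw [hrange, ← closure_subset_iff_isClosed]
  intro y hy
  obtain ⟨V, hV, hyV⟩ : ∃ V : X.Opens, IsAffineOpen V ∧ y ∈ V := by
    obtain ⟨_, ⟨V, hV, rfl⟩, hy', -⟩ :=
      (X.isBasis_affineOpens).exists_subset_of_mem_open (Set.mem_univ y) isOpen_univ
    exact ⟨V, hV, hy'⟩
  have hxV : ε pt ∈ V := by
    obtain ⟨z, hz1, hz2⟩ := mem_closure_iff.mp hy V V.2 hyV
    rw [Set.mem_singleton_iff] at hz2
    rw [← hz2]
    exact hz1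
  have hεV : Set.range ⇑ε ⊆ Set.range ⇑V.ι := by
    rw [hrange, Scheme.Opens.range_ι]
    intro x hx
    rw [Set.mem_singleton_iff] at hx
    rw [hx]
    exact hxV
  let ε' : Spec (CommRingCat.of k) ⟶ V := IsOpenImmersion.lift V.ι ε hεV
  have hε' : ε' ≫ V.ι = ε := IsOpenImmersion.lift_fac _ _ _
  let φ : Γ(X, V) ⟶ CommRingCat.of k := Spec.preimage (ε' ≫ hV.isoSpec.hom)
  let ψ : CommRingCat.of k ⟶ Γ(X, V) := Spec.preimage (hV.isoSpec.inv ≫ V.ι ≫ ρ)
  have hφψ : ψ ≫ φ = 𝟙 _ := by
    apply Spec.map_injective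
    rw [Spec.map_comp, Spec.map_preimage, Spec.map_preimage, Spec.map_id]
    simp only [Category.assoc, Iso.hom_inv_id_assoc]
    rw [← Category.assoc, hε', h]
  have hφsurj : Function.Surjective φ.hom := by
    intro a
    refine ⟨ψ.hom a, ?_⟩
    have := congrArg (fun g => g.hom a) hφψ
    exact this
  haveI hmax : (RingHom.ker φ.hom).IsMaximal := RingHom.ker_isMaximal_of_surjective _ hφsurj
  -- the point of `Spec Γ(X, V)`
  have hpt : (ε' ≫ hV.isoSpec.hom) pt = ⟨RingHom.ker φ.hom, inferInstance⟩ := by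
    have : ε' ≫ hV.isoSpec.hom = Spec.map φ := (Spec.map_preimage _).symm
    rw [this]
    apply PrimeSpectrum.ext
    show Ideal.comap φ.hom (IsLocalRing.closedPoint k).asIdeal = RingHom.ker φ.hom
    have : (IsLocalRing.closedPoint k).asIdeal = ⊥ := IsLocalRing.maximalIdeal_eq_bot
    rw [this]
    rfl
  have hclosed : IsClosed ({(ε' ≫ hV.isoSpec.hom) pt} : Set (Spec Γ(X, V))) := by
    rw [hpt]
    exact (PrimeSpectrum.isClosed_singleton_iff_isMaximal _).mpr hmax
  -- specialization
  have hspec : ε pt ⤳ y := specializes_iff_mem_closure.mpr hy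
  obtain ⟨y', hy'⟩ : y ∈ Set.range ⇑V.ι := by
    rw [Scheme.Opens.range_ι]
    exact hyV
  have e1 : V.ι (ε' pt) = ε pt := by rw [← Scheme.Hom.comp_apply, hε']
  have hspecV : (ε' pt) ⤳ y' := by
    rw [← V.ι.isOpenEmbedding.isInducing.specializes_iff, e1, hy']
    exact hspec
  have hspec2 := hspecV.map hV.isoSpec.hom.continuous
  have heq : hV.isoSpec.hom y' = (ε' ≫ hV.isoSpec.hom) pt := by
    have := hspec2.mem_closed hclosed (by rw [Scheme.Hom.comp_apply]; rfl)
    exact this
  have hinj : Function.Injective ⇑hV.isoSpec.hom := by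
    intro a b hab
    have := congrArg (⇑hV.isoSpec.inv) hab
    rwa [← Scheme.Hom.comp_apply, ← Scheme.Hom.comp_apply, Iso.hom_inv_id] at this
  rw [Scheme.Hom.comp_apply] at heq
  have := hinj heq
  rw [Set.mem_singleton_iff, ← hy', this, e1]

theorem main (S : Scheme.{u}) (G : Grpd.GroupoidScheme S) (k : Type u) [Field k]
    (eU : G.U ≅ Spec (CommRingCat.of k)) : G.R.IsSeparated := by
  haveI : IsAffine G.U := IsAffine.of_isIso eU.hom
  have h1 : IsClosedImmersion (eU.inv ≫ Groth.Agent.S1886.Aux.eS G) :=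
    isClosedImmersion_of_section k _ (pullback.snd G.j G.diag ≫ eU.hom) (by
      rw [Category.assoc, ← Category.assoc (Groth.Agent.S1886.Aux.eS G),
        Groth.Agent.S1886.Aux.eStab_snd, Category.id_comp, eU.inv_hom_id])
  have h2 : IsClosedImmersion (Groth.Agent.S1886.Aux.eS G) := by
    have : Groth.Agent.S1886.Aux.eS G = eU.hom ≫ (eU.inv ≫ Groth.Agent.S1886.Aux.eS G) := by
      rw [eU.hom_inv_id_assoc]
    rw [this]
    infer_instance
  have h3 : IsClosedImmersion G.eStab := h2
  have hm := Groth.Agent.S1886.Aux.main G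
  haveI h4 : IsSeparated G.j := (hm.1.1.trans hm.1.2).mpr h3
  haveI : (pullback G.pU G.pU).IsSeparated := by
    constructor
    have : terminal.from (pullback G.pU G.pU) = pullback.fst G.pU G.pU ≫ terminal.from G.U :=
      (terminal.comp_from _).symm
    rw [this]
    infer_instance
  constructor
  have : terminal.from G.R = G.j ≫ terminal.from _ := (terminal.comp_from _).symm
  rw [this]
  infer_instance

end Aux

/-- Let (U, R, s, t, c) be a groupoid scheme over S with U the spectrum of a field. Then R is a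
separated scheme. (A groupoid scheme carries U, R, s, t, c, e, i over S with the groupoid axioms on
T-points; c is defined on the fibre product of s and t and sends a pair (a, b) with s(a) = t(b) to a
composed with b.) -/
theorem result (S : Scheme.{u}) (G : Grpd.GroupoidScheme S) (k : Type u) [Field k] (eU : G.U ≅ Spec (CommRingCat.of k)) : G.R.IsSeparated := by
  exact Aux.main S G k eU

end Groth.Agent.S7453
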