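import Groth.Statements.S7456
import Mathlib
import Groth.Prelude.Def_Grpd
import Groth.Agent.S1894
-- import your own Groth.Agent.* helpers here

set_option autoImplicit false
universe u
open CategoryTheory CategoryTheory.Limits AlgebraicGeometry
open Grpd

namespace Groth.Agent.S7456

open CategoryTheory CategoryTheory.Limits AlgebraicGeometry
namespace Aux
open Groth.Agent.S1894.Aux

theorem main (S : Scheme.{u}) (G : Grpd.GroupoidScheme S) :
    (∀ W : Set G.U, ⇑G.s ⁻¹' (⇑G.t '' (⇑G.s ⁻¹' W)) = ⇑G.t ⁻¹' (⇑G.t '' (⇑G.s ⁻¹' W))) ∧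
    (IsOpenMap ⇑G.s → IsOpenMap ⇑G.t → QuasiCompact G.s → QuasiCompact G.t →
      ∀ u : G.U, ∃ W : G.U.Opens, IsCompact (W : Set G.U) ∧ u ∈ W ∧ G.s ⁻¹ᵁ W = G.t ⁻¹ᵁ W) := by
  have h1 : ∀ W : Set G.U, ⇑G.s ⁻¹' (⇑G.t '' (⇑G.s ⁻¹' W)) = ⇑G.t ⁻¹' (⇑G.t '' (⇑G.s ⁻¹' W)) := by
    intro W
    ext r
    exact ⟨fun h => sat_inv₁ G W r h, fun h => sat_inv₂ G W r h⟩
  refine ⟨h1, fun hso hto hsq htq u => ?_⟩
  obtain ⟨W₀, hW₀, huW₀⟩ : ∃ W₀ : G.U.Opens, IsAffineOpen W₀ ∧ u ∈ W₀ := by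
    obtain ⟨_, ⟨W₀, hW₀, rfl⟩, hu, -⟩ :=
      (G.U.isBasis_affineOpens).exists_subset_of_mem_open (Set.mem_univ u) isOpen_univ
    exact ⟨W₀, hW₀, hu⟩
  refine ⟨⟨⇑G.t '' (⇑G.s ⁻¹' (W₀ : Set G.U)), hto _ (W₀.2.preimage G.s.continuous)⟩, ?_, ?_, ?_⟩
  · exact (QuasiCompact.isCompact_preimage (f := G.s) _ W₀.2 hW₀.isCompact).image G.t.continuous
  · exact sub_sat G _ huW₀
  · ext r
    exact Set.ext_iff.mp (h1 (W₀ : Set G.U)) r

end Aux

/-- Let (U, R, s, t, c) be a groupoid scheme over S. For every subset W of U, the subset t(s^{-1}(W)) is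
set-theoretically R-invariant: its preimages under s and t coincide. If moreover s and t are open
maps and quasi-compact, then U is covered by R-invariant quasi-compact open subsets. (The published
statement also asserts that this set is open when W is open and s, t are open maps; this row omits
that clause.) (A groupoid scheme carries U, R, s, t, c, e, i over S with the groupoid axioms on
T-points; c is defined on the fibre product of s and t and sends a pair (a, b) with s(a) = t(b) to a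
composed with b.) -/
theorem result (S : Scheme.{u}) (G : Grpd.GroupoidScheme S) : (∀ W : Set G.U, ⇑G.s ⁻¹' (⇑G.t '' (⇑G.s ⁻¹' W)) = ⇑G.t ⁻¹' (⇑G.t '' (⇑G.s ⁻¹' W))) ∧ (IsOpenMap ⇑G.s → IsOpenMap ⇑G.t → QuasiCompact G.s → QuasiCompact G.t → ∀ u : G.U, ∃ W : G.U.Opens, IsCompact (W : Set G.U) ∧ u ∈ W ∧ G.s ⁻¹ᵁ W = G.t ⁻¹ᵁ W) := by
  exact Aux.main S G

end Groth.Agent.S7456
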