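import Groth.Statements.S7461
import Mathlib
import Groth.Prelude.Def_Grpd
import Groth.Prelude.Def_Mor2
import Groth.Agent.S1888
import Groth.Agent.S1891
import Groth.Agent.S7457
-- import your own Groth.Agent.* helpers here

set_option autoImplicit false
universe u
open CategoryTheory CategoryTheory.Limits AlgebraicGeometry
open Grpd

namespace Groth.Agent.S7461

open CategoryTheory CategoryTheory.Limits AlgebraicGeometry
namespace Aux
open Groth.Agent.S1888.Aux Groth.Agent.S1891.Aux Groth.Agent.S7457.Aux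

variable {S : Scheme.{u}} (G : Grpd.GroupoidScheme S)

lemma i_i : G.i ≫ G.i = 𝟙 G.R := by
  have h : 𝟙 G.R ≫ G.s = G.i ≫ G.t := by rw [Category.id_comp, G.i_t]
  refine (eq_inv_of_comp G (𝟙 G.R) G.i h ?_).symm
  have h1 := comp_i' G (𝟙 G.R) G.i (Category.id_comp _).symm
  rw [h1, Category.id_comp, ← Category.assoc, G.i_s]

lemma isIso_i : IsIso G.i := ⟨G.i, i_i G, i_i G⟩

theorem main [IsFinite G.s] [Flat G.s] [LocallyOfFinitePresentation G.s] [IsFinite G.t] [Flat G.t] [LocallyOfFinitePresentation G.t] : ∃ V : ℕ → G.U.Opens, V 0 = ⊥ ∧ (∀ r r', r ≠ r' → Disjoint (V r) (V r')) ∧ (⨆ r, V r) = ⊤ ∧ ∀ r, G.s ⁻¹ᵁ V r = G.t ⁻¹ᵁ V r ∧ Mor2.IsFinLocFreeOfDeg r (G.s ∣_ V r) ∧ Mor2.IsFinLocFreeOfDeg r (G.t ∣_ V r) := by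
  have hi := isIso_i G
  have hst : G.t.finrank = G.s.finrank := by
    rw [← G.i_s]
    exact Scheme.Hom.finrank_comp_left_of_isIso G.i G.s
  have hlc : IsLocallyConstant G.s.finrank := G.s.isLocallyConstant_finrank
  have hinv : ∀ x : G.R, G.s.finrank (G.s x) = G.s.finrank (G.t x) := by
    intro x
    rw [← Scheme.Hom.finrank_pullback_snd G.s G.t x]
    exact (Scheme.Hom.finrank_of_isPullback _ _ _ _ (isPullback_c G) x).symm
  have hsurj : Surjective G.s := by
    constructor
    intro u
    refine ⟨G.e u, ?_⟩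
    have := congrArg (fun g : G.U ⟶ G.U => g u) G.e_s
    simpa using this
  have hpos : ∀ u, 1 ≤ G.s.finrank u := fun u =>
    ((Scheme.Hom.one_le_finrank_iff_surjective G.s).2 hsurj) u
  let V : ℕ → G.U.Opens := fun r => ⟨G.s.finrank ⁻¹' {r}, hlc.isOpen_fiber r⟩
  have hV : ∀ r (u : G.U), u ∈ V r ↔ G.s.finrank u = r := fun r u => Iff.rfl
  refine ⟨V, ?_, ?_, ?_, ?_⟩
  · ext u
    simp only [TopologicalSpace.Opens.coe_bot, Set.mem_empty_iff_false, iff_false]
    intro hu
    have := (hV 0 u).1 hu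
    have := hpos u
    omega
  · intro r r' hrr'
    rw [disjoint_iff]
    ext u
    simp only [TopologicalSpace.Opens.coe_inf, Set.mem_inter_iff, SetLike.mem_coe,
      TopologicalSpace.Opens.coe_bot, Set.mem_empty_iff_false, iff_false]
    rintro ⟨h1, h2⟩
    exact hrr' (((hV r u).1 h1).symm.trans ((hV r' u).1 h2))
  · rw [eq_top_iff]
    intro u _
    rw [TopologicalSpace.Opens.mem_iSup]
    exact ⟨G.s.finrank u, (hV _ u).2 rfl⟩
  · intro r
    refine ⟨?_, ?_, ?_⟩
    · ext x
      show G.s x ∈ V r ↔ G.t x ∈ V r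
      rw [hV, hV, hinv]
    · refine ⟨⟨inferInstance, inferInstance, inferInstance⟩, ?_⟩
      intro y
      rw [Scheme.Hom.finrank_of_isPullback _ _ _ _ (isPullback_morphismRestrict G.s (V r)).flip y]
      exact (hV r _).1 y.2
    · refine ⟨⟨inferInstance, inferInstance, inferInstance⟩, ?_⟩
      intro y
      rw [Scheme.Hom.finrank_of_isPullback _ _ _ _ (isPullback_morphismRestrict G.t (V r)).flip y]
      rw [hst]
      exact (hV r _).1 y.2

end Aux

/-- Let (U, R, s, t, c) be a groupoid scheme over S with s and t finite locally free. Then U is a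
disjoint union of R-invariant open subschemes U_r, r = 1, 2, 3, ..., such that s and t restricted
over U_r are finite locally free of rank r. Here the decomposition is indexed by all natural numbers
with U_0 empty, R-invariance of U_r means s^{-1}(U_r) = t^{-1}(U_r), and 'finite locally free of
rank r' means finite, flat, locally of finite presentation with rank function constant equal to r.
(A groupoid scheme carries U, R, s, t, c, e, i over S with the groupoid axioms on T-points; c is
defined on the fibre product of s and t and sends a pair (a, b) with s(a) = t(b) to a composed with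
b.) -/
theorem result (S : Scheme.{u}) (G : Grpd.GroupoidScheme S) [IsFinite G.s] [Flat G.s] [LocallyOfFinitePresentation G.s] [IsFinite G.t] [Flat G.t] [LocallyOfFinitePresentation G.t] : ∃ V : ℕ → G.U.Opens, V 0 = ⊥ ∧ (∀ r r', r ≠ r' → Disjoint (V r) (V r')) ∧ (⨆ r, V r) = ⊤ ∧ ∀ r, G.s ⁻¹ᵁ V r = G.t ⁻¹ᵁ V r ∧ Mor2.IsFinLocFreeOfDeg r (G.s ∣_ V r) ∧ Mor2.IsFinLocFreeOfDeg r (G.t ∣_ V r) := by
  exact Aux.main G

end Groth.Agent.S7461
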