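import Groth.Statements.S7463
import Mathlib
import Groth.Prelude.Def_Grpd
import Groth.Agent.S1888
import Groth.Agent.S1889
import Groth.Agent.S1892
import Groth.Agent.S1886
-- import your own Groth.Agent.* helpers here

set_option autoImplicit false
universe u
open CategoryTheory CategoryTheory.Limits AlgebraicGeometry
open Grpd

namespace Groth.Agent.S7463

open CategoryTheory CategoryTheory.Limits AlgebraicGeometry
open Groth.Agent.S1888.Aux
namespace Aux
open Groth.Agent.S1892.Aux Groth.Agent.S1886.Aux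

variable {S : Scheme.{u}} (G : Grpd.GroupoidScheme S)
  (pr02 : pullback (pullback.snd G.pU G.pU) (pullback.fst G.pU G.pU) ⟶ pullback G.pU G.pU)
  (h0 : pr02 ≫ pullback.fst G.pU G.pU = pullback.fst (pullback.snd G.pU G.pU)
    (pullback.fst G.pU G.pU) ≫ pullback.fst G.pU G.pU)
  (h1 : pr02 ≫ pullback.snd G.pU G.pU = pullback.snd (pullback.snd G.pU G.pU)
    (pullback.fst G.pU G.pU) ≫ pullback.snd G.pU G.pU)

include h0 h1 in
lemma trans_T {T : Scheme.{u}}
    (π : T ⟶ pullback (pullback.snd G.pU G.pU) (pullback.fst G.pU G.pU)) (ρ₁ ρ₂ : T ⟶ G.R)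
    (e1 : π ≫ pullback.fst _ _ = ρ₁ ≫ G.j) (e2 : π ≫ pullback.snd _ _ = ρ₂ ≫ G.j) :
    ∃ γ : T ⟶ G.R, π ≫ pr02 = γ ≫ G.j := by
  have hcomp : ρ₁ ≫ G.s = ρ₂ ≫ G.t := by
    rw [← j_snd, ← j_fst, ← Category.assoc, ← Category.assoc, ← e1, ← e2, Category.assoc,
      Category.assoc, pullback.condition]
  refine ⟨comp G ρ₁ ρ₂ hcomp, ?_⟩
  apply pullback.hom_ext
  · rw [Category.assoc, h0, Category.assoc, j_fst, comp_t, ← Category.assoc, e1, Category.assoc,
      j_fst]
  · rw [Category.assoc, h1, Category.assoc, j_snd, comp_s, ← Category.assoc, e2, Category.assoc,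
      j_snd]

include h0 h1 in
/-- `W · W ⊆ W` -/
lemma trans_mem (p : ↥(pullback (pullback.snd G.pU G.pU) (pullback.fst G.pU G.pU)))
    (hx : pullback.fst (pullback.snd G.pU G.pU) (pullback.fst G.pU G.pU) p ∈ Set.range ⇑G.j)
    (hy : pullback.snd (pullback.snd G.pU G.pU) (pullback.fst G.pU G.pU) p ∈ Set.range ⇑G.j) :
    pr02 p ∈ Set.range ⇑G.j := by
  obtain ⟨x₁, hx₁⟩ := hx
  obtain ⟨y₁, hy₁⟩ := hy
  obtain ⟨t₁, ht₁p, ht₁r⟩ := Scheme.Pullback.exists_preimage_pullback
    (f := pullback.fst (pullback.snd G.pU G.pU) (pullback.fst G.pU G.pU)) (g := G.j) p x₁ hx₁.symm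
  have h2 : (pullback.fst (pullback.fst (pullback.snd G.pU G.pU) (pullback.fst G.pU G.pU)) G.j ≫
      pullback.snd (pullback.snd G.pU G.pU) (pullback.fst G.pU G.pU)) t₁ = G.j y₁ := by
    rw [Scheme.Hom.comp_apply, ht₁p, hy₁]
  obtain ⟨τ, hτ1, hτ2⟩ := Scheme.Pullback.exists_preimage_pullback
    (f := pullback.fst (pullback.fst (pullback.snd G.pU G.pU) (pullback.fst G.pU G.pU)) G.j ≫
      pullback.snd (pullback.snd G.pU G.pU) (pullback.fst G.pU G.pU)) (g := G.j) t₁ y₁ h2
  have hq1 : (pullback.fst (pullback.fst (pullback.fst (pullback.snd G.pU G.pU)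
      (pullback.fst G.pU G.pU)) G.j ≫ pullback.snd (pullback.snd G.pU G.pU)
      (pullback.fst G.pU G.pU)) G.j ≫ pullback.fst (pullback.fst (pullback.snd G.pU G.pU)
      (pullback.fst G.pU G.pU)) G.j) ≫ pullback.fst (pullback.snd G.pU G.pU)
      (pullback.fst G.pU G.pU) =
      (pullback.fst (pullback.fst (pullback.fst (pullback.snd G.pU G.pU)
      (pullback.fst G.pU G.pU)) G.j ≫ pullback.snd (pullback.snd G.pU G.pU)
      (pullback.fst G.pU G.pU)) G.j ≫ pullback.snd (pullback.fst (pullback.snd G.pU G.pU)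
      (pullback.fst G.pU G.pU)) G.j) ≫ G.j := by
    rw [Category.assoc, Category.assoc, pullback.condition]
  have hq2 : (pullback.fst (pullback.fst (pullback.fst (pullback.snd G.pU G.pU)
      (pullback.fst G.pU G.pU)) G.j ≫ pullback.snd (pullback.snd G.pU G.pU)
      (pullback.fst G.pU G.pU)) G.j ≫ pullback.fst (pullback.fst (pullback.snd G.pU G.pU)
      (pullback.fst G.pU G.pU)) G.j) ≫ pullback.snd (pullback.snd G.pU G.pU)
      (pullback.fst G.pU G.pU) =
      pullback.snd (pullback.fst (pullback.fst (pullback.snd G.pU G.pU)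
      (pullback.fst G.pU G.pU)) G.j ≫ pullback.snd (pullback.snd G.pU G.pU)
      (pullback.fst G.pU G.pU)) G.j ≫ G.j := by
    rw [Category.assoc]
    exact pullback.condition
  obtain ⟨γ, hγ⟩ := trans_T G pr02 h0 h1 _ _ _ hq1 hq2
  refine ⟨γ τ, ?_⟩
  rw [← Scheme.Hom.comp_apply, ← hγ]
  simp only [Scheme.Hom.comp_apply]
  rw [hτ1, ht₁p]

include h0 h1 in
/-- `W · Z ⊆ Z` -/
lemma trans_mem_WC [UniversallyOpen (G.j ≫ pullback.snd G.pU G.pU)]
    (p : ↥(pullback (pullback.snd G.pU G.pU) (pullback.fst G.pU G.pU)))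
    (hx : pullback.fst (pullback.snd G.pU G.pU) (pullback.fst G.pU G.pU) p ∈ Set.range ⇑G.j)
    (hy : pullback.snd (pullback.snd G.pU G.pU) (pullback.fst G.pU G.pU) p ∈
      closure (Set.range ⇑G.j)) :
    pr02 p ∈ closure (Set.range ⇑G.j) := by
  obtain ⟨x₁, hx₁⟩ := hx
  obtain ⟨y, hyp, hyx⟩ := Scheme.Pullback.exists_preimage_pullback
    (f := pullback.fst (pullback.snd G.pU G.pU) (pullback.fst G.pU G.pU)) (g := G.j) p x₁ hx₁.symm
  have hopen := open_D' (pullback.snd G.pU G.pU) (pullback.fst G.pU G.pU) G.j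
  have hy' : y ∈ closure (⇑(pullback.fst (pullback.fst (pullback.snd G.pU G.pU)
      (pullback.fst G.pU G.pU)) G.j ≫ pullback.snd (pullback.snd G.pU G.pU)
      (pullback.fst G.pU G.pU)) ⁻¹' (Set.range ⇑G.j)) := by
    rw [← hopen.preimage_closure_eq_closure_preimage (Scheme.Hom.continuous _)]
    show (pullback.fst (pullback.fst (pullback.snd G.pU G.pU) (pullback.fst G.pU G.pU)) G.j ≫
      pullback.snd (pullback.snd G.pU G.pU) (pullback.fst G.pU G.pU)) y ∈
      closure (Set.range ⇑G.j)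
    rw [Scheme.Hom.comp_apply, hyp]
    exact hy
  have := map_mem_closure (f := ⇑(pullback.fst (pullback.fst (pullback.snd G.pU G.pU)
      (pullback.fst G.pU G.pU)) G.j ≫ pr02))
    (t := Set.range ⇑G.j) (Scheme.Hom.continuous _) hy' ?_
  · rwa [Scheme.Hom.comp_apply, hyp] at this
  · intro y' hy'
    rw [Scheme.Hom.comp_apply]
    refine trans_mem G pr02 h0 h1 _ ⟨pullback.snd (pullback.fst (pullback.snd G.pU G.pU)
      (pullback.fst G.pU G.pU)) G.j y', ?_⟩ ?_
    · rw [← Scheme.Hom.comp_apply, ← Scheme.Hom.comp_apply, pullback.condition]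
    · rw [← Scheme.Hom.comp_apply]
      exact hy'

include h0 h1 in
/-- `Z · Z ⊆ Z` -/
lemma trans_mem_CC [IsIntegral G.U] [Subsingleton G.U]
    (p : ↥(pullback (pullback.snd G.pU G.pU) (pullback.fst G.pU G.pU)))
    (hx : pullback.fst (pullback.snd G.pU G.pU) (pullback.fst G.pU G.pU) p ∈
      closure (Set.range ⇑G.j))
    (hy : pullback.snd (pullback.snd G.pU G.pU) (pullback.fst G.pU G.pU) p ∈
      closure (Set.range ⇑G.j)) :
    pr02 p ∈ closure (Set.range ⇑G.j) := by
  set x := pullback.snd (pullback.snd G.pU G.pU) (pullback.fst G.pU G.pU) p with hxdef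
  let h : Spec ((pullback G.pU G.pU).residueField x) ⟶ pullback G.pU G.pU :=
    (pullback G.pU G.pU).fromSpecResidueField x
  have hh : ∀ w, h w = x := by
    intro w
    have : h w ∈ Set.range ⇑((pullback G.pU G.pU).fromSpecResidueField x) := ⟨w, rfl⟩
    rw [Scheme.range_fromSpecResidueField] at this
    exact this
  obtain ⟨w0⟩ : Nonempty (Spec ((pullback G.pU G.pU).residueField x)) := inferInstance
  obtain ⟨y, hyp, hyx⟩ := Scheme.Pullback.exists_preimage_pullback
    (f := pullback.snd (pullback.snd G.pU G.pU) (pullback.fst G.pU G.pU)) (g := h) p w0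
    (hh w0).symm
  have hopen := open_D (pullback.snd G.pU G.pU) (pullback.fst G.pU G.pU) h
  have hy' : y ∈ closure (⇑(pullback.fst (pullback.snd (pullback.snd G.pU G.pU)
      (pullback.fst G.pU G.pU)) h ≫ pullback.fst (pullback.snd G.pU G.pU)
      (pullback.fst G.pU G.pU)) ⁻¹' (Set.range ⇑G.j)) := by
    rw [← hopen.preimage_closure_eq_closure_preimage (Scheme.Hom.continuous _)]
    show (pullback.fst (pullback.snd (pullback.snd G.pU G.pU) (pullback.fst G.pU G.pU)) h ≫
      pullback.fst (pullback.snd G.pU G.pU) (pullback.fst G.pU G.pU)) y ∈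
      closure (Set.range ⇑G.j)
    rw [Scheme.Hom.comp_apply, hyp]
    exact hx
  have := map_mem_closure (f := ⇑(pullback.fst (pullback.snd (pullback.snd G.pU G.pU)
      (pullback.fst G.pU G.pU)) h ≫ pr02))
    (t := closure (Set.range ⇑G.j)) (Scheme.Hom.continuous _) hy' ?_
  · rw [closure_closure] at this
    rwa [Scheme.Hom.comp_apply, hyp] at this
  · intro y' hy'
    rw [Scheme.Hom.comp_apply]
    refine trans_mem_WC G pr02 h0 h1 _ ?_ ?_
    · rw [← Scheme.Hom.comp_apply]
      exact hy'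
    · rw [← Scheme.Hom.comp_apply, pullback.condition, Scheme.Hom.comp_apply, hh]
      exact hy

include h0 h1 in
theorem main (k : Type u) [Field k] (eU : G.U ≅ Spec (CommRingCat.of k))
    (p : ↑(pullback (pullback.snd G.pU G.pU) (pullback.fst G.pU G.pU)))
    (h₁ : pullback.fst (pullback.snd G.pU G.pU) (pullback.fst G.pU G.pU) p ∈
      closure (Set.range ⇑G.j))
    (h₂ : pullback.snd (pullback.snd G.pU G.pU) (pullback.fst G.pU G.pU) p ∈
      closure (Set.range ⇑G.j)) : pr02 p ∈ closure (Set.range ⇑G.j) := by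
  obtain ⟨hint, hsub⟩ := Groth.Agent.S1889.Aux.field_base G k eU
  exact trans_mem_CC G pr02 h0 h1 p h₁ h₂

end Aux

/-- Consider a groupoid scheme (U, R, s, t, c) over S in which U is the spectrum of a field, and write Z
for the closure of the image of the morphism j = (t, s) : R -> U x_S U. Then, set-theoretically,
pr_02 carries Z x_(pr_1,U,pr_0) Z into Z: given the morphism pr_02 from (U x_S U) x_(pr_1,U,pr_0) (U
x_S U) to U x_S U, whose components are pr_0 of the first factor and pr_1 of the second, any point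
both of whose projections land in Z is mapped to a point of Z. (A groupoid scheme consists of U, R,
s, t, c, e, i over S satisfying the groupoid axioms on T-points; c is defined on the fibre product
of s and t and takes a pair (a, b) with s(a) = t(b) to the composite of a with b.) -/
theorem result (S : Scheme.{u}) (G : Grpd.GroupoidScheme S) (k : Type u) [Field k] (eU : G.U ≅ Spec (CommRingCat.of k)) (pr02 : pullback (pullback.snd G.pU G.pU) (pullback.fst G.pU G.pU) ⟶ pullback G.pU G.pU) (h0 : pr02 ≫ pullback.fst G.pU G.pU = pullback.fst (pullback.snd G.pU G.pU) (pullback.fst G.pU G.pU) ≫ pullback.fst G.pU G.pU) (h1 : pr02 ≫ pullback.snd G.pU G.pU = pullback.snd (pullback.snd G.pU G.pU) (pullback.fst G.pU G.pU) ≫ pullback.snd G.pU G.pU) (p : ↑(pullback (pullback.snd G.pU G.pU) (pullback.fst G.pU G.pU))) (h₁ : pullback.fst (pullback.snd G.pU G.pU) (pullback.fst G.pU G.pU) p ∈ closure (Set.range ⇑G.j)) (h₂ : pullback.snd (pullback.snd G.pU G.pU) (pullback.fst G.pU G.pU) p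 ∈ closure (Set.range ⇑G.j)) : pr02 p ∈ closure (Set.range ⇑G.j) := by
  exact Aux.main G pr02 h0 h1 k eU p h₁ h₂

end Groth.Agent.S7463
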