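import Groth.Statements.S7464
import Mathlib
import Groth.Prelude.Def_Grpd
import Groth.Agent.S1894
-- import your own Groth.Agent.* helpers here

set_option autoImplicit false
universe u
open CategoryTheory CategoryTheory.Limits AlgebraicGeometry
open Grpd

namespace Groth.Agent.S7464

open CategoryTheory CategoryTheory.Limits AlgebraicGeometry
namespace Aux
open Groth.Agent.S1894.Aux

variable {S : Scheme.{u}} (G : Grpd.GroupoidScheme S)

lemma i_s_pt (r : G.R) : G.s (G.i r) = G.t r := by
  have := congrArg (fun g : G.R ⟶ G.U => g r) G.i_s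
  simpa using this

lemma i_t_pt (r : G.R) : G.t (G.i r) = G.s r := by
  have := congrArg (fun g : G.R ⟶ G.U => g r) G.i_t
  simpa using this

/-- no specializations inside a fibre of a locally quasi-finite morphism -/
lemma eq_of_specializes_fibre {X Y : Scheme.{u}} (f : X ⟶ Y) [LocallyQuasiFinite f] (x x' : X)
    (h : x ⤳ x') (hf : f x = f x') : x = x' := by
  have hd : _root_.IsDiscrete (f ⁻¹' {f x'}) := f.isDiscrete_preimage_singleton (f x')
  have : DiscreteTopology (f ⁻¹' {f x'}) := hd.to_subtype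
  let a : f ⁻¹' {f x'} := ⟨x, hf⟩
  let b : f ⁻¹' {f x'} := ⟨x', rfl⟩
  have hab : a ⤳ b := by
    rw [← Topology.IsInducing.subtypeVal.specializes_iff]
    exact h
  have := hab.eq
  exact congrArg Subtype.val this

theorem main [IsFinite G.s] [IsFinite G.t] (r : G.R) (hne : G.s r ≠ G.t r) :
    ¬ (G.s r ⤳ G.t r) := by
  intro hsp
  set u₀ := G.s r with hu₀
  set O : Set G.U := G.t '' (G.s ⁻¹' {u₀}) with hO
  have hOfin : O.Finite := (G.s.finite_preimage_singleton u₀).image _
  have hu₀O : u₀ ∈ O := sub_sat G {u₀} rfl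
  have hspecT : SpecializingMap G.t := (G.t.isClosedMap).specializingMap
  let size : G.U → ℕ := fun x => Set.ncard {y | y ∈ O ∧ x ⤳ y}
  have key : ∀ n : ℕ, ∀ ρ : G.R, G.s ρ ∈ O → G.s ρ ≠ G.t ρ → G.s ρ ⤳ G.t ρ →
      size (G.t ρ) = n → False := by
    intro n
    induction n using Nat.strong_induction_on with
    | _ n ih =>
      intro ρ hρO hρne hρsp hn
      -- ρ' = i ρ
      have h1 : G.t (G.i ρ) ⤳ G.t ρ := by rw [i_t_pt]; exact hρsp
      obtain ⟨ρ₂, hρ₂sp, hρ₂t⟩ := hspecT h1
      have hρ₂sp' : G.i ρ ⤳ ρ₂ := hρ₂sp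
      have h2 : G.t ρ ⤳ G.s ρ₂ := by
        have := hρ₂sp'.map G.s.continuous
        rwa [i_s_pt] at this
      have h3 : G.t ρ ≠ G.s ρ₂ := by
        intro heq
        have : G.i ρ = ρ₂ := eq_of_specializes_fibre G.s _ _ hρ₂sp' (by rw [i_s_pt, heq])
        apply hρne
        rw [← i_t_pt G ρ, this, hρ₂t]
      have htO : G.t ρ ∈ O := sat_inv₁ G _ ρ hρO
      have hs₂O : G.s ρ₂ ∈ O := sat_inv₂ G _ ρ₂ (by rw [hρ₂t]; exact htO)
      -- ρ₃ = i ρ₂
      refine ih (size (G.t (G.i ρ₂))) ?_ (G.i ρ₂) ?_ ?_ ?_ rfl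
      · rw [← hn, i_t_pt]
        apply Set.ncard_lt_ncard
        · refine ⟨fun y hy => ⟨hy.1, h2.trans hy.2⟩, fun hsub => ?_⟩
          have : G.t ρ ∈ {y | y ∈ O ∧ G.s ρ₂ ⤳ y} := hsub ⟨htO, specializes_rfl⟩
          exact h3 (h2.antisymm this.2).eq
        · exact hOfin.subset (fun y hy => hy.1)
      · rw [i_s_pt, hρ₂t]; exact htO
      · rw [i_s_pt, i_t_pt, hρ₂t]; exact h3
      · rw [i_s_pt, i_t_pt, hρ₂t]; exact h2
  exact key _ r hu₀O hne hsp rfl

end Aux

/-- Let (U, R, s, t, c) be a groupoid scheme over S with s and t finite, and let u, u' be distinct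
points of U in the same orbit, say u = s(r) and u' = t(r). Then u' does not lie in the closure of u.
(The published statement calls u, u' points of R; this row takes them to be points of U, as the
orbit condition and the proof require.) (A groupoid scheme carries U, R, s, t, c, e, i over S with
the groupoid axioms on T-points; c is defined on the fibre product of s and t and sends a pair (a,
b) with s(a) = t(b) to a composed with b.) -/
theorem result (S : Scheme.{u}) (G : Grpd.GroupoidScheme S) [IsFinite G.s] [IsFinite G.t] (r : G.R) (hne : G.s r ≠ G.t r) : ¬ (G.s r ⤳ G.t r) := by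
  exact Aux.main G r hne

end Groth.Agent.S7464
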