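import Groth.Statements.S7474
-- import your own Groth.Agent.* helpers here
import Mathlib
import Groth.Agent.Lib.Helper7.VSheaf

set_option autoImplicit false
universe w u
open HTop

namespace Groth.Agent.S7474

open CategoryTheory CategoryTheory.Limits AlgebraicGeometry in
/-- A presheaf F of sets on the category of all schemes has the sheaf property for every V covering
family exactly when F is a sheaf for the Zariski topology and has the sheaf property for each
standard V covering. -/
theorem result (F : Scheme.{u}ᵒᵖ ⥤ Type w) : HTop.IsVSheaf F ↔ (Presieve.IsSheaf Scheme.zariskiTopology F ∧ ∀ (T : Scheme.{u}) (E : PreZeroHypercover.{u} T), HTop.IsStandardV E → Presieve.IsSheafFor F E.presieve₀) := by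
  constructor
  · intro hV
    refine ⟨?_, ?_⟩
    · rw [Precoverage.isSheaf_toGrothendieck_iff_of_isStableUnderBaseChange]
      intro X R hR
      have hR' : R ∈ Scheme.fpqcPrecoverage X := Scheme.zariskiPrecoverage_le_fpqcPrecoverage X hR
      obtain ⟨E, rfl⟩ := R.exists_eq_preZeroHypercover
      let 𝒰 : Scheme.Cover Scheme.fpqcPrecoverage X := ⟨E, hR'⟩
      have hcov : HTop.IsVCover E := Groth.Agent.Helper7.VCov.isVCover_of_fpqc 𝒰
      exact hV _ ((HTop.presieve₀_mem_vPrecoverage_iff E).mpr hcov)
    · intro T E hE
      exact hV _ ((HTop.presieve₀_mem_vPrecoverage_iff E).mpr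
        (Groth.Agent.Helper7.VSheaf.isVCover_of_isStandardV E hE))
  · rintro ⟨hZ, hstd⟩ X R hR
    rw [HTop.vPrecoverage, PreZeroHypercoverFamily.mem_precoverage_iff] at hR
    obtain ⟨E, hE, rfl⟩ := hR
    exact Groth.Agent.Helper7.VSheaf.isSheafFor_of_isVCover F hZ hstd E hE

end Groth.Agent.S7474
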