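import Groth.Statements.S7475
-- import your own Groth.Agent.* helpers here
import Mathlib
import Groth.Agent.Lib.Helper7.VSheaf

set_option autoImplicit false
universe w u
open HTop

namespace Groth.Agent.S7475

open CategoryTheory CategoryTheory.Limits AlgebraicGeometry in
/-- Variant with a single arrow: a presheaf of sets on all schemes has the sheaf property for every V
covering family exactly when it is a Zariski sheaf and has the sheaf property for every morphism V
-> U of affine schemes that on its own forms a standard V covering. -/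
theorem result (F : Scheme.{u}ᵒᵖ ⥤ Type w) : HTop.IsVSheaf F ↔ (Presieve.IsSheaf Scheme.zariskiTopology F ∧ ∀ (U V : Scheme.{u}) (f : V ⟶ U), HTop.IsStandardV (PreZeroHypercover.singleton f) → Presieve.IsSheafFor F (Presieve.singleton f)) := by
  constructor
  · intro hV
    refine ⟨?_, ?_⟩
    · rw [Precoverage.isSheaf_toGrothendieck_iff_of_isStableUnderBaseChange]
      intro X R hR
      have hR' : R ∈ Scheme.fpqcPrecoverage X := Scheme.zariskiPrecoverage_le_fpqcPrecoverage X hR
      obtain ⟨E, rfl⟩ := R.exists_eq_preZeroHypercover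
      let 𝒰 : Scheme.Cover Scheme.fpqcPrecoverage X := ⟨E, hR'⟩
      have hcov : HTop.IsVCover E := Groth.Agent.Helper7.VCov.isVCover_of_fpqc 𝒰
      exact hV _ ((HTop.presieve₀_mem_vPrecoverage_iff E).mpr hcov)
    · intro U V f hf
      have h1 := hV _ ((HTop.presieve₀_mem_vPrecoverage_iff _).mpr
        (Groth.Agent.Helper7.VSheaf.isVCover_of_isStandardV _ hf))
      rwa [PreZeroHypercover.presieve₀_singleton] at h1
  · rintro ⟨hZ, hstd1⟩ X R hR
    rw [HTop.vPrecoverage, PreZeroHypercoverFamily.mem_precoverage_iff] at hR
    obtain ⟨E, hE, rfl⟩ := hR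
    exact Groth.Agent.Helper7.VSheaf.isSheafFor_of_isVCover F hZ
      (Groth.Agent.Helper7.VSheaf.isSheafFor_of_singleton F hZ hstd1) E hE

end Groth.Agent.S7475
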