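import Groth.Statements.S7476
-- import your own Groth.Agent.* helpers here
import Mathlib
import Groth.Agent.Lib.Helper7.VCov4

set_option autoImplicit false
universe w u
open HTop

namespace Groth.Agent.S7476

open CategoryTheory CategoryTheory.Limits AlgebraicGeometry in
/-- Let f : X -> Y be a quasi-compact morphism of schemes. Then the one-member family of f is a V
covering if and only if every morphism from the spectrum of a valuation ring to Y lifts to X after
an extension of valuation rings; and the latter holds if and only if for every morphism Z -> Y and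
every specialization z' ⤳ z of points of Z there is a specialization w' ⤳ w of points of Z x_Y X
mapping to z' ⤳ z. -/
theorem result {X Y : Scheme.{u}} (f : X ⟶ Y) [QuasiCompact f] : (HTop.IsVCover (PreZeroHypercover.singleton f) ↔ HTop.HasValLift (PreZeroHypercover.singleton f)) ∧ (HTop.HasValLift (PreZeroHypercover.singleton f) ↔ ∀ (Z : Scheme.{u}) (g : Z ⟶ Y) (z' z : Z), z' ⤳ z → ∃ w' w : ↑(pullback g f), w' ⤳ w ∧ pullback.fst g f w' = z' ∧ pullback.fst g f w = z) := by
  refine ⟨⟨fun h => ?_, fun h => ?_⟩,
    ⟨fun h Z g z' z hz => Groth.Agent.Helper7.VCov.specializes_lift_of_hasValLift f h Z g z' z hz,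
    fun h => Groth.Agent.Helper7.VCov.hasValLift_singleton_of_specializes_lift f h⟩⟩
  · have h1 := Groth.Agent.Helper7.VCov.hasValLift_of_isVCover _ h
    exact Groth.Agent.Helper7.VCov.hasValLift_singleton_of_specializes_lift f
      (fun Z g z' z hz =>
        Groth.Agent.Helper7.VCov.specializes_lift_of_hasValLift f h1 Z g z' z hz)
  · apply Groth.Agent.Helper7.VCov.isVCover_singleton_of_hasValLift f
    exact Groth.Agent.Helper7.VCov.hasValLift_singleton_of_specializes_lift f
      (fun Z g z' z hz =>
        Groth.Agent.Helper7.VCov.specializes_lift_of_hasValLift f h Z g z' z hz)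

end Groth.Agent.S7476
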