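import Groth.Statements.S7478
-- import your own Groth.Agent.* helpers here
import Mathlib

set_option autoImplicit false
universe w u
open HTop

namespace Groth.Agent.S7478

open CategoryTheory CategoryTheory.Limits AlgebraicGeometry in
/-- The base change of a standard ph covering along a morphism of affine schemes T' -> T is a standard
ph covering of T'. -/
theorem result {T T' : Scheme.{u}} [IsAffine T'] (g : T' ⟶ T) (E : PreZeroHypercover.{w} T) (hE : HTop.IsStandardPh E) : HTop.IsStandardPh (E.pullback₁ g) := by
  have hT : IsAffine T := hE.isAffine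
  refine ⟨inferInstance, hE.finite_index, ?_, ?_⟩
  · intro j
    have : IsAffine (E.X j) := hE.isAffine_obj j
    exact inferInstanceAs (IsAffine (pullback g (E.f j)))
  · obtain ⟨U, f, ι, hproper, hsurj, hopen, hι, hcov⟩ := hE.exists_proper
    -- the comparison morphisms
    have hcond : ∀ j : E.I₀, pullback.fst g (E.f j) ≫ g = (pullback.snd g (E.f j) ≫ ι j) ≫ f := by
      intro j
      rw [Category.assoc, hι, pullback.condition]
    let ι' : ∀ j : E.I₀, pullback g (E.f j) ⟶ pullback g f := fun j =>
      pullback.lift (pullback.fst g (E.f j)) (pullback.snd g (E.f j) ≫ ι j) (hcond j)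
    have hι'fst : ∀ j, ι' j ≫ pullback.fst g f = pullback.fst g (E.f j) :=
      fun j => pullback.lift_fst _ _ _
    have hι'snd : ∀ j, ι' j ≫ pullback.snd g f = pullback.snd g (E.f j) ≫ ι j :=
      fun j => pullback.lift_snd _ _ _
    have hpb : ∀ j, IsPullback (ι' j) (pullback.snd g (E.f j)) (pullback.snd g f) (ι j) := by
      intro j
      have hbig : IsPullback (ι' j ≫ pullback.fst g f) (pullback.snd g (E.f j)) g (ι j ≫ f) := by
        rw [hι'fst, hι]
        exact IsPullback.of_hasPullback g (E.f j)
      exact IsPullback.of_right hbig (hι'snd j) (IsPullback.of_hasPullback g f)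
    refine ⟨pullback g f, pullback.fst g f, ι', ?_, ?_, ?_, ?_, ?_⟩
    · exact MorphismProperty.pullback_fst (P := @IsProper) _ _ hproper
    · exact MorphismProperty.pullback_fst (P := @Surjective) _ _ hsurj
    · intro j
      exact MorphismProperty.of_isPullback (P := @IsOpenImmersion) (hpb j).flip (hopen j)
    · intro j
      exact hι'fst j
    · intro x
      obtain ⟨j, y, hy⟩ := hcov (pullback.snd g f x)
      obtain ⟨z, hz1, hz2⟩ := Scheme.Pullback.exists_preimage_pullback
        (f := pullback.snd g f) (g := ι j) x y hy.symm
      refine ⟨j, (hpb j).isoPullback.inv z, ?_⟩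
      change ((hpb j).isoPullback.inv ≫ ι' j) z = x
      rw [IsPullback.isoPullback_inv_fst]
      exact hz1

end Groth.Agent.S7478
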