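import Groth.Statements.S7484
import Groth.Agent.Lib.Helper2.Desc.FinLocFree
import Groth.Agent.Lib.Helper2.Desc.OrbitCount


set_option autoImplicit false
open CategoryTheory CategoryTheory.Limits AlgebraicGeometry
universe u
open Desc

namespace Groth.Agent.S7484

/-- Let p : X -> Y be a surjective finite locally free morphism and d a positive integer such that for
every algebraically closed field k and every k-point of Y there are at most d k-points of X over it.
Let V be a scheme over X such that any d points of V (not necessarily distinct) lying over one point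
of Y are contained in an affine open of V. Then every descent datum on V relative to p is effective.
(Descent data are taken in functor-of-points form.) -/
theorem result {X Y : Scheme.{u}} (p : X ⟶ Y) [Surjective p] [IsFinite p] [Flat p] [LocallyOfFinitePresentation p] (d : ℕ) (hd : 0 < d) (hfib : ∀ (k : Type u) [Field k] [IsAlgClosed k] (y : Spec (CommRingCat.of k) ⟶ Y), Set.encard {x : Spec (CommRingCat.of k) ⟶ X | x ≫ p = y} ≤ d) (D : Desc.SchDD p) (hV : ∀ (y : Y) (v : Fin d → ↑(D.obj.left)), (∀ i, p (D.obj.hom (v i)) = y) → ∃ U : D.obj.left.Opens, IsAffineOpen U ∧ ∀ i, v i ∈ U) : ∃ W : Over Y, Nonempty ((Desc.toDD p).obj W ≅ D) := by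
  classical
  apply Groth.Agent.Helper2.DescSat.finLocFree_effective p D
  intro v
  have hcard : (Groth.Agent.Helper2.DescSat.orbit p D v).encard ≤ d :=
    Groth.Agent.Helper2.DescSat.encard_orbit_le p D d hfib v
  have hfin : (Groth.Agent.Helper2.DescSat.orbit p D v).Finite :=
    Set.finite_of_encard_le_coe hcard
  obtain ⟨f, hf⟩ : ∃ f : Fin d → D.obj.left,
      Set.range f = Groth.Agent.Helper2.DescSat.orbit p D v := by
    haveI : Fintype (Groth.Agent.Helper2.DescSat.orbit p D v) := hfin.fintype
    haveI : Nonempty (Groth.Agent.Helper2.DescSat.orbit p D v) :=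
      ⟨⟨v, Groth.Agent.Helper2.DescSat.mem_orbit_self p D v⟩⟩
    have hc : Fintype.card (Groth.Agent.Helper2.DescSat.orbit p D v) ≤ Fintype.card (Fin d) := by
      rw [Fintype.card_fin]
      have h1 : (Groth.Agent.Helper2.DescSat.orbit p D v).encard =
          (Fintype.card (Groth.Agent.Helper2.DescSat.orbit p D v) : ℕ∞) := by
        rw [Set.encard_eq_coe_toFinset_card, Set.toFinset_card]
      rw [h1] at hcard
      exact_mod_cast hcard
    obtain ⟨emb⟩ := Function.Embedding.nonempty_of_card_le hc
    refine ⟨fun i => (Function.invFun emb i).1, ?_⟩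
    ext w
    constructor
    · rintro ⟨i, rfl⟩
      exact (Function.invFun emb i).2
    · intro hw
      obtain ⟨i, hi⟩ := Function.invFun_surjective emb.injective ⟨w, hw⟩
      exact ⟨i, congrArg Subtype.val hi⟩
  obtain ⟨U, hU, hUs⟩ := hV (p (D.obj.hom v)) f (fun i =>
    Groth.Agent.Helper2.DescSat.orbit_over p D v (f i) (hf ▸ ⟨i, rfl⟩))
  have : IsAffine (U : Scheme.{u}) := hU
  refine ⟨U, ⟨U, hU, 𝟙 _, inferInstance⟩, ?_⟩
  intro T x₀ x₁ h w τ hτ
  have hmem := Groth.Agent.Helper2.DescSat.mem_orbit_of_φ p D x₀ x₁ h w τ v hτ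
  rw [← hf] at hmem
  obtain ⟨i, hi⟩ := hmem
  rw [← hi]
  exact hUs i

end Groth.Agent.S7484
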