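import Groth.Statements.S7494
import Mathlib

set_option autoImplicit false
universe u
open CategoryTheory MonoidalCategory CartesianMonoidalCategory MonObj GrpObj AlgebraicGeometry
open AlgGrp

namespace Groth.Agent.S7494

section
open CategoryTheory MonoidalCategory CartesianMonoidalCategory MonObj GrpObj AlgebraicGeometry

variable {S : Scheme.{u}} (G X : Over S) [GrpObj G] (a : AlgGrp.Action G X)

theorem act_mul {T : Over S} (g h : T ⟶ G) (x : T ⟶ X) :
    lift (g * h) x ≫ a.act = lift g (lift h x ≫ a.act) ≫ a.act := by
  have h1 : lift (lift g h) x ≫ (μ[G] ▷ X) = lift (g * h) x := by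
    rw [Hom.mul_def]
    simp
  have h2 : lift (lift g h) x ≫ (α_ G G X).hom ≫ (G ◁ a.act) = lift g (lift h x ≫ a.act) := by
    simp
  rw [← h1, Category.assoc, a.mul_act, ← h2]
  simp only [Category.assoc]

theorem act_one {T : Over S} (x : T ⟶ X) :
    lift (1 : T ⟶ G) x ≫ a.act = x := by
  have h1 : lift (toUnit T) x ≫ (η[G] ▷ X) = lift (1 : T ⟶ G) x := by
    rw [Hom.one_def]
    simp
  rw [← h1, Category.assoc, a.one_act]
  simp

theorem main : (∀ (T : Over S) (g : T ⟶ G) (x : T ⟶ X), lift g x ≫ a.act = x → g = toUnit T ≫ η[G]) ↔
    Mono (lift a.act (snd G X)).left := by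
  constructor
  · intro hfree
    haveI : Mono (lift a.act (snd G X)) := by
      constructor
      intro T p p' hpp
      have hp : p = lift (p ≫ fst G X) (p ≫ snd G X) := by
        ext <;> simp
      have hp' : p' = lift (p' ≫ fst G X) (p' ≫ snd G X) := by
        ext <;> simp
      have e1 : p ≫ a.act = p' ≫ a.act := by
        have := congrArg (· ≫ fst X X) hpp
        simpa using this
      have e2 : p ≫ snd G X = p' ≫ snd G X := by
        have := congrArg (· ≫ snd X X) hpp
        simpa using this
      set g := p ≫ fst G X
      set g' := p' ≫ fst G X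
      set x := p ≫ snd G X
      have key : lift (g'⁻¹ * g) x ≫ a.act = x := by
        rw [act_mul, ← hp, e1]
        conv_lhs => rw [hp', ← e2, ← act_mul]
        rw [inv_mul_cancel, act_one]
      have h1 : g'⁻¹ * g = 1 := by
        rw [Hom.one_def]; exact hfree T _ x key
      have h2 : g = g' := by
        have := congrArg (fun t => g' * t) h1
        simpa using this
      rw [hp, hp', ← e2]
      show lift g x = lift g' x
      rw [h2]
    infer_instance
  · intro hm
    haveI : Mono (lift a.act (snd G X)) := Over.mono_of_mono_left _
    intro T g x hgx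
    have h1 : lift g x ≫ lift a.act (snd G X) = lift (1 : T ⟶ G) x ≫ lift a.act (snd G X) := by
      ext
      · simp [hgx, act_one]
      · simp
    have h2 : lift g x = lift (1 : T ⟶ G) x := (cancel_mono _).1 h1
    have h3 := congrArg (· ≫ fst G X) h2
    simpa [Hom.one_def] using h3


end


/-- Let G be a group scheme over S acting on a scheme X over S by a. The action is free, meaning that
for every scheme T over S and all T-points g of G and x of X with g · x = x one has g = 1, if and
only if the morphism G x_S X -> X x_S X, (g, x) ↦ (a(g, x), x), is a monomorphism of schemes. -/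
theorem result {S : Scheme.{u}} (G X : Over S) [GrpObj G] (a : AlgGrp.Action G X) : (∀ (T : Over S) (g : T ⟶ G) (x : T ⟶ X), lift g x ≫ a.act = x → g = toUnit T ≫ η[G]) ↔ Mono (lift a.act (snd G X)).left := by
  classical
  exact main G X a

end Groth.Agent.S7494
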