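import Groth.Statements.S7496
import Mathlib

set_option autoImplicit false
universe w u
open CategoryTheory CategoryTheory.Limits AlgebraicGeometry
open HTop

namespace Groth.Agent.S7496
open CategoryTheory CategoryTheory.Limits AlgebraicGeometry

lemma isCompact_inter_preimage {X T : Scheme.{u}} [QuasiSeparatedSpace T] (g : X ⟶ T)
    (V : X.Opens) (hV : IsCompact (V : Set X)) (W : T.Opens) (hW : IsCompact (W : Set T)) :
    IsCompact ((V ⊓ g ⁻¹ᵁ W : X.Opens) : Set X) := by
  haveI : CompactSpace V := isCompact_iff_compactSpace.mp hV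
  haveI : QuasiCompact (V.ι ≫ g) := inferInstance
  have h1 : IsCompact ((V.ι ≫ g) ⁻¹' (W : Set T)) :=
    QuasiCompact.isCompact_preimage (f := V.ι ≫ g) _ W.2 hW
  have h2 := h1.image V.ι.continuous
  convert h2 using 1
  ext x
  simp only [TopologicalSpace.Opens.coe_inf, Set.mem_inter_iff, SetLike.mem_coe, Set.mem_image,
    Set.mem_preimage]
  constructor
  · rintro ⟨hxV, hxW⟩
    exact ⟨⟨x, hxV⟩, by simpa using hxW, rfl⟩
  · rintro ⟨y, hy, rfl⟩
    exact ⟨y.2, by simpa using hy⟩

theorem main {T : Scheme.{u}} [QuasiSeparatedSpace T] (E : PreZeroHypercover.{w} T) :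
    QuasiCompactCover E ↔ ∀ t : T, ∃ (n : ℕ) (i : Fin n → E.I₀) (V : ∀ j, (E.X (i j)).Opens),
      (∀ j, IsCompact (V j : Set (E.X (i j)))) ∧
        (⋃ j, ⇑(E.f (i j)) '' (V j : Set (E.X (i j)))) ∈ nhds t := by
  constructor
  · intro hE t
    obtain ⟨U, hU, ht, -⟩ := TopologicalSpace.Opens.isBasis_iff_nbhd.mp T.isBasis_affineOpens
      (TopologicalSpace.Opens.mem_top t)
    obtain ⟨n, a, V, ha, heq⟩ := (hU.isCompactOpenCovered E).exists_mem_of_isBasis
      (fun i => (E.X i).isBasis_affineOpens) (fun _ _ h => h.isCompact)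
    refine ⟨n, a, V, fun j => (ha j).isCompact, ?_⟩
    rw [heq]
    exact U.2.mem_nhds ht
  · intro h
    refine ⟨fun {U} hU => ?_⟩
    refine .of_isCompact_of_forall_exists_isCompactOpenCovered hU.isCompact (fun x hx => ?_)
    obtain ⟨n, i, V, hc, hn⟩ := h x
    obtain ⟨O, hOsub, hOopen, hxO⟩ := mem_nhds_iff.mp hn
    obtain ⟨W, hW, hxW, hWsub⟩ := TopologicalSpace.Opens.isBasis_iff_nbhd.mp T.isBasis_affineOpens
      (show x ∈ (⟨O, hOopen⟩ : T.Opens) ⊓ U from ⟨hxO, hx⟩)
    refine ⟨W, fun y hy => (hWsub hy).2, hxW, W.2, ?_⟩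
    refine .of_finite (κ := Fin n) i (fun j => V j ⊓ (E.f (i j)) ⁻¹ᵁ W)
      (fun j => isCompact_inter_preimage _ _ (hc j) _ hW.isCompact) ?_
    ext y
    simp only [Set.mem_iUnion, Set.mem_image, SetLike.mem_coe]
    constructor
    · rintro ⟨j, v, hv, rfl⟩
      exact hv.2
    · intro hy
      have hyO : y ∈ O := (hWsub hy).1
      obtain ⟨j, v, hv, rfl⟩ := Set.mem_iUnion.mp (hOsub hyO)
      exact ⟨j, v, ⟨hv, hy⟩, rfl⟩

end Groth.Agent.S7496

namespace Groth.Agent.S7496

/-- Let T be a quasi-separated scheme and {f_i : T_i -> T} a family of morphisms. Then every affine open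
of T is the union of the images of finitely many quasi-compact opens of the T_i (the
quasi-compactness condition in the definition of an fpqc covering) if and only if for every point t
of T there are finitely many quasi-compact opens U_j of members T_(i_j) such that the union of the
f_(i_j)(U_j) is a neighbourhood of t. (The published statement also asks every f_i to be flat, on
both sides, and lists two more equivalent forms of the quasi-compactness condition; this row omits
flatness, which plays no part in the equivalence, and states only the equivalence of the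
quasi-compactness condition with the neighbourhood condition.) -/
theorem result {T : Scheme.{u}} [QuasiSeparatedSpace T] (E : PreZeroHypercover.{w} T) : QuasiCompactCover E ↔ ∀ t : T, ∃ (n : ℕ) (i : Fin n → E.I₀) (V : ∀ j, (E.X (i j)).Opens), (∀ j, IsCompact (V j : Set (E.X (i j)))) ∧ (⋃ j, ⇑(E.f (i j)) '' (V j : Set (E.X (i j)))) ∈ nhds t := by
  exact main E

end Groth.Agent.S7496
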