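import Groth.Statements.S7497
import Mathlib

set_option autoImplicit false
universe u
open CategoryTheory CategoryTheory.Limits AlgebraicGeometry
open HTop

namespace Groth.Agent.S7497
universe w w'
open CategoryTheory CategoryTheory.Limits AlgebraicGeometry

open QuasiCompactCover in
lemma qc_bind {X : Scheme.{u}} (𝒰 : PreZeroHypercover.{w} X) [QuasiCompactCover 𝒰]
    (f : ∀ (x : 𝒰.I₀), PreZeroHypercover.{w'} (𝒰.X x)) [∀ x, QuasiCompactCover (f x)] :
    QuasiCompactCover (𝒰.bind f) where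
  isCompactOpenCovered_of_isAffineOpen {U} hU := by
    obtain ⟨s, hs, V, hcV, hU⟩ := hU.isCompactOpenCovered 𝒰
    have (i) (hi) : IsCompactOpenCovered ((f i).f ·) (V i hi) :=
      isCompactOpenCovered_of_isCompact (f i) (hcV i hi)
    choose t ht W hcW hV using this
    have : Finite s := hs
    have (i) (hi) : Finite (t i hi) := ht i hi
    refine .of_finite (κ := Σ (i : s), t i.1 i.2) (fun p ↦ ⟨p.1, p.2⟩) (fun p ↦ W _ p.1.2 _ p.2.2)
      (fun p ↦ hcW ..) ?_
    simpa [← hV, Set.iUnion_sigma, Set.iUnion_subtype, Set.image_iUnion, Set.image_image] using! hU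

theorem main {T : Scheme.{u}} (E : PreZeroHypercover.{u} T) (hflat : ∀ i, Flat (E.f i))
    (𝒱 : Scheme.Cover.{w} Scheme.fpqcPrecoverage T)
    (hloc : ∀ j, (E.pullback₁ (𝒱.f j)).presieve₀ ∈ Scheme.fpqcPrecoverage (𝒱.X j)) :
    E.presieve₀ ∈ Scheme.fpqcPrecoverage T := by
  have h𝒱 := 𝒱.mem₀
  obtain ⟨h𝒱qc, h𝒱P⟩ := h𝒱
  rw [Scheme.presieve₀_mem_qcPrecoverage_iff] at h𝒱qc
  rw [Scheme.presieve₀_mem_precoverage_iff] at h𝒱P
  have hlocqc : ∀ j, QuasiCompactCover (E.pullback₁ (𝒱.f j)) := fun j => by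
    have := (hloc j).1
    rwa [Scheme.presieve₀_mem_qcPrecoverage_iff] at this
  have hlocP : ∀ j, (∀ x, ∃ i, x ∈ Set.range ((E.pullback₁ (𝒱.f j)).f i)) := fun j => by
    have := (hloc j).2
    rw [Scheme.presieve₀_mem_precoverage_iff] at this
    exact this.1
  refine ⟨?_, ?_⟩
  · rw [Scheme.presieve₀_mem_qcPrecoverage_iff]
    haveI := h𝒱qc
    haveI := hlocqc
    haveI : QuasiCompactCover (𝒱.toPreZeroHypercover.bind fun j => E.pullback₁ (𝒱.f j)) :=
      qc_bind _ _
    exact QuasiCompactCover.of_hom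
      (𝒱 := 𝒱.toPreZeroHypercover.bind fun j => E.pullback₁ (𝒱.f j))
      ⟨fun i => i.2, fun i => pullback.snd _ _, fun i => pullback.condition.symm⟩
  · rw [Scheme.presieve₀_mem_precoverage_iff]
    refine ⟨fun t => ?_, hflat⟩
    obtain ⟨j, s, rfl⟩ := h𝒱P.1 t
    obtain ⟨i, z, hz⟩ := hlocP j s
    refine ⟨i, (pullback.snd (𝒱.f j) (E.f i)) z, ?_⟩
    rw [← hz]
    change (pullback.snd (𝒱.f j) (E.f i) ≫ E.f i) z = (pullback.fst (𝒱.f j) (E.f i) ≫ 𝒱.f j) z
    rw [pullback.condition]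

end Groth.Agent.S7497

namespace Groth.Agent.S7497

/-- Let {f_i : T_i -> T} be a family of flat morphisms of schemes and {g_j : S_j -> T} an fpqc covering
such that for every j the family of base changes {S_j x_T T_i -> S_j} is an fpqc covering. Then {f_i
: T_i -> T} is an fpqc covering. (fpqc coverings are Mathlib's: flat, jointly surjective, every
affine open of the target covered by images of finitely many quasi-compact opens.) -/
theorem result {T : Scheme.{u}} (E : PreZeroHypercover.{u} T) (hflat : ∀ i, Flat (E.f i)) (𝒱 : Scheme.Cover Scheme.fpqcPrecoverage T) (hloc : ∀ j, (E.pullback₁ (𝒱.f j)).presieve₀ ∈ Scheme.fpqcPrecoverage (𝒱.X j)) : E.presieve₀ ∈ Scheme.fpqcPrecoverage T := by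
  exact main E hflat 𝒱 hloc

end Groth.Agent.S7497
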