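import Groth.Statements.S7504
import Mathlib
import Groth.Prelude.Def_Grpd
import Groth.Agent.S1888
import Groth.Agent.S1891
import Groth.Agent.S7510
-- import your own Groth.Agent.* helpers here

set_option autoImplicit false
universe u
open CategoryTheory CategoryTheory.Limits AlgebraicGeometry
open Grpd

namespace Groth.Agent.S7504

open CategoryTheory CategoryTheory.Limits AlgebraicGeometry
namespace Aux
open Groth.Agent.S1888.Aux Groth.Agent.S1891.Aux Groth.Agent.S7510.Aux

variable {S : Scheme.{u}} (G : Grpd.GroupoidScheme S)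

section factB
variable {T : Scheme.{u}} (g : T ⟶ G.R)

lemma F_cond : pullback.fst G.s (g ≫ G.t) ≫ G.s = (pullback.snd G.s (g ≫ G.t) ≫ g) ≫ G.t := by
  rw [pullback.condition, Category.assoc]

/-- `(b, x) ↦ (b ∘ g x, x)` -/
noncomputable def F : pullback G.s (g ≫ G.t) ⟶ pullback G.s (g ≫ G.s) :=
  pullback.lift (comp G (pullback.fst G.s (g ≫ G.t)) (pullback.snd G.s (g ≫ G.t) ≫ g) (F_cond G g))
    (pullback.snd G.s (g ≫ G.t)) (by rw [comp_s, Category.assoc])

lemma F'_cond : pullback.fst G.s (g ≫ G.s) ≫ G.s =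
    ((pullback.snd G.s (g ≫ G.s) ≫ g) ≫ G.i) ≫ G.t := by
  rw [Category.assoc, G.i_t, pullback.condition, Category.assoc]

/-- `(a, x) ↦ (a ∘ (g x)⁻¹, x)` -/
noncomputable def F' : pullback G.s (g ≫ G.s) ⟶ pullback G.s (g ≫ G.t) :=
  pullback.lift (comp G (pullback.fst G.s (g ≫ G.s)) ((pullback.snd G.s (g ≫ G.s) ≫ g) ≫ G.i)
      (F'_cond G g))
    (pullback.snd G.s (g ≫ G.s)) (by rw [comp_s, Category.assoc, G.i_s, Category.assoc])

lemma F_snd : F G g ≫ pullback.snd G.s (g ≫ G.s) = pullback.snd G.s (g ≫ G.t) :=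
  pullback.lift_snd _ _ _

lemma F_fst : F G g ≫ pullback.fst G.s (g ≫ G.s) =
    comp G (pullback.fst G.s (g ≫ G.t)) (pullback.snd G.s (g ≫ G.t) ≫ g) (F_cond G g) :=
  pullback.lift_fst _ _ _

lemma F'_snd : F' G g ≫ pullback.snd G.s (g ≫ G.t) = pullback.snd G.s (g ≫ G.s) :=
  pullback.lift_snd _ _ _

lemma F'_fst : F' G g ≫ pullback.fst G.s (g ≫ G.t) =
    comp G (pullback.fst G.s (g ≫ G.s)) ((pullback.snd G.s (g ≫ G.s) ≫ g) ≫ G.i)
      (F'_cond G g) :=
  pullback.lift_fst _ _ _

lemma F_F' : F G g ≫ F' G g = 𝟙 _ := by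
  apply pullback.hom_ext
  · rw [Category.assoc, F'_fst, precomp, Category.id_comp]
    have e1 : F G g ≫ pullback.fst G.s (g ≫ G.s) =
      comp G (pullback.fst G.s (g ≫ G.t)) (pullback.snd G.s (g ≫ G.t) ≫ g) (F_cond G g) := F_fst G g
    have e2 : F G g ≫ (pullback.snd G.s (g ≫ G.s) ≫ g) ≫ G.i =
        (pullback.snd G.s (g ≫ G.t) ≫ g) ≫ G.i := by
      rw [← Category.assoc, ← Category.assoc, F_snd]
    rw [comp_congr G _ e1 e2]
    exact cancel_right G _ _ _
  · rw [Category.assoc, F'_snd, F_snd, Category.id_comp]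

lemma F'_F : F' G g ≫ F G g = 𝟙 _ := by
  apply pullback.hom_ext
  · rw [Category.assoc, F_fst, precomp, Category.id_comp]
    have e1 : F' G g ≫ pullback.fst G.s (g ≫ G.t) =
      comp G (pullback.fst G.s (g ≫ G.s)) ((pullback.snd G.s (g ≫ G.s) ≫ g) ≫ G.i)
        (F'_cond G g) := F'_fst G g
    have e2 : F' G g ≫ pullback.snd G.s (g ≫ G.t) ≫ g = pullback.snd G.s (g ≫ G.s) ≫ g := by
      rw [← Category.assoc, F'_snd]
    rw [comp_congr G _ e1 e2]
    refine cancel_right' G _ _ ?_
    rw [pullback.condition, Category.assoc]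
  · rw [Category.assoc, F_snd, F'_snd, Category.id_comp]

theorem factB (P : MorphismProperty Scheme.{u}) [P.RespectsIso] :
    P (pullback.snd G.s (g ≫ G.t)) ↔ P (pullback.snd G.s (g ≫ G.s)) := by
  have : IsIso (F G g) := ⟨F' G g, F_F' G g, F'_F G g⟩
  rw [← F_snd G g]
  exact P.cancel_left_of_respectsIso (F G g) _

end factB

theorem factA (P : MorphismProperty Scheme.{u}) (K : Precoverage Scheme.{u}) [P.IsLocalAtTarget K]
    {X Y V V' : Scheme.{u}} (f : X ⟶ Y) (g : V ⟶ Y) (h : V' ⟶ V)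
    (hh : Presieve.singleton h ∈ K V) :
    P (pullback.snd f g) ↔ P (pullback.snd f (h ≫ g)) := by
  have h1 : P (pullback.snd f g) ↔ P (pullback.snd (pullback.snd f g) h) := by
    rw [MorphismProperty.IsLocalAtTarget.iff_of_forall_pullbackSnd (P := P) hh]
    constructor
    · intro H
      exact H h (Presieve.singleton.mk)
    · intro H U g' _ hg'
      cases hg'
      exact H
  rw [h1, ← pullbackLeftPullbackSndIso_hom_snd f g h]
  exact (P.cancel_left_of_respectsIso (pullbackLeftPullbackSndIso f g h).hom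
    (pullback.snd f (h ≫ g)))

theorem restrict_iff (P : MorphismProperty Scheme.{u}) [P.RespectsIso] {X Y : Scheme.{u}}
    (f : X ⟶ Y) (W : Y.Opens) : P (f ∣_ W) ↔ P (pullback.snd f W.ι) := by
  have := (isPullback_morphismRestrict f W).flip
  rw [← this.isoPullback_hom_snd]
  exact (P.cancel_left_of_respectsIso this.isoPullback.hom (pullback.snd f W.ι))

theorem coreGen {X : Scheme.{u}} (f : X ⟶ G.U) (P' : MorphismProperty Scheme.{u}) [P'.IsStableUnderBaseChange]
    [P'.IsStableUnderComposition]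
    (hOI : ∀ {X Y : Scheme.{u}} (f : X ⟶ Y), IsOpenImmersion f → P' f)
    (hUO : ∀ {X Y : Scheme.{u}} (f : X ⟶ Y), P' f → IsOpenMap f)
    (P : MorphismProperty Scheme.{u}) [P.IsLocalAtTarget (Scheme.precoverage P')]
    (hs : Presieve.singleton G.s ∈ Scheme.precoverage P' G.U)
    (ht : Presieve.singleton G.t ∈ Scheme.precoverage P' G.U)
    (hB : ∀ {T : Scheme.{u}} (g : T ⟶ G.R),
      P (pullback.snd f (g ≫ G.s)) → P (pullback.snd f (g ≫ G.t)))
    (W : G.U.Opens) (hW : P (f ∣_ W)) (hmax : ∀ W' : G.U.Opens, P (f ∣_ W') → W' ≤ W) :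
    G.s ⁻¹ᵁ W = G.t ⁻¹ᵁ W := by
  rw [Scheme.singleton_mem_precoverage_iff] at hs ht
  obtain ⟨hs1, hs2⟩ := hs
  obtain ⟨ht1, ht2⟩ := ht
  set V : G.R.Opens := G.s ⁻¹ᵁ W with hV
  -- the cover sW
  have hsW : Presieve.singleton (G.s ∣_ W) ∈ Scheme.precoverage P' W.toScheme := by
    rw [Scheme.singleton_mem_precoverage_iff]
    refine ⟨?_, P'.of_isPullback (isPullback_morphismRestrict G.s W).flip hs2⟩
    intro w
    obtain ⟨r, hr⟩ := hs1 w.1
    have hrV : r ∈ V := by
      show G.s r ∈ W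
      rw [show G.s r = w.1 from hr]
      exact w.2
    let x : V.toScheme := ⟨r, hrV⟩
    refine ⟨x, ?_⟩
    apply W.ι.isOpenEmbedding.injective
    have e : (G.s ∣_ W ≫ W.ι) x = ((G.s ⁻¹ᵁ W).ι ≫ G.s) x := by rw [morphismRestrict_ι]
    exact e.trans hr
  -- the open image
  have hopen : IsOpen (G.t '' (V : Set G.R)) := hUO G.t ht2 _ V.2
  let W' : G.U.Opens := ⟨G.t '' (V : Set G.R), hopen⟩
  have hrange : Set.range (V.ι ≫ G.t) ⊆ Set.range W'.ι := by
    rintro _ ⟨x, rfl⟩
    rw [Scheme.Opens.range_ι]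
    exact ⟨x.1, x.2, rfl⟩
  let t' : V.toScheme ⟶ W'.toScheme := IsOpenImmersion.lift W'.ι (V.ι ≫ G.t) hrange
  have ht' : t' ≫ W'.ι = V.ι ≫ G.t := IsOpenImmersion.lift_fac _ _ _
  have htW : Presieve.singleton t' ∈ Scheme.precoverage P' W'.toScheme := by
    rw [Scheme.singleton_mem_precoverage_iff]
    constructor
    · intro w
      obtain ⟨r, hrV, hr⟩ := w.2
      let x : V.toScheme := ⟨r, hrV⟩
      refine ⟨x, ?_⟩
      apply W'.ι.isOpenEmbedding.injective
      have e : (t' ≫ W'.ι) x = (V.ι ≫ G.t) x := by rw [ht']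
      exact e.trans hr
    · have hcomp : P' (V.ι ≫ G.t) := P'.comp_mem _ _ (hOI _ inferInstance) ht2
      have sq : IsPullback (𝟙 V.toScheme) t' (V.ι ≫ G.t) W'.ι :=
        IsPullback.of_horiz_isIso_mono ⟨by rw [Category.id_comp, ht']⟩
      exact P'.of_isPullback sq hcomp
  have hPiso : P.RespectsIso := inferInstance
  have step1 : P (pullback.snd f W.ι) := (restrict_iff P f W).1 hW
  have step2 : P (pullback.snd f ((G.s ∣_ W) ≫ W.ι)) :=
    (factA P _ f W.ι (G.s ∣_ W) hsW).1 step1
  rw [morphismRestrict_ι] at step2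
  have step3 : P (pullback.snd f (V.ι ≫ G.t)) := hB V.ι step2
  rw [← ht'] at step3
  have step4 : P (pullback.snd f W'.ι) := (factA P _ f W'.ι t' htW).2 step3
  have step5 : P (f ∣_ W') := (restrict_iff P f W').2 step4
  have hle : W' ≤ W := hmax W' step5
  have key : ∀ x : G.R, G.s x ∈ W → G.t x ∈ W := fun x hx => hle ⟨x, hx, rfl⟩
  ext x
  constructor
  · intro hx
    exact key x hx
  · intro hx
    show G.s x ∈ W
    have h1 : G.s (G.i x) = G.t x := by
      rw [← Scheme.Hom.comp_apply, G.i_s]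
    have h2 : G.t (G.i x) = G.s x := by
      rw [← Scheme.Hom.comp_apply, G.i_t]
    rw [← h2]
    apply key
    rw [h1]
    exact hx


theorem core (P' : MorphismProperty Scheme.{u}) [P'.IsStableUnderBaseChange]
    [P'.IsStableUnderComposition]
    (hOI : ∀ {X Y : Scheme.{u}} (f : X ⟶ Y), IsOpenImmersion f → P' f)
    (hUO : ∀ {X Y : Scheme.{u}} (f : X ⟶ Y), P' f → IsOpenMap f)
    (P : MorphismProperty Scheme.{u}) [P.IsLocalAtTarget (Scheme.precoverage P')]
    (hs : Presieve.singleton G.s ∈ Scheme.precoverage P' G.U)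
    (ht : Presieve.singleton G.t ∈ Scheme.precoverage P' G.U)
    (W : G.U.Opens) (hW : P (G.s ∣_ W)) (hmax : ∀ W' : G.U.Opens, P (G.s ∣_ W') → W' ≤ W) :
    G.s ⁻¹ᵁ W = G.t ⁻¹ᵁ W :=
  coreGen G G.s P' hOI hUO P hs ht (fun g h => (factB G g P).2 h) W hW hmax

theorem main (S : Scheme.{u}) (G : Grpd.GroupoidScheme S) (K : Precoverage Scheme.{u}) (hK : K = Scheme.zariskiPrecoverage ∨ K = Scheme.etalePrecoverage ∨ K = Scheme.precoverage @Smooth ∨ K = Scheme.fppfPrecoverage) (P : MorphismProperty Scheme.{u}) [P.IsLocalAtTarget K] (hs : Presieve.singleton G.s ∈ K G.U) (ht : Presieve.singleton G.t ∈ K G.U) (W : G.U.Opens) (hW : P (G.s ∣_ W)) (hmax : ∀ W' : G.U.Opens, P (G.s ∣_ W') → W' ≤ W) : G.s ⁻¹ᵁ W = G.t ⁻¹ᵁ W := by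
  have e1 : MorphismProperty.IsStableUnderComposition (@Etale.{u}) :=
    (inferInstance : MorphismProperty.IsMultiplicative (@Etale.{u})).toIsStableUnderComposition
  have e2 : MorphismProperty.IsStableUnderBaseChange
      (@Flat.{u} ⊓ @LocallyOfFinitePresentation.{u}) :=
    MorphismProperty.IsStableUnderBaseChange.inf
  have e3 : MorphismProperty.IsStableUnderComposition
      (@Flat.{u} ⊓ @LocallyOfFinitePresentation.{u}) :=
    MorphismProperty.IsStableUnderComposition.inf
  rcases hK with rfl | rfl | rfl | rfl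
  · exact core G @IsOpenImmersion (fun f hf => hf) (fun f hf => f.isOpenEmbedding.isOpenMap) P hs ht W hW hmax
  · have i1 : P.IsLocalAtTarget (Scheme.precoverage @Etale) :=
      ‹P.IsLocalAtTarget Scheme.etalePrecoverage›
    exact core G @Etale (fun f hf => inferInstance) (fun f hf => f.isOpenMap) P hs ht W hW hmax
  · exact core G @Smooth (fun f hf => inferInstance) (fun f hf => f.isOpenMap) P hs ht W hW hmax
  · have i1 : P.IsLocalAtTarget (Scheme.precoverage (@Flat ⊓ @LocallyOfFinitePresentation)) :=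
      ‹P.IsLocalAtTarget Scheme.fppfPrecoverage›
    exact core G (@Flat ⊓ @LocallyOfFinitePresentation) (fun f hf => ⟨inferInstance, inferInstance⟩)
      (fun f hf => by
        have := hf.1
        have := hf.2
        exact f.isOpenMap) P hs ht W hW hmax

end Aux

/-- Let (U, R, s, t, c) be a groupoid scheme over S, let τ be the Zariski, étale, smooth or fppf
topology (given as the corresponding precoverage K on schemes), and let P be a property of scheme
morphisms that is τ-local on the target. (The published statement also allows the syntomic topology,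
which has no precoverage here; this row omits it.) Assume the one-arrow families {s : R -> U} and {t
: R -> U} are τ-coverings. If W is the largest open subscheme of U such that the restriction
s^{-1}(W) -> W of s has P (W has the property and contains every open with the property), then W is
R-invariant: s^{-1}(W) = t^{-1}(W). (A groupoid scheme carries U, R, s, t, c, e, i over S with the
groupoid axioms on T-points; c is defined on the fibre product of s and t and sends a pair (a, b)
with s(a) = t(b) to a composed with b.) -/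
theorem result (S : Scheme.{u}) (G : Grpd.GroupoidScheme S) (K : Precoverage Scheme.{u}) (hK : K = Scheme.zariskiPrecoverage ∨ K = Scheme.etalePrecoverage ∨ K = Scheme.precoverage @Smooth ∨ K = Scheme.fppfPrecoverage) (P : MorphismProperty Scheme.{u}) [P.IsLocalAtTarget K] (hs : Presieve.singleton G.s ∈ K G.U) (ht : Presieve.singleton G.t ∈ K G.U) (W : G.U.Opens) (hW : P (G.s ∣_ W)) (hmax : ∀ W' : G.U.Opens, P (G.s ∣_ W') → W' ≤ W) : G.s ⁻¹ᵁ W = G.t ⁻¹ᵁ W := by
  exact Aux.main S G K hK P hs ht W hW hmax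

end Groth.Agent.S7504
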