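import Groth.Statements.S7498
import Mathlib
import Groth.Prelude.Def_Grpd
import Groth.Agent.S1888
import Groth.Agent.S7504
-- import your own Groth.Agent.* helpers here

set_option autoImplicit false
universe u
open CategoryTheory CategoryTheory.Limits AlgebraicGeometry
open Grpd

namespace Groth.Agent.S7498

open CategoryTheory CategoryTheory.Limits AlgebraicGeometry
namespace Aux
open Groth.Agent.S1888.Aux Groth.Agent.S7504.Aux

theorem main (S : Scheme.{u}) (G : Grpd.GroupoidScheme S) (r r' : G.R) (h : G.t r = G.t r') : ∃ (k : Type u) (_ : Field k) (a b : Spec (CommRingCat.of k) ⟶ G.U) (φ : pullback G.s a ≅ pullback G.s b) (p : ↑(pullback G.s a)), a (IsLocalRing.closedPoint k) = G.s r ∧ b (IsLocalRing.closedPoint k) = G.s r' ∧ φ.hom ≫ pullback.snd G.s b = pullback.snd G.s a ∧ pullback.fst G.s a p = r ∧ pullback.fst G.s b (φ.hom p) = r' := by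
  obtain ⟨z, hz1, hz2⟩ := Scheme.Pullback.exists_preimage_pullback (f := G.t) (g := G.t) r r' h
  let Z := pullback G.t G.t
  let k : Type u := Z.residueField z
  let ζ : Spec (CommRingCat.of k) ⟶ Z := Z.fromSpecResidueField z
  let pt : ↥(Spec (CommRingCat.of k)) := IsLocalRing.closedPoint k
  have hζ : ζ pt = z := Scheme.fromSpecResidueField_apply z _
  let α : Spec (CommRingCat.of k) ⟶ G.R := ζ ≫ pullback.fst G.t G.t
  let β : Spec (CommRingCat.of k) ⟶ G.R := ζ ≫ pullback.snd G.t G.t
  have hαβ : α ≫ G.t = β ≫ G.t := by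
    show (ζ ≫ pullback.fst G.t G.t) ≫ G.t = (ζ ≫ pullback.snd G.t G.t) ≫ G.t
    rw [Category.assoc, Category.assoc, pullback.condition]
  have hα : α pt = r := by
    show (ζ ≫ pullback.fst G.t G.t) pt = r
    rw [Scheme.Hom.comp_apply, hζ, hz1]
  have hβ : β pt = r' := by
    show (ζ ≫ pullback.snd G.t G.t) pt = r'
    rw [Scheme.Hom.comp_apply, hζ, hz2]
  have hγc : (α ≫ G.i) ≫ G.s = β ≫ G.t := by rw [Category.assoc, G.i_s, hαβ]
  let γ : Spec (CommRingCat.of k) ⟶ G.R := comp G (α ≫ G.i) β hγc
  have hγt : γ ≫ G.t = α ≫ G.s := by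
    show comp G (α ≫ G.i) β hγc ≫ G.t = _
    rw [comp_t, Category.assoc, G.i_t]
  have hγs : γ ≫ G.s = β ≫ G.s := comp_s G _ _ _
  let φ : pullback G.s (γ ≫ G.t) ≅ pullback G.s (γ ≫ G.s) := ⟨F G γ, F' G γ, F_F' G γ, F'_F G γ⟩
  let q : Spec (CommRingCat.of k) ⟶ pullback G.s (γ ≫ G.t) :=
    pullback.lift α (𝟙 _) (by rw [Category.id_comp, hγt])
  refine ⟨k, inferInstance, γ ≫ G.t, γ ≫ G.s, φ, q pt, ?_, ?_, ?_, ?_, ?_⟩
  · show (γ ≫ G.t) pt = G.s r
    rw [hγt, Scheme.Hom.comp_apply, hα]
  · show (γ ≫ G.s) pt = G.s r'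
    rw [hγs, Scheme.Hom.comp_apply, hβ]
  · exact F_snd G γ
  · rw [← Scheme.Hom.comp_apply, pullback.lift_fst, hα]
  · show pullback.fst G.s (γ ≫ G.s) ((F G γ) (q pt)) = r'
    rw [← Scheme.Hom.comp_apply, ← Scheme.Hom.comp_apply, F_fst, precomp]
    have e1 : q ≫ pullback.fst G.s (γ ≫ G.t) = α := pullback.lift_fst _ _ _
    have e2 : q ≫ pullback.snd G.s (γ ≫ G.t) ≫ γ = γ := by
      rw [← Category.assoc, pullback.lift_snd, Category.id_comp]
    rw [comp_congr G _ e1 e2]
    have : comp G α γ (by rw [hγt]) = β := cancel_left' G α β hγc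
    rw [this, hβ]

end Aux

/-- Let (U, R, s, t, c) be a groupoid scheme over S and r, r' points of R with t(r) = t(r'); put u =
s(r), u' = s(r') and let F_u, F_u' be the scheme-theoretic fibres of s. Then there are a field k
which is a common extension of κ(u) and κ(u') (morphisms a, b : Spec k -> U with images u, u') and
an isomorphism of the base changes (F_u)_k and (F_u')_k over Spec k, which moreover can be chosen to
send some point lying over r to a point lying over r'. (The published statement also compares the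
germs of s at r and at r' when s and t are flat or flat of finite presentation; this row omits
that.) (A groupoid scheme carries U, R, s, t, c, e, i over S with the groupoid axioms on T-points; c
is defined on the fibre product of s and t and sends a pair (a, b) with s(a) = t(b) to a composed
with b.) -/
theorem result (S : Scheme.{u}) (G : Grpd.GroupoidScheme S) (r r' : G.R) (h : G.t r = G.t r') : ∃ (k : Type u) (_ : Field k) (a b : Spec (CommRingCat.of k) ⟶ G.U) (φ : pullback G.s a ≅ pullback G.s b) (p : ↑(pullback G.s a)), a (IsLocalRing.closedPoint k) = G.s r ∧ b (IsLocalRing.closedPoint k) = G.s r' ∧ φ.hom ≫ pullback.snd G.s b = pullback.snd G.s a ∧ pullback.fst G.s a p = r ∧ pullback.fst G.s b (φ.hom p) = r' := by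
  exact Aux.main S G r r' h

end Groth.Agent.S7498
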