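import Groth.Statements.S7500
import Mathlib
import Groth.Prelude.Def_Grpd
import Groth.Agent.S1888
import Groth.Agent.S1891
import Groth.Agent.S1886
import Groth.Agent.S7457
-- import your own Groth.Agent.* helpers here

set_option autoImplicit false
universe u
open CategoryTheory CategoryTheory.Limits AlgebraicGeometry
open Grpd

namespace Groth.Agent.S7500

open CategoryTheory CategoryTheory.Limits AlgebraicGeometry
open Groth.Agent.S1888.Aux
namespace Aux
open Groth.Agent.S1891.Aux Groth.Agent.S1886.Aux Groth.Agent.S7457.Aux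

variable {S : Scheme.{u}} (G : Grpd.GroupoidScheme S)

lemma g_cond : pullback.fst G.j G.j ≫ G.s = (pullback.snd G.j G.j ≫ G.i) ≫ G.t := by
  rw [Category.assoc, G.i_t, jj_s]

/-- `(a, b) ↦ a ∘ b⁻¹` -/
noncomputable def g : pullback G.j G.j ⟶ G.R :=
  comp G (pullback.fst G.j G.j) (pullback.snd G.j G.j ≫ G.i) (g_cond G)

lemma g_t : g G ≫ G.t = pullback.fst G.j G.j ≫ G.t := by
  unfold g
  rw [comp_t]

lemma g_s : g G ≫ G.s = pullback.fst G.j G.j ≫ G.t := by
  unfold g
  rw [comp_s, Category.assoc, G.i_s, jj_t]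

lemma g_j : g G ≫ G.j = (pullback.fst G.j G.j ≫ G.t) ≫ G.diag := by
  apply pullback.hom_ext
  · rw [Category.assoc, j_fst, Category.assoc, diag_fst, Category.comp_id, g_t]
  · rw [Category.assoc, j_snd, Category.assoc, diag_snd, Category.comp_id, g_s]

noncomputable def σ : pullback G.j G.j ⟶ pullback G.j G.diag :=
  pullback.lift (g G) (pullback.fst G.j G.j ≫ G.t) (g_j G)

lemma σ_fst : σ G ≫ pullback.fst G.j G.diag = g G := pullback.lift_fst _ _ _
lemma σ_snd : σ G ≫ pullback.snd G.j G.diag = pullback.fst G.j G.j ≫ G.t := pullback.lift_snd _ _ _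

noncomputable def δ : pullback G.j G.j ⟶ pullback (pullback.snd G.j G.diag) G.t :=
  pullback.lift (σ G) (pullback.snd G.j G.j) (by rw [σ_snd, jj_t])

lemma δ_fst : δ G ≫ pullback.fst (pullback.snd G.j G.diag) G.t = σ G := pullback.lift_fst _ _ _
lemma δ_snd : δ G ≫ pullback.snd (pullback.snd G.j G.diag) G.t = pullback.snd G.j G.j :=
  pullback.lift_snd _ _ _

/-- the `R`-component of a point of the stabilizer has `t = ` base point -/
lemma st_t : pullback.fst G.j G.diag ≫ G.t = pullback.snd G.j G.diag := by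
  rw [← j_fst, ← Category.assoc, pullback.condition, Category.assoc, diag_fst, Category.comp_id]

lemma st_s : pullback.fst G.j G.diag ≫ G.s = pullback.snd G.j G.diag := by
  rw [← j_snd, ← Category.assoc, pullback.condition, Category.assoc, diag_snd, Category.comp_id]

theorem main' (α : pullback (pullback.snd G.j G.diag) G.t ⟶ pullback G.s G.t)
    (hα₁ : α ≫ pullback.fst G.s G.t =
      pullback.fst (pullback.snd G.j G.diag) G.t ≫ pullback.fst G.j G.diag)
    (hα₂ : α ≫ pullback.snd G.s G.t = pullback.snd (pullback.snd G.j G.diag) G.t)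
    (β : pullback (pullback.snd G.j G.diag) G.t ⟶ pullback G.j G.j)
    (hβ₁ : β ≫ pullback.fst G.j G.j = α ≫ G.c)
    (hβ₂ : β ≫ pullback.snd G.j G.j = pullback.snd (pullback.snd G.j G.diag) G.t) : IsIso β := by
  -- notation
  set γR := pullback.fst (pullback.snd G.j G.diag) G.t ≫ pullback.fst G.j G.diag with hγR
  set rX := pullback.snd (pullback.snd G.j G.diag) G.t with hrX
  have hγr : γR ≫ G.s = rX ≫ G.t := by
    rw [hγR, Category.assoc, st_s, pullback.condition]
  have hαc : α ≫ G.c = comp G γR rX hγr := by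
    rw [pre_c]
    exact comp_congr G _ hα₁ hα₂
  refine ⟨δ G, ?_, ?_⟩
  · -- β ≫ δ = 𝟙
    apply pullback.hom_ext
    · rw [Category.assoc, δ_fst, Category.id_comp]
      apply pullback.hom_ext
      · rw [Category.assoc, σ_fst]
        unfold g
        rw [precomp]
        have e1 : β ≫ pullback.fst G.j G.j = comp G γR rX hγr := hβ₁.trans hαc
        have e2 : β ≫ pullback.snd G.j G.j ≫ G.i = rX ≫ G.i := by
          rw [← Category.assoc, hβ₂]
        rw [comp_congr G _ e1 e2]
        exact cancel_right G γR rX hγr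
      · rw [Category.assoc, σ_snd, ← Category.assoc, hβ₁, hαc, comp_t, hγR, Category.assoc, st_t]
    · rw [Category.assoc, δ_snd, Category.id_comp, hβ₂]
  · -- δ ≫ β = 𝟙
    apply pullback.hom_ext
    · rw [Category.assoc, hβ₁, hαc, Category.id_comp, precomp]
      have e1 : δ G ≫ γR = g G := by
        rw [hγR, ← Category.assoc, δ_fst, σ_fst]
      have e2 : δ G ≫ rX = pullback.snd G.j G.j := δ_snd G
      rw [comp_congr G _ e1 e2]
      unfold g
      rw [comp_assoc G (pullback.fst G.j G.j) (pullback.snd G.j G.j ≫ G.i) (pullback.snd G.j G.j)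
        (g_cond G) (by rw [Category.assoc, G.i_s])]
      rw [comp_congr G _ rfl (i_comp' G (pullback.snd G.j G.j) _ rfl)]
      refine comp_e' G _ _ ?_
      rw [← Category.assoc, ← jj_s, Category.assoc]
    · rw [Category.assoc, hβ₂, Category.id_comp]
      exact δ_snd G

theorem main (α : pullback G.stabilizerToU G.t ⟶ pullback G.s G.t)
    (hα₁ : α ≫ pullback.fst G.s G.t = pullback.fst G.stabilizerToU G.t ≫ pullback.fst G.j G.diag)
    (hα₂ : α ≫ pullback.snd G.s G.t = pullback.snd G.stabilizerToU G.t)
    (β : pullback G.stabilizerToU G.t ⟶ pullback G.j G.j)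
    (hβ₁ : β ≫ pullback.fst G.j G.j = α ≫ G.c)
    (hβ₂ : β ≫ pullback.snd G.j G.j = pullback.snd G.stabilizerToU G.t) : IsIso β :=
  main' G α hα₁ hα₂ β hβ₁ hβ₂

end Aux

/-- Let (U, R, s, t, c) be a groupoid scheme over S and G -> U its stabilizer group scheme (the base
change of j = (t, s) along the diagonal). The action of G on R by composition, base changed to G_0 =
G x_(U, pr_0) (U x_S U), makes R a pseudo G_0-torsor over U x_S U. Concretely: let α : G x_(U, t) R
-> R x_(s, U, t) R be the morphism with components (γ viewed in R, r) and β : G x_(U, t) R -> R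
x_(j, U x_S U, j) R the morphism with components (c ∘ α, r); then β is an isomorphism. (A groupoid
scheme carries U, R, s, t, c, e, i over S with the groupoid axioms on T-points; c is defined on the
fibre product of s and t and sends a pair (a, b) with s(a) = t(b) to a composed with b.) -/
theorem result (S : Scheme.{u}) (G : Grpd.GroupoidScheme S) (α : pullback G.stabilizerToU G.t ⟶ pullback G.s G.t) (hα₁ : α ≫ pullback.fst G.s G.t = pullback.fst G.stabilizerToU G.t ≫ pullback.fst G.j G.diag) (hα₂ : α ≫ pullback.snd G.s G.t = pullback.snd G.stabilizerToU G.t) (β : pullback G.stabilizerToU G.t ⟶ pullback G.j G.j) (hβ₁ : β ≫ pullback.fst G.j G.j = α ≫ G.c) (hβ₂ : β ≫ pullback.snd G.j G.j = pullback.snd G.stabilizerToU G.t) : IsIso β := by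
  exact Aux.main G α hα₁ hα₂ β hβ₁ hβ₂

end Groth.Agent.S7500
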