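import Groth.Statements.S7505
import Mathlib
import Groth.Prelude.Def_Grpd
import Groth.Agent.S1888
import Groth.Agent.S1891
import Groth.Agent.S7510
import Groth.Agent.S1886
import Groth.Agent.S7504
-- import your own Groth.Agent.* helpers here

set_option autoImplicit false
universe u
open CategoryTheory CategoryTheory.Limits AlgebraicGeometry
open Grpd

namespace Groth.Agent.S7505

open CategoryTheory CategoryTheory.Limits AlgebraicGeometry
namespace Aux
open Groth.Agent.S1888.Aux Groth.Agent.S1891.Aux Groth.Agent.S7510.Aux Groth.Agent.S1886.Aux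

variable {S : Scheme.{u}} (G : Grpd.GroupoidScheme S)

section stab
variable {T : Scheme.{u}}

lemma ρ_t (σ : T ⟶ pullback G.j G.diag) :
    (σ ≫ pullback.fst G.j G.diag) ≫ G.t = σ ≫ pullback.snd G.j G.diag := by
  rw [← j_fst, Category.assoc, ← Category.assoc (pullback.fst G.j G.diag), pullback.condition,
    Category.assoc, diag_fst, Category.comp_id]

lemma ρ_s (σ : T ⟶ pullback G.j G.diag) :
    (σ ≫ pullback.fst G.j G.diag) ≫ G.s = σ ≫ pullback.snd G.j G.diag := by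
  rw [← j_snd, Category.assoc, ← Category.assoc (pullback.fst G.j G.diag), pullback.condition,
    Category.assoc, diag_snd, Category.comp_id]

noncomputable def mkX (r : T ⟶ G.R) (v : T ⟶ G.U) (ht : r ≫ G.t = v) (hs : r ≫ G.s = v) :
    T ⟶ pullback G.j G.diag :=
  pullback.lift r v (by
    apply pullback.hom_ext
    · rw [Category.assoc, j_fst, Category.assoc, diag_fst, ht, Category.comp_id]
    · rw [Category.assoc, j_snd, Category.assoc, diag_snd, hs, Category.comp_id])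

lemma mkX_fst (r : T ⟶ G.R) (v : T ⟶ G.U) (ht : r ≫ G.t = v) (hs : r ≫ G.s = v) :
    mkX G r v ht hs ≫ pullback.fst G.j G.diag = r := pullback.lift_fst _ _ _

lemma mkX_snd (r : T ⟶ G.R) (v : T ⟶ G.U) (ht : r ≫ G.t = v) (hs : r ≫ G.s = v) :
    mkX G r v ht hs ≫ pullback.snd G.j G.diag = v := pullback.lift_snd _ _ _

lemma X_ext (σ σ' : T ⟶ pullback G.j G.diag)
    (h : σ ≫ pullback.fst G.j G.diag = σ' ≫ pullback.fst G.j G.diag) : σ = σ' := by
  apply pullback.hom_ext h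
  rw [← ρ_t, ← ρ_t, h]

/-- `ρ ↦ a ρ a⁻¹` -/
noncomputable def conjR (a ρ : T ⟶ G.R) (h1 : a ≫ G.s = ρ ≫ G.t) (h2 : ρ ≫ G.s = a ≫ G.s) :
    T ⟶ G.R :=
  comp G (comp G a ρ h1) (a ≫ G.i) (by rw [comp_s, Category.assoc, G.i_t, h2])

lemma conjR_s (a ρ : T ⟶ G.R) (h1 : a ≫ G.s = ρ ≫ G.t) (h2 : ρ ≫ G.s = a ≫ G.s) :
    conjR G a ρ h1 h2 ≫ G.s = a ≫ G.t := by
  unfold conjR
  rw [comp_s, Category.assoc, G.i_s]

lemma conjR_t (a ρ : T ⟶ G.R) (h1 : a ≫ G.s = ρ ≫ G.t) (h2 : ρ ≫ G.s = a ≫ G.s) :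
    conjR G a ρ h1 h2 ≫ G.t = a ≫ G.t := by
  unfold conjR
  rw [comp_t, comp_t]

/-- `ρ ↦ a⁻¹ ρ a` -/
noncomputable def conjL (a ρ : T ⟶ G.R) (h1 : a ≫ G.t = ρ ≫ G.t) (h2 : ρ ≫ G.s = a ≫ G.t) :
    T ⟶ G.R :=
  comp G (comp G (a ≫ G.i) ρ (by rw [Category.assoc, G.i_s, h1])) a (by rw [comp_s, h2])

lemma conjL_s (a ρ : T ⟶ G.R) (h1 : a ≫ G.t = ρ ≫ G.t) (h2 : ρ ≫ G.s = a ≫ G.t) :
    conjL G a ρ h1 h2 ≫ G.s = a ≫ G.s := by
  unfold conjL
  rw [comp_s]

lemma conjL_t (a ρ : T ⟶ G.R) (h1 : a ≫ G.t = ρ ≫ G.t) (h2 : ρ ≫ G.s = a ≫ G.t) :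
    conjL G a ρ h1 h2 ≫ G.t = a ≫ G.s := by
  unfold conjL
  rw [comp_t, comp_t, Category.assoc, G.i_t]

lemma precomp_conjR {T' : Scheme.{u}} (γ : T' ⟶ T) (a ρ : T ⟶ G.R) (h1 : a ≫ G.s = ρ ≫ G.t)
    (h2 : ρ ≫ G.s = a ≫ G.s) :
    γ ≫ conjR G a ρ h1 h2 = conjR G (γ ≫ a) (γ ≫ ρ)
      (by rw [Category.assoc, Category.assoc, h1]) (by rw [Category.assoc, Category.assoc, h2]) := by
  unfold conjR
  rw [precomp]
  exact comp_congr G _ (precomp G γ a ρ h1) (Category.assoc _ _ _).symm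

lemma precomp_conjL {T' : Scheme.{u}} (γ : T' ⟶ T) (a ρ : T ⟶ G.R) (h1 : a ≫ G.t = ρ ≫ G.t)
    (h2 : ρ ≫ G.s = a ≫ G.t) :
    γ ≫ conjL G a ρ h1 h2 = conjL G (γ ≫ a) (γ ≫ ρ)
      (by rw [Category.assoc, Category.assoc, h1]) (by rw [Category.assoc, Category.assoc, h2]) := by
  unfold conjL
  rw [precomp]
  refine comp_congr G _ ?_ rfl
  rw [precomp]
  exact comp_congr G _ (Category.assoc _ _ _).symm rfl

lemma conjL_conjR (a ρ : T ⟶ G.R) (h1 : a ≫ G.s = ρ ≫ G.t) (h2 : ρ ≫ G.s = a ≫ G.s)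
    (h3 : a ≫ G.t = conjR G a ρ h1 h2 ≫ G.t) (h4 : conjR G a ρ h1 h2 ≫ G.s = a ≫ G.t) :
    conjL G a (conjR G a ρ h1 h2) h3 h4 = ρ := by
  unfold conjL
  have e1 : comp G (a ≫ G.i) (conjR G a ρ h1 h2) (by rw [Category.assoc, G.i_s, h3]) =
      comp G ρ (a ≫ G.i) (by rw [Category.assoc, G.i_t, h2]) := by
    unfold conjR
    rw [← comp_assoc G (a ≫ G.i) (comp G a ρ h1) (a ≫ G.i)
      (by rw [Category.assoc, G.i_s, comp_t]) (by rw [comp_s, Category.assoc, G.i_t, h2])]
    exact comp_congr G _ (cancel_left G a (a ≫ G.i) ρ rfl h1) rfl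
  rw [comp_congr G _ e1 rfl]
  exact cancel_right' G ρ a h2

lemma conjR_conjL (a ρ : T ⟶ G.R) (h1 : a ≫ G.t = ρ ≫ G.t) (h2 : ρ ≫ G.s = a ≫ G.t)
    (h3 : a ≫ G.s = conjL G a ρ h1 h2 ≫ G.t) (h4 : conjL G a ρ h1 h2 ≫ G.s = a ≫ G.s) :
    conjR G a (conjL G a ρ h1 h2) h3 h4 = ρ := by
  unfold conjR
  have e1 : comp G a (conjL G a ρ h1 h2) h3 = comp G ρ a h2 := by
    unfold conjL
    rw [← comp_assoc G a (comp G (a ≫ G.i) ρ (by rw [Category.assoc, G.i_s, h1])) a
      (by rw [comp_t, Category.assoc, G.i_t]) (by rw [comp_s, h2])]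
    exact comp_congr G _ (cancel_left' G a ρ (by rw [Category.assoc, G.i_s, h1])) rfl
  rw [comp_congr G _ e1 rfl]
  exact cancel_right G ρ a h2

variable (g : T ⟶ G.R)

/-- over `g ≫ s` to over `g ≫ t`: `(σ, x) ↦ (g(x) σ g(x)⁻¹, x)` -/
noncomputable def Fs : pullback (pullback.snd G.j G.diag) (g ≫ G.s) ⟶
    pullback (pullback.snd G.j G.diag) (g ≫ G.t) :=
  pullback.lift
    (mkX G (conjR G (pullback.snd _ _ ≫ g)
        (pullback.fst (pullback.snd G.j G.diag) (g ≫ G.s) ≫ pullback.fst G.j G.diag)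
        (by rw [ρ_t, pullback.condition, Category.assoc])
        (by rw [ρ_s, pullback.condition, Category.assoc]))
      ((pullback.snd _ _ ≫ g) ≫ G.t) (conjR_t G _ _ _ _) (conjR_s G _ _ _ _))
    (pullback.snd _ _)
    (by rw [mkX_snd, Category.assoc])

/-- over `g ≫ t` to over `g ≫ s`: `(σ, x) ↦ (g(x)⁻¹ σ g(x), x)` -/
noncomputable def Ft : pullback (pullback.snd G.j G.diag) (g ≫ G.t) ⟶
    pullback (pullback.snd G.j G.diag) (g ≫ G.s) :=
  pullback.lift
    (mkX G (conjL G (pullback.snd _ _ ≫ g)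
        (pullback.fst (pullback.snd G.j G.diag) (g ≫ G.t) ≫ pullback.fst G.j G.diag)
        (by rw [ρ_t, pullback.condition, Category.assoc])
        (by rw [ρ_s, pullback.condition, Category.assoc]))
      ((pullback.snd _ _ ≫ g) ≫ G.s) (conjL_t G _ _ _ _) (conjL_s G _ _ _ _))
    (pullback.snd _ _)
    (by rw [mkX_snd, Category.assoc])

lemma Fs_snd : Fs G g ≫ pullback.snd _ _ = pullback.snd _ _ := pullback.lift_snd _ _ _
lemma Ft_snd : Ft G g ≫ pullback.snd _ _ = pullback.snd _ _ := pullback.lift_snd _ _ _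

lemma Fs_fst_fst : Fs G g ≫ pullback.fst _ _ ≫ pullback.fst G.j G.diag =
    conjR G (pullback.snd _ _ ≫ g)
        (pullback.fst (pullback.snd G.j G.diag) (g ≫ G.s) ≫ pullback.fst G.j G.diag)
        (by rw [ρ_t, pullback.condition, Category.assoc])
        (by rw [ρ_s, pullback.condition, Category.assoc]) := by
  unfold Fs
  rw [pullback.lift_fst_assoc, mkX_fst]

lemma Ft_fst_fst : Ft G g ≫ pullback.fst _ _ ≫ pullback.fst G.j G.diag =
    conjL G (pullback.snd _ _ ≫ g)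
        (pullback.fst (pullback.snd G.j G.diag) (g ≫ G.t) ≫ pullback.fst G.j G.diag)
        (by rw [ρ_t, pullback.condition, Category.assoc])
        (by rw [ρ_s, pullback.condition, Category.assoc]) := by
  unfold Ft
  rw [pullback.lift_fst_assoc, mkX_fst]

lemma conjR_congr {a a' ρ ρ' : T ⟶ G.R} (h1 : a ≫ G.s = ρ ≫ G.t) (h2 : ρ ≫ G.s = a ≫ G.s)
    (ha : a = a') (hρ : ρ = ρ') :
    conjR G a ρ h1 h2 = conjR G a' ρ' (by rw [← ha, ← hρ]; exact h1) (by rw [← ha, ← hρ]; exact h2) := by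
  subst ha hρ; rfl

lemma conjL_congr {a a' ρ ρ' : T ⟶ G.R} (h1 : a ≫ G.t = ρ ≫ G.t) (h2 : ρ ≫ G.s = a ≫ G.t)
    (ha : a = a') (hρ : ρ = ρ') :
    conjL G a ρ h1 h2 = conjL G a' ρ' (by rw [← ha, ← hρ]; exact h1) (by rw [← ha, ← hρ]; exact h2) := by
  subst ha hρ; rfl

lemma Fs_Ft : Fs G g ≫ Ft G g = 𝟙 _ := by
  apply pullback.hom_ext
  · apply X_ext
    rw [Category.assoc, Category.assoc, Ft_fst_fst, precomp_conjL, Category.id_comp]
    have ha : Fs G g ≫ pullback.snd (pullback.snd G.j G.diag) (g ≫ G.t) ≫ g =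
        pullback.snd _ _ ≫ g := by rw [← Category.assoc, Fs_snd]
    rw [conjL_congr G _ _ ha (Fs_fst_fst G g)]
    exact conjL_conjR G _ _ _ _ _ _
  · rw [Category.assoc, Ft_snd, Fs_snd, Category.id_comp]

lemma Ft_Fs : Ft G g ≫ Fs G g = 𝟙 _ := by
  apply pullback.hom_ext
  · apply X_ext
    rw [Category.assoc, Category.assoc, Fs_fst_fst, precomp_conjR, Category.id_comp]
    have ha : Ft G g ≫ pullback.snd (pullback.snd G.j G.diag) (g ≫ G.s) ≫ g =
        pullback.snd _ _ ≫ g := by rw [← Category.assoc, Ft_snd]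
    rw [conjR_congr G _ _ ha (Ft_fst_fst G g)]
    exact conjR_conjL G _ _ _ _ _ _
  · rw [Category.assoc, Fs_snd, Ft_snd, Category.id_comp]

theorem factB' (P : MorphismProperty Scheme.{u}) [P.RespectsIso]
    (h : P (pullback.snd (pullback.snd G.j G.diag) (g ≫ G.s))) :
    P (pullback.snd (pullback.snd G.j G.diag) (g ≫ G.t)) := by
  have : IsIso (Ft G g) := ⟨Fs G g, Ft_Fs G g, Fs_Ft G g⟩
  rw [← Ft_snd G g]
  exact (P.cancel_left_of_respectsIso (Ft G g) _).2 h

end stab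

theorem main (S : Scheme.{u}) (G : Grpd.GroupoidScheme S) (K : Precoverage Scheme.{u}) (hK : K = Scheme.etalePrecoverage ∨ K = Scheme.precoverage @Smooth ∨ K = Scheme.fppfPrecoverage) (P : MorphismProperty Scheme.{u}) [P.IsLocalAtTarget K] (hs : Presieve.singleton G.s ∈ K G.U) (ht : Presieve.singleton G.t ∈ K G.U) (W : G.U.Opens) (hW : P (G.stabilizerToU ∣_ W)) (hmax : ∀ W' : G.U.Opens, P (G.stabilizerToU ∣_ W') → W' ≤ W) : G.s ⁻¹ᵁ W = G.t ⁻¹ᵁ W := by
  have e1 : MorphismProperty.IsStableUnderComposition (@Etale.{u}) :=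
    (inferInstance : MorphismProperty.IsMultiplicative (@Etale.{u})).toIsStableUnderComposition
  have e2 : MorphismProperty.IsStableUnderBaseChange
      (@Flat.{u} ⊓ @LocallyOfFinitePresentation.{u}) :=
    MorphismProperty.IsStableUnderBaseChange.inf
  have e3 : MorphismProperty.IsStableUnderComposition
      (@Flat.{u} ⊓ @LocallyOfFinitePresentation.{u}) :=
    MorphismProperty.IsStableUnderComposition.inf
  have hPi : P.RespectsIso := inferInstance
  have hW' : P ((pullback.snd G.j G.diag) ∣_ W) := hW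
  have hmax' : ∀ W' : G.U.Opens, P ((pullback.snd G.j G.diag) ∣_ W') → W' ≤ W := hmax
  rcases hK with rfl | rfl | rfl
  · have i1 : P.IsLocalAtTarget (Scheme.precoverage @Etale) :=
      ‹P.IsLocalAtTarget Scheme.etalePrecoverage›
    exact Groth.Agent.S7504.Aux.coreGen G (pullback.snd G.j G.diag) @Etale
      (fun f hf => inferInstance) (fun f hf => f.isOpenMap) P hs ht
      (fun g h => factB' G g P h) W hW' hmax'
  · exact Groth.Agent.S7504.Aux.coreGen G (pullback.snd G.j G.diag) @Smooth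
      (fun f hf => inferInstance) (fun f hf => f.isOpenMap) P hs ht
      (fun g h => factB' G g P h) W hW' hmax'
  · have i1 : P.IsLocalAtTarget (Scheme.precoverage (@Flat ⊓ @LocallyOfFinitePresentation)) :=
      ‹P.IsLocalAtTarget Scheme.fppfPrecoverage›
    exact Groth.Agent.S7504.Aux.coreGen G (pullback.snd G.j G.diag)
      (@Flat ⊓ @LocallyOfFinitePresentation) (fun f hf => ⟨inferInstance, inferInstance⟩)
      (fun f hf => by
        have := hf.1
        have := hf.2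
        exact f.isOpenMap) P hs ht
      (fun g h => factB' G g P h) W hW' hmax'

end Aux

/-- Let (U, R, s, t, c) be a groupoid scheme over S with stabilizer group scheme G -> U, let τ be the
étale, smooth or fppf topology (given as the corresponding precoverage K), and let P be a property
of scheme morphisms that is τ-local on the target. (The published statement also allows the syntomic
topology; this row omits it.) Assume {s : R -> U} and {t : R -> U} are τ-coverings. If W is the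
largest open subscheme of U such that the restriction G_W -> W of the stabilizer has P, then W is
R-invariant: s^{-1}(W) = t^{-1}(W). (A groupoid scheme carries U, R, s, t, c, e, i over S with the
groupoid axioms on T-points; c is defined on the fibre product of s and t and sends a pair (a, b)
with s(a) = t(b) to a composed with b.) -/
theorem result (S : Scheme.{u}) (G : Grpd.GroupoidScheme S) (K : Precoverage Scheme.{u}) (hK : K = Scheme.etalePrecoverage ∨ K = Scheme.precoverage @Smooth ∨ K = Scheme.fppfPrecoverage) (P : MorphismProperty Scheme.{u}) [P.IsLocalAtTarget K] (hs : Presieve.singleton G.s ∈ K G.U) (ht : Presieve.singleton G.t ∈ K G.U) (W : G.U.Opens) (hW : P (G.stabilizerToU ∣_ W)) (hmax : ∀ W' : G.U.Opens, P (G.stabilizerToU ∣_ W') → W' ≤ W) : G.s ⁻¹ᵁ W = G.t ⁻¹ᵁ W := by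
  exact Aux.main S G K hK P hs ht W hW hmax

end Groth.Agent.S7505
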