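import Groth.Statements.S7511
import Mathlib

set_option autoImplicit false
universe u
open CategoryTheory CategoryTheory.Limits AlgebraicGeometry
open HTop

namespace Groth.Agent.S7511
open CategoryTheory CategoryTheory.Limits AlgebraicGeometry

theorem main {T : Scheme.{u}} (E : PreZeroHypercover.{u} T) :
    E.presieve₀ ∈ Scheme.fpqcPrecoverage T ↔
      Presieve.singleton (Sigma.desc E.f) ∈ Scheme.fpqcPrecoverage T := by
  have hsing : Presieve.singleton (Sigma.desc E.f) =
      (PreZeroHypercover.singleton.{u} (Sigma.desc E.f)).presieve₀ :=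
    (PreZeroHypercover.presieve₀_singleton _).symm
  constructor
  · rintro ⟨hqc, hP⟩
    refine ⟨?_, ?_⟩
    · rw [hsing, Scheme.presieve₀_mem_qcPrecoverage_iff]
      rw [Scheme.presieve₀_mem_qcPrecoverage_iff] at hqc
      exact QuasiCompactCover.of_hom (𝒱 := E)
        ⟨fun _ => PUnit.unit, fun i => Sigma.ι E.X i, fun i => by simp [PreZeroHypercover.singleton]⟩
    · let 𝒰 : Scheme.Cover.{u} (Scheme.precoverage @Flat) T := ⟨E, hP⟩
      have h1 := 𝒰.sigma.mem₀
      have h2 : 𝒰.sigma.presieve₀ = Presieve.singleton (Sigma.desc E.f) :=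
        Scheme.Cover.presieve₀_sigma 𝒰
      rw [← h2]
      exact h1
  · rintro ⟨hqc, hP⟩
    rw [hsing, Scheme.presieve₀_mem_qcPrecoverage_iff] at hqc
    rw [Scheme.singleton_mem_precoverage_iff] at hP
    obtain ⟨hsurj, hflat⟩ := hP
    haveI : Flat (Sigma.desc E.f) := hflat
    refine ⟨?_, ?_⟩
    · rw [Scheme.presieve₀_mem_qcPrecoverage_iff]
      haveI := hqc
      let S₀ : PreZeroHypercover.{u} T :=
        { I₀ := PUnit.{u + 1}, X := fun _ => ∐ E.X, f := fun _ => Sigma.desc E.f }
      haveI : QuasiCompactCover S₀ := hqc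
      let F : ∀ i : S₀.I₀, PreZeroHypercover.{u} (S₀.X i) :=
        fun _ => (sigmaOpenCover E.X).toPreZeroHypercover
      haveI : ∀ i, QuasiCompactCover (F i) := fun i =>
        inferInstanceAs (QuasiCompactCover (sigmaOpenCover E.X).toPreZeroHypercover)
      haveI : QuasiCompactCover (S₀.bind F) := inferInstance
      exact QuasiCompactCover.of_hom (𝒱 := S₀.bind F)
        ⟨fun i => i.2, fun i => 𝟙 _, fun i => by
          refine (Category.id_comp _).trans ?_
          exact (Sigma.ι_desc E.f i.2).symm⟩
    · rw [Scheme.presieve₀_mem_precoverage_iff]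
      refine ⟨fun x => ?_, fun i => ?_⟩
      · obtain ⟨y, rfl⟩ := hsurj x
        obtain ⟨i, z, rfl⟩ := (sigmaOpenCover E.X).exists_eq y
        exact ⟨i, z, (congrArg (fun g : E.X i ⟶ T => g z) (Sigma.ι_desc E.f i)).symm.trans
          (Scheme.Hom.comp_apply _ _ z)⟩
      · rw [← Sigma.ι_desc E.f i]
        infer_instance

end Groth.Agent.S7511

namespace Groth.Agent.S7511

/-- Let {f_i : T_i -> T} be a family of morphisms of schemes (indexed by a type in the universe of T, so
that the coproduct exists). Then it is an fpqc covering if and only if the one-arrow family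
consisting of the induced morphism from the coproduct of the T_i to T is an fpqc covering. -/
theorem result {T : Scheme.{u}} (E : PreZeroHypercover.{u} T) : E.presieve₀ ∈ Scheme.fpqcPrecoverage T ↔ Presieve.singleton (Sigma.desc E.f) ∈ Scheme.fpqcPrecoverage T := by
  exact main E

end Groth.Agent.S7511
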