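import Groth.Statements.S7512
-- import your own Groth.Agent.* helpers here
import Mathlib

set_option autoImplicit false
universe w u
open HTop

namespace Groth.Agent.S7512

open CategoryTheory CategoryTheory.Limits AlgebraicGeometry in
/-- Let {f_i : T_i -> T} be a family of flat morphisms of schemes. Assume that for every affine scheme Z
and every morphism h : Z -> T there is a standard fpqc covering of Z (a finite family of flat
morphisms Z_j -> Z with Z_j affine whose images cover Z) refining the family of base changes {T_i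
x_T Z -> Z} (every Z_j -> Z factors through some T_i compatibly with h). Then {f_i : T_i -> T} is an
fpqc covering (in Mathlib's sense). -/
theorem result {T : Scheme.{u}} (E : PreZeroHypercover.{w} T) (hflat : ∀ i, Flat (E.f i)) (href : ∀ (Z : Scheme.{u}) [IsAffine Z] (h : Z ⟶ T), ∃ F : PreZeroHypercover.{0} Z, Finite F.I₀ ∧ (∀ j, IsAffine (F.X j)) ∧ (∀ j, Flat (F.f j)) ∧ (∀ z : Z, ∃ (j : F.I₀) (x : F.X j), F.f j x = z) ∧ HTop.RefinesOver h F E) : E.presieve₀ ∈ Scheme.fpqcPrecoverage T := by
  classical
  -- choose refinements over all affine opens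
  have href' : ∀ U : T.affineOpens, ∃ F : PreZeroHypercover.{0} ((U : T.Opens) : Scheme.{u}),
      Finite F.I₀ ∧ (∀ j, IsAffine (F.X j)) ∧ (∀ j, Flat (F.f j)) ∧
      (∀ z : ((U : T.Opens) : Scheme.{u}), ∃ (j : F.I₀) (x : F.X j), F.f j x = z) ∧
      HTop.RefinesOver (U : T.Opens).ι F E := by
    intro U
    have : IsAffine ((U : T.Opens) : Scheme.{u}) := U.2
    exact href _ (U : T.Opens).ι
  choose F hFfin hFaff hFflat hFsurj hFref using href'
  have hFref' : ∀ (U : T.affineOpens) (j : (F U).I₀), ∃ (i : E.I₀) (h : (F U).X j ⟶ E.X i),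
      h ≫ E.f i = (F U).f j ≫ (U : T.Opens).ι := hFref
  choose idx hmap hcomm using hFref'
  have hmem1 : E.presieve₀ ∈ Scheme.precoverage @Flat T := by
    rw [Scheme.presieve₀_mem_precoverage_iff]
    refine ⟨fun t => ?_, hflat⟩
    obtain ⟨W, hW, htW, -⟩ := TopologicalSpace.Opens.isBasis_iff_nbhd.mp T.isBasis_affineOpens
      (show t ∈ (⊤ : T.Opens) from trivial)
    let U : T.affineOpens := ⟨W, hW⟩
    obtain ⟨j, x, hx⟩ := hFsurj U ⟨t, htW⟩
    refine ⟨idx U j, hmap U j x, ?_⟩
    rw [← Scheme.Hom.comp_apply, hcomm, Scheme.Hom.comp_apply, hx]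
    rfl
  have hmem2 : E.presieve₀ ∈ Scheme.qcPrecoverage T := by
    rw [Scheme.presieve₀_mem_qcPrecoverage_iff]
    constructor
    intro W hW
    let U : T.affineOpens := ⟨W, hW⟩
    have hfin : Finite (F U).I₀ := hFfin U
    -- the composite family is compact open covering W
    have h1 : IsCompactOpenCovered
        (fun j : (F U).I₀ => ((F U).f j ≫ (U : T.Opens).ι : (F U).X j → T)) (W : Set T) := by
      apply IsCompactOpenCovered.of_finite (fun j : (F U).I₀ => j)
        (fun j => (⊤ : TopologicalSpace.Opens ((F U).X j)))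
      · intro j
        have : IsAffine ((F U).X j) := hFaff U j
        exact isCompact_univ
      · apply Set.Subset.antisymm
        · intro t ht
          simp only [Set.mem_iUnion] at ht
          obtain ⟨j, x, -, rfl⟩ := ht
          change ((F U).f j ≫ (U : T.Opens).ι) x ∈ (W : Set T)
          rw [Scheme.Hom.comp_apply]
          exact ((F U).f j x).2
        · intro t ht
          obtain ⟨j, x, hx⟩ := hFsurj U ⟨t, ht⟩
          simp only [Set.mem_iUnion]
          refine ⟨j, x, trivial, ?_⟩
          change ((F U).f j ≫ (U : T.Opens).ι) x = t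
          rw [Scheme.Hom.comp_apply, hx]
          rfl
    exact IsCompactOpenCovered.of_comp (f := fun i => (E.f i : E.X i → T))
      (fun j : (F U).I₀ => ((F U).f j ≫ (U : T.Opens).ι : (F U).X j → T))
      (a := idx U) (fun j => (hmap U j : (F U).X j → E.X (idx U j)))
      (fun j => (hmap U j).continuous)
      (fun j => by
        funext x
        change ((F U).f j ≫ (U : T.Opens).ι) x = E.f (idx U j) (hmap U j x)
        rw [← hcomm, Scheme.Hom.comp_apply])
      (fun i => (E.f i).continuous) W.2 h1
  exact ⟨hmem2, hmem1⟩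

end Groth.Agent.S7512
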