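import Groth.Statements.S7514
import Mathlib
import Groth.Prelude.Def_Grpd
-- import your own Groth.Agent.* helpers here

set_option autoImplicit false
universe u
open CategoryTheory CategoryTheory.Limits AlgebraicGeometry
open Grpd

namespace Groth.Agent.S7514

open CategoryTheory CategoryTheory.Limits AlgebraicGeometry
namespace Aux

theorem mono_of_inj {X Y : Scheme.{u}} (f : X ⟶ Y) [IsOpenImmersion (pullback.diagonal f)]
    (h : ∀ (k : Type u) [Field k] [IsAlgClosed k],
      Function.Injective (fun r : Spec (CommRingCat.of k) ⟶ X => r ≫ f)) : Mono f := by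
  rw [← pullback.isIso_diagonal_iff]
  rw [isIso_iff_isOpenImmersion_and_surjective]
  refine ⟨inferInstance, ⟨?_⟩⟩
  intro z
  let κ := (pullback f f).residueField z
  let k := AlgebraicClosure κ
  let g : Spec (CommRingCat.of k) ⟶ pullback f f :=
    Spec.map (CommRingCat.ofHom (algebraMap κ k)) ≫ (pullback f f).fromSpecResidueField z
  have h1 : g ≫ pullback.fst f f = g ≫ pullback.snd f f := by
    apply h k
    simp [pullback.condition]
  have h2 : g = (g ≫ pullback.fst f f) ≫ pullback.diagonal f := by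
    apply pullback.hom_ext <;> simp [h1]
  obtain ⟨p⟩ : Nonempty (Spec (CommRingCat.of k)) := inferInstance
  have hz : g p = z := by
    have : g p ∈ Set.range ((pullback f f).fromSpecResidueField z) :=
      ⟨Spec.map (CommRingCat.ofHom (algebraMap κ k)) p, rfl⟩
    rw [Scheme.range_fromSpecResidueField] at this
    exact this
  refine ⟨(g ≫ pullback.fst f f) p, ?_⟩
  calc (pullback.diagonal f) ((g ≫ pullback.fst f f) p)
      = ((g ≫ pullback.fst f f) ≫ pullback.diagonal f) p := rfl
    _ = g p := by rw [← h2]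
    _ = z := hz

theorem main {S U R : Scheme.{u}} (pU : U ⟶ S) (j : R ⟶ pullback pU pU) [FormallyUnramified (j ≫ pullback.fst pU pU)] [LocallyOfFiniteType (j ≫ pullback.fst pU pU)] [FormallyUnramified (j ≫ pullback.snd pU pU)] [LocallyOfFiniteType (j ≫ pullback.snd pU pU)] (h₂ : ∀ (k : Type u) [Field k] [IsAlgClosed k], Function.Injective (fun r : Spec (CommRingCat.of k) ⟶ R => r ≫ j) ∧ Equivalence (fun a b : Spec (CommRingCat.of k) ⟶ U => ∃ r : Spec (CommRingCat.of k) ⟶ R, r ≫ j ≫ pullback.fst pU pU = a ∧ r ≫ j ≫ pullback.snd pU pU = b)) (e : U ⟶ R) (he : e ≫ j = pullback.lift (𝟙 U) (𝟙 U) rfl) (i : R ⟶ R) (hi : i ≫ j = j ≫ (pullbackSymmetry pU pU).hom) (c : pullback (j ≫ pullback.snd pU pU) (j ≫ pullback.fst pU pU) ⟶ R) (hc₁ : c ≫ j ≫ pullback.fst pU pU = pullback.fst (j ≫ pullback.snd pU pU) (j ≫ pullback.fst pU pU) ≫ j ≫ pullback.fst pU pU) (hc₂ : c ≫ j ≫ pullback.snd pU pU = pullback.snd (j ≫ pullback.snd pU pU) (j ≫ pullback.fst pU pU) ≫ j ≫ pullback.snd pU pU) : Mono j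 ∧ ∀ T : Scheme.{u}, Equivalence (fun a b : T ⟶ U => ∃ r : T ⟶ R, r ≫ j ≫ pullback.fst pU pU = a ∧ r ≫ j ≫ pullback.snd pU pU = b) := by
  have hu : FormallyUnramified j := FormallyUnramified.of_comp j (pullback.fst pU pU)
  have hl : LocallyOfFiniteType j := locallyOfFiniteType_of_comp j (pullback.fst pU pU)
  refine ⟨mono_of_inj j (fun k _ _ => (h₂ k).1), ?_⟩
  intro T
  refine ⟨?_, ?_, ?_⟩
  · intro a
    refine ⟨a ≫ e, ?_, ?_⟩
    · rw [Category.assoc, reassoc_of% he, pullback.lift_fst, Category.comp_id]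
    · rw [Category.assoc, reassoc_of% he, pullback.lift_snd, Category.comp_id]
  · rintro a b ⟨r, rfl, rfl⟩
    refine ⟨r ≫ i, ?_, ?_⟩
    · rw [Category.assoc, reassoc_of% hi]; simp
    · rw [Category.assoc, reassoc_of% hi]; simp
  · rintro a b c' ⟨r₁, rfl, rfl⟩ ⟨r₂, h, rfl⟩
    refine ⟨pullback.lift r₁ r₂ (by simpa using h.symm) ≫ c, ?_, ?_⟩
    · rw [Category.assoc, hc₁, pullback.lift_fst_assoc]
    · rw [Category.assoc, hc₂, pullback.lift_snd_assoc]

end Aux

/-- Let S be a scheme, U a scheme over S and j : R -> U x_S U a pre-relation, with t = pr_0 ∘ j and s =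
pr_1 ∘ j. Assume (1) s and t are unramified (formally unramified and locally of finite type), (2)
for every algebraically closed field k, the map from k-points of R to pairs of k-points of U is
injective with image an equivalence relation, and (3) there are morphisms e : U -> R, i : R -> R and
c : R x_(s,U,t) R -> R such that j ∘ e is the diagonal, j ∘ i is j followed by the flip of the two
factors, and j ∘ c is pr_02 ∘ (j x j) (the arrow c(a, b) has target t(a) and source s(b)). Then j is
an equivalence relation: j is a monomorphism and, for every scheme T, the relation 'there is a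
T-point r of R with t ∘ r = a and s ∘ r = b' on T-points a, b of U is an equivalence relation. -/
theorem result {S U R : Scheme.{u}} (pU : U ⟶ S) (j : R ⟶ pullback pU pU) [FormallyUnramified (j ≫ pullback.fst pU pU)] [LocallyOfFiniteType (j ≫ pullback.fst pU pU)] [FormallyUnramified (j ≫ pullback.snd pU pU)] [LocallyOfFiniteType (j ≫ pullback.snd pU pU)] (h₂ : ∀ (k : Type u) [Field k] [IsAlgClosed k], Function.Injective (fun r : Spec (CommRingCat.of k) ⟶ R => r ≫ j) ∧ Equivalence (fun a b : Spec (CommRingCat.of k) ⟶ U => ∃ r : Spec (CommRingCat.of k) ⟶ R, r ≫ j ≫ pullback.fst pU pU = a ∧ r ≫ j ≫ pullback.snd pU pU = b)) (e : U ⟶ R) (he : e ≫ j = pullback.lift (𝟙 U) (𝟙 U) rfl) (i : R ⟶ R) (hi : i ≫ j = j ≫ (pullbackSymmetry pU pU).hom) (c : pullback (j ≫ pullback.snd pU pU) (j ≫ pullback.fst pU pU) ⟶ R) (hc₁ : c ≫ j ≫ pullback.fst pU pU = pullback.fst (j ≫ pullback.snd pU pU) (j ≫ pullback.fst pU pU) ≫ j ≫ pullback.fst pU pU) (hc₂ : c ≫ j ≫ pullback.snd pU pU = pullback.snd (j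 ≫ pullback.snd pU pU) (j ≫ pullback.fst pU pU) ≫ j ≫ pullback.snd pU pU) : Mono j ∧ ∀ T : Scheme.{u}, Equivalence (fun a b : T ⟶ U => ∃ r : T ⟶ R, r ≫ j ≫ pullback.fst pU pU = a ∧ r ≫ j ≫ pullback.snd pU pU = b) := by
  exact Aux.main pU j h₂ e he i hi c hc₁ hc₂

end Groth.Agent.S7514
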