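import Groth.Statements.S7521
import Groth.Agent.S7483
import Groth.Agent.Lib.Helper1.SecOps


set_option autoImplicit false
open CategoryTheory CategoryTheory.Limits AlgebraicGeometry
universe u
open Desc

namespace Groth.Agent.S7521

/-- Let p : X -> Y be a surjective finite locally free morphism and V a scheme over X which has an
invertible module ample relative to V -> X. Then every descent datum on V relative to p is
effective. (A quasi-projective morphism V -> X, in particular a projective one, carries such a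
module.) (Descent data are taken in functor-of-points form.) -/
theorem result {X Y : Scheme.{u}} (p : X ⟶ Y) [Surjective p] [IsFinite p] [Flat p] [LocallyOfFinitePresentation p] (D : Desc.SchDD p) (L : D.obj.left.Modules) (hL : RelAmple.IsRelAmple D.obj.hom L) : ∃ W : Over Y, Nonempty ((Desc.toDD p).obj W ≅ D) := by
  refine Groth.Agent.S7483.result p D (fun y s hs => ?_)
  obtain ⟨a, ha, hya, -⟩ := (TopologicalSpace.Opens.isBasis_iff_nbhd.mp Y.isBasis_affineOpens)
    (show y ∈ (⊤ : Y.Opens) from trivial)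
  have hXa : IsAffineOpen (p ⁻¹ᵁ a) := ha.preimage p
  have hamp := hL.2 ⟨p ⁻¹ᵁ a, hXa⟩
  let Va : D.obj.left.Opens := D.obj.hom ⁻¹ᵁ (p ⁻¹ᵁ a)
  have hsVa : ∀ v ∈ s, v ∈ Va := by
    intro v hv
    change p.base (D.obj.hom.base v) ∈ a
    rw [hs v hv]
    exact hya
  let Z : Set (Va : Scheme.{u}) := Va.ι.base ⁻¹' (↑s : Set D.obj.left)
  have hZ : Z.Finite := s.finite_toSet.preimage Va.ι.injective.injOn
  obtain ⟨n, σ, hZσ, -, haff⟩ := Groth.Agent.Helper1.SecOps.exists_affine_genLocus_of_finite hamp
    Z hZ ⊤ (fun _ _ => trivial)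
  refine ⟨Va.ι ''ᵁ CohB1.genLocus _ σ, haff.image_of_isOpenImmersion Va.ι, ?_⟩
  intro v hv
  refine ⟨⟨v, hsVa v hv⟩, hZσ ?_, rfl⟩
  change Va.ι.base ⟨v, hsVa v hv⟩ ∈ (↑s : Set D.obj.left)
  exact hv

end Groth.Agent.S7521
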