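import Groth.Statements.S7522
import Mathlib
import Groth.Prelude.Def_Grpd
-- import your own Groth.Agent.* helpers here

set_option autoImplicit false
universe u
open CategoryTheory CategoryTheory.Limits AlgebraicGeometry
open Grpd

namespace Groth.Agent.S7522

open CategoryTheory CategoryTheory.Limits AlgebraicGeometry
namespace Aux

theorem main {S U R : Scheme.{u}} (pU : U ⟶ S) (j : R ⟶ pullback pU pU)
    (hj : ∀ T : Scheme.{u}, Equivalence (fun a b : T ⟶ U =>
      ∃ r : T ⟶ R, r ≫ j ≫ pullback.fst pU pU = a ∧ r ≫ j ≫ pullback.snd pU pU = b)) :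
    Equivalence (fun x y : ↥U =>
      ∃ r : R, (j ≫ pullback.fst pU pU) r = x ∧ (j ≫ pullback.snd pU pU) r = y) := by
  have hpt : ∀ (X : Scheme.{u}) (x : X) (w : Spec (X.residueField x)),
      X.fromSpecResidueField x w = x := by
    intro X x w
    have : X.fromSpecResidueField x w ∈ Set.range ⇑(X.fromSpecResidueField x) := ⟨w, rfl⟩
    rw [Scheme.range_fromSpecResidueField] at this
    exact this
  refine ⟨?_, ?_, ?_⟩
  · intro x
    obtain ⟨r, hr1, hr2⟩ := (hj (Spec (U.residueField x))).refl (U.fromSpecResidueField x)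
    obtain ⟨w⟩ : Nonempty (Spec (U.residueField x)) := inferInstance
    refine ⟨r w, ?_, ?_⟩
    · rw [← Scheme.Hom.comp_apply, hr1, hpt]
    · rw [← Scheme.Hom.comp_apply, hr2, hpt]
  · rintro x y ⟨r₀, h1, h2⟩
    obtain ⟨ρ', hρ1, hρ2⟩ := (hj (Spec (R.residueField r₀))).symm
      ⟨R.fromSpecResidueField r₀, rfl, rfl⟩
    obtain ⟨w⟩ : Nonempty (Spec (R.residueField r₀)) := inferInstance
    refine ⟨ρ' w, ?_, ?_⟩
    · rw [← Scheme.Hom.comp_apply, hρ1, Scheme.Hom.comp_apply, hpt, h2]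
    · rw [← Scheme.Hom.comp_apply, hρ2, Scheme.Hom.comp_apply, hpt, h1]
  · rintro x y z ⟨r₁, h1, h2⟩ ⟨r₂, h3, h4⟩
    obtain ⟨τ, hτ1, hτ2⟩ := Scheme.Pullback.exists_preimage_pullback
      (f := j ≫ pullback.snd pU pU) (g := j ≫ pullback.fst pU pU) r₁ r₂ (h2.trans h3.symm)
    obtain ⟨ρ₃, hρ1, hρ2⟩ := (hj (pullback (j ≫ pullback.snd pU pU) (j ≫ pullback.fst pU pU))).trans
      ⟨pullback.fst _ _, rfl, rfl⟩ ⟨pullback.snd _ _, pullback.condition.symm, rfl⟩
    refine ⟨ρ₃ τ, ?_, ?_⟩
    · rw [← Scheme.Hom.comp_apply, hρ1, Scheme.Hom.comp_apply, hτ1, h1]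
    · rw [← Scheme.Hom.comp_apply, hρ2, Scheme.Hom.comp_apply, hτ2, h4]

end Aux

/-- Let S be a scheme, U a scheme over S and j : R -> U x_S U a pre-equivalence relation, that is a
morphism such that for every scheme T the image of the T-points of R in pairs of T-points of U is an
equivalence relation; write t = pr_0 ∘ j and s = pr_1 ∘ j. Then the relation on the points of U in
which x ∼ y when some point r of R has t(r) = x and s(r) = y is an equivalence relation. -/
theorem result {S U R : Scheme.{u}} (pU : U ⟶ S) (j : R ⟶ pullback pU pU) (hj : ∀ T : Scheme.{u}, Equivalence (fun a b : T ⟶ U => ∃ r : T ⟶ R, r ≫ j ≫ pullback.fst pU pU = a ∧ r ≫ j ≫ pullback.snd pU pU = b)) : Equivalence (fun x y : ↥U => ∃ r : R, (j ≫ pullback.fst pU pU) r = x ∧ (j ≫ pullback.snd pU pU) r = y) := by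
  exact Aux.main pU j hj

end Groth.Agent.S7522
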