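import Groth.Statements.S7524
-- import your own Groth.Agent.* helpers here
import Groth.Agent.Lib.Helper7.Spectral

set_option autoImplicit false
universe u
open SpecSp

namespace Groth.Agent.S7524

/-- A continuous map f : X → Y of spectral spaces is spectral if and only if it is continuous when X and
Y both carry their constructible topologies. -/
theorem result {X Y : Type u} [TopologicalSpace X] [TopologicalSpace Y]
    [SpectralSpace X] [SpectralSpace Y] (f : X → Y) (hf : Continuous f) :
    IsSpectralMap f ↔ @Continuous X Y (constructibleTopology X) (constructibleTopology Y) f := by
  constructor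
  · exact fun h => Groth.Agent.Helper7.continuous_cons_of_isSpectralMap h
  · intro hc
    refine ⟨hf, fun s hso hsc => ?_⟩
    have h1 := (Groth.Agent.Helper7.isClopen_cons_of_isCompact_isOpen hso hsc).1
    have h2 : @IsClosed X (constructibleTopology X) (f ⁻¹' s) :=
      @IsClosed.preimage X Y (constructibleTopology X) (constructibleTopology Y) f hc _ h1
    exact Groth.Agent.Helper7.isCompact_of_isClosed_cons h2

end Groth.Agent.S7524
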