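import Groth.Statements.S7527
-- import your own Groth.Agent.* helpers here
import Groth.Agent.Lib.Helper7.Spectral

set_option autoImplicit false
universe u
open SpecSp

namespace Groth.Agent.S7527

/-- Let X be a spectral space and x, y ∈ X. Then either there is a third point specializing to both x
and y, or there are disjoint open neighbourhoods of x and of y. -/
theorem result {X : Type u} [TopologicalSpace X] [SpectralSpace X] (x y : X) :
    (∃ z : X, z ⤳ x ∧ z ⤳ y) ∨
    (∃ U V : Set X, IsOpen U ∧ IsOpen V ∧ x ∈ U ∧ y ∈ V ∧ Disjoint U V) := by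
  classical
  by_cases h : ∃ U V : Set X, IsOpen U ∧ IsOpen V ∧ x ∈ U ∧ y ∈ V ∧ Disjoint U V
  · exact Or.inr h
  · left
    push Not at h
    have hcomp : @IsCompact X (constructibleTopology X) Set.univ :=
      @isCompact_univ X (constructibleTopology X) Groth.Agent.Helper7.compactSpace_cons
    obtain ⟨z, -, hz⟩ := Groth.Agent.Helper7.nonempty_inter_sInter_of_isCompact_cons hcomp
      {W | IsOpen W ∧ IsCompact W ∧ (x ∈ W ∨ y ∈ W)} (fun W hW => ⟨hW.1, hW.2.1⟩) (by
        intro a ha hfin
        rw [Set.univ_inter]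
        -- split a into those containing x and the others
        set U' : Set X := ⋂₀ {W ∈ a | x ∈ W} with hU'
        set V' : Set X := ⋂₀ {W ∈ a | y ∈ W} with hV'
        have hU'o : IsOpen U' :=
          (hfin.subset (Set.sep_subset _ _)).isOpen_sInter fun W hW => (ha hW.1).1
        have hV'o : IsOpen V' :=
          (hfin.subset (Set.sep_subset _ _)).isOpen_sInter fun W hW => (ha hW.1).1
        have hxU' : x ∈ U' := fun W hW => hW.2
        have hyV' : y ∈ V' := fun W hW => hW.2
        have hnd := h U' V' hU'o hV'o hxU' hyV'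
        rw [Set.not_disjoint_iff] at hnd
        obtain ⟨w, hwU, hwV⟩ := hnd
        refine ⟨w, fun W hW => ?_⟩
        rcases (ha hW).2.2 with hx | hy
        · exact hwU W ⟨hW, hx⟩
        · exact hwV W ⟨hW, hy⟩)
    refine ⟨z, specializes_iff_forall_open.mpr fun s hs hxs => ?_,
      specializes_iff_forall_open.mpr fun s hs hys => ?_⟩
    · obtain ⟨V, ⟨hVo, hVc⟩, hxV, hVs⟩ :=
        PrespectralSpace.isTopologicalBasis.exists_subset_of_mem_open hxs hs
      exact hVs (hz V ⟨hVo, hVc, Or.inl hxV⟩)
    · obtain ⟨V, ⟨hVo, hVc⟩, hyV, hVs⟩ :=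
        PrespectralSpace.isTopologicalBasis.exists_subset_of_mem_open hys hs
      exact hVs (hz V ⟨hVo, hVc, Or.inr hyV⟩)

end Groth.Agent.S7527
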