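import Groth.Statements.S7528
-- import your own Groth.Agent.* helpers here
import Groth.Agent.Lib.Helper7.Spectral
import Mathlib.Tactic.TFAE
import Mathlib.Topology.Separation.Connected

set_option autoImplicit false
universe u
open SpecSp

namespace Groth.Agent.S7528

/-- For a spectral space X the following are equivalent: (1) X is profinite, i.e. quasi-compact,
Hausdorff and totally disconnected (quasi-compactness being automatic); (2) X is Hausdorff; (3) X is
totally disconnected; (4) every quasi-compact open subset is closed; (5) there are no nontrivial
specializations between points; (6) every point is closed; (7) every point is the generic point of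
an irreducible component; (8) the constructible topology coincides with the topology of X. -/
theorem result (X : Type u) [tX : TopologicalSpace X] [SpectralSpace X] :
    List.TFAE [
      T2Space X ∧ TotallyDisconnectedSpace X,
      T2Space X,
      TotallyDisconnectedSpace X,
      ∀ U : Set X, IsOpen U → IsCompact U → IsClosed U,
      ∀ x y : X, x ⤳ y → x = y,
      ∀ x : X, IsClosed ({x} : Set X),
      ∀ x : X, closure ({x} : Set X) ∈ irreducibleComponents X,
      constructibleTopology X = tX] := by
  have hcons_le : constructibleTopology X ≤ tX := Groth.Agent.Helper7.cons_le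
  tfae_have 1 → 2 := fun h => h.1
  tfae_have 2 → 1 := by
    intro h
    have : T2Space X := h
    exact ⟨h, inferInstance⟩
  tfae_have 1 → 3 := fun h => h.2
  tfae_have 3 → 6 := by
    intro h x
    have : TotallyDisconnectedSpace X := h
    exact isClosed_singleton
  tfae_have 6 → 5 := by
    intro h x y hxy
    have : y ∈ closure ({x} : Set X) := hxy.mem_closure
    rw [(h x).closure_eq] at this
    exact this.symm
  tfae_have 5 → 4 := by
    intro h U hUo hUc
    refine Groth.Agent.Helper7.isClosed_of_isClosed_cons_of_stableUnderSpecialization
      (Groth.Agent.Helper7.isClopen_cons_of_isCompact_isOpen hUo hUc).1 ?_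
    intro x y hxy hx
    rw [← h x y hxy]
    exact hx
  tfae_have 4 → 8 := by
    intro h
    refine le_antisymm hcons_le ?_
    refine le_generateFrom ?_
    intro s hs
    rcases hs with ⟨ho, _⟩ | ⟨hc, hcc⟩
    · exact ho
    · have := h sᶜ hc.isOpen_compl hcc
      simpa using this.isOpen_compl
  tfae_have 8 → 2 := by
    intro h
    have := Groth.Agent.Helper7.t2Space_cons (X := X)
    rwa [h] at this
  tfae_have 5 → 7 := by
    intro h x
    refine ⟨isIrreducible_singleton.closure, ?_⟩
    intro Z hZ hxZ
    obtain ⟨η, hη⟩ := QuasiSober.sober hZ.closure isClosed_closure
    have hηx : η ⤳ x := hη.specializes (subset_closure (hxZ (subset_closure rfl)))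
    have := h η x hηx
    subst this
    intro z hz
    rw [hη.def]
    exact subset_closure hz
  tfae_have 7 → 5 := by
    intro h x y hxy
    have hyx : closure ({y} : Set X) ⊆ closure {x} := hxy.closure_subset
    have hle : closure ({x} : Set X) ⊆ closure {y} :=
      (h y).2 isIrreducible_singleton.closure hyx
    have : Inseparable x y := inseparable_iff_closure_eq.mpr (le_antisymm hle hyx)
    exact this.eq
  tfae_finish

end Groth.Agent.S7528
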