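import Groth.Statements.S7530
-- import your own Groth.Agent.* helpers here
import Groth.Agent.Lib.Helper7.Spectral

set_option autoImplicit false
universe u
open SpecSp

namespace Groth.Agent.S7530

/-- Let f : X → Y be a map of spectral spaces which is spectral and bijective, and assume that
generalizations lift along f or that specializations lift along f. Then f is a homeomorphism. -/
theorem result {X Y : Type u} [TopologicalSpace X] [TopologicalSpace Y]
    [SpectralSpace X] [SpectralSpace Y] (f : X → Y) (hf : IsSpectralMap f) (hb : Function.Bijective f)
    (hlift : GeneralizingMap f ∨ SpecializingMap f) :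
    IsHomeomorph f := by
  have hc := Groth.Agent.Helper7.continuous_cons_of_isSpectralMap hf
  -- images of sets closed in the constructible topology are closed in the constructible topology
  have hclosed : ∀ E : Set X, @IsClosed X (constructibleTopology X) E →
      @IsClosed Y (constructibleTopology Y) (f '' E) := by
    intro E hE
    have h1 := Groth.Agent.Helper7.isCompact_cons_of_isClosed_cons hE
    have h2 : @IsCompact Y (constructibleTopology Y) (f '' E) :=
      @IsCompact.image X Y (constructibleTopology X) (constructibleTopology Y) E f h1 hc
    exact @IsCompact.isClosed Y (constructibleTopology Y) Groth.Agent.Helper7.t2Space_cons _ h2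
  have himg_compl : ∀ E : Set X, f '' Eᶜ = (f '' E)ᶜ := fun E =>
    Set.image_compl_eq hb
  -- images of compact opens are open
  have hopen : ∀ U : Set X, IsOpen U → IsCompact U → IsOpen (f '' U) := by
    intro U hUo hUc
    have hcl := Groth.Agent.Helper7.isClopen_cons_of_isCompact_isOpen hUo hUc
    rcases hlift with hg | hs
    · refine Groth.Agent.Helper7.isOpen_of_isOpen_cons_of_stableUnderGeneralization ?_
        (hg.stableUnderGeneralization_image hUo.stableUnderGeneralization)
      rw [← @isClosed_compl_iff Y (constructibleTopology Y), ← himg_compl]
      exact hclosed _ ((@isClosed_compl_iff X (constructibleTopology X) U).mpr hcl.2)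
    · rw [← isClosed_compl_iff, ← himg_compl]
      refine Groth.Agent.Helper7.isClosed_of_isClosed_cons_of_stableUnderSpecialization ?_
        (hs.stableUnderSpecialization_image hUo.isClosed_compl.stableUnderSpecialization)
      exact hclosed _ ((@isClosed_compl_iff X (constructibleTopology X) U).mpr hcl.2)
  refine ⟨hf.continuous, ?_, hb⟩
  intro W hW
  obtain ⟨S, hS, rfl⟩ := PrespectralSpace.isTopologicalBasis.open_eq_sUnion hW
  rw [Set.image_sUnion]
  refine isOpen_sUnion ?_
  rintro _ ⟨U, hU, rfl⟩
  exact hopen U (hS hU).1 (hS hU).2

end Groth.Agent.S7530
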