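import Groth.Statements.S7532
-- import your own Groth.Agent.* helpers here
import Groth.Agent.Lib.Helper7.SpectralSierpinski

set_option autoImplicit false
universe u
open SpecSp

namespace Groth.Agent.S7532

/-- Let W be the two-point space with one closed and one non-closed point (here the Sierpiński topology
on Prop). A topological space X is spectral exactly when, for some index type I, X admits a
topological embedding into the power W^I whose image is a closed set for the constructible topology
on W^I. -/
theorem result (X : Type u) [TopologicalSpace X] :
    SpectralSpace X ↔ ∃ (I : Type u) (f : X → (I → Prop)),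
      Topology.IsEmbedding f ∧ @IsClosed (I → Prop) (constructibleTopology (I → Prop)) (Set.range f) := by
  constructor
  · intro hX
    refine ⟨Groth.Agent.Helper7.CompactOpenIdx X, Groth.Agent.Helper7.toSierpinskiPower X,
      ⟨Groth.Agent.Helper7.isInducing_toSierpinskiPower X,
        Groth.Agent.Helper7.injective_toSierpinskiPower X⟩, ?_⟩
    rw [Groth.Agent.Helper7.range_toSierpinskiPower X]
    exact Groth.Agent.Helper7.isClosed_cons_primeFilterSet X
  · rintro ⟨I, f, hf, hr⟩
    have := Groth.Agent.Helper7.spectralSpace_pi_Prop I
    exact Groth.Agent.Helper7.spectralSpace_of_isEmbedding_of_isClosed_cons_range hf hr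

end Groth.Agent.S7532
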