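import Groth.Statements.S7539
-- import your own Groth.Agent.* helpers here
import Groth.Agent.Lib.Helper7.SpectralLimit4
import Mathlib.Tactic.TFAE

set_option autoImplicit false
universe u
open SpecSp

namespace Groth.Agent.S7539

/-- For a subset W of a spectral space X, these five conditions coincide: (1) W can be written as an
intersection of constructible subsets and is stable under generalization; (2) W is quasi-compact and
stable under generalization; (3) for some quasi-compact E ⊆ X, W consists exactly of the points that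
specialize to a point of E; (4) W is the intersection of some family of quasi-compact opens; (5)
there are a nonempty index set I and quasi-compact opens U_i with W = ⋂ U_i such that for all i, j
some U_k is contained in U_i ∩ U_j. -/
theorem result {X : Type u} [TopologicalSpace X] [SpectralSpace X] (W : Set X) :
    List.TFAE [
      (∃ S : Set (Set X), (∀ s ∈ S, Topology.IsConstructible s) ∧ W = ⋂₀ S) ∧ StableUnderGeneralization W,
      IsCompact W ∧ StableUnderGeneralization W,
      ∃ E : Set X, IsCompact E ∧ W = {x | ∃ e ∈ E, x ⤳ e},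
      ∃ S : Set (Set X), (∀ s ∈ S, IsOpen s ∧ IsCompact s) ∧ W = ⋂₀ S,
      ∃ (I : Type u) (_ : Nonempty I) (U : I → Set X), (∀ i, IsOpen (U i) ∧ IsCompact (U i)) ∧
        W = ⋂ i, U i ∧ ∀ i j, ∃ k, U k ⊆ U i ∩ U j] := by
  tfae_have 1 → 2 := by
    rintro ⟨⟨S, hS, rfl⟩, hgen⟩
    refine ⟨Groth.Agent.Helper7.isCompact_of_isClosed_cons ?_, hgen⟩
    exact @isClosed_sInter X (constructibleTopology X) S fun s hs =>
      (Groth.Agent.Helper7.isClopen_cons_of_isConstructible (hS s hs)).1
  tfae_have 2 → 3 := by
    rintro ⟨hc, hgen⟩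
    refine ⟨W, hc, ?_⟩
    ext x; constructor
    · intro hx; exact ⟨x, hx, specializes_rfl⟩
    · rintro ⟨e, he, hxe⟩; exact hgen hxe he
  tfae_have 3 → 4 := by
    rintro ⟨E, hE, rfl⟩
    refine ⟨{U | (IsOpen U ∧ IsCompact U) ∧ E ⊆ U}, fun s hs => hs.1, ?_⟩
    ext x; constructor
    · rintro ⟨e, he, hxe⟩ U ⟨⟨hUo, _⟩, hEU⟩
      exact hxe.mem_open hUo (hEU he)
    · intro hx
      by_contra hcon
      have hsub : E ⊆ (closure ({x} : Set X))ᶜ := by
        intro e he hmem
        exact hcon ⟨e, he, specializes_iff_mem_closure.mpr hmem⟩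
      obtain ⟨U, hUc, hUo, hEU, hUx⟩ := PrespectralSpace.exists_isCompact_and_isOpen_between hE
        isClosed_closure.isOpen_compl hsub
      exact hUx (hx U ⟨⟨hUo, hUc⟩, hEU⟩) (subset_closure rfl)
  tfae_have 4 → 5 := by
    rintro ⟨S, hS, rfl⟩
    classical
    refine ⟨Finset S, ⟨∅⟩, fun A => ⋂₀ ((fun s : S => (s : Set X)) '' (A : Set S)), ?_, ?_, ?_⟩
    · intro A
      constructor
      · refine Set.Finite.isOpen_sInter (A.finite_toSet.image _) ?_
        rintro _ ⟨s, _, rfl⟩; exact (hS s s.2).1
      · refine QuasiSeparatedSpace.isCompact_sInter (A.finite_toSet.image _) ?_ ?_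
        · rintro _ ⟨s, _, rfl⟩; exact Or.inl (hS s s.2).1
        · rintro _ ⟨s, _, rfl⟩; exact (hS s s.2).2
    · ext x
      simp only [Set.mem_sInter, Set.mem_iInter, Set.mem_image, Finset.mem_coe]
      constructor
      · rintro hx A _ ⟨s, _, rfl⟩; exact hx s s.2
      · intro hx s hs
        exact hx {⟨s, hs⟩} s ⟨⟨s, hs⟩, Finset.mem_singleton_self _, rfl⟩
    · intro A B
      refine ⟨A ∪ B, ?_⟩
      refine Set.subset_inter ?_ ?_
      · refine Set.sInter_subset_sInter (Set.image_mono ?_)
        exact_mod_cast Finset.subset_union_left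
      · refine Set.sInter_subset_sInter (Set.image_mono ?_)
        exact_mod_cast Finset.subset_union_right
  tfae_have 5 → 1 := by
    rintro ⟨I, _, U, hU, rfl, _⟩
    refine ⟨⟨Set.range U, ?_, (Set.sInter_range U).symm⟩, ?_⟩
    · rintro _ ⟨i, rfl⟩
      exact (hU i).2.isConstructible (hU i).1
    · exact stableUnderGeneralization_iInter _ fun i => (hU i).1.stableUnderGeneralization
  tfae_finish

end Groth.Agent.S7539
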