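import Groth.Statements.S7540
-- import your own Groth.Agent.* helpers here
import Groth.Agent.Lib.Helper7.Spectral

set_option autoImplicit false
universe u
open SpecSp

namespace Groth.Agent.S7540

/-- Let X be a spectral space, I a nonempty index set and U_i ⊆ X quasi-compact opens such that for all
i, j some U_k lies in U_i ∩ U_j; put W = ⋂ U_i. Then every open subset of X containing W contains
some U_i. The published statement also asserts that W is spectral and is the limit of the U_i; this
row states the neighbourhood property. -/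
theorem result {X : Type u} [TopologicalSpace X] [SpectralSpace X]
    {I : Type u} [Nonempty I] (U : I → Set X) (hU : ∀ i, IsOpen (U i) ∧ IsCompact (U i))
    (hdir : ∀ i j, ∃ k, U k ⊆ U i ∩ U j) :
    ∀ V : Set X, IsOpen V → (⋂ i, U i) ⊆ V → ∃ i, U i ⊆ V := by
  classical
  intro V hV hWV
  by_contra hcon
  push Not at hcon
  have hVc : @IsCompact X (constructibleTopology X) Vᶜ :=
    Groth.Agent.Helper7.isCompact_cons_of_isClosed_cons
      (Groth.Agent.Helper7.isClosed_cons_of_isClosed hV.isClosed_compl)
  -- directedness for finite subfamilies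
  have hdir' : ∀ a : Set (Set X), a.Finite → a ⊆ Set.range U → ∃ k, U k ⊆ ⋂₀ a := by
    intro a hfin
    induction a, hfin using Set.Finite.induction_on with
    | empty => intro _; exact ⟨Classical.arbitrary I, by simp⟩
    | @insert s a hs hfin ih =>
      intro hsub
      obtain ⟨k, hk⟩ := ih ((Set.subset_insert s a).trans hsub)
      obtain ⟨i, rfl⟩ := hsub (Set.mem_insert s a)
      obtain ⟨l, hl⟩ := hdir i k
      refine ⟨l, ?_⟩
      rw [Set.sInter_insert]
      exact hl.trans (Set.inter_subset_inter_right _ hk)
  obtain ⟨z, hzV, hz⟩ := Groth.Agent.Helper7.nonempty_inter_sInter_of_isCompact_cons hVc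
    (Set.range U) (by rintro _ ⟨i, rfl⟩; exact hU i) (by
      intro a ha hfin
      obtain ⟨k, hk⟩ := hdir' a hfin ha
      obtain ⟨w, hwU, hwV⟩ := Set.not_subset.mp (hcon k)
      exact ⟨w, hwV, hk hwU⟩)
  apply hzV
  apply hWV
  rw [Set.mem_iInter]
  intro i
  exact hz (U i) ⟨i, rfl⟩

end Groth.Agent.S7540
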