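import Groth.Statements.S7541
-- import your own Groth.Agent.* helpers here
import Groth.Agent.Lib.Helper7.SpectralLimit4

set_option autoImplicit false
universe u
open SpecSp

namespace Groth.Agent.S7541

/-- Let X be a spectral space, E ⊆ X a constructible subset and W the set of points of X that specialize
to a point of E. Then the subspace W minus E is a spectral space. (The description of W minus E as a
limit of the U_i minus E is not recorded here.) -/
theorem result {X : Type u} [TopologicalSpace X] [SpectralSpace X]
    (E : Set X) (hE : Topology.IsConstructible E) :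
    SpectralSpace ↥({x : X | ∃ e ∈ E, x ⤳ e} \ E) := by
  have hEc : IsCompact E := Groth.Agent.Helper7.isCompact_of_isConstructible hE
  have hEcl := Groth.Agent.Helper7.isClopen_cons_of_isConstructible hE
  have hW : {x : X | ∃ e ∈ E, x ⤳ e} = ⋂₀ {U | (IsOpen U ∧ IsCompact U) ∧ E ⊆ U} := by
    ext x; constructor
    · rintro ⟨e, he, hxe⟩ U ⟨⟨hUo, _⟩, hEU⟩
      exact hxe.mem_open hUo (hEU he)
    · intro hx
      by_contra hcon
      have hsub : E ⊆ (closure ({x} : Set X))ᶜ := by
        intro e he hmem
        exact hcon ⟨e, he, specializes_iff_mem_closure.mpr hmem⟩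
      obtain ⟨U, hUc, hUo, hEU, hUx⟩ := PrespectralSpace.exists_isCompact_and_isOpen_between hEc
        isClosed_closure.isOpen_compl hsub
      exact hUx (hx U ⟨⟨hUo, hUc⟩, hEU⟩) (subset_closure rfl)
  have hWcl : @IsClosed X (constructibleTopology X) {x : X | ∃ e ∈ E, x ⤳ e} := by
    rw [hW]
    exact @isClosed_sInter X (constructibleTopology X) _ fun s hs =>
      (Groth.Agent.Helper7.isClopen_cons_of_isCompact_isOpen hs.1.1 hs.1.2).1
  exact Groth.Agent.Helper7.spectralSpace_of_isClosed_cons
    (@IsClosed.sdiff X _ _ (constructibleTopology X) hWcl hEcl.2)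

end Groth.Agent.S7541
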