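import Groth.Statements.S7547
-- import your own Groth.Agent.* helpers here

set_option autoImplicit false
universe u
open PtTop

namespace Groth.Agent.S7547

/-- Let X be a Kolmogorov topological space whose quasi-compact opens form a basis for the topology. If
X is not Jacobson, there is a point x ∈ X which is not closed but such that {x} is locally closed. -/
theorem result {X : Type u} [TopologicalSpace X]
    [T0Space X] [PrespectralSpace X] (hX : ¬ JacobsonSpace X) :
    ∃ x : X, ¬ IsClosed ({x} : Set X) ∧ IsLocallyClosed ({x} : Set X) := by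
  rw [jacobsonSpace_iff_locallyClosed] at hX
  push Not at hX
  obtain ⟨Z, ⟨z, hz⟩, ⟨U, C, hU, hC, rfl⟩, hZe⟩ := hX
  obtain ⟨V, ⟨hVo, hVc⟩, hzV, hVU⟩ :=
    PrespectralSpace.isTopologicalBasis.exists_subset_of_mem_open hz.1 hU
  have hcomp : IsCompact (V ∩ C) := hVc.inter_right hC
  have : CompactSpace ↥(V ∩ C) := isCompact_iff_compactSpace.mp hcomp
  obtain ⟨x, _, hx⟩ := IsClosed.exists_closed_singleton (X := ↥(V ∩ C)) isClosed_univ
    ⟨⟨z, hzV, hz.2⟩, trivial⟩
  refine ⟨x.1, ?_, ?_⟩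
  · intro hcl
    have hmem : x.1 ∈ U ∩ C ∩ closedPoints X := ⟨⟨hVU x.2.1, x.2.2⟩, hcl⟩
    rw [hZe] at hmem
    exact hmem
  · obtain ⟨C', hC', hC'x⟩ := Topology.IsInducing.subtypeVal.isClosed_iff.mp hx
    refine ⟨V, C ∩ C', hVo, hC.inter hC', ?_⟩
    ext y
    simp only [Set.mem_singleton_iff, Set.mem_inter_iff]
    constructor
    · rintro rfl
      have : x ∈ (Subtype.val : ↥(V ∩ C) → X) ⁻¹' C' := hC'x ▸ rfl
      exact ⟨x.2.1, x.2.2, this⟩
    · rintro ⟨hyV, hyC, hyC'⟩
      have : (⟨y, hyV, hyC⟩ : ↥(V ∩ C)) ∈ (Subtype.val : ↥(V ∩ C) → X) ⁻¹' C' := hyC'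
      rw [hC'x] at this
      exact congrArg Subtype.val this

end Groth.Agent.S7547
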