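import Groth.Statements.S7548
-- import your own Groth.Agent.* helpers here

set_option autoImplicit false
universe u
open PtTop

namespace Groth.Agent.S7548

/-- Let X be a Jacobson space and let T = ⋃ T_i be a union of subsets T_i ⊆ X each locally closed in X
(open, closed, locally closed and constructible subsets are of this form). Then T is Jacobson and
every point of T closed in T is closed in X. -/
theorem result {X : Type u} [TopologicalSpace X] [JacobsonSpace X]
    {ι : Type u} (T : ι → Set X) (hT : ∀ i, IsLocallyClosed (T i)) :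
    JacobsonSpace ↥(⋃ i, T i) ∧
      closedPoints ↥(⋃ i, T i) ⊆ (Subtype.val : ↥(⋃ i, T i) → X) ⁻¹' closedPoints X := by
  have hclosedpt : ∀ t : ↥(⋃ i, T i), IsClosed ({t} : Set ↥(⋃ i, T i)) →
      IsClosed ({t.1} : Set X) := by
    intro t ht
    obtain ⟨i, hi⟩ := Set.mem_iUnion.mp t.2
    obtain ⟨C, hC, hCt⟩ := Topology.IsInducing.subtypeVal.isClosed_iff.mp ht
    apply isClosed_singleton_of_isLocallyClosed_singleton
    have : ({t.1} : Set X) = T i ∩ C := by
      ext y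
      simp only [Set.mem_singleton_iff, Set.mem_inter_iff]
      constructor
      · rintro rfl
        have : t ∈ (Subtype.val : ↥(⋃ i, T i) → X) ⁻¹' C := hCt ▸ rfl
        exact ⟨hi, this⟩
      · rintro ⟨hyT, hyC⟩
        have : (⟨y, Set.mem_iUnion.mpr ⟨i, hyT⟩⟩ : ↥(⋃ i, T i)) ∈
            (Subtype.val : ↥(⋃ i, T i) → X) ⁻¹' C := hyC
        rw [hCt] at this
        exact congrArg Subtype.val this
    rw [this]
    exact (hT i).inter hC.isLocallyClosed
  refine ⟨?_, fun t ht => hclosedpt t ht⟩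
  rw [jacobsonSpace_iff_locallyClosed]
  intro Z ⟨z, hz⟩ hZ
  obtain ⟨L, hL, rfl⟩ := Topology.IsInducing.subtypeVal.isLocallyClosed_iff.mp hZ
  obtain ⟨i, hi⟩ := Set.mem_iUnion.mp z.2
  obtain ⟨x, ⟨hxL, hxT⟩, hxcl⟩ := nonempty_inter_closedPoints (X := X) (Z := L ∩ T i)
    ⟨z.1, hz, hi⟩ (hL.inter (hT i))
  refine ⟨⟨x, Set.mem_iUnion.mpr ⟨i, hxT⟩⟩, hxL, ?_⟩
  have hxcl' : IsClosed ({x} : Set X) := hxcl
  have := hxcl'.preimage (continuous_subtype_val (p := fun y => y ∈ ⋃ i, T i))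
  have heq : ({⟨x, Set.mem_iUnion.mpr ⟨i, hxT⟩⟩} : Set ↥(⋃ i, T i)) =
      (Subtype.val : ↥(⋃ i, T i) → X) ⁻¹' {x} := by
    ext y
    simp only [Set.mem_singleton_iff, Set.mem_preimage]
    exact Subtype.ext_iff
  show IsClosed ({⟨x, Set.mem_iUnion.mpr ⟨i, hxT⟩⟩} : Set ↥(⋃ i, T i))
  rw [heq]
  exact this

end Groth.Agent.S7548
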