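import Groth.Statements.S7550
-- import your own Groth.Agent.* helpers here

set_option autoImplicit false
universe u
open PtTop

namespace Groth.Agent.S7550

/-- Let f : X → Y be a continuous and open map of topological spaces, with X Noetherian, every
irreducible closed subset of X having a generic point, and Y Kolmogorov. Then generalizations lift
along f. (Part (1), closed maps are specializing, is a library fact.) -/
theorem result {X Y : Type u} [TopologicalSpace X] [TopologicalSpace Y]
    [TopologicalSpace.NoetherianSpace X] [QuasiSober X] [T0Space Y]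
    (f : X → Y) (hf : Continuous f) (hfo : IsOpenMap f) :
    GeneralizingMap f := by
  intro x y' hy
  -- `hy : y' ⤳ f x`
  set T : Set X := f ⁻¹' {y'} with hTdef
  have hxT : x ∈ closure T := by
    rw [mem_closure_iff]
    intro U hU hxU
    have hfU : y' ∈ f '' U := hy.mem_open (hfo U hU) ⟨x, hxU, rfl⟩
    obtain ⟨u, huU, hfu⟩ := hfU
    exact ⟨u, huU, hfu⟩
  -- minimal closed set containing x in which T is dense
  let 𝒞 : Set (TopologicalSpace.Closeds X) :=
    {C | x ∈ (C : Set X) ∧ (C : Set X) ⊆ closure (T ∩ C)}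
  have h𝒞ne : 𝒞.Nonempty := by
    refine ⟨⟨closure T, isClosed_closure⟩, hxT, ?_⟩
    show closure T ⊆ closure (T ∩ closure T)
    rw [Set.inter_eq_left.mpr subset_closure]
  obtain ⟨Z, ⟨hxZ, hZT⟩, hZmin⟩ := wellFounded_lt.has_min 𝒞 h𝒞ne
  have hZirr : IsIrreducible (Z : Set X) := by
    refine ⟨⟨x, hxZ⟩, ?_⟩
    rw [isPreirreducible_iff_isClosed_union_isClosed]
    intro A B hA hB hZAB
    have hx2 : x ∈ closure (T ∩ Z ∩ A) ∪ closure (T ∩ Z ∩ B) := by
      rw [← closure_union, ← Set.inter_union_distrib_left]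
      have : T ∩ (Z : Set X) ∩ (A ∪ B) = T ∩ Z := by
        rw [Set.inter_eq_left]
        exact fun z hz => hZAB hz.2
      rw [this]
      exact hZT hxZ
    have key : ∀ A : Set X, IsClosed A → x ∈ closure (T ∩ Z ∩ A) → (Z : Set X) ⊆ A := by
      intro A hA hxA
      let Z' : TopologicalSpace.Closeds X := ⟨closure (T ∩ Z ∩ A), isClosed_closure⟩
      have hZ'Z : (Z' : Set X) ⊆ Z := by
        show closure (T ∩ Z ∩ A) ⊆ Z
        exact Z.isClosed.closure_subset_iff.mpr fun z hz => hz.1.2
      have hZ'A : (Z' : Set X) ⊆ A := by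
        show closure (T ∩ Z ∩ A) ⊆ A
        exact hA.closure_subset_iff.mpr fun z hz => hz.2
      have hZ'mem : Z' ∈ 𝒞 := by
        refine ⟨hxA, ?_⟩
        show closure (T ∩ Z ∩ A) ⊆ closure (T ∩ closure (T ∩ Z ∩ A))
        exact closure_mono fun z hz => ⟨hz.1.1, subset_closure hz⟩
      have hnlt := hZmin Z' hZ'mem
      have hle : Z' ≤ Z := hZ'Z
      have heq : Z' = Z := by
        by_contra hne
        exact hnlt (lt_of_le_of_ne hle hne)
      intro z hz
      have : z ∈ (Z' : Set X) := by rw [heq]; exact hz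
      exact hZ'A this
    rcases hx2 with h | h
    · exact Or.inl (key A hA h)
    · exact Or.inr (key B hB h)
  obtain ⟨ξ, hξ⟩ := QuasiSober.sober hZirr Z.isClosed
  refine ⟨ξ, hξ.specializes hxZ, ?_⟩
  -- `T ∩ Z` is nonempty
  have hTZne : (T ∩ (Z : Set X)).Nonempty := by
    by_contra hcon
    rw [Set.not_nonempty_iff_eq_empty] at hcon
    rw [hcon, closure_empty] at hZT
    exact hZT hxZ
  obtain ⟨t, htT, htZ⟩ := hTZne
  have h1 : f ξ ⤳ y' := by
    have : f ξ ⤳ f t := (hξ.specializes htZ).map hf
    rwa [show f t = y' from htT] at this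
  have h2 : y' ⤳ f ξ := by
    rw [specializes_iff_mem_closure]
    have hξT : ξ ∈ closure T := closure_mono Set.inter_subset_left (hZT hξ.mem)
    have : closure T ⊆ f ⁻¹' closure {y'} :=
      (isClosed_closure.preimage hf).closure_subset_iff.mpr fun z hz =>
        subset_closure (show f z ∈ ({y'} : Set Y) from hz)
    exact this hξT
  exact (h1.antisymm h2).eq

end Groth.Agent.S7550
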