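import Groth.Statements.S7551
-- import your own Groth.Agent.* helpers here
import Mathlib

set_option autoImplicit false
universe u
open PtTop

namespace Groth.Agent.S7551

/-- Let s, t : R → U and π : U → X be continuous maps between topological spaces satisfying: (1) π is an
open map, (2) U is a sober space, (3) s and t have finite fibres, (4) generalizations lift along s
and along t, and (5) the image of (t, s) : R → U × U is an equivalence relation on U and π
identifies X, as a set, with the quotient of U by it. Then X is Kolmogorov. -/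
theorem result {R U X : Type u}
    [TopologicalSpace R] [TopologicalSpace U] [TopologicalSpace X] [QuasiSober U] [T0Space U]
    (s t : R → U) (π : U → X) (hs : Continuous s) (ht : Continuous t) (hπ : Continuous π)
    (hπo : IsOpenMap π) (hsf : ∀ u, (s ⁻¹' {u}).Finite) (htf : ∀ u, (t ⁻¹' {u}).Finite)
    (hsg : GeneralizingMap s) (htg : GeneralizingMap t)
    (hE : Equivalence fun u u' : U => ∃ r, t r = u ∧ s r = u')
    (hπs : Function.Surjective π) (hπq : ∀ u u' : U, π u = π u' ↔ ∃ r, t r = u ∧ s r = u') :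
    T0Space X := by
  have hfin : ∀ x : X, (π ⁻¹' {x}).Finite := by
    intro x
    obtain ⟨u, rfl⟩ := hπs x
    refine ((hsf u).image t).subset ?_
    intro v hv
    obtain ⟨r, hr1, hr2⟩ := (hπq v u).mp hv
    exact ⟨r, hr2, hr1⟩
  -- key lemma
  have key : ∀ x x' : X, Inseparable x x' → ∀ v, π v = x → ∃ v', π v' = x' ∧ v' ⤳ v := by
    intro x x' hxx' v hv
    by_contra hcon
    simp only [not_exists, not_and] at hcon
    let Z : Set U := ⋃ v' ∈ π ⁻¹' {x'}, closure {v'}
    have hZ : IsClosed Z := (hfin x').isClosed_biUnion fun _ _ => isClosed_closure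
    have hvZ : v ∈ Zᶜ := by
      intro hvZ
      simp only [Z, Set.mem_iUnion] at hvZ
      obtain ⟨v', hv', hvv'⟩ := hvZ
      exact hcon v' hv' (specializes_iff_mem_closure.mpr hvv')
    have hopen : IsOpen (π '' Zᶜ) := hπo _ hZ.isOpen_compl
    have hx : x ∈ π '' Zᶜ := ⟨v, hvZ, hv⟩
    have hx' : x' ∈ π '' Zᶜ := (hxx'.mem_open_iff hopen).mp hx
    obtain ⟨w, hwZ, hw⟩ := hx'
    apply hwZ
    simp only [Z, Set.mem_iUnion]
    exact ⟨w, hw, subset_closure rfl⟩
  refine ⟨fun x x' hxx' => ?_⟩
  obtain ⟨u, hu⟩ := hπs x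
  let _ : Preorder U := specializationPreorder U
  obtain ⟨m, hm, hmax⟩ := (hfin x).exists_maximal ⟨u, hu⟩
  obtain ⟨v', hv', hv'm⟩ := key x x' hxx' m hm
  obtain ⟨v₁, hv₁, hv₁v'⟩ := key x' x hxx'.symm v' hv'
  have h1 : v₁ ⤳ m := hv₁v'.trans hv'm
  have h2 : m ⤳ v₁ := hmax hv₁ h1
  have h3 : m ⤳ v' := h2.trans hv₁v'
  have : v' = m := (h3.antisymm hv'm).eq.symm
  rw [← hm, ← hv', this]

end Groth.Agent.S7551
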