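import Groth.Statements.S7559
-- import your own Groth.Agent.* helpers here
import Groth.Agent.Lib.Helper7.Stratification
import Mathlib.Data.Fintype.Sum

set_option autoImplicit false
universe u
open PtTop

namespace Groth.Agent.S7559

/-- Let X be a topological space and X = ∐ P_k a finite partition into locally closed parts. Then there
is a finite stratification of X refining it: a finite partially ordered index set I and pairwise
disjoint locally closed strata S_i covering X with closure(S_j) ⊆ ⋃_{i ≤ j} S_i, such that every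
part P_k is a union of strata. -/
theorem result {X : Type u} [TopologicalSpace X]
    {n : ℕ} (P : Fin n → Set X) (hP : ∀ k, IsLocallyClosed (P k)) (hcov : ⋃ k, P k = Set.univ)
    (hdisj : ∀ k k', k ≠ k' → Disjoint (P k) (P k')) :
    ∃ (I : Type) (_ : Fintype I) (_ : PartialOrder I) (S : I → Set X),
      (∀ i, IsLocallyClosed (S i)) ∧ (⋃ i, S i = Set.univ) ∧ (∀ i j, i ≠ j → Disjoint (S i) (S j)) ∧
      (∀ j, closure (S j) ⊆ ⋃ i ∈ Set.Iic j, S i) ∧
      (∀ i k, (S i ∩ P k).Nonempty → S i ⊆ P k) := by
  classical
  let C : Fin n ⊕ Fin n → Set X := fun a =>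
    Sum.elim (fun k => closure (P k)) (fun k => closure (P k) \ P k) a
  have hC : ∀ a, IsClosed (C a) := by
    rintro (k | k)
    · exact isClosed_closure
    · have : closure (P k) \ P k = (coborder (P k))ᶜ := by
        rw [coborder, compl_compl]
      show IsClosed (closure (P k) \ P k)
      rw [this]
      exact (hP k).isOpen_coborder.isClosed_compl
  obtain ⟨I, hI1, hI2, S, h1, h2, h3, h4, h5⟩ := Groth.Agent.Helper7.exists_stratification C hC
  refine ⟨I, hI1, hI2, S, fun i => (h1 i).1, h2, h3, h4, fun i k => h5 (P k) ?_ i⟩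
  intro x y hxy hx
  have hx1 : x ∈ C (Sum.inl k) := subset_closure hx
  have hx2 : x ∉ C (Sum.inr k) := fun h => h.2 hx
  have hy1 : y ∈ closure (P k) := (hxy (Sum.inl k)).mp hx1
  have hy2 : y ∉ closure (P k) \ P k := fun h => hx2 ((hxy (Sum.inr k)).mpr h)
  by_contra hyP
  exact hy2 ⟨hy1, hyP⟩

end Groth.Agent.S7559
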