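import Groth.Statements.S7560
-- import your own Groth.Agent.* helpers here
import Groth.Agent.Lib.Helper7.Stratification
import Mathlib.Data.Fintype.Sigma

set_option autoImplicit false
universe u
open ConstrTop

namespace Groth.Agent.S7560

/-- Let X be a topological space written as a finite union X = T_1 ∪ … ∪ T_n of constructible subsets.
Then there is a finite stratification X = ∐ S_i (pairwise disjoint locally closed strata indexed by
a finite partially ordered set, with closure(S_j) ⊆ ⋃_{i ≤ j} S_i) whose strata are constructible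
and such that every T_k is a union of strata. -/
theorem result {X : Type u} [TopologicalSpace X]
    {n : ℕ} (T : Fin n → Set X) (hT : ∀ k, Topology.IsConstructible (T k)) (hcov : ⋃ k, T k = Set.univ) :
    ∃ (I : Type) (_ : Fintype I) (_ : PartialOrder I) (S : I → Set X),
      (∀ i, IsLocallyClosed (S i) ∧ Topology.IsConstructible (S i)) ∧ (⋃ i, S i = Set.univ) ∧
      (∀ i j, i ≠ j → Disjoint (S i) (S j)) ∧
      (∀ j, closure (S j) ⊆ ⋃ i ∈ Set.Iic j, S i) ∧
      (∀ i k, (S i ∩ T k).Nonempty → S i ⊆ T k) := by
  classical
  -- every constructible set is determined by finitely many retrocompact opens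
  have key : ∀ T : Set X, Topology.IsConstructible T → ∃ (m : ℕ) (W : Fin m → Set X),
      (∀ a, IsOpen (W a) ∧ IsRetrocompact (W a)) ∧
      ∀ x y, (∀ a, x ∈ W a ↔ y ∈ W a) → x ∈ T → y ∈ T := by
    intro T hT
    induction hT using Topology.IsConstructible.empty_union_induction with
    | open_retrocompact U hUo hUc =>
      exact ⟨1, fun _ => U, fun _ => ⟨hUo, hUc⟩, fun x y h hx => (h 0).mp hx⟩
    | union s _ t _ hs ht =>
      obtain ⟨m, W, hW, hWs⟩ := hs
      obtain ⟨m', W', hW', hWt⟩ := ht
      refine ⟨m + m', Fin.append W W', ?_, ?_⟩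
      · intro a
        refine Fin.addCases (fun i => ?_) (fun i => ?_) a
        · rw [Fin.append_left]; exact hW i
        · rw [Fin.append_right]; exact hW' i
      · intro x y h hx
        rcases hx with hx | hx
        · refine Or.inl (hWs x y (fun a => ?_) hx)
          have := h (Fin.castAdd m' a)
          rwa [Fin.append_left] at this
        · refine Or.inr (hWt x y (fun a => ?_) hx)
          have := h (Fin.natAdd m a)
          rwa [Fin.append_right] at this
    | compl s _ hs =>
      obtain ⟨m, W, hW, hWs⟩ := hs
      exact ⟨m, W, hW, fun x y h hx hy => hx (hWs y x (fun a => (h a).symm) hy)⟩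
  choose m W hW hWT using fun k => key (T k) (hT k)
  let C : (Σ k : Fin n, Fin (m k)) → Set X := fun a => (W a.1 a.2)ᶜ
  have hC : ∀ a, IsClosed (C a) := fun a => (hW a.1 a.2).1.isClosed_compl
  have hCc : ∀ a, Topology.IsConstructible (C a) := fun a =>
    ((hW a.1 a.2).2.isConstructible (hW a.1 a.2).1).compl
  obtain ⟨I, hI1, hI2, S, h1, h2, h3, h4, h5⟩ := Groth.Agent.Helper7.exists_stratification C hC
  refine ⟨I, hI1, hI2, S, fun i => ⟨(h1 i).1, ?_⟩, h2, h3, h4, fun i k => h5 (T k) ?_ i⟩
  · obtain ⟨s, hs⟩ := (h1 i).2
    have : S i = ⋂ a, (if a ∈ s then C a else (C a)ᶜ) := by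
      rw [hs]
      ext x
      simp only [Set.mem_ofPred_eq, Set.mem_iInter]
      refine forall_congr' fun a => ?_
      by_cases ha : a ∈ s
      · simp [ha]
      · simp [ha]
    rw [this]
    refine Topology.IsConstructible.iInter fun a => ?_
    split_ifs
    · exact hCc a
    · exact (hCc a).compl
  · intro x y hxy hx
    refine hWT k x y (fun a => ?_) hx
    have := hxy ⟨k, a⟩
    simp only [C, Set.mem_compl_iff] at this
    exact not_iff_not.mp this

end Groth.Agent.S7560
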