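import Groth.Statements.S7561
-- import your own Groth.Agent.* helpers here
import Groth.Agent.Lib.Helper7.Strat

set_option autoImplicit false
universe u
open PtTop

namespace Groth.Agent.S7561

/-- Let X be a Noetherian topological space and X = ∐ P_k a finite partition into locally closed parts.
Then it is refined by a finite good stratification: a finite partition X = ∐ S_i into locally closed
strata such that S_i ∩ closure(S_j) ≠ ∅ implies S_i ⊆ closure(S_j), with every P_k a union of
strata. -/
theorem result {X : Type u} [TopologicalSpace X]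
    [TopologicalSpace.NoetherianSpace X]
    {n : ℕ} (P : Fin n → Set X) (hP : ∀ k, IsLocallyClosed (P k)) (hcov : ⋃ k, P k = Set.univ)
    (hdisj : ∀ k k', k ≠ k' → Disjoint (P k) (P k')) :
    ∃ (m : ℕ) (S : Fin m → Set X),
      (∀ i, IsLocallyClosed (S i)) ∧ (⋃ i, S i = Set.univ) ∧ (∀ i j, i ≠ j → Disjoint (S i) (S j)) ∧
      (∀ i j, (S i ∩ closure (S j)).Nonempty → S i ⊆ closure (S j)) ∧
      (∀ i k, (S i ∩ P k).Nonempty → S i ⊆ P k) := by
  classical
  obtain ⟨Ss, hSs⟩ := Groth.Agent.Helper7.Strat.exists_isGood (X := X) ⊤ (Finset.univ.image P) (by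
    intro Q hQ
    obtain ⟨k, -, rfl⟩ := Finset.mem_image.mp hQ
    exact hP k)
  let e := Ss.equivFin
  refine ⟨Ss.card, fun i => (e.symm i).1, ?_, ?_, ?_, ?_, ?_⟩
  · intro i
    exact hSs.lc _ (e.symm i).2
  · rw [Set.eq_univ_iff_forall]
    intro x
    have hx : x ∈ ⋃₀ (Ss : Set (Set X)) := by rw [hSs.cover]; trivial
    obtain ⟨S, hS, hxS⟩ := hx
    refine Set.mem_iUnion.mpr ⟨e ⟨S, hS⟩, ?_⟩
    simpa using hxS
  · intro i j hij
    refine hSs.disj _ (e.symm i).2 _ (e.symm j).2 ?_
    intro h
    exact hij (e.symm.injective (Subtype.ext h))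
  · intro i j h
    exact hSs.front _ (e.symm i).2 _ (e.symm j).2 h
  · intro i k h
    exact hSs.refine _ (e.symm i).2 (P k) (Finset.mem_image_of_mem P (Finset.mem_univ k)) h

end Groth.Agent.S7561
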