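import Groth.Statements.S7563
-- import your own Groth.Agent.* helpers here

set_option autoImplicit false
universe u
open PtTop

namespace Groth.Agent.S7563

/-- Let X be a topological space and X = X_1 ∪ … ∪ X_n with each X_i irreducible and closed and no X_i
contained in the union of the others. Then the irreducible components of X are precisely the sets
X_1, …, X_n. -/
theorem result {X : Type u} [TopologicalSpace X]
    {n : ℕ} (Z : Fin n → Set X) (hZ : ∀ i, IsIrreducible (Z i) ∧ IsClosed (Z i))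
    (hcov : ⋃ i, Z i = Set.univ) (hirr : ∀ i, ¬ Z i ⊆ ⋃ j ∈ ({i}ᶜ : Set (Fin n)), Z j) :
    irreducibleComponents X = Set.range Z := by
  classical
  -- key covering lemma
  have key : ∀ (s : Set X), IsIrreducible s → ∀ J : Finset (Fin n), s ⊆ ⋃ j ∈ J, Z j →
      ∃ j ∈ J, s ⊆ Z j := by
    intro s hs J hJ
    have := (isIrreducible_iff_sUnion_isClosed.mp hs) (J.image Z)
      (by
        intro z hz
        obtain ⟨j, _, rfl⟩ := Finset.mem_image.mp hz
        exact (hZ j).2)
      (by
        intro x hx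
        obtain ⟨j, hj, hxj⟩ := Set.mem_iUnion₂.mp (hJ hx)
        exact Set.mem_sUnion.mpr ⟨Z j, Finset.mem_coe.mpr (Finset.mem_image_of_mem Z hj), hxj⟩)
    obtain ⟨z, hz, hsz⟩ := this
    obtain ⟨j, hj, rfl⟩ := Finset.mem_image.mp hz
    exact ⟨j, hj, hsz⟩
  have key' : ∀ (s : Set X), IsIrreducible s → ∃ j, s ⊆ Z j := by
    intro s hs
    obtain ⟨j, _, h⟩ := key s hs Finset.univ (by
      intro x _
      have : x ∈ ⋃ i, Z i := by rw [hcov]; trivial
      obtain ⟨i, hi⟩ := Set.mem_iUnion.mp this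
      exact Set.mem_iUnion₂.mpr ⟨i, Finset.mem_univ i, hi⟩)
    exact ⟨j, h⟩
  ext s
  constructor
  · intro hs
    obtain ⟨j, hj⟩ := key' s hs.1
    exact ⟨j, (hs.2 (hZ j).1 hj).antisymm hj |>.symm ▸ rfl⟩
  · rintro ⟨i, rfl⟩
    refine ⟨(hZ i).1, ?_⟩
    intro s hs his
    obtain ⟨j, hj⟩ := key' s hs
    by_cases hji : j = i
    · subst hji; exact hj
    · exfalso
      apply hirr i
      intro x hx
      exact Set.mem_iUnion₂.mpr ⟨j, hji, hj (his hx)⟩

end Groth.Agent.S7563
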