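import Groth.Statements.S7564
-- import your own Groth.Agent.* helpers here

set_option autoImplicit false
universe u
open PtTop

namespace Groth.Agent.S7564

/-- For a continuous surjection f : X → Y, if X has finitely many irreducible components, say n of them,
then Y has at most n irreducible components. -/
theorem result {X Y : Type u} [TopologicalSpace X] [TopologicalSpace Y]
    (f : X → Y) (hf : Continuous f) (hs : Function.Surjective f) (hfin : (irreducibleComponents X).Finite) :
    (irreducibleComponents Y).Finite ∧ (irreducibleComponents Y).ncard ≤ (irreducibleComponents X).ncard := by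
  classical
  have hsub : irreducibleComponents Y ⊆ (fun D : Set X => closure (f '' D)) '' irreducibleComponents X := by
    intro C hC
    -- C ⊆ ⋃_{D} closure (f '' D)
    have hcover : C ⊆ ⋃₀ ↑(hfin.toFinset.image (fun D : Set X => closure (f '' D))) := by
      intro y _
      obtain ⟨x, rfl⟩ := hs y
      have hx : x ∈ ⋃₀ irreducibleComponents X := by
        rw [sUnion_irreducibleComponents]; trivial
      obtain ⟨D, hD, hxD⟩ := Set.mem_sUnion.mp hx
      refine Set.mem_sUnion.mpr ⟨closure (f '' D), ?_, subset_closure ⟨x, hxD, rfl⟩⟩
      exact Finset.mem_coe.mpr (Finset.mem_image_of_mem _ (hfin.mem_toFinset.mpr hD))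
    obtain ⟨z, hz, hCz⟩ := (isIrreducible_iff_sUnion_isClosed.mp hC.1) _
      (by
        intro z hz
        obtain ⟨D, _, rfl⟩ := Finset.mem_image.mp hz
        exact isClosed_closure) hcover
    obtain ⟨D, hD, rfl⟩ := Finset.mem_image.mp hz
    have hD' : D ∈ irreducibleComponents X := hfin.mem_toFinset.mp hD
    have hirr : IsIrreducible (closure (f '' D)) :=
      (hD'.1.image f hf.continuousOn).closure
    exact ⟨D, hD', ((hC.2 hirr hCz).antisymm hCz)⟩
  have hfinim : ((fun D : Set X => closure (f '' D)) '' irreducibleComponents X).Finite :=
    hfin.image _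
  refine ⟨hfinim.subset hsub, ?_⟩
  exact (Set.ncard_le_ncard hsub hfinim).trans (Set.ncard_image_le hfin)

end Groth.Agent.S7564
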