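import Groth.Statements.S7566
-- import your own Groth.Agent.* helpers here

set_option autoImplicit false
universe u
open PtTop

namespace Groth.Agent.S7566

/-- Let X be a quasi-compact topological space whose quasi-compact opens form a basis, any two of them
meeting in a quasi-compact set. Then for every x ∈ X the connected component of x equals the
intersection of every clopen subset of X that contains x. -/
theorem result {X : Type u} [TopologicalSpace X]
    [CompactSpace X] [PrespectralSpace X] [QuasiSeparatedSpace X] (x : X) :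
    connectedComponent x = ⋂₀ {Z : Set X | IsClopen Z ∧ x ∈ Z} := by
  set S : Set X := ⋂₀ {Z : Set X | IsClopen Z ∧ x ∈ Z} with hS
  have hxS : x ∈ S := fun Z hZ => hZ.2
  have hSclosed : IsClosed S := isClosed_sInter fun Z hZ => hZ.1.1
  -- any compact set disjoint from `S` is disjoint from a clopen neighbourhood of `x`
  have key : ∀ K : Set X, IsCompact K → K ∩ S = ∅ → ∃ Z, IsClopen Z ∧ x ∈ Z ∧ K ∩ Z = ∅ := by
    intro K hK hKS
    have hSi : S = ⋂ i : {Z : Set X // IsClopen Z ∧ x ∈ Z}, (i : Set X) := by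
      rw [hS, Set.sInter_eq_iInter]
      rfl
    rw [hSi] at hKS
    obtain ⟨u, hu⟩ := hK.elim_finite_subfamily_closed
      (fun i : {Z : Set X // IsClopen Z ∧ x ∈ Z} => (i : Set X)) (fun i => i.2.1.1) hKS
    refine ⟨⋂ i ∈ u, (i : Set X), isClopen_biInter_finset fun i _ => i.2.1, ?_, hu⟩
    exact Set.mem_iInter₂.mpr fun i _ => i.2.2
  apply Set.Subset.antisymm
  · intro y hy Z hZ
    exact hZ.1.connectedComponent_subset hZ.2 hy
  · refine IsPreconnected.subset_connectedComponent ?_ hxS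
    rw [isPreconnected_closed_iff]
    intro t t' ht ht' hStt' hSt hSt'
    by_contra hcon
    rw [Set.not_nonempty_iff_eq_empty] at hcon
    -- B = S ∩ t, C = S ∩ t'
    have hBc : IsCompact (S ∩ t) := (hSclosed.inter ht).isCompact
    have hCc : IsCompact (S ∩ t') := (hSclosed.inter ht').isCompact
    have hBsub : S ∩ t ⊆ t'ᶜ := by
      intro z hz hzt'
      have : z ∈ S ∩ (t ∩ t') := ⟨hz.1, hz.2, hzt'⟩
      rw [hcon] at this; exact this
    have hCsub : S ∩ t' ⊆ tᶜ := by
      intro z hz hzt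
      have : z ∈ S ∩ (t ∩ t') := ⟨hz.1, hzt, hz.2⟩
      rw [hcon] at this; exact this
    obtain ⟨U, hUc, hUo, hBU, hUt'⟩ := PrespectralSpace.exists_isCompact_and_isOpen_between hBc
      ht'.isOpen_compl hBsub
    obtain ⟨V, hVc, hVo, hCV, hVt⟩ := PrespectralSpace.exists_isCompact_and_isOpen_between hCc
      ht.isOpen_compl hCsub
    have hSUV : S ⊆ U ∪ V := by
      intro z hz
      rcases hStt' hz with h | h
      · exact Or.inl (hBU ⟨hz, h⟩)
      · exact Or.inr (hCV ⟨hz, h⟩)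
    -- first clopen: disjoint from U ∩ V
    obtain ⟨Z₁, hZ₁, hxZ₁, hZ₁e⟩ := key (U ∩ V)
      (QuasiSeparatedSpace.inter_isCompact U V hUo hUc hVo hVc) (by
        rw [Set.eq_empty_iff_forall_notMem]
        rintro z ⟨⟨hzU, hzV⟩, hzS⟩
        rcases hStt' hzS with h | h
        · exact hVt hzV h
        · exact hUt' hzU h)
    -- second clopen: contained in U ∪ V
    obtain ⟨Z₂, hZ₂, hxZ₂, hZ₂e⟩ := key (U ∪ V)ᶜ (hUo.union hVo).isClosed_compl.isCompact (by
        rw [Set.eq_empty_iff_forall_notMem]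
        rintro z ⟨hz1, hzS⟩
        exact hz1 (hSUV hzS))
    set Z := Z₁ ∩ Z₂ with hZdef
    have hZ : IsClopen Z := hZ₁.inter hZ₂
    have hxZ : x ∈ Z := ⟨hxZ₁, hxZ₂⟩
    have hZUV : Z ⊆ U ∪ V := by
      intro z hz
      by_contra hzn
      have : z ∈ (U ∪ V)ᶜ ∩ Z₂ := ⟨hzn, hz.2⟩
      rw [hZ₂e] at this; exact this
    have hZdisj : ∀ z, z ∈ Z → z ∈ U → z ∈ V → False := by
      intro z hz hzU hzV
      have : z ∈ U ∩ V ∩ Z₁ := ⟨⟨hzU, hzV⟩, hz.1⟩
      rw [hZ₁e] at this; exact this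
    have hUZ : IsClopen (U ∩ Z) := by
      refine ⟨?_, hUo.inter hZ.2⟩
      have : U ∩ Z = Z ∩ Vᶜ := by
        ext z; constructor
        · rintro ⟨hzU, hzZ⟩; exact ⟨hzZ, fun hzV => hZdisj z hzZ hzU hzV⟩
        · rintro ⟨hzZ, hzV⟩
          rcases hZUV hzZ with h | h
          · exact ⟨h, hzZ⟩
          · exact (hzV h).elim
      rw [this]
      exact hZ.1.inter hVo.isClosed_compl
    have hVZ : IsClopen (V ∩ Z) := by
      refine ⟨?_, hVo.inter hZ.2⟩
      have : V ∩ Z = Z ∩ Uᶜ := by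
        ext z; constructor
        · rintro ⟨hzV, hzZ⟩; exact ⟨hzZ, fun hzU => hZdisj z hzZ hzU hzV⟩
        · rintro ⟨hzZ, hzU⟩
          rcases hZUV hzZ with h | h
          · exact (hzU h).elim
          · exact ⟨h, hzZ⟩
      rw [this]
      exact hZ.1.inter hUo.isClosed_compl
    rcases hSUV hxS with hxU | hxV
    · -- S ⊆ U ∩ Z, so C is empty
      have hSsub : S ⊆ U ∩ Z := fun z hz => hz (U ∩ Z) ⟨hUZ, hxU, hxZ⟩
      obtain ⟨c, hcS, hct'⟩ := hSt'
      exact hUt' (hSsub hcS).1 hct'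
    · have hSsub : S ⊆ V ∩ Z := fun z hz => hz (V ∩ Z) ⟨hVZ, hxV, hxZ⟩
      obtain ⟨b, hbS, hbt⟩ := hSt
      exact hVt (hSsub hbS).1 hbt

end Groth.Agent.S7566
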