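import Groth.Statements.S7567
-- import your own Groth.Agent.* helpers here
import Groth.Agent.S7566

set_option autoImplicit false
universe u
open PtTop

namespace Groth.Agent.S7567

/-- Let X be a quasi-compact topological space whose quasi-compact opens form a basis, any two of them
meeting in a quasi-compact set. For a subset T ⊆ X these two conditions are equivalent: (a) T can be
written as an intersection of clopen subsets of X; (b) T is closed and is a union of connected
components of X. -/
theorem result {X : Type u} [TopologicalSpace X]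
    [CompactSpace X] [PrespectralSpace X] [QuasiSeparatedSpace X] (T : Set X) :
    (∃ S : Set (Set X), (∀ Z ∈ S, IsClopen Z) ∧ T = ⋂₀ S) ↔
      (IsClosed T ∧ ∀ x ∈ T, connectedComponent x ⊆ T) := by
  constructor
  · rintro ⟨S, hS, rfl⟩
    refine ⟨isClosed_sInter fun Z hZ => (hS Z hZ).1, fun x hx y hy Z hZ => ?_⟩
    exact (hS Z hZ).connectedComponent_subset (hx Z hZ) hy
  · rintro ⟨hTc, hT⟩
    refine ⟨{Z | IsClopen Z ∧ T ⊆ Z}, fun Z hZ => hZ.1, ?_⟩
    apply Set.Subset.antisymm
    · intro t ht Z hZ
      exact hZ.2 ht
    · intro y hy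
      by_contra hyT
      -- for each t ∈ T there is a clopen containing t but not y
      have hex : ∀ t ∈ T, ∃ Z : Set X, IsClopen Z ∧ t ∈ Z ∧ y ∉ Z := by
        intro t ht
        have hyt : y ∉ connectedComponent t := by
          intro hyc
          have : connectedComponent y = connectedComponent t := connectedComponent_eq hyc |>.symm
          exact hyT (hT t ht hyc)
        rw [Groth.Agent.S7566.result t] at hyt
        simp only [Set.mem_sInter, Set.mem_ofPred_eq, not_forall] at hyt
        obtain ⟨Z, ⟨hZ, htZ⟩, hyZ⟩ := hyt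
        exact ⟨Z, hZ, htZ, hyZ⟩
      choose! Zf hZf using hex
      obtain ⟨u, hu⟩ := hTc.isCompact.elim_finite_subcover_image (b := T) (c := Zf)
        (fun t ht => (hZf t ht).1.2) (fun t ht => Set.mem_iUnion₂.mpr ⟨t, ht, (hZf t ht).2.1⟩)
      obtain ⟨huT, hufin, hcover⟩ := hu
      have hclopen : IsClopen (⋃ t ∈ u, Zf t) :=
        hufin.isClopen_biUnion fun t ht => (hZf t (huT ht)).1
      have := hy (⋃ t ∈ u, Zf t) ⟨hclopen, hcover⟩
      obtain ⟨t, ht, hyt⟩ := Set.mem_iUnion₂.mp this
      exact (hZf t (huT ht)).2.2 hyt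

end Groth.Agent.S7567
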