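import Groth.Statements.S7569
-- import your own Groth.Agent.* helpers here
import Groth.Agent.Lib.Helper7.Top.CechRefine2

set_option autoImplicit false
universe u
open PtTop

namespace Groth.Agent.S7569

/-- Let X be a Hausdorff, locally quasi-compact space and Z ⊆ X a quasi-compact subset. Let p ≥ 0, let
U_i ⊆ X be opens with Z ⊆ ⋃ U_i, and for every (p+1)-tuple (i_0, …, i_p) let W_{i_0…i_p} ⊆ U_{i_0} ∩
… ∩ U_{i_p} be an open with W_{i_0…i_p} ∩ Z = U_{i_0} ∩ … ∩ U_{i_p} ∩ Z. Then there are opens V_i ⊆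
X with Z ⊆ ⋃ V_i, closure(V_i) ⊆ U_i for all i, and V_{i_0} ∩ … ∩ V_{i_p} ⊆ W_{i_0…i_p} for all
(p+1)-tuples. -/
theorem result {X : Type u} [TopologicalSpace X]
    [T2Space X] [LocallyCompactSpace X] (Z : Set X) (hZ : IsCompact Z)
    {ι : Type u} (U : ι → Set X) (hU : ∀ i, IsOpen (U i)) (hcov : Z ⊆ ⋃ i, U i) (p : ℕ)
    (W : (Fin (p + 1) → ι) → Set X) (hWo : ∀ t, IsOpen (W t)) (hWU : ∀ t, W t ⊆ ⋂ l, U (t l))
    (hWZ : ∀ t, W t ∩ Z = (⋂ l, U (t l)) ∩ Z) :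
    ∃ V : ι → Set X, (∀ i, IsOpen (V i)) ∧ (Z ⊆ ⋃ i, V i) ∧ (∀ i, closure (V i) ⊆ U i) ∧
      (∀ t : Fin (p + 1) → ι, (⋂ l, V (t l)) ⊆ W t) := by
  have hZsep : ∀ z ∈ Z, ∀ z' ∈ Z, z ≠ z' →
      ∃ A B : Set X, IsOpen A ∧ IsOpen B ∧ z ∈ A ∧ z' ∈ B ∧ Disjoint A B := by
    intro z _ z' _ hne
    obtain ⟨A, B, hA, hB, hzA, hzB, hAB⟩ := t2_separation hne
    exact ⟨A, B, hA, hB, hzA, hzB, hAB⟩
  have hWZ' : ∀ t, (⋂ l, U (t l)) ∩ Z ⊆ W t := fun t => by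
    rw [← hWZ t]; exact Set.inter_subset_left
  obtain ⟨V, hVo, hVcov, _, hVQ, hVW⟩ := Groth.Agent.Helper7.Cech.core hZ hZsep U hU hcov p W hWo
    hWZ' (fun i O => closure O ⊆ U i)
    (by
      intro i K hK _ hKU
      obtain ⟨O, hO, hKO, hcl, _⟩ := exists_open_between_and_isCompact_closure hK (hU i) hKU
      exact ⟨O, hO, hKO, subset_closure.trans hcl, hcl⟩)
    (by
      intro i O O' hOO' hQ
      exact (closure_mono hOO').trans hQ)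
  exact ⟨V, hVo, hVcov, hVQ, hVW⟩

end Groth.Agent.S7569
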