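import Groth.Statements.S7570
-- import your own Groth.Agent.* helpers here
import Groth.Agent.Lib.Helper7.Top.CechRefine2

set_option autoImplicit false
universe u
open PtTop

namespace Groth.Agent.S7570

/-- Let X be a topological space and Z ⊆ X a quasi-compact subset such that any two distinct points of Z
have disjoint open neighbourhoods in X. Let p ≥ 0, let U_i ⊆ X be opens with Z ⊆ ⋃ U_i, and for
every (p+1)-tuple let W_{i_0…i_p} ⊆ U_{i_0} ∩ … ∩ U_{i_p} be an open with W_{i_0…i_p} ∩ Z = U_{i_0}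
∩ … ∩ U_{i_p} ∩ Z. Then there are opens V_i with (1) Z ⊆ ⋃ V_i, (2) V_i ⊆ U_i, (3) closure(V_i) ∩ Z
⊆ U_i, and (4) V_{i_0} ∩ … ∩ V_{i_p} ⊆ W_{i_0…i_p} for all (p+1)-tuples. -/
theorem result {X : Type u} [TopologicalSpace X]
    (Z : Set X) (hZ : IsCompact Z)
    (hZsep : ∀ z ∈ Z, ∀ z' ∈ Z, z ≠ z' → ∃ A B : Set X, IsOpen A ∧ IsOpen B ∧ z ∈ A ∧ z' ∈ B ∧ Disjoint A B)
    {ι : Type u} (U : ι → Set X) (hU : ∀ i, IsOpen (U i)) (hcov : Z ⊆ ⋃ i, U i) (p : ℕ)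
    (W : (Fin (p + 1) → ι) → Set X) (hWo : ∀ t, IsOpen (W t)) (hWU : ∀ t, W t ⊆ ⋂ l, U (t l))
    (hWZ : ∀ t, W t ∩ Z = (⋂ l, U (t l)) ∩ Z) :
    ∃ V : ι → Set X, (∀ i, IsOpen (V i)) ∧ (Z ⊆ ⋃ i, V i) ∧ (∀ i, V i ⊆ U i) ∧
      (∀ i, closure (V i) ∩ Z ⊆ U i) ∧ (∀ t : Fin (p + 1) → ι, (⋂ l, V (t l)) ⊆ W t) := by
  have hWZ' : ∀ t, (⋂ l, U (t l)) ∩ Z ⊆ W t := fun t => by
    rw [← hWZ t]; exact Set.inter_subset_left
  obtain ⟨V, hVo, hVcov, hVU, hVQ, hVW⟩ := Groth.Agent.Helper7.Cech.core hZ hZsep U hU hcov p W hWo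
    hWZ' (fun i O => closure O ∩ Z ⊆ U i)
    (by
      intro i K hK hKZ hKU
      have hL : IsCompact (Z ∩ (U i)ᶜ) := hZ.inter_right (hU i).isClosed_compl
      have hd : Disjoint K (Z ∩ (U i)ᶜ) := by
        rw [Set.disjoint_left]
        rintro x hx ⟨_, hx2⟩
        exact hx2 (hKU hx)
      obtain ⟨O₁, O₂, hO₁, hO₂, hKO₁, hLO₂, hOO⟩ :=
        Groth.Agent.Helper7.Cech.separated hZsep hK hL hKZ Set.inter_subset_left hd
      refine ⟨O₁ ∩ U i, hO₁.inter (hU i), fun x hx => ⟨hKO₁ hx, hKU hx⟩, Set.inter_subset_right, ?_⟩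
      rintro x ⟨hxc, hxZ⟩
      by_contra hxU
      have hx2 : x ∈ O₂ := hLO₂ ⟨hxZ, hxU⟩
      have hcl : closure (O₁ ∩ U i) ⊆ O₂ᶜ :=
        closure_minimal (fun y hy hy' => Set.disjoint_left.mp hOO hy.1 hy') hO₂.isClosed_compl
      exact hcl hxc hx2)
    (by
      intro i O O' hOO' hQ
      exact (Set.inter_subset_inter_left Z (closure_mono hOO')).trans hQ)
  exact ⟨V, hVo, hVcov, hVU, hVQ, hVW⟩

end Groth.Agent.S7570
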