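import Groth.Statements.S7571
-- import your own Groth.Agent.* helpers here
import Mathlib.Topology.Category.TopCat.Limits.Cofiltered
import Mathlib.Topology.Compactness.Bases

set_option autoImplicit false
universe u
open CategoryTheory CategoryTheory.Limits
open PtTop

namespace Groth.Agent.S7571

/-- Let j ↦ X_j be a diagram of topological spaces over a cofiltered category with limit X and
projections f_j. (1) Every open of X is a union of subsets of the form f_j⁻¹(U_j) with U_j ⊆ X_j
open. (2) Every quasi-compact open of X equals f_i⁻¹(U_i) for some i and some open U_i ⊆ X_i. -/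
theorem result {J : Type u} [SmallCategory J] [IsCofiltered J]
    (F : J ⥤ TopCat.{u}) (c : Cone F) (hc : IsLimit c) :
    (∀ W : Set c.pt, IsOpen W →
      ∃ S : Set (Σ j, Set (F.obj j)), (∀ s ∈ S, IsOpen s.2) ∧ W = ⋃ s ∈ S, c.π.app s.1 ⁻¹' s.2) ∧
    (∀ W : Set c.pt, IsOpen W → IsCompact W →
      ∃ (i : J) (Ui : Set (F.obj i)), IsOpen Ui ∧ W = c.π.app i ⁻¹' Ui) := by
  have hB := TopCat.isTopologicalBasis_cofiltered_limit.{u, u} F c hc
    (fun j => {U : Set (F.obj j) | IsOpen U}) (fun j => TopologicalSpace.isTopologicalBasis_opens)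
    (fun i => isOpen_univ) (fun i U1 U2 h1 h2 => IsOpen.inter h1 h2)
    (fun i j f V hV => hV.preimage (F.map f).hom.continuous)
  have hw : ∀ {i j : J} (a : j ⟶ i) (U : Set (F.obj i)),
      (c.π.app j : c.pt → F.obj j) ⁻¹' ((F.map a : F.obj j → F.obj i) ⁻¹' U) =
        (c.π.app i : c.pt → F.obj i) ⁻¹' U := by
    intro i j a U
    ext x
    simp only [Set.mem_preimage]
    rw [← c.w a]; rfl
  constructor
  · intro W hW
    refine ⟨{s : Σ j, Set (F.obj j) | IsOpen s.2 ∧
      (c.π.app s.1 : c.pt → F.obj s.1) ⁻¹' s.2 ⊆ W}, fun s hs => hs.1, ?_⟩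
    apply Set.Subset.antisymm
    · intro x hx
      obtain ⟨_, ⟨j, V, hV, rfl⟩, hxV, hVW⟩ := hB.exists_subset_of_mem_open hx hW
      exact Set.mem_iUnion₂.mpr ⟨⟨j, V⟩, ⟨hV, hVW⟩, hxV⟩
    · intro x hx
      obtain ⟨s, hs, hxs⟩ := Set.mem_iUnion₂.mp hx
      exact hs.2 hxs
  · intro W hWo hWc
    have hb : TopologicalSpace.IsTopologicalBasis (Set.range (fun s : {U : Set c.pt | ∃ (j : J)
        (V : Set (F.obj j)), V ∈ {U : Set (F.obj j) | IsOpen U} ∧
        U = (c.π.app j : c.pt → F.obj j) ⁻¹' V} => (s : Set c.pt))) := by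
      rw [Subtype.range_coe]; exact hB
    obtain ⟨S, hSfin, rfl⟩ :=
      eq_finite_iUnion_of_isTopologicalBasis_of_isCompact_open _ hb W hWc hWo
    clear hWo hWc
    induction S, hSfin using Set.Finite.induction_on with
    | empty =>
      obtain ⟨j⟩ := IsCofiltered.nonempty (C := J)
      exact ⟨j, ∅, isOpen_empty, by simp⟩
    | insert ha hs ih =>
      rename_i t s
      obtain ⟨j, V, hVo, hV⟩ := ih
      obtain ⟨k, W, hWo, hW⟩ := t.2
      let i := IsCofiltered.min j k
      let a : i ⟶ j := IsCofiltered.minToLeft j k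
      let b' : i ⟶ k := IsCofiltered.minToRight j k
      refine ⟨i, (F.map b' : F.obj i → F.obj k) ⁻¹' W ∪ (F.map a : F.obj i → F.obj j) ⁻¹' V,
        ?_, ?_⟩
      · exact (hWo.preimage (F.map b').hom.continuous).union
          (hVo.preimage (F.map a).hom.continuous)
      · rw [Set.preimage_union, hw, hw, ← hV, ← hW, Set.biUnion_insert]

end Groth.Agent.S7571
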