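import Groth.Statements.S7575
import Groth.Agent.Lib.Helper3.ShSetColim

set_option autoImplicit false
universe u
open CategoryTheory CategoryTheory.Limits TopologicalSpace Opposite
open ShSp

namespace Groth.Agent.S7575

open Groth.Agent.Helper3

/-- Let X be a topological space, I a directed set, (F_i) a system of sheaves of sets on X over I with
colimit F (in sheaves), U ⊆ X open, and Ψ : colim_i F_i(U) → F(U) the canonical map. (1) If all
transition maps F_i → F_{i'} are injective (on all sections) then Ψ is injective. (2)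
Quasi-compactness of U alone already makes Ψ injective. (3) When U is quasi-compact and every
transition map is injective, Ψ is bijective. (4) If every open covering of U can be refined by a
finite open covering U = U_1 ∪ … ∪ U_m with all U_j ∩ U_{j'} quasi-compact, then Ψ is bijective. -/
theorem result {X : TopCat.{u}} {J : Type u} [Preorder J] [Nonempty J] [IsDirected J (· ≤ ·)]
    (F : J ⥤ X.Sheaf (Type u)) (c : Cocone F) (hc : IsColimit c) (U : Opens X) :
    let ev := TopCat.Sheaf.forget (Type u) X ⋙ (evaluation (Opens X)ᵒᵖ (Type u)).obj (op U)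
    let Ψ : colimit (F ⋙ ev) → ev.obj c.pt := colimit.desc (F ⋙ ev) (ev.mapCocone c)
    ((∀ (i j : J) (h : i ⟶ j) (V : Opens X), Function.Injective ((F.map h).1.app (op V))) → Function.Injective Ψ) ∧
    (IsCompact (U : Set X) → Function.Injective Ψ) ∧
    (IsCompact (U : Set X) → (∀ (i j : J) (h : i ⟶ j) (V : Opens X), Function.Injective ((F.map h).1.app (op V))) →
      Function.Bijective Ψ) ∧
    ((∀ 𝒱 : Set (Opens X), (⨆ V ∈ 𝒱, V) = U →
        ∃ (m : ℕ) (W : Fin m → Opens X), (∀ j, ∃ V ∈ 𝒱, W j ≤ V) ∧ (⨆ j, W j) = U ∧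
          ∀ j j', IsCompact ((W j ⊓ W j' : Opens X) : Set X)) →
      Function.Bijective Ψ) := by
  intro ev Ψ
  refine ⟨fun hmono => ?_, fun hU => ?_, fun hU hmono => ?_, fun href => ?_⟩
  · exact ShSetColim.injective_Ψ F c hc U (fun s s' h => ShSetColim.inj_mono F hmono U s s' h)
  · exact ShSetColim.injective_Ψ F c hc U (fun s s' h => ShSetColim.inj_qc F U hU s s' h)
  · refine ⟨ShSetColim.injective_Ψ F c hc U (fun s s' h => ShSetColim.inj_mono F hmono U s s' h),
      ShSetColim.surjective_Ψ F c hc U (fun t => ?_)⟩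
    have hpt : ∀ y : U, ∃ (W : Opens X) (g : W ⟶ U), y.1 ∈ W ∧ ∃ s : (ShSetColim.P F).obj (op W),
        (ShSetColim.θ F).app (op W) s =
          (sheafify (Opens.grothendieckTopology X) (ShSetColim.P F)).map g.op t :=
      fun y => ShSetColim.loc_im F U t y.1 y.2
    choose W g hyW hs using hpt
    obtain ⟨T, hT⟩ := hU.elim_finite_subcover (fun y : U => (W y : Set X)) (fun y => (W y).2)
      (fun y hy => Set.mem_iUnion.2 ⟨⟨y, hy⟩, hyW ⟨y, hy⟩⟩)
    exact ShSetColim.surj_of F U t (fun k : T => W k.1) (fun k => g k.1)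
      (fun y hy => by
        obtain ⟨z, hz⟩ := Set.mem_iUnion.1 (hT hy)
        obtain ⟨hzt, hyz⟩ := Set.mem_iUnion.1 hz
        exact Opens.mem_iSup.2 ⟨⟨z, hzt⟩, hyz⟩)
      (fun k => hs k.1)
      (fun k k' s s' h => ShSetColim.inj_mono F hmono _ s s' h)
  · have hUc : IsCompact (U : Set X) := by
      obtain ⟨m, W, -, hW, hWc⟩ := href {U} (by simp)
      rw [← hW, Opens.coe_iSup]
      apply isCompact_iUnion
      intro j
      have := hWc j j
      rwa [inf_idem] at this
    refine ⟨ShSetColim.injective_Ψ F c hc U (fun s s' h => ShSetColim.inj_qc F U hUc s s' h),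
      ShSetColim.surjective_Ψ F c hc U (fun t => ?_)⟩
    let 𝒱 : Set (Opens X) := {V | ∃ g : V ⟶ U, ∃ s : (ShSetColim.P F).obj (op V),
      (ShSetColim.θ F).app (op V) s =
        (sheafify (Opens.grothendieckTopology X) (ShSetColim.P F)).map g.op t}
    have h𝒱 : (⨆ V ∈ 𝒱, V) = U := by
      apply le_antisymm
      · exact iSup₂_le fun V hV => leOfHom hV.choose
      · intro y hy
        obtain ⟨W, g, hyW, hs⟩ := ShSetColim.loc_im F U t y hy
        exact Opens.mem_iSup.2 ⟨W, Opens.mem_iSup.2 ⟨⟨g, hs⟩, hyW⟩⟩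
    obtain ⟨m, W, hWV, hW, hWc⟩ := href 𝒱 h𝒱
    have hle : ∀ j, W j ≤ U := fun j => hW ▸ le_iSup W j
    refine ShSetColim.surj_of F U t W (fun j => homOfLE (hle j)) (hW ▸ le_rfl) (fun j => ?_)
      (fun j j' s s' h => ShSetColim.inj_qc F _ (hWc j j') s s' h)
    obtain ⟨V, ⟨gV, s, hs⟩, hWjV⟩ := hWV j
    refine ⟨(ShSetColim.P F).map (homOfLE hWjV).op s, ?_⟩
    rw [← ShSetColim.θ_res, hs]
    have e' : (sheafify (Opens.grothendieckTopology X) (ShSetColim.P F)).map (homOfLE hWjV).op
          ((sheafify (Opens.grothendieckTopology X) (ShSetColim.P F)).map gV.op t) =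
        (sheafify (Opens.grothendieckTopology X) (ShSetColim.P F)).map (homOfLE hWjV ≫ gV).op t := by
      rw [op_comp, (sheafify (Opens.grothendieckTopology X) (ShSetColim.P F)).map_comp]
      rfl
    rw [e']
    exact congrArg (fun q => (sheafify (Opens.grothendieckTopology X) (ShSetColim.P F)).map
      (Quiver.Hom.op q) t) (Subsingleton.elim _ _)


end Groth.Agent.S7575
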