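import Groth.Statements.S7577
-- import your own Groth.Agent.* helpers here
import Groth.Agent.Lib.Helper7.CatLib2

set_option autoImplicit false
universe u
open PtTop

namespace Groth.Agent.S7577

/-- Let X be a sober topological space and δ : X → ℤ a dimension function. Then X is catenary, and for
any specialization x ⤳ y the codimension of the closure of {y} in the closure of {x} equals δ(x) −
δ(y). -/
theorem result {X : Type u} [TopologicalSpace X] [QuasiSober X] [T0Space X]
    (δ : X → ℤ) (hδ : PtTop.IsDimensionFunction δ) :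
    PtTop.IsCatenarySpace X ∧
    ∀ x y : X, x ⤳ y →
      PtTop.codim (⟨closure {y}, isIrreducible_singleton.closure, isClosed_closure⟩ : TopologicalSpace.IrreducibleCloseds X)
        (closure {x}) = ((δ x - δ y).toNat : ℕ∞) := by
  refine ⟨Groth.Agent.Helper7.CatLib2.isCat_of_isDimensionFunction δ hδ, fun x y hxy => ?_⟩
  have h := Groth.Agent.Helper7.CatLib2.cd_eq_of_isDimensionFunction δ hδ
    (T := Groth.Agent.Helper7.CatLib2.cl y) (T' := Groth.Agent.Helper7.CatLib2.cl x)
    (Groth.Agent.Helper7.CatLib2.cl_le_cl.mpr hxy)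
  rw [Groth.Agent.Helper7.CatLib2.gp_cl, Groth.Agent.Helper7.CatLib2.gp_cl] at h
  exact h

end Groth.Agent.S7577
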