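import Groth.Statements.S7579
-- import your own Groth.Agent.* helpers here
import Mathlib.Topology.Connected.Separation

set_option autoImplicit false
universe u
open SpecSp

namespace Groth.Agent.S7579

/-- Let X be a spectral space. Then X with its constructible topology is Hausdorff and totally
disconnected. The published statement also asserts that the constructible topology is quasi-compact;
this row states the Hausdorff and totally disconnected parts. -/
theorem result (X : Type u) [TopologicalSpace X] [SpectralSpace X] :
    T2Space (WithConstructibleTopology X) ∧ TotallyDisconnectedSpace (WithConstructibleTopology X) := by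
  have hTS : TotallySeparatedSpace (WithConstructibleTopology X) := by
    rw [totallySeparatedSpace_iff_exists_isClopen]
    -- clopen-ness of compact opens in the constructible topology
    have hclopen : ∀ V : Set X, IsOpen V → IsCompact V →
        IsClopen ((WithTopology.toTopology (constructibleTopology X)) '' V) := by
      intro V hVo hVc
      have himg : ∀ S : Set X, (WithTopology.toTopology (constructibleTopology X)) ⁻¹'
          ((WithTopology.toTopology (constructibleTopology X)) '' S) = S := fun S =>
        Set.preimage_image_eq _ (WithTopology.toTopology_injective _)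
      constructor
      · rw [WithConstructibleTopology.isClosed_iff, himg, ← @isOpen_compl_iff _ _ (constructibleTopology X)]
        exact IsCompact.isOpen_constructibleTopology_of_isClosed (by rwa [compl_compl])
          hVo.isClosed_compl
      · rw [WithConstructibleTopology.isOpen_iff, himg]
        exact hVc.isOpen_constructibleTopology_of_isOpen hVo
    intro x' y' hxy
    obtain ⟨x, rfl⟩ := WithTopology.toTopology_surjective _ x'
    obtain ⟨y, rfl⟩ := WithTopology.toTopology_surjective _ y'
    have hxy' : x ≠ y := fun h => hxy (by rw [h])
    obtain ⟨U, hU, hxor⟩ := exists_isOpen_xor_mem hxy'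
    rcases hxor with ⟨hxU, hyU⟩ | ⟨hyU, hxU⟩
    · obtain ⟨V, ⟨hVo, hVc⟩, hxV, hVU⟩ :=
        PrespectralSpace.isTopologicalBasis.exists_subset_of_mem_open hxU hU
      refine ⟨_, hclopen V hVo hVc, ⟨x, hxV, rfl⟩, ?_⟩
      rintro ⟨z, hz, hzy⟩
      have : z = y := WithTopology.toTopology_injective _ hzy
      subst this
      exact hyU (hVU hz)
    · obtain ⟨V, ⟨hVo, hVc⟩, hyV, hVU⟩ :=
        PrespectralSpace.isTopologicalBasis.exists_subset_of_mem_open hyU hU
      refine ⟨_, (hclopen V hVo hVc).compl, ?_, ?_⟩
      · rintro ⟨z, hz, hzx⟩
        have : z = x := WithTopology.toTopology_injective _ hzx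
        subst this
        exact hxU (hVU hz)
      · rw [compl_compl]
        exact ⟨y, hyV, rfl⟩
  exact ⟨inferInstance, inferInstance⟩

end Groth.Agent.S7579
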