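import Groth.Statements.S7584
-- import your own Groth.Agent.* helpers here
import Mathlib.Topology.Connected.Clopen

set_option autoImplicit false
universe u
open PtTop

namespace Groth.Agent.S7584

/-- Let X be a quasi-compact topological space in which each connected component equals the intersection
of all clopen sets that contain it. Then π₀(X), the set of connected components with the quotient
topology, is Hausdorff. The published statement concludes that π₀(X) is profinite; this row records
the Hausdorff property, quasi-compactness and total disconnectedness of the quotient being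
automatic. -/
theorem result (X : Type u) [TopologicalSpace X] [CompactSpace X]
    (h : ∀ x : X, connectedComponent x = ⋂₀ {Z : Set X | IsClopen Z ∧ x ∈ Z}) :
    T2Space (ConnectedComponents X) := by
  have hq := ConnectedComponents.isQuotientMap_coe (α := X)
  have hsat : ∀ Z : Set X, IsClopen Z →
      (ConnectedComponents.mk : X → ConnectedComponents X) ⁻¹'
        ((ConnectedComponents.mk : X → ConnectedComponents X) '' Z) = Z := by
    intro Z hZ
    rw [connectedComponents_preimage_image, hZ.biUnion_connectedComponent_eq]
  refine ⟨fun a b hab => ?_⟩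
  obtain ⟨x, rfl⟩ := ConnectedComponents.surjective_coe a
  obtain ⟨y, rfl⟩ := ConnectedComponents.surjective_coe b
  have hxy : connectedComponent x ≠ connectedComponent y :=
    ConnectedComponents.coe_ne_coe.mp hab
  have hy : y ∉ connectedComponent x := by
    intro hy
    exact hxy (connectedComponent_eq hy)
  rw [h x] at hy
  simp only [Set.mem_sInter, Set.mem_ofPred_eq, not_forall] at hy
  obtain ⟨Z, ⟨hZ, hxZ⟩, hyZ⟩ := hy
  refine ⟨ConnectedComponents.mk '' Z, ConnectedComponents.mk '' Zᶜ, ?_, ?_, ⟨x, hxZ, rfl⟩,
    ⟨y, hyZ, rfl⟩, ?_⟩
  · rw [← hq.isOpen_preimage, hsat Z hZ]; exact hZ.2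
  · rw [← hq.isOpen_preimage, hsat Zᶜ hZ.compl]; exact hZ.compl.2
  · rw [Set.disjoint_left]
    rintro _ ⟨u, huZ, rfl⟩ ⟨v, hvZ, huv⟩
    have : v ∈ (ConnectedComponents.mk : X → ConnectedComponents X) ⁻¹'
        ((ConnectedComponents.mk : X → ConnectedComponents X) '' Z) := ⟨u, huZ, huv.symm⟩
    rw [hsat Z hZ] at this
    exact hvZ this

end Groth.Agent.S7584
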