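import Groth.Statements.S7592
-- import your own Groth.Agent.* helpers here
import Groth.Agent.Lib.Helper7.GalOrb3

set_option autoImplicit false
universe u
open CategoryTheory CategoryTheory.Limits AlgebraicGeometry
open Variety

namespace Groth.Agent.S7592

/-- Let K be a (possibly infinite) Galois extension of a field k and f : T → X a morphism of schemes
over k. If the base change T_K is connected and X_K is not connected, then X is not connected. -/
theorem result (k : Type u) [Field k] (K : Type u) [Field K] [Algebra k K] [IsGalois k K]
    (T X : Scheme.{u}) [T.Over (Spec (CommRingCat.of k))] [X.Over (Spec (CommRingCat.of k))]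
    (f : T ⟶ X) [f.IsOver (Spec (CommRingCat.of k))]
    [ConnectedSpace ↥(Curv2.bc k T K)] (hX : ¬ ConnectedSpace ↥(Curv2.bc k X K)) :
    ¬ ConnectedSpace ↥X := by
  intro hc
  exact hX (Groth.Agent.Helper7.GalOrb.connectedSpace_bc (T ↘ Spec (CommRingCat.of k))
    (X ↘ Spec (CommRingCat.of k)) f (CategoryTheory.comp_over f _))

end Groth.Agent.S7592
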