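import Groth.Statements.S7594
import Mathlib
import Groth.Agent.S1540

set_option autoImplicit false
universe u
open CategoryTheory CategoryTheory.Limits AlgebraicGeometry
open Variety

namespace Groth.Agent.S7594

section
open CategoryTheory CategoryTheory.Limits AlgebraicGeometry
open Variety

open TensorProduct IntermediateField

theorem irreducibleSpace_of_isEmbedding_of_genericPoint_mem {Y Z : Type*} [TopologicalSpace Y]
    [TopologicalSpace Z] {g : Y → Z} (hg : Topology.IsEmbedding g) {ζ : Z}
    (hζ : IsGenericPoint ζ Set.univ) (hmem : ζ ∈ Set.range g) : IrreducibleSpace Y := by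
  obtain ⟨y₀, hy₀⟩ := hmem
  have hy₀gen : closure ({y₀} : Set Y) = Set.univ := by
    rw [hg.closure_eq_preimage_closure_image, Set.image_singleton, hy₀, hζ.def,
      Set.preimage_univ]
  have : IsIrreducible (Set.univ : Set Y) := by
    rw [← hy₀gen]
    exact isIrreducible_singleton.closure
  exact (irreducibleSpace_def _).mpr this

theorem main (k : Type u) [Field k] (X : Scheme.{u}) [X.Over (Spec (CommRingCat.of k))] :
    GeometricallyIrreducible (X ↘ (Spec (CommRingCat.of k))) ↔ IrreducibleSpace ↥(pullback (X ↘ (Spec (CommRingCat.of k))) (X ↘ (Spec (CommRingCat.of k)))) := by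
  constructor
  · intro hgi
    haveI : IrreducibleSpace X :=
      GeometricallyIrreducible.irreducibleSpace_of_subsingleton (f := X ↘ (Spec (CommRingCat.of k)))
    haveI : UniversallyOpen (X ↘ (Spec (CommRingCat.of k))) := inferInstance
    infer_instance
  · intro hirr
    let f := X ↘ (Spec (CommRingCat.of k))
    -- X is irreducible
    have hfst : Function.Surjective (pullback.fst f f) := by
      intro x
      refine ⟨(pullback.diagonal f) x, ?_⟩
      rw [← Scheme.Hom.comp_apply, pullback.diagonal_fst]
      rfl
    have hsnd : Function.Surjective (pullback.snd f f) := by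
      intro x
      refine ⟨(pullback.diagonal f) x, ?_⟩
      rw [← Scheme.Hom.comp_apply, pullback.diagonal_snd]
      rfl
    haveI : IrreducibleSpace X := by
      have h1 := (IrreducibleSpace.isIrreducible_univ ↥(pullback f f)).image (pullback.fst f f)
        (pullback.fst f f).continuous.continuousOn
      rw [Set.image_univ, hfst.range_eq] at h1
      exact (irreducibleSpace_def _).mpr h1
    let ξ := genericPoint X
    let j := X.fromSpecResidueField ξ
    let m := pullback.map (j ≫ f) (j ≫ f) f f j j (𝟙 _)
      ((Category.comp_id _).trans rfl) ((Category.comp_id _).trans rfl)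
    haveI : IsPreimmersion m :=
      MorphismProperty.pullbackMap (P := @IsPreimmersion) (inferInstance : IsPreimmersion j)
        (inferInstance : IsPreimmersion j) rfl rfl
    have hrange : Set.range m = ⇑(pullback.fst f f) ⁻¹' {ξ} ∩ ⇑(pullback.snd f f) ⁻¹' {ξ} := by
      rw [Scheme.Pullback.range_map, Scheme.range_fromSpecResidueField]
    let ζ := genericPoint ↥(pullback f f)
    have hζ : IsGenericPoint ζ Set.univ := genericPoint_spec _
    have hζ1 : (pullback.fst f f) ζ = ξ := by
      have h1 := hζ.image (pullback.fst f f).continuous
      rw [Set.image_univ, hfst.range_eq, closure_univ] at h1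
      exact h1.eq (genericPoint_spec _)
    have hζ2 : (pullback.snd f f) ζ = ξ := by
      have h1 := hζ.image (pullback.snd f f).continuous
      rw [Set.image_univ, hsnd.range_eq, closure_univ] at h1
      exact h1.eq (genericPoint_spec _)
    have hmem : ζ ∈ Set.range m := by
      rw [hrange]
      exact ⟨hζ1, hζ2⟩
    have h2 : IrreducibleSpace ↥(pullback (j ≫ f) (j ≫ f)) :=
      irreducibleSpace_of_isEmbedding_of_genericPoint_mem m.isEmbedding hζ hmem
    have hjf : j ≫ f = Spec.map (CommRingCat.ofHom (Curv2.resMap k X ξ)) :=
      (Groth.Agent.S1537.specMap_resMap k X ξ).symm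
    rw [hjf] at h2
    letI : Algebra k (X.residueField ξ) := (Curv2.resMap k X ξ).toAlgebra
    have h3 : IrreducibleSpace ↥(pullback
        (Spec.map (CommRingCat.ofHom (algebraMap k (X.residueField ξ))))
        (Spec.map (CommRingCat.ofHom (algebraMap k (X.residueField ξ))))) := h2
    rw [(pullbackSpecIso k (X.residueField ξ) (X.residueField ξ)).hom.homeomorph.irreducibleSpace_iff]
      at h3
    refine Groth.Agent.S1540.geomIrr_of_generic_primary f (Curv2.resMap k X ξ)
      (Groth.Agent.S1537.specMap_resMap k X ξ) ?_
    show separableClosure k (X.residueField ξ) = ⊥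
    rw [eq_bot_iff]
    intro a ha
    by_contra hak
    have hak' : a ∉ Set.range (algebraMap k (X.residueField ξ)) := fun h =>
      hak (IntermediateField.mem_bot.mpr h)
    exact Groth.Agent.S1540.not_irreducibleSpace_of_separable_elem (X.residueField ξ)
      (X.residueField ξ) a (mem_separableClosure_iff.mp ha) hak' (k⟮a⟯.val) h3


end


/-- A scheme X over a field k is geometrically irreducible over k precisely when the fibre product X ×_k
X of X with itself is an irreducible scheme. -/
theorem result (k : Type u) [Field k] (X : Scheme.{u}) [X.Over (Spec (CommRingCat.of k))] :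
    GeometricallyIrreducible (X ↘ (Spec (CommRingCat.of k))) ↔ IrreducibleSpace ↥(pullback (X ↘ (Spec (CommRingCat.of k))) (X ↘ (Spec (CommRingCat.of k)))) := by
  classical
  exact main k X

end Groth.Agent.S7594
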