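import Groth.Statements.S7598
-- import your own Groth.Agent.* helpers here
import Groth.Agent.Lib.Helper7.GalOrb2

set_option autoImplicit false
universe u
open CategoryTheory CategoryTheory.Limits AlgebraicGeometry
open Variety

namespace Groth.Agent.S7598

/-- Let k̄ be a separable algebraic closure of a field k and X a scheme over k. Two irreducible
components Z', Z'' of X_{k̄} have the same image in X if and only if Z'' is the image of Z' under
the action of some k-automorphism of k̄ on X_{k̄} (the fibres of the map on irreducible components
are the Galois orbits). -/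
theorem result (k : Type u) [Field k] (X : Scheme.{u}) [X.Over (Spec (CommRingCat.of k))]
    (Z' Z'' : Set ↥(Curv2.bc k X (SeparableClosure k))) (hZ' : Z' ∈ irreducibleComponents ↥(Curv2.bc k X (SeparableClosure k)))
    (hZ'' : Z'' ∈ irreducibleComponents ↥(Curv2.bc k X (SeparableClosure k))) :
    (Curv2.bcFst k X (SeparableClosure k)).base '' Z' = (Curv2.bcFst k X (SeparableClosure k)).base '' Z'' ↔
      ∃ σ : SeparableClosure k ≃ₐ[k] SeparableClosure k, (Curv2.galAct k X (SeparableClosure k) σ).base '' Z' = Z'' := by
  have h1 : ∀ σ : SeparableClosure k ≃ₐ[k] SeparableClosure k,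
      Curv2.galAct k X (SeparableClosure k) σ ≫ Limits.pullback.fst _ _ =
      Limits.pullback.fst (X ↘ Spec (CommRingCat.of k)) _ := by
    intro σ
    unfold Curv2.galAct Limits.pullback.map
    rw [Limits.pullback.lift_fst, Category.comp_id]
  have h2 : ∀ σ : SeparableClosure k ≃ₐ[k] SeparableClosure k,
      Curv2.galAct k X (SeparableClosure k) σ ≫ Limits.pullback.snd
      (X ↘ Spec (CommRingCat.of k))
        (Spec.map (CommRingCat.ofHom (algebraMap k (SeparableClosure k)))) =
      Limits.pullback.snd _ _ ≫
        Spec.map (CommRingCat.ofHom (σ : SeparableClosure k →+* SeparableClosure k)) := by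
    intro σ
    unfold Curv2.galAct Limits.pullback.map
    rw [Limits.pullback.lift_snd]
    rfl
  exact Groth.Agent.Helper7.GalOrb.image_eq_iff_conj (X ↘ Spec (CommRingCat.of k))
    (Curv2.galAct k X (SeparableClosure k)) h1 h2 Z' Z'' hZ' hZ''

end Groth.Agent.S7598
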