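import Groth.Statements.S7603
-- import your own Groth.Agent.* helpers here
import Groth.Agent.S2280

set_option autoImplicit false
universe u
open CategoryTheory CategoryTheory.Limits AlgebraicGeometry
open Variety

namespace Groth.Agent.S7603

/-- (2) ⇔ (3): let X be a proper scheme over a field k which is geometrically normal (X_K is a normal
scheme for every extension field K of k). Then X is geometrically connected over k exactly when it
is geometrically irreducible over k. (The published statement lists geometric integrality as a
further equivalent condition; given geometric normality it is equivalent to geometric irreducibility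
by a direct argument, so this row omits it.) -/
theorem result (k : Type u) [Field k] (X : Scheme.{u}) [X.Over (Spec (CommRingCat.of k))] [IsProper (X ↘ (Spec (CommRingCat.of k)))]
    (hX : ∀ (K : Type u) [Field K] [Algebra k K], Pi1.IsNormalScheme (Curv2.bc k X K)) :
    GeometricallyConnected (X ↘ (Spec (CommRingCat.of k))) ↔ GeometricallyIrreducible (X ↘ (Spec (CommRingCat.of k))) := by
  constructor
  · intro hgc
    refine ⟨(geometrically_iff_of_commRing_of_isClosedUnderIsomorphisms).mpr ?_⟩
    intro K _ _
    haveI hc : ConnectedSpace ↥(pullback (X ↘ (Spec (CommRingCat.of k)))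
        (Spec.map (CommRingCat.ofHom (algebraMap k K)))) :=
      hgc.geometrically_connectedSpace (K := K) _ _ _ (IsPullback.of_hasPullback _ _)
    haveI : LocallyOfFiniteType (pullback.snd (X ↘ (Spec (CommRingCat.of k)))
        (Spec.map (CommRingCat.ofHom (algebraMap k K)))) :=
      MorphismProperty.pullback_snd _ _ inferInstance
    haveI : IsLocallyNoetherian (pullback (X ↘ (Spec (CommRingCat.of k)))
        (Spec.map (CommRingCat.ofHom (algebraMap k K)))) :=
      LocallyOfFiniteType.isLocallyNoetherian (pullback.snd (X ↘ (Spec (CommRingCat.of k)))
        (Spec.map (CommRingCat.ofHom (algebraMap k K))))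
    haveI : IsIntegral (pullback (X ↘ (Spec (CommRingCat.of k)))
        (Spec.map (CommRingCat.ofHom (algebraMap k K)))) :=
      ((Groth.Agent.S2280.result _).2).mpr ⟨hc, fun x => (hX K x).1⟩
    show IrreducibleSpace ↥(pullback (X ↘ (Spec (CommRingCat.of k)))
        (Spec.map (CommRingCat.ofHom (algebraMap k K))))
    infer_instance
  · intro hgi
    refine ⟨(geometrically_iff_of_commRing_of_isClosedUnderIsomorphisms).mpr ?_⟩
    intro K _ _
    haveI hc : IrreducibleSpace ↥(pullback (X ↘ (Spec (CommRingCat.of k)))
        (Spec.map (CommRingCat.ofHom (algebraMap k K)))) :=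
      hgi.geometrically_irreducibleSpace (K := K) _ _ _ (IsPullback.of_hasPullback _ _)
    show ConnectedSpace ↥(pullback (X ↘ (Spec (CommRingCat.of k)))
        (Spec.map (CommRingCat.ofHom (algebraMap k K))))
    infer_instance

end Groth.Agent.S7603
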