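import Groth.Statements.S7614
-- import your own Groth.Agent.* helpers here
import Groth.Agent.Lib.Helper7.QAffDesc

set_option autoImplicit false
universe u
open CategoryTheory CategoryTheory.Limits AlgebraicGeometry
open Variety

namespace Groth.Agent.S7614

/-- Let X be a scheme over a field k and K an extension field of k. If X_K is quasi-affine, then X is
quasi-affine. -/
theorem result (k : Type u) [Field k] (X : Scheme.{u}) [X.Over (Spec (CommRingCat.of k))] (K : Type u) [Field K] [Algebra k K]
    [(Curv2.bc k X K).IsQuasiAffine] : X.IsQuasiAffine := by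
  set h := X ↘ Spec (CommRingCat.of k) with hh
  set f := Spec.map (CommRingCat.ofHom (algebraMap k K)) with hf
  have hsurj : Surjective f := by
    refine ⟨fun x => ⟨IsLocalRing.closedPoint K, ?_⟩⟩
    exact Subsingleton.elim (α := PrimeSpectrum k) _ _
  have hflat : Flat f := by
    rw [hf, HasRingHomProperty.Spec_iff (P := @Flat)]
    change (algebraMap k K).Flat
    rw [RingHom.flat_algebraMap_iff]
    infer_instance
  have hqa : (pullback h f).IsQuasiAffine := ‹_›
  have hc0 : CompactSpace ↥(pullback h f) := inferInstance
  have hX : CompactSpace X := by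
    constructor
    rw [← Set.range_eq_univ.mpr (pullback.fst h f).surjective]
    exact isCompact_range (pullback.fst h f).continuous
  have hqc : QuasiCompact h := (quasiCompact_iff_compactSpace h).mpr hX
  refine Groth.Agent.Helper7.QAffDesc.isQuasiAffine_of_affine_base h f
    (Spec (CommRingCat.of K)).affineCover (fun i => ?_)
  have : CompactSpace ↥(pullback h ((Spec (CommRingCat.of K)).affineCover.f i ≫ f)) :=
    QuasiCompact.compactSpace_of_compactSpace (pullback.snd _ _)
  exact Scheme.IsQuasiAffine.of_isImmersion (pullback.map h
    ((Spec (CommRingCat.of K)).affineCover.f i ≫ f) h f (𝟙 _)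
    ((Spec (CommRingCat.of K)).affineCover.f i) (𝟙 _) (by simp) (by simp))

end Groth.Agent.S7614
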