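import Groth.Statements.S7618
import Mathlib

set_option autoImplicit false
universe u
open CategoryTheory CategoryTheory.Limits AlgebraicGeometry
open Variety

namespace Groth.Agent.S7618

section
open CategoryTheory CategoryTheory.Limits AlgebraicGeometry

/-- idempotent global functions on a connected reduced scheme are trivial -/
theorem idempotent_eq_zero_or_one (X : Scheme.{u}) [ConnectedSpace ↥X] [IsReduced X]
    (e : Γ(X, ⊤)) (he : IsIdempotentElem e) : e = 0 ∨ e = 1 := by
  have h1 : X.basicOpen e ⊓ X.basicOpen (1 - e) = ⊥ := by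
    rw [← Scheme.basicOpen_mul]
    have : e * (1 - e) = 0 := by rw [mul_sub, mul_one, he.eq, sub_self]
    rw [this, Scheme.basicOpen_zero]
  have h2 : X.basicOpen e ⊔ X.basicOpen (1 - e) = ⊤ := by
    rw [eq_top_iff]
    have := X.basicOpen_add_le e (1 - e)
    rw [add_sub_cancel, Scheme.basicOpen_one] at this
    exact this
  have hclopen : IsClopen (X.basicOpen e : Set X) := by
    refine ⟨?_, (X.basicOpen e).isOpen⟩
    have hc : (X.basicOpen e : Set X) = (X.basicOpen (1 - e) : Set X)ᶜ := by
      have h1' := congrArg (fun U : X.Opens => (U : Set X)) h1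
      have h2' := congrArg (fun U : X.Opens => (U : Set X)) h2
      simp only [TopologicalSpace.Opens.coe_inf, TopologicalSpace.Opens.coe_bot,
        TopologicalSpace.Opens.coe_sup, TopologicalSpace.Opens.coe_top] at h1' h2'
      ext x
      constructor
      · intro hx hx'
        have : x ∈ (∅ : Set X) := h1' ▸ ⟨hx, hx'⟩
        exact this
      · intro hx
        have : x ∈ (X.basicOpen e : Set X) ∪ (X.basicOpen (1 - e) : Set X) := h2' ▸ Set.mem_univ x
        exact this.resolve_right hx
    rw [hc]
    exact (X.basicOpen (1 - e)).isOpen.isClosed_compl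
  rcases isClopen_iff.mp hclopen with h | h
  · left
    have : X.basicOpen e = ⊥ := TopologicalSpace.Opens.ext h
    exact (basicOpen_eq_bot_iff e).mp this
  · right
    have h3 : X.basicOpen e = ⊤ := TopologicalSpace.Opens.ext h
    rw [h3, top_inf_eq] at h1
    have := (basicOpen_eq_bot_iff (1 - e)).mp h1
    exact (sub_eq_zero.mp this).symm

/-- algebra lemma -/
theorem isField_integralClosure_of_idempotents (k R : Type*) [Field k] [CommRing R] [Algebra k R]
    [Nontrivial R] [_root_.IsReduced R] (hidem : ∀ e : R, IsIdempotentElem e → e = 0 ∨ e = 1) :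
    IsField ↥(integralClosure k R) := by
  refine ⟨⟨0, 1, zero_ne_one⟩, mul_comm, ?_⟩
  intro a ha
  have ha0 : (a : R) ≠ 0 := fun h => ha (Subtype.ext h)
  let D := Algebra.adjoin k ({(a : R)} : Set R)
  haveI : Module.Finite k D := by
    have := Algebra.finite_adjoin_simple_of_isIntegral (R := k) a.2
    exact this
  haveI : IsArtinianRing D := IsArtinianRing.of_finite k D
  have haD : (a : R) ∈ D := Algebra.subset_adjoin rfl
  obtain ⟨n, y, hy⟩ := IsArtinian.exists_pow_succ_smul_dvd (⟨a, haD⟩ : D) (1 : D)
  have hy' : (a : R) ^ (n + 1) * (y : R) = (a : R) ^ n := by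
    have := congrArg (fun d : D => (d : R)) hy
    simpa using this
  -- a^n = a^(n+j) y^j
  have hj : ∀ j : ℕ, (a : R) ^ n = (a : R) ^ (n + j) * (y : R) ^ j := by
    intro j
    induction j with
    | zero => simp
    | succ j ih =>
      calc (a : R) ^ n = (a : R) ^ (n + j) * (y : R) ^ j := ih
        _ = ((a : R) ^ (n + 1) * (y : R)) * (a : R) ^ j * (y : R) ^ j := by
            rw [hy']; ring
        _ = (a : R) ^ (n + (j + 1)) * (y : R) ^ (j + 1) := by ring
  set e : R := (a : R) ^ n * (y : R) ^ n with he
  have hidemp : IsIdempotentElem e := by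
    show e * e = e
    have := hj n
    calc e * e = ((a : R) ^ (n + n) * (y : R) ^ n) * (y : R) ^ n := by rw [he]; ring
      _ = (a : R) ^ n * (y : R) ^ n := by rw [← this]
  have hyint : IsIntegral k (y : R) := by
    have hle : D ≤ integralClosure k R := Algebra.adjoin_le (by
      intro z hz
      rw [Set.mem_singleton_iff] at hz
      rw [hz]
      exact a.2)
    exact hle y.2
  rcases hidem e hidemp with h0 | h1
  · exfalso
    have : (a : R) ^ n = 0 := by
      have := hj n
      rw [this, pow_add, mul_assoc, ← he, h0, mul_zero]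
    exact ha0 (IsNilpotent.eq_zero ⟨n, this⟩)
  · have hb : (a : R) ^ n * (y : R) ^ (n + 1) ∈ integralClosure k R :=
      Subalgebra.mul_mem _ (Subalgebra.pow_mem _ a.2 n) (Subalgebra.pow_mem _ hyint (n + 1))
    refine ⟨⟨_, hb⟩, ?_⟩
    apply Subtype.ext
    show (a : R) * ((a : R) ^ n * (y : R) ^ (n + 1)) = 1
    calc (a : R) * ((a : R) ^ n * (y : R) ^ (n + 1))
        = ((a : R) ^ (n + 1) * (y : R)) * (y : R) ^ n := by ring
      _ = (a : R) ^ n * (y : R) ^ n := by rw [hy']
      _ = 1 := h1

theorem main (k : Type u) [Field k] (X : Scheme.{u}) [X.Over (Spec (CommRingCat.of k))] [ConnectedSpace ↥X] [IsReduced X] :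
    letI := ((X ↘ (Spec (CommRingCat.of k))).appTop.hom.comp (Scheme.ΓSpecIso (CommRingCat.of k)).inv.hom : k →+* Γ(X, ⊤)).toAlgebra
    IsField ↥(integralClosure k ↑Γ(X, ⊤)) := by
  letI := ((X ↘ (Spec (CommRingCat.of k))).appTop.hom.comp (Scheme.ΓSpecIso (CommRingCat.of k)).inv.hom : k →+* Γ(X, ⊤)).toAlgebra
  haveI : Nonempty ↥X := inferInstance
  haveI : Nonempty (⊤ : X.Opens) := ⟨⟨Classical.arbitrary X, trivial⟩⟩
  haveI : Nontrivial Γ(X, ⊤) := Scheme.component_nontrivial X ⊤
  exact isField_integralClosure_of_idempotents k Γ(X, ⊤) (idempotent_eq_zero_or_one X)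


end


/-- Let X be a connected reduced scheme over a field k. Then the global functions on X that are integral
over k form a field. -/
theorem result (k : Type u) [Field k] (X : Scheme.{u}) [X.Over (Spec (CommRingCat.of k))] [ConnectedSpace ↥X] [IsReduced X] :
    letI := ((X ↘ (Spec (CommRingCat.of k))).appTop.hom.comp (Scheme.ΓSpecIso (CommRingCat.of k)).inv.hom : k →+* Γ(X, ⊤)).toAlgebra
    IsField ↥(integralClosure k ↑Γ(X, ⊤)) := by
  classical
  exact main k X

end Groth.Agent.S7618
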