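import Groth.Statements.S7654
import Groth.Agent.Lib.Helper8.DeltaInv4
import Groth.Agent.Lib.Helper8.Nag5
import Groth.Agent.Lib.Helper8.HensFC2
import Groth.Agent.Lib.Helper8.AdicReg1
import Groth.Agent.Lib.Helper8.CplIso2
import Groth.Agent.S0509
import Groth.Agent.S0511
import Groth.Agent.S0507
import Groth.Agent.S0539
import Groth.Agent.S0540
import Groth.Agent.S0538

set_option autoImplicit false
universe u
open CategoryTheory CategoryTheory.Limits AlgebraicGeometry
open Variety

namespace Groth.Agent.S7654

/-- For a reduced local Nagata ring A of Krull dimension one, the δ-invariant does not change on passing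
to a henselization of A, to a strict henselization of A, or to the completion of A. -/
theorem result (A : Type u) [CommRing A] [IsLocalRing A]
    [IsReduced A] (hN : CAlg.IsNagata A) (hdim : ringKrullDim A = 1) :
    (∀ (B : Type u) [CommRing B] [IsLocalRing B] [Algebra A B] [IsLocalHom (algebraMap A B)],
        Hensel.IsHenselization A B → Curv2.deltaInv B = Curv2.deltaInv A) ∧
      (∀ (B : Type u) [CommRing B] [IsLocalRing B] [Algebra A B] [IsLocalHom (algebraMap A B)],
        Hensel.IsStrictHenselization A B → Curv2.deltaInv B = Curv2.deltaInv A) ∧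
      Curv2.deltaInv (Curv2.cpl A) = Curv2.deltaInv A := by
  haveI hNoeth : IsNoetherianRing A := hN.1
  haveI hfin : Module.Finite A (integralClosure A (FractionRing A)) :=
    Groth.Agent.Helper8.Nag.finite_integralClosure_fractionRing A hN.2
  refine ⟨?_, ?_, ?_⟩
  · intro B _ _ _ _ h
    haveI := h
    haveI : Module.FaithfullyFlat A B := Groth.Agent.S0509.result A B
    haveI : IsNoetherianRing B := (Groth.Agent.S0511.result A B).mp hNoeth
    exact Groth.Agent.Helper8.DeltaInv.deltaInv_eq_of_residue_surjective A B hdim.le
      (Groth.Agent.S0507.result A B) (Groth.Agent.Helper8.HensFC.exists_sub_mem A B)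
  · intro B _ _ _ _ h
    haveI := h
    haveI : Module.FaithfullyFlat A B := Groth.Agent.S0539.result A B
    haveI : IsNoetherianRing B := (Groth.Agent.S0540.result A B).mp hNoeth
    haveI : Algebra.IsSeparable (IsLocalRing.ResidueField A) (IsLocalRing.ResidueField B) :=
      (Hensel.IsStrictHenselization.isSepClosure (R := A) (S := B)).separable
    exact Groth.Agent.Helper8.DeltaInv.deltaInv_eq_of_residue_separable A B hdim.le
      (Groth.Agent.S0538.result A B)
  · haveI : IsNoetherianRing (Curv2.cpl A) :=
      Groth.Agent.Helper8.AdicReg.isNoetherianRing A _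
    have hm : (IsLocalRing.maximalIdeal A).map (algebraMap A (Curv2.cpl A)) =
        IsLocalRing.maximalIdeal (Curv2.cpl A) :=
      (AdicCompletion.maximalIdeal_eq_map (R := A)).symm
    refine Groth.Agent.Helper8.DeltaInv.deltaInv_eq_of_residue_surjective A (Curv2.cpl A) hdim.le
      hm ?_
    intro b
    obtain ⟨a, ha⟩ := Groth.Agent.Helper8.CplIso.exists_sub_mem_map A (IsLocalRing.maximalIdeal A) b
    exact ⟨a, hm ▸ ha⟩

end Groth.Agent.S7654
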