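import Groth.Statements.S7666
import Mathlib

set_option autoImplicit false
universe u
open CategoryTheory CategoryTheory.Limits AlgebraicGeometry
open Variety

namespace Groth.Agent.S7666

/-- Let A be a one-dimensional Noetherian local ring and L = ∏ A_p, the product over the minimal primes
of A. If a_1, a_2 ∈ m_A have the same image in L, then a_1 and a_2 have equal n-th powers for some
positive integer n. -/
theorem result (A : Type u) [CommRing A]
    [IsLocalRing A] [IsNoetherianRing A] (hdim : ringKrullDim A = 1)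
    (a₁ a₂ : A) (h₁ : a₁ ∈ IsLocalRing.maximalIdeal A) (h₂ : a₂ ∈ IsLocalRing.maximalIdeal A)
    (heq : ∀ p : {p : PrimeSpectrum A // p.asIdeal ∈ minimalPrimes A},
      algebraMap A (Localization.AtPrime p.1.asIdeal) a₁ = algebraMap A (Localization.AtPrime p.1.asIdeal) a₂) :
    ∃ n : ℕ, 0 < n ∧ a₁ ^ n = a₂ ^ n := by
  classical
  obtain ⟨d, hd⟩ : ∃ d, d = a₁ - a₂ := ⟨_, rfl⟩
  -- the annihilator of d
  obtain ⟨I, hI⟩ : ∃ I : Ideal A, I = (Ideal.span {d}).annihilator := ⟨_, rfl⟩
  have hmemI : ∀ x, x ∈ I ↔ x * d = 0 := by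
    intro x
    rw [hI, Submodule.mem_annihilator_span_singleton, smul_eq_mul]
  -- I is not contained in any minimal prime
  have hmin : ∀ p ∈ minimalPrimes A, ¬ I ≤ p := by
    intro p hp hle
    haveI : p.IsPrime := hp.1.1
    have h := heq ⟨⟨p, hp.1.1⟩, hp⟩
    obtain ⟨c, hc⟩ := (IsLocalization.eq_iff_exists p.primeCompl (Localization.AtPrime p)).mp h
    have hcI : (c : A) ∈ I := by
      rw [hmemI, hd, mul_sub, hc, sub_self]
    exact c.2 (hle hcI)
  -- every prime containing I is the maximal ideal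
  have hprime : ∀ q : Ideal A, q.IsPrime → I ≤ q → IsLocalRing.maximalIdeal A ≤ q := by
    intro q hq hIq
    have hK : Ring.KrullDimLE 1 A := Ring.krullDimLE_iff.mpr (le_of_eq hdim)
    rcases (Ring.krullDimLE_one_iff.mp hK) q hq with h | h
    · exact absurd hIq (hmin q h)
    · rw [IsLocalRing.eq_maximalIdeal h]
  have hrad : IsLocalRing.maximalIdeal A ≤ I.radical := by
    rw [Ideal.radical_eq_sInf]
    exact le_sInf fun q hq => hprime q hq.2 hq.1
  obtain ⟨N, hN⟩ := I.exists_radical_pow_le_of_fg (IsNoetherian.noetherian _)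
  have hmN : IsLocalRing.maximalIdeal A ^ N ≤ I := (Ideal.pow_right_mono hrad N).trans hN
  refine ⟨N + 1, Nat.succ_pos N, ?_⟩
  rw [← sub_eq_zero, ← geom_sum₂_mul, ← hd, Finset.sum_mul]
  apply Finset.sum_eq_zero
  intro i hi
  rw [Finset.mem_range] at hi
  rw [← hmemI]
  apply hmN
  have : N = i + (N + 1 - 1 - i) := by omega
  rw [this, pow_add]
  exact Ideal.mul_mem_mul (Ideal.pow_mem_pow h₁ _) (by
    have h3 : N + 1 - 1 - (i + (N + 1 - 1 - i)) = 0 := by omega
    have h4 : i + (N + 1 - 1 - i) + 1 - 1 - i = N + 1 - 1 - i := by omega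
    rw [h4]
    exact Ideal.pow_mem_pow h₂ _)

end Groth.Agent.S7666
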