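import Groth.Statements.S7668
import Mathlib

set_option autoImplicit false
universe u
open CategoryTheory CategoryTheory.Limits AlgebraicGeometry
open Variety

namespace Groth.Agent.S7668

/-- Let A be a ring, p_1, …, p_r primes of A and S = A ∖ ⋃ p_i. Then S is a multiplicative subset, S⁻¹A
is semi-local, and contraction to A is a bijection from the maximal ideals of S⁻¹A onto the maximal
elements of {p_1, …, p_r}. -/
theorem result (A : Type u) [CommRing A]
    (r : ℕ) (p : Fin r → PrimeSpectrum A) :
    Finite (MaximalSpectrum (Localization (⨅ i, (p i).asIdeal.primeCompl))) ∧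
      Set.BijOn (fun m : Ideal (Localization (⨅ i, (p i).asIdeal.primeCompl)) =>
          m.comap (algebraMap A (Localization (⨅ i, (p i).asIdeal.primeCompl))))
        {m | m.IsMaximal}
        {q | q ∈ Set.range (fun i => (p i).asIdeal) ∧
          ∀ j, q ≤ (p j).asIdeal → q = (p j).asIdeal} := by
  classical
  obtain ⟨S, hS⟩ : ∃ S : Submonoid A, S = ⨅ i, (p i).asIdeal.primeCompl := ⟨_, rfl⟩
  rw [← hS]
  have hmemS : ∀ x : A, x ∈ S ↔ ∀ i, x ∉ (p i).asIdeal := by
    intro x
    rw [hS, Submonoid.mem_iInf]
    exact Iff.rfl
  -- disjointness from S means being contained in some p i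
  have hdisj : ∀ q : Ideal A, q.IsPrime → (Disjoint (S : Set A) q ↔ ∃ i, q ≤ (p i).asIdeal) := by
    intro q hq
    have h1 : Disjoint (S : Set A) q ↔ (q : Set A) ⊆ ⋃ i ∈ ((Finset.univ : Finset (Fin r)) : Set (Fin r)),
        ((p i).asIdeal : Set A) := by
      rw [Set.disjoint_right]
      constructor
      · intro h x hx
        have := h hx
        rw [SetLike.mem_coe, hmemS] at this
        push Not at this
        obtain ⟨i, hi⟩ := this
        exact Set.mem_biUnion (Finset.mem_coe.mpr (Finset.mem_univ i)) hi
      · intro h x hx hxS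
        have := h hx
        rw [Set.mem_iUnion₂] at this
        obtain ⟨i, _, hi⟩ := this
        exact (hmemS x).mp hxS i hi
    rw [h1]
    by_cases hr : r = 0
    · subst hr
      constructor
      · intro h
        have h0 : (0 : A) ∈ ⋃ i ∈ ((Finset.univ : Finset (Fin 0)) : Set (Fin 0)),
            ((p i).asIdeal : Set A) := h q.zero_mem
        rw [Set.mem_iUnion₂] at h0
        obtain ⟨i, _, _⟩ := h0
        exact i.elim0
      · rintro ⟨i, _⟩
        exact i.elim0
    · have i0 : Fin r := ⟨0, Nat.pos_of_ne_zero hr⟩
      rw [Ideal.subset_union_prime (s := Finset.univ) (f := fun i => (p i).asIdeal) i0 i0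
        (fun i _ _ _ => (p i).isPrime)]
      simp
  have hpdisj : ∀ i, Disjoint (S : Set A) (p i).asIdeal :=
    fun i => (hdisj _ (p i).isPrime).mpr ⟨i, le_rfl⟩
  obtain ⟨L, hL⟩ : ∃ L : Type u, L = Localization S := ⟨_, rfl⟩
  -- key: the contraction of a maximal ideal
  have key : ∀ m : Ideal (Localization S), m.IsMaximal →
      ∃ i, m.comap (algebraMap A (Localization S)) = (p i).asIdeal ∧
        ∀ j, (p i).asIdeal ≤ (p j).asIdeal → (p i).asIdeal = (p j).asIdeal := by
    intro m hm
    have hmp := hm.isPrime
    obtain ⟨hqp, hqd⟩ := (IsLocalization.isPrime_iff_isPrime_disjoint S (Localization S) m).mp hmp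
    obtain ⟨i, hi⟩ := (hdisj _ hqp).mp hqd
    have hpi := IsLocalization.isPrime_of_isPrime_disjoint S (Localization S) (p i).asIdeal
      (p i).isPrime (hpdisj i)
    have hle : m ≤ Ideal.map (algebraMap A (Localization S)) (p i).asIdeal := by
      rw [← IsLocalization.map_under S (Localization S) m]
      exact Ideal.map_mono hi
    have heq : m = Ideal.map (algebraMap A (Localization S)) (p i).asIdeal :=
      hm.eq_of_le hpi.ne_top hle
    have hcomap : m.comap (algebraMap A (Localization S)) = (p i).asIdeal := by
      rw [heq]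
      exact IsLocalization.under_map_of_isPrime_disjoint S (Localization S) (p i).isPrime (hpdisj i)
    refine ⟨i, hcomap, fun j hj => ?_⟩
    have hpj := IsLocalization.isPrime_of_isPrime_disjoint S (Localization S) (p j).asIdeal
      (p j).isPrime (hpdisj j)
    have hle' : m ≤ Ideal.map (algebraMap A (Localization S)) (p j).asIdeal := by
      rw [heq]
      exact Ideal.map_mono hj
    have heq' : m = Ideal.map (algebraMap A (Localization S)) (p j).asIdeal :=
      hm.eq_of_le hpj.ne_top hle'
    rw [← IsLocalization.under_map_of_isPrime_disjoint S (Localization S) (p i).isPrime (hpdisj i),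
      ← IsLocalization.under_map_of_isPrime_disjoint S (Localization S) (p j).isPrime (hpdisj j),
      ← heq, ← heq']
  have hinj : ∀ m₁ m₂ : Ideal (Localization S),
      m₁.comap (algebraMap A (Localization S)) = m₂.comap (algebraMap A (Localization S)) →
        m₁ = m₂ := by
    intro m₁ m₂ h
    rw [← IsLocalization.map_under S (Localization S) m₁,
      ← IsLocalization.map_under S (Localization S) m₂]
    exact congrArg _ h
  refine ⟨?_, ?_, ?_, ?_⟩
  · -- finiteness
    have hfin : (Set.range fun i => (p i).asIdeal).Finite := Set.finite_range _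
    let F : MaximalSpectrum (Localization S) → (Set.range fun i => (p i).asIdeal) := fun m =>
      ⟨m.asIdeal.comap (algebraMap A (Localization S)), by
        obtain ⟨i, hi, _⟩ := key m.asIdeal m.isMaximal
        exact ⟨i, hi.symm⟩⟩
    haveI : Finite (Set.range fun i => (p i).asIdeal) := hfin.to_subtype
    refine Finite.of_injective F ?_
    intro m₁ m₂ h
    have := congrArg Subtype.val h
    exact MaximalSpectrum.ext (hinj _ _ this)
  · -- maps to
    intro m hm
    obtain ⟨i, hi, hmax⟩ := key m hm
    refine ⟨⟨i, hi.symm⟩, fun j hj => ?_⟩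
    simp only at hj ⊢
    rw [hi] at hj ⊢
    exact hmax j hj
  · -- injective
    intro m₁ _ m₂ _ h
    exact hinj _ _ h
  · -- surjective
    rintro q ⟨⟨i, rfl⟩, hmax⟩
    simp only at hmax
    have hpi := IsLocalization.isPrime_of_isPrime_disjoint S (Localization S) (p i).asIdeal
      (p i).isPrime (hpdisj i)
    obtain ⟨m', hm', hle⟩ := Ideal.exists_le_maximal _ hpi.ne_top
    obtain ⟨j, hj, _⟩ := key m' hm'
    have h1 : (p i).asIdeal ≤ (p j).asIdeal := by
      rw [← hj, ← IsLocalization.under_map_of_isPrime_disjoint S (Localization S) (p i).isPrime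
        (hpdisj i)]
      exact Ideal.comap_mono hle
    have h2 := hmax j h1
    refine ⟨m', hm', ?_⟩
    simp only
    rw [hj, h2]

end Groth.Agent.S7668
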