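import Groth.Statements.S7678
import Groth.Agent.Lib.Helper6.Normal.FrobTwist

set_option autoImplicit false
universe u
open CategoryTheory CategoryTheory.Limits AlgebraicGeometry
open Variety
open scoped TensorProduct

namespace Groth.Agent.S7678

/-- For a field k of positive characteristic p and a k-scheme X, the base change of X along the p-th
power map of k is a reduced scheme exactly when X is geometrically reduced over k. -/
theorem result (k : Type u) [Field k] (X : Scheme.{u}) [X.Over (Spec (CommRingCat.of k))]
    (p : ℕ) [Fact p.Prime] [CharP k p] :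
    GeometricallyReduced (X ↘ (Spec (CommRingCat.of k))) ↔
      IsReduced ↑(pullback (X ↘ (Spec (CommRingCat.of k))) (Spec.map (CommRingCat.ofHom (frobenius k p)))) := by
  have hp : p.Prime := Fact.out
  have : ExpChar k p := ExpChar.prime hp
  constructor
  · intro h
    exact h.geometrically_isReduced (K := k) (Spec.map (CommRingCat.ofHom (frobenius k p)))
      (pullback.fst _ _) (pullback.snd _ _) (.of_hasPullback _ _)
  · intro hred
    let := fun x : X => Curv2.stalkAlgebra k X x
    have hbc : IsReduced (Groth.Agent.S2502.bc (X ↘ (Spec (CommRingCat.of k)))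
        (Groth.Agent.Lib.Helper6.Normal.FrobTwist k p)) := hred
    have hst : ∀ x : X, _root_.IsReduced (X.presheaf.stalk x ⊗[k]
        (Groth.Agent.Lib.Helper6.Normal.FrobTwist k p)) := fun x =>
      Groth.Agent.S1541.isReduced_tensor_of_forall_stalk (X ↘ (Spec (CommRingCat.of k))) x
        (Groth.Agent.S1560.specMap_stalkMap k X x) (fun x' _ => inferInstance)
    have : ∀ x : X, _root_.IsReduced (X.presheaf.stalk x) := fun x =>
      haveI := hst x
      isReduced_of_injective
        (Algebra.TensorProduct.includeLeft : X.presheaf.stalk x →ₐ[k]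
          X.presheaf.stalk x ⊗[k] (Groth.Agent.Lib.Helper6.Normal.FrobTwist k p))
        (Algebra.TensorProduct.includeLeft_injective (R := k) (S := k)
          (A := X.presheaf.stalk x) (B := Groth.Agent.Lib.Helper6.Normal.FrobTwist k p)
          (algebraMap k _).injective)
    have : IsReduced X := isReduced_of_isReduced_stalk X
    apply Groth.Agent.S1543.main k X
    intro Z hZ η hη
    rw [Groth.Agent.S1541.main k X η]
    have hbot := Groth.Agent.Lib.Helper6.Normal.maximalIdeal_stalk_eq_bot Z hZ η hη
    have hred2 : _root_.IsReduced ((Groth.Agent.Lib.Helper6.Normal.FrobTwist k p) ⊗[k]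
        X.presheaf.stalk η) :=
      haveI := hst η
      isReduced_of_injective
        (Algebra.TensorProduct.comm k (Groth.Agent.Lib.Helper6.Normal.FrobTwist k p)
          (X.presheaf.stalk η)).toAlgHom
        (Algebra.TensorProduct.comm k (Groth.Agent.Lib.Helper6.Normal.FrobTwist k p)
          (X.presheaf.stalk η)).injective
    exact Groth.Agent.Lib.Helper6.Normal.isGeometricallyReduced_of_maximalIdeal_eq_bot k
      (X.presheaf.stalk η) (Groth.Agent.Lib.Helper6.Normal.FrobTwist k p) p hp
      (Groth.Agent.Lib.Helper6.Normal.frobTwist_root k p) hbot hred2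

end Groth.Agent.S7678
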