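import Groth.Statements.S8257
import Mathlib
import Groth.Agent.Lib.Helper1.Dv35

set_option autoImplicit false
universe u
open CategoryTheory CategoryTheory.Limits AlgebraicGeometry Opposite TopologicalSpace
open EGA2

namespace Groth.Agent.S8257

/-- Let Y be a locally Noetherian scheme and f : X → Y a morphism of finite type; let j : X₀ → X be a
surjective closed immersion with X₀ reduced (the reduced subscheme underlying X). If X₀ → X → Y is
affine, then f is affine. (So f is affine if and only if f_red is.) -/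
theorem result {X X₀ Y : Scheme.{u}}
    [IsLocallyNoetherian Y] (f : X ⟶ Y) [LocallyOfFiniteType f] [QuasiCompact f]
    (j : X₀ ⟶ X) [IsClosedImmersion j] [Surjective j] [IsReduced X₀] [IsAffineHom (j ≫ f)] :
    IsAffineHom f := by
  refine ⟨fun V hV => ?_⟩
  haveI : AlgebraicGeometry.IsAffine (V : AlgebraicGeometry.Scheme.{u}) := hV
  haveI : AlgebraicGeometry.IsLocallyNoetherian (V : AlgebraicGeometry.Scheme.{u}) := inferInstance
  haveI : AlgebraicGeometry.IsLocallyNoetherian ((f ⁻¹ᵁ V : X.Opens) : AlgebraicGeometry.Scheme.{u}) :=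
    AlgebraicGeometry.LocallyOfFiniteType.isLocallyNoetherian (f ∣_ V)
  haveI : CompactSpace ((f ⁻¹ᵁ V : X.Opens) : AlgebraicGeometry.Scheme.{u}) :=
    AlgebraicGeometry.QuasiCompact.compactSpace_of_compactSpace (f ∣_ V)
  haveI : AlgebraicGeometry.IsNoetherian ((f ⁻¹ᵁ V : X.Opens) : AlgebraicGeometry.Scheme.{u}) := {}
  have h1 : AlgebraicGeometry.IsAffineOpen ((j ≫ f) ⁻¹ᵁ V) := hV.preimage (j ≫ f)
  haveI : AlgebraicGeometry.IsAffine ((j ⁻¹ᵁ (f ⁻¹ᵁ V) : X₀.Opens) : AlgebraicGeometry.Scheme.{u}) := h1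
  haveI : AlgebraicGeometry.Surjective (j ∣_ (f ⁻¹ᵁ V)) :=
    AlgebraicGeometry.IsZariskiLocalAtTarget.restrict ‹AlgebraicGeometry.Surjective j› _
  exact Groth.Agent.Helper1.Dv.isAffine_of_finite_surjective (j ∣_ (f ⁻¹ᵁ V))

end Groth.Agent.S8257
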