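import Groth.Statements.S8303
import Mathlib
import Groth.Agent.Lib.Helper5.DirImg.FT

set_option autoImplicit false
universe u
open CategoryTheory CategoryTheory.Limits AlgebraicGeometry Opposite TopologicalSpace
noncomputable section
open EGA2



namespace Groth.Agent.S8303

/-- For the algebra f_*O_X of a scheme X affine over S: let f : X → S be an affine morphism and F a
quasi-coherent O_X-module. Then F is of finite type (locally on X generated by finitely many
sections) if and only if the direct image f_*F is of finite type as a module over the sheaf of rings
f_*O_X (locally on S generated by finitely many sections over f_*O_X). -/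
theorem result {X S : Scheme.{u}} (f : X ⟶ S) [IsAffineHom f]
    (F : X.Modules) (hF : Coh.IsQCoh F) :
    SheafOfModules.IsFiniteType.{u} (R := X.ringCatSheaf) F ↔
      SheafOfModules.IsFiniteType.{u} (R := AMod.ringSheaf (RelSpec.QCAlg.directImage f)) ((AMod.dirImg f).obj F) := by
  haveI : F.IsQuasicoherent := hF
  rw [Groth.Agent.Lib.Helper5.SiteGen.isFiniteType_iff_locSpan,
    Groth.Agent.Lib.Helper5.SiteGen.isFiniteType_iff_locSpan]
  constructor
  · intro h
    exact Groth.Agent.Lib.Helper5.DirImg.locSpan_dirImg_of_isFiniteType f F
      ((Groth.Agent.Lib.Helper5.SiteGen.isFiniteType_iff_locSpan (R := X.ringCatSheaf) (M := F)).2 h)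
  · intro h
    exact Groth.Agent.Lib.Helper5.DirImg.locSpan_of_locSpan_dirImg f F h

end Groth.Agent.S8303
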