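import Groth.Statements.S8336
import Mathlib
import Groth.Agent.Lib.Helper1.RP8

set_option autoImplicit false
universe u
open CategoryTheory CategoryTheory.Limits AlgebraicGeometry Opposite TopologicalSpace
open scoped HomogeneousIdeal
noncomputable section
open EGA2

namespace Groth.Agent.S8336

/-- If the quasi-coherent positively graded O_Y-algebra 𝒮 is generated by 𝒮_1, then on P = Proj(𝒮) the
tensor product O_P(m) ⊗ O_P(n) is isomorphic to O_P(m + n) for all integers m, n, the twisting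
sheaves being given through their chartwise identifications (existence of an isomorphism only; the
published isomorphism is the canonical multiplication map). -/
theorem result {Y P : Scheme.{u}} (𝒮 : RelProj.QCGrAlg Y) (p : P ⟶ Y)
    (chart : ∀ (U : Y.Opens) (hU : IsAffineOpen U), (((p ⁻¹ᵁ U : P.Opens) : Scheme.{u}) ≅ Proj (𝒮.deg U hU)))
    (hP : RelProj.IsRelProj 𝒮 p chart) (hgen : 𝒮.IsGenDegOne) (m n : ℤ)
    (L : P.Modules)
    (lam : ∀ (U : Y.Opens) (hU : IsAffineOpen U),
      L ⟶ (Scheme.Modules.pushforward (RelProj.emb p chart U hU)).obj (GrTwist.twist (𝒮.deg U hU) m))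
    (hL : RelProj.IsRelTwist 𝒮 p chart m L lam) (L' : P.Modules)
    (lam' : ∀ (U : Y.Opens) (hU : IsAffineOpen U),
      L' ⟶ (Scheme.Modules.pushforward (RelProj.emb p chart U hU)).obj (GrTwist.twist (𝒮.deg U hU) n))
    (hL' : RelProj.IsRelTwist 𝒮 p chart n L' lam') (L'' : P.Modules)
    (lam'' : ∀ (U : Y.Opens) (hU : IsAffineOpen U),
      L'' ⟶ (Scheme.Modules.pushforward (RelProj.emb p chart U hU)).obj (GrTwist.twist (𝒮.deg U hU) (m + n)))
    (hL'' : RelProj.IsRelTwist 𝒮 p chart (m + n) L'' lam'') :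
    Nonempty (CohB1.tensorMod L L' ≅ L'') := by
  refine Groth.Agent.Helper1.RP8.nonempty_tensorMod_iso rfl hP hL hL' hL'' ?_
  intro x
  obtain ⟨U, hU, hxU⟩ := Groth.Agent.Helper1.RP6.exists_affine_mem (p.base x)
  have hx : x ∈ (RelProj.emb p chart U hU).opensRange := by
    rw [Groth.Agent.Helper1.ProjBC.opensRange_emb]; exact hxU
  obtain ⟨y, rfl⟩ := hx
  obtain ⟨g, hg, hgy⟩ := Groth.Agent.Helper1.RP3.exists_deg_one_notMem _ (hgen U hU) y
  have hm : ((m.toNat • 1 : ℕ) : ℤ) = ((-m).toNat • 1 : ℕ) + m := by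
    have := Groth.Agent.Helper1.RP7.toNat_smul_eq m 1
    simpa using this
  refine ⟨U, hU, m.toNat • 1, (-m).toNat • 1, g ^ m.toNat, g ^ (-m).toNat,
    SetLike.pow_mem_graded _ hg, SetLike.pow_mem_graded _ hg, hm, y, rfl, ?_, ?_⟩
  · exact fun h => hgy (y.isPrime.mem_of_pow_mem _ h)
  · exact fun h => hgy (y.isPrime.mem_of_pow_mem _ h)

end Groth.Agent.S8336
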