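import Groth.Statements.S8337
import Mathlib
import Groth.Agent.Lib.Helper1.RT15

set_option autoImplicit false
universe u
open CategoryTheory CategoryTheory.Limits AlgebraicGeometry Opposite TopologicalSpace
open scoped HomogeneousIdeal
noncomputable section
open EGA2

namespace Groth.Agent.S8337

/-- If the quasi-coherent positively graded O_Y-algebra 𝒮 is generated by 𝒮_1, then for every
quasi-coherent graded 𝒮-module ℳ and every integer n, the module (ℳ(n))~ on P = Proj(𝒮) is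
isomorphic to ℳ~(n) = ℳ~ ⊗ O_P(n), all three modules being given through their chartwise
identifications (existence of an isomorphism only; the published isomorphism is canonical). -/
theorem result {Y P : Scheme.{u}} (𝒮 : RelProj.QCGrAlg Y) (p : P ⟶ Y)
    (chart : ∀ (U : Y.Opens) (hU : IsAffineOpen U), (((p ⁻¹ᵁ U : P.Opens) : Scheme.{u}) ≅ Proj (𝒮.deg U hU)))
    (hP : RelProj.IsRelProj 𝒮 p chart) (hgen : 𝒮.IsGenDegOne)
    (ℳ : RelProj.GrModule 𝒮) (hℳ : Coh.IsQCoh ((AMod.toOS 𝒮.toQCAlg).obj ℳ.mod)) (n : ℤ) (F : P.Modules)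
    (lam : ∀ (U : Y.Opens) (hU : IsAffineOpen U),
      F ⟶ (Scheme.Modules.pushforward (RelProj.emb p chart U hU)).obj (GrMod.tilde (𝒮.deg U hU) (ℳ.deg U hU) 0))
    (hF : RelProj.IsRelTilde 𝒮 p chart ℳ 0 F lam) (F' : P.Modules)
    (lam' : ∀ (U : Y.Opens) (hU : IsAffineOpen U),
      F' ⟶ (Scheme.Modules.pushforward (RelProj.emb p chart U hU)).obj (GrMod.tilde (𝒮.deg U hU) (ℳ.deg U hU) n))
    (hF' : RelProj.IsRelTilde 𝒮 p chart ℳ n F' lam') (L : P.Modules)
    (lamL : ∀ (U : Y.Opens) (hU : IsAffineOpen U),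
      L ⟶ (Scheme.Modules.pushforward (RelProj.emb p chart U hU)).obj (GrTwist.twist (𝒮.deg U hU) n))
    (hL : RelProj.IsRelTwist 𝒮 p chart n L lamL) :
    Nonempty (F' ≅ CohB1.tensorMod F L) := by
  have hcov : ∀ x : P, ∃ (U : Y.Opens) (hU : IsAffineOpen U) (i j : ℕ) (a b : 𝒮.presheaf.obj (op U)),
      a ∈ 𝒮.deg U hU i ∧ b ∈ 𝒮.deg U hU j ∧ (i : ℤ) = j + n ∧
        ∃ y : ProjectiveSpectrum (𝒮.deg U hU), (RelProj.emb p chart U hU).base y = x ∧
          a ∉ y.asHomogeneousIdeal ∧ b ∉ y.asHomogeneousIdeal := by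
    intro x
    obtain ⟨U, hU, hxU⟩ := Groth.Agent.Helper1.RP6.exists_affine_mem (p.base x)
    have hx : x ∈ (RelProj.emb p chart U hU).opensRange := by
      rw [Groth.Agent.Helper1.ProjBC.opensRange_emb]; exact hxU
    obtain ⟨y, rfl⟩ := hx
    obtain ⟨g, hg, hgy⟩ := Groth.Agent.Helper1.RP3.exists_deg_one_notMem _ (hgen U hU) y
    have hm : ((n.toNat • 1 : ℕ) : ℤ) = ((-n).toNat • 1 : ℕ) + n := by
      have := Groth.Agent.Helper1.RP7.toNat_smul_eq n 1
      simpa using this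
    refine ⟨U, hU, n.toNat • 1, (-n).toNat • 1, g ^ n.toNat, g ^ (-n).toNat,
      SetLike.pow_mem_graded _ hg, SetLike.pow_mem_graded _ hg, hm, y, rfl, ?_, ?_⟩
    · exact fun h => hgy (y.isPrime.mem_of_pow_mem _ h)
    · exact fun h => hgy (y.isPrime.mem_of_pow_mem _ h)
  obtain ⟨e⟩ := Groth.Agent.Helper1.RT15.nonempty_tensorMod_iso (m := n) (n := 0) (k := n) (by simp) hP hL hF hF' hcov
  exact ⟨e.symm ≪≫ Groth.Agent.Helper1.GrModTens.tensorModComm _ _⟩

end Groth.Agent.S8337
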