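import Groth.Statements.S8348
import Groth.Statements.S8348
import Mathlib

set_option autoImplicit false
universe v u
open CategoryTheory CategoryTheory.Limits
open HomAlg3

namespace Groth.Agent.S8348

section aux

variable {C : Type u} [Category.{v} C] [Abelian C] (Q : CochainComplex C ℕ)

lemma iCycles_toCycles (i : ℕ) : Q.iCycles i ≫ Q.toCycles i (i + 1) = 0 := by
  rw [← cancel_mono (Q.iCycles (i + 1)), Category.assoc, HomologicalComplex.toCycles_i,
    HomologicalComplex.iCycles_d, zero_comp]

lemma lift_of_toCycles_zero (i : ℕ) {A : C} (x : A ⟶ Q.X i)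
    (hx : x ≫ Q.toCycles i (i + 1) = 0) :
    ∃ y : A ⟶ Q.cycles i, y ≫ Q.iCycles i = x := by
  refine ⟨Q.liftCycles x (i + 1) (CochainComplex.next ℕ i) ?_, Q.liftCycles_i _ _ _ _⟩
  rw [← Q.toCycles_i i (i + 1), ← Category.assoc, hx, zero_comp]

/-- the short complex `Zⁱ → Qⁱ → Zⁱ⁺¹` -/
noncomputable def SZ (i : ℕ) : ShortComplex C :=
  ShortComplex.mk (Q.iCycles i) (Q.toCycles i (i + 1)) (iCycles_toCycles Q i)

lemma SZ_exact (i : ℕ) : (SZ Q i).Exact := by
  rw [ShortComplex.exact_iff_exact_up_to_refinements]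
  intro A x hx
  obtain ⟨y, hy⟩ := lift_of_toCycles_zero Q i (A := A) x hx
  exact ⟨A, 𝟙 A, inferInstance, y, by rw [Category.id_comp]; exact hy.symm⟩

lemma epi_toCycles (i : ℕ) (hac : IsZero (Q.homology (i + 1))) :
    Epi (Q.toCycles i (i + 1)) := by
  rw [← HomologicalComplex.exactAt_iff_isZero_homology,
    HomologicalComplex.exactAt_iff' Q i (i + 1) (i + 2) (by simp) (by simp)] at hac
  rw [epi_iff_surjective_up_to_refinements]
  intro A y
  have hy : (y ≫ Q.iCycles (i + 1)) ≫ Q.d (i + 1) (i + 2) = 0 := by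
    rw [Category.assoc, HomologicalComplex.iCycles_d, comp_zero]
  obtain ⟨A', π, hπ, x, hx⟩ := hac.exact_up_to_refinements (y ≫ Q.iCycles (i + 1)) hy
  refine ⟨A', π, hπ, x, ?_⟩
  rw [← cancel_mono (Q.iCycles (i + 1)), Category.assoc, Category.assoc,
    HomologicalComplex.toCycles_i]
  exact hx

lemma exists_section (i : ℕ) (hac : IsZero (Q.homology (i + 1)))
    (r : Q.X i ⟶ Q.cycles i) (hr : Q.iCycles i ≫ r = 𝟙 _) :
    ∃ σ : Q.cycles (i + 1) ⟶ Q.X i, σ ≫ Q.toCycles i (i + 1) = 𝟙 _ ∧
      r ≫ Q.iCycles i + Q.toCycles i (i + 1) ≫ σ = 𝟙 _ := by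
  let spl : (SZ Q i).Splitting :=
    ShortComplex.Splitting.ofExactOfRetraction (SZ Q i) (SZ_exact Q i) r hr (epi_toCycles Q i hac)
  refine ⟨spl.s, spl.s_g, ?_⟩
  have := spl.id
  exact this

end aux

/-- Let C be an abelian category and Q a cochain complex of objects of C in degrees 0, 1, 2, ... such
that every Q^i is injective, every homology object H^i(Q) with i ≥ 1 is zero, and every inclusion of
the cycles Z^i(Q) into Q^i (i ≥ 0) is a split monomorphism. Then Q is an injective object of the
category of cochain complexes of C indexed by the natural numbers. (The published statement is for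
the narrower class of complexes with Z^i(Q) = B^i(Q) for every i ≥ 0, which in degree 0, where there
is no incoming differential, forces Z^0(Q) = 0; this row allows a nonzero Z^0(Q), so that it pairs
with the embedding of an arbitrary complex into such a Q. Such a Q is the direct sum of Z^0(Q)
placed in degree 0 and of the two-term complexes with Z^{i+1}(Q) in degrees i and i+1 and the
identity as differential, and the published argument carries over with Z^i(Q) in place of B^i(Q) as
the first summand of Q^i.) -/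
theorem result {C : Type u} [Category.{v} C] [Abelian C]
    (Q : CochainComplex C ℕ) (hinj : ∀ i : ℕ, Injective (Q.X i)) (hac : ∀ i : ℕ, IsZero (Q.homology (i + 1)))
    (hsplit : ∀ i : ℕ, IsSplitMono (Q.iCycles i)) : Injective Q := by
  choose σ hσ1 hσ2 using fun i => exists_section Q i (hac i) (retraction (Q.iCycles i))
    (IsSplitMono.id (Q.iCycles i))
  have hσd : ∀ i, σ i ≫ Q.d i (i + 1) = Q.iCycles (i + 1) := fun i => by
    rw [← Q.toCycles_i i (i + 1), ← Category.assoc, hσ1, Category.id_comp]
  have hZ : ∀ i, Injective (Q.cycles i) := fun i =>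
    Retract.injective (X := Q.cycles i) (Y := Q.X i)
      { i := Q.iCycles i, r := retraction (Q.iCycles i), retract := IsSplitMono.id _ }
  refine ⟨fun {A B} g j hj => ?_⟩
  let at' : ∀ i, B.X i ⟶ Q.cycles i := fun i =>
    Injective.factorThru (g.f i ≫ retraction (Q.iCycles i)) (j.f i)
  have hat : ∀ i, j.f i ≫ at' i = g.f i ≫ retraction (Q.iCycles i) := fun i =>
    Injective.comp_factorThru _ _
  let h : B ⟶ Q :=
    { f := fun i => at' i ≫ Q.iCycles i + B.d i (i + 1) ≫ at' (i + 1) ≫ σ i
      comm' := by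
        intro i k hik
        obtain rfl : i + 1 = k := hik
        simp only [Preadditive.add_comp, Preadditive.comp_add, Category.assoc,
          HomologicalComplex.iCycles_d, comp_zero, zero_add, hσd,
          HomologicalComplex.d_comp_d_assoc, zero_comp, add_zero] }
  refine ⟨h, ?_⟩
  ext i
  have h1 : A.d i (i + 1) ≫ g.f (i + 1) ≫ retraction (Q.iCycles (i + 1)) =
      g.f i ≫ Q.toCycles i (i + 1) := by
    rw [← Category.assoc, ← g.comm, ← Q.toCycles_i i (i + 1), Category.assoc, Category.assoc,
      IsSplitMono.id, Category.comp_id]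
  have h2 : j.f i ≫ B.d i (i + 1) ≫ at' (i + 1) ≫ σ i =
      g.f i ≫ Q.toCycles i (i + 1) ≫ σ i := by
    rw [← Category.assoc, j.comm, Category.assoc, ← Category.assoc (j.f (i + 1)), hat,
      Category.assoc, reassoc_of% h1]
  change j.f i ≫ (at' i ≫ Q.iCycles i + B.d i (i + 1) ≫ at' (i + 1) ≫ σ i) = g.f i
  rw [Preadditive.comp_add, ← Category.assoc, hat, h2, Category.assoc,
    ← Preadditive.comp_add, hσ2, Category.comp_id]

end Groth.Agent.S8348
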