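import Groth.Statements.S8349
import Mathlib

set_option autoImplicit false
universe v u
open CategoryTheory CategoryTheory.Limits
open HomAlg3

namespace Groth.Agent.S8349

section aux

variable {C : Type u} [Category.{v} C] [Abelian C]

lemma eq_comp_fst_inl {W X Y : C} (x : W ⟶ X ⊞ Y) (h : x ≫ biprod.snd = 0) :
    x = x ≫ biprod.fst ≫ biprod.inl := by
  have h1 : x = x ≫ (biprod.fst ≫ biprod.inl + biprod.snd ≫ biprod.inr) := by
    rw [biprod.total, Category.comp_id]
  rw [Preadditive.comp_add, ← Category.assoc x biprod.snd, h, zero_comp, add_zero] at h1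
  exact h1

variable (I : ℕ → C)

/-- the complex with terms `Iⁱ ⊞ Iⁱ⁺¹` and differential `(x, y) ↦ (y, 0)` -/
noncomputable def Qc : CochainComplex C ℕ :=
  CochainComplex.of (fun i => I i ⊞ I (i + 1)) (fun i => biprod.snd ≫ biprod.inl)
    (fun i => by simp)

/-- retyping isomorphism -/
noncomputable def xIso (i : ℕ) : (Qc I).X i ≅ I i ⊞ I (i + 1) := Iso.refl _

lemma Qc_d (i : ℕ) : (Qc I).d i (i + 1) =
    (xIso I i).hom ≫ biprod.snd ≫ biprod.inl ≫ (xIso I (i + 1)).inv := by
  simp [Qc, xIso]

lemma iCycles_snd (i : ℕ) : (Qc I).iCycles i ≫ (xIso I i).hom ≫ biprod.snd = 0 := by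
  have h := (Qc I).iCycles_d i (i + 1)
  rw [Qc_d] at h
  rw [← cancel_mono (biprod.inl ≫ (xIso I (i + 1)).inv), zero_comp]
  simpa using h

lemma isSplitMono_iCycles (i : ℕ) : IsSplitMono ((Qc I).iCycles i) := by
  refine ⟨⟨⟨(Qc I).liftCycles ((xIso I i).hom ≫ biprod.fst ≫ biprod.inl ≫ (xIso I i).inv) (i + 1)
    (by simp) (by rw [Qc_d]; simp), ?_⟩⟩⟩
  rw [← cancel_mono ((Qc I).iCycles i), Category.assoc, HomologicalComplex.liftCycles_i,
    Category.id_comp]
  have h1 := eq_comp_fst_inl ((Qc I).iCycles i ≫ (xIso I i).hom)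
    (by rw [Category.assoc]; exact iCycles_snd I i)
  rw [← cancel_mono (xIso I i).hom]
  simp only [Category.assoc, Iso.inv_hom_id, Category.comp_id]
  rw [Category.assoc] at h1
  exact h1.symm

lemma isZero_homology (i : ℕ) : IsZero ((Qc I).homology (i + 1)) := by
  rw [← HomologicalComplex.exactAt_iff_isZero_homology,
    HomologicalComplex.exactAt_iff' _ i (i + 1) (i + 1 + 1) (by simp) (by simp),
    ShortComplex.exact_iff_exact_up_to_refinements]
  intro W x hx
  change W ⟶ (Qc I).X (i + 1) at x
  change x ≫ (Qc I).d (i + 1) (i + 1 + 1) = 0 at hx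
  rw [Qc_d] at hx
  have hx' : (x ≫ (xIso I (i + 1)).hom) ≫ biprod.snd = 0 := by
    rw [← cancel_mono (biprod.inl ≫ (xIso I (i + 1 + 1)).inv), zero_comp]
    simpa using hx
  have h1 := eq_comp_fst_inl _ hx'
  refine ⟨W, 𝟙 W, inferInstance,
    x ≫ (xIso I (i + 1)).hom ≫ biprod.fst ≫ biprod.inr ≫ (xIso I i).inv, ?_⟩
  change 𝟙 W ≫ x = (x ≫ (xIso I (i + 1)).hom ≫ biprod.fst ≫ biprod.inr ≫ (xIso I i).inv) ≫
    (Qc I).d i (i + 1)
  rw [Qc_d, Category.id_comp, ← cancel_mono (xIso I (i + 1)).hom]
  simp only [Category.assoc, Iso.inv_hom_id, Category.comp_id, Iso.inv_hom_id_assoc,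
    biprod.inr_snd_assoc]
  rw [Category.assoc] at h1
  exact h1

end aux

section emb

variable {C : Type u} [Category.{v} C] [Abelian C] [EnoughInjectives C] (A : CochainComplex C ℕ)

noncomputable def Iu : ℕ → C := fun i => Injective.under (A.X i)

noncomputable def eu (i : ℕ) : A.X i ⟶ Iu A i := Injective.ι (A.X i)

instance (i : ℕ) : Mono (eu A i) := inferInstanceAs (Mono (Injective.ι (A.X i)))

instance (i : ℕ) : Injective (Iu A i) := inferInstanceAs (Injective (Injective.under (A.X i)))

noncomputable def fu : A ⟶ Qc (Iu A) where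
  f i := biprod.lift (eu A i) (A.d i (i + 1) ≫ eu A (i + 1)) ≫ (xIso (Iu A) i).inv
  comm' := by
    intro i j hij
    obtain rfl : j = i + 1 := hij.symm
    rw [Qc_d, ← cancel_mono (xIso (Iu A) (i + 1)).hom]
    simp only [Category.assoc, Iso.inv_hom_id, Category.comp_id, Iso.inv_hom_id_assoc]
    ext
    · simp
    · simp

end emb

/-- Let C be an abelian category in which every object embeds in an injective object, and let A be a
cochain complex of objects of C in degrees 0, 1, 2, .... Then there are a cochain complex Q, with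
every Q^i injective, H^i(Q) = 0 for every i ≥ 1 and every cycle inclusion Z^i(Q) ⟶ Q^i (i ≥ 0) a
split monomorphism, and a monomorphism of complexes A ⟶ Q. (The published statement asks Z^i(Q) =
B^i(Q) for every i ≥ 0; in degree 0, where there is no incoming differential, this makes Z^0(Q) = 0,
and then no complex with nonzero degree-0 cycles, for instance a nonzero object placed in degree 0,
embeds in such a Q, because the degree-0 component of a chain map into Q factors through Z^0(Q).
This row asks vanishing homology in positive degrees only; the published construction, which embeds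
each A^i in an injective I^i and takes Q^i = I^i ⊕ I^{i+1}, proves that version once an injective
I^0 containing A^0 is used in degree 0 as well.) -/
theorem result {C : Type u} [Category.{v} C] [Abelian C]
    [EnoughInjectives C] (A : CochainComplex C ℕ) :
    ∃ (Q : CochainComplex C ℕ) (f : A ⟶ Q), Mono f ∧ (∀ i : ℕ, Injective (Q.X i)) ∧
      (∀ i : ℕ, IsZero (Q.homology (i + 1))) ∧ ∀ i : ℕ, IsSplitMono (Q.iCycles i) := by
  refine ⟨Qc (Iu A), fu A, ?_, ?_, isZero_homology _, isSplitMono_iCycles _⟩
  · refine HomologicalComplex.mono_of_mono_f (fu A) (fun i => ?_)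
    have h1 : Mono (biprod.lift (eu A i) (A.d i (i + 1) ≫ eu A (i + 1))) :=
      mono_of_mono_fac (biprod.lift_fst _ _)
    exact mono_comp _ _
  · intro i
    exact Injective.of_iso (xIso (Iu A) i).symm inferInstance

end Groth.Agent.S8349
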