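import Groth.Statements.S8350
import Mathlib
import Groth.Statements.S8350
import Groth.Agent.Lib.Helper3.RDerH
import Groth.Agent.Lib.Helper6.CE.Data
-- import your own Groth.Agent.* helpers here

set_option autoImplicit false
universe v u
open CategoryTheory CategoryTheory.Limits
open HomAlg3

namespace Groth.Agent.S8350

open CategoryTheory CategoryTheory.Limits
namespace Aux
set_option backward.isDefEq.respectTransparency false
set_option linter.style.haveILetI false

variable {C : Type u} [Category.{v} C] [Abelian C] [EnoughInjectives C]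

omit [EnoughInjectives C] in
lemma cx_isZero (K : CochainComplex C ℕ) (h : ∀ j, IsZero (K.X j)) : IsZero K := by
  rw [IsZero.iff_id_eq_zero]
  ext j
  exact (h j).eq_of_src _ _

omit [EnoughInjectives C] in
lemma inj_top (K : CochainComplex C ℕ) (h : ∀ j, Injective (K.X j)) (j : ℕ) :
    Injective (((⊤ : Subobject K) : CochainComplex C ℕ).X j) :=
  Injective.of_iso ((HomologicalComplex.eval C _ j).mapIso
    (asIso (⊤ : Subobject K).arrow).symm) (h j)

omit [EnoughInjectives C] in
lemma inj_mk {K L : CochainComplex C ℕ} (g : L ⟶ K) [Mono g] (h : ∀ j, Injective (L.X j))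
    (j : ℕ) : Injective (((Subobject.mk g : Subobject K) : CochainComplex C ℕ).X j) :=
  Injective.of_iso ((HomologicalComplex.eval C _ j).mapIso
    (Subobject.underlyingIso g).symm) (h j)

lemma horseshoe {A B : C} (u : B ⟶ A) [Mono u] (Y : InjectiveResolution B) :
    ∃ (X : InjectiveResolution A) (f : Y.cocomplex ⟶ X.cocomplex), Mono f ∧
      Y.ι ≫ f = (CochainComplex.single₀ C).map u ≫ X.ι ∧
      (IsZero A → IsZero Y.cocomplex → IsZero X.cocomplex) := by
  let Sh : ShortComplex C := ShortComplex.mk u (cokernel.π u) (cokernel.condition u)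
  have hSh : Sh.ShortExact := ShortComplex.ShortExact.mk' (ShortComplex.exact_cokernel u)
    (inferInstanceAs (Mono u)) (inferInstanceAs (Epi (cokernel.π u)))
  let J : InjectiveResolution Sh.X₃ := Groth.Agent.Helper6.CE.res (cokernel u)
  let T := Groth.Agent.Helper3.RDerH.sesRes hSh Y J
  refine ⟨T.I₂, T.f, T.shortExact.mono_f, T.ι_f, fun hA hY => ?_⟩
  have hQ : IsZero (cokernel u) := IsZero.of_epi (cokernel.π u) hA
  have hJ : IsZero J.cocomplex :=
    cx_isZero _ (fun j => Groth.Agent.Helper6.CE.res_isZero _ hQ j)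
  exact T.shortExact.exact.isZero_of_both_zeros (hY.eq_of_src _ _) (hJ.eq_of_tgt _ _)

omit [EnoughInjectives C] in
lemma transport {K : CochainComplex C ℕ} (P Q : Subobject K) (h : P = Q)
    {Z : CochainComplex C ℕ} (z : Z ⟶ K)
    (hQ : (∀ j, Injective ((Q : CochainComplex C ℕ).X j)) ∧
      ∃ ι : Z ⟶ (Q : CochainComplex C ℕ), ι ≫ Q.arrow = z ∧ QuasiIso ι) :
    (∀ j, Injective ((P : CochainComplex C ℕ).X j)) ∧
      ∃ ι : Z ⟶ (P : CochainComplex C ℕ), ι ≫ P.arrow = z ∧ QuasiIso ι := by
  subst h
  exact hQ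

/-- the conclusion for a family of monos -/
def Concl {A : C} (S : ℤ → C) (s : ∀ i, S i ⟶ A) : Prop :=
  ∃ (X : InjectiveResolution A) (G : ℤ → Subobject X.cocomplex), Antitone G ∧
    (∀ i : ℤ, IsIso (s i) → G i = ⊤) ∧ (∀ i : ℤ, IsZero (S i) → G i = ⊥) ∧
    ∀ i : ℤ, (∀ j : ℕ, Injective ((G i : CochainComplex C ℕ).X j)) ∧
      ∃ ι : (CochainComplex.single₀ C).obj (S i) ⟶ (G i : CochainComplex C ℕ),
        ι ≫ (G i).arrow = (CochainComplex.single₀ C).map (s i) ≫ X.ι ∧ QuasiIso ι

open Classical in
theorem P (n : ℕ) : ∀ {A : C} (S : ℤ → C) (s : ∀ i, S i ⟶ A) (_ : ∀ i, Mono (s i))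
    (_ : ∀ i j, i ≤ j → ∃ t : S j ⟶ S i, t ≫ s i = s j) (a : ℤ) (_ : IsIso (s a))
    (_ : IsZero (S (a + (n : ℤ)))), Concl S s := by
  induction n with
  | zero =>
    intro A S s hm hfac a ha hb
    have hb' : IsZero (S a) := by simpa using hb
    have hA : IsZero A := IsZero.of_iso hb' (asIso (s a)).symm
    have hX : IsZero (Groth.Agent.Helper6.CE.zeroRes A hA).cocomplex := by
      change IsZero ((CochainComplex.single₀ C).obj A)
      exact Functor.map_isZero _ hA
    have htop : IsZero (((⊤ : Subobject (Groth.Agent.Helper6.CE.zeroRes A hA).cocomplex) :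
        CochainComplex C ℕ)) := IsZero.of_iso hX (asIso (⊤ : Subobject _).arrow)
    refine ⟨Groth.Agent.Helper6.CE.zeroRes A hA, fun _ => ⊤, fun _ _ _ => le_rfl,
      fun _ _ => rfl, fun _ _ => ?_, fun i => ⟨?_, ?_⟩⟩
    · rw [Subobject.top_eq_id, Subobject.mk_eq_bot_iff_zero]
      exact hX.eq_of_src _ _
    · exact inj_top _ (fun j => (Groth.Agent.Helper6.CE.zeroRes A hA).injective j)
    · have hSi : IsZero (S i) := haveI := hm i; IsZero.of_mono (s i) hA
      have hsrc : IsZero ((CochainComplex.single₀ C).obj (S i)) := Functor.map_isZero _ hSi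
      refine ⟨(IsZero.iso hsrc htop).hom, hsrc.eq_of_src _ _, inferInstance⟩
  | succ n ih =>
    intro A S s hm hfac a ha hb
    haveI := hm
    -- basic consequences of the factorisations
    have Z1 : ∀ i j, i ≤ j → IsZero (S i) → IsZero (S j) := by
      intro i j hij hZ
      obtain ⟨r, hr⟩ := hfac i j hij
      have : s j = 0 := by rw [← hr, hZ.eq_of_tgt r 0, zero_comp]
      exact IsZero.of_mono_eq_zero (s j) this
    have Z2 : ∀ i j, i ≤ j → IsIso (s j) → IsIso (s i) := by
      intro i j hij hj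
      obtain ⟨r, hr⟩ := hfac i j hij
      haveI : Epi (s i) := by
        haveI : Epi (r ≫ s i) := by rw [hr]; infer_instance
        exact epi_of_epi r (s i)
      exact isIso_of_mono_of_epi (s i)
    -- the sub-family on `B = S (a+1)`
    choose t ht using fun i => hfac (a + 1) (max i (a + 1)) (le_max_right _ _)
    have hm' : ∀ i, Mono (t i) := fun i => mono_of_mono_fac (ht i)
    have hfac' : ∀ i j, i ≤ j → ∃ r : S (max j (a + 1)) ⟶ S (max i (a + 1)), r ≫ t i = t j := by
      intro i j hij
      obtain ⟨r, hr⟩ := hfac (max i (a + 1)) (max j (a + 1)) (max_le_max hij le_rfl)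
      refine ⟨r, ?_⟩
      rw [← cancel_mono (s (a + 1)), Category.assoc, ht, ht, hr]
    have iso_of_fac : ∀ (m : ℤ) (_ : m = a + 1) (r : S m ⟶ S (a + 1))
        (_ : r ≫ s (a + 1) = s m), IsIso r := by
      intro m hm1 r hr
      subst hm1
      have : r = 𝟙 _ := by rw [← cancel_mono (s (a + 1)), hr, Category.id_comp]
      rw [this]
      infer_instance
    have ha' : IsIso (t (a + 1)) := iso_of_fac _ (max_self _) _ (ht _)
    have hb' : IsZero (S (max (a + 1 + (n : ℤ)) (a + 1))) := by
      have e : max (a + 1 + (n : ℤ)) (a + 1) = a + ((n + 1 : ℕ) : ℤ) := by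
        rw [max_eq_left (by omega)]
        push_cast
        ring
      rw [e]
      exact hb
    obtain ⟨Y, G', hG'anti, hG'top, hG'bot, hG'⟩ :=
      ih (fun i => S (max i (a + 1))) t hm' hfac' (a + 1) ha' hb'
    obtain ⟨X, f, hfmono, hιf, hzero⟩ := horseshoe (s (a + 1)) Y
    haveI := hfmono
    obtain ⟨G, hGdef⟩ : ∃ G : ℤ → Subobject X.cocomplex, ∀ i, G i =
        if IsIso (s i) then ⊤ else Subobject.mk ((G' i).arrow ≫ f) := ⟨_, fun _ => rfl⟩
    have hGpos : ∀ i, IsIso (s i) → G i = ⊤ := fun i hi => by rw [hGdef, if_pos hi]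
    have hGneg : ∀ i, ¬ IsIso (s i) → G i = Subobject.mk ((G' i).arrow ≫ f) :=
      fun i hi => by rw [hGdef, if_neg hi]
    refine ⟨X, G, ?_, hGpos, ?_, fun i => ?_⟩
    · -- antitone
      intro i j hij
      by_cases hi : IsIso (s i)
      · rw [hGpos i hi]
        exact le_top
      · have hj : ¬ IsIso (s j) := fun hj => hi (Z2 i j hij hj)
        rw [hGneg i hi, hGneg j hj]
        exact Subobject.mk_le_mk_of_comm ((G' j).ofLE (G' i) (hG'anti hij))
          (by rw [← Category.assoc, Subobject.ofLE_arrow])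
    · -- bottom
      intro i hZ
      by_cases hi : IsIso (s i)
      · rw [hGpos i hi]
        have hA : IsZero A := IsZero.of_iso hZ (asIso (s i)).symm
        have hY : IsZero Y.cocomplex := by
          have h1 := hG'top (a + 1) ha'
          have h2 := hG'bot (a + 1) (IsZero.of_mono (s _) hA)
          rw [h1, Subobject.top_eq_id, Subobject.mk_eq_bot_iff_zero] at h2
          exact (IsZero.iff_id_eq_zero _).2 h2
        have hX := hzero hA hY
        rw [Subobject.top_eq_id, Subobject.mk_eq_bot_iff_zero]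
        exact hX.eq_of_src _ _
      · rw [hGneg i hi]
        rw [Subobject.mk_eq_bot_iff_zero]
        have h2 := hG'bot i (Z1 i _ (le_max_left _ _) hZ)
        rw [h2, Subobject.bot_arrow, zero_comp]
    · by_cases hi : IsIso (s i)
      · refine transport _ _ (hGpos i hi) _ ?_
        refine ⟨inj_top _ (fun j => X.injective j), ?_⟩
        haveI := X.quasiIso
        refine ⟨((CochainComplex.single₀ C).map (s i) ≫ X.ι) ≫ inv (⊤ : Subobject _).arrow,
          by rw [Category.assoc, IsIso.inv_hom_id, Category.comp_id], inferInstance⟩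
      · refine transport _ _ (hGneg i hi) _ ?_
        refine ⟨inj_mk _ (fun j => (hG' i).1 j), ?_⟩
        have hia : a + 1 ≤ i := by
          by_contra h
          exact hi (Z2 i a (by omega) ha)
        obtain ⟨ι', h1, h2⟩ := (hG' i).2
        have TL : ∀ (m : ℤ) (_ : m = i) (r : S m ⟶ S (a + 1)) (_ : r ≫ s (a + 1) = s m)
            (ι' : (CochainComplex.single₀ C).obj (S m) ⟶ (G' i : CochainComplex C ℕ))
            (_ : ι' ≫ (G' i).arrow = (CochainComplex.single₀ C).map r ≫ Y.ι) (_ : QuasiIso ι'),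
            ∃ ι : (CochainComplex.single₀ C).obj (S i) ⟶
                ((Subobject.mk ((G' i).arrow ≫ f) : Subobject X.cocomplex) : CochainComplex C ℕ),
              ι ≫ (Subobject.mk ((G' i).arrow ≫ f)).arrow =
                (CochainComplex.single₀ C).map (s i) ≫ X.ι ∧ QuasiIso ι := by
          intro m hmi r hr ι' h1 h2
          subst hmi
          refine ⟨ι' ≫ (Subobject.underlyingIso ((G' m).arrow ≫ f)).inv, ?_, inferInstance⟩
          rw [Category.assoc, Subobject.underlyingIso_arrow, ← Category.assoc, h1,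
            Category.assoc, hιf, ← Category.assoc, ← Functor.map_comp, hr]
        exact TL _ (max_eq_left hia) (t i) (ht i) ι' h1 h2

theorem main (K : SpSeq.FilObj C) (hK : K.IsFinite) :
    ∃ (X : InjectiveResolution K.obj) (G : ℤ → Subobject X.cocomplex), Antitone G ∧
      (∀ i : ℤ, K.fil i = ⊤ → G i = ⊤) ∧ (∀ i : ℤ, K.fil i = ⊥ → G i = ⊥) ∧
      ∀ i : ℤ, (∀ j : ℕ, Injective ((G i : CochainComplex C ℕ).X j)) ∧
        ∃ ι : (CochainComplex.single₀ C).obj (K.step i) ⟶ (G i : CochainComplex C ℕ),
          ι ≫ (G i).arrow = (CochainComplex.single₀ C).map (K.fil i).arrow ≫ X.ι ∧ QuasiIso ι := by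
  obtain ⟨⟨a, ha⟩, ⟨b, hb⟩⟩ := hK
  obtain ⟨n, hn⟩ : ∃ n : ℕ, K.fil (a + (n : ℤ)) = ⊥ := by
    by_cases hab : a ≤ b
    · refine ⟨(b - a).toNat, ?_⟩
      rw [Int.toNat_of_nonneg (by omega)]
      have : a + (b - a) = b := by ring
      rw [this]
      exact hb
    · refine ⟨0, ?_⟩
      have h1 : K.fil (a + ((0 : ℕ) : ℤ)) ≤ K.fil b := K.anti (by push_cast; omega)
      rw [hb] at h1
      exact le_bot_iff.mp h1
  have hbot : ∀ i, K.fil i = ⊥ → IsZero (K.step i) := by
    intro i hi
    have : IsZero (((⊥ : Subobject K.obj) : C)) :=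
      IsZero.of_iso (isZero_zero C) Subobject.botCoeIsoZero
    dsimp only [SpSeq.FilObj.step]
    rw [hi]
    exact this
  obtain ⟨X, G, h1, h2, h3, h4⟩ := P n (fun i => K.step i) (fun i => (K.fil i).arrow)
    (fun i => inferInstance)
    (fun i j hij => ⟨(K.fil j).ofLE (K.fil i) (K.anti hij), Subobject.ofLE_arrow _⟩) a
    (by rw [Subobject.isIso_arrow_iff_eq_top]; exact ha) (hbot _ hn)
  exact ⟨X, G, h1, fun i hi => h2 i (by rw [Subobject.isIso_arrow_iff_eq_top]; exact hi),
    fun i hi => h3 i (hbot i hi), h4⟩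

end Aux

/-- Let C be an abelian category in which every object embeds in an injective object, and let A be an
object of C with a finite decreasing filtration (F^i A). Then there are an injective resolution X of
A and a decreasing filtration of X by subcomplexes F^i X such that F^i X = X when F^i A = A, F^i X =
0 when F^i A = 0, and, for every i, F^i X is a complex of injective objects into which F^i A (placed
in degree 0) maps, compatibly with the augmentation A ⟶ X, by a quasi-isomorphism; thus F^i X is an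
injective resolution of F^i A. -/
theorem result {C : Type u} [Category.{v} C] [Abelian C] [EnoughInjectives C]
    (K : SpSeq.FilObj C) (hK : K.IsFinite) :
    ∃ (X : InjectiveResolution K.obj) (G : ℤ → Subobject X.cocomplex), Antitone G ∧
      (∀ i : ℤ, K.fil i = ⊤ → G i = ⊤) ∧ (∀ i : ℤ, K.fil i = ⊥ → G i = ⊥) ∧
      ∀ i : ℤ, (∀ j : ℕ, Injective ((G i : CochainComplex C ℕ).X j)) ∧
        ∃ ι : (CochainComplex.single₀ C).obj (K.step i) ⟶ (G i : CochainComplex C ℕ),
          ι ≫ (G i).arrow = (CochainComplex.single₀ C).map (K.fil i).arrow ≫ X.ι ∧ QuasiIso ι := by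
  exact Aux.main K hK

end Groth.Agent.S8350
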