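import Groth.Statements.S8352
import Groth.Statements.S8352
import Mathlib
import Groth.Agent.Lib.Helper3.MLLim

set_option autoImplicit false
universe u
open CategoryTheory CategoryTheory.Limits Opposite
open HomAlg3

namespace Groth.Agent.S8352


/-- Category of abelian groups, system indexed by the natural numbers: Let (A_k) be an inverse system of
abelian groups satisfying the Mittag-Leffler condition, A = lim A_k with projections π_p : A ⟶ A_p.
Filter A and each A_k by the kernels of the maps to A_{p-1} (with A_{-1} = 0); the graded piece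
gr^p(A) is identified with Im(π_p) ∩ Ker(A_p ⟶ A_{p-1}) and gr^p(A_k), k ≥ p, with Im(A_k ⟶ A_p) ∩
Ker(A_p ⟶ A_{p-1}), a decreasing family of subgroups of A_p. The statement gr^p(A) ≅ lim_k gr^p(A_k)
then reads: Im(π_0) = ⋂_k Im(A_k ⟶ A_0), and for every p, Im(π_{p+1}) ∩ Ker(A_{p+1} ⟶ A_p) = ⋂_{k ≥
p+1} (Im(A_k ⟶ A_{p+1}) ∩ Ker(A_{p+1} ⟶ A_p)). -/
theorem result (F : ℕᵒᵖ ⥤ AddCommGrpCat.{u})
    (hF : (F ⋙ forget AddCommGrpCat).IsMittagLeffler) :
    (limit.π F (op 0)).hom.range = ⨅ k : ℕ, (F.map (homOfLE (Nat.zero_le k)).op).hom.range ∧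
      ∀ p : ℕ, (limit.π F (op (p + 1))).hom.range ⊓ (F.map (homOfLE (Nat.le_succ p)).op).hom.ker =
        ⨅ (k : ℕ) (hk : p + 1 ≤ k),
          (F.map (homOfLE hk).op).hom.range ⊓ (F.map (homOfLE (Nat.le_succ p)).op).hom.ker := by
  constructor
  · ext x
    rw [AddSubgroup.mem_iInf]
    constructor
    · rintro ⟨z, rfl⟩ k
      exact ⟨(limit.π F (op k)).hom z,
        Groth.Agent.Helper3.MLLim.limit_π_res F z (Nat.zero_le k)⟩
    · intro hx
      exact Groth.Agent.Helper3.MLLim.exists_limit_elt_of_mem_ranges F hF 0 x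
        (fun k hk => hx k)
  · intro p
    ext x
    simp only [AddSubgroup.mem_iInf, AddSubgroup.mem_inf]
    constructor
    · rintro ⟨⟨z, rfl⟩, hker⟩ k hk
      exact ⟨⟨(limit.π F (op k)).hom z, Groth.Agent.Helper3.MLLim.limit_π_res F z hk⟩, hker⟩
    · intro hx
      exact ⟨Groth.Agent.Helper3.MLLim.exists_limit_elt_of_mem_ranges F hF (p + 1) x
        (fun k hk => (hx k hk).1), (hx (p + 1) le_rfl).2⟩

end Groth.Agent.S8352
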