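import Groth.Statements.S8369
import Mathlib
import Groth.Agent.Lib.Helper1.LocalCrit

set_option autoImplicit false
universe u v
open SGA3 TensorProduct Groth.Agent.Helper1.LocalCrit

namespace Groth.Agent.S8369

/-- Let A be a commutative ring, J a nilpotent ideal, N ⊆ M A-modules with M/N flat over A. If elements
of N have images generating the image of N in M/JM, then they generate N. (The published statement
takes finitely many elements; this row allows an arbitrary set, which the same argument permits.) -/
theorem result (A : Type u) [CommRing A] (J : Ideal A) (hJ : IsNilpotent J)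
    (M : Type v) [AddCommGroup M] [Module A M] (N : Submodule A M) [Module.Flat A (M ⧸ N)] (s : Set M)
    (hs : s ⊆ N)
    (hgen : (Submodule.span A s).map (J • (⊤ : Submodule A M)).mkQ = N.map (J • (⊤ : Submodule A M)).mkQ) :
    Submodule.span A s = N := by
  obtain ⟨n, hn⟩ := hJ
  have hle : Submodule.span A s ≤ N := Submodule.span_le.mpr hs
  -- N ∩ JM = JN
  have hinj : Function.Injective (N.subtype.lTensor (A ⧸ J)) :=
    LinearMap.lTensor_injective_of_exact_of_flat N.mkQ (Submodule.mkQ_surjective N) N.subtype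
      N.subtype_injective (LinearMap.exact_subtype_mkQ N) (A ⧸ J)
  have hcap : ∀ x : N, (x : M) ∈ J • (⊤ : Submodule A M) → x ∈ J • (⊤ : Submodule A N) := by
    intro x hx
    rw [← one_tmul_eq_zero_iff]
    apply hinj
    rw [map_zero, LinearMap.lTensor_tmul, Submodule.subtype_apply, one_tmul_eq_zero_iff]
    exact hx
  -- Nakayama inside N
  have key : (Submodule.span A s).comap N.subtype = ⊤ := by
    apply eq_top_of_sup_smul_top_of_pow_eq_bot J n hn
    rintro ⟨x, hxN⟩ -
    have h1 : (J • (⊤ : Submodule A M)).mkQ x ∈ N.map (J • (⊤ : Submodule A M)).mkQ :=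
      Submodule.mem_map_of_mem hxN
    rw [← hgen] at h1
    obtain ⟨y, hy, hyx⟩ := h1
    have h2 : x - y ∈ J • (⊤ : Submodule A M) := by
      rw [← Submodule.ker_mkQ (J • (⊤ : Submodule A M)), LinearMap.mem_ker, map_sub, hyx, sub_self]
    have hyN : y ∈ N := hle hy
    have h3 : (⟨x, hxN⟩ - ⟨y, hyN⟩ : N) ∈ J • (⊤ : Submodule A N) := hcap _ h2
    have h4 : (⟨x, hxN⟩ : N) = ⟨y, hyN⟩ + (⟨x, hxN⟩ - ⟨y, hyN⟩) := by abel
    rw [h4]
    exact Submodule.add_mem_sup (show (⟨y, hyN⟩ : N) ∈ (Submodule.span A s).comap N.subtype from hy)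
      h3
  apply le_antisymm hle
  intro x hx
  have : (⟨x, hx⟩ : N) ∈ (Submodule.span A s).comap N.subtype := by rw [key]; trivial
  exact this

end Groth.Agent.S8369
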