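import Groth.Statements.S8392
import Groth.Agent.Lib.Helper6.DS.MultGa

set_option autoImplicit false
universe u
open CategoryTheory MonoidalCategory CartesianMonoidalCategory MonObj GrpObj AlgebraicGeometry
open SGA3x

namespace Groth.Agent.S8392

/-- Let H be an S-group scheme of multiplicative type. Then every homomorphism of S-groups H → 𝔾_a is
trivial. (Stated for H of multiplicative type and of finite type, the class of multiplicative groups
available here; the published statement allows any group of multiplicative type.) -/
theorem result (S : Scheme.{u}) (H : Over S) [GrpObj H] (hH : SGA3x.IsMultTypeFT H)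
    (u : H ⟶ Red.Ga S) [IsMonHom u] : u = 1 := by
  obtain ⟨S', f, hflat, hsurj, -, hloc⟩ := hH
  refine Groth.Agent.Lib.Helper6.DS.eq_one_of_locally_diag H u fun s => ?_
  obtain ⟨s', hs'⟩ := hsurj.surj s
  obtain ⟨U, hU, M, inst, -, hiso⟩ := hloc s'
  have : Flat f := hflat
  refine ⟨U, U.ι ≫ f, inferInstance, ⟨s', hU⟩, ?_, M, inst, hiso⟩
  rw [← hs']
  rfl

end Groth.Agent.S8392
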