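import Groth.Statements.S8471
import Mathlib
import Groth.Agent.Lib.Helper2.FunEq

set_option autoImplicit false
open Red

namespace Groth.Agent.S8471

/-- Let k be a field and F ∈ k(X) a rational function whose denominator does not vanish at 0 and with
F(0) = 1. Suppose that in the field of fractions L of k[X₀, X₁] one has F(X₀ + X₁ · F(X₀)) = F(X₀) ·
F(X₁) (the functional equation F(x + y F(x)) = F(x) F(y)). Then there is a ∈ k with F = 1 + a X.
(The published statement takes the identity on an open neighbourhood of the origin of 𝔾_a × 𝔾_a on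
which all terms are defined; this row takes it as an identity of rational functions in two
variables.) -/
theorem result (k : Type) [Field k] (F : RatFunc k)
    (h0 : F.denom.eval 0 ≠ 0) (h1 : F.num.eval 0 = F.denom.eval 0)
    (hFE : RatFunc.eval (algebraMap k (FractionRing (MvPolynomial (Fin 2) k)))
        (algebraMap (MvPolynomial (Fin 2) k) (FractionRing (MvPolynomial (Fin 2) k)) (MvPolynomial.X 0) +
          algebraMap (MvPolynomial (Fin 2) k) (FractionRing (MvPolynomial (Fin 2) k)) (MvPolynomial.X 1) *
            RatFunc.eval (algebraMap k (FractionRing (MvPolynomial (Fin 2) k)))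
              (algebraMap (MvPolynomial (Fin 2) k) (FractionRing (MvPolynomial (Fin 2) k)) (MvPolynomial.X 0)) F) F =
      RatFunc.eval (algebraMap k (FractionRing (MvPolynomial (Fin 2) k)))
          (algebraMap (MvPolynomial (Fin 2) k) (FractionRing (MvPolynomial (Fin 2) k)) (MvPolynomial.X 0)) F *
        RatFunc.eval (algebraMap k (FractionRing (MvPolynomial (Fin 2) k)))
          (algebraMap (MvPolynomial (Fin 2) k) (FractionRing (MvPolynomial (Fin 2) k)) (MvPolynomial.X 1)) F) :
    ∃ a : k, F = 1 + RatFunc.C a * RatFunc.X := by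
  classical
  open Polynomial Groth.Agent.Helper2.FunEq in
  -- transfer to `k(x)(Y)`
  have hFE' := congrArg (theta k) hFE
  rw [map_mul, map_ratFunc_eval, map_ratFunc_eval, map_ratFunc_eval, map_add, map_mul,
    map_ratFunc_eval, theta_comp, theta_x, theta_y] at hFE'
  set P := F.num with hP
  set Q := F.denom with hQ
  have hPne : P ≠ 0 := by
    intro h
    rw [h] at h1
    simp at h1
    exact h0 h1.symm
  have hQne : Q ≠ 0 := F.denom_ne_zero
  have evX : ∀ T : k[X], (T.map (algebraMap k (RatFunc k))).eval RatFunc.X =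
      algebraMap k[X] (RatFunc k) T := by
    intro T
    rw [eval_map, ← aeval_def, ← RatFunc.algebraMap_X, aeval_algebraMap_apply, aeval_X_left_apply]
  have ev0 : ∀ T : k[X], (T.map (algebraMap k (RatFunc k))).eval 0 =
      algebraMap k (RatFunc k) (T.eval 0) := by
    intro T
    exact eval_zero_map _ _
  have inj := RatFunc.algebraMap_injective k
  have hp : (P.map (algebraMap k (RatFunc k))).eval RatFunc.X ≠ 0 := by
    rw [evX]; exact fun h => hPne (inj (h.trans (map_zero _).symm))
  have hq : (Q.map (algebraMap k (RatFunc k))).eval RatFunc.X ≠ 0 := by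
    rw [evX]; exact fun h => hQne (inj (h.trans (map_zero _).symm))
  have key := stage3 F RatFunc.X hp hq hFE'
  have hcop : IsCoprime (P.map (algebraMap k (RatFunc k))) (Q.map (algebraMap k (RatFunc k))) :=
    (F.isCoprime_num_denom).map (mapRingHom (algebraMap k (RatFunc k)))
  have hr : P.eval 0 ≠ 0 := by rw [h1]; exact h0
  have s2a := stage2 _ _ hcop RatFunc.X _ _ _ (div_ne_zero hp hq) hp hq
    (by rw [ev0]; exact (_root_.map_ne_zero _).mpr hr) key
  have s2b := stage2 _ _ hcop.symm RatFunc.X _ _ _ (div_ne_zero hp hq) hq hp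
    (by rw [ev0]; exact (_root_.map_ne_zero _).mpr h0) (by rw [mul_comm, ← key, mul_comm])
  rw [natDegree_map, ev0, evX, evX] at s2a s2b
  -- the two polynomial identities
  have hqx : algebraMap k[X] (RatFunc k) Q ≠ 0 := by rw [← evX]; exact hq
  have E1 : P ^ P.natDegree * C (P.eval 0) = P * Q ^ P.natDegree := by
    apply inj
    rw [map_mul, map_mul, map_pow, map_pow, RatFunc.algebraMap_C]
    rw [div_pow, div_mul_eq_mul_div, div_eq_iff (pow_ne_zero _ hqx)] at s2a
    exact s2a
  have E2 : P ^ Q.natDegree * C (P.eval 0) = Q ^ (Q.natDegree + 1) := by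
    apply inj
    rw [map_mul, map_pow, map_pow, RatFunc.algebraMap_C]
    rw [div_pow, ← h1, div_mul_eq_mul_div, div_eq_iff (pow_ne_zero _ hqx), ← pow_succ'] at s2b
    exact s2b
  obtain ⟨hQ1, a, hPa⟩ := stage1 P Q F.monic_denom F.isCoprime_num_denom (P.eval 0) hr rfl h1.symm E1 E2
  refine ⟨a, ?_⟩
  rw [← F.num_div_denom, ← hP, ← hQ, hQ1, hPa]
  simp

end Groth.Agent.S8471
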