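import Groth.Statements.S8509
import Mathlib
import Groth.Agent.S12837
import Groth.Agent.Lib.Helper2.SmBoot.EtSections
import Groth.Agent.Lib.Helper9.FE.HensC


set_option autoImplicit false
open CategoryTheory MonoidalCategory CartesianMonoidalCategory MonObj GrpObj AlgebraicGeometry
universe u
open RedSub

namespace Groth.Agent.S8509

/-- Let A be a henselian local ring, S = Spec A, and G an S-group scheme which is smooth and affine over
S. Then every torsor P under G (a representable principal homogeneous bundle) is isotrivial: there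
is a finite etale surjective morphism S' ⟶ S such that P_{S'} has a section. (The published
statement asks only that every finite set of points of G lie in an affine open; this row takes G
affine over S.) -/
theorem result (A : Type u) [CommRing A] [HenselianLocalRing A]
    {G P : Over (Spec (CommRingCat.of A))} [GrpObj G] [Smooth G.hom] [IsAffineHom G.hom] (a : AlgGrp.Action G P)
    (ha : RedSub.IsTorsor a) :
    ∃ (S' : Scheme.{u}) (f : S' ⟶ Spec (CommRingCat.of A)), IsFinite f ∧ Etale f ∧ Surjective f ∧
      RedSub.HasSection (Red.bc f P) := by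
  obtain ⟨h1, h2, h3, hX⟩ := ha
  haveI := h1
  haveI := h2
  haveI := h3
  have hmem : Presieve.singleton P.hom ∈ Scheme.fpqcPrecoverage _ :=
    Scheme.fppfPrecoverage_le_fpqcPrecoverage _ (Scheme.Hom.singleton_mem_fppfPrecoverage P.hom)
  have htor : NonAbH1.IsTorsorFor Scheme.fpqcPrecoverage a := by
    refine ⟨hX, Presieve.singleton P.hom, hmem, ?_⟩
    rintro T f ⟨⟩
    exact ⟨𝟙 _, Category.id_comp _⟩
  haveI hsm : Smooth P.hom := Groth.Agent.S12837.torsor_prop @Smooth G P a htor inferInstance
  obtain ⟨W, g, hE, hS⟩ := Groth.Agent.Helper2.SmBootP.exists_etale_surjective_comp P.hom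
  haveI := hE
  obtain ⟨w, hw⟩ := hS.surj (IsLocalRing.closedPoint A)
  obtain ⟨We, hWe⟩ : ∃ We : (Spec (CommRingCat.of A)).Etale, We =
      Groth.Agent.Lib.Helper5.EtSiteBasic.ofEtale (g ≫ P.hom) := ⟨_, rfl⟩
  have hw' : We.hom (show We.left from by rw [hWe]; exact w) = IsLocalRing.closedPoint A := by
    subst hWe
    exact hw
  obtain ⟨W', k, w', hfin, hk⟩ := H9FE.HensC.exists_finite_nbhd A We _ hw'
  have hkw : k.left ≫ We.hom = W'.hom := CategoryTheory.MorphismProperty.Over.w k
  have hfin' : IsFinite W'.hom := hfin
  haveI hEt' : Etale W'.hom := W'.prop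
  refine ⟨W'.left, W'.hom, hfin', hEt', ?_, ?_⟩
  · refine ⟨fun s => ?_⟩
    have hopen : IsOpen (Set.range W'.hom) := W'.hom.isOpenMap.isOpen_range
    have hcl : IsLocalRing.closedPoint A ∈ Set.range W'.hom := by
      refine ⟨w', ?_⟩
      have e1 : W'.hom w' = We.hom (k.left w') := by
        rw [← hkw]
        rfl
      rw [e1, hk]
      exact hw'
    exact (IsLocalRing.specializes_closedPoint (R := A) s).mem_open hopen hcl
  · subst hWe
    have hs : (k.left ≫ g) ≫ P.hom = W'.hom := by
      rw [Category.assoc]
      exact hkw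
    exact ⟨Over.homMk (Limits.pullback.lift (k.left ≫ g) (𝟙 W'.left) (by
      rw [hs]
      exact (Category.id_comp _).symm)) (Limits.pullback.lift_snd _ _ _)⟩

end Groth.Agent.S8509
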