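import Groth.Statements.S8513
import Mathlib

set_option autoImplicit false
open CategoryTheory MonoidalCategory CartesianMonoidalCategory MonObj GrpObj AlgebraicGeometry
universe u
open Par

namespace Groth.Agent.S8513

/-- Let G be a reductive S-group and P, Q two parabolic subgroups of G in transversal position (the
multiplication morphism P ×_S Q ⟶ G is smooth). Then P ∩ Q (a fibre product of P and Q over G) is
smooth over S. -/
theorem result {S : Scheme.{u}} {G P Q I : Over S} [GrpObj G] [GrpObj P] [GrpObj Q]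
    (hG : Red.IsReductive G) (p : P ⟶ G) (q : Q ⟶ G) (hP : Red.IsParabolic p) (hQ : Red.IsParabolic q)
    (htr : Smooth ((p ⊗ₘ q) ≫ μ[G]).left) (m : I ⟶ P) (m' : I ⟶ Q) (hI : IsPullback m m' p q) :
    Smooth I.hom := by
  obtain ⟨hpm, -, -, -⟩ := hP
  obtain ⟨hqm, -, -, -⟩ := hQ
  haveI := hpm
  haveI := hqm
  have hw : lift m (m' ≫ ι[Q]) ≫ (p ⊗ₘ q) ≫ μ[G] = toUnit I ≫ η[G] := by
    rw [lift_map_assoc, ← Hom.mul_def, ← Hom.one_def, ← Hom.inv_def, GrpObj.inv_comp, hI.w]
    exact mul_inv_cancel _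
  have sq : IsPullback (lift m (m' ≫ ι[Q])) (toUnit I) ((p ⊗ₘ q) ≫ μ[G]) η[G] := by
    have key : ∀ s : Limits.PullbackCone ((p ⊗ₘ q) ≫ μ[G]) η[G],
        (s.fst ≫ fst P Q) ≫ p = ((s.fst ≫ snd P Q) ≫ ι[Q]) ≫ q := by
      intro s
      have h1 : s.fst = lift (s.fst ≫ fst P Q) (s.fst ≫ snd P Q) := by
        apply CartesianMonoidalCategory.hom_ext <;> simp
      have h2 := s.condition
      rw [h1, lift_map_assoc, ← Hom.mul_def, toUnit_unique s.snd (toUnit _), ← Hom.one_def] at h2
      rw [← Hom.inv_def, GrpObj.inv_comp]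
      exact mul_eq_one_iff_eq_inv.mp h2
    have e : ∀ {T : Over S} (y : T ⟶ Q), (y ≫ ι[Q]) ≫ ι[Q] = y := by
      intro T y
      rw [← Hom.inv_def, ← Hom.inv_def, _root_.inv_inv]
    refine ⟨⟨hw⟩, ⟨Limits.PullbackCone.IsLimit.mk _
      (fun s => hI.lift (s.fst ≫ fst P Q) ((s.fst ≫ snd P Q) ≫ ι[Q]) (key s)) ?_ ?_ ?_⟩⟩
    · intro s
      apply CartesianMonoidalCategory.hom_ext
      · rw [Category.assoc, lift_fst, hI.lift_fst]
      · rw [Category.assoc, lift_snd, hI.lift_snd_assoc, e]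
    · intro s
      exact toUnit_unique _ _
    · intro s m₀ h₁ _
      apply hI.hom_ext
      · rw [hI.lift_fst, ← h₁, Category.assoc, lift_fst]
      · rw [hI.lift_snd, ← h₁]
        simp only [Category.assoc]
        rw [lift_snd_assoc, e]
  have sq' := sq.map (Over.forget S)
  have := MorphismProperty.of_isPullback (P := @Smooth) sq' htr
  exact this

end Groth.Agent.S8513
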