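import Groth.Statements.S8526
import Mathlib
import Groth.Statements.S8526
import Groth.Agent.Lib.Helper9.FE.CsSupp
import Groth.Agent.Lib.Helper9.FE.CsPb
-- import your own Groth.Agent.* helpers here

set_option autoImplicit false
universe u
open CategoryTheory CategoryTheory.Limits AlgebraicGeometry Opposite
open EtPBC

namespace Groth.Agent.S8526

open CategoryTheory CategoryTheory.Limits AlgebraicGeometry Opposite
namespace Aux
set_option linter.style.haveILetI false
set_option backward.isDefEq.respectTransparency false
open H9FE.CsSupp H9FE.CsAcc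

theorem main {X : Scheme.{u}} (F : EtCoh.Ab X) (hF : EtPBC.IsConstructible F) :
    Topology.IsLocallyConstructible (EtPBC.supp F) := by
  intro x
  obtain ⟨W, hWa, hxW, -⟩ := H9FE.CsStrata.exists_affine_nhd (⊤ : X.Opens) x trivial
  refine ⟨(W : Set X), W.isOpen.mem_nhds hxW, W.isOpen, ?_⟩
  haveI : IsAffine W.toScheme := hWa
  have hG := H9FE.CsStrata.pullback_constructible W.ι F hF
  have hv := van_constructible _ hG
  have hset : ((Subtype.val : W.toScheme → X) ⁻¹' EtPBC.supp F) =
      {w : W.toScheme | ∀ (Ω : Type u) [Field Ω] [IsSepClosed Ω]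
        (ξ : Spec (CommRingCat.of Ω) ⟶ W.toScheme), Set.range ξ = {w} →
          Subsingleton ((EtCoh.stalk ξ).obj ((EtCoh.pull W.ι).obj F))}ᶜ := by
    ext w
    constructor
    · rintro ⟨Ω, _, _, ξ, hξ, hnz⟩ hw
      have hd := default_eq_of_range ξ hξ
      obtain ⟨ξ', rfl⟩ := lift_immersion W.ι ξ ⟨w, hd.symm⟩
      have hw' : ξ' default = w := by
        apply W.ι.isEmbedding.injective
        rw [← Scheme.Hom.comp_apply]
        exact hd
      have h1 := hw Ω ξ' (by rw [range_eq_singleton, hw'])
      rw [subsingleton_stalk_pull_iff] at h1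
      exact hnz (AddCommGrpCat.isZero_of_subsingleton _)
    · intro hw
      by_contra hcon
      apply hw
      intro Ω _ _ ξ' hξ'
      by_contra hns
      apply hcon
      refine ⟨Ω, inferInstance, inferInstance, ξ' ≫ W.ι, ?_, ?_⟩
      · rw [range_eq_singleton, Scheme.Hom.comp_apply, default_eq_of_range ξ' hξ']
        rfl
      · intro hz
        apply hns
        rw [subsingleton_stalk_pull_iff]
        exact AddCommGrpCat.subsingleton_of_isZero hz
  exact hset ▸ hv.compl

end Aux

/-- Let F be a constructible abelian sheaf on the small etale site of a scheme X. Then the support of F,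
the set of points of X over which some geometric stalk of F is nonzero, is a locally constructible
subset of X. -/
theorem result {X : Scheme.{u}} (F : EtCoh.Ab X) (hF : EtPBC.IsConstructible F) :
    Topology.IsLocallyConstructible (EtPBC.supp F) := by
  exact Aux.main F hF

end Groth.Agent.S8526
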