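import Groth.Statements.S8528
import Mathlib
import Groth.Prelude.Def_EtBase
import Groth.Prelude.Def_Hensel
import Groth.Prelude.Def_EtCore
import Groth.Agent.Lib.Helper9.FE.ConstUnit
import Groth.Agent.Lib.Helper9.FE.UnibranchEt
import Groth.Agent.Lib.Helper9.FE.TorsD
import Groth.Agent.Lib.Helper9.FE.TorsF
import Groth.Agent.Lib.Helper9.FE.GabB
-- import your own Groth.Agent.* helpers here

set_option autoImplicit false
universe u
open CategoryTheory CategoryTheory.Limits AlgebraicGeometry Opposite
open EtPBC

namespace Groth.Agent.S8528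

open CategoryTheory CategoryTheory.Limits AlgebraicGeometry Opposite
open CategoryTheory CategoryTheory.Limits AlgebraicGeometry Opposite Abelian
namespace Aux
set_option backward.isDefEq.respectTransparency false
set_option linter.style.haveILetI false
set_option linter.unusedSectionVars false
open H9FE H9FE.ConstUnit H9FE.UnibranchEt Groth.Agent.S14453.Aux
open H9FE.EtHColim Groth.Agent.Lib.Helper5.ExtAdjAcyc

theorem unit_iso (X : Scheme.{u}) [IrreducibleSpace X] (hX : GeomUnibranch X)
    (A : AddCommGrpCat.{u+1}) :
    IsIso ((EtCoh.pullPushAdj (X.fromSpecResidueField (genericPoint X))).unit.app (cS X A)) := by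
  apply isIso_unit_of_criterion
  · intro V hV
    haveI : Nonempty V.left := hV
    obtain ⟨v, hv⟩ := exists_over_generic (X := X) (V := V.left) V.hom
    obtain ⟨z, -, -⟩ := Scheme.Pullback.exists_preimage_pullback (f := V.hom)
      (g := X.fromSpecResidueField (genericPoint X))
      v (IsLocalRing.closedPoint _) (hv.trans (Scheme.fromSpecResidueField_apply _ _).symm)
    exact ⟨z⟩
  · intro V v
    have hv := irreducibleSpace_stalk hX V.hom v
    obtain ⟨W₀, hvW₀, hirr⟩ :=
      exists_preirreducible_nhd (X := X) (V := V.left) V.hom v (hv := hv)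
    refine ⟨opObj V W₀, opι V W₀, ⟨⟨v, hvW₀⟩, rfl⟩, ?_⟩
    haveI : PreirreducibleSpace (W₀ : Scheme.{u}) := Subtype.preirreducibleSpace hirr
    let hW : (W₀ : Scheme.{u}) ⟶ X := (opObj V W₀).hom
    haveI : Etale hW := (opObj V W₀).prop
    let p : pullback hW (X.fromSpecResidueField (genericPoint X)) ⟶ (W₀ : Scheme.{u}) :=
      pullback.fst _ _
    let q : pullback hW (X.fromSpecResidueField (genericPoint X)) ⟶
      Spec (X.residueField (genericPoint X)) := pullback.snd _ _
    have hpq : p ≫ hW = q ≫ X.fromSpecResidueField (genericPoint X) := pullback.condition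
    haveI : Subsingleton (pullback hW (X.fromSpecResidueField (genericPoint X)) : Scheme.{u}) := by
      constructor
      intro z z'
      have hz : ∀ t, hW (p t) = genericPoint X := by
        intro t
        have h : (p ≫ hW) t = (q ≫ X.fromSpecResidueField (genericPoint X)) t := by
          rw [hpq]
        have h2 : (q ≫ X.fromSpecResidueField (genericPoint X)) t = genericPoint X :=
          Scheme.fromSpecResidueField_apply (genericPoint X) (q t)
        exact h.trans h2
      have h1 : p z = p z' :=
        generic_fibre_subsingleton (X := X) (W := (W₀ : Scheme.{u})) hW _ _ (hz z) (hz z')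
      exact p.isEmbedding.injective h1
    change PreirreducibleSpace
      (pullback hW (X.fromSpecResidueField (genericPoint X)) : Scheme.{u})
    infer_instance

theorem H1_push_residue (X : Scheme.{u}) (x : X) (M : Type)
    [AddCommGroup M] [IsAddTorsionFree M] :
    Subsingleton (EtCoh.H X ((EtCoh.push (X.fromSpecResidueField x)).obj
      (EtCoh.const (Spec (X.residueField x)) M)) 1) := by
  let f := X.fromSpecResidueField x
  let A : AddCommGrpCat.{u + 1} := AddCommGrpCat.of (ULift.{u + 1} M)
  have hA : ∀ m : ℕ, 0 < m → Function.Injective (fun a : A => m • a) := by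
    intro m hm a b hab
    have h1 : m • (ULift.down a) = m • (ULift.down b) := congrArg ULift.down hab
    exact ULift.ext _ _ (IsAddTorsionFree.nsmul_right_injective hm.ne' h1)
  haveI hsub : Subsingleton (EtCoh.H (Spec (X.residueField x))
      (EtCoh.const (Spec (X.residueField x)) M) 1) :=
    H9FE.TorsF.H1_const_subsingleton (X.residueField x) A hA
  have hinj := H9FE.TorsD.Φ_injective_one (EtCoh.pullPushAdj f) (ZZ X)
    (EtCoh.const (Spec (X.residueField x)) M)
  have key : ∀ z : Ext ((EtCoh.pull f).obj (ZZ X)) (EtCoh.const (Spec (X.residueField x)) M) 1,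
      z = 0 := by
    intro z
    have h1 : (Ext.mk₀ (EtCore.pullConst f ℤ).inv).comp z (zero_add 1) = 0 :=
      hsub.elim _ _
    have h2 : (Ext.mk₀ (EtCore.pullConst f ℤ).hom).comp
        ((Ext.mk₀ (EtCore.pullConst f ℤ).inv).comp z (zero_add 1)) (zero_add 1) = 0 := by
      rw [h1, Ext.comp_zero]
    rw [← Ext.comp_assoc_of_second_deg_zero, Ext.mk₀_comp_mk₀, Iso.hom_inv_id,
      Ext.mk₀_id_comp] at h2
    exact h2
  exact ⟨fun a b => hinj ((key _).trans (key _).symm)⟩

theorem main (X : Scheme.{u}) [IrreducibleSpace X] (hX : GeomUnibranch X) (M : Type)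
    [AddCommGroup M] [IsAddTorsionFree M] :
    Subsingleton (EtCoh.H X (EtCoh.const X M) 1) := by
  haveI : IsIso ((EtCoh.pullPushAdj (X.fromSpecResidueField (genericPoint X))).unit.app
      (EtCoh.const X M)) := unit_iso X hX (AddCommGrpCat.of (ULift.{u+1} M))
  let φ₁ : EtCoh.const X M ≅ (EtCoh.push (X.fromSpecResidueField (genericPoint X))).obj
      ((EtCoh.pull (X.fromSpecResidueField (genericPoint X))).obj (EtCoh.const X M)) :=
    asIso ((EtCoh.pullPushAdj (X.fromSpecResidueField (genericPoint X))).unit.app
      (EtCoh.const X M))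
  let φ₂ : (EtCoh.push (X.fromSpecResidueField (genericPoint X))).obj
      ((EtCoh.pull (X.fromSpecResidueField (genericPoint X))).obj (EtCoh.const X M)) ≅
      (EtCoh.push (X.fromSpecResidueField (genericPoint X))).obj
        (EtCoh.const (Spec (X.residueField (genericPoint X))) M) :=
    (EtCoh.push (X.fromSpecResidueField (genericPoint X))).mapIso
      (EtCore.pullConst (X.fromSpecResidueField (genericPoint X)) M)
  exact H9FE.GabB.subsingleton_H_of_iso (φ₁ ≪≫ φ₂) 1 (H1_push_residue X (genericPoint X) M)

end Aux

/-- Let X be an irreducible scheme all of whose strict localizations are irreducible (for every point x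
and every strict henselization R of the local ring at x, Spec R is irreducible; that is, X is
geometrically unibranch), and M a torsion-free abelian group. Then H^1(X, M_X) = 0 for the constant
sheaf M_X on the small etale site. -/
theorem result (X : Scheme.{u}) [IrreducibleSpace X]
    (hX : ∀ (x : X) (R : Type u) [CommRing R] [IsLocalRing R] [Algebra (X.presheaf.stalk x) R]
      [IsLocalHom (algebraMap (X.presheaf.stalk x) R)] [Hensel.IsStrictHenselization (X.presheaf.stalk x) R],
      IrreducibleSpace (PrimeSpectrum R))
    (M : Type) [AddCommGroup M] [IsAddTorsionFree M] :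
    Subsingleton (EtCoh.H X (EtCoh.const X M) 1) := by
  exact Aux.main X hX M

end Groth.Agent.S8528
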