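import Groth.Statements.S8554
import Mathlib
import Groth.Statements.S8554
import Groth.Agent.Lib.Helper9.FE.GodSh
-- import your own Groth.Agent.* helpers here

set_option autoImplicit false
universe u
open CategoryTheory CategoryTheory.Limits AlgebraicGeometry Opposite
open NonAbH1

namespace Groth.Agent.S8554

open CategoryTheory CategoryTheory.Limits AlgebraicGeometry Opposite
namespace Aux

/-- the standard conservative family of geometric points of the small étale site -/
noncomputable def Φ (X : Scheme.{u}) (s : X) : GrothendieckTopology.Point.{u} X.smallEtaleTopology :=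
  Scheme.pointSmallEtale
    ((Scheme.SpecToEquivOfField (SeparableClosure (X.residueField s)) _).2
      ⟨s, CommRingCat.ofHom (algebraMap (X.residueField s) _)⟩)

theorem hcov (X : Scheme.{u}) (V : X.Etale) (S : Sieve V)
    (hS : ∀ (s : X) (v : (Φ X s).fiber.obj V),
      ∃ (Y : X.Etale) (f : Y ⟶ V) (_ : S f) (y : (Φ X s).fiber.obj Y), (Φ X s).fiber.map f y = v) :
    S ∈ X.smallEtaleTopology V := by
  have hP := Scheme.isConservativeFamilyOfPoints_pointSmallEtale' X
  obtain ⟨α, Z, g, rfl⟩ := S.exists_eq_ofArrows
  rw [hP.jointly_reflect_ofArrows_mem_of_small]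
  rintro ⟨Ψ, ⟨s⟩⟩ x
  obtain ⟨Y, f, hf, y, hy⟩ := hS s x
  obtain ⟨W, p, q, ⟨i⟩, rfl⟩ := hf
  exact ⟨i, (Φ X s).fiber.map p y, by
    rw [← hy, Functor.map_comp_apply]
    rfl⟩

theorem main {X : Scheme.{u}}
    (F : Sheaf X.smallEtaleTopology GrpCat.{u + 1}) :
    ∃ (G : Sheaf X.smallEtaleTopology GrpCat.{u + 1}) (φ : F ⟶ G),
      (∀ U : X.Etaleᵒᵖ, Function.Injective (φ.hom.app U)) ∧
      ∀ (U : X.Etale) (P : NonAbH1.Torsor (G.over U)), P.IsTrivial :=
  H9FE.GodSh.main (Φ X) F (hcov X)

end Aux

/-- Every sheaf of groups F on the small etale site of a scheme X embeds into a sheaf of groups G with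
vanishing first non-abelian cohomology on every etale X-scheme: there are G and a morphism u : F ⟶
G, injective on sections over every object of the site, such that for every etale X-scheme U every
torsor under the restriction of G to the induced site over U is trivial, i.e. H¹(U, G) is reduced to
its base point. (The published statement adds that the first higher direct images of G along any
morphism of schemes then vanish as pointed sheaves; that clause follows from this one and is not
stated here.) -/
theorem result {X : Scheme.{u}}
    (F : Sheaf X.smallEtaleTopology GrpCat.{u + 1}) :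
    ∃ (G : Sheaf X.smallEtaleTopology GrpCat.{u + 1}) (φ : F ⟶ G),
      (∀ U : X.Etaleᵒᵖ, Function.Injective (φ.hom.app U)) ∧
      ∀ (U : X.Etale) (P : NonAbH1.Torsor (G.over U)), P.IsTrivial := by
  exact Aux.main F

end Groth.Agent.S8554
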