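import Groth.Statements.S8562
import Mathlib
import Groth.Agent.Lib.Helper5.Misc.EtSiteBasic
import Groth.Agent.S0728

set_option autoImplicit false
universe u
open CategoryTheory CategoryTheory.Limits AlgebraicGeometry Opposite
open NonAbH1

namespace Groth.Agent.S8562
open Groth.Agent.Lib.Helper5

/-- the final object of the small étale site. -/
noncomputable def top (Y : Scheme.{u}) : Y.Etale := EtSiteBasic.ofEtale (𝟙 Y)

/-- the map to the final object. -/
noncomputable def toTop {Y : Scheme.{u}} (W : Y.Etale) : W ⟶ top Y :=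
  MorphismProperty.Over.homMk W.hom (Category.comp_id _) trivial

lemma toTop_left {Y : Scheme.{u}} (W : Y.Etale) : (toTop W).left = W.hom := rfl

/-- a jointly surjective family generates a covering of every object. -/
lemma cover_of_covers {Y : Scheme.{u}} {ι : Type u} (V : ι → Y.Etale) (hV : EtCoh.Covers V)
    (W : Y.Etale) (R : Sieve W) (hR : ∀ ⦃W' : Y.Etale⦄ (k : W' ⟶ W) (i : ι), (W' ⟶ V i) → R k) :
    R ∈ Y.smallEtaleTopology W := by
  rw [EtSiteBasic.mem_smallEtale_iff]
  intro x
  obtain ⟨i, v, hv⟩ := hV (W.hom.base x)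
  obtain ⟨W', p₁, p₂, w, -, hw1, -⟩ := Groth.Agent.S0728.exists_pullback_point (toTop W) (toTop (V i))
    x v (by rw [toTop_left, toTop_left]; exact hv.symm)
  exact ⟨W', p₁, w, hR p₁ i p₂, hw1⟩

end Groth.Agent.S8562

namespace Groth.Agent.S8562

/-- Exactness of the sequence 0 → H¹(Y, f_*F) → H¹(X, F) → H⁰(Y, R¹f_*F) at its middle term, in terms of
torsors: let f : X ⟶ Y be a morphism of schemes, F a sheaf of groups on the small etale site of X,
f_*F its direct image on Y (sections over an etale Y-scheme V are the sections of F over X ×_Y V),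
and Q an F-torsor. Then Q is the image of a class in H¹(Y, f_*F), in the sense that there are an
f_*F-torsor P on Y and a morphism of sheaves of sets from P to the direct image of the sheaf
underlying Q which is equivariant for the actions of f_*F, if and only if the class of Q is locally
trivial over Y: there is a jointly surjective family of etale Y-schemes Y_i such that Q has a
section over every X ×_Y Y_i. -/
theorem result {X Y : Scheme.{u}} (f : X ⟶ Y)
    [EtCoh.BCCont f] (F : Sheaf X.smallEtaleTopology GrpCat.{u + 1}) (Q : NonAbH1.Torsor F) :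
    (∃ (P : NonAbH1.Torsor (((EtCoh.bc f).sheafPushforwardContinuous GrpCat.{u + 1}
        Y.smallEtaleTopology X.smallEtaleTopology).obj F))
      (φ : P.P ⟶ ((EtCoh.bc f).sheafPushforwardContinuous (Type (u + 1))
        Y.smallEtaleTopology X.smallEtaleTopology).obj Q.P),
      ∀ (V : Y.Etaleᵒᵖ) (g : F.obj.obj (op ((EtCoh.bc f).obj V.unop))) (s : P.P.obj.obj V),
        φ.hom.app V (P.smul g s) = Q.smul g (φ.hom.app V s)) ↔
    ∃ (ι : Type u) (V : ι → Y.Etale), EtCoh.Covers V ∧
      ∀ i, Nonempty (Q.P.obj.obj (op ((EtCoh.bc f).obj (V i)))) := by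
  constructor
  · rintro ⟨P, φ, -⟩
    obtain ⟨S, hS, h⟩ := P.isTorsor.2 (top Y)
    rw [Groth.Agent.Lib.Helper5.EtSiteBasic.mem_smallEtale_iff] at hS
    choose W g y hg hy using hS
    refine ⟨(top Y).left, W, ?_, ?_⟩
    · intro x
      refine ⟨x, y x, ?_⟩
      have e : (g x).left ≫ (top Y).hom = (W x).hom := Over.w (g x).hom
      have e' : (g x).left = (W x).hom := by
        rw [← e]
        exact (Category.comp_id _).symm
      rw [← e']
      exact hy x
    · intro x
      obtain ⟨p⟩ := h (g x) (hg x)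
      exact ⟨φ.hom.app (op (W x)) p⟩
  · rintro ⟨ι, V, hV, hne⟩
    let P₀ : NonAbH1.GSheaf (((EtCoh.bc f).sheafPushforwardContinuous GrpCat.{u + 1}
        Y.smallEtaleTopology X.smallEtaleTopology).obj F) :=
      { P := ((EtCoh.bc f).sheafPushforwardContinuous (Type (u + 1))
          Y.smallEtaleTopology X.smallEtaleTopology).obj Q.P
        smul := fun {U} g p => Q.smul (U := op ((EtCoh.bc f).obj U.unop)) g p
        one_smul := fun {U} p => Q.one_smul (U := op ((EtCoh.bc f).obj U.unop)) p
        mul_smul := fun {U} g h p => Q.mul_smul (U := op ((EtCoh.bc f).obj U.unop)) g h p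
        map_smul := fun {U V} k g p => Q.map_smul ((EtCoh.bc f).map k.unop).op g p }
    refine ⟨⟨P₀, ?_, ?_⟩, 𝟙 _, fun V g s => rfl⟩
    · intro U p q
      exact Q.isTorsor.1 (op ((EtCoh.bc f).obj U.unop)) p q
    · intro W
      let R : Sieve W :=
        { arrows := fun W' k => ∃ i, Nonempty (W' ⟶ V i)
          downward_closed := by
            rintro W₁ W₂ k ⟨i, ⟨a⟩⟩ h
            exact ⟨i, ⟨h ≫ a⟩⟩ }
      refine ⟨R, cover_of_covers V hV W R (fun W' k i a => ⟨i, ⟨a⟩⟩), ?_⟩
      rintro W' k ⟨i, ⟨a⟩⟩
      obtain ⟨q⟩ := hne i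
      exact ⟨Q.P.obj.map ((EtCoh.bc f).map a).op q⟩

end Groth.Agent.S8562
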