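import Groth.Statements.S8567
import Groth.Agent.Lib.Helper3.PB6

set_option autoImplicit false
open CategoryTheory TopologicalSpace Opposite
universe u
open CohTop

namespace Groth.Agent.S8567

/-- Let X be a topological space, K ⊆ X a compact subset such that any two distinct points of K have
disjoint neighbourhoods in X, and F a flasque abelian sheaf on X. Then the inverse image F|K of F on
the subspace K is a soft sheaf: for every closed subset A of K, every section of (F|K)|A over A is
the restriction of a section of F|K over K (the restriction map is the unit of the inverse image /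
direct image adjunction for the inclusion A → K, taken on global sections). -/
theorem result {X : TopCat.{u}} {K : Set X} (hK : IsCompact K)
    (hsep : ∀ x ∈ K, ∀ y ∈ K, x ≠ y → ∃ U V : Set X, IsOpen U ∧ IsOpen V ∧ x ∈ U ∧ y ∈ V ∧ Disjoint U V)
    (F : CohTop.Ab X) [TopCat.Sheaf.IsFlasque F] {A : Set K} (hA : IsClosed A) :
    Function.Surjective
      ((((TopCat.Sheaf.pullbackPushforwardAdjunction AddCommGrpCat.{u}
        (TopCat.ofHom ⟨((↑) : A → K), continuous_subtype_val⟩ : TopCat.of A ⟶ TopCat.of K)).unit.app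
        ((CohTop.pull (TopCat.ofHom ⟨((↑) : K → X), continuous_subtype_val⟩ : TopCat.of K ⟶ X)).obj F)).hom.app
        (op ⊤)).hom) := by
  let iK : TopCat.of K ⟶ X := TopCat.ofHom ⟨((↑) : K → X), continuous_subtype_val⟩
  let jA : TopCat.of A ⟶ TopCat.of K := TopCat.ofHom ⟨((↑) : A → K), continuous_subtype_val⟩
  let G : CohTop.Ab (TopCat.of K) := Groth.Agent.Helper3.PB2.G iK F
  haveI : CompactSpace (TopCat.of K) := isCompact_iff_compactSpace.1 hK
  haveI : CompactSpace (TopCat.of A) := isCompact_iff_compactSpace.1 hA.isCompact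
  have hsepK : ∀ a b : TopCat.of K, a ≠ b → Groth.Agent.Helper3.PB1.Sep (iK a) (iK b) := fun a b hab =>
    hsep a.1 a.2 b.1 b.2 (fun h => hab (Subtype.ext h))
  have hsoft : Groth.Agent.Helper3.PB6.IsSoft G := Groth.Agent.Helper3.PB6.isSoft_of_locIso (Groth.Agent.Helper3.PB5.locIso_unit iK F)
    (Subtype.val_injective) hsepK
  have hsepA : ∀ a ∈ (Set.univ : Set (TopCat.of A)), ∀ b ∈ (Set.univ : Set (TopCat.of A)), a ≠ b →
      Groth.Agent.Helper3.PB1.Sep (jA a) (jA b) := fun a _ b _ hab =>
    Groth.Agent.Helper3.PB4.sep_of_sep_image (i := iK) (hsepK (jA a) (jA b) (fun h => hab (Subtype.ext h)))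
  change Function.Surjective (Groth.Agent.Helper3.PB4.θU jA (Groth.Agent.Helper3.PB2.η jA G) ⊤)
  intro t
  obtain ⟨U, s, W, hWV, hWU, hW, e⟩ := (Groth.Agent.Helper3.PB5.locIso_unit jA G).exists_extension
    (Subtype.val_injective) isCompact_univ hsepA ((Opens.map jA).obj ⊤) (fun _ _ => trivial) t
  obtain ⟨s', W', hW'U, hAW', e'⟩ := hsoft (A : Set K) hA U (by
    intro a ha
    exact hWU (hW (Set.mem_univ (⟨a, ha⟩ : A)))) s
  refine ⟨s', ?_⟩
  have hT : (Opens.map jA).obj ⊤ ≤ (Opens.map jA).obj W' := fun a _ => hAW' a.2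
  have hT' : (Opens.map jA).obj W' ≤ (Opens.map jA).obj ⊤ := fun _ _ => trivial
  have key : Groth.Agent.Helper3.PB3.res (Groth.Agent.Helper3.PB2.G jA G) hT' (Groth.Agent.Helper3.PB4.θU jA (Groth.Agent.Helper3.PB2.η jA G) ⊤ s') = Groth.Agent.Helper3.PB3.res (Groth.Agent.Helper3.PB2.G jA G) hT' t := by
    have h1 := Groth.Agent.Helper3.PB4.θU_res jA (Groth.Agent.Helper3.PB2.η jA G) (le_top : W' ≤ ⊤) s'
    have h2 := Groth.Agent.Helper3.PB4.θU_res jA (Groth.Agent.Helper3.PB2.η jA G) hW'U s
    rw [e'] at h1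
    rw [h1] at h2
    refine h2.trans ?_
    have hTW : (Opens.map jA).obj W' ≤ W := fun a _ => hW (Set.mem_univ a)
    have h3 := congrArg (Groth.Agent.Helper3.PB3.res (Groth.Agent.Helper3.PB2.G jA G) hTW) e
    rw [Groth.Agent.Helper3.PB3.res_res, Groth.Agent.Helper3.PB3.res_res] at h3
    exact h3
  have := congrArg (Groth.Agent.Helper3.PB3.res (Groth.Agent.Helper3.PB2.G jA G) hT) key
  rw [Groth.Agent.Helper3.PB3.res_res, Groth.Agent.Helper3.PB3.res_res, Groth.Agent.Helper3.PB3.res_self, Groth.Agent.Helper3.PB3.res_self] at this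
  exact this


end Groth.Agent.S8567
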