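import Groth.Statements.S8570
import Groth.Agent.Lib.Helper3.SS4
import Groth.Agent.Lib.Helper3.PC9
import Groth.Agent.Lib.Helper3.CC3

set_option autoImplicit false
open CategoryTheory TopologicalSpace
universe u
open CohTop

namespace Groth.Agent.S8570

/-- Let (U_i), i in I, be a locally finite covering of a topological space X by closed subsets and F an
abelian sheaf on X. The disjoint union of the U_i is then of cohomological descent over X, and the
descent spectral sequence reads, in existence form: there is a bounded spectral sequence of abelian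
groups starting at page one, with E_1^{p,q} isomorphic for p, q ≥ 0 to the product, over all ordered
(p+1)-tuples of indices (i_0, ..., i_p), of the groups H^q(U_{i_0} ∩ ... ∩ U_{i_p}, F|(U_{i_0} ∩ ...
∩ U_{i_p})) (inverse image of F on the closed subspace) and zero otherwise, together with abutment
data whose filtrations are finite on H^n(X, F) for n ≥ 0 (zero for n < 0). (The E_1 identifications
and the abutment isomorphisms are asserted to exist only; the first differential, which is the
alternating sum of the restriction maps, is not part of this statement.) -/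
theorem result {X : TopCat.{u}} {I : Type u} (U : I → Set X)
    (hU : ∀ i, IsClosed (U i)) (hlf : LocallyFinite U) (hcov : ⋃ i, U i = Set.univ) (F : CohTop.Ab X) :
    ∃ (E : CohomologicalSpectralSequence AddCommGrpCat.{u} 1)
      (a : SpSeq.Abutment E (fun n : ℤ =>
        if 0 ≤ n then AddCommGrpCat.of (CohTop.H F n.toNat) else AddCommGrpCat.of PUnit.{u + 1})),
      (∀ n, a.IsFinite n) ∧ SpSeq.IsBounded E ∧
      ∀ p q : ℤ, Nonempty ((E.page 1 le_rfl).X (p, q) ≅
        (if 0 ≤ p ∧ 0 ≤ q then
          AddCommGrpCat.of (∀ σ : Fin (p.toNat + 1) → I,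
            CohTop.H ((CohTop.pull (TopCat.ofHom ⟨((↑) : (⋂ k, U (σ k) : Set X) → X), continuous_subtype_val⟩ :
              TopCat.of (⋂ k, U (σ k) : Set X) ⟶ X)).obj F) q.toNat)
         else AddCommGrpCat.of PUnit.{u + 1})) := by
  have h : FibDesc.IsCohDescentMap (Groth.Agent.Helper3.CC3.fU U) :=
    Groth.Agent.Helper3.PC9.isCohDescentMap_of_proper (Groth.Agent.Helper3.CC3.fU U)
      (Groth.Agent.Helper3.CC3.fU_isProperMap U hU hlf)
      (Groth.Agent.Helper3.CC3.fU_sep U)
      (Groth.Agent.Helper3.CC3.fU_surjective U hcov)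
  obtain ⟨E, a, hfin, hbdd, hE⟩ := Groth.Agent.Helper3.SS4.exists_descent_ss
    (FibDesc.cechAug (Groth.Agent.Helper3.CC3.fU U)) h F
  refine ⟨E, a, hfin, hbdd, fun p q => ?_⟩
  obtain ⟨e⟩ := hE p q
  by_cases hpq : 0 ≤ p ∧ 0 ≤ q
  · rw [if_pos hpq] at e ⊢
    obtain ⟨e2⟩ := Groth.Agent.Helper3.CC3.nonempty_H_fibrePower U p.toNat F q.toNat
    exact ⟨e ≪≫ e2⟩
  · rw [if_neg hpq] at e ⊢
    exact ⟨e⟩


end Groth.Agent.S8570
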