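import Groth.Statements.S8598
import Mathlib
import Groth.Agent.Lib.Helper5.Misc.EtSiteBasic
import Groth.Agent.Lib.Helper5.Misc.EtOpenImm

set_option autoImplicit false
universe u
open CategoryTheory CategoryTheory.Limits AlgebraicGeometry Opposite
open EtDl

open Groth.Agent.Lib.Helper5

namespace Groth.Agent.S8598

set_option backward.isDefEq.respectTransparency.types false in
/-- Restriction along a surjective étale morphism is faithful. -/
lemma faithful_restrAlong {X Y : Scheme.{u}} (u : X ⟶ Y) [Etale u] [Surjective u]
    [EtShriek.JCont u] : (EtShriek.restrAlong u).Faithful := by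
  refine ⟨fun {F G} φ ψ h => ?_⟩
  apply Sheaf.hom_ext
  ext V : 2
  induction V using Opposite.rec with | _ V => ?_
  let p : (EtShriek.compEtale u).obj ((EtCoh.bc u).obj V) ⟶ V :=
    (EtOpenImm.siteAdj u).counit.app V
  have hp : Function.Surjective p.left := by
    have e : p.left = pullback.fst V.hom u := by
      simp [p, EtOpenImm.siteAdj]
    rw [e]
    haveI : Surjective (pullback.fst V.hom u) := inferInstance
    exact (pullback.fst V.hom u).surjective
  have hcov := EtSiteBasic.generate_singleton_mem p hp
  refine Presheaf.IsSheaf.hom_ext G.2 ⟨_, hcov⟩ _ _ ?_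
  rintro ⟨T, f, ⟨W, g, k, ⟨⟩, rfl⟩⟩
  have h1 := congrArg (fun a => a.hom.app (op ((EtCoh.bc u).obj V))) h
  have h2 : φ.hom.app (op ((EtShriek.compEtale u).obj ((EtCoh.bc u).obj V))) =
      ψ.hom.app (op ((EtShriek.compEtale u).obj ((EtCoh.bc u).obj V))) := h1
  change φ.hom.app (op V) ≫ G.obj.map (g ≫ p).op = ψ.hom.app (op V) ≫ G.obj.map (g ≫ p).op
  rw [op_comp, Functor.map_comp, ← Category.assoc, ← Category.assoc, ← φ.hom.naturality,
    ← ψ.hom.naturality, h2]

end Groth.Agent.S8598

namespace Groth.Agent.S8598

/-- Let u : X -> Y be an etale, separated morphism of finite type that is surjective, and F an abelian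
sheaf on Y_et. The sheaves F_n = (u_n)_! u_n^* F built from the iterated fibre powers of X over Y
form a left resolution of F; in particular (the part stated here) the augmentation u_! u^* F -> F,
which is the counit of the adjunction between extension by zero u_! and restriction u^*, is an
epimorphism. (The continuity of V ↦ (V -> X -> Y) between the small etale sites is carried as an
instance hypothesis, the prelude's convention for extension by zero along an etale morphism.) -/
theorem result {X Y : Scheme.{u}} (u : X ⟶ Y) [Etale u] [IsSeparated u]
    [LocallyOfFiniteType u] [QuasiCompact u] [Surjective u] [EtShriek.JCont u] (F : EtCoh.Ab Y) :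
    Epi ((EtShriek.extZeroAdj u).counit.app F) := by
  haveI := faithful_restrAlong u
  infer_instance

end Groth.Agent.S8598
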