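import Groth.Statements.S8607
-- import your own Groth.Agent.* helpers here

set_option autoImplicit false
universe u
open CategoryTheory CategoryTheory.Limits AlgebraicGeometry Opposite
open DEt

namespace Groth.Agent.S8607

/-- The equalizing half of 'the category of compactifications of f is cofiltering': let f : X -> Y be a
morphism of quasi-compact quasi-separated schemes, (Xbar_1, j_1, fbar_1) and (Xbar_2, j_2, fbar_2)
two compactifications of f, and r, s : Xbar_1 -> Xbar_2 two morphisms of compactifications (r ∘ j_1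
= j_2 = s ∘ j_1 and fbar_2 ∘ r = fbar_1 = fbar_2 ∘ s). Then there are a compactification (Xbar, j,
fbar) of f and a proper morphism t : Xbar -> Xbar_1 of compactifications (t ∘ j = j_1, fbar_1 ∘ t =
fbar) with r ∘ t = s ∘ t. -/
theorem result {X Y : Scheme.{u}} [CompactSpace ↥X] [QuasiSeparatedSpace ↥X]
    [CompactSpace ↥Y] [QuasiSeparatedSpace ↥Y] {f : X ⟶ Y} (c₁ c₂ : DEt.Compactification f)
    (r s : c₁.Xbar ⟶ c₂.Xbar) (hr : c₁.j ≫ r = c₂.j) (hs : c₁.j ≫ s = c₂.j)
    (hr' : r ≫ c₂.fbar = c₁.fbar) (hs' : s ≫ c₂.fbar = c₁.fbar) :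
    ∃ (c : DEt.Compactification f) (t : c.Xbar ⟶ c₁.Xbar), IsProper t ∧ c.j ≫ t = c₁.j ∧ t ≫ c₁.fbar = c.fbar ∧
      t ≫ r = t ≫ s := by
  classical
  let X' : Over Y := Over.mk c₁.fbar
  let Y' : Over Y := Over.mk c₂.fbar
  let U' : Over Y := Over.mk f
  let r' : X' ⟶ Y' := Over.homMk r hr'
  let s' : X' ⟶ Y' := Over.homMk s hs'
  let j' : U' ⟶ X' := Over.homMk c₁.j c₁.fac
  have hjr : j' ≫ r' = j' ≫ s' := by
    ext1
    show c₁.j ≫ r = c₁.j ≫ s
    rw [hr, hs]
  haveI : IsSeparated Y'.hom := (inferInstance : IsSeparated c₂.fbar)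
  let ι : (equalizer r' s').left ⟶ c₁.Xbar := (equalizer.ι r' s').left
  haveI : IsClosedImmersion ι := isClosedImmersion_equalizer_ι_left r' s'
  let g0 : X ⟶ (equalizer r' s').left := (equalizer.lift j' hjr).left
  have hg0 : g0 ≫ ι = c₁.j := by
    have := congr_arg CommaMorphism.left (equalizer.lift_ι j' hjr)
    exact this
  have hpb : IsPullback (𝟙 X) g0 c₁.j ι :=
    IsPullback.of_horiz_isIso_mono ⟨by rw [Category.id_comp, hg0]⟩
  haveI : IsOpenImmersion g0 :=
    MorphismProperty.of_isPullback (P := @IsOpenImmersion) hpb inferInstance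
  let c : DEt.Compactification f :=
    { Xbar := (equalizer r' s').left
      j := g0
      fbar := ι ≫ c₁.fbar
      isOpenImmersion := inferInstance
      isProper := inferInstance
      fac := by rw [reassoc_of% hg0, c₁.fac] }
  refine ⟨c, ι, inferInstance, hg0, rfl, ?_⟩
  have := congr_arg CommaMorphism.left (equalizer.condition r' s')
  exact this

end Groth.Agent.S8607
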