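import Groth.Statements.S8615
import Mathlib
import Groth.Prelude.Def_EtBase
import Groth.Prelude.Def_EtLim
import Groth.Agent.S0071
import Groth.Agent.S14451
import Groth.Agent.S0088
import Groth.Agent.S0101
import Groth.Agent.Lib.Helper9.FE.EtHColim
import Groth.Agent.Lib.Helper9.FE.CoprodFiltered
-- import your own Groth.Agent.* helpers here

set_option autoImplicit false
universe u
open CategoryTheory CategoryTheory.Limits AlgebraicGeometry
open SGA4h

namespace Groth.Agent.S8615

open CategoryTheory CategoryTheory.Limits AlgebraicGeometry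
namespace Aux
set_option autoImplicit false
set_option backward.isDefEq.respectTransparency false
set_option linter.style.haveILetI false
set_option linter.unusedSectionVars false

/-- étale cohomology of a qcqs scheme commutes with small coproducts -/
theorem preservesCoprod (X : Scheme.{u}) [CompactSpace ↥X] [QuasiSeparatedSpace ↥X] (n : ℕ)
    (ι : Type u) : PreservesColimitsOfShape (Discrete ι) (EtCoh.HF X n) := by
  haveI : PreservesColimitsOfShape (Finset (Discrete ι)) (EtCoh.HF X n) :=
    H9FE.EtHColim.preserves_small X n (Finset (Discrete ι))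
  haveI : (EtCoh.HF X n).Additive := by unfold EtCoh.HF; infer_instance
  haveI : PreservesFiniteCoproducts (EtCoh.HF X n) := inferInstance
  exact H9FE.CoprodFiltered.preservesColimitsOfShape_discrete (EtCoh.HF X n)

theorem isAlgClosed_residueField_spec (Ω : Type u) [Field Ω] [IsAlgClosed Ω]
    (pt : ↥(Spec (CommRingCat.of Ω))) :
    IsAlgClosed ((Spec (CommRingCat.of Ω)).residueField pt) := by
  have hmax : pt.asIdeal.IsMaximal := by
    have : pt.asIdeal = ⊥ := Ideal.eq_bot_of_prime pt.asIdeal
    rw [this]; exact Ideal.bot_isMaximal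
  have hbij : Function.Bijective (algebraMap Ω pt.asIdeal.ResidueField) :=
    ⟨(algebraMap Ω pt.asIdeal.ResidueField).injective, Ideal.algebraMap_residueField_surjective _⟩
  let e1 : Ω ≃+* pt.asIdeal.ResidueField := RingEquiv.ofBijective _ hbij
  let e2 : pt.asIdeal.ResidueField ≃+* (Spec (CommRingCat.of Ω)).residueField pt :=
    (Scheme.Spec.residueFieldIso (CommRingCat.of Ω) pt).symm.commRingCatIsoToRingEquiv
  exact IsAlgClosed.of_ringEquiv Ω _ (e1.trans e2)

/-- the cohomology of a sheaf on the spectrum of an algebraically closed field vanishes -/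
theorem H_field {K : CommRingCat.{u}} {k : Type u} [Field k] [IsAlgClosed k]
    (e : K ≅ CommRingCat.of k) (G : EtCoh.Ab (Spec K)) (q : ℕ) (hq : 0 < q) :
    Subsingleton (EtCoh.H (Spec K) G q) := by
  let φ : Spec K ⟶ Spec (CommRingCat.of k) := Spec.map e.inv
  haveI : IsIso φ := inferInstance
  have hsub : Subsingleton ↥(Spec K) := by
    have : Subsingleton ↥(Spec (CommRingCat.of k)) :=
      (inferInstance : Subsingleton (PrimeSpectrum k))
    exact (φ.homeomorph).injective.subsingleton
  refine Groth.Agent.S0088.result (Spec K) (fun s => ?_) (fun s => ?_) G q hq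
  · have : ({s} : Set ↥(Spec K)) = Set.univ := by
      ext t; simp [Subsingleton.elim t s]
    rw [this]; exact isClosed_univ
  · have hac := isAlgClosed_residueField_spec k (φ s)
    let e2 : (Spec (CommRingCat.of k)).residueField (φ s) ≃+* (Spec K).residueField s :=
      (asIso (φ.residueFieldMap s)).commRingCatIsoToRingEquiv
    haveI := IsAlgClosed.of_ringEquiv _ _ e2
    exact IsSepClosed.of_isAlgClosed _

theorem H_point {k : Type u} [Field k] [IsAlgClosed k]
    {X : Scheme.{u}} (f : X ⟶ Spec (CommRingCat.of k)) [LocallyOfFiniteType f]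
    (x : X) (hx : IsClosed ({x} : Set X)) (G : EtCoh.Ab (Spec (X.residueField x)))
    (q : ℕ) (hq : 0 < q) :
    Subsingleton (EtCoh.H X ((EtCoh.push (X.fromSpecResidueField x)).obj G) q) := by
  have hci : IsClosedImmersion (X.fromSpecResidueField x) :=
    isClosed_singleton_iff_isClosedImmersion.mp hx
  haveI : PreservesFiniteLimits (EtCoh.pull (X.fromSpecResidueField x)) :=
    Groth.Agent.S0101.result _
  have hb := Groth.Agent.S14451.result (X.fromSpecResidueField x) G
    (fun q' hq' => Groth.Agent.S0071.result _ G q' hq') q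
  have := H_field (residueFieldIsoBase f x hx) G q hq
  exact hb.injective.subsingleton


theorem main {k : Type u} [Field k] [IsAlgClosed k]
    {X : Scheme.{u}} (f : X ⟶ Spec (CommRingCat.of k)) [IsProper f]
    (c : Cofan fun x : {x : X // IsClosed ({x} : Set X)} =>
      (EtCoh.push (X.fromSpecResidueField x.1)).obj (EtCoh.const (Spec (X.residueField x.1)) ℤ))
    (hc : IsColimit c) (q : ℕ) (hq : 0 < q) :
    Subsingleton (EtCoh.H X c.pt q) := by
  haveI : CompactSpace ↥X := QuasiCompact.compactSpace_of_compactSpace f
  haveI : QuasiSeparatedSpace ↥X := quasiSeparatedSpace_of_quasiSeparated f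
  haveI := preservesCoprod X q {x : X // IsClosed ({x} : Set X)}
  have hc' := isColimitOfPreserves (EtCoh.HF X q) hc
  have h01 : (𝟙 ((EtCoh.HF X q).obj c.pt)) = 0 := by
    apply hc'.hom_ext
    rintro ⟨x⟩
    haveI : Subsingleton (EtCoh.H X ((EtCoh.push (X.fromSpecResidueField x.1)).obj
        (EtCoh.const (Spec (X.residueField x.1)) ℤ)) q) :=
      H_point f x.1 x.2 _ q hq
    ext (a : EtCoh.H X ((EtCoh.push (X.fromSpecResidueField x.1)).obj
        (EtCoh.const (Spec (X.residueField x.1)) ℤ)) q)
    have ha : a = 0 := Subsingleton.elim _ _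
    subst ha
    simp
  constructor
  intro a b
  have h1 : ∀ a : EtCoh.H X c.pt q, a = 0 := by
    intro a
    have := ConcreteCategory.congr_hom h01 a
    exact this
  rw [h1 a, h1 b]

end Aux

/-- Let k be an algebraically closed field and X a connected smooth proper curve over k. For the family,
indexed by the closed points x of X, of direct images i_{x*} ℤ of the constant sheaf ℤ along i_x :
Spec κ(x) → X, any coproduct (given as a colimit cofan) has vanishing etale cohomology in every
degree q > 0. -/
theorem result {k : Type u} [Field k] [IsAlgClosed k]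
    {X : Scheme.{u}} (f : X ⟶ Spec (CommRingCat.of k)) [IsProper f] [SmoothOfRelativeDimension 1 f]
    [ConnectedSpace ↥X]
    (c : Cofan fun x : {x : X // IsClosed ({x} : Set X)} =>
      (EtCoh.push (X.fromSpecResidueField x.1)).obj (EtCoh.const (Spec (X.residueField x.1)) ℤ))
    (hc : IsColimit c) (q : ℕ) (hq : 0 < q) :
    Subsingleton (EtCoh.H X c.pt q) := by
  exact Aux.main f c hc q hq

end Groth.Agent.S8615
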