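import Groth.Statements.S8625
import Groth.Agent.Lib.Helper3.All

set_option autoImplicit false
universe u
open SGA4h

namespace Groth.Agent.S8625

/-- Let G be a group with an endomorphism F, and assume the Lang map g ↦ F(g)g⁻¹ is surjective (for
instance the geometric points of a connected algebraic group over F_q with its Frobenius, where the
surjectivity is the classical result of Lang; the other Lang map g ↦ g⁻¹F(g) is then surjective too,
by g ↦ g⁻¹). Let G^F be the subgroup of fixed points of F. (i) If F(g)g⁻¹ is fixed by F then so is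
g⁻¹F(g). (ii), (iii) There is a bijection of the set of conjugacy classes of G^F with itself
sending, for every g with F(g)g⁻¹ ∈ G^F, the class of F(g)g⁻¹ to the class of g⁻¹F(g) (in particular
the latter class depends only on the former). -/
theorem result {G : Type u} [Group G] (F : G →* G)
    (hL : Function.Surjective fun g : G => F g * g⁻¹) :
    (∀ g : G, F (F g * g⁻¹) = F g * g⁻¹ → F (g⁻¹ * F g) = g⁻¹ * F g) ∧
    ∃ φ : ConjClasses ↥(F.eqLocus (MonoidHom.id G)) → ConjClasses ↥(F.eqLocus (MonoidHom.id G)),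
      Function.Bijective φ ∧
      ∀ (g : G) (h : F (F g * g⁻¹) = F g * g⁻¹) (h' : F (g⁻¹ * F g) = g⁻¹ * F g),
        φ (ConjClasses.mk (⟨F g * g⁻¹, h⟩ : ↥(F.eqLocus (MonoidHom.id G)))) =
          ConjClasses.mk (⟨g⁻¹ * F g, h'⟩ : ↥(F.eqLocus (MonoidHom.id G))) := by
  have part1 : ∀ g : G, F (F g * g⁻¹) = F g * g⁻¹ → F (g⁻¹ * F g) = g⁻¹ * F g := by
    intro g h
    have h0 : F (F g) * (F g)⁻¹ = F g * g⁻¹ := by
      rw [← map_inv, ← map_mul]; exact h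
    have h1 : F (F g) = F g * g⁻¹ * F g := by
      rw [← h0]; group
    rw [map_mul, map_inv, h1]; group
  have part1' : ∀ g : G, F (g⁻¹ * F g) = g⁻¹ * F g → F (F g * g⁻¹) = F g * g⁻¹ := by
    intro g h
    have h0 : (F g)⁻¹ * F (F g) = g⁻¹ * F g := by
      rw [← map_inv, ← map_mul]; exact h
    have h1 : F (F g) = F g * (g⁻¹ * F g) := by
      rw [← h0]; group
    rw [map_mul, map_inv, h1]; group
  -- key lemma A
  have keyA : ∀ (g g' : G) (h : F (F g * g⁻¹) = F g * g⁻¹) (h' : F (F g' * g'⁻¹) = F g' * g'⁻¹),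
      IsConj (⟨F g * g⁻¹, h⟩ : ↥(F.eqLocus (MonoidHom.id G))) ⟨F g' * g'⁻¹, h'⟩ →
      IsConj (⟨g⁻¹ * F g, part1 g h⟩ : ↥(F.eqLocus (MonoidHom.id G)))
        ⟨g'⁻¹ * F g', part1 g' h'⟩ := by
    intro g g' h h' hconj
    obtain ⟨c, hc⟩ := isConj_iff.1 hconj
    have hcF : F (c : G) = c := c.2
    have hc' : (c : G) * (F g * g⁻¹) * (c : G)⁻¹ = F g' * g'⁻¹ := congrArg Subtype.val hc
    have E1 : F g' = (c : G) * (F g * g⁻¹) * (c : G)⁻¹ * g' := by
      rw [hc']; group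
    have hz : F (((c : G) * g)⁻¹ * g') = ((c : G) * g)⁻¹ * g' := by
      rw [map_mul, map_inv, map_mul, hcF, E1]; group
    have hz' : F ((((c : G) * g)⁻¹ * g')⁻¹) = (((c : G) * g)⁻¹ * g')⁻¹ := by
      rw [map_inv, hz]
    refine isConj_iff.2 ⟨⟨(((c : G) * g)⁻¹ * g')⁻¹, hz'⟩, ?_⟩
    apply Subtype.ext
    show (((c : G) * g)⁻¹ * g')⁻¹ * (g⁻¹ * F g) * ((((c : G) * g)⁻¹ * g')⁻¹)⁻¹ = g'⁻¹ * F g'
    rw [E1]; group
  -- key lemma B
  have keyB : ∀ (g g' : G) (h : F (g⁻¹ * F g) = g⁻¹ * F g) (h' : F (g'⁻¹ * F g') = g'⁻¹ * F g'),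
      IsConj (⟨g⁻¹ * F g, h⟩ : ↥(F.eqLocus (MonoidHom.id G))) ⟨g'⁻¹ * F g', h'⟩ →
      IsConj (⟨F g * g⁻¹, part1' g h⟩ : ↥(F.eqLocus (MonoidHom.id G)))
        ⟨F g' * g'⁻¹, part1' g' h'⟩ := by
    intro g g' h h' hconj
    obtain ⟨c, hc⟩ := isConj_iff.1 hconj
    have hcF : F (c : G) = c := c.2
    have hc' : (c : G) * (g⁻¹ * F g) * (c : G)⁻¹ = g'⁻¹ * F g' := congrArg Subtype.val hc
    have E1 : F g' = g' * ((c : G) * (g⁻¹ * F g) * (c : G)⁻¹) := by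
      rw [hc']; group
    have hy : F (g' * (g * (c : G)⁻¹)⁻¹) = g' * (g * (c : G)⁻¹)⁻¹ := by
      rw [map_mul, map_inv, map_mul, map_inv, hcF, E1]; group
    refine isConj_iff.2 ⟨⟨g' * (g * (c : G)⁻¹)⁻¹, hy⟩, ?_⟩
    apply Subtype.ext
    show (g' * (g * (c : G)⁻¹)⁻¹) * (F g * g⁻¹) * (g' * (g * (c : G)⁻¹)⁻¹)⁻¹ = F g' * g'⁻¹
    rw [E1]; group
  refine ⟨part1, ?_⟩
  -- the other Lang map is surjective
  have hL' : ∀ b : G, ∃ g : G, g⁻¹ * F g = b := by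
    intro b
    obtain ⟨g', hg'⟩ := hL b⁻¹
    refine ⟨g'⁻¹, ?_⟩
    have hg'' : F g' * g'⁻¹ = b⁻¹ := hg'
    rw [map_inv, inv_inv, ← inv_inj, mul_inv_rev, inv_inv, hg'']
  have hLc : ∀ a : G, F ((hL a).choose) * ((hL a).choose)⁻¹ = a := fun a => (hL a).choose_spec
  let φ₀ : ↥(F.eqLocus (MonoidHom.id G)) → ConjClasses ↥(F.eqLocus (MonoidHom.id G)) :=
    fun a => ConjClasses.mk ⟨((hL a.1).choose)⁻¹ * F ((hL a.1).choose),
      part1 _ (by rw [hLc]; exact a.2)⟩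
  have hφ₀ : ∀ (a : ↥(F.eqLocus (MonoidHom.id G))) (g : G) (h : F (F g * g⁻¹) = F g * g⁻¹),
      (a : G) = F g * g⁻¹ → φ₀ a = ConjClasses.mk ⟨g⁻¹ * F g, part1 g h⟩ := by
    intro a g h hag
    apply ConjClasses.mk_eq_mk_iff_isConj.2
    refine keyA _ g (by rw [hLc]; exact a.2) h ?_
    have : (⟨F ((hL a.1).choose) * ((hL a.1).choose)⁻¹, by rw [hLc]; exact a.2⟩ :
        ↥(F.eqLocus (MonoidHom.id G))) = ⟨F g * g⁻¹, h⟩ := by
      apply Subtype.ext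
      show F ((hL a.1).choose) * ((hL a.1).choose)⁻¹ = F g * g⁻¹
      rw [hLc, hag]
    rw [this]
  have hresp : ∀ a a' : ↥(F.eqLocus (MonoidHom.id G)), IsConj a a' → φ₀ a = φ₀ a' := by
    intro a a' haa'
    have ha : F (F ((hL a.1).choose) * ((hL a.1).choose)⁻¹) =
        F ((hL a.1).choose) * ((hL a.1).choose)⁻¹ := by rw [hLc]; exact a.2
    have ha' : F (F ((hL a'.1).choose) * ((hL a'.1).choose)⁻¹) =
        F ((hL a'.1).choose) * ((hL a'.1).choose)⁻¹ := by rw [hLc]; exact a'.2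
    apply ConjClasses.mk_eq_mk_iff_isConj.2
    refine keyA _ _ ha ha' ?_
    have e1 : (⟨F ((hL a.1).choose) * ((hL a.1).choose)⁻¹, ha⟩ :
        ↥(F.eqLocus (MonoidHom.id G))) = a := Subtype.ext (hLc a.1)
    have e2 : (⟨F ((hL a'.1).choose) * ((hL a'.1).choose)⁻¹, ha'⟩ :
        ↥(F.eqLocus (MonoidHom.id G))) = a' := Subtype.ext (hLc a'.1)
    rw [e1, e2]
    exact haa'
  let φ : ConjClasses ↥(F.eqLocus (MonoidHom.id G)) → ConjClasses ↥(F.eqLocus (MonoidHom.id G)) :=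
    Quotient.lift φ₀ (fun a a' haa' => hresp a a' haa')
  have hφmk : ∀ a, φ (ConjClasses.mk a) = φ₀ a := fun a => rfl
  refine ⟨φ, ⟨?_, ?_⟩, ?_⟩
  · -- injective
    intro x y hxy
    obtain ⟨a, rfl⟩ := ConjClasses.mk_surjective x
    obtain ⟨a', rfl⟩ := ConjClasses.mk_surjective y
    rw [hφmk, hφmk] at hxy
    have ha : F (F ((hL a.1).choose) * ((hL a.1).choose)⁻¹) =
        F ((hL a.1).choose) * ((hL a.1).choose)⁻¹ := by rw [hLc]; exact a.2
    have ha' : F (F ((hL a'.1).choose) * ((hL a'.1).choose)⁻¹) =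
        F ((hL a'.1).choose) * ((hL a'.1).choose)⁻¹ := by rw [hLc]; exact a'.2
    have hconj := ConjClasses.mk_eq_mk_iff_isConj.1 hxy
    have hB := keyB _ _ (part1 _ ha) (part1 _ ha') hconj
    have e1 : (⟨F ((hL a.1).choose) * ((hL a.1).choose)⁻¹, part1' _ (part1 _ ha)⟩ :
        ↥(F.eqLocus (MonoidHom.id G))) = a := Subtype.ext (hLc a.1)
    have e2 : (⟨F ((hL a'.1).choose) * ((hL a'.1).choose)⁻¹, part1' _ (part1 _ ha')⟩ :
        ↥(F.eqLocus (MonoidHom.id G))) = a' := Subtype.ext (hLc a'.1)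
    rw [e1, e2] at hB
    exact ConjClasses.mk_eq_mk_iff_isConj.2 hB
  · -- surjective
    intro y
    obtain ⟨b, rfl⟩ := ConjClasses.mk_surjective y
    obtain ⟨g, hg⟩ := hL' b.1
    have hb : F (g⁻¹ * F g) = g⁻¹ * F g := by rw [hg]; exact b.2
    refine ⟨ConjClasses.mk ⟨F g * g⁻¹, part1' g hb⟩, ?_⟩
    rw [hφmk, hφ₀ ⟨F g * g⁻¹, part1' g hb⟩ g (part1' g hb) rfl]
    congr 1
    exact Subtype.ext hg
  · intro g h h'
    rw [hφmk]
    exact hφ₀ ⟨F g * g⁻¹, h⟩ g h rfl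

end Groth.Agent.S8625
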