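import Groth.Statements.S8626
import Mathlib
import Groth.Agent.Lib.Helper3.IRes
import Groth.Agent.Lib.Helper3.Retract
import Groth.Agent.Lib.Helper3.RDBridge

set_option autoImplicit false
universe v v' u u'
open CategoryTheory CategoryTheory.Limits
open SGA4h

namespace Groth.Agent.S8626

section aux

variable {C : Type u} [Category.{v} C] [Abelian C]
  {D : Type u'} [Category.{v'} D] [Abelian D]

/-- vanishing of homology passes to homotopy retracts -/
lemma isZero_homology_of_retraction (F : C ⥤ D) [F.Additive] {J L : CochainComplex C ℤ}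
    (s : J ⟶ L)
    (r : (HomotopyCategory.quotient C (.up ℤ)).obj L ⟶ (HomotopyCategory.quotient C (.up ℤ)).obj J)
    (hr : (HomotopyCategory.quotient C (.up ℤ)).map s ≫ r = 𝟙 _) (n : ℤ)
    (h : IsZero (((F.mapHomologicalComplex (.up ℤ)).obj L).homology n)) :
    IsZero (((F.mapHomologicalComplex (.up ℤ)).obj J).homology n) := by
  let q := HomotopyCategory.quotient C (.up ℤ)
  let Ψ : HomotopyCategory C (.up ℤ) ⥤ D :=
    F.mapHomotopyCategory (.up ℤ) ⋙ HomotopyCategory.homologyFunctor D (.up ℤ) n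
  let Φ : CochainComplex C ℤ ⥤ D :=
    F.mapHomologicalComplex (.up ℤ) ⋙ HomologicalComplex.homologyFunctor D (.up ℤ) n
  let e : q ⋙ Ψ ≅ Φ :=
    (Functor.associator _ _ _).symm ≪≫
      Functor.isoWhiskerRight (F.mapHomotopyCategoryFactors (.up ℤ)) _ ≪≫
      Functor.associator _ _ _ ≪≫
      Functor.isoWhiskerLeft _ (HomotopyCategory.homologyFunctorFactors D (.up ℤ) n)
  have hbc : Ψ.map (q.map s) ≫ Ψ.map r = 𝟙 _ := by
    rw [← Functor.map_comp, hr, CategoryTheory.Functor.map_id]
  have hL : IsZero (Ψ.obj (q.obj L)) := IsZero.of_iso (Y := Φ.obj L) h (e.app L)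
  have hJ : IsZero (Ψ.obj (q.obj J)) := by
    rw [IsZero.iff_id_eq_zero, ← hbc, hL.eq_of_tgt (Ψ.map (q.map s)) 0, zero_comp]
  exact IsZero.of_iso (Y := Ψ.obj (q.obj J)) hJ (e.app J).symm

/-- the augmented complex of a resolution is acyclic -/
lemma acyclic_augment {X : C} (L : CochainComplex C ℕ)
    (q : (CochainComplex.single₀ C).obj X ⟶ L) [QuasiIso q]
    (a : X ⟶ L.X 0)
    (ha : a = (HomologicalComplex.singleObjXSelf (ComplexShape.up ℕ) 0 X).inv ≫ q.f 0)
    (w : a ≫ L.d 0 1 = 0) :
    (CochainComplex.augment L a w).Acyclic := by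
  intro n
  obtain _ | _ | n := n
  · -- degree 0 : `a` is a monomorphism
    rw [HomologicalComplex.exactAt_iff' _ 0 0 1 (by simp) (by simp)]
    rw [ShortComplex.exact_iff_mono _ ((CochainComplex.augment L a w).shape 0 0 (by simp))]
    change Mono a
    rw [Preadditive.mono_iff_cancel_zero]
    intro W x hx
    have hm := (HomologicalComplex.mono_homologyMap_iff_up_to_refinements q 0 0 1
      (by simp) (by simp)).1 inferInstance
    have hx0 : (x ≫ (HomologicalComplex.singleObjXSelf (ComplexShape.up ℕ) 0 X).inv) ≫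
        ((CochainComplex.single₀ C).obj X).d 0 1 = 0 := by
      rw [HomologicalComplex.single_obj_d, comp_zero]
    obtain ⟨W', π, hπ, y, hy⟩ := hm _ hx0 0 (by
      rw [zero_comp, Category.assoc, ← ha]; exact hx)
    have hd : ((CochainComplex.single₀ C).obj X).d 0 0 = 0 :=
      HomologicalComplex.single_obj_d _ _ _ _ _
    rw [hd, comp_zero] at hy
    rw [← cancel_mono (HomologicalComplex.singleObjXSelf (ComplexShape.up ℕ) 0 X).inv, zero_comp,
      ← cancel_epi π, comp_zero]
    exact hy
  · -- degree 1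
    rw [HomologicalComplex.exactAt_iff' _ 0 1 2 (by simp) (by simp)]
    rw [ShortComplex.exact_iff_exact_up_to_refinements]
    intro W x₂ hx₂
    change W ⟶ L.X 0 at x₂
    have hx₂' : x₂ ≫ L.d 0 1 = 0 := hx₂
    have he := (HomologicalComplex.epi_homologyMap_iff_up_to_refinements q 0 0 1
      (by simp) (by simp)).1 inferInstance
    obtain ⟨W', π, hπ, x₁, _, y₁, h⟩ := he x₂ hx₂'
    have hd : L.d 0 0 = 0 := L.shape 0 0 (by simp)
    rw [hd, comp_zero, add_zero] at h
    refine ⟨W', π, hπ, x₁ ≫ (HomologicalComplex.singleObjXSelf (ComplexShape.up ℕ) 0 X).hom, ?_⟩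
    change π ≫ x₂ = (x₁ ≫ (HomologicalComplex.singleObjXSelf (ComplexShape.up ℕ) 0 X).hom) ≫ a
    rw [h, ha, Category.assoc, Iso.hom_inv_id_assoc]
  · -- degree n + 2
    have h1 : ((CochainComplex.single₀ C).obj X).ExactAt (n + 1) :=
      HomologicalComplex.exactAt_single_obj _ _ _ _ (by simp)
    have h2 : L.ExactAt (n + 1) := (quasiIsoAt_iff_exactAt q (n + 1) h1).1 inferInstance
    rw [HomologicalComplex.exactAt_iff' _ n (n + 1) (n + 2) (by simp) (by simp)] at h2
    rw [HomologicalComplex.exactAt_iff' _ (n + 1) (n + 1 + 1) (n + 1 + 1 + 1) (by simp) (by simp)]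
    exact h2

end aux

/-- Acyclicity assertion; A with enough injectives so that R^n f is the usual right derived functor: let
f : A → B be an additive functor between abelian categories and 𝒪 a class of objects of A, stable
under binary direct sums, such that (1) f carries every acyclic bounded-below cochain complex of
objects of 𝒪 (indexed by ℕ, exact in every degree, in degree 0 meaning the first differential is a
monomorphism) to an acyclic complex, and (2) every object of A admits a monomorphism into a member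
of 𝒪. Then every member of 𝒪 is right f-acyclic: R^n f(X) = 0 for all n > 0. -/
theorem result {A : Type u} [Category.{v} A] [Abelian A] [EnoughInjectives A]
    {B : Type u'} [Category.{v'} B] [Abelian B] (f : A ⥤ B) [f.Additive] (𝒪 : ObjectProperty A)
    (h0 : ∀ X Y : A, 𝒪 X → 𝒪 Y → 𝒪 (X ⊞ Y))
    (h1 : ∀ K : CochainComplex A ℕ, (∀ i, 𝒪 (K.X i)) → K.Acyclic →
      ((f.mapHomologicalComplex (ComplexShape.up ℕ)).obj K).Acyclic)
    (h2 : ∀ X : A, ∃ (Y : A) (i : X ⟶ Y), 𝒪 Y ∧ Mono i)
    (X : A) (hX : 𝒪 X) (n : ℕ) (hn : 0 < n) :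
    IsZero ((f.rightDerived n).obj X) := by
  classical
  let R := CategoryTheory.injectiveResolution X
  obtain ⟨L₀, s₀, hL, hmono, hqi⟩ :=
    Groth.Agent.Helper3.IRes.exists_resolution_nat 𝒪 h2 R.cocomplex
  let q₀ : (CochainComplex.single₀ A).obj X ⟶ L₀ := R.ι ≫ s₀
  have hq₀ : QuasiIso q₀ := inferInstance
  let a : X ⟶ L₀.X 0 :=
    (HomologicalComplex.singleObjXSelf (ComplexShape.up ℕ) 0 X).inv ≫ q₀.f 0
  have w : a ≫ L₀.d 0 1 = 0 := by
    dsimp only [a]
    rw [Category.assoc, q₀.comm 0 1, HomologicalComplex.single_obj_d, zero_comp, comp_zero]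
  have hAug : (CochainComplex.augment L₀ a w).Acyclic := acyclic_augment L₀ q₀ a rfl w
  have hAug𝒪 : ∀ i, 𝒪 ((CochainComplex.augment L₀ a w).X i) := by
    intro i
    cases i with
    | zero => exact hX
    | succ i => exact hL i
  have hF := h1 _ hAug𝒪 hAug
  obtain ⟨m, rfl⟩ : ∃ m, n = m + 1 := ⟨n - 1, by omega⟩
  have hFL : ((f.mapHomologicalComplex (ComplexShape.up ℕ)).obj L₀).ExactAt (m + 1) := by
    have h3 := hF (m + 1 + 1)
    rw [HomologicalComplex.exactAt_iff' _ (m + 1) (m + 1 + 1) (m + 1 + 1 + 1)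
      (by simp) (by simp)] at h3
    rw [HomologicalComplex.exactAt_iff' _ m (m + 1) (m + 1 + 1) (by simp) (by simp)]
    exact h3
  let e := ComplexShape.embeddingUpNat
  let s : R.cochainComplex ⟶ L₀.extend e := HomologicalComplex.extendMap s₀ e
  have hs : QuasiIso s := (HomologicalComplex.quasiIso_extendMap_iff s₀ e).2 hqi
  have hK : R.cochainComplex.IsKInjective := CochainComplex.isKInjective_of_injective _ 0
  obtain ⟨r, hr⟩ := Groth.Agent.Helper3.Retract.exists_retraction s
  have hz : IsZero (((f.mapHomologicalComplex (ComplexShape.up ℤ)).obj (L₀.extend e)).homology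
      ((m + 1 : ℕ) : ℤ)) := by
    have i1 := HomologicalComplex.homologyMapIso
      (Groth.Agent.Helper3.MapExtend.mapExtendIso f L₀ e) ((m + 1 : ℕ) : ℤ)
    have i2 := HomologicalComplex.extendHomologyIso
      ((f.mapHomologicalComplex (ComplexShape.up ℕ)).obj L₀) e (j := m + 1)
      (j' := ((m + 1 : ℕ) : ℤ)) rfl
    exact IsZero.of_iso hFL.isZero_homology (i1 ≪≫ i2)
  have hz' := isZero_homology_of_retraction f s r hr _ hz
  exact IsZero.of_iso hz'
    (R.isoRightDerivedObj f (m + 1) ≪≫ Groth.Agent.Helper3.RDBridge.θ f R (m + 1))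

end Groth.Agent.S8626
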