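import Groth.Statements.S8630
import Mathlib

set_option autoImplicit false
open Zeta

namespace Groth.Agent.S8630

section
open Polynomial

theorem core (Q₂ : ℤ[X]) (hprim : Q₂.IsPrimitive) :
    ∀ (n : ℕ) (N : ℤ) (Y : PowerSeries ℤ), N.natAbs = n → N ≠ 0 →
      (Q₂ : PowerSeries ℤ) * Y = PowerSeries.C N → IsUnit (Q₂.coeff 0) := by
  intro n
  induction n using Nat.strong_induction_on with
  | _ n ih =>
    intro N Y hn hN hY
    by_cases h1 : n = 1
    · have hunit : IsUnit N := Int.isUnit_iff_natAbs_eq.2 (by omega)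
      have h0 := congrArg PowerSeries.constantCoeff hY
      rw [map_mul, PowerSeries.constantCoeff_C] at h0
      have h00 : PowerSeries.constantCoeff (Q₂ : PowerSeries ℤ) = Q₂.coeff 0 := by
        rw [← PowerSeries.coeff_zero_eq_constantCoeff_apply, Polynomial.coeff_coe]
      rw [h00] at h0
      rw [← h0] at hunit
      exact isUnit_of_mul_isUnit_left hunit
    · have hn0 : n ≠ 0 := by
        intro h
        apply hN
        rw [← Int.natAbs_eq_zero, hn, h]
      obtain ⟨p, hp, hpn⟩ := Nat.exists_prime_and_dvd h1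
      have : Fact p.Prime := ⟨hp⟩
      have hpN : (p : ℤ) ∣ N := by
        rw [← hn] at hpn
        exact Int.natCast_dvd.2 hpn
      let φ := PowerSeries.map (Int.castRingHom (ZMod p))
      have hφ : φ (Q₂ : PowerSeries ℤ) * φ Y = 0 := by
        rw [← map_mul, hY]
        ext k
        simp only [φ, PowerSeries.coeff_map, PowerSeries.coeff_C, map_zero]
        split_ifs
        · simpa using (ZMod.intCast_zmod_eq_zero_iff_dvd N p).2 hpN
        · simp
      rcases mul_eq_zero.1 hφ with h | h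
      · exfalso
        have hdvd : C (p : ℤ) ∣ Q₂ := by
          rw [Polynomial.C_dvd_iff_dvd_coeff]
          intro k
          have := congrArg (PowerSeries.coeff k) h
          simp only [φ, PowerSeries.coeff_map, Polynomial.coeff_coe, map_zero] at this
          exact (ZMod.intCast_zmod_eq_zero_iff_dvd _ p).1 (by simpa using this)
        have := hprim _ hdvd
        rw [Int.isUnit_iff_natAbs_eq] at this
        simp at this
        exact hp.one_lt.ne' this
      · have hdvd : ∀ k, (p : ℤ) ∣ PowerSeries.coeff k Y := by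
          intro k
          have := congrArg (PowerSeries.coeff k) h
          simp only [φ, PowerSeries.coeff_map, map_zero] at this
          exact (ZMod.intCast_zmod_eq_zero_iff_dvd _ p).1 (by simpa using this)
        let Y' : PowerSeries ℤ := PowerSeries.mk (fun k => PowerSeries.coeff k Y / p)
        have hYY' : Y = PowerSeries.C (p : ℤ) * Y' := by
          ext k
          rw [PowerSeries.coeff_C_mul, PowerSeries.coeff_mk]
          exact (Int.mul_ediv_cancel' (hdvd k)).symm
        obtain ⟨N', hN'⟩ := hpN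
        have hp0 : (PowerSeries.C (p : ℤ) : PowerSeries ℤ) ≠ 0 := by
          intro h0
          have := congrArg PowerSeries.constantCoeff h0
          simp at this
          exact hp.ne_zero this
        have hY' : (Q₂ : PowerSeries ℤ) * Y' = PowerSeries.C N' := by
          apply mul_left_cancel₀ hp0
          rw [← map_mul, ← hN', ← hY, hYY']
          ring
        have hN'0 : N' ≠ 0 := by
          rintro rfl
          apply hN
          rw [hN', mul_zero]
        have hlt : N'.natAbs < n := by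
          rw [← hn, hN', Int.natAbs_mul, Int.natAbs_natCast]
          have : 0 < N'.natAbs := Int.natAbs_pos.2 hN'0
          nlinarith [hp.two_le]
        exact ih _ hlt N' Y' rfl hN'0 hY'


theorem clear (p : ℚ[X]) : ∃ (d : ℤ) (p₁ : ℤ[X]), d ≠ 0 ∧
    p₁.map (Int.castRingHom ℚ) = C (d : ℚ) * p := by
  obtain ⟨b, hb, hspec⟩ := IsLocalization.integerNormalization_spec (nonZeroDivisors ℤ) p
  refine ⟨b, IsLocalization.integerNormalization (nonZeroDivisors ℤ) p, nonZeroDivisors.ne_zero hb, ?_⟩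
  have h1 : (algebraMap ℤ ℚ) = Int.castRingHom ℚ := rfl
  rw [h1] at hspec
  rw [hspec]
  ext k
  simp [Polynomial.coeff_smul]

theorem main (P Q : Polynomial ℚ)
    (hPQ : IsCoprime P Q) (hP : P.coeff 0 = 1) (hQ : Q.coeff 0 = 1) (Z : PowerSeries ℤ)
    (hZ : (P : PowerSeries ℚ) = (Q : PowerSeries ℚ) * PowerSeries.map (Int.castRingHom ℚ) Z) :
    (∃ P₀ : Polynomial ℤ, P₀.map (Int.castRingHom ℚ) = P) ∧
      ∃ Q₀ : Polynomial ℤ, Q₀.map (Int.castRingHom ℚ) = Q := by
  have hinj : Function.Injective (Int.castRingHom ℚ) := Int.cast_injective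
  -- Step A, B
  obtain ⟨d, Q₁, hd, hQ₁⟩ := clear Q
  have hQne : Q ≠ 0 := by
    rintro rfl
    simp at hQ
  have hQ₁ne : Q₁ ≠ 0 := by
    rintro rfl
    rw [Polynomial.map_zero] at hQ₁
    have := hQ₁.symm
    rw [mul_eq_zero] at this
    rcases this with h | h
    · rw [C_eq_zero] at h
      exact hd (by exact_mod_cast h)
    · exact hQne h
  set c := Q₁.content with hc
  set Q₂ := Q₁.primPart with hQ₂def
  have hQ₁eq : Q₁ = C c * Q₂ := Q₁.eq_C_content_mul_primPart
  have hprim : Q₂.IsPrimitive := Q₁.isPrimitive_primPart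
  have hc0 : c ≠ 0 := by
    rw [hc, Ne, Polynomial.content_eq_zero_iff]
    exact hQ₁ne
  set n₀ := Q₂.coeff 0 with hn₀
  have hQ₂map : Q₂.map (Int.castRingHom ℚ) = C (n₀ : ℚ) * Q := by
    have h1 : (C (c : ℚ)) * Q₂.map (Int.castRingHom ℚ) = C (d : ℚ) * Q := by
      rw [← hQ₁, hQ₁eq, Polynomial.map_mul, Polynomial.map_C]
      simp
    have h2 : Q₂.map (Int.castRingHom ℚ) = C ((d : ℚ) / c) * Q := by
      have hcq : (c : ℚ) ≠ 0 := by exact_mod_cast hc0
      have : C ((d : ℚ) / c) * Q = C ((c : ℚ)⁻¹) * (C (d : ℚ) * Q) := by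
        rw [← mul_assoc, ← C_mul]
        congr 2
        field_simp
      rw [this, ← h1, ← mul_assoc, ← C_mul, inv_mul_cancel₀ hcq, C_1, one_mul]
    have h3 := congrArg (fun f => f.coeff 0) h2
    simp only [Polynomial.coeff_map, Polynomial.coeff_C_mul, hQ, mul_one] at h3
    rw [h2]
    congr 2
    rw [hn₀]
    exact h3.symm
  -- Step C
  set W : PowerSeries ℤ := (Q₂ : PowerSeries ℤ) * Z with hW
  have hWmap : PowerSeries.map (Int.castRingHom ℚ) W = ((C (n₀ : ℚ) * P : ℚ[X]) : PowerSeries ℚ) := by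
    rw [hW, map_mul, Polynomial.coe_mul, hZ, ← mul_assoc, ← Polynomial.coe_mul, ← hQ₂map]
    congr 1
    ext k
    simp [Polynomial.coeff_coe]
  set P₂ : ℤ[X] := PowerSeries.trunc (P.natDegree + 1) W with hP₂
  have hP₂W : (P₂ : PowerSeries ℤ) = W := by
    ext k
    rw [Polynomial.coeff_coe, hP₂, PowerSeries.coeff_trunc]
    split_ifs with h
    · rfl
    · have h1 := congrArg (PowerSeries.coeff k) hWmap
      rw [PowerSeries.coeff_map, Polynomial.coeff_coe, Polynomial.coeff_C_mul,
        Polynomial.coeff_eq_zero_of_natDegree_lt (by omega), mul_zero] at h1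
      have : ((PowerSeries.coeff k W : ℤ) : ℚ) = 0 := h1
      exact_mod_cast this.symm
  have hP₂map : P₂.map (Int.castRingHom ℚ) = C (n₀ : ℚ) * P := by
    apply Polynomial.coe_injective
    rw [← hWmap, ← hP₂W]
    ext k
    simp [Polynomial.coeff_coe]
  -- Step D
  obtain ⟨u, v, huv⟩ := hPQ
  obtain ⟨e₁, u₁, he₁, hu₁⟩ := clear u
  obtain ⟨e₂, v₁, he₂, hv₁⟩ := clear v
  set N : ℤ := e₁ * e₂ * n₀ with hN
  have hn₀0 : n₀ ≠ 0 := by
    intro h
    rw [h] at hQ₂map
    simp only [Int.cast_zero, C_0, zero_mul] at hQ₂map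
    have : Q₂ = 0 := by
      apply Polynomial.map_injective _ hinj
      rw [hQ₂map, Polynomial.map_zero]
    rw [this] at hQ₁eq
    rw [mul_zero] at hQ₁eq
    exact hQ₁ne hQ₁eq
  have hN0 : N ≠ 0 := mul_ne_zero (mul_ne_zero he₁ he₂) hn₀0
  have hcomb : C e₂ * u₁ * P₂ + C e₁ * v₁ * Q₂ = C N := by
    apply Polynomial.map_injective _ hinj
    simp only [Polynomial.map_add, Polynomial.map_mul, Polynomial.map_C, hu₁, hv₁, hP₂map, hQ₂map]
    have : (C ((Int.castRingHom ℚ) N) : ℚ[X]) = C ((e₁ : ℚ) * e₂ * n₀) * (u * P + v * Q) := by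
      rw [huv, mul_one, hN]
      simp
    rw [this]
    simp only [eq_intCast, C_mul]
    ring
  have hY : (Q₂ : PowerSeries ℤ) * (((C e₂ * u₁ : ℤ[X]) : PowerSeries ℤ) * Z +
      ((C e₁ * v₁ : ℤ[X]) : PowerSeries ℤ)) = PowerSeries.C N := by
    have h1 := congrArg (fun f : ℤ[X] => (f : PowerSeries ℤ)) hcomb
    simp only [Polynomial.coe_add, Polynomial.coe_mul, Polynomial.coe_C] at h1
    rw [hP₂W, hW] at h1
    rw [← h1]
    simp only [Polynomial.coe_mul, Polynomial.coe_C]
    ring
  have hunit := core Q₂ hprim _ N _ rfl hN0 hY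
  have hsq : n₀ * n₀ = 1 := by
    rcases Int.isUnit_iff.1 hunit with h | h <;> rw [← hn₀] at h <;> rw [h] <;> norm_num
  have hsqQ : (n₀ : ℚ) * n₀ = 1 := by exact_mod_cast hsq
  constructor
  · refine ⟨C n₀ * P₂, ?_⟩
    rw [Polynomial.map_mul, Polynomial.map_C, hP₂map, ← mul_assoc, ← C_mul]
    simp only [eq_intCast]
    rw [hsqQ, C_1, one_mul]
  · refine ⟨C n₀ * Q₂, ?_⟩
    rw [Polynomial.map_mul, Polynomial.map_C, hQ₂map, ← mul_assoc, ← C_mul]
    simp only [eq_intCast]
    rw [hsqQ, C_1, one_mul]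


end


/-- Fatou's lemma: let P, Q ∈ ℚ[T] be coprime with constant coefficient 1, and suppose the power series
P/Q has integer coefficients, i.e. P = Q·Z in ℚ⟦T⟧ for a power series Z with coefficients in ℤ. Then
P and Q have integer coefficients. -/
theorem result (P Q : Polynomial ℚ)
    (hPQ : IsCoprime P Q) (hP : P.coeff 0 = 1) (hQ : Q.coeff 0 = 1) (Z : PowerSeries ℤ)
    (hZ : (P : PowerSeries ℚ) = (Q : PowerSeries ℚ) * PowerSeries.map (Int.castRingHom ℚ) Z) :
    (∃ P₀ : Polynomial ℤ, P₀.map (Int.castRingHom ℚ) = P) ∧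
      ∃ Q₀ : Polynomial ℤ, Q₀.map (Int.castRingHom ℚ) = Q := by
  classical
  exact main P Q hPQ hP hQ Z hZ

end Groth.Agent.S8630
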