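import Groth.Statements.S8637
-- import your own Groth.Agent.* helpers here

set_option autoImplicit false
open Zeta

namespace Groth.Agent.S8637

/-- First assertion, for a finite family: let (f_i) be finitely many formal power series with real
coefficients, each with constant term 1 and all coefficients ≥ 0, and let f be their product. Then
for every i and every n the n-th coefficient of f_i is at most the n-th coefficient of f (so the
radius of absolute convergence of f_i is at least that of f). (Stated for a finite family; for an
infinite product whose factors f_i - 1 have orders tending to infinity each coefficient is that of a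
finite sub-product, so the same inequality holds.) -/
theorem result {ι : Type} (s : Finset ι) (f : ι → PowerSeries ℝ)
    (h0 : ∀ i ∈ s, PowerSeries.constantCoeff (f i) = 1)
    (hpos : ∀ i ∈ s, ∀ n : ℕ, 0 ≤ PowerSeries.coeff n (f i)) (i : ι) (hi : i ∈ s) (n : ℕ) :
    PowerSeries.coeff n (f i) ≤ PowerSeries.coeff n (∏ j ∈ s, f j) := by
  classical
  -- general fact: product of series with nonnegative coefficients and constant term 1
  have key : ∀ t : Finset ι, (∀ j ∈ t, PowerSeries.constantCoeff (f j) = 1) →
      (∀ j ∈ t, ∀ n : ℕ, 0 ≤ PowerSeries.coeff n (f j)) →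
      (∀ n : ℕ, 0 ≤ PowerSeries.coeff n (∏ j ∈ t, f j)) ∧
        PowerSeries.constantCoeff (∏ j ∈ t, f j) = 1 := by
    intro t
    induction t using Finset.induction_on with
    | empty =>
      intro _ _
      refine ⟨fun n => ?_, by simp⟩
      rw [Finset.prod_empty, PowerSeries.coeff_one]
      split_ifs <;> norm_num
    | insert a t ha ih =>
      intro h0' hpos'
      obtain ⟨ih1, ih2⟩ := ih (fun j hj => h0' j (Finset.mem_insert_of_mem hj))
        (fun j hj => hpos' j (Finset.mem_insert_of_mem hj))
      rw [Finset.prod_insert ha]
      refine ⟨fun n => ?_, ?_⟩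
      · rw [PowerSeries.coeff_mul]
        exact Finset.sum_nonneg (fun p _ =>
          mul_nonneg (hpos' a (Finset.mem_insert_self a t) _) (ih1 _))
      · rw [map_mul, h0' a (Finset.mem_insert_self a t), ih2, mul_one]
  obtain ⟨k1, k2⟩ := key (s.erase i) (fun j hj => h0 j (Finset.mem_of_mem_erase hj))
    (fun j hj => hpos j (Finset.mem_of_mem_erase hj))
  rw [← Finset.mul_prod_erase s f hi, PowerSeries.coeff_mul]
  have hmem : (n, 0) ∈ Finset.antidiagonal n := by simp
  calc PowerSeries.coeff n (f i)
      = PowerSeries.coeff (n, 0).1 (f i) * PowerSeries.coeff (n, 0).2 (∏ j ∈ s.erase i, f j) := by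
        simp only [PowerSeries.coeff_zero_eq_constantCoeff_apply, k2, mul_one]
    _ ≤ _ := Finset.single_le_sum (f := fun p : ℕ × ℕ =>
        PowerSeries.coeff p.1 (f i) * PowerSeries.coeff p.2 (∏ j ∈ s.erase i, f j))
        (fun p _ => mul_nonneg (hpos i hi _) (k1 _)) hmem

end Groth.Agent.S8637
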