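import Groth.Statements.S8666
import Mathlib

set_option autoImplicit false
universe u
open CAlg

namespace Groth.Agent.S8666

namespace H8666

open scoped Pointwise

variable (A : Type u) [CommRing A]

/-- The complement of a finite union of primes. -/
def T {ι : Type} (p : ι → PrimeSpectrum A) : Submonoid A := ⨅ i, (p i).asIdeal.primeCompl

lemma mem_T {ι : Type} (p : ι → PrimeSpectrum A) (a : A) : a ∈ T A p ↔ ∀ i, a ∉ (p i).asIdeal := by
  simp [T, Submonoid.mem_iInf, Ideal.primeCompl]

lemma T_le {ι : Type} (p : ι → PrimeSpectrum A) (i : ι) : T A p ≤ (p i).asIdeal.primeCompl :=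
  iInf_le _ i

lemma finite_maxSpec {ι : Type} [Finite ι] (p : ι → PrimeSpectrum A) :
    Finite (MaximalSpectrum (Localization (T A p))) := by
  classical
  cases nonempty_fintype ι
  -- every maximal ideal is map of some p i
  have key : ∀ m : MaximalSpectrum (Localization (T A p)), ∃ i : ι,
      m.asIdeal = Ideal.map (algebraMap A (Localization (T A p))) (p i).asIdeal := by
    intro m
    set q := Ideal.comap (algebraMap A (Localization (T A p))) m.asIdeal with hq
    have hqprime : q.IsPrime := Ideal.comap_isPrime _ _
    have hdisj : Disjoint (T A p : Set A) (q : Set A) :=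
      ((IsLocalization.isPrime_iff_isPrime_disjoint (T A p) (Localization (T A p)) m.asIdeal).1
        m.isMaximal.isPrime).2
    have hsub : (q : Set A) ⊆ ⋃ i ∈ ((Finset.univ : Finset ι) : Set ι), ((p i).asIdeal : Set A) := by
      intro a ha
      by_contra hcon
      simp only [Finset.coe_univ, Set.mem_univ, Set.iUnion_true, Set.mem_iUnion, SetLike.mem_coe,
        not_exists] at hcon
      exact Set.disjoint_left.1 hdisj ((mem_T A p a).2 hcon) ha
    obtain ⟨i₀⟩ : Nonempty ι := by
      have := hsub (zero_mem q)
      simp only [Finset.coe_univ, Set.mem_univ, Set.iUnion_true, Set.mem_iUnion] at this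
      exact ⟨this.choose⟩
    obtain ⟨i, -, hi⟩ := (Ideal.subset_union_prime (s := Finset.univ) (f := fun i => (p i).asIdeal)
      i₀ i₀ (fun i _ _ _ => (p i).isPrime)).1 hsub
    refine ⟨i, ?_⟩
    have hdisj_i : Disjoint (T A p : Set A) ((p i).asIdeal : Set A) := by
      rw [Set.disjoint_left]
      intro a ha hai
      exact (mem_T A p a).1 ha i hai
    have hne : Ideal.map (algebraMap A (Localization (T A p))) (p i).asIdeal ≠ ⊤ :=
      ((IsLocalization.isPrime_of_isPrime_disjoint (T A p) (Localization (T A p)) _ (p i).isPrime hdisj_i)).ne_top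
    have hle : m.asIdeal ≤ Ideal.map (algebraMap A (Localization (T A p))) (p i).asIdeal := by
      rw [← IsLocalization.map_under (T A p) (S := Localization (T A p)) m.asIdeal]
      exact Ideal.map_mono hi
    exact m.isMaximal.eq_of_le hne hle
  choose f hf using key
  refine Finite.of_injective f ?_
  intro m m' h
  ext1
  rw [hf m, hf m', h]

variable (M : Type u) [AddCommGroup M] [Module A M] [Module.Invertible A M]

lemma exists_gen {ι : Type} [Finite ι] (p : ι → PrimeSpectrum A) :
    ∃ s : M, ∃ t : T A p, Submodule.span (Localization (T A p))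
      {LocalizedModule.mk s t} = (⊤ : Submodule (Localization (T A p)) (LocalizedModule (T A p) M)) := by
  haveI := finite_maxSpec A p
  haveI : Module.Invertible (Localization (T A p)) (LocalizedModule (T A p) M) := inferInstance
  haveI : Module.Free (Localization (T A p)) (LocalizedModule (T A p) M) := inferInstance
  obtain ⟨e⟩ := (Module.Invertible.free_iff_linearEquiv (R := Localization (T A p))
    (M := LocalizedModule (T A p) M)).1 inferInstance
  obtain ⟨s, t, hst⟩ : ∃ s t, e.symm 1 = LocalizedModule.mk s t := by
    induction' h : e.symm 1 using LocalizedModule.induction_on with s t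
    exact ⟨s, t, rfl⟩
  refine ⟨s, t, ?_⟩
  rw [eq_top_iff]
  intro y _
  rw [Submodule.mem_span_singleton]
  refine ⟨e y, ?_⟩
  rw [← hst, ← map_smul, smul_eq_mul, mul_one, LinearEquiv.symm_apply_apply]

end H8666

namespace H8666
variable (A : Type u) [CommRing A]
variable (M : Type u) [AddCommGroup M] [Module A M] [Module.Invertible A M]

theorem main (ι : Type) [Finite ι] (p : ι → PrimeSpectrum A) :
    ∃ s : M, ∀ i : ι, Submodule.span (Localization.AtPrime (p i).asIdeal)
      {LocalizedModule.mkLinearMap (p i).asIdeal.primeCompl M s} = ⊤ := by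
  obtain ⟨s, t, hst⟩ := exists_gen A M p
  refine ⟨s, fun i => ?_⟩
  rw [eq_top_iff]
  intro y _
  induction' y using LocalizedModule.induction_on with x' u
  have h1 : (LocalizedModule.mk x' (1 : T A p) : LocalizedModule (T A p) M) ∈
      Submodule.span (Localization (T A p)) {LocalizedModule.mk s t} := by
    rw [hst]; trivial
  rw [Submodule.mem_span_singleton] at h1
  obtain ⟨r, hr⟩ := h1
  induction' r using Localization.induction_on with at'
  obtain ⟨a, t'⟩ := at'
  rw [LocalizedModule.mk_smul_mk, LocalizedModule.mk_eq] at hr
  obtain ⟨c, hc⟩ := hr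
  rw [Submodule.mem_span_singleton]
  have hmem : ∀ c : T A p, (c : A) ∈ (p i).asIdeal.primeCompl := fun c => T_le A p i c.2
  have hm : (c : A) * ((t' : A) * (t : A)) ∈ (p i).asIdeal.primeCompl :=
    mul_mem (hmem c) (mul_mem (hmem t') (hmem t))
  refine ⟨Localization.mk ((c : A) * a) (⟨(c : A) * ((t' : A) * (t : A)), hm⟩ * u), ?_⟩
  rw [LocalizedModule.mkLinearMap_apply, LocalizedModule.mk_smul_mk, LocalizedModule.mk_eq]
  refine ⟨1, ?_⟩
  simp only [one_smul, Submonoid.smul_def, Submonoid.coe_mul, Submonoid.coe_one, mul_one] at hc ⊢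
  rw [mul_smul (c : A) a s, hc, smul_smul, smul_smul]
  congr 1
  ring
end H8666

/-- Let A be a Noetherian ring, M an invertible A-module and p_1, …, p_k finitely many primes of A
(points of Spec A). Then there is a single element s ∈ M whose image generates M_{p_i} as an
A_{p_i}-module for every i, i.e. s is a basis of the stalk of M at each of the given points. -/
theorem result (A : Type u) [CommRing A] [IsNoetherianRing A]
    (M : Type u) [AddCommGroup M] [Module A M] [Module.Invertible A M] (ι : Type) [Finite ι] (p : ι → PrimeSpectrum A) :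
    ∃ s : M, ∀ i : ι, Submodule.span (Localization.AtPrime (p i).asIdeal)
      {LocalizedModule.mkLinearMap (p i).asIdeal.primeCompl M s} = ⊤ := by
  exact H8666.main A M ι p

end Groth.Agent.S8666
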