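import Groth.Statements.S8674
import Mathlib
import Groth.Agent.Lib.Helper1.SecOps4

set_option autoImplicit false
universe v u
open CategoryTheory CategoryTheory.Limits AlgebraicGeometry
attribute [local instance] HasDerivedCategory.standard
open KRR

namespace Groth.Agent.S8674

/-- Let X be a Noetherian scheme with an ample invertible O_X-module L, E an invertible O_X-module and
x_1, …, x_k finitely many points of X. Then there is an integer n such that for every k ≥ 1 there is
a global section s : O_X ⟶ E ⊗ L^{⊗ kn} which is a basis of E ⊗ L^{⊗ kn} at every x_i (each x_i lies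
in the largest open over which s is an isomorphism). -/
theorem result (X : Scheme.{u}) [IsNoetherian X] (L : X.Modules) (hL : CohB1.IsAmple L)
    (E : X.Modules) (hE : PicF.IsInvertible E) (ι : Type) [Finite ι] (x : ι → ↥X) :
    ∃ n : ℕ, ∀ k : ℕ, 1 ≤ k → ∃ s : Coh.structureModule X ⟶ CohB1.tensorMod E (CohB1.tensorPow L (k * n)),
      ∀ i : ι, x i ∈ CohB1.genLocus (CohB1.tensorMod E (CohB1.tensorPow L (k * n))) s := by
  obtain ⟨N₀, hN₀⟩ := Groth.Agent.Helper1.SecOps.exists_sections_all_large_twists hL hE (Set.range x) (Set.finite_range x)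
  refine ⟨N₀ + 1, fun k hk => ?_⟩
  have hkn : N₀ ≤ k * (N₀ + 1) := by nlinarith
  exact (hN₀ _ hkn).imp fun s hs i => hs ⟨i, rfl⟩

end Groth.Agent.S8674
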