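import Groth.Statements.S8710
import Mathlib
import Groth.Agent.Lib.Helper3.TorLES

set_option autoImplicit false
universe u
open CategoryTheory CategoryTheory.Limits
open SGA7

namespace Groth.Agent.S8710

/-- Let f : B' → B be a surjective map of R-algebras with B' flat over R, g : C → B a map of R-algebras,
P = B' ×_B C their fibre product (the equalizer of f ∘ pr₁ and g ∘ pr₂ in B' × C), S an R-algebra
and n a natural number. If Tor_i^R(C, S) = 0 for 0 < i < n and Tor_i^R(B, S) = 0 for 0 < i ≤ n, then
Tor_i^R(P, S) = 0 for 0 < i < n. Here Tor_i^R(M, S) is the i-th left derived functor of M ⊗_R − on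
R-modules, evaluated at S. (The published statement asks the vanishing for B only in degrees 0 < i <
n; the published proof and the corollary following it use it in degrees 0 < i ≤ n, which this row
assumes.) -/
theorem result (R B' B C S : Type u) [CommRing R] [CommRing B'] [CommRing B]
    [CommRing C] [CommRing S] [Algebra R B'] [Algebra R B] [Algebra R C] [Algebra R S]
    (f : B' →ₐ[R] B) (hf : Function.Surjective f) (g : C →ₐ[R] B) [Module.Flat R B'] (n : ℕ)
    (hC : ∀ i : ℕ, 0 < i → i < n →
      IsZero (((Tor (ModuleCat.{u} R) i).obj (ModuleCat.of R C)).obj (ModuleCat.of R S)))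
    (hB : ∀ i : ℕ, 0 < i → i ≤ n →
      IsZero (((Tor (ModuleCat.{u} R) i).obj (ModuleCat.of R B)).obj (ModuleCat.of R S))) :
    letI P := AlgHom.equalizer (f.comp (AlgHom.fst R B' C)) (g.comp (AlgHom.snd R B' C))
    ∀ i : ℕ, 0 < i → i < n →
      IsZero (((Tor (ModuleCat.{u} R) i).obj (ModuleCat.of R ↥P)).obj (ModuleCat.of R S)) := by
  intro i hi hin
  set P := AlgHom.equalizer (f.comp (AlgHom.fst R B' C)) (g.comp (AlgHom.snd R B' C)) with hP
  -- SES₂ : 0 → B' → B' × C → C → 0
  have hprod : IsZero (((Tor (ModuleCat.{u} R) i).obj (ModuleCat.of R (B' × C))).obj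
      (ModuleCat.of R S)) := by
    refine Groth.Agent.Helper3.TorLES.isZero_tor_mid
      (ModuleCat.ofHom (LinearMap.inl R B' C)) (ModuleCat.ofHom (LinearMap.snd R B' C))
      ?_ ?_ ?_ (ModuleCat.of R S) i ?_ (hC i hi hin)
    · exact LinearMap.inl_injective
    · intro x
      constructor
      · intro hx
        exact ⟨x.1, Prod.ext rfl (by simpa using hx.symm)⟩
      · rintro ⟨y, rfl⟩
        simp
    · exact LinearMap.snd_surjective
    · obtain ⟨j, rfl⟩ : ∃ j, i = j + 1 := ⟨i - 1, by omega⟩
      haveI : Module.Flat R (ModuleCat.of R B') := ‹Module.Flat R B'›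
      exact Groth.Agent.Helper3.TorLES.isZero_tor_succ_of_flat _ _ j
  -- SES₁ : 0 → P → B' × C → B → 0
  refine Groth.Agent.Helper3.TorLES.isZero_tor_left
    (ModuleCat.ofHom (P.val.toLinearMap))
    (ModuleCat.ofHom (f.toLinearMap ∘ₗ LinearMap.fst R B' C - g.toLinearMap ∘ₗ LinearMap.snd R B' C))
    ?_ ?_ ?_ (ModuleCat.of R S) i (hB (i + 1) (by omega) (by omega)) hprod
  · exact Subtype.val_injective
  · intro x
    constructor
    · intro hx
      have hx' : f x.1 - g x.2 = 0 := by simpa using hx
      refine ⟨⟨x, ?_⟩, rfl⟩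
      show (f.comp (AlgHom.fst R B' C)) x = (g.comp (AlgHom.snd R B' C)) x
      simpa using sub_eq_zero.mp hx'
    · rintro ⟨y, rfl⟩
      have hy : (f.comp (AlgHom.fst R B' C)) y.1 = (g.comp (AlgHom.snd R B' C)) y.1 := y.2
      have hy' : f y.1.1 = g y.1.2 := by simpa using hy
      simp [hy']
  · intro b
    obtain ⟨b', rfl⟩ := hf b
    exact ⟨(b', 0), by simp⟩

end Groth.Agent.S8710
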