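import Groth.Statements.S8718
import Mathlib
import Groth.Prelude.Def_ChGrp
import Groth.Agent.S12113

set_option autoImplicit false
universe u
open CategoryTheory CategoryTheory.Limits MonoidalCategory CartesianMonoidalCategory MonObj AlgebraicGeometry
open SGA7

namespace Groth.Agent.S8718

section
open CategoryTheory CategoryTheory.Limits MonoidalCategory CartesianMonoidalCategory MonObj AlgebraicGeometry
open GrpObj Groth.Agent.S12113

theorem alg_central {E Gp P : Type*} [Group E] [Group Gp] [Group P]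
    (hcomm : ∀ a b : Gp, a * b = b * a) (U : Gp →* E)
    (hinj : Function.Injective U) (C : E → Gp → Gp)
    (hC : ∀ x g, x * U g * x⁻¹ = U (C x g)) :
    (∀ x h g, C (x * U h) g = C x g) ∧ (∀ x, C x 1 = 1) ∧ (∀ g, C 1 g = g) := by
  refine ⟨?_, ?_, ?_⟩
  · intro x h g
    apply hinj
    rw [← hC, ← hC]
    have e : x * U h * U g * (x * U h)⁻¹ = x * U (h * g * h⁻¹) * x⁻¹ := by
      rw [map_mul, map_mul, map_inv]; group
    rw [e, hcomm h g, mul_inv_cancel_right]
  · intro x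
    apply hinj
    rw [← hC, map_one]; group
  · intro g
    apply hinj
    rw [← hC]; group

theorem alg_comm {E Gp : Type*} [Group E] [Group Gp] (U : Gp →* E)
    (hinj : Function.Injective U) (hcen : ∀ g x, U g * x = x * U g) (D : E → E → Gp)
    (hD : ∀ x y, x * y * x⁻¹ * y⁻¹ = U (D x y)) :
    (∀ x y g, D (x * U g) y = D x y) ∧ (∀ x y g, D x (y * U g) = D x y) ∧ (∀ x, D x 1 = 1) ∧
      (∀ y, D 1 y = 1) := by
  refine ⟨?_, ?_, ?_, ?_⟩
  · intro x y g
    apply hinj
    rw [← hD, ← hD]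
    have e : x * U g * y * (x * U g)⁻¹ * y⁻¹ = x * (U g * y) * (U g)⁻¹ * x⁻¹ * y⁻¹ := by group
    rw [e, hcen g y]; group
  · intro x y g
    apply hinj
    rw [← hD, ← hD]
    have e : x * (y * U g) * x⁻¹ * (y * U g)⁻¹ = x * y * (U g * x⁻¹) * (U g)⁻¹ * y⁻¹ := by group
    rw [e, hcen g x⁻¹]; group
  · intro x
    apply hinj
    rw [← hD, map_one]; group
  · intro y
    apply hinj
    rw [← hD, map_one]; group

theorem main (S : Scheme.{u})
    (P G E : Over S) [GrpObj P] [GrpObj G] [GrpObj E] [IsCommMonObj G]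
    (u : G ⟶ E) (v : E ⟶ P) (hex : NonAbH1.IsExactSeq Scheme.fppfPrecoverage u v)
    (hPG : ∀ f : P ⊗ G ⟶ G, lift (𝟙 P) (toUnit P ≫ η[G]) ≫ f = 1 → lift (toUnit G ≫ η[P]) (𝟙 G) ≫ f = 1 → f = 1) :
    (∀ (T : Over S) (g : T ⟶ G) (x : T ⟶ E), (g ≫ u) * x = x * (g ≫ u)) ∧
      (IsCommMonObj P →
        (∀ f : P ⊗ P ⟶ G, lift (𝟙 P) (toUnit P ≫ η[P]) ≫ f = 1 → lift (toUnit P ≫ η[P]) (𝟙 P) ≫ f = 1 → f = 1) →
          IsCommMonObj E) := by
  obtain ⟨hu_hom, hv_hom, huv, hpb, hloc⟩ := hex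
  haveI := hu_hom
  haveI := hv_hom
  have hsplit : LocSplit v.left := LocSplit.of_fppf hloc
  haveI := hsplit.epi
  have K2 : ∀ {Z : Over S} (a b : Z ⟶ E), a ≫ v = b ≫ v → ∃ m : Z ⟶ G, b = a * (m ≫ u) := by
    intro Z a b h
    obtain ⟨l, hl1, hl2⟩ := hpb.exists_lift a b h
    refine ⟨l ≫ snd E G, ?_⟩
    have hl : l = lift a (l ≫ snd E G) := by
      apply CartesianMonoidalCategory.hom_ext
      · rw [lift_fst, hl1]
      · rw [lift_snd]
    rw [← hl2, hl, lift_whiskerLeft_assoc, ← Hom.mul_def, lift_snd]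
  have hK : ∀ {Z : Over S} (b : Z ⟶ E), b ≫ v = 1 → ∃ m : Z ⟶ G, b = m ≫ u := by
    intro Z b hb
    obtain ⟨m, hm⟩ := K2 (1 : Z ⟶ E) b (by rw [MonObj.one_comp]; exact hb.symm)
    exact ⟨m, by rw [hm, _root_.one_mul]⟩
  have hinj : ∀ {Z : Over S} (m m' : Z ⟶ G), m ≫ u = m' ≫ u → m = m' := by
    intro Z m m' h
    have : lift (1 : Z ⟶ E) m = lift (1 : Z ⟶ E) m' := by
      apply hpb.hom_ext
      · rw [lift_fst, lift_fst]
      · rw [lift_whiskerLeft_assoc, lift_whiskerLeft_assoc, h]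
    have := congrArg (fun t => t ≫ snd E G) this
    simpa using this
  have hVU : ∀ {Z : Over S} (g : Z ⟶ G), (g ≫ u) ≫ v = 1 := by
    intro Z g
    rw [Category.assoc, huv, MonObj.comp_one]
  -- conjugation
  obtain ⟨ct, hct⟩ := hK (fst E G * (snd E G ≫ u) * (fst E G)⁻¹) (by
    change IsMonHom.monoidHom v _ _ = 1
    rw [map_mul, map_mul, map_inv]
    have : IsMonHom.monoidHom v _ (snd E G ≫ u) = 1 := hVU _
    rw [this, _root_.mul_one, mul_inv_cancel])
  have hC : ∀ {Z : Over S} (x : Z ⟶ E) (g : Z ⟶ G),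
      x * (g ≫ u) * x⁻¹ = (lift x g ≫ ct) ≫ u := by
    intro Z x g
    have := congrArg (fun t => lift x g ≫ t) hct
    rw [MonObj.comp_mul, MonObj.comp_mul, GrpObj.comp_inv, lift_fst, lift_snd_assoc,
      ← Category.assoc] at this
    exact this
  have hcen0 : ∀ {Z : Over S}, (∀ (x : Z ⟶ E) (h g : Z ⟶ G),
      lift (x * (h ≫ u)) g ≫ ct = lift x g ≫ ct) ∧ (∀ x : Z ⟶ E, lift x (1 : Z ⟶ G) ≫ ct = 1) ∧
      (∀ g : Z ⟶ G, lift (1 : Z ⟶ E) g ≫ ct = g) := by
    intro Z
    exact alg_central (P := (Z ⟶ P)) (fun a b => mul_comm a b) (IsMonHom.monoidHom u Z)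
      (fun m m' h => hinj m m' h) (fun x g => lift x g ≫ ct) (fun x g => hC x g)
  obtain ⟨c, hc⟩ := LocSplit.desc (hsplit.whiskerRight G) ct (by
    intro Z a b hab
    have e1 : a = lift (a ≫ fst E G) (a ≫ snd E G) := by
      apply CartesianMonoidalCategory.hom_ext <;> simp
    have e2 : b = lift (b ≫ fst E G) (b ≫ snd E G) := by
      apply CartesianMonoidalCategory.hom_ext <;> simp
    have h1 : (a ≫ fst E G) ≫ v = (b ≫ fst E G) ≫ v := by
      have := congrArg (fun m => m ≫ fst P G) hab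
      simpa using this
    have h2 : a ≫ snd E G = b ≫ snd E G := by
      have := congrArg (fun m => m ≫ snd P G) hab
      simp only [Category.assoc, whiskerRight_snd] at this
      exact this
    obtain ⟨m, hm⟩ := K2 _ _ h1
    rw [e1, e2, hm, ← h2, hcen0.1])
  have hcsnd : c = snd P G := by
    have hf := hPG (c * (snd P G)⁻¹) (by
      rw [MonObj.comp_mul, GrpObj.comp_inv, lift_snd, ← Hom.one_def, inv_one, _root_.mul_one,
        ← cancel_epi v, MonObj.comp_one]
      have e : v ≫ lift (𝟙 P) (1 : P ⟶ G) = lift (𝟙 E) (1 : E ⟶ G) ≫ (v ▷ G) := by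
        rw [lift_whiskerRight, comp_lift, Category.id_comp, Category.comp_id, MonObj.comp_one]
      rw [← Category.assoc, e, Category.assoc, hc, hcen0.2.1]) (by
      rw [MonObj.comp_mul, GrpObj.comp_inv, lift_snd, ← Hom.one_def]
      have e : lift (1 : G ⟶ P) (𝟙 G) = lift (1 : G ⟶ E) (𝟙 G) ≫ (v ▷ G) := by
        rw [lift_whiskerRight, MonObj.one_comp]
      rw [e, Category.assoc, hc, hcen0.2.2, mul_inv_cancel])
    exact mul_inv_eq_one.1 hf
  have hcen : ∀ (T : Over S) (g : T ⟶ G) (x : T ⟶ E), (g ≫ u) * x = x * (g ≫ u) := by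
    intro T g x
    have h1 := hC x g
    have h2 : lift x g ≫ ct = g := by
      rw [← hc, hcsnd, ← Category.assoc, lift_whiskerRight, lift_snd]
    rw [h2] at h1
    calc (g ≫ u) * x = (x * (g ≫ u) * x⁻¹) * x := by rw [h1]
      _ = x * (g ≫ u) := by group
  refine ⟨hcen, ?_⟩
  intro hPc hPP
  haveI := hPc
  -- commutator
  obtain ⟨dt, hdt⟩ := hK (fst E E * snd E E * (fst E E)⁻¹ * (snd E E)⁻¹) (by
    change IsMonHom.monoidHom v _ _ = 1
    rw [map_mul, map_mul, map_mul, map_inv, map_inv]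
    rw [mul_comm (IsMonHom.monoidHom v _ (fst E E)) (IsMonHom.monoidHom v _ (snd E E))]
    group)
  have hD : ∀ {Z : Over S} (x y : Z ⟶ E),
      x * y * x⁻¹ * y⁻¹ = (lift x y ≫ dt) ≫ u := by
    intro Z x y
    have := congrArg (fun t => lift x y ≫ t) hdt
    rw [MonObj.comp_mul, MonObj.comp_mul, MonObj.comp_mul, GrpObj.comp_inv, GrpObj.comp_inv,
      lift_fst, lift_snd, ← Category.assoc] at this
    exact this
  have hD0 : ∀ {Z : Over S}, (∀ (x y : Z ⟶ E) (g : Z ⟶ G),
      lift (x * (g ≫ u)) y ≫ dt = lift x y ≫ dt) ∧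
      (∀ (x y : Z ⟶ E) (g : Z ⟶ G), lift x (y * (g ≫ u)) ≫ dt = lift x y ≫ dt) ∧
      (∀ x : Z ⟶ E, lift x (1 : Z ⟶ E) ≫ dt = 1) ∧ (∀ y : Z ⟶ E, lift (1 : Z ⟶ E) y ≫ dt = 1) := by
    intro Z
    exact alg_comm (IsMonHom.monoidHom u Z) (fun m m' h => hinj m m' h) (fun g x => hcen Z g x)
      (fun x y => lift x y ≫ dt) (fun x y => hD x y)
  obtain ⟨d, hd⟩ := LocSplit.desc₂ hsplit hsplit dt (by
    intro Z a b a' b' hab hab'
    obtain ⟨m, rfl⟩ := K2 a b hab
    obtain ⟨m', rfl⟩ := K2 a' b' hab'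
    rw [hD0.1, hD0.2.1])
  have hax1 : lift (𝟙 P) (toUnit P ≫ η[P]) ≫ d = 1 := by
    rw [← cancel_epi v, MonObj.comp_one]
    have e : v ≫ lift (𝟙 P) (toUnit P ≫ η[P]) = lift (𝟙 E) (1 : E ⟶ E) ≫ (v ⊗ₘ v) := by
      rw [lift_map, comp_lift, Category.id_comp, Category.comp_id, MonObj.one_comp, Hom.one_def,
        ← Category.assoc, toUnit_unique (v ≫ toUnit P) (toUnit E)]
    rw [← Category.assoc, e, Category.assoc, hd, hD0.2.2.1]
  have hax2 : lift (toUnit P ≫ η[P]) (𝟙 P) ≫ d = 1 := by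
    rw [← cancel_epi v, MonObj.comp_one]
    have e : v ≫ lift (toUnit P ≫ η[P]) (𝟙 P) = lift (1 : E ⟶ E) (𝟙 E) ≫ (v ⊗ₘ v) := by
      rw [lift_map, comp_lift, Category.id_comp, Category.comp_id, MonObj.one_comp, Hom.one_def,
        ← Category.assoc, toUnit_unique (v ≫ toUnit P) (toUnit E)]
    rw [← Category.assoc, e, Category.assoc, hd, hD0.2.2.2]
  have hd1 : d = 1 := hPP d hax1 hax2
  have hdt1 : dt = 1 := by rw [← hd, hd1, MonObj.comp_one]
  rw [isCommMonObj_iff_isMulCommutative]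
  intro Z
  refine ⟨⟨fun x y => ?_⟩⟩
  have := hD x y
  rw [hdt1, MonObj.comp_one, MonObj.one_comp] at this
  have h3 : x * y = y * x := by
    have : x * y * x⁻¹ * y⁻¹ * (y * x) = 1 * (y * x) := by rw [this]
    rw [_root_.one_mul] at this
    rw [← this]; group
  exact h3


end


/-- For group schemes over a base scheme S (the representable case on the fppf site): let P and G be
S-group schemes with G commutative, and u : G → E, v : E → P homomorphisms of S-group schemes
forming a sequence 1 → G → E → P → 1 exact for the fppf topology. Suppose every morphism of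
S-schemes P ×_S G → G whose restrictions to P × e_G and to e_P × G are trivial is trivial. Then u(G)
is central in E: for all points g of G and x of E with values in any S-scheme, u(g) x = x u(g). If
moreover P is commutative and every morphism of S-schemes P ×_S P → G trivial on P × e_P and on e_P
× P is trivial, then E is commutative. (The published statement is for sheaves of groups on an
arbitrary topos; this row is its case of representable sheaves on the fppf site of S. Morphisms to G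
form a group; trivial means equal to its unit.) -/
theorem result (S : Scheme.{u})
    (P G E : Over S) [GrpObj P] [GrpObj G] [GrpObj E] [IsCommMonObj G]
    (u : G ⟶ E) (v : E ⟶ P) (hex : NonAbH1.IsExactSeq Scheme.fppfPrecoverage u v)
    (hPG : ∀ f : P ⊗ G ⟶ G, lift (𝟙 P) (toUnit P ≫ η[G]) ≫ f = 1 → lift (toUnit G ≫ η[P]) (𝟙 G) ≫ f = 1 → f = 1) :
    (∀ (T : Over S) (g : T ⟶ G) (x : T ⟶ E), (g ≫ u) * x = x * (g ≫ u)) ∧
      (IsCommMonObj P →
        (∀ f : P ⊗ P ⟶ G, lift (𝟙 P) (toUnit P ≫ η[P]) ≫ f = 1 → lift (toUnit P ≫ η[P]) (𝟙 P) ≫ f = 1 → f = 1) →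
          IsCommMonObj E) := by
  classical
  exact main S P G E u v hex hPG

end Groth.Agent.S8718
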