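import Groth.Statements.S8719
import Groth.Agent.Lib.Helper8.MvPSLocal

set_option autoImplicit false
universe u
open VanCyc

namespace Groth.Agent.S8719


section aux

open MvPowerSeries Groth.Agent.Helper8

variable {k : Type u} [Field k] {N : ℕ}

theorem coeff_single_mul_X (h : MvPowerSeries (Fin N) k) (i l : Fin N) :
    coeff (Finsupp.single l 1) (h * X i) = if i = l then constantCoeff h else 0 := by
  classical
  split_ifs with hil
  · subst hil
    have := coeff_add_mul_monomial (R := k) (m := (0 : Fin N →₀ ℕ)) (n := Finsupp.single i 1)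
      (φ := h) (1 : k)
    rw [zero_add, mul_one, ← X_def] at this
    rw [this, coeff_zero_eq_constantCoeff_apply]
  · have hd : (X i : MvPowerSeries (Fin N) k) ∣ h * X i := Dvd.intro_left h rfl
    exact (X_dvd_iff.mp hd) _ (by simp [Finsupp.single_apply, Ne.symm hil])

theorem mem_sq_of_coeff (g : MvPowerSeries (Fin N) k) (h0 : constantCoeff g = 0)
    (h1 : ∀ l : Fin N, coeff (Finsupp.single l 1) g = 0) :
    g ∈ IsLocalRing.maximalIdeal (MvPowerSeries (Fin N) k) *
      IsLocalRing.maximalIdeal (MvPowerSeries (Fin N) k) := by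
  classical
  have hg := mvPowerSeries_mem_span_range_X g h0
  rw [Ideal.mem_span_range_iff_exists_fun] at hg
  obtain ⟨h, hh⟩ := hg
  have hh' : ∑ i, h i * (X i : MvPowerSeries (Fin N) k) = g := hh
  rw [← hh']
  refine Ideal.sum_mem _ fun i _ => ?_
  refine Ideal.mul_mem_mul ?_ ?_
  · rw [mvPowerSeries_mem_maximalIdeal_iff (Fin N) k]
    have := h1 i
    rw [← hh', map_sum, Finset.sum_eq_single i] at this
    · rwa [coeff_single_mul_X, if_pos rfl] at this
    · intro j _ hj
      rw [coeff_single_mul_X, if_neg hj]
    · intro hi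
      exact absurd (Finset.mem_univ i) hi
  · rw [mvPowerSeries_mem_maximalIdeal_iff (Fin N) k, constantCoeff_X]

theorem coeff_single_pderiv (f : MvPowerSeries (Fin N) k) (i l : Fin N) :
    coeff (Finsupp.single l 1) (pderiv k i f) =
      VanCyc.polarMatrix (VanCyc.quadPart f) i l := by
  classical
  rw [coeff_pderiv]
  unfold VanCyc.polarMatrix VanCyc.quadPart
  rcases lt_trichotomy i l with h | h | h
  · have hne : i ≠ l := ne_of_lt h
    have hne' : l ≠ i := Ne.symm hne
    simp only [if_neg hne, if_pos h, Finsupp.single_apply, if_neg hne']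
    rw [add_comm (Finsupp.single l 1)]
    simp
  · subst h
    simp only [if_pos rfl, Finsupp.single_apply]
    rw [← Finsupp.single_add]
    norm_num
    ring
  · have hne : i ≠ l := ne_of_gt h
    have hne' : l ≠ i := Ne.symm hne
    have hnl : ¬ i < l := not_lt.mpr h.le
    simp only [if_neg hne, if_neg hnl, if_pos h, if_neg hne', Finsupp.single_apply]
    simp

theorem sub_lin_mem_sq (f : MvPowerSeries (Fin N) k) (hf : VanCyc.NoLowTerms f) (i : Fin N) :
    pderiv k i f - ∑ l, C (VanCyc.polarMatrix (VanCyc.quadPart f) i l) *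
        (X l : MvPowerSeries (Fin N) k) ∈
      IsLocalRing.maximalIdeal (MvPowerSeries (Fin N) k) *
        IsLocalRing.maximalIdeal (MvPowerSeries (Fin N) k) := by
  classical
  apply mem_sq_of_coeff
  · rw [map_sub, map_sum]
    have h1 : constantCoeff (pderiv k i f) = 0 := by
      rw [← coeff_zero_eq_constantCoeff_apply, coeff_pderiv]
      simp [hf.2 i]
    rw [h1, zero_sub, neg_eq_zero]
    refine Finset.sum_eq_zero fun l _ => ?_
    rw [map_mul, constantCoeff_X, mul_zero]
  · intro l'
    rw [map_sub, map_sum, coeff_single_pderiv, sub_eq_zero, Finset.sum_eq_single l']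
    · rw [coeff_single_mul_X, if_pos rfl, constantCoeff_C]
    · intro j _ hj
      rw [coeff_single_mul_X, if_neg hj]
    · intro h
      exact absurd (Finset.mem_univ _) h

end aux

open MvPowerSeries Groth.Agent.Helper8 in
/-- The formal computation carried out in its proof: let k be a field and f a power series in k[[x_0,
..., x_n]] with vanishing constant and linear terms whose degree-two part is a non-degenerate
quadratic form (the Gram determinant of its polar bilinear form is a unit). Then the partial
derivatives of f generate the maximal ideal of k[[x_0, ..., x_n]] (so f together with its partial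
derivatives cut out the origin with multiplicity one). -/
theorem result (k : Type u) [Field k] (n : ℕ)
    (f : MvPowerSeries (Fin (n + 1)) k) (hf : VanCyc.NondegQuadSeries f) :
    Ideal.span (Set.range fun i : Fin (n + 1) => MvPowerSeries.pderiv k i f) =
      IsLocalRing.maximalIdeal (MvPowerSeries (Fin (n + 1)) k) := by
  classical
  obtain ⟨hlow, hnd⟩ := hf
  have hdet : IsUnit (VanCyc.polarMatrix (VanCyc.quadPart f)).det := hnd
  have hQP : (VanCyc.polarMatrix (VanCyc.quadPart f))⁻¹ * VanCyc.polarMatrix (VanCyc.quadPart f) = 1 :=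
    Matrix.nonsing_inv_mul _ hdet
  generalize hPdef : VanCyc.polarMatrix (VanCyc.quadPart f) = P at hQP
  have hsq : ∀ i, pderiv k i f - ∑ l, C (P i l) * (X l : MvPowerSeries (Fin (n + 1)) k) ∈
      IsLocalRing.maximalIdeal (MvPowerSeries (Fin (n + 1)) k) *
        IsLocalRing.maximalIdeal (MvPowerSeries (Fin (n + 1)) k) := by
    intro i
    rw [← hPdef]
    exact sub_lin_mem_sq f hlow i
  apply le_antisymm
  · rw [Ideal.span_le]
    rintro _ ⟨i, rfl⟩
    rw [SetLike.mem_coe, mvPowerSeries_mem_maximalIdeal_iff (Fin (n + 1)) k,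
      ← coeff_zero_eq_constantCoeff_apply, coeff_pderiv]
    simp [hlow.2 i]
  · have hm := mvPowerSeries_maximalIdeal_eq (Fin (n + 1)) k
    have hfg : (IsLocalRing.maximalIdeal (MvPowerSeries (Fin (n + 1)) k)).FG := by
      rw [hm]
      exact Submodule.fg_span (Set.finite_range _)
    refine Submodule.le_of_le_smul_of_le_jacobson_bot hfg
      (IsLocalRing.maximalIdeal_le_jacobson ⊥) ?_
    refine hm.le.trans ?_
    rw [Ideal.span_le]
    rintro _ ⟨j, rfl⟩
    have h2 : ∑ i, C (P⁻¹ j i) * (∑ l, C (P i l) * (X l : MvPowerSeries (Fin (n + 1)) k)) = X j := by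
      simp only [Finset.mul_sum]
      rw [Finset.sum_comm]
      have h3 : ∀ l, ∑ i, C (P⁻¹ j i) * (C (P i l) * (X l : MvPowerSeries (Fin (n + 1)) k)) =
          C ((P⁻¹ * P) j l) * X l := by
        intro l
        rw [Matrix.mul_apply, map_sum, Finset.sum_mul]
        refine Finset.sum_congr rfl fun i _ => ?_
        rw [map_mul, mul_assoc]
      simp only [h3, hQP, Matrix.one_apply]
      rw [Finset.sum_eq_single j]
      · simp
      · intro l _ hl
        simp [Ne.symm hl]
      · intro h
        exact absurd (Finset.mem_univ _) h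
    have key : (X j : MvPowerSeries (Fin (n + 1)) k) = ∑ i, C (P⁻¹ j i) * pderiv k i f
        + -(∑ i, C (P⁻¹ j i) * (pderiv k i f - ∑ l, C (P i l) * (X l : MvPowerSeries (Fin (n + 1)) k))) := by
      simp only [mul_sub, Finset.sum_sub_distrib]
      rw [h2]
      ring
    show (X j : MvPowerSeries (Fin (n + 1)) k) ∈ _
    rw [key]
    refine Submodule.add_mem_sup ?_ (neg_mem ?_)
    · exact Ideal.sum_mem _ fun i _ => Ideal.mul_mem_left _ _ (Ideal.subset_span ⟨i, rfl⟩)
    · rw [smul_eq_mul]
      exact Ideal.sum_mem _ fun i _ => Ideal.mul_mem_left _ _ (hsq i)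

end Groth.Agent.S8719
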