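import Groth.Statements.S8720
import Mathlib
-- import your own Groth.Agent.* helpers here

set_option autoImplicit false
universe u
open VanCyc

namespace Groth.Agent.S8720

namespace Aux

open MvPowerSeries

variable {σ : Type*} {k : Type u} [Field k]

/-- "division" by a monomial -/
noncomputable def divPart (c : σ →₀ ℕ) (g : MvPowerSeries σ k) : MvPowerSeries σ k :=
  fun d => coeff (d + c) g

lemma coeff_divPart (c d : σ →₀ ℕ) (g : MvPowerSeries σ k) :
    coeff d (divPart c g) = coeff (d + c) g := rfl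

lemma coeff_sub_monomial_mul_divPart (c e : σ →₀ ℕ) (g : MvPowerSeries σ k) :
    coeff e (g - monomial c 1 * divPart c g) = if c ≤ e then 0 else coeff e g := by
  classical
  rw [map_sub, coeff_monomial_mul]
  split_ifs with h
  · rw [coeff_divPart, one_mul, tsub_add_cancel_of_le h, sub_self]
  · rw [sub_zero]

/-- monomial ideal membership -/
theorem mem_monomial_ideal (L : List (σ →₀ ℕ)) : ∀ (g : MvPowerSeries σ k),
    (∀ d, coeff d g ≠ 0 → ∃ c ∈ L, c ≤ d) →
    g ∈ Ideal.span {y : MvPowerSeries σ k | ∃ c ∈ L, y = monomial c 1} := by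
  induction L with
  | nil =>
    intro g hg
    have : g = 0 := by
      ext d
      by_contra h
      obtain ⟨c, hc, _⟩ := hg d h
      exact absurd hc List.not_mem_nil
    rw [this]; exact Submodule.zero_mem _
  | cons c L ih =>
    intro g hg
    have h1 : g - monomial c 1 * divPart c g ∈
        Ideal.span {y : MvPowerSeries σ k | ∃ c' ∈ L, y = monomial c' 1} := by
      apply ih
      intro d hd
      rw [coeff_sub_monomial_mul_divPart] at hd
      split_ifs at hd with h
      · exact absurd rfl hd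
      · obtain ⟨c', hc', hle⟩ := hg d hd
        rcases List.mem_cons.mp hc' with rfl | hc'
        · exact absurd hle h
        · exact ⟨c', hc', hle⟩
    have h2 : monomial c 1 * divPart c g ∈
        Ideal.span {y : MvPowerSeries σ k | ∃ c' ∈ c :: L, y = monomial c' 1} :=
      Ideal.mul_mem_right _ _ (Ideal.subset_span ⟨c, List.mem_cons_self, rfl⟩)
    have h3 : Ideal.span {y : MvPowerSeries σ k | ∃ c' ∈ L, y = monomial c' 1} ≤
        Ideal.span {y : MvPowerSeries σ k | ∃ c' ∈ c :: L, y = monomial c' 1} :=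
      Ideal.span_mono fun y ⟨c', hc', hy⟩ => ⟨c', List.mem_cons_of_mem _ hc', hy⟩
    have : g = (g - monomial c 1 * divPart c g) + monomial c 1 * divPart c g := by ring
    rw [this]
    exact Ideal.add_mem _ (h3 h1) h2


theorem mem_monomial_ideal_finset (s : Finset (σ →₀ ℕ)) (g : MvPowerSeries σ k)
    (hg : ∀ d, coeff d g ≠ 0 → ∃ c ∈ s, c ≤ d) :
    g ∈ Ideal.span {y : MvPowerSeries σ k | ∃ c ∈ s, y = monomial c 1} := by
  have := mem_monomial_ideal s.toList g (fun d hd => by
    obtain ⟨c, hc, hle⟩ := hg d hd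
    exact ⟨c, Finset.mem_toList.mpr hc, hle⟩)
  refine Ideal.span_mono ?_ this
  rintro y ⟨c, hc, rfl⟩
  exact ⟨c, Finset.mem_toList.mp hc, rfl⟩

section specific

variable {m : ℕ}

local notation "τ" => Fin m ⊕ Fin m

/-- the ideal J' -/
noncomputable abbrev Jp (k : Type u) [Field k] (m : ℕ) : Ideal (MvPowerSeries (Option (Fin m ⊕ Fin m)) k) :=
  Ideal.span ({MvPowerSeries.X none ^ 2} ∪
    Set.range fun j : Fin m ⊕ Fin m => (MvPowerSeries.X (some j) : MvPowerSeries (Option (Fin m ⊕ Fin m)) k))

lemma X0sq_mem : (X none ^ 2 : MvPowerSeries (Option τ) k) ∈ Jp k m :=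
  Ideal.subset_span (Or.inl rfl)

lemma Xj_mem (j : τ) : (X (some j) : MvPowerSeries (Option τ) k) ∈ Jp k m :=
  Ideal.subset_span (Or.inr ⟨j, rfl⟩)

/-- exponent vectors supported on `none` -/
lemma eq_single_none_of_forall {d : Option τ →₀ ℕ} (h : ∀ j : τ, d (some j) = 0) :
    d = Finsupp.single none (d none) := by
  ext a
  cases a with
  | none => simp
  | some j => simp [h j]

noncomputable def Lp (m : ℕ) : Finset (Option (Fin m ⊕ Fin m) →₀ ℕ) :=
  insert (Finsupp.single none 2) (Finset.univ.image fun j : Fin m ⊕ Fin m => Finsupp.single (some j) 1)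

lemma span_Lp_le : Ideal.span {y : MvPowerSeries (Option τ) k | ∃ c ∈ Lp m, y = monomial c 1} ≤ Jp k m := by
  rw [Ideal.span_le]
  rintro y ⟨c, hc, rfl⟩
  rw [Lp, Finset.mem_insert, Finset.mem_image] at hc
  rcases hc with rfl | ⟨j, _, rfl⟩
  · rw [← X_pow_eq]; exact X0sq_mem
  · rw [← X_def]; exact Xj_mem j

/-- Lemma A -/
theorem lemmaA (g : MvPowerSeries (Option τ) k) (h0 : coeff 0 g = 0)
    (h1 : coeff (Finsupp.single none 1) g = 0) : g ∈ Jp k m := by
  apply span_Lp_le
  apply mem_monomial_ideal_finset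
  intro d hd
  by_cases hj : ∃ j : τ, d (some j) ≠ 0
  · obtain ⟨j, hj⟩ := hj
    refine ⟨Finsupp.single (some j) 1, ?_, ?_⟩
    · rw [Lp, Finset.mem_insert]
      exact Or.inr (Finset.mem_image.mpr ⟨j, Finset.mem_univ _, rfl⟩)
    · rw [Finsupp.single_le_iff]; omega
  · push Not at hj
    have hd' := eq_single_none_of_forall hj
    refine ⟨Finsupp.single none 2, ?_, ?_⟩
    · rw [Lp, Finset.mem_insert]; exact Or.inl rfl
    · rw [Finsupp.single_le_iff]
      by_contra hlt
      have : d none = 0 ∨ d none = 1 := by omega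
      rcases this with h | h
      · rw [h, Finsupp.single_zero] at hd'
        rw [hd'] at hd; exact hd h0
      · rw [h] at hd'
        rw [hd'] at hd; exact hd h1

noncomputable def Lpp (m : ℕ) : Finset (Option (Fin m ⊕ Fin m) →₀ ℕ) :=
  ((Finset.univ : Finset (Option (Fin m ⊕ Fin m))) ×ˢ Lp m).image
    (fun p => Finsupp.single p.1 1 + p.2)

lemma X_mem_max (a : Option τ) :
    (X a : MvPowerSeries (Option τ) k) ∈ IsLocalRing.maximalIdeal (MvPowerSeries (Option τ) k) := by
  rw [IsLocalRing.mem_maximalIdeal, mem_nonunits_iff, MvPowerSeries.isUnit_iff_constantCoeff,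
    constantCoeff_X]
  exact not_isUnit_zero

lemma span_Lpp_le : Ideal.span {y : MvPowerSeries (Option τ) k | ∃ c ∈ Lpp m, y = monomial c 1} ≤
    IsLocalRing.maximalIdeal (MvPowerSeries (Option τ) k) * Jp k m := by
  rw [Ideal.span_le]
  rintro y ⟨c, hc, rfl⟩
  rw [Lpp, Finset.mem_image] at hc
  obtain ⟨⟨a, c'⟩, hac, rfl⟩ := hc
  rw [Finset.mem_product] at hac
  have : (monomial (Finsupp.single a 1 + c') (1 : k) : MvPowerSeries (Option τ) k) =
      X a * monomial c' 1 := by
    rw [X_def, monomial_mul_monomial, one_mul]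
  rw [this]
  apply Ideal.mul_mem_mul (X_mem_max a)
  exact span_Lp_le (Ideal.subset_span ⟨c', hac.2, rfl⟩)

/-- Lemma B -/
theorem lemmaB (g : MvPowerSeries (Option τ) k) (h1 : ∀ d, d.degree ≤ 1 → coeff d g = 0)
    (h2 : coeff (Finsupp.single none 2) g = 0) :
    g ∈ IsLocalRing.maximalIdeal (MvPowerSeries (Option τ) k) * Jp k m := by
  apply span_Lpp_le
  apply mem_monomial_ideal_finset
  intro d hd
  have hdeg : 2 ≤ d.degree := by
    by_contra hlt
    exact hd (h1 d (by omega))
  by_cases hj : ∃ j : τ, d (some j) ≠ 0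
  · obtain ⟨j, hj⟩ := hj
    have hle : Finsupp.single (some j) 1 ≤ d := by rw [Finsupp.single_le_iff]; omega
    set d' := d - Finsupp.single (some j) 1 with hd'
    have hdd : d' + Finsupp.single (some j) 1 = d := tsub_add_cancel_of_le hle
    have hd'0 : d' ≠ 0 := by
      intro h0
      rw [h0, zero_add] at hdd
      rw [← hdd, Finsupp.degree_single] at hdeg
      omega
    obtain ⟨a, ha⟩ : ∃ a, d' a ≠ 0 := by
      by_contra hall
      push Not at hall
      exact hd'0 (Finsupp.ext hall)
    refine ⟨Finsupp.single a 1 + Finsupp.single (some j) 1, ?_, ?_⟩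
    · rw [Lpp, Finset.mem_image]
      refine ⟨(a, Finsupp.single (some j) 1), ?_, rfl⟩
      rw [Finset.mem_product, Lp, Finset.mem_insert]
      exact ⟨Finset.mem_univ _, Or.inr (Finset.mem_image.mpr ⟨j, Finset.mem_univ _, rfl⟩)⟩
    · rw [← hdd]
      apply add_le_add_left
      rw [Finsupp.single_le_iff]; omega
  · push Not at hj
    have hd' := eq_single_none_of_forall hj
    have h3 : 3 ≤ d none := by
      have hdn : d.degree = d none := by rw [hd', Finsupp.degree_single]; simp
      by_contra hlt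
      have : d none = 2 := by omega
      rw [this] at hd'
      rw [hd'] at hd; exact hd h2
    refine ⟨Finsupp.single none 1 + Finsupp.single none 2, ?_, ?_⟩
    · rw [Lpp, Finset.mem_image]
      refine ⟨(none, Finsupp.single none 2), ?_, rfl⟩
      rw [Finset.mem_product, Lp, Finset.mem_insert]
      exact ⟨Finset.mem_univ _, Or.inl rfl⟩
    · rw [← Finsupp.single_add, Finsupp.single_le_iff]; omega


/-- the quadratic part -/
noncomputable def qq (k : Type u) [Field k] (m : ℕ) : MvPowerSeries (Option (Fin m ⊕ Fin m)) k :=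
  MvPowerSeries.X none ^ 2 +
    ∑ i : Fin m, MvPowerSeries.X (some (Sum.inl i)) * MvPowerSeries.X (some (Sum.inr i))

noncomputable def bilin (k : Type u) [Field k] (m : ℕ) : MvPowerSeries (Option (Fin m ⊕ Fin m)) k :=
  ∑ i : Fin m, MvPowerSeries.X (some (Sum.inl i)) * MvPowerSeries.X (some (Sum.inr i))

lemma bilin_mem : bilin k m ∈ IsLocalRing.maximalIdeal (MvPowerSeries (Option τ) k) * Jp k m :=
  Ideal.sum_mem _ fun i _ => Ideal.mul_mem_mul (X_mem_max _) (Xj_mem _)

lemma pderiv_none_qq [CharP k 2] : pderiv k none (qq k m) = 0 := by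
  classical
  rw [qq, map_add, map_sum, Derivation.leibniz_pow, pderiv_X_self]
  have h2 : (2 : MvPowerSeries (Option τ) k) = 0 := by
    rw [← map_ofNat (MvPowerSeries.C (σ := Option τ) (R := k)) 2, CharTwo.two_eq_zero, map_zero]
  rw [Finset.sum_eq_zero, add_zero]
  · rw [nsmul_eq_mul]; push_cast; rw [h2, zero_mul]
  · intro i _
    rw [Derivation.leibniz, pderiv_X_of_ne (by simp), pderiv_X_of_ne (by simp), smul_zero, smul_zero,
      add_zero]

lemma pderiv_some_qq (j : τ) : pderiv k (some j) (qq k m) = X (some j.swap) := by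
  classical
  rw [qq, map_add, map_sum, Derivation.leibniz_pow, pderiv_X_of_ne (by simp), smul_zero, smul_zero,
    zero_add]
  simp only [Derivation.leibniz, pderiv_X, smul_eq_mul]
  cases j with
  | inl i =>
    rw [Finset.sum_eq_single i]
    · simp
    · intro l _ hl
      have : (some (Sum.inl i) : Option τ) ≠ some (Sum.inl l) := by
        intro h; apply hl; simpa using h.symm
      simp [Pi.single_eq_of_ne' this]
    · intro h; exact absurd (Finset.mem_univ i) h
  | inr i =>
    rw [Finset.sum_eq_single i]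
    · simp
    · intro l _ hl
      have : (some (Sum.inr i) : Option τ) ≠ some (Sum.inr l) := by
        intro h; apply hl; simpa using h.symm
      simp [Pi.single_eq_of_ne' this]
    · intro h; exact absurd (Finset.mem_univ i) h


/-- coefficients of products vanish below -/
lemma coeff_mul_eq_zero_of_le {σ : Type*} (n : σ →₀ ℕ) (a g : MvPowerSeries σ k)
    (hg : ∀ d ≤ n, coeff d g = 0) : coeff n (a * g) = 0 := by
  classical
  rw [coeff_mul]
  apply Finset.sum_eq_zero
  intro p hp
  have hp' : p.1 + p.2 = n := Finset.HasAntidiagonal.mem_antidiagonal.mp hp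
  have : p.2 ≤ n := by rw [← hp']; exact le_add_self
  rw [hg p.2 this, mul_zero]

lemma Jp_coeff (g : MvPowerSeries (Option τ) k) (hg : g ∈ Jp k m) :
    ∀ d ≤ Finsupp.single (none : Option τ) 1, coeff d g = 0 := by
  classical
  induction hg using Submodule.span_induction with
  | mem x hx =>
    intro d hd
    rcases hx with rfl | ⟨j, rfl⟩
    · rw [coeff_X_pow, if_neg]
      intro h
      have := Finsupp.le_def.mp hd none
      rw [h] at this
      simp at this
    · rw [coeff_X, if_neg]
      intro h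
      have := Finsupp.le_def.mp hd (some j)
      rw [h] at this
      simp at this
  | zero => intro d _; rw [map_zero]
  | add x y _ _ hx hy => intro d hd; rw [map_add, hx d hd, hy d hd, add_zero]
  | smul a x _ hx =>
    intro d hd
    rw [smul_eq_mul]
    exact coeff_mul_eq_zero_of_le d a x (fun d' hd' => hx d' (le_trans hd' hd))

section mainproof

variable [CharP k 2] (f : MvPowerSeries (Option (Fin m ⊕ Fin m)) k)
  (hf : ∀ d : Option (Fin m ⊕ Fin m) →₀ ℕ, d.degree < 3 →
      MvPowerSeries.coeff d f = MvPowerSeries.coeff d (qq k m))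

include hf

lemma hh_coeff (d : Option τ →₀ ℕ) (hd : d.degree < 3) : coeff d (f - qq k m) = 0 := by
  rw [map_sub, hf d hd, sub_self]

lemma coeff_pderiv_hh (a : Option τ) (d : Option τ →₀ ℕ) (hd : d.degree < 2) :
    coeff d (pderiv k a (f - qq k m)) = 0 := by
  rw [coeff_pderiv, hh_coeff f hf, zero_mul]
  rw [map_add, Finsupp.degree_single]
  omega

lemma hh_mem_mJ : f - qq k m ∈ IsLocalRing.maximalIdeal (MvPowerSeries (Option τ) k) * Jp k m := by
  apply lemmaB
  · intro d hd; exact hh_coeff f hf d (by omega)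
  · exact hh_coeff f hf _ (by rw [Finsupp.degree_single]; omega)

lemma pderiv_hh_mem_Jp (a : Option τ) : pderiv k a (f - qq k m) ∈ Jp k m := by
  apply lemmaA
  · exact coeff_pderiv_hh f hf a 0 (by simp)
  · exact coeff_pderiv_hh f hf a _ (by rw [Finsupp.degree_single]; omega)

lemma qq_mem_Jp : qq k m ∈ Jp k m := by
  rw [qq]
  exact Ideal.add_mem _ X0sq_mem (Ideal.sum_mem _ fun i _ => Ideal.mul_mem_left _ _ (Xj_mem _))

/-- J ≤ J' -/
lemma J_le : Ideal.span ({f} ∪ Set.range fun i : Option τ => MvPowerSeries.pderiv k i f) ≤ Jp k m := by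
  rw [Ideal.span_le]
  rintro y (rfl | ⟨a, rfl⟩)
  · have : y = (y - qq k m) + qq k m := by ring
    rw [this]
    have h1 : y - qq k m ∈ Jp k m :=
      (Ideal.mul_le_right : IsLocalRing.maximalIdeal _ * Jp k m ≤ Jp k m) (hh_mem_mJ y hf)
    exact Ideal.add_mem _ h1 (qq_mem_Jp y hf)
  · have : pderiv k a f = pderiv k a (f - qq k m) + pderiv k a (qq k m) := by
      rw [map_sub, sub_add_cancel]
    change pderiv k a f ∈ Jp k m
    rw [this]
    refine Ideal.add_mem _ (pderiv_hh_mem_Jp f hf a) ?_
    cases a with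
    | none => rw [pderiv_none_qq]; exact Submodule.zero_mem _
    | some j => rw [pderiv_some_qq]; exact Xj_mem _

lemma X0sq_mem_sup : (X none ^ 2 : MvPowerSeries (Option τ) k) ∈
    Ideal.span ({f} ∪ Set.range fun i : Option τ => MvPowerSeries.pderiv k i f) ⊔
      IsLocalRing.maximalIdeal (MvPowerSeries (Option τ) k) • Jp k m := by
  have : (X none ^ 2 : MvPowerSeries (Option τ) k) = f + (-(bilin k m) - (f - qq k m)) := by
    rw [qq, bilin]; ring
  rw [this]
  refine Submodule.add_mem_sup (Ideal.subset_span (Or.inl rfl)) ?_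
  rw [smul_eq_mul]
  exact Ideal.sub_mem _ (Ideal.neg_mem_iff _ |>.mpr bilin_mem) (hh_mem_mJ f hf)

lemma Xj_mem_sup (j : τ) : (X (some j) : MvPowerSeries (Option τ) k) ∈
    Ideal.span ({f} ∪ Set.range fun i : Option τ => MvPowerSeries.pderiv k i f) ⊔
      IsLocalRing.maximalIdeal (MvPowerSeries (Option τ) k) • Jp k m := by
  classical
  set a : Option τ := some j.swap with ha
  set c := coeff (Finsupp.single none 2) (pderiv k a (f - qq k m)) with hc
  set r := pderiv k a (f - qq k m) - C c * X none ^ 2 with hr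
  have hXj : (X (some j) : MvPowerSeries (Option τ) k) = pderiv k a f - (C c * X none ^ 2 + r) := by
    have h1 : pderiv k a (qq k m) = X (some j) := by
      rw [ha, pderiv_some_qq, Sum.swap_swap]
    rw [hr, ← h1, map_sub]; ring
  rw [hXj]
  refine Submodule.sub_mem _ (Submodule.mem_sup_left (Ideal.subset_span (Or.inr ⟨a, rfl⟩))) ?_
  refine Submodule.add_mem _ (Ideal.mul_mem_left _ _ (X0sq_mem_sup f hf)) ?_
  apply Submodule.mem_sup_right
  rw [smul_eq_mul]
  apply lemmaB
  · intro d hd
    rw [hr, map_sub, coeff_pderiv_hh f hf a d (by omega), coeff_C_mul, coeff_X_pow, if_neg,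
      mul_zero, sub_zero]
    intro h
    rw [h, Finsupp.degree_single] at hd
    omega
  · rw [hr, map_sub, coeff_C_mul, coeff_X_pow, if_pos rfl, mul_one, ← hc, sub_self]


lemma Jp_le : Jp k m ≤
    Ideal.span ({f} ∪ Set.range fun i : Option τ => MvPowerSeries.pderiv k i f) := by
  apply Submodule.le_of_le_smul_of_le_jacobson_bot
    (I := IsLocalRing.maximalIdeal (MvPowerSeries (Option τ) k))
  · apply Submodule.fg_span
    exact (Set.finite_singleton _).union (Set.finite_range _)
  · rw [IsLocalRing.jacobson_eq_maximalIdeal ⊥ bot_ne_top]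
  · change Ideal.span _ ≤ _
    rw [Ideal.span_le]
    rintro y (rfl | ⟨j, rfl⟩)
    · exact X0sq_mem_sup f hf
    · exact Xj_mem_sup f hf j

end mainproof

/-- the two-coefficient map -/
noncomputable def phi (k : Type u) [Field k] (m : ℕ) :
    MvPowerSeries (Option (Fin m ⊕ Fin m)) k →ₗ[k] k × k :=
  (MvPowerSeries.coeff (R := k) (0 : Option (Fin m ⊕ Fin m) →₀ ℕ)).prod
    (MvPowerSeries.coeff (R := k) (Finsupp.single (none : Option (Fin m ⊕ Fin m)) 1))

lemma phi_apply (g : MvPowerSeries (Option τ) k) :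
    phi k m g = (coeff 0 g, coeff (Finsupp.single (none : Option τ) 1) g) := rfl

lemma phi_surj : Function.Surjective (phi k m) := by
  classical
  rintro ⟨a, b⟩
  refine ⟨C a + C b * X none, ?_⟩
  rw [phi_apply, map_add, map_add, coeff_C_mul, coeff_C_mul, coeff_zero_C, coeff_zero_X, mul_zero,
    add_zero, coeff_X, if_pos rfl, mul_one, coeff_C, if_neg, zero_add]
  intro h
  have := DFunLike.congr_fun h none
  simp at this

lemma ker_phi : LinearMap.ker (phi k m) = (Jp k m).restrictScalars k := by
  ext g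
  rw [LinearMap.mem_ker, Submodule.restrictScalars_mem, phi_apply, Prod.mk_eq_zero]
  constructor
  · intro h
    exact lemmaA g h.1 h.2
  · intro h
    exact ⟨Jp_coeff g h 0 (by simp), Jp_coeff g h _ le_rfl⟩

lemma finrank_quot : Module.finrank k (MvPowerSeries (Option τ) k ⧸ Jp k m) = 2 := by
  have e1 : (MvPowerSeries (Option τ) k ⧸ (Jp k m).restrictScalars k) ≃ₗ[k]
      (MvPowerSeries (Option τ) k ⧸ Jp k m) := Submodule.Quotient.restrictScalarsEquiv k (Jp k m)
  have e2 : (MvPowerSeries (Option τ) k ⧸ LinearMap.ker (phi k m)) ≃ₗ[k] k × k :=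
    (phi k m).quotKerEquivOfSurjective phi_surj
  have e3 : (MvPowerSeries (Option τ) k ⧸ LinearMap.ker (phi k m)) ≃ₗ[k]
      (MvPowerSeries (Option τ) k ⧸ (Jp k m).restrictScalars k) :=
    Submodule.quotEquivOfEq _ _ ker_phi
  rw [← e1.finrank_eq, ← e3.finrank_eq, e2.finrank_eq, Module.finrank_prod, Module.finrank_self]

theorem main (k : Type u) [Field k] [CharP k 2] (m : ℕ)
    (f : MvPowerSeries (Option (Fin m ⊕ Fin m)) k)
    (hf : ∀ d : Option (Fin m ⊕ Fin m) →₀ ℕ, d.degree < 3 →
      MvPowerSeries.coeff d f = MvPowerSeries.coeff d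
        (MvPowerSeries.X none ^ 2 +
          ∑ i : Fin m, MvPowerSeries.X (some (Sum.inl i)) * MvPowerSeries.X (some (Sum.inr i)))) :
    Ideal.span ({f} ∪ Set.range fun i : Option (Fin m ⊕ Fin m) => MvPowerSeries.pderiv k i f) =
      Ideal.span ({MvPowerSeries.X none ^ 2} ∪
        Set.range fun j : Fin m ⊕ Fin m => (MvPowerSeries.X (some j) : MvPowerSeries (Option (Fin m ⊕ Fin m)) k)) ∧
    Module.finrank k (MvPowerSeries (Option (Fin m ⊕ Fin m)) k ⧸
      Ideal.span ({MvPowerSeries.X none ^ 2} ∪
        Set.range fun j : Fin m ⊕ Fin m => (MvPowerSeries.X (some j) : MvPowerSeries (Option (Fin m ⊕ Fin m)) k))) = 2 :=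
  ⟨le_antisymm (J_le f hf) (Jp_le f hf), finrank_quot⟩

end specific

end Aux

/-- The formal computation carried out in its proof: let k be a field of characteristic 2, m a natural
number, and f a power series over k in the variables x_0 and x_i, x_i' (i = 1, ..., m) whose terms
of degree less than 3 are exactly those of x_0^2 + x_1 x_1' + ... + x_m x_m'. Then the ideal
generated by f and all its partial derivatives is the ideal generated by x_0^2 and the x_i, x_i',
and the quotient of the power series ring by this ideal is two-dimensional over k. (Characteristic 2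
is what makes the derivative in x_0 lose its linear term.) -/
theorem result (k : Type u) [Field k] [CharP k 2] (m : ℕ)
    (f : MvPowerSeries (Option (Fin m ⊕ Fin m)) k)
    (hf : ∀ d : Option (Fin m ⊕ Fin m) →₀ ℕ, d.degree < 3 →
      MvPowerSeries.coeff d f = MvPowerSeries.coeff d
        (MvPowerSeries.X none ^ 2 +
          ∑ i : Fin m, MvPowerSeries.X (some (Sum.inl i)) * MvPowerSeries.X (some (Sum.inr i)))) :
    Ideal.span ({f} ∪ Set.range fun i : Option (Fin m ⊕ Fin m) => MvPowerSeries.pderiv k i f) =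
      Ideal.span ({MvPowerSeries.X none ^ 2} ∪
        Set.range fun j : Fin m ⊕ Fin m => (MvPowerSeries.X (some j) : MvPowerSeries (Option (Fin m ⊕ Fin m)) k)) ∧
    Module.finrank k (MvPowerSeries (Option (Fin m ⊕ Fin m)) k ⧸
      Ideal.span ({MvPowerSeries.X none ^ 2} ∪
        Set.range fun j : Fin m ⊕ Fin m => (MvPowerSeries.X (some j) : MvPowerSeries (Option (Fin m ⊕ Fin m)) k))) = 2 := by
  exact Aux.main k m f hf

end Groth.Agent.S8720
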