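import Groth.Statements.S8722
import Groth.Agent.Lib.Helper6.FrobSL.SSPart

set_option autoImplicit false
universe u v
open SGA7II

namespace Groth.Agent.S8722

/-- Let k be a separably closed field of characteristic p > 0, q = p^r with r >= 1, V a
finite-dimensional k-vector space and phi : V -> V additive with phi(c v) = c^q phi(v), semisimple
in the sense that its image spans V. Then for n >= 1 the fixed vectors of the n-th iterate of phi
are exactly the finite linear combinations of phi-fixed vectors with coefficients c satisfying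
c^(q^n) = c; that is, the fixed space of phi^n is obtained from the F_q-space of phi-fixed vectors
by extending scalars to F_{q^n}. -/
theorem result (k : Type u) [Field k] [IsSepClosed k] (p : ℕ)
    [Fact p.Prime] [CharP k p] (r : ℕ) (hr : 0 < r) (V : Type v) [AddCommGroup V] [Module k V]
    [FiniteDimensional k V] (φ : V →+ V) (hφ : ∀ (c : k) (v : V), φ (c • v) = c ^ (p ^ r) • φ v)
    (hss : Submodule.span k (Set.range φ) = ⊤) (n : ℕ) (hn : 0 < n) (v : V) :
    φ^[n] v = v ↔ ∃ (s : Finset V) (c : V → k), (∀ w ∈ s, φ w = w) ∧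
      (∀ w ∈ s, c w ^ ((p ^ r) ^ n) = c w) ∧ v = ∑ w ∈ s, c w • w := by
  open Groth.Agent.Lib.Helper6.FrobSL in
  classical
  set Φ := ofAdd p r φ hφ with hΦ
  have hiter : ∀ (m : ℕ) (w : V), φ^[m] w = Φ^[m] w := fun m w => rfl
  constructor
  · intro hv
    have hss' : IsSS p r Φ := hss
    obtain ⟨b, hb⟩ := exists_basis_fixed hr Φ hss'
    have hbfix : ∀ i, Φ^[n] (b i) = b i := fun i => Function.iterate_fixed (hb i) n
    have h1 : Φ^[n] v = ∑ j, (b.repr v j) ^ ((p ^ r) ^ n) • b j := by
      conv_lhs => rw [← b.sum_repr v]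
      rw [iterate_sum]
      refine Finset.sum_congr rfl fun j _ => ?_
      rw [iterate_smul, hbfix]
    have hc : ∀ i, (b.repr v i) ^ ((p ^ r) ^ n) = b.repr v i := by
      intro i
      rw [← hiter, hv] at h1
      have h2 : b.repr v i = b.repr (∑ j, (b.repr v j) ^ ((p ^ r) ^ n) • b j) i :=
        congrArg (fun z => b.repr z i) h1
      rw [b.repr_sum_self] at h2
      exact h2.symm
    refine ⟨Finset.univ.image b, fun w => ∑ i, if b i = w then b.repr v i else 0, ?_, ?_, ?_⟩
    · intro w hw
      obtain ⟨i, _, rfl⟩ := Finset.mem_image.1 hw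
      exact hb i
    · intro w hw
      obtain ⟨i, _, rfl⟩ := Finset.mem_image.1 hw
      have : ∀ j, (b j = b i) ↔ j = i := fun j => b.injective.eq_iff
      simp only [this, Finset.sum_ite_eq', Finset.mem_univ, if_true]
      exact hc i
    · rw [Finset.sum_image (fun i _ j _ h => b.injective h)]
      conv_lhs => rw [← b.sum_repr v]
      refine Finset.sum_congr rfl fun i _ => ?_
      have : ∀ j, (b j = b i) ↔ j = i := fun j => b.injective.eq_iff
      simp only [this, Finset.sum_ite_eq', Finset.mem_univ, if_true]
  · rintro ⟨s, c, hfix, hc, rfl⟩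
    rw [hiter, iterate_sum]
    refine Finset.sum_congr rfl fun w hw => ?_
    rw [iterate_smul, hc w hw]
    congr 1
    exact Function.iterate_fixed (hfix w hw) n

end Groth.Agent.S8722
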