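import Groth.Statements.S8723
import Mathlib
import Groth.Agent.Lib.Helper1.GeoM2

set_option autoImplicit false
universe u
open CategoryTheory CategoryTheory.Limits AlgebraicGeometry
open ArSurf

namespace Groth.Agent.S8723

/-- Let R be a discrete valuation ring with residue field k and X an integral regular scheme of Krull
dimension 2, proper and flat over Spec R by f (a regular proper flat model whose fibres are curves).
Write X_s for the special fibre and X_sbar for its base change to an algebraic closure of k. Assume
that X_s is geometrically connected (its base change to every field extension of k is connected) and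
that the multiplicities of the irreducible components of X_sbar, i.e. the lengths of the local rings
of X_sbar at its maximal points, have greatest common divisor 1 (no prime divides all of them). Then
the canonical map k -> H^0(X_s, O_{X_s}) is bijective (X is cohomologically flat over R in degree
0). -/
theorem result (R : Type u) [CommRing R] [IsDomain R]
    [IsDiscreteValuationRing R] {X : Scheme.{u}} (f : X ⟶ Spec (CommRingCat.of R)) [IsProper f] [Flat f]
    [IsIntegral X] (hreg : ∀ x : X, IsRegularLocalRing (X.presheaf.stalk x))
    (hdim : topologicalKrullDim X = 2)
    (hconn : ∀ (K : Type u) [Field K] [Algebra (IsLocalRing.ResidueField R) K],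
      ConnectedSpace ↥(pullback f (Spec.map (CommRingCat.ofHom
        ((algebraMap (IsLocalRing.ResidueField R) K).comp (IsLocalRing.residue R))))))
    (hd : letI Xb := pullback f (Spec.map (CommRingCat.ofHom
        ((algebraMap (IsLocalRing.ResidueField R) (AlgebraicClosure (IsLocalRing.ResidueField R))).comp
          (IsLocalRing.residue R))))
      ∀ ℓ : ℕ, ℓ.Prime → ∃ x : ↥Xb, (∀ y : ↥Xb, y ⤳ x → y = x) ∧
        ¬ (ℓ ∣ (Module.length (Xb.presheaf.stalk x) (Xb.presheaf.stalk x)).toNat)) :
    Function.Bijective
      (pullback.snd f (Spec.map (CommRingCat.ofHom (IsLocalRing.residue R)))).appTop.hom := by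
  have hcomp : ∀ (K : Type u) [Field K] [Algebra (IsLocalRing.ResidueField R) K],
      Spec.map (CommRingCat.ofHom
        ((algebraMap (IsLocalRing.ResidueField R) K).comp (IsLocalRing.residue R))) =
      Spec.map (CommRingCat.ofHom (algebraMap (IsLocalRing.ResidueField R) K)) ≫
        Spec.map (CommRingCat.ofHom (IsLocalRing.residue R)) := by
    intro K _ _
    rw [← Spec.map_comp]
    rfl
  have hconn1 : ConnectedSpace
      ↥(pullback f (Spec.map (CommRingCat.ofHom (IsLocalRing.residue R)))) := by
    have h := hconn (IsLocalRing.ResidueField R)
    have e : (algebraMap (IsLocalRing.ResidueField R) (IsLocalRing.ResidueField R)).comp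
        (IsLocalRing.residue R) = IsLocalRing.residue R := by
      rw [Algebra.algebraMap_self, RingHom.id_comp]
    rw [e] at h
    exact h
  have hconn2 := hconn (AlgebraicClosure (IsLocalRing.ResidueField R))
  rw [hcomp (AlgebraicClosure (IsLocalRing.ResidueField R))] at hconn2 hd
  exact Groth.Agent.Helper1.GeoM.bijective_appTop R f hreg hdim
    (AlgebraicClosure (IsLocalRing.ResidueField R)) hconn1 hconn2 hd

end Groth.Agent.S8723
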