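import Groth.Statements.S8724
import Mathlib

set_option autoImplicit false
open LefPen

namespace Groth.Agent.S8724

section
open Finset

theorem key {A : Type*} [CommRing A] (y z : A) (c : ℕ → A) (M : ℕ) :
    ∀ N, N ≤ M → ∑ k ∈ range (N + 1), c k * (y ^ k - z ^ k) =
      (y - z) * ∑ i ∈ range M, ∑ j ∈ range M,
        if i + j + 1 ≤ N then c (i + j + 1) * y ^ i * z ^ j else 0 := by
  intro N
  induction N with
  | zero =>
    intro _
    simp
  | succ N ih =>
    intro hNM
    rw [Finset.sum_range_succ, ih (by omega)]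
    have hgeom : y ^ (N + 1) - z ^ (N + 1) = (y - z) * ∑ i ∈ range (N + 1), y ^ i * z ^ (N - i) := by
      have := (Commute.all y z).mul_geom_sum₂ (N + 1)
      rw [← this]
      simp
    rw [hgeom]
    have hsplit : ∀ i j : ℕ, (if i + j + 1 ≤ N + 1 then c (i + j + 1) * y ^ i * z ^ j else 0) =
        (if i + j + 1 ≤ N then c (i + j + 1) * y ^ i * z ^ j else 0) +
        (if i + j = N then c (N + 1) * y ^ i * z ^ j else 0) := by
      intro i j
      by_cases h1 : i + j + 1 ≤ N
      · have h2 : i + j + 1 ≤ N + 1 := by omega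
        have h3 : ¬ (i + j = N) := by omega
        simp [h1, h2, h3]
      · by_cases h3 : i + j = N
        · have h2 : i + j + 1 ≤ N + 1 := by omega
          simp [h1, h2, h3]
        · have h2 : ¬ (i + j + 1 ≤ N + 1) := by omega
          simp [h1, h2, h3]
    simp_rw [hsplit, Finset.sum_add_distrib]
    rw [mul_add]
    congr 1
    have hinner : ∑ i ∈ range M, ∑ j ∈ range M, (if i + j = N then c (N + 1) * y ^ i * z ^ j else 0)
        = c (N + 1) * ∑ i ∈ range (N + 1), y ^ i * z ^ (N - i) := by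
      rw [Finset.mul_sum]
      have hsub : range (N + 1) ⊆ range M := by
        intro i hi
        rw [Finset.mem_range] at hi ⊢
        omega
      rw [← Finset.sum_subset hsub]
      · apply Finset.sum_congr rfl
        intro i hi
        rw [Finset.mem_range] at hi
        rw [Finset.sum_eq_single (N - i)]
        · have : i + (N - i) = N := by omega
          simp [this, mul_assoc]
        · intro j _ hj
          have : ¬ (i + j = N) := by omega
          simp [this]
        · intro hj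
          exfalso
          apply hj
          rw [Finset.mem_range]
          omega
      · intro i _ hi
        rw [Finset.mem_range] at hi
        apply Finset.sum_eq_zero
        intro j _
        have : ¬ (i + j = N) := by omega
        simp [this]
    rw [hinner]
    ring

theorem id1 {A : Type*} [CommRing A] (y z : A) (a : ℕ) (ha : 1 ≤ a) :
    (1 + y) ^ (a - 1) - (1 + z) ^ (a - 1) =
      (y - z) * ∑ i ∈ Finset.range a, ∑ j ∈ Finset.range a,
        if i + j + 1 ≤ a - 1 then ((a - 1).choose (i + j + 1) : A) * y ^ i * z ^ j else 0 := by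
  rw [← key y z (fun k => ((a - 1).choose k : A)) a (a - 1) (by omega)]
  rw [add_comm 1 y, add_comm 1 z, add_pow, add_pow, ← Finset.sum_sub_distrib]
  have : a - 1 + 1 = a - 1 + 1 := rfl
  apply Finset.sum_congr rfl
  intro k _
  simp
  ring

theorem id2 {A : Type*} [CommRing A] (y z : A) (a : ℕ) (ha : 1 ≤ a) :
    (1 + y) ^ a * z - (1 + z) ^ a * y =
      (y - z) * (-1 + ∑ i ∈ Finset.range (a + 1), ∑ j ∈ Finset.range (a + 1),
        if 1 ≤ i ∧ 1 ≤ j ∧ i + j ≤ a then (a.choose (i + j) : A) * y ^ i * z ^ j else 0) := by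
  -- shift indices
  have hshift : ∑ i ∈ Finset.range (a + 1), ∑ j ∈ Finset.range (a + 1),
        (if 1 ≤ i ∧ 1 ≤ j ∧ i + j ≤ a then (a.choose (i + j) : A) * y ^ i * z ^ j else 0) =
      y * z * ∑ i ∈ Finset.range a, ∑ j ∈ Finset.range a,
        (if i + j + 1 ≤ a - 1 then (a.choose (i + j + 1 + 1) : A) * y ^ i * z ^ j else 0) := by
    rw [Finset.sum_range_succ']
    have h0 : ∑ j ∈ Finset.range (a + 1),
        (if 1 ≤ 0 ∧ 1 ≤ j ∧ 0 + j ≤ a then (a.choose (0 + j) : A) * y ^ 0 * z ^ j else 0) = 0 := by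
      apply Finset.sum_eq_zero
      intro j _
      simp
    rw [h0, add_zero, Finset.mul_sum]
    apply Finset.sum_congr rfl
    intro i _
    rw [Finset.sum_range_succ']
    have h1 : (if 1 ≤ i + 1 ∧ 1 ≤ 0 ∧ i + 1 + 0 ≤ a then (a.choose (i + 1 + 0) : A) * y ^ (i + 1) * z ^ 0 else 0) = 0 := by
      simp
    rw [h1, add_zero, Finset.mul_sum]
    apply Finset.sum_congr rfl
    intro j _
    by_cases h : i + j + 1 ≤ a - 1
    · have h' : 1 ≤ i + 1 ∧ 1 ≤ j + 1 ∧ i + 1 + (j + 1) ≤ a := by omega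
      have e : i + 1 + (j + 1) = i + j + 1 + 1 := by omega
      rw [if_pos h, if_pos h', e]
      ring
    · have h' : ¬ (1 ≤ i + 1 ∧ 1 ≤ j + 1 ∧ i + 1 + (j + 1) ≤ a) := by omega
      rw [if_neg h, if_neg h', mul_zero]
  rw [hshift]
  have hk := key y z (fun k => (a.choose (k + 1) : A)) a (a - 1) (by omega)
  skip
  rw [mul_add, mul_left_comm, ← hk]
  rw [add_comm 1 y, add_comm 1 z, add_pow, add_pow]
  obtain ⟨b, rfl⟩ : ∃ b, a = b + 1 := ⟨a - 1, by omega⟩
  simp only [Nat.add_sub_cancel]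
  rw [Finset.sum_range_succ' _ (b + 1), Finset.sum_range_succ' _ (b + 1)]
  simp only [one_pow, mul_one, pow_zero, Nat.choose_zero_right, Nat.cast_one]
  rw [Finset.mul_sum, add_mul, add_mul, Finset.sum_mul, Finset.sum_mul]
  have : ∀ k, y ^ (k + 1) * ((b + 1).choose (k + 1) : A) * z - z ^ (k + 1) * ((b + 1).choose (k + 1) : A) * y =
      y * z * (((b + 1).choose (k + 1) : A) * (y ^ k - z ^ k)) := by
    intro k; ring
  have h2 : ∑ k ∈ range (b + 1), y ^ (k + 1) * ((b + 1).choose (k + 1) : A) * z -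
      ∑ k ∈ range (b + 1), z ^ (k + 1) * ((b + 1).choose (k + 1) : A) * y =
      ∑ k ∈ range (b + 1), y * z * (((b + 1).choose (k + 1) : A) * (y ^ k - z ^ k)) := by
    rw [← Finset.sum_sub_distrib]
    exact Finset.sum_congr rfl (fun k _ => this k)
  linear_combination h2

theorem main (a : ℕ) (ha : 1 ≤ a) :
    let y : MvPolynomial (Fin 2) ℤ := MvPolynomial.X 0
    let z : MvPolynomial (Fin 2) ℤ := MvPolynomial.X 1
    ((1 + y) ^ (a - 1) - (1 + z) ^ (a - 1) =
      (y - z) * ∑ i ∈ Finset.range a, ∑ j ∈ Finset.range a,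
        if i + j + 1 ≤ a - 1 then ((a - 1).choose (i + j + 1) : MvPolynomial (Fin 2) ℤ) * y ^ i * z ^ j else 0) ∧
    ((1 + y) ^ a * z - (1 + z) ^ a * y =
      (y - z) * (-1 + ∑ i ∈ Finset.range (a + 1), ∑ j ∈ Finset.range (a + 1),
        if 1 ≤ i ∧ 1 ≤ j ∧ i + j ≤ a then (a.choose (i + j) : MvPolynomial (Fin 2) ℤ) * y ^ i * z ^ j else 0)) := by
  intro y z
  exact ⟨id1 y z a ha, id2 y z a ha⟩


end


/-- The algebraic identity established in its proof: let a >= 1 and work in Z[y, z]. Then (1+y)^(a-1) -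
(1+z)^(a-1) = (y - z) * (sum over i, j >= 0 with i + j + 1 <= a - 1 of C(a-1, i+j+1) y^i z^j), and
(1+y)^a z - (1+z)^a y = (y - z) * (-1 + sum over i, j >= 1 with i + j <= a of C(a, i+j) y^i z^j).
Consequently the rational function -((1+y)^(a-1) - (1+z)^(a-1)) / ((1+y)^a z - (1+z)^a y), the
generating series of the primitive middle Hodge numbers of smooth hypersurfaces of degree a, equals
(sum_{i,j >= 0} C(a-1, i+j+1) y^i z^j) / (1 - sum_{i,j >= 1} C(a, i+j) y^i z^j). -/
theorem result (a : ℕ) (ha : 1 ≤ a) :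
    let y : MvPolynomial (Fin 2) ℤ := MvPolynomial.X 0
    let z : MvPolynomial (Fin 2) ℤ := MvPolynomial.X 1
    ((1 + y) ^ (a - 1) - (1 + z) ^ (a - 1) =
      (y - z) * ∑ i ∈ Finset.range a, ∑ j ∈ Finset.range a,
        if i + j + 1 ≤ a - 1 then ((a - 1).choose (i + j + 1) : MvPolynomial (Fin 2) ℤ) * y ^ i * z ^ j else 0) ∧
    ((1 + y) ^ a * z - (1 + z) ^ a * y =
      (y - z) * (-1 + ∑ i ∈ Finset.range (a + 1), ∑ j ∈ Finset.range (a + 1),
        if 1 ≤ i ∧ 1 ≤ j ∧ i + j ≤ a then (a.choose (i + j) : MvPolynomial (Fin 2) ℤ) * y ^ i * z ^ j else 0)) := by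
  classical
  exact main a ha

end Groth.Agent.S8724
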