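import Groth.Statements.S8729
import Mathlib
import Groth.Agent.Lib.Helper1.ArInt3
import Groth.Agent.Lib.Helper1.HProjLoc

set_option autoImplicit false
universe u
open CategoryTheory CategoryTheory.Limits AlgebraicGeometry
open ArSurf

namespace Groth.Agent.S8729

/-- For a vertical prime divisor: let R be a discrete valuation ring, X an arithmetic surface over Spec
R (regular, integral, of dimension 2, flat and projective), Γ a vertical prime divisor of X over the
closed point with ideal sheaf I, N = I/I^2 its conormal sheaf (an invertible O_Γ-module) and L an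
O_X-module with L ⊗ I ≅ O_X (L = O_X(Γ)). Then the self-intersection number (Γ · Γ) = deg_k(L|_Γ)
equals -deg_k(N), degrees over the residue field k being differences of Euler characteristics. -/
theorem result (R : Type u) [CommRing R] [IsDomain R] [IsDiscreteValuationRing R]
    (X : Over (Spec (CommRingCat.of R))) (hX : ArSurf.IsArithSurface R X) (Γ : ArSurf.VertComp R X)
    (L : X.left.Modules) (hL : ClSub.IsInverseOf L (ClSub.idealMod Γ.ι.ker)) :
    ArSurf.inter R X L Γ =
      - ArSurf.curveDeg (IsLocalRing.ResidueField R) Γ.curve.left (Omega.conormal Γ.ι) := by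
  obtain ⟨-, -, -, -, n, i, hi, hi2⟩ := hX
  have hp : IsProper X.hom := by
    rw [← hi2]
    haveI := Groth.Agent.Helper1.HProj.isProper_toBase n (Spec (CommRingCat.of R))
    infer_instance
  haveI := hp
  haveI : IsLocallyNoetherian X.left := LocallyOfFiniteType.isLocallyNoetherian X.hom
  have hinv := Groth.Agent.Helper1.ArInt.isInvertible_idealMod_of_isInverseOf R X _ L hL
  exact Groth.Agent.Helper1.ArInt.inter_eq_neg_curveDeg R X hp Γ Γ.ι.ker hinv L hL

end Groth.Agent.S8729
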