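import Groth.Statements.S8731
import Mathlib
import Groth.Agent.Lib.Helper1.HypBridge2

set_option autoImplicit false
universe u
open CategoryTheory CategoryTheory.Limits AlgebraicGeometry
open LefPen

namespace Groth.Agent.S8731

/-- (iv), the assertions on the structure sheaf: let k be an algebraically closed field, n >= 1, and Q a
quadratic form in n + 2 variables whose zero scheme X = V(Q) ⊂ P^{n+1}_k is smooth over k of
relative dimension n (a smooth quadric of dimension n). Then H^i(X, O_X) = 0 for every i >= 1, and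
the structure map identifies k with H^0(X, O_X). (The published item also computes H^1(X, O_X(1)),
the canonical sheaf and the Picard group, not stated here.) -/
theorem result (k : Type u) [Field k] [IsAlgClosed k] (n : ℕ) (hn : 1 ≤ n)
    (Q : LefPen.Form (n + 1) k 2)
    [SmoothOfRelativeDimension n ((LefPen.hypIdeal Q).subschemeι ≫ CohB1.ProjSpace.toSpec (n + 1) k)] :
    (∀ i : ℕ, 1 ≤ i → Subsingleton (Coh.HH (LefPen.hypIdeal Q).subscheme
        (Coh.structureModule (LefPen.hypIdeal Q).subscheme) i)) ∧
      Function.Bijective ((LefPen.hypIdeal Q).subschemeι ≫ CohB1.ProjSpace.toSpec (n + 1) k).appTop.hom := by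
  have hQ : Q ≠ 0 := Groth.Agent.Helper1.HypBridge.ne_zero_of_smooth k n Q
  letI inst : (LefPen.hypIdeal Q).subscheme.Over (Spec (CommRingCat.of k)) :=
    ⟨(LefPen.hypIdeal Q).subschemeι ≫ CohB1.ProjSpace.toSpec (n + 1) k⟩
  have hinst : (LefPen.hypIdeal Q).subscheme ↘ Spec (CommRingCat.of k) =
      (LefPen.hypIdeal Q).subschemeι ≫ CohB1.ProjSpace.toSpec (n + 1) k := rfl
  have hb := Groth.Agent.Helper1.HypBridge.bridge (n + 1) k Q hQ
  have hm := Groth.Agent.Helper1.HypCoh.main k n 2 hn (by norm_num) (LefPen.hypIdeal Q) hb 0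
  obtain ⟨hv, ⟨-, h0⟩, ⟨hfin, hd⟩⟩ := hm
  have hE := fun j => Groth.Agent.Helper1.HypBridge.nonempty_linearEquiv_structure k (n + 1)
    (LefPen.hypIdeal Q) hinst j
  refine ⟨fun i hi => ?_, ?_⟩
  · obtain ⟨e⟩ := hE i
    by_cases hin : i = n
    · have hz : Module.finrank k (Coh.HH (CohB1.ProjSpace (n + 1) k)
          (CohB1.tensorMod (ClSub.quotMod (LefPen.hypIdeal Q))
            (Twist.twistProjSpace (n + 1) k 0)) n) = 0 :=
        hd.trans (Groth.Agent.Helper1.HypBridge.key_zero (n + 1) _ _ (by push_cast; omega)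
          (by push_cast; omega))
      haveI := hfin
      haveI : Subsingleton (Coh.HH (CohB1.ProjSpace (n + 1) k)
          (CohB1.tensorMod (ClSub.quotMod (LefPen.hypIdeal Q))
            (Twist.twistProjSpace (n + 1) k 0)) i) := by
        rw [hin]
        exact Module.finrank_zero_iff.1 hz
      exact e.symm.toEquiv.subsingleton
    · haveI := hv i (by omega) hin
      exact e.symm.toEquiv.subsingleton
  · obtain ⟨e⟩ := hE 0
    have hH0 : Module.finrank k (Coh.HH (LefPen.hypIdeal Q).subscheme
        (Coh.structureModule (LefPen.hypIdeal Q).subscheme) 0) = 1 :=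
      e.finrank_eq.symm.trans (h0.trans
        (Groth.Agent.Helper1.HypBridge.key_top (n + 1) (by omega) _ _ (by push_cast; ring)
          (by push_cast; omega)))
    exact Groth.Agent.Helper1.HypBridge.appTop_bijective_of_toΓ k _
      (Groth.Agent.Helper1.HypBridge.toΓ_bijective_of_finrank_one k _ hH0)

end Groth.Agent.S8731
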