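import Groth.Statements.S8770
import Mathlib
import Groth.Prelude.Def_CAlgX
import Groth.Agent.S2057
-- import your own Groth.Agent.* helpers here

set_option autoImplicit false
universe u
open PureExt

namespace Groth.Agent.S8770

namespace Aux

open Classical

variable (R : Type u) [CommRing R] (M : Type u) [AddCommGroup M] [Module R M]

/-- index: (m, n, a, φ) -/
structure Idx where
  m : ℕ
  n : ℕ
  a : Fin n → Fin m → R
  φ : ((Fin m → R) ⧸ Submodule.span R (Set.range a)) →ₗ[R] M

abbrev Q (i : Idx R M) : Type u := (Fin i.m → R) ⧸ Submodule.span R (Set.range i.a)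

theorem fp (i : Idx R M) : Module.FinitePresentation R (Q R M i) :=
  Module.finitePresentation_of_surjective (Submodule.mkQ _) (Submodule.mkQ_surjective _) (by
    rw [Submodule.ker_mkQ]; exact Submodule.fg_span (Set.finite_range _))

noncomputable def g : (Π₀ i : Idx R M, Q R M i) →ₗ[R] M := DFinsupp.lsum ℕ (fun i => i.φ)

theorem g_single (i : Idx R M) (q : Q R M i) : g R M (DFinsupp.single i q) = i.φ q := by
  simp [g]

theorem g_surj : Function.Surjective (g R M) := by
  intro x
  let ψ : (Fin 1 → R) →ₗ[R] M := Fintype.linearCombination R (fun _ => x)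
  have hψ : Submodule.span R (Set.range (Fin.elim0 : Fin 0 → Fin 1 → R)) ≤ LinearMap.ker ψ := by
    rw [Submodule.span_le]
    rintro _ ⟨i, -⟩
    exact i.elim0
  let i₀ : Idx R M := ⟨1, 0, Fin.elim0, Submodule.liftQ _ ψ hψ⟩
  refine ⟨DFinsupp.single i₀ (Submodule.Quotient.mk (fun _ => 1)), ?_⟩
  rw [g_single]
  show Submodule.liftQ _ ψ hψ (Submodule.Quotient.mk _) = x
  rw [Submodule.liftQ_apply]
  simp [ψ, Fintype.linearCombination_apply]

theorem main :
    ∃ (ι : Type u) (Q : ι → Type u) (_ : ∀ i, AddCommGroup (Q i)) (_ : ∀ i, Module R (Q i)),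
      (∀ i, Module.FinitePresentation R (Q i)) ∧
      ∃ g : (Π₀ i, Q i) →ₗ[R] M, Function.Surjective g ∧
        CAlgX.UniversallyInjective R (LinearMap.ker g).subtype := by
  refine ⟨Idx R M, Q R M, fun i => inferInstance, fun i => inferInstance, fp R M, g R M,
    g_surj R M, ?_⟩
  rw [Groth.Agent.S2057.result _ (Subtype.val_injective)]
  intro n m x y a h
  let ψ : (Fin m → R) →ₗ[R] M := Fintype.linearCombination R (fun j => g R M (y j))
  have hψ : Submodule.span R (Set.range a) ≤ LinearMap.ker ψ := by
    rw [Submodule.span_le]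
    rintro _ ⟨i, rfl⟩
    show ψ (a i) = 0
    simp only [ψ, Fintype.linearCombination_apply]
    have := (x i).2
    rw [LinearMap.mem_ker] at this
    have h' := h i
    simp only [Submodule.subtype_apply] at h'
    rw [h', map_sum] at this
    simpa using this
  let i₀ : Idx R M := ⟨m, n, a, Submodule.liftQ _ ψ hψ⟩
  let y' : Fin m → (Π₀ i : Idx R M, Q R M i) := fun j =>
    DFinsupp.lsingle (R := R) i₀ (Submodule.Quotient.mk (Pi.single j 1))
  have hy' : ∀ j, g R M (y' j) = g R M (y j) := by
    intro j
    show g R M (DFinsupp.single i₀ _) = _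
    rw [g_single]
    show Submodule.liftQ _ ψ hψ (Submodule.Quotient.mk _) = _
    rw [Submodule.liftQ_apply]
    simp [ψ, Fintype.linearCombination_apply]
  have hsum : ∀ i, ∑ j, a i j • y' j = 0 := by
    intro i
    simp only [y', ← map_smul, ← map_sum]
    have : (∑ j, a i j • (Submodule.Quotient.mk (Pi.single j (1:R)) :
        (Fin m → R) ⧸ Submodule.span R (Set.range a))) = 0 := by
      simp only [← Submodule.Quotient.mk_smul]
      have e := map_sum (Submodule.mkQ (Submodule.span R (Set.range a)))
        (fun j => a i j • (Pi.single j (1:R) : Fin m → R)) Finset.univ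
      simp only [Submodule.mkQ_apply] at e
      rw [← e, Submodule.Quotient.mk_eq_zero]
      have : ∑ j, a i j • (Pi.single j (1:R) : Fin m → R) = a i := by
        ext k
        simp [Finset.sum_apply, Pi.single_apply]
      rw [this]
      exact Submodule.subset_span ⟨i, rfl⟩
    show DFinsupp.lsingle (R := R) i₀ _ = 0
    erw [this]
    simp
  refine ⟨fun j => ⟨y j - y' j, by rw [LinearMap.mem_ker, map_sub, hy', sub_self]⟩, fun i => ?_⟩
  apply Subtype.ext
  have h' := h i
  simp only [Submodule.subtype_apply] at h'
  rw [h']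
  simp only [Submodule.coe_sum, Submodule.coe_smul, smul_sub, Finset.sum_sub_distrib, hsum, sub_zero]

end Aux

/-- For every `R`-module `M` there is a universally exact sequence `0 → N → P → M → 0` with `P` pure
projective; this row takes `P` to be a direct sum of finitely presented modules, which is pure
projective: there is a surjection from such a direct sum onto `M` whose kernel inclusion is
universally injective. -/
theorem result (R : Type u) [CommRing R]
    (M : Type u) [AddCommGroup M] [Module R M] :
    ∃ (ι : Type u) (Q : ι → Type u) (_ : ∀ i, AddCommGroup (Q i)) (_ : ∀ i, Module R (Q i)),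
      (∀ i, Module.FinitePresentation R (Q i)) ∧
      ∃ g : (Π₀ i, Q i) →ₗ[R] M, Function.Surjective g ∧
        CAlgX.UniversallyInjective R (LinearMap.ker g).subtype := by
  exact Aux.main R M

end Groth.Agent.S8770
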