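import Groth.Statements.S8769
import Mathlib
import Groth.Prelude.Def_CAlgX
import Groth.Agent.S2057
import Groth.Agent.S8770
-- import your own Groth.Agent.* helpers here

set_option autoImplicit false
universe u
open PureExt

namespace Groth.Agent.S8769

namespace Aux

open Classical

variable (R : Type u) [CommRing R]

/-- finitely presented modules are pure projective -/
theorem lift_fp {F L N : Type u} [AddCommGroup F] [Module R F] [AddCommGroup L] [Module R L]
    [AddCommGroup N] [Module R N] [Module.FinitePresentation R F]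
    (g : L →ₗ[R] N) (hg : Function.Surjective g)
    (hpure : CAlgX.UniversallyInjective R (LinearMap.ker g).subtype) (χ : F →ₗ[R] N) :
    ∃ χ' : F →ₗ[R] L, g ∘ₗ χ' = χ := by
  obtain ⟨n, m, f, k, hf, hex⟩ := Module.FinitePresentation.exists_fin' R F
  rw [Groth.Agent.S2057.result _ (Subtype.val_injective)] at hpure
  choose l hl using fun j : Fin n => hg (χ (f (Pi.single j 1)))
  let a : Fin m → Fin n → R := fun i => k (Pi.single i 1)
  have hsum : ∀ v : Fin n → R, ∑ j, v j • χ (f (Pi.single j 1)) = χ (f v) := by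
    intro v
    conv_rhs => rw [pi_eq_sum_univ' v]
    simp only [map_sum, map_smul]
  have hx : ∀ i, ∑ j, a i j • l j ∈ LinearMap.ker g := by
    intro i
    rw [LinearMap.mem_ker, map_sum]
    simp only [map_smul, hl]
    rw [hsum (a i)]
    have : f (a i) = 0 := by
      show f (k _) = 0
      exact hex.apply_apply_eq_zero _
    rw [this, map_zero]
  obtain ⟨z, hz⟩ := hpure m n (fun i => ⟨_, hx i⟩) l a (fun i => rfl)
  let ψ₀ : (Fin n → R) →ₗ[R] L := Fintype.linearCombination R (fun j => l j - (z j : L))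
  have hψ₀k : ψ₀ ∘ₗ k = 0 := by
    apply LinearMap.pi_ext'
    intro i
    apply LinearMap.ext_ring
    show ψ₀ (k (Pi.single i 1)) = 0
    simp only [ψ₀, Fintype.linearCombination_apply]
    show ∑ j, a i j • (l j - (z j : L)) = 0
    simp only [smul_sub, Finset.sum_sub_distrib]
    have := congrArg Subtype.val (hz i)
    simp only [Submodule.coe_sum, Submodule.coe_smul] at this
    rw [← this, sub_self]
  have hker : LinearMap.ker f ≤ LinearMap.ker ψ₀ := by
    intro v hv
    rw [LinearMap.mem_ker] at hv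
    obtain ⟨w, rfl⟩ := (hex v).mp hv
    rw [LinearMap.mem_ker]
    exact LinearMap.congr_fun hψ₀k w
  refine ⟨(LinearMap.ker f).liftQ ψ₀ hker ∘ₗ (f.quotKerEquivOfSurjective hf).symm.toLinearMap, ?_⟩
  apply LinearMap.ext
  intro q
  obtain ⟨v, rfl⟩ := hf q
  have : (f.quotKerEquivOfSurjective hf).symm (f v) = Submodule.Quotient.mk v := by
    rw [LinearEquiv.symm_apply_eq]
    rfl
  simp only [LinearMap.comp_apply, LinearEquiv.coe_coe, this, Submodule.liftQ_apply]
  simp only [ψ₀, Fintype.linearCombination_apply, map_sum, map_smul, map_sub, hl]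
  have hz0 : ∀ j, g (z j : L) = 0 := fun j => (z j).2
  simp only [hz0, sub_zero]
  exact hsum v

theorem main (P : Type u) [AddCommGroup P] [Module R P] :
    (∀ ⦃L N : Type u⦄ [AddCommGroup L] [Module R L] [AddCommGroup N] [Module R N] (g : L →ₗ[R] N),
        Function.Surjective g → CAlgX.UniversallyInjective R (LinearMap.ker g).subtype →
        ∀ φ : P →ₗ[R] N, ∃ ψ : P →ₗ[R] L, g ∘ₗ ψ = φ) ↔
    ∃ (ι : Type u) (Q : ι → Type u) (_ : ∀ i, AddCommGroup (Q i)) (_ : ∀ i, Module R (Q i)),
      (∀ i, Module.FinitePresentation R (Q i)) ∧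
      ∃ (s : P →ₗ[R] (Π₀ i, Q i)) (r : (Π₀ i, Q i) →ₗ[R] P), r ∘ₗ s = LinearMap.id := by
  constructor
  · intro h
    obtain ⟨ι, Q, i1, i2, hfp, g, hg, hpure⟩ := Groth.Agent.S8770.result R P
    obtain ⟨ψ, hψ⟩ := h g hg hpure LinearMap.id
    exact ⟨ι, Q, i1, i2, hfp, ψ, g, hψ⟩
  · rintro ⟨ι, Q, i1, i2, hfp, s, r, hrs⟩ L N _ _ _ _ g hg hpure φ
    have : ∀ i, ∃ χ' : Q i →ₗ[R] L, g ∘ₗ χ' = φ ∘ₗ r ∘ₗ DFinsupp.lsingle i := fun i =>
      lift_fp R g hg hpure _
    choose χ' hχ' using this
    refine ⟨DFinsupp.lsum ℕ χ' ∘ₗ s, ?_⟩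
    have h2 : g ∘ₗ DFinsupp.lsum ℕ χ' = φ ∘ₗ r := by
      apply DFinsupp.lhom_ext'
      intro i
      apply LinearMap.ext
      intro q
      have := LinearMap.congr_fun (hχ' i) q
      simp only [LinearMap.comp_apply, DFinsupp.lsingle_apply, DFinsupp.lsum_single] at this ⊢
      exact this
    rw [← LinearMap.comp_assoc, h2, LinearMap.comp_assoc, hrs, LinearMap.comp_id]

end Aux

/-- An `R`-module `P` is pure projective (every linear map `P → N` lifts along every surjection `L → N`
for which `0 → ker → L → N → 0` is universally exact, i.e. whose kernel inclusion is universally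
injective) if and only if `P` is a direct summand of a direct sum of finitely presented `R`-modules. -/
theorem result (R : Type u) [CommRing R]
    (P : Type u) [AddCommGroup P] [Module R P] :
    (∀ ⦃L N : Type u⦄ [AddCommGroup L] [Module R L] [AddCommGroup N] [Module R N] (g : L →ₗ[R] N),
        Function.Surjective g → CAlgX.UniversallyInjective R (LinearMap.ker g).subtype →
        ∀ φ : P →ₗ[R] N, ∃ ψ : P →ₗ[R] L, g ∘ₗ ψ = φ) ↔
    ∃ (ι : Type u) (Q : ι → Type u) (_ : ∀ i, AddCommGroup (Q i)) (_ : ∀ i, Module R (Q i)),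
      (∀ i, Module.FinitePresentation R (Q i)) ∧
      ∃ (s : P →ₗ[R] (Π₀ i, Q i)) (r : (Π₀ i, Q i) →ₗ[R] P), r ∘ₗ s = LinearMap.id := by
  exact Aux.main R P

end Groth.Agent.S8769
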