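import Groth.Statements.S8774
import Mathlib
import Groth.Prelude.Def_CAlgX
import Groth.Agent.S2057
import Groth.Agent.S8770
import Groth.Agent.Lib.Helper9.PureRes
-- import your own Groth.Agent.* helpers here

set_option autoImplicit false
universe u
open CategoryTheory
open PureExt

namespace Groth.Agent.S8774

open CategoryTheory
namespace Aux

open Groth.Agent.Helper9.PureRes MonoidalCategory HomologicalComplex
open Classical

variable {R : Type u} [CommRing R]

theorem quasiIso_tensor_of_uexact {M : ModuleCat.{u} R} {K : ChainComplex (ModuleCat.{u} R) ℕ}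
    (π : K ⟶ (ChainComplex.single₀ (ModuleCat.{u} R)).obj M)
    (hsurj : ∀ (Q : Type u) [AddCommGroup Q] [Module R Q],
      Function.Surjective ((π.f 0).hom.rTensor Q))
    (h0 : ∀ (Q : Type u) [AddCommGroup Q] [Module R Q],
      Function.Exact ((K.d 1 0).hom.rTensor Q) ((π.f 0).hom.rTensor Q))
    (hs : ∀ (Q : Type u) [AddCommGroup Q] [Module R Q] (n : ℕ),
      Function.Exact ((K.d (n + 2) (n + 1)).hom.rTensor Q) ((K.d (n + 1) n).hom.rTensor Q))
    (T : ModuleCat.{u} R) :
    QuasiIso (((tensorRight T).mapHomologicalComplex (ComplexShape.down ℕ)).map π) := by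
  refine ⟨fun n => ?_⟩
  cases n with
  | zero =>
    rw [ChainComplex.quasiIsoAt₀_iff, ShortComplex.quasiIso_iff_of_zeros']
    · constructor
      · rw [ShortComplex.ShortExact.moduleCat_exact_iff_function_exact]
        exact h0 T
      · rw [ModuleCat.epi_iff_surjective]
        exact hsurj T
    · exact HomologicalComplex.shape (((tensorRight T).mapHomologicalComplex (ComplexShape.down ℕ)).obj
          K) 0 0 (by simp)
    · show (tensorRight T).map (((ChainComplex.single₀ (ModuleCat.{u} R)).obj M).d 1 0) = 0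
      rw [single_obj_d, Functor.map_zero]
    · exact HomologicalComplex.shape (((tensorRight T).mapHomologicalComplex (ComplexShape.down ℕ)).obj
          ((ChainComplex.single₀ (ModuleCat R)).obj M)) 0 0 (by simp)
  | succ n =>
    rw [quasiIsoAt_iff_exactAt']
    · rw [HomologicalComplex.exactAt_iff' _ (n + 2) (n + 1) n (by simp only [ChainComplex.prev]; rfl)
        (by simp)]
      rw [ShortComplex.ShortExact.moduleCat_exact_iff_function_exact]
      exact hs T n
    · apply ShortComplex.exact_of_isZero_X₂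
      show Limits.IsZero ((tensorRight T).obj
        (((ChainComplex.single₀ (ModuleCat.{u} R)).obj M).X (n + 1)))
      exact Functor.map_isZero _ (isZero_single_obj_X _ _ _ _ (by simp))

section Cover

open Groth.Agent.S8770.Aux

variable (R)

/-- the pure cover, as an object of `ModuleCat` -/
noncomputable def cov (K : ModuleCat.{u} R) : ModuleCat.{u} R :=
  ModuleCat.of R (Π₀ i : Idx R K, Q R K i)

noncomputable def covMap (K : ModuleCat.{u} R) : cov R K →ₗ[R] K := g R K

theorem covMap_single (K : ModuleCat.{u} R) (i : Idx R K) (q : Q R K i) :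
    covMap R K (DFinsupp.single i q : Π₀ i : Idx R K, Q R K i) = i.φ q := g_single R K i q

theorem g_pure (K : ModuleCat.{u} R) :
    CAlgX.UniversallyInjective R (LinearMap.ker (covMap R K)).subtype := by
  rw [Groth.Agent.S2057.result _ (Subtype.val_injective)]
  intro n m x y a h
  let ψ : (Fin m → R) →ₗ[R] K := Fintype.linearCombination R (fun j => covMap R K (y j))
  have hψ : Submodule.span R (Set.range a) ≤ LinearMap.ker ψ := by
    rw [Submodule.span_le]
    rintro _ ⟨i, rfl⟩
    show ψ (a i) = 0
    simp only [ψ, Fintype.linearCombination_apply]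
    have := (x i).2
    rw [LinearMap.mem_ker] at this
    have h' := h i
    simp only [Submodule.subtype_apply] at h'
    rw [h', map_sum] at this
    simpa using this
  let i₀ : Idx R K := ⟨m, n, a, Submodule.liftQ _ ψ hψ⟩
  let y' : Fin m → cov R K := fun j =>
    (DFinsupp.single i₀ (Submodule.Quotient.mk (Pi.single j 1)) : Π₀ i : Idx R K, Q R K i)
  have hy' : ∀ j, covMap R K (y' j) = covMap R K (y j) := by
    intro j
    show covMap R K (DFinsupp.single i₀ _ : Π₀ i : Idx R K, Q R K i) = _
    rw [covMap_single]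
    show Submodule.liftQ _ ψ hψ (Submodule.Quotient.mk _) = _
    rw [Submodule.liftQ_apply]
    simp [ψ, Fintype.linearCombination_apply]
  have hsum : ∀ i, ∑ j, a i j • y' j = 0 := by
    intro i
    have key : (∑ j, a i j • (Submodule.Quotient.mk (Pi.single j (1:R)) :
        (Fin m → R) ⧸ Submodule.span R (Set.range a))) = 0 := by
      simp only [← Submodule.Quotient.mk_smul]
      have e := map_sum (Submodule.mkQ (Submodule.span R (Set.range a)))
        (fun j => a i j • (Pi.single j (1:R) : Fin m → R)) Finset.univ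
      simp only [Submodule.mkQ_apply] at e
      rw [← e, Submodule.Quotient.mk_eq_zero]
      have : ∑ j, a i j • (Pi.single j (1:R) : Fin m → R) = a i := by
        ext k
        simp [Finset.sum_apply, Pi.single_apply]
      rw [this]
      exact Submodule.subset_span ⟨i, rfl⟩
    show (∑ j, a i j • (DFinsupp.single i₀ (Submodule.Quotient.mk (Pi.single j 1)) :
      Π₀ i : Idx R K, Q R K i)) = 0
    have h2 : (∑ j, a i j • (DFinsupp.single i₀ (Submodule.Quotient.mk (Pi.single j 1)) :
        Π₀ i : Idx R K, Q R K i)) =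
        (DFinsupp.lsingle (R := R) (M := fun i => Q R K i) i₀)
          (∑ j, a i j • (Submodule.Quotient.mk (Pi.single j (1:R)) :
            (Fin m → R) ⧸ Submodule.span R (Set.range a))) := by
      rw [map_sum]
      refine Finset.sum_congr rfl (fun j _ => ?_)
      rw [map_smul]
      rfl
    rw [h2]
    erw [key]
    exact map_zero _
  refine ⟨fun j => ⟨y j - y' j, by rw [LinearMap.mem_ker, map_sub, hy', sub_self]⟩, fun i => ?_⟩
  apply Subtype.ext
  have h' := h i
  simp only [Submodule.subtype_apply] at h'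
  rw [h']
  simp only [Submodule.coe_sum, Submodule.coe_smul, smul_sub, Finset.sum_sub_distrib, hsum, sub_zero]

/-- kernel of the cover -/
noncomputable def kerObj (K : ModuleCat.{u} R) : ModuleCat.{u} R :=
  ModuleCat.of R (LinearMap.ker (covMap R K))

/-- successive kernels -/
noncomputable def Kseq (M : ModuleCat.{u} R) : ℕ → ModuleCat.{u} R
  | 0 => M
  | n + 1 => kerObj R (Kseq M n)

noncomputable def P (M : ModuleCat.{u} R) (n : ℕ) : ModuleCat.{u} R := cov R (Kseq R M n)

noncomputable def gg (M : ModuleCat.{u} R) (n : ℕ) : P R M n →ₗ[R] Kseq R M n :=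
  covMap R (Kseq R M n)

noncomputable def ii (M : ModuleCat.{u} R) (n : ℕ) : Kseq R M (n + 1) →ₗ[R] P R M n :=
  (LinearMap.ker (covMap R (Kseq R M n))).subtype

theorem gg_surj (M : ModuleCat.{u} R) (n : ℕ) : Function.Surjective (gg R M n) :=
  g_surj R (Kseq R M n)

theorem exact_ii_gg (M : ModuleCat.{u} R) (n : ℕ) : Function.Exact (ii R M n) (gg R M n) := by
  rw [LinearMap.exact_iff]
  exact (Submodule.range_subtype _).symm

theorem ii_uinj (M : ModuleCat.{u} R) (n : ℕ) (T : Type u) [AddCommGroup T] [Module R T] :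
    Function.Injective ((ii R M n).rTensor T) :=
  g_pure R (Kseq R M n) T

theorem iigg_uexact (M : ModuleCat.{u} R) (n : ℕ) (T : Type u) [AddCommGroup T] [Module R T] :
    Function.Exact ((ii R M n).rTensor T) ((gg R M n).rTensor T) :=
  rTensor_exact T (exact_ii_gg R M n) (gg_surj R M n)

noncomputable def dd (M : ModuleCat.{u} R) (n : ℕ) : P R M (n + 1) ⟶ P R M n :=
  ModuleCat.ofHom (ii R M n ∘ₗ gg R M (n + 1))

theorem dd_comp_dd (M : ModuleCat.{u} R) (n : ℕ) : dd R M (n + 1) ≫ dd R M n = 0 := by
  apply ModuleCat.hom_ext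
  apply LinearMap.ext
  intro x
  have h : gg R M (n + 1) (ii R M (n + 1) (gg R M (n + 2) x)) = 0 :=
    (exact_ii_gg R M (n + 1)).apply_apply_eq_zero _
  show ii R M n (gg R M (n + 1) (ii R M (n + 1) (gg R M (n + 2) x))) = 0
  exact (congrArg (ii R M n) h).trans (map_zero _)

noncomputable def PP (M : ModuleCat.{u} R) : ChainComplex (ModuleCat.{u} R) ℕ :=
  ChainComplex.of (P R M) (dd R M) (dd_comp_dd R M)

theorem PP_d (M : ModuleCat.{u} R) (n : ℕ) : (PP R M).d (n + 1) n = dd R M n :=
  ChainComplex.of_d (P R M) (dd R M) n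

theorem d_comp_gg (M : ModuleCat.{u} R) :
    (PP R M).d 1 0 ≫ (ModuleCat.ofHom (gg R M 0) : (PP R M).X 0 ⟶ M) = 0 := by
  rw [PP_d]
  apply ModuleCat.hom_ext
  apply LinearMap.ext
  intro x
  show gg R M 0 (ii R M 0 (gg R M 1 x)) = 0
  exact (exact_ii_gg R M 0).apply_apply_eq_zero _

noncomputable def ππ (M : ModuleCat.{u} R) :
    PP R M ⟶ (ChainComplex.single₀ (ModuleCat.{u} R)).obj M :=
  (ChainComplex.toSingle₀Equiv _ _).symm ⟨ModuleCat.ofHom (gg R M 0), d_comp_gg R M⟩

theorem ππ_f_zero (M : ModuleCat.{u} R) :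
    (ππ R M).f 0 = (ModuleCat.ofHom (gg R M 0) : (PP R M).X 0 ⟶ M) :=
  ChainComplex.toSingle₀Equiv_symm_apply_f_zero _ _

theorem exact_comp {A B C D E : Type*} [AddCommGroup A] [Module R A] [AddCommGroup B] [Module R B]
    [AddCommGroup C] [Module R C] [AddCommGroup D] [Module R D] [AddCommGroup E] [Module R E]
    (a : A →ₗ[R] B) (b : B →ₗ[R] C) (c : C →ₗ[R] D) (d : D →ₗ[R] E)
    (ha : Function.Surjective a) (hd : Function.Injective d) (h : Function.Exact b c) :
    Function.Exact (b ∘ₗ a) (d ∘ₗ c) :=
  (hd.comp_exact_iff_exact).mpr ((ha.comp_exact_iff_exact).mpr h)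

theorem main (M : ModuleCat.{u} R) :
    ∃ (P : ChainComplex (ModuleCat.{u} R) ℕ) (π : P ⟶ (ChainComplex.single₀ (ModuleCat.{u} R)).obj M),
      (∀ n : ℕ, ∃ (ι : Type u) (Q : ι → Type u) (_ : ∀ i, AddCommGroup (Q i)) (_ : ∀ i, Module R (Q i)),
        (∀ i, Module.FinitePresentation R (Q i)) ∧
        ∃ (s : P.X n →ₗ[R] (Π₀ i, Q i)) (r : (Π₀ i, Q i) →ₗ[R] P.X n), r ∘ₗ s = LinearMap.id) ∧
      ∀ N : ModuleCat.{u} R,
        QuasiIso (((MonoidalCategory.tensorRight N).mapHomologicalComplex (ComplexShape.down ℕ)).map π) := by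
  refine ⟨PP R M, ππ R M, ?_, ?_⟩
  · intro n
    exact ⟨Idx R (Kseq R M n), Q R (Kseq R M n), fun i => inferInstance, fun i => inferInstance,
      fp R (Kseq R M n), LinearMap.id, LinearMap.id, rfl⟩
  · apply quasiIso_tensor_of_uexact
    · intro T _ _
      rw [ππ_f_zero]
      exact LinearMap.rTensor_surjective T (gg_surj R M 0)
    · intro T _ _
      rw [ππ_f_zero, PP_d]
      show Function.Exact ((ii R M 0 ∘ₗ gg R M 1).rTensor T) ((gg R M 0).rTensor T)
      rw [LinearMap.rTensor_comp]
      exact (Function.Surjective.comp_exact_iff_exact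
        (LinearMap.rTensor_surjective T (gg_surj R M 1))).mpr (iigg_uexact R M 0 T)
    · intro T _ _ n
      rw [PP_d, PP_d]
      show Function.Exact ((ii R M (n + 1) ∘ₗ gg R M (n + 2)).rTensor T)
        ((ii R M n ∘ₗ gg R M (n + 1)).rTensor T)
      rw [LinearMap.rTensor_comp, LinearMap.rTensor_comp]
      exact exact_comp R _ _ _ _ (LinearMap.rTensor_surjective T (gg_surj R M (n + 2)))
        (ii_uinj R M n T) (iigg_uexact R M (n + 1) T)

end Cover

end Aux

/-- Every `R`-module `M` has a pure projective resolution: a complex `… → P_1 → P_0` with an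
augmentation to `M` such that each `P_n` is pure projective (a direct summand of a direct sum of
finitely presented modules) and `… → P_1 → P_0 → M → 0` is universally exact, i.e. the augmentation
stays a quasi-isomorphism after tensoring with any `R`-module `N`. -/
theorem result (R : Type u) [CommRing R] (M : ModuleCat.{u} R) :
    ∃ (P : ChainComplex (ModuleCat.{u} R) ℕ) (π : P ⟶ (ChainComplex.single₀ (ModuleCat.{u} R)).obj M),
      (∀ n : ℕ, ∃ (ι : Type u) (Q : ι → Type u) (_ : ∀ i, AddCommGroup (Q i)) (_ : ∀ i, Module R (Q i)),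
        (∀ i, Module.FinitePresentation R (Q i)) ∧
        ∃ (s : P.X n →ₗ[R] (Π₀ i, Q i)) (r : (Π₀ i, Q i) →ₗ[R] P.X n), r ∘ₗ s = LinearMap.id) ∧
      ∀ N : ModuleCat.{u} R,
        QuasiIso (((MonoidalCategory.tensorRight N).mapHomologicalComplex (ComplexShape.down ℕ)).map π) := by
  exact Aux.main R M

end Groth.Agent.S8774
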