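import Groth.Statements.S8775
import Mathlib
import Groth.Prelude.Def_CAlgX
import Groth.Agent.Lib.Helper9.PureRes
-- import your own Groth.Agent.* helpers here

set_option autoImplicit false
universe u
open CategoryTheory
open PureExt

namespace Groth.Agent.S8775

open CategoryTheory
namespace Aux

open Groth.Agent.Helper9.PureRes MonoidalCategory

variable (R : Type u) [CommRing R]

theorem main {M N : ModuleCat.{u} R}
    (f : M ⟶ N) (P N' : ChainComplex (ModuleCat.{u} R) ℕ)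
    (π : P ⟶ (ChainComplex.single₀ (ModuleCat.{u} R)).obj M)
    (ε : N' ⟶ (ChainComplex.single₀ (ModuleCat.{u} R)).obj N)
    (hP : ∀ n : ℕ, (∀ ⦃L T : Type u⦄ [AddCommGroup L] [Module R L] [AddCommGroup T] [Module R T] (g : L →ₗ[R] T),
          Function.Surjective g → CAlgX.UniversallyInjective R (LinearMap.ker g).subtype →
          ∀ φ : P.X n →ₗ[R] T, ∃ ψ : P.X n →ₗ[R] L, g ∘ₗ ψ = φ))
    (hN' : ∀ T : ModuleCat.{u} R,
      QuasiIso (((MonoidalCategory.tensorRight T).mapHomologicalComplex (ComplexShape.down ℕ)).map ε)) :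
    ∃ φ : P ⟶ N', φ ≫ ε = π ≫ (ChainComplex.single₀ (ModuleCat.{u} R)).map f := by
  -- degree zero
  obtain ⟨z, hz⟩ : ∃ z : P.X 0 ⟶ N'.X 0,
      z ≫ ε.f 0 = π.f 0 ≫ ((ChainComplex.single₀ (ModuleCat.{u} R)).map f).f 0 := by
    obtain ⟨ψ, hψ⟩ := hP 0 (ε.f 0).hom (surj_zero_plain ε hN') (pure_ker_ε ε hN')
      (π.f 0 ≫ ((ChainComplex.single₀ (ModuleCat.{u} R)).map f).f 0).hom
    exact ⟨ModuleCat.ofHom ψ, ModuleCat.hom_ext hψ⟩
  -- degree one
  obtain ⟨o, ho⟩ : ∃ o : P.X 1 ⟶ N'.X 1, o ≫ N'.d 1 0 = P.d 1 0 ≫ z := by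
    have hb : (ε.f 0).hom ∘ₗ (P.d 1 0 ≫ z).hom = 0 := by
      have : (P.d 1 0 ≫ z) ≫ ε.f 0 = 0 := by
        rw [Category.assoc, hz, ← Category.assoc, d_comp_π π, Limits.zero_comp]
      exact congrArg ModuleCat.Hom.hom this
    obtain ⟨l, hl⟩ := pure_lift (hP 1) (N'.d 1 0).hom (ε.f 0).hom (exact_zero_plain ε hN')
      (pure_ker_d ε hN' 0) (P.d 1 0 ≫ z).hom hb
    exact ⟨ModuleCat.ofHom l, ModuleCat.hom_ext hl⟩
  have succ : ∀ (n : ℕ) (p : Σ' (f : P.X n ⟶ N'.X n) (f' : P.X (n + 1) ⟶ N'.X (n + 1)),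
      f' ≫ N'.d (n + 1) n = P.d (n + 1) n ≫ f),
      ∃ f'' : P.X (n + 2) ⟶ N'.X (n + 2),
        f'' ≫ N'.d (n + 2) (n + 1) = P.d (n + 2) (n + 1) ≫ p.2.1 := by
    rintro n ⟨f0, f1, h01⟩
    have hb : (N'.d (n + 1) n).hom ∘ₗ (P.d (n + 2) (n + 1) ≫ f1).hom = 0 := by
      have : (P.d (n + 2) (n + 1) ≫ f1) ≫ N'.d (n + 1) n = 0 := by
        rw [Category.assoc, h01, ← Category.assoc, P.d_comp_d, Limits.zero_comp]
      exact congrArg ModuleCat.Hom.hom this
    obtain ⟨l, hl⟩ := pure_lift (hP (n + 2)) (N'.d (n + 2) (n + 1)).hom (N'.d (n + 1) n).hom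
      (exact_succ_plain ε hN' n) (pure_ker_d ε hN' (n + 1)) (P.d (n + 2) (n + 1) ≫ f1).hom hb
    exact ⟨ModuleCat.ofHom l, ModuleCat.hom_ext hl⟩
  refine ⟨ChainComplex.mkHom P N' z o ho
    (fun n p => ⟨(succ n p).choose, (succ n p).choose_spec⟩), ?_⟩
  apply HomologicalComplex.to_single_hom_ext
  simp only [HomologicalComplex.comp_f, ChainComplex.mkHom_f_0]
  exact hz

end Aux

/-- Let `M → N` be a map of `R`-modules, `P → M` an augmented complex of pure projective modules and `N'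
→ N` a universally exact resolution (the augmentation is a quasi-isomorphism after tensoring with
any module). Then there is a map of complexes `P → N'` inducing the given map `M → N` on the
augmentations. -/
theorem result (R : Type u) [CommRing R] {M N : ModuleCat.{u} R}
    (f : M ⟶ N) (P N' : ChainComplex (ModuleCat.{u} R) ℕ)
    (π : P ⟶ (ChainComplex.single₀ (ModuleCat.{u} R)).obj M)
    (ε : N' ⟶ (ChainComplex.single₀ (ModuleCat.{u} R)).obj N)
    (hP : ∀ n : ℕ, (∀ ⦃L T : Type u⦄ [AddCommGroup L] [Module R L] [AddCommGroup T] [Module R T] (g : L →ₗ[R] T),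
          Function.Surjective g → CAlgX.UniversallyInjective R (LinearMap.ker g).subtype →
          ∀ φ : P.X n →ₗ[R] T, ∃ ψ : P.X n →ₗ[R] L, g ∘ₗ ψ = φ))
    (hN' : ∀ T : ModuleCat.{u} R,
      QuasiIso (((MonoidalCategory.tensorRight T).mapHomologicalComplex (ComplexShape.down ℕ)).map ε)) :
    ∃ φ : P ⟶ N', φ ≫ ε = π ≫ (ChainComplex.single₀ (ModuleCat.{u} R)).map f := by
  exact Aux.main R f P N' π ε hP hN'

end Groth.Agent.S8775
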