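import Groth.Statements.S8776
import Mathlib
import Groth.Prelude.Def_CAlgX
import Groth.Agent.Lib.Helper9.PureRes
-- import your own Groth.Agent.* helpers here

set_option autoImplicit false
universe u
open CategoryTheory
open PureExt

namespace Groth.Agent.S8776

open CategoryTheory
namespace Aux

open Groth.Agent.Helper9.PureRes MonoidalCategory

variable (R : Type u) [CommRing R]

/-- categorical form of `pure_lift` -/
theorem cat_lift {X A B C : ModuleCat.{u} R}
    (hP : ∀ ⦃L T : Type u⦄ [AddCommGroup L] [Module R L] [AddCommGroup T] [Module R T]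
      (g : L →ₗ[R] T), Function.Surjective g →
      CAlgX.UniversallyInjective R (LinearMap.ker g).subtype →
      ∀ φ : X →ₗ[R] T, ∃ ψ : X →ₗ[R] L, g ∘ₗ ψ = φ)
    (a : A ⟶ B) (b : B ⟶ C) (hab : Function.Exact a.hom b.hom)
    (hpure : CAlgX.UniversallyInjective R (LinearMap.ker a.hom).subtype)
    (h : X ⟶ B) (hb : h ≫ b = 0) : ∃ l : X ⟶ A, l ≫ a = h := by
  obtain ⟨l, hl⟩ := pure_lift hP a.hom b.hom hab hpure h.hom (congrArg ModuleCat.Hom.hom hb)
  exact ⟨ModuleCat.ofHom l, ModuleCat.hom_ext hl⟩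

theorem main {M N : ModuleCat.{u} R}
    (f : M ⟶ N) (P N' : ChainComplex (ModuleCat.{u} R) ℕ)
    (π : P ⟶ (ChainComplex.single₀ (ModuleCat.{u} R)).obj M)
    (ε : N' ⟶ (ChainComplex.single₀ (ModuleCat.{u} R)).obj N)
    (hP : ∀ n : ℕ, (∀ ⦃L T : Type u⦄ [AddCommGroup L] [Module R L] [AddCommGroup T] [Module R T] (g : L →ₗ[R] T),
          Function.Surjective g → CAlgX.UniversallyInjective R (LinearMap.ker g).subtype →
          ∀ φ : P.X n →ₗ[R] T, ∃ ψ : P.X n →ₗ[R] L, g ∘ₗ ψ = φ))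
    (hN' : ∀ T : ModuleCat.{u} R,
      QuasiIso (((MonoidalCategory.tensorRight T).mapHomologicalComplex (ComplexShape.down ℕ)).map ε))
    (α β : P ⟶ N') (hα : α ≫ ε = π ≫ (ChainComplex.single₀ (ModuleCat.{u} R)).map f)
    (hβ : β ≫ ε = π ≫ (ChainComplex.single₀ (ModuleCat.{u} R)).map f) : Nonempty (Homotopy α β) := by
  suffices h : Nonempty (Homotopy (α - β) 0) from h.map Homotopy.equivSubZero.symm
  set e : P ⟶ N' := α - β with he
  have heε : e ≫ ε = 0 := by
    rw [he, Preadditive.sub_comp, hα, hβ, sub_self]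
  have heε0 : e.f 0 ≫ ε.f 0 = 0 := by
    have := congrArg (fun φ => HomologicalComplex.Hom.f φ 0) heε
    simpa using this
  -- zero
  obtain ⟨z, hz⟩ := cat_lift R (hP 0) (N'.d 1 0) (ε.f 0) (exact_zero_plain ε hN')
    (pure_ker_d ε hN' 0) (e.f 0) heε0
  -- one
  obtain ⟨o, ho⟩ := cat_lift R (hP 1) (N'.d 2 1) (N'.d 1 0) (exact_succ_plain ε hN' 0)
    (pure_ker_d ε hN' 1) (e.f 1 - P.d 1 0 ≫ z) (by
      rw [Preadditive.sub_comp, Category.assoc, hz, e.comm, sub_self])
  have succ : ∀ (n : ℕ) (p : Σ' (f : P.X n ⟶ N'.X (n + 1)) (f' : P.X (n + 1) ⟶ N'.X (n + 2)),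
      e.f (n + 1) = P.d (n + 1) n ≫ f + f' ≫ N'.d (n + 2) (n + 1)),
      ∃ f'' : P.X (n + 2) ⟶ N'.X (n + 3),
        e.f (n + 2) = P.d (n + 2) (n + 1) ≫ p.2.1 + f'' ≫ N'.d (n + 3) (n + 2) := by
    rintro n ⟨g, g', w⟩
    obtain ⟨l, hl⟩ := cat_lift R (hP (n + 2)) (N'.d (n + 3) (n + 2)) (N'.d (n + 2) (n + 1))
      (exact_succ_plain ε hN' (n + 1)) (pure_ker_d ε hN' (n + 2))
      (e.f (n + 2) - P.d (n + 2) (n + 1) ≫ g') (by
        rw [Preadditive.sub_comp, Category.assoc, e.comm]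
        have : g' ≫ N'.d (n + 2) (n + 1) = e.f (n + 1) - P.d (n + 1) n ≫ g := by
          rw [w]; abel
        rw [this, Preadditive.comp_sub, ← Category.assoc (P.d (n + 2) (n + 1)), P.d_comp_d,
          Limits.zero_comp, sub_zero, sub_self])
    exact ⟨l, by rw [hl]; abel⟩
  exact ⟨Homotopy.mkInductive e z hz.symm o (by rw [ho]; abel)
    (fun n p => ⟨(succ n p).choose, (succ n p).choose_spec⟩)⟩

end Aux

/-- With `M → N`, an augmented complex `P → M` of pure projective modules and a universally exact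
resolution `N' → N` (augmentation a quasi-isomorphism after any tensor product), two maps of
complexes `P → N'` inducing the same map `M → N` are homotopic. -/
theorem result (R : Type u) [CommRing R] {M N : ModuleCat.{u} R}
    (f : M ⟶ N) (P N' : ChainComplex (ModuleCat.{u} R) ℕ)
    (π : P ⟶ (ChainComplex.single₀ (ModuleCat.{u} R)).obj M)
    (ε : N' ⟶ (ChainComplex.single₀ (ModuleCat.{u} R)).obj N)
    (hP : ∀ n : ℕ, (∀ ⦃L T : Type u⦄ [AddCommGroup L] [Module R L] [AddCommGroup T] [Module R T] (g : L →ₗ[R] T),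
          Function.Surjective g → CAlgX.UniversallyInjective R (LinearMap.ker g).subtype →
          ∀ φ : P.X n →ₗ[R] T, ∃ ψ : P.X n →ₗ[R] L, g ∘ₗ ψ = φ))
    (hN' : ∀ T : ModuleCat.{u} R,
      QuasiIso (((MonoidalCategory.tensorRight T).mapHomologicalComplex (ComplexShape.down ℕ)).map ε))
    (α β : P ⟶ N') (hα : α ≫ ε = π ≫ (ChainComplex.single₀ (ModuleCat.{u} R)).map f)
    (hβ : β ≫ ε = π ≫ (ChainComplex.single₀ (ModuleCat.{u} R)).map f) : Nonempty (Homotopy α β) := by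
  exact Aux.main R f P N' π ε hP hN' α β hα hβ

end Groth.Agent.S8776
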