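import Groth.Statements.S8777
import Mathlib
import Groth.Prelude.Def_CAlgX
import Groth.Prelude.Def_W4stkadequatePure
import Groth.Agent.Lib.Helper9.PureResCo
import Groth.Agent.Lib.Helper3.PureA
-- import your own Groth.Agent.* helpers here

set_option autoImplicit false
universe u
open CategoryTheory
open PureExt

namespace Groth.Agent.S8777

open CategoryTheory
namespace Aux

open Groth.Agent.Helper9.PureResCo MonoidalCategory HomologicalComplex

variable {R : Type u} [CommRing R]

theorem quasiIso_tensor_of_uexact {M : ModuleCat.{u} R} {K : CochainComplex (ModuleCat.{u} R) ℕ}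
    (ι : (CochainComplex.single₀ (ModuleCat.{u} R)).obj M ⟶ K)
    (hinj : ∀ (Q : Type u) [AddCommGroup Q] [Module R Q],
      Function.Injective ((ι.f 0).hom.rTensor Q))
    (h0 : ∀ (Q : Type u) [AddCommGroup Q] [Module R Q],
      Function.Exact ((ι.f 0).hom.rTensor Q) ((K.d 0 1).hom.rTensor Q))
    (hs : ∀ (Q : Type u) [AddCommGroup Q] [Module R Q] (n : ℕ),
      Function.Exact ((K.d n (n + 1)).hom.rTensor Q) ((K.d (n + 1) (n + 2)).hom.rTensor Q))
    (T : ModuleCat.{u} R) :
    QuasiIso (((tensorRight T).mapHomologicalComplex (ComplexShape.up ℕ)).map ι) := by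
  refine ⟨fun n => ?_⟩
  cases n with
  | zero =>
    rw [CochainComplex.quasiIsoAt₀_iff, ShortComplex.quasiIso_iff_of_zeros]
    · constructor
      · rw [ShortComplex.ShortExact.moduleCat_exact_iff_function_exact]
        exact h0 T
      · rw [ModuleCat.mono_iff_injective]
        exact hinj T
    · exact HomologicalComplex.shape (((tensorRight T).mapHomologicalComplex (ComplexShape.up ℕ)).obj
          ((CochainComplex.single₀ (ModuleCat R)).obj M)) 0 0 (by simp)
    · show (tensorRight T).map (((CochainComplex.single₀ (ModuleCat.{u} R)).obj M).d 0 1) = 0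
      rw [single_obj_d, Functor.map_zero]
    · exact HomologicalComplex.shape (((tensorRight T).mapHomologicalComplex (ComplexShape.up ℕ)).obj
          K) 0 0 (by simp)
  | succ n =>
    rw [quasiIsoAt_iff_exactAt]
    · rw [HomologicalComplex.exactAt_iff' _ n (n + 1) (n + 2) (by simp)
        (by simp only [CochainComplex.next]; rfl)]
      rw [ShortComplex.ShortExact.moduleCat_exact_iff_function_exact]
      exact hs T n
    · apply ShortComplex.exact_of_isZero_X₂
      show Limits.IsZero ((tensorRight T).obj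
        (((CochainComplex.single₀ (ModuleCat.{u} R)).obj M).X (n + 1)))
      exact Functor.map_isZero _ (isZero_single_obj_X _ _ _ _ (by simp))

variable (R)

/-- the successive cokernels -/
noncomputable def Cseq (M : ModuleCat.{u} R) : ℕ → ModuleCat.{u} R
  | 0 => M
  | n + 1 => ModuleCat.of R (CharacterModule (CharacterModule (Cseq M n)) ⧸
      LinearMap.range (PureExt.charEval R (Cseq M n)))

noncomputable def X (M : ModuleCat.{u} R) (n : ℕ) : ModuleCat.{u} R :=
  ModuleCat.of R (CharacterModule (CharacterModule (Cseq R M n)))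

noncomputable def e (M : ModuleCat.{u} R) (n : ℕ) : Cseq R M n →ₗ[R] X R M n :=
  PureExt.charEval R (Cseq R M n)

noncomputable def p (M : ModuleCat.{u} R) (n : ℕ) : X R M n →ₗ[R] Cseq R M (n + 1) :=
  (LinearMap.range (e R M n)).mkQ

theorem p_surj (M : ModuleCat.{u} R) (n : ℕ) : Function.Surjective (p R M n) :=
  Submodule.mkQ_surjective _

theorem exact_e_p (M : ModuleCat.{u} R) (n : ℕ) : Function.Exact (e R M n) (p R M n) := by
  rw [LinearMap.exact_iff]
  exact (Submodule.ker_mkQ _)

noncomputable def d (M : ModuleCat.{u} R) (n : ℕ) : X R M n ⟶ X R M (n + 1) :=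
  ModuleCat.ofHom (e R M (n + 1) ∘ₗ p R M n)

theorem d_comp_d (M : ModuleCat.{u} R) (n : ℕ) : d R M n ≫ d R M (n + 1) = 0 := by
  apply ModuleCat.hom_ext
  apply LinearMap.ext
  intro x
  show e R M (n + 2) (p R M (n + 1) (e R M (n + 1) (p R M n x))) = 0
  rw [(exact_e_p R M (n + 1)).apply_apply_eq_zero, map_zero]

noncomputable def I (M : ModuleCat.{u} R) : CochainComplex (ModuleCat.{u} R) ℕ :=
  CochainComplex.of (X R M) (d R M) (d_comp_d R M)

theorem I_d (M : ModuleCat.{u} R) (n : ℕ) : (I R M).d n (n + 1) = d R M n :=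
  CochainComplex.of_d (X R M) (d R M) n

theorem e_comp_d (M : ModuleCat.{u} R) :
    (ModuleCat.ofHom (e R M 0) : M ⟶ (I R M).X 0) ≫ (I R M).d 0 1 = 0 := by
  rw [I_d]
  apply ModuleCat.hom_ext
  apply LinearMap.ext
  intro x
  have h : p R M 0 (e R M 0 x) = 0 := (exact_e_p R M 0).apply_apply_eq_zero x
  show e R M 1 (p R M 0 (e R M 0 x)) = 0
  exact (congrArg (e R M 1) h).trans (map_zero _)

noncomputable def η (M : ModuleCat.{u} R) :
    (CochainComplex.single₀ (ModuleCat.{u} R)).obj M ⟶ I R M :=
  (CochainComplex.fromSingle₀Equiv _ _).symm ⟨ModuleCat.ofHom (e R M 0), e_comp_d R M⟩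

theorem η_f_zero (M : ModuleCat.{u} R) :
    (η R M).f 0 = (ModuleCat.ofHom (e R M 0) : M ⟶ (I R M).X 0) :=
  CochainComplex.fromSingle₀Equiv_symm_apply_f_zero _ _

theorem exact_comp {A B C D E : Type*} [AddCommGroup A] [Module R A] [AddCommGroup B] [Module R B]
    [AddCommGroup C] [Module R C] [AddCommGroup D] [Module R D] [AddCommGroup E] [Module R E]
    (a : A →ₗ[R] B) (b : B →ₗ[R] C) (c : C →ₗ[R] D) (d : D →ₗ[R] E)
    (ha : Function.Surjective a) (hd : Function.Injective d) (h : Function.Exact b c) :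
    Function.Exact (b ∘ₗ a) (d ∘ₗ c) :=
  (hd.comp_exact_iff_exact).mpr ((ha.comp_exact_iff_exact).mpr h)

theorem e_uinj (M : ModuleCat.{u} R) (n : ℕ) (Q : Type u) [AddCommGroup Q] [Module R Q] :
    Function.Injective ((e R M n).rTensor Q) :=
  Groth.Agent.Helper3.PureLib.universallyInjective_charEval R (Cseq R M n) Q

theorem ep_uexact (M : ModuleCat.{u} R) (n : ℕ) (Q : Type u) [AddCommGroup Q] [Module R Q] :
    Function.Exact ((e R M n).rTensor Q) ((p R M n).rTensor Q) :=
  rTensor_exact Q (exact_e_p R M n) (p_surj R M n)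

theorem main (M : ModuleCat.{u} R) :
    ∃ (I : CochainComplex (ModuleCat.{u} R) ℕ) (η : (CochainComplex.single₀ (ModuleCat.{u} R)).obj M ⟶ I),
      (∀ n : ℕ, (∀ ⦃K L : Type u⦄ [AddCommGroup K] [Module R K] [AddCommGroup L] [Module R L] (g : K →ₗ[R] L),
          CAlgX.UniversallyInjective R g → ∀ φ : K →ₗ[R] I.X n, ∃ ψ : L →ₗ[R] I.X n, ψ ∘ₗ g = φ)) ∧
      ∀ T : ModuleCat.{u} R,
      QuasiIso (((MonoidalCategory.tensorRight T).mapHomologicalComplex (ComplexShape.up ℕ)).map η) := by
  refine ⟨I R M, η R M, ?_, ?_⟩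
  · intro n K L _ _ _ _ g hg φ
    exact Groth.Agent.Helper3.PureLib.charModule_pureInjective
      (B := CharacterModule (Cseq R M n)) g hg φ
  · apply quasiIso_tensor_of_uexact
    · intro Q _ _
      rw [η_f_zero]
      exact e_uinj R M 0 Q
    · intro Q _ _
      rw [η_f_zero, I_d]
      show Function.Exact ((e R M 0).rTensor Q) ((e R M 1 ∘ₗ p R M 0).rTensor Q)
      rw [LinearMap.rTensor_comp]
      exact (Function.Injective.comp_exact_iff_exact (e_uinj R M 1 Q)).mpr (ep_uexact R M 0 Q)
    · intro Q _ _ n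
      rw [I_d, I_d]
      show Function.Exact ((e R M (n + 1) ∘ₗ p R M n).rTensor Q)
        ((e R M (n + 2) ∘ₗ p R M (n + 1)).rTensor Q)
      rw [LinearMap.rTensor_comp, LinearMap.rTensor_comp]
      exact exact_comp R _ _ _ _ (LinearMap.rTensor_surjective Q (p_surj R M n))
        (e_uinj R M (n + 2) Q) (ep_uexact R M (n + 1) Q)

end Aux

/-- Every `R`-module `M` has a pure injective resolution: a complex `I^0 → I^1 → …` with a
coaugmentation from `M` such that each `I^n` is pure injective (every linear map into `I^n` extends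
along every universally injective map) and `0 → M → I^0 → I^1 → …` is universally exact, i.e. the
coaugmentation stays a quasi-isomorphism after tensoring with any `R`-module. -/
theorem result (R : Type u) [CommRing R] (M : ModuleCat.{u} R) :
    ∃ (I : CochainComplex (ModuleCat.{u} R) ℕ) (η : (CochainComplex.single₀ (ModuleCat.{u} R)).obj M ⟶ I),
      (∀ n : ℕ, (∀ ⦃K L : Type u⦄ [AddCommGroup K] [Module R K] [AddCommGroup L] [Module R L] (g : K →ₗ[R] L),
          CAlgX.UniversallyInjective R g → ∀ φ : K →ₗ[R] I.X n, ∃ ψ : L →ₗ[R] I.X n, ψ ∘ₗ g = φ)) ∧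
      ∀ T : ModuleCat.{u} R,
      QuasiIso (((MonoidalCategory.tensorRight T).mapHomologicalComplex (ComplexShape.up ℕ)).map η) := by
  exact Aux.main R M

end Groth.Agent.S8777
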