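import Groth.Statements.S8778
import Mathlib
import Groth.Prelude.Def_CAlgX
import Groth.Agent.Lib.Helper9.PureResCo
-- import your own Groth.Agent.* helpers here

set_option autoImplicit false
universe u
open CategoryTheory
open PureExt

namespace Groth.Agent.S8778

open CategoryTheory
namespace Aux

open Groth.Agent.Helper9.PureResCo MonoidalCategory

variable (R : Type u) [CommRing R]

/-- categorical form of `pure_ext` -/
theorem cat_ext {X A B C : ModuleCat.{u} R}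
    (hI : ∀ ⦃K L : Type u⦄ [AddCommGroup K] [Module R K] [AddCommGroup L] [Module R L]
      (g : K →ₗ[R] L), CAlgX.UniversallyInjective R g →
      ∀ φ : K →ₗ[R] X, ∃ ψ : L →ₗ[R] X, ψ ∘ₗ g = φ)
    (a : A ⟶ B) (b : B ⟶ C)
    (hab : ∀ (Q : Type u) [AddCommGroup Q] [Module R Q],
      Function.Exact (a.hom.rTensor Q) (b.hom.rTensor Q))
    (h : B ⟶ X) (ha : a ≫ h = 0) : ∃ l : C ⟶ X, b ≫ l = h := by
  obtain ⟨l, hl⟩ := pure_ext hI a.hom b.hom hab h.hom (congrArg ModuleCat.Hom.hom ha)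
  exact ⟨ModuleCat.ofHom l, ModuleCat.hom_ext hl⟩

theorem main {M N : ModuleCat.{u} R}
    (f : M ⟶ N) (M' I : CochainComplex (ModuleCat.{u} R) ℕ)
    (η : (CochainComplex.single₀ (ModuleCat.{u} R)).obj M ⟶ M')
    (ε : (CochainComplex.single₀ (ModuleCat.{u} R)).obj N ⟶ I)
    (hM' : ∀ T : ModuleCat.{u} R,
      QuasiIso (((MonoidalCategory.tensorRight T).mapHomologicalComplex (ComplexShape.up ℕ)).map η))
    (hI : ∀ n : ℕ, (∀ ⦃K L : Type u⦄ [AddCommGroup K] [Module R K] [AddCommGroup L] [Module R L] (g : K →ₗ[R] L),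
          CAlgX.UniversallyInjective R g → ∀ φ : K →ₗ[R] I.X n, ∃ ψ : L →ₗ[R] I.X n, ψ ∘ₗ g = φ)) :
    ∃ φ : M' ⟶ I, η ≫ φ = (CochainComplex.single₀ (ModuleCat.{u} R)).map f ≫ ε := by
  obtain ⟨z, hz⟩ : ∃ z : M'.X 0 ⟶ I.X 0,
      η.f 0 ≫ z = ((CochainComplex.single₀ (ModuleCat.{u} R)).map f).f 0 ≫ ε.f 0 := by
    obtain ⟨ψ, hψ⟩ := hI 0 (η.f 0).hom (uinj_zero η hM')
      (((CochainComplex.single₀ (ModuleCat.{u} R)).map f).f 0 ≫ ε.f 0).hom
    exact ⟨ModuleCat.ofHom ψ, ModuleCat.hom_ext hψ⟩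
  obtain ⟨o, ho⟩ := cat_ext R (hI 1) (η.f 0) (M'.d 0 1) (uexact_zero η hM') (z ≫ I.d 0 1) (by
    rw [← Category.assoc, hz, Category.assoc, ι_comp_d ε, Limits.comp_zero])
  have succ : ∀ (n : ℕ) (p : Σ' (f : M'.X n ⟶ I.X n) (f' : M'.X (n + 1) ⟶ I.X (n + 1)),
      f ≫ I.d n (n + 1) = M'.d n (n + 1) ≫ f'),
      ∃ f'' : M'.X (n + 2) ⟶ I.X (n + 2),
        p.2.1 ≫ I.d (n + 1) (n + 2) = M'.d (n + 1) (n + 2) ≫ f'' := by
    rintro n ⟨f0, f1, h01⟩
    obtain ⟨l, hl⟩ := cat_ext R (hI (n + 2)) (M'.d n (n + 1)) (M'.d (n + 1) (n + 2))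
      (uexact_succ η hM' n) (f1 ≫ I.d (n + 1) (n + 2)) (by
        rw [← Category.assoc, ← h01, Category.assoc, I.d_comp_d, Limits.comp_zero])
    exact ⟨l, hl.symm⟩
  refine ⟨CochainComplex.mkHom M' I z o ho.symm
    (fun n p => ⟨(succ n p).choose, (succ n p).choose_spec⟩), ?_⟩
  apply HomologicalComplex.from_single_hom_ext
  simp only [HomologicalComplex.comp_f, CochainComplex.mkHom_f_0]
  exact hz

end Aux

/-- Let `M → N` be a map of `R`-modules, `M → M'` a universally exact resolution (the coaugmentation is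
a quasi-isomorphism after tensoring with any module) and `N → I` a coaugmented cochain complex of
pure injective modules. Then there is a map of complexes `M' → I` inducing the given map `M → N` on
the coaugmentations. -/
theorem result (R : Type u) [CommRing R] {M N : ModuleCat.{u} R}
    (f : M ⟶ N) (M' I : CochainComplex (ModuleCat.{u} R) ℕ)
    (η : (CochainComplex.single₀ (ModuleCat.{u} R)).obj M ⟶ M')
    (ε : (CochainComplex.single₀ (ModuleCat.{u} R)).obj N ⟶ I)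
    (hM' : ∀ T : ModuleCat.{u} R,
      QuasiIso (((MonoidalCategory.tensorRight T).mapHomologicalComplex (ComplexShape.up ℕ)).map η))
    (hI : ∀ n : ℕ, (∀ ⦃K L : Type u⦄ [AddCommGroup K] [Module R K] [AddCommGroup L] [Module R L] (g : K →ₗ[R] L),
          CAlgX.UniversallyInjective R g → ∀ φ : K →ₗ[R] I.X n, ∃ ψ : L →ₗ[R] I.X n, ψ ∘ₗ g = φ)) :
    ∃ φ : M' ⟶ I, η ≫ φ = (CochainComplex.single₀ (ModuleCat.{u} R)).map f ≫ ε := by
  exact Aux.main R f M' I η ε hM' hI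

end Groth.Agent.S8778
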