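import Groth.Statements.S8779
import Mathlib
import Groth.Prelude.Def_CAlgX
import Groth.Agent.Lib.Helper9.PureResCo
-- import your own Groth.Agent.* helpers here

set_option autoImplicit false
universe u
open CategoryTheory
open PureExt

namespace Groth.Agent.S8779

open CategoryTheory
namespace Aux

open Groth.Agent.Helper9.PureResCo MonoidalCategory

variable (R : Type u) [CommRing R]

/-- categorical form of `pure_ext` -/
theorem cat_ext {X A B C : ModuleCat.{u} R}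
    (hI : ∀ ⦃K L : Type u⦄ [AddCommGroup K] [Module R K] [AddCommGroup L] [Module R L]
      (g : K →ₗ[R] L), CAlgX.UniversallyInjective R g →
      ∀ φ : K →ₗ[R] X, ∃ ψ : L →ₗ[R] X, ψ ∘ₗ g = φ)
    (a : A ⟶ B) (b : B ⟶ C)
    (hab : ∀ (Q : Type u) [AddCommGroup Q] [Module R Q],
      Function.Exact (a.hom.rTensor Q) (b.hom.rTensor Q))
    (h : B ⟶ X) (ha : a ≫ h = 0) : ∃ l : C ⟶ X, b ≫ l = h := by
  obtain ⟨l, hl⟩ := pure_ext hI a.hom b.hom hab h.hom (congrArg ModuleCat.Hom.hom ha)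
  exact ⟨ModuleCat.ofHom l, ModuleCat.hom_ext hl⟩

theorem main {M N : ModuleCat.{u} R}
    (f : M ⟶ N) (M' I : CochainComplex (ModuleCat.{u} R) ℕ)
    (η : (CochainComplex.single₀ (ModuleCat.{u} R)).obj M ⟶ M')
    (ε : (CochainComplex.single₀ (ModuleCat.{u} R)).obj N ⟶ I)
    (hM' : ∀ T : ModuleCat.{u} R,
      QuasiIso (((MonoidalCategory.tensorRight T).mapHomologicalComplex (ComplexShape.up ℕ)).map η))
    (hI : ∀ n : ℕ, (∀ ⦃K L : Type u⦄ [AddCommGroup K] [Module R K] [AddCommGroup L] [Module R L] (g : K →ₗ[R] L),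
          CAlgX.UniversallyInjective R g → ∀ φ : K →ₗ[R] I.X n, ∃ ψ : L →ₗ[R] I.X n, ψ ∘ₗ g = φ))
    (α β : M' ⟶ I) (hα : η ≫ α = (CochainComplex.single₀ (ModuleCat.{u} R)).map f ≫ ε)
    (hβ : η ≫ β = (CochainComplex.single₀ (ModuleCat.{u} R)).map f ≫ ε) : Nonempty (Homotopy α β) := by
  suffices h : Nonempty (Homotopy (α - β) 0) from h.map Homotopy.equivSubZero.symm
  set e : M' ⟶ I := α - β with he
  have hηe : η ≫ e = 0 := by
    rw [he, Preadditive.comp_sub, hα, hβ, sub_self]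
  have hηe0 : η.f 0 ≫ e.f 0 = 0 := by
    have := congrArg (fun φ => HomologicalComplex.Hom.f φ 0) hηe
    simpa using this
  obtain ⟨z, hz⟩ := cat_ext R (hI 0) (η.f 0) (M'.d 0 1) (uexact_zero η hM') (e.f 0) hηe0
  obtain ⟨o, ho⟩ := cat_ext R (hI 1) (M'.d 0 1) (M'.d 1 2) (uexact_succ η hM' 0)
    (e.f 1 - z ≫ I.d 0 1) (by
      rw [Preadditive.comp_sub, ← Category.assoc, hz, e.comm, sub_self])
  have succ : ∀ (n : ℕ) (p : Σ' (f : M'.X (n + 1) ⟶ I.X n) (f' : M'.X (n + 2) ⟶ I.X (n + 1)),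
      e.f (n + 1) = f ≫ I.d n (n + 1) + M'.d (n + 1) (n + 2) ≫ f'),
      ∃ f'' : M'.X (n + 3) ⟶ I.X (n + 2),
        e.f (n + 2) = p.2.1 ≫ I.d (n + 1) (n + 2) + M'.d (n + 2) (n + 3) ≫ f'' := by
    rintro n ⟨g, g', w⟩
    obtain ⟨l, hl⟩ := cat_ext R (hI (n + 2)) (M'.d (n + 1) (n + 2)) (M'.d (n + 2) (n + 3))
      (uexact_succ η hM' (n + 1)) (e.f (n + 2) - g' ≫ I.d (n + 1) (n + 2)) (by
        rw [Preadditive.comp_sub, ← e.comm, ← Category.assoc]
        have : M'.d (n + 1) (n + 2) ≫ g' = e.f (n + 1) - g ≫ I.d n (n + 1) := by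
          rw [w]; abel
        rw [this, Preadditive.sub_comp, Category.assoc g, I.d_comp_d,
          Limits.comp_zero, sub_zero, sub_self])
    exact ⟨l, by rw [hl]; abel⟩
  exact ⟨Homotopy.mkCoinductive e z hz.symm o (by rw [ho]; abel)
    (fun n p => ⟨(succ n p).choose, (succ n p).choose_spec⟩)⟩

end Aux

/-- With `M → N` a map of `R`-modules, `M → M'` a universally exact resolution and `N → I` a coaugmented
cochain complex of pure injective modules, two maps of complexes `M' → I` inducing the same map `M →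
N` are homotopic. -/
theorem result (R : Type u) [CommRing R] {M N : ModuleCat.{u} R}
    (f : M ⟶ N) (M' I : CochainComplex (ModuleCat.{u} R) ℕ)
    (η : (CochainComplex.single₀ (ModuleCat.{u} R)).obj M ⟶ M')
    (ε : (CochainComplex.single₀ (ModuleCat.{u} R)).obj N ⟶ I)
    (hM' : ∀ T : ModuleCat.{u} R,
      QuasiIso (((MonoidalCategory.tensorRight T).mapHomologicalComplex (ComplexShape.up ℕ)).map η))
    (hI : ∀ n : ℕ, (∀ ⦃K L : Type u⦄ [AddCommGroup K] [Module R K] [AddCommGroup L] [Module R L] (g : K →ₗ[R] L),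
          CAlgX.UniversallyInjective R g → ∀ φ : K →ₗ[R] I.X n, ∃ ψ : L →ₗ[R] I.X n, ψ ∘ₗ g = φ))
    (α β : M' ⟶ I) (hα : η ≫ α = (CochainComplex.single₀ (ModuleCat.{u} R)).map f ≫ ε)
    (hβ : η ≫ β = (CochainComplex.single₀ (ModuleCat.{u} R)).map f ≫ ε) : Nonempty (Homotopy α β) := by
  exact Aux.main R f M' I η ε hM' hI α β hα hβ

end Groth.Agent.S8779
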