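import Groth.Statements.S8799
import Groth.Agent.Lib.Helper8.EssConst1
import Groth.Agent.Lib.Helper8.LC35

set_option autoImplicit false
universe u
open CategoryTheory Opposite
open LocCoh

namespace Groth.Agent.S8799

/-- Let (A, m) be a Noetherian local ring, (M_n) an inverse system of finite A-modules, and M a finite
A-module with a compatible system of maps M → M_n. Suppose that for some i the induced map H^i_m(M)
→ lim H^i_m(M_n) on local cohomology is bijective, in the sense that an element of H^i_m(M)
vanishing in every H^i_m(M_n) is zero and every compatible family in the H^i_m(M_n) comes from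
H^i_m(M). We conclude that, taking the cone formed by the given maps, essential constancy holds for
the local cohomology system (H^i_m(M_n))_n, and the value it stabilizes at is H^i_m(M). -/
theorem result (A : Type u) [CommRing A] [IsNoetherianRing A] [IsLocalRing A] (Msys : ℕᵒᵖ ⥤ ModuleCat.{u} A) (hfin : ∀ n : ℕᵒᵖ, Module.Finite A (Msys.obj n)) (M : Type u) [AddCommGroup M] [Module A M] [Module.Finite A M] (c : (Functor.const ℕᵒᵖ).obj (ModuleCat.of A M) ⟶ Msys) (i : ℕ) (Hc : (Functor.const ℕᵒᵖ).obj ((localCohomology (IsLocalRing.maximalIdeal A) i).obj (ModuleCat.of A M)) ⟶ Msys ⋙ localCohomology (IsLocalRing.maximalIdeal A) i) (hHc : ∀ n : ℕᵒᵖ, Hc.app n = (localCohomology (IsLocalRing.maximalIdeal A) i).map (c.app n)) (hinj : ∀ x : (localCohomology (IsLocalRing.maximalIdeal A) i).obj (ModuleCat.of A M), (∀ n : ℕᵒᵖ, (Hc.app n) x = 0) → x = 0) (hsurj : ∀ y : (∀ n : ℕ, (localCohomology (IsLocalRing.maximalIdeal A) i).obj (Msys.obj (op n))), (∀ (n m : ℕ) (h : n ≤ m), ((localCohomology (IsLocalRing.maximalIdeal A) i).map (Msys.map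 (homOfLE h).op)) (y m) = y n) → ∃ x : (localCohomology (IsLocalRing.maximalIdeal A) i).obj (ModuleCat.of A M), ∀ n : ℕ, (Hc.app (op n)) x = y n) : DerCA.IsEssConstant (Msys ⋙ localCohomology (IsLocalRing.maximalIdeal A) i) ((localCohomology (IsLocalRing.maximalIdeal A) i).obj (ModuleCat.of A M)) Hc := by
  classical
  let lc := localCohomology (IsLocalRing.maximalIdeal A) i
  let Xs : ℕᵒᵖ ⥤ ModuleCat.{u} A := Msys ⋙ lc
  haveI hArt : ∀ n : ℕ, IsArtinian A (Xs.obj (op n)) := by
    intro n
    haveI := hfin (op n)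
    exact Groth.Agent.Helper8.LC.isArtinian_H_maximalIdeal i (Msys.obj (op n))
  haveI hArtH : IsArtinian A (lc.obj (ModuleCat.of A M)) :=
    Groth.Agent.Helper8.LC.isArtinian_H_maximalIdeal i M
  let cc : ∀ n : ℕ, (lc.obj (ModuleCat.of A M)) →ₗ[A] (Xs.obj (op n)) :=
    fun n => (Hc.app (op n)).hom
  have key := Groth.Agent.Helper8.EssConst.essConst (R := A)
    (fun n : ℕ => (Xs.obj (op n) : Type u))
    (fun n m h => (Xs.map (homOfLE h).op).hom)
    (by
      intro n
      have : (homOfLE (le_refl n)).op = 𝟙 (op n) := Subsingleton.elim _ _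
      change (Xs.map (homOfLE (le_refl n)).op).hom = LinearMap.id
      rw [this, Xs.map_id]
      rfl)
    (by
      intro n m k h₁ h₂
      have : (homOfLE (h₁.trans h₂)).op = (homOfLE h₂).op ≫ (homOfLE h₁).op :=
        Subsingleton.elim _ _
      rw [this, Xs.map_comp]
      rfl)
    (lc.obj (ModuleCat.of A M))
    cc
    (by
      intro n m h
      have h1 := Hc.naturality (homOfLE h).op
      have h2 : Hc.app (op n) = Hc.app (op m) ≫ Xs.map (homOfLE h).op := by
        rw [← h1]
        simp
      change _ = (Hc.app (op n)).hom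
      rw [h2]
      rfl)
    (by
      intro x hx
      apply hinj x
      intro n
      exact hx (unop n))
    (by
      intro y hy
      exact hsurj y hy)
  obtain ⟨i₀, s, hs, hj⟩ := key
  refine ⟨i₀, ModuleCat.ofHom s, ?_, ?_⟩
  · apply ModuleCat.hom_ext
    exact hs
  · intro j
    obtain ⟨k, hi, hjk, hk⟩ := hj j
    refine ⟨k, hi, hjk, ?_⟩
    apply ModuleCat.hom_ext
    exact hk

end Groth.Agent.S8799
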