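import Groth.Statements.S8812
import Mathlib

set_option autoImplicit false
universe u
open CategoryTheory AlgebraicGeometry
open Algz

namespace Groth.Agent.S8812

open AlgebraicGeometry CategoryTheory Topology
namespace H8812

variable {Y : Type u} [TopologicalSpace Y]

theorem codimPt_congr {w v w₁ v₁ : Y} (h : w ⤳ v) (h₁ : w₁ ⤳ v₁) (ew : w = w₁) (ev : v = v₁) :
    Algz.codimPt w v h = Algz.codimPt w₁ v₁ h₁ := by
  subst ew; subst ev; rfl

theorem codimPt_self (v : Y) (h : v ⤳ v) : Algz.codimPt v v h = 0 := by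
  unfold Algz.codimPt
  rw [Order.height_eq_zero]
  intro b _
  exact b.2

theorem one_le_codimPt [T0Space Y] (w v : Y) (h : w ⤳ v) (hne : w ≠ v) : 1 ≤ Algz.codimPt w v h := by
  unfold Algz.codimPt
  rw [Order.one_le_iff_pos, Order.height_pos]
  intro hmin
  have hb : (⟨Specialization.toEquiv v, Set.mem_Ici.mpr (le_refl _)⟩ : Set.Ici (Specialization.toEquiv v)) ≤
      ⟨Specialization.toEquiv w, Specialization.toEquiv_le_toEquiv.mpr h⟩ :=
    Specialization.toEquiv_le_toEquiv.mpr h
  have h2 := hmin hb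
  have h3 : v ⤳ w := h2
  exact hne (h.antisymm h3).eq

theorem eq_of_codimPt_eq_zero [T0Space Y] (w v : Y) (h : w ⤳ v) (h0 : Algz.codimPt w v h = 0) : w = v := by
  by_contra hne
  have := one_le_codimPt w v h hne
  rw [h0] at this
  exact absurd this (by simp)

/-- monotonicity in the smaller set -/
theorem codimPt_mono (w v v' : Y) (h : w ⤳ v) (hv : v ⤳ v') (h' : w ⤳ v') :
    Algz.codimPt w v h ≤ Algz.codimPt w v' h' := by
  unfold Algz.codimPt
  let f : Set.Ici (Specialization.toEquiv v) → Set.Ici (Specialization.toEquiv v') := fun a =>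
    ⟨a.1, le_trans (Specialization.toEquiv_le_toEquiv.mpr hv) a.2⟩
  have hf : StrictMono f := fun a b hab => hab
  exact Order.height_le_height_apply_of_strictMono f hf _


/-- Case II system: extend by one step -/
def extS (Z : Set Y) (y y' : Y) (hyy' : y ⤳ y') (k : ℕ) (S : Algz.DSystem Z y k) :
    Algz.DSystem Z y' (k + 1) where
  v := Fin.snoc (α := fun _ => Y) S.v y'
  w := Fin.snoc (α := fun _ => Y) S.w y'
  spec := fun i => by
    induction i using Fin.lastCases with
    | last => rw [Fin.snoc_last, Fin.snoc_last]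
    | cast j => rw [Fin.snoc_castSucc, Fin.snoc_castSucc]; exact S.spec j
  spec_succ := fun i => by
    rw [Fin.snoc_castSucc]
    induction i using Fin.lastCases with
    | last =>
      rw [Fin.succ_last, Fin.snoc_last, S.last_eq]
      exact hyy'
    | cast j =>
      rw [← Fin.castSucc_succ, Fin.snoc_castSucc]
      exact S.spec_succ j
  start_mem := by
    have : (0 : Fin (k + 1 + 1)) = Fin.castSucc (0 : Fin (k + 1)) := rfl
    rw [this, Fin.snoc_castSucc]
    exact S.start_mem
  last_eq := Fin.snoc_last (α := fun _ => Y) _ _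

theorem extS_c_cast (Z : Set Y) (y y' : Y) (hyy' : y ⤳ y') (k : ℕ) (S : Algz.DSystem Z y k)
    (j : Fin (k + 1)) : (extS Z y y' hyy' k S).c j.castSucc = S.c j := by
  unfold Algz.DSystem.c
  apply codimPt_congr
  · exact Fin.snoc_castSucc (α := fun _ => Y) _ _ j
  · exact Fin.snoc_castSucc (α := fun _ => Y) _ _ j

theorem extS_c_last (Z : Set Y) (y y' : Y) (hyy' : y ⤳ y') (k : ℕ) (S : Algz.DSystem Z y k) :
    (extS Z y y' hyy' k S).c (Fin.last (k + 1)) = 0 := by
  unfold Algz.DSystem.c
  exact (codimPt_congr ((extS Z y y' hyy' k S).spec (Fin.last (k + 1))) (specializes_rfl : y' ⤳ y')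
    (Fin.snoc_last (α := fun _ => Y) _ _) (Fin.snoc_last (α := fun _ => Y) _ _)).trans
      (codimPt_self _ _)

theorem extS_b_cast (Z : Set Y) (y y' : Y) (hyy' : y ⤳ y') (k : ℕ) (S : Algz.DSystem Z y k)
    (j : Fin k) : (extS Z y y' hyy' k S).b j.castSucc = S.b j := by
  unfold Algz.DSystem.b
  apply codimPt_congr
  · exact Fin.snoc_castSucc (α := fun _ => Y) _ _ j.castSucc
  · change Fin.snoc (α := fun _ => Y) S.v y' (j.castSucc.succ) = _
    rw [← Fin.castSucc_succ, Fin.snoc_castSucc]

theorem extS_b_last [T0Space Y] (Z : Set Y) (y y' : Y) (hyy' : y ⤳ y') (hne : y ≠ y') (k : ℕ)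
    (S : Algz.DSystem Z y k) : 1 ≤ (extS Z y y' hyy' k S).b (Fin.last k) := by
  unfold Algz.DSystem.b
  have e := codimPt_congr ((extS Z y y' hyy' k S).spec_succ (Fin.last k)) hyy'
    ((Fin.snoc_castSucc (α := fun _ => Y) _ _ (Fin.last k)).trans S.last_eq)
    (show (extS Z y y' hyy' k S).v (Fin.last k).succ = y' by
      change Fin.snoc (α := fun _ => Y) S.v y' ((Fin.last k).succ) = _
      rw [Fin.succ_last, Fin.snoc_last])
  rw [e]
  exact one_le_codimPt _ _ _ hne


/-- the `i`-th term in the definition of `delta` -/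
noncomputable def term {Z : Set Y} {y : Y} {k : ℕ} (S : Algz.DSystem Z y k) (i : Fin (k + 1)) : ℕ∞ :=
  (∑ j ∈ Finset.univ.filter (fun j : Fin (k + 1) => i ≤ j), S.c j) -
      ∑ j ∈ Finset.univ.filter (fun j : Fin k => i.val ≤ j.val), S.b j

theorem delta_eq {Z : Set Y} {y : Y} {k : ℕ} (S : Algz.DSystem Z y k) :
    S.delta = (k : ℕ∞) + Finset.univ.sup (term S) := rfl

theorem term_last {Z : Set Y} {y : Y} {k : ℕ} (S : Algz.DSystem Z y k) :
    S.c (Fin.last k) ≤ term S (Fin.last k) := by
  unfold term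
  have hB : ∑ j ∈ Finset.univ.filter (fun j : Fin k => (Fin.last k).val ≤ j.val), S.b j = 0 := by
    apply Finset.sum_eq_zero
    intro j hj
    rw [Finset.mem_filter] at hj
    exact absurd hj.2 (by simp)
  rw [hB, tsub_zero]
  exact Finset.single_le_sum (f := fun j => S.c j) (fun _ _ => bot_le)
    (Finset.mem_filter.mpr ⟨Finset.mem_univ _, le_refl _⟩)

theorem extS_term_last (Z : Set Y) (y y' : Y) (hyy' : y ⤳ y') (k : ℕ) (S : Algz.DSystem Z y k) :
    term (extS Z y y' hyy' k S) (Fin.last (k + 1)) = 0 := by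
  unfold term
  have hA : ∑ j ∈ Finset.univ.filter (fun j : Fin (k + 1 + 1) => Fin.last (k + 1) ≤ j),
      (extS Z y y' hyy' k S).c j = 0 := by
    apply Finset.sum_eq_zero
    intro j hj
    rw [Finset.mem_filter] at hj
    have : j = Fin.last (k + 1) := le_antisymm (Fin.le_last j) hj.2
    rw [this]
    exact extS_c_last Z y y' hyy' k S
  rw [hA, zero_tsub]

theorem extS_term_cast [T0Space Y] (Z : Set Y) (y y' : Y) (hyy' : y ⤳ y') (k : ℕ)
    (S : Algz.DSystem Z y k) (i : Fin (k + 1)) :
    term (extS Z y y' hyy' k S) i.castSucc =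
      term S i - (extS Z y y' hyy' k S).b (Fin.last k) := by
  unfold term
  have hA : ∑ j ∈ Finset.univ.filter (fun j : Fin (k + 1 + 1) => i.castSucc ≤ j),
      (extS Z y y' hyy' k S).c j =
      ∑ j ∈ Finset.univ.filter (fun j : Fin (k + 1) => i ≤ j), S.c j := by
    rw [Finset.sum_filter, Finset.sum_filter, Fin.sum_univ_castSucc]
    rw [extS_c_last, ite_self, add_zero]
    refine Finset.sum_congr rfl fun j _ => ?_
    rw [extS_c_cast]
    simp only [Fin.castSucc_le_castSucc_iff]
  have hB : ∑ j ∈ Finset.univ.filter (fun j : Fin (k + 1) => i.castSucc.val ≤ j.val),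
      (extS Z y y' hyy' k S).b j =
      (∑ j ∈ Finset.univ.filter (fun j : Fin k => i.val ≤ j.val), S.b j) +
        (extS Z y y' hyy' k S).b (Fin.last k) := by
    rw [Finset.sum_filter, Finset.sum_filter, Fin.sum_univ_castSucc]
    congr 1
    · refine Finset.sum_congr rfl fun j _ => ?_
      rw [extS_b_cast]
      rfl
    · rw [if_pos]
      exact Nat.lt_succ_iff.mp i.isLt
  rw [hA, hB, tsub_add_eq_tsub_tsub]

theorem extS_delta_le [T0Space Y] (Z : Set Y) (y y' : Y) (hyy' : y ⤳ y') (hne : y ≠ y') (k : ℕ)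
    (S : Algz.DSystem Z y k) (hc : 1 ≤ S.c (Fin.last k)) :
    (extS Z y y' hyy' k S).delta ≤ S.delta := by
  rw [delta_eq, delta_eq]
  set M := Finset.univ.sup (term S) with hM
  have hM1 : 1 ≤ M := hc.trans ((term_last S).trans (Finset.le_sup (Finset.mem_univ _)))
  have hsup : Finset.univ.sup (term (extS Z y y' hyy' k S)) ≤ M - 1 := by
    apply Finset.sup_le
    intro i _
    induction i using Fin.lastCases with
    | last => rw [extS_term_last]; exact bot_le
    | cast i₀ =>
      rw [extS_term_cast]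
      have h1 : term S i₀ ≤ M := Finset.le_sup (Finset.mem_univ _)
      exact (tsub_le_tsub_left (extS_b_last Z y y' hyy' hne k S) _).trans (tsub_le_tsub_right h1 _)
  calc ((k + 1 : ℕ) : ℕ∞) + Finset.univ.sup (term (extS Z y y' hyy' k S))
      ≤ ((k + 1 : ℕ) : ℕ∞) + (M - 1) := by gcongr
    _ = (k : ℕ∞) + (1 + (M - 1)) := by push_cast; rw [add_assoc]
    _ = (k : ℕ∞) + M := by rw [add_tsub_cancel_of_le hM1]


theorem v_last_eq [T0Space Y] {Z : Set Y} {y : Y} {k : ℕ} (S : Algz.DSystem Z y k)
    (hc : S.c (Fin.last k) = 0) : S.v (Fin.last k) = y :=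
  (eq_of_codimPt_eq_zero _ _ _ hc).symm.trans S.last_eq

/-- Case I system: replace the last step -/
def repS [T0Space Y] (Z : Set Y) (hZ : IsClosed Z) (y y' : Y) (hyy' : y ⤳ y') (k : ℕ)
    (S : Algz.DSystem Z y k) (hc : S.c (Fin.last k) = 0) : Algz.DSystem Z y' k where
  v := Function.update S.v (Fin.last k) y'
  w := Function.update S.w (Fin.last k) y'
  spec := fun i => by
    by_cases hi : i = Fin.last k
    · subst hi; rw [Function.update_self, Function.update_self]
    · rw [Function.update_of_ne hi, Function.update_of_ne hi]; exact S.spec i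
  spec_succ := fun i => by
    rw [Function.update_of_ne (Fin.castSucc_lt_last i).ne]
    by_cases hi : i.succ = Fin.last k
    · rw [hi, Function.update_self]
      have h1 := S.spec_succ i
      rw [hi, v_last_eq S hc] at h1
      exact h1.trans hyy'
    · rw [Function.update_of_ne hi]; exact S.spec_succ i
  start_mem := by
    by_cases h0 : (0 : Fin (k + 1)) = Fin.last k
    · rw [h0, Function.update_self]
      have h1 := S.start_mem
      rw [h0, v_last_eq S hc] at h1
      exact hyy'.mem_closed hZ h1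
    · rw [Function.update_of_ne h0]; exact S.start_mem
  last_eq := Function.update_self ..

theorem repS_c [T0Space Y] (Z : Set Y) (hZ : IsClosed Z) (y y' : Y) (hyy' : y ⤳ y') (k : ℕ)
    (S : Algz.DSystem Z y k) (hc : S.c (Fin.last k) = 0) (i : Fin (k + 1)) :
    (repS Z hZ y y' hyy' k S hc).c i = S.c i := by
  by_cases hi : i = Fin.last k
  · subst hi
    rw [hc]
    unfold Algz.DSystem.c
    exact (codimPt_congr ((repS Z hZ y y' hyy' k S hc).spec (Fin.last k)) (specializes_rfl : y' ⤳ y')
      (Function.update_self ..) (Function.update_self ..)).trans (codimPt_self _ _)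
  · unfold Algz.DSystem.c
    exact codimPt_congr _ _ (Function.update_of_ne hi ..) (Function.update_of_ne hi ..)

theorem repS_b [T0Space Y] (Z : Set Y) (hZ : IsClosed Z) (y y' : Y) (hyy' : y ⤳ y') (k : ℕ)
    (S : Algz.DSystem Z y k) (hc : S.c (Fin.last k) = 0) (i : Fin k) :
    S.b i ≤ (repS Z hZ y y' hyy' k S hc).b i := by
  have hw : (repS Z hZ y y' hyy' k S hc).w i.castSucc = S.w i.castSucc :=
    Function.update_of_ne (Fin.castSucc_lt_last i).ne ..
  by_cases hi : i.succ = Fin.last k
  · have hv : (repS Z hZ y y' hyy' k S hc).v i.succ = y' := by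
      change Function.update S.v (Fin.last k) y' i.succ = y'
      rw [hi, Function.update_self]
    have hvy : S.v i.succ ⤳ y' := by
      rw [hi, v_last_eq S hc]; exact hyy'
    unfold Algz.DSystem.b
    have e := codimPt_congr ((repS Z hZ y y' hyy' k S hc).spec_succ i)
      ((S.spec_succ i).trans hvy) hw hv
    rw [e]
    exact codimPt_mono _ _ _ _ hvy _
  · have hv : (repS Z hZ y y' hyy' k S hc).v i.succ = S.v i.succ :=
      Function.update_of_ne hi ..
    unfold Algz.DSystem.b
    exact le_of_eq (codimPt_congr _ _ hw.symm hv.symm)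

theorem repS_delta_le [T0Space Y] (Z : Set Y) (hZ : IsClosed Z) (y y' : Y) (hyy' : y ⤳ y') (k : ℕ)
    (S : Algz.DSystem Z y k) (hc : S.c (Fin.last k) = 0) :
    (repS Z hZ y y' hyy' k S hc).delta ≤ S.delta := by
  rw [delta_eq, delta_eq]
  gcongr with i _
  unfold term
  simp only [repS_c]
  apply tsub_le_tsub_left
  exact Finset.sum_le_sum fun j _ => repS_b Z hZ y y' hyy' k S hc j

theorem deltaZ_le [T0Space Y] (Z : Set Y) (hZ : IsClosed Z) (y y' : Y) (h : y ⤳ y') :
    Algz.deltaZ Z y' ≤ Algz.deltaZ Z y := by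
  by_cases hne : y = y'
  · subst hne; exact le_rfl
  unfold Algz.deltaZ
  refine le_iInf₂ fun k S => ?_
  by_cases hc : S.c (Fin.last k) = 0
  · exact (iInf₂_le (f := fun k' (S' : Algz.DSystem Z y' k') => S'.delta) k
      (repS Z hZ y y' h k S hc)).trans (repS_delta_le Z hZ y y' h k S hc)
  · have hc1 : 1 ≤ S.c (Fin.last k) := Order.one_le_iff_pos.mpr (pos_iff_ne_zero.mpr hc)
    exact (iInf₂_le (f := fun k' (S' : Algz.DSystem Z y' k') => S'.delta) (k + 1)
      (extS Z y y' h k S)).trans (extS_delta_le Z y y' h hne k S hc1)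

end H8812

/-- Let Y be a Noetherian scheme and Z ⊆ Y a closed subset. If y specializes to y' then δ_Z(y') ≤
δ_Z(y); equivalently each set {y | δ_Z(y) ≤ k} is stable under specialization. -/
theorem result (Y : Scheme.{u}) [IsNoetherian Y] (Z : Set Y) (hZ : IsClosed Z) (y y' : Y) (h : y ⤳ y') : Algz.deltaZ Z y' ≤ Algz.deltaZ Z y := by
  exact H8812.deltaZ_le Z hZ y y' h

end Groth.Agent.S8812
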