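import Groth.Statements.S8813
import Mathlib

set_option autoImplicit false
universe u
open CategoryTheory AlgebraicGeometry
open Algz

namespace Groth.Agent.S8813

open AlgebraicGeometry CategoryTheory
namespace H8813

theorem delta_zero {Y : Type u} [TopologicalSpace Y] (Z : Set Y) (y z : Y) (h : y ⤳ z) (hz : z ∈ Z) :
    Algz.deltaZ Z y ≤ Algz.codimPt y z h := by
  let S₀ : Algz.DSystem Z y 0 :=
    { v := fun _ => z, w := fun _ => y, spec := fun _ => h, spec_succ := fun i => i.elim0,
      start_mem := hz, last_eq := rfl }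
  have h1 : Algz.deltaZ Z y ≤ S₀.delta := iInf₂_le (f := fun k (S : Algz.DSystem Z y k) => S.delta) 0 S₀
  refine h1.trans ?_
  simp only [Algz.DSystem.delta, Algz.DSystem.c, Algz.DSystem.b]
  simp [S₀]


theorem main (Y : Scheme.{u}) (Z : Set Y) (y z : Y) (h : y ⤳ z) (hz : z ∈ Z) (P : PrimeSpectrum (Y.presheaf.stalk z)) (hP : (Y.fromSpecStalk z).base P = y) : ((Algz.deltaZ Z y : ℕ∞) : WithBot ℕ∞) ≤ ringKrullDim (↥(Y.presheaf.stalk z) ⧸ P.asIdeal) := by
  refine (WithBot.coe_le_coe.mpr (delta_zero Z y z h hz)).trans ?_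
  let x₀ : Set.Ici (Specialization.toEquiv z) :=
    ⟨Specialization.toEquiv y, Specialization.toEquiv_le_toEquiv.mpr h⟩
  have hcod : ((Algz.codimPt y z h : ℕ∞) : WithBot ℕ∞) = Order.krullDim (Set.Iic x₀) :=
    Order.height_eq_krullDim_Iic x₀
  rw [hcod]
  have hex : ∀ a : Set.Iic x₀, ∃ Q : PrimeSpectrum (Y.presheaf.stalk z),
      (Y.fromSpecStalk z).base Q = Specialization.ofEquiv a.1.1 := by
    intro a
    have h1 : Specialization.ofEquiv a.1.1 ⤳ z := a.1.2
    have h2 : Specialization.ofEquiv a.1.1 ∈ Set.range (Y.fromSpecStalk z) := by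
      rw [Scheme.range_fromSpecStalk]
      exact h1
    exact h2
  choose Q hQ using hex
  have hspec : ∀ (R₁ R₂ : PrimeSpectrum (Y.presheaf.stalk z)),
      (Y.fromSpecStalk z).base R₁ ⤳ (Y.fromSpecStalk z).base R₂ ↔ R₁ ⤳ R₂ := fun R₁ R₂ =>
    (Y.fromSpecStalk z).isEmbedding.isInducing.specializes_iff
  have hQle : ∀ a, P ≤ Q a := by
    intro a
    rw [PrimeSpectrum.le_iff_specializes, ← hspec, hP, hQ]
    exact a.2
  have hQmono : ∀ a b : Set.Iic x₀, a ≤ b → Q b ≤ Q a := by
    intro a b hab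
    rw [PrimeSpectrum.le_iff_specializes, ← hspec, hQ, hQ]
    exact hab
  have hQinj : Function.Injective Q := by
    intro a b hab
    have h1 : Specialization.ofEquiv a.1.1 = Specialization.ofEquiv b.1.1 := by
      rw [← hQ a, ← hQ b, hab]
    exact Subtype.ext (Subtype.ext h1)
  let f : Set.Iic x₀ → (PrimeSpectrum (Y.presheaf.stalk z ⧸ P.asIdeal))ᵒᵈ := fun a =>
    OrderDual.toDual ⟨(Q a).asIdeal.map (Ideal.Quotient.mk P.asIdeal),
      Ideal.map_isPrime_of_surjective Ideal.Quotient.mk_surjective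
        (by rw [Ideal.mk_ker]; exact hQle a)⟩
  have hfmono : Monotone f := by
    intro a b hab
    exact Ideal.map_mono (hQmono a b hab)
  have hfinj : Function.Injective f := by
    intro a b hab
    apply hQinj
    have h1 : (Q a).asIdeal.map (Ideal.Quotient.mk P.asIdeal) =
        (Q b).asIdeal.map (Ideal.Quotient.mk P.asIdeal) := congrArg (fun t => (OrderDual.ofDual t).asIdeal) hab
    have h2 := congrArg (Ideal.comap (Ideal.Quotient.mk P.asIdeal)) h1
    rw [Ideal.comap_map_of_surjective _ Ideal.Quotient.mk_surjective,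
      Ideal.comap_map_of_surjective _ Ideal.Quotient.mk_surjective] at h2
    have hk : Ideal.comap (Ideal.Quotient.mk P.asIdeal) ⊥ = P.asIdeal := by
      rw [← RingHom.ker_eq_comap_bot, Ideal.mk_ker]
    rw [hk, sup_eq_left.mpr (hQle a), sup_eq_left.mpr (hQle b)] at h2
    exact PrimeSpectrum.ext h2
  have hf : StrictMono f := hfmono.strictMono_of_injective hfinj
  calc Order.krullDim (Set.Iic x₀) ≤ Order.krullDim (PrimeSpectrum (Y.presheaf.stalk z ⧸ P.asIdeal))ᵒᵈ :=
        Order.krullDim_le_of_strictMono f hf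
    _ = ringKrullDim (Y.presheaf.stalk z ⧸ P.asIdeal) := Order.krullDim_orderDual

end H8813

/-- Let Y be a Noetherian scheme, Z ⊆ Y a closed subset, y a point of Y and z a point of Z lying in the
closure of y. Then δ_Z(y) is at most the dimension of the local ring at z of the closure of y with
its reduced structure, that is, the Krull dimension of O_{Y,z}/𝔭 where 𝔭 is the prime ideal of the
local ring O_{Y,z} given by the point of Spec O_{Y,z} that maps to y. -/
theorem result (Y : Scheme.{u}) [IsNoetherian Y] (Z : Set Y) (hZ : IsClosed Z) (y z : Y) (h : y ⤳ z) (hz : z ∈ Z) (P : PrimeSpectrum (Y.presheaf.stalk z)) (hP : (Y.fromSpecStalk z).base P = y) : ((Algz.deltaZ Z y : ℕ∞) : WithBot ℕ∞) ≤ ringKrullDim (↥(Y.presheaf.stalk z) ⧸ P.asIdeal) := by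
  exact H8813.main Y Z y z h hz P hP

end Groth.Agent.S8813
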