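import Groth.Statements.S8814
import Mathlib

set_option autoImplicit false
universe u
open CategoryTheory AlgebraicGeometry
open Algz

namespace Groth.Agent.S8814

open AlgebraicGeometry CategoryTheory Topology
namespace H8814

variable {Y : Type u} [TopologicalSpace Y] [T0Space Y] (δ : Y → ℤ)
  (hδ : ∀ x y : Y, x ⤳ y → x ≠ y →
    δ y < δ x ∧ ((∀ z : Y, x ⤳ z → z ⤳ y → z = x ∨ z = y) → δ x = δ y + 1))

include hδ in
theorem delta_mono {x y : Y} (h : x ⤳ y) : δ y ≤ δ x := by
  by_cases hxy : x = y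
  · rw [hxy]
  · exact (hδ x y h hxy).1.le

include hδ in
/-- easy direction -/
theorem codim_le (w v : Y) (h : w ⤳ v) : Algz.codimPt w v h ≤ ((δ w - δ v).toNat : ℕ∞) := by
  unfold Algz.codimPt
  rw [Order.height_le_iff]
  intro p hp
  -- map to ℤ
  let f : Set.Ici (Specialization.toEquiv v) → ℤ := fun a => δ (Specialization.ofEquiv a.1)
  have hf : StrictMono f := by
    intro a b hab
    have h1 : Specialization.ofEquiv b.1 ⤳ Specialization.ofEquiv a.1 := hab.le
    have h2 : Specialization.ofEquiv b.1 ≠ Specialization.ofEquiv a.1 := by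
      intro e
      have : b.1 = a.1 := e
      exact hab.ne (Subtype.ext this.symm)
    exact (hδ _ _ h1 h2).1
  have h1 := (p.map f hf).head_add_length_le_int
  have h2 : (p.map f hf).head = f p.head := rfl
  have h3 : (p.map f hf).last = f p.last := rfl
  have h4 : (p.map f hf).length = p.length := rfl
  rw [h2, h3, h4] at h1
  have h5 : f p.last ≤ δ w := delta_mono δ hδ hp
  have h6 : δ v ≤ f p.head := delta_mono δ hδ p.head.2
  have h7 : (p.length : ℤ) ≤ δ w - δ v := by linarith
  have h8 : p.length ≤ (δ w - δ v).toNat := by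
    rw [Int.le_toNat (le_trans (Int.natCast_nonneg _) h7)]
    exact h7
  exact_mod_cast h8


include hδ in
/-- hard direction -/
theorem le_codim (v : Y) : ∀ (d : ℕ) (w : Y) (h : w ⤳ v), δ w - δ v = d →
    (d : ℕ∞) ≤ Algz.codimPt w v h := by
  intro d
  induction d using Nat.strong_induction_on with
  | _ d ih =>
    intro w h hd
    by_cases hwv : w = v
    · subst hwv
      have : d = 0 := by
        have : (d : ℤ) = 0 := by rw [← hd]; ring
        exact_mod_cast this
      rw [this]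
      exact bot_le
    · -- pick x with w ⤳ x ⤳ v, x ≠ w, δ x maximal
      obtain ⟨m, ⟨x, hx1, hx2, hx3, rfl⟩, hmax⟩ := Int.exists_greatest_of_bdd
        (P := fun m => ∃ x : Y, w ⤳ x ∧ x ⤳ v ∧ x ≠ w ∧ δ x = m)
        ⟨δ w, by
          rintro m ⟨x, hx1, _, _, rfl⟩
          exact delta_mono δ hδ hx1⟩
        ⟨δ v, v, h, specializes_rfl, fun e => hwv e.symm, rfl⟩
      have himm : ∀ z : Y, w ⤳ z → z ⤳ x → z = w ∨ z = x := by
        intro z hz1 hz2
        by_contra hcon
        push Not at hcon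
        have hz3 := hmax (δ z) ⟨z, hz1, hz2.trans hx2, hcon.1, rfl⟩
        have hz4 := (hδ z x hz2 hcon.2).1
        omega
      have hwx : δ w = δ x + 1 := (hδ w x hx1 (fun e => hx3 e.symm)).2 himm
      have hxv : 0 ≤ δ x - δ v := sub_nonneg.mpr (delta_mono δ hδ hx2)
      obtain ⟨d', hd'⟩ : ∃ d' : ℕ, δ x - δ v = d' := ⟨(δ x - δ v).toNat, (Int.toNat_of_nonneg hxv).symm⟩
      have hdd' : d = d' + 1 := by
        have : (d : ℤ) = d' + 1 := by rw [← hd, ← hd', hwx]; ring
        exact_mod_cast this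
      have ih' := ih d' (by omega) x hx2 hd'
      unfold Algz.codimPt at ih' ⊢
      have hlt : (⟨Specialization.toEquiv x, Specialization.toEquiv_le_toEquiv.mpr hx2⟩ :
          Set.Ici (Specialization.toEquiv v)) <
          ⟨Specialization.toEquiv w, Specialization.toEquiv_le_toEquiv.mpr h⟩ := by
        refine lt_of_le_of_ne (Specialization.toEquiv_le_toEquiv.mpr hx1) ?_
        intro e
        have : Specialization.toEquiv x = Specialization.toEquiv w := congrArg Subtype.val e
        exact hx3 this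
      have h1 := Order.height_add_one_le hlt
      rw [hdd']
      push_cast
      exact (add_le_add_left ih' 1).trans h1


include hδ in
theorem codim_eq (w v : Y) (h : w ⤳ v) : Algz.codimPt w v h = ((δ w - δ v).toNat : ℕ∞) := by
  apply le_antisymm (codim_le δ hδ w v h)
  have hnn : 0 ≤ δ w - δ v := sub_nonneg.mpr (delta_mono δ hδ h)
  exact le_codim δ hδ v _ w h (Int.toNat_of_nonneg hnn).symm

include hδ in
theorem main_top (Z : Set Y) (y : Y) (n : ℕ) (hn : Algz.deltaZ Z y = n) :
    ∃ z ∈ Z, δ y ≤ n + δ z := by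
  -- a system with delta ≤ n
  obtain ⟨k, S, hS⟩ : ∃ (k : ℕ) (S : Algz.DSystem Z y k), S.delta ≤ n := by
    by_contra hcon
    push Not at hcon
    have h1 : ((n : ℕ∞) + 1) ≤ Algz.deltaZ Z y := by
      unfold Algz.deltaZ
      exact le_iInf₂ fun k S => Order.add_one_le_of_lt (hcon k S)
    rw [hn] at h1
    have : ((n + 1 : ℕ) : ℕ∞) ≤ (n : ℕ∞) := by exact_mod_cast h1
    have := Nat.cast_le.mp this
    omega
  refine ⟨S.v 0, S.start_mem, ?_⟩
  -- the integers
  set C : Fin (k + 1) → ℕ := fun j => (δ (S.w j) - δ (S.v j)).toNat with hC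
  set B : Fin k → ℕ := fun j => (δ (S.w j.castSucc) - δ (S.v j.succ)).toNat with hB
  have hc : ∀ j, S.c j = (C j : ℕ∞) := fun j => codim_eq δ hδ _ _ (S.spec j)
  have hb : ∀ j, S.b j = (B j : ℕ∞) := fun j => codim_eq δ hδ _ _ (S.spec_succ j)
  have hCz : ∀ j, (C j : ℤ) = δ (S.w j) - δ (S.v j) := fun j =>
    Int.toNat_of_nonneg (sub_nonneg.mpr (delta_mono δ hδ (S.spec j)))
  have hBz : ∀ j, (B j : ℤ) = δ (S.w j.castSucc) - δ (S.v j.succ) := fun j =>
    Int.toNat_of_nonneg (sub_nonneg.mpr (delta_mono δ hδ (S.spec_succ j)))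
  -- telescoping
  have htel : (∑ j, (C j : ℤ)) - ∑ j, (B j : ℤ) = δ y - δ (S.v 0) := by
    simp only [hCz, hBz, Finset.sum_sub_distrib]
    rw [Fin.sum_univ_castSucc (fun j => δ (S.w j)), Fin.sum_univ_succ (fun j => δ (S.v j)),
      S.last_eq]
    ring
  -- term 0
  have hterm : ((∑ j, C j - ∑ j, B j : ℕ) : ℕ∞) ≤ S.delta := by
    unfold Algz.DSystem.delta
    refine le_trans ?_ le_add_self
    refine le_trans ?_ (Finset.le_sup (Finset.mem_univ (0 : Fin (k + 1))))
    have e1 : Finset.univ.filter (fun j : Fin (k + 1) => (0 : Fin (k + 1)) ≤ j) = Finset.univ := by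
      ext j; simp
    have e2 : Finset.univ.filter (fun j : Fin k => (0 : Fin (k + 1)).val ≤ j.val) = Finset.univ := by
      ext j; simp
    rw [e1, e2]
    simp only [hc, hb]
    push_cast
    exact le_rfl
  have hfin : (∑ j, C j - ∑ j, B j : ℕ) ≤ n := by
    exact_mod_cast hterm.trans hS
  have : δ y - δ (S.v 0) ≤ n := by
    rw [← htel]
    have h2 : ((∑ j, C j : ℕ) : ℤ) - ((∑ j, B j : ℕ) : ℤ) ≤ ((∑ j, C j - ∑ j, B j : ℕ) : ℤ) := by
      omega
    push_cast at h2
    exact h2.trans (by exact_mod_cast hfin)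
  linarith


theorem main (Y : Scheme.{u}) (Z : Set Y) (δ : Y → ℤ) (hδ : Cyc.IsDimFun Y δ) (y : Y) (n : ℕ)
    (hn : Algz.deltaZ Z y = n) : ∃ z ∈ Z, δ y ≤ n + δ z :=
  main_top δ hδ Z y n hn

end H8814

/-- Let Y be a Noetherian scheme, Z ⊆ Y a closed subset and δ a dimension function on Y. If δ_Z(y) is a
natural number n, then δ(y) ≤ n + δ(z) for some z ∈ Z; in other words δ(y) ≤ δ_Z(y) + δ_max with
δ_max the maximum of δ on Z. -/
theorem result (Y : Scheme.{u}) [IsNoetherian Y] (Z : Set Y) (hZ : IsClosed Z) (δ : Y → ℤ) (hδ : Cyc.IsDimFun Y δ) (y : Y) (n : ℕ) (hn : Algz.deltaZ Z y = n) : ∃ z ∈ Z, δ y ≤ n + δ z := by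
  exact H8814.main Y Z δ hδ y n hn

end Groth.Agent.S8814
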