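import Groth.Statements.S8815
import Mathlib
import Groth.Agent.S8814
import Groth.Agent.S8813

set_option autoImplicit false
universe u
open CategoryTheory AlgebraicGeometry
open Algz

namespace Groth.Agent.S8815

open AlgebraicGeometry CategoryTheory Topology
namespace H8815

section order
variable {α : Type u} [PartialOrder α]

/-- prepend an element to a strict chain (with good definitional length) -/
def cons' (t : LTSeries α) (x : α) (h : x < t.head) : LTSeries α where
  length := t.length + 1
  toFun := Fin.cons (α := fun _ => α) x t.toFun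
  step := fun i => by
    change Fin.cons (α := fun _ => α) x t.toFun i.castSucc < Fin.cons (α := fun _ => α) x t.toFun i.succ
    induction i using Fin.cases with
    | zero =>
      rw [Fin.castSucc_zero, Fin.cons_zero, Fin.cons_succ]
      exact h
    | succ j =>
      rw [← Fin.succ_castSucc, Fin.cons_succ, Fin.cons_succ]
      exact t.step j

theorem cons'_head (t : LTSeries α) (x : α) (h : x < t.head) : (cons' t x h).head = x := rfl

theorem cons'_last (t : LTSeries α) (x : α) (h : x < t.head) : (cons' t x h).last = t.last := by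
  change Fin.cons (α := fun _ => α) x t.toFun (Fin.last (t.length + 1)) = _
  rw [← Fin.succ_last, Fin.cons_succ]
  rfl

theorem cons'_sat (t : LTSeries α) (x : α) (h : x < t.head) (hx : x ⋖ t.head)
    (ht : ∀ i : Fin t.length, t i.castSucc ⋖ t i.succ) :
    ∀ i : Fin (cons' t x h).length, (cons' t x h) i.castSucc ⋖ (cons' t x h) i.succ := by
  change ∀ i : Fin (t.length + 1), Fin.cons (α := fun _ => α) x t.toFun i.castSucc ⋖
    Fin.cons (α := fun _ => α) x t.toFun i.succ
  intro i
  induction i using Fin.cases with
  | zero =>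
    rw [Fin.castSucc_zero, Fin.cons_zero, Fin.cons_succ]
    exact hx
  | succ j =>
    rw [← Fin.succ_castSucc, Fin.cons_succ, Fin.cons_succ]
    exact ht j

theorem satchain [OrderTop α] : ∀ (N : ℕ) (x : α), Order.coheight x = N →
    ∃ s : LTSeries α, s.head = x ∧ s.last = ⊤ ∧ s.length = N ∧
      ∀ i : Fin s.length, s i.castSucc ⋖ s i.succ := by
  intro N
  induction N with
  | zero =>
    intro x hx
    have hmax : IsMax x := Order.coheight_eq_zero.mp (by exact_mod_cast hx)
    refine ⟨RelSeries.singleton _ x, rfl, ?_, rfl, fun i => i.elim0⟩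
    exact hmax.eq_top
  | succ N ih =>
    intro x hx
    have hx' : Order.coheight x = (N : ℕ∞) + 1 := by exact_mod_cast hx
    obtain ⟨_, ⟨y, hxy, hy⟩, hall⟩ := Order.coheight_eq_coe_add_one_iff.mp hx'
    obtain ⟨t, ht1, ht2, ht3, ht4⟩ := ih y hy
    have hcov : x ⋖ y := by
      refine ⟨hxy, fun z hxz hzy => ?_⟩
      have h1 := Order.coheight_add_one_le hzy
      have h2 := hall z hxz
      rw [hy] at h1
      have : ((N + 1 : ℕ) : ℕ∞) ≤ (N : ℕ∞) := by exact_mod_cast h1.trans h2
      have := Nat.cast_le.mp this
      omega
    refine ⟨cons' t x (ht1 ▸ hxy), cons'_head _ _ _, (cons'_last _ _ _).trans ht2, ?_,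
      cons'_sat t x _ (ht1 ▸ hcov) ht4⟩
    change t.length + 1 = N + 1
    rw [ht3]

end order


section ring
variable (A : Type u) [CommRing A] [IsNoetherianRing A] [IsLocalRing A]

/-- the candidate dimension function -/
noncomputable def dlt (p : PrimeSpectrum A) : ℤ := ((Order.coheight p).toNat : ℤ)

theorem coheight_cast (p : PrimeSpectrum A) :
    ((Order.coheight p).toNat : ℕ∞) = Order.coheight p :=
  ENat.coe_toNat (Order.coheight_lt_top p).ne

variable {A} in
theorem dimfun (hA : CAlg.IsCatenary A) (x y : PrimeSpectrum A) (hxy : x < y) :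
    dlt A y < dlt A x ∧ (x ⋖ y → dlt A x = dlt A y + 1) := by
  constructor
  · have h1 := Order.coheight_strictAnti hxy (Order.coheight_lt_top y)
    rw [← coheight_cast A x, ← coheight_cast A y] at h1
    have h2 : (Order.coheight y).toNat < (Order.coheight x).toNat := by exact_mod_cast h1
    unfold dlt
    exact_mod_cast h2
  · intro hcov
    obtain ⟨s, hs1, hs2, hs3, hs4⟩ := satchain (Order.coheight x).toNat x (coheight_cast A x).symm
    obtain ⟨t, ht1, ht2, ht3, ht4⟩ := satchain (Order.coheight y).toNat y (coheight_cast A y).symm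
    have hlt : x < t.head := ht1 ▸ hxy
    have hlen := hA.2 s (cons' t x hlt) (hs1.trans (cons'_head t x hlt).symm)
      (hs2.trans ((cons'_last t x hlt).trans ht2).symm) hs4
      (cons'_sat t x hlt (ht1 ▸ hcov) ht4)
    have hlen' : (Order.coheight x).toNat = (Order.coheight y).toNat + 1 := by
      rw [← hs3, hlen, ← ht3]
      rfl
    unfold dlt
    exact_mod_cast hlen'


theorem dim_quot (y : PrimeSpectrum A) :
    ringKrullDim (A ⧸ y.asIdeal) = ((Order.coheight y : ℕ∞) : WithBot ℕ∞) := by
  rw [ringKrullDim_quotient, Order.coheight_eq_krullDim_Ici]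
  have : PrimeSpectrum.zeroLocus (R := A) (y.asIdeal : Set A) = Set.Ici y := by
    ext q
    simp only [PrimeSpectrum.mem_zeroLocus, SetLike.coe_subset_coe, Set.mem_Ici]
    rfl
  rw [this]

theorem main (hA : CAlg.IsCatenary A) (y : Spec (CommRingCat.of A)) :
    ((Algz.deltaZ ({IsLocalRing.closedPoint A} : Set (Spec (CommRingCat.of A))) y : ℕ∞) : WithBot ℕ∞)
      = ringKrullDim (A ⧸ y.asIdeal) := by
  rw [dim_quot A y]
  congr 1
  let m : Spec (CommRingCat.of A) := IsLocalRing.closedPoint A
  have hym : y ⤳ m := (PrimeSpectrum.le_iff_specializes y m).mp le_top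
  apply le_antisymm
  · -- upper bound via the one-step system
    refine (Groth.Agent.S8813.H8813.delta_zero
      ({IsLocalRing.closedPoint A} : Set (Spec (CommRingCat.of A))) y m hym (Set.mem_singleton _)).trans ?_
    unfold Algz.codimPt
    let f : Set.Ici (Specialization.toEquiv m) → (PrimeSpectrum A)ᵒᵈ := fun a =>
      OrderDual.toDual (Specialization.ofEquiv a.1)
    have hf : StrictMono f := by
      intro a b hab
      have h1 : Specialization.ofEquiv b.1 ⤳ Specialization.ofEquiv a.1 := hab.le
      have h2 : (Specialization.ofEquiv b.1 : PrimeSpectrum A) ≤ Specialization.ofEquiv a.1 :=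
        (PrimeSpectrum.le_iff_specializes _ _).mpr h1
      have h3 : (Specialization.ofEquiv b.1 : PrimeSpectrum A) ≠ Specialization.ofEquiv a.1 := by
        intro e
        have : b.1 = a.1 := e
        exact hab.ne (Subtype.ext this.symm)
      exact OrderDual.toDual_lt_toDual.mpr (lt_of_le_of_ne h2 h3)
    exact Order.height_le_height_apply_of_strictMono f hf _
  · -- lower bound via the dimension function
    rcases hd : Algz.deltaZ ({IsLocalRing.closedPoint A} : Set (Spec (CommRingCat.of A))) y with _ | n
    · exact le_top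
    · let δ' : Spec (CommRingCat.of A) → ℤ := fun p => dlt A p
      have hδ : ∀ x y : Spec (CommRingCat.of A), x ⤳ y → x ≠ y →
          δ' y < δ' x ∧ ((∀ z : Spec (CommRingCat.of A), x ⤳ z → z ⤳ y → z = x ∨ z = y) →
            δ' x = δ' y + 1) := by
        intro x y hxy hne
        let x' : PrimeSpectrum A := x
        let y' : PrimeSpectrum A := y
        have hle : x' ≤ y' := (PrimeSpectrum.le_iff_specializes x' y').mpr hxy
        have hlt : x' < y' := lt_of_le_of_ne hle hne
        obtain ⟨h1, h2⟩ := dimfun hA x' y' hlt
        refine ⟨h1, fun himm => h2 ⟨hlt, fun z hxz hzy => ?_⟩⟩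
        rcases himm z ((PrimeSpectrum.le_iff_specializes x' z).mp hxz.le)
          ((PrimeSpectrum.le_iff_specializes z y').mp hzy.le) with e | e
        · exact hxz.ne e.symm
        · exact hzy.ne e
      obtain ⟨z, hz, hle⟩ := Groth.Agent.S8814.H8814.main_top (Y := ↥(Spec (CommRingCat.of A))) δ' hδ
        ({IsLocalRing.closedPoint A} : Set (Spec (CommRingCat.of A))) y n hd
      have hz' : z = IsLocalRing.closedPoint A := hz
      have hdz : dlt A z = 0 := by
        rw [hz']
        unfold dlt
        have : Order.coheight (IsLocalRing.closedPoint A) = 0 := Order.coheight_top (PrimeSpectrum A)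
        rw [this]
        rfl
      change dlt A y ≤ n + dlt A z at hle
      rw [hdz, add_zero] at hle
      unfold dlt at hle
      let y' : PrimeSpectrum A := y
      have h1 : (Order.coheight y').toNat ≤ n := by exact_mod_cast hle
      change Order.coheight y' ≤ ((n : ℕ) : ℕ∞)
      rw [← coheight_cast A y']
      exact_mod_cast h1

end ring

end H8815

/-- Let A be a catenary Noetherian local ring, Y = Spec A and Z the closed point. Then δ_Z(y) equals the
dimension of the closure of y, i.e. dim(A/p_y), for every point y. -/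
theorem result (A : Type u) [CommRing A] [IsNoetherianRing A] [IsLocalRing A] (hA : CAlg.IsCatenary A) (y : Spec (CommRingCat.of A)) : ((Algz.deltaZ ({IsLocalRing.closedPoint A} : Set (Spec (CommRingCat.of A))) y : ℕ∞) : WithBot ℕ∞) = ringKrullDim (A ⧸ y.asIdeal) := by
  exact H8815.main A hA y

end Groth.Agent.S8815
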