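import Groth.Statements.S8816
import Mathlib

set_option autoImplicit false
universe u
open CategoryTheory AlgebraicGeometry
open Algz

namespace Groth.Agent.S8816

open AlgebraicGeometry CategoryTheory Topology
namespace H8816

variable {Y : Type u} [TopologicalSpace Y]

theorem codimPt_self (v : Y) (h : v ⤳ v) : Algz.codimPt v v h = 0 := by
  unfold Algz.codimPt
  rw [Order.height_eq_zero]
  intro b _
  exact b.2

theorem codimPt_le_one [T0Space Y] (w v : Y) (h : w ⤳ v)
    (himm : ∀ z : Y, w ⤳ z → z ⤳ v → z = w ∨ z = v) : Algz.codimPt w v h ≤ 1 := by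
  unfold Algz.codimPt
  have h1 : (1 : ℕ∞) = ((1 : ℕ) : ℕ∞) := rfl
  rw [h1, Order.height_le_coe_iff]
  intro b hb
  have hb0 : Order.height b = 0 := by
    rw [Order.height_eq_zero]
    intro c _
    -- b = v or b = w
    have hbv : Specialization.ofEquiv b.1 ⤳ v := b.2
    have hwb : w ⤳ Specialization.ofEquiv b.1 := hb.le
    rcases himm _ hwb hbv with h2 | h2
    · exfalso
      have : ¬ (Specialization.toEquiv w ≤ b.1) := hb.not_ge
      apply this
      change Specialization.ofEquiv b.1 ⤳ w
      rw [h2]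
    · change b.1 ≤ c.1
      have hc : Specialization.toEquiv v ≤ c.1 := c.2
      have : b.1 = Specialization.toEquiv v := h2
      rw [this]
      exact hc
  rw [hb0]
  exact Nat.cast_pos.mpr Nat.one_pos

theorem one_le_codimPt [T0Space Y] (w v : Y) (h : w ⤳ v) (hne : w ≠ v) : 1 ≤ Algz.codimPt w v h := by
  unfold Algz.codimPt
  rw [Order.one_le_iff_pos, Order.height_pos]
  intro hmin
  have hb : (⟨Specialization.toEquiv v, Set.mem_Ici.mpr (le_refl _)⟩ : Set.Ici (Specialization.toEquiv v)) ≤
      ⟨Specialization.toEquiv w, Specialization.toEquiv_le_toEquiv.mpr h⟩ :=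
    Specialization.toEquiv_le_toEquiv.mpr h
  have h2 := hmin hb
  have h3 : v ⤳ w := h2
  exact hne (h.antisymm h3).eq


theorem main [T0Space Y] (Z : Set Y) (k : ℕ) (y : Fin (k + 1) → Y) (y' : Fin k → Y) (h0 : y 0 ∈ Z) (hdown : ∀ i : Fin k, y' i ⤳ y i.castSucc ∧ y' i ≠ y i.castSucc ∧ ∀ z : Y, y' i ⤳ z → z ⤳ y i.castSucc → z = y' i ∨ z = y i.castSucc) (hup : ∀ i : Fin k, y' i ⤳ y i.succ ∧ y' i ≠ y i.succ) : Algz.deltaZ Z (y (Fin.last k)) ≤ k := by
  let w : Fin (k + 1) → Y := Fin.snoc y' (y (Fin.last k))
  have hw_cast : ∀ j : Fin k, w j.castSucc = y' j := fun j => Fin.snoc_castSucc (α := fun _ => Y) _ _ j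
  have hw_last : w (Fin.last k) = y (Fin.last k) := Fin.snoc_last (α := fun _ => Y) _ _
  let S : Algz.DSystem Z (y (Fin.last k)) k :=
    { v := y
      w := w
      spec := fun i => by
        induction i using Fin.lastCases with
        | last => rw [hw_last]
        | cast j => rw [hw_cast]; exact (hdown j).1
      spec_succ := fun i => by rw [hw_cast]; exact (hup i).1
      start_mem := h0
      last_eq := hw_last }
  have h1 : Algz.deltaZ Z (y (Fin.last k)) ≤ S.delta :=
    iInf₂_le (f := fun k' (S' : Algz.DSystem Z (y (Fin.last k)) k') => S'.delta) k S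
  refine h1.trans ?_
  have hc_cast : ∀ j : Fin k, S.c j.castSucc ≤ 1 := by
    intro j
    apply codimPt_le_one
    intro z hz1 hz2
    have e : S.w j.castSucc = y' j := hw_cast j
    rw [e] at hz1 ⊢
    exact (hdown j).2.2 z hz1 hz2
  have hc_last : S.c (Fin.last k) = 0 := by
    have e : S.w (Fin.last k) = S.v (Fin.last k) := hw_last
    unfold Algz.DSystem.c
    have : ∀ (a b : Y) (hab : a ⤳ b), a = b → Algz.codimPt a b hab = 0 := by
      intro a b hab e
      subst e
      exact codimPt_self a hab
    exact this _ _ _ e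
  have hb : ∀ j : Fin k, 1 ≤ S.b j := by
    intro j
    apply one_le_codimPt
    have e : S.w j.castSucc = y' j := hw_cast j
    rw [e]
    exact (hup j).2
  unfold Algz.DSystem.delta
  have hsup : (Finset.univ.sup fun i : Fin (k + 1) =>
      (∑ j ∈ Finset.univ.filter (fun j : Fin (k + 1) => i ≤ j), S.c j) -
        ∑ j ∈ Finset.univ.filter (fun j : Fin k => i.val ≤ j.val), S.b j) = 0 := by
    rw [← bot_eq_zero, Finset.sup_eq_bot_iff]
    intro i _
    rw [bot_eq_zero, tsub_eq_zero_iff_le]
    rw [Finset.sum_filter, Finset.sum_filter, Fin.sum_univ_castSucc]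
    have hlast : (if i ≤ Fin.last k then S.c (Fin.last k) else 0) = 0 := by
      rw [hc_last]; simp
    rw [hlast, add_zero]
    apply Finset.sum_le_sum
    intro j _
    have hiff : i ≤ j.castSucc ↔ i.val ≤ j.val := by
      rw [Fin.le_def]; rfl
    by_cases hij : i.val ≤ j.val
    · rw [if_pos (hiff.mpr hij), if_pos hij]
      exact (hc_cast j).trans (hb j)
    · rw [if_neg (fun h => hij (hiff.mp h)), if_neg hij]
  rw [hsup, add_zero]

end H8816

/-- Let Y be a Noetherian scheme and Z ⊆ Y closed. Given points y_0, …, y_k and y'_0, …, y'_{k-1} of Y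
with y_0 ∈ Z such that each y'_i specializes to y_{i+1} with y'_i ≠ y_{i+1}, and each y'_i ⤳ y_i is
an immediate specialization (y'_i ≠ y_i and no point strictly between), one has δ_Z(y_k) ≤ k. (The
published statement also allows y'_i = y_{i+1}. In that generality the bound needs catenarity: for a
Noetherian local domain of dimension 3 having a saturated chain of primes (0) ⊂ 𝔭 ⊂ 𝔪 of length 2,
with Z the closed point and the pattern y_0 = 𝔪, y'_0 = y_1 = 𝔭, y'_1 = y_2 = (0), one has k = 2 but
δ_Z((0)) = 3. The published proof handles nontrivial specializations y'_i ⤳ y_{i+1}, for which the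
closures of the y_i and y'_i form a system of value k, and reduces to that case by shortening the
chain, which does not preserve immediacy; this row states the case the proof establishes.) -/
theorem result (Y : Scheme.{u}) [IsNoetherian Y] (Z : Set Y) (hZ : IsClosed Z) (k : ℕ) (y : Fin (k + 1) → Y) (y' : Fin k → Y) (h0 : y 0 ∈ Z) (hdown : ∀ i : Fin k, y' i ⤳ y i.castSucc ∧ y' i ≠ y i.castSucc ∧ ∀ z : Y, y' i ⤳ z → z ⤳ y i.castSucc → z = y' i ∨ z = y i.castSucc) (hup : ∀ i : Fin k, y' i ⤳ y i.succ ∧ y' i ≠ y i.succ) : Algz.deltaZ Z (y (Fin.last k)) ≤ k := by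
  exact H8816.main Z k y y' h0 hdown hup

end Groth.Agent.S8816
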