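import Groth.Statements.S8817
import Mathlib

set_option autoImplicit false
universe u
open CategoryTheory AlgebraicGeometry
open Algz

namespace Groth.Agent.S8817

open AlgebraicGeometry CategoryTheory Topology
namespace H8817

variable {Y' Y : Type u} [TopologicalSpace Y'] [TopologicalSpace Y] (ι : Y' → Y)
  (hι : IsOpenEmbedding ι)

include hι in
theorem spec_iff (a b : Y') : ι a ⤳ ι b ↔ a ⤳ b := hι.isInducing.specializes_iff

/-- the order isomorphism on generizations -/
noncomputable def iciIso (v' : Y') :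
    Set.Ici (Specialization.toEquiv v') ≃o Set.Ici (Specialization.toEquiv (ι v')) := by
  let f : Set.Ici (Specialization.toEquiv v') → Set.Ici (Specialization.toEquiv (ι v')) := fun a =>
    ⟨Specialization.toEquiv (ι (Specialization.ofEquiv a.1)),
      Specialization.toEquiv_le_toEquiv.mpr ((spec_iff ι hι _ _).mpr a.2)⟩
  have hinj : Function.Injective f := by
    intro a b hab
    have h1 : ι (Specialization.ofEquiv a.1) = ι (Specialization.ofEquiv b.1) :=
      congrArg (fun t => Specialization.ofEquiv t.1) hab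
    exact Subtype.ext (hι.injective h1)
  have hsurj : Function.Surjective f := by
    intro b
    have h1 : Specialization.ofEquiv b.1 ⤳ ι v' := b.2
    have h2 : Specialization.ofEquiv b.1 ∈ Set.range ι :=
      h1.mem_open hι.isOpen_range ⟨v', rfl⟩
    obtain ⟨x', hx'⟩ := h2
    refine ⟨⟨Specialization.toEquiv x', ?_⟩, ?_⟩
    · apply Specialization.toEquiv_le_toEquiv.mpr
      rw [← spec_iff ι hι, hx']
      exact h1
    · apply Subtype.ext
      change Specialization.toEquiv (ι x') = b.1
      rw [hx']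
      rfl
  exact
    { toEquiv := Equiv.ofBijective f ⟨hinj, hsurj⟩
      map_rel_iff' := by
        intro a b
        change ι (Specialization.ofEquiv b.1) ⤳ ι (Specialization.ofEquiv a.1) ↔ _
        rw [spec_iff ι hι]
        rfl }

include hι in
theorem codimPt_eq (w' v' : Y') (h' : w' ⤳ v') (h : ι w' ⤳ ι v') :
    Algz.codimPt (ι w') (ι v') h = Algz.codimPt w' v' h' := by
  unfold Algz.codimPt
  exact Order.height_orderIso (iciIso ι hι v')
    ⟨Specialization.toEquiv w', Specialization.toEquiv_le_toEquiv.mpr h'⟩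


/-- push a system forward -/
def mapS (Z : Set Y) (y' : Y') (k : ℕ) (hι : IsOpenEmbedding ι) (S' : Algz.DSystem (ι ⁻¹' Z) y' k) :
    Algz.DSystem Z (ι y') k where
  v := fun i => ι (S'.v i)
  w := fun i => ι (S'.w i)
  spec := fun i => (spec_iff ι hι _ _).mpr (S'.spec i)
  spec_succ := fun i => (spec_iff ι hι _ _).mpr (S'.spec_succ i)
  start_mem := S'.start_mem
  last_eq := by rw [S'.last_eq]

include hι in
theorem delta_mapS (Z : Set Y) (y' : Y') (k : ℕ) (S' : Algz.DSystem (ι ⁻¹' Z) y' k) :
    (mapS ι Z y' k hι S').delta = S'.delta := by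
  have hc : ∀ j, (mapS ι Z y' k hι S').c j = S'.c j := fun j =>
    codimPt_eq ι hι _ _ (S'.spec j) _
  have hb : ∀ j, (mapS ι Z y' k hι S').b j = S'.b j := fun j =>
    codimPt_eq ι hι _ _ (S'.spec_succ j) _
  unfold Algz.DSystem.delta
  simp only [hc, hb]

include hι in
theorem deltaZ_le (Z : Set Y) (y' : Y') : Algz.deltaZ Z (ι y') ≤ Algz.deltaZ (ι ⁻¹' Z) y' := by
  unfold Algz.deltaZ
  refine le_iInf₂ fun k S' => ?_
  refine (iInf₂_le (f := fun k (S : Algz.DSystem Z (ι y') k) => S.delta) k
    (mapS ι Z y' k hι S')).trans ?_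
  exact le_of_eq (delta_mapS ι hι Z y' k S')

theorem main (Y : Scheme.{u}) (Z : Set Y) (Y' : Y.Opens) (y' : (↑Y' : Scheme.{u})) : Algz.deltaZ Z (Y'.ι.base y') ≤ Algz.deltaZ ((fun x : (↑Y' : Scheme.{u}) => Y'.ι.base x) ⁻¹' Z) y' :=
  deltaZ_le (fun x : (↑Y' : Scheme.{u}) => Y'.ι.base x) Y'.ι.isOpenEmbedding Z y'

end H8817

/-- Let Y be a Noetherian scheme, Z ⊆ Y a closed subset and Y' ⊆ Y an open subscheme. For a point y' of
Y' the distance function of Y' relative to Y' ∩ Z at y' is at least the distance function of Y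
relative to Z at y'. -/
theorem result (Y : Scheme.{u}) [IsNoetherian Y] (Z : Set Y) (hZ : IsClosed Z) (Y' : Y.Opens) (y' : (↑Y' : Scheme.{u})) : Algz.deltaZ Z (Y'.ι.base y') ≤ Algz.deltaZ ((fun x : (↑Y' : Scheme.{u}) => Y'.ι.base x) ⁻¹' Z) y' := by
  exact H8817.main Y Z Y' y'

end Groth.Agent.S8817
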