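import Groth.Statements.S8819
import Mathlib
import Groth.Prelude.Def_Wider
-- import your own Groth.Agent.* helpers here

set_option autoImplicit false
universe u
open scoped BigOperators
open LocCoh

namespace Groth.Agent.S8819

open scoped BigOperators
namespace Aux

section
variable {A : Type u} [CommRing A] {r : ℕ} (f : Fin r → A) (I : Ideal A) (c : ℕ)
  (φ : Fin r → (↥(I ^ c) →ₗ[A] A))

open Classical in
/-- extension by zero -/
noncomputable def ext (j : Fin r) (g : A) : A :=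
  if hg : g ∈ I ^ c then φ j ⟨g, hg⟩ else 0

lemma ext_of_mem (j : Fin r) {g : A} (hg : g ∈ I ^ c) : ext I c φ j g = φ j ⟨g, hg⟩ := dif_pos hg

lemma ext_add (j : Fin r) {g h : A} (hg : g ∈ I ^ c) (hh : h ∈ I ^ c) :
    ext I c φ j (g + h) = ext I c φ j g + ext I c φ j h := by
  rw [ext_of_mem I c φ j hg, ext_of_mem I c φ j hh, ext_of_mem I c φ j (Ideal.add_mem _ hg hh),
    ← map_add]
  rfl

lemma ext_mul (j : Fin r) (a : A) {g : A} (hg : g ∈ I ^ c) :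
    ext I c φ j (a * g) = a * ext I c φ j g := by
  rw [ext_of_mem I c φ j hg, ext_of_mem I c φ j (Ideal.mul_mem_left _ a hg), ← smul_eq_mul a (φ j _),
    ← map_smul]
  rfl

lemma mem_c {n : ℕ} {g : A} (hg : g ∈ I ^ ((n + 1) * c)) : g ∈ I ^ c :=
  Ideal.pow_le_pow_right (by nlinarith) hg

lemma ext_mem (j : Fin r) (n : ℕ) {g : A} (hg : g ∈ I ^ ((n + 1) * c)) :
    ext I c φ j g ∈ I ^ (n * c) := by
  rw [Nat.succ_mul, pow_add] at hg
  have key : g ∈ I ^ c ∧ ext I c φ j g ∈ I ^ (n * c) := by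
    refine Submodule.mul_induction_on hg ?_ ?_
    · intro a ha h hh
      refine ⟨Ideal.mul_mem_left _ a hh, ?_⟩
      rw [ext_mul I c φ j a hh]
      exact Ideal.mul_mem_right _ _ ha
    · rintro x y ⟨hx, hx'⟩ ⟨hy, hy'⟩
      refine ⟨Ideal.add_mem _ hx hy, ?_⟩
      rw [ext_add I c φ j hx hy]
      exact Ideal.add_mem _ hx' hy'
  exact key.2

/-- the graded map -/
noncomputable def Phi : ℕ → A → MvPolynomial (Fin r) A
  | 0, g => MvPolynomial.C g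
  | n + 1, g => ∑ j, MvPolynomial.X j * Phi n (ext I c φ j g)

lemma Phi_zero (g : A) : Phi I c φ 0 g = MvPolynomial.C g := rfl

lemma Phi_succ (n : ℕ) (g : A) :
    Phi I c φ (n + 1) g = ∑ j, MvPolynomial.X j * Phi I c φ n (ext I c φ j g) := rfl

lemma Phi_add : ∀ (n : ℕ) (g h : A), g ∈ I ^ (n * c) → h ∈ I ^ (n * c) →
    Phi I c φ n (g + h) = Phi I c φ n g + Phi I c φ n h := by
  intro n
  induction n with
  | zero => intro g h _ _; simp only [Phi_zero, map_add]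
  | succ n ih =>
    intro g h hg hh
    rw [Phi_succ, Phi_succ, Phi_succ, ← Finset.sum_add_distrib]
    refine Finset.sum_congr rfl (fun j _ => ?_)
    rw [ext_add I c φ j (mem_c I c hg) (mem_c I c hh),
      ih _ _ (ext_mem I c φ j n hg) (ext_mem I c φ j n hh), mul_add]

lemma Phi_smul : ∀ (n : ℕ) (a g : A), g ∈ I ^ (n * c) →
    Phi I c φ n (a * g) = a • Phi I c φ n g := by
  intro n
  induction n with
  | zero =>
    intro a g _
    simp only [Phi_zero, map_mul, MvPolynomial.smul_eq_C_mul]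
  | succ n ih =>
    intro a g hg
    rw [Phi_succ, Phi_succ, Finset.smul_sum]
    refine Finset.sum_congr rfl (fun j _ => ?_)
    rw [ext_mul I c φ j a (mem_c I c hg), ih _ _ (ext_mem I c φ j n hg), mul_smul_comm]

lemma Phi_homog : ∀ (n : ℕ) (g : A), (Phi I c φ n g).IsHomogeneous n := by
  intro n
  induction n with
  | zero => intro g; exact MvPolynomial.isHomogeneous_C _ _
  | succ n ih =>
    intro g
    rw [Phi_succ]
    apply MvPolynomial.IsHomogeneous.sum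
    intro j _
    have := (MvPolynomial.isHomogeneous_X A j).mul (ih (ext I c φ j g))
    rwa [add_comm] at this

lemma Phi_mul (n : ℕ) (g : A) (hg : g ∈ I ^ (n * c)) : ∀ (m : ℕ) (h : A), h ∈ I ^ (m * c) →
    Phi I c φ (n + m) (g * h) = Phi I c φ n g * Phi I c φ m h := by
  intro m
  induction m with
  | zero =>
    intro h _
    rw [add_zero, Phi_zero, mul_comm g h, Phi_smul I c φ n h g hg, MvPolynomial.smul_eq_C_mul,
      mul_comm]
  | succ m ih =>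
    intro h hh
    rw [← add_assoc, Phi_succ, Phi_succ, Finset.mul_sum]
    refine Finset.sum_congr rfl (fun j _ => ?_)
    rw [ext_mul I c φ j g (mem_c I c hh), ih _ (ext_mem I c φ j m hh)]
    ring

include f in
lemma Phi_aeval (hφ : ∀ x : ↥(I ^ c), (x : A) = ∑ j, f j * φ j x) :
    ∀ (n : ℕ) (g : A), g ∈ I ^ (n * c) → MvPolynomial.aeval f (Phi I c φ n g) = g := by
  intro n
  induction n with
  | zero => intro g _; simp [Phi_zero]
  | succ n ih =>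
    intro g hg
    rw [Phi_succ, map_sum]
    have h1 : ∀ j, MvPolynomial.aeval f (MvPolynomial.X j * Phi I c φ n (ext I c φ j g)) =
        f j * φ j ⟨g, mem_c I c hg⟩ := by
      intro j
      rw [map_mul, MvPolynomial.aeval_X, ih _ (ext_mem I c φ j n hg), ext_of_mem I c φ j (mem_c I c hg)]
    rw [Finset.sum_congr rfl (fun j _ => h1 j)]
    exact (hφ ⟨g, mem_c I c hg⟩).symm

lemma Phi_one (g : A) (hg : g ∈ I ^ c) :
    Phi I c φ 1 g = ∑ j, MvPolynomial.C (φ j ⟨g, hg⟩) * MvPolynomial.X j := by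
  rw [Phi_succ]
  refine Finset.sum_congr rfl (fun j _ => ?_)
  rw [Phi_zero, ext_of_mem I c φ j hg, mul_comm]

end

theorem main (A : Type u) [CommRing A] [IsNoetherianRing A] (r : ℕ) (f : Fin r → A) (I : Ideal A) (hI : I = Ideal.span (Set.range f)) (h1 : LocCoh.CdLE A I 1) (h0 : ¬ LocCoh.CdLE A I 0) (c : ℕ) (hc : 1 ≤ c) (φ : Fin r → (↥(I ^ c) →ₗ[A] A)) (hφ : ∀ x : ↥(I ^ c), (x : A) = ∑ j, f j * φ j x) : ∃ Φ : ℕ → A → MvPolynomial (Fin r) A, (((∀ n : ℕ, ∀ g ∈ I ^ (n * c), ∀ h ∈ I ^ (n * c), Φ n (g + h) = Φ n g + Φ n h) ∧ (∀ (n : ℕ) (a : A), ∀ g ∈ I ^ (n * c), Φ n (a * g) = a • Φ n g) ∧ (∀ n : ℕ, ∀ g ∈ I ^ (n * c), (Φ n g).IsHomogeneous n) ∧ (∀ n m : ℕ, ∀ g ∈ I ^ (n * c), ∀ h ∈ I ^ (m * c), Φ (n + m) (g * h) = Φ n g * Φ m h) ∧ (∀ a : A, Φ 0 a = MvPolynomial.C a) ∧ (∀ (g : A) (hg : g ∈ I ^ c), Φ 1 g = ∑ j, MvPolynomial.C (φ j ⟨g, hg⟩) * MvPolynomial.X j)) ∧ ∀ n : ℕ, ∀ g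 ∈ I ^ (n * c), MvPolynomial.aeval f (Φ n g) = g) ∧ ∀ Ψ : ℕ → A → MvPolynomial (Fin r) A, ((∀ n : ℕ, ∀ g ∈ I ^ (n * c), ∀ h ∈ I ^ (n * c), Ψ n (g + h) = Ψ n g + Ψ n h) ∧ (∀ (n : ℕ) (a : A), ∀ g ∈ I ^ (n * c), Ψ n (a * g) = a • Ψ n g) ∧ (∀ n : ℕ, ∀ g ∈ I ^ (n * c), (Ψ n g).IsHomogeneous n) ∧ (∀ n m : ℕ, ∀ g ∈ I ^ (n * c), ∀ h ∈ I ^ (m * c), Ψ (n + m) (g * h) = Ψ n g * Ψ m h) ∧ (∀ a : A, Ψ 0 a = MvPolynomial.C a) ∧ (∀ (g : A) (hg : g ∈ I ^ c), Ψ 1 g = ∑ j, MvPolynomial.C (φ j ⟨g, hg⟩) * MvPolynomial.X j)) → ∀ n : ℕ, ∀ g ∈ I ^ (n * c), Ψ n g = Φ n g := by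
  refine ⟨Phi I c φ, ⟨⟨fun n g hg h hh => Phi_add I c φ n g h hg hh,
    fun n a g hg => Phi_smul I c φ n a g hg, fun n g _ => Phi_homog I c φ n g,
    fun n m g hg h hh => Phi_mul I c φ n g hg m h hh, fun a => rfl,
    fun g hg => Phi_one I c φ g hg⟩, Phi_aeval f I c φ hφ⟩, ?_⟩
  rintro Ψ ⟨hadd, hsmul, -, hmul, hzero, hone⟩ n
  induction n with
  | zero => intro g _; rw [hzero]; rfl
  | succ n ih =>
    intro g hg
    have hg' := hg
    rw [Nat.succ_mul, pow_add] at hg'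
    have key : g ∈ I ^ ((n + 1) * c) ∧ Ψ (n + 1) g = Phi I c φ (n + 1) g := by
      refine Submodule.mul_induction_on hg' ?_ ?_
      · intro a ha h hh
        have hh1 : h ∈ I ^ (1 * c) := by rw [one_mul]; exact hh
        refine ⟨?_, ?_⟩
        · rw [Nat.succ_mul, pow_add]; exact Ideal.mul_mem_mul ha hh
        · rw [hmul n 1 a ha h hh1, Phi_mul I c φ n a ha 1 h hh1, ih a ha, hone h hh,
            Phi_one I c φ h hh]
      · rintro x y ⟨hx, hx'⟩ ⟨hy, hy'⟩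
        refine ⟨Ideal.add_mem _ hx hy, ?_⟩
        rw [hadd (n + 1) x hx y hy, Phi_add I c φ (n + 1) x y hx hy, hx', hy']
    exact key.2

end Aux

/-- Let A be a Noetherian ring, f_1, …, f_r ∈ A and I = (f_1, …, f_r) with cd(A, I) = 1; let c ≥ 1 and
let φ_j : I^c → A be A-linear maps with x = Σ_j f_j φ_j(x) for all x ∈ I^c. Under these assumptions,
exactly one homomorphism of graded A-algebras, from ⊕_{n ≥ 0} I^{nc} into the polynomial ring A[T_1,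
…, T_r], exists that sends each g ∈ I^c to Σ_j φ_j(g) T_j; call it Φ. Here Φ is encoded by functions
Φ_n : A → A[T_1, …, T_r] whose values on I^{nc} are A-linear, homogeneous of degree n,
multiplicative (Φ_{n+m}(gh) = Φ_n(g)Φ_m(h)), with Φ_0 the structure map and Φ_1 as prescribed;
uniqueness is asserted for the values on the I^{nc}. Moreover substituting T_j ↦ f_j in Φ_n(g) gives
back g for every g ∈ I^{nc}. -/
theorem result (A : Type u) [CommRing A] [IsNoetherianRing A] (r : ℕ) (f : Fin r → A) (I : Ideal A) (hI : I = Ideal.span (Set.range f)) (h1 : LocCoh.CdLE A I 1) (h0 : ¬ LocCoh.CdLE A I 0) (c : ℕ) (hc : 1 ≤ c) (φ : Fin r → (↥(I ^ c) →ₗ[A] A)) (hφ : ∀ x : ↥(I ^ c), (x : A) = ∑ j, f j * φ j x) : ∃ Φ : ℕ → A → MvPolynomial (Fin r) A, (((∀ n : ℕ, ∀ g ∈ I ^ (n * c), ∀ h ∈ I ^ (n * c), Φ n (g + h) = Φ n g + Φ n h) ∧ (∀ (n : ℕ) (a : A), ∀ g ∈ I ^ (n * c), Φ n (a * g) =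 a • Φ n g) ∧ (∀ n : ℕ, ∀ g ∈ I ^ (n * c), (Φ n g).IsHomogeneous n) ∧ (∀ n m : ℕ, ∀ g ∈ I ^ (n * c), ∀ h ∈ I ^ (m * c), Φ (n + m) (g * h) = Φ n g * Φ m h) ∧ (∀ a : A, Φ 0 a = MvPolynomial.C a) ∧ (∀ (g : A) (hg : g ∈ I ^ c), Φ 1 g = ∑ j, MvPolynomial.C (φ j ⟨g, hg⟩) * MvPolynomial.X j)) ∧ ∀ n : ℕ, ∀ g ∈ I ^ (n * c), MvPolynomial.aeval f (Φ n g) = g) ∧ ∀ Ψ : ℕ → A → MvPolynomial (Fin r) A, ((∀ n : ℕ, ∀ g ∈ I ^ (n * c), ∀ h ∈ I ^ (n * c), Ψ n (g + h) = Ψ n g + Ψ n h) ∧ (∀ (n : ℕ) (a : A), ∀ g ∈ I ^ (n * c), Ψ n (a * g) = a • Ψ n g) ∧ (∀ n : ℕ, ∀ g ∈ I ^ (n * c), (Ψ n g).IsHomogeneous n) ∧ (∀ n m : ℕ, ∀ g ∈ I ^ (n * c), ∀ h ∈ I ^ (m * c), Ψ (n + m) (g * h) = Ψ n g * Ψ m h) ∧ (∀ a : A, Ψ 0 a = MvPolynomial.C a) ∧ (∀ (g : A) (hg : g ∈ I ^ c), Ψ 1 g = ∑ j, MvPolynomial.C (φ j ⟨g, hg⟩) * MvPolynomial.X j)) → ∀ n : ℕ, ∀ g ∈ I ^ (n * c), Ψ n g = Φ n g := by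
  exact Aux.main A r f I hI h1 h0 c hc φ hφ

end Groth.Agent.S8819
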