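import Groth.Statements.S8833
import Mathlib
import Groth.Prelude.Def_Wider
import Groth.Agent.S8819
-- import your own Groth.Agent.* helpers here

set_option autoImplicit false
universe u
open scoped BigOperators TensorProduct
open LocCoh

namespace Groth.Agent.S8833

open scoped BigOperators TensorProduct
namespace Aux

open Groth.Agent.S8819.Aux


section AR

variable {B : Type u} [CommRing B] [IsNoetherianRing B] (J : Ideal B)
  (N : Type u) [AddCommGroup N] [Module B N] [Module.Finite B N]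

/-- the `J`-power torsion submodule -/
def tors : Submodule B N where
  carrier := {y | ∃ m : ℕ, ∀ b ∈ J ^ m, b • y = 0}
  zero_mem' := ⟨0, fun b _ => smul_zero b⟩
  add_mem' := by
    rintro x y ⟨m, hm⟩ ⟨m', hm'⟩
    refine ⟨m + m', fun b hb => ?_⟩
    rw [smul_add, hm b (Ideal.pow_le_pow_right (Nat.le_add_right _ _) hb),
      hm' b (Ideal.pow_le_pow_right (Nat.le_add_left _ _) hb), add_zero]
  smul_mem' := by
    rintro c x ⟨m, hm⟩
    exact ⟨m, fun b hb => by rw [smul_comm, hm b hb, smul_zero]⟩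

/-- a power of `J` kills the torsion -/
lemma exists_pow_smul_tors : ∃ e : ℕ, ∀ b ∈ J ^ e, ∀ y ∈ tors J N, b • y = 0 := by
  have : IsNoetherian B N := isNoetherian_of_isNoetherianRing_of_finite B N
  have hfg : (tors J N).FG := IsNoetherian.noetherian _
  obtain ⟨s, hs⟩ := hfg
  classical
  have hch : ∀ y : N, ∃ m : ℕ, y ∈ tors J N → ∀ b ∈ J ^ m, b • y = 0 := by
    intro y
    by_cases hy : y ∈ tors J N
    · obtain ⟨m, hm⟩ := hy
      exact ⟨m, fun _ => hm⟩
    · exact ⟨0, fun h => absurd h hy⟩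
  choose mf hmf using hch
  refine ⟨s.sup mf, fun b hb y hy => ?_⟩
  rw [← hs] at hy
  refine Submodule.span_induction ?_ ?_ ?_ ?_ hy
  · intro x hx
    have hx' : x ∈ tors J N := by rw [← hs]; exact Submodule.subset_span hx
    exact hmf x hx' b (Ideal.pow_le_pow_right (Finset.le_sup hx) hb)
  · exact smul_zero b
  · intro x y _ _ hx hy
    rw [smul_add, hx, hy, add_zero]
  · intro c x _ hx
    rw [smul_comm, hx, smul_zero]

/-- **Artin–Rees**: torsion elements deep in the `J`-adic filtration vanish -/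
theorem exists_tors_inf_eq_bot : ∃ k₁ : ℕ, ∀ y : N, y ∈ tors J N →
    y ∈ (J ^ k₁ • ⊤ : Submodule B N) → y = 0 := by
  obtain ⟨e, he⟩ := exists_pow_smul_tors J N
  obtain ⟨k, hk⟩ := Ideal.exists_pow_inf_eq_pow_smul J (tors J N)
  refine ⟨k + e, fun y hy hy' => ?_⟩
  have h1 : y ∈ (J ^ (k + e) • ⊤ ⊓ tors J N : Submodule B N) := ⟨hy', hy⟩
  rw [hk (k + e) (Nat.le_add_right _ _), Nat.add_sub_cancel_left] at h1
  refine Submodule.smul_induction_on h1 ?_ ?_
  · intro b hb x hx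
    exact he b hb x hx.2
  · intro x y hx hy
    rw [hx, hy, add_zero]

end AR




section PhiBound

variable {A : Type u} [CommRing A] {r : ℕ} (I : Ideal A) (c : ℕ)
  (φ : Fin r → (↥(I ^ c) →ₗ[A] A))

lemma ext_mem_pow (j : Fin r) (q : ℕ) {g : A} (hg : g ∈ I ^ (q + c)) :
    ext I c φ j g ∈ I ^ q := by
  rw [pow_add] at hg
  have key : g ∈ I ^ c ∧ ext I c φ j g ∈ I ^ q := by
    refine Submodule.mul_induction_on hg ?_ ?_
    · intro a ha h hh
      refine ⟨Ideal.mul_mem_left _ a hh, ?_⟩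
      rw [ext_mul I c φ j a hh]
      exact Ideal.mul_mem_right _ _ ha
    · rintro x y ⟨hx, hx'⟩ ⟨hy, hy'⟩
      refine ⟨Ideal.add_mem _ hx hy, ?_⟩
      rw [ext_add I c φ j hx hy]
      exact Ideal.add_mem _ hx' hy'
  exact key.2

end PhiBound

section Restrict

variable {A : Type u} [CommRing A] {r : ℕ} (I : Ideal A) (c c' : ℕ) (hcc' : c ≤ c')
  (φ : Fin r → (↥(I ^ c) →ₗ[A] A))

/-- the restrictions of the `φ_j` to `I^{c'}` -/
noncomputable def φr (j : Fin r) : ↥(I ^ c') →ₗ[A] A :=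
  (φ j).comp (Submodule.inclusion (Ideal.pow_le_pow_right hcc'))

lemma φr_apply (j : Fin r) (g : A) (hg : g ∈ I ^ c') :
    φr I c c' hcc' φ j ⟨g, hg⟩ = φ j ⟨g, Ideal.pow_le_pow_right hcc' hg⟩ := rfl

lemma ext_φr (j : Fin r) {g : A} (hg : g ∈ I ^ c') :
    ext I c' (φr I c c' hcc' φ) j g = ext I c φ j g := by
  rw [ext_of_mem _ _ _ j hg, ext_of_mem _ _ _ j (Ideal.pow_le_pow_right hcc' hg)]
  rfl

/-- coefficients of `Φ_n(g)` lie deep in the `I`-adic filtration -/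
lemma coeff_Phi_mem : ∀ (n k : ℕ) (g : A), g ∈ I ^ (n * c' + k) → ∀ α : Fin r →₀ ℕ,
    MvPolynomial.coeff α (Phi I c' (φr I c c' hcc' φ) n g) ∈ I ^ (n * (c' - c) + k) := by
  intro n
  induction n with
  | zero =>
    intro k g hg α
    rw [Phi_zero, MvPolynomial.coeff_C]
    split_ifs
    · simpa using hg
    · exact Ideal.zero_mem _
  | succ n ih =>
    intro k g hg α
    rw [Phi_succ, MvPolynomial.coeff_sum]
    refine Ideal.sum_mem _ fun j _ => ?_
    rw [MvPolynomial.coeff_X_mul']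
    split_ifs
    · have hgc' : g ∈ I ^ c' := Ideal.pow_le_pow_right (by nlinarith) hg
      have h1 : ext I c' (φr I c c' hcc' φ) j g ∈ I ^ (n * c' + ((c' - c) + k)) := by
        rw [ext_φr I c c' hcc' φ j hgc']
        apply ext_mem_pow I c φ j
        have : (n + 1) * c' + k = n * c' + (c' - c + k) + c := by
          rw [Nat.succ_mul]; omega
        rw [← this]
        exact hg
      have h2 := ih ((c' - c) + k) _ h1 (α - Finsupp.single j 1)
      have : n * (c' - c) + (c' - c + k) = (n + 1) * (c' - c) + k := by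
        rw [Nat.succ_mul]; omega
      rw [this] at h2
      exact h2
    · exact Ideal.zero_mem _

end Restrict

section Uniq

variable {A : Type u} [CommRing A] {r : ℕ} (I : Ideal A) (c : ℕ)
  (φ : Fin r → (↥(I ^ c) →ₗ[A] A))

/-- any graded map with the prescribed degree-one part is the canonical one -/
lemma Phi_unique (Φ : ℕ → A → MvPolynomial (Fin r) A)
    (hadd : ∀ n : ℕ, ∀ g ∈ I ^ (n * c), ∀ h ∈ I ^ (n * c), Φ n (g + h) = Φ n g + Φ n h)
    (hmul : ∀ n m : ℕ, ∀ g ∈ I ^ (n * c), ∀ h ∈ I ^ (m * c), Φ (n + m) (g * h) = Φ n g * Φ m h)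
    (hzero : ∀ a : A, Φ 0 a = MvPolynomial.C a)
    (hone : ∀ (g : A) (hg : g ∈ I ^ c), Φ 1 g = ∑ j, MvPolynomial.C (φ j ⟨g, hg⟩) * MvPolynomial.X j) :
    ∀ (n : ℕ) (g : A), g ∈ I ^ (n * c) → Φ n g = Phi I c φ n g := by
  intro n
  induction n with
  | zero => intro g _; rw [hzero]; rfl
  | succ n ih =>
    intro g hg
    have hg' := hg
    rw [Nat.succ_mul, pow_add] at hg'
    have key : g ∈ I ^ ((n + 1) * c) ∧ Φ (n + 1) g = Phi I c φ (n + 1) g := by
      refine Submodule.mul_induction_on hg' ?_ ?_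
      · intro a ha h hh
        have hh1 : h ∈ I ^ (1 * c) := by rw [one_mul]; exact hh
        refine ⟨?_, ?_⟩
        · rw [Nat.succ_mul, pow_add]; exact Ideal.mul_mem_mul ha hh
        · rw [hmul n 1 a ha h hh1, Phi_mul I c φ n a ha 1 h hh1, ih a ha, hone h hh,
            Phi_one I c φ h hh]
      · rintro x y ⟨hx, hx'⟩ ⟨hy, hy'⟩
        refine ⟨Ideal.add_mem _ hx hy, ?_⟩
        rw [hadd (n + 1) x hx y hy, Phi_add I c φ (n + 1) x y hx hy, hx', hy']
    exact key.2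

end Uniq



section Build

variable {A : Type u} [CommRing A] {B : Type u} [CommRing B] [Algebra A B]
  {N : Type u} [AddCommGroup N] [Module B N] {r : ℕ}

/-- the coefficient of `T^α` in an element of `N[T]` -/
noncomputable def coeffT (α : Fin r →₀ ℕ) : (MvPolynomial (Fin r) B ⊗[B] N) →ₗ[B] N :=
  (Finsupp.lapply α).comp
    (TensorProduct.equivFinsuppOfBasisLeft (MvPolynomial.basisMonomials (Fin r) B)).toLinearMap

lemma coeffT_tmul (α : Fin r →₀ ℕ) (Q : MvPolynomial (Fin r) B) (x : N) :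
    coeffT α (Q ⊗ₜ[B] x) = MvPolynomial.coeff α Q • x := by
  unfold coeffT
  simp only [LinearMap.coe_comp, LinearEquiv.coe_coe, Function.comp_apply, Finsupp.lapply_apply,
    TensorProduct.equivFinsuppOfBasisLeft_apply_tmul_apply]
  rfl

lemma eq_zero_of_coeffT (t : MvPolynomial (Fin r) B ⊗[B] N) (h : ∀ α, coeffT α t = 0) : t = 0 := by
  apply (TensorProduct.equivFinsuppOfBasisLeft (MvPolynomial.basisMonomials (Fin r) B)).injective
  rw [map_zero]
  ext α
  exact h α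

variable (𝔞 : Ideal A) (P : A → MvPolynomial (Fin r) A) (N)

/-- the submodule `𝔞 N` of `N`, as in the statement -/
abbrev SN : Submodule B N :=
  Submodule.span B {y : N | ∃ g ∈ 𝔞, ∃ x : N, y = algebraMap A B g • x}

/-- the presentation `⊕ B → 𝔞 N` -/
noncomputable def Lmap : ((↥𝔞 × N) →₀ B) →ₗ[B] N :=
  Finsupp.linearCombination B (fun p : ↥𝔞 × N => algebraMap A B (p.1 : A) • p.2)

/-- the candidate map on the presentation -/
noncomputable def Ximap : ((↥𝔞 × N) →₀ B) →ₗ[B] (MvPolynomial (Fin r) B ⊗[B] N) :=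
  Finsupp.linearCombination B
    (fun p : ↥𝔞 × N => MvPolynomial.map (algebraMap A B) (P (p.1 : A)) ⊗ₜ[B] p.2)

lemma Lmap_single (g : ↥𝔞) (x : N) :
    Lmap N 𝔞 (Finsupp.single (g, x) (1 : B)) = algebraMap A B (g : A) • x := by
  unfold Lmap
  rw [Finsupp.linearCombination_single, one_smul]

lemma Ximap_single (g : ↥𝔞) (x : N) :
    Ximap N 𝔞 P (Finsupp.single (g, x) (1 : B)) =
      MvPolynomial.map (algebraMap A B) (P (g : A)) ⊗ₜ[B] x := by
  unfold Ximap
  rw [Finsupp.linearCombination_single, one_smul]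

lemma Lmap_mem (z : (↥𝔞 × N) →₀ B) : Lmap N 𝔞 z ∈ SN (B := B) N 𝔞 := by
  unfold Lmap
  rw [Finsupp.linearCombination_apply]
  refine Submodule.sum_mem _ fun p _ => Submodule.smul_mem _ _ ?_
  exact Submodule.subset_span ⟨p.1, p.1.2, p.2, rfl⟩

lemma exists_Lmap_eq (y : N) (hy : y ∈ SN (B := B) N 𝔞) :
    ∃ z : (↥𝔞 × N) →₀ B, Lmap N 𝔞 z = y := by
  have : SN (B := B) N 𝔞 ≤ LinearMap.range (Lmap (B := B) N 𝔞) := by
    rw [Submodule.span_le]
    rintro _ ⟨g, hg, x, rfl⟩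
    exact ⟨Finsupp.single (⟨g, hg⟩, x) 1, Lmap_single N 𝔞 ⟨g, hg⟩ x⟩
  exact this hy

/-- the presentation, typed into `𝔞 N` -/
noncomputable def Lmap' : ((↥𝔞 × N) →₀ B) →ₗ[B] ↥(SN (B := B) N 𝔞) :=
  LinearMap.codRestrict _ (Lmap N 𝔞) (Lmap_mem N 𝔞)

lemma Lmap'_coe (z : (↥𝔞 × N) →₀ B) : ((Lmap' N 𝔞 z : ↥(SN (B := B) N 𝔞)) : N) = Lmap N 𝔞 z := rfl

lemma Lmap'_surjective : Function.Surjective (Lmap' (B := B) N 𝔞) := by
  rintro ⟨y, hy⟩
  obtain ⟨z, hz⟩ := exists_Lmap_eq N 𝔞 y hy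
  exact ⟨z, Subtype.ext hz⟩

lemma Lmap'_single (g : A) (hg : g ∈ 𝔞) (x : N) :
    Lmap' N 𝔞 (Finsupp.single ((⟨g, hg⟩ : ↥𝔞), x) (1 : B)) =
      ⟨algebraMap A B g • x, Submodule.subset_span ⟨g, hg, x, rfl⟩⟩ :=
  Subtype.ext (Lmap_single N 𝔞 ⟨g, hg⟩ x)

/-- **construction of `Ψ`** from the vanishing of coefficients on relations -/
theorem exists_Psi
    (hker : ∀ z : (↥𝔞 × N) →₀ B, Lmap N 𝔞 z = 0 → ∀ α : Fin r →₀ ℕ,
      (z.sum fun p b => b • (algebraMap A B (MvPolynomial.coeff α (P (p.1 : A))) • p.2)) = 0) :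
    ∃ Ψ : ↥(SN (B := B) N 𝔞) →ₗ[B] (MvPolynomial (Fin r) B ⊗[B] N),
      Ψ ∘ₗ Lmap' N 𝔞 = Ximap N 𝔞 P := by
  have hsurj := Lmap'_surjective (B := B) N 𝔞
  have hle : LinearMap.ker (Lmap' (B := B) N 𝔞) ≤ LinearMap.ker (Ximap N 𝔞 P) := by
    intro z hz
    have hz0 : Lmap N 𝔞 z = 0 := congrArg Subtype.val hz
    rw [LinearMap.mem_ker]
    apply eq_zero_of_coeffT
    intro α
    unfold Ximap
    rw [Finsupp.linearCombination_apply, Finsupp.sum, map_sum]
    have := hker z hz0 α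
    rw [Finsupp.sum] at this
    rw [← this]
    refine Finset.sum_congr rfl fun p _ => ?_
    rw [map_smul, coeffT_tmul, MvPolynomial.coeff_map]
  refine ⟨((LinearMap.ker (Lmap' (B := B) N 𝔞)).liftQ (Ximap N 𝔞 P) hle) ∘ₗ
    ((Lmap' (B := B) N 𝔞).quotKerEquivOfSurjective hsurj).symm.toLinearMap, ?_⟩
  apply LinearMap.ext
  intro z
  have h1 : ((Lmap' (B := B) N 𝔞).quotKerEquivOfSurjective hsurj).symm (Lmap' N 𝔞 z) =
      Submodule.Quotient.mk z := by
    rw [LinearEquiv.symm_apply_eq]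
    rfl
  change (LinearMap.ker (Lmap' (B := B) N 𝔞)).liftQ (Ximap N 𝔞 P) hle
    (((Lmap' (B := B) N 𝔞).quotKerEquivOfSurjective hsurj).symm (Lmap' N 𝔞 z)) = _
  rw [h1]
  rfl

end Build


section Ker

variable {A : Type u} [CommRing A] {B : Type u} [CommRing B] [Algebra A B]
  (N : Type u) [AddCommGroup N] [Module B N] {r : ℕ}

lemma hker_of (I : Ideal A) (k₁ : ℕ)
    (hAR : ∀ y : N, y ∈ tors (I.map (algebraMap A B)) N →
      y ∈ ((I.map (algebraMap A B)) ^ k₁ • ⊤ : Submodule B N) → y = 0)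
    (m : ℕ) (P : A → MvPolynomial (Fin r) A)
    (psmul : ∀ (a : A), ∀ g ∈ I ^ m, P (a * g) = a • P g)
    (pcoeff : m = 0 ∨ ∀ g ∈ I ^ m, ∀ α, MvPolynomial.coeff α (P g) ∈ I ^ k₁) :
    ∀ z : (↥(I ^ m) × N) →₀ B, Lmap N (I ^ m) z = 0 → ∀ α : Fin r →₀ ℕ,
      (z.sum fun p b => b • (algebraMap A B (MvPolynomial.coeff α (P (p.1 : A))) • p.2)) = 0 := by
  intro z hz α
  set y : N := z.sum fun p b => b • (algebraMap A B (MvPolynomial.coeff α (P (p.1 : A))) • p.2)
    with hy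
  have hsymm : ∀ g ∈ I ^ m, ∀ h ∈ I ^ m,
      h * MvPolynomial.coeff α (P g) = g * MvPolynomial.coeff α (P h) := by
    intro g hg h hh
    have h1 : P (h * g) = h • P g := psmul h g hg
    have h2 : P (h * g) = g • P h := by rw [mul_comm]; exact psmul g h hh
    have h3 := congrArg (MvPolynomial.coeff α) (h1.symm.trans h2)
    rwa [MvPolynomial.coeff_smul, MvPolynomial.coeff_smul, smul_eq_mul, smul_eq_mul] at h3
  have ha : ∀ h ∈ I ^ m, algebraMap A B h • y = 0 := by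
    intro h hh
    have hz' : (z.sum fun p b => b • (algebraMap A B (p.1 : A) • p.2)) = 0 := by
      have := hz
      unfold Lmap at this
      rwa [Finsupp.linearCombination_apply] at this
    rw [hy, Finsupp.smul_sum]
    have h1 : (z.sum fun p b => algebraMap A B h •
        b • (algebraMap A B (MvPolynomial.coeff α (P (p.1 : A))) • p.2)) =
        algebraMap A B (MvPolynomial.coeff α (P h)) •
          (z.sum fun p b => b • (algebraMap A B (p.1 : A) • p.2)) := by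
      rw [Finsupp.smul_sum]
      refine Finset.sum_congr rfl fun p _ => ?_
      show algebraMap A B h • z p • (algebraMap A B (MvPolynomial.coeff α (P (p.1 : A))) • p.2) =
        algebraMap A B (MvPolynomial.coeff α (P h)) • z p • (algebraMap A B (p.1 : A) • p.2)
      have e : algebraMap A B h * algebraMap A B (MvPolynomial.coeff α (P (p.1 : A))) =
          algebraMap A B (MvPolynomial.coeff α (P h)) * algebraMap A B (p.1 : A) := by
        rw [← map_mul, ← map_mul, hsymm p.1 p.1.2 h hh, mul_comm]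
      calc algebraMap A B h • z p • (algebraMap A B (MvPolynomial.coeff α (P (p.1 : A))) • p.2)
          = z p • (algebraMap A B h • algebraMap A B (MvPolynomial.coeff α (P (p.1 : A))) • p.2) :=
            smul_comm _ _ _
        _ = z p • ((algebraMap A B h * algebraMap A B (MvPolynomial.coeff α (P (p.1 : A)))) • p.2) := by
            rw [mul_smul]
        _ = z p • ((algebraMap A B (MvPolynomial.coeff α (P h)) * algebraMap A B (p.1 : A)) • p.2) := by
            rw [e]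
        _ = z p • (algebraMap A B (MvPolynomial.coeff α (P h)) • algebraMap A B (p.1 : A) • p.2) := by
            rw [mul_smul]
        _ = algebraMap A B (MvPolynomial.coeff α (P h)) • z p • (algebraMap A B (p.1 : A) • p.2) :=
            smul_comm _ _ _
    rw [h1, hz', smul_zero]
  rcases pcoeff with hm0 | hco
  · have h1 : (1 : A) ∈ I ^ m := by rw [hm0, pow_zero, Ideal.one_eq_top]; trivial
    have := ha 1 h1
    rwa [map_one, one_smul] at this
  · apply hAR y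
    · refine ⟨m, fun b hb => ?_⟩
      rw [← Ideal.map_pow] at hb
      refine Submodule.span_induction ?_ ?_ ?_ ?_ hb
      · rintro _ ⟨h, hh, rfl⟩
        exact ha h hh
      · exact zero_smul _ _
      · intro b b' _ _ hb hb'
        rw [add_smul, hb, hb', add_zero]
      · intro c b _ hb
        rw [smul_eq_mul, mul_smul, hb, smul_zero]
    · rw [hy, Finsupp.sum]
      refine Submodule.sum_mem _ fun p _ => Submodule.smul_mem _ _ ?_
      refine Submodule.smul_mem_smul ?_ Submodule.mem_top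
      rw [← Ideal.map_pow]
      exact Ideal.mem_map_of_mem _ (hco p.1 p.1.2 α)

end Ker

theorem main (A : Type u) [CommRing A] [IsNoetherianRing A] (r : ℕ) (f : Fin r → A) (I : Ideal A) (c : ℕ) (φ : Fin r → (↥(I ^ c) →ₗ[A] A)) (hφ : ∀ x : ↥(I ^ c), (x : A) = ∑ j, f j * φ j x) (B : Type u) [CommRing B] [Algebra A B] [IsNoetherianRing B] (N : Type u) [AddCommGroup N] [Module B N] [Module.Finite B N] : ∃ c' : ℕ, ∃ hcc' : c ≤ c', ∀ Φ : ℕ → A → MvPolynomial (Fin r) A, ((∀ n : ℕ, ∀ g ∈ I ^ (n * c'), ∀ h ∈ I ^ (n * c'), Φ n (g + h) = Φ n g + Φ n h) ∧ (∀ (n : ℕ) (a : A), ∀ g ∈ I ^ (n * c'), Φ n (a * g) = a • Φ n g) ∧ (∀ n : ℕ, ∀ g ∈ I ^ (n * c'), (Φ n g).IsHomogeneous n) ∧ (∀ n m : ℕ, ∀ g ∈ I ^ (n * c'), ∀ h ∈ I ^ (m * c'), Φ (n + m) (g * h) = Φ n g * Φ m h) ∧ (∀ a : A, Φ 0 a = MvPolynomial.C a) ∧ (∀ (g : A) (hg : g ∈ I ^ c'), Φ 1 g = ∑ j, MvPolynomial.C (φ j ⟨g, Ideal.pow_le_pow_right hcc' hg⟩) * MvPolynomial.X j)) → ∀ n : ℕ,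 ∃ Ψ : ↥(Submodule.span B {y : N | ∃ g ∈ I ^ (n * c'), ∃ x : N, y = algebraMap A B g • x}) →ₗ[B] (MvPolynomial (Fin r) B ⊗[B] N), (∀ (g : A) (hg : g ∈ I ^ (n * c')) (x : N), Ψ ⟨algebraMap A B g • x, Submodule.subset_span ⟨g, hg, x, rfl⟩⟩ = MvPolynomial.map (algebraMap A B) (Φ n g) ⊗ₜ[B] x) ∧ (∀ y : ↥(Submodule.span B {y : N | ∃ g ∈ I ^ (n * c'), ∃ x : N, y = algebraMap A B g • x}), TensorProduct.lift ((LinearMap.lsmul B N).comp (MvPolynomial.aeval (fun j ↦ algebraMap A B (f j))).toLinearMap) (Ψ y) = (y : N)) ∧ (∀ Ψ' : ↥(Submodule.span B {y : N | ∃ g ∈ I ^ (n * c'), ∃ x : N, y = algebraMap A B g • x}) →ₗ[B] (MvPolynomial (Fin r) B ⊗[B] N), (∀ (g : A) (hg : g ∈ I ^ (n * c')) (x : N), Ψ' ⟨algebraMap A B g • x, Submodule.subset_span ⟨g, hg, x, rfl⟩⟩ = MvPolynomial.map (algebraMap A B) (Φ n g) ⊗ₜ[B] x) → Ψ' = Ψ) := by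
  obtain ⟨k₁, hAR⟩ := exists_tors_inf_eq_bot (I.map (algebraMap A B)) N
  refine ⟨c + k₁, Nat.le_add_right c k₁, ?_⟩
  rintro Φ ⟨hadd, hsmul, -, hmul, hzero, hone⟩ n
  set c' := c + k₁ with hc'
  have hcc' : c ≤ c' := Nat.le_add_right c k₁
  have hΦ : ∀ g ∈ I ^ (n * c'), Φ n g = Phi I c' (φr I c c' hcc' φ) n g :=
    Phi_unique I c' (φr I c c' hcc' φ) Φ hadd hmul hzero (fun g hg => hone g hg) n
  have hφ' : ∀ x : ↥(I ^ c'), (x : A) = ∑ j, f j * φr I c c' hcc' φ j x := by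
    intro x
    exact hφ ⟨x.1, Ideal.pow_le_pow_right hcc' x.2⟩
  have hco : n = 0 ∨ ∀ g ∈ I ^ (n * c'), ∀ α, MvPolynomial.coeff α (Φ n g) ∈ I ^ k₁ := by
    rcases Nat.eq_zero_or_pos n with h | h
    · exact Or.inl h
    · right
      intro g hg α
      rw [hΦ g hg]
      have h1 := coeff_Phi_mem I c c' hcc' φ n 0 g (by rwa [add_zero]) α
      refine Ideal.pow_le_pow_right ?_ h1
      have : c' - c = k₁ := by omega
      rw [add_zero, this]
      exact Nat.le_mul_of_pos_left k₁ h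
  have hco' : n * c' = 0 ∨ ∀ g ∈ I ^ (n * c'), ∀ α, MvPolynomial.coeff α (Φ n g) ∈ I ^ k₁ := by
    rcases hco with h | h
    · left; rw [h, zero_mul]
    · exact Or.inr h
  have hker := hker_of N I k₁ hAR (n * c') (Φ n) (fun a g hg => hsmul n a g hg) hco'
  obtain ⟨Ψ, hΨ⟩ := exists_Psi N (I ^ (n * c')) (Φ n) hker
  have hΨ' : ∀ z, Ψ (Lmap' N (I ^ (n * c')) z) = Ximap N (I ^ (n * c')) (Φ n) z :=
    fun z => LinearMap.congr_fun hΨ z
  refine ⟨Ψ, ?_, ?_, ?_⟩
  · intro g hg x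
    rw [← Lmap'_single N (I ^ (n * c')) g hg x, hΨ', Ximap_single]
  · intro y
    obtain ⟨z, rfl⟩ := Lmap'_surjective (B := B) N (I ^ (n * c')) y
    rw [hΨ', Lmap'_coe]
    have key : (TensorProduct.lift ((LinearMap.lsmul B N).comp
        (MvPolynomial.aeval (fun j ↦ algebraMap A B (f j))).toLinearMap)) ∘ₗ
        Ximap N (I ^ (n * c')) (Φ n) = Lmap N (I ^ (n * c')) := by
      apply Finsupp.lhom_ext
      intro p b
      have hsingle : (Finsupp.single p b : (↥(I ^ (n * c')) × N) →₀ B) =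
          b • Finsupp.single p 1 := by rw [Finsupp.smul_single, smul_eq_mul, mul_one]
      rw [hsingle, map_smul, map_smul]
      congr 1
      obtain ⟨⟨g, hg⟩, x⟩ := p
      rw [LinearMap.comp_apply, Ximap_single, Lmap_single, TensorProduct.lift.tmul]
      simp only [LinearMap.coe_comp, AlgHom.toLinearMap_apply, Function.comp_apply,
        LinearMap.lsmul_apply]
      congr 1
      rw [MvPolynomial.aeval_map_algebraMap]
      have h1 : (fun j ↦ algebraMap A B (f j)) = algebraMap A B ∘ f := rfl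
      rw [h1, MvPolynomial.aeval_algebraMap_apply, hΦ g hg,
        Phi_aeval f I c' (φr I c c' hcc' φ) hφ' n g hg]
    exact LinearMap.congr_fun key z
  · intro Ψ' hΨ'gen
    have h2 : Ψ' ∘ₗ Lmap' N (I ^ (n * c')) = Ximap N (I ^ (n * c')) (Φ n) := by
      apply Finsupp.lhom_ext
      intro p b
      have hsingle : (Finsupp.single p b : (↥(I ^ (n * c')) × N) →₀ B) =
          b • Finsupp.single p 1 := by rw [Finsupp.smul_single, smul_eq_mul, mul_one]
      rw [hsingle, map_smul, map_smul]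
      congr 1
      obtain ⟨⟨g, hg⟩, x⟩ := p
      rw [LinearMap.comp_apply, Lmap'_single, hΨ'gen g hg x, Ximap_single]
    apply LinearMap.ext
    intro y
    obtain ⟨z, rfl⟩ := Lmap'_surjective (B := B) N (I ^ (n * c')) y
    rw [hΨ', ← h2]
    rfl

end Aux

/-- Let A be a Noetherian ring, f_1, …, f_r ∈ A and I = (f_1, …, f_r) with cd(A, I) = 1; let c ≥ 1 and
φ_j : I^c → A be A-linear maps with x = Σ_j f_j φ_j(x) for all x ∈ I^c. Let B be a Noetherian
A-algebra and N a finite B-module. Then there is c' ≥ c with the following property. Write φ_j again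
for the restrictions of the φ_j to I^{c'} and let Φ be a graded A-algebra homomorphism from ⊕_{n ≥
0} I^{nc'} to A[T_1, …, T_r] with Φ(g) = Σ_j φ_j(g) T_j for g ∈ I^{c'} (there is exactly one; it is
encoded by functions Φ_n : A → A[T_1, …, T_r] whose values on I^{nc'} are additive, A-homogeneous,
homogeneous of degree n and multiplicative across degrees, with Φ_0 the structure map and Φ_1 as
prescribed). Then for every n there is a unique B-linear map Ψ_n from the submodule I^{nc'}N of N to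
N[T_1, …, T_r] = B[T_1, …, T_r] ⊗_B N with Ψ_n(g x) = Φ_n(g) ⊗ x for g ∈ I^{nc'} and x ∈ N; that is,
the Ψ_n form the unique graded B-module map from ⊕_n I^{nc'}N to N[T_1, …, T_r] with this property.
Moreover substituting T_j ↦ f_j after Ψ_n gives back the inclusion of I^{nc'}N into N. -/
theorem result (A : Type u) [CommRing A] [IsNoetherianRing A] (r : ℕ) (f : Fin r → A) (I : Ideal A) (hI : I = Ideal.span (Set.range f)) (h1 : LocCoh.CdLE A I 1) (h0 : ¬ LocCoh.CdLE A I 0) (c : ℕ) (hc : 1 ≤ c) (φ : Fin r → (↥(I ^ c) →ₗ[A] A)) (hφ : ∀ x : ↥(I ^ c), (x : A) = ∑ j, f j * φ j x) (B : Type u) [CommRing B] [Algebra A B] [IsNoetherianRing B] (N : Type u) [AddCommGroup N] [Module B N] [Module.Finite B N] : ∃ c' : ℕ, ∃ hcc' : c ≤ c', ∀ Φ : ℕ → A → MvPolynomial (Fin r) A, ((∀ n : ℕ, ∀ g ∈ I ^ (n * c'), ∀ h ∈ I ^ (n * c'), Φ n (g + h) = Φ n g + Φ n h) ∧ (∀ (n : ℕ) (a : A), ∀ g ∈ I ^ (n * c'), Φ n (a * g) = a • Φ n g) ∧ (∀ n : ℕ, ∀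 g ∈ I ^ (n * c'), (Φ n g).IsHomogeneous n) ∧ (∀ n m : ℕ, ∀ g ∈ I ^ (n * c'), ∀ h ∈ I ^ (m * c'), Φ (n + m) (g * h) = Φ n g * Φ m h) ∧ (∀ a : A, Φ 0 a = MvPolynomial.C a) ∧ (∀ (g : A) (hg : g ∈ I ^ c'), Φ 1 g = ∑ j, MvPolynomial.C (φ j ⟨g, Ideal.pow_le_pow_right hcc' hg⟩) * MvPolynomial.X j)) → ∀ n : ℕ, ∃ Ψ : ↥(Submodule.span B {y : N | ∃ g ∈ I ^ (n * c'), ∃ x : N, y = algebraMap A B g • x}) →ₗ[B] (MvPolynomial (Fin r) B ⊗[B] N), (∀ (g : A) (hg : g ∈ I ^ (n * c')) (x : N), Ψ ⟨algebraMap A B g • x, Submodule.subset_span ⟨g, hg, x, rfl⟩⟩ = MvPolynomial.map (algebraMap A B) (Φ n g) ⊗ₜ[B] x) ∧ (∀ y : ↥(Submodule.span B {y : N | ∃ g ∈ I ^ (n * c'), ∃ x : N, y = algebraMap A B g • x}), TensorProduct.lift ((LinearMap.lsmul B N).comp (MvPolynomial.aeval (fun j ↦ algebraMap A B (f j))).toLinearMap) (Ψ y) = (y : N)) ∧ (∀ Ψ' : ↥(Submodule.span B {y : N | ∃ g ∈ I ^ (n * c'), ∃ x : N, y = algebraMap A B g • x}) →ₗ[B] (MvPolynomial (Fin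 r) B ⊗[B] N), (∀ (g : A) (hg : g ∈ I ^ (n * c')) (x : N), Ψ' ⟨algebraMap A B g • x, Submodule.subset_span ⟨g, hg, x, rfl⟩⟩ = MvPolynomial.map (algebraMap A B) (Φ n g) ⊗ₜ[B] x) → Ψ' = Ψ) := by
  exact Aux.main A r f I c φ hφ B N

end Groth.Agent.S8833
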