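import Groth.Statements.S8853
import Mathlib

set_option autoImplicit false
universe u
open CategoryTheory CategoryTheory.Limits AlgebraicGeometry TopologicalSpace
open SDiv

namespace Groth.Agent.S8853

open AlgebraicGeometry CategoryTheory TopologicalSpace
namespace H8853

theorem main {S : Scheme.{u}} (𝓘 : S.IdealSheafData) (h : Curv2.IsLocPrincipal 𝓘) :
    IsAffineHom (Scheme.Opens.ι 𝓘.support.compl) := by
  set Uc : S.Opens := 𝓘.support.compl with hUc
  apply isAffineHom_of_forall_exists_isAffineOpen
  intro x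
  by_cases hx : x ∈ 𝓘.support
  · obtain ⟨W, hxW, f, hf⟩ := h x hx
    refine ⟨W.1, hxW, W.2, ?_⟩
    rw [← Uc.ι.isAffineOpen_iff_of_isOpenImmersion, Uc.ι.image_preimage_eq_opensRange_inf,
      Scheme.Opens.opensRange_ι]
    have heq : Uc ⊓ W.1 = S.basicOpen f := by
      apply Opens.ext
      have h1 := 𝓘.coe_support_inter W
      rw [hf, S.zeroLocus_span, S.zeroLocus_singleton] at h1
      ext y
      simp only [Opens.coe_inf, Set.mem_inter_iff, SetLike.mem_coe]
      have h2 : y ∈ (𝓘.support : Set S) ∩ W.1 ↔ y ∈ ((S.basicOpen f : Set S))ᶜ ∩ W.1 := by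
        rw [h1]
      simp only [Set.mem_inter_iff, Set.mem_compl_iff, SetLike.mem_coe] at h2
      constructor
      · rintro ⟨hy1, hy2⟩
        by_contra hy3
        exact hy1 ((h2.mpr ⟨hy3, hy2⟩).1)
      · intro hy
        have hyW : y ∈ W.1 := S.basicOpen_le f hy
        refine ⟨fun hys => ?_, hyW⟩
        exact (h2.mp ⟨hys, hyW⟩).1 hy
    rw [heq]
    exact W.2.basicOpen f
  · have hxU : x ∈ Uc := hx
    obtain ⟨W, hW, hxW, hWU⟩ := Opens.isBasis_iff_nbhd.mp (S.isBasis_affineOpens) hxU
    refine ⟨W, hxW, hW, ?_⟩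
    rw [← Uc.ι.isAffineOpen_iff_of_isOpenImmersion, Uc.ι.image_preimage_eq_opensRange_inf,
      Scheme.Opens.opensRange_ι, inf_eq_right.mpr hWU]
    exact hW

end H8853

/-- Let Z be a locally principal closed subscheme of a scheme S, with ideal sheaf 𝓘 generated by a
single section on some affine open neighbourhood of each point of its support, and let U be the open
complement of Z. Then the inclusion U ⟶ S is an affine morphism. -/
theorem result {S : Scheme.{u}} (𝓘 : S.IdealSheafData) (h : Curv2.IsLocPrincipal 𝓘) :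
    IsAffineHom (Scheme.Opens.ι 𝓘.support.compl) := by
  exact H8853.main 𝓘 h

end Groth.Agent.S8853
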