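import Groth.Statements.S8854
import Mathlib

set_option autoImplicit false
universe u
open SDiv

namespace Groth.Agent.S8854

/-- Let R be a Noetherian unique factorisation domain and I ⊆ R an ideal such that every associated
prime of R/I is minimal over I (R/I has no embedded primes) and every prime minimal over I has
height 1. Then I is principal: it is generated by one element. -/
theorem result (R : Type u) [CommRing R] [IsDomain R] [IsNoetherianRing R]
    [UniqueFactorizationMonoid R] (I : Ideal R)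
    (h1 : ∀ p : Ideal R, p ∈ associatedPrimes R (R ⧸ I) → p ∈ I.minimalPrimes)
    (h2 : ∀ p : Ideal R, p ∈ I.minimalPrimes → p.height = 1) :
    ∃ f : R, I = Ideal.span {f} := by
  by_cases hI : I = ⊥
  · exact ⟨0, by simp [hI]⟩
  -- the set of `J` with `I = (d) * J`
  let S : Set (Ideal R) := {J | ∃ d : R, d ≠ 0 ∧ I = Ideal.span {d} * J}
  have hS : S.Nonempty := ⟨I, 1, one_ne_zero, by simp⟩
  obtain ⟨J, ⟨d, hd, hIJ⟩, hmax⟩ :=
    set_has_maximal_iff_noetherian.mpr (inferInstance : IsNoetherian R R) S hS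
  have hJbot : J ≠ ⊥ := by
    rintro rfl
    exact hI (by simpa using hIJ)
  suffices hJ : J = ⊤ by
    exact ⟨d, by rw [hIJ, hJ, Ideal.mul_top]⟩
  by_contra hJ
  have : Nontrivial (R ⧸ J) := Ideal.Quotient.nontrivial_iff.mpr hJ
  obtain ⟨p, hp⟩ := associatedPrimes.nonempty R (R ⧸ J)
  -- multiplication by d gives an injection R/J → R/I
  have hle : J ≤ Submodule.comap (LinearMap.mul R R d) I := by
    intro x hx
    simp only [Submodule.mem_comap, LinearMap.mul_apply_apply]
    rw [hIJ]
    exact Ideal.mul_mem_mul (Ideal.mem_span_singleton_self d) hx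
  let φ : (R ⧸ J) →ₗ[R] (R ⧸ I) := Submodule.mapQ J I (LinearMap.mul R R d) hle
  have hφ : Function.Injective φ := by
    rw [injective_iff_map_eq_zero]
    intro a ha
    obtain ⟨x, rfl⟩ := Submodule.Quotient.mk_surjective _ a
    simp only [φ, Submodule.mapQ_apply, LinearMap.mul_apply_apply,
      Submodule.Quotient.mk_eq_zero] at ha ⊢
    rw [hIJ, Ideal.mem_span_singleton_mul] at ha
    obtain ⟨z, hz, hzx⟩ := ha
    rwa [← mul_left_cancel₀ hd hzx]
  have hpI : p ∈ associatedPrimes R (R ⧸ I) := associatedPrimes.subset_of_injective hφ hp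
  have hpmin := h1 p hpI
  have hpht := h2 p hpmin
  have hpprime : p.IsPrime := hpmin.1.1
  have hpJ : J ≤ p := by
    have := IsAssociatedPrime.annihilator_le hp
    rwa [Submodule.annihilator_top, Ideal.annihilator_quotient] at this
  have hpbot : p ≠ ⊥ := by
    rintro rfl
    exact hJbot (le_bot_iff.mp hpJ)
  obtain ⟨π, hπp, hπ⟩ := Ideal.IsPrime.exists_mem_prime_of_ne_bot hpprime hpbot
  have hπprime : (Ideal.span {π}).IsPrime := (Ideal.span_singleton_prime hπ.ne_zero).mpr hπ
  have hπle : Ideal.span {π} ≤ p := (Ideal.span_singleton_le_iff_mem _).mpr hπp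
  have hpeq : p = Ideal.span {π} := by
    by_contra hne
    have hlt : Ideal.span {π} < p := lt_of_le_of_ne hπle (Ne.symm hne)
    have h3 := Ideal.height_add_one_le_of_lt_of_isPrime hlt
    rw [hpht] at h3
    have h4 : (Ideal.span {π}).height = 0 := by
      have : (Ideal.span {π}).height + 1 ≤ 0 + 1 := by simpa using h3
      exact le_antisymm ((ENat.add_le_add_iff_right (by simp)).mp this) zero_le
    rw [Ideal.height_eq_zero_iff_eq_bot] at h4
    exact hπ.ne_zero (by simpa using h4)
  -- J = π J'
  let J' : Ideal R := Submodule.comap (LinearMap.mul R R π) J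
  have hJJ' : J = Ideal.span {π} * J' := by
    apply le_antisymm
    · intro x hx
      have hx' : x ∈ Ideal.span {π} := hpeq ▸ hpJ hx
      obtain ⟨y, rfl⟩ := Ideal.mem_span_singleton'.mp hx'
      rw [Ideal.mem_span_singleton_mul]
      exact ⟨y, by simpa [J', mul_comm] using hx, mul_comm _ _⟩
    · rw [Ideal.span_singleton_mul_le_iff]
      intro z hz
      exact hz
  have hJ'S : J' ∈ S := ⟨d * π, mul_ne_zero hd hπ.ne_zero, by
    rw [hIJ, hJJ', ← mul_assoc, Ideal.span_singleton_mul_span_singleton]⟩
  have hJleJ' : J ≤ J' := fun x hx => by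
    simpa [J'] using Ideal.mul_mem_left J π hx
  have hJ'eq : J' = J := by
    by_contra hne
    exact hmax J' hJ'S (lt_of_le_of_ne hJleJ' (Ne.symm hne))
  rw [hJ'eq] at hJJ'
  -- Nakayama
  have hfg : J.FG := IsNoetherian.noetherian J
  obtain ⟨r, hr, hrJ⟩ := Submodule.exists_sub_one_mem_and_smul_eq_zero_of_fg_of_le_smul
    (Ideal.span {π}) J hfg (by rw [smul_eq_mul]; exact hJJ'.le)
  obtain ⟨n, hnJ, hn0⟩ := Submodule.exists_mem_ne_zero_of_ne_bot hJbot
  have hr0 : r = 0 := by
    have := hrJ n hnJ
    rcases mul_eq_zero.mp this with h | h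
    · exact h
    · exact absurd h hn0
  rw [hr0, zero_sub] at hr
  have : (1 : R) ∈ Ideal.span {π} := by simpa using (Ideal.span {π}).neg_mem hr
  exact hπprime.ne_top ((Ideal.eq_top_iff_one _).mpr this)

end Groth.Agent.S8854
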