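import Groth.Statements.S8861
import Mathlib
import Groth.Agent.Lib.Helper4.IdealComap
import Groth.Agent.S8869

set_option autoImplicit false
universe u
open CategoryTheory CategoryTheory.Limits AlgebraicGeometry TopologicalSpace
open SDiv

namespace Groth.Agent.S8861

open AlgebraicGeometry CategoryTheory TopologicalSpace
namespace H8861

/-- the annihilator of an element, as an ideal -/
def annI (R : Type u) [CommRing R] (b : R) : Ideal R := LinearMap.ker (LinearMap.toSpanSingleton R R b)

theorem mem_annI {R : Type u} [CommRing R] (b x : R) : x ∈ annI R b ↔ x * b = 0 := by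
  unfold annI
  rw [LinearMap.mem_ker, LinearMap.toSpanSingleton_apply, smul_eq_mul]

theorem ring_weak (R A : Type u) [CommRing R] [CommRing A] [Algebra R A] (p : Ideal R) [p.IsPrime]
    [IsLocalization.AtPrime A p] [IsLocalRing A] (b : R)
    (hp : p ∈ (annI R b).minimalPrimes) :
    Ideal.radical (annI A (algebraMap R A b)) = IsLocalRing.maximalIdeal A := by
  have hker : annI A (algebraMap R A b) = (annI R b).map (algebraMap R A) := by
    apply le_antisymm
    · intro z hz
      rw [mem_annI] at hz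
      obtain ⟨x, s, rfl⟩ := IsLocalization.exists_mk'_eq p.primeCompl z
      rw [IsLocalization.mk'_mem_map_algebraMap_iff p.primeCompl]
      have h1 : IsLocalization.mk' A (x * b) s = 0 := by
        rw [← hz, IsLocalization.mk'_eq_mul_mk'_one, IsLocalization.mk'_eq_mul_mk'_one x s, map_mul]
        ring
      rw [IsLocalization.mk'_eq_zero_iff] at h1
      obtain ⟨t, ht⟩ := h1
      refine ⟨t.1, t.2, ?_⟩
      rw [mem_annI, mul_assoc]
      exact ht
    · rw [Ideal.map_le_iff_le_comap]
      intro x hx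
      rw [mem_annI] at hx
      rw [Ideal.mem_comap, mem_annI, ← map_mul, hx, map_zero]
  rw [hker, IsLocalization.AtPrime.radical_map_of_mem_minimalPrimes (A := A) p (annI R b) hp,
    IsLocalization.AtPrime.map_eq_maximalIdeal p A]


theorem main {X Y : Scheme.{u}} (f : X ⟶ Y) (𝓘 : Y.IdealSheafData)
    (hD : BlowUp.IsEffCartierIdeal 𝓘)
    (h : ∀ x : ↥X, Curv2.IsWeakAssPoint (Coh.structureModule X) x → f x ∉ 𝓘.support) :
    BlowUp.IsEffCartierIdeal (𝓘.comap f) := by
  intro x
  obtain ⟨V, hxV, g, hg, hIg⟩ := hD (f x)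
  have hxfV : x ∈ f ⁻¹ᵁ V.1 := hxV
  obtain ⟨U, hU, hxU, hUV⟩ := Opens.isBasis_iff_nbhd.mp (X.isBasis_affineOpens) hxfV
  let U' : X.affineOpens := ⟨U, hU⟩
  have hcomap := Groth.Agent.Helper4.IdealComap.ideal_comap_eq_map f 𝓘 U' V hUV
  rw [hIg, Ideal.map_span, Set.image_singleton] at hcomap
  refine ⟨U', hxU, (f.appLE V.1 U hUV).hom g, ?_, hcomap⟩
  set φg := (f.appLE V.1 U hUV).hom g with hφg
  rw [mem_nonZeroDivisors_iff_right]
  intro b hb
  by_contra hb0
  -- a minimal prime over Ann b
  have hne : annI Γ(X, U) b ≠ ⊤ := by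
    intro e
    have : (1 : Γ(X, U)) ∈ annI Γ(X, U) b := e ▸ Submodule.mem_top
    rw [mem_annI, one_mul] at this
    exact hb0 this
  obtain ⟨M, hM, hIM⟩ := Ideal.exists_le_maximal _ hne
  have hMp : M.IsPrime := hM.isPrime
  obtain ⟨p, hp, -⟩ := Ideal.exists_minimalPrimes_le hIM
  have hpp : p.IsPrime := hp.1.1
  have hφp : φg ∈ p := hp.1.2 ((mem_annI b φg).mpr (by rw [mul_comm]; exact hb))
  let P : PrimeSpectrum Γ(X, U) := ⟨p, hpp⟩
  have hξU : hU.fromSpec P ∈ U := by
    have : hU.fromSpec P ∈ Set.range hU.fromSpec := ⟨P, rfl⟩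
    rw [hU.range_fromSpec] at this
    exact this
  -- the point is weakly associated
  have hweak : Curv2.IsWeakAssPoint (Coh.structureModule X) (hU.fromSpec P) := by
    rw [Groth.Agent.S8869.H8869.isWeakAss_iff]
    letI := TopCat.Presheaf.algebra_section_stalk X.presheaf ⟨hU.fromSpec P, hξU⟩
    have hloc : IsLocalization.AtPrime (X.presheaf.stalk (hU.fromSpec P)) P.asIdeal :=
      hU.isLocalization_stalk' P hξU
    refine ⟨algebraMap Γ(X, U) (X.presheaf.stalk (hU.fromSpec P)) b, ?_⟩
    exact ring_weak Γ(X, U) (X.presheaf.stalk (hU.fromSpec P)) p b hp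
  have hnot := h _ hweak
  have hfξV : f (hU.fromSpec P) ∈ V.1 := hUV hξU
  rw [Scheme.IdealSheafData.mem_support_iff_of_mem hfξV, hIg, Y.zeroLocus_span,
    Y.zeroLocus_singleton] at hnot
  have h1 : f (hU.fromSpec P) ∈ Y.basicOpen g := by
    by_contra hcon
    exact hnot hcon
  have h2 : hU.fromSpec P ∈ X.basicOpen φg := by
    rw [hφg, Scheme.basicOpen_appLE]
    exact ⟨hξU, h1⟩
  have h3 : P ∈ hU.fromSpec ⁻¹ᵁ X.basicOpen φg := h2
  rw [hU.fromSpec_preimage_basicOpen] at h3
  exact h3 hφp

end H8861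

/-- Let f : X ⟶ Y be a morphism of schemes and 𝓘 the ideal sheaf of an effective Cartier divisor D ⊆ Y.
If f x ∉ D for every weakly associated point x of X (weakly associated point of the structure
sheaf), then the inverse image ideal sheaf of 𝓘 on X is the ideal of an effective Cartier divisor,
i.e. the pullback of D by f is defined. -/
theorem result {X Y : Scheme.{u}} (f : X ⟶ Y) (𝓘 : Y.IdealSheafData)
    (hD : BlowUp.IsEffCartierIdeal 𝓘)
    (h : ∀ x : ↥X, Curv2.IsWeakAssPoint (Coh.structureModule X) x → f x ∉ 𝓘.support) :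
    BlowUp.IsEffCartierIdeal (𝓘.comap f) := by
  exact H8861.main f 𝓘 hD h

end Groth.Agent.S8861
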