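import Groth.Statements.S8862
import Mathlib
import Groth.Agent.Lib.Helper4.IdealComap

set_option autoImplicit false
universe u
open CategoryTheory CategoryTheory.Limits AlgebraicGeometry TopologicalSpace
open SDiv

namespace Groth.Agent.S8862

open AlgebraicGeometry CategoryTheory TopologicalSpace
namespace H8862

/-- the point of an affine open attached to a minimal prime has no proper generization -/
theorem no_gen_of_minimal {X : Scheme.{u}} {U : X.Opens} (hU : IsAffineOpen U)
    (p : PrimeSpectrum Γ(X, U)) (hp : p.asIdeal ∈ minimalPrimes Γ(X, U)) :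
    ∀ y : X, y ⤳ hU.fromSpec p → y = hU.fromSpec p := by
  intro y hy
  have hξU : hU.fromSpec p ∈ U := by
    have : hU.fromSpec p ∈ Set.range hU.fromSpec := ⟨p, rfl⟩
    rw [hU.range_fromSpec] at this
    exact this
  have hyU : y ∈ U := hy.mem_open U.2 hξU
  have : y ∈ Set.range hU.fromSpec := by
    rw [hU.range_fromSpec]; exact hyU
  obtain ⟨q, rfl⟩ := this
  have h1 : q ⤳ p := (hU.fromSpec.isOpenEmbedding.isInducing.specializes_iff).mp hy
  let q' : PrimeSpectrum Γ(X, U) := q
  have h2 : q'.asIdeal ≤ p.asIdeal := (PrimeSpectrum.le_iff_specializes q' p).mpr h1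
  have h3 : p.asIdeal ≤ q'.asIdeal := hp.2 ⟨q'.isPrime, bot_le⟩ h2
  have : q' = p := PrimeSpectrum.ext (le_antisymm h2 h3)
  change hU.fromSpec q' = _
  rw [this]

theorem main {X Y : Scheme.{u}} [IsReduced X] (f : X ⟶ Y) (𝓘 : Y.IdealSheafData)
    (hD : BlowUp.IsEffCartierIdeal 𝓘)
    (h : ∀ ξ : ↥X, (∀ y : ↥X, y ⤳ ξ → y = ξ) → f ξ ∉ 𝓘.support) :
    BlowUp.IsEffCartierIdeal (𝓘.comap f) := by
  intro x
  obtain ⟨V, hxV, g, hg, hIg⟩ := hD (f x)
  have hxfV : x ∈ f ⁻¹ᵁ V.1 := hxV
  obtain ⟨U, hU, hxU, hUV⟩ := Opens.isBasis_iff_nbhd.mp (X.isBasis_affineOpens) hxfV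
  let U' : X.affineOpens := ⟨U, hU⟩
  have hcomap := Groth.Agent.Helper4.IdealComap.ideal_comap_eq_map f 𝓘 U' V hUV
  rw [hIg, Ideal.map_span, Set.image_singleton] at hcomap
  refine ⟨U', hxU, (f.appLE V.1 U hUV).hom g, ?_, hcomap⟩
  -- nonzerodivisor
  set φg := (f.appLE V.1 U hUV).hom g with hφg
  rw [mem_nonZeroDivisors_iff_right]
  intro b hb
  have hmem : ∀ p ∈ minimalPrimes Γ(X, U), b ∈ p := by
    intro p hp
    have hpp : p.IsPrime := hp.1.1
    let P : PrimeSpectrum Γ(X, U) := ⟨p, hpp⟩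
    have hgen := no_gen_of_minimal hU P hp
    have hnot := h _ hgen
    have hξU : hU.fromSpec P ∈ U := by
      have : hU.fromSpec P ∈ Set.range hU.fromSpec := ⟨P, rfl⟩
      rw [hU.range_fromSpec] at this
      exact this
    have hfξV : f (hU.fromSpec P) ∈ V.1 := hUV hξU
    rw [Scheme.IdealSheafData.mem_support_iff_of_mem hfξV, hIg, Y.zeroLocus_span,
      Y.zeroLocus_singleton] at hnot
    have h1 : f (hU.fromSpec P) ∈ Y.basicOpen g := by
      by_contra hcon
      exact hnot hcon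
    have h2 : hU.fromSpec P ∈ X.basicOpen φg := by
      rw [hφg, Scheme.basicOpen_appLE]
      exact ⟨hξU, h1⟩
    have h3 : P ∈ hU.fromSpec ⁻¹ᵁ X.basicOpen φg := h2
    rw [hU.fromSpec_preimage_basicOpen] at h3
    have h4 : φg ∉ p := h3
    have h5 : b * φg ∈ p := by rw [hb]; exact p.zero_mem
    exact (hpp.mem_or_mem h5).resolve_right h4
  have hrad : b ∈ (⊥ : Ideal Γ(X, U)).radical := by
    rw [← Ideal.sInf_minimalPrimes, Ideal.mem_sInf]
    intro p hp
    exact hmem p hp
  have hred : IsReduced Γ(X, U) := inferInstance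
  have : (⊥ : Ideal Γ(X, U)).radical = ⊥ := by
    have := nilradical_eq_zero Γ(X, U)
    exact this
  rw [this] at hrad
  exact hrad

end H8862

/-- Let f : X ⟶ Y be a morphism of schemes with X reduced and 𝓘 the ideal sheaf of an effective Cartier
divisor D ⊆ Y. If f ξ ∉ D for every generic point ξ of an irreducible component of X (every point of
X with no proper generization), then the inverse image ideal sheaf of 𝓘 on X is the ideal of an
effective Cartier divisor. -/
theorem result {X Y : Scheme.{u}} [IsReduced X] (f : X ⟶ Y) (𝓘 : Y.IdealSheafData)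
    (hD : BlowUp.IsEffCartierIdeal 𝓘)
    (h : ∀ ξ : ↥X, (∀ y : ↥X, y ⤳ ξ → y = ξ) → f ξ ∉ 𝓘.support) :
    BlowUp.IsEffCartierIdeal (𝓘.comap f) := by
  exact H8862.main f 𝓘 hD h

end Groth.Agent.S8862
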