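import Groth.Statements.S8877
import Mathlib
import Groth.Agent.Lib.Lead.FittSh

set_option autoImplicit false
universe u
open CategoryTheory CategoryTheory.Limits AlgebraicGeometry TopologicalSpace
open SDiv

namespace Groth.Agent.S8877

section
open CategoryTheory CategoryTheory.Limits AlgebraicGeometry TopologicalSpace
open Groth.Agent.Lead.FittSh Groth.Agent.Helper4.Fitting

theorem exists_affine (S : Scheme.{u}) (s : S) : ∃ U : S.Opens, IsAffineOpen U ∧ s ∈ U := by
  obtain ⟨_, ⟨U, hU, rfl⟩, hsU, -⟩ :=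
    S.isBasis_affineOpens.exists_subset_of_mem_open (Set.mem_univ s) isOpen_univ
  exact ⟨U, hU, hsU⟩

theorem main (S : Scheme.{u}) (F : S.Modules) (hF : Coh.IsQCoh F) (hft : CohB1.IsFT F)
    (s : ↥S) : ∃ r : ℕ, s ∉ (Fitt.sheafIdeal F r).support := by
  haveI : F.IsQuasicoherent := hF
  obtain ⟨U, hU, hsU⟩ := exists_affine S s
  haveI := Groth.Agent.Lead.FLF.ft_sections F hft hU
  obtain ⟨n, x, hx⟩ := Module.Finite.exists_fin (R := Γ(S, U)) (M := Γ(F, U))
  refine ⟨n, ?_⟩
  have h1 := mem_support_iff_le (Fitt.sheafIdeal F n) hU ⟨s, hsU⟩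
  rw [sheafIdeal_ideal F hft n ⟨U, hU⟩, ideal_eq_top_of_span x hx n le_rfl] at h1
  intro h
  exact (hU.primeIdealOf ⟨s, hsU⟩).isPrime.ne_top (top_le_iff.1 (h1.1 h))


end


/-- Let S be a scheme and F a quasi-coherent O_S-module of finite type, and let Z_r ⊆ S be the closed
subset cut out by the r-th Fitting ideal of F. Then the intersection of all the Z_r is empty. -/
theorem result (S : Scheme.{u}) (F : S.Modules) (hF : Coh.IsQCoh F) (hft : CohB1.IsFT F)
    (s : ↥S) : ∃ r : ℕ, s ∉ (Fitt.sheafIdeal F r).support := by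
  classical
  exact main S F hF hft s

end Groth.Agent.S8877
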