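import Groth.Statements.S8885
import Mathlib
import Groth.Agent.Lib.Helper5.AssTen.RelAss

set_option autoImplicit false
universe u
open CategoryTheory CategoryTheory.Limits AlgebraicGeometry TopologicalSpace
open SDiv



namespace Groth.Agent.S8885

/-- Let f : X ⟶ S be locally of finite type, g : S' ⟶ S a morphism, X' = X ×_S S' with projections g' :
X' ⟶ X and f' : X' ⟶ S', F a quasi-coherent O_X-module and F' = g'^*F. For a point x' of X' with
images x in X and s' in S': x' lies in the relative assassin Ass_{X'/S'}(F') (x' is an associated
point of the pullback of F' to the fibre X'_{s'}) if and only if x lies in Ass_{X/S}(F) and x' is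
maximal under generization among the points of X' mapping to x and to s' (that is, x' is the generic
point of some irreducible component of Spec(κ(s') ⊗_{κ(s)} κ(x))). -/
theorem result {X S S' : Scheme.{u}} (f : X ⟶ S) [LocallyOfFiniteType f] (g : S' ⟶ S)
    (F : X.Modules) (hF : Coh.IsQCoh F) (x' : ↥(pullback f g)) :
    Curv2.IsAssPoint
        ((Scheme.Modules.pullback ((pullback.snd f g).fiberι ((pullback.snd f g) x'))).obj
          ((Scheme.Modules.pullback (pullback.fst f g)).obj F))
        ((pullback.snd f g).asFiber x') ↔
      Curv2.IsAssPoint ((Scheme.Modules.pullback (f.fiberι (f ((pullback.fst f g) x')))).obj F)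
          (f.asFiber ((pullback.fst f g) x')) ∧
        ∀ x'' : ↥(pullback f g), (pullback.snd f g) x'' = (pullback.snd f g) x' →
          (pullback.fst f g) x'' = (pullback.fst f g) x' → x'' ⤳ x' → x'' = x' := by
  have h := IsPullback.of_hasPullback f g
  have hw : (pullback.snd f g).fiberι _ ((pullback.snd f g).asFiber x') = x' :=
    Scheme.Hom.fiberι_asFiber _ x'
  haveI : IsLocallyNoetherian ((pullback.snd f g).fiber ((pullback.snd f g) x')) := by
    haveI : LocallyOfFiniteType
        ((pullback.snd f g).fiberToSpecResidueField ((pullback.snd f g) x')) :=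
      MorphismProperty.pullback_snd _ _ inferInstance
    exact LocallyOfFiniteType.isLocallyNoetherian
      ((pullback.snd f g).fiberToSpecResidueField ((pullback.snd f g) x'))
  haveI : IsLocallyNoetherian (f.fiber (g ((pullback.snd f g) x'))) := by
    haveI : LocallyOfFiniteType (f.fiberToSpecResidueField (g ((pullback.snd f g) x'))) :=
      MorphismProperty.pullback_snd _ _ inferInstance
    exact LocallyOfFiniteType.isLocallyNoetherian
      (f.fiberToSpecResidueField (g ((pullback.snd f g) x')))
  rw [Groth.Agent.Lib.Helper5.AssTen.relAss_iff h ((pullback.snd f g) x') F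
    ((pullback.snd f g).asFiber x'), hw]
  refine and_congr ?_ Iff.rfl
  rw [Groth.Agent.Lib.Helper5.FibAss.isAssPoint_fibre_iff f F _
    (f.asFiber ((pullback.fst f g) x')), Scheme.Hom.fiberι_asFiber]

end Groth.Agent.S8885
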