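import Groth.Statements.S8887
import Mathlib
import Groth.Agent.Lib.Lead.SL1
import Groth.Agent.Lib.Lead.LFA2

set_option autoImplicit false
universe u
open CategoryTheory CategoryTheory.Limits AlgebraicGeometry TopologicalSpace
open SDiv

namespace Groth.Agent.S8887

section
open CategoryTheory CategoryTheory.Limits AlgebraicGeometry TopologicalSpace

open Module TensorProduct Groth.Agent.Lead.LFA Groth.Agent.Lead.SL Groth.Agent.Lead.FLF Groth.Agent.Lead.SD

/-- generic freeness for a finite module over a domain, with the generic rank -/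
theorem exists_basis_away_of_isDomain {A : Type u} [CommRing A] [IsDomain A] (P : Type u)
    [AddCommGroup P] [Module A P] [Module.Finite A P] :
    ∃ h : A, h ≠ 0 ∧ Nonempty (Basis (Fin (rankAtStalk P (⊥ : PrimeSpectrum A)))
      (Localization.Away h) (LocalizedModule.Away h P)) := by
  classical
  have hfr : IsFractionRing A (Localization.AtPrime (⊥ : PrimeSpectrum A).asIdeal) := by
    have h0 : (⊥ : PrimeSpectrum A).asIdeal.primeCompl = nonZeroDivisors A :=
      Ideal.primeCompl_bot
    show IsLocalization (nonZeroDivisors A) (Localization.AtPrime (⊥ : PrimeSpectrum A).asIdeal)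
    rw [← h0]
    exact Localization.isLocalization
  letI : Field (Localization.AtPrime (⊥ : PrimeSpectrum A).asIdeal) := IsFractionRing.toField A
  haveI : Module.Free (Localization.AtPrime (⊥ : PrimeSpectrum A).asIdeal)
      (LocalizedModule (⊥ : PrimeSpectrum A).asIdeal.primeCompl P) := Module.Free.of_divisionRing _ _
  obtain ⟨κ, _, x, r, hr, hcard, hx⟩ := exists_generators (P := P) (⊥ : PrimeSpectrum A)
  have hr0 : r ≠ 0 := fun h0 => hr (by rw [h0]; exact Ideal.zero_mem _)
  have hc0 : ∀ c : κ →₀ A, Finsupp.linearCombination A x c = 0 → c = 0 := by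
    intro c hc
    ext i
    have := coeff_mem_of_fibreDim x r hx (⊥ : PrimeSpectrum A) hr hcard.symm c hc i
    simpa using this
  have h1 : Function.Surjective (locMap (Submonoid.powers r) x) :=
    locMap_surjective _ x r (Submonoid.mem_powers r) hx
  have h2 : Function.Injective (locMap (Submonoid.powers r) x) := by
    apply locMap_injective
    intro c hc
    exact ⟨1, by rw [hc0 c hc, smul_zero]⟩
  let e : (κ →₀ Localization.Away r) ≃ₗ[Localization.Away r] LocalizedModule.Away r P :=
    LinearEquiv.ofBijective (locMap (Submonoid.powers r) x) ⟨h2, h1⟩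
  have hn : Fintype.card κ = rankAtStalk P (⊥ : PrimeSpectrum A) := by
    rw [hcard, fibreDim_eq_finrank_of_free]
    rfl
  let b : Basis κ (Localization.Away r) (LocalizedModule.Away r P) := Basis.ofRepr e.symm
  exact ⟨r, hr0, ⟨b.reindex (Fintype.equivFinOfCardEq hn)⟩⟩

attribute [local instance] stalkModule

theorem finrank_stalk_eq {X : Scheme.{u}} (M : X.Modules) [M.IsQuasicoherent] {U : X.Opens}
    (hU : IsAffineOpen U) (x : U) :
    Module.finrank (X.presheaf.stalk x.1) (M.presheaf.stalk x.1) =
      rankAtStalk Γ(M, U) (hU.primeIdealOf x) := by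
  haveI := isLocalizedModule_germ M hU x
  haveI := hU.isLocalization_stalk x
  exact finrank_eq_rankAtStalk (hU.primeIdealOf x)
      (X.presheaf.stalk x.1) (M.presheaf.stalk x.1) (germₗ M x)

theorem main (X : Scheme.{u}) [IsIntegral X] (F : X.Modules) (hF : Coh.IsQCoh F)
    (hft : CohB1.IsFT F) :
    ∃ U : X.Opens, (U : Set ↥X).Nonempty ∧
      Nonempty (F.restrict U.ι ≅ FlatMod.freeMod (↑U)
        (Module.finrank ↑(X.presheaf.stalk (genericPoint ↥X)) ↑(F.presheaf.stalk (genericPoint ↥X)))) := by
  haveI : F.IsQuasicoherent := hF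
  obtain ⟨_, ⟨V, hV, rfl⟩, hη, -⟩ :=
    X.isBasis_affineOpens.exists_subset_of_mem_open (Set.mem_univ (genericPoint X)) isOpen_univ
  haveI : Nonempty V := ⟨⟨genericPoint X, hη⟩⟩
  haveI : Module.Finite Γ(X, V) Γ(F, V) := ft_sections F hft hV
  have hp : hV.primeIdealOf ⟨genericPoint X, hη⟩ = (⊥ : PrimeSpectrum Γ(X, V)) := by
    rw [hV.primeIdealOf_genericPoint, genericPoint_eq_bot_of_affine]
  obtain ⟨h, h0, ⟨b⟩⟩ := exists_basis_away_of_isDomain (A := Γ(X, V)) Γ(F, V)
  have hrank : Module.finrank ↑(X.presheaf.stalk (genericPoint ↥X))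
      ↑(F.presheaf.stalk (genericPoint ↥X)) =
      rankAtStalk Γ(F, V) (⊥ : PrimeSpectrum Γ(X, V)) := by
    rw [← hp]
    exact finrank_stalk_eq F hV ⟨genericPoint X, hη⟩
  refine ⟨X.basicOpen h, ⟨genericPoint X, ?_⟩, ?_⟩
  · refine (mem_basicOpen_iff hV ⟨genericPoint X, hη⟩ h).2 ?_
    rw [hp]
    intro hh
    exact h0 (by simpa using hh)
  · rw [hrank]
    exact free_basicOpen_of_basis F hV h _ b


end


/-- Let X be an integral scheme and F a quasi-coherent O_X-module of finite type, of rank r (r being the
finite dimension of the generic stalk of F as a vector space over the function field of X). Then one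
can find an open subset U of X, not empty, on which the restriction of F is isomorphic to the free
module of rank r. -/
theorem result (X : Scheme.{u}) [IsIntegral X] (F : X.Modules) (hF : Coh.IsQCoh F)
    (hft : CohB1.IsFT F) :
    ∃ U : X.Opens, (U : Set ↥X).Nonempty ∧
      Nonempty (F.restrict U.ι ≅ FlatMod.freeMod (↑U)
        (Module.finrank ↑(X.presheaf.stalk (genericPoint ↥X)) ↑(F.presheaf.stalk (genericPoint ↥X)))) := by
  classical
  exact main X F hF hft

end Groth.Agent.S8887
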