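import Groth.Statements.S8888
import Mathlib
import Groth.Agent.Lib.Helper5.Stalk.Pull
import Groth.Agent.Lib.Helper8.ExtScal

set_option autoImplicit false
universe u
open CategoryTheory CategoryTheory.Limits AlgebraicGeometry TopologicalSpace
open SDiv

namespace Groth.Agent.S8888

section
open CategoryTheory CategoryTheory.Limits AlgebraicGeometry TopologicalSpace

open Groth.Agent.Lib.Helper5.StalkAdj TensorProduct

theorem map_genericPoint {X Y : Scheme.{u}} [IsIntegral X] [IsIntegral Y] (f : X ⟶ Y)
    [IsDominant f] : f (genericPoint X) = genericPoint Y := by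
  have h1 : IsGenericPoint (f (genericPoint X)) (closure (f '' Set.univ)) :=
    (genericPoint_spec X).image f.continuous
  rw [Set.image_univ, f.denseRange.closure_range] at h1
  exact h1.eq (genericPoint_spec Y)

/-- rank of an extension of scalars from a field -/
theorem rank_extendScalars {R S : Type u} [CommRing R] [CommRing S] [Nontrivial S] (hR : IsField R)
    (φ : R →+* S) (N : ModuleCat.{u} R) :
    Module.rank S ((ModuleCat.extendScalars.{u, u, u} φ).obj N) = Module.rank R N := by
  letI := hR.toField
  letI : Algebra R S := φ.toAlgebra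
  have e : ((ModuleCat.extendScalars.{u, u, u} φ).obj N) ≃ₗ[S] (S ⊗[R] N) :=
    Groth.Agent.Helper8.extScalEquiv (R := R) (S := S) N
  rw [e.rank_eq, Module.rank_baseChange, Cardinal.lift_id]

theorem isField_stalk {Y : Scheme.{u}} [IsIntegral Y] (y : Y) (hy : y = genericPoint Y) :
    IsField (Y.presheaf.stalk y) := by
  subst hy
  exact Field.toIsField (Y.functionField)

theorem rank_stalk_congr {Y : Scheme.{u}} (G : Y.Modules) (y y' : Y) (h : y = y') :
    Module.rank (Y.presheaf.stalk y) (G.presheaf.stalk y) =
      Module.rank (Y.presheaf.stalk y') (G.presheaf.stalk y') := by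
  subst h; rfl

theorem main {X Y : Scheme.{u}} [IsIntegral X] [IsIntegral Y] (f : X ⟶ Y) [IsDominant f]
    (G : Y.Modules) (hG : Coh.IsQCoh G) :
    Module.rank ↑(X.presheaf.stalk (genericPoint ↥X)) ↑(((Scheme.Modules.pullback f).obj G).presheaf.stalk (genericPoint ↥X)) =
      Module.rank ↑(Y.presheaf.stalk (genericPoint ↥Y)) ↑(G.presheaf.stalk (genericPoint ↥Y)) := by
  have hξ := map_genericPoint f
  rw [← rank_stalk_congr G _ _ hξ]
  have e := ((stalkPullbackIso f (genericPoint X)).app G).toLinearEquiv
  have h1 : Module.rank (X.presheaf.stalk (genericPoint X))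
      ((stalkSh X (genericPoint X)).obj ((Scheme.Modules.pullback f).obj G)) =
      Module.rank (X.presheaf.stalk (genericPoint X))
        ((ModuleCat.extendScalars.{u, u, u} (f.stalkMap (genericPoint X)).hom).obj
          ((stalkSh Y (f (genericPoint X))).obj G)) := e.rank_eq
  have h2 := rank_extendScalars (isField_stalk (f (genericPoint X)) hξ)
    (f.stalkMap (genericPoint X)).hom ((stalkSh Y (f (genericPoint X))).obj G)
  exact h1.trans h2


end


/-- Let f : X ⟶ Y be a dominant morphism of integral schemes and G a quasi-coherent O_Y-module. Then the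
rank of f^*G on X, the dimension of its stalk at the generic point of X over the function field of
X, equals the rank of G on Y. -/
theorem result {X Y : Scheme.{u}} [IsIntegral X] [IsIntegral Y] (f : X ⟶ Y) [IsDominant f]
    (G : Y.Modules) (hG : Coh.IsQCoh G) :
    Module.rank ↑(X.presheaf.stalk (genericPoint ↥X)) ↑(((Scheme.Modules.pullback f).obj G).presheaf.stalk (genericPoint ↥X)) =
      Module.rank ↑(Y.presheaf.stalk (genericPoint ↥Y)) ↑(G.presheaf.stalk (genericPoint ↥Y)) := by
  classical
  exact main f G hG

end Groth.Agent.S8888
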