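import Groth.Statements.S8898
import Mathlib
import Groth.Agent.Lib.Helper4.BlowUpLemmas

set_option autoImplicit false
universe u
open CategoryTheory CategoryTheory.Limits AlgebraicGeometry TopologicalSpace
open SDiv

namespace Groth.Agent.S8898

open CategoryTheory AlgebraicGeometry TopologicalSpace
namespace H8898
open Groth.Agent.Helper4

/-- germ of a nonzerodivisor on an affine open is a nonzerodivisor -/
theorem germ_nzd {X : Scheme.{u}} (O : X.Opens) (hO : IsAffineOpen O) (a : Γ(X, O))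
    (ha : a ∈ nonZeroDivisors Γ(X, O)) (x : X) (hx : x ∈ O) :
    (X.presheaf.germ O x hx).hom a ∈ nonZeroDivisors (X.presheaf.stalk x) := by
  let _ := TopCat.Presheaf.algebra_section_stalk X.presheaf (⟨x, hx⟩ : O)
  have hloc := hO.isLocalization_stalk ⟨x, hx⟩
  have hflat : Module.Flat Γ(X, O) (X.presheaf.stalk x) :=
    IsLocalization.flat _ (hO.primeIdealOf ⟨x, hx⟩).asIdeal.primeCompl
  have := EffCartier.nzd_of_flat (algebraMap Γ(X, O) (X.presheaf.stalk x)) hflat a ha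
  exact this

/-- a section on an affine open all of whose germs are nonzerodivisors is a nonzerodivisor -/
theorem nzd_of_germs {X : Scheme.{u}} (V : X.Opens) (t : Γ(X, V))
    (ht : ∀ x : V, (X.presheaf.germ V x.1 x.2).hom t ∈ nonZeroDivisors (X.presheaf.stalk x.1)) :
    t ∈ nonZeroDivisors Γ(X, V) := by
  rw [mem_nonZeroDivisors_iff_right]
  intro z hz
  refine TopCat.Presheaf.section_ext X.sheaf V _ _ (fun x hx => ?_)
  show (X.presheaf.germ V x hx).hom z = (X.presheaf.germ V x hx).hom 0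
  rw [map_zero]
  apply mem_nonZeroDivisors_iff_right.mp (ht ⟨x, hx⟩)
  change (X.presheaf.germ V x hx).hom z * (X.presheaf.germ V x hx).hom t = 0
  rw [← map_mul, hz, map_zero]

theorem main {X X' : Scheme.{u}} (𝓘 : X.IdealSheafData) (b : X' ⟶ X) (hb : BlowUp.IsBlowUp b 𝓘) :
    (∀ 𝓓 : X.IdealSheafData, BlowUp.IsEffCartierIdeal 𝓓 → BlowUp.IsEffCartierIdeal (𝓓.comap b)) ∧
      ∀ (U : X.Opens) (s : Γ(X, U)), s ∈ Mero.regSub X U → b.app U s ∈ Mero.regSub X' (b ⁻¹ᵁ U) := by
  refine ⟨fun 𝓓 h𝓓 => BlowUpLemmas.comap_of_isBlowUp 𝓘 b hb 𝓓 h𝓓, ?_⟩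
  intro U s hs x'
  have hbx : b x'.1 ∈ U := x'.2
  obtain ⟨V, hV, hxV, hVU⟩ := Opens.isBasis_iff_nbhd.mp (X.isBasis_affineOpens) hbx
  let t : Γ(X, V) := (X.presheaf.map (homOfLE hVU).op).hom s
  have ht : t ∈ nonZeroDivisors Γ(X, V) := by
    apply nzd_of_germs
    intro p
    have := hs ⟨p.1, hVU p.2⟩
    have e : (X.presheaf.germ V p.1 p.2).hom t = (X.presheaf.germ U p.1 (hVU p.2)).hom s := by
      change (X.presheaf.germ V p.1 p.2).hom ((X.presheaf.map (homOfLE hVU).op).hom s) = _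
      rw [← CommRingCat.comp_apply, TopCat.Presheaf.germ_res]
    rw [e]
    exact this
  have hx'V : x'.1 ∈ b ⁻¹ᵁ V := hxV
  obtain ⟨O, hO, hxO, hOV⟩ := Opens.isBasis_iff_nbhd.mp (X'.isBasis_affineOpens) hx'V
  have hnzd := BlowUpLemmas.nzd_appLE_of_isBlowUp 𝓘 b hb ⟨V, hV⟩ t ht O hOV
  have hg := germ_nzd O hO _ hnzd x'.1 hxO
  have hOU : O ≤ b ⁻¹ᵁ U := hOV.trans (fun y hy => hVU hy)
  have e2 : (X'.presheaf.germ O x'.1 hxO).hom ((b.appLE V O hOV).hom t) =
      (X'.presheaf.germ (b ⁻¹ᵁ U) x'.1 x'.2).hom ((b.app U).hom s) := by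
    change (X'.presheaf.germ O x'.1 hxO).hom ((b.appLE V O hOV).hom ((X.presheaf.map (homOfLE hVU).op).hom s)) = _
    rw [← CommRingCat.comp_apply (X.presheaf.map (homOfLE hVU).op), Scheme.Hom.map_appLE]
    rw [Scheme.Hom.appLE, CommRingCat.comp_apply, ← CommRingCat.comp_apply (X'.presheaf.map _),
      TopCat.Presheaf.germ_res]
  rw [e2] at hg
  exact hg

end H8898

/-- Let X be a scheme, 𝓘 a quasi-coherent ideal sheaf and b : X' ⟶ X a blowing up of X in 𝓘. Then the
pullback b⁻¹D is defined for every effective Cartier divisor D ⊆ X (the inverse image ideal of the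
ideal of D is again the ideal of an effective Cartier divisor), and pullbacks of meromorphic
functions are defined for b (b carries regular sections of O_X, i.e. sections whose germs are
nonzerodivisors, to regular sections of O_{X'}). -/
theorem result {X X' : Scheme.{u}} (𝓘 : X.IdealSheafData) (b : X' ⟶ X) (hb : BlowUp.IsBlowUp b 𝓘) :
    (∀ 𝓓 : X.IdealSheafData, BlowUp.IsEffCartierIdeal 𝓓 → BlowUp.IsEffCartierIdeal (𝓓.comap b)) ∧
      ∀ (U : X.Opens) (s : Γ(X, U)), s ∈ Mero.regSub X U → b.app U s ∈ Mero.regSub X' (b ⁻¹ᵁ U) := by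
  exact H8898.main 𝓘 b hb

end Groth.Agent.S8898
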