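import Groth.Statements.S8901
import Mathlib
import Groth.Agent.Lib.Helper4.EffCartier
import Groth.Agent.S8861
import Groth.Agent.S1681

set_option autoImplicit false
universe u
open CategoryTheory CategoryTheory.Limits AlgebraicGeometry TopologicalSpace
open SDiv

namespace Groth.Agent.S8901

open CategoryTheory CategoryTheory.Limits AlgebraicGeometry TopologicalSpace
namespace H8901
open Groth.Agent.Helper4
open Groth.Agent.S8861.H8861 (annI mem_annI ring_weak)

/-- a section on an affine open which is invertible at every weakly associated point is a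
nonzerodivisor -/
theorem nzd_of_weakAss {X : Scheme.{u}} (U : X.Opens) (hU : IsAffineOpen U) (t : Γ(X, U))
    (h : ∀ ξ ∈ U, Curv2.IsWeakAssPoint (Coh.structureModule X) ξ → ξ ∈ X.basicOpen t) :
    t ∈ nonZeroDivisors Γ(X, U) := by
  rw [mem_nonZeroDivisors_iff_right]
  intro b hb
  by_contra hb0
  have hne : annI Γ(X, U) b ≠ ⊤ := by
    intro e
    have : (1 : Γ(X, U)) ∈ annI Γ(X, U) b := e ▸ Submodule.mem_top
    rw [mem_annI, one_mul] at this
    exact hb0 this
  obtain ⟨M, hM, hIM⟩ := Ideal.exists_le_maximal _ hne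
  have hMp : M.IsPrime := hM.isPrime
  obtain ⟨p, hp, -⟩ := Ideal.exists_minimalPrimes_le hIM
  have hpp : p.IsPrime := hp.1.1
  have hφp : t ∈ p := hp.1.2 ((mem_annI b t).mpr (by rw [mul_comm]; exact hb))
  let P : PrimeSpectrum Γ(X, U) := ⟨p, hpp⟩
  have hξU : hU.fromSpec P ∈ U := by
    have : hU.fromSpec P ∈ Set.range hU.fromSpec := ⟨P, rfl⟩
    rw [hU.range_fromSpec] at this
    exact this
  have hweak : Curv2.IsWeakAssPoint (Coh.structureModule X) (hU.fromSpec P) := by
    rw [Groth.Agent.S8869.H8869.isWeakAss_iff]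
    let _ := TopCat.Presheaf.algebra_section_stalk X.presheaf ⟨hU.fromSpec P, hξU⟩
    have hloc : IsLocalization.AtPrime (X.presheaf.stalk (hU.fromSpec P)) P.asIdeal :=
      hU.isLocalization_stalk' P hξU
    refine ⟨algebraMap Γ(X, U) (X.presheaf.stalk (hU.fromSpec P)) b, ?_⟩
    exact ring_weak Γ(X, U) (X.presheaf.stalk (hU.fromSpec P)) p b hp
  have h2 := h _ hξU hweak
  have h3 : P ∈ hU.fromSpec ⁻¹ᵁ X.basicOpen t := h2
  rw [hU.fromSpec_preimage_basicOpen] at h3
  exact h3 hφp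

/-- a nonzerodivisor on an affine open is invertible at every maximal point -/
theorem mem_basicOpen_of_maxPt {Y : Scheme.{u}} (V : Y.Opens) (hV : IsAffineOpen V) (s : Γ(Y, V))
    (hs : s ∈ nonZeroDivisors Γ(Y, V)) (y : Y) (hy : y ∈ V)
    (hmax : ∀ y' : Y, y' ⤳ y → y' = y) : y ∈ Y.basicOpen s := by
  have hmin := Groth.Agent.S1681.H1681.minimal_of_maxPt V hV y hy hmax
  have hdisj := Ideal.disjoint_nonZeroDivisors_of_mem_minimalPrimes hmin
  rw [Scheme.mem_basicOpen _ _ _ hy]
  by_contra hnu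
  let _ := TopCat.Presheaf.algebra_section_stalk Y.presheaf (⟨y, hy⟩ : V)
  have hloc : IsLocalization.AtPrime (Y.presheaf.stalk y) (hV.primeIdealOf ⟨y, hy⟩).asIdeal :=
    hV.isLocalization_stalk ⟨y, hy⟩
  have htp : s ∈ (hV.primeIdealOf ⟨y, hy⟩).asIdeal := by
    rw [← IsLocalization.AtPrime.under_maximalIdeal (Y.presheaf.stalk y)
      (hV.primeIdealOf ⟨y, hy⟩).asIdeal, Ideal.mem_comap, IsLocalRing.mem_maximalIdeal]
    exact hnu
  exact Set.disjoint_left.mp hdisj htp hs

theorem main {X Y : Scheme.{u}} (f : X ⟶ Y)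
    (h : ∀ x : ↥X, Curv2.IsWeakAssPoint (Coh.structureModule X) x → ∀ y : ↥Y, y ⤳ f x → y = f x)
    (U : Y.Opens) (s : Γ(Y, U)) (hs : s ∈ Mero.regSub Y U) : f.app U s ∈ Mero.regSub X (f ⁻¹ᵁ U) := by
  intro x'
  have hbx : f x'.1 ∈ U := x'.2
  obtain ⟨V, hV, hxV, hVU⟩ := Opens.isBasis_iff_nbhd.mp (Y.isBasis_affineOpens) hbx
  let t : Γ(Y, V) := (Y.presheaf.map (homOfLE hVU).op).hom s
  have ht : t ∈ nonZeroDivisors Γ(Y, V) := by
    apply EffCartier.nzd_of_germs
    intro p
    have := hs ⟨p.1, hVU p.2⟩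
    have e : (Y.presheaf.germ V p.1 p.2).hom t = (Y.presheaf.germ U p.1 (hVU p.2)).hom s := by
      change (Y.presheaf.germ V p.1 p.2).hom ((Y.presheaf.map (homOfLE hVU).op).hom s) = _
      rw [← CommRingCat.comp_apply, TopCat.Presheaf.germ_res]
    rw [e]
    exact this
  have hx'V : x'.1 ∈ f ⁻¹ᵁ V := hxV
  obtain ⟨O, hO, hxO, hOV⟩ := Opens.isBasis_iff_nbhd.mp (X.isBasis_affineOpens) hx'V
  have hnzd : (f.appLE V O hOV).hom t ∈ nonZeroDivisors Γ(X, O) := by
    apply nzd_of_weakAss O hO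
    intro ξ hξO hξ
    rw [Scheme.basicOpen_appLE]
    refine ⟨hξO, ?_⟩
    exact mem_basicOpen_of_maxPt V hV t ht (f ξ) (hOV hξO) (h ξ hξ)
  have hg := EffCartier.germ_nzd O hO _ hnzd x'.1 hxO
  have e2 : (X.presheaf.germ O x'.1 hxO).hom ((f.appLE V O hOV).hom t) =
      (X.presheaf.germ (f ⁻¹ᵁ U) x'.1 x'.2).hom ((f.app U).hom s) := by
    change (X.presheaf.germ O x'.1 hxO).hom ((f.appLE V O hOV).hom ((Y.presheaf.map (homOfLE hVU).op).hom s)) = _
    rw [← CommRingCat.comp_apply (Y.presheaf.map (homOfLE hVU).op), Scheme.Hom.map_appLE]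
    rw [Scheme.Hom.appLE, CommRingCat.comp_apply, ← CommRingCat.comp_apply (X.presheaf.map _),
      TopCat.Presheaf.germ_res]
  rw [e2] at hg
  exact hg

end H8901

/-- Let f : X ⟶ Y be a morphism of schemes under which each weakly associated point of X (of O_X) goes
to a point of Y with no proper generization (the generic point of some irreducible component of Y).
Then pullbacks of meromorphic functions are defined for f: for every open U ⊆ Y and every regular
section s of O_Y over U, the pulled-back section of O_X over f⁻¹U is regular. -/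
theorem result {X Y : Scheme.{u}} (f : X ⟶ Y)
    (h : ∀ x : ↥X, Curv2.IsWeakAssPoint (Coh.structureModule X) x → ∀ y : ↥Y, y ⤳ f x → y = f x)
    (U : Y.Opens) (s : Γ(Y, U)) (hs : s ∈ Mero.regSub Y U) : f.app U s ∈ Mero.regSub X (f ⁻¹ᵁ U) := by
  exact H8901.main f h U s hs

end Groth.Agent.S8901
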