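import Groth.Statements.S8902
import Mathlib

set_option autoImplicit false
universe u
open CategoryTheory CategoryTheory.Limits AlgebraicGeometry TopologicalSpace
open SDiv

namespace Groth.Agent.S8902

open AlgebraicGeometry CategoryTheory
namespace H8902

theorem nzd_of_flat {R S : Type u} [CommRing R] [CommRing S] (φ : R →+* S) (hφ : φ.Flat) (r : R)
    (hr : r ∈ nonZeroDivisors R) : φ r ∈ nonZeroDivisors S := by
  algebraize [φ]
  have hreg : IsSMulRegular S r := Module.Flat.isSMulRegular_of_nonZeroDivisors hr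
  rw [mem_nonZeroDivisors_iff_right]
  intro b hb
  apply hreg
  simp only [smul_zero]
  rw [Algebra.smul_def, mul_comm]
  exact hb

theorem main {X Y : Scheme.{u}} (f : X ⟶ Y) [Flat f] (U : Y.Opens) (s : Γ(Y, U))
    (hs : s ∈ Mero.regSub Y U) : f.app U s ∈ Mero.regSub X (f ⁻¹ᵁ U) := by
  intro x
  have h1 := hs ⟨f x.1, x.2⟩
  have h2 := nzd_of_flat _ (Flat.stalkMap f x.1) _ h1
  have h3 := Scheme.Hom.germ_stalkMap_apply f U x.1 x.2 s
  rw [← h3]
  exact h2

end H8902

/-- Let f : X ⟶ Y be a flat morphism of schemes. Then pullbacks of meromorphic functions are defined for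
f: for every open U ⊆ Y and every regular section s of O_Y over U, the pulled-back section of O_X
over f⁻¹U is regular. -/
theorem result {X Y : Scheme.{u}} (f : X ⟶ Y) [Flat f] (U : Y.Opens) (s : Γ(Y, U))
    (hs : s ∈ Mero.regSub Y U) : f.app U s ∈ Mero.regSub X (f ⁻¹ᵁ U) := by
  exact H8902.main f U s hs

end Groth.Agent.S8902
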