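import Groth.Statements.S8908
import Mathlib
import Groth.Agent.Lib.Helper5.NdSub.Main

set_option autoImplicit false
universe u
open CategoryTheory CategoryTheory.Limits AlgebraicGeometry TopologicalSpace
open SDiv



namespace Groth.Agent.S8908

/-- Let X be a locally Noetherian scheme and F a coherent O_X-module. The coherent subsheaves K ⊆ F
whose support is nowhere dense in Supp(F) have a largest element K. Setting F' = F/K: (1) Supp(F') =
Supp(F); (2) F' has no embedded associated points; (3) there is a dense open U ⊆ X with U ∩ Supp(F)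
dense in Supp(F) over which the quotient map F → F' restricts to an isomorphism. -/
theorem result (X : Scheme.{u}) [IsLocallyNoetherian X] (F : X.Modules)
    (hF : Coh.IsCoh F) :
    ∃ K : Subobject F, Coh.IsCoh (K : X.Modules) ∧
      (∀ U : X.Opens, (U : Set ↥X) ∩ CohB1.support F ⊆ CohB1.support (K : X.Modules) → (U : Set ↥X) ∩ CohB1.support F = ∅) ∧
      (∀ K' : Subobject F, Coh.IsCoh (K' : X.Modules) →
        (∀ U : X.Opens, (U : Set ↥X) ∩ CohB1.support F ⊆ CohB1.support (K' : X.Modules) → (U : Set ↥X) ∩ CohB1.support F = ∅) →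
        K' ≤ K) ∧
      CohB1.support (cokernel K.arrow) = CohB1.support F ∧
      (∀ x : ↥X, Curv2.IsAssPoint (cokernel K.arrow) x → ∀ y : ↥X, Curv2.IsAssPoint (cokernel K.arrow) y → y ⤳ x → y = x) ∧
      ∃ U : X.Opens, Dense (U : Set ↥X) ∧ CohB1.support F ⊆ closure ((U : Set ↥X) ∩ CohB1.support F) ∧
        IsIso ((Scheme.Modules.restrictFunctor U.ι).map (cokernel.π K.arrow)) := by
  haveI := hF.1
  have hNc : Coh.IsCoh (Groth.Agent.Lib.Helper5.NdSub.ndLocalSub F).obj :=
    Groth.Agent.Lib.Helper5.NdSub.isCoh_ndLocalSub F hF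
  haveI := hNc.1
  obtain ⟨N, hN⟩ : ∃ N : Groth.Agent.Helper1.SubSh.LocalSub F,
      N = Groth.Agent.Lib.Helper5.NdSub.ndLocalSub F := ⟨_, rfl⟩
  have hKq : ((Subobject.mk N.ι : Subobject F) : X.Modules).IsQuasicoherent := by
    haveI : N.obj.IsQuasicoherent := by rw [hN]; exact hNc.1
    exact Groth.Agent.Helper1.QcAbel.isQuasicoherent_of_iso (Subobject.underlyingIso N.ι).symm
  have hKc : Coh.IsCoh ((Subobject.mk N.ι : Subobject F) : X.Modules) :=
    Groth.Agent.Helper1.FtLocal.isCoh_of_mono (Subobject.mk N.ι).arrow hF hKq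
  have hi : ∀ (V : X.Opens) (s : Γ(F, V)),
      s ∈ (Groth.Agent.Lib.Helper5.NdSub.ndLocalSub F).carrier V ↔
        ∃ t, (Subobject.mk N.ι).arrow.app V t = s := by
    intro V s
    rw [← hN]
    constructor
    · intro hs
      refine ⟨(Subobject.underlyingIso N.ι).inv.app V (N.mkSec s hs), ?_⟩
      change ((Subobject.underlyingIso N.ι).inv ≫ (Subobject.mk N.ι).arrow).app V _ = s
      rw [Subobject.underlyingIso_arrow]
      rfl
    · rintro ⟨t, rfl⟩
      rw [← Subobject.underlyingIso_hom_comp_eq_mk N.ι]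
      exact N.ι_app_mem _
  refine ⟨Subobject.mk N.ι, hKc,
    Groth.Agent.Lib.Helper5.NdSub.nowhereDense F hF _ hKc hi, ?_,
    Groth.Agent.Lib.Helper5.NdSub.support_cokernel F hF _ hKc hi,
    Groth.Agent.Lib.Helper5.NdSub.noEmbedded_cokernel F hF _ hKc hi,
    Groth.Agent.Lib.Helper5.NdSub.goodOpen hKc,
    Groth.Agent.Lib.Helper5.NdSub.dense_goodOpen F hF _ hKc hi,
    Groth.Agent.Lib.Helper5.NdSub.support_subset_closure_goodOpen F hF _ hKc hi,
    Groth.Agent.Lib.Helper5.NdSub.isIso_restrict_cokernel_π F hF _ hKc hi⟩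
  intro K' hK' hnd
  have hmem := Groth.Agent.Lib.Helper5.NdSub.app_mem_of_nowhereDense F hF K'.arrow hK' hnd
  rw [← hN] at hmem
  exact Subobject.le_mk_of_comm (N.lift K'.arrow hmem) (N.lift_ι K'.arrow hmem)

end Groth.Agent.S8908
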