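import Groth.Statements.S8915
import Mathlib
import Groth.Agent.Lib.Lead.IdM6
import Groth.Agent.Lib.Lead.EpiPull
import Groth.Agent.Lib.Helper1.FtSupp
import Groth.Agent.S8876

set_option autoImplicit false
universe u
open CategoryTheory CategoryTheory.Limits AlgebraicGeometry TopologicalSpace
open SDiv

namespace Groth.Agent.S8915

section
open CategoryTheory CategoryTheory.Limits AlgebraicGeometry TopologicalSpace

open Groth.Agent.Lead.IdM Groth.Agent.Lead.TilT Groth.Agent.Helper1

theorem unram_iff {X S : Scheme.{u}} (f : X ⟶ S) [LocallyOfFiniteType f] [QuasiSeparated f]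
    (x : ↥X) :
    (∃ U : X.Opens, x ∈ U ∧ FormallyUnramified (U.ι ≫ f)) ↔ x ∉ CohB1.support (Omega.sheaf f) := by
  haveI : QuasiCompact (pullback.diagonal f) := QuasiSeparated.quasiCompact_diagonal
  have key : ∀ U : X.Opens, FormallyUnramified (U.ι ≫ f) ↔
      IsZero ((Omega.sheaf f).restrict U.ι) := by
    intro U
    haveI : QuasiCompact (pullback.diagonal (U.ι ≫ f)) := QuasiSeparated.quasiCompact_diagonal
    rw [formallyUnramified_iff_isZero_omega]
    have e : (Omega.sheaf f).restrict U.ι ≅ Omega.sheaf (U.ι ≫ f) :=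
      (Scheme.Modules.restrictFunctorIsoPullback U.ι).app (Omega.sheaf f) ≪≫
        omegaRestrictIso f (U.ι ≫ f) U.ι (𝟙 S) (Category.comp_id _).symm
    exact ⟨fun h => IsZero.of_iso h e, fun h => IsZero.of_iso h e.symm⟩
  constructor
  · rintro ⟨U, hxU, hU⟩ hx
    have h0 := (key U).1 hU
    have h1 := Groth.Agent.Lead.EpiPull.support_eq_empty_of_isZero _ h0
    rw [support_restrict] at h1
    have : (⟨x, hxU⟩ : ↥U) ∈ U.ι.base ⁻¹' CohB1.support (Omega.sheaf f) := hx
    rw [h1] at this
    exact this
  · intro hx
    have hcl := FtGen.isClosed_support (Omega.sheaf f) (isFT_omega f)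
    let U : X.Opens := ⟨(CohB1.support (Omega.sheaf f))ᶜ, hcl.isOpen_compl⟩
    refine ⟨U, hx, (key U).2 ?_⟩
    apply Groth.Agent.Lead.EpiPull.isZero_of_support_eq_empty
    rw [support_restrict]
    ext y
    simp only [Set.mem_preimage, Set.mem_empty_iff_false, iff_false]
    exact y.2

theorem main {X S : Scheme.{u}} (f : X ⟶ S) [LocallyOfFiniteType f] [QuasiSeparated f]
    (x : ↥X) :
    x ∈ (Fitt.sheafIdeal (Omega.sheaf f) 0).support ↔
      ¬ ∃ U : X.Opens, x ∈ U ∧ FormallyUnramified (U.ι ≫ f) := by
  haveI : QuasiCompact (pullback.diagonal f) := QuasiSeparated.quasiCompact_diagonal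
  rw [unram_iff, not_not]
  have h := Groth.Agent.S8876.result X (Omega.sheaf f) (isQuasicoherent_omega f) (isFT_omega f)
  change x ∈ ((Fitt.sheafIdeal (Omega.sheaf f) 0).support : Set X) ↔ _
  rw [h]


end


/-- Let f : X ⟶ S be locally of finite type and quasi-separated. Then the closed subset of X defined by
the Fitting ideal Fit_0(Ω_{X/S}) is exactly the set of points at which f is not unramified, i.e.
which have no open neighbourhood on which f is formally unramified. The published statement does not
assume f quasi-separated; this row does, because the module Ω_{X/S} used here is defined for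
quasi-separated f. -/
theorem result {X S : Scheme.{u}} (f : X ⟶ S) [LocallyOfFiniteType f] [QuasiSeparated f]
    (x : ↥X) :
    x ∈ (Fitt.sheafIdeal (Omega.sheaf f) 0).support ↔ ¬ ∃ U : X.Opens, x ∈ U ∧ FormallyUnramified (U.ι ≫ f) := by
  classical
  exact main f x

end Groth.Agent.S8915
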