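import Groth.Statements.S8926
import Mathlib

set_option autoImplicit false
universe u
open InjHull

namespace Groth.Agent.S8926


open TensorProduct in
/-- For an epimorphism of rings `R → S`, every `R`-linear map between `S`-modules is `S`-linear. -/
theorem map_smul_of_isEpi (R S : Type*) [CommRing R] [CommRing S] [Algebra R S] [Algebra.IsEpi R S]
    {Y E : Type*} [AddCommGroup Y] [Module S Y] [Module R Y] [IsScalarTower R S Y]
    [AddCommGroup E] [Module S E] [Module R E] [IsScalarTower R S E]
    (h : Y →ₗ[R] E) (a : S) (y : Y) : h (a • y) = a • h y := by
  -- the bilinear map (s, t) ↦ s • h (t • y)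
  let β : S →ₗ[R] S →ₗ[R] E :=
    LinearMap.mk₂ R (fun s t => s • h (t • y))
      (by intro s s' t; rw [add_smul])
      (by intro c s t; rw [smul_assoc])
      (by intro s t t'; rw [add_smul, map_add, smul_add])
      (by intro c s t; rw [smul_assoc, map_smul, smul_comm])
  have key := (Algebra.isEpi_iff_forall_one_tmul_eq R S).1 inferInstance a
  have := congrArg (TensorProduct.lift β) key
  simp only [TensorProduct.lift.tmul, β, LinearMap.mk₂_apply, one_smul] at this
  exact this

/-- Suppose R → S is an epimorphism of rings and E is an S-module whose underlying R-module (via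
restriction of scalars) is injective; then E is injective as an S-module as well. -/
theorem result (R S : Type u) [CommRing R] [CommRing S] [Algebra R S] [Algebra.IsEpi R S] (E : Type u) [AddCommGroup E] [Module S E] [Module R E] [IsScalarTower R S E] [Module.Injective R E] : Module.Injective S E := by
  constructor
  intro X Y _ _ _ _ f hf g
  letI : Module R X := Module.compHom X (algebraMap R S)
  letI : Module R Y := Module.compHom Y (algebraMap R S)
  haveI : IsScalarTower R S X := IsScalarTower.of_algebraMap_smul (fun r x => rfl)
  haveI : IsScalarTower R S Y := IsScalarTower.of_algebraMap_smul (fun r x => rfl)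
  obtain ⟨h, hh⟩ := Module.Injective.out (f.restrictScalars R) hf (g.restrictScalars R)
  refine ⟨{ toFun := h, map_add' := h.map_add, map_smul' := ?_ }, ?_⟩
  · intro a y
    exact map_smul_of_isEpi R S h a y
  · intro x
    exact hh x

end Groth.Agent.S8926
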