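import Groth.Statements.S8927
import Mathlib

set_option autoImplicit false
universe u
open Disc

namespace Groth.Agent.S8927

namespace H8927

theorem main (A B : Type u) [CommRing A] [CommRing B] [IsNoetherianRing A] [IsNoetherianRing B] [Algebra A B] (h3 : ∀ (q : Ideal B) [q.IsPrime], IsAssociatedPrime q B → Module.Flat A (Localization.AtPrime q)) : nonZeroDivisors A ≤ (nonZeroDivisors B).comap (algebraMap A B) := by
  intro a ha
  rw [Submonoid.mem_comap]
  rw [mem_nonZeroDivisors_iff_right]
  intro b hb
  by_contra hne
  obtain ⟨q, hq, hle⟩ := exists_le_isAssociatedPrime_of_isNoetherianRing B b hne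
  haveI := hq.isPrime
  haveI := h3 q hq
  have hreg : IsSMulRegular (Localization.AtPrime q) a :=
    Module.Flat.isSMulRegular_of_nonZeroDivisors ha
  have h0 : a • (algebraMap B (Localization.AtPrime q) b) = 0 := by
    rw [Algebra.smul_def, IsScalarTower.algebraMap_apply A B (Localization.AtPrime q), ← map_mul,
      mul_comm, hb, map_zero]
  have h1 : algebraMap B (Localization.AtPrime q) b = 0 := by
    apply hreg
    simpa using h0
  rw [IsLocalization.map_eq_zero_iff q.primeCompl] at h1
  obtain ⟨s, hs⟩ := h1
  apply s.2
  apply hle
  rw [Submodule.mem_colon_singleton]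
  simpa using hs

end H8927

/-- For a map A → B of Noetherian rings such that the localization B_q is flat over A for every
associated prime q of B, every nonzerodivisor of A maps to a nonzerodivisor of B. -/
theorem result (A B : Type u) [CommRing A] [CommRing B] [IsNoetherianRing A] [IsNoetherianRing B] [Algebra A B] (h3 : ∀ (q : Ideal B) [q.IsPrime], IsAssociatedPrime q B → Module.Flat A (Localization.AtPrime q)) : nonZeroDivisors A ≤ (nonZeroDivisors B).comap (algebraMap A B) := by
  exact H8927.main A B h3

end Groth.Agent.S8927
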