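import Groth.Statements.S8928
import Mathlib

set_option autoImplicit false
universe u
open scoped TensorProduct
open Disc

namespace Groth.Agent.S8928

open TensorProduct
namespace H8928

attribute [local instance] Algebra.TensorProduct.rightAlgebra in
theorem flat_loc (A B : Type u) [CommRing A] [CommRing B] [Algebra A B]
    (h2 : Module.Flat (FractionRing A) (FractionRing A ⊗[A] B)) (q : Ideal B) [q.IsPrime]
    (hq : ∀ a ∈ nonZeroDivisors A, algebraMap A B a ∉ q) :
    Module.Flat A (Localization.AtPrime q) := by
  set B' := FractionRing A ⊗[A] B with hB'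
  have hloc : IsLocalization (Algebra.algebraMapSubmonoid B (nonZeroDivisors A)) B' :=
    IsLocalization.tensorRight (FractionRing A) (nonZeroDivisors A)
  have hle : Algebra.algebraMapSubmonoid B (nonZeroDivisors A) ≤ q.primeCompl := by
    rintro _ ⟨a, ha, rfl⟩
    exact hq a ha
  letI : Algebra B' (Localization.AtPrime q) :=
    IsLocalization.localizationAlgebraOfSubmonoidLe B' (Localization.AtPrime q) _ _ hle
  have : IsScalarTower B B' (Localization.AtPrime q) :=
    IsLocalization.localization_isScalarTower_of_submonoid_le B' (Localization.AtPrime q) _ _ hle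
  have : IsLocalization (q.primeCompl.map (algebraMap B B')) (Localization.AtPrime q) :=
    IsLocalization.isLocalization_of_submonoid_le B' (Localization.AtPrime q) _ _ hle
  have : Module.Flat B' (Localization.AtPrime q) :=
    IsLocalization.flat _ (q.primeCompl.map (algebraMap B B'))
  have : Module.Flat A B' := Module.Flat.trans A (FractionRing A) B'
  have : IsScalarTower A B' (Localization.AtPrime q) := by
    refine ⟨fun a x m => ?_⟩
    have h1 : a • x = (algebraMap A B a) • x := by
      have : IsScalarTower A B B' := Algebra.TensorProduct.right_isScalarTower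
      exact (algebraMap_smul B a x).symm
    rw [h1, smul_assoc, algebraMap_smul]
  exact Module.Flat.trans A B' (Localization.AtPrime q)


theorem main (A B : Type u) [CommRing A] [CommRing B] [IsNoetherianRing A] [IsNoetherianRing B] [Algebra A B] (h1 : nonZeroDivisors A ≤ (nonZeroDivisors B).comap (algebraMap A B)) (h2 : Module.Flat (FractionRing A) (FractionRing A ⊗[A] B)) : (∀ (q : Ideal B) [q.IsPrime], IsAssociatedPrime q B → Module.Flat A (Localization.AtPrime q)) ∧ (∀ (q : Ideal B) [q.IsPrime], IsAssociatedPrime (q.comap (algebraMap A B)) A → Module.Flat A (Localization.AtPrime q)) := by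
  constructor
  · intro q _ hq
    apply flat_loc A B h2 q
    intro a ha haq
    obtain ⟨hp, b, hb⟩ := isAssociatedPrime_iff.mp hq
    have hb0 : b ≠ 0 := by
      rintro rfl
      apply hp.ne_top
      rw [hb]
      simp
    rw [hb, Submodule.mem_colon_singleton] at haq
    have h3 : algebraMap A B a ∈ nonZeroDivisors B := h1 ha
    apply hb0
    rw [mem_nonZeroDivisors_iff_right] at h3
    apply h3
    rw [mul_comm]
    simpa using haq
  · intro q _ hq
    apply flat_loc A B h2 q
    intro a ha haq
    obtain ⟨hp, b, hb⟩ := isAssociatedPrime_iff.mp hq
    have hb0 : b ≠ 0 := by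
      rintro rfl
      apply hp.ne_top
      rw [hb]
      simp
    have haq' : a ∈ q.comap (algebraMap A B) := haq
    rw [hb, Submodule.mem_colon_singleton] at haq'
    apply hb0
    rw [mem_nonZeroDivisors_iff_right] at ha
    apply ha
    rw [mul_comm]
    simpa using haq'

end H8928

/-- Let A → B be a map of Noetherian rings such that nonzerodivisors of A map to nonzerodivisors of B
and Q(A) ⊗_A B is flat over the total ring of fractions Q(A). Then B_q is flat over A for every
associated prime q of B and for every prime q of B lying over an associated prime of A. -/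
theorem result (A B : Type u) [CommRing A] [CommRing B] [IsNoetherianRing A] [IsNoetherianRing B] [Algebra A B] (h1 : nonZeroDivisors A ≤ (nonZeroDivisors B).comap (algebraMap A B)) (h2 : Module.Flat (FractionRing A) (FractionRing A ⊗[A] B)) : (∀ (q : Ideal B) [q.IsPrime], IsAssociatedPrime q B → Module.Flat A (Localization.AtPrime q)) ∧ (∀ (q : Ideal B) [q.IsPrime], IsAssociatedPrime (q.comap (algebraMap A B)) A → Module.Flat A (Localization.AtPrime q)) := by
  exact H8928.main A B h1 h2

end Groth.Agent.S8928
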