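import Groth.Statements.S8929
import Mathlib

set_option autoImplicit false
universe u
open scoped TensorProduct
open Disc

namespace Groth.Agent.S8929

open TensorProduct
namespace H8929

theorem key (A B B' : Type u) [CommRing A] [CommRing B] [CommRing B'] [IsNoetherianRing A]
    [Algebra A B] [Algebra B B'] [Algebra.HasGoingUp A B]
    [IsLocalization (Algebra.algebraMapSubmonoid B (nonZeroDivisors A)) B']
    (P : Ideal B') [hP : P.IsMaximal] :
    IsAssociatedPrime ((P.under B).under A) A := by
  set T := Algebra.algebraMapSubmonoid B (nonZeroDivisors A) with hT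
  have hPp : P.IsPrime := hP.isPrime
  obtain ⟨hqp, hqd⟩ := (IsLocalization.isPrime_iff_isPrime_disjoint T B' P).mp hPp
  set q := P.under B with hq
  have hpp : (q.under A).IsPrime := Ideal.IsPrime.under A q
  set p := q.under A with hp
  have hzd : ∀ a : A, a ∈ nonZeroDivisors A → ∀ p' ∈ associatedPrimes A A, a ∉ p' := by
    intro a ha p' hp' hap'
    have := biUnion_associatedPrimes_eq_compl_nonZeroDivisors A
    have h2 : a ∈ ⋃ p ∈ associatedPrimes A A, (p : Set A) := Set.mem_biUnion hp' hap'
    rw [this] at h2
    exact h2 ha
  have hsub : (p : Set A) ⊆ ⋃ p' ∈ associatedPrimes A A, (p' : Set A) := by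
    rw [biUnion_associatedPrimes_eq_compl_nonZeroDivisors A]
    intro a ha ha'
    exact Set.disjoint_left.mp hqd ⟨a, ha', rfl⟩ ha
  have hfin : (associatedPrimes A A).Finite := associatedPrimes.finite A A
  obtain ⟨p', hp'mem, hpp'⟩ : ∃ p' ∈ associatedPrimes A A, p ≤ p' := by
    have h := (Ideal.subset_union_prime (s := hfin.toFinset) (f := fun i => i) (I := p) ⊥ ⊥
      (fun i hi _ _ => ((hfin.mem_toFinset).mp hi).isPrime)).mp (by
        simpa using hsub)
    obtain ⟨i, hi, hle⟩ := h
    exact ⟨i, (hfin.mem_toFinset).mp hi, hle⟩
  have : p'.IsPrime := hp'mem.isPrime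
  have : q.LiesOver p := ⟨rfl⟩
  obtain ⟨q', hqq', hq'p, hq'over⟩ := Ideal.exists_ideal_ge_liesOver_of_le (p := p) (q := p') q hpp'
  have hq'd : Disjoint (T : Set B) (q' : Set B) := by
    rw [Set.disjoint_left]
    rintro _ ⟨a, ha, rfl⟩ haq'
    have : a ∈ q'.under A := haq'
    rw [← hq'over.over] at this
    exact hzd a ha p' hp'mem this
  have hP'prime := IsLocalization.isPrime_of_isPrime_disjoint T B' q' hq'p hq'd
  have hPeq : P = Ideal.map (algebraMap B B') q := (IsLocalization.map_under T B' P).symm
  have hle : P ≤ Ideal.map (algebraMap B B') q' := by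
    rw [hPeq]
    exact Ideal.map_mono hqq'
  have hPeq' : P = Ideal.map (algebraMap B B') q' := hP.eq_of_le hP'prime.ne_top hle
  have hqq : q = q' := by
    rw [hq, hPeq', IsLocalization.under_map_of_isPrime_disjoint T B' hq'p hq'd]
  have : p = p' := by
    rw [hp, hqq, ← hq'over.over]
  rw [this]
  exact hp'mem


attribute [local instance] Algebra.TensorProduct.rightAlgebra in
theorem main (A B : Type u) [CommRing A] [CommRing B] [IsNoetherianRing A] [IsNoetherianRing B] [Algebra A B] [Algebra.HasGoingUp A B] (h4 : ∀ (q : Ideal B) [q.IsPrime], IsAssociatedPrime (q.comap (algebraMap A B)) A → Module.Flat A (Localization.AtPrime q)) : Module.Flat (FractionRing A) (FractionRing A ⊗[A] B) := by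
  set B' := FractionRing A ⊗[A] B with hB'
  have hloc : IsLocalization (Algebra.algebraMapSubmonoid B (nonZeroDivisors A)) B' :=
    IsLocalization.tensorRight (FractionRing A) (nonZeroDivisors A)
  rw [Module.flat_iff_of_isLocalization (FractionRing A) (nonZeroDivisors A) B']
  apply Module.flat_of_isLocalized_maximal B' B' (fun P _ => Localization.AtPrime P)
    (fun P _ => Algebra.linearMap B' (Localization.AtPrime P))
  intro P hP
  have hPp : P.IsPrime := hP.isPrime
  have hass := key A B B' P
  set q := P.under B with hq
  have hqp : q.IsPrime := Ideal.IsPrime.under B P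
  have hfl := h4 q hass
  have : IsLocalization.AtPrime (Localization.AtPrime P) q :=
    IsLocalization.isLocalization_isLocalization_atPrime_isLocalization
      (Algebra.algebraMapSubmonoid B (nonZeroDivisors A)) _ P
  let e : Localization.AtPrime q ≃ₐ[B] Localization.AtPrime P :=
    IsLocalization.algEquiv q.primeCompl _ _
  have hst : IsScalarTower A B (Localization.AtPrime P) := by
    refine ⟨fun a x m => ?_⟩
    have : IsScalarTower A B B' := Algebra.TensorProduct.right_isScalarTower
    rw [← algebraMap_smul B' (a • x) m, ← algebraMap_smul B' x m, ← smul_assoc]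
    congr 1
    rw [Algebra.smul_def, map_mul, ← IsScalarTower.algebraMap_apply]
    exact (Algebra.smul_def _ _).symm
  exact Module.Flat.of_linearEquiv (e.toLinearEquiv.restrictScalars A).symm

end H8929

/-- Let A → B be a map of Noetherian rings with the going-up property. If B_q is flat over A for every
associated prime q of B and for every prime q of B lying over an associated prime of A, then Q(A)
⊗_A B is flat over the total ring of fractions Q(A). -/
theorem result (A B : Type u) [CommRing A] [CommRing B] [IsNoetherianRing A] [IsNoetherianRing B] [Algebra A B] [Algebra.HasGoingUp A B] (h3 : ∀ (q : Ideal B) [q.IsPrime], IsAssociatedPrime q B → Module.Flat A (Localization.AtPrime q)) (h4 : ∀ (q : Ideal B) [q.IsPrime], IsAssociatedPrime (q.comap (algebraMap A B)) A → Module.Flat A (Localization.AtPrime q)) : Module.Flat (FractionRing A) (FractionRing A ⊗[A] B) := by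
  exact H8929.main A B h4

end Groth.Agent.S8929
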