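import Groth.Statements.S8930
import Mathlib

set_option autoImplicit false
universe u
open AlgebraicGeometry
open Disc

namespace Groth.Agent.S8930

open TensorProduct AlgebraicGeometry CategoryTheory
namespace H8930

theorem ker_SpecMap_eq_bot {R S : CommRingCat.{u}} (φ : R ⟶ S) (hφ : Function.Injective φ.hom) :
    (Spec.map φ).ker = ⊥ := by
  rw [Scheme.ker_of_isAffine]
  apply Scheme.IdealSheafData.ext_of_isAffine
  simp only [Scheme.IdealSheafData.ofIdealTop_ideal]
  have h1 : (Spec.map φ).appTop ≫ (Scheme.ΓSpecIso S).hom = (Scheme.ΓSpecIso R).hom ≫ φ :=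
    Scheme.ΓSpecIso_naturality φ
  have hinj : Function.Injective (Spec.map φ).appTop.hom := by
    have h2 : Function.Injective ((Spec.map φ).appTop ≫ (Scheme.ΓSpecIso S).hom).hom := by
      rw [h1]
      simp only [CommRingCat.hom_comp, RingHom.coe_comp]
      exact hφ.comp (ConcreteCategory.bijective_of_isIso (Scheme.ΓSpecIso R).hom).1
    simp only [CommRingCat.hom_comp, RingHom.coe_comp] at h2
    exact Function.Injective.of_comp h2
  rw [(RingHom.injective_iff_ker_eq_bot _).mp hinj]
  simp

theorem isOpenImmersion_of_comp {R S T : CommRingCat.{u}} (φ : R ⟶ S) (ψ : T ⟶ R)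
    (hφ : Function.Injective φ.hom) [IsOpenImmersion (Spec.map (ψ ≫ φ))] :
    IsOpenImmersion (Spec.map φ) := by
  have h1 : IsImmersion (Spec.map φ ≫ Spec.map ψ) := by
    rw [← Spec.map_comp]
    infer_instance
  have h2 : IsImmersion (Spec.map φ) := IsImmersion.of_comp (Spec.map φ) (Spec.map ψ)
  have h3 : IsOpenImmersion (Spec.map φ).toImage := inferInstance
  have h4 : IsIso (Spec.map φ).imageι := by
    rw [Scheme.Hom.imageι, Scheme.isIso_subschemeι_iff_eq_bot]
    exact ker_SpecMap_eq_bot φ hφ
  rw [← (Spec.map φ).toImage_imageι]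
  infer_instance


theorem main (A B B' B'' : Type u) [CommRing A] [CommRing B] [CommRing B'] [CommRing B''] [Algebra A B] [Algebra A B'] [Algebra A B''] [Algebra B' B] [Algebra B'' B] [IsScalarTower A B' B] [IsScalarTower A B'' B] [Module.Finite A B'] [Module.Finite A B''] (h' : IsOpenImmersion (Spec.map (CommRingCat.ofHom (algebraMap B' B)))) (h'' : IsOpenImmersion (Spec.map (CommRingCat.ofHom (algebraMap B'' B)))) : ∃ C : Subalgebra A B, Module.Finite A C ∧ Set.range (algebraMap B' B) ⊆ (C : Set B) ∧ Set.range (algebraMap B'' B) ⊆ (C : Set B) ∧ IsOpenImmersion (Spec.map (CommRingCat.ofHom C.val.toRingHom)) := by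
  let F : B' ⊗[A] B'' →ₐ[A] B := Algebra.TensorProduct.productMap
    (IsScalarTower.toAlgHom A B' B) (IsScalarTower.toAlgHom A B'' B)
  have hF1 : ∀ b : B', algebraMap B' B b ∈ F.range := fun b => ⟨b ⊗ₜ 1, by simp [F]⟩
  have hF2 : ∀ b : B'', algebraMap B'' B b ∈ F.range := fun b => ⟨1 ⊗ₜ b, by simp [F]⟩
  refine ⟨F.range, ?_, ?_, ?_, ?_⟩
  · exact Module.Finite.of_surjective F.rangeRestrict.toLinearMap F.rangeRestrict_surjective
  · rintro _ ⟨b, rfl⟩
    exact hF1 b
  · rintro _ ⟨b, rfl⟩
    exact hF2 b
  · let ψ : B' →+* F.range :=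
      ((IsScalarTower.toAlgHom A B' B).codRestrict F.range hF1).toRingHom
    have hcomp : CommRingCat.ofHom ψ ≫ CommRingCat.ofHom F.range.val.toRingHom =
        CommRingCat.ofHom (algebraMap B' B) := by
      ext x
      rfl
    have : IsOpenImmersion (Spec.map (CommRingCat.ofHom ψ ≫
        CommRingCat.ofHom F.range.val.toRingHom)) := by
      rw [hcomp]
      exact h'
    exact isOpenImmersion_of_comp _ (CommRingCat.ofHom ψ) Subtype.val_injective

end H8930

/-- Given two factorizations A → B' → B and A → B'' → B of a ring map with A → B' and A → B'' finite and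
Spec(B) → Spec(B'), Spec(B) → Spec(B'') open immersions, there is an A-subalgebra C of B which is
finite over A, contains the images of B' and B'', and is such that Spec(B) → Spec(C) is an open
immersion. (Such an A → B is quasi-finite; that hypothesis of the published statement is implied by
the factorizations and is not repeated.) -/
theorem result (A B B' B'' : Type u) [CommRing A] [CommRing B] [CommRing B'] [CommRing B''] [Algebra A B] [Algebra A B'] [Algebra A B''] [Algebra B' B] [Algebra B'' B] [IsScalarTower A B' B] [IsScalarTower A B'' B] [Module.Finite A B'] [Module.Finite A B''] (h' : IsOpenImmersion (Spec.map (CommRingCat.ofHom (algebraMap B' B)))) (h'' : IsOpenImmersion (Spec.map (CommRingCat.ofHom (algebraMap B'' B)))) : ∃ C : Subalgebra A B, Module.Finite A C ∧ Set.range (algebraMap B' B) ⊆ (C : Set B) ∧ Set.range (algebraMap B'' B) ⊆ (C : Set B) ∧ IsOpenImmersion (Spec.map (CommRingCat.ofHom C.val.toRingHom)) := by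
  exact H8930.main A B B' B'' h' h''

end Groth.Agent.S8930
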