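import Groth.Statements.S8936
import Mathlib

set_option autoImplicit false
universe u v
open InjHull

namespace Groth.Agent.S8936

/-- For a directed system (E_i) of R-modules over a nonempty directed preorder and a compatible family
of essential injections M → E_i, the induced map from M to the direct limit of the E_i is an
essential injection. -/
theorem result (R : Type u) [CommRing R] (ι : Type v) [Preorder ι] [IsDirectedOrder ι] [DecidableEq ι] (i₀ : ι) (E : ι → Type v) [∀ i, AddCommGroup (E i)] [∀ i, Module R (E i)] (f : ∀ i j, i ≤ j → E i →ₗ[R] E j) [DirectedSystem E fun i j h => f i j h] (M : Type v) [AddCommGroup M] [Module R M] (g : ∀ i, M →ₗ[R] E i) (hg : ∀ i j (h : i ≤ j), f i j h ∘ₗ g i = g j) (he : ∀ i, InjHull.IsEssentialInj (g i)) : InjHull.IsEssentialInj (Module.DirectLimit.of R ι E f i₀ ∘ₗ g i₀) := by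
  classical
  haveI : Nonempty ι := ⟨i₀⟩
  -- transition maps are injective
  have hinj : ∀ i j (h : i ≤ j), Function.Injective (f i j h) := by
    intro i j h
    rw [← LinearMap.ker_eq_bot]
    by_contra hne
    have h1 := (he i).essential _ hne
    rw [Submodule.ne_bot_iff] at h1
    obtain ⟨y, hy, hy0⟩ := h1
    rw [Submodule.mem_inf] at hy
    obtain ⟨hyk, ⟨m, rfl⟩⟩ := hy
    rw [LinearMap.mem_ker] at hyk
    have h2 : g j m = 0 := by
      rw [← hg i j h]; exact hyk
    have h3 : m = 0 := (he j).injective (by rw [h2, map_zero])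
    apply hy0
    rw [h3, map_zero]
  -- hence the maps to the limit are injective
  have hofinj : ∀ i, Function.Injective (Module.DirectLimit.of R ι E f i) := by
    intro i
    rw [injective_iff_map_eq_zero]
    intro x hx
    obtain ⟨j, hij, hj⟩ := Module.DirectLimit.of.zero_exact hx
    exact (hinj i j hij) (by rw [hj, map_zero])
  refine ⟨?_, ?_⟩
  · rw [LinearMap.coe_comp]
    exact (hofinj i₀).comp (he i₀).injective
  · intro N hN
    rw [Submodule.ne_bot_iff] at hN ⊢
    obtain ⟨z, hz, hz0⟩ := hN
    obtain ⟨i, e, rfl⟩ := Module.DirectLimit.exists_of z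
    have he0 : e ≠ 0 := by
      rintro rfl
      exact hz0 (map_zero _)
    have h1 : Submodule.span R {e} ≠ ⊥ := by
      rw [Ne, Submodule.span_singleton_eq_bot]; exact he0
    have h2 := (he i).essential _ h1
    rw [Submodule.ne_bot_iff] at h2
    obtain ⟨y, hy, hy0⟩ := h2
    rw [Submodule.mem_inf, Submodule.mem_span_singleton] at hy
    obtain ⟨⟨r, rfl⟩, ⟨m, hm⟩⟩ := hy
    refine ⟨Module.DirectLimit.of R ι E f i (r • e), ?_, ?_⟩
    · rw [Submodule.mem_inf]
      refine ⟨?_, ?_⟩
      · rw [map_smul]; exact N.smul_mem r hz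
      · refine ⟨m, ?_⟩
        rw [← hm]
        obtain ⟨k, hik, hi₀k⟩ := exists_ge_ge i i₀
        rw [LinearMap.comp_apply, ← Module.DirectLimit.of_f (hij := hi₀k),
          ← Module.DirectLimit.of_f (hij := hik) (x := g i m)]
        congr 1
        have e1 := congrArg (fun F => F m) (hg i₀ k hi₀k)
        have e2 := congrArg (fun F => F m) (hg i k hik)
        simp only [LinearMap.comp_apply] at e1 e2
        rw [e1, e2]
    · intro h0
      exact hy0 ((hofinj i) (by rw [h0, map_zero]))

end Groth.Agent.S8936
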