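import Groth.Statements.S8950
import Groth.Agent.Lib.Helper8.CIFlat4

set_option autoImplicit false
universe u
open scoped TensorProduct
open CInt

namespace Groth.Agent.S8950

/-- Base change of the local complete intersection property along finitely generated field extensions.
Suppose R is a Noetherian k-algebra, k a field, with every local ring of R a complete intersection,
and suppose K is finitely generated as a field over k; then the tensor product K ⊗_k R is again a
Noetherian ring, and every localization of it at a prime is a complete intersection. -/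
theorem result (k K R : Type u) [Field k] [Field K] [Algebra k K] (hK : ∃ s : Finset K, IntermediateField.adjoin k (s : Set K) = ⊤) [CommRing R] [Algebra k R] [IsNoetherianRing R] (hR : ∀ (p : Ideal R) [p.IsPrime], Pi1.IsCompleteIntersection (Localization.AtPrime p)) : IsNoetherianRing (K ⊗[k] R) ∧ ∀ (P : Ideal (K ⊗[k] R)) [P.IsPrime], Pi1.IsCompleteIntersection (Localization.AtPrime P) := by
  haveI : Algebra.EssFiniteType k K := IntermediateField.fg_top_iff.mp hK
  haveI : Algebra.EssFiniteType R (R ⊗[k] K) := inferInstance
  haveI : IsNoetherianRing (R ⊗[k] K) := Algebra.EssFiniteType.isNoetherianRing R _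
  have hR' : Groth.Agent.Helper8.CIFib.LocCI R := ⟨inferInstance, fun p _ => hR p⟩
  have h1 : Groth.Agent.Helper8.CIFib.LocCI (R ⊗[k] K) := by
    refine Groth.Agent.Helper8.CIFib.locCI_of_flat_of_fibres R (R ⊗[k] K) hR' fun p _ => ?_
    have h2 := Groth.Agent.Helper8.CIFlat.locCI_tensor_fields k p.ResidueField K
    exact Groth.Agent.Helper8.CIFib.locCI_of_ringEquiv
      (Algebra.TensorProduct.cancelBaseChange k R R p.ResidueField K).toRingEquiv.symm h2
  have h3 := Groth.Agent.Helper8.CIFib.locCI_of_ringEquiv
    (Algebra.TensorProduct.comm k R K).toRingEquiv h1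
  exact ⟨h3.1, fun P _ => h3.2 P⟩

end Groth.Agent.S8950
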