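import Groth.Statements.S8951
import Groth.Agent.Lib.Helper8.CIFib1

set_option autoImplicit false
universe u
open scoped TensorProduct
open CInt

namespace Groth.Agent.S8951

/-- Complete intersection fibres are preserved by composing with a regular map. For flat maps A → B → C
of Noetherian rings, if all local rings of the fibres of A → B are complete intersections and B → C
is regular, then all local rings of the fibres of A → C are complete intersections. -/
theorem result (A B C : Type u) [CommRing A] [CommRing B] [CommRing C] [IsNoetherianRing A] [IsNoetherianRing B] [IsNoetherianRing C] [Algebra A B] [Algebra B C] [Algebra A C] [IsScalarTower A B C] [Module.Flat A B] [Module.Flat B C] (hAB : ∀ (q : Ideal A) [q.IsPrime] (P : Ideal (q.Fiber B)) [P.IsPrime], Pi1.IsCompleteIntersection (Localization.AtPrime P)) (hBC : CAlg.IsRegularHom B C) : ∀ (q : Ideal A) [q.IsPrime] (P : Ideal (q.Fiber C)) [P.IsPrime], Pi1.IsCompleteIntersection (Localization.AtPrime P) := by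
  intro q _ P _
  haveI : IsNoetherianRing (q.Fiber B) := Groth.Agent.Helper8.Fib.isNoetherianRing_fiber q
  haveI : IsNoetherianRing (q.Fiber C) := Groth.Agent.Helper8.Fib.isNoetherianRing_fiber q
  have hB : Groth.Agent.Helper8.CIFib.LocCI (q.ResidueField ⊗[q.ResidueField] q.Fiber B) :=
    Groth.Agent.Helper8.CIFib.locCI_of_ringEquiv
      (Algebra.TensorProduct.lid q.ResidueField (q.Fiber B)).toRingEquiv.symm
      ⟨inferInstance, fun P' _ => hAB q P'⟩
  have h1 := Groth.Agent.Helper8.CIFib.locCI_fibre_comp A B C q q.ResidueField hB hBC.2
  exact (Groth.Agent.Helper8.CIFib.locCI_of_ringEquiv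
    (Algebra.TensorProduct.lid q.ResidueField (q.Fiber C)).toRingEquiv h1).2 P

end Groth.Agent.S8951
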