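import Groth.Statements.S8971
import Groth.Agent.Lib.Helper3.AssQF

set_option autoImplicit false
universe u
open TensorProduct
open QFDual

namespace Groth.Agent.S8971

/-- Let A → B be a quasi-finite homomorphism of Noetherian rings, presented by writing it as a composite
A → B' → B, where the map A → B' is finite and the induced morphism Spec B → Spec B' is an open
immersion, so that ω_{B/A} = B ⊗_{B'} Hom_A(B', A) (B' acting on Hom_A(B', A) through the argument).
Then Ass_B(ω_{B/A}) is the set of primes of B whose preimage in A is an associated prime of A. -/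
theorem result (A B' B : Type u) [CommRing A] [CommRing B'] [CommRing B] [IsNoetherianRing A] [IsNoetherianRing B] [Algebra A B'] [Algebra B' B] [Algebra A B] [IsScalarTower A B' B] (hf : QFDual.IsQFFactor A B' B) : associatedPrimes B (QFDual.omega A B' B) = {q : Ideal B | q.IsPrime ∧ q.comap (algebraMap A B) ∈ associatedPrimes A A} := by
  haveI := hf.finite
  haveI : IsNoetherianRing B' := IsNoetherianRing.of_finite A B'
  ext q
  simp only [Set.mem_setOf_eq]
  constructor
  · intro h
    have hq : q.IsPrime := h.isPrime
    haveI := hq
    refine ⟨hq, ?_⟩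
    have h1 := (Groth.Agent.Helper3.AssQF.ass_tensor_iff hf.isOpenImmersion (Disc.Omega A B') q).mp h
    have h2 := (Groth.Agent.Helper3.AssQF.ass_omega A B' (q.comap (algebraMap B' B))).mp h1
    rwa [Ideal.comap_comap, ← IsScalarTower.algebraMap_eq] at h2
  · rintro ⟨hq, h⟩
    haveI := hq
    apply (Groth.Agent.Helper3.AssQF.ass_tensor_iff hf.isOpenImmersion (Disc.Omega A B') q).mpr
    apply (Groth.Agent.Helper3.AssQF.ass_omega A B' (q.comap (algebraMap B' B))).mpr
    rwa [Ideal.comap_comap, ← IsScalarTower.algebraMap_eq]

end Groth.Agent.S8971
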