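import Groth.Statements.S8973
import Mathlib

set_option autoImplicit false
open Synt

namespace Groth.Agent.S8973

namespace H8973
universe u
open Algebra

theorem etale_away_jacobian {R S : Type u} [CommRing R] [CommRing S] [Algebra R S]
    {ι σ : Type} [Finite ι] [Finite σ]
    (P : PreSubmersivePresentation R S ι σ) (hdim : Nat.card σ = Nat.card ι) :
    Algebra.Etale R (Localization.Away P.jacobian) := by
  let T := Localization.Away P.jacobian
  let Q : PreSubmersivePresentation S T Unit Unit :=
    PreSubmersivePresentation.localizationAway T P.jacobian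
  let QP : PreSubmersivePresentation R T (Unit ⊕ ι) (Unit ⊕ σ) := Q.comp P
  have hunit : IsUnit QP.jacobian := by
    change IsUnit (Q.comp P).jacobian
    rw [PreSubmersivePresentation.comp_jacobian_eq_jacobian_smul_jacobian,
      PreSubmersivePresentation.localizationAway_jacobian, Algebra.smul_def]
    exact (IsLocalization.Away.algebraMap_isUnit P.jacobian).mul
      (IsLocalization.Away.algebraMap_isUnit P.jacobian)
  let SP : SubmersivePresentation R T (Unit ⊕ ι) (Unit ⊕ σ) :=
    { QP with jacobian_isUnit := hunit }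
  have hd : SP.dimension = 0 := by
    change Nat.card (Unit ⊕ ι) - Nat.card (Unit ⊕ σ) = 0
    simp only [Nat.card_sum]
    omega
  have : IsStandardSmoothOfRelativeDimension 0 R T := SP.isStandardSmoothOfRelativeDimension hd
  infer_instance

end H8973

namespace H8973
universe u
open Algebra MvPolynomial

theorem exponent_injective (n d : ℕ) : Function.Injective (Synt.UnivIdx.exponent (n := n) (d := d)) := by
  intro E E' h
  apply Subtype.ext
  funext i
  have := DFunLike.congr_fun h i
  simp only [Synt.UnivIdx.exponent, Finsupp.equivFunOnFinite_symm_apply_apply] at this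
  exact Fin.ext this

theorem exists_idx (n d : ℕ) (m : Fin n →₀ ℕ) (hm : (m.sum fun _ e => e) ≤ d) :
    ∃ E : Synt.UnivIdx n d, E.exponent = m := by
  have hsum : (m.sum fun _ e => e) = ∑ i, m i := by
    rw [Finsupp.sum_fintype]; intro i; rfl
  have hi : ∀ i, m i < d + 1 := by
    intro i
    have : m i ≤ ∑ j, m j := Finset.single_le_sum (f := fun j => m j) (fun _ _ => Nat.zero_le _)
      (Finset.mem_univ i)
    omega
  refine ⟨⟨fun i => ⟨m i, hi i⟩, by simpa [← hsum] using hm⟩, ?_⟩
  ext i
  simp [Synt.UnivIdx.exponent]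

section
variable (n d : ℕ)

/-- coefficient specialization `a_{i,E} ↦ [E = e_i]` -/
noncomputable def psiA : Synt.UnivBase n d →+* ℤ :=
  MvPolynomial.eval₂Hom (Int.castRingHom ℤ)
    (fun iE : Fin n × Synt.UnivIdx n d =>
      if iE.2.exponent = Finsupp.single iE.1 1 then (1 : ℤ) else 0)

noncomputable def Psi : MvPolynomial (Fin n) (Synt.UnivBase n d) →+* ℤ :=
  MvPolynomial.eval₂Hom (psiA n d) (fun _ => 0)

theorem Psi_monomial (s : Fin n →₀ ℕ) (c : Synt.UnivBase n d) :
    Psi n d (monomial s c) = if s = 0 then psiA n d c else 0 := by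
  unfold Psi
  rw [coe_eval₂Hom, eval₂_monomial]
  split_ifs with h
  · subst h; simp
  · have : ∃ i, s i ≠ 0 := by
      by_contra hcon
      push Not at hcon
      exact h (Finsupp.ext hcon)
    obtain ⟨i, hi⟩ := this
    rw [Finsupp.prod, Finset.prod_eq_zero (i := i) (Finsupp.mem_support_iff.mpr hi)
      (zero_pow hi), mul_zero]

theorem Psi_univPoly (i : Fin n) : Psi n d (Synt.univPoly n d i) = 0 := by
  unfold Synt.univPoly
  rw [map_sum]
  apply Finset.sum_eq_zero
  intro E _
  rw [Psi_monomial]
  split_ifs with h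
  · unfold psiA
    rw [coe_eval₂Hom, eval₂_X, if_neg]
    rw [h]
    intro h0
    have := DFunLike.congr_fun h0 i
    simp at this
  · rfl

theorem Psi_pderiv (hd : 1 ≤ d) (i j : Fin n) :
    Psi n d (pderiv i (Synt.univPoly n d j)) = if i = j then 1 else 0 := by
  classical
  unfold Synt.univPoly
  rw [map_sum, map_sum]
  simp only [pderiv_monomial, Psi_monomial]
  have hsingle : ((Finsupp.single j 1 : Fin n →₀ ℕ).sum fun _ e => e) ≤ d := by
    rw [Finsupp.sum_single_index rfl]; exact hd
  obtain ⟨Ej, hEj⟩ := exists_idx n d (Finsupp.single j 1) hsingle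
  rw [Finset.sum_eq_single Ej]
  · rw [hEj]
    by_cases hij : i = j
    · subst hij
      simp [psiA, hEj]
    · rw [if_neg hij, if_neg]
      intro h0
      have := DFunLike.congr_fun h0 j
      simp [Finsupp.single_apply, hij] at this
  · intro E _ hne
    split_ifs with h
    · unfold psiA
      rw [map_mul, coe_eval₂Hom, eval₂_X, if_neg, zero_mul]
      intro h1
      apply hne
      apply exponent_injective
      rw [h1, hEj]
    · rfl
  · intro h; exact absurd (Finset.mem_univ _) h

end
end H8973

namespace H8973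
universe u
open Algebra MvPolynomial

section fin
variable (n d : ℕ)

abbrev Bq : Type := MvPolynomial (Fin n) (Synt.UnivBase n d) ⧸ Synt.univIdeal n d

noncomputable def P0 : PreSubmersivePresentation (Synt.UnivBase n d) (Bq n d) (Fin n) (Fin n) :=
  PreSubmersivePresentation.naive (v := Synt.univPoly n d) id Function.injective_id

theorem Psi_le_ker : Synt.univIdeal n d ≤ RingHom.ker (Psi n d) := by
  rw [Ideal.span_le]
  rintro _ ⟨i, rfl⟩
  exact Psi_univPoly n d i

noncomputable def psi : Bq n d →+* ℤ :=
  Ideal.Quotient.lift (Synt.univIdeal n d) (Psi n d) (fun x hx => Psi_le_ker n d hx)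

theorem psi_jacobian (hd : 1 ≤ d) : psi n d (P0 n d).jacobian = 1 := by
  classical
  rw [PreSubmersivePresentation.jacobian_eq_jacobiMatrix_det]
  have h1 : ∀ x : (P0 n d).Ring, psi n d (algebraMap (P0 n d).Ring (Bq n d) x) = Psi n d x := by
    intro x
    rw [Generators.algebraMap_apply]
    have : aeval (P0 n d).val x = Ideal.Quotient.mk (Synt.univIdeal n d) x := by
      change aeval (fun i => Ideal.Quotient.mk (Synt.univIdeal n d) (X i)) x = _
      induction x using MvPolynomial.induction_on with
      | C a => simp; rfl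
      | add p q hp hq => rw [map_add, map_add, hp, hq]
      | mul_X p i hp => rw [map_mul, map_mul, hp, aeval_X]
    rw [this]
    rfl
  rw [h1, RingHom.map_det]
  have : (Psi n d).mapMatrix (P0 n d).jacobiMatrix = 1 := by
    ext i j
    rw [RingHom.mapMatrix_apply, Matrix.map_apply]
    unfold P0
    rw [PreSubmersivePresentation.jacobiMatrix_naive, Psi_pderiv n d hd]
    simp [Matrix.one_apply]
  rw [this, Matrix.det_one]

noncomputable def eB : Bq n d ≃ₐ[Synt.UnivBase n d] Synt.UnivAlg n d :=
  show Synt.UnivAlg n d ≃ₐ[Synt.UnivBase n d] Synt.UnivAlg n d from AlgEquiv.refl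

noncomputable def P1 :
    PreSubmersivePresentation (Synt.UnivBase n d) (Synt.UnivAlg n d) (Fin n) (Fin n) :=
  (P0 n d).ofAlgEquiv (eB n d)

noncomputable def psi1 : Synt.UnivAlg n d →+* ℤ :=
  (psi n d).comp ((eB n d).symm : Synt.UnivAlg n d →+* Bq n d)

theorem psi1_jacobian (hd : 1 ≤ d) : psi1 n d (P1 n d).jacobian = 1 := by
  unfold P1 psi1
  rw [PreSubmersivePresentation.jacobian_ofAlgEquiv, RingHom.comp_apply]
  have : ((eB n d).symm : Synt.UnivAlg n d →+* Bq n d) ((eB n d) (P0 n d).jacobian) =
      (P0 n d).jacobian := (eB n d).symm_apply_apply _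
  rw [this, psi_jacobian n d hd]

theorem mainB (hd : 1 ≤ d) : ∃ q : PrimeSpectrum (Synt.UnivAlg n d),
    Algebra.QuasiFiniteAt (Synt.UnivBase n d) q.asIdeal ∧
      Algebra.IsEtaleAt (Synt.UnivBase n d) q.asIdeal := by
  obtain ⟨q, hq⟩ : ∃ q : PrimeSpectrum (Synt.UnivAlg n d), (P1 n d).jacobian ∉ q.asIdeal := by
    refine ⟨⟨RingHom.ker (psi1 n d), RingHom.ker_isPrime _⟩, ?_⟩
    change ¬ ((P1 n d).jacobian ∈ RingHom.ker (psi1 n d))
    rw [RingHom.mem_ker, psi1_jacobian n d hd]
    exact one_ne_zero
  have het : Algebra.Etale (Synt.UnivBase n d) (Localization.Away (P1 n d).jacobian) :=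
    etale_away_jacobian (P1 n d) rfl
  have hsub := (Algebra.basicOpen_subset_etaleLocus_iff (R := Synt.UnivBase n d)
    (f := (P1 n d).jacobian)).mpr inferInstance
  have hmem : q ∈ Algebra.etaleLocus (Synt.UnivBase n d) (Synt.UnivAlg n d) := hsub hq
  have hEt : Algebra.IsEtaleAt (Synt.UnivBase n d) q.asIdeal := hmem
  refine ⟨q, ?_, hEt⟩
  have : Algebra.FormallyEtale (Synt.UnivBase n d) (Localization.AtPrime q.asIdeal) := hEt
  have hess : Algebra.EssFiniteType (Synt.UnivBase n d) (Localization.AtPrime q.asIdeal) := by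
    have : Algebra.EssFiniteType (Synt.UnivAlg n d) (Localization.AtPrime q.asIdeal) :=
      Algebra.EssFiniteType.of_isLocalization _ q.asIdeal.primeCompl
    have hft : Algebra.FiniteType (Synt.UnivBase n d) (Synt.UnivAlg n d) :=
      Algebra.FiniteType.of_surjective (Synt.UnivAlg.mk n d) Ideal.Quotient.mk_surjective
    exact Algebra.EssFiniteType.comp (Synt.UnivBase n d) (Synt.UnivAlg n d) _
  unfold Algebra.QuasiFiniteAt
  infer_instance

end fin
end H8973

/-- Let n, d ≥ 1 and let B = A[x_1, …, x_n]/(f_1, …, f_n) be the universal algebra over A = ℤ[a_{i,E}],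
f_i = Σ_E a_{i,E} x^E summed over exponent vectors E with |E| ≤ d. Then there is a prime q of B at
which B is quasi-finite over A and étale over A (that is, B_q is quasi-finite and formally étale
over A). (The published statement asserts a dense open V of the quasi-finite locus Y_{n,d} ⊆ Spec B
that is étale over Spec A; as Spec B is irreducible and the étale locus is open, that amounts to the
existence of one such point, which is what is stated here and what the printed argument exhibits.) -/
theorem result (n d : ℕ) (hn : 1 ≤ n) (hd : 1 ≤ d) : ∃ q : PrimeSpectrum (Synt.UnivAlg n d), Algebra.QuasiFiniteAt (Synt.UnivBase n d) q.asIdeal ∧ Algebra.IsEtaleAt (Synt.UnivBase n d) q.asIdeal := by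
  exact H8973.mainB n d hd

end Groth.Agent.S8973
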