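import Groth.Statements.S8974
import Mathlib

set_option autoImplicit false
universe u
open Synt

namespace Groth.Agent.S8974

namespace H8974
open MvPolynomial

theorem exponent_injective (n d : ℕ) : Function.Injective (Synt.UnivIdx.exponent (n := n) (d := d)) := by
  intro E E' h
  apply Subtype.ext
  funext i
  have := DFunLike.congr_fun h i
  simp only [Synt.UnivIdx.exponent, Finsupp.equivFunOnFinite_symm_apply_apply] at this
  exact Fin.ext this

theorem exists_idx (n d : ℕ) (m : Fin n →₀ ℕ) (hm : (m.sum fun _ e => e) ≤ d) :
    ∃ E : Synt.UnivIdx n d, E.exponent = m := by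
  have hsum : (m.sum fun _ e => e) = ∑ i, m i := by
    rw [Finsupp.sum_fintype]; intro i; rfl
  have hi : ∀ i, m i < d + 1 := by
    intro i
    have : m i ≤ ∑ j, m j := Finset.single_le_sum (f := fun j => m j) (fun _ _ => Nat.zero_le _)
      (Finset.mem_univ i)
    omega
  refine ⟨⟨fun i => ⟨m i, hi i⟩, by simpa [← hsum] using hm⟩, ?_⟩
  ext i
  simp [Synt.UnivIdx.exponent]

theorem main (R : Type u) [CommRing R] (n d : ℕ) (g : Fin n → MvPolynomial (Fin n) R)
    (hg : ∀ i, (g i).totalDegree ≤ d) :
    ∃ φ : Synt.UnivBase n d →+* R, ∀ i, MvPolynomial.map φ (Synt.univPoly n d i) = g i := by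
  classical
  refine ⟨MvPolynomial.eval₂Hom (Int.castRingHom R)
    (fun iE : Fin n × Synt.UnivIdx n d => coeff iE.2.exponent (g iE.1)), ?_⟩
  intro i
  ext m
  simp only [Synt.univPoly, map_sum, MvPolynomial.map_monomial, coe_eval₂Hom, eval₂_X,
    coeff_sum, coeff_monomial]
  by_cases hm : (m.sum fun _ e => e) ≤ d
  · obtain ⟨E, rfl⟩ := exists_idx n d m hm
    rw [Finset.sum_eq_single E]
    · simp
    · intro E' _ hne
      rw [if_neg]
      intro h
      exact hne (exponent_injective n d h)
    · intro h; exact absurd (Finset.mem_univ _) h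
  · rw [Finset.sum_eq_zero]
    · symm
      by_contra hne
      have hmem : m ∈ (g i).support := by
        rw [mem_support_iff]; exact fun h => hne h
      have := le_totalDegree hmem
      have := hg i
      omega
    · intro E _
      rw [if_neg]
      rintro rfl
      apply hm
      have hsum : (E.exponent.sum fun _ e => e) = ∑ i, E.exponent i := by
        rw [Finsupp.sum_fintype]; intro i; rfl
      rw [hsum]
      simpa [Synt.UnivIdx.exponent] using E.2

end H8974

/-- Let R be a ring, n, d ≥ 1 and g_1, …, g_n ∈ R[y_1, …, y_n] of total degree at most d. Then there is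
a ring map φ : A = ℤ[a_{i,E}] → R (E running over exponent vectors with |E| ≤ d) such that applying
φ to the coefficients of the universal polynomial f_i = Σ_E a_{i,E} x^E gives g_i for each i. (The
published statement is for a locally quasi-finite syntomic morphism of schemes and asserts, locally,
a cartesian square with the universal family; this row is its affine core: the coefficient map.) -/
theorem result (R : Type u) [CommRing R] (n d : ℕ) (hn : 1 ≤ n) (hd : 1 ≤ d) (g : Fin n → MvPolynomial (Fin n) R) (hg : ∀ i, (g i).totalDegree ≤ d) : ∃ φ : Synt.UnivBase n d →+* R, ∀ i, MvPolynomial.map φ (Synt.univPoly n d i) = g i := by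
  exact H8974.main R n d g hg

end Groth.Agent.S8974
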