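import Groth.Statements.S9007
import Mathlib
import Groth.Agent.Lib.Helper5.Misc.CompPre

set_option autoImplicit false
universe u
open FlatMor



namespace Groth.Agent.S9007

open CategoryTheory CategoryTheory.Limits AlgebraicGeometry in
/-- For a morphism f of compactifications of X over a quasi-compact quasi-separated S whose source
contains X as a dense open, the preimage under f of the image of X in the target is the image of X
in the source. -/
theorem result {X S : Scheme.{u}} [CompactSpace S] [QuasiSeparatedSpace S] (p : X ⟶ S) [IsSeparated p] [QuasiCompact p] [LocallyOfFiniteType p] {Y Y' : Scheme.{u}} (j : X ⟶ Y) (q : Y ⟶ S) [IsOpenImmersion j] [IsProper q] (h : j ≫ q = p) (j' : X ⟶ Y') (q' : Y' ⟶ S) [IsOpenImmersion j'] [IsProper q'] (h' : j' ≫ q' = p) (f : Y' ⟶ Y) (hf : f ≫ q = q') (hfj : j' ≫ f = j) (hd : Dense (Set.range j'.base)) : f ⁻¹ᵁ j.opensRange = j'.opensRange := by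
  have : IsSeparated (f ≫ q) := by rw [hf]; infer_instance
  have : IsSeparated f := IsSeparated.of_comp f q
  exact Groth.Agent.Helper5.CompPre.main j' hd j (𝟙 X) f (by rw [hfj, Category.id_comp])

end Groth.Agent.S9007
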