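import Groth.Statements.S9008
import Groth.Agent.Lib.Helper8.PureBC1

set_option autoImplicit false
universe u
open FlatMor

namespace Groth.Agent.S9008

/-- For Spec B → Spec A affine of finite type: a finite B-module is universally pure along the fibre
over a prime p of A exactly when every base change of it along a ring map A → A' is pure along the
fibre over every prime of A' above p. -/
theorem result {A B : Type u} [CommRing A] [CommRing B] [Algebra A B] [Algebra.FiniteType A B] (N : Type u) [AddCommGroup N] [Module B N] [Module.Finite B N] (p : Ideal A) [p.IsPrime] : FlatCA.IsUnivPureAlong A B N p ↔ ∀ (A' B' N' : Type u) [CommRing A'] [CommRing B'] [Algebra A A'] [Algebra B B'] [Algebra A' B'] [Algebra A B'] [IsScalarTower A B B'] [IsScalarTower A A' B'] [Algebra.IsPushout A B A' B'] [AddCommGroup N'] [Module B' N'] [Module B N'] [IsScalarTower B B' N'] (g : N →ₗ[B] N'), IsBaseChange B' g → ∀ (p' : Ideal A') [p'.IsPrime], p'.LiesOver p → FlatCA.IsPureAlong A' B' N' p' := by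
  constructor
  · intro h A' B' N' _ _ _ _ _ _ _ _ _ _ _ _ _ g hg p' _ hp'
    exact Groth.Agent.Helper8.PureBC.isPureAlong_of_isUnivPureAlong N p h A' B' N' g hg p' hp'
  · intro h A' B' N' _ _ _ _ _ _ _ _ _ _ _ _ _ _ f t' t _ _ P _ himp
    haveI : Algebra.IsPushout A B A' B' := himp.1
    haveI : t.LiesOver p := himp.2.2.2.1
    have hpure := h A' B' N' f himp.2.1 t inferInstance
    exact hpure A' B' N' LinearMap.id t' t P (Groth.Agent.Helper8.PureBC.isEtaleNhd_self A' t)
      (Groth.Agent.Helper8.PureBC.impurity_self N p A' B' N' f t' t P himp)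

end Groth.Agent.S9008
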