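import Groth.Statements.S9017
import Mathlib
import Groth.Agent.Lib.Lead.FpqcSh

set_option autoImplicit false
universe u
open FlatMor

namespace Groth.Agent.S9017

section
open CategoryTheory CategoryTheory.Limits AlgebraicGeometry Opposite

open Groth.Agent.Lead.FpqcSh Groth.Agent.Lib.Helper5.StalkAdj

theorem mono_nat {Y Y' : Scheme.{u}} {A B : Y.Modules ⥤ Y'.Modules} (E : A ≅ B) {M N : Y.Modules}
    (χ : M ⟶ N) (h : Mono (A.map χ)) : Mono (B.map χ) := by
  haveI := h
  have e : B.map χ = E.inv.app M ≫ A.map χ ≫ E.hom.app N := by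
    rw [E.hom.naturality χ, Iso.inv_hom_id_app_assoc]
  rw [e]
  infer_instance

theorem main {X S : Scheme.{u}} (f : X ⟶ S) {F G : X.Modules} [Coh.IsQCoh F] [Coh.IsQCoh G] (u : F ⟶ G)
    (T : Over S) {ι : Type u} (Ti : ι → Over S) (g : ∀ i, Ti i ⟶ T)
    (hcov : Presieve.ofArrows (fun i => (Ti i).left) (fun i => (g i).left) ∈ Scheme.fpqcPrecoverage T.left) :
    Mono ((Scheme.Modules.pullback (pullback.fst f T.hom)).map u) ↔
      ∀ i, Mono ((Scheme.Modules.pullback (pullback.fst f (Ti i).hom)).map u) := by
  have h1 : Presieve.ofArrows (fun i => (Ti i).left) (fun i => (g i).left) ∈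
      Scheme.precoverage @Flat T.left := Scheme.propQCPrecoverage_le_precoverage _ hcov
  rw [Scheme.ofArrows_mem_precoverage_iff] at h1
  obtain ⟨hsurj, hflat⟩ := h1
  constructor
  · intro h i
    haveI := h
    haveI : Flat (bc f (g i)) := flat_bc f (g i) (hflat i)
    have h2 : Mono ((Scheme.Modules.pullback (bc f (g i))).map
        ((Scheme.Modules.pullback (pullback.fst f T.hom)).map u)) := inferInstance
    exact mono_nat (bcIso f (g i)) u h2
  · intro h
    apply mono_of_flatLocally
    intro y
    obtain ⟨i, t', ht'⟩ := hsurj ((pullback.snd f T.hom).base y)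
    obtain ⟨y', hy'⟩ := exists_preimage_bc f (g i) y t' ht'.symm
    exact ⟨_, bc f (g i), flat_bc f (g i) (hflat i), ⟨y', hy'⟩,
      mono_nat (bcIso f (g i)).symm u (h i)⟩


end


open CategoryTheory CategoryTheory.Limits AlgebraicGeometry Opposite in
/-- For f : X → S, a homomorphism u : F → G of quasi-coherent O_X-modules, a scheme T over S and an fpqc
covering family of S-morphisms T_i → T, the base change u_T on X_T = X ×_S T is injective (a
monomorphism in the abelian category of O-modules) if and only if u_{T_i} is injective for every i.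
(Injectivity of u_T is not preserved by arbitrary base change, so this variant is a sheaf condition
on coverings rather than a subfunctor of the final functor.) -/
theorem result {X S : Scheme.{u}} (f : X ⟶ S) {F G : X.Modules} [Coh.IsQCoh F] [Coh.IsQCoh G] (u : F ⟶ G)
    (T : Over S) {ι : Type u} (Ti : ι → Over S) (g : ∀ i, Ti i ⟶ T)
    (hcov : Presieve.ofArrows (fun i => (Ti i).left) (fun i => (g i).left) ∈ Scheme.fpqcPrecoverage T.left) :
    Mono ((Scheme.Modules.pullback (pullback.fst f T.hom)).map u) ↔
      ∀ i, Mono ((Scheme.Modules.pullback (pullback.fst f (Ti i).hom)).map u) := by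
  classical
  exact main f u T Ti g hcov

end Groth.Agent.S9017
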