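import Groth.Statements.S9018
import Mathlib
import Groth.Agent.Lib.Lead.LimPres
import Groth.Agent.Lib.Lead.EpiPull
import Groth.Agent.Lib.Helper1.FtSupp

set_option autoImplicit false
universe u
open FlatMor

namespace Groth.Agent.S9018

section
open CategoryTheory CategoryTheory.Limits AlgebraicGeometry Opposite

theorem main {X S : Scheme.{u}} (f : X ⟶ S) [QuasiCompact f] {F G : X.Modules} [Coh.IsQCoh F] [Coh.IsQCoh G]
    (hG : CohB1.IsFT G) (u : F ⟶ G) :
    AlgSp.IsLimitPreserving (FlatFun.genPSp S (fun T => Epi ((Scheme.Modules.pullback (pullback.fst f T.hom)).map u))) := by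
  obtain ⟨hCq, hCft⟩ := Groth.Agent.Lead.EpiPull.cokernel_qcoh_ft hG u
  have hcl : IsClosed (CohB1.support (cokernel u)) := Groth.Agent.Helper1.FtGen.isClosed_support _ hCft
  refine Groth.Agent.Lead.LimPres.isLimitPreserving_of_open f
    ⟨(CohB1.support (cokernel u))ᶜ, hcl.isOpen_compl⟩ _ ?_
  intro T
  rw [Groth.Agent.Lead.EpiPull.epi_pullback_iff _ hG u, Scheme.Pullback.range_fst]
  rfl


end


open CategoryTheory CategoryTheory.Limits AlgebraicGeometry Opposite in
/-- For f : X → S quasi-compact and a homomorphism u : F → G of quasi-coherent O_X-modules with G of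
finite type, the functor F_surj (one point on T when the base change u_T on X ×_S T is an
epimorphism of O-modules, empty otherwise; the subfunctor of the final functor generated by that
condition) is limit preserving. -/
theorem result {X S : Scheme.{u}} (f : X ⟶ S) [QuasiCompact f] {F G : X.Modules} [Coh.IsQCoh F] [Coh.IsQCoh G]
    (hG : CohB1.IsFT G) (u : F ⟶ G) :
    AlgSp.IsLimitPreserving (FlatFun.genPSp S (fun T => Epi ((Scheme.Modules.pullback (pullback.fst f T.hom)).map u))) := by
  classical
  exact main f hG u

end Groth.Agent.S9018
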