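import Groth.Statements.S9019
import Mathlib
import Groth.Agent.Lib.Lead.LimPres2
import Groth.Agent.Lib.Lead.LimZ5

set_option autoImplicit false
universe u
open FlatMor

namespace Groth.Agent.S9019

section
open CategoryTheory CategoryTheory.Limits AlgebraicGeometry Opposite

open Groth.Agent.Lead.LimZ Groth.Agent.Lead.LimPres

theorem main {X S : Scheme.{u}} (f : X ⟶ S) [QuasiCompact f] {F G : X.Modules} [Coh.IsQCoh F] [Coh.IsQCoh G]
    (hF : CohB1.IsFT F) (u : F ⟶ G) :
    AlgSp.IsLimitPreserving (FlatFun.genPSp S (fun T => ((Scheme.Modules.pullback (pullback.fst f T.hom)).map u) = 0)) := by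
  haveI : F.IsQuasicoherent := ‹Coh.IsQCoh F›
  haveI : G.IsQuasicoherent := ‹Coh.IsQCoh G›
  refine isLimitPreserving_pullback_fst (fun {Y M N} (χ : M ⟶ N) => χ = 0) ?_ ?_ ?_ f u ?_
  · intro A B C a b k e M N χ
    exact pullback_comp_eq_zero_iff a b k e χ
  · intro A B a M N χ h
    rw [h, Functor.map_zero]
  · intro B M N χ
    have n := (Scheme.Modules.pullbackId B).hom.naturality χ
    constructor
    · intro h
      rw [h, zero_comp] at n
      have h1 : (𝟭 B.Modules).map χ = 0 := by
        rw [← cancel_epi ((Scheme.Modules.pullbackId B).hom.app M), ← n, comp_zero]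
      exact h1
    · intro h
      rw [h, Functor.map_zero]
  · intro I _ _ D c hc haff i₀ hcomp a h
    haveI := haff
    haveI := hcomp
    haveI : ((Scheme.Modules.pullback a).obj F).IsQuasicoherent :=
      Groth.Agent.Lead.PB.isQuasicoherent_pullback _ _
    haveI : ((Scheme.Modules.pullback a).obj G).IsQuasicoherent :=
      Groth.Agent.Lead.PB.isQuasicoherent_pullback _ _
    exact exists_pullback_map_eq_zero D c hc i₀ _ (Groth.Agent.Lead.PB.isFT_pullback _ _ hF) h


end


open CategoryTheory CategoryTheory.Limits AlgebraicGeometry Opposite in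
/-- For f : X → S quasi-compact and a homomorphism u : F → G of quasi-coherent O_X-modules with F of
finite type, the functor F_zero (one point on T when the base change u_T on X ×_S T is zero, empty
otherwise; the subfunctor of the final functor generated by that condition) is limit preserving. -/
theorem result {X S : Scheme.{u}} (f : X ⟶ S) [QuasiCompact f] {F G : X.Modules} [Coh.IsQCoh F] [Coh.IsQCoh G]
    (hF : CohB1.IsFT F) (u : F ⟶ G) :
    AlgSp.IsLimitPreserving (FlatFun.genPSp S (fun T => ((Scheme.Modules.pullback (pullback.fst f T.hom)).map u) = 0)) := by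
  classical
  exact main f hF u

end Groth.Agent.S9019
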