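import Groth.Statements.S9020
import Mathlib
import Groth.Agent.Lib.Lead.LimPres2
import Groth.Agent.Lib.Lead.LimZ5

set_option autoImplicit false
universe u
open FlatMor

namespace Groth.Agent.S9020

section
open CategoryTheory CategoryTheory.Limits AlgebraicGeometry Opposite

open Groth.Agent.Lead.LimZ Groth.Agent.Lead.LimPres

theorem main {X S : Scheme.{u}} (f : X ⟶ S) [QuasiCompact f] {F G : X.Modules} [Coh.IsQCoh F] [Coh.IsQCoh G]
    (hF : CohB1.IsFT F) (hG : CohB1.IsFP G) (u : F ⟶ G) :
    AlgSp.IsLimitPreserving (FlatFun.genPSp S (fun T => IsIso ((Scheme.Modules.pullback (pullback.fst f T.hom)).map u))) := by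
  haveI : F.IsQuasicoherent := ‹Coh.IsQCoh F›
  haveI : G.IsQuasicoherent := ‹Coh.IsQCoh G›
  refine isLimitPreserving_pullback_fst (fun {Y M N} (χ : M ⟶ N) => IsIso χ) ?_ ?_ ?_ f u ?_
  · intro A B C a b k e M N χ
    exact isIso_pullback_comp_iff a b k e χ
  · intro A B a M N χ h
    haveI := h
    infer_instance
  · intro B M N χ
    exact NatIso.isIso_map_iff (Scheme.Modules.pullbackId B) χ
  · intro I _ _ D c hc haff i₀ hcomp a h
    haveI := haff
    haveI := hcomp
    haveI : ((Scheme.Modules.pullback a).obj F).IsQuasicoherent :=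
      Groth.Agent.Lead.PB.isQuasicoherent_pullback _ _
    haveI : ((Scheme.Modules.pullback a).obj G).IsQuasicoherent :=
      Groth.Agent.Lead.PB.isQuasicoherent_pullback _ _
    exact exists_isIso D c hc i₀ (Groth.Agent.Lead.PB.isFT_pullback _ _ hF)
      (isFP_pullback _ _ hG) _ h


end


open CategoryTheory CategoryTheory.Limits AlgebraicGeometry Opposite in
/-- For f : X → S quasi-compact and a homomorphism u : F → G of quasi-coherent O_X-modules with F of
finite type and G of finite presentation, the functor F_iso (one point on T when the base change u_T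
on X ×_S T is an isomorphism, empty otherwise; the subfunctor of the final functor generated by that
condition) is limit preserving. -/
theorem result {X S : Scheme.{u}} (f : X ⟶ S) [QuasiCompact f] {F G : X.Modules} [Coh.IsQCoh F] [Coh.IsQCoh G]
    (hF : CohB1.IsFT F) (hG : CohB1.IsFP G) (u : F ⟶ G) :
    AlgSp.IsLimitPreserving (FlatFun.genPSp S (fun T => IsIso ((Scheme.Modules.pullback (pullback.fst f T.hom)).map u))) := by
  classical
  exact main f hF hG u

end Groth.Agent.S9020
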