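import Groth.Statements.S9063
import Groth.Agent.Lib.Helper6.TorsD.Derived
import Groth.Agent.Lib.Helper6.TorsD.Sheaf
import Groth.Agent.Lib.Helper3.KInjD

set_option autoImplicit false
universe u
open CategoryTheory CategoryTheory.Limits Opposite
attribute [local instance] HasDerivedCategory.standard
open SiteCmp

namespace Groth.Agent.S9063

/-- Let C be a site and A ⊂ Ab(C) the Serre subcategory of torsion abelian sheaves. Then the functor
from D(A) to D_A(C) gives an equivalence: the canonical functor D(A) → D(Ab(C)) induced by the exact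
inclusion is fully faithful, and a complex lies in its essential image exactly when every cohomology
sheaf of it is torsion. That torsion abelian sheaves form a Serre subcategory is carried as an
instance hypothesis. -/
theorem result
    {C : Type u} [SmallCategory C] (J : GrothendieckTopology C)
    [(SiteCmp.torsionSh J).IsSerreClass] :
    (WSerre.toDerived (SiteCmp.torsionSh J)).Full ∧ (WSerre.toDerived (SiteCmp.torsionSh J)).Faithful ∧
      ∀ K : DerivedCategory (Sheaf J AddCommGrpCat.{u}),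
        WSerre.cohIn (SiteCmp.torsionSh J) K ↔ (WSerre.toDerived (SiteCmp.torsionSh J)).essImage K := by
  haveI : IsGrothendieckAbelian.{u} (Sheaf J AddCommGrpCat.{u}) :=
    Sheaf.isGrothendieckAbelian_of_essentiallySmall _ _
  haveI : (Groth.Agent.Lib.Helper6.TorsD.tFunctor J).Additive :=
    (Groth.Agent.Lib.Helper6.TorsD.tAdj J).right_adjoint_additive
  have hRes : ∀ Y : CochainComplex (Sheaf J AddCommGrpCat.{u}) ℤ,
      ∃ (I : CochainComplex (Sheaf J AddCommGrpCat.{u}) ℤ) (f : Y ⟶ I),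
        I.IsKInjective ∧ QuasiIso f ∧ ∀ n, Injective (I.X n) := fun Y => by
    obtain ⟨I, f, h1, h2, -, h4⟩ := Groth.Agent.Helper3.KInjD.exists_kInjective_resolution Y
    exact ⟨I, f, h1, h2, h4⟩
  have hmono : ∀ Y, Mono ((Groth.Agent.Lib.Helper6.TorsD.tAdj J).counit.app Y) :=
    fun Y => Groth.Agent.Lib.Helper6.TorsD.mono_tAdj_counit J Y
  have hS1 : ∀ (G : Sheaf J AddCommGrpCat.{u}) (n : ℕ), 0 < n → n • 𝟙 G = 0 →
      SiteCmp.torsionSh J G :=
    fun G n hn h0 => Groth.Agent.Lib.Helper6.TorsD.torsion_of_nsmul_eq_zero G n hn h0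
  have hS2 : ∀ G : Sheaf J AddCommGrpCat.{u}, SiteCmp.torsionSh J G →
      (∀ n : ℕ, 0 < n → Mono (n • 𝟙 G)) → IsZero G :=
    fun G hG hm => Groth.Agent.Lib.Helper6.TorsD.isZero_of_torsion_of_mono G hG hm
  have hS3 : ∀ (I : Sheaf J AddCommGrpCat.{u}), Injective I → ∀ n : ℕ, 0 < n →
      Epi (n • 𝟙 I) :=
    fun I hI n hn => Groth.Agent.Lib.Helper6.TorsD.epi_nsmul_of_injective I hI n hn
  obtain ⟨h1, h2⟩ := Groth.Agent.Lib.Helper6.TorsD.full_and_faithful (SiteCmp.torsionSh J)
    (Groth.Agent.Lib.Helper6.TorsD.tAdj J) hRes hmono hS1 hS2 hS3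
  refine ⟨h1, h2, fun K => ⟨fun hK => ?_, fun hK => ?_⟩⟩
  · exact Groth.Agent.Lib.Helper6.TorsD.essImage_of_cohIn (SiteCmp.torsionSh J)
      (Groth.Agent.Lib.Helper6.TorsD.tAdj J) hRes hmono hS1 hS2 hS3 K hK
  · exact Groth.Agent.Lib.Helper6.TorsD.cohIn_of_essImage (SiteCmp.torsionSh J) K hK

end Groth.Agent.S9063
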