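import Groth.Statements.S9076
import Groth.Agent.Lib.Helper6.RlimPush.Adj
import Groth.Agent.Lib.Helper6.RlimPush.Tri

set_option autoImplicit false
universe u
open CategoryTheory CategoryTheory.Limits Opposite
attribute [local instance] HasDerivedCategory.standard
open SiteCmp

namespace Groth.Agent.S9076

/-- For a morphism f from the ringed site (C, O_C) to the ringed site (D, O_D), Rf_* commutes with
derived limits: if L = R lim K_n in D(O_C) through maps a_n : L → K_n, then Rf_*L = R lim Rf_*K_n
through the maps Rf_*a_n. Rf_* is the unbounded total derived direct image under its existence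
binder; the products of the two systems are instance hypotheses. Stated for ringed sites; the
published statement is for ringed topoi. -/
theorem result
    {C : Type u} [SmallCategory C] {J : GrothendieckTopology C} {O_C : Sheaf J CommRingCat.{u}}
    {D : Type u} [SmallCategory D] {K : GrothendieckTopology D} {O_D : Sheaf K CommRingCat.{u}}
    (f : ModSite.RMor O_C O_D) [SiteCmp.HasRpushD f]
    (E : ℕ → DerivedCategory (ModSite.Mod O_C)) (t : ∀ n, E (n + 1) ⟶ E n) [HasProduct E]
    (L : DerivedCategory (ModSite.Mod O_C)) (a : ∀ n, L ⟶ E n) (hL : CohCx.IsRlimVia E t L a)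
    [HasProduct fun n => (SiteCmp.RpushD f).obj (E n)] :
    CohCx.IsRlimVia (fun n => (SiteCmp.RpushD f).obj (E n)) (fun n => (SiteCmp.RpushD f).map (t n))
      ((SiteCmp.RpushD f).obj L) (fun n => (SiteCmp.RpushD f).map (a n)) := by
  classical
  haveI hra : (SiteCmp.RpushD f).IsRightAdjoint :=
    (Groth.Agent.Lib.Helper6.RlimPush.lpullRpushAdj f).isRightAdjoint
  haveI : PreservesLimitsOfShape (Discrete WalkingPair) (SiteCmp.RpushD f) := inferInstance
  haveI : PreservesBinaryBiproducts (SiteCmp.RpushD f) :=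
    preservesBinaryBiproducts_of_preservesBinaryProducts _
  haveI : (SiteCmp.RpushD f).Additive := Functor.additive_of_preservesBinaryBiproducts _
  obtain ⟨c, hT⟩ := hL
  obtain ⟨c', hT'⟩ := Groth.Agent.Lib.Helper6.RlimPush.exists_distinguished_rf f.push _ hT
  haveI : PreservesLimit (Discrete.functor E) (SiteCmp.RpushD f) := inferInstance
  let piso : (SiteCmp.RpushD f).obj (∏ᶜ E) ≅ ∏ᶜ fun n => (SiteCmp.RpushD f).obj (E n) :=
    PreservesProduct.iso (SiteCmp.RpushD f) E
  have hπ : ∀ n, piso.hom ≫ Pi.π (fun n => (SiteCmp.RpushD f).obj (E n)) n =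
      (SiteCmp.RpushD f).map (Pi.π E n) := fun n => piComparison_comp_π (SiteCmp.RpushD f) E n
  refine Groth.Agent.Lib.Helper6.RlimPush.exists_mor₃_of_isos _ hT' _ _ (Iso.refl _)
    piso.symm piso.symm ?_ ?_
  · show Pi.lift (fun n => (SiteCmp.RpushD f).map (a n)) ≫ piso.inv =
      𝟙 _ ≫ (SiteCmp.RpushD f).map (Pi.lift a)
    rw [Category.id_comp, Iso.comp_inv_eq]
    apply Limits.Pi.hom_ext
    intro n
    rw [Pi.lift_π, Category.assoc, hπ, ← Functor.map_comp, Pi.lift_π]
  · show (Pi.lift fun n => Pi.π (fun n => (SiteCmp.RpushD f).obj (E n)) n -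
        Pi.π (fun n => (SiteCmp.RpushD f).obj (E n)) (n + 1) ≫ (SiteCmp.RpushD f).map (t n)) ≫
        piso.inv =
      piso.inv ≫ (SiteCmp.RpushD f).map (Pi.lift fun n => Pi.π E n - Pi.π E (n + 1) ≫ t n)
    rw [Iso.comp_inv_eq, Category.assoc, Iso.eq_inv_comp]
    apply Limits.Pi.hom_ext
    intro n
    rw [Category.assoc, Category.assoc, Pi.lift_π, hπ, ← Functor.map_comp, Pi.lift_π,
      Preadditive.comp_sub, ← Category.assoc, hπ, hπ, Functor.map_sub, Functor.map_comp]

end Groth.Agent.S9076
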