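import Groth.Statements.S9079
import Groth.Agent.Lib.Helper3.TwoTop1
import Groth.Agent.Lib.Helper3.TwoTop2
import Groth.Agent.Lib.Helper3.GSS
import Groth.Agent.Lib.Helper3.SpVan
import Groth.Agent.Lib.Helper3.RDAdd
import Groth.Agent.Lib.Helper5.Misc.RDComp

set_option autoImplicit false
universe u
open CategoryTheory CategoryTheory.Limits Opposite
open SiteCmp

namespace Groth.Agent.S9079

/-- Setting (two topologies τ' coarser than τ on a category C, rendered as J' ≤ J with J the finer one;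
for each object X the comparison morphism ε_X between the localised sites C_τ/X and C_τ'/X, whose
direct image ε_{X,*} regards a τ-sheaf as a τ'-sheaf): P is a class of arrows of C and for every X a
weak Serre subcategory A'_X of the abelian τ'-sheaves on C/X is given, such that (1) arrows of P
admit all base changes and these stay in P; (2) restriction along any f : X → Y sends A'_Y into
A'_X; (3) members of A'_X satisfy the sheaf condition for τ; (4) for f : X → Y in P the higher
direct images R^i f_{τ',*} (right derived functors of the relocalisation pushforward on τ'-sheaves)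
send A'_X into A'_Y for all i ≥ 0; (5) every τ-covering of any U is refined by a family obtained
from a τ'-covering {V_j → U}, single arrows W_j → V_j in P that are τ-coverings, and τ'-coverings
{W_jk → W_j}. Write A_X for the abelian τ-sheaves F on C/X with ε_{X,*}F in A'_X. Assume (V_n): for
all Z and all G in A_Z, R^i ε_{Z,*}G = 0 for 1 ≤ i ≤ n. Then for f : X → Y in P, F in A_X and i ≤ n
we have R^i f_{τ',*} ε_{X,*}F = ε_{Y,*} R^i f_{τ,*}F. Here R^i f_{τ,*} and R^i f_{τ',*} are the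
right derived functors of the relocalisation pushforwards (right adjoints of restriction along f)
for the two topologies, the additivity of the τ-one being an instance hypothesis; only the existence
of an isomorphism between the two sheaves is asserted (the comparison map is not named here). -/
theorem result
    {C : Type u} [SmallCategory C] {J J' : GrothendieckTopology C} (h : J' ≤ J)
    (P : MorphismProperty C)
    (A' : ∀ X : C, ObjectProperty (Sheaf (J'.over X) AddCommGrpCat.{u})) [∀ X : C, WSerre.IsWeakSerre (A' X)]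
    (h1 : ∀ ⦃X Y : C⦄ (f : X ⟶ Y), P f → ∀ ⦃Y' : C⦄ (g : Y' ⟶ Y),
      ∃ (W : C) (p : W ⟶ Y') (q : W ⟶ X), IsPullback p q g f ∧ P p)
    (h2 : ∀ ⦃X Y : C⦄ (f : X ⟶ Y) (F' : Sheaf (J'.over Y) AddCommGrpCat.{u}), A' Y F' →
      A' X ((CohSite.push (J'.over Y) (J'.over X) (Over.map f)).obj F'))
    (h3 : ∀ (X : C) (F' : Sheaf (J'.over X) AddCommGrpCat.{u}), A' X F' → Presheaf.IsSheaf (J.over X) F'.obj)
    (h4 : ∀ ⦃X Y : C⦄ (f : X ⟶ Y)
      [((Over.map f).sheafPushforwardCocontinuous AddCommGrpCat.{u} (J'.over X) (J'.over Y)).Additive],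
      P f → ∀ (F' : Sheaf (J'.over X) AddCommGrpCat.{u}), A' X F' → ∀ i : ℕ,
        A' Y ((((Over.map f).sheafPushforwardCocontinuous AddCommGrpCat.{u} (J'.over X) (J'.over Y)).rightDerived i).obj F'))
    (h5 : ∀ (U : C) (S : Sieve U), S ∈ J U → ∃ (ι : Type u) (V : ι → C) (v : ∀ j, V j ⟶ U),
      Sieve.ofArrows V v ∈ J' U ∧ ∀ j, ∃ (W : C) (w : W ⟶ V j), P w ∧
        Sieve.ofArrows (fun _ : PUnit.{u + 1} => W) (fun _ => w) ∈ J (V j) ∧
        ∃ (κ : Type u) (Wk : κ → C) (wk : ∀ k, Wk k ⟶ W), Sieve.ofArrows Wk wk ∈ J' W ∧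
          ∀ k, S.arrows (wk k ≫ w ≫ v j))
    (n : ℕ)
    (hV : ∀ (Z : C) (G : Sheaf (J.over Z) AddCommGrpCat.{u}), A' Z ((SiteCmp.epsSh (SiteCmp.over_le h Z) AddCommGrpCat.{u}).obj G) →
      ∀ i : ℕ, 1 ≤ i → i ≤ n → IsZero (((SiteCmp.epsSh (SiteCmp.over_le h Z) AddCommGrpCat.{u}).rightDerived i).obj G))
    {X Y : C} (f : X ⟶ Y) (hf : P f)
    [((Over.map f).sheafPushforwardCocontinuous AddCommGrpCat.{u} (J'.over X) (J'.over Y)).Additive]
    [((Over.map f).sheafPushforwardCocontinuous AddCommGrpCat.{u} (J.over X) (J.over Y)).Additive]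
    (F : Sheaf (J.over X) AddCommGrpCat.{u}) (hF : A' X ((SiteCmp.epsSh (SiteCmp.over_le h X) AddCommGrpCat.{u}).obj F)) (i : ℕ) (hi : i ≤ n) :
    Nonempty ((((Over.map f).sheafPushforwardCocontinuous AddCommGrpCat.{u} (J'.over X) (J'.over Y)).rightDerived i).obj
        ((SiteCmp.epsSh (SiteCmp.over_le h X) AddCommGrpCat.{u}).obj F) ≅
      (SiteCmp.epsSh (SiteCmp.over_le h Y) AddCommGrpCat.{u}).obj ((((Over.map f).sheafPushforwardCocontinuous AddCommGrpCat.{u} (J.over X) (J.over Y)).rightDerived i).obj F)) := by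
  classical
  let T := SiteCmp.epsSh (SiteCmp.over_le h X) AddCommGrpCat.{u}
  let S := (Over.map f).sheafPushforwardCocontinuous AddCommGrpCat.{u} (J'.over X) (J'.over Y)
  let S₀ := (Over.map f).sheafPushforwardCocontinuous AddCommGrpCat.{u} (J.over X) (J.over Y)
  let T' := SiteCmp.epsSh (SiteCmp.over_le h Y) AddCommGrpCat.{u}
  haveI : S.IsRightAdjoint :=
    ((Over.map f).sheafAdjunctionCocontinuous AddCommGrpCat.{u} (J'.over X) (J'.over Y)).isRightAdjoint
  haveI : PreservesFiniteLimits S := inferInstance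
  haveI : T.PreservesInjectiveObjects :=
    Groth.Agent.Helper3.TwoTop1.preservesInjectiveObjects_eps (SiteCmp.over_le h X)
  have hT : ∀ Q : Sheaf (J.over X) AddCommGrpCat.{u}, Injective Q → ∀ q : ℕ, 0 < q →
      IsZero ((S.rightDerived q).obj (T.obj Q)) := by
    intro Q hQ q hq
    obtain ⟨m, rfl⟩ : ∃ m, q = m + 1 := ⟨q - 1, by omega⟩
    haveI : Injective (T.obj Q) := T.injective_obj_of_injective hQ
    exact Functor.isZero_rightDerived_obj_injective_succ S m (T.obj Q)
  obtain ⟨E, a, hfin, hbdd, hE⟩ := Groth.Agent.Helper3.GSS.main' T S hT F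
  -- vanishing of the rows 1..n
  have hrow : ∀ p q : ℤ, (1 ≤ q ∧ q ≤ n) → IsZero ((E.page 2 le_rfl).X (p, q)) := by
    intro p q hq
    obtain ⟨e⟩ := hE p q
    refine IsZero.of_iso ?_ e
    split_ifs with hpq
    · exact Groth.Agent.Helper3.RDAdd.isZero_rightDerived_obj _ _
        (hV X F hF q.toNat (by omega) (by omega))
    · exact isZero_zero _
  have hneg : ∀ p q : ℤ, (p < 0 ∨ q < 0) → IsZero ((E.page 2 le_rfl).X (p, q)) := by
    intro p q hq
    obtain ⟨e⟩ := hE p q
    refine IsZero.of_iso ?_ e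
    rw [if_neg (by omega)]
    exact isZero_zero _
  have hz : ∀ p' : ℤ, p' ≠ (i : ℤ) → IsZero ((E.page 2 le_rfl).X (p', (i : ℤ) - p')) := by
    intro p' hp'
    by_cases h1 : p' < 0
    · exact hneg _ _ (Or.inl h1)
    · by_cases h2 : (i : ℤ) - p' < 0
      · exact hneg _ _ (Or.inr h2)
      · exact hrow _ _ (by omega)
  have hst : SpSeq.StationaryAt E ((i : ℤ), (i : ℤ) - (i : ℤ)) 2 := by
    refine Groth.Agent.Helper3.SpVan.stationaryAt_of_isZero E 2 le_rfl _ ?_ ?_
    · intro r' hr'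
      change IsZero ((E.page 2 le_rfl).X ((i : ℤ) - r', ((i : ℤ) - (i : ℤ)) - (1 - r')))
      by_cases h1 : (i : ℤ) - r' < 0
      · exact hneg _ _ (Or.inl h1)
      · exact hrow _ _ (by omega)
    · intro r' hr'
      change IsZero ((E.page 2 le_rfl).X ((i : ℤ) + r', ((i : ℤ) - (i : ℤ)) + (1 - r')))
      exact hneg _ _ (Or.inr (by omega))
  obtain ⟨e1⟩ := Groth.Agent.Helper3.SpVan.iso_single E a 2 le_rfl (i : ℤ) (i : ℤ) (hfin _) hz hst
  obtain ⟨e2⟩ := hE (i : ℤ) ((i : ℤ) - (i : ℤ))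
  rw [if_pos (by omega)] at e1
  rw [if_pos (by omega)] at e2
  simp only [Int.toNat_natCast, sub_self, Int.toNat_zero] at e1 e2
  -- e1 : ((T ⋙ S).rightDerived i).obj F ≅ E₂(i,0),  e2 : E₂(i,0) ≅ (S.rightDerived i).obj ((T.rightDerived 0).obj F)
  have e4 := (S.rightDerived i).mapIso ((T.rightDerivedZeroIsoSelf).app F)
  have e5 : ((T ⋙ S).rightDerived i).obj F ≅ ((S₀ ⋙ T').rightDerived i).obj F :=
    (Groth.Agent.Lib.Helper5.Misc.RDComp.natIso (Groth.Agent.Helper3.TwoTop2.pushIso h f) i).app F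
  let I := injectiveResolution F
  have e6 : ((S₀ ⋙ T').rightDerived i).obj F ≅
      ((T'.mapHomologicalComplex _).obj ((S₀.mapHomologicalComplex _).obj I.cocomplex)).homology i :=
    I.isoRightDerivedObj (S₀ ⋙ T') i ≪≫
      (HomologicalComplex.homologyFunctor _ _ i).mapIso
        (HomologicalComplex.Hom.isoOfComponents (fun _ => Iso.refl _)
          (by intros; exact (Category.id_comp _).trans (Category.comp_id _).symm))
  have e7 : (S.rightDerived i).obj (T.obj F) ≅
      ((T'.mapHomologicalComplex _).obj ((S₀.mapHomologicalComplex _).obj I.cocomplex)).homology i :=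
    e4.symm ≪≫ e2.symm ≪≫ e1.symm ≪≫ e5 ≪≫ e6
  have hA : A' Y ((S.rightDerived i).obj (T.obj F)) := h4 f hf (T.obj F) hF i
  have hsh : Presheaf.IsSheaf (J.over Y) ((S.rightDerived i).obj (T.obj F)).obj := h3 Y _ hA
  have hsh' := (Presheaf.isSheaf_of_iso_iff
    ((sheafToPresheaf (J'.over Y) AddCommGrpCat.{u}).mapIso e7)).1 hsh
  obtain ⟨e8⟩ := Groth.Agent.Helper3.TwoTop2.nonempty_homology_iso (SiteCmp.over_le h Y)
    ((S₀.mapHomologicalComplex _).obj I.cocomplex) i hsh'
  exact ⟨e7 ≪≫ e8 ≪≫ T'.mapIso (I.isoRightDerivedObj S₀ i).symm⟩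


end Groth.Agent.S9079
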