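import Groth.Statements.S9089
import Mathlib

set_option autoImplicit false
universe u
open CategoryTheory Opposite
open ModSite

namespace Groth.Agent.S9089

variable {C : Type u} [SmallCategory C] (J : GrothendieckTopology C)
  (O : Sheaf J CommRingCat.{u})

theorem map_comp_apply {U V W : C} (g : V ⟶ U) (k : W ⟶ V) (r : O.obj.obj (op U)) :
    (O.obj.map (k ≫ g).op).hom r = (O.obj.map k.op).hom ((O.obj.map g.op).hom r) := by
  rw [op_comp, O.obj.map_comp]
  rfl

theorem forward
    (h : ∀ (U : C) (f : O.obj.obj (op U)), ∃ S ∈ J U, ∀ ⦃V : C⦄ (g : V ⟶ U), S g →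
        IsUnit ((O.obj.map g.op).hom f) ∨ IsUnit ((O.obj.map g.op).hom (1 - f))) :
    ∀ (n : ℕ) (U : C) (f : Fin (n + 1) → O.obj.obj (op U)),
      Ideal.span (Set.range f) = ⊤ →
        ∃ S ∈ J U, ∀ ⦃V : C⦄ (g : V ⟶ U), S g → ∃ i, IsUnit ((O.obj.map g.op).hom (f i)) := by
  intro n
  induction n with
  | zero =>
    intro U f hf
    refine ⟨⊤, J.top_mem U, fun V g _ => ⟨0, ?_⟩⟩
    have h1 : (1 : O.obj.obj (op U)) ∈ Ideal.span (Set.range f) := by rw [hf]; trivial
    obtain ⟨c, hc⟩ := (Ideal.mem_span_range_iff_exists_fun).1 h1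
    rw [Fin.sum_univ_one] at hc
    have hu : IsUnit (f 0) := IsUnit.of_mul_eq_one _ ((mul_comm _ _).trans hc)
    exact hu.map (O.obj.map g.op).hom
  | succ n ih =>
    intro U f hf
    have h1 : (1 : O.obj.obj (op U)) ∈ Ideal.span (Set.range f) := by rw [hf]; trivial
    obtain ⟨c, hc⟩ := (Ideal.mem_span_range_iff_exists_fun).1 h1
    rw [Fin.sum_univ_castSucc] at hc
    set a := c (Fin.last (n + 1)) * f (Fin.last (n + 1)) with ha
    have h1a : 1 - a = ∑ i : Fin (n + 1), c i.castSucc * f i.castSucc := by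
      rw [← hc]; ring
    obtain ⟨S, hS, hS'⟩ := h U a
    have hT : ∀ ⦃V : C⦄ (g : V ⟶ U), S g → ∃ T ∈ J V, ∀ ⦃W : C⦄ (k : W ⟶ V), T k →
        ∃ i, IsUnit ((O.obj.map (k ≫ g).op).hom (f i)) := by
      intro V g hg
      rcases hS' g hg with hu | hu
      · refine ⟨⊤, J.top_mem V, fun W k _ => ⟨Fin.last (n + 1), ?_⟩⟩
        rw [map_comp_apply]
        have hu' : IsUnit ((O.obj.map g.op).hom (f (Fin.last (n + 1)))) := by
          rw [ha, map_mul] at hu
          exact isUnit_of_mul_isUnit_right hu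
        exact hu'.map (O.obj.map k.op).hom
      · have hspan : Ideal.span (Set.range fun i : Fin (n + 1) =>
            (O.obj.map g.op).hom (f i.castSucc)) = ⊤ := by
          apply Ideal.eq_top_of_isUnit_mem _ _ hu
          rw [h1a, map_sum]
          apply Ideal.sum_mem
          intro i _
          rw [map_mul]
          exact Ideal.mul_mem_left _ _ (Ideal.subset_span ⟨i, rfl⟩)
        obtain ⟨T, hT, hT'⟩ := ih V (fun i => (O.obj.map g.op).hom (f i.castSucc)) hspan
        refine ⟨T, hT, fun W k hk => ?_⟩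
        obtain ⟨i, hi⟩ := hT' k hk
        exact ⟨i.castSucc, by rw [map_comp_apply]; exact hi⟩
    choose T hT1 hT2 using hT
    refine ⟨Sieve.bind S (fun V g hg => T g hg), J.bind_covering hS (fun V g hg => hT1 g hg), ?_⟩
    rintro W _ ⟨V, k, g, hg, hk, rfl⟩
    exact hT2 g hg k hk

end Groth.Agent.S9089

namespace Groth.Agent.S9089

/-- Part (1): ⇔ (2), for a ringed site (C, O) with C small and O a sheaf of commutative rings: the
following are equivalent. (1) For every object U and every section f of O over U there is a covering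
sieve on U on each of whose arrows either f or 1 - f restricts to a unit. (2) For every object U,
every n ≥ 1 and all sections f₁, …, fₙ of O over U generating the unit ideal of O(U), there is a
covering sieve on U on each of whose arrows some fᵢ restricts to a unit. -/
theorem result {C : Type u} [SmallCategory C] (J : GrothendieckTopology C)
    (O : Sheaf J CommRingCat.{u}) :
    (∀ (U : C) (f : O.obj.obj (op U)), ∃ S ∈ J U, ∀ ⦃V : C⦄ (g : V ⟶ U), S g →
        IsUnit ((O.obj.map g.op).hom f) ∨ IsUnit ((O.obj.map g.op).hom (1 - f))) ↔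
    (∀ (U : C) (n : ℕ) (f : Fin n → O.obj.obj (op U)), 1 ≤ n → Ideal.span (Set.range f) = ⊤ →
        ∃ S ∈ J U, ∀ ⦃V : C⦄ (g : V ⟶ U), S g → ∃ i, IsUnit ((O.obj.map g.op).hom (f i))) := by
  constructor
  · intro h U n f hn hf
    obtain ⟨m, rfl⟩ : ∃ m, n = m + 1 := ⟨n - 1, by omega⟩
    exact forward J O h m U f hf
  · intro h2 U f
    have hspan : Ideal.span (Set.range ![f, 1 - f]) = ⊤ := by
      rw [Ideal.eq_top_iff_one]
      have h1 : f + (1 - f) ∈ Ideal.span (Set.range ![f, 1 - f]) := by
        apply Ideal.add_mem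
        · exact Ideal.subset_span ⟨0, rfl⟩
        · exact Ideal.subset_span ⟨1, rfl⟩
      have h2 : f + (1 - f) = 1 := by ring
      rw [h2] at h1
      exact h1
    obtain ⟨S, hS, hS'⟩ := h2 U 2 ![f, 1 - f] (by norm_num) hspan
    refine ⟨S, hS, fun V g hg => ?_⟩
    obtain ⟨i, hi⟩ := hS' g hg
    fin_cases i
    · exact Or.inl hi
    · exact Or.inr hi

end Groth.Agent.S9089
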