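import Groth.Statements.S9090
import Mathlib

set_option autoImplicit false
universe u
open CategoryTheory Opposite
open ModSite

namespace Groth.Agent.S9090

/-- Part (1): ⇒ (2), for a ringed site (C, O) with C small and O a sheaf of commutative rings: if for
every object U and every section f of O over U there is a covering sieve on U on each of whose
arrows either f or 1 - f restricts to a unit, then at every point p of the site the stalk O_p is the
zero ring or is local. -/
theorem result {C : Type u} [SmallCategory C] {J : GrothendieckTopology C}
    (O : Sheaf J CommRingCat.{u})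
    (h : ∀ (U : C) (f : O.obj.obj (op U)), ∃ S ∈ J U, ∀ ⦃V : C⦄ (g : V ⟶ U), S g →
        IsUnit ((O.obj.map g.op).hom f) ∨ IsUnit ((O.obj.map g.op).hom (1 - f)))
    (p : GrothendieckTopology.Point.{u} J) :
    Subsingleton (ModSite.stalkRing p O) ∨ IsLocalRing (ModSite.stalkRing p O) := by
  have key : ∀ a : ModSite.stalkRing p O, IsUnit a ∨ IsUnit (1 - a) := by
    intro a
    obtain ⟨X, x, f, rfl⟩ := p.toPresheafFiber_jointly_surjective (P := O.obj) a
    obtain ⟨S, hS, hS'⟩ := h X f
    obtain ⟨V, g, hg, y, rfl⟩ := p.jointly_surjective S hS x
    have e : ∀ r : O.obj.obj (op X), ModSite.germRing p X (p.fiber.map g y) r =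
        ModSite.germRing p V y ((O.obj.map g.op).hom r) :=
      fun r => (p.toPresheafFiber_w_apply g y O.obj r).symm
    have hmap : ∀ r : O.obj.obj (op V), IsUnit r → IsUnit (ModSite.germRing p V y r) :=
      fun r hr => hr.map (p.toPresheafFiber V y O.obj).hom
    rcases hS' g hg with hu | hu
    · left
      show IsUnit (ModSite.germRing p X (p.fiber.map g y) f)
      rw [e]
      exact hmap _ hu
    · right
      have : (1 : ModSite.stalkRing p O) - ModSite.germRing p X (p.fiber.map g y) f =
          ModSite.germRing p X (p.fiber.map g y) (1 - f) :=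
        ((map_sub (p.toPresheafFiber X (p.fiber.map g y) O.obj).hom 1 f).trans
          (congrArg (· - _) (map_one _))).symm
      show IsUnit ((1 : ModSite.stalkRing p O) - ModSite.germRing p X (p.fiber.map g y) f)
      rw [this, e]
      exact hmap _ hu
  rcases subsingleton_or_nontrivial (ModSite.stalkRing p O) with hs | hn
  · exact Or.inl hs
  · exact Or.inr (IsLocalRing.of_isUnit_or_isUnit_one_sub_self key)

end Groth.Agent.S9090
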