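import Groth.Statements.S9091
import Mathlib

set_option autoImplicit false
universe u
open CategoryTheory Opposite
open ModSite

open CategoryTheory.Limits

namespace Groth.Agent.S9091

variable {C : Type u} [SmallCategory C] {J : GrothendieckTopology C}
  (O : Sheaf J CommRingCat.{u})

/-- a section whose germ at a point is a unit is a unit on a neighbourhood of the point -/
theorem unit_lift (p : GrothendieckTopology.Point.{u} J) (U : C) (x : p.fiber.obj U)
    (r : O.obj.obj (op U)) (hr : IsUnit (ModSite.germRing p U x r)) :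
    ∃ (V : C) (g : V ⟶ U) (y : p.fiber.obj V), p.fiber.map g y = x ∧
      IsUnit ((O.obj.map g.op).hom r) := by
  obtain ⟨b, hb⟩ := hr.exists_right_inv
  obtain ⟨W, w, b0, rfl⟩ := p.toPresheafFiber_jointly_surjective (P := O.obj) b
  let Z := IsCofiltered.min (Functor.elementsMk p.fiber U x) (Functor.elementsMk p.fiber W w)
  let gU := IsCofiltered.minToLeft (Functor.elementsMk p.fiber U x)
    (Functor.elementsMk p.fiber W w)
  let gW := IsCofiltered.minToRight (Functor.elementsMk p.fiber U x)
    (Functor.elementsMk p.fiber W w)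
  have hU : ModSite.germRing p U x r =
      ModSite.germRing p Z.1 Z.2 ((O.obj.map gU.1.op).hom r) :=
    ((congrArg (fun t => (p.toPresheafFiber U t O.obj).hom r) gU.2).symm).trans
      (p.toPresheafFiber_w_apply gU.1 Z.2 O.obj r).symm
  have hW : ModSite.germRing p W w b0 =
      ModSite.germRing p Z.1 Z.2 ((O.obj.map gW.1.op).hom b0) :=
    ((congrArg (fun t => (p.toPresheafFiber W t O.obj).hom b0) gW.2).symm).trans
      (p.toPresheafFiber_w_apply gW.1 Z.2 O.obj b0).symm
  have h1 : ModSite.germRing p Z.1 Z.2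
      ((O.obj.map gU.1.op).hom r * (O.obj.map gW.1.op).hom b0) =
      ModSite.germRing p Z.1 Z.2 1 := by
    have e1 : ModSite.germRing p Z.1 Z.2
        ((O.obj.map gU.1.op).hom r * (O.obj.map gW.1.op).hom b0) =
        ModSite.germRing p Z.1 Z.2 ((O.obj.map gU.1.op).hom r) *
          ModSite.germRing p Z.1 Z.2 ((O.obj.map gW.1.op).hom b0) :=
      map_mul (p.toPresheafFiber Z.1 Z.2 O.obj).hom _ _
    have e2 : ModSite.germRing p Z.1 Z.2 (1 : O.obj.obj (op Z.1)) = 1 :=
      map_one (p.toPresheafFiber Z.1 Z.2 O.obj).hom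
    rw [e1, e2, ← hU, ← hW]
    exact hb
  obtain ⟨Y, k, y, hy, hk⟩ := (p.toPresheafFiber_eq_iff' (P := O.obj) Z.1 Z.2 _ _).1 h1
  refine ⟨Y, k ≫ gU.1, y, ?_, ?_⟩
  · rw [Functor.map_comp_apply, hy]
    exact gU.2
  · have hk' : (O.obj.map k.op).hom ((O.obj.map gU.1.op).hom r) *
        (O.obj.map k.op).hom ((O.obj.map gW.1.op).hom b0) = 1 := by
      have := hk
      rw [map_mul, map_one] at this
      exact this
    have e3 : (O.obj.map (k ≫ gU.1).op).hom r =
        (O.obj.map k.op).hom ((O.obj.map gU.1.op).hom r) := by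
      rw [op_comp, O.obj.map_comp]
      rfl
    rw [e3]
    exact IsUnit.of_mul_eq_one _ hk'

end Groth.Agent.S9091

namespace Groth.Agent.S9091

/-- Part (2): ⇒ (1) when the site has enough points, for a ringed site (C, O) with C small and O a sheaf
of commutative rings: if at every point p of the site the stalk O_p is the zero ring or is local,
then for every object U and every section f of O over U there is a covering sieve on U on each of
whose arrows either f or 1 - f restricts to a unit. -/
theorem result {C : Type u} [SmallCategory C] {J : GrothendieckTopology C}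
    (O : Sheaf J CommRingCat.{u}) [GrothendieckTopology.HasEnoughPoints.{u} J]
    (h : ∀ p : GrothendieckTopology.Point.{u} J, Subsingleton (ModSite.stalkRing p O) ∨ IsLocalRing (ModSite.stalkRing p O))
    (U : C) (f : O.obj.obj (op U)) :
    ∃ S ∈ J U, ∀ ⦃V : C⦄ (g : V ⟶ U), S g →
        IsUnit ((O.obj.map g.op).hom f) ∨ IsUnit ((O.obj.map g.op).hom (1 - f)) := by
  obtain ⟨P, hPs, hP⟩ := GrothendieckTopology.HasEnoughPoints.exists_objectProperty.{u} J
  let S : Sieve U :=
    { arrows := fun V g => IsUnit ((O.obj.map g.op).hom f) ∨ IsUnit ((O.obj.map g.op).hom (1 - f))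
      downward_closed := by
        intro V W g hg k
        have e : ∀ r : O.obj.obj (op U), (O.obj.map (k ≫ g).op).hom r =
            (O.obj.map k.op).hom ((O.obj.map g.op).hom r) := by
          intro r
          rw [op_comp, O.obj.map_comp]
          rfl
        rcases hg with hg | hg
        · exact Or.inl (by rw [e]; exact hg.map (O.obj.map k.op).hom)
        · exact Or.inr (by rw [e]; exact hg.map (O.obj.map k.op).hom) }
  refine ⟨S, ?_, fun V g hg => hg⟩
  let ι : Type u := Σ V : C, {g : V ⟶ U // S g}
  have hS : S = Sieve.ofArrows (fun i : ι => i.1) (fun i => i.2.1) := by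
    apply le_antisymm
    · intro V g hg
      exact Sieve.ofArrows_mk (fun i : ι => i.1) (fun i => i.2.1) ⟨V, g, hg⟩
    · rw [Sieve.generate_le_iff, Presieve.ofArrows_le_iff]
      intro i
      exact i.2.2
  rw [hS, hP.jointly_reflect_ofArrows_mem]
  intro Φ x
  have key : IsUnit (ModSite.germRing Φ.obj U x f) ∨ IsUnit (1 - ModSite.germRing Φ.obj U x f) := by
    rcases h Φ.obj with hs | hl
    · exact Or.inl (isUnit_of_subsingleton _)
    · exact IsLocalRing.isUnit_or_isUnit_one_sub_self _
  rcases key with hu | hu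
  · obtain ⟨V, g, y, hy, hg⟩ := unit_lift O Φ.obj U x f hu
    exact ⟨⟨V, g, Or.inl hg⟩, y, hy⟩
  · have e : (1 : ModSite.stalkRing Φ.obj O) - ModSite.germRing Φ.obj U x f =
        ModSite.germRing Φ.obj U x (1 - f) :=
      ((map_sub (Φ.obj.toPresheafFiber U x O.obj).hom 1 f).trans
        (congrArg (· - _) (map_one _))).symm
    rw [e] at hu
    obtain ⟨V, g, y, hy, hg⟩ := unit_lift O Φ.obj U x (1 - f) hu
    exact ⟨⟨V, g, Or.inr hg⟩, y, hy⟩

end Groth.Agent.S9091
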