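import Groth.Statements.S9106
import Mathlib
import Groth.Agent.Lib.Helper5.Misc.CompFiltered

set_option autoImplicit false
universe u
open CategoryTheory CategoryTheory.Limits
open CohSite

open Groth.Agent.Lib.Helper5.Misc

namespace Groth.Agent.S9106

variable {C D : Type u} [SmallCategory C] [SmallCategory D] (u : C ⥤ D)
  [HasPullbacks C] [HasEqualizers C]
  [PreservesLimitsOfShape WalkingCospan u] [PreservesLimitsOfShape WalkingParallelPair u]

instance : PreservesColimitsOfShape WalkingSpan u.op := by
  have : PreservesLimitsOfShape WalkingSpanᵒᵖ u :=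
    preservesLimitsOfShape_of_equiv walkingSpanOpEquiv.symm u
  exact preservesColimitsOfShape_op _ u

instance : PreservesColimitsOfShape WalkingParallelPair u.op := by
  have : PreservesLimitsOfShape WalkingParallelPairᵒᵖ u :=
    preservesLimitsOfShape_of_equiv walkingParallelPairOpEquiv u
  exact preservesColimitsOfShape_op _ u

lemma weakSpan (V : Dᵒᵖ) : CompFiltered.WeakSpan (CostructuredArrow u.op V) := by
  intro x y z f g
  exact ⟨pushout f g, ⟨pushout.inl f g⟩, ⟨pushout.inr f g⟩⟩

lemma weakCoeq (V : Dᵒᵖ) : CompFiltered.WeakCoeq (CostructuredArrow u.op V) := by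
  intro x y f g
  exact ⟨coequalizer f g, coequalizer.π f g, coequalizer.condition f g⟩

lemma exactColim (V : Dᵒᵖ) :
    HasExactColimitsOfShape (CostructuredArrow u.op V) AddCommGrpCat.{u} := by
  have hf : ∀ c, IsFiltered (CostructuredArrow (CompFiltered.proj (CostructuredArrow u.op V)) c) :=
    fun c => CompFiltered.isFiltered_costructuredArrow (weakSpan u V) (weakCoeq u V) c
  exact CompFiltered.hasExactColimitsOfShape (CostructuredArrow u.op V) AddCommGrpCat.{u}

end Groth.Agent.S9106

namespace Groth.Agent.S9106

/-- Let u : C ⥤ D be a functor between small sites which is cocontinuous and continuous, and assume that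
C has fibre products and equalizers and that u commutes with them. Let g be the morphism of topoi
attached to u. Then g_! on abelian sheaves, i.e. the left adjoint of restriction along u (left Kan
extension along u followed by sheafification), is exact: being a left adjoint it is right exact, and
it moreover preserves finite limits. -/
theorem result {C D : Type u} [SmallCategory C] [SmallCategory D]
    (J : GrothendieckTopology C) (K : GrothendieckTopology D) (u : C ⥤ D)
    [u.IsCocontinuous J K] [u.IsContinuous J K] [HasPullbacks C] [HasEqualizers C]
    [PreservesLimitsOfShape WalkingCospan u] [PreservesLimitsOfShape WalkingParallelPair u] :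
    PreservesFiniteLimits (u.sheafPullback AddCommGrpCat.{u} J K) := by
  have := fun V => Groth.Agent.S9106.exactColim u V
  have h0 : PreservesFiniteLimits (u.op.lan :
      (Cᵒᵖ ⥤ AddCommGrpCat.{u}) ⥤ Dᵒᵖ ⥤ AddCommGrpCat.{u}) :=
    LanExact.preservesFiniteLimits_lan AddCommGrpCat.{u} u.op
  have h1 : PreservesFiniteLimits (u.op.lan ⋙ presheafToSheaf K AddCommGrpCat.{u}) :=
    comp_preservesFiniteLimits _ _
  have h2 : PreservesFiniteLimits
      (Functor.sheafPullbackConstruction.sheafPullback u AddCommGrpCat.{u} J K) := by
    unfold Functor.sheafPullbackConstruction.sheafPullback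
    exact comp_preservesFiniteLimits _ _
  exact preservesFiniteLimits_of_natIso
    (Functor.sheafPullbackConstruction.sheafPullbackIso u AddCommGrpCat.{u} J K).symm

end Groth.Agent.S9106
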