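import Groth.Statements.S9108
import Mathlib
import Mathlib

set_option autoImplicit false
universe u
open CategoryTheory
open CohSite


namespace Groth.Agent.S9108

section
variable {C D : Type u} [SmallCategory C] [SmallCategory D]
    (J : GrothendieckTopology C) (K : GrothendieckTopology D) (u : C ⥤ D)
    [u.IsCocontinuous J K] [u.IsContinuous J K] [u.Full] [u.Faithful]

/-- The unit of the constructed adjunction `Lan ⋙ sheafify ⊣ restriction` is an iso. -/
lemma unit_constructed_isIso (F : Sheaf J AddCommGrpCat.{u}) :
    IsIso ((Functor.sheafPullbackConstruction.sheafAdjunctionContinuous u AddCommGrpCat.{u} J K).unit.app F) := by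
  rw [← isIso_iff_of_reflects_iso _ (sheafToPresheaf _ _)]
  have h := Adjunction.map_restrictFullyFaithful_unit_app
    ((u.op.lanAdjunction AddCommGrpCat.{u}).comp (sheafificationAdjunction K AddCommGrpCat.{u}))
    (fullyFaithfulSheafToPresheaf J AddCommGrpCat.{u}) (Functor.FullyFaithful.id _)
    (L := Functor.sheafPullbackConstruction.sheafPullback u AddCommGrpCat.{u} J K)
    (R := u.sheafPushforwardContinuous AddCommGrpCat.{u} J K)
    (Iso.refl _) (Iso.refl _) F
  have h' : (sheafToPresheaf J AddCommGrpCat.{u}).map
      ((Functor.sheafPullbackConstruction.sheafAdjunctionContinuous u AddCommGrpCat.{u} J K).unit.app F) =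
      (u.op.lanAdjunction AddCommGrpCat.{u}).unit.app F.obj ≫
        Functor.whiskerLeft u.op (toSheafify K (u.op.lan.obj F.obj)) := by
    refine h.trans ?_
    simp only [Iso.refl_hom, NatTrans.id_app]
    erw [Category.comp_id]
  rw [h']
  have h1 : IsIso ((u.op.lanAdjunction AddCommGrpCat.{u}).unit.app F.obj) := by
    have := Functor.coreflective' (L := u.op) (H := AddCommGrpCat.{u})
    exact NatIso.isIso_app_of_isIso _ _
  have hsheaf : Presheaf.IsSheaf J (u.op ⋙ u.op.lan.obj F.obj) :=
    (Presheaf.isSheaf_of_iso_iff (asIso ((u.op.lanAdjunction AddCommGrpCat.{u}).unit.app F.obj))).1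
      F.property
  have h2 : IsIso (toSheafify J (u.op ⋙ u.op.lan.obj F.obj)) := isIso_toSheafify J hsheaf
  have h3 := u.toSheafify_pullbackSheafificationCompatibility AddCommGrpCat.{u} J K
    (u.op.lan.obj F.obj)
  rw [← h3]
  have h4 : IsIso ((u.pushforwardContinuousSheafificationCompatibility AddCommGrpCat.{u} J K).hom.app
      (u.op.lan.obj F.obj)).hom :=
    (inferInstance : IsIso ((sheafToPresheaf J _).map
      ((u.pushforwardContinuousSheafificationCompatibility AddCommGrpCat.{u} J K).hom.app
        (u.op.lan.obj F.obj))))
  exact IsIso.comp_isIso' h1 (IsIso.comp_isIso' h2 h4)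

end

end Groth.Agent.S9108

namespace Groth.Agent.S9108

/-- Let u : C ⥤ D be a functor between small sites which is cocontinuous, continuous (restriction along
u preserves sheaves, and u sends covering families to covering families) and fully faithful; let g
be the morphism of topoi attached to u, so that g⁻¹ is restriction along u, g_* its right adjoint
and g_! its left adjoint on abelian sheaves. Then for every abelian sheaf F on C the canonical maps
F → g⁻¹g_!F (unit) and g⁻¹g_*F → F (counit) are isomorphisms. -/
theorem result {C D : Type u} [SmallCategory C] [SmallCategory D]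
    (J : GrothendieckTopology C) (K : GrothendieckTopology D) (u : C ⥤ D)
    [u.IsCocontinuous J K] [u.IsContinuous J K] (hu : CoverPreserving J K u) [u.Full] [u.Faithful]
    (F : Sheaf J AddCommGrpCat.{u}) :
    IsIso ((u.sheafAdjunctionContinuous AddCommGrpCat.{u} J K).unit.app F) ∧
      IsIso ((u.sheafAdjunctionCocontinuous AddCommGrpCat.{u} J K).counit.app F) := by
  constructor
  · have h := Adjunction.unit_leftAdjointUniq_hom_app
      (u.sheafAdjunctionContinuous AddCommGrpCat J K)
      (Functor.sheafPullbackConstruction.sheafAdjunctionContinuous u AddCommGrpCat J K) F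
    have h1 := unit_constructed_isIso J K u F
    rw [← h] at h1
    exact IsIso.of_isIso_comp_right _
      ((u.sheafPushforwardContinuous AddCommGrpCat J K).map
        ((Adjunction.leftAdjointUniq (u.sheafAdjunctionContinuous AddCommGrpCat J K)
          (Functor.sheafPullbackConstruction.sheafAdjunctionContinuous u AddCommGrpCat J K)).hom.app F))
  · rw [← isIso_iff_of_reflects_iso _ (sheafToPresheaf _ _)]
    show IsIso ((u.sheafAdjunctionCocontinuous AddCommGrpCat J K).counit.app F).hom
    rw [Functor.sheafAdjunctionCocontinuous_counit_app_hom]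
    have : u.op.Full := inferInstance
    have : u.op.Faithful := inferInstance
    have h := Functor.reflective' (L := u.op) (H := AddCommGrpCat)
    exact NatIso.isIso_app_of_isIso _ _

end Groth.Agent.S9108
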