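import Groth.Statements.S9109
import Mathlib

set_option autoImplicit false
universe u
open CategoryTheory CategoryTheory.Limits
open CohSite

namespace Groth.Agent.S9109

/-- Part (1): on a small site (C, J) with a point p: the skyscraper functor p_* from abelian groups to
abelian sheaves on C (right adjoint to the stalk functor at p; its value on A is the sheaf U ↦ ∏_{x
∈ p⁻¹U} A) is exact. As a right adjoint it preserves limits; the statement here is that it also
preserves finite colimits. -/
theorem result {C : Type u} [SmallCategory C] {J : GrothendieckTopology C}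
    (p : GrothendieckTopology.Point.{u} J) :
    PreservesFiniteColimits (p.skyscraperSheafFunctor (A := AddCommGrpCat.{u})) := by
  have hR : PreservesFiniteLimits (p.skyscraperSheafFunctor (A := AddCommGrpCat.{u})) :=
    inferInstance
  have : (p.skyscraperSheafFunctor (A := AddCommGrpCat.{u})).Additive :=
    haveI := preservesBinaryBiproducts_of_preservesBinaryProducts
      (p.skyscraperSheafFunctor (A := AddCommGrpCat.{u}))
    Functor.additive_of_preservesBinaryBiproducts _
  rw [Functor.preservesFiniteColimits_iff_forall_exact_map_and_epi]
  intro S hS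
  refine ⟨((Functor.preservesFiniteLimits_iff_forall_exact_map_and_mono _).1 hR S hS).1, ?_⟩
  have hg : Epi S.g := hS.epi_g
  apply (sheafToPresheaf J AddCommGrpCat.{u}).epi_of_epi_map
  have key : ∀ (X : Cᵒᵖ), Epi (((sheafToPresheaf J AddCommGrpCat.{u}).map
      ((p.skyscraperSheafFunctor (A := AddCommGrpCat.{u})).map S.g)).app X) := ?_
  · exact NatTrans.epi_of_epi_app _
  intro X
  have h1 : Epi (Discrete.natTrans (F := Discrete.functor fun (_ : p.fiber.obj X.unop) => S.X₂)
      (G := Discrete.functor fun (_ : p.fiber.obj X.unop) => S.X₃) fun _ => S.g) := by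
    have : ∀ j, Epi ((Discrete.natTrans
        (F := Discrete.functor fun (_ : p.fiber.obj X.unop) => S.X₂)
        (G := Discrete.functor fun (_ : p.fiber.obj X.unop) => S.X₃) fun _ => S.g).app j) :=
      fun j => hg
    exact NatTrans.epi_of_epi_app _
  have h2 : Epi (lim.map (Discrete.natTrans
      (F := Discrete.functor fun (_ : p.fiber.obj X.unop) => S.X₂)
      (G := Discrete.functor fun (_ : p.fiber.obj X.unop) => S.X₃) fun _ => S.g)) :=
    inferInstance
  exact h2

end Groth.Agent.S9109
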