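import Groth.Statements.S9111
import Mathlib
import Mathlib
import Groth.Agent.Lib.Helper5.Misc.TensorFlat
import Groth.Agent.Lib.Helper5.Misc.SnakeMono

set_option autoImplicit false
universe u
open CategoryTheory CategoryTheory.Limits
open ModSite

open CategoryTheory CategoryTheory.Limits CategoryTheory.MonoidalCategory

namespace Groth.Agent.S9111

open MonoidalCategory

instance additive_tensorRight {C : Type u} [SmallCategory C] (O : Cᵒᵖ ⥤ CommRingCat.{u})
    (M : PresheafOfModules.{u} (O ⋙ forget₂ CommRingCat.{u} RingCat.{u})) :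
    (tensorRight M).Additive where
  map_add {P Q f g} := by
    ext1 U
    simp [MonoidalPreadditive.add_whiskerRight]
    try rfl

end Groth.Agent.S9111

namespace Groth.Agent.S9111

/-- Let C be a small category and O a presheaf of commutative rings on C. If 0 → F'' → F' → F → 0 is a
short exact sequence of presheaves of O-modules whose right-hand term F is flat (the sectionwise
tensor product functor - ⊗_{p,O} F is exact), then for every presheaf of O-modules G the tensored
sequence 0 → F'' ⊗_{p,O} G → F' ⊗_{p,O} G → F ⊗_{p,O} G → 0 is short exact. The instance binder (the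
functor - ⊗_{p,O} G preserves zero morphisms) always holds and is only needed to form the complex. -/
theorem result {C : Type u} [SmallCategory C] (O : Cᵒᵖ ⥤ CommRingCat.{u})
    (S : ShortComplex (PresheafOfModules.{u} (O ⋙ forget₂ CommRingCat.{u} RingCat.{u}))) (hS : S.ShortExact)
    (hF : PreservesFiniteLimits (MonoidalCategory.tensorRight S.X₃) ∧ PreservesFiniteColimits (MonoidalCategory.tensorRight S.X₃))
    (G : PresheafOfModules.{u} (O ⋙ forget₂ CommRingCat.{u} RingCat.{u})) [(MonoidalCategory.tensorRight G).PreservesZeroMorphisms] :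
    (S.map (MonoidalCategory.tensorRight G)).ShortExact := by
  let PMc := PresheafOfModules (O ⋙ forget₂ CommRingCat RingCat)
  -- flat cover of G
  let P : PMc := PresheafOfModules.freeObj (G.presheaf ⋙ forget Ab)
  let π : P ⟶ G := PresheafOfModules.freeObjDesc (𝟙 _)
  have hπ : Epi π := by
    apply PresheafOfModules.epi_of_surjective
    intro X m
    exact ⟨ModuleCat.freeMk m, ModuleCat.freeDesc_apply _ _⟩
  have hP : PreservesFiniteLimits (tensorRight P) := by
    refine (Groth.Agent.S9110.result O P (fun X => ?_)).1
    exact inferInstanceAs (Module.Flat (O.obj X) ((G.presheaf ⋙ forget Ab).obj X →₀ O.obj X))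
  let ι : kernel π ⟶ P := kernel.ι π
  have hιπ : ι ≫ π = 0 := kernel.condition π
  let R : ShortComplex PMc := ShortComplex.mk ι π hιπ
  have hR : R.ShortExact :=
    { exact := ShortComplex.exact_of_f_is_kernel _ (kernelIsKernel π)
      mono_f := inferInstanceAs (Mono (kernel.ι π))
      epi_g := hπ }
  let a : tensorRight (kernel π) ⟶ tensorRight P := (tensoringRight PMc).map ι
  let b : tensorRight P ⟶ tensorRight G := (tensoringRight PMc).map π
  have hab : a ≫ b = 0 := by
    show (tensoringRight PMc).map ι ≫ (tensoringRight PMc).map π = 0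
    rw [← Functor.map_comp, hιπ, Functor.map_zero]
  let v : S.map (tensorRight (kernel π)) ⟶ S.map (tensorRight P) := S.mapNatTrans a
  let p : S.map (tensorRight P) ⟶ S.map (tensorRight G) := S.mapNatTrans b
  have happ : ∀ X, a.app X ≫ b.app X = 0 := fun X => by
    rw [← NatTrans.comp_app, hab]; rfl
  have w : v ≫ p = 0 := ShortComplex.hom_ext _ _ (happ _) (happ _) (happ _)
  have hrex : ∀ (M : PMc), PreservesFiniteColimits (tensorRight M) := fun M =>
    ⟨fun K _ _ => inferInstance⟩
  have hlex : ∀ (M : PMc), PreservesFiniteColimits (tensorLeft M) := fun M =>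
    ⟨fun K _ _ => inferInstance⟩
  have h1 := (Functor.preservesFiniteColimits_iff_forall_exact_map_and_epi
    (tensorRight (kernel π))).mp (hrex _) S hS
  have h2 := (Functor.preservesFiniteLimits_iff_forall_exact_map_and_mono
    (tensorRight P)).mp hP S hS
  have h3 := (Functor.preservesFiniteColimits_iff_forall_exact_map_and_epi
    (tensorRight G)).mp (hrex _) S hS
  have : Epi (S.map (tensorRight (kernel π))).g := h1.2
  have : Mono (S.map (tensorRight P)).f := h2.2
  have hcok : ∀ X : PMc, IsColimit (CokernelCofork.ofπ (b.app X)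
      (show a.app X ≫ b.app X = 0 from happ X)) := by
    intro X
    have hc : IsColimit (CokernelCofork.ofπ R.g R.zero) := hR.gIsCokernel
    have := hlex X
    exact CokernelCofork.mapIsColimit _ hc (tensorLeft X)
  have hF1 : PreservesFiniteLimits (tensorRight S.X₃) := hF.1
  have hX₃ : PreservesFiniteLimits (tensorLeft S.X₃) :=
    preservesFiniteLimits_of_natIso (BraidedCategory.tensorLeftIsoTensorRight S.X₃).symm
  have : Mono v.τ₃ := by
    show Mono ((tensorLeft S.X₃).map ι)
    infer_instance
  have hm : Mono (S.map (tensorRight G)).f :=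
    Groth.Agent.Lib.Helper5.SnakeMono.mono_L₃_f v p w h1.1 h2.1
      (hcok S.X₁) (hcok S.X₂) (hcok S.X₃)
  exact { exact := h3.1, mono_f := hm, epi_g := h3.2 }

end Groth.Agent.S9111
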