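import Groth.Statements.S9112
import Mathlib
import Groth.Agent.Lib.Helper5.Misc.SheafModGen

set_option autoImplicit false
universe u
open CategoryTheory
open ModSite

open Groth.Agent.Lib.Helper5 CategoryTheory.Limits

namespace Groth.Agent.S9112

/-- Part (1): on a small ringed site (C, O) with O commutative, for a point p of the site: the stalk
functor F ↦ F_p from O-modules to O_p-modules is exact. Stated on a short exact sequence 0 → F₁ → F₂
→ F₃ → 0 of O-modules: the induced O_p-linear map F₁,p → F₂,p is injective, F₂,p → F₃,p is
surjective, and the range of the first is the kernel of the second. -/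
theorem result {C : Type u} [SmallCategory C] {J : GrothendieckTopology C}
    (O : Sheaf J CommRingCat.{u}) (S : ShortComplex (ModSite.Mod O)) (hS : S.ShortExact)
    (p : GrothendieckTopology.Point.{u} J) :
    Function.Injective (ModSite.stalkMap p S.f).hom ∧ Function.Surjective (ModSite.stalkMap p S.g).hom ∧
      LinearMap.range (ModSite.stalkMap p S.f).hom = LinearMap.ker (ModSite.stalkMap p S.g).hom := by
  let G : ModSite.Mod O ⥤ AddCommGrpCat.{u} :=
    SheafOfModules.toSheaf (ModSite.ringSh O) ⋙ p.sheafFiber (A := AddCommGrpCat.{u})
  have hG1 : PreservesFiniteLimits G := comp_preservesFiniteLimits _ _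
  have hG2 : PreservesFiniteColimits G := by
    have : PreservesFiniteColimits (SheafOfModules.toSheaf (ModSite.ringSh O)) := by
      have := SheafModGen.toSheaf_preservesColimits (ModSite.ringSh O)
      exact PreservesColimitsOfSize.preservesFiniteColimits _
    exact comp_preservesFiniteColimits _ _
  have : G.Additive :=
    haveI := preservesBinaryBiproducts_of_preservesBinaryProducts G
    Functor.additive_of_preservesBinaryBiproducts _
  have hSG : (S.map G).ShortExact := hS.map_of_exact G
  have hinj : Function.Injective (G.map S.f).hom :=
    (AddCommGrpCat.mono_iff_injective _).1 hSG.mono_f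
  have hsurj : Function.Surjective (G.map S.g).hom :=
    (AddCommGrpCat.epi_iff_surjective _).1 hSG.epi_g
  have hex := (ShortComplex.ab_exact_iff (S.map G)).1 hSG.exact
  refine ⟨hinj, hsurj, ?_⟩
  ext x
  constructor
  · rintro ⟨y, rfl⟩
    show (G.map S.g).hom ((G.map S.f).hom y) = 0
    have := congrArg (fun k => k.hom y) (S.map G).zero
    exact this
  · intro hx
    obtain ⟨y, hy⟩ := hex x hx
    exact ⟨y, hy⟩

end Groth.Agent.S9112
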