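import Groth.Statements.S9130
import Mathlib
import Groth.Agent.S0554
-- import your own Groth.Agent.* helpers here

set_option autoImplicit false
universe u
open CAlg

namespace Groth.Agent.S9130

namespace Aux

variable (A B : Type u) [CommRing A] [IsDomain A]
    [IsNoetherianRing A] [CommRing B] [IsDomain B] [Algebra A B] [FaithfulSMul A B]
    [Algebra.FiniteType A B] [Algebra.IsAlgebraic A B] (p : Ideal A) [p.IsPrime]

include A in
theorem height_eq_one (hp : p.height = 1) (q : Ideal B) (hq : q ∈ p.primesOver B) :
    q.height = 1 := by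
  haveI : q.IsPrime := hq.1
  haveI : q.LiesOver p := hq.2
  have h1 := Groth.Agent.S0554.result A B p q
  rw [(trdeg_eq_zero : Algebra.trdeg A B = 0), add_zero, hp] at h1
  have h2 : (q.height : Cardinal.{u}) ≤ ((1 : ℕ∞) : Cardinal.{u}) :=
    le_trans (le_add_right le_rfl) h1
  have h3 : q.height ≤ 1 := by
    exact_mod_cast h2
  have hp0 : p ≠ ⊥ := by
    intro h0
    have : p.height = 0 := by rw [Ideal.height_eq_zero_iff_eq_bot]; exact h0
    rw [hp] at this
    exact one_ne_zero this
  have hq0 : q ≠ ⊥ := Ideal.ne_bot_of_mem_primesOver hp0 hq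
  have h4 : q.height ≠ 0 := by
    rw [Ne, Ideal.height_eq_zero_iff_eq_bot]; exact hq0
  exact le_antisymm h3 (Order.one_le_iff_pos.mpr (pos_iff_ne_zero.mpr h4))

include A in
theorem main (hp : p.height = 1) :
    (p.primesOver B).Finite ∧ ∀ q ∈ p.primesOver B, q.height = 1 := by
  refine ⟨?_, fun q hq => height_eq_one A B p hp q hq⟩
  haveI : IsNoetherianRing B := Algebra.FiniteType.isNoetherianRing A B
  refine (Ideal.finite_minimalPrimes_of_isNoetherianRing B (p.map (algebraMap A B))).subset ?_
  intro q hq
  haveI : q.IsPrime := hq.1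
  haveI hlo : q.LiesOver p := hq.2
  have hle : p.map (algebraMap A B) ≤ q := by
    rw [Ideal.map_le_iff_le_comap, ← Ideal.under_def, ← hlo.over]
  refine ⟨⟨hq.1, hle⟩, ?_⟩
  rintro q' ⟨hq'prime, hq'le⟩ hq'q
  haveI := hq'prime
  -- q' lies over p
  have hq'over : q' ∈ p.primesOver B := by
    refine ⟨hq'prime, ⟨?_⟩⟩
    apply le_antisymm
    · rw [Ideal.under_def, ← Ideal.map_le_iff_le_comap]; exact hq'le
    · rw [hlo.over]
      exact Ideal.comap_mono hq'q
  have h1 := height_eq_one A B p hp q hq
  have h2 := height_eq_one A B p hp q' hq'over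
  by_contra hnle
  have hlt : q' < q := lt_of_le_not_ge hq'q hnle
  have := Ideal.height_strict_mono_of_isPrime hlt
  rw [h1, h2] at this
  exact lt_irrefl _ this

end Aux

/-- Let A ⊆ B be domains with B of finite type over A and A Noetherian, and assume every element of B is
algebraic over A. For a height-one prime p of A, only finitely many primes of B lie over p and each
of them has height one. (The published statement assumes that Frac(B) is finite over Frac(A); this
row assumes B algebraic over A, which is equivalent for a finite type extension of domains.) -/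
theorem result (A B : Type u) [CommRing A] [IsDomain A]
    [IsNoetherianRing A] [CommRing B] [IsDomain B] [Algebra A B] [FaithfulSMul A B]
    [Algebra.FiniteType A B] [Algebra.IsAlgebraic A B] (p : Ideal A) [p.IsPrime]
    (hp : p.height = 1) :
    (p.primesOver B).Finite ∧ ∀ q ∈ p.primesOver B, q.height = 1 := by
  exact Aux.main A B p hp

end Groth.Agent.S9130
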