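import Groth.Statements.S9135
import Mathlib

set_option autoImplicit false
universe u
open CAlg

namespace Groth.Agent.S9135

namespace H9135
open TensorProduct Polynomial

variable (R S : Type u) [CommRing R] [CommRing S] [Algebra R S]

/-- Step A: the fibre over `p` is finite over the residue field. -/
lemma finite_fiber [Algebra.FiniteType R S] (p : Ideal R) [p.IsPrime]
    (hfin : (p.primesOver S).Finite) : Module.Finite p.ResidueField (p.Fiber S) := by
  rw [Module.finite_iff_isArtinianRing, isArtinianRing_iff_isNoetherianRing_krullDimLE_zero]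
  have : IsJacobsonRing (p.Fiber S) := isJacobsonRing_of_finiteType (A := p.ResidueField)
  have : Finite (p.primesOver S) := hfin.to_subtype
  have : Finite (PrimeSpectrum (p.Fiber S)) :=
    Finite.of_equiv _ (PrimeSpectrum.primesOverOrderIsoFiber R S p).toEquiv
  exact ⟨Algebra.FiniteType.isNoetherianRing p.ResidueField _,
    (PrimeSpectrum.discreteTopology_iff_finite_and_krullDimLE_zero.mp inferInstance).right⟩



/-- In the localization at a minimal prime, elements of the maximal ideal are nilpotent. -/
lemma isNilpotent_of_mem_maximalIdeal (p : Ideal R) [p.IsPrime] (hp : p ∈ minimalPrimes R)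
    (a : Localization.AtPrime p) (ha : a ∈ IsLocalRing.maximalIdeal (Localization.AtPrime p)) :
    IsNilpotent a := by
  have hsub : Subsingleton (PrimeSpectrum (Localization.AtPrime p)) :=
    IsLocalization.subsingleton_primeSpectrum_of_mem_minimalPrimes p hp _
  rw [nilpotent_iff_mem_prime]
  intro J hJ
  have : (⟨J, hJ⟩ : PrimeSpectrum (Localization.AtPrime p)) =
      ⟨IsLocalRing.maximalIdeal _, inferInstance⟩ := Subsingleton.elim _ _
  have hJ' : J = IsLocalRing.maximalIdeal _ := congrArg PrimeSpectrum.asIdeal this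
  rw [hJ']
  exact ha

/-- the projection `R_p ⊗ S → κ(p) ⊗ S`. -/
noncomputable def π (p : Ideal R) [p.IsPrime] :
    (Localization.AtPrime p) ⊗[R] S →ₐ[R] p.Fiber S :=
  Algebra.TensorProduct.map (IsScalarTower.toAlgHom R (Localization.AtPrime p) p.ResidueField)
    (AlgHom.id R S)

lemma ker_π_le (p : Ideal R) [p.IsPrime] (hp : p ∈ minimalPrimes R) :
    RingHom.ker (π R S p) ≤ nilradical ((Localization.AtPrime p) ⊗[R] S) := by
  have hsurj : Function.Surjective
      (IsScalarTower.toAlgHom R (Localization.AtPrime p) p.ResidueField) :=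
    IsLocalRing.residue_surjective
  rw [π, Algebra.TensorProduct.rTensor_ker _ hsurj, Ideal.map_le_iff_le_comap]
  intro a ha
  rw [Ideal.mem_comap, mem_nilradical]
  refine IsNilpotent.map (isNilpotent_of_mem_maximalIdeal R p hp a ?_) _
  rw [← IsLocalRing.ker_residue]
  exact ha



lemma π_comp (p : Ideal R) [p.IsPrime] :
    (π R S p : (Localization.AtPrime p) ⊗[R] S →+* p.Fiber S).comp
      (algebraMap (Localization.AtPrime p) ((Localization.AtPrime p) ⊗[R] S)) =
    (algebraMap p.ResidueField (p.Fiber S)).comp
      (algebraMap (Localization.AtPrime p) p.ResidueField) := by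
  ext a
  simp [π, Algebra.TensorProduct.algebraMap_apply]

/-- Step B. -/
lemma isIntegral_tmul [Algebra.FiniteType R S] (p : Ideal R) [p.IsPrime]
    (hp : p ∈ minimalPrimes R) (hfin : (p.primesOver S).Finite) (x : S) :
    IsIntegral (Localization.AtPrime p) ((1 : Localization.AtPrime p) ⊗ₜ[R] x) := by
  have hF := finite_fiber R S p hfin
  have hint : IsIntegral p.ResidueField ((1 : p.ResidueField) ⊗ₜ[R] x : p.Fiber S) :=
    Algebra.IsIntegral.isIntegral _
  obtain ⟨G, hGm, hG⟩ := hint
  have hsurj : Function.Surjective (algebraMap (Localization.AtPrime p) p.ResidueField) :=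
    IsLocalRing.residue_surjective
  obtain ⟨G', hG'map, -, hG'm⟩ := Polynomial.lifts_and_natDegree_eq_and_monic
    (Polynomial.mem_lifts_of_surjective hsurj G) hGm
  set z : (Localization.AtPrime p) ⊗[R] S := (1 : Localization.AtPrime p) ⊗ₜ[R] x with hz
  set w := Polynomial.eval₂ (algebraMap (Localization.AtPrime p) _) z G' with hw
  have hπw : π R S p w = 0 := by
    have h1 : π R S p w = Polynomial.eval₂ ((π R S p : (Localization.AtPrime p) ⊗[R] S →+*
        p.Fiber S).comp (algebraMap (Localization.AtPrime p) _)) (π R S p z) G' :=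
      Polynomial.hom_eval₂ G' _ (π R S p : (Localization.AtPrime p) ⊗[R] S →+* p.Fiber S) z
    rw [h1, π_comp, ← Polynomial.eval₂_map, hG'map]
    have : π R S p z = (1 : p.ResidueField) ⊗ₜ[R] x := by simp [π, hz]
    rw [this]
    exact hG
  have hnil : IsNilpotent w := ker_π_le R S p hp hπw
  obtain ⟨N, hN⟩ := hnil
  refine ⟨G' ^ N, hG'm.pow N, ?_⟩
  rw [Polynomial.eval₂_pow]
  exact hN



attribute [local instance] Algebra.TensorProduct.rightAlgebra in
/-- Step C. -/
lemma exists_smul_integral [Algebra.FiniteType R S] (p : Ideal R) [p.IsPrime]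
    (hp : p ∈ minimalPrimes R) (hfin : (p.primesOver S).Finite) (x : S) :
    ∃ g : R, g ∉ p ∧ IsIntegral R (g • x) := by
  have h1 := isIntegral_tmul R S p hp hfin x
  obtain ⟨m, hm⟩ := IsIntegral.exists_multiple_integral_of_isLocalization p.primeCompl
    ((1 : Localization.AtPrime p) ⊗ₜ[R] x) h1
  have hloc : IsLocalization (Algebra.algebraMapSubmonoid S p.primeCompl)
      ((Localization.AtPrime p) ⊗[R] S) :=
    (Algebra.isLocalization_iff_isPushout p.primeCompl (Localization.AtPrime p)).mpr inferInstance
  have h2 : IsIntegral R (algebraMap S ((Localization.AtPrime p) ⊗[R] S) ((m : R) • x)) := by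
    have : algebraMap S ((Localization.AtPrime p) ⊗[R] S) ((m : R) • x) =
        m • ((1 : Localization.AtPrime p) ⊗ₜ[R] x) := by
      rw [Algebra.TensorProduct.right_algebraMap_apply, Submonoid.smul_def, TensorProduct.tmul_smul]
    rw [this]
    exact hm
  obtain ⟨m', hm', h3⟩ := IsLocalization.exists_isIntegral_smul_of_isIntegral_map p.primeCompl h2
  refine ⟨m' * m, p.primeCompl.mul_mem hm' m.2, ?_⟩
  rwa [mul_smul]



/-- Step D. -/
lemma exists_common [Algebra.FiniteType R S] (p : Ideal R) [p.IsPrime]
    (hp : p ∈ minimalPrimes R) (hfin : (p.primesOver S).Finite) (s : Finset S) :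
    ∃ g : R, g ∉ p ∧ ∀ x ∈ s, IsIntegral R (g • x) := by
  classical
  induction s using Finset.induction_on with
  | empty => exact ⟨1, p.primeCompl.one_mem, by simp⟩
  | insert a s ha ih =>
    obtain ⟨g, hg, h⟩ := ih
    obtain ⟨g', hg', h'⟩ := exists_smul_integral R S p hp hfin a
    refine ⟨g * g', p.primeCompl.mul_mem hg hg', ?_⟩
    intro x hx
    rw [Finset.mem_insert] at hx
    rcases hx with rfl | hx
    · rw [mul_smul]; exact h'.smul g
    · rw [mul_comm, mul_smul]; exact (h x hx).smul g'

/-- Step E. -/
lemma awayMap_isIntegral (g : R) (s : Set S) (hs : Algebra.adjoin R s = ⊤)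
    (h : ∀ x ∈ s, IsIntegral R (g • x)) :
    (Localization.awayMap (algebraMap R S) g).IsIntegral := by
  set φ := Localization.awayMap (algebraMap R S) g with hφ
  set ιS := algebraMap S (Localization.Away (algebraMap R S g)) with hιS
  set ιR := algebraMap R (Localization.Away g) with hιR
  have hcomp : φ.comp ιR = ιS.comp (algebraMap R S) := IsLocalization.map_comp _
  have hi : ∀ y : S, IsIntegral R y → φ.IsIntegralElem (ιS y) := by
    rintro y ⟨P, hPm, hP⟩
    refine ⟨P.map ιR, hPm.map _, ?_⟩
    rw [Polynomial.eval₂_map, hcomp, ← Polynomial.hom_eval₂, hP, map_zero]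
  have hunit : ∀ n : ℕ, φ (IsLocalization.mk' _ 1 (⟨g ^ n, n, rfl⟩ : Submonoid.powers g)) *
      ιS (algebraMap R S g ^ n) = 1 := by
    intro n
    have : ιS (algebraMap R S g ^ n) = φ (ιR (g ^ n)) := by
      rw [← map_pow]
      exact (RingHom.congr_fun hcomp (g ^ n)).symm
    rw [this, ← map_mul]
    have := IsLocalization.mk'_spec (Localization.Away g) (1 : R)
      (⟨g ^ n, n, rfl⟩ : Submonoid.powers g)
    rw [this, map_one, map_one]
  have hgen : ∀ x ∈ s, φ.IsIntegralElem (ιS x) := by
    intro x hx
    have h1 := hi _ (h x hx)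
    have h2 : ιS x = φ (IsLocalization.mk' _ 1 (⟨g ^ 1, 1, rfl⟩ : Submonoid.powers g)) *
        ιS (g • x) := by
      rw [Algebra.smul_def, map_mul, ← mul_assoc]
      have := hunit 1
      have e : algebraMap R S g ^ 1 = algebraMap R S g := pow_one _
      rw [e] at this
      rw [this, one_mul]
    rw [h2]
    exact RingHom.IsIntegralElem.mul φ (φ.isIntegralElem_map) h1
  have hall : ∀ y : S, φ.IsIntegralElem (ιS y) := by
    intro y
    have hy : y ∈ Algebra.adjoin R s := hs ▸ Algebra.mem_top
    induction hy using Algebra.adjoin_induction with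
    | mem x hx => exact hgen x hx
    | algebraMap r =>
      have : ιS (algebraMap R S r) = φ (ιR r) := (RingHom.congr_fun hcomp r).symm
      rw [this]
      exact φ.isIntegralElem_map
    | add x y _ _ hx hy => rw [map_add]; exact RingHom.IsIntegralElem.add φ hx hy
    | mul x y _ _ hx hy => rw [map_mul]; exact RingHom.IsIntegralElem.mul φ hx hy
  intro z
  obtain ⟨y, ⟨_, n, rfl⟩, rfl⟩ := IsLocalization.exists_mk'_eq
    (Submonoid.powers (algebraMap R S g)) z
  have : IsLocalization.mk' (Localization.Away (algebraMap R S g)) y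
      (⟨algebraMap R S g ^ n, n, rfl⟩ : Submonoid.powers (algebraMap R S g)) =
      φ (IsLocalization.mk' _ 1 (⟨g ^ n, n, rfl⟩ : Submonoid.powers g)) * ιS y := by
    rw [IsLocalization.mk'_eq_iff_eq_mul]
    rw [mul_assoc, mul_comm (ιS y), ← mul_assoc]
    change ιS y = _ * ιS (algebraMap R S g ^ n) * _
    rw [hunit n, one_mul]
  rw [this]
  exact RingHom.IsIntegralElem.mul φ (φ.isIntegralElem_map) (hall y)

theorem main [Algebra.FiniteType R S] (p : Ideal R) (hp : p ∈ minimalPrimes R)
    (hfin : (p.primesOver S).Finite) :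
    ∃ g : R, g ∉ p ∧ (Localization.awayMap (algebraMap R S) g).Finite := by
  have : p.IsPrime := hp.1.1
  obtain ⟨s, hs⟩ := (Algebra.FiniteType.out : (⊤ : Subalgebra R S).FG)
  obtain ⟨g, hg, h⟩ := exists_common R S p hp hfin s
  refine ⟨g, hg, RingHom.finite_iff_isIntegral_and_finiteType.mpr ⟨?_, ?_⟩⟩
  · exact awayMap_isIntegral R S g (s : Set S) hs (fun x hx => h x hx)
  · exact RingHom.localization_away_map_finiteType R S _ _ (algebraMap R S) g
      (RingHom.finiteType_algebraMap.mpr inferInstance)

end H9135

/-- Let R → S be of finite type and p a minimal prime of R over which only finitely many primes of S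
lie. Then for some g ∈ R outside p the localized map R_g → S_g is finite. -/
theorem result (R S : Type u) [CommRing R] [CommRing S]
    [Algebra R S] [Algebra.FiniteType R S] (p : Ideal R) (hp : p ∈ minimalPrimes R)
    (hfin : (p.primesOver S).Finite) :
    ∃ g : R, g ∉ p ∧ (Localization.awayMap (algebraMap R S) g).Finite := by
  exact H9135.main R S p hp hfin

end Groth.Agent.S9135
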