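import Groth.Statements.S9139
import Mathlib

set_option autoImplicit false
universe u
open CAlg

namespace Groth.Agent.S9139

/-- Let I be a locally nilpotent ideal of a ring R (every element of I is nilpotent) and S → S' a map of
R-algebras with S' of finite type over R. If S → S'/IS' is surjective then so is S → S'. -/
theorem result (R S S' : Type u) [CommRing R] [CommRing S]
    [CommRing S'] [Algebra R S] [Algebra R S'] [Algebra.FiniteType R S'] (I : Ideal R)
    (hI : ∀ x ∈ I, IsNilpotent x) (f : S →ₐ[R] S')
    (hf : Function.Surjective ((Ideal.Quotient.mk (I.map (algebraMap R S'))).comp f.toRingHom)) :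
    Function.Surjective f := by
  letI : Algebra S S' := f.toRingHom.toAlgebra
  haveI : IsScalarTower R S S' := IsScalarTower.of_algebraMap_eq (fun r => (f.commutes r).symm)
  have hfs : ∀ s : S, algebraMap S S' s = f s := fun s => rfl
  have hJnil : I.map (algebraMap R S') ≤ nilradical S' := by
    rw [Ideal.map, Ideal.span_le]
    rintro _ ⟨a, ha, rfl⟩
    exact (hI a ha).map _
  have hmem : ∀ x' : S', ∃ s : S, x' - f s ∈ I.map (algebraMap R S') := by
    intro x'
    obtain ⟨s, hs⟩ := hf (Ideal.Quotient.mk _ x')
    refine ⟨s, ?_⟩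
    rw [← Ideal.Quotient.eq]
    exact hs.symm
  haveI : Algebra.IsIntegral S S' := ⟨fun x' => by
    obtain ⟨s, hs⟩ := hmem x'
    have h1 : IsIntegral S (f s) := by rw [← hfs]; exact isIntegral_algebraMap
    have h2 : IsIntegral S (x' - f s) := by
      obtain ⟨n, hn⟩ := hJnil hs
      have hn' : (x' - f s) ^ (n + 1) = 0 := by rw [pow_succ, hn, zero_mul]
      refine IsIntegral.of_pow (Nat.succ_pos n) ?_
      rw [hn']
      exact isIntegral_zero
    have := h2.add h1
    simpa using this⟩
  haveI : Algebra.FiniteType S S' := Algebra.FiniteType.of_restrictScalars_finiteType R S S'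
  haveI : Module.Finite S S' := Algebra.IsIntegral.finite
  have key : (⊤ : Submodule S S') ≤ Submodule.span S {1} := by
    apply Submodule.le_of_le_smul_of_le_jacobson_bot (I := I.map (algebraMap R S))
      Module.Finite.fg_top
    · refine le_trans ?_ Ideal.radical_le_jacobson
      rw [Ideal.map, Ideal.span_le]
      rintro _ ⟨a, ha, rfl⟩
      exact (hI a ha).map _
    · intro x' _
      obtain ⟨s, hs⟩ := hmem x'
      rw [Submodule.mem_sup]
      refine ⟨f s, ?_, x' - f s, ?_, by abel⟩
      · have : f s = s • (1 : S') := by rw [Algebra.smul_def, mul_one]; rfl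
        rw [this]
        exact Submodule.smul_mem _ _ (Submodule.subset_span rfl)
      · rw [Ideal.smul_top_eq_map]
        show x' - f s ∈ (I.map (algebraMap R S)).map (algebraMap S S')
        rw [Ideal.map_map, ← IsScalarTower.algebraMap_eq]
        exact hs
  intro x'
  obtain ⟨s, hs⟩ := Submodule.mem_span_singleton.mp (key (Submodule.mem_top : x' ∈ ⊤))
  refine ⟨s, ?_⟩
  rw [← hs, Algebra.smul_def, mul_one]
  rfl

end Groth.Agent.S9139
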