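import Groth.Statements.S9140
import Mathlib

set_option autoImplicit false
universe u
open CAlg

namespace Groth.Agent.S9140

open TensorProduct
namespace H9140

/-- flat quotient: `ker g ∩ I M = I ker g` -/
theorem mem_smul_ker_of_flat {R M N : Type u} [CommRing R] [AddCommGroup M] [Module R M]
    [AddCommGroup N] [Module R N] (g : M →ₗ[R] N) (hg : Function.Surjective g) [Module.Flat R N]
    (I : Ideal R) (x : M) (hx : g x = 0) (hxI : x ∈ I • (⊤ : Submodule R M)) :
    x ∈ I • LinearMap.ker g := by
  set K := LinearMap.ker g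
  have hi : Function.Injective K.subtype := K.injective_subtype
  have hex : Function.Exact K.subtype g := by
    intro y
    constructor
    · intro hy; exact ⟨⟨y, hy⟩, rfl⟩
    · rintro ⟨z, rfl⟩; exact z.2
  have hinj := LinearMap.lTensor_injective_of_exact_of_flat g hg K.subtype hi hex (R ⧸ I)
  have h0 : ∀ y ∈ I • (⊤ : Submodule R M), ((1 : R ⧸ I) ⊗ₜ[R] y) = 0 := by
    intro y hy
    refine Submodule.smul_induction_on hy (fun a ha m _ => ?_) (fun y z hy hz => ?_)
    · rw [← TensorProduct.smul_tmul, Algebra.smul_def, mul_one]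
      have : algebraMap R (R ⧸ I) a = 0 := Ideal.Quotient.eq_zero_iff_mem.mpr ha
      rw [this, TensorProduct.zero_tmul]
    · rw [TensorProduct.tmul_add, hy, hz, add_zero]
  have hξ : ((1 : R ⧸ I) ⊗ₜ[R] (⟨x, hx⟩ : K)) = 0 := by
    apply hinj
    rw [LinearMap.lTensor_tmul, map_zero]
    exact h0 x hxI
  have h1 := congrArg (TensorProduct.quotTensorEquivQuotSMul K I) hξ
  rw [TensorProduct.quotTensorEquivQuotSMul_mk_one_tmul, map_zero,
    Submodule.Quotient.mk_eq_zero] at h1
  have h2 : K.subtype ⟨x, hx⟩ ∈ (I • (⊤ : Submodule R K)).map K.subtype :=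
    Submodule.mem_map_of_mem h1
  rw [Submodule.map_smul'', Submodule.map_subtype_top] at h2
  exact h2


theorem exists_finset (R S' : Type u) [CommRing R] [CommRing S'] [Algebra R S'] (I : Ideal R) (z : S')
    (hz : z ∈ I.map (algebraMap R S')) :
    ∃ T₀ : Finset R, (↑T₀ : Set R) ⊆ I ∧ z ∈ (Ideal.span (↑T₀ : Set R)).map (algebraMap R S') := by
  classical
  unfold Ideal.map at hz
  obtain ⟨T, hT, hzT⟩ := Submodule.mem_span_finite_of_mem_span hz
  obtain ⟨T₀, hT₀, rfl⟩ := Finset.subset_set_image_iff.mp hT
  refine ⟨T₀, hT₀, ?_⟩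
  rw [Ideal.map_span]
  convert hzT
  simp

theorem surj (R S S' : Type u) [CommRing R] [CommRing S] [CommRing S'] [Algebra R S] [Algebra R S']
    [Algebra.FiniteType R S'] (I : Ideal R) (hI : ∀ x ∈ I, IsNilpotent x)
    (f : S →ₐ[R] S')
    (hsurj : Function.Surjective ((Ideal.Quotient.mk (I.map (algebraMap R S'))).comp f.toRingHom)) :
    Function.Surjective f := by
  classical
  have hA : ∀ y : S', ∃ s : S, y - f s ∈ I.map (algebraMap R S') := by
    intro y
    obtain ⟨s, hs⟩ := hsurj (Ideal.Quotient.mk _ y)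
    refine ⟨s, ?_⟩
    rw [← Ideal.Quotient.eq]
    exact hs.symm
  have hB : ∀ y : S', ∃ (s : S) (T₀ : Finset R), (↑T₀ : Set R) ⊆ I ∧
      y - f s ∈ (Ideal.span (↑T₀ : Set R)).map (algebraMap R S') := by
    intro y
    obtain ⟨s, hs⟩ := hA y
    obtain ⟨T₀, h1, h2⟩ := exists_finset R S' I _ hs
    exact ⟨s, T₀, h1, h2⟩
  choose sg Tg hTg1 hTg2 using hB
  obtain ⟨G, hG⟩ := (Algebra.FiniteType.out : (⊤ : Subalgebra R S').FG)
  set I₀ : Ideal R := Ideal.span (↑(G.biUnion Tg) : Set R) with hI₀
  have hI₀le : I₀ ≤ I := by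
    rw [hI₀, Ideal.span_le]
    intro x hx
    rw [Finset.mem_coe, Finset.mem_biUnion] at hx
    obtain ⟨g, -, hxg⟩ := hx
    exact hTg1 g hxg
  have hI₀fg : I₀.FG := ⟨_, rfl⟩
  have hgen : ∀ g ∈ G, g - f (sg g) ∈ I₀.map (algebraMap R S') := by
    intro g hg
    refine Ideal.map_mono ?_ (hTg2 g)
    apply Ideal.span_mono
    intro x hx
    rw [Finset.mem_coe, Finset.mem_biUnion]
    exact ⟨g, hg, hx⟩
  have hD : ∀ y : S', ∃ s : S, y - f s ∈ I₀.map (algebraMap R S') := by
    intro y
    have hy : y ∈ Algebra.adjoin R (↑G : Set S') := by rw [hG]; trivial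
    induction hy using Algebra.adjoin_induction with
    | mem g hg => exact ⟨sg g, hgen g hg⟩
    | algebraMap r =>
      refine ⟨algebraMap R S r, ?_⟩
      rw [f.commutes, sub_self]
      exact Ideal.zero_mem _
    | add y z _ _ hy hz =>
      obtain ⟨s, hs⟩ := hy
      obtain ⟨t, ht⟩ := hz
      refine ⟨s + t, ?_⟩
      have : y + z - f (s + t) = (y - f s) + (z - f t) := by rw [map_add]; ring
      rw [this]
      exact Ideal.add_mem _ hs ht
    | mul y z _ _ hy hz =>
      obtain ⟨s, hs⟩ := hy
      obtain ⟨t, ht⟩ := hz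
      refine ⟨s * t, ?_⟩
      have : y * z - f (s * t) = (y - f s) * z + f s * (z - f t) := by rw [map_mul]; ring
      rw [this]
      exact Ideal.add_mem _ (Ideal.mul_mem_right _ _ hs) (Ideal.mul_mem_left _ _ ht)
  have hE : ∀ n : ℕ, ∀ y : S', ∃ s : S, y - f s ∈ (I₀ ^ n).map (algebraMap R S') := by
    intro n
    induction n with
    | zero =>
      intro y
      refine ⟨0, ?_⟩
      rw [pow_zero, Ideal.one_eq_top, Ideal.map_top]
      trivial
    | succ n ih =>
      have key : ∀ z ∈ (I₀ ^ n).map (algebraMap R S'),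
          ∃ s : S, z - f s ∈ (I₀ ^ (n + 1)).map (algebraMap R S') := by
        intro z hz
        unfold Ideal.map at hz
        induction hz using Submodule.span_induction with
        | mem z hz =>
          obtain ⟨i, hi, rfl⟩ := hz
          refine ⟨algebraMap R S i, ?_⟩
          rw [f.commutes, sub_self]
          exact Ideal.zero_mem _
        | zero => exact ⟨0, by rw [map_zero, sub_self]; exact Ideal.zero_mem _⟩
        | add y z _ _ hy hz =>
          obtain ⟨s, hs⟩ := hy
          obtain ⟨t, ht⟩ := hz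
          refine ⟨s + t, ?_⟩
          have : y + z - f (s + t) = (y - f s) + (z - f t) := by rw [map_add]; ring
          rw [this]
          exact Ideal.add_mem _ hs ht
        | smul a z hzmem hz =>
          obtain ⟨s, hs⟩ := hz
          obtain ⟨sa, hsa⟩ := hD a
          refine ⟨sa * s, ?_⟩
          have hzK : z ∈ (I₀ ^ n).map (algebraMap R S') := hzmem
          have : a • z - f (sa * s) = f sa * (z - f s) + (a - f sa) * z := by
            rw [map_mul, smul_eq_mul]; ring
          rw [this]
          refine Ideal.add_mem _ (Ideal.mul_mem_left _ _ hs) ?_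
          have h1 : (a - f sa) * z ∈ I₀.map (algebraMap R S') * (I₀ ^ n).map (algebraMap R S') :=
            Ideal.mul_mem_mul hsa hzK
          rw [← Ideal.map_mul, ← pow_succ'] at h1
          exact h1
      intro y
      obtain ⟨s, hs⟩ := ih y
      obtain ⟨t, ht⟩ := key _ hs
      refine ⟨s + t, ?_⟩
      have : y - f (s + t) = (y - f s) - f t := by rw [map_add]; ring
      rw [this]
      exact ht
  have hrad : I₀ ≤ (⊥ : Ideal R).radical := by
    intro x hx
    obtain ⟨k, hk⟩ := hI x (hI₀le hx)
    exact ⟨k, by rw [hk]; exact Ideal.zero_mem _⟩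
  obtain ⟨n, hn⟩ := Ideal.exists_pow_le_of_le_radical_of_fg hrad hI₀fg
  intro y
  obtain ⟨s, hs⟩ := hE n y
  have : (I₀ ^ n).map (algebraMap R S') ≤ ⊥ := by
    refine (Ideal.map_mono hn).trans ?_
    rw [Ideal.map_bot]
  have h0 := this hs
  rw [Ideal.mem_bot, sub_eq_zero] at h0
  exact ⟨s, h0.symm⟩


theorem main (R S S' : Type u)
    [CommRing R] [CommRing S] [CommRing S'] [Algebra R S] [Algebra R S'] [Algebra.FiniteType R S]
    [Algebra.FinitePresentation R S'] [Module.Flat R S'] (I : Ideal R) (hI : ∀ x ∈ I, IsNilpotent x)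
    (f : S →ₐ[R] S')
    (hsurj : Function.Surjective ((Ideal.Quotient.mk (I.map (algebraMap R S'))).comp f.toRingHom))
    (hker : ∀ s : S, f s ∈ I.map (algebraMap R S') → s ∈ I.map (algebraMap R S)) :
    Function.Bijective f := by
  have hs : Function.Surjective f := surj R S S' I hI f hsurj
  refine ⟨?_, hs⟩
  set L : Ideal S := RingHom.ker f.toRingHom with hL
  -- L is finitely generated
  have hLfg : L.FG := by
    let _ : Algebra S S' := f.toRingHom.toAlgebra
    have : IsScalarTower R S S' := IsScalarTower.of_algebraMap_eq (fun r => (f.commutes r).symm)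
    have : Algebra.FinitePresentation S S' :=
      Algebra.FinitePresentation.of_restrict_scalars_finitePresentation R S S'
    have := Algebra.FinitePresentation.ker_fG_of_surjective (Algebra.ofId S S') hs
    exact this
  -- L ≤ IS • L
  have hle : L ≤ (I.map (algebraMap R S)) • L := by
    intro x hx
    have hfx : f x = 0 := hx
    have hxI : x ∈ I.map (algebraMap R S) := hker x (by rw [hfx]; exact Ideal.zero_mem _)
    have hxI' : x ∈ I • (⊤ : Submodule R S) := by
      rw [Ideal.smul_top_eq_map]; exact hxI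
    have hs' : Function.Surjective f.toLinearMap := hs
    have hfx' : f.toLinearMap x = 0 := hfx
    have h1 : x ∈ I • LinearMap.ker f.toLinearMap :=
      mem_smul_ker_of_flat f.toLinearMap hs' I x hfx' hxI'
    refine Submodule.smul_induction_on h1 (fun a ha l hl => ?_) (fun y z hy hz => ?_)
    · have hl' : l ∈ L := hl
      have h2 : algebraMap R S a • l ∈ (I.map (algebraMap R S)) • L :=
        Submodule.smul_mem_smul (Ideal.mem_map_of_mem (algebraMap R S) ha) hl'
      have h3 : a • l = algebraMap R S a • l := by rw [Algebra.smul_def, smul_eq_mul]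
      rw [h3]
      exact h2
    · exact Submodule.add_mem _ hy hz
  have hjac : I.map (algebraMap R S) ≤ Ideal.jacobson ⊥ := by
    refine le_trans ?_ (Ideal.radical_le_jacobson)
    rw [Ideal.map, Ideal.span_le]
    rintro _ ⟨i, hi, rfl⟩
    obtain ⟨k, hk⟩ := hI i hi
    exact ⟨k, by rw [← map_pow, hk, map_zero]; exact Ideal.zero_mem _⟩
  have hbot : L = ⊥ := Submodule.eq_bot_of_le_smul_of_le_jacobson_bot _ L hLfg hle hjac
  exact (RingHom.injective_iff_ker_eq_bot f.toRingHom).mpr hbot

end H9140

/-- Let I be a locally nilpotent ideal of a ring R and S → S' a map of R-algebras with S of finite type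
over R and S' of finite presentation and flat over R. If the induced map S/IS → S'/IS' is bijective
(stated as: S → S'/IS' is surjective with kernel IS), then S → S' is bijective. -/
theorem result (R S S' : Type u)
    [CommRing R] [CommRing S] [CommRing S'] [Algebra R S] [Algebra R S'] [Algebra.FiniteType R S]
    [Algebra.FinitePresentation R S'] [Module.Flat R S'] (I : Ideal R) (hI : ∀ x ∈ I, IsNilpotent x)
    (f : S →ₐ[R] S')
    (hsurj : Function.Surjective ((Ideal.Quotient.mk (I.map (algebraMap R S'))).comp f.toRingHom))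
    (hker : ∀ s : S, f s ∈ I.map (algebraMap R S') → s ∈ I.map (algebraMap R S)) :
    Function.Bijective f := by
  exact H9140.main R S S' I hI f hsurj hker

end Groth.Agent.S9140
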