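import Groth.Statements.S9144
import Groth.Agent.Lib.Helper2.Synt.CIOverFT


set_option autoImplicit false
universe u
open Synt

namespace Groth.Agent.S9144

/-- For a finite type algebra S over a field k and a prime q of S, the local ring S_q is a complete
intersection over k if and only if some basic open neighbourhood S_g (g ∉ q) is a local complete
intersection over k, if and only if some S_g (g ∉ q) is a global complete intersection over k. -/
theorem result (k S : Type u) [Field k] [CommRing S] [Algebra k S]
    [Algebra.FiniteType k S] (q : Ideal S) [q.IsPrime] :
    (Synt.IsCIOver k (Localization.AtPrime q) ↔ ∃ g : S, g ∉ q ∧ Synt.IsLCIOver k (Localization.Away g)) ∧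
      (Synt.IsCIOver k (Localization.AtPrime q) ↔
        ∃ g : S, g ∉ q ∧ Synt.IsGlobalCI k (Localization.Away g)) := by
  have h1 := Groth.Agent.Helper2.Synt.isCIOver_atPrime_iff_exists_away_of_finiteType k S q
  exact ⟨h1.trans (Groth.Agent.Helper2.Synt.exists_away_lci_iff_exists_away_globalCI k S q).symm, h1⟩

end Groth.Agent.S9144
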