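import Groth.Statements.S9145
import Groth.Agent.Lib.Helper2.Synt.CIOverFT


set_option autoImplicit false
universe u
open Synt

namespace Groth.Agent.S9145

/-- A finite type algebra S over a field k is a local complete intersection over k if and only if all
its local rings at primes (equivalently, at maximal ideals) are complete intersections over k. -/
theorem result (k S : Type u) [Field k] [CommRing S] [Algebra k S]
    [Algebra.FiniteType k S] :
    (Synt.IsLCIOver k S ↔ ∀ p : PrimeSpectrum S, Synt.IsCIOver k (Localization.AtPrime p.asIdeal)) ∧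
      (Synt.IsLCIOver k S ↔
        ∀ m : MaximalSpectrum S, Synt.IsCIOver k (Localization.AtPrime m.asIdeal)) := by
  have key : ∀ p : PrimeSpectrum S, Synt.IsCIOver k (Localization.AtPrime p.asIdeal) ↔
      ∃ g : S, g ∉ p.asIdeal ∧ Synt.IsGlobalCI k (Localization.Away g) := fun p =>
    Groth.Agent.Helper2.Synt.isCIOver_atPrime_iff_exists_away_of_finiteType k S p.asIdeal
  have h1 : Synt.IsLCIOver k S ↔
      ∀ p : PrimeSpectrum S, Synt.IsCIOver k (Localization.AtPrime p.asIdeal) := by
    constructor
    · rintro ⟨-, h⟩ p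
      exact (key p).mpr (h p)
    · intro h
      exact ⟨inferInstance, fun p => (key p).mp (h p)⟩
  refine ⟨h1, ?_⟩
  constructor
  · intro h m
    exact (h1.mp h) ⟨m.asIdeal, m.isMaximal.isPrime⟩
  · intro h
    refine ⟨inferInstance, fun p => ?_⟩
    obtain ⟨m, hm, hpm⟩ := Ideal.exists_le_maximal p.asIdeal p.isPrime.ne_top
    obtain ⟨g, hg, hci⟩ := (key ⟨m, hm.isPrime⟩).mp (h ⟨m, hm⟩)
    exact ⟨g, fun hgp => hg (hpm hgp), hci⟩

end Groth.Agent.S9145
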