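import Groth.Statements.S9152
import Groth.Agent.Lib.Helper2.CM.OpenLocus
import Groth.Agent.Lib.Helper4.StalkClosedPt1


set_option autoImplicit false
universe u
open CAlg

namespace Groth.Agent.S9152

/-- The Cohen–Macaulay locus of a finite type algebra over a field is open. -/
theorem result (k S : Type u) [Field k] [CommRing S] [Algebra k S]
    [Algebra.FiniteType k S] :
    IsOpen {q : PrimeSpectrum S | LocCoh.IsCohenMacaulayLocalRing (Localization.AtPrime q.asIdeal)} := by
  obtain ⟨n, f, hf⟩ := Algebra.FiniteType.iff_quotient_mvPolynomial''.mp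
    (inferInstance : Algebra.FiniteType k S)
  have hopen := Groth.Agent.Helper2.CM.isOpen_cm_locus (MvPolynomial (Fin n) k)
    (RingHom.ker f.toRingHom) n (by
      rw [MvPolynomial.ringKrullDim_of_isNoetherianRing, ringKrullDim_eq_zero_of_field]
      simp)
  let e : (MvPolynomial (Fin n) k ⧸ RingHom.ker f.toRingHom) ≃+* S :=
    RingHom.quotientKerEquivOfSurjective hf
  have hpre := hopen.preimage (PrimeSpectrum.continuous_comap e.toRingHom)
  convert hpre using 1
  ext q
  rw [Set.mem_preimage, Set.mem_ofPred_eq, Set.mem_ofPred_eq]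
  have hH : ((q.asIdeal.comap e.toRingHom).primeCompl).map e.toMonoidHom =
      q.asIdeal.primeCompl := e.map_primeCompl_comap_eq q.asIdeal
  let eloc : Localization.AtPrime (q.asIdeal.comap e.toRingHom) ≃+*
      Localization.AtPrime q.asIdeal :=
    IsLocalization.ringEquivOfRingEquiv _ _ e hH
  constructor
  · intro h
    exact Groth.Agent.Lib.Helper4.StalkClosedPt1.cm_of_ringEquiv _ _ eloc.symm h
  · intro h
    exact Groth.Agent.Lib.Helper4.StalkClosedPt1.cm_of_ringEquiv _ _ eloc h

end Groth.Agent.S9152
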