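import Groth.Statements.S9153
import Mathlib
import Groth.Agent.Lib.Helper4.DimFT2
-- import your own Groth.Agent.* helpers here

set_option autoImplicit false
universe u
open CAlg

namespace Groth.Agent.S9153

namespace Aux
open Groth.Agent.Lib.Helper4.DimFT1 Groth.Agent.Lib.Helper4.DimFT2

variable (k : Type u) [Field k] (n : ℕ)

theorem height_map_eq_one (P Q : PrimeSpectrum (MvPolynomial (Fin n) k)) (h : P ⋖ Q) :
    (Q.asIdeal.map (Ideal.Quotient.mk P.asIdeal)).height = 1 := by
  have hPQ : P.asIdeal ≤ Q.asIdeal := h.lt.le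
  have := isPrime_map_mk P.asIdeal Q.asIdeal hPQ
  apply le_antisymm
  · have : (Q.asIdeal.map (Ideal.Quotient.mk P.asIdeal)).height ≤ ((1 : ℕ) : ℕ∞) := by
      rw [Ideal.height_le_iff]
      intro J hJ hJlt
      have hJ0 : J = ⊥ := by
        by_contra hne
        -- the preimage of `J` lies strictly between `P` and `Q`
        let J' : PrimeSpectrum (MvPolynomial (Fin n) k) :=
          ⟨J.comap (Ideal.Quotient.mk P.asIdeal), Ideal.comap_isPrime _ _⟩
        have h1 : P < J' := by
          rw [lt_iff_le_and_ne]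
          refine ⟨?_, ?_⟩
          · show P.asIdeal ≤ J.comap (Ideal.Quotient.mk P.asIdeal)
            intro x hx
            rw [Ideal.mem_comap, Ideal.Quotient.eq_zero_iff_mem.mpr hx]
            exact J.zero_mem
          · intro heq
            apply hne
            rw [eq_bot_iff]
            intro y hy
            obtain ⟨x, rfl⟩ := Ideal.Quotient.mk_surjective y
            have : x ∈ J'.asIdeal := hy
            rw [← heq] at this
            rw [Ideal.mem_bot, Ideal.Quotient.eq_zero_iff_mem]
            exact this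
        have h2 : J' < Q := by
          rw [lt_iff_le_not_ge]
          have hcm := comap_map_mk' P.asIdeal Q.asIdeal hPQ
          refine ⟨?_, ?_⟩
          · show J.comap _ ≤ Q.asIdeal
            rw [← hcm]
            exact Ideal.comap_mono hJlt.le
          · intro hle
            have hle' : Q.asIdeal ≤ J.comap (Ideal.Quotient.mk P.asIdeal) := hle
            have := Ideal.map_mono (f := Ideal.Quotient.mk P.asIdeal) hle'
            rw [Ideal.map_comap_of_surjective _ Ideal.Quotient.mk_surjective] at this
            exact absurd this (not_le_of_gt hJlt)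
        exact h.2 h1 h2
      rw [hJ0, Ideal.height_bot]
      exact_mod_cast zero_lt_one
    exact_mod_cast this
  · rw [Order.one_le_iff_pos, pos_iff_ne_zero, Ne, Ideal.height_eq_zero_iff_eq_bot]
    intro hbot
    have hcm := comap_map_mk' P.asIdeal Q.asIdeal hPQ
    rw [hbot, ← RingHom.ker_eq_comap_bot, Ideal.mk_ker] at hcm
    exact h.lt.ne (PrimeSpectrum.ext hcm)

theorem height_covBy (P Q : PrimeSpectrum (MvPolynomial (Fin n) k)) (h : P ⋖ Q) :
    Q.asIdeal.height = P.asIdeal.height + 1 := by
  have hPQ : P.asIdeal ≤ Q.asIdeal := h.lt.le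
  have h1 := height_map_eq_one k n P Q h
  have h2 := height_map_add_dim k (MvPolynomial (Fin n) k) P.asIdeal Q.asIdeal hPQ
  have h3 := height_add_dim_quotient k (MvPolynomial (Fin n) k) P.asIdeal
  have h4 := height_add_dim_quotient k (MvPolynomial (Fin n) k) Q.asIdeal
  obtain ⟨m, -, hm⟩ := exists_dim_eq_trdeg k (MvPolynomial (Fin n) k ⧸ Q.asIdeal)
  obtain ⟨a, ha⟩ := ENat.ne_top_iff_exists.mp (Ideal.height_ne_top (I := P.asIdeal)
    (Ideal.IsPrime.ne_top'))
  obtain ⟨b, hb⟩ := ENat.ne_top_iff_exists.mp (Ideal.height_ne_top (I := Q.asIdeal)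
    (Ideal.IsPrime.ne_top'))
  rw [h1, hm] at h2
  rw [← h2, ← ha] at h3
  rw [hm, ← hb, ← h3] at h4
  rw [← ha, ← hb]
  have h5 : ((b : ℕ∞) : WithBot ℕ∞) + (m : WithBot ℕ∞) =
      ((a : ℕ∞) : WithBot ℕ∞) + (((1 : ℕ∞) : WithBot ℕ∞) + (m : WithBot ℕ∞)) := h4
  have h6 : b + m = a + (1 + m) := by exact_mod_cast h5
  have : b = a + 1 := by omega
  exact_mod_cast this

theorem main (s : LTSeries (PrimeSpectrum (MvPolynomial (Fin n) k)))
    (hsat : ∀ i : Fin s.length, s (Fin.castSucc i) ⋖ s (Fin.succ i)) :
    (s.length : ℕ∞) + s.head.asIdeal.height = s.last.asIdeal.height := by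
  have key : ∀ i : ℕ, ∀ hi : i ≤ s.length,
      (i : ℕ∞) + s.head.asIdeal.height = (s ⟨i, Nat.lt_succ_of_le hi⟩).asIdeal.height := by
    intro i
    induction i with
    | zero =>
      intro hi
      simp [RelSeries.head]
    | succ i ih =>
      intro hi
      have hi' : i ≤ s.length := by omega
      have h1 := ih hi'
      have h2 := height_covBy k n _ _ (hsat ⟨i, by omega⟩)
      have h3 : (s (Fin.succ ⟨i, by omega⟩)) = s ⟨i + 1, Nat.lt_succ_of_le hi⟩ := rfl
      have h4 : (s (Fin.castSucc ⟨i, by omega⟩)) = s ⟨i, Nat.lt_succ_of_le hi'⟩ := rfl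
      rw [h3, h4] at h2
      rw [h2, ← h1]
      push_cast
      ring
  have := key s.length le_rfl
  rw [this]
  rfl

end Aux

/-- In a polynomial ring in finitely many variables over a field, every saturated chain of primes
between two primes p ⊆ q has length equal to the difference of their heights (stated additively:
length + height p = height q). -/
theorem result (k : Type u) [Field k] (n : ℕ)
    (s : LTSeries (PrimeSpectrum (MvPolynomial (Fin n) k)))
    (hsat : ∀ i : Fin s.length, s (Fin.castSucc i) ⋖ s (Fin.succ i)) :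
    (s.length : ℕ∞) + s.head.asIdeal.height = s.last.asIdeal.height := by
  exact Aux.main k n s hsat

end Groth.Agent.S9153
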