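import Groth.Statements.S9157
import Mathlib

set_option autoImplicit false
universe u
open CAlg

namespace Groth.Agent.S9157

/-- If the localization S⁻¹M of an R-module M is finitely presented over S⁻¹R, then some finitely
presented R-module M' maps to M inducing an isomorphism S⁻¹M' → S⁻¹M. -/
theorem result (R : Type u) [CommRing R] (S : Submonoid R)
    (M : Type u) [AddCommGroup M] [Module R M]
    [Module.FinitePresentation (Localization S) (LocalizedModule S M)] :
    ∃ (M' : Type u) (_ : AddCommGroup M') (_ : Module R M') (φ : M' →ₗ[R] M),
      Module.FinitePresentation R M' ∧ Function.Bijective (LocalizedModule.map S φ) := by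
  classical
  -- generators
  obtain ⟨n, s, hs⟩ := Module.Finite.exists_fin (R := Localization S) (M := LocalizedModule S M)
  have hrep : ∀ i, ∃ (m : M) (t : S), s i = LocalizedModule.mk m t := fun i => by
    induction s i using LocalizedModule.induction_on with
    | h m t => exact ⟨m, t, rfl⟩
  choose m t hmt using hrep
  let F := Fin n → R
  let f : F →ₗ[R] M := Fintype.linearCombination R m
  have hf_single : ∀ i, f (Pi.single i 1) = m i := fun i => by
    show Fintype.linearCombination R m (Pi.single i 1) = m i
    rw [Fintype.linearCombination_apply_single, one_smul]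
  let fS := LocalizedModule.map S f
  have hfS_surj : Function.Surjective fS := by
    rw [← LinearMap.range_eq_top, eq_top_iff, ← hs, Submodule.span_le]
    rintro _ ⟨i, rfl⟩
    refine ⟨LocalizedModule.mk (Pi.single i 1) (t i), ?_⟩
    simp only [fS, LocalizedModule.map_mk, hf_single, hmt]
  have hker : (LinearMap.ker fS).FG := Module.FinitePresentation.fg_ker fS hfS_surj
  obtain ⟨K, hK⟩ := hker
  -- each generator of the kernel
  have hgen : ∀ k : LocalizedModule S F, k ∈ LinearMap.ker fS →
      ∃ (d : F), d ∈ LinearMap.ker f ∧ ∃ u : S, k = LocalizedModule.mk d u := by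
    intro k hk
    induction k using LocalizedModule.induction_on with
    | h c u =>
      have h0 : LocalizedModule.mk (f c) u = 0 := by
        simpa [fS, LocalizedModule.map_mk] using hk
      rw [← LocalizedModule.zero_mk u, LocalizedModule.mk_eq] at h0
      obtain ⟨v, hv⟩ := h0
      simp only [smul_zero] at hv
      refine ⟨(v * u) • c, ?_, v * u * u, ?_⟩
      · rw [LinearMap.mem_ker, Submonoid.smul_def, map_smul, ← Submonoid.smul_def, mul_smul]
        exact hv
      · rw [mul_comm (v * u) u]
        exact (LocalizedModule.mk_cancel_common_right u (v * u) c).symm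
  choose! d hd u hdu using hgen
  let N : Submodule R F := Submodule.span R (d '' (K : Set (LocalizedModule S F)))
  have hNf : N ≤ LinearMap.ker f := by
    rw [Submodule.span_le]
    rintro _ ⟨k, hk, rfl⟩
    exact hd k (hK ▸ Submodule.subset_span hk)
  have hNfg : N.FG := Submodule.fg_span ((K.finite_toSet).image d)
  refine ⟨F ⧸ N, inferInstance, inferInstance, N.liftQ f hNf, ?_, ?_, ?_⟩
  · exact Module.finitePresentation_of_surjective N.mkQ N.mkQ_surjective (by simpa using hNfg)
  · -- injective
    rw [← LinearMap.ker_eq_bot, eq_bot_iff]
    intro z hz
    induction z using LocalizedModule.induction_on with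
    | h y w =>
      obtain ⟨x, rfl⟩ := N.mkQ_surjective y
      have hx : LocalizedModule.mk x w ∈ LinearMap.ker fS := by
        simpa [fS, LocalizedModule.map_mk] using hz
      have hle : LinearMap.ker fS ≤ LinearMap.ker (LocalizedModule.map S N.mkQ) := by
        rw [← hK, Submodule.span_le]
        intro k hk
        have hk' : k ∈ LinearMap.ker fS := hK ▸ Submodule.subset_span hk
        rw [SetLike.mem_coe, LinearMap.mem_ker, hdu k hk', LocalizedModule.map_mk]
        have : N.mkQ (d k) = 0 := by
          rw [Submodule.mkQ_apply, Submodule.Quotient.mk_eq_zero]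
          exact Submodule.subset_span ⟨k, hk, rfl⟩
        rw [this, LocalizedModule.zero_mk]
      have := hle hx
      simpa [LocalizedModule.map_mk] using this
  · -- surjective
    intro y
    obtain ⟨x, rfl⟩ := hfS_surj y
    induction x using LocalizedModule.induction_on with
    | h c w =>
      refine ⟨LocalizedModule.mk (N.mkQ c) w, ?_⟩
      simp [fS, LocalizedModule.map_mk]

end Groth.Agent.S9157
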