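import Groth.Statements.S9163
import Mathlib

set_option autoImplicit false
universe u
open CAlg

namespace Groth.Agent.S9163

/-- If S is integral over R, then any finitely many elements of R and of S lie in a pair R₀ ⊆ R, S₀ ⊆ S
with R₀ a finite type ℤ-subalgebra, S₀ an R₀-subalgebra of S, and S₀ finite as an R₀-module; so R →
S is the directed colimit of finite maps between finite type ℤ-algebras. -/
theorem result (R S : Type u) [CommRing R] [CommRing S] [Algebra R S]
    [Algebra.IsIntegral R S] (E : Finset R) (F : Finset S) :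
    ∃ (R₀ : Subalgebra ℤ R) (S₀ : Subalgebra R₀ S), Algebra.FiniteType ℤ R₀ ∧ (E : Set R) ⊆ R₀ ∧
      (F : Set S) ⊆ S₀ ∧ Module.Finite R₀ S₀ := by
  classical
  -- monic polynomials for the elements of F
  have hint : ∀ s : S, ∃ p : Polynomial R, p.Monic ∧ Polynomial.eval₂ (algebraMap R S) s p = 0 :=
    fun s => Algebra.IsIntegral.isIntegral (R := R) s
  choose p hp1 hp2 using hint
  let T : Finset R := E ∪ F.biUnion (fun s => (p s).coeffs)
  let R₀ : Subalgebra ℤ R := Algebra.adjoin ℤ (T : Set R)
  have hT : (T : Set R) ⊆ R₀ := Algebra.subset_adjoin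
  have hcoef : ∀ s ∈ F, ∀ n : ℕ, (p s).coeff n ∈ R₀ := by
    intro s hs n
    by_cases h0 : (p s).coeff n = 0
    · rw [h0]; exact R₀.zero_mem
    · apply hT
      have : (p s).coeff n ∈ (p s).coeffs := Polynomial.coeff_mem_coeffs h0
      simp only [T, Finset.coe_union, Set.mem_union, Finset.mem_coe, Finset.mem_biUnion]
      exact Or.inr ⟨s, hs, this⟩
  have hintR₀ : ∀ s ∈ F, IsIntegral R₀ s := by
    intro s hs
    have hl : p s ∈ Polynomial.lifts (algebraMap R₀ R) := by
      rw [Polynomial.lifts_iff_coeff_lifts]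
      intro n
      exact ⟨⟨(p s).coeff n, hcoef s hs n⟩, rfl⟩
    obtain ⟨q, hq1, hq2, hq3⟩ := Polynomial.lifts_and_natDegree_eq_and_monic hl (hp1 s)
    refine ⟨q, hq3, ?_⟩
    have := hp2 s
    rw [← hq1, Polynomial.eval₂_map] at this
    rw [IsScalarTower.algebraMap_eq R₀ R S]
    exact this
  let S₀ : Subalgebra R₀ S := Algebra.adjoin R₀ (F : Set S)
  refine ⟨R₀, S₀, ?_, ?_, Algebra.subset_adjoin, ?_⟩
  · exact (Subalgebra.fg_iff_finiteType R₀).1 (Subalgebra.fg_adjoin_finset T)
  · intro x hx
    apply hT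
    simp only [T, Finset.coe_union, Set.mem_union]
    exact Or.inl hx
  · have := fg_adjoin_of_finite (R := R₀) (s := (F : Set S)) F.finite_toSet (fun x hx => hintR₀ x hx)
    exact Module.Finite.iff_fg.2 this

end Groth.Agent.S9163
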