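import Groth.Statements.S9164
import Mathlib

set_option autoImplicit false
universe u
open CAlg

namespace Groth.Agent.S9164

section


section basic
variable {A : Type u} [CommRing A] {V : Type u} [AddCommGroup V] [Module A V]

noncomputable def rl (P Q : Submodule A V) : ℕ∞ := Module.length A (↥Q ⧸ P.submoduleOf Q)

lemma rl_add {P' P Q : Submodule A V} (h1 : P' ≤ P) (h2 : P ≤ Q) :
    rl P' Q = rl P' P + rl P Q := by
  unfold rl
  have hf : P'.submoduleOf P ≤ (P'.submoduleOf Q).comap (Submodule.inclusion h2) := by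
    intro x hx
    exact hx
  have hg : P'.submoduleOf Q ≤ (P.submoduleOf Q).comap (LinearMap.id) := by
    intro x hx
    exact h1 hx
  refine Module.length_eq_add_of_exact
    (Submodule.mapQ _ _ (Submodule.inclusion h2) hf)
    (Submodule.mapQ _ _ LinearMap.id hg) ?_ ?_ ?_
  · rw [injective_iff_map_eq_zero]
    intro x
    induction x using Submodule.Quotient.induction_on with
    | H x =>
      intro hx
      rw [Submodule.mapQ_apply, Submodule.Quotient.mk_eq_zero] at hx
      rw [Submodule.Quotient.mk_eq_zero]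
      exact hx
  · intro y
    induction y using Submodule.Quotient.induction_on with
    | H y => exact ⟨Submodule.Quotient.mk y, by rw [Submodule.mapQ_apply]; rfl⟩
  · intro y
    induction y using Submodule.Quotient.induction_on with
    | H y =>
      rw [Submodule.mapQ_apply, Submodule.Quotient.mk_eq_zero]
      constructor
      · intro hy
        refine ⟨Submodule.Quotient.mk ⟨y.1, hy⟩, ?_⟩
        rw [Submodule.mapQ_apply]
        rfl
      · rintro ⟨x, hx⟩
        induction x using Submodule.Quotient.induction_on with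
        | H x =>
          rw [Submodule.mapQ_apply, Submodule.Quotient.eq] at hx
          have h3 : ((Submodule.inclusion h2 x - y : ↥Q) : V) ∈ P' := hx
          have h4 : (x : V) - (y : V) ∈ P := h1 h3
          have h5 : (y : V) = (x : V) - ((x : V) - (y : V)) := by abel
          show (y : V) ∈ P
          rw [h5]
          exact P.sub_mem x.2 h4

def Absorbing (N : Submodule A V) : Prop := ∀ x : V, ∃ a : A, a ≠ 0 ∧ a • x ∈ N

lemma absorbing_inf [IsDomain A] {N₁ N₂ : Submodule A V} (h₁ : Absorbing N₁) (h₂ : Absorbing N₂) :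
    Absorbing (N₁ ⊓ N₂) := by
  intro x
  obtain ⟨a, ha, hax⟩ := h₁ x
  obtain ⟨b, hb, hbx⟩ := h₂ x
  refine ⟨a * b, mul_ne_zero ha hb, ?_, ?_⟩
  · rw [mul_comm, mul_smul]; exact N₁.smul_mem b hax
  · rw [mul_smul]; exact N₂.smul_mem a hbx

lemma exists_smul_le [IsDomain A] {N : Submodule A V} (hN : Absorbing N) (M : Submodule A V)
    (hM : M.FG) : ∃ a : A, a ≠ 0 ∧ ∀ x ∈ M, a • x ∈ N := by
  refine Submodule.fg_induction (motive := fun M _ => ∃ a : A, a ≠ 0 ∧ ∀ x ∈ M, a • x ∈ N)
    ?_ ?_ M hM
  · intro x
    obtain ⟨a, ha, hax⟩ := hN x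
    refine ⟨a, ha, ?_⟩
    intro y hy
    obtain ⟨r, rfl⟩ := Submodule.mem_span_singleton.mp hy
    rw [smul_comm]
    exact N.smul_mem r hax
  · rintro M₁ M₂ _ _ ⟨a, ha, h1⟩ ⟨b, hb, h2⟩
    refine ⟨a * b, mul_ne_zero ha hb, ?_⟩
    intro x hx
    obtain ⟨y, hy, z, hz, rfl⟩ := Submodule.mem_sup.mp hx
    rw [smul_add]
    refine N.add_mem ?_ ?_
    · rw [mul_comm, mul_smul]; exact N.smul_mem b (h1 y hy)
    · rw [mul_smul]; exact N.smul_mem a (h2 z hz)

lemma finiteLength_of_killed [IsNoetherianRing A] [Ring.KrullDimLE 1 A]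
    (Q : Type u) [AddCommGroup Q] [Module A Q] [Module.Finite A Q]
    (a : A) (ha : a ∈ nonZeroDivisors A) (hQ : ∀ q : Q, a • q = 0) : IsFiniteLength A Q := by
  obtain ⟨n, s, hs⟩ := Module.Finite.exists_fin (R := A) (M := Q)
  have hk : ∀ i, Submodule.span A {a} ≤ LinearMap.ker (LinearMap.toSpanSingleton A Q (s i)) := by
    intro i
    rw [Submodule.span_le]
    intro x hx
    rw [Set.mem_singleton_iff] at hx
    subst hx
    simp [hQ]
  let φ : ∀ i : Fin n, (A ⧸ Ideal.span {a}) →ₗ[A] Q := fun i =>
    Submodule.liftQ (Submodule.span A {a}) (LinearMap.toSpanSingleton A Q (s i)) (hk i)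
  let Φ : (Fin n → A ⧸ Ideal.span {a}) →ₗ[A] Q := ∑ i, (φ i).comp (LinearMap.proj i)
  have hΦ : Function.Surjective Φ := by
    rw [← LinearMap.range_eq_top, eq_top_iff, ← hs, Submodule.span_le]
    rintro _ ⟨i, rfl⟩
    refine ⟨Pi.single i 1, ?_⟩
    simp only [Φ, LinearMap.sum_apply, LinearMap.comp_apply, LinearMap.proj_apply]
    rw [Finset.sum_eq_single i]
    · simp only [Pi.single_eq_same, φ]
      have : (1 : A ⧸ Ideal.span {a}) = Submodule.Quotient.mk (1 : A) := rfl
      rw [this, Submodule.liftQ_apply]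
      simp
    · intro j _ hj
      rw [Pi.single_eq_of_ne hj, map_zero]
    · intro h; exact absurd (Finset.mem_univ i) h
  have h0 := isFiniteLength_quotient_span_singleton A ha
  have h1 : IsFiniteLength A (Fin n → A ⧸ Ideal.span {a}) := by
    rw [isFiniteLength_iff_isNoetherian_isArtinian] at h0 ⊢
    obtain ⟨h1, h2⟩ := h0
    exact ⟨inferInstance, inferInstance⟩
  exact h1.of_surjective hΦ

lemma rl_ne_top [IsDomain A] [IsNoetherianRing A] [Ring.KrullDimLE 1 A]
    {N M : Submodule A V} (hN : Absorbing N) (hM : M.FG) : rl N M ≠ ⊤ := by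
  unfold rl
  rw [Module.length_ne_top_iff]
  obtain ⟨a, ha, h⟩ := exists_smul_le hN M hM
  haveI : Module.Finite A ↥M := Module.Finite.iff_fg.mpr hM
  refine finiteLength_of_killed _ a (mem_nonZeroDivisors_of_ne_zero ha) ?_
  intro q
  induction q using Submodule.Quotient.induction_on with
  | H q =>
    rw [← Submodule.Quotient.mk_smul, Submodule.Quotient.mk_eq_zero]
    exact h q.1 q.2

lemma dist_eq {M M' N : Submodule A V} (h : N ≤ M ⊓ M') (h1 : rl N M ≠ ⊤) (h2 : rl N M' ≠ ⊤) :
    (((rl (M ⊓ M') M).toNat : ℤ) - ((rl (M ⊓ M') M').toNat : ℤ)) =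
      ((rl N M).toNat : ℤ) - ((rl N M').toNat : ℤ) := by
  have e1 := rl_add h (inf_le_left : M ⊓ M' ≤ M)
  have e2 := rl_add h (inf_le_right : M ⊓ M' ≤ M')
  rw [e1] at h1
  rw [e2] at h2
  have a1 : rl N (M ⊓ M') ≠ ⊤ := fun hh => h1 (by rw [hh, top_add])
  have a2 : rl (M ⊓ M') M ≠ ⊤ := fun hh => h1 (by rw [hh, add_top])
  have a3 : rl (M ⊓ M') M' ≠ ⊤ := fun hh => h2 (by rw [hh, add_top])
  rw [e1, e2, ENat.toNat_add a1 a2, ENat.toNat_add a1 a3]
  push_cast
  ring

end basic

lemma absorbing_of_lattice {A : Type u} [CommRing A] [IsDomain A] (K : Type u) [Field K] [Algebra A K]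
    [IsFractionRing A K] {V : Type u} [AddCommGroup V] [Module K V] [Module A V]
    [IsScalarTower A K V] (M : Submodule A V) [Submodule.IsLattice K M] : Absorbing M := by
  intro x
  have hx : x ∈ Submodule.span K (M : Set V) := by
    rw [Submodule.IsLattice.span_eq_top]; trivial
  induction hx using Submodule.span_induction with
  | mem x hx => exact ⟨1, one_ne_zero, by rw [one_smul]; exact hx⟩
  | zero => exact ⟨1, one_ne_zero, by rw [smul_zero]; exact M.zero_mem⟩
  | add x y _ _ hx hy =>
    obtain ⟨a, ha, hax⟩ := hx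
    obtain ⟨b, hb, hby⟩ := hy
    refine ⟨a * b, mul_ne_zero ha hb, ?_⟩
    rw [smul_add]
    refine M.add_mem ?_ ?_
    · rw [mul_comm, mul_smul]; exact M.smul_mem b hax
    · rw [mul_smul]; exact M.smul_mem a hby
  | smul k x _ hx =>
    obtain ⟨a, ha, hax⟩ := hx
    obtain ⟨r, s, hs, rfl⟩ := IsFractionRing.div_surjective (A := A) k
    have hs0 : s ≠ 0 := nonZeroDivisors.ne_zero hs
    refine ⟨s * a, mul_ne_zero hs0 ha, ?_⟩
    have hsK : algebraMap A K s ≠ 0 := by
      intro h0
      exact hs0 ((IsFractionRing.injective A K) (by rw [h0, map_zero]))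
    have : (s * a) • ((algebraMap A K r / algebraMap A K s) • x) = r • (a • x) := by
      rw [← algebraMap_smul K (s * a), ← algebraMap_smul K r, ← algebraMap_smul K a, smul_smul,
        smul_smul, map_mul]
      congr 1
      field_simp
    rw [this]
    exact M.smul_mem r hax


section more
variable {A : Type u} [CommRing A] [IsDomain A] (K : Type u) [Field K] [Algebra A K]
    [IsFractionRing A K] {V : Type u} [AddCommGroup V] [Module K V] [Module A V]
    [IsScalarTower A K V]

lemma lattice_of_fg_absorbing (M : Submodule A V) (hfg : M.FG) (hab : Absorbing M) :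
    Submodule.IsLattice K M := by
  refine ⟨hfg, ?_⟩
  rw [eq_top_iff]
  intro x _
  obtain ⟨a, ha, hax⟩ := hab x
  have haK : algebraMap A K a ≠ 0 := by
    intro h0
    exact ha ((IsFractionRing.injective A K) (by rw [h0, map_zero]))
  have : x = (algebraMap A K a)⁻¹ • (a • x) := by
    rw [← algebraMap_smul K a x, smul_smul, inv_mul_cancel₀ haK, one_smul]
  rw [this]
  exact Submodule.smul_mem _ _ (Submodule.subset_span hax)

lemma absorbing_mono {M M' : Submodule A V} (h : M ≤ M') (hab : Absorbing M) : Absorbing M' := by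
  intro x
  obtain ⟨a, ha, hax⟩ := hab x
  exact ⟨a, ha, h hax⟩

end more

lemma fg_inf {R : Type u} [CommRing R] [IsNoetherianRing R] {V : Type u} [AddCommGroup V] [Module R V]
    (M : Submodule R V) (hM : M.FG) (M' : Submodule R V) : (M ⊓ M').FG := by
  haveI : IsNoetherian R M := isNoetherian_of_fg_of_noetherian M hM
  have h1 : (Submodule.comap M.subtype M').FG := IsNoetherian.noetherian _
  have h2 := h1.map M.subtype
  rwa [Submodule.map_comap_subtype] at h2

theorem main (R K V : Type u) [CommRing R] [IsDomain R]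
    [IsNoetherianRing R] [IsLocalRing R] (hdim : ringKrullDim R = 1) [Field K] [Algebra R K]
    [IsFractionRing R K] [AddCommGroup V] [Module K V] [Module R V] [IsScalarTower R K V]
    [FiniteDimensional K V] (M : Submodule R V) [Submodule.IsLattice K M] :
    (∀ M' : Submodule R V, M ≤ M' →
        (Submodule.IsLattice K M' ↔ Module.length R (M' ⧸ Submodule.comap M'.subtype M) ≠ ⊤) ∧
          (Submodule.IsLattice K M' ↔ M'.FG)) ∧
      (∀ M' : Submodule R V, M' ≤ M →
        (Submodule.IsLattice K M' ↔ Module.length R (M ⧸ Submodule.comap M.subtype M') ≠ ⊤)) ∧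
      ∀ M' : Submodule R V, Submodule.IsLattice K M' → Submodule.IsLattice K (M ⊓ M') := by
  haveI : Ring.KrullDimLE 1 R := by
    rw [Ring.krullDimLE_iff, hdim]; rfl
  have habM := absorbing_of_lattice K M
  have hMfg : M.FG := Submodule.IsLattice.fg (A := K)
  refine ⟨fun M' hle => ⟨⟨fun hL => ?_, fun hlen => ?_⟩, ⟨fun hL => hL.fg, fun hfg => ?_⟩⟩,
    fun M' hle => ⟨fun hL => ?_, fun hlen => ?_⟩, fun M' hL => ?_⟩
  · exact rl_ne_top habM hL.fg
  · refine lattice_of_fg_absorbing K M' ?_ (absorbing_mono hle habM)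
    rw [Module.length_ne_top_iff, isFiniteLength_iff_isNoetherian_isArtinian] at hlen
    haveI : IsNoetherian R (M' ⧸ Submodule.comap M'.subtype M) := hlen.1
    haveI : Module.Finite R M := Module.Finite.iff_fg.mpr hMfg
    haveI : Module.Finite R (Submodule.comap M'.subtype M) :=
      Module.Finite.equiv (Submodule.comapSubtypeEquivOfLe hle).symm
    haveI : Module.Finite R M' :=
      Module.Finite.of_submodule_quotient (Submodule.comap M'.subtype M)
    exact Module.Finite.iff_fg.mp inferInstance
  · exact lattice_of_fg_absorbing K M' hfg (absorbing_mono hle habM)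
  · exact rl_ne_top (absorbing_of_lattice K M') hMfg
  · have hfg : M'.FG := by
      have := fg_inf M hMfg M'
      rwa [inf_eq_right.mpr hle] at this
    refine lattice_of_fg_absorbing K M' hfg ?_
    rw [Module.length_ne_top_iff, isFiniteLength_iff_isNoetherian_isArtinian] at hlen
    obtain ⟨hN, hA⟩ := hlen
    obtain ⟨c, hcm, hc0⟩ : ∃ c ∈ IsLocalRing.maximalIdeal R, c ≠ 0 := by
      have hnf : ¬ IsField R := fun hf => by
        have := ringKrullDim_eq_zero_of_isField hf
        rw [hdim] at this
        exact one_ne_zero this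
      have hne : IsLocalRing.maximalIdeal R ≠ ⊥ :=
        IsLocalRing.isField_iff_maximalIdeal_eq.not.mp hnf
      obtain ⟨c, hc, hc0⟩ := Submodule.exists_mem_ne_zero_of_ne_bot hne
      exact ⟨c, hc, hc0⟩
    obtain ⟨n, hn⟩ := IsArtinian.range_smul_pow_stabilizes
      (M ⧸ Submodule.comap M.subtype M') c
    obtain ⟨N, hNdef⟩ : ∃ N : Submodule R (M ⧸ Submodule.comap M.subtype M'),
        N = LinearMap.range (c ^ n • LinearMap.id : (M ⧸ Submodule.comap M.subtype M') →ₗ[R] _) :=
      ⟨_, rfl⟩
    have hNle : N ≤ IsLocalRing.maximalIdeal R • N := by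
      intro x hx
      rw [hNdef, hn (n + 1) (Nat.le_succ n)] at hx
      obtain ⟨y, rfl⟩ := hx
      have : (c ^ (n + 1) • LinearMap.id : (M ⧸ Submodule.comap M.subtype M') →ₗ[R] _) y =
          c • (c ^ n • y) := by
        rw [LinearMap.smul_apply, LinearMap.id_apply, pow_succ, mul_comm, mul_smul]
      rw [this]
      refine Submodule.smul_mem_smul hcm ?_
      rw [hNdef]
      exact ⟨y, by rw [LinearMap.smul_apply, LinearMap.id_apply]⟩
    have hNbot : N = ⊥ := Submodule.eq_bot_of_le_smul_of_le_jacobson_bot _ N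
      (IsNoetherian.noetherian N) hNle (IsLocalRing.maximalIdeal_le_jacobson _)
    have hkill : ∀ x ∈ M, c ^ n • x ∈ M' := by
      intro x hx
      have h1 : (c ^ n • LinearMap.id : (M ⧸ Submodule.comap M.subtype M') →ₗ[R] _)
          (Submodule.Quotient.mk ⟨x, hx⟩) ∈ N := by
        rw [hNdef]; exact ⟨_, rfl⟩
      rw [hNbot, Submodule.mem_bot] at h1
      have h2 : Submodule.Quotient.mk (c ^ n • (⟨x, hx⟩ : M)) =
          (0 : M ⧸ Submodule.comap M.subtype M') := by
        rw [← h1, LinearMap.smul_apply, LinearMap.id_apply]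
        rfl
      rw [Submodule.Quotient.mk_eq_zero] at h2
      exact h2
    intro x
    obtain ⟨b, hb, hbx⟩ := habM x
    refine ⟨c ^ n * b, mul_ne_zero (pow_ne_zero n hc0) hb, ?_⟩
    rw [mul_smul]
    exact hkill _ hbx
  · haveI := hL
    have hfg : (M ⊓ M').FG := fg_inf M hMfg M'
    exact lattice_of_fg_absorbing K _ hfg (absorbing_inf habM (absorbing_of_lattice K M'))


end


/-- Let R be a one-dimensional Noetherian local domain with fraction field K and V a finite-dimensional
K-vector space; a lattice is a finitely generated R-submodule of V spanning V over K. (1) For a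
lattice M and an R-submodule M' ⊇ M: M' is a lattice iff M'/M has finite length over R iff M' is
finitely generated. (2) For a lattice M and M' ⊆ M: M' is a lattice iff M/M' has finite length. (3)
The intersection of two lattices is a lattice. (The published statement also asserts that the sum M
+ M' of two lattices is a lattice and two identities between lengths of quotients of nested
lattices; this row states (1), (2) and the intersection half of (3).) -/
theorem result (R K V : Type u) [CommRing R] [IsDomain R]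
    [IsNoetherianRing R] [IsLocalRing R] (hdim : ringKrullDim R = 1) [Field K] [Algebra R K]
    [IsFractionRing R K] [AddCommGroup V] [Module K V] [Module R V] [IsScalarTower R K V]
    [FiniteDimensional K V] (M : Submodule R V) [Submodule.IsLattice K M] :
    (∀ M' : Submodule R V, M ≤ M' →
        (Submodule.IsLattice K M' ↔ Module.length R (M' ⧸ Submodule.comap M'.subtype M) ≠ ⊤) ∧
          (Submodule.IsLattice K M' ↔ M'.FG)) ∧
      (∀ M' : Submodule R V, M' ≤ M →
        (Submodule.IsLattice K M' ↔ Module.length R (M ⧸ Submodule.comap M.subtype M') ≠ ⊤)) ∧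
      ∀ M' : Submodule R V, Submodule.IsLattice K M' → Submodule.IsLattice K (M ⊓ M') := by
  classical
  exact main R K V hdim M

end Groth.Agent.S9164
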