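import Groth.Statements.S9166
import Mathlib
-- import your own Groth.Agent.* helpers here

set_option autoImplicit false
universe u
open CAlg

namespace Groth.Agent.S9166

namespace Aux
open TensorProduct

section
variable {R : Type u} [CommRing R] {S : Type u} [CommRing S] [Algebra R S]

/-- `1 ⊗ x = 0` in `(R/I) ⊗ N` iff `x ∈ I N`. -/
lemma tmul_eq_zero_iff (I : Ideal R) {N : Type*} [AddCommGroup N] [Module R N] (x : N) :
    ((1 : R ⧸ I) ⊗ₜ[R] x = 0) ↔ x ∈ (I • ⊤ : Submodule R N) := by
  have h := TensorProduct.quotTensorEquivQuotSMul N I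
  rw [← (TensorProduct.quotTensorEquivQuotSMul N I).map_eq_zero_iff]
  rw [show (1 : R ⧸ I) = Ideal.Quotient.mk I 1 from rfl,
    TensorProduct.quotTensorEquivQuotSMul_mk_tmul, one_smul, Submodule.Quotient.mk_eq_zero]


theorem key (I : Ideal R) (q : Ideal S) [q.IsPrime] (hq : I.map (algebraMap R S) ≤ q)
    {N : Type u} [AddCommGroup N] [Module S N] [Module R N] [IsScalarTower R S N]
    (π : S →ₗ[S] N) (hπ : Function.Surjective π) (hfg : (LinearMap.ker π).FG)
    (hker : ∀ j : S, π j = 0 → algebraMap S (Localization.AtPrime q) j ∈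
      I.map (algebraMap R (Localization.AtPrime q)))
    (hflat : Module.Flat R (LocalizedModule q.primeCompl N)) :
    ∃ g : S, g ∉ q ∧ ∀ j : S, π j = 0 → g * j = 0 := by
  classical
  set J : Submodule S S := LinearMap.ker π with hJ
  let Sq := Localization.AtPrime q
  let Jq := LocalizedModule q.primeCompl J
  let ιq : Jq →ₗ[Sq] LocalizedModule q.primeCompl S := LocalizedModule.map q.primeCompl J.subtype
  let πq : LocalizedModule q.primeCompl S →ₗ[Sq] LocalizedModule q.primeCompl N :=
    LocalizedModule.map q.primeCompl π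
  have hex : Function.Exact (ιq.restrictScalars R) (πq.restrictScalars R) :=
    LocalizedModule.map_exact q.primeCompl J.subtype π (LinearMap.exact_subtype_ker_map π)
  have hinj : Function.Injective (ιq.restrictScalars R) :=
    LocalizedModule.map_injective q.primeCompl J.subtype J.injective_subtype
  have hsurj : Function.Surjective (πq.restrictScalars R) :=
    LocalizedModule.map_surjective q.primeCompl π hπ
  have h2 := LinearMap.lTensor_injective_of_exact_of_flat _ hsurj _ hinj hex (R ⧸ I)
  -- Step 1
  have step1 : ∀ z : Jq, ιq z ∈ (I • ⊤ : Submodule R (LocalizedModule q.primeCompl S)) := by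
    intro z
    induction z using LocalizedModule.induction_on with
    | h j s =>
      have h3 : ιq (LocalizedModule.mk j s) = LocalizedModule.mk (j : S) s :=
        LocalizedModule.map_mk _ _ _ _
      rw [h3]
      have h4 := hker j j.2
      have h5 : (LocalizedModule.mk (j : S) s : LocalizedModule q.primeCompl S) =
          (Localization.mk 1 s : Sq) * algebraMap S Sq j := by
        rw [← Localization.mk_one_eq_algebraMap, Localization.mk_mul, one_mul, mul_one]
        rfl
      rw [h5, Ideal.smul_top_eq_map]
      exact Ideal.mul_mem_left _ _ h4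
  -- Step 3
  have step3 : ∀ z : Jq, z ∈ (I • ⊤ : Submodule R Jq) := by
    intro z
    rw [← tmul_eq_zero_iff]
    apply h2
    rw [map_zero, LinearMap.lTensor_tmul, tmul_eq_zero_iff]
    exact step1 z
  -- Step 4
  have step4 : (⊤ : Submodule Sq Jq) ≤ IsLocalRing.maximalIdeal Sq • ⊤ := by
    intro z _
    have hz := step3 z
    refine Submodule.smul_induction_on hz ?_ ?_
    · intro a ha x _
      have h3 : a • x = (algebraMap R Sq a) • x := (algebraMap_smul Sq a x).symm
      rw [h3]
      refine Submodule.smul_mem_smul ?_ Submodule.mem_top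
      rw [IsScalarTower.algebraMap_apply R S Sq, IsLocalization.AtPrime.to_map_mem_maximal_iff Sq q]
      exact hq (Ideal.mem_map_of_mem _ ha)
    · intro x y hx hy
      exact Submodule.add_mem _ hx hy
  -- Step 5
  have hfin : Module.Finite S J := Module.Finite.iff_fg.mpr hfg
  have hfin' : Module.Finite Sq Jq :=
    Module.Finite.of_isLocalizedModule q.primeCompl (LocalizedModule.mkLinearMap q.primeCompl J)
  have step5 : (⊤ : Submodule Sq Jq) = ⊥ :=
    Submodule.eq_bot_of_le_smul_of_le_jacobson_bot (IsLocalRing.maximalIdeal Sq) ⊤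
      (Module.Finite.fg_top) step4 (IsLocalRing.maximalIdeal_le_jacobson _)
  -- Step 6
  have step6 : ∀ j : S, π j = 0 → ∃ s : S, s ∉ q ∧ s * j = 0 := by
    intro j hj
    have h3 : (LocalizedModule.mkLinearMap q.primeCompl J) ⟨j, hj⟩ = 0 := by
      have : (LocalizedModule.mkLinearMap q.primeCompl J) ⟨j, hj⟩ ∈ (⊤ : Submodule Sq Jq) :=
        Submodule.mem_top
      rw [step5] at this
      exact this
    obtain ⟨s, hs⟩ := (IsLocalizedModule.eq_zero_iff q.primeCompl
      (LocalizedModule.mkLinearMap q.primeCompl J)).mp h3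
    refine ⟨s.1, s.2, ?_⟩
    have := congrArg Subtype.val hs
    simpa [Submonoid.smul_def] using this
  -- Step 7
  obtain ⟨G, hG⟩ := hfg
  choose! s hs hs0 using step6
  have hGk : ∀ j ∈ G, π j = 0 := by
    intro j hj
    have : j ∈ J := by rw [← hG]; exact Submodule.subset_span hj
    exact this
  refine ⟨∏ j ∈ G, s j, ?_, ?_⟩
  · have : ∏ j ∈ G, s j ∈ q.primeCompl := by
      apply Submonoid.prod_mem
      intro j hj
      exact hs j (hGk j hj)
    exact this
  · intro j hj
    have hj' : j ∈ Submodule.span S (G : Set S) := by rw [hG]; exact hj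
    clear hj
    induction hj' using Submodule.span_induction with
    | mem x hx =>
      obtain ⟨c, hc⟩ := Finset.dvd_prod_of_mem s hx
      rw [hc, mul_comm (s x), mul_assoc, hs0 x (hGk x hx), mul_zero]
    | zero => simp
    | add x y _ _ hx hy => rw [mul_add, hx, hy, add_zero]
    | smul c x _ hx => rw [smul_eq_mul, mul_left_comm, hx, mul_zero]


lemma ker_fg_of_finiteType {S' : Type u} [CommRing S'] [Algebra R S'] [Algebra.FiniteType R S]
    [Algebra.FinitePresentation R S'] (f : S →ₐ[R] S') (hf : Function.Surjective f) :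
    (RingHom.ker f.toRingHom).FG := by
  obtain ⟨n, g, hg⟩ := Algebra.FiniteType.iff_quotient_mvPolynomial''.mp
    (inferInstance : Algebra.FiniteType R S)
  convert (Algebra.FinitePresentation.ker_fg_of_mvPolynomial (f.comp g) (hf.comp hg)).map
    g.toRingHom
  simp_rw [RingHom.ker_eq_comap_bot, AlgHom.toRingHom_eq_coe, AlgHom.comp_toRingHom]
  rw [← Ideal.comap_comap, Ideal.map_comap_of_surjective (g : MvPolynomial (Fin n) R →+* S) hg]

theorem main {S' : Type u} [CommRing S'] [Algebra R S'] [Algebra.FiniteType R S]
    [Algebra.FinitePresentation R S']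
    (I : Ideal R) (f : S →ₐ[R] S') (hf : Function.Surjective f) (q : Ideal S) [q.IsPrime]
    (hq : I.map (algebraMap R S) ≤ q)
    (hker : ∀ j : S, f j = 0 →
      algebraMap S (Localization.AtPrime q) j ∈ I.map (algebraMap R (Localization.AtPrime q)))
    (hflat : letI : Module S S' := f.toRingHom.toModule
      Module.Flat R (LocalizedModule q.primeCompl S')) :
    ∃ g : S, g ∉ q ∧ Function.Bijective (Localization.awayMap f.toRingHom g) := by
  let _ : Module S S' := f.toRingHom.toModule
  have : IsScalarTower R S S' := ⟨fun r s x => by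
    show f (r • s) * x = r • (f s * x)
    rw [map_smul, smul_mul_assoc]⟩
  let π : S →ₗ[S] S' :=
    { toFun := f
      map_add' := map_add f
      map_smul' := fun s x => by
        show f (s * x) = f s * f x
        exact map_mul f s x }
  have hfg : (LinearMap.ker π).FG := ker_fg_of_finiteType f hf
  obtain ⟨g, hgq, hg⟩ := key I q hq π hf hfg hker hflat
  refine ⟨g, hgq, ?_, ?_⟩
  · rw [injective_iff_map_eq_zero]
    intro z hz
    obtain ⟨y, ⟨_, n, rfl⟩, rfl⟩ := IsLocalization.exists_mk'_eq (Submonoid.powers g) z
    rw [Localization.awayMap, IsLocalization.Away.map, IsLocalization.map_mk',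
      IsLocalization.mk'_eq_zero_iff] at hz
    obtain ⟨⟨_, m, rfl⟩, hm⟩ := hz
    rw [IsLocalization.mk'_eq_zero_iff]
    refine ⟨⟨g ^ (m + 1), m + 1, rfl⟩, ?_⟩
    have h3 : f (g ^ m * y) = 0 := by
      rw [map_mul, map_pow]; exact hm
    have := hg _ h3
    show g ^ (m + 1) * y = 0
    rw [pow_succ', mul_assoc]; exact this
  · intro z
    obtain ⟨y, ⟨_, n, rfl⟩, rfl⟩ := IsLocalization.exists_mk'_eq
      (Submonoid.powers (f.toRingHom g)) z
    obtain ⟨x, rfl⟩ := hf y
    refine ⟨IsLocalization.mk' _ x (⟨g ^ n, n, rfl⟩ : Submonoid.powers g), ?_⟩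
    rw [Localization.awayMap, IsLocalization.Away.map, IsLocalization.map_mk']
    congr 1
    ext
    simp

end
end Aux

/-- Let I be an ideal of a ring R, S → S' a surjective homomorphism of R-algebras with S of finite type
and S' of finite presentation over R, and q a prime of S containing IS. Assume S'_q is flat over R
and that S_q/IS_q → S'_q/IS'_q is an isomorphism, which for a surjection says: every element of the
kernel of S → S' maps into I·S_q. Then for some g ∉ q the localized map S_g → S'_g is bijective. -/
theorem result (R S S' : Type u) [CommRing R] [CommRing S]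
    [CommRing S'] [Algebra R S] [Algebra R S'] [Algebra.FiniteType R S] [Algebra.FinitePresentation R S']
    (I : Ideal R) (f : S →ₐ[R] S') (hf : Function.Surjective f) (q : Ideal S) [q.IsPrime]
    (hq : I.map (algebraMap R S) ≤ q)
    (hker : ∀ j : S, f j = 0 →
      algebraMap S (Localization.AtPrime q) j ∈ I.map (algebraMap R (Localization.AtPrime q)))
    (hflat : letI : Module S S' := f.toRingHom.toModule
      Module.Flat R (LocalizedModule q.primeCompl S')) :
    ∃ g : S, g ∉ q ∧ Function.Bijective (Localization.awayMap f.toRingHom g) := by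
  exact Aux.main I f hf q hq hker hflat

end Groth.Agent.S9166
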