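import Groth.Statements.S9167
import Mathlib
import Groth.Agent.S9157

set_option autoImplicit false
universe u
open CAlg

namespace S9167aux

theorem lemmaA (R : Type u) [CommRing R] (I : Ideal R) (N : Type u) [AddCommGroup N]
    [Module (R ⧸ I) N] [Module.FinitePresentation (R ⧸ I) N] :
    ∃ (M : Type u) (_ : AddCommGroup M) (_ : Module R M), Module.FinitePresentation R M ∧
      Nonempty ((M ⧸ (I • ⊤ : Submodule R M)) ≃ₗ[R ⧸ I] N) := by
  classical
  obtain ⟨n, m, f, g, hf, hfg⟩ := Module.FinitePresentation.exists_fin' (R ⧸ I) N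
  let σ : R →+* R ⧸ I := Ideal.Quotient.mk I
  have hσ : Function.Surjective σ := Ideal.Quotient.mk_surjective
  have hex : ∀ (j : Fin m) (i : Fin n), ∃ a : R, σ a = g (Pi.single j 1) i := fun j i => hσ _
  choose a ha using hex
  let G : (Fin m → R) →ₗ[R] (Fin n → R) := Fintype.linearCombination R a
  let π : ∀ k : ℕ, (Fin k → R) →ₛₗ[σ] (Fin k → R ⧸ I) := fun k =>
    { toFun := fun x i => σ (x i)
      map_add' := fun x y => by ext i; simp
      map_smul' := fun r x => by ext i; simp }
  have hπ : ∀ k, Function.Surjective (π k) := fun k y => by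
    choose x hx using fun i => hσ (y i)
    exact ⟨x, funext hx⟩
  have key : ∀ y : Fin m → R, π n (G y) = g (π m y) := by
    intro y
    have h1 : G y = ∑ j, y j • a j := by
      simp [G, Fintype.linearCombination_apply]
    have h2 : π m y = ∑ j, σ (y j) • (Pi.single j 1 : Fin m → R ⧸ I) := by
      ext i
      simp [π, Finset.sum_apply, Pi.single_apply]
    rw [h1, h2, map_sum, map_sum]
    refine Finset.sum_congr rfl fun j _ => ?_
    rw [map_smulₛₗ, map_smul]
    congr 1
    ext i
    exact ha j i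
  let F : (Fin n → R) →ₛₗ[σ] N := f.comp (π n)
  have hle : LinearMap.range G ≤ LinearMap.ker F := by
    rintro _ ⟨y, rfl⟩
    rw [LinearMap.mem_ker]
    show f (π n (G y)) = 0
    rw [key]
    exact hfg.apply_apply_eq_zero _
  let M := (Fin n → R) ⧸ LinearMap.range G
  let ψ : M →ₛₗ[σ] N := (LinearMap.range G).liftQ F hle
  have hle2 : (I • ⊤ : Submodule R M) ≤ LinearMap.ker ψ := by
    rw [Submodule.smul_le]
    intro r hr x _
    rw [LinearMap.mem_ker, map_smulₛₗ]
    have : σ r = 0 := Ideal.Quotient.eq_zero_iff_mem.2 hr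
    rw [this, zero_smul]
  let ψ' : (M ⧸ (I • ⊤ : Submodule R M)) →ₛₗ[σ] N := (I • ⊤ : Submodule R M).liftQ ψ hle2
  have hψ'mk : ∀ x : Fin n → R, ψ' (Submodule.Quotient.mk (Submodule.Quotient.mk x)) = f (π n x) :=
    fun x => rfl
  let Ψ : (M ⧸ (I • ⊤ : Submodule R M)) →ₗ[R ⧸ I] N :=
    { toFun := ψ'
      map_add' := ψ'.map_add
      map_smul' := fun rb z => by
        obtain ⟨r, rfl⟩ := hσ rb
        obtain ⟨z, rfl⟩ := Submodule.Quotient.mk_surjective _ z
        show ψ' (Ideal.Quotient.mk I r • Submodule.Quotient.mk z) = _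
        rw [Module.Quotient.mk_smul_mk]
        show ψ (r • z) = σ r • ψ z
        rw [map_smulₛₗ] }
  refine ⟨M, inferInstance, inferInstance, ?_, ⟨LinearEquiv.ofBijective Ψ ⟨?_, ?_⟩⟩⟩
  · exact Module.finitePresentation_of_surjective (LinearMap.range G).mkQ
      (LinearMap.range G).mkQ_surjective (by
        rw [Submodule.ker_mkQ, LinearMap.range_eq_map]
        exact Submodule.FG.map _ (Module.Finite.fg_top))
  · rw [← LinearMap.ker_eq_bot, eq_bot_iff]
    intro z hz
    obtain ⟨z, rfl⟩ := Submodule.Quotient.mk_surjective _ z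
    obtain ⟨x, rfl⟩ := Submodule.Quotient.mk_surjective _ z
    have h0 : f (π n x) = 0 := hz
    obtain ⟨yb, hyb⟩ := (hfg (π n x)).1 h0
    obtain ⟨y, rfl⟩ := hπ m yb
    rw [← key] at hyb
    have hmem : ∀ i, (x - G y) i ∈ I := fun i => by
      have := congrFun hyb i
      rw [← Ideal.Quotient.eq_zero_iff_mem, Pi.sub_apply, map_sub, sub_eq_zero]
      exact this.symm
    have hx : (Submodule.Quotient.mk x : M) = Submodule.Quotient.mk (x - G y) := by
      rw [Submodule.Quotient.mk_sub, eq_comm, sub_eq_self, Submodule.Quotient.mk_eq_zero]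
      exact ⟨y, rfl⟩
    rw [Submodule.mem_bot, Submodule.Quotient.mk_eq_zero, hx]
    have hdec : x - G y = ∑ i, (x - G y) i • (Pi.single i 1 : Fin n → R) := by
      ext k
      simp [Finset.sum_apply, Pi.single_apply]
    rw [hdec, ← Submodule.mkQ_apply, map_sum]
    refine Submodule.sum_mem _ fun i _ => ?_
    rw [map_smul]
    exact Submodule.smul_mem_smul (hmem i) Submodule.mem_top
  · intro y
    obtain ⟨xb, rfl⟩ := hf y
    obtain ⟨x, rfl⟩ := hπ n xb
    exact ⟨Submodule.Quotient.mk (Submodule.Quotient.mk x), rfl⟩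

end S9167aux

namespace Groth.Agent.S9167

/-- With R' = S⁻¹(R/I), every finitely presented R'-module is of the form S⁻¹(M/IM) for some finitely
presented R-module M. -/
theorem result (R : Type u) [CommRing R] (I : Ideal R)
    (S : Submonoid R) (M' : Type u) [AddCommGroup M']
    [Module (Localization (S.map (Ideal.Quotient.mk I))) M']
    [Module.FinitePresentation (Localization (S.map (Ideal.Quotient.mk I))) M'] :
    ∃ (M : Type u) (_ : AddCommGroup M) (_ : Module R M), Module.FinitePresentation R M ∧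
      Nonempty (LocalizedModule (S.map (Ideal.Quotient.mk I)) (M ⧸ (I • ⊤ : Submodule R M))
        ≃ₗ[Localization (S.map (Ideal.Quotient.mk I))] M') := by
  classical
  letI : Module (R ⧸ I) M' :=
    Module.compHom M' (algebraMap (R ⧸ I) (Localization (S.map (Ideal.Quotient.mk I))))
  haveI : IsScalarTower (R ⧸ I) (Localization (S.map (Ideal.Quotient.mk I))) M' :=
    IsScalarTower.of_algebraMap_smul fun r x => rfl
  haveI : IsLocalizedModule (S.map (Ideal.Quotient.mk I)) (LinearMap.id : M' →ₗ[R ⧸ I] M') :=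
    isLocalizedModule_id (S.map (Ideal.Quotient.mk I)) M'
      (Localization (S.map (Ideal.Quotient.mk I)))
  let e0 : LocalizedModule (S.map (Ideal.Quotient.mk I)) M' ≃ₗ[R ⧸ I] M' :=
    IsLocalizedModule.iso (S.map (Ideal.Quotient.mk I)) LinearMap.id
  let e0' : LocalizedModule (S.map (Ideal.Quotient.mk I)) M'
      ≃ₗ[Localization (S.map (Ideal.Quotient.mk I))] M' :=
    e0.extendScalarsOfIsLocalization (S.map (Ideal.Quotient.mk I))
      (Localization (S.map (Ideal.Quotient.mk I)))
  haveI : Module.FinitePresentation (Localization (S.map (Ideal.Quotient.mk I)))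
      (LocalizedModule (S.map (Ideal.Quotient.mk I)) M') :=
    Module.FinitePresentation.of_equiv e0'.symm
  obtain ⟨N, _, _, φ, hN, hφ⟩ := Groth.Agent.S9157.result (R ⧸ I) (S.map (Ideal.Quotient.mk I)) M'
  obtain ⟨M, _, _, hM, ⟨e1⟩⟩ := S9167aux.lemmaA R I N
  refine ⟨M, inferInstance, inferInstance, hM, ⟨?_⟩⟩
  let e2 : LocalizedModule (S.map (Ideal.Quotient.mk I)) (M ⧸ (I • ⊤ : Submodule R M))
      ≃ₗ[Localization (S.map (Ideal.Quotient.mk I))]
      LocalizedModule (S.map (Ideal.Quotient.mk I)) N :=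
    LinearEquiv.ofBijective (LocalizedModule.map _ e1.toLinearMap)
      ⟨LocalizedModule.map_injective _ _ e1.injective,
        LocalizedModule.map_surjective _ _ e1.surjective⟩
  let e3 : LocalizedModule (S.map (Ideal.Quotient.mk I)) N
      ≃ₗ[Localization (S.map (Ideal.Quotient.mk I))]
      LocalizedModule (S.map (Ideal.Quotient.mk I)) M' :=
    LinearEquiv.ofBijective (LocalizedModule.map _ φ) hφ
  exact e2 ≪≫ₗ e3 ≪≫ₗ e0'

end Groth.Agent.S9167
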