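import Groth.Statements.S9170
import Groth.Agent.Lib.Helper2.Synt.RelGCIMain
import Groth.Agent.Lib.Helper4.KosH1b


set_option autoImplicit false
universe u
open Synt

namespace Groth.Agent.S9170

/-- For a relative global complete intersection S = R[x_1, …, x_n]/(f_1, …, f_c) over a ring R and a
prime q' of the polynomial ring containing the ideal (f_1, …, f_c): (1) f_1, …, f_c is a regular
sequence in the localization R[x]_{q'} (a local ring); (2) every quotient R[x]_{q'}/(f_1, …, f_i) is
flat over R; (3) the conormal module (f)/(f)² is free over S with basis the classes of the f_i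
(stated as: these classes are linearly independent over S and span). -/
theorem result (R : Type u) [CommRing R] (n c : ℕ)
    (F : Fin c → MvPolynomial (Fin n) R) (h : Synt.IsRelGCI R n c F)
    (q' : Ideal (MvPolynomial (Fin n) R)) [q'.IsPrime] (hq' : Ideal.span (Set.range F) ≤ q') :
    RingTheory.Sequence.IsRegular (Localization.AtPrime q')
        ((List.ofFn F).map (algebraMap (MvPolynomial (Fin n) R) (Localization.AtPrime q'))) ∧
      (∀ i ≤ c, Module.Flat R (Localization.AtPrime q' ⧸ Ideal.ofList
        (((List.ofFn F).take i).map (algebraMap (MvPolynomial (Fin n) R) (Localization.AtPrime q'))))) ∧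
      LinearIndependent (Synt.RelGCIRing R n c F)
        (fun i : Fin c => (Ideal.span (Set.range F)).toCotangent ⟨F i, Ideal.subset_span (Set.mem_range_self i)⟩) ∧
      Submodule.span (Synt.RelGCIRing R n c F) (Set.range
        (fun i : Fin c => (Ideal.span (Set.range F)).toCotangent ⟨F i, Ideal.subset_span (Set.mem_range_self i)⟩)) = ⊤ := by
  obtain ⟨h1, h2⟩ := Groth.Agent.Helper2.Synt.isRegular_and_flat_of_isRelGCI R n c F q' h hq'
  refine ⟨h1, h2, ?_⟩
  have hI : Ideal.span (Set.range F) ≠ ⊤ := by
    intro htop
    rw [htop] at hq'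
    exact (Ideal.IsPrime.ne_top inferInstance) (top_le_iff.mp hq')
  have hkr := Groth.Agent.Helper2.Synt.isKoszulRegularSeq_of_isRelGCI R n c F h
  obtain ⟨b, hb⟩ := Groth.Agent.Lib.Helper4.KosH1b.S18939_main hI c
    (fun i => (⟨F i, Ideal.subset_span (Set.mem_range_self i)⟩ : Ideal.span (Set.range F)))
    hkr rfl
  have hfun : (fun i : Fin c => (Ideal.span (Set.range F)).toCotangent
      ⟨F i, Ideal.subset_span (Set.mem_range_self i)⟩) = b := by
    funext i
    exact (hb i).symm
  rw [hfun]
  exact ⟨b.linearIndependent, b.span_eq⟩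

end Groth.Agent.S9170
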