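import Groth.Statements.S9171
import Groth.Agent.Lib.Helper2.Synt.Spread


set_option autoImplicit false
universe u
open Synt

namespace Groth.Agent.S9171

/-- Let S = k[x_1, …, x_n]/I over a field k, q a prime of S, q' the corresponding prime of the
polynomial ring and c the integer with c + ht(q) = ht(q'). Equivalent: (1) S_g is a global complete
intersection over k for some g ∉ q; (2) the extension of I to the local ring k[x]_{q'} is generated
by c elements; (5) that extension is generated by a regular sequence. Stated as (1) ↔ (2) and (1) ↔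
(5). -/
theorem result (k : Type u) [Field k] (n : ℕ)
    (I : Ideal (MvPolynomial (Fin n) k)) (q : Ideal (MvPolynomial (Fin n) k ⧸ I)) [q.IsPrime] (c : ℕ)
    (hc : (c : ℕ∞) + q.height = (q.comap (Ideal.Quotient.mk I)).height) :
    ((∃ g : MvPolynomial (Fin n) k ⧸ I, g ∉ q ∧ Synt.IsGlobalCI k (Localization.Away g)) ↔
        ∃ s : Finset (Localization.AtPrime (q.comap (Ideal.Quotient.mk I))), s.card = c ∧
          Ideal.span (s : Set _) =
            I.map (algebraMap _ (Localization.AtPrime (q.comap (Ideal.Quotient.mk I))))) ∧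
      ((∃ g : MvPolynomial (Fin n) k ⧸ I, g ∉ q ∧ Synt.IsGlobalCI k (Localization.Away g)) ↔
        ∃ rs : List (Localization.AtPrime (q.comap (Ideal.Quotient.mk I))),
          RingTheory.Sequence.IsRegular (Localization.AtPrime (q.comap (Ideal.Quotient.mk I))) rs ∧
          Ideal.ofList rs =
            I.map (algebraMap _ (Localization.AtPrime (q.comap (Ideal.Quotient.mk I))))) := by
  have hJm := Groth.Agent.Helper2.Synt.map_le_maximalIdeal k n I q
  have hA : (∃ g : MvPolynomial (Fin n) k ⧸ I, g ∉ q ∧ Synt.IsGlobalCI k (Localization.Away g)) ↔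
      Groth.Agent.Helper2.Synt.IsCIIdeal (Localization.AtPrime (q.comap (Ideal.Quotient.mk I)))
        (I.map (algebraMap _ (Localization.AtPrime (q.comap (Ideal.Quotient.mk I))))) :=
    ⟨Groth.Agent.Helper2.Synt.isCIIdeal_of_exists_away k n I q,
      Groth.Agent.Helper2.Synt.exists_away_globalCI_of_isCIIdeal k n I q⟩
  have hc' : (c : WithBot ℕ∞) + ringKrullDim (Localization.AtPrime (q.comap (Ideal.Quotient.mk I)) ⧸
      I.map (algebraMap _ (Localization.AtPrime (q.comap (Ideal.Quotient.mk I))))) =
      ringKrullDim (Localization.AtPrime (q.comap (Ideal.Quotient.mk I))) := by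
    rw [Groth.Agent.Helper2.Synt.ringKrullDim_atPrime_quotient_map,
      IsLocalization.AtPrime.ringKrullDim_eq_height (q.comap (Ideal.Quotient.mk I)) _, ← hc]
    push_cast
    rfl
  exact ⟨hA.trans (Groth.Agent.Helper2.Synt.isCIIdeal_iff_exists_finset hJm c hc'),
    hA.trans (Groth.Agent.Helper2.Synt.isCIIdeal_iff_exists_isRegular hJm)⟩

end Groth.Agent.S9171
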