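import Groth.Statements.S9204
import Mathlib
import Groth.Agent.Lib.Helper1.ThickLift2
import Groth.Agent.Lib.Helper1.AmpleQA
import Groth.Agent.Lib.Helper1.TwistAmpleOpen

set_option autoImplicit false
universe u
open CategoryTheory AlgebraicGeometry
open Lim

namespace Groth.Agent.S9204

/-- Suppose the closed immersion i : Z → X of schemes is a homeomorphism on the level of topological
spaces. Then Z is quasi-affine exactly when X is. No Noetherian hypothesis is imposed. -/
theorem result {Z X : Scheme.{u}} (i : Z ⟶ X) [IsClosedImmersion i]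
    (hi : IsHomeomorph i.base) : X.IsQuasiAffine ↔ Z.IsQuasiAffine := by
  constructor
  · intro hX
    have : CompactSpace Z := (hi.homeomorph).symm.compactSpace
    exact AlgebraicGeometry.Scheme.IsQuasiAffine.of_isImmersion i
  · intro hZ
    have h1 : CohB1.IsAmple (Coh.structureModule Z) :=
      Groth.Agent.Helper1.GenLoc.isAmple_O_of_isQuasiAffine
    have h2 : CohB1.IsAmple ((AlgebraicGeometry.Scheme.Modules.pullback i).obj (Coh.structureModule X)) :=
      Groth.Agent.Helper1.TwistAmpleOpen.isAmple_of_iso (Groth.Agent.Helper1.PullSec.unitIso i).symm h1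
    exact Groth.Agent.Helper1.GenLoc.isQuasiAffine_of_isAmple_O
      (Groth.Agent.Helper1.ThickLift.isAmple_of_isAmple_pullback hi
        Groth.Agent.Helper1.GenLoc.isInvertible_O h2)

end Groth.Agent.S9204
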