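import Groth.Statements.S9212
import Mathlib
import Groth.Agent.Lib.Helper9.ValCritDVR
import Groth.Agent.S9211
-- import your own Groth.Agent.* helpers here

set_option autoImplicit false
universe u
open CategoryTheory CategoryTheory.Limits AlgebraicGeometry
open Lim

namespace Groth.Agent.S9212

open CategoryTheory CategoryTheory.Limits AlgebraicGeometry
namespace Aux

open Groth.Agent.Lib.Helper9.ValCritDVR

theorem exists_generic_specializes (X : Scheme.{u}) (x : X) :
    ∃ η : X, closure {η} ∈ irreducibleComponents (X : Type u) ∧ η ⤳ x := by
  obtain ⟨η, hη⟩ := QuasiSober.sober (isIrreducible_irreducibleComponent (x := x))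
    (isClosed_irreducibleComponent (x := x))
  refine ⟨η, ?_, ?_⟩
  · rw [hη.def]
    exact irreducibleComponent_mem_irreducibleComponents x
  · rw [specializes_iff_mem_closure, hη.def]
    exact mem_irreducibleComponent

theorem main {X S : Scheme.{u}} [IsLocallyNoetherian S] (f : X ⟶ S)
    [LocallyOfFiniteType f] [QuasiCompact f] :
    IsProper f ↔ ∀ (η : X), closure {η} ∈ irreducibleComponents (X : Type u) →
      ∀ (A : ValuationSubring (X.residueField η)), IsDiscreteValuationRing A →
        ∀ y : Spec (CommRingCat.of A) ⟶ S,
          Spec.map (CommRingCat.ofHom A.subtype) ≫ y = X.fromSpecResidueField η ≫ f →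
          ∃! l : Spec (CommRingCat.of A) ⟶ X,
            l ≫ f = y ∧ Spec.map (CommRingCat.ofHom A.subtype) ≫ l = X.fromSpecResidueField η := by
  constructor
  · intro hprop η _ A _ y hy
    have HE : ValuativeCriterion.Existence f := by
      have h : UniversallyClosed f := inferInstance
      rw [UniversallyClosed.eq_valuativeCriterion] at h
      exact h.1
    have HU : ValuativeCriterion.Uniqueness f := IsSeparated.valuativeCriterion f
    let Sq : ValuativeCommSq f :=
      { R := ↥A, K := X.residueField η, i₁ := X.fromSpecResidueField η, i₂ := y,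
        commSq := ⟨hy.symm⟩ }
    obtain ⟨l⟩ := (HE Sq).exists_lift
    haveI := HU Sq
    refine ⟨l.l, ⟨l.fac_right, l.fac_left⟩, ?_⟩
    rintro l2 ⟨h1, h2⟩
    exact congrArg CommSq.LiftStruct.l
      (Subsingleton.elim (⟨l2, h2, h1⟩ : Sq.commSq.LiftStruct) l)
  · intro H
    haveI : IsSeparated f := by
      rw [Groth.Agent.S9211.result f]
      intro η hη A hA l₁ l₂ h12 h1 h2
      obtain ⟨l, -, huniq⟩ := H η hη A hA (l₁ ≫ f) (by rw [← Category.assoc, h1])
      exact (huniq l₁ ⟨rfl, h1⟩).trans (huniq l₂ ⟨h12.symm, h2⟩).symm
    have HU : ValuativeCriterion.Uniqueness f := IsSeparated.valuativeCriterion f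
    have HE : ValuativeCriterion.Existence f := by
      refine existence_of_family f (fun η => closure {η} ∈ irreducibleComponents (X : Type u))
        (exists_generic_specializes X) HU ?_
      intro η hη R φ hφ
      refine val_of_dvr f η ?_ R φ hφ
      intro R' hR' φ' hφ'
      obtain ⟨l, ⟨hl1, hl2⟩, -⟩ := H η hη R' hR' φ' hφ'
      exact ⟨l, hl2, hl1⟩
    haveI : UniversallyClosed f := UniversallyClosed.of_valuativeCriterion f HE
    exact {}

end Aux

/-- Let S be a locally Noetherian scheme and f : X → S a morphism of finite type. Then f is proper if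
and only if: for every generic point η of an irreducible component of X, every discrete valuation
ring A contained in the residue field κ(η) with fraction field κ(η) (a valuation subring of κ(η)
which is a discrete valuation ring), and every morphism Spec A → S whose restriction to Spec κ(η) is
the canonical morphism Spec κ(η) → X followed by f, there is exactly one morphism Spec A → X over S
restricting to the canonical morphism on Spec κ(η). -/
theorem result {X S : Scheme.{u}} [IsLocallyNoetherian S] (f : X ⟶ S)
    [LocallyOfFiniteType f] [QuasiCompact f] :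
    IsProper f ↔ ∀ (η : X), closure {η} ∈ irreducibleComponents (X : Type u) →
      ∀ (A : ValuationSubring (X.residueField η)), IsDiscreteValuationRing A →
        ∀ y : Spec (CommRingCat.of A) ⟶ S,
          Spec.map (CommRingCat.ofHom A.subtype) ≫ y = X.fromSpecResidueField η ≫ f →
          ∃! l : Spec (CommRingCat.of A) ⟶ X,
            l ≫ f = y ∧ Spec.map (CommRingCat.ofHom A.subtype) ≫ l = X.fromSpecResidueField η := by
  exact Aux.main f

end Groth.Agent.S9212
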