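import Groth.Statements.S9226
import Groth.Agent.Lib.Helper8.RegularLocal7

set_option autoImplicit false
universe u
open CAlg

namespace Groth.Agent.S9226

/-- Let R be a regular local ring, m ≥ 1, f_1, ..., f_m elements of the maximal ideal, and D_1, ..., D_m
derivations of R such that the determinant of the matrix (D_i(f_j)) is a unit of R. Then R/(f_1,
..., f_m) is a regular local ring and f_1, ..., f_m is a regular sequence on R. -/
theorem result (R : Type u) [CommRing R]
    [IsRegularLocalRing R] (m : ℕ) (hm : 1 ≤ m) (f : Fin m → R)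
    (hf : ∀ i, f i ∈ IsLocalRing.maximalIdeal R) (D : Fin m → Derivation ℤ R R)
    (hdet : IsUnit (Matrix.det (Matrix.of (fun i j : Fin m => D i (f j))))) :
    IsRegularLocalRing (R ⧸ Ideal.span (Set.range f)) ∧
      RingTheory.Sequence.IsRegular R (List.ofFn f) := by
  have hli := Groth.Agent.Helper8.RLR.linearIndependent_of_derivations
    (fun i => (⟨f i, hf i⟩ : IsLocalRing.maximalIdeal R)) D hdet
  refine ⟨?_, ?_⟩
  · exact (Groth.Agent.Helper8.RLR.quotient_of_linearIndependent _ hli).1
  · exact Groth.Agent.Helper8.RLR.isRegular_of_linearIndependent R _ hli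

end Groth.Agent.S9226
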