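import Groth.Statements.S9227
import Groth.Agent.Lib.Helper6.RegQuot
import Mathlib.RingTheory.Derivation.MapCoeffs
import Mathlib.RingTheory.RegularLocalRing.Polynomial

set_option autoImplicit false
universe u
open CAlg

namespace Groth.Agent.S9227

/-- Let R be a regular ring, f an element of R and D a derivation of R with D(f) a unit of R. Then for
every polynomial p with integer coefficients the ring R[z]/(p(z) - f) is regular; in particular
R[z]/(z^n - f) is regular for every n ≥ 1. -/
theorem result (R : Type u) [CommRing R]
    [IsRegularRing R] (f : R) (D : Derivation ℤ R R) (hD : IsUnit (D f)) (p : Polynomial ℤ) :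
    IsRegularRing (Polynomial R ⧸
      Ideal.span ({Polynomial.map (Int.castRingHom R) p - Polynomial.C f} : Set (Polynomial R))) := by
  let _ : Differential R := ⟨D⟩
  have hDf : (Differential.mapCoeffs (A := R)) (Polynomial.map (Int.castRingHom R) p - Polynomial.C f) =
      - Polynomial.C (D f) := by
    ext i
    rw [Differential.coeff_mapCoeffs, Polynomial.coeff_sub, Polynomial.coeff_map, map_sub,
      Polynomial.coeff_neg]
    have h1 : (Differential.deriv : Derivation ℤ R R) ((Int.castRingHom R) (p.coeff i)) = 0 := by
      have : ((Int.castRingHom R) (p.coeff i)) = algebraMap ℤ R (p.coeff i) := rfl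
      rw [this]
      exact Derivation.map_algebraMap _ _
    show (Differential.deriv : Derivation ℤ R R) _ - (Differential.deriv : Derivation ℤ R R) _ = _
    rw [h1, zero_sub]
    by_cases hi : i = 0
    · subst hi
      simp only [Polynomial.coeff_C_zero]
      rfl
    · rw [Polynomial.coeff_C_ne_zero hi, Polynomial.coeff_C_ne_zero hi, map_zero]
  refine Groth.Agent.Helper6.Reg.quotient_regular_of_forall _
    (fun q _ hfq => Groth.Agent.Helper6.Reg.notMem_sq_of_derivation _ (Differential.mapCoeffs (A := R)) ?_ q hfq)
  have key : IsUnit ((Ideal.Quotient.mk (Ideal.span {Polynomial.map (Int.castRingHom R) p - Polynomial.C f}))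
      (- Polynomial.C (D f))) := by
    rw [map_neg]
    exact ((hD.map (Polynomial.C : R →+* Polynomial R)).map
      (Ideal.Quotient.mk (Ideal.span {Polynomial.map (Int.castRingHom R) p - Polynomial.C f}))).neg
  rw [← hDf] at key
  exact key

end Groth.Agent.S9227
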