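import Groth.Statements.S9229
import Groth.Agent.Lib.Helper8.FEqA6
import Groth.Agent.Lib.Helper8.HensFC2
import Groth.Agent.Lib.Helper8.UB1
import Groth.Agent.Lib.Helper8.Equidim5
import Groth.Agent.Lib.Helper8.EssFT4

set_option autoImplicit false
universe u
open EGA4

namespace Groth.Agent.S9229

/-- A Noetherian local ring A whose formal fibres are geometrically normal and which is unibranch (a
normal local ring, say) is universally catenary. -/
theorem result (A : Type u) [CommRing A]
    [IsLocalRing A] [IsNoetherianRing A] (hA : EGA4.HasGeomNormalFormalFibres A)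
    (hu : CAlg2.IsUnibranch A) : CAlg.IsUniversallyCatenary A := by
  obtain ⟨hdom, hloc⟩ := hu
  haveI := hdom
  haveI hP : (nilradical A).IsPrime := (Ideal.Quotient.isDomain_iff_prime _).mp hdom
  haveI : IsNoetherianRing (EGA4.Cpl A) := Groth.Agent.Helper8.AdicReg.isNoetherianRing A _
  have hR : EGA4.HasGeomNormalFormalFibres (A ⧸ nilradical A) :=
    Groth.Agent.Helper8.EssFT.hasGeomNormalFormalFibres_of_essFiniteType A hA _
  haveI hD : IsDomain (EGA4.Cpl (A ⧸ nilradical A)) :=
    Groth.Agent.Helper8.UB.isDomain_cpl_of_isLocalRing (A ⧸ nilradical A) hR hloc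
  have hprime : ((nilradical A).map (algebraMap A (EGA4.Cpl A))).IsPrime := by
    rw [← Ideal.Quotient.isDomain_iff_prime]
    exact (Groth.Agent.Helper8.HensFC.cplQuotEquiv A (nilradical A)).toMulEquiv.isDomain _
  have hle : ∀ Q : Ideal (EGA4.Cpl A), Q.IsPrime →
      (nilradical A).map (algebraMap A (EGA4.Cpl A)) ≤ Q := by
    intro Q hQ
    rw [Ideal.map_le_iff_le_comap]
    intro x hx
    rw [Ideal.mem_comap]
    have hx' : IsNilpotent x := hx
    exact (nilradical_le_prime Q) (hx'.map (algebraMap A (EGA4.Cpl A)))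
  have hfe : EGA4.IsFormallyEquidim A := by
    apply Groth.Agent.Helper8.FC.isEquidim_of_forall_eq'
    intro p hp q hq
    have h1 : p = (nilradical A).map (algebraMap A (EGA4.Cpl A)) :=
      le_antisymm (hp.2 ⟨hprime, bot_le⟩ (hle p hp.1.1)) (hle p hp.1.1)
    have h2 : q = (nilradical A).map (algebraMap A (EGA4.Cpl A)) :=
      le_antisymm (hq.2 ⟨hprime, bot_le⟩ (hle q hq.1.1)) (hle q hq.1.1)
    rw [h1, h2]
  apply Groth.Agent.Helper8.FormEq.isUniversallyCatenary_of_isFormallyCatenary
  intro p _
  haveI : IsDomain (A ⧸ p) := Ideal.Quotient.isDomain p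
  exact (Groth.Agent.Helper8.Equidim.isEquidim_quot_iff_isFormallyEquidim A hfe p).mp
    (Groth.Agent.Helper8.FormEq.isEquidim_of_isDomain _)

end Groth.Agent.S9229
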