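import Groth.Statements.S9232
import Mathlib

set_option autoImplicit false
universe u
open CAlg

namespace Groth.Agent.S9232

/-- Suppose A → B is a flat local ring map between Noetherian local rings, the maximal ideal of A
generates that of B, and the residue field map is bijective. Then the induced map between the
completions of A and B (a ring map of the completions compatible with A → B; it is unique since A is
Noetherian) is an isomorphism. -/
theorem result (A B : Type u) [CommRing A]
    [CommRing B] [IsLocalRing A] [IsLocalRing B] [IsNoetherianRing A] [IsNoetherianRing B]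
    [Algebra A B] [IsLocalHom (algebraMap A B)] [Module.Flat A B]
    (hm : Ideal.map (algebraMap A B) (IsLocalRing.maximalIdeal A) = IsLocalRing.maximalIdeal B)
    (hk : Function.Bijective (IsLocalRing.ResidueField.map (algebraMap A B)))
    (ψ : AdicCompletion (IsLocalRing.maximalIdeal A) A →+* AdicCompletion (IsLocalRing.maximalIdeal B) B)
    (hψ : ψ.comp (algebraMap A (AdicCompletion (IsLocalRing.maximalIdeal A) A)) =
      (algebraMap B (AdicCompletion (IsLocalRing.maximalIdeal B) B)).comp (algebraMap A B)) :
    Function.Bijective ψ := by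
  classical
  haveI : Module.FaithfullyFlat A B := Module.FaithfullyFlat.of_flat_of_isLocalHom
  -- notation
  have hmapA := AdicCompletion.maximalIdeal_eq_map (R := A)
  have hmapB := AdicCompletion.maximalIdeal_eq_map (R := B)
  have hψ' : ∀ a : A, ψ (algebraMap A _ a) = algebraMap B _ (algebraMap A B a) :=
    fun a => RingHom.congr_fun hψ a
  -- `ψ` carries the maximal ideal onto generators of the maximal ideal
  have hmax : (IsLocalRing.maximalIdeal (AdicCompletion (IsLocalRing.maximalIdeal A) A)).map ψ =
      IsLocalRing.maximalIdeal (AdicCompletion (IsLocalRing.maximalIdeal B) B) := by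
    rw [hmapA, Ideal.map_map, hψ, ← Ideal.map_map, hm, ← hmapB]
  have hpow : ∀ n : ℕ, ((IsLocalRing.maximalIdeal A ^ n).map
      (algebraMap A (AdicCompletion (IsLocalRing.maximalIdeal A) A))).map ψ =
      (IsLocalRing.maximalIdeal B ^ n).map
        (algebraMap B (AdicCompletion (IsLocalRing.maximalIdeal B) B)) := by
    intro n
    rw [Ideal.map_map, hψ, ← Ideal.map_map, Ideal.map_pow, hm]
  constructor
  · -- injectivity
    rw [injective_iff_map_eq_zero]
    intro x hx
    apply AdicCompletion.ext_evalₐ
    intro n
    rw [map_zero]
    obtain ⟨a, ha⟩ := Ideal.Quotient.mk_surjective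
      (AdicCompletion.evalₐ (IsLocalRing.maximalIdeal A) n x)
    have h0 : AdicCompletion.evalₐ (IsLocalRing.maximalIdeal A) n
        (x - algebraMap A _ a) = 0 := by
      rw [map_sub, AlgHom.commutes, ← ha]
      exact sub_self _
    have h1 : x - algebraMap A _ a ∈ (IsLocalRing.maximalIdeal A ^ n).map
        (algebraMap A (AdicCompletion (IsLocalRing.maximalIdeal A) A)) := by
      have h1' : x - algebraMap A _ a ∈
          LinearMap.ker (AdicCompletion.eval (IsLocalRing.maximalIdeal A) A n) := by
        rw [LinearMap.mem_ker, ← AdicCompletion.factor_evalₐ_eq_eval _ _ (by simp), h0, map_zero]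
      rw [← AdicCompletion.pow_smul_top_eq_ker_eval
        (IsLocalRing.maximalIdeal A).fg_of_isNoetherianRing, Ideal.smul_top_eq_map] at h1'
      exact h1'
    have h2 : ψ (x - algebraMap A _ a) ∈ (IsLocalRing.maximalIdeal B ^ n).map
        (algebraMap B (AdicCompletion (IsLocalRing.maximalIdeal B) B)) := by
      rw [← hpow n]
      exact Ideal.mem_map_of_mem _ h1
    rw [map_sub, hx, zero_sub, neg_mem_iff, hψ'] at h2
    -- hence `f a ∈ 𝔪_B ^ n`
    have h3 : AdicCompletion.evalₐ (IsLocalRing.maximalIdeal B) n
        (algebraMap B _ (algebraMap A B a)) = 0 := by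
      have hle : (IsLocalRing.maximalIdeal B ^ n).map
          (algebraMap B (AdicCompletion (IsLocalRing.maximalIdeal B) B)) ≤
          RingHom.ker (AdicCompletion.evalₐ (IsLocalRing.maximalIdeal B) n).toRingHom := by
        rw [Ideal.map_le_iff_le_comap]
        intro b hb
        rw [Ideal.mem_comap, RingHom.mem_ker]
        show AdicCompletion.evalₐ (IsLocalRing.maximalIdeal B) n (algebraMap B _ b) = 0
        rw [AlgHom.commutes]
        exact Ideal.Quotient.eq_zero_iff_mem.2 hb
      exact hle h2
    rw [AlgHom.commutes] at h3
    have h4 : algebraMap A B a ∈ IsLocalRing.maximalIdeal B ^ n :=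
      Ideal.Quotient.eq_zero_iff_mem.1 h3
    rw [← hm, ← Ideal.map_pow] at h4
    have h5 : a ∈ IsLocalRing.maximalIdeal A ^ n := by
      have := Ideal.mem_comap.2 h4
      rwa [Ideal.comap_map_eq_self_of_faithfullyFlat] at this
    rw [← ha]
    exact Ideal.Quotient.eq_zero_iff_mem.2 h5
  · -- surjectivity
    haveI : IsHausdorff ((IsLocalRing.maximalIdeal
        (AdicCompletion (IsLocalRing.maximalIdeal A) A)).map ψ)
        (AdicCompletion (IsLocalRing.maximalIdeal B) B) := by
      rw [hmax]; infer_instance
    apply surjective_of_mk_map_comp_surjective ψ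
      (I := IsLocalRing.maximalIdeal (AdicCompletion (IsLocalRing.maximalIdeal A) A))
    intro y
    obtain ⟨y, rfl⟩ := Ideal.Quotient.mk_surjective y
    -- the residue class of `y` comes from `B`, hence from `A`
    obtain ⟨b, hb⟩ := (AdicCompletion.residueField_map_bijective B).2 (IsLocalRing.residue _ y)
    obtain ⟨b, rfl⟩ := IsLocalRing.residue_surjective b
    obtain ⟨a, ha⟩ := hk.2 (IsLocalRing.residue B b)
    obtain ⟨a, rfl⟩ := IsLocalRing.residue_surjective a
    refine ⟨algebraMap A _ a, ?_⟩
    have ha' : IsLocalRing.residue B (algebraMap A B a) = IsLocalRing.residue B b := by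
      rw [← IsLocalRing.ResidueField.map_residue]; exact ha
    rw [RingHom.comp_apply, hψ', Ideal.Quotient.eq, hmax, ← IsLocalRing.residue_eq_zero_iff,
      map_sub, ← hb, IsLocalRing.ResidueField.map_residue,
      ← IsLocalRing.ResidueField.map_residue (algebraMap B _) (algebraMap A B a),
      ← IsLocalRing.ResidueField.map_residue (algebraMap B _) b, ha', sub_self]

end Groth.Agent.S9232
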