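import Groth.Statements.S9242
-- import your own Groth.Agent.* helpers here
import Groth.Agent.Lib.Helper8.HensCpl4
import Groth.Agent.Lib.Helper7.DimOneComp.Uniq

set_option autoImplicit false
universe u
open Brnch

namespace Groth.Agent.S9242

/-- Let A be a Noetherian local ring with henselization S and completion A^, let ψ : S → A^ be the ring
map compatible with the structure maps from A, and let q be a minimal prime of A^ with dim(A^/q) =
1. Then q is the radical of the extension along ψ of some minimal prime of S. -/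
theorem result (A S : Type u) [CommRing A]
    [IsLocalRing A] [IsNoetherianRing A] [CommRing S] [IsLocalRing S] [Algebra A S]
    [IsLocalHom (algebraMap A S)] [Hensel.IsHenselization A S]
    (ψ : S →+* AdicCompletion (IsLocalRing.maximalIdeal A) A)
    (hψ : ψ.comp (algebraMap A S) = algebraMap A (AdicCompletion (IsLocalRing.maximalIdeal A) A))
    (q : Ideal (AdicCompletion (IsLocalRing.maximalIdeal A) A))
    (hq : q ∈ minimalPrimes (AdicCompletion (IsLocalRing.maximalIdeal A) A))
    (hdim : ringKrullDim (AdicCompletion (IsLocalRing.maximalIdeal A) A ⧸ q) = 1) :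
    ∃ q' ∈ minimalPrimes S, (Ideal.map ψ q').radical = q := by
  classical
  haveI : IsNoetherianRing (AdicCompletion (IsLocalRing.maximalIdeal A) A) :=
    Groth.Agent.Helper8.AdicReg.isNoetherianRing A _
  obtain ⟨h1, h2⟩ := Groth.Agent.Helper8.HensCpl.mapsTo_surjOn_minimalPrimes A S ψ hψ
  refine ⟨q.comap ψ, h1 hq, ?_⟩
  letI : Algebra S (AdicCompletion (IsLocalRing.maximalIdeal A) A) := ψ.toAlgebra
  haveI : Module.Flat S (AdicCompletion (IsLocalRing.maximalIdeal A) A) :=
    Groth.Agent.Helper8.HensCpl.flat_psi A S ψ hψ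
  haveI : IsLocalHom (algebraMap S (AdicCompletion (IsLocalRing.maximalIdeal A) A)) :=
    Groth.Agent.Helper8.HensCpl.isLocalHom_psi A S ψ hψ
  haveI : HenselianLocalRing S := Hensel.IsHenselization.henselian A
  haveI : IsNoetherianRing S := (Groth.Agent.S0511.result A S).mp inferInstance
  haveI hqp : q.IsPrime := hq.1.1
  have hsurj : ∀ (n : ℕ) (c : AdicCompletion (IsLocalRing.maximalIdeal A) A), ∃ d : S,
      c - algebraMap S (AdicCompletion (IsLocalRing.maximalIdeal A) A) d ∈
        ((IsLocalRing.maximalIdeal S) ^ n).map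
          (algebraMap S (AdicCompletion (IsLocalRing.maximalIdeal A) A)) := by
    intro n c
    obtain ⟨a, ha⟩ := Groth.Agent.Helper8.HensCpl.exists_sub_mem_map_pow A n c
    refine ⟨algebraMap A S a, ?_⟩
    show c - ψ (algebraMap A S a) ∈ ((IsLocalRing.maximalIdeal S) ^ n).map ψ
    rw [Groth.Agent.Helper8.HensCpl.map_psi_maximalIdeal_pow A S ψ hψ n]
    have e : ψ (algebraMap A S a) = algebraMap A _ a := RingHom.congr_fun hψ a
    rw [e]
    exact ha
  apply le_antisymm
  · have hle : Ideal.map ψ (q.comap ψ) ≤ q := Ideal.map_comap_le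
    exact hqp.radical_le_iff.mpr hle
  · rw [Ideal.radical_eq_sInf]
    refine le_sInf ?_
    rintro P ⟨hPle, hP⟩
    haveI := hP
    exact Groth.Agent.Helper7.DimOneComp.le_of_map_comap_le S
      (AdicCompletion (IsLocalRing.maximalIdeal A) A) hsurj q hq hdim P hPle

end Groth.Agent.S9242
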