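import Groth.Statements.S9245
import Mathlib

set_option autoImplicit false
universe u
open CAlg

namespace Groth.Agent.S9245

/-- For an étale ring map A → B and a prime q of B with contraction p in A, the localization A_p is a
Noetherian ring exactly when the localization B_q is. -/
theorem result (A B : Type u) [CommRing A] [CommRing B]
    [Algebra A B] [Algebra.Etale A B] (q : Ideal B) [q.IsPrime] :
    IsNoetherianRing (Localization.AtPrime (Ideal.comap (algebraMap A B) q)) ↔
      IsNoetherianRing (Localization.AtPrime q) := by
  set p := Ideal.comap (algebraMap A B) q with hp
  let φ : Localization.AtPrime p →+* Localization.AtPrime q :=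
    Localization.localRingHom p q (algebraMap A B) rfl
  letI : Algebra (Localization.AtPrime p) (Localization.AtPrime q) := φ.toAlgebra
  haveI : IsScalarTower A (Localization.AtPrime p) (Localization.AtPrime q) :=
    IsScalarTower.of_algebraMap_eq fun x => by
      rw [RingHom.algebraMap_toAlgebra]
      exact (Localization.localRingHom_to_map _ _ _ rfl x).symm
  haveI : Algebra.FiniteType A B := inferInstance
  constructor
  · intro hN
    haveI : Algebra.EssFiniteType A (Localization.AtPrime q) :=
      Algebra.EssFiniteType.comp A B (Localization.AtPrime q)
    haveI : Algebra.EssFiniteType (Localization.AtPrime p) (Localization.AtPrime q) :=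
      Algebra.EssFiniteType.of_comp A (Localization.AtPrime p) (Localization.AtPrime q)
    exact Algebra.EssFiniteType.isNoetherianRing (Localization.AtPrime p) (Localization.AtPrime q)
  · intro hN
    have hflat : (algebraMap A B).Flat := by
      rw [RingHom.flat_algebraMap_iff]; infer_instance
    have hφ : φ.Flat := hflat.localRingHom q p rfl
    haveI : Module.Flat (Localization.AtPrime p) (Localization.AtPrime q) := by
      rw [← RingHom.flat_algebraMap_iff]; exact hφ
    haveI : IsLocalHom (algebraMap (Localization.AtPrime p) (Localization.AtPrime q)) :=
      Localization.isLocalHom_localRingHom _ _ _ rfl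
    haveI : Module.FaithfullyFlat (Localization.AtPrime p) (Localization.AtPrime q) :=
      Module.FaithfullyFlat.of_flat_of_isLocalHom
    rw [isNoetherianRing_iff, isNoetherian_iff'] at hN ⊢
    let f : Ideal (Localization.AtPrime p) → Ideal (Localization.AtPrime q) :=
      fun I => I.map (algebraMap _ _)
    have hf : StrictMono f := by
      intro I J hIJ
      refine lt_of_le_of_ne (Ideal.map_mono hIJ.le) ?_
      intro h
      have h1 := congrArg (Ideal.comap (algebraMap (Localization.AtPrime p) (Localization.AtPrime q))) h
      rw [Ideal.comap_map_eq_self_of_faithfullyFlat, Ideal.comap_map_eq_self_of_faithfullyFlat] at h1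
      exact hIJ.ne h1
    exact hf.wellFoundedGT

end Groth.Agent.S9245
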