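import Groth.Statements.S9246
import Mathlib

set_option autoImplicit false
universe u
open CAlg

namespace Groth.Agent.S9246

section
open IsLocalRing

lemma exists_subset_gen (S : Type*) [CommRing S] [IsLocalRing S] [IsNoetherianRing S] (G : Set S)
    (hG : G.Finite) (hspan : Ideal.span G = maximalIdeal S) :
    ∃ G' ⊆ G, Ideal.span G' = maximalIdeal S ∧ G'.ncard ≤ (maximalIdeal S).spanFinrank := by
  classical
  have hGm : G ⊆ maximalIdeal S := by rw [← hspan]; exact Ideal.subset_span
  let s : Set (maximalIdeal S) := Subtype.val ⁻¹' G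
  have hsfin : s.Finite := hG.preimage (Subtype.val_injective.injOn)
  have hs_span : Submodule.span S s = ⊤ := by
    rw [eq_top_iff]
    rintro ⟨x, hx⟩ -
    have hx' : x ∈ Submodule.span S G := by
      change x ∈ Ideal.span G
      rw [hspan]; exact hx
    have key : ∀ y (hy : y ∈ Submodule.span S G), ∃ hy' : y ∈ maximalIdeal S,
        (⟨y, hy'⟩ : maximalIdeal S) ∈ Submodule.span S s := by
      intro y hy
      induction hy using Submodule.span_induction with
      | mem y hy => exact ⟨hGm hy, Submodule.subset_span (by exact hy)⟩
      | zero => exact ⟨Submodule.zero_mem _, Submodule.zero_mem _⟩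
      | add a b _ _ ha hb =>
        obtain ⟨ha1, ha2⟩ := ha
        obtain ⟨hb1, hb2⟩ := hb
        exact ⟨Submodule.add_mem _ ha1 hb1, Submodule.add_mem _ ha2 hb2⟩
      | smul r a _ ha =>
        obtain ⟨ha1, ha2⟩ := ha
        exact ⟨Submodule.smul_mem _ r ha1, Submodule.smul_mem _ r ha2⟩
    obtain ⟨_, h2⟩ := key x hx'
    exact h2
  have ht_span : Submodule.span (ResidueField S) ((maximalIdeal S).toCotangent '' s) = ⊤ :=
    CotangentSpace.span_image_eq_top_iff.mpr hs_span
  obtain ⟨b, hbt, hbspan, hbli⟩ := exists_linearIndependent (ResidueField S)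
    ((maximalIdeal S).toCotangent '' s)
  have hbfin : b.Finite := (hsfin.image _).subset hbt
  haveI : Fintype b := hbfin.fintype
  have hcard : Fintype.card b ≤ Module.finrank (ResidueField S) (CotangentSpace S) :=
    hbli.fintype_card_le_finrank
  choose g hg1 hg2 using fun v : b => hbt v.2
  let s' : Set (maximalIdeal S) := Set.range g
  have hs'sub : s' ⊆ s := by rintro _ ⟨v, rfl⟩; exact hg1 v
  have himg : (maximalIdeal S).toCotangent '' s' = b := by
    ext v
    constructor
    · rintro ⟨_, ⟨w, rfl⟩, rfl⟩
      rw [hg2 w]; exact w.2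
    · intro hv
      exact ⟨g ⟨v, hv⟩, ⟨⟨v, hv⟩, rfl⟩, hg2 ⟨v, hv⟩⟩
  have hs'_span : Submodule.span S s' = ⊤ := by
    rw [← CotangentSpace.span_image_eq_top_iff, himg, hbspan, ht_span]
  refine ⟨Subtype.val '' s', ?_, ?_, ?_⟩
  · rintro _ ⟨x, hx, rfl⟩
    exact hs'sub hx
  · have := congrArg (Submodule.map (maximalIdeal S).subtype) hs'_span
    rw [Submodule.map_span, Submodule.map_top, Submodule.range_subtype] at this
    exact this
  · rw [Set.ncard_image_of_injective _ Subtype.val_injective,
      spanFinrank_maximalIdeal_eq_finrank_cotangentSpace]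
    refine le_trans ?_ hcard
    have : s' = (Finset.univ.image g : Finset (maximalIdeal S)) := by
      ext x; simp [s']
    rw [this, Set.ncard_coe_finset]
    exact Finset.card_image_le.trans (by simp)

section
variable {R S : Type*} [CommRing R] [CommRing S] [IsLocalRing R] [IsLocalRing S] [Algebra R S]
  [IsLocalHom (algebraMap R S)] [Module.Flat R S]

lemma noeth_descent [IsNoetherianRing S] : IsNoetherianRing R := by
  haveI : Module.FaithfullyFlat R S := Module.FaithfullyFlat.of_flat_of_isLocalHom
  rw [isNoetherianRing_iff, isNoetherian_iff']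
  have hmono : StrictMono (Ideal.map (algebraMap R S)) :=
    Monotone.strictMono_of_injective (f := Ideal.map (algebraMap R S))
      (fun I J h => Ideal.map_mono h) Ideal.map_injective_of_faithfullyFlat
  exact hmono.wellFoundedGT

lemma dim_eq [IsNoetherianRing S]
    (hm : (maximalIdeal R).map (algebraMap R S) = maximalIdeal S) :
    ringKrullDim S = ringKrullDim R := by
  haveI : IsNoetherianRing R := noeth_descent (R := R) (S := S)
  have h := Ideal.height_eq_height_add_of_liesOver_of_hasGoingDown (maximalIdeal R) (maximalIdeal S)
  rw [hm, Ideal.map_quotient_self, Ideal.height_bot, add_zero] at h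
  rw [← IsLocalRing.maximalIdeal_height_eq_ringKrullDim (R := S),
    ← IsLocalRing.maximalIdeal_height_eq_ringKrullDim (R := R), h]

lemma spanFinrank_le [IsNoetherianRing R]
    (hm : (maximalIdeal R).map (algebraMap R S) = maximalIdeal S) :
    (maximalIdeal S).spanFinrank ≤ (maximalIdeal R).spanFinrank := by
  rw [← hm]
  exact Ideal.spanFinrank_map_le_of_fg _ (maximalIdeal R).fg_of_isNoetherianRing

lemma spanFinrank_ge [IsNoetherianRing R] [IsNoetherianRing S]
    (hm : (maximalIdeal R).map (algebraMap R S) = maximalIdeal S) :
    (maximalIdeal R).spanFinrank ≤ (maximalIdeal S).spanFinrank := by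
  haveI : Module.FaithfullyFlat R S := Module.FaithfullyFlat.of_flat_of_isLocalHom
  have hinj : Function.Injective (algebraMap R S) := FaithfulSMul.algebraMap_injective R S
  have hfg : (maximalIdeal R).FG := (maximalIdeal R).fg_of_isNoetherianRing
  obtain ⟨G, hGspan, hGcard⟩ : ∃ G : Finset R, Ideal.span (G : Set R) = maximalIdeal R ∧
      G.card = (maximalIdeal R).spanFinrank := by
    obtain ⟨G, h1, h2⟩ := Submodule.FG.exists_span_finset_card_eq_spanFinrank hfg
    exact ⟨G, h2, h1⟩
  have hspanS : Ideal.span (algebraMap R S '' (G : Set R)) = maximalIdeal S := by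
    rw [← Ideal.map_span, hGspan, hm]
  obtain ⟨G', hG'sub, hG'span, hG'card⟩ := exists_subset_gen S (algebraMap R S '' (G : Set R))
    (G.finite_toSet.image _) hspanS
  let G'' : Set R := (G : Set R) ∩ (algebraMap R S) ⁻¹' G'
  have himg : algebraMap R S '' G'' = G' := by
    rw [Set.image_inter_preimage]
    exact Set.inter_eq_right.mpr hG'sub
  have hG''span : Ideal.span G'' = maximalIdeal R := by
    apply Ideal.map_injective_of_faithfullyFlat (B := S)
    rw [Ideal.map_span, himg, hG'span, hm]
  have hG''fin : G''.Finite := G.finite_toSet.subset Set.inter_subset_left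
  calc (maximalIdeal R).spanFinrank = (Ideal.span G'').spanFinrank := by rw [hG''span]
    _ ≤ G''.ncard := Submodule.spanFinrank_span_le_ncard_of_finite hG''fin
    _ = G'.ncard := by rw [← himg, Set.ncard_image_of_injective _ hinj]
    _ ≤ (maximalIdeal S).spanFinrank := hG'card

end

theorem main (A B : Type u) [CommRing A] [CommRing B]
    [Algebra A B] [Algebra.Etale A B] (q : Ideal B) [q.IsPrime] :
    IsRegularLocalRing (Localization.AtPrime (Ideal.comap (algebraMap A B) q)) ↔
      IsRegularLocalRing (Localization.AtPrime q) := by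
  haveI : q.LiesOver (Ideal.comap (algebraMap A B) q) := ⟨rfl⟩
  letI := Localization.AtPrime.algebraOfLiesOver (Ideal.comap (algebraMap A B) q) q
  haveI : Module.Flat A B := inferInstance
  haveI : Module.Flat (Localization.AtPrime (Ideal.comap (algebraMap A B) q)) (Localization.AtPrime q) := inferInstance
  haveI : IsLocalHom (algebraMap (Localization.AtPrime (Ideal.comap (algebraMap A B) q)) (Localization.AtPrime q)) := inferInstance
  haveI : Algebra.IsUnramifiedAt A q := inferInstance
  have hm : (maximalIdeal (Localization.AtPrime (Ideal.comap (algebraMap A B) q))).map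
      (algebraMap (Localization.AtPrime (Ideal.comap (algebraMap A B) q)) (Localization.AtPrime q)) =
      maximalIdeal (Localization.AtPrime q) := by
    have h1 := ((Algebra.isUnramifiedAt_iff_map_eq A (Ideal.comap (algebraMap A B) q) q).mp inferInstance).2
    rw [← Localization.AtPrime.map_eq_maximalIdeal, Ideal.map_map,
      ← IsScalarTower.algebraMap_eq]
    exact h1
  haveI : Algebra.EssFiniteType (Localization.AtPrime (Ideal.comap (algebraMap A B) q)) (Localization.AtPrime q) :=
    Algebra.EssFiniteType.of_comp A _ _
  constructor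
  · intro hreg
    haveI : IsNoetherianRing (Localization.AtPrime q) :=
      Algebra.EssFiniteType.isNoetherianRing (Localization.AtPrime (Ideal.comap (algebraMap A B) q)) (Localization.AtPrime q)
    apply IsRegularLocalRing.of_spanFinrank_maximalIdeal_le
    rw [dim_eq hm, ← hreg.spanFinrank_maximalIdeal]
    exact_mod_cast spanFinrank_le hm
  · intro hreg
    haveI : IsNoetherianRing (Localization.AtPrime (Ideal.comap (algebraMap A B) q)) :=
      noeth_descent (R := Localization.AtPrime (Ideal.comap (algebraMap A B) q)) (S := Localization.AtPrime q)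
    apply IsRegularLocalRing.of_spanFinrank_maximalIdeal_le
    rw [← dim_eq hm, ← hreg.spanFinrank_maximalIdeal]
    exact_mod_cast spanFinrank_ge hm


end


/-- Let A → B be an étale ring map and q a prime of B lying over the prime p of A. Then A_p is a regular
local ring if and only if B_q is a regular local ring. -/
theorem result (A B : Type u) [CommRing A] [CommRing B]
    [Algebra A B] [Algebra.Etale A B] (q : Ideal B) [q.IsPrime] :
    IsRegularLocalRing (Localization.AtPrime (Ideal.comap (algebraMap A B) q)) ↔
      IsRegularLocalRing (Localization.AtPrime q) := by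
  classical
  exact main A B q

end Groth.Agent.S9246
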