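import Groth.Statements.S9247
import Mathlib
import Groth.Agent.Lib.Helper9.RegUFD.Main
-- import your own Groth.Agent.* helpers here

set_option autoImplicit false
universe u
open CAlg

namespace Groth.Agent.S9247

namespace Aux

theorem main (R : Type u) [CommRing R]
    [IsRegularLocalRing R] (f : R) : Subsingleton (CommRing.Pic (Localization.Away f)) := by
  have hdom : IsDomain R := Groth.Agent.Helper8.RLR.isDomain R
  have hufd : UniqueFactorizationMonoid R := Groth.Agent.Helper9.RegUFD.ufd R
  by_cases hf : f = 0
  · have hsub : Subsingleton (Localization.Away f) := by
      rw [hf]
      exact IsLocalization.subsingleton (M := Submonoid.powers (0 : R))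
        (Submonoid.mem_powers (0 : R))
    rw [CommRing.Pic.subsingleton_iff]
    intro M _ _ _
    have : Subsingleton M := Module.subsingleton (Localization.Away f) M
    exact Module.Free.of_subsingleton' _ _
  · have hle : Submonoid.powers f ≤ nonZeroDivisors R :=
      Submonoid.powers_le.mpr (mem_nonZeroDivisors_of_ne_zero hf)
    have hdomB : IsDomain (Localization.Away f) := IsLocalization.isDomain_localization hle
    have hufdB : UniqueFactorizationMonoid (Localization.Away f) := inferInstance
    infer_instance

end Aux

/-- For a regular local ring R and an element f of R, the Picard group of R_f is trivial. -/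
theorem result (R : Type u) [CommRing R]
    [IsRegularLocalRing R] (f : R) : Subsingleton (CommRing.Pic (Localization.Away f)) := by
  exact Aux.main R f

end Groth.Agent.S9247
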