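import Groth.Statements.S9249
-- import your own Groth.Agent.* helpers here
import Mathlib
import Groth.Agent.Lib.Helper7.SHens.CMFlat
import Groth.Agent.Lib.Helper2.CompleteNoeth

set_option autoImplicit false
universe u
open CAlg

namespace Groth.Agent.S9249

/-- A Noetherian local ring is Cohen-Macaulay if and only if its completion is. -/
theorem result (A : Type u) [CommRing A] [IsLocalRing A]
    [IsNoetherianRing A] :
    LocCoh.IsCohenMacaulayLocalRing A ↔
      LocCoh.IsCohenMacaulayLocalRing (AdicCompletion (IsLocalRing.maximalIdeal A) A) := by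
  have hN : IsNoetherianRing (AdicCompletion (IsLocalRing.maximalIdeal A) A) :=
    Groth.Agent.Helper2.CompleteNoeth.isNoetherianRing_adicCompletion A (IsLocalRing.maximalIdeal A)
      (IsLocalRing.maximalIdeal A).fg_of_isNoetherianRing
  have hm := AdicCompletion.maximalIdeal_eq_map (R := A)
  exact (Groth.Agent.Helper7.SHens.cm_iff_of_flat_of_pow_le A
    (AdicCompletion (IsLocalRing.maximalIdeal A) A) 1 (by rw [pow_one, hm])).symm

end Groth.Agent.S9249
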