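import Groth.Statements.S9255
import Groth.Agent.S0389
import Groth.Agent.Lib.Helper8.J2b
import Groth.Agent.Lib.Helper8.Exc1
import Groth.Agent.Lib.Helper8.FlatReg9

set_option autoImplicit false
universe u
open EGA4

namespace Groth.Agent.S9255

/-- Let R be a Noetherian domain and R → S an injective ring map of finite type with S a domain. If the
regular locus of Spec S contains a nonempty open subset, then the regular locus of Spec R contains a
nonempty open subset. -/
theorem result (R S : Type u) [CommRing R]
    [IsDomain R] [IsNoetherianRing R] [CommRing S] [IsDomain S] [Algebra R S] [Algebra.FiniteType R S]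
    (hinj : Function.Injective (algebraMap R S))
    (hS : ∃ U : Set (PrimeSpectrum S), IsOpen U ∧ U.Nonempty ∧ U ⊆ EGA4.regLocus S) :
    ∃ U : Set (PrimeSpectrum R), IsOpen U ∧ U.Nonempty ∧ U ⊆ EGA4.regLocus R := by
  classical
  obtain ⟨U, hU, hne, hUreg⟩ := hS
  obtain ⟨f, hf0, -, hfree, hfp, -⟩ := Groth.Agent.S0389.result (R := R) (S := S) (M := S)
  letI : Algebra S (TensorProduct R (Localization.Away f) S) := Algebra.TensorProduct.rightAlgebra
  haveI : IsLocalization.Away (algebraMap R S f) (TensorProduct R (Localization.Away f) S) :=
    IsLocalization.Away.tensorRight f (Localization.Away f)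
  haveI : Module.Free (Localization.Away f) (TensorProduct R (Localization.Away f) S) := hfree
  haveI : Algebra.FinitePresentation (Localization.Away f)
      (TensorProduct R (Localization.Away f) S) := hfp
  haveI : IsNoetherianRing (Localization.Away f) :=
    IsLocalization.isNoetherianRing (Submonoid.powers f) _ inferInstance
  haveI : Module.Flat (Localization.Away f) (TensorProduct R (Localization.Away f) S) :=
    Module.Flat.of_free
  haveI : Algebra.HasGoingDown (Localization.Away f) (TensorProduct R (Localization.Away f) S) :=
    Algebra.HasGoingDown.of_flat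
  have hopen : IsOpenMap (PrimeSpectrum.comap
      (algebraMap (Localization.Away f) (TensorProduct R (Localization.Away f) S))) :=
    PrimeSpectrum.isOpenMap_comap_of_hasGoingDown_of_finitePresentation
  have hembS := PrimeSpectrum.localization_away_isOpenEmbedding
    (TensorProduct R (Localization.Away f) S) (algebraMap R S f)
  have hembR := PrimeSpectrum.localization_away_isOpenEmbedding (Localization.Away f) f
  have hbot := Groth.Agent.Helper8.J2.bot_mem_of_isOpen_of_nonempty hU hne
  have hfS : algebraMap R S f ≠ 0 := fun h0 => hf0 (hinj (h0.trans (map_zero _).symm))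
  have hbotrange : (⟨⊥, Ideal.isPrime_bot⟩ : PrimeSpectrum S) ∈
      Set.range (PrimeSpectrum.comap
        (algebraMap S (TensorProduct R (Localization.Away f) S))) := by
    rw [PrimeSpectrum.localization_away_comap_range _ (algebraMap R S f)]
    show algebraMap R S f ∉ (⊥ : Ideal S)
    rw [Ideal.mem_bot]
    exact hfS
  obtain ⟨Q₀, hQ₀⟩ := hbotrange
  set V : Set (PrimeSpectrum (TensorProduct R (Localization.Away f) S)) :=
    PrimeSpectrum.comap (algebraMap S (TensorProduct R (Localization.Away f) S)) ⁻¹' U with hV
  have hVopen : IsOpen V := hU.preimage (PrimeSpectrum.continuous_comap _)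
  have hVne : V.Nonempty := ⟨Q₀, by rw [hV, Set.mem_preimage, hQ₀]; exact hbot⟩
  refine ⟨PrimeSpectrum.comap (algebraMap R (Localization.Away f)) ''
      (PrimeSpectrum.comap (algebraMap (Localization.Away f)
        (TensorProduct R (Localization.Away f) S)) '' V),
    hembR.isOpenMap _ (hopen _ hVopen), (hVne.image _).image _, ?_⟩
  rintro _ ⟨_, ⟨Q', hQ', rfl⟩, rfl⟩
  have h1 : Q' ∈ EGA4.regLocus (TensorProduct R (Localization.Away f) S) := by
    rw [Groth.Agent.Helper8.Exc.regLocus_of_isLocalization (Submonoid.powers (algebraMap R S f))]
    exact hUreg hQ'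
  have h2 : PrimeSpectrum.comap (algebraMap (Localization.Away f)
      (TensorProduct R (Localization.Away f) S)) Q' ∈ EGA4.regLocus (Localization.Away f) := by
    haveI : Q'.asIdeal.LiesOver (Q'.asIdeal.comap (algebraMap (Localization.Away f)
        (TensorProduct R (Localization.Away f) S))) := ⟨rfl⟩
    exact Groth.Agent.Helper8.FlatReg.isRegularLocalRing_of_flat_liesOver (Localization.Away f)
      (TensorProduct R (Localization.Away f) S) _ Q'.asIdeal h1
  rw [Groth.Agent.Helper8.Exc.regLocus_of_isLocalization (Submonoid.powers f)] at h2
  exact h2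

end Groth.Agent.S9255
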