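import Groth.Statements.S9256
import Groth.Agent.Lib.Helper6.ArtinReg

set_option autoImplicit false
set_option linter.style.haveILetI false
universe u
open CAlg

namespace Groth.Agent.S9256

/-- For a field extension K of k, the ring map k → K is regular exactly when K is separable over k, that
is, geometrically reduced over k. -/
theorem result (k K : Type u) [Field k] [Field K]
    [Algebra k K] : CAlg.IsRegularHom k K ↔ Algebra.IsGeometricallyReduced k K := by
  classical
  constructor
  · -- regular ⇒ geometrically reduced
    rintro ⟨-, h⟩
    haveI : (⊥ : Ideal k).IsPrime := Ideal.isPrime_bot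
    obtain ⟨-, hreg⟩ := h ⊥
    rw [Algebra.isGeometricallyReduced_field_iff]
    have hK : IsReduced (TensorProduct k K (AlgebraicClosure k)) := by
      apply IsReduced.tensorProduct_of_flat_of_forall_fg
      intro B hB
      -- B is a finite field extension of k
      have hBf : IsField B := Subalgebra.isField_of_algebraic B
      letI : Field B := hBf.toField
      haveI : Algebra.FiniteType k B := (Subalgebra.fg_iff_finiteType B).1 hB
      haveI : Algebra.IsIntegral k B := Algebra.IsIntegral.of_injective B.val Subtype.val_injective
      haveI : Module.Finite k B := Algebra.IsIntegral.finite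
      let κ := (⊥ : Ideal k).ResidueField
      let e : k ≃ₐ[k] κ := (⊥ : Ideal k).algEquivResidueFieldOfField
      letI algκB : Algebra κ B := ((algebraMap k B).comp e.symm.toAlgHom.toRingHom).toAlgebra
      haveI : IsScalarTower k κ B := IsScalarTower.of_algebraMap_eq (fun x => by
        change algebraMap k B x = algebraMap k B (e.symm (algebraMap k κ x))
        rw [← Ideal.algEquivResidueFieldOfField_apply, AlgEquiv.symm_apply_apply])
      haveI : Module.Finite κ B := Module.Finite.of_restrictScalars_finite k κ B
      have hR : IsRegularRing (TensorProduct κ B ((⊥ : Ideal k).Fiber K)) := hreg B inferInstance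
      let f1 : TensorProduct κ B ((⊥ : Ideal k).Fiber K) ≃ₐ[κ] TensorProduct k B K :=
        Algebra.TensorProduct.cancelBaseChange k κ κ B K
      let f2 : TensorProduct k B K ≃ₐ[k] TensorProduct k K B := Algebra.TensorProduct.comm k B K
      haveI : IsRegularRing (TensorProduct k K B) :=
        IsRegularRing.of_ringEquiv (R := TensorProduct κ B ((⊥ : Ideal k).Fiber K))
          (f1.toRingEquiv.trans f2.toRingEquiv)
      haveI : IsArtinianRing (TensorProduct k K B) := IsArtinianRing.of_finite K _
      exact Lib.Helper6.ArtinReg.isReduced_of_isRegularRing _
    exact isReduced_of_injective (Algebra.TensorProduct.comm k (AlgebraicClosure k) K).toAlgHom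
      (Algebra.TensorProduct.comm k (AlgebraicClosure k) K).injective
  · -- geometrically reduced ⇒ regular
    intro hgr
    refine ⟨inferInstance, ?_⟩
    intro p hp
    let κ := p.ResidueField
    let e : k ≃ₐ[k] κ := p.algEquivResidueFieldOfField
    constructor
    · -- the fibre is isomorphic to K
      let g : TensorProduct k κ K ≃ₐ[k] K :=
        (Algebra.TensorProduct.congr e.symm AlgEquiv.refl).trans (Algebra.TensorProduct.lid k K)
      exact isNoetherianRing_of_ringEquiv K g.symm.toRingEquiv
    · intro κ' _ _ hfin
      letI algkκ' : Algebra k κ' := ((algebraMap κ κ').comp (algebraMap k κ)).toAlgebra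
      haveI : IsScalarTower k κ κ' := IsScalarTower.of_algebraMap_eq (fun x => rfl)
      haveI : Module.Finite k κ := Module.Finite.of_surjective e.toLinearMap e.surjective
      haveI : Module.Finite k κ' := Module.Finite.trans κ κ'
      haveI : Algebra.IsAlgebraic k κ' := Algebra.IsAlgebraic.of_finite k κ'
      have hred : IsReduced (TensorProduct k κ' K) := inferInstance
      let f1 : TensorProduct κ κ' (p.Fiber K) ≃ₐ[κ] TensorProduct k κ' K :=
        Algebra.TensorProduct.cancelBaseChange k κ κ κ' K
      let f2 : TensorProduct k κ' K ≃ₐ[k] TensorProduct k K κ' := Algebra.TensorProduct.comm k κ' K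
      haveI : IsReduced (TensorProduct k K κ') :=
        isReduced_of_injective f2.symm.toAlgHom f2.symm.injective
      haveI : IsArtinianRing (TensorProduct k K κ') := IsArtinianRing.of_finite K _
      haveI : IsRegularRing (TensorProduct k K κ') :=
        Lib.Helper6.ArtinReg.isRegularRing_of_isReduced _
      exact IsRegularRing.of_ringEquiv (R := TensorProduct k K κ')
        (f1.toRingEquiv.trans f2.toRingEquiv).symm

end Groth.Agent.S9256
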