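import Groth.Statements.S9259
import Groth.Agent.Lib.Helper8.GRing1
import Groth.Agent.Lib.Helper8.GRing2
import Groth.Agent.Lib.Helper8.CompFib3
import Groth.Agent.Lib.Helper8.Andre8
import Groth.Agent.Lib.Helper8.Fib5

set_option autoImplicit false
open scoped TensorProduct
universe u
open CAlg

namespace Groth.Agent.S9259


section aux

variable (R Λ : Type u) [CommRing R] [CommRing Λ] [Algebra R Λ] [IsNoetherianRing Λ]

omit [IsNoetherianRing Λ] in
theorem geomReg_congr (p₁ p₂ : Ideal R) [p₁.IsPrime] [p₂.IsPrime] (h : p₁ = p₂)
    (h1 : CAlg.IsGeometricallyRegular p₁.ResidueField (p₁.Fiber Λ)) :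
    CAlg.IsGeometricallyRegular p₂.ResidueField (p₂.Fiber Λ) := by
  subst h
  exact h1

theorem fwd (h : CAlg.IsRegularHom R Λ) (q : Ideal Λ) [q.IsPrime] :
    letI := (Localization.localRingHom (Ideal.comap (algebraMap R Λ) q) q
      (algebraMap R Λ) rfl).toAlgebra
    CAlg.IsRegularHom (Localization.AtPrime (Ideal.comap (algebraMap R Λ) q))
      (Localization.AtPrime q) := by
  letI := (Localization.localRingHom (Ideal.comap (algebraMap R Λ) q) q
    (algebraMap R Λ) rfl).toAlgebra
  haveI : IsScalarTower R (Localization.AtPrime (Ideal.comap (algebraMap R Λ) q))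
      (Localization.AtPrime q) := IsScalarTower.of_algebraMap_eq (fun x => by
    rw [RingHom.algebraMap_toAlgebra, Localization.localRingHom_to_map,
      ← IsScalarTower.algebraMap_apply])
  haveI : IsNoetherianRing (Localization.AtPrime q) :=
    IsLocalization.isNoetherianRing q.primeCompl _ inferInstance
  have hq : CAlg.IsRegularHom Λ (Localization.AtPrime q) :=
    Groth.Agent.Helper8.GRing.isRegularHom_of_isLocalization q.primeCompl
  have hc : CAlg.IsRegularHom R (Localization.AtPrime q) :=
    Groth.Agent.Helper8.CompFib.isRegularHom_comp R Λ (Localization.AtPrime q) h hq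
      (fun p _ => Groth.Agent.Helper8.Fib.isNoetherianRing_fiber p)
  exact Groth.Agent.Helper8.GRing.isRegularHom_of_isLocalization_source
    (Ideal.comap (algebraMap R Λ) q).primeCompl hc

theorem bwd (q : Ideal Λ) [q.IsPrime]
    (h : letI := (Localization.localRingHom (Ideal.comap (algebraMap R Λ) q) q
      (algebraMap R Λ) rfl).toAlgebra
    CAlg.IsRegularHom (Localization.AtPrime (Ideal.comap (algebraMap R Λ) q))
      (Localization.AtPrime q)) : CAlg.IsRegularHom R (Localization.AtPrime q) := by
  letI := (Localization.localRingHom (Ideal.comap (algebraMap R Λ) q) q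
    (algebraMap R Λ) rfl).toAlgebra
  haveI : IsScalarTower R (Localization.AtPrime (Ideal.comap (algebraMap R Λ) q))
      (Localization.AtPrime q) := IsScalarTower.of_algebraMap_eq (fun x => by
    rw [RingHom.algebraMap_toAlgebra, Localization.localRingHom_to_map,
      ← IsScalarTower.algebraMap_apply])
  haveI : IsNoetherianRing (Localization.AtPrime q) :=
    IsLocalization.isNoetherianRing q.primeCompl _ inferInstance
  set P := Ideal.comap (algebraMap R Λ) q with hP
  haveI : Module.Flat (Localization.AtPrime P) (Localization.AtPrime q) := h.1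
  haveI := Groth.Agent.Helper8.GRing.isPushout_of_isLocalization (A := R)
    (A' := Localization.AtPrime P) (B := Localization.AtPrime q) P.primeCompl
  have hst : (algebraMap R (Localization.AtPrime P)).SurjectiveOnStalks :=
    RingHom.surjectiveOnStalks_of_isLocalization P.primeCompl _
  refine ⟨Module.Flat.trans R (Localization.AtPrime P) (Localization.AtPrime q),
    fun p'' _ => ⟨Groth.Agent.Helper8.Fib.isNoetherianRing_fiber p'', ?_⟩⟩
  by_cases hle : p'' ≤ P
  · -- the prime comes from the localization
    have hdisj : Disjoint (P.primeCompl : Set R) (p'' : Set R) := by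
      rw [Set.disjoint_left]
      intro x hx hx'
      exact hx (hle hx')
    haveI : (p''.map (algebraMap R (Localization.AtPrime P))).IsPrime :=
      IsLocalization.isPrime_of_isPrime_disjoint P.primeCompl _ p'' inferInstance hdisj
    have hunder : (p''.map (algebraMap R (Localization.AtPrime P))).under R = p'' :=
      IsLocalization.under_map_of_isPrime_disjoint P.primeCompl _ inferInstance hdisj
    have h1 := (Groth.Agent.Helper8.LocHom.isGeometricallyRegular_fiber_iff R
      (Localization.AtPrime q) (Localization.AtPrime P) (Localization.AtPrime q) hst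
      (p''.map (algebraMap R (Localization.AtPrime P)))).1
      (h.2 (p''.map (algebraMap R (Localization.AtPrime P)))).2
    exact geomReg_congr R (Localization.AtPrime q) _ p'' hunder h1
  · -- the fibre is the zero ring
    obtain ⟨s, hs, hsP⟩ := Set.not_subset.mp hle
    have hunit : IsUnit (algebraMap R (Localization.AtPrime q) s) := by
      rw [IsScalarTower.algebraMap_apply R Λ (Localization.AtPrime q)]
      exact IsLocalization.map_units (Localization.AtPrime q)
        (⟨algebraMap R Λ s, hsP⟩ : q.primeCompl)
    haveI : Subsingleton (p''.Fiber (Localization.AtPrime q)) := by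
      have h0 : algebraMap R p''.ResidueField s = 0 := by
        rw [Ideal.algebraMap_residueField_eq_zero]
        exact hs
      obtain ⟨v, hv⟩ := hunit.exists_right_inv
      have h1 : (1 : TensorProduct R p''.ResidueField (Localization.AtPrime q)) = 0 := by
        calc (1 : TensorProduct R p''.ResidueField (Localization.AtPrime q))
            = (1 : p''.ResidueField) ⊗ₜ[R] (1 : Localization.AtPrime q) := rfl
          _ = (1 : p''.ResidueField) ⊗ₜ[R] (s • v) := by rw [Algebra.smul_def, hv]
          _ = (s • (1 : p''.ResidueField)) ⊗ₜ[R] v := by rw [TensorProduct.smul_tmul]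
          _ = 0 := by rw [Algebra.smul_def, h0, zero_mul, TensorProduct.zero_tmul]
      exact subsingleton_of_zero_eq_one h1.symm
    intro K _ _ hfin
    haveI : Subsingleton (TensorProduct p''.ResidueField K (p''.Fiber (Localization.AtPrime q))) := by
      refine ⟨fun x y => ?_⟩
      have h : ∀ z : TensorProduct p''.ResidueField K (p''.Fiber (Localization.AtPrime q)),
          z = 0 := by
        intro z
        induction z using TensorProduct.induction_on with
        | zero => rfl
        | tmul a b => rw [Subsingleton.elim b 0, TensorProduct.tmul_zero]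
        | add a b ha hb => rw [ha, hb, add_zero]
      rw [h x, h y]
    rw [isRegularRing_iff]
    intro Q hQ
    exact absurd (Subsingleton.elim (1 : TensorProduct p''.ResidueField K
      (p''.Fiber (Localization.AtPrime q))) 0 ▸ Q.zero_mem)
      (fun h1 => hQ.ne_top ((Ideal.eq_top_iff_one Q).mpr h1))

end aux

/-- Regularity of a ring map is a local property: for a ring map R → Λ with Noetherian target,
regularity of R → Λ is equivalent to regularity of every induced local map R_p → Λ_q (q a prime of
Λ, p = q ∩ R), and also to regularity of those induced maps at the maximal ideals q of Λ. (The maps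
of local rings are the canonical localized maps.) -/
theorem result (R Λ : Type u) [CommRing R] [CommRing Λ] [Algebra R Λ]
    [IsNoetherianRing Λ] :
    (CAlg.IsRegularHom R Λ ↔
      ∀ (q : Ideal Λ) [q.IsPrime],
        letI := (Localization.localRingHom (Ideal.comap (algebraMap R Λ) q) q (algebraMap R Λ) rfl).toAlgebra
        CAlg.IsRegularHom (Localization.AtPrime (Ideal.comap (algebraMap R Λ) q))
          (Localization.AtPrime q)) ∧
    (CAlg.IsRegularHom R Λ ↔
      ∀ (n : Ideal Λ) [n.IsMaximal],
        letI := (Localization.localRingHom (Ideal.comap (algebraMap R Λ) n) n (algebraMap R Λ) rfl).toAlgebra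
        CAlg.IsRegularHom (Localization.AtPrime (Ideal.comap (algebraMap R Λ) n))
          (Localization.AtPrime n)) := by
  have key : (∀ (n : Ideal Λ) [n.IsMaximal],
        letI := (Localization.localRingHom (Ideal.comap (algebraMap R Λ) n) n
          (algebraMap R Λ) rfl).toAlgebra
        CAlg.IsRegularHom (Localization.AtPrime (Ideal.comap (algebraMap R Λ) n))
          (Localization.AtPrime n)) → CAlg.IsRegularHom R Λ := by
    intro H
    refine Groth.Agent.Helper8.Andre.isRegularHom_of_forall_isMaximal R Λ (fun m hm => ?_)
    haveI := hm
    exact bwd R Λ m (H m)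
  refine ⟨⟨fun h q _ => fwd R Λ h q, fun H => key (fun n hn => ?_)⟩,
    ⟨fun h n hn => ?_, key⟩⟩
  · haveI := hn
    exact H n
  · haveI := hn
    exact fwd R Λ h n

end Groth.Agent.S9259
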