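import Groth.Statements.S9260
import Mathlib

set_option autoImplicit false
universe u
open CAlg

namespace Groth.Agent.S9260

/-- Suppose a finite group G with n elements acts on a ring R by ring automorphisms, A → R is a ring map
compatible with the action whose image contains the invariants (so that A maps onto R^G), J is an
ideal of A, and x lies in JR. Then ∏_σ (T - σ(x)) is the image of a monic polynomial over A of
degree at most n whose coefficients below degree n all lie in J. (The published statement takes A =
R^G and a polynomial of degree n; this row allows any such A mapping onto R^G and asks degree at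
most n, which is the same when A is nonzero.) -/
theorem result (A R G : Type u) [CommRing A]
    [CommRing R] [Algebra A R] [Group G] [Fintype G] [MulSemiringAction G R] [SMulCommClass G A R]
    [Algebra.IsInvariant A R G] (J : Ideal A) (x : R) (hx : x ∈ Ideal.map (algebraMap A R) J) :
    ∃ P : Polynomial A, P.Monic ∧ P.natDegree ≤ Fintype.card G ∧
      (∀ i : ℕ, i < Fintype.card G → P.coeff i ∈ J) ∧
      Polynomial.map (algebraMap A R) P = ∏ σ : G, (Polynomial.X - Polynomial.C (σ • x)) := by
  classical
  set n := Fintype.card G with hn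
  set fA : A →+* R := algebraMap A R with hfA
  -- representation of `x`
  have hx' : x ∈ Submodule.span R (fA '' (J : Set A)) := hx
  obtain ⟨c, t, hts, -, hsum⟩ := Submodule.mem_span_iff_exists_finset_subset.mp hx'
  have hj : ∀ a : R, ∃ j : A, j ∈ J ∧ (a ∈ t → fA j = a) := by
    intro a
    by_cases ha : a ∈ t
    · obtain ⟨j, hjJ, hja⟩ := hts ha
      exact ⟨j, hjJ, fun _ => hja⟩
    · exact ⟨0, J.zero_mem, fun h => absurd h ha⟩
  choose jj hjjJ hjj using hj
  have hfix : ∀ (σ : G) (a : A), σ • fA a = fA a := fun σ a => smul_algebraMap σ a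
  -- the generic polynomial
  let L : G → MvPolynomial R R := fun σ => ∑ a ∈ t, MvPolynomial.X a * MvPolynomial.C (σ • c a)
  let Q : Polynomial (MvPolynomial R R) := ∏ σ : G, (Polynomial.X - Polynomial.C (L σ))
  -- invariance
  have hinv : ∀ τ : G, Polynomial.map (MvPolynomial.map (MulSemiringAction.toRingHom G R τ)) Q = Q := by
    intro τ
    have hL : ∀ σ, MvPolynomial.map (MulSemiringAction.toRingHom G R τ) (L σ) = L (τ * σ) := by
      intro σ
      simp only [L, map_sum, map_mul, MvPolynomial.map_X, MvPolynomial.map_C,
        MulSemiringAction.toRingHom_apply, mul_smul]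
    simp only [Q, Polynomial.map_prod, Polynomial.map_sub, Polynomial.map_X, Polynomial.map_C, hL]
    exact Fintype.prod_equiv (Equiv.mulLeft τ) _ _ (fun σ => rfl)
  have hcoef : ∀ (i : ℕ) (μ : R →₀ ℕ), ∃ a : A, fA a = (Q.coeff i).coeff μ := by
    intro i μ
    apply Algebra.IsInvariant.isInvariant (A := A) (B := R) (G := G)
    intro τ
    have h1 := congrArg (fun q : Polynomial (MvPolynomial R R) => (q.coeff i).coeff μ) (hinv τ)
    simp only [Polynomial.coeff_map, MvPolynomial.coeff_map, MulSemiringAction.toRingHom_apply] at h1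
    exact h1
  choose α hα using hcoef
  -- constant coefficient
  have hconst : ∀ i, i < n → (Q.coeff i).coeff 0 = 0 := by
    intro i hi
    have hL0 : ∀ σ, MvPolynomial.constantCoeff (L σ) = 0 := by
      intro σ
      simp only [L, map_sum, map_mul, MvPolynomial.constantCoeff_X, zero_mul, Finset.sum_const_zero]
    have h1 : Polynomial.map (MvPolynomial.constantCoeff (R := R) (σ := R)) Q = Polynomial.X ^ n := by
      simp only [Q, Polynomial.map_prod, Polynomial.map_sub, Polynomial.map_X, Polynomial.map_C, hL0,
        map_zero, sub_zero, Finset.prod_const, Finset.card_univ, hn]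
    have h2 := congrArg (fun q : Polynomial R => q.coeff i) h1
    simp only [Polynomial.coeff_map, Polynomial.coeff_X_pow, if_neg hi.ne] at h2
    exact h2
  -- evaluation
  let ev : MvPolynomial R R →+* R := MvPolynomial.eval (fun a => fA (jj a))
  have hevL : ∀ σ, ev (L σ) = σ • x := by
    intro σ
    simp only [L, ev, map_sum, map_mul, MvPolynomial.eval_X, MvPolynomial.eval_C]
    rw [← hsum, Finset.smul_sum]
    refine Finset.sum_congr rfl fun a ha => ?_
    rw [smul_eq_mul, smul_mul', hjj a ha, mul_comm]
    congr 1
    rw [← hjj a ha, hfix]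
  have hevQ : Polynomial.map ev Q = ∏ σ : G, (Polynomial.X - Polynomial.C (σ • x)) := by
    simp only [Q, Polynomial.map_prod, Polynomial.map_sub, Polynomial.map_X, Polynomial.map_C, hevL]
  -- the coefficients
  let p : ℕ → A := fun i => ∑ μ ∈ (Q.coeff i).support, α i μ * ∏ a ∈ μ.support, jj a ^ μ a
  have hpJ : ∀ i, i < n → p i ∈ J := by
    intro i hi
    refine Ideal.sum_mem _ fun μ hμ => ?_
    have hμ0 : μ ≠ 0 := by
      rintro rfl
      rw [MvPolynomial.mem_support_iff] at hμ
      exact hμ (hconst i hi)
    obtain ⟨a, ha⟩ : ∃ a, a ∈ μ.support := by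
      by_contra hcon
      push Not at hcon
      exact hμ0 (Finsupp.support_eq_empty.mp (Finset.eq_empty_of_forall_notMem hcon))
    refine Ideal.mul_mem_left _ _ (Ideal.prod_mem J ha ?_)
    have : μ a ≠ 0 := Finsupp.mem_support_iff.mp ha
    exact Ideal.pow_mem_of_mem J (hjjJ a) _ (Nat.pos_of_ne_zero this)
  have hpev : ∀ i, fA (p i) = ev (Q.coeff i) := by
    intro i
    simp only [p, ev, map_sum, map_mul, map_prod, map_pow, hα]
    rw [MvPolynomial.eval_eq]
  refine ⟨Polynomial.X ^ n + ∑ i : Fin n, Polynomial.C (p i) * Polynomial.X ^ (i : ℕ), ?_, ?_, ?_, ?_⟩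
  · exact Polynomial.monic_X_pow_add (Polynomial.degree_sum_fin_lt _)
  · refine (Polynomial.natDegree_add_le _ _).trans (max_le (Polynomial.natDegree_X_pow_le n) ?_)
    exact Polynomial.natDegree_le_of_degree_le (Polynomial.degree_sum_fin_lt _).le
  · intro i hi
    rw [Polynomial.coeff_add, Polynomial.coeff_X_pow, if_neg hi.ne, zero_add,
      Polynomial.finsetSum_coeff]
    refine Ideal.sum_mem _ fun k _ => ?_
    rw [Polynomial.coeff_C_mul_X_pow]
    split_ifs
    · exact hpJ _ k.2
    · exact J.zero_mem
  · rcases subsingleton_or_nontrivial R with hR | hR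
    · exact Subsingleton.elim _ _
    · have hmonic : (∏ σ : G, (Polynomial.X - Polynomial.C (σ • x))).Monic :=
        Polynomial.monic_prod_X_sub_C _ _
      have hdeg : (∏ σ : G, (Polynomial.X - Polynomial.C (σ • x))).natDegree = n := by
        rw [Polynomial.natDegree_finsetProd_X_sub_C_eq_card, Finset.card_univ]
      have h1 := hmonic.as_sum
      rw [hdeg] at h1
      rw [h1, Polynomial.map_add, Polynomial.map_pow, Polynomial.map_X, Polynomial.map_sum,
        Fin.sum_univ_eq_sum_range (fun i => Polynomial.map fA (Polynomial.C (p i) * Polynomial.X ^ i)) n]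
      congr 1
      refine Finset.sum_congr rfl fun i _ => ?_
      rw [Polynomial.map_mul, Polynomial.map_pow, Polynomial.map_X, Polynomial.map_C, hpev,
        ← hevQ, Polynomial.coeff_map]

end Groth.Agent.S9260
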