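import Groth.Statements.S9261
import Mathlib

set_option autoImplicit false
universe u
open CAlg

namespace Groth.Agent.S9261

/-- Let G be a finite group acting on a ring R, S = R^G its ring of invariants (here: S → R injective
with image the invariants) and A a flat S-algebra. Then the map A → A ⊗_S R is injective with image
the invariants of G acting on A ⊗_S R through the second factor; that is, A → (A ⊗_S R)^G is an
isomorphism. -/
theorem result (S R A G : Type u) [CommRing S] [CommRing R] [Algebra S R]
    [FaithfulSMul S R] [Group G] [Finite G] [MulSemiringAction G R] [SMulCommClass G S R]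
    [Algebra.IsInvariant S R G] [CommRing A] [Algebra S A] [Module.Flat S A] :
    Function.Injective (algebraMap A (TensorProduct S A R)) ∧
      ∀ x : TensorProduct S A R,
        (∀ σ : G, Algebra.TensorProduct.map (AlgHom.id S A) (MulSemiringAction.toAlgHom S R σ) x = x) →
          x ∈ Set.range (algebraMap A (TensorProduct S A R)) := by
  classical
  have : Fintype G := Fintype.ofFinite G
  have hfinj : Function.Injective (Algebra.linearMap S R) := FaithfulSMul.algebraMap_injective S R
  have hAinj : Function.Injective ((Algebra.linearMap S R).lTensor A) :=
    Module.Flat.lTensor_preserves_injective_linearMap _ hfinj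
  have hcomp : ∀ a : A, algebraMap A (TensorProduct S A R) a
      = (Algebra.linearMap S R).lTensor A ((TensorProduct.rid S A).symm a) := by
    intro a
    rw [Algebra.TensorProduct.algebraMap_apply]
    simp
  refine ⟨?_, ?_⟩
  · intro a b hab
    rw [hcomp, hcomp] at hab
    exact (TensorProduct.rid S A).symm.injective (hAinj hab)
  · intro x hx
    -- the map g
    let gσ : G → (R →ₗ[S] R) := fun σ => (MulSemiringAction.toAlgHom S R σ).toLinearMap - LinearMap.id
    let g : R →ₗ[S] (G → R) := LinearMap.pi gσ
    have hex : Function.Exact (Algebra.linearMap S R) g := by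
      intro r
      constructor
      · intro hr
        have h1 : ∀ σ : G, σ • r = r := by
          intro σ
          have := congrFun hr σ
          simp only [g, gσ, LinearMap.pi_apply, LinearMap.sub_apply, Pi.zero_apply] at this
          exact sub_eq_zero.mp this
        obtain ⟨s, hs⟩ := Algebra.IsInvariant.isInvariant (A := S) (B := R) (G := G) r h1
        exact ⟨s, hs⟩
      · rintro ⟨s, rfl⟩
        funext σ
        simp only [g, gσ, LinearMap.pi_apply, LinearMap.sub_apply, Pi.zero_apply]
        simp
    have hex2 := Module.Flat.lTensor_exact A hex
    have hgx : (g.lTensor A) x = 0 := by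
      apply (TensorProduct.piRight S S A (fun _ : G => R)).injective
      rw [map_zero]
      funext σ
      have h2 : (LinearMap.proj σ ∘ₗ (TensorProduct.piRight S S A (fun _ : G => R)).toLinearMap ∘ₗ
          g.lTensor A) = (Algebra.TensorProduct.map (AlgHom.id S A)
            (MulSemiringAction.toAlgHom S R σ)).toLinearMap.restrictScalars S - LinearMap.id := by
        apply TensorProduct.ext'
        intro a r
        simp [g, gσ, TensorProduct.tmul_sub]
      have h3 := congrArg (fun φ => φ x) h2
      simp only [LinearMap.comp_apply, LinearMap.sub_apply] at h3
      change _ = (0 : TensorProduct S A R)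
      refine Eq.trans h3 ?_
      change (Algebra.TensorProduct.map (AlgHom.id S A) (MulSemiringAction.toAlgHom S R σ)) x - x = 0
      rw [hx σ, sub_self]
    obtain ⟨y, hy⟩ := (hex2 x).mp hgx
    refine ⟨TensorProduct.rid S A y, ?_⟩
    rw [hcomp, LinearEquiv.symm_apply_apply, hy]

end Groth.Agent.S9261
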