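import Groth.Statements.S9268
import Groth.Agent.Lib.Helper8.AdicFS19

set_option autoImplicit false
universe u
open CAlg

namespace Groth.Agent.S9268

/-- Suppose A is a Noetherian ring and B is a finitely generated A-algebra, and consider a prime q of B
lying over p in A. Then A → B is smooth at q (meaning some g not in q makes A → B_g smooth) exactly
when the induced map A_p → B_q is formally smooth with respect to the adic topology defined by the
maximal ideal of B_q. -/
theorem result (A B : Type u) [CommRing A] [IsNoetherianRing A]
    [CommRing B] [Algebra A B] [Algebra.FiniteType A B] (q : Ideal B) [q.IsPrime] :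
    (∃ g : B, g ∉ q ∧ Algebra.Smooth A (Localization.Away g)) ↔
      letI := (Localization.localRingHom (Ideal.comap (algebraMap A B) q) q (algebraMap A B) rfl).toAlgebra
      CAlgX.IsAdicFormallySmooth (Localization.AtPrime (Ideal.comap (algebraMap A B) q))
        (Localization.AtPrime q) (IsLocalRing.maximalIdeal (Localization.AtPrime q)) := by
  classical
  haveI : Algebra.FinitePresentation A B := Algebra.FinitePresentation.of_finiteType.1 inferInstance
  letI : Algebra (Localization.AtPrime (Ideal.comap (algebraMap A B) q)) (Localization.AtPrime q) :=
    (Localization.localRingHom (Ideal.comap (algebraMap A B) q) q (algebraMap A B) rfl).toAlgebra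
  haveI : IsScalarTower A (Localization.AtPrime (Ideal.comap (algebraMap A B) q))
      (Localization.AtPrime q) :=
    IsScalarTower.of_algebraMap_eq (fun a => by
      show algebraMap A (Localization.AtPrime q) a =
        Localization.localRingHom (Ideal.comap (algebraMap A B) q) q (algebraMap A B) rfl
          (algebraMap A _ a)
      rw [Localization.localRingHom_to_map, ← IsScalarTower.algebraMap_apply])
  show _ ↔ CAlgX.IsAdicFormallySmooth (Localization.AtPrime (Ideal.comap (algebraMap A B) q))
        (Localization.AtPrime q) (IsLocalRing.maximalIdeal (Localization.AtPrime q))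
  constructor
  · rintro ⟨g, hg, hsm⟩
    have h1 := Algebra.basicOpen_subset_smoothLocus_iff_smooth.2 hsm
    have h2 : (⟨q, inferInstance⟩ : PrimeSpectrum B) ∈ Algebra.smoothLocus A B :=
      h1 (by simpa using hg)
    haveI : Algebra.FormallySmooth A (Localization.AtPrime q) := h2
    haveI : Algebra.FormallySmooth (Localization.AtPrime (Ideal.comap (algebraMap A B) q))
        (Localization.AtPrime q) :=
      Algebra.FormallySmooth.localization_base (Ideal.comap (algebraMap A B) q).primeCompl
    exact Groth.Agent.Helper8.AdicFS.of_formallySmooth _
  · intro h
    have h1 := Groth.Agent.Helper8.AdicFS.of_isLocalization_base (A := A)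
      (Ideal.comap (algebraMap A B) q).primeCompl h
    haveI : Algebra.IsSmoothAt A q :=
      Groth.Agent.Helper8.AdicFS.isSmoothAt_of_isAdicFormallySmooth A B q h1
    exact Algebra.IsSmoothAt.exists_notMem_smooth A q

end Groth.Agent.S9268
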