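import Groth.Statements.S9274
import Groth.Agent.Lib.Helper8.FFree2
import Groth.Agent.Lib.Helper8.FFree3
import Groth.Agent.Lib.Helper8.FFree6
import Groth.Agent.Lib.Helper8.FinDom3
import Groth.Agent.Lib.Helper8.CplMap3

set_option autoImplicit false
universe u
open CAlg

namespace Groth.Agent.S9274

/-- For a Noetherian ring R, being a G-ring is equivalent to the following: whenever S is an R-algebra
that is finite and free as an R-module, every formal fibre of every local ring of S is a regular
ring. -/
theorem result (R : Type u) [CommRing R] [IsNoetherianRing R] :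
    CAlg.IsGRing R ↔
      ∀ (S : Type u) [CommRing S] [Algebra R S] [Module.Finite R S] [Module.Free R S]
        (q : Ideal S) [q.IsPrime] (p : Ideal (Localization.AtPrime q)) [p.IsPrime],
        IsRegularRing (EGA4.formalFibre (Localization.AtPrime q) p) := by
  constructor
  · intro hR S _ _ _ _ q _ p _
    have hS : CAlg.IsGRing S := Groth.Agent.Helper8.GRing.isGRing_of_finite R S hR
    exact Groth.Agent.Helper8.CplMap.isRegularRing_of_isGeometricallyRegular _ _ (((hS.2 q).2 p).2)
  · intro H
    refine ⟨inferInstance, fun P _ => ?_⟩
    haveI : IsNoetherianRing (Localization.AtPrime P) :=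
      IsLocalization.isNoetherianRing P.primeCompl _ inferInstance
    refine (Groth.Agent.Helper8.FinDom.isRegularHom_cpl_iff_finite_domains
      (Localization.AtPrime P)).2 ?_
    intro B _ _ _ _ q _ hq
    refine Groth.Agent.Helper8.FFree.isRegularLocalRing_atPrime_of_formalFibres
      (Localization.AtPrime P) B ?_ q hq
    intro n _
    letI : Algebra R B :=
      ((algebraMap (Localization.AtPrime P) B).comp (algebraMap R (Localization.AtPrime P))).toAlgebra
    haveI : IsScalarTower R (Localization.AtPrime P) B :=
      IsScalarTower.of_algebraMap_eq (fun _ => rfl)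
    obtain ⟨S, _, _, _, _, φ, hφ⟩ := Groth.Agent.Helper8.FFree.exists_finite_free_dominating R
      P.primeCompl (Localization.AtPrime P) B
    have hM : ∀ s ∈ P.primeCompl, algebraMap R B s ∉ n := by
      intro s hs hmem
      have hu : IsUnit (algebraMap R (Localization.AtPrime P) s) :=
        IsLocalization.map_units (Localization.AtPrime P) (⟨s, hs⟩ : P.primeCompl)
      have hu' : IsUnit (algebraMap R B s) := by
        rw [IsScalarTower.algebraMap_apply R (Localization.AtPrime P) B]
        exact hu.map _
      exact (Ideal.IsPrime.ne_top inferInstance) (Ideal.eq_top_of_isUnit_mem n hmem hu')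
    have hψ := Groth.Agent.Helper8.FFree.localRingHom_surjective P.primeCompl φ hφ n hM
    haveI : IsNoetherianRing S :=
      isNoetherian_of_tower R (isNoetherian_of_isNoetherianRing_of_finite R S)
    haveI : IsNoetherianRing (Localization.AtPrime (n.comap (φ : S →+* B))) :=
      IsLocalization.isNoetherianRing (n.comap (φ : S →+* B)).primeCompl _ inferInstance
    exact Groth.Agent.Helper8.FFree.isRegularRing_formalFibre_of_surjective _ hψ
      (fun p _ => H S (n.comap (φ : S →+* B)) p) ⊥

end Groth.Agent.S9274
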