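import Groth.Statements.S9275
-- import your own Groth.Agent.* helpers here
import Mathlib
import Groth.Agent.Lib.Helper7.CAlg.EtaleAwayNbhd

set_option autoImplicit false
universe u
open EtAlg

namespace Groth.Agent.S9275

/-- Let A → B be a ring map and J an ideal of B such that A → B is étale at every prime of V(J), in the
sense that every prime q ⊇ J has some h ∉ q with A → B_h étale. Then there is g ∈ B mapping to a
unit of B/J such that A → B_g is étale. -/
theorem result (A B : Type u) [CommRing A] [CommRing B]
    [Algebra A B] (J : Ideal B)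
    (h : ∀ (q : Ideal B) [q.IsPrime], J ≤ q → ∃ h : B, h ∉ q ∧ Algebra.Etale A (Localization.Away h)) :
    ∃ g : B, IsUnit (Ideal.Quotient.mk J g) ∧ Algebra.Etale A (Localization.Away g) := by
  obtain ⟨g, hg, hEt⟩ := Groth.Agent.Helper7.AwayNbhd.exists_etale_away J h
  refine ⟨g, ?_, hEt⟩
  have h1 : Ideal.Quotient.mk J 1 = Ideal.Quotient.mk J g := Ideal.Quotient.eq.mpr hg
  rw [← h1, map_one]
  exact isUnit_one

end Groth.Agent.S9275
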