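import Groth.Statements.S9276
import Groth.Agent.Lib.Helper8.PairNoeth2
import Groth.Agent.Lib.Helper8.Andre11
import Groth.Agent.Lib.Helper7.Hens.Desc

set_option autoImplicit false
universe u
open CAlg

namespace Groth.Agent.S9276

/-- Let A be a G-ring, I an ideal of A and B the henselization of the pair (A, I). Then B is a G-ring. -/
theorem result (A : Type u) [CommRing A] (hA : CAlg.IsGRing A) (I : Ideal A)
    (B : Type u) [CommRing B] [Algebra A B] (hB : Hens2.IsPairHenselization A I B) :
    CAlg.IsGRing B := by
  haveI : IsNoetherianRing A := hA.1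
  haveI : IsNoetherianRing B :=
    Groth.Agent.Helper8.PairNoeth.isNoetherianRing_of_isPairHenselization hB
  obtain ⟨e⟩ := Groth.Agent.Helper7.Hens.nonempty_algEquiv_H hB
  haveI : Algebra.FormallyEtale A (Groth.Agent.Helper7.Hens.H A I) :=
    Groth.Agent.Helper7.Hens.formallyEtale_H
  haveI : Algebra.FormallyEtale A B := Algebra.FormallyEtale.of_equiv e.symm
  refine Groth.Agent.Helper8.GRing.isGRing_of_forall_isMaximal B (fun P hP => ?_)
  haveI : P.IsPrime := hP.isPrime
  let p : Ideal A := P.comap (algebraMap A B)
  letI : Algebra (Localization.AtPrime p) (Localization.AtPrime P) :=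
    (Localization.localRingHom p P (algebraMap A B) rfl).toAlgebra
  haveI : IsScalarTower A (Localization.AtPrime p) (Localization.AtPrime P) :=
    IsScalarTower.of_algebraMap_eq (fun a => by
      show algebraMap A (Localization.AtPrime P) a =
        Localization.localRingHom p P (algebraMap A B) rfl (algebraMap A _ a)
      rw [Localization.localRingHom_to_map, ← IsScalarTower.algebraMap_apply])
  haveI : IsLocalHom (algebraMap (Localization.AtPrime p) (Localization.AtPrime P)) :=
    Localization.isLocalHom_localRingHom p P (algebraMap A B) rfl
  haveI : Algebra.FormallyEtale B (Localization.AtPrime P) :=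
    Algebra.FormallyEtale.of_isLocalization P.primeCompl
  haveI : Algebra.FormallyEtale A (Localization.AtPrime P) :=
    Algebra.FormallyEtale.comp A B (Localization.AtPrime P)
  haveI : Algebra.FormallyEtale (Localization.AtPrime p) (Localization.AtPrime P) :=
    Algebra.FormallyEtale.localization_base p.primeCompl
  have hAp : CAlg.IsGRing (Localization.AtPrime p) :=
    Groth.Agent.Helper8.GRing.isGRing_of_isLocalization p.primeCompl hA
  haveI : IsNoetherianRing (Localization.AtPrime p) := hAp.1
  have hBP : CAlg.IsGRing (Localization.AtPrime P) :=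
    Groth.Agent.Helper8.Andre.isGRing_of_formallyEtale (Localization.AtPrime p)
      (Localization.AtPrime P) hAp
  exact Groth.Agent.Helper8.Andre.isRegularHom_cpl_of_isGRing _ hBP

end Groth.Agent.S9276
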