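import Groth.Statements.S9279
-- import your own Groth.Agent.* helpers here
import Groth.Agent.Lib.Helper8.HensCpl4
import Groth.Agent.Lib.Helper7.DimOneComp.Conn

set_option autoImplicit false
universe u
open Brnch

namespace Groth.Agent.S9279

/-- For a Noetherian local ring A with henselization S and completion A^ at its maximal ideal, the
spectrum of A^ with its closed point removed is preconnected exactly when the spectrum of S with its
closed point removed is (the two sets are empty together, namely when A has dimension zero). Stated
as: the complement of the closed point in Spec A^ is preconnected iff the complement of the closed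
point in Spec S is. -/
theorem result (A S : Type u) [CommRing A]
    [IsLocalRing A] [IsNoetherianRing A] [CommRing S] [IsLocalRing S] [Algebra A S]
    [IsLocalHom (algebraMap A S)] [Hensel.IsHenselization A S] :
    IsPreconnected
        ({IsLocalRing.closedPoint (AdicCompletion (IsLocalRing.maximalIdeal A) A)}ᶜ :
          Set (PrimeSpectrum (AdicCompletion (IsLocalRing.maximalIdeal A) A))) ↔
      IsPreconnected ({IsLocalRing.closedPoint S}ᶜ : Set (PrimeSpectrum S)) := by
  classical
  haveI : HenselianLocalRing (AdicCompletion (IsLocalRing.maximalIdeal A) A) :=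
    Groth.Agent.Helper8.GRing.henselianLocalRing_of_isAdicComplete _
  haveI : IsNoetherianRing (AdicCompletion (IsLocalRing.maximalIdeal A) A) :=
    Groth.Agent.Helper8.AdicReg.isNoetherianRing A _
  obtain ⟨ψ, hψ, -⟩ := Hensel.IsHenselization.universal (R := A) (S := S)
    (AdicCompletion (IsLocalRing.maximalIdeal A) A)
    (algebraMap A (AdicCompletion (IsLocalRing.maximalIdeal A) A)) inferInstance
  letI : Algebra S (AdicCompletion (IsLocalRing.maximalIdeal A) A) := ψ.toAlgebra
  haveI : Module.Flat S (AdicCompletion (IsLocalRing.maximalIdeal A) A) :=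
    Groth.Agent.Helper8.HensCpl.flat_psi A S ψ hψ
  haveI : IsLocalHom (algebraMap S (AdicCompletion (IsLocalRing.maximalIdeal A) A)) :=
    Groth.Agent.Helper8.HensCpl.isLocalHom_psi A S ψ hψ
  haveI : HenselianLocalRing S := Hensel.IsHenselization.henselian A
  haveI : IsNoetherianRing S := (Groth.Agent.S0511.result A S).mp inferInstance
  have hsurj : ∀ (n : ℕ) (c : AdicCompletion (IsLocalRing.maximalIdeal A) A), ∃ d : S,
      c - algebraMap S (AdicCompletion (IsLocalRing.maximalIdeal A) A) d ∈
        ((IsLocalRing.maximalIdeal S) ^ n).map
          (algebraMap S (AdicCompletion (IsLocalRing.maximalIdeal A) A)) := by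
    intro n c
    obtain ⟨a, ha⟩ := Groth.Agent.Helper8.HensCpl.exists_sub_mem_map_pow A n c
    refine ⟨algebraMap A S a, ?_⟩
    show c - ψ (algebraMap A S a) ∈ ((IsLocalRing.maximalIdeal S) ^ n).map ψ
    rw [Groth.Agent.Helper8.HensCpl.map_psi_maximalIdeal_pow A S ψ hψ n]
    have e : ψ (algebraMap A S a) = algebraMap A _ a := RingHom.congr_fun hψ a
    rw [e]
    exact ha
  exact Groth.Agent.Helper7.DimOneComp.isPreconnected_iff S
    (AdicCompletion (IsLocalRing.maximalIdeal A) A) hsurj

end Groth.Agent.S9279
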