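import Groth.Statements.S9283
import Mathlib.Tactic

set_option autoImplicit false
universe u
open CAlg

namespace Groth.Agent.S9283

/-- Let R be an auto-associated ring, that is, a local ring whose maximal ideal is weakly associated to
R: some nonzero x ∈ R is killed by a power of every element of the maximal ideal. Then every proper
finitely generated ideal of R has a nonzero annihilator. -/
theorem result (R : Type u) [CommRing R] [IsLocalRing R]
    (h : ∃ x : R, x ≠ 0 ∧ ∀ f ∈ IsLocalRing.maximalIdeal R, ∃ n : ℕ, f ^ n * x = 0)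
    (I : Ideal R) (hI : I.FG) (hI' : I ≠ ⊤) : I.annihilator ≠ ⊥ := by
  classical
  obtain ⟨x, hx0, hx⟩ := h
  obtain ⟨s, rfl⟩ := hI
  have hsm : ∀ f ∈ s, f ∈ IsLocalRing.maximalIdeal R := by
    intro f hf
    exact IsLocalRing.le_maximalIdeal hI' (Ideal.subset_span hf)
  have key : ∀ s : Finset R, (∀ f ∈ s, f ∈ IsLocalRing.maximalIdeal R) →
      ∃ y : R, y ≠ 0 ∧ (∀ f ∈ s, f * y = 0) ∧
        ∀ f ∈ IsLocalRing.maximalIdeal R, ∃ n : ℕ, f ^ n * y = 0 := by
    intro s
    induction s using Finset.induction_on with
    | empty => intro _; exact ⟨x, hx0, by simp, hx⟩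
    | insert a s ha ih =>
      intro hs
      obtain ⟨y, hy0, hys, hym⟩ := ih (fun f hf => hs f (Finset.mem_insert_of_mem hf))
      have ham : a ∈ IsLocalRing.maximalIdeal R := hs a (Finset.mem_insert_self a s)
      have hex := hym a ham
      have hn0 : Nat.find hex ≠ 0 := by
        intro h0
        have := Nat.find_spec hex
        rw [h0, pow_zero, one_mul] at this
        exact hy0 this
      obtain ⟨k, hk⟩ := Nat.exists_eq_succ_of_ne_zero hn0
      have hk1 : ¬ a ^ k * y = 0 := Nat.find_min hex (by omega)
      have hk2 : a ^ (k + 1) * y = 0 := by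
        have := Nat.find_spec hex
        rwa [hk] at this
      refine ⟨a ^ k * y, hk1, ?_, ?_⟩
      · intro f hf
        rcases Finset.mem_insert.1 hf with rfl | hf
        · rw [← mul_assoc, ← pow_succ']; exact hk2
        · rw [mul_left_comm, hys f hf, mul_zero]
      · intro f hf
        obtain ⟨n, hn⟩ := hym f hf
        exact ⟨n, by rw [mul_left_comm, hn, mul_zero]⟩
  obtain ⟨y, hy0, hys, -⟩ := key s hsm
  intro hbot
  apply hy0
  have : y ∈ (Ideal.span (s : Set R)).annihilator := by
    rw [Submodule.mem_annihilator_span]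
    rintro ⟨f, hf⟩
    rw [smul_eq_mul, mul_comm]
    exact hys f hf
  rw [hbot] at this
  simpa using this

end Groth.Agent.S9283
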