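import Groth.Statements.S9285
import Mathlib.Tactic

set_option autoImplicit false
universe u
open CAlg

namespace Groth.Agent.S9285

/-- A ring R has the property that every proper finitely generated ideal has a nonzero annihilator if
and only if every injective linear map R → R^n admits a retraction. -/
theorem result (R : Type u) [CommRing R] :
    (∀ I : Ideal R, I.FG → I ≠ ⊤ → I.annihilator ≠ ⊥) ↔
      ∀ (n : ℕ) (u : R →ₗ[R] (Fin n → R)), Function.Injective u →
        ∃ v : (Fin n → R) →ₗ[R] R, v.comp u = LinearMap.id := by
  classical
  constructor
  · intro hP n u hu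
    have hspan : Ideal.span (Set.range (u 1)) = ⊤ := by
      by_contra hne
      have hfg : (Ideal.span (Set.range (u 1))).FG := by
        exact ⟨Finset.univ.image (u 1), by simp⟩
      have hann := hP _ hfg hne
      apply hann
      rw [eq_bot_iff]
      intro r hr
      rw [Submodule.mem_annihilator_span] at hr
      have : u r = 0 := by
        have h1 : u r = r • u 1 := by rw [← map_smul, smul_eq_mul, mul_one]
        rw [h1]
        ext i
        simpa using hr ⟨u 1 i, Set.mem_range_self i⟩
      have : r = 0 := hu (by rw [this, map_zero])
      simp [this]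
    have h1 : (1 : R) ∈ Ideal.span (Set.range (u 1)) := by rw [hspan]; trivial
    rw [Ideal.mem_span_range_iff_exists_fun] at h1
    obtain ⟨c, hc⟩ := h1
    refine ⟨∑ i, c i • LinearMap.proj i, ?_⟩
    ext
    simp only [LinearMap.coe_comp, Function.comp_apply, LinearMap.coe_sum, Finset.sum_apply,
      LinearMap.smul_apply, LinearMap.proj_apply, smul_eq_mul, LinearMap.id_coe, id_eq]
    exact hc
  · intro hS I hI hItop hann
    obtain ⟨n, a, ha⟩ := Submodule.fg_iff_exists_fin_generating_family.1 hI
    let u : R →ₗ[R] (Fin n → R) := LinearMap.pi fun i => LinearMap.mulRight R (a i)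
    have hu : Function.Injective u := by
      rw [injective_iff_map_eq_zero]
      intro r hr
      have : r ∈ I.annihilator := by
        rw [← ha, Submodule.mem_annihilator_span]
        rintro ⟨_, i, rfl⟩
        have := congrFun hr i
        simpa [u] using this
      rw [hann] at this
      simpa using this
    obtain ⟨v, hv⟩ := hS n u hu
    apply hItop
    rw [Ideal.eq_top_iff_one]
    have h1 : v (u 1) = 1 := by
      have := LinearMap.congr_fun hv 1
      simpa using this
    have h2 : u 1 = ∑ i, a i • (Pi.single i (1 : R) : Fin n → R) := by
      ext j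
      simp [u, Finset.sum_apply, Pi.single_apply]
    rw [h2, map_sum] at h1
    rw [← h1]
    refine Ideal.sum_mem _ fun i _ => ?_
    rw [map_smul, smul_eq_mul]
    apply Ideal.mul_mem_right
    rw [← ha]
    exact Submodule.subset_span (Set.mem_range_self i)

end Groth.Agent.S9285
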