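import Groth.Statements.S9286
import Groth.Agent.Lib.Helper6.PropP

set_option autoImplicit false
universe u
open CAlg

namespace Groth.Agent.S9286

/-- Let R be a ring in which every proper finitely generated ideal has a nonzero annihilator. Given an
injective R-linear map u : N → M, where both N and M are finite and projective over R, the quotient
Coker(u) = M/u(N) is again projective as an R-module. -/
theorem result (R : Type u) [CommRing R]
    (hP : (∀ I : Ideal R, I.FG → I ≠ ⊤ → I.annihilator ≠ ⊥))
    (N M : Type u) [AddCommGroup N] [Module R N] [Module.Finite R N] [Module.Projective R N]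
    [AddCommGroup M] [Module R M] [Module.Finite R M] [Module.Projective R M]
    (u : N →ₗ[R] M) (hu : Function.Injective u) :
    Module.Projective R (M ⧸ LinearMap.range u) := by
  classical
  obtain ⟨S, hS⟩ := (Module.Finite.fg_top : (⊤ : Submodule R N).FG)
  obtain ⟨r, hr⟩ := Groth.Agent.Helper6.PropP.exists_local_retraction hP u hu S
  have hru : r ∘ₗ u = LinearMap.id := by
    apply LinearMap.ext_on_range (v := fun x : S => (x : N))
    · rw [Subtype.range_coe_subtype]
      simpa using hS
    · intro x
      simp only [LinearMap.comp_apply, LinearMap.id_apply]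
      exact hr x x.2
  have hru' : ∀ n, r (u n) = n := fun n => LinearMap.congr_fun hru n
  let j : M →ₗ[R] M := LinearMap.id - u ∘ₗ r
  have hj : LinearMap.range u ≤ LinearMap.ker j := by
    rintro _ ⟨n, rfl⟩
    simp only [LinearMap.mem_ker, j, LinearMap.sub_apply, LinearMap.id_apply, LinearMap.comp_apply,
      hru', sub_self]
  refine Module.Projective.of_split ((LinearMap.range u).liftQ j hj) (LinearMap.range u).mkQ ?_
  apply Submodule.linearMap_qext
  ext m
  simp only [LinearMap.comp_apply, Submodule.mkQ_apply, Submodule.liftQ_apply, LinearMap.id_apply, j,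
    LinearMap.sub_apply]
  rw [Submodule.Quotient.mk_sub, sub_eq_self]
  rw [Submodule.Quotient.mk_eq_zero]
  exact LinearMap.mem_range_self u (r m)

end Groth.Agent.S9286
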