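import Groth.Statements.S9300
import Mathlib.Tactic

set_option autoImplicit false
universe u
open CAlg

namespace Groth.Agent.S9300

/-- Let A and B be domains and A → B a ring map for which the generic point of Spec(A) has a unique
preimage in Spec(B). Then every nonzero ideal of B has nonzero preimage in A. -/
theorem result (A B : Type u) [CommRing A] [IsDomain A]
    [CommRing B] [IsDomain B] (φ : A →+* B)
    (h : ∃! q : PrimeSpectrum B, Ideal.comap φ q.asIdeal = ⊥) (J : Ideal B) (hJ : J ≠ ⊥) :
    Ideal.comap φ J ≠ ⊥ := by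
  obtain ⟨q, hq, hquniq⟩ := h
  -- `φ` is injective
  have hinj : Function.Injective φ := by
    rw [injective_iff_map_eq_zero]
    intro a ha
    have : a ∈ Ideal.comap φ q.asIdeal := by
      rw [Ideal.mem_comap, ha]; exact q.asIdeal.zero_mem
    rw [hq] at this
    simpa using this
  intro hJ0
  -- the multiplicative set `φ (A \ {0})`
  have hdisj : Disjoint ((Submonoid.map φ (nonZeroDivisors A) : Submonoid B) : Set B) (J : Set B) := by
    rw [Set.disjoint_left]
    rintro _ ⟨a, ha, rfl⟩ haJ
    have : a ∈ Ideal.comap φ J := haJ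
    rw [hJ0] at this
    have ha0 : a = 0 := by simpa using this
    exact (nonZeroDivisors.ne_zero ha) ha0
  obtain ⟨p, hp, hJp, hpdisj⟩ := Ideal.exists_le_prime_disjoint J _ hdisj.symm
  have hp0 : Ideal.comap φ p = ⊥ := by
    rw [eq_bot_iff]
    intro a ha
    by_contra ha0
    have ha0' : a ≠ 0 := by simpa using ha0
    have : φ a ∈ ((Submonoid.map φ (nonZeroDivisors A) : Submonoid B) : Set B) :=
      ⟨a, mem_nonZeroDivisors_of_ne_zero ha0', rfl⟩
    exact Set.disjoint_left.1 hpdisj ha this
  have h1 : (⟨p, hp⟩ : PrimeSpectrum B) = q := hquniq ⟨p, hp⟩ hp0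
  have h2 : (⟨⊥, Ideal.isPrime_bot⟩ : PrimeSpectrum B) = q := by
    apply hquniq
    rw [eq_bot_iff]
    intro a ha
    have : φ a = 0 := by simpa using ha
    have : a = 0 := hinj (by rw [this, map_zero])
    simp [this]
  have : p = ⊥ := by
    have := h1.trans h2.symm
    exact congrArg PrimeSpectrum.asIdeal this
  apply hJ
  rw [eq_bot_iff, ← this]
  exact hJp

end Groth.Agent.S9300
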