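import Groth.Statements.S9301
import Mathlib

set_option autoImplicit false
universe u
open CAlg

namespace Groth.Agent.S9301

/-- Let A and B be domains and A → B a flat ring map which is the localization of a quasi-finite ring
map A → B₀ (of finite type with finite fibres). Then every nonzero ideal of B has nonzero preimage
in A. -/
theorem result (A B₀ B : Type u) [CommRing A] [IsDomain A]
    [CommRing B₀] [CommRing B] [IsDomain B] [Algebra A B₀] [Algebra.FiniteType A B₀]
    [Algebra.QuasiFinite A B₀] (S : Submonoid B₀) [Algebra B₀ B] [IsLocalization S B] [Algebra A B]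
    [IsScalarTower A B₀ B] [Module.Flat A B] (J : Ideal B) (hJ : J ≠ ⊥) :
    Ideal.comap (algebraMap A B) J ≠ ⊥ := by
  classical
  let K := FractionRing A
  have : Algebra.QuasiFinite A B := Algebra.QuasiFinite.of_isLocalization (R := A) (S := B₀) (T := B) S
  have : Algebra.QuasiFinite K (TensorProduct A K B) := inferInstance
  have : Module.Finite K (TensorProduct A K B) := Module.Finite.of_quasiFinite
  have : Algebra.IsIntegral K (TensorProduct A K B) := inferInstance
  -- every element of B is algebraic over A
  have halg : ∀ b : B, ∃ p : Polynomial A, p ≠ 0 ∧ Polynomial.aeval b p = 0 := by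
    intro b
    have h1 : IsAlgebraic K ((1 : K) ⊗ₜ[A] b : TensorProduct A K B) :=
      (Algebra.IsIntegral.isIntegral _).isAlgebraic
    have h2 : IsAlgebraic A ((1 : K) ⊗ₜ[A] b : TensorProduct A K B) :=
      (IsFractionRing.isAlgebraic_iff A K (TensorProduct A K B)).mpr h1
    obtain ⟨p, hp, hpx⟩ := h2
    have h3 : ((1 : K) ⊗ₜ[A] b : TensorProduct A K B) =
        (Algebra.TensorProduct.includeRight : B →ₐ[A] TensorProduct A K B) b := rfl
    rw [h3, Polynomial.aeval_algHom_apply] at hpx
    have h4 : (TensorProduct.mk A K B 1) (Polynomial.aeval b p) = 0 := hpx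
    have : IsLocalizedModule (nonZeroDivisors A) (TensorProduct.mk A K B 1) :=
      (isLocalizedModule_iff_isBaseChange (nonZeroDivisors A) K _).mpr
        (TensorProduct.isBaseChange A B K)
    obtain ⟨c, hc⟩ := (IsLocalizedModule.eq_zero_iff (nonZeroDivisors A)
      (TensorProduct.mk A K B 1)).mp h4
    refine ⟨Polynomial.C (c : A) * p, ?_, ?_⟩
    · exact mul_ne_zero (by simp [nonZeroDivisors.ne_zero c.2]) hp
    · rw [map_mul, Polynomial.aeval_C]
      rw [Submonoid.smul_def, Algebra.smul_def] at hc
      exact hc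
  obtain ⟨b, hbJ, hb0⟩ := Submodule.exists_mem_ne_zero_of_ne_bot hJ
  obtain ⟨p, hp, hpb⟩ := halg b
  -- strip powers of X
  obtain ⟨k, q, hq0, hpq⟩ : ∃ (k : ℕ) (q : Polynomial A), q.coeff 0 ≠ 0 ∧ p = Polynomial.X ^ k * q := by
    obtain ⟨q, hpq, hq⟩ := Polynomial.exists_eq_pow_rootMultiplicity_mul_and_not_dvd p hp 0
    refine ⟨Polynomial.rootMultiplicity 0 p, q, ?_, ?_⟩
    · intro h0
      apply hq
      rw [Polynomial.C_0, sub_zero]
      exact Polynomial.X_dvd_iff.mpr h0
    · simpa using hpq
  rw [hpq, map_mul, map_pow, Polynomial.aeval_X] at hpb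
  have hqb : Polynomial.aeval b q = 0 := by
    rcases mul_eq_zero.mp hpb with h | h
    · exact absurd (eq_zero_of_pow_eq_zero h) hb0
    · exact h
  intro hbot
  apply hq0
  have hmem : q.coeff 0 ∈ Ideal.comap (algebraMap A B) J := by
    rw [Ideal.mem_comap]
    have hdm := Polynomial.divX_mul_X_add q
    have h5 : Polynomial.aeval b q = Polynomial.aeval b q.divX * b + algebraMap A B (q.coeff 0) := by
      conv_lhs => rw [← hdm]
      simp
    rw [hqb] at h5
    have h6 : algebraMap A B (q.coeff 0) = -(Polynomial.aeval b q.divX * b) := by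
      linear_combination -h5
    rw [h6]
    exact J.neg_mem (J.mul_mem_left _ hbJ)
  rw [hbot] at hmem
  exact hmem

end Groth.Agent.S9301
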