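import Groth.Statements.S9306
import Mathlib
import Groth.Prelude.Def_EtRam
import Groth.Agent.Lib.Helper9.EtRam.Dom6
-- import your own Groth.Agent.* helpers here

set_option autoImplicit false
universe u
open EtRam

namespace Groth.Agent.S9306

namespace Aux
open IsLocalRing EtRam TensorProduct Groth.Agent.Helper9.EtRamLib

theorem main (A B K L K' : Type u) [CommRing A] [IsDomain A]
    [IsDiscreteValuationRing A] [CommRing B] [IsDomain B] [IsDiscreteValuationRing B] [Algebra A B]
    [IsLocalHom (algebraMap A B)] (hinj : Function.Injective (algebraMap A B))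
    [Field K] [Field L] [Field K'] [Algebra A K] [IsFractionRing A K] [Algebra B L] [IsFractionRing B L]
    [Algebra K L] [Algebra A L] [IsScalarTower A K L] [IsScalarTower A B L]
    [Algebra K K'] [FiniteDimensional K K'] [Algebra.IsSeparable K K']
    (h : EtRam.IsUnramifiedExt A ((algebraMap K K').comp (algebraMap A K)))
    (F : Type u) [Field F] [Algebra (K' ⊗[K] L) F] (hF : Function.Surjective (algebraMap (K' ⊗[K] L) F)) :
    EtRam.IsUnramifiedExt B ((algebraMap (K' ⊗[K] L) F).comp
      ((Algebra.TensorProduct.includeRight : L →ₐ[K] K' ⊗[K] L).toRingHom.comp (algebraMap B L))) := by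
  set ψ : L →+* F := (algebraMap (K' ⊗[K] L) F).comp
    (Algebra.TensorProduct.includeRight : L →ₐ[K] K' ⊗[K] L).toRingHom with hψ
  set φ : K' →+* F := (algebraMap (K' ⊗[K] L) F).comp
    (Algebra.TensorProduct.includeLeft : K' →ₐ[K] K' ⊗[K] L).toRingHom with hφdef
  letI : Algebra L F := ψ.toAlgebra
  letI : Algebra K F := ((algebraMap L F).comp (algebraMap K L)).toAlgebra
  haveI : IsScalarTower K L F := IsScalarTower.of_algebraMap_eq (fun _ => rfl)
  have hφ : φ.comp (algebraMap K K') = (algebraMap L F).comp (algebraMap K L) := by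
    ext k
    show algebraMap (K' ⊗[K] L) F ((algebraMap K K' k) ⊗ₜ 1) =
      algebraMap (K' ⊗[K] L) F (1 ⊗ₜ (algebraMap K L k))
    congr 1
    rw [Algebra.algebraMap_eq_smul_one, Algebra.algebraMap_eq_smul_one, TensorProduct.smul_tmul]
  let φa : K' →ₐ[K] F := { φ with commutes' := fun k => RingHom.congr_fun hφ k }
  let Φ : L ⊗[K] K' →ₐ[L] F :=
    Algebra.TensorProduct.lift (Algebra.ofId L F) φa (fun _ _ => Commute.all _ _)
  have hmul : ∀ (k' : K') (l : L), algebraMap (K' ⊗[K] L) F (k' ⊗ₜ l) = φ k' * ψ l := by
    intro k' l
    show _ = algebraMap (K' ⊗[K] L) F (k' ⊗ₜ 1) * algebraMap (K' ⊗[K] L) F (1 ⊗ₜ l)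
    rw [← map_mul, Algebra.TensorProduct.tmul_mul_tmul, mul_one, one_mul]
  have hΦ : Function.Surjective Φ := by
    intro x
    obtain ⟨t, rfl⟩ := hF x
    induction t using TensorProduct.induction_on with
    | zero => exact ⟨0, by simp⟩
    | tmul k' l =>
      refine ⟨l ⊗ₜ k', ?_⟩
      rw [hmul]
      simp only [Φ, Algebra.TensorProduct.lift_tmul]
      rw [mul_comm]
      rfl
    | add x y hx hy =>
      obtain ⟨a, ha⟩ := hx
      obtain ⟨b, hb⟩ := hy
      exact ⟨a + b, by rw [map_add, ha, hb, map_add]⟩
  haveI : FiniteDimensional L F := Module.Finite.of_surjective Φ.toLinearMap hΦ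
  have hgen : Subfield.closure (Set.range φ ∪ Set.range (algebraMap L F)) = ⊤ := by
    rw [eq_top_iff]
    intro x _
    obtain ⟨t, rfl⟩ := hF x
    clear * - hmul
    induction t using TensorProduct.induction_on with
    | zero => rw [map_zero]; exact zero_mem _
    | tmul k' l =>
      rw [hmul]
      exact mul_mem (Subfield.subset_closure (Or.inl ⟨k', rfl⟩))
        (Subfield.subset_closure (Or.inr ⟨l, rfl⟩))
    | add x y hx hy => rw [map_add]; exact add_mem hx hy
  exact unramified_base_change h φ hφ hgen

end Aux

open TensorProduct in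
/-- Let A → B be an injective local homomorphism of discrete valuation rings with fraction fields K ⊆ L,
and let K' be a finite separable extension of K that is unramified relative to A. Then every field F
onto which K' ⊗_K L surjects is, as an extension of L, unramified relative to B. (The published
statement also records that K' ⊗_K L is a finite product of fields, whose factors are these F; this
row does not state that part.) -/
theorem result (A B K L K' : Type u) [CommRing A] [IsDomain A]
    [IsDiscreteValuationRing A] [CommRing B] [IsDomain B] [IsDiscreteValuationRing B] [Algebra A B]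
    [IsLocalHom (algebraMap A B)] (hinj : Function.Injective (algebraMap A B))
    [Field K] [Field L] [Field K'] [Algebra A K] [IsFractionRing A K] [Algebra B L] [IsFractionRing B L]
    [Algebra K L] [Algebra A L] [IsScalarTower A K L] [IsScalarTower A B L]
    [Algebra K K'] [FiniteDimensional K K'] [Algebra.IsSeparable K K']
    (h : EtRam.IsUnramifiedExt A ((algebraMap K K').comp (algebraMap A K)))
    (F : Type u) [Field F] [Algebra (K' ⊗[K] L) F] (hF : Function.Surjective (algebraMap (K' ⊗[K] L) F)) :
    EtRam.IsUnramifiedExt B ((algebraMap (K' ⊗[K] L) F).comp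
      ((Algebra.TensorProduct.includeRight : L →ₐ[K] K' ⊗[K] L).toRingHom.comp (algebraMap B L))) := by
  exact Aux.main A B K L K' hinj h F hF

end Groth.Agent.S9306
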