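import Groth.Statements.S9308
import Groth.Agent.Lib.Helper8.ColimSm3
import Groth.Agent.Lib.Helper8.AdicFS17
import Groth.Agent.Lib.Helper8.CompFib1

set_option autoImplicit false
universe u
open CAlg

namespace Groth.Agent.S9308

/-- Let R be a ring and (A_i, φ_ii') a directed system of smooth R-algebras with colimit Λ (the index
type is taken in the universe of the rings). Suppose that for every prime p of R the ring Λ ⊗_R κ(p)
is Noetherian. Then R → Λ is a regular ring map. -/
theorem result (R : Type u) [CommRing R] {ι : Type u} [Preorder ι]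
    [IsDirectedOrder ι] [Nonempty ι] (G : ι → Type u) [∀ i, CommRing (G i)] [∀ i, Algebra R (G i)]
    (f : ∀ i j : ι, i ≤ j → (G i →ₐ[R] G j)) [DirectedSystem G (fun i j h => f i j h)]
    (hs : ∀ i, Algebra.Smooth R (G i))
    (hN : ∀ (p : Ideal R) [p.IsPrime], IsNoetherianRing (p.Fiber (DirectLimit G f))) :
    CAlg.IsRegularHom R (DirectLimit G f) := by
  classical
  have hflat : ∀ i, Module.Flat R (G i) := fun i => by
    haveI := hs i
    infer_instance
  refine ⟨Groth.Agent.Helper8.ColimSm.flat_directLimit G f hflat, fun p _ => ⟨hN p, ?_⟩⟩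
  intro k' _ _ hfin
  letI algRk' : Algebra R k' :=
    ((algebraMap p.ResidueField k').comp (algebraMap R p.ResidueField)).toAlgebra
  haveI : IsScalarTower R p.ResidueField k' := IsScalarTower.of_algebraMap_eq (fun _ => rfl)
  haveI := hN p
  haveI : Module.Finite p.ResidueField k' := hfin
  haveI : IsNoetherianRing (TensorProduct p.ResidueField k' (p.Fiber (DirectLimit G f))) :=
    Groth.Agent.Helper8.CompFib.isNoetherianRing_tensor_of_finite _ _ _
  let e := Algebra.TensorProduct.cancelBaseChange R p.ResidueField k' k' (DirectLimit G f)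
  haveI : IsNoetherianRing (TensorProduct R k' (DirectLimit G f)) :=
    isNoetherianRing_of_ringEquiv _ e.toRingEquiv
  have hreg : ∀ i, IsRegularRing (TensorProduct R k' (G i)) := fun i => by
    haveI := hs i
    haveI : Algebra.Smooth k' (TensorProduct R k' (G i)) := inferInstance
    haveI : IsNoetherianRing (TensorProduct R k' (G i)) :=
      Algebra.FiniteType.isNoetherianRing k' _
    exact Groth.Agent.Helper8.AdicFS.isRegularRing_of_formallySmooth_field k' _
  haveI := Groth.Agent.Helper8.ColimSm.isRegularRing_tensor_directLimit G f k' hreg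
  exact IsRegularRing.of_ringEquiv e.symm.toRingEquiv

end Groth.Agent.S9308
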