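import Groth.Statements.S9310
import Groth.Agent.Lib.Helper8.PSeries3

set_option autoImplicit false
universe u
open CAlg

namespace Groth.Agent.S9310

/-- Let K be a field, A = K[[x_1, ..., x_n]], and y_1, ..., y_n ∈ A a regular system of parameters (n
elements generating the maximal ideal). Then the substitution map K[[y_1, ..., y_n]] → A is an
isomorphism: f ↦ f(y_1, ..., y_n) is a bijection of K[[x_1, ..., x_n]] onto itself. -/
theorem result (K : Type u) [Field K] (n : ℕ)
    (y : Fin n → MvPowerSeries (Fin n) K)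
    (hy : Ideal.span (Set.range y) = IsLocalRing.maximalIdeal (MvPowerSeries (Fin n) K)) :
    Function.Bijective (MvPowerSeries.subst y : MvPowerSeries (Fin n) K → MvPowerSeries (Fin n) K) := by
  classical
  have hy0 : ∀ i, MvPowerSeries.constantCoeff (y i) = 0 := by
    intro i
    have h1 : y i ∈ IsLocalRing.maximalIdeal (MvPowerSeries (Fin n) K) := by
      rw [← hy]; exact Ideal.subset_span ⟨i, rfl⟩
    exact (Groth.Agent.Helper8.mvPowerSeries_mem_maximalIdeal_iff (Fin n) K (y i)).1 h1
  have ha : MvPowerSeries.HasSubst y := MvPowerSeries.hasSubst_of_constantCoeff_zero hy0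
  let φ : MvPowerSeries (Fin n) K →ₐ[K] MvPowerSeries (Fin n) K := MvPowerSeries.substAlgHom ha
  have hφ : (⇑φ : MvPowerSeries (Fin n) K → MvPowerSeries (Fin n) K) = MvPowerSeries.subst y :=
    MvPowerSeries.coe_substAlgHom ha
  rw [← hφ]
  haveI : IsAdicComplete (IsLocalRing.maximalIdeal K) K := by
    rw [IsLocalRing.maximalIdeal_eq_bot]
    infer_instance
  apply Groth.Agent.Helper8.PSeries.bijective_of_map_maximalIdeal
  have h2 : (⇑φ.toRingHom ∘ fun s : Fin n => (MvPowerSeries.X s : MvPowerSeries (Fin n) K)) = y := by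
    funext i
    show φ (MvPowerSeries.X i) = y i
    exact MvPowerSeries.substAlgHom_X ha i
  rw [Groth.Agent.Helper8.mvPowerSeries_maximalIdeal_eq (Fin n) K, Ideal.map_span,
    ← Set.range_comp, h2, ← Groth.Agent.Helper8.mvPowerSeries_maximalIdeal_eq (Fin n) K, ← hy]

end Groth.Agent.S9310
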