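import Groth.Statements.S9311
import Groth.Agent.Lib.Helper8.PSeries3

set_option autoImplicit false
universe u
open CAlg

namespace Groth.Agent.S9311

/-- Let Λ be a Cohen ring (a complete discrete valuation ring whose maximal ideal is generated by a
prime number p), B = Λ[[x_1, ..., x_n]], and y_1, ..., y_n ∈ B with zero constant terms such that p,
y_1, ..., y_n is a regular system of parameters of B (these n + 1 elements generate the maximal
ideal). Then the substitution map Λ[[y_1, ..., y_n]] → B is an isomorphism: f ↦ f(y_1, ..., y_n) is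
a bijection of Λ[[x_1, ..., x_n]] onto itself. (The published statement allows the y_i to have
constant terms in pΛ, the substitution being defined through the (p, x)-adic topology of B; this row
asks the constant terms to vanish, the case in which substitution is defined coefficientwise with no
topology on Λ.) -/
theorem result (Λ : Type u) [CommRing Λ] [IsDomain Λ]
    [IsDiscreteValuationRing Λ] [IsAdicComplete (IsLocalRing.maximalIdeal Λ) Λ] (p : ℕ) (hp : p.Prime)
    (hm : IsLocalRing.maximalIdeal Λ = Ideal.span {(p : Λ)}) (n : ℕ)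
    (y : Fin n → MvPowerSeries (Fin n) Λ) (hy0 : ∀ i, MvPowerSeries.constantCoeff (y i) = 0)
    (hy : Ideal.span (insert (p : MvPowerSeries (Fin n) Λ) (Set.range y)) =
      IsLocalRing.maximalIdeal (MvPowerSeries (Fin n) Λ)) :
    Function.Bijective (MvPowerSeries.subst y : MvPowerSeries (Fin n) Λ → MvPowerSeries (Fin n) Λ) := by
  classical
  have ha : MvPowerSeries.HasSubst y := MvPowerSeries.hasSubst_of_constantCoeff_zero hy0
  let φ : MvPowerSeries (Fin n) Λ →ₐ[Λ] MvPowerSeries (Fin n) Λ := MvPowerSeries.substAlgHom ha
  have hφ : (⇑φ : MvPowerSeries (Fin n) Λ → MvPowerSeries (Fin n) Λ) = MvPowerSeries.subst y :=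
    MvPowerSeries.coe_substAlgHom ha
  rw [← hφ]
  apply Groth.Agent.Helper8.PSeries.bijective_of_map_maximalIdeal
  have h1 : φ.toRingHom (MvPowerSeries.C (p : Λ)) = ((p : ℕ) : MvPowerSeries (Fin n) Λ) := by
    show φ (MvPowerSeries.C (p : Λ)) = _
    rw [map_natCast, map_natCast]
  have h2 : (⇑φ.toRingHom ∘ fun s : Fin n => (MvPowerSeries.X s : MvPowerSeries (Fin n) Λ)) = y := by
    funext i
    show φ (MvPowerSeries.X i) = y i
    exact MvPowerSeries.substAlgHom_X ha i
  rw [Groth.Agent.Helper8.PSeries.maximalIdeal_eq_span_insert (p : Λ) hm, Ideal.map_span,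
    Set.image_insert_eq, ← Set.range_comp, h1, h2,
    ← Groth.Agent.Helper8.PSeries.maximalIdeal_eq_span_insert (p : Λ) hm, ← hy]

end Groth.Agent.S9311
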