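import Groth.Statements.S9312
import Mathlib

set_option autoImplicit false
universe u
open CAlg

namespace Groth.Agent.S9312

section


open Polynomial

section setup
variable (R G : Type u) [CommRing R] [Group G] [Fintype G] [MulSemiringAction G R]

noncomputable def tau (κ : Type) (σ : G) : MvPolynomial κ R →+* MvPolynomial κ R :=
  MvPolynomial.map (MulSemiringAction.toRingHom G R σ)

noncomputable def L {κ : Type} [Fintype κ] (y : κ → R) : MvPolynomial κ R :=
  ∑ j, MvPolynomial.X j * MvPolynomial.C (y j)

noncomputable def Phi {κ : Type} [Fintype κ] (y : κ → R) : Polynomial (MvPolynomial κ R) :=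
  ∏ σ : G, (X - C (tau R G κ σ (L R y)))

theorem tau_tau (κ : Type) (ρ σ : G) (p : MvPolynomial κ R) :
    tau R G κ ρ (tau R G κ σ p) = tau R G κ (ρ * σ) p := by
  unfold tau
  rw [MvPolynomial.map_map]
  have : (MulSemiringAction.toRingHom G R ρ).comp (MulSemiringAction.toRingHom G R σ) =
      MulSemiringAction.toRingHom G R (ρ * σ) := by
    refine RingHom.ext fun r => ?_
    simp [mul_smul]
  rw [this]

theorem Phi_map_tau {κ : Type} [Fintype κ] (y : κ → R) (ρ : G) :
    (Phi R G y).map (tau R G κ ρ) = Phi R G y := by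
  unfold Phi
  rw [Polynomial.map_prod]
  simp only [Polynomial.map_sub, Polynomial.map_X, Polynomial.map_C, tau_tau]
  exact Fintype.prod_equiv (Equiv.mulLeft ρ) _ _ (fun σ => rfl)

theorem Phi_map_eval {κ : Type} [Fintype κ] (y : κ → R) {B' : Type*} [CommRing B']
    (ψ : R →+* B') (β : κ → B') :
    (Phi R G y).map (MvPolynomial.eval₂Hom ψ β) =
      ∏ σ : G, (X - C (∑ j, β j * ψ (σ • y j))) := by
  unfold Phi
  rw [Polynomial.map_prod]
  refine Finset.prod_congr rfl fun σ _ => ?_
  simp only [Polynomial.map_sub, Polynomial.map_X, Polynomial.map_C]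
  congr 2
  unfold tau L
  simp [MvPolynomial.eval₂_map]

theorem Phi_monic {κ : Type} [Fintype κ] (y : κ → R) : (Phi R G y).Monic := by
  unfold Phi
  exact Polynomial.monic_prod_of_monic _ _ fun σ _ => Polynomial.monic_X_sub_C _

theorem inj_map (κ : Type) : Function.Injective
    (MvPolynomial.map (σ := κ) (FixedPoints.subring R G).subtype) :=
  MvPolynomial.map_injective _ Subtype.val_injective

theorem exists_Phi0 {κ : Type} [Fintype κ] (y : κ → R) :
    ∃ Φ₀ : Polynomial (MvPolynomial κ (FixedPoints.subring R G)),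
      Φ₀.map (MvPolynomial.map (FixedPoints.subring R G).subtype) = Phi R G y := by
  have : Phi R G y ∈ (Polynomial.mapRingHom
      (MvPolynomial.map (σ := κ) (FixedPoints.subring R G).subtype)).rangeS := by
    rw [Polynomial.mem_map_rangeS]
    intro n
    rw [RingHom.mem_rangeS, ← Set.mem_range, MvPolynomial.mem_range_map_iff_coeffs_subset]
    intro c hc
    rw [Finset.mem_coe, MvPolynomial.mem_coeffs_iff] at hc
    obtain ⟨m, -, rfl⟩ := hc
    have hfix : ∀ ρ : G, ρ • (MvPolynomial.coeff m ((Phi R G y).coeff n)) =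
        MvPolynomial.coeff m ((Phi R G y).coeff n) := by
      intro ρ
      have h1 := Phi_map_tau R G y ρ
      have h2 : ((Phi R G y).map (tau R G κ ρ)).coeff n = (Phi R G y).coeff n := by rw [h1]
      rw [Polynomial.coeff_map] at h2
      have h3 := congrArg (MvPolynomial.coeff m) h2
      unfold tau at h3
      rw [MvPolynomial.coeff_map] at h3
      exact h3
    exact ⟨⟨_, hfix⟩, rfl⟩
  obtain ⟨Φ₀, h⟩ := this
  exact ⟨Φ₀, h⟩

end setup


section part1
open TensorProduct
variable (R G A : Type u) [CommRing R] [Group G] [Fintype G]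
    [MulSemiringAction G R] [CommRing A] [Algebra (FixedPoints.subring R G) A]

theorem part1 (b : TensorProduct (FixedPoints.subring R G) A R)
    (hb : ∀ σ : G, Algebra.TensorProduct.map (AlgHom.id (FixedPoints.subring R G) A)
        (MulSemiringAction.toAlgHom (FixedPoints.subring R G) R σ) b = b) :
    ∃ P : Polynomial A, P.Monic ∧
      Polynomial.map (algebraMap A (TensorProduct (FixedPoints.subring R G) A R)) P =
        (Polynomial.X - Polynomial.C b) ^ Fintype.card G := by
  obtain ⟨k, a, y, hsum⟩ := TensorProduct.exists_sum_tmul_eq b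
  obtain ⟨Φ₀, hΦ₀⟩ := exists_Phi0 R G y
  have hmonic : Φ₀.Monic :=
    Polynomial.monic_of_injective (inj_map R G _) (by rw [hΦ₀]; exact Phi_monic R G y)
  refine ⟨Φ₀.map (MvPolynomial.aeval a :
    MvPolynomial (Fin k) (FixedPoints.subring R G) →ₐ[FixedPoints.subring R G] A).toRingHom,
    hmonic.map _, ?_⟩
  rw [Polynomial.map_map]
  have hcomp : (algebraMap A (TensorProduct (FixedPoints.subring R G) A R)).comp
      (MvPolynomial.aeval a :
        MvPolynomial (Fin k) (FixedPoints.subring R G) →ₐ[FixedPoints.subring R G] A).toRingHom =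
      (MvPolynomial.eval₂Hom
        (Algebra.TensorProduct.includeRight :
          R →ₐ[FixedPoints.subring R G] (TensorProduct (FixedPoints.subring R G) A R)).toRingHom
        (fun j => (a j ⊗ₜ[FixedPoints.subring R G] (1 : R)))).comp
      (MvPolynomial.map (FixedPoints.subring R G).subtype) := by
    refine MvPolynomial.ringHom_ext ?_ ?_
    · intro r
      simp only [RingHom.coe_comp, Function.comp_apply, AlgHom.toRingHom_eq_coe, RingHom.coe_coe,
        MvPolynomial.aeval_C, MvPolynomial.map_C, MvPolynomial.coe_eval₂Hom, MvPolynomial.eval₂_C,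
        Algebra.TensorProduct.includeRight_apply, Algebra.TensorProduct.algebraMap_apply]
      have h1 : algebraMap (FixedPoints.subring R G) A r = r • (1 : A) :=
        Algebra.algebraMap_eq_smul_one r
      rw [h1, Algebra.algebraMap_self, RingHom.id_apply, TensorProduct.smul_tmul]
      congr 1
      simp [Subring.smul_def]
    · intro j
      simp
  rw [hcomp, ← Polynomial.map_map, hΦ₀, Phi_map_eval]
  rw [← Finset.card_univ, ← Finset.prod_const]
  refine Finset.prod_congr rfl fun σ _ => ?_
  congr 2
  rw [← hb σ, hsum]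
  simp [map_sum, Algebra.TensorProduct.tmul_mul_tmul]

end part1


section part2
open TensorProduct
variable (R G A : Type u) [CommRing R] [Group G] [Fintype G]
    [MulSemiringAction G R] [CommRing A] [Algebra (FixedPoints.subring R G) A]

theorem vanish_data (a : A) (ha : (a ⊗ₜ[FixedPoints.subring R G] (1 : R)) = 0) :
    ∃ (t : ℕ) (m : Fin (t + 1) → A) (k : ℕ) (c : Fin (t + 1) → Fin k → FixedPoints.subring R G)
      (y : Fin k → R), m 0 = a ∧
      (∀ i, (if i = 0 then (1 : R) else 0) = ∑ j, c i j • y j) ∧ ∀ j, ∑ i, c i j • m i = 0 := by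
  obtain ⟨P, hPdef⟩ : ∃ P : Submodule (FixedPoints.subring R G) A,
      P = Submodule.span (FixedPoints.subring R G) {a} := ⟨_, rfl⟩
  have haP : a ∈ P := by rw [hPdef]; exact Submodule.mem_span_singleton_self a
  have hP : P.FG := by rw [hPdef]; exact Submodule.fg_span_singleton a
  have h : LinearMap.rTensor R P.subtype ((⟨a, haP⟩ : P) ⊗ₜ[FixedPoints.subring R G] (1 : R)) = 0 := by
    rw [LinearMap.rTensor_tmul]
    exact ha
  obtain ⟨Q, hPQ, hQ, hz⟩ := TensorProduct.eq_zero_of_fg_of_subtype_eq_zero hP h
  rw [LinearMap.rTensor_tmul] at hz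
  haveI : Module.Finite (FixedPoints.subring R G) Q := Module.Finite.iff_fg.mpr hQ
  obtain ⟨t, s, hs⟩ := Module.Finite.exists_fin (R := FixedPoints.subring R G) (M := Q)
  obtain ⟨m', hm'⟩ : ∃ m' : Fin (t + 1) → Q, m' = Fin.cons ⟨a, hPQ haP⟩ s := ⟨_, rfl⟩
  obtain ⟨n, hn⟩ : ∃ n : Fin (t + 1) → R, n = fun i => if i = 0 then (1 : R) else 0 := ⟨_, rfl⟩
  have hspan : Submodule.span (FixedPoints.subring R G) (Set.range m') = ⊤ := by
    rw [← top_le_iff, ← hs]
    refine Submodule.span_mono ?_
    rintro _ ⟨i, rfl⟩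
    exact ⟨i.succ, by rw [hm']; simp⟩
  have hsum : ∑ i, m' i ⊗ₜ[FixedPoints.subring R G] n i = 0 := by
    rw [Fin.sum_univ_succ, hm', hn]
    simp only [Fin.cons_zero, if_true, Fin.cons_succ, Fin.succ_ne_zero, if_false, tmul_zero,
      Finset.sum_const_zero, add_zero]
    exact hz
  obtain ⟨k, c, y, h1, h2⟩ :=
    TensorProduct.vanishesTrivially_of_sum_tmul_eq_zero (FixedPoints.subring R G) hspan hsum
  refine ⟨t, fun i => (m' i : A), k, c, y, ?_, ?_, ?_⟩
  · rw [hm']; simp
  · intro i
    rw [← h1 i, hn]
  · intro j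
    have := congrArg Q.subtype (h2 j)
    rw [map_sum, map_zero] at this
    simpa using this


theorem Phi0_const {k : ℕ} (y : Fin k → R)
    (Φ₀ : Polynomial (MvPolynomial (Fin k) (FixedPoints.subring R G)))
    (hΦ₀ : Φ₀.map (MvPolynomial.map (FixedPoints.subring R G).subtype) = Phi R G y) :
    Φ₀.map (MvPolynomial.eval₂Hom (RingHom.id (FixedPoints.subring R G)) (0 : Fin k → _)) =
      X ^ Fintype.card G := by
  apply Polynomial.map_injective (FixedPoints.subring R G).subtype Subtype.val_injective
  rw [Polynomial.map_map]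
  have hcomp : (FixedPoints.subring R G).subtype.comp
      (MvPolynomial.eval₂Hom (RingHom.id (FixedPoints.subring R G)) (0 : Fin k → _)) =
      (MvPolynomial.eval₂Hom (RingHom.id R) (0 : Fin k → R)).comp
        (MvPolynomial.map (FixedPoints.subring R G).subtype) := by
    refine MvPolynomial.ringHom_ext ?_ ?_
    · intro r; simp
    · intro j; simp
  rw [hcomp, ← Polynomial.map_map, hΦ₀, Phi_map_eval]
  simp

theorem part2 (a : A) (ha : algebraMap A (TensorProduct (FixedPoints.subring R G) A R) a = 0) :
    (X - C a : Polynomial A) ^ Fintype.card G = X ^ Fintype.card G := by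
  have ha' : (a ⊗ₜ[FixedPoints.subring R G] (1 : R)) = 0 := by
    rw [← ha, Algebra.TensorProduct.algebraMap_apply, Algebra.algebraMap_self, RingHom.id_apply]
  obtain ⟨t, m, k, c, y, hm0, hc1, hc2⟩ := vanish_data R G A a ha'
  obtain ⟨Φ₀, hΦ₀⟩ := exists_Phi0 R G y
  -- the linear forms
  obtain ⟨ℓ, hℓ⟩ : ∃ ℓ : Fin k → MvPolynomial (Fin (t + 1)) (FixedPoints.subring R G),
      ℓ = fun j => ∑ i, MvPolynomial.C (c i j) * MvPolynomial.X i := ⟨_, rfl⟩
  obtain ⟨ζ, hζ⟩ : ∃ ζ : MvPolynomial (Fin k) (FixedPoints.subring R G) →+*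
      MvPolynomial (Fin (t + 1)) (FixedPoints.subring R G),
      ζ = MvPolynomial.eval₂Hom MvPolynomial.C ℓ := ⟨_, rfl⟩
  obtain ⟨ζS, hζS⟩ : ∃ ζS : MvPolynomial (Fin k) R →+* MvPolynomial (Fin (t + 1)) R,
      ζS = MvPolynomial.eval₂Hom MvPolynomial.C
        (fun j => MvPolynomial.map (FixedPoints.subring R G).subtype (ℓ j)) := ⟨_, rfl⟩
  have hcomm : (MvPolynomial.map (FixedPoints.subring R G).subtype).comp ζ =
      ζS.comp (MvPolynomial.map (FixedPoints.subring R G).subtype) := by
    rw [hζ, hζS]
    refine MvPolynomial.ringHom_ext ?_ ?_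
    · intro r; simp
    · intro j; simp
  -- step A
  have stepA : Φ₀.map ζ = (X - C (MvPolynomial.X 0)) ^ Fintype.card G := by
    apply Polynomial.map_injective _ (inj_map R G (Fin (t + 1)))
    rw [Polynomial.map_map, hcomm, ← Polynomial.map_map, hΦ₀, hζS, Phi_map_eval]
    rw [← Finset.card_univ, ← Finset.prod_const, Polynomial.map_prod]
    refine Finset.prod_congr rfl fun σ _ => ?_
    simp only [Polynomial.map_sub, Polynomial.map_X, Polynomial.map_C, MvPolynomial.map_X]
    congr 2
    rw [hℓ]
    simp only [map_sum, map_mul, MvPolynomial.map_C, MvPolynomial.map_X, Finset.sum_mul]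
    rw [Finset.sum_comm]
    have key : ∀ i : Fin (t + 1), ∑ j : Fin k,
        MvPolynomial.C ((FixedPoints.subring R G).subtype (c i j)) * MvPolynomial.X i *
          MvPolynomial.C (σ • y j) =
        MvPolynomial.X i * MvPolynomial.C (if i = 0 then (1 : R) else 0) := by
      intro i
      have e1 : (if i = 0 then (1 : R) else 0) = σ • (if i = 0 then (1 : R) else 0) := by
        split_ifs <;> simp
      rw [e1, hc1 i, Finset.smul_sum, map_sum, Finset.mul_sum]
      refine Finset.sum_congr rfl fun j _ => ?_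
      have e2 : σ • (c i j • y j) = ((c i j : R)) * σ • y j := by
        rw [Subring.smul_def, smul_eq_mul, smul_mul']
        congr 1
        exact (c i j).2 σ
      rw [e2, map_mul]
      simp only [Subring.subtype_apply]
      ring
    rw [Finset.sum_congr rfl fun i _ => key i]
    simp
  -- step C
  obtain ⟨ev, hev⟩ : ∃ ev : MvPolynomial (Fin (t + 1)) (FixedPoints.subring R G) →+* A,
      ev = (MvPolynomial.aeval m : _ →ₐ[FixedPoints.subring R G] A).toRingHom := ⟨_, rfl⟩
  have hcomp2 : ev.comp ζ = (algebraMap (FixedPoints.subring R G) A).comp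
      (MvPolynomial.eval₂Hom (RingHom.id (FixedPoints.subring R G)) (0 : Fin k → _)) := by
    rw [hev, hζ]
    refine MvPolynomial.ringHom_ext ?_ ?_
    · intro r; simp
    · intro j
      simp only [RingHom.coe_comp, Function.comp_apply, MvPolynomial.coe_eval₂Hom,
        MvPolynomial.eval₂_X, Pi.zero_apply, map_zero]
      rw [hℓ]
      simp only [AlgHom.toRingHom_eq_coe, RingHom.coe_coe, map_sum, map_mul, MvPolynomial.aeval_C,
        MvPolynomial.aeval_X]
      rw [← hc2 j]
      refine Finset.sum_congr rfl fun i _ => ?_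
      rw [Algebra.smul_def]
  have h1 : (Φ₀.map ζ).map ev = (X - C a) ^ Fintype.card G := by
    rw [stepA, hev]
    simp [hm0]
  rw [← h1, Polynomial.map_map, hcomp2, ← Polynomial.map_map, Phi0_const R G y Φ₀ hΦ₀]
  simp

end part2


theorem main (R G A : Type u) [CommRing R] [Group G] [Fintype G]
    [MulSemiringAction G R] [CommRing A] [Algebra (FixedPoints.subring R G) A] :
    (∀ b : TensorProduct (FixedPoints.subring R G) A R,
      (∀ σ : G, Algebra.TensorProduct.map (AlgHom.id (FixedPoints.subring R G) A)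
        (MulSemiringAction.toAlgHom (FixedPoints.subring R G) R σ) b = b) →
      ∃ P : Polynomial A, P.Monic ∧
        Polynomial.map (algebraMap A (TensorProduct (FixedPoints.subring R G) A R)) P =
          (Polynomial.X - Polynomial.C b) ^ Fintype.card G) ∧
    (∀ a : A, algebraMap A (TensorProduct (FixedPoints.subring R G) A R) a = 0 →
      ∀ i : ℕ, i < Fintype.card G → ((Polynomial.X - Polynomial.C a) ^ Fintype.card G).coeff i = 0) := by
  refine ⟨fun b hb => part1 R G A b hb, fun a ha i hi => ?_⟩
  rw [part2 R G A a ha, Polynomial.coeff_X_pow, if_neg hi.ne]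


end


/-- Let a finite group G with n elements act on a ring R by ring automorphisms, with invariant ring R^G,
and let A be an algebra over R^G; G acts on A ⊗ R through the factor R. (1) For every G-invariant b
∈ A ⊗ R there is a monic polynomial over A whose image in (A ⊗ R)[T] is (T - b)^n. (2) For every a
in the kernel of A → A ⊗ R, all coefficients of (T - a)^n below degree n vanish, that is (T - a)^n =
T^n in A[T]. -/
theorem result (R G A : Type u) [CommRing R] [Group G] [Fintype G]
    [MulSemiringAction G R] [CommRing A] [Algebra (FixedPoints.subring R G) A] :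
    (∀ b : TensorProduct (FixedPoints.subring R G) A R,
      (∀ σ : G, Algebra.TensorProduct.map (AlgHom.id (FixedPoints.subring R G) A)
        (MulSemiringAction.toAlgHom (FixedPoints.subring R G) R σ) b = b) →
      ∃ P : Polynomial A, P.Monic ∧
        Polynomial.map (algebraMap A (TensorProduct (FixedPoints.subring R G) A R)) P =
          (Polynomial.X - Polynomial.C b) ^ Fintype.card G) ∧
    (∀ a : A, algebraMap A (TensorProduct (FixedPoints.subring R G) A R) a = 0 →
      ∀ i : ℕ, i < Fintype.card G → ((Polynomial.X - Polynomial.C a) ^ Fintype.card G).coeff i = 0) := by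
  classical
  exact main R G A

end Groth.Agent.S9312
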