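import Groth.Statements.S9315
import Mathlib
import Groth.Prelude.Def_CAlgX
-- import your own Groth.Agent.* helpers here

set_option autoImplicit false
universe u
open CAlg

namespace Groth.Agent.S9315

open IsLocalRing
namespace Aux
set_option linter.unusedSectionVars false

variable {R S : Type u} [CommRing R] [CommRing S]
    [IsLocalRing R] [IsLocalRing S] [Algebra R S] [IsLocalHom (algebraMap R S)]

/-- forward direction -/
theorem fwd (hS : CAlgX.IsAdicFormallySmooth R S (maximalIdeal S))
    (A : Type u) [CommRing A] [IsLocalRing A] [Algebra R A]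
    (J : Ideal A) (hJ : J ^ 2 = ⊥) (hn : ∃ n : ℕ, maximalIdeal A ^ n = ⊥)
    [IsLocalRing (A ⧸ J)] (ψ : S →ₐ[R] A ⧸ J) [IsLocalHom ψ.toRingHom] :
    ∃ χ : S →ₐ[R] A, (Ideal.Quotient.mkₐ R J).comp χ = ψ := by
  obtain ⟨n, hn⟩ := hn
  apply hS A J hJ ψ ⟨n, ?_⟩
  intro x hx
  have h1 : (maximalIdeal S).map ψ.toRingHom ≤ (maximalIdeal A).map (Ideal.Quotient.mk J) := by
    rw [Ideal.map_le_iff_le_comap]
    intro s hs
    have h2 : ψ.toRingHom s ∈ maximalIdeal (A ⧸ J) := map_nonunit ψ.toRingHom s hs
    rw [Ideal.mem_comap]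
    obtain ⟨a, ha⟩ := Ideal.Quotient.mk_surjective (ψ.toRingHom s)
    rw [← ha] at h2 ⊢
    apply Ideal.mem_map_of_mem
    rw [mem_maximalIdeal, mem_nonunits_iff] at h2 ⊢
    intro hu
    exact h2 (hu.map _)
  have h3 : ψ.toRingHom x ∈ ((maximalIdeal S).map ψ.toRingHom) ^ n := by
    rw [← Ideal.map_pow]; exact Ideal.mem_map_of_mem _ hx
  have h4 := Ideal.pow_right_mono h1 n h3
  rw [← Ideal.map_pow, hn, Ideal.map_bot] at h4
  exact h4

/-- the trivial case -/
theorem triv (A : Type u) [CommRing A] [Algebra R A] [Subsingleton A] (J : Ideal A)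
    (ψ : S →ₐ[R] A ⧸ J) : ∃ χ : S →ₐ[R] A, (Ideal.Quotient.mkₐ R J).comp χ = ψ := by
  refine ⟨{ toFun := fun _ => 0, map_one' := Subsingleton.elim _ _, map_mul' := fun _ _ => Subsingleton.elim _ _,
            map_zero' := rfl, map_add' := fun _ _ => Subsingleton.elim _ _,
            commutes' := fun _ => Subsingleton.elim _ _ }, ?_⟩
  ext x
  exact Subsingleton.elim _ _

section bwd
variable (A : Type u) [CommRing A] [Algebra R A] (J : Ideal A) (ψ : S →ₐ[R] A ⧸ J)

/-- the subalgebra of elements whose class lies in the range of ψ -/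
def A' : Subalgebra R A := ψ.range.comap (Ideal.Quotient.mkₐ R J)

/-- the projection `A' → range ψ` -/
def f : A' A J ψ →ₐ[R] ψ.range :=
  ((Ideal.Quotient.mkₐ R J).comp (A' A J ψ).val).codRestrict ψ.range (fun a => a.2)

lemma f_val (a : A' A J ψ) : ((f A J ψ a : ψ.range) : A ⧸ J) = Ideal.Quotient.mk J (a : A) := rfl

lemma f_surj : Function.Surjective (f A J ψ) := by
  rintro ⟨y, s, rfl⟩
  obtain ⟨a, ha⟩ := Ideal.Quotient.mk_surjective (ψ s)
  refine ⟨⟨a, ?_⟩, ?_⟩
  · show Ideal.Quotient.mkₐ R J a ∈ ψ.range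
    exact ⟨s, ha.symm⟩
  · apply Subtype.ext
    exact ha

lemma mem_ker_f (a : A' A J ψ) : a ∈ RingHom.ker (f A J ψ) ↔ (a : A) ∈ J := by
  rw [RingHom.mem_ker, ← Ideal.Quotient.eq_zero_iff_mem, ← f_val]
  constructor
  · intro h; rw [h]; rfl
  · intro h; exact Subtype.ext h

lemma ker_f_sq (hJ : J ^ 2 = ⊥) : (RingHom.ker (f A J ψ)) ^ 2 = ⊥ := by
  rw [eq_bot_iff]
  intro x hx
  rw [pow_two] at hx
  rw [Ideal.mem_bot]
  refine Submodule.mul_induction_on hx ?_ ?_
  · intro a ha b hb
    apply Subtype.ext
    have : (a : A) * (b : A) ∈ J ^ 2 := by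
      rw [pow_two]
      exact Ideal.mul_mem_mul ((mem_ker_f A J ψ a).1 ha) ((mem_ker_f A J ψ b).1 hb)
    rw [hJ] at this
    exact this
  · intro a b ha hb
    rw [ha, hb, add_zero]

end bwd

theorem main :
    CAlgX.IsAdicFormallySmooth R S (maximalIdeal S) ↔
      ∀ (A : Type u) [CommRing A] [IsLocalRing A] [Algebra R A] [IsLocalHom (algebraMap R A)]
        (J : Ideal A), J ^ 2 = ⊥ → (∃ n : ℕ, maximalIdeal A ^ n = ⊥) →
        ∀ [IsLocalRing (A ⧸ J)] (ψ : S →ₐ[R] A ⧸ J) [IsLocalHom ψ.toRingHom],
          Function.Bijective (ResidueField.map ψ.toRingHom) →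
          ∃ χ : S →ₐ[R] A, (Ideal.Quotient.mkₐ R J).comp χ = ψ := by
  constructor
  · intro hS A _ _ _ _ J hJ hn _ ψ _ _
    exact fwd hS A J hJ hn ψ
  · intro H A _ _ J hJ ψ ⟨k, hk⟩
    by_cases htriv : Subsingleton (A ⧸ J)
    · have : Subsingleton A := by
        have h1 : J = ⊤ := by
          rwa [Ideal.Quotient.subsingleton_iff] at htriv
        have h2 : (1 : A) ∈ J ^ 2 := by rw [h1, Ideal.top_pow]; exact Submodule.mem_top
        rw [hJ, Ideal.mem_bot] at h2
        exact subsingleton_of_zero_eq_one h2.symm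
      exact triv A J ψ
    rw [not_subsingleton_iff_nontrivial] at htriv
    -- the auxiliary local ring
    set B := A' A J ψ with hB
    set g := f A J ψ with hg
    set K := RingHom.ker g with hK
    have hKsq : K ^ 2 = ⊥ := ker_f_sq A J ψ hJ
    have hgs : Function.Surjective g := f_surj A J ψ
    let e : (B ⧸ K) ≃ₐ[R] ψ.range := Ideal.quotientKerAlgEquivOfSurjective hgs
    let ψ' : S →ₐ[R] B ⧸ K := (e.symm : ψ.range →ₐ[R] B ⧸ K).comp ψ.rangeRestrict
    have hψ's : Function.Surjective ψ' := by
      intro y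
      obtain ⟨s, hs⟩ := ψ.rangeRestrict_surjective (e y)
      exact ⟨s, by show e.symm (ψ.rangeRestrict s) = y; rw [hs, e.symm_apply_apply]⟩
    have : Nontrivial ψ.range := by
      refine ⟨⟨0, 1, ?_⟩⟩
      intro h
      have : (0 : A ⧸ J) = 1 := congrArg Subtype.val h
      exact zero_ne_one this
    have : Nontrivial (B ⧸ K) := e.toEquiv.nontrivial
    have : Nontrivial B := by
      refine ⟨⟨0, 1, ?_⟩⟩
      intro h
      have h2 : Ideal.Quotient.mk K (0 : B) = Ideal.Quotient.mk K 1 := by rw [h]
      rw [map_zero, map_one] at h2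
      exact zero_ne_one h2
    have locBK : IsLocalRing (B ⧸ K) := IsLocalRing.of_surjective' ψ'.toRingHom hψ's
    have locψ' : IsLocalHom ψ'.toRingHom := IsLocalHom.of_surjective ψ'.toRingHom hψ's
    have hKnil : IsNilpotent K := ⟨2, hKsq⟩
    have locB : IsLocalRing B := by
      apply IsLocalRing.of_isUnit_or_isUnit_one_sub_self
      intro a
      rcases IsLocalRing.isUnit_or_isUnit_one_sub_self (Ideal.Quotient.mk K a) with h | h
      · left; exact (hKnil.isUnit_quotient_mk_iff).1 h
      · right
        rw [← map_one (Ideal.Quotient.mk K), ← map_sub] at h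
        exact (hKnil.isUnit_quotient_mk_iff).1 h
    have hψ'alg : ∀ r : R, ψ' (algebraMap R S r) = Ideal.Quotient.mk K (algebraMap R B r) := by
      intro r
      rw [ψ'.commutes]; rfl
    have locRB : IsLocalHom (algebraMap R B) := by
      constructor
      intro r hr
      have h1 : IsUnit (Ideal.Quotient.mk K (algebraMap R B r)) := hr.map _
      rw [← hψ'alg] at h1
      have h2 : IsUnit (algebraMap R S r) := isUnit_of_map_unit ψ'.toRingHom _ h1
      exact isUnit_of_map_unit (algebraMap R S) r h2
    have hnil : ∃ n : ℕ, maximalIdeal B ^ n = ⊥ := by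
      refine ⟨k * 2, ?_⟩
      have h1 : maximalIdeal B ^ k ≤ K := by
        intro x hx
        rw [hK, RingHom.mem_ker, ← map_eq_zero_iff e.symm e.symm.injective]
        -- image of maximal ideal
        have h2 : (maximalIdeal B).map (Ideal.Quotient.mk K) ≤ (maximalIdeal S).map ψ'.toRingHom := by
          rw [Ideal.map_le_iff_le_comap]
          intro b hb
          rw [Ideal.mem_comap]
          obtain ⟨s, hs⟩ := hψ's (Ideal.Quotient.mk K b)
          have hs' : ψ'.toRingHom s = Ideal.Quotient.mk K b := hs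
          rw [← hs']
          apply Ideal.mem_map_of_mem
          rw [mem_maximalIdeal, mem_nonunits_iff] at hb ⊢
          intro hu
          apply hb
          have : IsUnit (Ideal.Quotient.mk K b) := by rw [← hs']; exact hu.map _
          exact (hKnil.isUnit_quotient_mk_iff).1 this
        have h3 : Ideal.Quotient.mk K x ∈ ((maximalIdeal B).map (Ideal.Quotient.mk K)) ^ k := by
          rw [← Ideal.map_pow]; exact Ideal.mem_map_of_mem _ hx
        have h4 := Ideal.pow_right_mono h2 k h3
        rw [← Ideal.map_pow] at h4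
        have h5 : (maximalIdeal S ^ k).map ψ'.toRingHom = ⊥ := by
          rw [eq_bot_iff, Ideal.map_le_iff_le_comap]
          intro s hs
          rw [Ideal.mem_comap, Ideal.mem_bot]
          show e.symm (ψ.rangeRestrict s) = 0
          rw [map_eq_zero_iff e.symm e.symm.injective]
          apply Subtype.ext
          exact hk s hs
        rw [h5, Ideal.mem_bot] at h4
        -- e.symm (g x) = mk x
        have h6 : e.symm (g x) = Ideal.Quotient.mk K x := by
          rw [AlgEquiv.symm_apply_eq]
          rfl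
        rw [h6]; exact h4
      rw [pow_mul, eq_bot_iff, ← hKsq]
      exact Ideal.pow_right_mono h1 2
    have hbij : Function.Bijective (ResidueField.map ψ'.toRingHom) := by
      refine ⟨(ResidueField.map ψ'.toRingHom).injective, ?_⟩
      intro y
      obtain ⟨b, rfl⟩ := IsLocalRing.residue_surjective y
      obtain ⟨s, hs⟩ := hψ's b
      refine ⟨IsLocalRing.residue S s, ?_⟩
      rw [ResidueField.map_residue]
      congr 1
    obtain ⟨χ', hχ'⟩ := H B K hKsq hnil ψ' hbij
    refine ⟨B.val.comp χ', ?_⟩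
    ext s
    have h1 : Ideal.Quotient.mk K (χ' s) = ψ' s := AlgHom.congr_fun hχ' s
    have h2 : g (χ' s) = ψ.rangeRestrict s := by
      have : e (Ideal.Quotient.mk K (χ' s)) = g (χ' s) := rfl
      rw [← this, h1]
      show e (e.symm (ψ.rangeRestrict s)) = _
      rw [e.apply_symm_apply]
    have h3 := congrArg Subtype.val h2
    exact h3

end Aux

open IsLocalRing in
/-- Let `R → S` be a local homomorphism of local rings (no Noetherian hypothesis). Then `R → S` is
formally smooth for the adic topology of the maximal ideal of `S` if and only if the following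
lifting property holds: for every local ring `A` with a local structure map `R → A`, every ideal `J`
of `A` of square zero such that some power of the maximal ideal of `A` is zero, and every local
`R`-algebra homomorphism `ψ : S → A/J` inducing a bijection on residue fields, there is an
`R`-algebra homomorphism `S → A` lifting `ψ`. -/
theorem result {R S : Type u} [CommRing R] [CommRing S]
    [IsLocalRing R] [IsLocalRing S] [Algebra R S] [IsLocalHom (algebraMap R S)] :
    CAlgX.IsAdicFormallySmooth R S (maximalIdeal S) ↔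
      ∀ (A : Type u) [CommRing A] [IsLocalRing A] [Algebra R A] [IsLocalHom (algebraMap R A)]
        (J : Ideal A), J ^ 2 = ⊥ → (∃ n : ℕ, maximalIdeal A ^ n = ⊥) →
        ∀ [IsLocalRing (A ⧸ J)] (ψ : S →ₐ[R] A ⧸ J) [IsLocalHom ψ.toRingHom],
          Function.Bijective (ResidueField.map ψ.toRingHom) →
          ∃ χ : S →ₐ[R] A, (Ideal.Quotient.mkₐ R J).comp χ = ψ := by
  exact Aux.main

end Groth.Agent.S9315
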