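import Groth.Statements.S9316
import Groth.Agent.Lib.Helper8.SmallExt5

set_option autoImplicit false
universe u
open CAlg

namespace Groth.Agent.S9316

open IsLocalRing in
/-- Let `R → S` be a local homomorphism of local rings with `S` Noetherian. Then `R → S` is formally
smooth for the adic topology of the maximal ideal of `S` if and only if lifts exist along small
extensions: for every Artinian local ring `A` with a local structure map `R → A`, every ideal `J` of
`A` of square zero which has length one as an `A`-module, and every local `R`-algebra homomorphism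
`ψ : S → A/J` inducing a bijection on residue fields, there is an `R`-algebra homomorphism `S → A`
lifting `ψ`. -/
theorem result {R S : Type u} [CommRing R] [CommRing S]
    [IsLocalRing R] [IsLocalRing S] [IsNoetherianRing S] [Algebra R S] [IsLocalHom (algebraMap R S)] :
    CAlgX.IsAdicFormallySmooth R S (maximalIdeal S) ↔
      ∀ (A : Type u) [CommRing A] [IsLocalRing A] [IsArtinianRing A] [Algebra R A]
        [IsLocalHom (algebraMap R A)] (J : Ideal A), J ^ 2 = ⊥ → Module.length A J = 1 →
        ∀ [IsLocalRing (A ⧸ J)] (ψ : S →ₐ[R] A ⧸ J) [IsLocalHom ψ.toRingHom],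
          Function.Bijective (ResidueField.map ψ.toRingHom) →
          ∃ χ : S →ₐ[R] A, (Ideal.Quotient.mkₐ R J).comp χ = ψ := by
  constructor
  · intro h A _ _ _ _ _ J hJ _ _ ψ _ _
    haveI : IsLocalHom (ψ : S →+* A ⧸ J) := ‹IsLocalHom ψ.toRingHom›
    obtain ⟨k, hk⟩ := Groth.Agent.Helper8.SmallExt.exists_pow_map_eq_zero (ψ : S →+* A ⧸ J)
    exact h A J hJ ψ ⟨k, hk⟩
  · intro h
    apply Groth.Agent.Helper8.SmallExt.isAdicFormallySmooth_of_smallLift
    intro A _ _ _ _ J hJ hlen _ ψ hψ
    haveI hloc : IsLocalHom ψ.toRingHom := IsLocalHom.of_surjective ψ.toRingHom hψ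
    haveI : IsLocalHom (algebraMap R A) := by
      refine ⟨fun r hr => ?_⟩
      have h1 : IsUnit (ψ.toRingHom (algebraMap R S r)) := by
        have h2 : ψ.toRingHom (algebraMap R S r) = Ideal.Quotient.mk J (algebraMap R A r) :=
          ψ.commutes r
        rw [h2]
        exact hr.map _
      exact isUnit_of_map_unit (algebraMap R S) r (isUnit_of_map_unit ψ.toRingHom _ h1)
    exact h A J hJ hlen ψ
      (Groth.Agent.Helper8.SmallExt.bijective_residueField_map_of_surjective ψ.toRingHom hψ)

end Groth.Agent.S9316
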