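import Groth.Statements.S9318
import Mathlib
import Groth.Prelude.Def_CAlgX
-- import your own Groth.Agent.* helpers here

set_option autoImplicit false
universe u
open CAlg

namespace Groth.Agent.S9318

namespace Aux

variable {R S : Type u} [CommRing R] [CommRing S] [Algebra R S] (𝔫 : Ideal S)

/-- the canonical map `S → Ŝ` as an `R`-algebra map -/
noncomputable def ιₐ : S →ₐ[R] AdicCompletion 𝔫 S :=
  { (algebraMap S (AdicCompletion 𝔫 S)) with
    commutes' := fun r => by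
      show algebraMap S (AdicCompletion 𝔫 S) (algebraMap R S r) = algebraMap R (AdicCompletion 𝔫 S) r
      rw [AdicCompletion.algebraMap_apply, AdicCompletion.algebraMap_apply]
      rfl }

lemma ιₐ_apply (s : S) : ιₐ (R := R) 𝔫 s = AdicCompletion.of 𝔫 S s := rfl

/-- evaluation as an `R`-algebra map -/
noncomputable def evR (n : ℕ) : AdicCompletion 𝔫 S →ₐ[R] S ⧸ 𝔫 ^ n :=
  { (AdicCompletion.evalₐ 𝔫 n : AdicCompletion 𝔫 S →+* S ⧸ 𝔫 ^ n) with
    commutes' := fun r => by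
      show AdicCompletion.evalₐ 𝔫 n (algebraMap R (AdicCompletion 𝔫 S) r) = algebraMap R (S ⧸ 𝔫 ^ n) r
      rw [AdicCompletion.algebraMap_apply, AdicCompletion.evalₐ_of]
      rfl }

lemma evR_apply (n : ℕ) (x : AdicCompletion 𝔫 S) : evR (R := R) 𝔫 n x = AdicCompletion.evalₐ 𝔫 n x := rfl

lemma evR_of (n : ℕ) (s : S) : evR (R := R) 𝔫 n (AdicCompletion.of 𝔫 S s) = Ideal.Quotient.mk _ s := by
  rw [evR_apply, AdicCompletion.evalₐ_of]

lemma evalₐ_eq_zero_iff (n : ℕ) (x : AdicCompletion 𝔫 S) :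
    AdicCompletion.evalₐ 𝔫 n x = 0 ↔ AdicCompletion.eval 𝔫 S n x = 0 := by
  have h : 𝔫 ^ n ≤ 𝔫 ^ n • ⊤ := by
    intro y hy
    simpa using hy
  rw [← AdicCompletion.factor_evalₐ_eq_eval 𝔫 x h]
  constructor
  · intro h0; rw [h0, map_zero]
  · intro h0
    obtain ⟨y, hy⟩ := Ideal.Quotient.mk_surjective (AdicCompletion.evalₐ 𝔫 n x)
    rw [← hy] at h0 ⊢
    rw [Ideal.Quotient.factor_mk, Ideal.Quotient.eq_zero_iff_mem] at h0
    rw [Ideal.Quotient.eq_zero_iff_mem]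
    simpa using h0

lemma mem_map_pow_iff (h𝔫 : 𝔫.FG) (n : ℕ) (x : AdicCompletion 𝔫 S) :
    x ∈ (𝔫.map (algebraMap S (AdicCompletion 𝔫 S))) ^ n ↔ AdicCompletion.evalₐ 𝔫 n x = 0 := by
  rw [evalₐ_eq_zero_iff, ← LinearMap.mem_ker, ← AdicCompletion.pow_smul_top_eq_ker_eval h𝔫,
    Ideal.smul_top_eq_map, ← Ideal.map_pow]
  rfl

theorem main (h𝔫 : 𝔫.FG) :
    CAlgX.IsAdicFormallySmooth R S 𝔫 ↔
      CAlgX.IsAdicFormallySmooth R (AdicCompletion 𝔫 S) (𝔫.map (algebraMap S (AdicCompletion 𝔫 S))) := by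
  constructor
  · intro hS A _ _ J hJ ψ' ⟨k, hk⟩
    -- restrict to S
    obtain ⟨χ, hχ⟩ := hS A J hJ (ψ'.comp (ιₐ 𝔫)) ⟨k, fun x hx => by
      show ψ' (algebraMap S (AdicCompletion 𝔫 S) x) = 0
      apply hk
      rw [← Ideal.map_pow]
      exact Ideal.mem_map_of_mem _ hx⟩
    have hχJ : ∀ x ∈ 𝔫 ^ k, χ x ∈ J := by
      intro x hx
      rw [← Ideal.Quotient.eq_zero_iff_mem]
      have := AlgHom.congr_fun hχ x
      rw [AlgHom.comp_apply, Ideal.Quotient.mkₐ_eq_mk] at this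
      rw [this]
      show ψ' (algebraMap S (AdicCompletion 𝔫 S) x) = 0
      apply hk
      rw [← Ideal.map_pow]
      exact Ideal.mem_map_of_mem _ hx
    have hχ0 : ∀ x ∈ 𝔫 ^ (2 * k), χ x = 0 := by
      intro x hx
      rw [two_mul, pow_add] at hx
      refine Submodule.mul_induction_on hx ?_ ?_
      · intro a ha b hb
        have : χ a * χ b ∈ J ^ 2 := by
          rw [pow_two]; exact Ideal.mul_mem_mul (hχJ a ha) (hχJ b hb)
        rw [hJ] at this
        rw [map_mul]; exact this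
      · intro a b ha hb
        rw [map_add, ha, hb, add_zero]
    let χbar : S ⧸ 𝔫 ^ (2 * k) →ₐ[R] A := Ideal.Quotient.liftₐ (𝔫 ^ (2 * k)) χ hχ0
    refine ⟨χbar.comp (evR 𝔫 (2 * k)), ?_⟩
    ext x
    obtain ⟨s, hs⟩ := Ideal.Quotient.mk_surjective (AdicCompletion.evalₐ 𝔫 (2 * k) x)
    have hx : x - AdicCompletion.of 𝔫 S s ∈ (𝔫.map (algebraMap S (AdicCompletion 𝔫 S))) ^ k := by
      have h1 : x - AdicCompletion.of 𝔫 S s ∈ (𝔫.map (algebraMap S (AdicCompletion 𝔫 S))) ^ (2 * k) := by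
        rw [mem_map_pow_iff 𝔫 h𝔫, map_sub, AdicCompletion.evalₐ_of, hs, sub_self]
      exact Ideal.pow_le_pow_right (by omega) h1
    have h2 : ψ' x = ψ' (AdicCompletion.of 𝔫 S s) := by
      have := hk _ hx
      rw [map_sub, sub_eq_zero] at this
      exact this
    rw [h2]
    have h3 : (χbar.comp (evR 𝔫 (2 * k))) x = χ s := by
      rw [AlgHom.comp_apply, evR_apply, ← hs]
      exact Ideal.Quotient.liftₐ_apply _ _ _ _
    rw [AlgHom.comp_apply, h3]
    have := AlgHom.congr_fun hχ s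
    rw [AlgHom.comp_apply] at this
    rw [this]
    rfl
  · intro hS A _ _ J hJ ψ ⟨k, hk⟩
    let ψbar : S ⧸ 𝔫 ^ k →ₐ[R] A ⧸ J := Ideal.Quotient.liftₐ (𝔫 ^ k) ψ hk
    obtain ⟨χ', hχ'⟩ := hS A J hJ (ψbar.comp (evR 𝔫 k)) ⟨k, fun x hx => by
      rw [AlgHom.comp_apply, evR_apply, (mem_map_pow_iff 𝔫 h𝔫 k x).1 hx, map_zero]⟩
    refine ⟨χ'.comp (ιₐ 𝔫), ?_⟩
    ext s
    have := AlgHom.congr_fun hχ' (AdicCompletion.of 𝔫 S s)
    rw [AlgHom.comp_apply] at this
    rw [AlgHom.comp_apply, AlgHom.comp_apply, ιₐ_apply, this, AlgHom.comp_apply, evR_of]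
    exact Ideal.Quotient.liftₐ_apply _ _ _ _

end Aux

/-- Let `R → S` be a ring map and `𝔫 ⊆ S` a finitely generated ideal, and let `S^` be the `𝔫`-adic
completion of `S`. Then `R → S` is formally smooth for the `𝔫`-adic topology if and only if `R → S^`
is formally smooth for the adic topology of the extension of `𝔫` to `S^`. No Noetherian hypothesis
is made on `S`. -/
theorem result {R S : Type u} [CommRing R] [CommRing S]
    [Algebra R S] (𝔫 : Ideal S) (h𝔫 : 𝔫.FG) :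
    CAlgX.IsAdicFormallySmooth R S 𝔫 ↔
      CAlgX.IsAdicFormallySmooth R (AdicCompletion 𝔫 S) (𝔫.map (algebraMap S (AdicCompletion 𝔫 S))) := by
  exact Aux.main 𝔫 h𝔫

end Groth.Agent.S9318
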