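import Groth.Statements.S9317
import Mathlib
import Groth.Prelude.Def_CAlgX
import Groth.Agent.S9318
-- import your own Groth.Agent.* helpers here

set_option autoImplicit false
universe u
open CAlg

namespace Groth.Agent.S9317

namespace Aux

variable {R S : Type u} [CommRing R] [CommRing S] [Algebra R S] (𝔪 : Ideal R) (𝔫 : Ideal S)

/-- two ring maps out of `R̂` killing a power of `𝔪 R̂` and agreeing on `R` agree -/
lemma hom_ext_of_kill {B : Type u} [CommRing B] (h𝔪 : 𝔪.FG) (f g : AdicCompletion 𝔪 R →+* B) (N : ℕ)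
    (hf : ∀ x ∈ (𝔪.map (algebraMap R (AdicCompletion 𝔪 R))) ^ N, f x = 0)
    (hg : ∀ x ∈ (𝔪.map (algebraMap R (AdicCompletion 𝔪 R))) ^ N, g x = 0)
    (hfg : ∀ r : R, f (AdicCompletion.of 𝔪 R r) = g (AdicCompletion.of 𝔪 R r)) : f = g := by
  ext x
  obtain ⟨r, hr⟩ := Ideal.Quotient.mk_surjective (AdicCompletion.evalₐ 𝔪 N x)
  have hx : x - AdicCompletion.of 𝔪 R r ∈ (𝔪.map (algebraMap R (AdicCompletion 𝔪 R))) ^ N := by
    rw [Groth.Agent.S9318.Aux.mem_map_pow_iff 𝔪 h𝔪, map_sub, AdicCompletion.evalₐ_of, hr, sub_self]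
  have h1 := hf _ hx
  have h2 := hg _ hx
  rw [map_sub, sub_eq_zero] at h1 h2
  rw [h1, h2, hfg]

/-- a ring map sending `K` into a square zero ideal kills `K^2` -/
lemma kill_sq {A B : Type u} [CommRing A] [CommRing B] (f : A →+* B) (K : Ideal A) (J : Ideal B)
    (hJ : J ^ 2 = ⊥) (hK : ∀ a ∈ K, f a ∈ J) (x : A) (hx : x ∈ K ^ 2) : f x = 0 := by
  rw [pow_two] at hx
  refine Submodule.mul_induction_on hx ?_ ?_
  · intro a ha b hb
    have : f a * f b ∈ J ^ 2 := by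
      rw [pow_two]; exact Ideal.mul_mem_mul (hK a ha) (hK b hb)
    rw [hJ] at this
    rw [map_mul]; exact this
  · intro a b ha hb
    rw [map_add, ha, hb, add_zero]

section
variable (ψ : AdicCompletion 𝔪 R →+* AdicCompletion 𝔫 S)
  (hψ : ψ.comp (algebraMap R (AdicCompletion 𝔪 R)) =
      (algebraMap S (AdicCompletion 𝔫 S)).comp (algebraMap R S))
  (c : ℕ) (hc : (𝔪 ^ c).map (algebraMap R S) ≤ 𝔫)
include hψ hc

lemma psi_of (r : R) : ψ (AdicCompletion.of 𝔪 R r) = algebraMap R (AdicCompletion 𝔫 S) r := by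
  have := RingHom.congr_fun hψ r
  simp only [RingHom.comp_apply] at this
  rw [AdicCompletion.algebraMap_apply, AdicCompletion.algebraMap_apply] at this
  rw [AdicCompletion.algebraMap_apply]
  simpa using this

lemma psi_mem (k : ℕ) (x : AdicCompletion 𝔪 R)
    (hx : x ∈ (𝔪.map (algebraMap R (AdicCompletion 𝔪 R))) ^ (c * k)) :
    ψ x ∈ (𝔫.map (algebraMap S (AdicCompletion 𝔫 S))) ^ k := by
  have h1 : Ideal.map ψ ((𝔪.map (algebraMap R (AdicCompletion 𝔪 R))) ^ (c * k)) ≤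
      (𝔫.map (algebraMap S (AdicCompletion 𝔫 S))) ^ k := by
    rw [← Ideal.map_pow, Ideal.map_map, hψ, ← Ideal.map_map, ← Ideal.map_pow, pow_mul, Ideal.map_pow]
    exact Ideal.map_mono (Ideal.pow_right_mono hc k)
  exact h1 (Ideal.mem_map_of_mem ψ hx)

end

theorem key (h𝔪 : 𝔪.FG) (ψ : AdicCompletion 𝔪 R →+* AdicCompletion 𝔫 S)
    (hψ : ψ.comp (algebraMap R (AdicCompletion 𝔪 R)) =
      (algebraMap S (AdicCompletion 𝔫 S)).comp (algebraMap R S))
    (c : ℕ) (hc : (𝔪 ^ c).map (algebraMap R S) ≤ 𝔫) :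
    CAlgX.IsAdicFormallySmooth R (AdicCompletion 𝔫 S) (𝔫.map (algebraMap S (AdicCompletion 𝔫 S))) ↔
      @CAlgX.IsAdicFormallySmooth (AdicCompletion 𝔪 R) _ (AdicCompletion 𝔫 S) _ ψ.toAlgebra
        (𝔫.map (algebraMap S (AdicCompletion 𝔫 S))) := by
  letI algψ : Algebra (AdicCompletion 𝔪 R) (AdicCompletion 𝔫 S) := ψ.toAlgebra
  have hmap : ∀ x, algebraMap (AdicCompletion 𝔪 R) (AdicCompletion 𝔫 S) x = ψ x := fun _ => rfl
  constructor
  · intro hR A _ algA J hJ ψ' ⟨k, hk⟩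
    letI algRA : Algebra R A := ((algebraMap (AdicCompletion 𝔪 R) A).comp
      (algebraMap R (AdicCompletion 𝔪 R))).toAlgebra
    have hRA : ∀ r : R, algebraMap R A r =
        algebraMap (AdicCompletion 𝔪 R) A (AdicCompletion.of 𝔪 R r) := fun _ => rfl
    let ψR : AdicCompletion 𝔫 S →ₐ[R] A ⧸ J :=
      { (ψ' : AdicCompletion 𝔫 S →+* A ⧸ J) with
        commutes' := fun r => by
          show ψ' (algebraMap R (AdicCompletion 𝔫 S) r) = algebraMap R (A ⧸ J) r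
          rw [← psi_of 𝔪 𝔫 ψ hψ c hc r, ← hmap, ψ'.commutes]
          rfl }
    obtain ⟨χ, hχ⟩ := hR A J hJ ψR ⟨k, hk⟩
    have hχ' : ∀ y, Ideal.Quotient.mk J (χ y) = ψ' y := fun y => AlgHom.congr_fun hχ y
    have hfg : (χ : AdicCompletion 𝔫 S →+* A).comp ψ = algebraMap (AdicCompletion 𝔪 R) A := by
      apply hom_ext_of_kill 𝔪 h𝔪 _ _ (c * k * 2)
      · intro x hx
        rw [pow_mul] at hx
        refine kill_sq ((χ : AdicCompletion 𝔫 S →+* A).comp ψ) _ J hJ ?_ x hx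
        intro a ha
        rw [← Ideal.Quotient.eq_zero_iff_mem]
        show Ideal.Quotient.mk J (χ (ψ a)) = 0
        rw [hχ']
        exact hk _ (psi_mem 𝔪 𝔫 ψ hψ c hc k a ha)
      · intro x hx
        rw [pow_mul] at hx
        refine kill_sq (algebraMap (AdicCompletion 𝔪 R) A) _ J hJ ?_ x hx
        intro a ha
        rw [← Ideal.Quotient.eq_zero_iff_mem]
        have : Ideal.Quotient.mk J (algebraMap (AdicCompletion 𝔪 R) A a) = ψ' (ψ a) := by
          rw [← hmap, ψ'.commutes]; rfl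
        rw [this]
        exact hk _ (psi_mem 𝔪 𝔫 ψ hψ c hc k a ha)
      · intro r
        show χ (ψ (AdicCompletion.of 𝔪 R r)) = _
        rw [psi_of 𝔪 𝔫 ψ hψ c hc r, χ.commutes, hRA]
    let χ' : AdicCompletion 𝔫 S →ₐ[AdicCompletion 𝔪 R] A :=
      { (χ : AdicCompletion 𝔫 S →+* A) with
        commutes' := fun x => by
          show χ (algebraMap (AdicCompletion 𝔪 R) (AdicCompletion 𝔫 S) x) = _
          rw [hmap]
          exact RingHom.congr_fun hfg x }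
    refine ⟨χ', ?_⟩
    ext y
    exact hχ' y
  · intro hR A _ algA J hJ ψ' ⟨k, hk⟩
    -- the map `R → A` kills `𝔪^(c*k*2)`
    have hkill : ∀ x ∈ 𝔪 ^ (c * k * 2), algebraMap R A x = 0 := by
      intro x hx
      rw [pow_mul] at hx
      refine kill_sq (algebraMap R A) _ J hJ ?_ x hx
      intro a ha
      rw [← Ideal.Quotient.eq_zero_iff_mem]
      have : Ideal.Quotient.mk J (algebraMap R A a) = ψ' (algebraMap R (AdicCompletion 𝔫 S) a) := by
        rw [ψ'.commutes]; rfl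
      rw [this, ← psi_of 𝔪 𝔫 ψ hψ c hc a]
      apply hk _ (psi_mem 𝔪 𝔫 ψ hψ c hc k _ ?_)
      rw [← Ideal.map_pow]
      exact Ideal.mem_map_of_mem _ ha
    let ρbar : R ⧸ 𝔪 ^ (c * k * 2) →+* A := Ideal.Quotient.lift _ (algebraMap R A) hkill
    let ρ : AdicCompletion 𝔪 R →+* A :=
      ρbar.comp (AdicCompletion.evalₐ 𝔪 (c * k * 2) : AdicCompletion 𝔪 R →+* R ⧸ 𝔪 ^ (c * k * 2))
    have hρof : ∀ r : R, ρ (AdicCompletion.of 𝔪 R r) = algebraMap R A r := by
      intro r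
      show ρbar (AdicCompletion.evalₐ 𝔪 (c * k * 2) (AdicCompletion.of 𝔪 R r)) = _
      rw [AdicCompletion.evalₐ_of]
      exact Ideal.Quotient.lift_mk _ _ _
    have hρkill : ∀ x ∈ (𝔪.map (algebraMap R (AdicCompletion 𝔪 R))) ^ (c * k * 2), ρ x = 0 := by
      intro x hx
      show ρbar (AdicCompletion.evalₐ 𝔪 (c * k * 2) x) = 0
      rw [(Groth.Agent.S9318.Aux.mem_map_pow_iff 𝔪 h𝔪 _ x).1 hx, map_zero]
    letI algRhatA : Algebra (AdicCompletion 𝔪 R) A := ρ.toAlgebra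
    have hρmap : ∀ x, algebraMap (AdicCompletion 𝔪 R) A x = ρ x := fun _ => rfl
    have hcomm : (ψ' : AdicCompletion 𝔫 S →+* A ⧸ J).comp ψ = (Ideal.Quotient.mk J).comp ρ := by
      apply hom_ext_of_kill 𝔪 h𝔪 _ _ (c * k * 2)
      · intro x hx
        show ψ' (ψ x) = 0
        apply hk _ (psi_mem 𝔪 𝔫 ψ hψ c hc k x ?_)
        exact Ideal.pow_le_pow_right (by nlinarith) hx
      · intro x hx
        show Ideal.Quotient.mk J (ρ x) = 0
        rw [hρkill x hx, map_zero]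
      · intro r
        show ψ' (ψ (AdicCompletion.of 𝔪 R r)) = Ideal.Quotient.mk J (ρ (AdicCompletion.of 𝔪 R r))
        rw [psi_of 𝔪 𝔫 ψ hψ c hc r, ψ'.commutes, hρof]
        rfl
    let ψ'' : AdicCompletion 𝔫 S →ₐ[AdicCompletion 𝔪 R] A ⧸ J :=
      { (ψ' : AdicCompletion 𝔫 S →+* A ⧸ J) with
        commutes' := fun x => by
          show ψ' (algebraMap (AdicCompletion 𝔪 R) (AdicCompletion 𝔫 S) x) = _
          rw [hmap]
          exact RingHom.congr_fun hcomm x }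
    obtain ⟨χ'', hχ''⟩ := hR A J hJ ψ'' ⟨k, hk⟩
    let χ : AdicCompletion 𝔫 S →ₐ[R] A :=
      { (χ'' : AdicCompletion 𝔫 S →+* A) with
        commutes' := fun r => by
          show χ'' (algebraMap R (AdicCompletion 𝔫 S) r) = _
          rw [← psi_of 𝔪 𝔫 ψ hψ c hc r, ← hmap, χ''.commutes, hρmap, hρof] }
    refine ⟨χ, ?_⟩
    ext y
    exact AlgHom.congr_fun hχ'' y

theorem main (h𝔪 : 𝔪.FG) (h𝔫 : 𝔫.FG)
    (hc : ∃ c : ℕ, (𝔪 ^ c).map (algebraMap R S) ≤ 𝔫)
    (ψ : AdicCompletion 𝔪 R →+* AdicCompletion 𝔫 S)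
    (hψ : ψ.comp (algebraMap R (AdicCompletion 𝔪 R)) =
      (algebraMap S (AdicCompletion 𝔫 S)).comp (algebraMap R S)) :
    CAlgX.IsAdicFormallySmooth R S 𝔫 ↔
      letI : Algebra (AdicCompletion 𝔪 R) (AdicCompletion 𝔫 S) := ψ.toAlgebra
      CAlgX.IsAdicFormallySmooth (AdicCompletion 𝔪 R) (AdicCompletion 𝔫 S)
        (𝔫.map (algebraMap S (AdicCompletion 𝔫 S))) := by
  obtain ⟨c, hc⟩ := hc
  rw [Groth.Agent.S9318.Aux.main 𝔫 h𝔫]
  exact key 𝔪 𝔫 h𝔪 ψ hψ c hc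

end Aux

/-- Let `R → S` be a ring map, let `𝔪 ⊆ R` and `𝔫 ⊆ S` be finitely generated ideals such that some power
of `𝔪` maps into `𝔫`, and let `R^`, `S^` be the `𝔪`-adic and `𝔫`-adic completions. Let `ψ : R^ → S^`
be a ring map whose composite with `R → R^` is the composite `R → S → S^` (there is exactly one such
map, the canonical one, since any such map is continuous for the adic topologies). Then `R → S` is
formally smooth for the `𝔫`-adic topology if and only if `R^ → S^`, i.e. `S^` viewed as an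
`R^`-algebra through `ψ`, is formally smooth for the adic topology of the extension of `𝔫` to `S^`. -/
theorem result {R S : Type u} [CommRing R] [CommRing S]
    [Algebra R S] (𝔪 : Ideal R) (𝔫 : Ideal S) (h𝔪 : 𝔪.FG) (h𝔫 : 𝔫.FG)
    (hc : ∃ c : ℕ, (𝔪 ^ c).map (algebraMap R S) ≤ 𝔫)
    (ψ : AdicCompletion 𝔪 R →+* AdicCompletion 𝔫 S)
    (hψ : ψ.comp (algebraMap R (AdicCompletion 𝔪 R)) =
      (algebraMap S (AdicCompletion 𝔫 S)).comp (algebraMap R S)) :
    CAlgX.IsAdicFormallySmooth R S 𝔫 ↔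
      letI : Algebra (AdicCompletion 𝔪 R) (AdicCompletion 𝔫 S) := ψ.toAlgebra
      CAlgX.IsAdicFormallySmooth (AdicCompletion 𝔪 R) (AdicCompletion 𝔫 S)
        (𝔫.map (algebraMap S (AdicCompletion 𝔫 S))) := by
  exact Aux.main 𝔪 𝔫 h𝔪 h𝔫 hc ψ hψ

end Groth.Agent.S9317
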