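import Groth.Statements.S9319
import Mathlib
import Groth.Agent.Lib.Helper2.SepPerfect
-- import your own Groth.Agent.* helpers here

set_option autoImplicit false
universe u
open CAlg

namespace Groth.Agent.S9319

open TensorProduct
namespace Aux

open Algebra Algebra.Generators MvPolynomial KaehlerDifferential

section nat

variable {P K L M : Type u} [CommRing P] [CommRing K] [CommRing L] [CommRing M]
  [Algebra P K] [Algebra K L] [Algebra K M] [Algebra L M] [Algebra P L] [Algebra P M]
  [IsScalarTower P K L] [IsScalarTower P K M] [IsScalarTower K L M]

theorem δAux_natural (q : (Generators.self K L).Ring) :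
    Generators.H1Cotangent.δAux P (Generators.self K M)
      ((Generators.defaultHom (Generators.self K L) (Generators.self K M)).toAlgHom q) =
    TensorProduct.AlgebraTensorModule.cancelBaseChange K L M M Ω[K⁄P]
      ((1 : M) ⊗ₜ[L] Generators.H1Cotangent.δAux P (Generators.self K L) q) := by
  induction q using MvPolynomial.induction_on' with
  | monomial n a =>
    rw [Generators.Hom.toAlgHom_monomial, Generators.H1Cotangent.δAux_monomial]
    simp only [Generators.defaultHom_val, Generators.self_val, Function.comp_apply, id_eq]
    have h1 : (a • n.prod fun x1 x2 => (Generators.self K M).σ ((algebraMap L M) x1) ^ x2) =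
        monomial (n.mapDomain (algebraMap L M)) a := by
      rw [MvPolynomial.monomial_eq, Finsupp.prod_mapDomain_index (by simp) (by simp [pow_add]),
        MvPolynomial.smul_eq_C_mul]
      rfl
    rw [h1, Generators.H1Cotangent.δAux_monomial,
      Finsupp.prod_mapDomain_index (by simp) (by simp [pow_add]),
      TensorProduct.AlgebraTensorModule.cancelBaseChange_tmul, Algebra.smul_def, mul_one,
      map_finsuppProd]
    simp only [Generators.self_val, id_eq, map_pow]
  | add p q hp hq =>
    rw [map_add, map_add, map_add, tmul_add, map_add, hp, hq]

theorem δ_natural (x : Algebra.H1Cotangent K L) :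
    Algebra.H1Cotangent.δ P K M (Algebra.H1Cotangent.map K K L M x) =
    TensorProduct.AlgebraTensorModule.cancelBaseChange K L M M Ω[K⁄P]
      ((1 : M) ⊗ₜ[L] Algebra.H1Cotangent.δ P K L x) := by
  obtain ⟨c, hc⟩ := x
  obtain ⟨y, rfl⟩ := Extension.Cotangent.mk_surjective c
  have h1 : Algebra.H1Cotangent.δ P K L ⟨Extension.Cotangent.mk y, hc⟩ =
      Generators.H1Cotangent.δAux P (Generators.self K L) y.1 :=
    Generators.H1Cotangent.δ_eq_δAux (Generators.self K L) (Generators.self P K) y hc
  rw [h1]
  refine Eq.trans ?_ (δAux_natural (P := P) (M := M) y.1)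
  exact Generators.H1Cotangent.δ_eq_δAux (Generators.self K M) (Generators.self P K) _ _

theorem inj_of_base [Subsingleton (Algebra.H1Cotangent P L)] [Module.Flat L M] :
    Function.Injective ((Algebra.H1Cotangent.map K K L M).liftBaseChange M) := by
  have hδL : Function.Injective (Algebra.H1Cotangent.δ P K L) := by
    rw [injective_iff_map_eq_zero]
    intro x hx
    obtain ⟨y, rfl⟩ := (Algebra.H1Cotangent.exact_map_δ P K L x).1 hx
    rw [Subsingleton.elim y 0, map_zero]
  have hbc : Function.Injective ((Algebra.H1Cotangent.δ P K L).baseChange M) :=
    Module.Flat.lTensor_preserves_injective_linearMap (M := M) _ hδL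
  have hcomp : ∀ z, Algebra.H1Cotangent.δ P K M
      (((Algebra.H1Cotangent.map K K L M).liftBaseChange M) z) =
      TensorProduct.AlgebraTensorModule.cancelBaseChange K L M M Ω[K⁄P]
        ((Algebra.H1Cotangent.δ P K L).baseChange M z) := by
    intro z
    induction z using TensorProduct.induction_on with
    | zero => simp
    | tmul m x =>
      rw [LinearMap.liftBaseChange_tmul, map_smul, δ_natural, ← map_smul,
        LinearMap.baseChange_tmul, TensorProduct.smul_tmul', smul_eq_mul, mul_one]
    | add z1 z2 h1 h2 => simp only [map_add, h1, h2]
  intro z1 z2 h12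
  apply hbc
  apply (TensorProduct.AlgebraTensorModule.cancelBaseChange K L M M Ω[K⁄P]).injective
  rw [← hcomp, ← hcomp, h12]

end nat

theorem main {K L M : Type u} [Field K] [Field L]
    [Field M] [Algebra K L] [Algebra L M] [Algebra K M] [IsScalarTower K L M] :
    Function.Injective ((Algebra.H1Cotangent.map K K L M).liftBaseChange M) := by
  have hfs : Algebra.FormallySmooth (⊥ : Subfield K) L := by
    obtain _ | ⟨p, hp, hpk⟩ := CharP.exists' K
    · have : CharZero (⊥ : Subfield K) := by
        refine ⟨fun a b hab => ?_⟩
        have := congrArg (algebraMap (⊥ : Subfield K) K) hab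
        simpa using this
      exact Groth.Agent.Helper2.Sep.formallySmooth_of_charZero _ _
    · have : Fact p.Prime := hp
      have : CharP (⊥ : Subfield K) p := inferInstance
      let _ : Algebra (ZMod p) K := ZMod.algebra K p
      have hfin : Finite (⊥ : Subfield K) := by
        rw [Subfield.bot_eq_of_zMod_algebra p]
        exact (Set.finite_range (algebraMap (ZMod p) K)).to_subtype
      have : ExpChar (⊥ : Subfield K) p := ExpChar.prime hp.out
      have : PerfectRing (⊥ : Subfield K) p := PerfectRing.ofFiniteOfIsReduced p _
      exact Groth.Agent.Helper2.Sep.formallySmooth_of_perfect p _ _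
  have : Subsingleton (Algebra.H1Cotangent (⊥ : Subfield K) L) :=
    Algebra.FormallySmooth.subsingleton_h1Cotangent
  exact inj_of_base (P := (⊥ : Subfield K))

end Aux

open TensorProduct in
/-- For a tower of fields `K ⊆ L ⊆ M`, the first map of the Jacobi–Zariski sequence, from `H_1(L_{L/K})
⊗_L M` to `H_1(L_{M/K})`, is injective; here `H_1(L)` denotes the first homology of the naive
cotangent complex and the map is the `M`-linear extension of the functoriality map. (The rest of the
six-term sequence is exact for any three rings, so for fields it is exact with a zero on the left.) -/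
theorem result {K L M : Type u} [Field K] [Field L]
    [Field M] [Algebra K L] [Algebra L M] [Algebra K M] [IsScalarTower K L M] :
    Function.Injective ((Algebra.H1Cotangent.map K K L M).liftBaseChange M) := by
  exact Aux.main

end Groth.Agent.S9319
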