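import Groth.Statements.S9320
import Mathlib
import Groth.Agent.Lib.Helper2.SepPerfect
import Groth.Agent.Lib.Helper2.CartierFinal
import Groth.Agent.Lib.Helper2.Fredholm2
import Groth.Agent.S9319
-- import your own Groth.Agent.* helpers here

set_option autoImplicit false
universe u
open CAlg

namespace Groth.Agent.S9320

open TensorProduct
namespace Aux

open Algebra KaehlerDifferential

section comp

variable {A B C X Y Z : Type*} [CommRing A] [CommRing B] [CommRing C] [CommRing X] [CommRing Y]
  [CommRing Z]
  [Algebra A B] [Algebra B C] [Algebra A C] [IsScalarTower A B C]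
  [Algebra X Y] [Algebra Y Z] [Algebra X Z] [IsScalarTower X Y Z]
  [Algebra A X] [Algebra B Y] [Algebra C Z]
  [Algebra A Y] [IsScalarTower A B Y] [IsScalarTower A X Y]
  [Algebra B Z] [IsScalarTower B C Z] [IsScalarTower B Y Z]
  [Algebra A Z] [IsScalarTower A C Z] [IsScalarTower A X Z]

theorem h1map_comp (x : Algebra.H1Cotangent A X) :
    Algebra.H1Cotangent.map B C Y Z (Algebra.H1Cotangent.map A B X Y x) =
      Algebra.H1Cotangent.map A C X Z x := by
  change ((Algebra.H1Cotangent.map B C Y Z).restrictScalars X ∘ₗ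
    Algebra.H1Cotangent.map A B X Y) x = _
  rw [Algebra.H1Cotangent.map, Algebra.H1Cotangent.map, ← Algebra.Extension.H1Cotangent.map_comp,
    Algebra.Extension.H1Cotangent.map_eq]
  rfl

end comp

theorem formallySmooth_bot (K L : Type u) [Field K] [Field L] [Algebra K L] :
    Algebra.FormallySmooth (⊥ : Subfield K) L := by
  obtain _ | ⟨p, hp, hpk⟩ := CharP.exists' K
  · have : CharZero (⊥ : Subfield K) := by
      refine ⟨fun a b hab => ?_⟩
      have := congrArg (algebraMap (⊥ : Subfield K) K) hab
      simpa using this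
    exact Groth.Agent.Helper2.Sep.formallySmooth_of_charZero _ _
  · have : Fact p.Prime := hp
    have : CharP (⊥ : Subfield K) p := inferInstance
    let _ : Algebra (ZMod p) K := ZMod.algebra K p
    have hfin : Finite (⊥ : Subfield K) := by
      rw [Subfield.bot_eq_of_zMod_algebra p]
      exact (Set.finite_range (algebraMap (ZMod p) K)).to_subtype
    have : ExpChar (⊥ : Subfield K) p := ExpChar.prime hp.out
    have : PerfectRing (⊥ : Subfield K) p := PerfectRing.ofFiniteOfIsReduced p _
    exact Groth.Agent.Helper2.Sep.formallySmooth_of_perfect p _ _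

theorem δ_int_injective (K L : Type u) [Field K] [Field L] [Algebra K L] :
    Function.Injective (Algebra.H1Cotangent.δ ℤ K L) := by
  have := formallySmooth_bot K L
  have hs : Subsingleton (Algebra.H1Cotangent (⊥ : Subfield K) L) :=
    Algebra.FormallySmooth.subsingleton_h1Cotangent
  rw [injective_iff_map_eq_zero]
  intro x hx
  obtain ⟨y, rfl⟩ := (Algebra.H1Cotangent.exact_map_δ ℤ K L x).1 hx
  rw [← h1map_comp (B := (⊥ : Subfield K)) (Y := L) y,
    Subsingleton.elim (Algebra.H1Cotangent.map ℤ (⊥ : Subfield K) L L y) 0, map_zero]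

/-- `H¹(L_{L/K})` is the imperfection module over `ℤ`. -/
noncomputable def h1EquivImperfection (K L : Type u) [Field K] [Field L] [Algebra K L] :
    Algebra.H1Cotangent K L ≃ₗ[L] EGA41.imperfection ℤ K L :=
  LinearEquiv.ofBijective
    ((Algebra.H1Cotangent.δ ℤ K L).codRestrict (EGA41.imperfection ℤ K L) (fun x =>
      (Algebra.H1Cotangent.exact_δ_mapBaseChange ℤ K L _).2 ⟨x, rfl⟩))
    ⟨fun x y hxy => δ_int_injective K L (congrArg Subtype.val hxy),
     fun ⟨z, hz⟩ => by
      obtain ⟨x, hx⟩ := (Algebra.H1Cotangent.exact_δ_mapBaseChange ℤ K L z).1 hz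
      exact ⟨x, Subtype.ext hx⟩⟩

theorem cartier_h1 (K L : Type u) [Field K] [Field L] [Algebra K L] [Algebra.EssFiniteType K L] :
    Module.Finite L (Ω[L⁄K]) ∧ Module.Finite L (Algebra.H1Cotangent K L) ∧
      (Module.finrank L (Ω[L⁄K]) : ℤ) - Module.finrank L (Algebra.H1Cotangent K L) =
        Cardinal.toNat (Algebra.trdeg K L) := by
  obtain ⟨h1, h2, h3⟩ := Groth.Agent.Helper2.Cartier.cartier_eq K L
  refine ⟨h1, Module.Finite.equiv (h1EquivImperfection K L).symm, ?_⟩
  rw [(h1EquivImperfection K L).finrank_eq]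
  exact h3


section six

open Groth.Agent.Helper2.Fredholm Module

variable {F : Type*} [Field F] {A1 A2 A3 B1 B2 B3 : Type*}
  [AddCommGroup A1] [Module F A1] [AddCommGroup A2] [Module F A2] [AddCommGroup A3] [Module F A3]
  [AddCommGroup B1] [Module F B1] [AddCommGroup B2] [Module F B2] [AddCommGroup B3] [Module F B3]

/-- for an exact pair, the cokernel of the first map is the range of the second -/
noncomputable def cokerEquivRange {M N P : Type*} [AddCommGroup M] [Module F M] [AddCommGroup N]
    [Module F N] [AddCommGroup P] [Module F P] {f : M →ₗ[F] N} {g : N →ₗ[F] P}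
    (h : Function.Exact f g) : (N ⧸ LinearMap.range f) ≃ₗ[F] LinearMap.range g :=
  (Submodule.quotEquivOfEq _ _ (LinearMap.exact_iff.1 h).symm).trans g.quotKerEquivRange

variable (a : A1 →ₗ[F] A2) (b : A2 →ₗ[F] A3) (c : A3 →ₗ[F] B1) (d : B1 →ₗ[F] B2)
  (e : B2 →ₗ[F] B3)
  (ha : Function.Injective a) (hab : Function.Exact a b) (hbc : Function.Exact b c)
  (hcd : Function.Exact c d) (hde : Function.Exact d e) (he : Function.Surjective e)

include ha hab hbc hcd hde he

theorem sixI [FiniteDimensional F A3] [FiniteDimensional F B3] :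
    IsFred a ∧ IsFred d ∧ ind d - ind a = (finrank F B3 : ℤ) - finrank F A3 := by
  have hka : LinearMap.ker a = ⊥ := LinearMap.ker_eq_bot.2 ha
  let e1 : LinearMap.ker a ≃ₗ[F] (⊥ : Submodule F A1) := LinearEquiv.ofEq _ _ hka
  let e2 : (A2 ⧸ LinearMap.range a) ≃ₗ[F] LinearMap.range b := cokerEquivRange hab
  let e3 : LinearMap.ker d ≃ₗ[F] LinearMap.range c :=
    LinearEquiv.ofEq _ _ (LinearMap.exact_iff.1 hcd)
  let e4 : (B2 ⧸ LinearMap.range d) ≃ₗ[F] B3 :=
    (cokerEquivRange hde).trans (LinearEquiv.ofTop _ (LinearMap.range_eq_top.2 he))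
  have fa : IsFred a := ⟨Module.Finite.equiv e1.symm, Module.Finite.equiv e2.symm⟩
  have fd : IsFred d := ⟨Module.Finite.equiv e3.symm, Module.Finite.equiv e4.symm⟩
  refine ⟨fa, fd, ?_⟩
  rw [ind_of_finrank e1 e2, ind_of_finrank e3 e4]
  have h1 := LinearMap.finrank_range_add_finrank_ker c
  rw [LinearMap.exact_iff.1 hbc] at h1
  have h2 : finrank F (⊥ : Submodule F A1) = 0 := finrank_bot F A1
  rw [h2]
  push_cast
  omega

theorem sixII [FiniteDimensional F A1] [FiniteDimensional F B1] :
    IsFred b ∧ IsFred e ∧ ind e - ind b = (finrank F A1 : ℤ) - finrank F B1 := by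
  let e1 : LinearMap.ker b ≃ₗ[F] A1 :=
    (LinearEquiv.ofEq _ _ (LinearMap.exact_iff.1 hab)).trans (LinearEquiv.ofInjective a ha).symm
  let e2 : (A3 ⧸ LinearMap.range b) ≃ₗ[F] LinearMap.range c := cokerEquivRange hbc
  let e3 : LinearMap.ker e ≃ₗ[F] LinearMap.range d :=
    LinearEquiv.ofEq _ _ (LinearMap.exact_iff.1 hde)
  have hre : LinearMap.range e = ⊤ := LinearMap.range_eq_top.2 he
  let e4 : (B3 ⧸ LinearMap.range e) ≃ₗ[F] (B3 ⧸ (⊤ : Submodule F B3)) :=
    Submodule.quotEquivOfEq _ _ hre
  have : Subsingleton (B3 ⧸ (⊤ : Submodule F B3)) :=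
    Submodule.Quotient.subsingleton_iff.mpr rfl
  have fb : IsFred b := ⟨Module.Finite.equiv e1.symm, Module.Finite.equiv e2.symm⟩
  have fe : IsFred e := ⟨Module.Finite.equiv e3.symm, Module.Finite.equiv e4.symm⟩
  refine ⟨fb, fe, ?_⟩
  rw [ind_of_finrank e1 e2, ind_of_finrank e3 e4]
  have h1 := LinearMap.finrank_range_add_finrank_ker d
  rw [LinearMap.exact_iff.1 hcd] at h1
  have h2 : finrank F (B3 ⧸ (⊤ : Submodule F B3)) = 0 := Module.finrank_zero_of_subsingleton
  rw [h2]
  push_cast
  omega

end six


section main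

open Groth.Agent.Helper2.Fredholm Module

variable {k k' K K' : Type u} [Field k] [Field k']
    [Field K] [Field K'] [Algebra k k'] [Algebra k K] [Algebra k K'] [Algebra k' K'] [Algebra K K']
    [IsScalarTower k k' K'] [IsScalarTower k K K']

theorem kmap_comp (ω : Ω[K⁄k]) :
    KaehlerDifferential.map k k' K' K' (KaehlerDifferential.map k k K K' ω) =
      KaehlerDifferential.map k k' K K' ω := by
  have : ω ∈ Submodule.span K (Set.range (KaehlerDifferential.D k K)) := by
    rw [KaehlerDifferential.span_range_derivation]; trivial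
  induction this using Submodule.span_induction with
  | mem x hx =>
    obtain ⟨b, rfl⟩ := hx
    simp only [KaehlerDifferential.map_D]
    rfl
  | zero => simp
  | add x y _ _ hx hy => simp only [map_add, hx, hy]
  | smul a x _ hx =>
    rw [map_smul (KaehlerDifferential.map k k K K'), map_smul (KaehlerDifferential.map k k' K K'),
      ← hx, LinearMap.map_smul_of_tower]

theorem alpha_eq :
    (KaehlerDifferential.map k k' K K').liftBaseChange K' =
      (KaehlerDifferential.map k k' K' K') ∘ₗ (KaehlerDifferential.mapBaseChange k K K') := by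
  apply TensorProduct.AlgebraTensorModule.ext
  intro m ω
  rw [LinearMap.liftBaseChange_tmul, LinearMap.comp_apply, KaehlerDifferential.mapBaseChange_tmul,
    map_smul, kmap_comp]

theorem beta_eq :
    (Algebra.H1Cotangent.map k k' K K').liftBaseChange K' =
      (Algebra.H1Cotangent.map k k' K' K') ∘ₗ
        ((Algebra.H1Cotangent.map k k K K').liftBaseChange K') := by
  apply TensorProduct.AlgebraTensorModule.ext
  intro m x
  rw [LinearMap.liftBaseChange_tmul, LinearMap.comp_apply, LinearMap.liftBaseChange_tmul,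
    map_smul, h1map_comp]

theorem main [Algebra.EssFiniteType k k'] [Algebra.EssFiniteType K K'] :
    Module.Finite K' (LinearMap.ker ((KaehlerDifferential.map k k' K K').liftBaseChange K')) ∧
      Module.Finite K' (Ω[K'⁄k'] ⧸ LinearMap.range ((KaehlerDifferential.map k k' K K').liftBaseChange K')) ∧
      Module.Finite K' (LinearMap.ker ((Algebra.H1Cotangent.map k k' K K').liftBaseChange K')) ∧
      Module.Finite K' (Algebra.H1Cotangent k' K' ⧸ LinearMap.range ((Algebra.H1Cotangent.map k k' K K').liftBaseChange K')) ∧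
      ((Module.finrank K' (LinearMap.ker ((KaehlerDifferential.map k k' K K').liftBaseChange K')) : ℤ)
          - Module.finrank K' (Ω[K'⁄k'] ⧸ LinearMap.range ((KaehlerDifferential.map k k' K K').liftBaseChange K'))
          - Module.finrank K' (LinearMap.ker ((Algebra.H1Cotangent.map k k' K K').liftBaseChange K'))
          + Module.finrank K' (Algebra.H1Cotangent k' K' ⧸ LinearMap.range ((Algebra.H1Cotangent.map k k' K K').liftBaseChange K'))
        = (Cardinal.toNat (Algebra.trdeg k k') : ℤ) - Cardinal.toNat (Algebra.trdeg K K')) := by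
  obtain ⟨f1, f2, f3⟩ := cartier_h1 K K'
  obtain ⟨g1, g2, g3⟩ := cartier_h1 k k'
  -- sequence I
  obtain ⟨FaI, FdI, iI⟩ := sixI
    ((Algebra.H1Cotangent.map k k K K').liftBaseChange K')
    (Algebra.H1Cotangent.map k K K' K')
    (Algebra.H1Cotangent.δ k K K')
    (KaehlerDifferential.mapBaseChange k K K')
    (KaehlerDifferential.map k K K' K')
    (Groth.Agent.S9319.result (K := k) (L := K) (M := K'))
    (Algebra.H1Cotangent.exact_liftBaseChange_map_of_flat k K K')
    (Algebra.H1Cotangent.exact_map_δ k K K')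
    (Algebra.H1Cotangent.exact_δ_mapBaseChange k K K')
    (KaehlerDifferential.exact_mapBaseChange_map k K K')
    (KaehlerDifferential.map_surjective k K K')
  -- sequence II
  obtain ⟨FbII, FeII, iII⟩ := sixII
    ((Algebra.H1Cotangent.map k k k' K').liftBaseChange K')
    (Algebra.H1Cotangent.map k k' K' K')
    (Algebra.H1Cotangent.δ k k' K')
    (KaehlerDifferential.mapBaseChange k k' K')
    (KaehlerDifferential.map k k' K' K')
    (Groth.Agent.S9319.result (K := k) (L := k') (M := K'))
    (Algebra.H1Cotangent.exact_liftBaseChange_map_of_flat k k' K')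
    (Algebra.H1Cotangent.exact_map_δ k k' K')
    (Algebra.H1Cotangent.exact_δ_mapBaseChange k k' K')
    (KaehlerDifferential.exact_mapBaseChange_map k k' K')
    (KaehlerDifferential.map_surjective k k' K')
  rw [Module.finrank_baseChange, Module.finrank_baseChange] at iII
  obtain ⟨Fα, iα⟩ := FdI.comp FeII
  obtain ⟨Fβ, iβ⟩ := FaI.comp FbII
  rw [← alpha_eq] at Fα iα
  rw [← beta_eq] at Fβ iβ
  refine ⟨Fα.ker, Fα.coker, Fβ.ker, Fβ.coker, ?_⟩
  unfold ind at iα iβ iI iII
  omega
end main

end Aux

open TensorProduct in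
/-- Consider a commutative square of fields with maps `k → K`, `k → k'`, `k' → K'` and `K → K'`, where
`k'` is a finitely generated field extension of `k` and `K'` is a finitely generated field extension
of `K`. Let `α : Ω_{K/k} ⊗_K K' → Ω_{K'/k'}` and `β : H_1(L_{K/k}) ⊗_K K' → H_1(L_{K'/k'})` be the
comparison maps (`H_1(L)` the first homology of the naive cotangent complex). Then the kernels and
cokernels of `α` and `β` are finite-dimensional `K'`-vector spaces, and the difference of
transcendence degrees trdeg_k(k') − trdeg_K(K') equals (dim Ker α + dim Coker β) − (dim Coker α +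
dim Ker β). -/
theorem result {k k' K K' : Type u} [Field k] [Field k']
    [Field K] [Field K'] [Algebra k k'] [Algebra k K] [Algebra k K'] [Algebra k' K'] [Algebra K K']
    [IsScalarTower k k' K'] [IsScalarTower k K K']
    [Algebra.EssFiniteType k k'] [Algebra.EssFiniteType K K'] :
    Module.Finite K' (LinearMap.ker ((KaehlerDifferential.map k k' K K').liftBaseChange K')) ∧
      Module.Finite K' (Ω[K'⁄k'] ⧸ LinearMap.range ((KaehlerDifferential.map k k' K K').liftBaseChange K')) ∧
      Module.Finite K' (LinearMap.ker ((Algebra.H1Cotangent.map k k' K K').liftBaseChange K')) ∧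
      Module.Finite K' (Algebra.H1Cotangent k' K' ⧸ LinearMap.range ((Algebra.H1Cotangent.map k k' K K').liftBaseChange K')) ∧
      ((Module.finrank K' (LinearMap.ker ((KaehlerDifferential.map k k' K K').liftBaseChange K')) : ℤ)
          - Module.finrank K' (Ω[K'⁄k'] ⧸ LinearMap.range ((KaehlerDifferential.map k k' K K').liftBaseChange K'))
          - Module.finrank K' (LinearMap.ker ((Algebra.H1Cotangent.map k k' K K').liftBaseChange K'))
          + Module.finrank K' (Algebra.H1Cotangent k' K' ⧸ LinearMap.range ((Algebra.H1Cotangent.map k k' K K').liftBaseChange K'))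
        = (Cardinal.toNat (Algebra.trdeg k k') : ℤ) - Cardinal.toNat (Algebra.trdeg K K')) := by
  exact Aux.main

end Groth.Agent.S9320
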