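import Groth.Statements.S9323
import Groth.Agent.Lib.Helper8.PSeries1
import Groth.Agent.Lib.Helper8.CohenLift2

set_option autoImplicit false
open CAlg

namespace Groth.Agent.S9323

/-- Let `Λ` be a Cohen ring (a complete discrete valuation ring whose maximal ideal is generated by a
prime number) and `n ≥ 0`. Then `ℤ → Λ[[x_1, …, x_n]]` is formally smooth for the adic topology of
the maximal ideal of the power series ring. (`Λ` is taken in the lowest universe, where `ℤ` lives.) -/
theorem result (Λ : Type) [CommRing Λ] [IsLocalRing Λ]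
    (hΛ : CAlg.IsCohenRing Λ) (n : ℕ) :
    CAlgX.IsAdicFormallySmooth ℤ (MvPowerSeries (Fin n) Λ)
      (IsLocalRing.maximalIdeal (MvPowerSeries (Fin n) Λ)) := by
  classical
  obtain ⟨hd, hv, hc, p, hp, hm⟩ := hΛ
  intro A _ _ J hJ ψ ⟨k, hk⟩
  -- membership in the maximal ideal of the power series ring
  have hmem : ∀ f : MvPowerSeries (Fin n) Λ, ¬ IsUnit (MvPowerSeries.constantCoeff f) →
      f ∈ IsLocalRing.maximalIdeal (MvPowerSeries (Fin n) Λ) := by
    intro f hf
    rw [IsLocalRing.mem_maximalIdeal, mem_nonunits_iff, MvPowerSeries.isUnit_iff_constantCoeff]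
    exact hf
  have hXmem : ∀ i, (MvPowerSeries.X i : MvPowerSeries (Fin n) Λ) ∈
      IsLocalRing.maximalIdeal (MvPowerSeries (Fin n) Λ) := by
    intro i
    apply hmem
    rw [MvPowerSeries.constantCoeff_X]
    exact not_isUnit_zero
  have hpmem : ((p : ℕ) : MvPowerSeries (Fin n) Λ) ∈
      IsLocalRing.maximalIdeal (MvPowerSeries (Fin n) Λ) := by
    apply hmem
    rw [map_natCast]
    have : (p : Λ) ∈ IsLocalRing.maximalIdeal Λ := by
      rw [hm]; exact Ideal.mem_span_singleton_self _
    exact (IsLocalRing.mem_maximalIdeal _).1 this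
  -- elements of `A` whose class has vanishing `k`-th power have vanishing `2k`-th power
  have hsq : ∀ a : A, (Ideal.Quotient.mk J a) ^ k = 0 → a ^ (2 * k) = 0 := by
    intro a ha
    rw [← map_pow, Ideal.Quotient.eq_zero_iff_mem] at ha
    have : a ^ (2 * k) ∈ J ^ 2 := by
      rw [mul_comm, pow_mul]
      exact Ideal.pow_mem_pow ha 2
    rw [hJ] at this
    exact this
  -- a power of `p` vanishes in `A`
  have hpA : ((p : ℕ) : A) ^ (2 * k + 1) = 0 := by
    have h1 : (Ideal.Quotient.mk J ((p : ℕ) : A)) ^ k = 0 := by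
      rw [map_natCast, ← map_natCast ψ, ← map_pow]
      exact hk _ (Ideal.pow_mem_pow hpmem k)
    rw [pow_succ, hsq _ h1, zero_mul]
  -- lift the coefficient ring
  let g : Λ →+* A ⧸ J := (ψ : MvPowerSeries (Fin n) Λ →+* A ⧸ J).comp MvPowerSeries.C
  have hnil : IsNilpotent (RingHom.ker (Ideal.Quotient.mk J)) := by
    rw [Ideal.mk_ker]
    exact ⟨2, hJ⟩
  obtain ⟨g', hg'⟩ := Groth.Agent.Helper8.CohenLift.exists_lift_of_nilpotent Λ p hp hm
    (Ideal.Quotient.mk J) Ideal.Quotient.mk_surjective hnil (2 * k + 1) (by omega) hpA g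
  -- lift the variables
  have hex : ∀ i : Fin n, ∃ a : A, Ideal.Quotient.mk J a = ψ (MvPowerSeries.X i) :=
    fun i => Ideal.Quotient.mk_surjective _
  choose a ha using hex
  have hanil : ∀ i, a i ^ (2 * k) = 0 := by
    intro i
    apply hsq
    rw [ha, ← map_pow]
    exact hk _ (Ideal.pow_mem_pow (hXmem i) k)
  obtain ⟨χ, hχC, hχX⟩ := Groth.Agent.Helper8.PSeries.exists_eval_nilpotent g' a
    (fun i => ⟨2 * k, hanil i⟩)
  -- compare
  have hcomp : (Ideal.Quotient.mk J).comp χ = (ψ : MvPowerSeries (Fin n) Λ →+* A ⧸ J) := by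
    apply Groth.Agent.Helper8.PSeries.ringHom_ext_of_X_pow _ _ (2 * k)
    · intro r
      rw [RingHom.comp_apply, hχC]
      exact RingHom.congr_fun hg' r
    · intro i
      rw [RingHom.comp_apply, hχX, ha]
      rfl
    · intro i
      rw [RingHom.comp_apply, hχX, ← map_pow, hanil, map_zero]
  refine ⟨{ toRingHom := χ, commutes' := fun z => ?_ }, ?_⟩
  · show χ (algebraMap ℤ (MvPowerSeries (Fin n) Λ) z) = algebraMap ℤ A z
    rw [eq_intCast (algebraMap ℤ (MvPowerSeries (Fin n) Λ)) z, eq_intCast (algebraMap ℤ A) z,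
      map_intCast]
  · ext f
    exact RingHom.congr_fun hcomp f

end Groth.Agent.S9323
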