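import Groth.Statements.S9324
-- import your own Groth.Agent.* helpers here
import Mathlib
import Groth.Agent.Lib.Helper7.Hens.IntegralBaseChange

set_option autoImplicit false
universe u
open Hensel

namespace Groth.Agent.S9324

open TensorProduct in
/-- Let `(A, I) → (B, J)` be a map of pairs, i.e. `I B ⊆ J`, such that `J` and `I B` have the same
radical, and suppose `A → B` is integral. Let `A^h` be a henselization of the pair `(A, I)`, `B^h` a
henselization of the pair `(B, J)`, and `φ : A^h → B^h` an `A`-algebra homomorphism (there is
exactly one, by the universal property of `A^h`). Then the induced map `A^h ⊗_A B → B^h` is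
bijective: henselization commutes with integral base change. -/
theorem result {A B Ah Bh : Type u} [CommRing A]
    [CommRing B] [CommRing Ah] [CommRing Bh] [Algebra A B] (I : Ideal A) (J : Ideal B)
    (hIJ : I.map (algebraMap A B) ≤ J) (hrad : J.radical = (I.map (algebraMap A B)).radical)
    [Algebra.IsIntegral A B] [Algebra A Ah] (hA : Hens2.IsPairHenselization A I Ah)
    [Algebra B Bh] [Algebra A Bh] [IsScalarTower A B Bh] (hB : Hens2.IsPairHenselization B J Bh)
    (φ : Ah →ₐ[A] Bh) :
    Function.Bijective (Algebra.TensorProduct.productMap φ (IsScalarTower.toAlgHom A B Bh)) := by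
  have _ := hIJ
  have hT := Groth.Agent.Helper7.Hens.isPairHenselization_tensor B Ah hA
  have hT' : Hens2.IsPairHenselization B J (TensorProduct A B Ah) :=
    Groth.Agent.Helper7.Hens.isPairHenselization_of_radical_eq hrad.symm hT
  obtain ⟨ε⟩ := Groth.Agent.Helper7.Hens.nonempty_algEquiv_of_isPairHenselization hT' hB
  let P := Algebra.TensorProduct.productMap φ (IsScalarTower.toAlgHom A B Bh)
  let ψ : TensorProduct A B Ah →+* Bh :=
    P.toRingHom.comp (Algebra.TensorProduct.comm A B Ah).toAlgHom.toRingHom
  obtain ⟨k, -, hk⟩ := hT'.2 Bh (J.map (algebraMap B Bh)) (algebraMap B Bh) hB.1 le_rfl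
  have h1 : ψ = k := by
    apply hk
    ext b
    show P ((Algebra.TensorProduct.comm A B Ah) (TensorProduct.tmul A b (1 : Ah))) = _
    rw [Algebra.TensorProduct.comm_tmul]
    simp [P, Algebra.TensorProduct.productMap_apply_tmul]
  have h2 : (ε : TensorProduct A B Ah →+* Bh) = k := by
    apply hk
    ext b
    exact ε.commutes b
  have hψ : Function.Bijective ψ := by
    rw [h1, ← h2]
    exact ε.bijective
  have h3 : (P : TensorProduct A Ah B → Bh)
      = ψ ∘ (Algebra.TensorProduct.comm A B Ah).symm := by
    funext t
    show P t = P ((Algebra.TensorProduct.comm A B Ah) ((Algebra.TensorProduct.comm A B Ah).symm t))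
    rw [AlgEquiv.apply_symm_apply]
  show Function.Bijective (P : TensorProduct A Ah B → Bh)
  rw [h3]
  exact hψ.comp (Algebra.TensorProduct.comm A B Ah).symm.bijective

end Groth.Agent.S9324
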