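import Groth.Statements.S9326
import Mathlib

set_option autoImplicit false
universe u
open CAlg

namespace Groth.Agent.S9326

section
open Filter Topology

section core
variable {N M : Type u} [AddCommGroup N] [AddCommGroup M] [UniformSpace N] [IsUniformAddGroup N]
    [TopologicalSpace M] [IsTopologicalAddGroup M] [T2Space M] [CompleteSpace N]
    [NonarchimedeanAddGroup N]
    (u : N →+ M) (hu : Continuous u)

/-- closure of the image of an open subgroup, as a subgroup -/
noncomputable def Wg (V : OpenAddSubgroup N) : AddSubgroup M :=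
  ((V.toAddSubgroup).map u).topologicalClosure

theorem Wg_coe (V : OpenAddSubgroup N) : (Wg u V : Set M) = closure (u '' (V : Set N)) := by
  unfold Wg
  rw [AddSubgroup.topologicalClosure_coe, AddSubgroup.coe_map]
  rfl

theorem Wg_closed (V : OpenAddSubgroup N) : IsClosed (Wg u V : Set M) := by
  rw [Wg_coe]; exact isClosed_closure

theorem Wg_mono {V V' : OpenAddSubgroup N} (h : (V : Set N) ⊆ V') : Wg u V ≤ Wg u V' := by
  intro x hx
  have hx' : x ∈ (Wg u V : Set M) := hx
  rw [Wg_coe] at hx'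
  have : x ∈ (Wg u V' : Set M) := by
    rw [Wg_coe]
    exact closure_mono (Set.image_mono h) hx'
  exact this

theorem step (V V' : OpenAddSubgroup N) (hW' : (Wg u V' : Set M) ∈ 𝓝 (0 : M)) (y : M) (s : N)
    (hs : y - u s ∈ Wg u V) : ∃ s', y - u s' ∈ Wg u V' ∧ s' - s ∈ V := by
  have hr : y - u s ∈ closure (u '' (V : Set N)) := by rw [← Wg_coe]; exact hs
  have hnb : {m : M | (y - u s) - m ∈ Wg u V'} ∈ 𝓝 (y - u s) := by
    have hc : ContinuousAt (fun m : M => (y - u s) - m) (y - u s) := by fun_prop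
    have h0 : (fun m : M => (y - u s) - m) (y - u s) = 0 := sub_self _
    have : (Wg u V' : Set M) ∈ 𝓝 ((fun m : M => (y - u s) - m) (y - u s)) := by rw [h0]; exact hW'
    exact hc this
  obtain ⟨m, hm1, hm2⟩ := mem_closure_iff_nhds.mp hr _ hnb
  obtain ⟨x, hx, rfl⟩ := hm2
  refine ⟨s + x, ?_, ?_⟩
  · have : y - u (s + x) = y - u s - u x := by rw [map_add]; abel
    rw [this]; exact hm1
  · have : s + x - s = x := by abel
    rw [this]; exact hx


include hu in
theorem core (V : ℕ → OpenAddSubgroup N) (hVanti : ∀ n, (V (n+1) : Set N) ⊆ V n)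
    (hVbasis : ∀ O ∈ 𝓝 (0:N), ∃ n, (V n : Set N) ⊆ O)
    (hW : ∀ n, (Wg u (V n) : Set M) ∈ 𝓝 (0 : M)) :
    (Wg u (V 0) : Set M) ⊆ u '' (V 0 : Set N) := by
  intro y hy
  have hstep : ∀ n (s : N), y - u s ∈ Wg u (V n) →
      ∃ s', y - u s' ∈ Wg u (V (n+1)) ∧ s' - s ∈ V n :=
    fun n s hs => step u (V n) (V (n+1)) (hW (n+1)) y s hs
  choose! nxt hnxt1 hnxt2 using hstep
  obtain ⟨seq, hseq0, hseqS⟩ : ∃ seq : ℕ → N, seq 0 = 0 ∧ ∀ n, seq (n+1) = nxt n (seq n) :=
    ⟨fun n => Nat.rec 0 (fun n s => nxt n s) n, rfl, fun n => rfl⟩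
  have hP : ∀ n, y - u (seq n) ∈ Wg u (V n) := by
    intro n
    induction n with
    | zero => rw [hseq0, map_zero, sub_zero]; exact hy
    | succ n ih => rw [hseqS]; exact hnxt1 n _ ih
  have hD : ∀ n, seq (n+1) - seq n ∈ V n := fun n => by rw [hseqS]; exact hnxt2 n _ (hP n)
  have hVle : ∀ m n, m ≤ n → (V n : Set N) ⊆ V m := by
    intro m n hmn
    induction hmn with
    | refl => exact subset_rfl
    | step _ ih => exact (hVanti _).trans ih
  have hin : ∀ n, seq n ∈ V 0 := by
    intro n
    induction n with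
    | zero => rw [hseq0]; exact (V 0).zero_mem
    | succ n ih =>
      have : seq (n+1) = (seq (n+1) - seq n) + seq n := by abel
      rw [this]; exact (V 0).add_mem (hVle 0 n (Nat.zero_le n) (hD n)) ih
  have hcau : CauchySeq seq := by
    apply NonarchimedeanAddGroup.cauchySeq_of_tendsto_sub_nhds_zero
    rw [tendsto_def]
    intro O hO
    obtain ⟨m, hm⟩ := hVbasis O hO
    rw [mem_atTop_sets]
    exact ⟨m, fun n hn => hm (hVle m n hn (hD n))⟩
  obtain ⟨x, hx⟩ := cauchySeq_tendsto_of_complete hcau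
  have hxV : x ∈ (V 0 : Set N) := (V 0).isClosed.mem_of_tendsto hx (Eventually.of_forall hin)
  refine ⟨x, hxV, ?_⟩
  have hlim : Tendsto (fun n => y - u (seq n)) atTop (𝓝 (y - u x)) :=
    (tendsto_const_nhds).sub ((hu.tendsto x).comp hx)
  have hall : ∀ k, y - u x ∈ (Wg u (V k) : Set M) := by
    intro k
    apply (Wg_closed u (V k)).mem_of_tendsto hlim
    rw [eventually_atTop]
    exact ⟨k, fun n hn => Wg_mono u (hVle k n hn) (hP n)⟩
  by_contra hne
  have hz : y - u x ≠ 0 := fun h => hne (by rw [sub_eq_zero] at h; exact h.symm)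
  have hO : ({y - u x}ᶜ : Set M) ∈ 𝓝 (0 : M) :=
    isOpen_compl_singleton.mem_nhds (by simpa using hz.symm)
  obtain ⟨C, ⟨hC1, hC2⟩, hC3⟩ := (closed_nhds_basis (0 : M)).mem_iff.mp hO
  have hpre : u ⁻¹' C ∈ 𝓝 (0 : N) := by
    have := hu.tendsto 0
    rw [map_zero] at this
    exact this hC1
  obtain ⟨k, hk⟩ := hVbasis _ hpre
  have hsub : (Wg u (V k) : Set M) ⊆ C := by
    rw [Wg_coe]
    apply closure_minimal _ hC2
    rintro _ ⟨v, hv, rfl⟩
    exact hk hv
  exact hC3 (hsub (hall k)) rfl

end core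


theorem main {N M : Type u} [AddCommGroup N] [AddCommGroup M] [UniformSpace N] [IsUniformAddGroup N]
    [TopologicalSpace M] [IsTopologicalAddGroup M] [T2Space M] [T2Space N] [CompleteSpace N]
    [NonarchimedeanAddGroup N] [FirstCountableTopology N] (u : N →+ M) (hu : Continuous u) :
    Xor (IsOpenMap u) (∃ V : OpenAddSubgroup N, IsNowhereDense (u '' (V : Set N))) := by
  by_cases h : ∃ V : OpenAddSubgroup N, IsNowhereDense (u '' (V : Set N))
  · right
    refine ⟨h, fun hopen => ?_⟩
    obtain ⟨V, hV⟩ := h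
    have h1 : IsOpen (u '' (V : Set N)) := hopen _ V.isOpen
    have h2 : (u '' (V : Set N)) ⊆ interior (closure (u '' (V : Set N))) :=
      interior_maximal subset_closure h1
    rw [IsNowhereDense] at hV
    rw [hV] at h2
    exact h2 ⟨0, V.zero_mem, map_zero u⟩
  · left
    refine ⟨?_, h⟩
    have h' : ∀ V : OpenAddSubgroup N, ¬ IsNowhereDense (u '' (V : Set N)) :=
      fun V hV => h ⟨V, hV⟩
    have hWnhds : ∀ V : OpenAddSubgroup N, (Wg u V : Set M) ∈ 𝓝 (0:M) := by
      intro V
      have hV := h' V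
      rw [IsNowhereDense] at hV
      obtain ⟨g, hg⟩ := Set.nonempty_iff_ne_empty.mpr hV
      have hmem : (Wg u V : Set M) ∈ 𝓝 g := by
        rw [Wg_coe]; exact mem_interior_iff_mem_nhds.mp hg
      have hopen : IsOpen (Wg u V : Set M) := AddSubgroup.isOpen_of_mem_nhds _ hmem
      exact hopen.mem_nhds (Wg u V).zero_mem
    obtain ⟨b, hb⟩ := (𝓝 (0:N)).exists_antitone_basis
    have key : ∀ V : OpenAddSubgroup N, u '' (V : Set N) ∈ 𝓝 (0:M) := by
      intro V
      have hex : ∀ (n : ℕ) (V' : OpenAddSubgroup N),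
          ∃ V'' : OpenAddSubgroup N, (V'' : Set N) ⊆ (V' : Set N) ∩ b n := by
        intro n V'
        exact NonarchimedeanAddGroup.is_nonarchimedean _
          (Filter.inter_mem (V'.isOpen.mem_nhds V'.zero_mem) (hb.mem n))
      choose nx hnx using hex
      obtain ⟨Vs, hVs0, hVsS⟩ : ∃ Vs : ℕ → OpenAddSubgroup N,
          Vs 0 = V ∧ ∀ n, Vs (n+1) = nx n (Vs n) :=
        ⟨fun n => Nat.rec V (fun n V' => nx n V') n, rfl, fun _ => rfl⟩
      have h1 : ∀ n, (Vs (n+1) : Set N) ⊆ Vs n := fun n => by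
        rw [hVsS]; exact (hnx n _).trans Set.inter_subset_left
      have h2 : ∀ O ∈ 𝓝 (0:N), ∃ n, (Vs n : Set N) ⊆ O := by
        intro O hO
        obtain ⟨n, -, hn⟩ := hb.toHasBasis.mem_iff.mp hO
        exact ⟨n+1, by rw [hVsS]; exact ((hnx n _).trans Set.inter_subset_right).trans hn⟩
      have := core u hu Vs h1 h2 (fun n => hWnhds _)
      rw [hVs0] at this
      exact Filter.mem_of_superset (hWnhds V) this
    intro U hU
    rw [isOpen_iff_mem_nhds]
    rintro _ ⟨x, hx, rfl⟩
    have h1 : (fun z => x + z) ⁻¹' U ∈ 𝓝 (0:N) := by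
      have hc : ContinuousAt (fun z : N => x + z) 0 := by fun_prop
      apply hc
      simp only [add_zero]
      exact hU.mem_nhds hx
    obtain ⟨V, hV⟩ := NonarchimedeanAddGroup.is_nonarchimedean _ h1
    have h2 := key V
    have h3 : (fun m => u x + m) '' (u '' (V : Set N)) ⊆ u '' U := by
      rintro _ ⟨_, ⟨v, hv, rfl⟩, rfl⟩
      exact ⟨x + v, hV hv, map_add u x v⟩
    apply Filter.mem_of_superset _ h3
    have h4 : (fun m => u x + m) '' (u '' (V : Set N)) =
        (fun m => -(u x) + m) ⁻¹' (u '' (V : Set N)) := by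
      ext m
      constructor
      · rintro ⟨m', hm', rfl⟩
        simpa using hm'
      · intro hm
        exact ⟨-(u x) + m, hm, add_neg_cancel_left _ _⟩
    rw [h4]
    have hc : ContinuousAt (fun m : M => -(u x) + m) (u x) := by fun_prop
    apply hc
    simp only [neg_add_cancel]
    exact h2


end


/-- Let `u : N → M` be a continuous homomorphism of topological abelian groups. Assume `M` is Hausdorff
and `N` is Hausdorff and complete, linearly topologized (every neighbourhood of zero contains an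
open subgroup) and first countable (zero has a countable basis of neighbourhoods). Then exactly one
of two things holds: `u` is an open map; or there is an open subgroup of `N` whose image is nowhere
dense in `M`. -/
theorem result {N M : Type u} [AddCommGroup N]
    [AddCommGroup M] [UniformSpace N] [IsUniformAddGroup N] [TopologicalSpace M]
    [IsTopologicalAddGroup M] [T2Space M] [T2Space N] [CompleteSpace N] [NonarchimedeanAddGroup N]
    [FirstCountableTopology N] (u : N →+ M) (hu : Continuous u) :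
    Xor (IsOpenMap u) (∃ V : OpenAddSubgroup N, IsNowhereDense (u '' (V : Set N))) := by
  classical
  exact main u hu

end Groth.Agent.S9326
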