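import Groth.Statements.S9329
import Mathlib
import Groth.Prelude.Def_EtRam
import Groth.Agent.Lib.Helper9.EtRam.Dom19
-- import your own Groth.Agent.* helpers here

set_option autoImplicit false
universe u
open EtRam

namespace Groth.Agent.S9329

namespace Aux
open Polynomial IsLocalRing EtRam Groth.Agent.Helper9.EtRamLib

theorem main {A K L : Type u} [CommRing A] [IsDomain A]
    [IsDiscreteValuationRing A] [Field K] [Algebra A K] [IsFractionRing A K] [Field L] [Algebra K L]
    [Algebra A L] [IsScalarTower A K L] [FiniteDimensional K L] [Algebra.IsSeparable K L]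
    (π : A) (hπ : maximalIdeal A = Ideal.span {π}) (h : EtRam.IsTamelyRamified A (algebraMap A L)) :
    ∃ e₀ : ℕ, 0 < e₀ ∧ (e₀ : ResidueField A) ≠ 0 ∧
      ∀ d : ℕ, 0 < d → (d : ResidueField A) ≠ 0 →
        ∃ (L' : Type u) (_ : Field L') (_ : Algebra K L')
          (_ : Algebra (AdjoinRoot (X ^ (d * e₀) - C π : A[X])) L') (_ : L →ₐ[K] L'),
          FiniteDimensional K L' ∧ Algebra.IsSeparable K L' ∧
          (algebraMap (AdjoinRoot (X ^ (d * e₀) - C π : A[X])) L').comp (AdjoinRoot.of (X ^ (d * e₀) - C π)) =
            (algebraMap K L').comp (algebraMap A K) ∧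
          ∀ [IsLocalRing (AdjoinRoot (X ^ (d * e₀) - C π : A[X]))],
            EtRam.IsUnramifiedExt (AdjoinRoot (X ^ (d * e₀) - C π : A[X]))
              (algebraMap (AdjoinRoot (X ^ (d * e₀) - C π : A[X])) L') := by
  classical
  have hπirr : Irreducible π := (IsDiscreteValuationRing.irreducible_iff_uniformizer π).2 hπ
  have hLtame : IsTamelyRamified A ((algebraMap K L).comp (algebraMap A K)) :=
    (IsScalarTower.algebraMap_eq A K L) ▸ h
  set n := Module.finrank K L with hn
  set e₀ := ∏ j ∈ (Finset.Icc 1 n).filter (fun j : ℕ => (j : ResidueField A) ≠ 0), j with he₀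
  have he₀pos : 0 < e₀ := by
    apply Finset.prod_pos
    intro j hj
    rw [Finset.mem_filter, Finset.mem_Icc] at hj
    omega
  have he₀k : (e₀ : ResidueField A) ≠ 0 := by
    rw [he₀, Nat.cast_prod, Finset.prod_ne_zero_iff]
    intro j hj
    exact (Finset.mem_filter.1 hj).2
  have hdiv₀ : ∀ (V : ValuationSubring L)
      (hV : Dominates A ((algebraMap K L).comp (algebraMap A K)) V),
      letI : Algebra A V :=
        (RingHom.codRestrict ((algebraMap K L).comp (algebraMap A K)) V hV.1).toAlgebra
      Ideal.ramificationIdx' (maximalIdeal A) (maximalIdeal V) ∣ e₀ := by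
    intro V hV
    set gL := (algebraMap K L).comp (algebraMap A K) with hgL
    letI algAV : Algebra A V := (RingHom.codRestrict gL V hV.1).toAlgebra
    haveI : IsLocalHom (algebraMap A V) := dom_isLocalHom hV
    haveI : IsDiscreteValuationRing V :=
      isDVR_of_dominates (A := A) (K := K) (g := gL) (fun a => rfl) hV
    have hgLinj : Function.Injective gL :=
      (algebraMap K L).injective.comp (IsFractionRing.injective A K)
    have hinjAV : Function.Injective (algebraMap A V) := codRestrict_injective hgLinj hV.1
    haveI : IsScalarTower A V L := IsScalarTower.of_algebraMap_eq (fun a => by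
      show algebraMap A L a = gL a
      rw [IsScalarTower.algebraMap_apply A K L]; rfl)
    obtain ⟨hfin, hle⟩ := Groth.Agent.S7132.result A V K L hinjAV
    have hfpos : 0 < Module.finrank (ResidueField A) (ResidueField V) := Module.finrank_pos
    have hepos := ramificationIdx_pos A V hinjAV
    obtain ⟨hsepV, hpV⟩ := hLtame V hV
    set eV := Ideal.ramificationIdx' (maximalIdeal A) (maximalIdeal V) with heV
    have hek : (eV : ResidueField A) ≠ 0 := by
      intro h0
      obtain ⟨p, hp⟩ := CharP.exists (ResidueField A)
      have hdvd : p ∣ eV := (CharP.cast_eq_zero_iff (ResidueField A) p eV).1 h0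
      rcases CharP.char_is_prime_or_zero (ResidueField A) p with hpp | hp0
      · exact hpV p hpp hp hdvd
      · rw [hp0, zero_dvd_iff] at hdvd
        omega
    apply Finset.dvd_prod_of_mem
    rw [Finset.mem_filter, Finset.mem_Icc]
    refine ⟨⟨hepos, ?_⟩, hek⟩
    calc eV ≤ eV * Module.finrank (ResidueField A) (ResidueField V) :=
          Nat.le_mul_of_pos_right _ hfpos
      _ ≤ n := hle
  refine ⟨e₀, he₀pos, he₀k, fun d hd hdk => ?_⟩
  have he : 1 ≤ d * e₀ := Nat.mul_pos hd he₀pos
  have hek : ((d * e₀ : ℕ) : ResidueField A) ≠ 0 := by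
    rw [Nat.cast_mul]; exact mul_ne_zero hdk he₀k
  exact exists_unramified_over_root hπirr he hek L hLtame
    (fun V hV => Dvd.dvd.mul_left (hdiv₀ V hV) d)

end Aux

open Polynomial IsLocalRing in
/-- Let `K` be the fraction field of a discrete valuation ring `A`, let `π` be a uniformizer of `A`, and
let `L` be a finite separable extension of `K` which is tamely ramified with respect to `A`. Then
there is `e₀ ≥ 1` invertible in the residue field of `A` such that for each `d ≥ 1` that is also
invertible in the residue field, setting `e = d e₀` and `A' = A[z]/(z^e - π)`, there is a finite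
separable extension `L'` of `K` into which `L` embeds over `K`, carrying an `A'`-algebra structure
extending `A → K → L'`, such that `L'` is unramified with respect to `A'`. (The local-ring instance
on `A'`, which holds, is quantified as a hypothesis.) -/
theorem result
    {A K L : Type u} [CommRing A] [IsDomain A]
    [IsDiscreteValuationRing A] [Field K] [Algebra A K] [IsFractionRing A K] [Field L] [Algebra K L]
    [Algebra A L] [IsScalarTower A K L] [FiniteDimensional K L] [Algebra.IsSeparable K L]
    (π : A) (hπ : maximalIdeal A = Ideal.span {π}) (h : EtRam.IsTamelyRamified A (algebraMap A L)) :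
    ∃ e₀ : ℕ, 0 < e₀ ∧ (e₀ : ResidueField A) ≠ 0 ∧
      ∀ d : ℕ, 0 < d → (d : ResidueField A) ≠ 0 →
        ∃ (L' : Type u) (_ : Field L') (_ : Algebra K L')
          (_ : Algebra (AdjoinRoot (X ^ (d * e₀) - C π : A[X])) L') (_ : L →ₐ[K] L'),
          FiniteDimensional K L' ∧ Algebra.IsSeparable K L' ∧
          (algebraMap (AdjoinRoot (X ^ (d * e₀) - C π : A[X])) L').comp (AdjoinRoot.of (X ^ (d * e₀) - C π)) =
            (algebraMap K L').comp (algebraMap A K) ∧
          ∀ [IsLocalRing (AdjoinRoot (X ^ (d * e₀) - C π : A[X]))],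
            EtRam.IsUnramifiedExt (AdjoinRoot (X ^ (d * e₀) - C π : A[X]))
              (algebraMap (AdjoinRoot (X ^ (d * e₀) - C π : A[X])) L') := by
  exact Aux.main π hπ h

end Groth.Agent.S9329
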