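import Groth.Statements.S9328
import Mathlib
import Groth.Prelude.Def_EtRam
import Groth.Agent.Lib.Helper9.EtRam.Dom19
import Groth.Agent.S9329
-- import your own Groth.Agent.* helpers here

set_option autoImplicit false
universe u
open EtRam

namespace Groth.Agent.S9328

namespace Aux
open Polynomial IsLocalRing EtRam Groth.Agent.Helper9.EtRamLib

theorem main {A K L : Type u} [CommRing A] [IsDomain A]
    [IsDiscreteValuationRing A] [Field K] [Algebra A K] [IsFractionRing A K] [Field L] [Algebra K L]
    [Algebra A L] [IsScalarTower A K L] [FiniteDimensional K L] [Algebra.IsSeparable K L]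
    (π : A) (hπ : maximalIdeal A = Ideal.span {π}) :
    EtRam.IsTamelyRamified A (algebraMap A L) ↔
      ∃ e : ℕ, 0 < e ∧ (e : ResidueField A) ≠ 0 ∧
        ∃ (L' : Type u) (_ : Field L') (_ : Algebra K L')
          (_ : Algebra (AdjoinRoot (X ^ e - C π : A[X])) L') (_ : L →ₐ[K] L'),
          FiniteDimensional K L' ∧ Algebra.IsSeparable K L' ∧
          (algebraMap (AdjoinRoot (X ^ e - C π : A[X])) L').comp (AdjoinRoot.of (X ^ e - C π)) =
            (algebraMap K L').comp (algebraMap A K) ∧
          ∀ [IsLocalRing (AdjoinRoot (X ^ e - C π : A[X]))],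
            EtRam.IsUnramifiedExt (AdjoinRoot (X ^ e - C π : A[X]))
              (algebraMap (AdjoinRoot (X ^ e - C π : A[X])) L') := by
  have hπirr : Irreducible π := (IsDiscreteValuationRing.irreducible_iff_uniformizer π).2 hπ
  constructor
  · intro h
    obtain ⟨e₀, hpos, hk, H⟩ := Groth.Agent.S9329.result (K := K) (L := L) π hπ h
    obtain ⟨L', i1, i2, i3, j, hfd, hsep, hcompat, hunr⟩ := H 1 one_pos (by
      rw [Nat.cast_one]; exact one_ne_zero)
    exact ⟨1 * e₀, by omega, by rw [one_mul]; exact hk, L', i1, i2, i3, j, hfd, hsep, hcompat, hunr⟩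
  · rintro ⟨e, he, hek, L', i1, i2, i3, j, hfd, hsep, hcompat, hunr⟩
    have hL'tame := tame_of_unramified_over_root hπirr he hek L' hcompat hunr
    have := (unram_of_algHom A j).1 hL'tame
    rw [IsScalarTower.algebraMap_eq A K L]
    exact this

end Aux

open Polynomial IsLocalRing in
/-- Let `K` be the fraction field of a discrete valuation ring `A`, let `π` be a uniformizer of `A`, and
let `L` be a finite separable extension of `K`. For `e ≥ 1` write `A' = A[z]/(z^e - π)`, a discrete
valuation ring whose fraction field is `K' = K[π^{1/e}]`. Then `L` is tamely ramified with respect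
to `A` if and only if there exist `e ≥ 1` invertible in the residue field of `A` and a finite
separable extension `L'` of `K` into which `L` embeds over `K`, carrying an `A'`-algebra structure
extending `A → K → L'` (so `K' ⊆ L'`), such that `L'` is unramified with respect to `A'`. (The
local-ring instance on `A'`, which holds, is quantified as a hypothesis.) -/
theorem result {A K L : Type u} [CommRing A] [IsDomain A]
    [IsDiscreteValuationRing A] [Field K] [Algebra A K] [IsFractionRing A K] [Field L] [Algebra K L]
    [Algebra A L] [IsScalarTower A K L] [FiniteDimensional K L] [Algebra.IsSeparable K L]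
    (π : A) (hπ : maximalIdeal A = Ideal.span {π}) :
    EtRam.IsTamelyRamified A (algebraMap A L) ↔
      ∃ e : ℕ, 0 < e ∧ (e : ResidueField A) ≠ 0 ∧
        ∃ (L' : Type u) (_ : Field L') (_ : Algebra K L')
          (_ : Algebra (AdjoinRoot (X ^ e - C π : A[X])) L') (_ : L →ₐ[K] L'),
          FiniteDimensional K L' ∧ Algebra.IsSeparable K L' ∧
          (algebraMap (AdjoinRoot (X ^ e - C π : A[X])) L').comp (AdjoinRoot.of (X ^ e - C π)) =
            (algebraMap K L').comp (algebraMap A K) ∧
          ∀ [IsLocalRing (AdjoinRoot (X ^ e - C π : A[X]))],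
            EtRam.IsUnramifiedExt (AdjoinRoot (X ^ e - C π : A[X]))
              (algebraMap (AdjoinRoot (X ^ e - C π : A[X])) L') := by
  exact Aux.main π hπ

end Groth.Agent.S9328
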