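import Groth.Statements.S9331
import Mathlib

set_option autoImplicit false
universe u
open QFin

namespace Groth.Agent.S9331

open AlgebraicGeometry CategoryTheory in
/-- Let f : X → S be a morphism of schemes, x ∈ X, s = f x. If κ(x) is algebraic over κ(s) (through the
residue field map of f at x), then x is a closed point of the fibre X_s, and if in addition s is
closed in S then x is closed in X. -/
theorem result {X S : Scheme.{u}} (f : X ⟶ S) (x : X)
    (halg : @Algebra.IsAlgebraic (S.residueField (f.base x)) (X.residueField x) _ _ (f.residueFieldMap x).hom.toAlgebra) :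
    IsClosed ({f.asFiber x} : Set ↑(f.fiber (f.base x))) ∧
      (IsClosed ({f.base x} : Set ↑S) → IsClosed ({x} : Set ↑X)) := by
  have hint : IsIntegralHom (Spec.map (f.residueFieldMap x)) := by
    rw [IsIntegralHom.SpecMap_iff]
    let := (f.residueFieldMap x).hom.toAlgebra
    have h1 : Algebra.IsIntegral (S.residueField (f.base x)) (X.residueField x) :=
      Algebra.IsAlgebraic.isIntegral
    exact algebraMap_isIntegral_iff.mpr h1
  have key : IsClosed ({f.asFiber x} : Set ↑(f.fiber (f.base x))) := by
    rw [← closure_subset_iff_isClosed]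
    intro y hy
    rw [← specializes_iff_mem_closure] at hy
    obtain ⟨_, ⟨W', hW' : IsAffineOpen W', rfl⟩, hyW', -⟩ :=
      ((f.fiber (f.base x)).isBasis_affineOpens).exists_subset_of_mem_open (Set.mem_univ y)
        isOpen_univ
    obtain ⟨W, hW, hyW⟩ : ∃ W : (f.fiber (f.base x)).Opens, IsAffineOpen W ∧ y ∈ W :=
      ⟨W', hW', hyW'⟩
    have hzW : f.asFiber x ∈ W := hy.mem_open W.2 hyW
    have hrange : Set.range (f.asFiberHom x) ⊆ Set.range W.ι := by
      rw [f.range_asFiberHom, Scheme.Opens.range_ι]
      simpa using hzW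
    let ℓ := IsOpenImmersion.lift W.ι (f.asFiberHom x) hrange
    have hℓ : ℓ ≫ W.ι = f.asFiberHom x := IsOpenImmersion.lift_fac _ _ _
    have : IsAffine W := hW
    have h2 : IsIntegralHom (ℓ ≫ (W.ι ≫ f.fiberToSpecResidueField (f.base x))) := by
      rw [← Category.assoc, hℓ, f.asFiberHom_fiberToSpecResidueField]
      exact hint
    have hℓint : IsIntegralHom ℓ :=
      IsIntegralHom.of_comp ℓ (W.ι ≫ f.fiberToSpecResidueField (f.base x))
    have hcl : IsClosed (Set.range ℓ) := ℓ.isClosedMap.isClosed_range
    obtain ⟨y₀, hy₀⟩ : ∃ y₀ : (W : Scheme.{u}), W.ι y₀ = y := by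
      have : y ∈ Set.range W.ι := by rw [Scheme.Opens.range_ι]; exact hyW
      exact this
    let pt : Spec (X.residueField x) := IsLocalRing.closedPoint (X.residueField x)
    have hz₀ : W.ι (ℓ pt) = f.asFiber x := by
      rw [← Scheme.Hom.comp_apply, hℓ, f.asFiberHom_apply]
    have hspec : ℓ pt ⤳ y₀ := by
      refine (W.ι.isOpenEmbedding.isInducing.specializes_iff).mp ?_
      rw [hz₀, hy₀]
      exact hy
    obtain ⟨q, hq⟩ := hspec.mem_closed hcl ⟨pt, rfl⟩
    rw [Set.mem_singleton_iff, ← hy₀, ← hq, ← Scheme.Hom.comp_apply, hℓ, f.asFiberHom_apply]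
  refine ⟨key, fun hs => ?_⟩
  have hemb : Topology.IsClosedEmbedding (f.fiberι (f.base x)) := by
    refine ⟨(f.fiberι (f.base x)).isEmbedding, ?_⟩
    rw [Scheme.Hom.range_fiberι]
    exact hs.preimage f.continuous
  have := hemb.isClosedMap _ key
  rw [Set.image_singleton, Scheme.Hom.fiberι_asFiber] at this
  exact this

end Groth.Agent.S9331
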