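import Groth.Statements.S9335
import Mathlib

set_option autoImplicit false
universe u
open QFin

namespace Groth.Agent.S9335

open AlgebraicGeometry CategoryTheory in
set_option backward.isDefEq.respectTransparency.types false in
theorem lft_fiber {X S : Scheme.{u}} (f : X ⟶ S) [LocallyOfFiniteType f] (s : S) :
    LocallyOfFiniteType (f.fiberToSpecResidueField s) :=
  MorphismProperty.pullback_snd _ _ inferInstance

open AlgebraicGeometry CategoryTheory in
/-- If f : X → S is of finite type and s ∈ S, then f is quasi-finite at only finitely many points of the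
fibre over s. -/
theorem result {X S : Scheme.{u}} (f : X ⟶ S) [LocallyOfFiniteType f] [QuasiCompact f] (s : S) :
    {x : ↑X | f.base x = s ∧ f.QuasiFiniteAt x}.Finite := by
  have h1 : LocallyOfFiniteType (f.fiberToSpecResidueField s) := lft_fiber f s
  have h2 : IsLocallyNoetherian (f.fiber s) :=
    LocallyOfFiniteType.isLocallyNoetherian (f.fiberToSpecResidueField s)
  have h3 : IsNoetherian (f.fiber s) := { }
  have hN : TopologicalSpace.NoetherianSpace (f.fiber s) := inferInstance
  let U : Set (f.fiber s) := {z | IsOpen ({z} : Set (f.fiber s))}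
  have hUfin : U.Finite := by
    have hUc : IsCompact U := TopologicalSpace.NoetherianSpace.isCompact U
    have hd : _root_.IsDiscrete U := by
      rw [isDiscrete_iff_forall_mem_exists_isOpen]
      intro y hy
      refine ⟨{y}, hy, ?_⟩
      ext z
      simp only [Set.mem_inter_iff, Set.mem_singleton_iff]
      constructor
      · exact fun h => h.1
      · rintro rfl
        exact ⟨rfl, hy⟩
    exact hUc.finite hd
  refine (hUfin.image (f.fiberι s)).subset ?_
  rintro x ⟨rfl, hq⟩
  refine ⟨f.asFiber x, ?_, f.fiberι_asFiber x⟩
  exact Scheme.Hom.quasiFiniteAt_iff_isOpen_singleton_asFiber.mp hq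

end Groth.Agent.S9335
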