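import Groth.Statements.S9332
import Mathlib
import Groth.Agent.S9335

set_option autoImplicit false
universe u
open QFin

namespace Groth.Agent.S9332

open AlgebraicGeometry CategoryTheory in
/-- Let f : X → S be locally of finite type and x ∈ X. Then x is closed in its fibre X_{f x} if and only
if κ(x) is a finite extension of κ(f x) (via the residue field map of f at x). -/
theorem result {X S : Scheme.{u}} (f : X ⟶ S) [LocallyOfFiniteType f] (x : X) :
    IsClosed ({f.asFiber x} : Set ↑(f.fiber (f.base x))) ↔ (f.residueFieldMap x).hom.Finite := by
  have hg : f.asFiberHom x ≫ f.fiberToSpecResidueField _ = Spec.map (f.residueFieldMap x) :=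
    f.asFiberHom_fiberToSpecResidueField x
  have hrange : Set.range (f.asFiberHom x) = {f.asFiber x} := f.range_asFiberHom x
  have hlft : LocallyOfFiniteType (f.fiberToSpecResidueField (f.base x)) :=
    Groth.Agent.S9335.lft_fiber f (f.base x)
  rw [← IsFinite.SpecMap_iff, ← hg]
  constructor
  · intro hc
    have h1 : IsClosedImmersion (f.asFiberHom x) :=
      IsClosedImmersion.of_isPreimmersion _ (hrange ▸ hc)
    exact isFinite_iff_locallyOfFiniteType_of_jacobsonSpace.mpr inferInstance
  · intro hfin
    have h1 : LocallyOfFiniteType (f.asFiberHom x ≫ f.fiberToSpecResidueField (f.base x)) :=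
      inferInstance
    have h2 : LocallyOfFiniteType (f.asFiberHom x) :=
      locallyOfFiniteType_of_comp (f.asFiberHom x) (f.fiberToSpecResidueField (f.base x))
    have h3 := (f.asFiberHom x).closePoints_subset_preimage_closedPoints
      (IsLocalRing.isClosed_singleton_closedPoint (X.residueField x))
    have h4 : IsClosed ({(f.asFiberHom x) (IsLocalRing.closedPoint (X.residueField x))} :
        Set ↑(f.fiber (f.base x))) := h3
    have h5 := f.asFiberHom_apply x (IsLocalRing.closedPoint (X.residueField x))
    rw [← h5]
    exact h4

end Groth.Agent.S9332
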