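import Groth.Statements.S9333
import Mathlib
import Groth.Agent.S9335

set_option autoImplicit false
universe u
open QFin

namespace Groth.Agent.S9333

open AlgebraicGeometry CategoryTheory CategoryTheory.Limits

/-- closedness of a point of the fibre in terms of specializations in `X` -/
theorem isClosed_fiber_point_iff {X S : Scheme.{u}} (f : X ⟶ S) (s : S) (x : X) (hxs : f x = s) :
    IsClosed ({(f.fiberHomeo s).symm ⟨x, hxs⟩} : Set (f.fiber s)) ↔
      ∀ y : X, x ⤳ y → f y = s → y = x := by
  have h0 : IsClosed ({(f.fiberHomeo s).symm ⟨x, hxs⟩} : Set (f.fiber s)) ↔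
      IsClosed ({⟨x, hxs⟩} : Set (f ⁻¹' {s})) := by
    rw [← (f.fiberHomeo s).isClosed_image, Set.image_singleton, Homeomorph.apply_symm_apply]
  rw [h0]
  constructor
  · intro hc y hxy hys
    have h1 : (⟨x, hxs⟩ : f ⁻¹' {s}) ⤳ ⟨y, hys⟩ := by
      rw [subtype_specializes_iff]
      exact hxy
    have h2 := h1.mem_closed hc (Set.mem_singleton _)
    exact congrArg Subtype.val h2
  · intro h
    rw [← closure_subset_iff_isClosed]
    rintro ⟨y, hys⟩ hy
    rw [← specializes_iff_mem_closure, subtype_specializes_iff] at hy
    exact Subtype.ext (h y hy hys)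

open AlgebraicGeometry CategoryTheory in
/-- Let f : X → S be locally of finite type, g : S' → S any morphism and X' = X ×_S S' with projections
g' : X' → X and f' : X' → S'. If x' ∈ X' maps to x ∈ X and x is closed in the fibre X_{f x}, then x'
is closed in the fibre X'_{f' x'}. -/
theorem result {X S X' S' : Scheme.{u}} (f : X ⟶ S) [LocallyOfFiniteType f] (g : S' ⟶ S)
    (g' : X' ⟶ X) (f' : X' ⟶ S') (hsq : IsPullback g' f' f g) (x' : X')
    (hx : IsClosed ({f.asFiber (g'.base x')} : Set ↑(f.fiber (f.base (g'.base x'))))) :
    IsClosed ({f'.asFiber x'} : Set ↑(f'.fiber (f'.base x'))) := by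
  have hw : f.base (g'.base x') = g.base (f'.base x') := by
    have := congrArg (fun φ : X' ⟶ S => φ.base x') hsq.w
    simpa using this
  set s' := f'.base x' with hs'
  -- reformulate the hypothesis
  have hx1 : ∀ y : X, g'.base x' ⤳ y → f.base y = f.base (g'.base x') → y = g'.base x' :=
    (isClosed_fiber_point_iff f (f.base (g'.base x')) (g'.base x') rfl).mp hx
  set z : f.fiber (g.base s') := (f.fiberHomeo (g.base s')).symm ⟨g'.base x', hw⟩ with hz
  have hzc : IsClosed ({z} : Set (f.fiber (g.base s'))) := by
    rw [isClosed_fiber_point_iff]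
    intro y hy hys
    exact hx1 y hy (hys.trans hw.symm)
  -- the fibre square
  have P := isPullback_fiberToSpecResidueField_of_isPullback hsq s'
  set h : f'.fiber s' ⟶ f.fiber (g.base s') :=
    pullback.map _ _ _ _ g' (Spec.map (g.residueFieldMap s')) g hsq.w.symm (by simp) with hh
  set z' := f'.asFiber x' with hz'
  have hhz : h.base z' = z := by
    apply (f.fiberι (g.base s')).isEmbedding.injective
    have h1 : h ≫ f.fiberι (g.base s') = f'.fiberι s' ≫ g' := by
      simp only [hh, Scheme.Hom.fiberι, pullback.map]
      exact pullback.lift_fst _ _ _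
    have h2 := congrArg (fun φ : f'.fiber s' ⟶ X => φ.base z') h1
    simp only [Scheme.Hom.comp_base, TopCat.hom_comp, ContinuousMap.comp_apply] at h2
    rw [h2, hz, Scheme.Hom.fiberι_fiberHomeo_symm]
    change g'.base ((f'.fiberι (f'.base x')).base (f'.asFiber x')) = g'.base x'
    rw [Scheme.Hom.fiberι_asFiber]
  -- the residue field of z is finite over κ(g s')
  have hlft : LocallyOfFiniteType (f.fiberToSpecResidueField (g.base s')) :=
    Groth.Agent.S9335.lft_fiber f (g.base s')
  let i := (f.fiber (g.base s')).fromSpecResidueField z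
  have hi : IsClosedImmersion i := isClosed_singleton_iff_isClosedImmersion.mp hzc
  have hfin : IsFinite (i ≫ f.fiberToSpecResidueField (g.base s')) :=
    isFinite_iff_locallyOfFiniteType_of_jacobsonSpace.mpr inferInstance
  -- the pullback T
  have sq1 : IsPullback (pullback.snd i h) (pullback.fst i h) h i :=
    (IsPullback.of_hasPullback i h).flip
  have sq2 := sq1.paste_horiz P.flip
  have hfin2 : IsFinite (pullback.snd i h ≫ f'.fiberToSpecResidueField s') :=
    MorphismProperty.of_isPullback (P := @IsFinite) sq2.flip hfin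
  have hLA : IsLocallyArtinian (pullback i h) :=
    IsLocallyArtinian.of_locallyQuasiFinite (pullback.snd i h ≫ f'.fiberToSpecResidueField s')
  have hdisc : DiscreteTopology ↥(pullback i h : Scheme.{u}) := inferInstance
  have hcl : IsClosedImmersion (pullback.snd i h) := inferInstance
  have hrange : z' ∈ Set.range (pullback.snd i h) := by
    rw [Scheme.Pullback.range_snd, Set.mem_preimage, hhz, Scheme.range_fromSpecResidueField]
    rfl
  obtain ⟨t, ht⟩ := hrange
  have h3 : IsClosed ((pullback.snd i h) '' {t}) :=
    (pullback.snd i h).isClosedEmbedding.isClosedMap _ (isClosed_discrete _)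
  rw [Set.image_singleton, ht] at h3
  exact h3

end Groth.Agent.S9333
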