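import Groth.Statements.S9334
import Mathlib
import Groth.Agent.S9335

set_option autoImplicit false
universe u
open QFin

namespace Groth.Agent.S9334

theorem isOpen_singleton_of_noeth {W : Type*} [TopologicalSpace W]
    [TopologicalSpace.NoetherianSpace W] [QuasiSober W] (z : W) (hc : IsClosed ({z} : Set W))
    (hg : ∀ z' : W, z' ⤳ z → z' = z) : IsOpen ({z} : Set W) := by
  obtain ⟨S, hSf, hSc, hSi, hSU⟩ :=
    TopologicalSpace.NoetherianSpace.exists_finite_set_isClosed_irreducible (isClosed_univ (X := W))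
  have key : ({z} : Set W)ᶜ = ⋃₀ {t ∈ S | z ∉ t} := by
    ext y
    simp only [Set.mem_compl_iff, Set.mem_singleton_iff, Set.mem_sUnion, Set.mem_ofPred_eq]
    constructor
    · intro hy
      have hyU : y ∈ ⋃₀ S := hSU ▸ Set.mem_univ y
      obtain ⟨t, htS, hyt⟩ := hyU
      refine ⟨t, ⟨htS, ?_⟩, hyt⟩
      intro hzt
      obtain ⟨η, hη⟩ := QuasiSober.sober (hSi t htS) (hSc t htS)
      have h1 : η ⤳ z := by
        rw [specializes_iff_mem_closure, hη.def]
        exact hzt
      have h2 := hg η h1
      subst h2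
      have ht : t = {η} := by rw [← hη.def, hc.closure_eq]
      rw [ht] at hyt
      exact hy hyt
    · rintro ⟨t, ⟨htS, hzt⟩, hyt⟩ rfl
      exact hzt hyt
  rw [← isClosed_compl_iff, key]
  rw [Set.sUnion_eq_biUnion]
  exact Set.Finite.isClosed_biUnion (hSf.subset (fun t ht => ht.1)) (fun t ht => hSc t ht.1)

open AlgebraicGeometry in
theorem isOpen_singleton_of_locNoeth (Z : Scheme.{u}) [IsLocallyNoetherian Z] (z : Z)
    (hc : IsClosed ({z} : Set Z)) (hg : ∀ z' : Z, z' ⤳ z → z' = z) : IsOpen ({z} : Set Z) := by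
  obtain ⟨_, ⟨W', hW' : IsAffineOpen W', rfl⟩, hzW', -⟩ :=
    (Z.isBasis_affineOpens).exists_subset_of_mem_open (Set.mem_univ z) isOpen_univ
  obtain ⟨W, hW, hzW⟩ : ∃ W : Z.Opens, IsAffineOpen W ∧ z ∈ W := ⟨W', hW', hzW'⟩
  have hN : IsNoetherianRing Γ(Z, W) := IsLocallyNoetherian.component_noetherian ⟨W, hW⟩
  have hNS : TopologicalSpace.NoetherianSpace (W : Scheme.{u}) := noetherianSpace_of_isAffineOpen W hW
  have hinj : Function.Injective W.ι := W.ι.isOpenEmbedding.injective
  obtain ⟨z₀, hz₀⟩ : ∃ z₀ : (W : Scheme.{u}), W.ι z₀ = z := by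
    have : z ∈ Set.range W.ι := by rw [Scheme.Opens.range_ι]; exact hzW
    exact this
  have h1 : IsOpen ({z₀} : Set (W : Scheme.{u})) := by
    apply isOpen_singleton_of_noeth
    · have : ({z₀} : Set (W : Scheme.{u})) = W.ι ⁻¹' ({z} : Set Z) := by
        ext b
        simp only [Set.mem_singleton_iff, Set.mem_preimage]
        constructor
        · rintro rfl; exact hz₀
        · intro h; exact hinj (h.trans hz₀.symm)
      rw [this]
      exact hc.preimage W.ι.continuous
    · intro z' hz'
      have h3 : W.ι z' ⤳ W.ι z₀ := hz'.map W.ι.continuous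
      rw [hz₀] at h3
      exact hinj ((hg _ h3).trans hz₀.symm)
  have h2 := W.ι.isOpenEmbedding.isOpenMap _ h1
  rw [Set.image_singleton, hz₀] at h2
  exact h2

open AlgebraicGeometry CategoryTheory in
/-- Let f : X → S be locally of finite type, x ∈ X, and write s = f x. The morphism f is quasi-finite at
x exactly when x is a closed point of the fibre X_s and no point x' ≠ x of X_s specializes to x. -/
theorem result {X S : Scheme.{u}} (f : X ⟶ S) [LocallyOfFiniteType f] (x : X) :
    f.QuasiFiniteAt x ↔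
      (IsClosed ({f.asFiber x} : Set ↑(f.fiber (f.base x))) ∧
        ∀ x' : ↑(f.fiber (f.base x)), x' ⤳ f.asFiber x → x' = f.asFiber x) := by
  constructor
  · intro hq
    have hco := hq.isClopen_singleton_asFiber
    refine ⟨hco.1, fun x' hx' => ?_⟩
    exact hx'.mem_open hco.2 (Set.mem_singleton _)
  · rintro ⟨hc, hg⟩
    have h1 : LocallyOfFiniteType (f.fiberToSpecResidueField (f.base x)) :=
      Groth.Agent.S9335.lft_fiber f (f.base x)
    have h2 : IsLocallyNoetherian (f.fiber (f.base x)) :=
      LocallyOfFiniteType.isLocallyNoetherian (f.fiberToSpecResidueField (f.base x))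
    exact Scheme.Hom.quasiFiniteAt_iff_isOpen_singleton_asFiber.mpr
      (isOpen_singleton_of_locNoeth _ _ hc hg)

end Groth.Agent.S9334
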