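import Groth.Statements.S9336
import Mathlib
import Groth.Agent.S9332
import Groth.Agent.S9333
import Groth.Agent.S9334

set_option autoImplicit false
universe u
open QFin

namespace Groth.Agent.S9336

open AlgebraicGeometry CategoryTheory

/-- if a composite of field maps is finite, so is the first one -/
theorem finite_of_comp_finite {K L M : Type*} [Field K] [Field L] [Field M] (φ₁ : K →+* L)
    (φ₂ : L →+* M) (h : (φ₂.comp φ₁).Finite) : φ₁.Finite := by
  let := φ₁.toAlgebra
  let := (φ₂.comp φ₁).toAlgebra
  have hM : Module.Finite K M := h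
  let ψ : L →ₗ[K] M :=
    { toFun := φ₂
      map_add' := map_add φ₂
      map_smul' := by
        intro k l
        simp only [Algebra.smul_def, RingHom.algebraMap_toAlgebra, map_mul, RingHom.id_apply,
          RingHom.comp_apply] }
  have : IsNoetherian K M := inferInstance
  exact Module.Finite.of_injective ψ φ₂.injective

/-- every point of `Y` is closed in its fibre -/
theorem closed_in_fibre {X Y S : Scheme.{u}} (f : X ⟶ Y) (g : Y ⟶ S) [Surjective f]
    [LocallyQuasiFinite (f ≫ g)] [LocallyOfFiniteType (f ≫ g)] [LocallyOfFiniteType g] (y : Y) :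
    IsClosed ({g.asFiber y} : Set ↑(g.fiber (g.base y))) := by
  obtain ⟨x, rfl⟩ := f.surjective y
  rw [Groth.Agent.S9332.result]
  have hq : (f ≫ g).QuasiFiniteAt x := (f ≫ g).quasiFiniteAt x
  have hc : IsClosed ({(f ≫ g).asFiber x} : Set ↑((f ≫ g).fiber ((f ≫ g).base x))) :=
    hq.isClopen_singleton_asFiber.1
  rw [Groth.Agent.S9332.result] at hc
  rw [Scheme.residueFieldMap_comp] at hc
  have hc' : ((f.residueFieldMap x).hom.comp (g.residueFieldMap (f.base x)).hom).Finite := hc
  exact finite_of_comp_finite _ _ hc'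

open AlgebraicGeometry CategoryTheory in
/-- Let f : X → Y be surjective and g : Y → S locally of finite type. If g ∘ f is locally quasi-finite
(and locally of finite type), then g is locally quasi-finite. -/
theorem result {X Y S : Scheme.{u}} (f : X ⟶ Y) (g : Y ⟶ S) [Surjective f]
    [LocallyQuasiFinite (f ≫ g)] [LocallyOfFiniteType (f ≫ g)] [LocallyOfFiniteType g] :
    LocallyQuasiFinite g := by
  -- no specializations inside fibres
  have hA : ∀ y w : Y, y ⤳ w → g.base w = g.base y → w = y := by
    intro y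
    exact (Groth.Agent.S9333.isClosed_fiber_point_iff g (g.base y) y rfl).mp (closed_in_fibre f g y)
  have hQ : ∀ y : Y, g.QuasiFiniteAt y := by
    intro y
    rw [Groth.Agent.S9334.result]
    refine ⟨closed_in_fibre f g y, fun z' hz' => ?_⟩
    have h1 : (g.fiberι (g.base y)).base z' ⤳ (g.fiberι (g.base y)).base (g.asFiber y) :=
      hz'.map (g.fiberι (g.base y)).continuous
    rw [Scheme.Hom.fiberι_asFiber] at h1
    have h2 : g.base ((g.fiberι (g.base y)).base z') = g.base y := by
      have : (g.fiberι (g.base y)).base z' ∈ Set.range (g.fiberι (g.base y)) := ⟨z', rfl⟩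
      rw [Scheme.Hom.range_fiberι] at this
      exact this
    have h3 := hA _ _ h1 h2.symm
    apply (g.fiberι (g.base y)).isEmbedding.injective
    rw [Scheme.Hom.fiberι_asFiber]
    exact h3.symm
  rw [locallyQuasiFinite_iff_isDiscrete_preimage_singleton]
  intro s
  rw [isDiscrete_iff_forall_mem_exists_isOpen]
  rintro y rfl
  have ho := Scheme.Hom.quasiFiniteAt_iff_isOpen_singleton_asFiber.mp (hQ y)
  rw [← (g.fiberHomeo (g.base y)).isOpen_image] at ho
  simp only [Set.image_singleton, Scheme.Hom.asFiber, Homeomorph.apply_symm_apply] at ho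
  rw [isOpen_induced_iff] at ho
  obtain ⟨u, hu, hu2⟩ := ho
  refine ⟨u, hu, ?_⟩
  ext w
  constructor
  · rintro ⟨hwu, hws⟩
    have : (⟨w, hws⟩ : g ⁻¹' {g.base y}) ∈ Subtype.val ⁻¹' u := hwu
    rw [hu2] at this
    exact congrArg Subtype.val this
  · rintro rfl
    have : (⟨w, rfl⟩ : g ⁻¹' {g.base w}) ∈ Subtype.val ⁻¹' u := by rw [hu2]; rfl
    exact ⟨this, rfl⟩

end Groth.Agent.S9336
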