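import Groth.Statements.S9338
import Groth.Agent.Lib.Helper6.ArtinFT

set_option autoImplicit false
universe u
open FtPts

namespace Groth.Agent.S9338

open AlgebraicGeometry CategoryTheory in
/-- For an Artinian local ring A with residue field κ, a morphism f : Spec A → S is (locally) of finite
type exactly when the composite Spec κ → Spec A → S is. -/
theorem result (S : Scheme.{u}) (A : Type u) [CommRing A] [IsArtinianRing A] [IsLocalRing A]
    (f : Spec (CommRingCat.of A) ⟶ S) :
    LocallyOfFiniteType f ↔
      LocallyOfFiniteType (Spec.map (CommRingCat.ofHom (IsLocalRing.residue A)) ≫ f) := by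
  classical
  have hjsurj : Function.Surjective (CommRingCat.ofHom (IsLocalRing.residue A)).hom :=
    IsLocalRing.residue_surjective
  have hj : IsClosedImmersion (Spec.map (CommRingCat.ofHom (IsLocalRing.residue A))) :=
    IsClosedImmersion.spec_of_surjective _ hjsurj
  constructor
  · intro h
    infer_instance
  · intro h
    set j := Spec.map (CommRingCat.ofHom (IsLocalRing.residue A)) with hjdef
    rw [HasRingHomProperty.iff_appLE (P := @LocallyOfFiniteType)]
    intro U V e
    -- Spec A has a single point
    have hsub : ∀ x : ↥(Spec (CommRingCat.of A)), x = IsLocalRing.closedPoint A := by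
      intro x
      apply PrimeSpectrum.ext
      have hpr : x.asIdeal.IsPrime := x.2
      have hmax : x.asIdeal.IsMaximal := IsArtinianRing.isMaximal_of_isPrime x.asIdeal
      exact IsLocalRing.eq_maximalIdeal hmax
    by_cases hV : IsLocalRing.closedPoint A ∈ (V : (Spec (CommRingCat.of A)).Opens)
    · have hVtop : (V : (Spec (CommRingCat.of A)).Opens) = ⊤ := by
        rw [eq_top_iff]
        intro x _
        rw [hsub x]
        exact hV
      obtain ⟨V, hVaff⟩ := V
      simp only at hVtop hV e ⊢
      subst hVtop
      -- now the main case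
      have he' : (⊤ : (Spec (CommRingCat.of (IsLocalRing.ResidueField A))).Opens) ≤
          j ⁻¹ᵁ (⊤ : (Spec (CommRingCat.of A)).Opens) := le_top
      have hcomp := Scheme.Hom.appLE_comp_appLE j f U ⊤ ⊤ e he'
      have hft : ((j ≫ f).appLE U ⊤ (he'.trans ((TopologicalSpace.Opens.map j.base).map
          (homOfLE e)).le)).hom.FiniteType :=
        HasRingHomProperty.appLE @LocallyOfFiniteType (j ≫ f) h U ⟨⊤, isAffineOpen_top _⟩ _
      rw [← hcomp] at hft
      -- transport structures
      let eA : A ≃+* Γ(Spec (CommRingCat.of A), ⊤) :=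
        (Scheme.ΓSpecIso (CommRingCat.of A)).commRingCatIsoToRingEquiv.symm
      have : IsArtinianRing Γ(Spec (CommRingCat.of A), ⊤) :=
        Function.Surjective.isArtinianRing (f := eA.toRingHom) eA.surjective
      have : IsLocalRing Γ(Spec (CommRingCat.of A), ⊤) := eA.isLocalRing
      let π : Γ(Spec (CommRingCat.of A), ⊤) →+* IsLocalRing.ResidueField A :=
        (j.appLE ⊤ ⊤ he' ≫ (Scheme.ΓSpecIso (CommRingCat.of (IsLocalRing.ResidueField A))).hom).hom
      have hπ : Function.Surjective π := by
        have h1 : j.appLE ⊤ ⊤ he' ≫
            (Scheme.ΓSpecIso (CommRingCat.of (IsLocalRing.ResidueField A))).hom =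
            (Scheme.ΓSpecIso (CommRingCat.of A)).hom ≫
              CommRingCat.ofHom (IsLocalRing.residue A) := by
          rw [← Scheme.ΓSpecIso_naturality]
          congr 1
        show Function.Surjective (j.appLE ⊤ ⊤ he' ≫
            (Scheme.ΓSpecIso (CommRingCat.of (IsLocalRing.ResidueField A))).hom).hom
        rw [h1]
        exact hjsurj.comp
          (Scheme.ΓSpecIso (CommRingCat.of A)).commRingCatIsoToRingEquiv.surjective
      apply Groth.Agent.Lib.Helper6.ArtinFT.finiteType_of_comp (f.appLE U ⊤ e).hom π hπ
      have h2 : π.comp (f.appLE U ⊤ e).hom =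
          ((Scheme.ΓSpecIso (CommRingCat.of (IsLocalRing.ResidueField A))).hom.hom).comp
            (f.appLE U ⊤ e ≫ j.appLE ⊤ ⊤ he').hom := by
        ext x
        simp [π]
      rw [h2]
      refine RingHom.FiniteType.comp ?_ hft
      exact RingHom.FiniteType.of_surjective _
        (Scheme.ΓSpecIso (CommRingCat.of
          (IsLocalRing.ResidueField A))).commRingCatIsoToRingEquiv.surjective
    · have hVbot : (V : (Spec (CommRingCat.of A)).Opens) = ⊥ := by
        rw [eq_bot_iff]
        intro x hx
        rw [hsub x] at hx
        exact hV hx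
      apply RingHom.FiniteType.of_surjective
      intro y
      have : Subsingleton Γ(Spec (CommRingCat.of A), (V : (Spec (CommRingCat.of A)).Opens)) := by
        rw [hVbot]
        infer_instance
      exact ⟨0, Subsingleton.elim _ _⟩

end Groth.Agent.S9338
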