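import Groth.Statements.S9341
import Groth.Agent.Lib.Helper6.FtPts

set_option autoImplicit false
universe u
open FtPts

namespace Groth.Agent.S9341

open AlgebraicGeometry CategoryTheory in
/-- Every nonempty locally closed subset of a scheme S contains a finite type point of S; in particular
for a closed subset Z the finite type points lying in Z are dense in Z. -/
theorem result (S : Scheme.{u}) :
    (∀ Z : Set ↑S, IsLocallyClosed Z → Z.Nonempty →
        (Z ∩ {s : ↑S | LocallyOfFiniteType (S.fromSpecResidueField s)}).Nonempty) ∧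
      ∀ Z : Set ↑S, IsClosed Z →
        Z ⊆ closure (Z ∩ {s : ↑S | LocallyOfFiniteType (S.fromSpecResidueField s)}) := by
  refine ⟨fun Z hZ hne => Groth.Agent.Lib.Helper6.FtPts.ft_locallyClosed S Z hZ hne, ?_⟩
  intro Z hZ z hz
  rw [mem_closure_iff]
  intro o ho hzo
  have h1 : IsLocallyClosed (o ∩ Z) := ho.isLocallyClosed.inter hZ.isLocallyClosed
  obtain ⟨x, ⟨hxo, hxZ⟩, hx⟩ :=
    Groth.Agent.Lib.Helper6.FtPts.ft_locallyClosed S (o ∩ Z) h1 ⟨z, hzo, hz⟩
  exact ⟨x, hxo, hxZ, hx⟩

end Groth.Agent.S9341
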