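import Groth.Statements.S9347
import Mathlib.RingTheory.Ideal.MinimalPrime.Localization
import Mathlib.AlgebraicGeometry.Morphisms.QuasiCompact
import Mathlib.AlgebraicGeometry.Properties

set_option autoImplicit false
universe u
open Dom

namespace Groth.Agent.S9347

open AlgebraicGeometry CategoryTheory in
/-- Let f : X → S be quasi-compact and let η ∈ S be a point whose closure is an irreducible component of
S (a maximal point of S). If η is not in the image of f, then η has an open neighbourhood V with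
f⁻¹(V) empty. -/
theorem result {X S : Scheme.{u}} (f : X ⟶ S) [QuasiCompact f]
    (η : ↑S) (hη : closure {η} ∈ irreducibleComponents (↑S : Type u)) (hnot : η ∉ Set.range f.base) :
    ∃ V : S.Opens, η ∈ V ∧ f ⁻¹ᵁ V = ⊥ := by
  classical
  -- any generalization of η equals η
  have hgen : ∀ y : S, y ⤳ η → y = η := by
    intro y hy
    have h1 : closure {η} ⊆ closure {y} := specializes_iff_closure_subset.mp hy
    have h2 : IsIrreducible (closure ({y} : Set S)) := isIrreducible_singleton.closure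
    have h3 : closure ({y} : Set S) = closure {η} := (hη.2 h2 h1).antisymm h1
    exact (inseparable_iff_closure_eq.mpr h3).eq
  obtain ⟨W, hW, hηW, -⟩ := exists_isAffineOpen_mem_and_subset (x := η) (U := ⊤) trivial
  have hc : IsCompact (f ⁻¹ᵁ W : Set X) := f.isCompact_preimage hW.isCompact
  obtain ⟨s, hs, e⟩ := isCompact_iff_finite_and_eq_biUnion_affineOpens.mp hc
  set p := hW.primeIdealOf ⟨η, hηW⟩ with hp
  have hpη : hW.fromSpec p = η := hW.fromSpec_primeIdealOf ⟨η, hηW⟩
  have key : ∀ (U : X.affineOpens) (hU : (U : X.Opens) ≤ f ⁻¹ᵁ W),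
      ∃ a : Γ(S, W), a ∉ p.asIdeal ∧ f.appLE W U hU a = 0 := by
    intro U hU
    by_contra hcon
    push Not at hcon
    have hker : RingHom.ker (f.appLE W U hU).hom ≤ p.asIdeal := by
      intro a ha
      by_contra hap
      exact hcon a hap ha
    have hmin : p.asIdeal ∈ ((⊥ : Ideal Γ(X, U)).comap (f.appLE W U hU).hom).minimalPrimes := by
      refine ⟨⟨p.2, hker⟩, ?_⟩
      rintro q ⟨hq, -⟩ hqp
      have hspec : (⟨q, hq⟩ : PrimeSpectrum Γ(S, W)) ⤳ p :=
        (PrimeSpectrum.le_iff_specializes _ _).mp hqp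
      have h2 : hW.fromSpec ⟨q, hq⟩ ⤳ hW.fromSpec p := hspec.map hW.fromSpec.continuous
      rw [hpη] at h2
      have h3 := hgen _ h2
      rw [← hpη] at h3
      have h4 := hW.fromSpec.isOpenEmbedding.injective h3
      rw [← h4]
    obtain ⟨q', hq', -, hcomap⟩ := Ideal.exists_comap_eq_of_mem_minimalPrimes _ _ hmin
    apply hnot
    have hUa : IsAffineOpen (U : X.Opens) := U.2
    let y : ↥(Spec Γ(X, (U : X.Opens))) := (⟨q', hq'⟩ : PrimeSpectrum Γ(X, (U : X.Opens)))
    refine ⟨hUa.fromSpec y, ?_⟩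
    have h5 : hW.fromSpec (Spec.map (f.appLE W U hU) y) = f (hUa.fromSpec y) := by
      rw [← Scheme.Hom.comp_apply, ← Scheme.Hom.comp_apply, IsAffineOpen.SpecMap_appLE_fromSpec]
    rw [← h5, ← hpη]
    congr 1
    exact PrimeSpectrum.ext hcomap
  let a : X.affineOpens → Γ(S, W) := fun U =>
    if h : (U : X.Opens) ≤ f ⁻¹ᵁ W then (key U h).choose else 1
  have hsle : ∀ U ∈ s, (U : X.Opens) ≤ f ⁻¹ᵁ W := by
    intro U hU
    rw [e]
    exact le_iSup₂ (f := fun (i : X.affineOpens) (_ : i ∈ s) => (i : X.Opens)) U hU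
  have ha1 : ∀ U ∈ s, a U ∉ p.asIdeal := by
    intro U hU
    simp only [a, dif_pos (hsle U hU)]
    exact (key U (hsle U hU)).choose_spec.1
  have ha2 : ∀ U (hU : U ∈ s), f.appLE W U (hsle U hU) (a U) = 0 := by
    intro U hU
    simp only [a, dif_pos (hsle U hU)]
    exact (key U (hsle U hU)).choose_spec.2
  let V0 : S.Opens := ⟨⋂ U ∈ s, (S.basicOpen (a U) : Set S),
    hs.isOpen_biInter (fun U _ => (S.basicOpen (a U)).isOpen)⟩
  refine ⟨W ⊓ V0, ⟨hηW, ?_⟩, ?_⟩
  · simp only [V0, TopologicalSpace.Opens.coe_mk, Set.mem_iInter]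
    intro U hU
    have : p ∈ hW.fromSpec ⁻¹ᵁ S.basicOpen (a U) := by
      rw [hW.fromSpec_preimage_basicOpen]
      exact ha1 U hU
    have h6 : hW.fromSpec p ∈ S.basicOpen (a U) := this
    rwa [hpη] at h6
  · ext x
    simp only [TopologicalSpace.Opens.coe_bot, Set.mem_empty_iff_false, iff_false]
    rintro ⟨hxW, hxV⟩
    have hx' : x ∈ f ⁻¹ᵁ W := hxW
    rw [e] at hx'
    simp only [TopologicalSpace.Opens.mem_iSup] at hx'
    obtain ⟨U, hU, hxU⟩ := hx'
    have hxb : f x ∈ S.basicOpen (a U) := by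
      have := hxV
      simp only [V0, TopologicalSpace.Opens.coe_mk, Set.mem_iInter] at this
      exact this U hU
    have : x ∈ X.basicOpen (f.appLE W U (hsle U hU) (a U)) := by
      rw [Scheme.basicOpen_appLE]
      exact ⟨hxU, hxb⟩
    rw [ha2 U hU, Scheme.basicOpen_zero] at this
    exact this

end Groth.Agent.S9347
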