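import Groth.Statements.S9343
import Groth.Agent.S9347
import Mathlib.AlgebraicGeometry.PullbackCarrier

set_option autoImplicit false
universe u
open Dom

namespace Groth.Agent.S9343

open AlgebraicGeometry CategoryTheory in
/-- The base change of a quasi-compact dominant morphism f : X → S along a morphism g : S' → S along
which generalizations lift is dominant. -/
theorem result {X S X' S' : Scheme.{u}} (f : X ⟶ S) [QuasiCompact f] [IsDominant f]
    (g : S' ⟶ S) (g' : X' ⟶ X) (f' : X' ⟶ S') (hsq : IsPullback g' f' f g) (hg : GeneralizingMap g.base) :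
    IsDominant f' := by
  have hmaxchar : ∀ {T : Scheme.{u}} (ξ : T), (∀ y : T, y ⤳ ξ → y = ξ) →
      closure {ξ} ∈ irreducibleComponents T := by
    intro T ξ h
    obtain ⟨y, hy⟩ := QuasiSober.sober (isIrreducible_irreducibleComponent (x := ξ))
      isClosed_irreducibleComponent
    have hyξ : y ⤳ ξ := by
      rw [specializes_iff_mem_closure, hy.def]
      exact mem_irreducibleComponent
    have := h y hyξ
    subst this
    rw [hy.def]
    exact irreducibleComponent_mem_irreducibleComponents y
  refine ⟨?_⟩
  intro s'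
  obtain ⟨ξ', hξ'⟩ := QuasiSober.sober (isIrreducible_irreducibleComponent (x := s'))
    isClosed_irreducibleComponent
  have hξ's' : ξ' ⤳ s' := by
    rw [specializes_iff_mem_closure, hξ'.def]
    exact mem_irreducibleComponent
  have hcomp : closure {ξ'} ∈ irreducibleComponents S' := by
    rw [hξ'.def]
    exact irreducibleComponent_mem_irreducibleComponents s'
  have hgen' : ∀ y' : S', y' ⤳ ξ' → y' = ξ' := by
    intro y hy
    have h1 : closure {ξ'} ⊆ closure {y} := specializes_iff_closure_subset.mp hy
    have h2 : IsIrreducible (closure ({y} : Set S')) := isIrreducible_singleton.closure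
    have h3 : closure ({y} : Set S') = closure {ξ'} := (hcomp.2 h2 h1).antisymm h1
    exact (inseparable_iff_closure_eq.mpr h3).eq
  have hgen : ∀ y : S, y ⤳ g ξ' → y = g ξ' := by
    intro y hy
    obtain ⟨y', hy', rfl⟩ := hg hy
    rw [hgen' y' hy']
  have hmem : g ξ' ∈ Set.range f.base := by
    by_contra hnot
    obtain ⟨V, hV, hVe⟩ := Groth.Agent.S9347.result f (g ξ') (hmaxchar _ hgen) hnot
    obtain ⟨x, hx⟩ := (IsDominant.denseRange (f := f)).exists_mem_open V.isOpen ⟨_, hV⟩
    have hx' : x ∈ f ⁻¹ᵁ V := hx
    rw [hVe] at hx'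
    exact hx'
  obtain ⟨x, hx⟩ := hmem
  obtain ⟨z, hz1, hz2⟩ := Scheme.Pullback.exists_preimage_pullback (f := f) (g := g) x ξ' hx
  have hr : ξ' ∈ Set.range f'.base := by
    refine ⟨hsq.isoPullback.inv z, ?_⟩
    rw [← hz2, ← Scheme.Hom.comp_apply, hsq.isoPullback_inv_snd]
  exact closure_mono (Set.singleton_subset_iff.mpr hr) hξ's'.mem_closure

end Groth.Agent.S9343
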