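import Groth.Statements.S9344
import Groth.Agent.Lib.Helper6.SchemePts

set_option autoImplicit false
universe u
open Dom

namespace Groth.Agent.S9344

open AlgebraicGeometry CategoryTheory in
/-- The base change of a dominant morphism f : X → S along an open morphism g : S' → S is dominant. -/
theorem result {X S X' S' : Scheme.{u}} (f : X ⟶ S) [IsDominant f]
    (g : S' ⟶ S) (g' : X' ⟶ X) (f' : X' ⟶ S') (hsq : IsPullback g' f' f g) (hg : IsOpenMap g.base) :
    IsDominant f' := by
  constructor
  rw [DenseRange, dense_iff_inter_open]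
  intro W hW hWne
  -- `g '' W` is a nonempty open subset of `S`, hence meets the range of `f`
  have hgW : IsOpen (g.base '' W) := hg W hW
  have hne : (g.base '' W).Nonempty := hWne.image _
  obtain ⟨s, hs, x, rfl⟩ := f.denseRange.inter_open_nonempty _ hgW hne
  obtain ⟨s', hs'W, hs'⟩ := hs
  obtain ⟨x', -, hx'⟩ := Groth.Agent.Helper6.exists_preimage_of_isPullback hsq x s' hs'.symm
  exact ⟨s', hs'W, x', hx'⟩

end Groth.Agent.S9344
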