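import Groth.Statements.S9345
import Mathlib

set_option autoImplicit false
universe u
open Dom

namespace Groth.Agent.S9345

theorem top_lemma {X S : Type*} [TopologicalSpace X] [TopologicalSpace S] [QuasiSober X]
    [QuasiSober S] [T0Space S] (f : X → S) (hf : Continuous f)
    (hX : (irreducibleComponents X).Finite) :
    (DenseRange f ↔ ∀ s : S, closure {s} ∈ irreducibleComponents S → s ∈ Set.range f) ∧
      (DenseRange f → (irreducibleComponents S).Finite) := by
  classical
  have : Fintype ↥(irreducibleComponents X) := hX.fintype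
  have hgp : ∀ Z : ↥(irreducibleComponents X), ∃ ξ : X, IsGenericPoint ξ (Z : Set X) := fun Z =>
    QuasiSober.sober Z.2.1 (isClosed_of_mem_irreducibleComponents _ Z.2)
  choose ξ hξ using hgp
  let G : Finset (Set S) := Finset.univ.image (fun Z : ↥(irreducibleComponents X) => closure {f (ξ Z)})
  have hGclosed : ∀ z ∈ G, IsClosed z := by
    intro z hz
    obtain ⟨Z, -, rfl⟩ := Finset.mem_image.mp hz
    exact isClosed_closure
  have hrange : Set.range f ⊆ ⋃₀ (G : Set (Set S)) := by
    rintro _ ⟨x, rfl⟩
    have hx : x ∈ ⋃₀ irreducibleComponents X := by rw [sUnion_irreducibleComponents]; trivial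
    obtain ⟨Z, hZ, hxZ⟩ := hx
    refine ⟨closure {f (ξ ⟨Z, hZ⟩)}, ?_, ?_⟩
    · exact Finset.mem_coe.mpr (Finset.mem_image.mpr ⟨⟨Z, hZ⟩, Finset.mem_univ _, rfl⟩)
    · have h1 : ξ ⟨Z, hZ⟩ ⤳ x := by
        rw [specializes_iff_mem_closure, (hξ ⟨Z, hZ⟩).def]
        exact hxZ
      exact (specializes_iff_mem_closure.mp (h1.map hf))
  have hcomp : DenseRange f → ∀ W ∈ irreducibleComponents S, ∃ Z, W = closure {f (ξ Z)} := by
    intro hd W hW
    have hcl : IsClosed (⋃₀ (G : Set (Set S))) := by
      rw [Set.sUnion_eq_biUnion]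
      exact Set.Finite.isClosed_biUnion G.finite_toSet hGclosed
    have huniv : (Set.univ : Set S) ⊆ ⋃₀ (G : Set (Set S)) := by
      rw [← hd.closure_range]
      exact closure_minimal hrange hcl
    obtain ⟨z, hzG, hWz⟩ := isIrreducible_iff_sUnion_isClosed.mp hW.1 G hGclosed
      ((Set.subset_univ W).trans huniv)
    obtain ⟨Z, -, rfl⟩ := Finset.mem_image.mp hzG
    refine ⟨Z, Set.Subset.antisymm hWz (hW.2 ?_ hWz)⟩
    exact isIrreducible_singleton.closure
  refine ⟨⟨fun hd s hs => ?_, fun h => ?_⟩, fun hd => ?_⟩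
  · obtain ⟨Z, hZ⟩ := hcomp hd _ hs
    have h1 : IsGenericPoint s (closure {f (ξ Z)}) := hZ
    have h2 : IsGenericPoint (f (ξ Z)) (closure {f (ξ Z)}) := rfl
    exact ⟨ξ Z, (h1.eq h2).symm⟩
  · rw [DenseRange, dense_iff_closure_eq, Set.eq_univ_iff_forall]
    intro y
    have hy : y ∈ ⋃₀ irreducibleComponents S := by rw [sUnion_irreducibleComponents]; trivial
    obtain ⟨W, hW, hyW⟩ := hy
    obtain ⟨s, hs⟩ := QuasiSober.sober hW.1 (isClosed_of_mem_irreducibleComponents _ hW)
    have hs' : closure {s} ∈ irreducibleComponents S := by rw [hs.def]; exact hW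
    have hsr := h s hs'
    rw [← hs.def] at hyW
    exact closure_mono (Set.singleton_subset_iff.mpr hsr) hyW
  · refine G.finite_toSet.subset ?_
    intro W hW
    obtain ⟨Z, hZ⟩ := hcomp hd W hW
    exact Finset.mem_coe.mpr (Finset.mem_image.mpr ⟨Z, Finset.mem_univ _, hZ.symm⟩)

open AlgebraicGeometry CategoryTheory in
/-- For a morphism f : X → S whose source has only finitely many irreducible components, the image of f
is dense exactly when it contains the generic point of each irreducible component of S, and then S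
too has finitely many. -/
theorem result {X S : Scheme.{u}} (f : X ⟶ S)
    (hX : (irreducibleComponents (↑X : Type u)).Finite) :
    (IsDominant f ↔ ∀ s : ↑S, closure {s} ∈ irreducibleComponents (↑S : Type u) → s ∈ Set.range f.base) ∧
      (IsDominant f → (irreducibleComponents (↑S : Type u)).Finite) := by
  have h := top_lemma (X := ↑X) (S := ↑S) f.base f.continuous hX
  constructor
  · rw [isDominant_iff]
    exact h.1
  · intro hd
    exact h.2 ((isDominant_iff f).mp hd)

end Groth.Agent.S9345
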