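import Groth.Statements.S9346
import Mathlib.AlgebraicGeometry.FunctionField
import Mathlib.AlgebraicGeometry.Properties

set_option autoImplicit false
universe u
open Dom

namespace Groth.Agent.S9346

open AlgebraicGeometry CategoryTheory in
/-- For a morphism f : X → Y between integral schemes, these six conditions coincide: (1) f is dominant;
(2) f sends the generic point of X to that of Y; (3) there exist affine opens U ⊆ X, V ⊆ Y with U
nonempty and U ⊆ f⁻¹V such that the induced ring map on sections is injective; (4) the same for all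
such pairs; (5) for some x ∈ X the map of local rings O_{Y,f x} → O_{X,x} is injective; (6) the same
for all x. -/
theorem result {X Y : Scheme.{u}} [AlgebraicGeometry.IsIntegral X] [AlgebraicGeometry.IsIntegral Y] (f : X ⟶ Y) :
    [IsDominant f,
      f.base (genericPoint ↑X) = genericPoint ↑Y,
      ∃ (U : X.Opens) (V : Y.Opens) (hUV : U ≤ f ⁻¹ᵁ V), IsAffineOpen U ∧ IsAffineOpen V ∧ (U : Set ↑X).Nonempty ∧
        Function.Injective (f.appLE V U hUV),
      ∀ (U : X.Opens) (V : Y.Opens) (hUV : U ≤ f ⁻¹ᵁ V), IsAffineOpen U → IsAffineOpen V → (U : Set ↑X).Nonempty →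
        Function.Injective (f.appLE V U hUV),
      ∃ x : ↑X, Function.Injective (f.stalkMap x),
      ∀ x : ↑X, Function.Injective (f.stalkMap x)].TFAE := by
  -- generic point lies in every nonempty open
  have hgenX : ∀ U : X.Opens, (U : Set X).Nonempty → genericPoint X ∈ U := by
    intro U hU
    exact ((genericPoint_spec X).mem_open_set_iff U.isOpen).mpr (by simpa using hU)
  have hgenY : ∀ V : Y.Opens, (V : Set Y).Nonempty → genericPoint Y ∈ V := by
    intro V hV
    exact ((genericPoint_spec Y).mem_open_set_iff V.isOpen).mpr (by simpa using hV)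
  -- key relation between stalk map and appLE
  have hrel : ∀ (U : X.Opens) (V : Y.Opens) (hUV : U ≤ f ⁻¹ᵁ V) (x : X) (hx : x ∈ U)
      (hfx : f x ∈ V) (a : Γ(Y, V)),
      f.stalkMap x (Y.presheaf.germ V (f x) hfx a) =
        X.presheaf.germ U x hx (f.appLE V U hUV a) := by
    intro U V hUV x hx hfx a
    rw [Scheme.Hom.germ_stalkMap_apply, Scheme.Hom.appLE]
    simp only [CommRingCat.comp_apply]
    rw [X.presheaf.germ_res_apply]
  tfae_have 1 → 2 := by
    intro h
    have h1 : IsGenericPoint (f (genericPoint X)) (closure (f '' Set.univ)) :=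
      (genericPoint_spec X).image f.continuous
    rw [Set.image_univ, h.denseRange.closure_range] at h1
    exact h1.eq (genericPoint_spec Y)
  tfae_have 2 → 1 := by
    intro h
    refine ⟨?_⟩
    intro y
    have h1 : genericPoint Y ⤳ y := (genericPoint_spec Y).specializes trivial
    exact closure_mono (Set.singleton_subset_iff.mpr
      (show genericPoint Y ∈ Set.range f from ⟨genericPoint X, h⟩)) h1.mem_closure
  tfae_have 2 → 4 := by
    intro h U V hUV hU hV hne
    rw [injective_iff_map_eq_zero]
    intro a ha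
    have h1 : X.basicOpen (f.appLE V U hUV a) = U ⊓ f ⁻¹ᵁ (Y.basicOpen a) :=
      Scheme.basicOpen_appLE f U V hUV a
    rw [ha, Scheme.basicOpen_zero] at h1
    have h2 : genericPoint Y ∉ Y.basicOpen a := by
      intro hmem
      have : genericPoint X ∈ U ⊓ f ⁻¹ᵁ (Y.basicOpen a) := by
        refine ⟨hgenX U hne, ?_⟩
        show f (genericPoint X) ∈ Y.basicOpen a
        rw [h]
        exact hmem
      rw [← h1] at this
      exact this
    have h3 : Y.basicOpen a = ⊥ := by
      by_contra hne'
      apply h2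
      apply hgenY
      exact (TopologicalSpace.Opens.ne_bot_iff_nonempty _).mp hne'
    exact (basicOpen_eq_bot_iff a).mp h3
  tfae_have 4 → 6 := by
    intro h x
    rw [injective_iff_map_eq_zero]
    intro s hs
    obtain ⟨V0, hxV0, a0, rfl⟩ := Y.presheaf.exists_germ_eq s
    obtain ⟨V, hV, hxV, hVV0⟩ := exists_isAffineOpen_mem_and_subset (x := f x) (U := V0) hxV0
    have hVV0' : V ≤ V0 := hVV0
    obtain ⟨U, hU, hxU, hUV⟩ := exists_isAffineOpen_mem_and_subset (x := x) (U := f ⁻¹ᵁ V) hxV
    have hUV' : U ≤ f ⁻¹ᵁ V := hUV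
    set a : Γ(Y, V) := Y.presheaf.map (homOfLE hVV0').op a0 with ha
    have h1 : Y.presheaf.germ V0 (f x) hxV0 a0 = Y.presheaf.germ V (f x) hxV a := by
      rw [ha, Y.presheaf.germ_res_apply]
    rw [h1] at hs ⊢
    have h2 := hrel U V hUV' x hxU hxV a
    rw [hs] at h2
    have h3 : f.appLE V U hUV' a = 0 := by
      apply germ_injective_of_isIntegral X x hxU
      rw [← h2, map_zero]
    have h4 : a = 0 := by
      apply h U V hUV' hU hV ⟨x, hxU⟩
      rw [h3, map_zero]
    rw [h4, map_zero]
  tfae_have 6 → 5 := by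
    intro h
    exact ⟨genericPoint X, h _⟩
  tfae_have 5 → 3 := by
    rintro ⟨x, hx⟩
    obtain ⟨V, hV, hxV, -⟩ := exists_isAffineOpen_mem_and_subset (x := f x) (U := ⊤) trivial
    obtain ⟨U, hU, hxU, hUV⟩ := exists_isAffineOpen_mem_and_subset (x := x) (U := f ⁻¹ᵁ V) hxV
    have hUV' : U ≤ f ⁻¹ᵁ V := hUV
    refine ⟨U, V, hUV', hU, hV, ⟨x, hxU⟩, ?_⟩
    rw [injective_iff_map_eq_zero]
    intro a ha
    have h2 := hrel U V hUV' x hxU hxV a
    rw [ha, map_zero] at h2
    have h3 : Y.presheaf.germ V (f x) hxV a = 0 := by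
      apply hx
      rw [h2, map_zero]
    apply germ_injective_of_isIntegral Y (f x) hxV
    rw [h3, map_zero]
  tfae_have 3 → 2 := by
    rintro ⟨U, V, hUV, hU, hV, hne, hinj⟩
    by_contra hcon
    -- W = complement of closure {f η}
    let W : Y.Opens := ⟨(closure {f (genericPoint X)})ᶜ, isClosed_closure.isOpen_compl⟩
    have hWne : (W : Set Y).Nonempty := by
      by_contra hemp
      rw [Set.not_nonempty_iff_eq_empty] at hemp
      have : closure {f (genericPoint X)} = (Set.univ : Set Y) := by
        simpa [W, Set.compl_empty_iff] using hemp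
      exact hcon (IsGenericPoint.eq this (genericPoint_spec Y))
    have hVne : (V : Set Y).Nonempty := by
      obtain ⟨x, hx⟩ := hne
      exact ⟨f x, hUV hx⟩
    have hηW : genericPoint Y ∈ W ⊓ V := ⟨hgenY W hWne, hgenY V hVne⟩
    obtain ⟨a, haWV, hηa⟩ := hV.exists_basicOpen_le ⟨genericPoint Y, hηW⟩ hηW.2
    have hane : a ≠ 0 := by
      rintro rfl
      rw [Scheme.basicOpen_zero] at hηa
      exact hηa
    have hφa : f.appLE V U hUV a ≠ 0 := by
      intro h0
      apply hane
      apply hinj
      rw [h0, map_zero]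
    have h1 : X.basicOpen (f.appLE V U hUV a) = U ⊓ f ⁻¹ᵁ (Y.basicOpen a) :=
      Scheme.basicOpen_appLE f U V hUV a
    have h2 : (X.basicOpen (f.appLE V U hUV a) : Set X).Nonempty := by
      by_contra hemp
      rw [Set.not_nonempty_iff_eq_empty] at hemp
      apply hφa
      apply (basicOpen_eq_bot_iff _).mp
      ext1
      simpa using hemp
    have h3 := hgenX _ h2
    rw [h1] at h3
    have h4 : f (genericPoint X) ∈ W := (haWV h3.2).1
    exact h4 (subset_closure rfl)
  tfae_finish

end Groth.Agent.S9346
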