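import Groth.Statements.S9348
import Groth.Agent.Lib.Helper6.SchemePts

set_option autoImplicit false
universe u
open Dom

namespace Groth.Agent.S9348

open AlgebraicGeometry CategoryTheory in
/-- Let f : X → Y be a morphism and g : Y' → Y open and surjective. If the base change f' : X ×_Y Y' →
Y' of f is quasi-compact, then so is f. -/
theorem result {X Y X' Y' : Scheme.{u}} (f : X ⟶ Y) (g : Y' ⟶ Y) [Surjective g]
    (hg : IsOpenMap g.base) (g' : X' ⟶ X) (f' : X' ⟶ Y') (hsq : IsPullback g' f' f g) [QuasiCompact f'] :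
    QuasiCompact f := by
  constructor
  intro U hUo hUc
  -- for each `y ∈ U` choose a preimage and an affine open neighbourhood inside `g ⁻¹' U`
  have hchoose : ∀ y : U, ∃ W : Y'.Opens, IsAffineOpen W ∧ (y : Y) ∈ g.base '' (W : Set Y') ∧
      (W : Set Y') ⊆ g.base ⁻¹' U := by
    rintro ⟨y, hy⟩
    obtain ⟨y', rfl⟩ := g.surjective y
    let V : Y'.Opens := ⟨g.base ⁻¹' U, hUo.preimage g.continuous⟩
    have hy'V : y' ∈ V := hy
    obtain ⟨W, hW, hyW, hWV⟩ := exists_isAffineOpen_mem_and_subset hy'V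
    exact ⟨W, hW, ⟨y', hyW, rfl⟩, hWV⟩
  choose W hWaff hyW hWU using hchoose
  obtain ⟨t, ht⟩ := hUc.elim_finite_subcover (fun y : U => g.base '' (W y : Set Y'))
    (fun y => hg _ (W y).isOpen) (fun y hy => Set.mem_iUnion.2 ⟨⟨y, hy⟩, hyW ⟨y, hy⟩⟩)
  -- the compact open `K`
  have hK : IsCompact (⋃ y ∈ t, (W y : Set Y')) :=
    t.isCompact_biUnion fun y _ => (hWaff y).isCompact
  have hKo : IsOpen (⋃ y ∈ t, (W y : Set Y')) :=
    isOpen_biUnion fun y _ => (W y).isOpen
  have hpre : IsCompact (f' ⁻¹' (⋃ y ∈ t, (W y : Set Y'))) :=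
    QuasiCompact.isCompact_preimage _ hKo hK
  have himg : IsCompact (g' '' (f' ⁻¹' (⋃ y ∈ t, (W y : Set Y')))) :=
    hpre.image g'.continuous
  convert himg using 1
  ext x
  constructor
  · intro hx
    obtain ⟨y, hy, k, hk, hkx⟩ : ∃ y ∈ t, ∃ k ∈ (W y : Set Y'), g k = f x := by
      have := ht hx
      simp only [Set.mem_iUnion, Set.mem_image] at this
      obtain ⟨y, hy, k, hk, hkx⟩ := this
      exact ⟨y, hy, k, hk, hkx⟩
    obtain ⟨x', hx'1, hx'2⟩ := Groth.Agent.Helper6.exists_preimage_of_isPullback hsq x k hkx.symm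
    refine ⟨x', ?_, hx'1⟩
    simp only [Set.mem_preimage, Set.mem_iUnion]
    exact ⟨y, hy, by rw [hx'2]; exact hk⟩
  · rintro ⟨x', hx', rfl⟩
    simp only [Set.mem_preimage, Set.mem_iUnion] at hx'
    obtain ⟨y, hy, hk⟩ := hx'
    have := hWU y hk
    simp only [Set.mem_preimage] at this ⊢
    rw [← Scheme.Hom.comp_apply, hsq.w, Scheme.Hom.comp_apply]
    exact this

end Groth.Agent.S9348
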