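import Groth.Statements.S9349
import Mathlib
import Groth.Agent.Lib.Lead.FO1
import Groth.Agent.Lib.Helper1.PushQc

set_option autoImplicit false
universe u
open FlatMod

namespace Groth.Agent.S9349

section


open AlgebraicGeometry CategoryTheory Opposite Groth.Agent.Lead.FO Scheme.Modules Groth.Agent.Helper1

variable {X Y S : Scheme.{u}} (f : X ⟶ Y) (q : Y ⟶ S) (F : X.Modules)

theorem sectionsOver_eq {W : Y.Opens} {V : S.Opens} (hWV : W ≤ q ⁻¹ᵁ V)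
    (hUV : f ⁻¹ᵁ W ≤ (f ≫ q) ⁻¹ᵁ V) :
    (sectionsOver q ((Scheme.Modules.pushforward f).obj F) hWV :
      Module Γ(S, V) Γ(F, f ⁻¹ᵁ W)) = sectionsOver (f ≫ q) F hUV := by
  apply Module.ext'
  intro r m
  change ((f.app W).hom ((q.appLE V W hWV).hom r) : Γ(X, f ⁻¹ᵁ W)) •
      (show Γ(F, f ⁻¹ᵁ W) from m) =
    (((f ≫ q).appLE V (f ⁻¹ᵁ W) hUV).hom r) • (show Γ(F, f ⁻¹ᵁ W) from m)
  congr 1
  have h := Scheme.Hom.appLE_comp_appLE f q V W (f ⁻¹ᵁ W) hWV le_rfl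
  rw [Scheme.Hom.appLE_eq_app] at h
  rw [← h]
  rfl

theorem exists_affines (y : Y) : ∃ (V : S.Opens) (W : Y.Opens), IsAffineOpen V ∧ IsAffineOpen W ∧
    y ∈ W ∧ W ≤ q ⁻¹ᵁ V := by
  obtain ⟨_, ⟨V, hV, rfl⟩, hyV, -⟩ :=
    S.isBasis_affineOpens.exists_subset_of_mem_open (Set.mem_univ (q y)) isOpen_univ
  obtain ⟨_, ⟨W, hW, rfl⟩, hyW, hWV⟩ :=
    Y.isBasis_affineOpens.exists_subset_of_mem_open (show y ∈ (q ⁻¹ᵁ V : Y.Opens) from hyV)
      (q ⁻¹ᵁ V).isOpen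
  exact ⟨V, W, hV, hW, hyW, hWV⟩

theorem main [IsAffineHom f] (hF : Coh.IsQCoh F) :
    FlatMod.IsFlatOver (f ≫ q) F ↔ FlatMod.IsFlatOver q ((Coh.push f).obj F) := by
  haveI : F.IsQuasicoherent := hF
  haveI : ((Scheme.Modules.pushforward f).obj F).IsQuasicoherent :=
    PushQc.isQuasicoherent_pushforward f F
  constructor
  · intro h y
    obtain ⟨V, W, hV, hW, hyW, hWV⟩ := exists_affines q y
    have hU : IsAffineOpen (f ⁻¹ᵁ W) := hW.preimage f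
    have hUV : f ⁻¹ᵁ W ≤ (f ≫ q) ⁻¹ᵁ V := fun z hz => hWV hz
    have h1 := flat_sectionsOver_of_isFlatOverAt (f ≫ q) F hU hV hUV (fun z => h z.1)
    rw [← sectionsOver_eq f q F hWV hUV] at h1
    exact (isFlatOverAt_iff_flat_stalkOver q _ hV hWV ⟨y, hyW⟩).2
      (flat_stalkOver_of_flat_sectionsOver q _ hW hWV ⟨y, hyW⟩ h1)
  · intro h x
    obtain ⟨V, W, hV, hW, hyW, hWV⟩ := exists_affines q (f x)
    have hU : IsAffineOpen (f ⁻¹ᵁ W) := hW.preimage f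
    have hUV : f ⁻¹ᵁ W ≤ (f ≫ q) ⁻¹ᵁ V := fun z hz => hWV hz
    have h1 := flat_sectionsOver_of_isFlatOverAt q ((Scheme.Modules.pushforward f).obj F)
      hW hV hWV (fun z => h z.1)
    rw [sectionsOver_eq f q F hWV hUV] at h1
    exact (isFlatOverAt_iff_flat_stalkOver (f ≫ q) F hV hUV ⟨x, hyW⟩).2
      (flat_stalkOver_of_flat_sectionsOver (f ≫ q) F hU hUV ⟨x, hyW⟩ h1)


end


open AlgebraicGeometry CategoryTheory in
/-- Let f : X → Y be an affine morphism of S-schemes, with q : Y → S, and F a quasi-coherent O_X-module.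
Flatness of F over S (along f ≫ q) is equivalent to flatness of f_*F over S (along q). -/
theorem result {X Y S : Scheme.{u}} (f : X ⟶ Y) [IsAffineHom f] (q : Y ⟶ S)
    (F : X.Modules) (hF : Coh.IsQCoh F) :
    FlatMod.IsFlatOver (f ≫ q) F ↔ FlatMod.IsFlatOver q ((Coh.push f).obj F) := by
  classical
  exact main f q F hF

end Groth.Agent.S9349
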