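import Groth.Statements.S9353
import Mathlib
import Groth.Agent.Lib.Lead.FO1

set_option autoImplicit false
universe u
open FlatMod

namespace Groth.Agent.S9353

section


open AlgebraicGeometry CategoryTheory Opposite Groth.Agent.Lead.FO

theorem main {X S : Scheme.{u}} (f : X ⟶ S) (F : X.Modules) (hF : Coh.IsQCoh F) :
    FlatMod.IsFlatOver f F ↔
      ∀ (U : X.Opens) (V : S.Opens) (hUV : U ≤ f ⁻¹ᵁ V), IsAffineOpen U → IsAffineOpen V →
        @Module.Flat Γ(S, V) (F.val.obj (op U)) _ _ (Module.compHom (F.val.obj (op U)) (f.appLE V U hUV).hom) := by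
  haveI : F.IsQuasicoherent := hF
  constructor
  · intro h U V hUV hU hV
    exact flat_sectionsOver_of_isFlatOverAt f F hU hV hUV (fun z => h z.1)
  · intro h x
    obtain ⟨_, ⟨V, hV, rfl⟩, hxV, -⟩ :=
      S.isBasis_affineOpens.exists_subset_of_mem_open (Set.mem_univ (f x)) isOpen_univ
    obtain ⟨_, ⟨U, hU, rfl⟩, hxU, hUV⟩ :=
      X.isBasis_affineOpens.exists_subset_of_mem_open (show x ∈ (f ⁻¹ᵁ V : X.Opens) from hxV)
        (f ⁻¹ᵁ V).isOpen
    exact (isFlatOverAt_iff_flat_stalkOver f F hV hUV ⟨x, hxU⟩).2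
      (flat_stalkOver_of_flat_sectionsOver f F hU hUV ⟨x, hxU⟩ (h U V hUV hU hV))


end


open AlgebraicGeometry CategoryTheory Opposite in
/-- Let f : X → S be a morphism of schemes and let F be an O_X-module that is quasi-coherent. Flatness
of F over S is equivalent to the following: for all affine opens U ⊆ X and V ⊆ S with U ⊆ f⁻¹V the
module F(U) is flat over O_S(V). -/
theorem result {X S : Scheme.{u}} (f : X ⟶ S) (F : X.Modules) (hF : Coh.IsQCoh F) :
    FlatMod.IsFlatOver f F ↔
      ∀ (U : X.Opens) (V : S.Opens) (hUV : U ≤ f ⁻¹ᵁ V), IsAffineOpen U → IsAffineOpen V →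
        @Module.Flat Γ(S, V) (F.val.obj (op U)) _ _ (Module.compHom (F.val.obj (op U)) (f.appLE V U hUV).hom) := by
  classical
  exact main f F hF

end Groth.Agent.S9353
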