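import Groth.Statements.S9360
import Groth.Agent.Lib.Helper6.SchDense

set_option autoImplicit false
universe u
open SchDense

namespace Groth.Agent.S9360

open AlgebraicGeometry CategoryTheory in
/-- Let U ⊆ X be a reduced open subscheme. Then the scheme-theoretic closure of U in X is X if and only
if U is scheme-theoretically dense in X (for every open W the scheme-theoretic closure of U ∩ W in W
is W); and in that case X is reduced. -/
theorem result (X : Scheme.{u}) (U : X.Opens) [IsReduced (↑U : Scheme.{u})] :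
    (IsSchemeTheoreticallyDominant U.ι ↔
        ∀ W : X.Opens, IsSchemeTheoreticallyDominant (X.homOfLE (inf_le_right : U ⊓ W ≤ W))) ∧
      (IsSchemeTheoreticallyDominant U.ι → IsReduced X) := by
  have hUW : ∀ W : X.Opens, IsReduced (↑(U ⊓ W) : Scheme.{u}) := fun W =>
    isReduced_of_isOpenImmersion (X.homOfLE (inf_le_left : U ⊓ W ≤ U))
  have hval : ∀ (W : X.Opens) (y : ↥(U ⊓ W)),
      ((X.homOfLE (inf_le_right : U ⊓ W ≤ W)) y).1 = y.1 := by
    intro W y
    rw [Scheme.homOfLE_apply]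
  have key1 : IsSchemeTheoreticallyDominant U.ι ↔ IsReduced X ∧ DenseRange U.ι :=
    Groth.Agent.Lib.Helper6.SchDense.isSchemeTheoreticallyDominant_iff U.ι
  have key2 : ∀ W : X.Opens,
      IsSchemeTheoreticallyDominant (X.homOfLE (inf_le_right : U ⊓ W ≤ W)) ↔
        IsReduced (↑W : Scheme.{u}) ∧ DenseRange (X.homOfLE (inf_le_right : U ⊓ W ≤ W)) := by
    intro W
    have := hUW W
    exact Groth.Agent.Lib.Helper6.SchDense.isSchemeTheoreticallyDominant_iff _
  refine ⟨⟨?_, ?_⟩, fun h => (key1.mp h).1⟩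
  · intro h W
    obtain ⟨hred, hdense⟩ := key1.mp h
    rw [key2 W]
    refine ⟨inferInstance, ?_⟩
    rw [DenseRange, dense_iff_inter_open]
    intro O hO hOne
    have hO' : IsOpen (Subtype.val '' O : Set X) := W.isOpen.isOpenMap_subtype_val O hO
    obtain ⟨x, hxO, ⟨u, rfl⟩⟩ := (dense_iff_inter_open.mp hdense) _ hO' (hOne.image _)
    obtain ⟨w, hwO, hw⟩ := hxO
    have hwU : w.1 ∈ U := by
      rw [hw]; exact u.2
    refine ⟨w, hwO, ⟨⟨w.1, hwU, w.2⟩, ?_⟩⟩
    apply Subtype.ext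
    rw [hval]
  · intro h
    have h' := (key2 ⊤).mp (h ⊤)
    obtain ⟨hred, hdense⟩ := h'
    rw [key1]
    refine ⟨isReduced_of_isOpenImmersion X.topIso.inv, ?_⟩
    rw [DenseRange, dense_iff_inter_open]
    intro O hO hOne
    have hO' : IsOpen ((Subtype.val : ↥(⊤ : X.Opens) → X) ⁻¹' O) := hO.preimage continuous_subtype_val
    obtain ⟨x, hx⟩ := hOne
    obtain ⟨w, hwO, ⟨y, rfl⟩⟩ := (dense_iff_inter_open.mp hdense) _ hO' ⟨⟨x, trivial⟩, hx⟩
    have h1 : y.1 ∈ O := by
      rw [← hval ⊤ y]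
      exact hwO
    exact ⟨y.1, h1, ⟨⟨y.1, y.2.1⟩, rfl⟩⟩

end Groth.Agent.S9360
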