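import Groth.Statements.S9373
-- import your own Groth.Agent.* helpers here
import Mathlib
import Groth.Agent.Lib.Helper7.CohStalk.Support

set_option autoImplicit false
universe u
open QCohSub

namespace Groth.Agent.S9373

open AlgebraicGeometry CategoryTheory in
/-- The support of a quasi-coherent O_X-module is closed under specialization. -/
theorem result (X : Scheme.{u}) (F : X.Modules) (hF : Coh.IsQCoh F) :
    StableUnderSpecialization (CohB1.support F) := by
  intro x y hxy hx
  change ¬ Subsingleton (F.presheaf.stalk x) at hx
  change ¬ Subsingleton (F.presheaf.stalk y)
  intro hy
  exact hx (Groth.Agent.Helper7.FinType.subsingleton_stalk_of_specializes F hF hxy hy)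

end Groth.Agent.S9373
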