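import Groth.Statements.S9377
import Mathlib
import Groth.Agent.Lib.Lead.CIU4
import Groth.Agent.Lib.Lead.FittSh
import Groth.Agent.Lib.Lead.AnnLoc

set_option autoImplicit false
universe u
open QCohSub

namespace Groth.Agent.S9377

section
open AlgebraicGeometry CategoryTheory Opposite

open Groth.Agent.Lead.SD Groth.Agent.Lead.FittSh

attribute [local instance] Groth.Agent.Lead.SD.basicOpenModule

variable {X : Scheme.{u}} (F : X.Modules)

theorem ann_map_basicOpen [F.IsQuasicoherent] {U : X.Opens} (hU : IsAffineOpen U)
    [Module.Finite Γ(X, U) Γ(F, U)] (f : Γ(X, U)) :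
    (Module.annihilator Γ(X, U) Γ(F, U)).map
        (X.presheaf.map (homOfLE <| X.basicOpen_le f).op).hom =
      Module.annihilator Γ(X, X.basicOpen f) Γ(F, X.basicOpen f) := by
  haveI := hU.isLocalization_basicOpen f
  haveI := isLocalizedModule_res F hU f
  exact Groth.Agent.Lead.AnnLoc.map_annihilator (S := Γ(X, X.basicOpen f))
    (Submonoid.powers f) (resₗ F f)

/-- annihilators on affine opens form an ideal sheaf -/
noncomputable def annData [F.IsQuasicoherent] (hft : CohB1.IsFT F) : X.IdealSheafData where
  ideal U := Module.annihilator Γ(X, U.1) Γ(F, U.1)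
  map_ideal_basicOpen U f := by
    haveI := Groth.Agent.Lead.FLF.ft_sections F hft U.2
    exact ann_map_basicOpen F U.2 f

theorem exists_affine (S : Scheme.{u}) (s : S) : ∃ U : S.Opens, IsAffineOpen U ∧ s ∈ U := by
  obtain ⟨_, ⟨U, hU, rfl⟩, hsU, -⟩ :=
    S.isBasis_affineOpens.exists_subset_of_mem_open (Set.mem_univ s) isOpen_univ
  exact ⟨U, hU, hsU⟩

theorem main (X : Scheme.{u}) (F : X.Modules) (hq : Coh.IsQCoh F) (hft : CohB1.IsFT F) :
    ∃ J : X.IdealSheafData,
      (∀ U : X.affineOpens, J.ideal U = Module.annihilator Γ(X, U.1) Γ(F, U.1)) ∧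
        IsIso ((Scheme.Modules.pullbackPushforwardAdjunction J.subschemeι).unit.app F) ∧
          (∀ J' : X.IdealSheafData, IsIso ((Scheme.Modules.pullbackPushforwardAdjunction J'.subschemeι).unit.app F) → J' ≤ J) ∧
            (J.support : Set ↑X) = CohB1.support F := by
  haveI : F.IsQuasicoherent := hq
  refine ⟨annData F hft, fun U => rfl, ?_, ?_, ?_⟩
  · apply Groth.Agent.Lead.CIU.isIso_unit_of_killed_global
    intro U hU a ha m
    rw [Scheme.IdealSheafData.ker_subschemeι_app _ ⟨U, hU⟩] at ha
    exact Module.mem_annihilator.1 ha m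
  · intro J' hJ'
    rw [Scheme.IdealSheafData.le_def]
    intro U a ha
    show a ∈ Module.annihilator Γ(X, U.1) Γ(F, U.1)
    rw [Module.mem_annihilator]
    intro m
    rw [← Scheme.IdealSheafData.ker_subschemeι_app J' U, RingHom.mem_ker] at ha
    exact Groth.Agent.Lead.CIU.killed_of_isIso_unit J'.subschemeι F hJ' U.1 a ha m
  · ext s
    obtain ⟨U, hU, hsU⟩ := exists_affine X s
    haveI := Groth.Agent.Lead.FLF.ft_sections F hft hU
    have h1 := mem_support_iff_le (annData F hft) hU ⟨s, hsU⟩
    have h2 := subsingleton_stalk_iff F hU ⟨s, hsU⟩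
    rw [Module.mem_support_iff_of_finite] at h2
    show s ∈ (annData F hft).support ↔ ¬ Subsingleton (F.presheaf.stalk s)
    rw [h2, not_not]
    exact h1


end


open AlgebraicGeometry CategoryTheory Opposite in
/-- A finite type quasi-coherent O_X-module F has a scheme-theoretic support: a closed subscheme Z
(ideal sheaf J), cut out on each affine open U by the annihilator of F(U), such that F ≅ i_* i^* F
via the unit, any other closed subscheme for which this unit is an isomorphism contains Z (i.e. its
ideal sheaf lies below J), and Z has the same underlying set as Supp(F). (The published statement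
also says that the O_Z-module G with i_*G ≅ F is unique up to unique isomorphism and of finite type;
those clauses are not stated here.) -/
theorem result (X : Scheme.{u}) (F : X.Modules) (hq : Coh.IsQCoh F) (hft : CohB1.IsFT F) :
    ∃ J : X.IdealSheafData,
      (∀ U : X.affineOpens, J.ideal U = Module.annihilator Γ(X, U.1) Γ(F, U.1)) ∧
        IsIso ((Scheme.Modules.pullbackPushforwardAdjunction J.subschemeι).unit.app F) ∧
          (∀ J' : X.IdealSheafData, IsIso ((Scheme.Modules.pullbackPushforwardAdjunction J'.subschemeι).unit.app F) → J' ≤ J) ∧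
            (J.support : Set ↑X) = CohB1.support F := by
  classical
  exact main X F hq hft

end Groth.Agent.S9377
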