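import Groth.Statements.S9382
import Mathlib

set_option autoImplicit false
universe u
open QCohSub

namespace Groth.Agent.S9382

open AlgebraicGeometry CategoryTheory in
/-- For closed subschemes Z, Y ⊆ X with ideal sheaves I, J, the scheme-theoretic intersection (ideal
sheaf I ⊔ J) together with its inclusions into Z and Y forms a cartesian square over X. -/
theorem result (X : Scheme.{u}) (I J : X.IdealSheafData) :
    IsPullback (Scheme.IdealSheafData.inclusion (le_sup_left : I ≤ I ⊔ J))
      (Scheme.IdealSheafData.inclusion (le_sup_right : J ≤ I ⊔ J)) I.subschemeι J.subschemeι := by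
  refine ⟨⟨by rw [Scheme.IdealSheafData.inclusion_subschemeι,
    Scheme.IdealSheafData.inclusion_subschemeι]⟩, ⟨?_⟩⟩
  have hker : ∀ s : Limits.PullbackCone I.subschemeι J.subschemeι,
      (I ⊔ J).subschemeι.ker ≤ (s.fst ≫ I.subschemeι).ker := by
    intro s
    rw [Scheme.IdealSheafData.ker_subschemeι]
    apply sup_le
    · calc I = I.subschemeι.ker := (Scheme.IdealSheafData.ker_subschemeι I).symm
        _ ≤ (s.fst ≫ I.subschemeι).ker := Scheme.Hom.le_ker_comp _ _
    · rw [s.condition]
      calc J = J.subschemeι.ker := (Scheme.IdealSheafData.ker_subschemeι J).symm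
        _ ≤ (s.snd ≫ J.subschemeι).ker := Scheme.Hom.le_ker_comp _ _
  refine Limits.PullbackCone.IsLimit.mk _
    (fun s => IsClosedImmersion.lift (I ⊔ J).subschemeι (s.fst ≫ I.subschemeι) (hker s)) ?_ ?_ ?_
  · intro s
    rw [← cancel_mono I.subschemeι, Category.assoc, Scheme.IdealSheafData.inclusion_subschemeι,
      IsClosedImmersion.lift_fac]
  · intro s
    rw [← cancel_mono J.subschemeι, Category.assoc, Scheme.IdealSheafData.inclusion_subschemeι,
      IsClosedImmersion.lift_fac, s.condition]
  · intro s m h1 _
    rw [← cancel_mono (I ⊔ J).subschemeι, IsClosedImmersion.lift_fac,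
      ← Scheme.IdealSheafData.inclusion_subschemeι (le_sup_left : I ≤ I ⊔ J), ← Category.assoc, h1]

end Groth.Agent.S9382
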