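import Groth.Statements.S9383
import Mathlib
import Groth.Agent.Lib.Helper9.Ferrand.Sch
-- import your own Groth.Agent.* helpers here

set_option autoImplicit false
universe u
open QCohSub

namespace Groth.Agent.S9383

open AlgebraicGeometry CategoryTheory Limits
namespace Aux

open H9Ferrand

/-- The Milnor square `Γ/(a ⊓ b) → Γ/a × Γ/b → Γ/(a ⊔ b)`. -/
noncomputable def ofIdeals {Γ : Type u} [CommRing Γ] (a b : Ideal Γ) :
    MSq (Γ ⧸ a ⊓ b) (Γ ⧸ a) (Γ ⧸ b) (Γ ⧸ a ⊔ b) where
  f := Ideal.Quotient.factor inf_le_left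
  g := Ideal.Quotient.factor inf_le_right
  q := Ideal.Quotient.factor le_sup_left
  p := Ideal.Quotient.factor le_sup_right
  comm := by
    apply Ideal.Quotient.ringHom_ext
    ext x
    simp
  surj := Ideal.Quotient.factor_surjective _
  pb := by
    intro x y h
    obtain ⟨x, rfl⟩ := Ideal.Quotient.mk_surjective x
    obtain ⟨y, rfl⟩ := Ideal.Quotient.mk_surjective y
    simp only [Ideal.Quotient.factor_mk] at h
    rw [Ideal.Quotient.eq, Submodule.mem_sup] at h
    obtain ⟨α, hα, β, hβ, hαβ⟩ := h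
    refine ⟨Ideal.Quotient.mk _ (x - α), ⟨?_, ?_⟩, ?_⟩
    · rw [Ideal.Quotient.factor_mk, Ideal.Quotient.eq]
      simpa using a.neg_mem hα
    · rw [Ideal.Quotient.factor_mk, Ideal.Quotient.eq]
      have : x - α - y = β := by linear_combination -hαβ
      rw [this]; exact hβ
    · rintro z ⟨hz1, hz2⟩
      obtain ⟨z, rfl⟩ := Ideal.Quotient.mk_surjective z
      rw [Ideal.Quotient.factor_mk, Ideal.Quotient.eq] at hz1 hz2
      rw [Ideal.Quotient.eq]
      refine ⟨?_, ?_⟩
      · have : z - (x - α) = (z - x) + α := by ring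
        rw [this]; exact a.add_mem hz1 hα
      · have : z - (x - α) = (z - y) - β := by linear_combination hαβ
        rw [this]; exact b.sub_mem hz2 hβ

open Scheme IdealSheafData

variable (S : Scheme.{u}) (I J : S.IdealSheafData)

/-- the local Milnor square on an affine open -/
noncomputable def Msq (U : S.affineOpens) :
    MSq (Γ(S, U) ⧸ (I ⊓ J).ideal U) (Γ(S, U) ⧸ I.ideal U) (Γ(S, U) ⧸ J.ideal U)
      (Γ(S, U) ⧸ (I ⊔ J).ideal U) :=
  ofIdeals (I.ideal U) (J.ideal U)

/-- the chart of the subscheme over an affine open -/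
noncomputable def cf (K : S.IdealSheafData) (U : S.affineOpens) :
    Spec (CommRingCat.of (Γ(S, U) ⧸ K.ideal U)) ⟶ K.subscheme := K.subschemeCover.f U

instance (K : S.IdealSheafData) (U : S.affineOpens) : IsOpenImmersion (cf S K U) :=
  K.subschemeCover.map_prop U

lemma cf_opensRange (K : S.IdealSheafData) (U : S.affineOpens) :
    (cf S K U).opensRange = K.subschemeι ⁻¹ᵁ U.1 :=
  K.opensRange_subschemeCover_map U

lemma jB_cover (U : S.affineOpens) :
    (Msq S I J U).jB ≫ cf S (I ⊓ J) U = cf S I U ≫ inclusion (inf_le_left : I ⊓ J ≤ I) :=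
  (subSchemeCover_map_inclusion (inf_le_left : I ⊓ J ≤ I) U).symm

lemma jA'_cover (U : S.affineOpens) :
    (Msq S I J U).jA' ≫ cf S (I ⊓ J) U = cf S J U ≫ inclusion (inf_le_right : I ⊓ J ≤ J) :=
  (subSchemeCover_map_inclusion (inf_le_right : I ⊓ J ≤ J) U).symm

lemma kB_cover (U : S.affineOpens) :
    (Msq S I J U).kB ≫ cf S I U = cf S (I ⊔ J) U ≫ inclusion (le_sup_left : I ≤ I ⊔ J) :=
  (subSchemeCover_map_inclusion (le_sup_left : I ≤ I ⊔ J) U).symm

lemma kA'_cover (U : S.affineOpens) :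
    (Msq S I J U).kA' ≫ cf S J U = cf S (I ⊔ J) U ≫ inclusion (le_sup_right : J ≤ I ⊔ J) :=
  (subSchemeCover_map_inclusion (le_sup_right : J ≤ I ⊔ J) U).symm

theorem hom_ext' {T : Scheme.{u}} (γ γ' : (I ⊓ J).subscheme ⟶ T)
    (h1 : inclusion (inf_le_left : I ⊓ J ≤ I) ≫ γ = inclusion (inf_le_left : I ⊓ J ≤ I) ≫ γ')
    (h2 : inclusion (inf_le_right : I ⊓ J ≤ J) ≫ γ = inclusion (inf_le_right : I ⊓ J ≤ J) ≫ γ') :
    γ = γ' := by
  apply (I ⊓ J).subschemeCover.openCover.hom_ext
  intro (U : S.affineOpens)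
  show cf S (I ⊓ J) U ≫ γ = cf S (I ⊓ J) U ≫ γ'
  apply (Msq S I J U).hom_ext
  · rw [← Category.assoc, ← Category.assoc, jB_cover, Category.assoc, Category.assoc, h1]
  · rw [← Category.assoc, ← Category.assoc, jA'_cover, Category.assoc, Category.assoc, h2]

/-- the affine chart cover of a closed subscheme -/
noncomputable def kcov (K : S.IdealSheafData) : K.subscheme.OpenCover := K.subschemeCover.openCover

noncomputable instance (K : S.IdealSheafData) : Preorder (kcov S K).I₀ :=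
  Preorder.lift (fun U : S.affineOpens => K.subschemeι ⁻¹ᵁ U.1)

lemma kcov_f (K : S.IdealSheafData) (U : S.affineOpens) : (kcov S K).f U = cf S K U := rfl

noncomputable instance (K : S.IdealSheafData) : (kcov S K).LocallyDirected :=
  .ofIsBasisOpensRange
    (by
      intro (U : S.affineOpens) (V : S.affineOpens)
      show K.subschemeι ⁻¹ᵁ U.1 ≤ K.subschemeι ⁻¹ᵁ V.1 ↔
        (cf S K U).opensRange ≤ (cf S K V).opensRange
      rw [cf_opensRange, cf_opensRange])
    (by
      rw [TopologicalSpace.Opens.isBasis_iff_nbhd]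
      intro V x hx
      obtain ⟨V', hV', hVV'⟩ := K.subschemeι.isEmbedding.isInducing.isOpen_iff.mp V.2
      have hx' : K.subschemeι x ∈ (⟨V', hV'⟩ : S.Opens) := by
        show x ∈ K.subschemeι ⁻¹' V'
        rw [hVV']; exact hx
      obtain ⟨U, hU, hxU, hUV⟩ := TopologicalSpace.Opens.isBasis_iff_nbhd.mp S.isBasis_affineOpens hx'
      refine ⟨K.subschemeι ⁻¹ᵁ U, ⟨⟨U, hU⟩, ?_⟩, hxU, ?_⟩
      · show (cf S K ⟨U, hU⟩).opensRange = _
        rw [cf_opensRange]
      · intro y hy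
        have : K.subschemeι y ∈ V' := hUV hy
        have : y ∈ K.subschemeι ⁻¹' V' := this
        rw [hVV'] at this
        exact this)

theorem glue_sub (K : S.IdealSheafData) {T : Scheme.{u}}
    (g : ∀ U : S.affineOpens, Spec (CommRingCat.of (Γ(S, U) ⧸ K.ideal U)) ⟶ T)
    (hg : ∀ (U V : S.affineOpens)
      (t : Spec (CommRingCat.of (Γ(S, U) ⧸ K.ideal U)) ⟶ Spec (CommRingCat.of (Γ(S, V) ⧸ K.ideal V))),
      t ≫ cf S K V = cf S K U → t ≫ g V = g U) :
    ∃ γ : K.subscheme ⟶ T, ∀ U : S.affineOpens, cf S K U ≫ γ = g U := by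
  refine ⟨(kcov S K).glueMorphismsOfLocallyDirected g
    (fun {U V} hUV => hg U V _ ((kcov S K).trans_map hUV)), fun U => ?_⟩
  exact (kcov S K).map_glueMorphismsOfLocallyDirected g _ U

lemma preimage_le_of_comp (K : S.IdealSheafData) (U V : S.affineOpens)
    (t : Spec (CommRingCat.of (Γ(S, U) ⧸ K.ideal U)) ⟶ Spec (CommRingCat.of (Γ(S, V) ⧸ K.ideal V)))
    (ht : t ≫ cf S K V = cf S K U) : K.subschemeι ⁻¹ᵁ U.1 ≤ K.subschemeι ⁻¹ᵁ V.1 := by
  rw [← cf_opensRange, ← cf_opensRange]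
  rintro _ ⟨z, rfl⟩
  refine ⟨t z, ?_⟩
  rw [← Scheme.Hom.comp_apply, ht]

lemma range_cf_subset {K K' : S.IdealSheafData} (hK : K ≤ K') (U V : S.affineOpens)
    (hle : K.subschemeι ⁻¹ᵁ U.1 ≤ K.subschemeι ⁻¹ᵁ V.1) :
    Set.range (cf S K' U) ⊆ Set.range (cf S K' V) := by
  have h1 : Set.range (cf S K' U) = ((cf S K' U).opensRange : Set _) := rfl
  have h2 : Set.range (cf S K' V) = ((cf S K' V).opensRange : Set _) := rfl
  rw [h1, h2, cf_opensRange, cf_opensRange]
  intro y hy
  have e : K'.subschemeι y = K.subschemeι (inclusion hK y) := by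
    rw [← Scheme.Hom.comp_apply, inclusion_subschemeι]
  have hy' : K'.subschemeι y ∈ U.1 := hy
  rw [e] at hy'
  have := hle hy'
  show K'.subschemeι y ∈ V.1
  rw [e]
  exact this

theorem exists_desc' {T : Scheme.{u}} (β₁ : I.subscheme ⟶ T) (β₂ : J.subscheme ⟶ T)
    (h : inclusion (le_sup_left : I ≤ I ⊔ J) ≫ β₁ = inclusion (le_sup_right : J ≤ I ⊔ J) ≫ β₂) :
    ∃ γ : (I ⊓ J).subscheme ⟶ T, inclusion (inf_le_left : I ⊓ J ≤ I) ≫ γ = β₁ ∧
      inclusion (inf_le_right : I ⊓ J ≤ J) ≫ γ = β₂ := by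
  have hex : ∀ U : S.affineOpens, ∃ γ : Spec (CommRingCat.of (Γ(S, U) ⧸ (I ⊓ J).ideal U)) ⟶ T,
      (Msq S I J U).jB ≫ γ = cf S I U ≫ β₁ ∧ (Msq S I J U).jA' ≫ γ = cf S J U ≫ β₂ := by
    intro U
    apply (Msq S I J U).exists_desc_hom
    rw [← Category.assoc, ← Category.assoc, kB_cover, kA'_cover, Category.assoc, Category.assoc, h]
  choose g hg1 hg2 using hex
  obtain ⟨γ, hγ⟩ := glue_sub S (I ⊓ J) g (by
    intro U V t ht
    have hle := preimage_le_of_comp S (I ⊓ J) U V t ht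
    apply (Msq S I J U).hom_ext
    · let Λ : Spec (CommRingCat.of (Γ(S, U) ⧸ I.ideal U)) ⟶ Spec (CommRingCat.of (Γ(S, V) ⧸ I.ideal V)) :=
        IsOpenImmersion.lift (cf S I V) (cf S I U) (range_cf_subset S inf_le_left U V hle)
      have hΛ : Λ ≫ cf S I V = cf S I U := IsOpenImmersion.lift_fac _ _ _
      have e : Λ ≫ (Msq S I J V).jB = (Msq S I J U).jB ≫ t := by
        rw [← cancel_mono (cf S (I ⊓ J) V), Category.assoc, Category.assoc, jB_cover, ht, jB_cover,
          ← Category.assoc, hΛ]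
      rw [← Category.assoc, ← e, Category.assoc, hg1, hg1, ← Category.assoc, hΛ]
    · let Λ : Spec (CommRingCat.of (Γ(S, U) ⧸ J.ideal U)) ⟶ Spec (CommRingCat.of (Γ(S, V) ⧸ J.ideal V)) :=
        IsOpenImmersion.lift (cf S J V) (cf S J U) (range_cf_subset S inf_le_right U V hle)
      have hΛ : Λ ≫ cf S J V = cf S J U := IsOpenImmersion.lift_fac _ _ _
      have e : Λ ≫ (Msq S I J V).jA' = (Msq S I J U).jA' ≫ t := by
        rw [← cancel_mono (cf S (I ⊓ J) V), Category.assoc, Category.assoc, jA'_cover, ht, jA'_cover,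
          ← Category.assoc, hΛ]
      rw [← Category.assoc, ← e, Category.assoc, hg2, hg2, ← Category.assoc, hΛ])
  refine ⟨γ, ?_, ?_⟩
  · apply I.subschemeCover.openCover.hom_ext
    intro (U : S.affineOpens)
    show cf S I U ≫ inclusion _ ≫ γ = cf S I U ≫ β₁
    rw [← Category.assoc, ← jB_cover, Category.assoc, hγ U, hg1]
  · apply J.subschemeCover.openCover.hom_ext
    intro (U : S.affineOpens)
    show cf S J U ≫ inclusion _ ≫ γ = cf S J U ≫ β₂
    rw [← Category.assoc, ← jA'_cover, Category.assoc, hγ U, hg2]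

theorem main : IsPushout (Scheme.IdealSheafData.inclusion (le_sup_left : I ≤ I ⊔ J))
      (Scheme.IdealSheafData.inclusion (le_sup_right : J ≤ I ⊔ J))
      (Scheme.IdealSheafData.inclusion (inf_le_left : I ⊓ J ≤ I))
      (Scheme.IdealSheafData.inclusion (inf_le_right : I ⊓ J ≤ J)) := by
  have w : inclusion (le_sup_left : I ≤ I ⊔ J) ≫ inclusion (inf_le_left : I ⊓ J ≤ I) =
      inclusion (le_sup_right : J ≤ I ⊔ J) ≫ inclusion (inf_le_right : I ⊓ J ≤ J) := by
    rw [inclusion_comp, inclusion_comp]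
  refine ⟨⟨w⟩, ⟨PushoutCocone.IsColimit.mk _
    (fun s => (exists_desc' S I J s.inl s.inr s.condition).choose)
    (fun s => (exists_desc' S I J s.inl s.inr s.condition).choose_spec.1)
    (fun s => (exists_desc' S I J s.inl s.inr s.condition).choose_spec.2)
    (fun s m h1 h2 => hom_ext' S I J _ _
      (h1.trans (exists_desc' S I J s.inl s.inr s.condition).choose_spec.1.symm)
      (h2.trans (exists_desc' S I J s.inl s.inr s.condition).choose_spec.2.symm))⟩⟩

end Aux

open AlgebraicGeometry CategoryTheory in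
/-- For closed subschemes X, Y ⊆ S with ideal sheaves I, J, the scheme-theoretic union (ideal sheaf I ⊓
J) is the pushout, in the category of schemes, of X and Y along the scheme-theoretic intersection
(ideal sheaf I ⊔ J). The exact sequence 0 → O_{X∪Y} → O_X × O_Y → O_{X∩Y} → 0 is not stated. -/
theorem result (S : Scheme.{u}) (I J : S.IdealSheafData) :
    IsPushout (Scheme.IdealSheafData.inclusion (le_sup_left : I ≤ I ⊔ J))
      (Scheme.IdealSheafData.inclusion (le_sup_right : J ≤ I ⊔ J))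
      (Scheme.IdealSheafData.inclusion (inf_le_left : I ⊓ J ≤ I))
      (Scheme.IdealSheafData.inclusion (inf_le_right : I ⊓ J ≤ J)) := by
  exact Aux.main S I J

end Groth.Agent.S9383
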