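import Groth.Statements.S9389
import Mathlib
import Groth.Agent.S9335

set_option autoImplicit false
universe u
open QFin

namespace Groth.Agent.S9389

open AlgebraicGeometry CategoryTheory CategoryTheory.Limits

/-- openness of a point of the fibre in terms of opens of `X` -/
theorem isOpen_fiber_point_iff {X S : Scheme.{u}} (f : X ⟶ S) (s : S) (x : X) (hxs : f x = s) :
    IsOpen ({(f.fiberHomeo s).symm ⟨x, hxs⟩} : Set (f.fiber s)) ↔
      ∃ v : Set X, IsOpen v ∧ v ∩ f ⁻¹' {s} = {x} := by
  have h0 : IsOpen ({(f.fiberHomeo s).symm ⟨x, hxs⟩} : Set (f.fiber s)) ↔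
      IsOpen ({⟨x, hxs⟩} : Set (f ⁻¹' {s})) := by
    rw [← (f.fiberHomeo s).isOpen_image, Set.image_singleton, Homeomorph.apply_symm_apply]
  rw [h0, isOpen_induced_iff]
  constructor
  · rintro ⟨v, hv, hv2⟩
    refine ⟨v, hv, ?_⟩
    ext w
    constructor
    · rintro ⟨hwv, hws⟩
      have : (⟨w, hws⟩ : f ⁻¹' {s}) ∈ Subtype.val ⁻¹' v := hwv
      rw [hv2] at this
      exact congrArg Subtype.val this
    · rintro rfl
      have : (⟨w, hxs⟩ : f ⁻¹' {s}) ∈ Subtype.val ⁻¹' v := by rw [hv2]; rfl
      exact ⟨this, hxs⟩
  · rintro ⟨v, hv, hv2⟩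
    refine ⟨v, hv, ?_⟩
    ext ⟨w, hws⟩
    simp only [Set.mem_preimage, Set.mem_singleton_iff]
    constructor
    · intro hwv
      have : w ∈ v ∩ f ⁻¹' {s} := ⟨hwv, hws⟩
      rw [hv2] at this
      exact Subtype.ext this
    · intro hwx
      have hwx' : w = x := congrArg Subtype.val hwx
      subst hwx'
      have : w ∈ v ∩ f ⁻¹' {s} := by rw [hv2]; rfl
      exact this.1

open AlgebraicGeometry CategoryTheory in
/-- For f : X → S locally of finite type and a cartesian square with base change f' : X' → S', g' : X' →
X, the quasi-finite locus of f' is the inverse image under g' of the quasi-finite locus of f. -/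
theorem result {X S X' S' : Scheme.{u}} (f : X ⟶ S) [LocallyOfFiniteType f] (g : S' ⟶ S)
    (g' : X' ⟶ X) (f' : X' ⟶ S') (hsq : IsPullback g' f' f g) :
    {x' : ↑X' | f'.QuasiFiniteAt x'} = g'.base ⁻¹' {x : ↑X | f.QuasiFiniteAt x} := by
  have hlft' : LocallyOfFiniteType f' := MorphismProperty.of_isPullback hsq inferInstance
  ext x'
  simp only [Set.mem_ofPred_eq, Set.mem_preimage]
  rw [Scheme.Hom.quasiFiniteAt_iff_isOpen_singleton_asFiber,
    Scheme.Hom.quasiFiniteAt_iff_isOpen_singleton_asFiber]
  have hw : f.base (g'.base x') = g.base (f'.base x') := by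
    have := congrArg (fun φ : X' ⟶ S => φ.base x') hsq.w
    simpa using this
  set s' := f'.base x' with hs'
  set z : f.fiber (g.base s') := (f.fiberHomeo (g.base s')).symm ⟨g'.base x', hw⟩ with hz
  -- transport
  have htr : IsOpen ({f.asFiber (g'.base x')} : Set ↑(f.fiber (f.base (g'.base x')))) ↔
      IsOpen ({z} : Set (f.fiber (g.base s'))) := by
    have h1 := isOpen_fiber_point_iff f (f.base (g'.base x')) (g'.base x') rfl
    have h2 := isOpen_fiber_point_iff f (g.base s') (g'.base x') hw
    rw [hz, h2]
    refine h1.trans ?_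
    rw [hw]
  rw [htr]
  -- the fibre square
  have P := isPullback_fiberToSpecResidueField_of_isPullback hsq s'
  set h : f'.fiber s' ⟶ f.fiber (g.base s') :=
    pullback.map _ _ _ _ g' (Spec.map (g.residueFieldMap s')) g hsq.w.symm (by simp) with hh
  set z' := f'.asFiber x' with hz'
  have hhz : h.base z' = z := by
    apply (f.fiberι (g.base s')).isEmbedding.injective
    have h1 : h ≫ f.fiberι (g.base s') = f'.fiberι s' ≫ g' := by
      simp only [hh, Scheme.Hom.fiberι, pullback.map]
      exact pullback.lift_fst _ _ _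
    have h2 := congrArg (fun φ : f'.fiber s' ⟶ X => φ.base z') h1
    simp only [Scheme.Hom.comp_base, TopCat.hom_comp, ContinuousMap.comp_apply] at h2
    rw [h2, hz, Scheme.Hom.fiberι_fiberHomeo_symm]
    change g'.base ((f'.fiberι (f'.base x')).base (f'.asFiber x')) = g'.base x'
    rw [Scheme.Hom.fiberι_asFiber]
  constructor
  · intro ho
    have hUO : UniversallyOpen h :=
      MorphismProperty.of_isPullback (P := @UniversallyOpen) P.flip inferInstance
    have := h.isOpenMap _ ho
    rw [Set.image_singleton, hhz] at this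
    exact this
  · intro ho
    have hlft : LocallyOfFiniteType (f.fiberToSpecResidueField (g.base s')) :=
      Groth.Agent.S9335.lft_fiber f (g.base s')
    have hzc : IsClosed ({z} : Set (f.fiber (g.base s'))) :=
      isClosed_singleton_of_isLocallyClosed_singleton ho.isLocallyClosed
    let i := (f.fiber (g.base s')).fromSpecResidueField z
    have hi : IsClosedImmersion i := isClosed_singleton_iff_isClosedImmersion.mp hzc
    have hfin : IsFinite (i ≫ f.fiberToSpecResidueField (g.base s')) :=
      isFinite_iff_locallyOfFiniteType_of_jacobsonSpace.mpr inferInstance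
    have sq1 : IsPullback (pullback.snd i h) (pullback.fst i h) h i :=
      (IsPullback.of_hasPullback i h).flip
    have sq2 := sq1.paste_horiz P.flip
    have hfin2 : IsFinite (pullback.snd i h ≫ f'.fiberToSpecResidueField s') :=
      MorphismProperty.of_isPullback (P := @IsFinite) sq2.flip hfin
    have hLA : IsLocallyArtinian (pullback i h) :=
      IsLocallyArtinian.of_locallyQuasiFinite (pullback.snd i h ≫ f'.fiberToSpecResidueField s')
    have hdisc : DiscreteTopology ↥(pullback i h : Scheme.{u}) := inferInstance
    have hcl : IsClosedImmersion (pullback.snd i h) := inferInstance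
    have hr : Set.range (pullback.snd i h) = h.base ⁻¹' {z} := by
      rw [Scheme.Pullback.range_snd, Scheme.range_fromSpecResidueField]
    have hrange : z' ∈ Set.range (pullback.snd i h) := by
      rw [hr, Set.mem_preimage, hhz]
      rfl
    obtain ⟨t, ht⟩ := hrange
    have hoe : Topology.IsOpenEmbedding (pullback.snd i h) := by
      refine ⟨(pullback.snd i h).isClosedEmbedding.isEmbedding, ?_⟩
      rw [hr]
      exact ho.preimage h.continuous
    have h3 : IsOpen ((pullback.snd i h) '' {t}) := hoe.isOpenMap _ (isOpen_discrete _)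
    rw [Set.image_singleton, ht] at h3
    exact h3

end Groth.Agent.S9389
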