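import Groth.Statements.S9400
import Mathlib
import Groth.Prelude.Def_Found
import Groth.Agent.Lib.Helper6.Japanese
-- import your own Groth.Agent.* helpers here

set_option autoImplicit false
universe u
open CAlg

namespace Groth.Agent.S9400

namespace Aux

open Groth.Agent.Lib.Helper6.Japanese

theorem noeth (R : Type u) [CommRing R]
    {ι : Type u} [Finite ι] (f : ι → R) (hf : Ideal.span (Set.range f) = ⊤)
    (h : ∀ i, IsNoetherianRing (Localization.Away (f i))) : IsNoetherianRing R := by
  classical
  have := Fintype.ofFinite ι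
  apply AlgebraicGeometry.isNoetherianRing_of_away (Finset.univ.image f)
  · rw [Finset.coe_image, Finset.coe_univ, Set.image_univ]; exact hf
  · rintro ⟨s, hs⟩
    obtain ⟨i, -, rfl⟩ := Finset.mem_image.mp hs
    exact h i

theorem main (R : Type u) [CommRing R]
    {ι : Type u} [Finite ι] (f : ι → R) (hf : Ideal.span (Set.range f) = ⊤)
    (h : ∀ i, CAlg.IsNagata (Localization.Away (f i))) : CAlg.IsNagata R := by
  refine ⟨noeth R f hf (fun i => (h i).1), fun p _ => ?_⟩
  let ι' : Type u := {i : ι // f i ∉ p}
  let g : ι' → R ⧸ p := fun i => Ideal.Quotient.mk p (f i.1)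
  have hg : Ideal.span (Set.range g) = ⊤ := by
    have h1 : Ideal.span (Set.range (fun i => Ideal.Quotient.mk p (f i))) = ⊤ := by
      have : Set.range (fun i => Ideal.Quotient.mk p (f i)) = (Ideal.Quotient.mk p) '' Set.range f := by
        rw [← Set.range_comp]; rfl
      rw [this, ← Ideal.map_span, hf, Ideal.map_top]
    rw [← top_le_iff, ← h1, Ideal.span_le]
    rintro _ ⟨i, rfl⟩
    by_cases hi : f i ∈ p
    · show Ideal.Quotient.mk p (f i) ∈ _
      rw [Ideal.Quotient.eq_zero_iff_mem.mpr hi]; exact Ideal.zero_mem _
    · exact Ideal.subset_span ⟨⟨i, hi⟩, rfl⟩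
  have hprime : ∀ i : ι', (p.map (algebraMap R (Localization.Away (f i.1)))).IsPrime := by
    intro i
    apply IsLocalization.isPrime_of_isPrime_disjoint (Submonoid.powers (f i.1)) _ p inferInstance
    rw [Set.disjoint_left]
    rintro x ⟨n, rfl⟩ hx
    exact i.2 (Ideal.IsPrime.mem_of_pow_mem inferInstance n hx)
  have hloc : ∀ i : ι', IsLocalization.Away (g i)
      (Localization.Away (f i.1) ⧸ p.map (algebraMap R (Localization.Away (f i.1)))) := by
    intro i
    have h1 : IsLocalization (Algebra.algebraMapSubmonoid (R ⧸ p) (Submonoid.powers (f i.1)))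
      (Localization.Away (f i.1) ⧸ p.map (algebraMap R (Localization.Away (f i.1)))) := inferInstance
    have h2 : Algebra.algebraMapSubmonoid (R ⧸ p) (Submonoid.powers (f i.1)) =
        Submonoid.powers (g i) := by
      show (Submonoid.powers (f i.1)).map (algebraMap R (R ⧸ p)) = _
      rw [Submonoid.map_powers]; rfl
    rw [h2] at h1
    exact h1
  exact n2_cover (R ⧸ p) g hg
    (fun i => Localization.Away (f i.1) ⧸ p.map (algebraMap R (Localization.Away (f i.1))))
    (fun i => (h i.1).2 _)

end Aux

/-- Being a Nagata ring can be checked on a finite cover of Spec R by principal opens. -/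
theorem result (R : Type u) [CommRing R]
    {ι : Type u} [Finite ι] (f : ι → R) (hf : Ideal.span (Set.range f) = ⊤)
    (h : ∀ i, CAlg.IsNagata (Localization.Away (f i))) : CAlg.IsNagata R := by
  exact Aux.main R f hf h

end Groth.Agent.S9400
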