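import Groth.Statements.S9403
import Mathlib

set_option autoImplicit false
universe u
open CAlg

namespace Groth.Agent.S9403

section

open KaehlerDifferential

theorem main (R : Type u) [CommRing R]
    (S : Type u) [CommRing S] [IsLocalRing S] [IsNoetherianRing S] [Algebra R S] [Algebra ℚ S]
    (f : S) (θ : Ω[S⁄R] →ₗ[S] S) (hθ : θ (KaehlerDifferential.D R S f) = 1) :
    f ∈ nonZeroDivisors S := by
  let D : Derivation R S S := θ.compDer (KaehlerDifferential.D R S)
  have hDf : D f = 1 := hθ
  rw [mem_nonZeroDivisors_iff_right]
  intro a ha
  by_cases hu : IsUnit f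
  · exact (hu.mul_left_eq_zero).1 ha
  -- the descent
  have key : ∀ n : ℕ, ∃ b : S, a = b * f ^ n ∧ b * f ^ (n + 1) = 0 := by
    intro n
    induction n with
    | zero => exact ⟨a, by simp, by simpa using ha⟩
    | succ n ih =>
      obtain ⟨b, hb1, hb2⟩ := ih
      have h1 : D (b * f ^ (n + 1)) = 0 := by rw [hb2, map_zero]
      rw [Derivation.leibniz, Derivation.leibniz_pow, hDf] at h1
      simp only [smul_eq_mul, Nat.add_sub_cancel, nsmul_eq_mul, mul_one] at h1
      -- h1 : b * ((n+1) * f^n) + f^(n+1) * D b = 0
      set c : S := algebraMap ℚ S (((n : ℚ) + 1)⁻¹) with hc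
      have hc1 : ((n : S) + 1) * c = 1 := by
        have : ((n : S) + 1) = algebraMap ℚ S ((n : ℚ) + 1) := by
          rw [map_add, map_natCast, map_one]
        rw [this, hc, ← map_mul, mul_inv_cancel₀ (by positivity), map_one]
      refine ⟨-(c * D b), ?_, ?_⟩
      · have h2 : b * f ^ n = -(c * D b) * f ^ (n + 1) := by
          have h3 : ((n : S) + 1) * (b * f ^ n) = - (f ^ (n + 1) * D b) := by
            push_cast at h1
            linear_combination h1
          calc b * f ^ n = (((n : S) + 1) * c) * (b * f ^ n) := by rw [hc1, one_mul]
            _ = c * (((n : S) + 1) * (b * f ^ n)) := by ring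
            _ = c * (-(f ^ (n + 1) * D b)) := by rw [h3]
            _ = -(c * D b) * f ^ (n + 1) := by ring
        rw [hb1, h2]
      · have h2 : b * f ^ n = -(c * D b) * f ^ (n + 1) := by
          have h3 : ((n : S) + 1) * (b * f ^ n) = - (f ^ (n + 1) * D b) := by
            push_cast at h1
            linear_combination h1
          calc b * f ^ n = (((n : S) + 1) * c) * (b * f ^ n) := by rw [hc1, one_mul]
            _ = c * (((n : S) + 1) * (b * f ^ n)) := by ring
            _ = c * (-(f ^ (n + 1) * D b)) := by rw [h3]
            _ = -(c * D b) * f ^ (n + 1) := by ring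
        have : -(c * D b) * f ^ (n + 1 + 1) = (-(c * D b) * f ^ (n + 1)) * f := by ring
        rw [this, ← h2, ← hb1, ha]
  have hI : Ideal.span {f} ≠ (⊤ : Ideal S) := by
    rw [Ne, Ideal.span_singleton_eq_top]
    exact hu
  have hkrull := Ideal.iInf_pow_eq_bot_of_isLocalRing (Ideal.span {f}) hI
  have hmem : a ∈ ⨅ i : ℕ, Ideal.span {f} ^ i := by
    rw [Ideal.mem_iInf]
    intro n
    obtain ⟨b, hb1, -⟩ := key n
    rw [hb1, Ideal.span_singleton_pow]
    exact Ideal.mul_mem_left _ _ (Ideal.mem_span_singleton_self _)
  rw [hkrull] at hmem
  exact hmem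


end


/-- Let R → S be a ring map with S a Noetherian local ring which is an algebra over the rationals, and f
∈ S such that some S-linear form on the module of differentials of S over R sends df to 1 (df spans
a free direct summand of rank one). Then f is a nonzerodivisor of S. (The published statement asks
only that S·df be a direct summand of the module of differentials, which also holds for the
rationals with a square-zero element adjoined, where f is a zero divisor; this row asks for an
S-linear form on the differentials sending df to 1, as the published proof uses.) -/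
theorem result (R : Type u) [CommRing R]
    (S : Type u) [CommRing S] [IsLocalRing S] [IsNoetherianRing S] [Algebra R S] [Algebra ℚ S]
    (f : S) (θ : Ω[S⁄R] →ₗ[S] S) (hθ : θ (KaehlerDifferential.D R S f) = 1) : f ∈ nonZeroDivisors S := by
  classical
  exact main R S f θ hθ

end Groth.Agent.S9403
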