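import Groth.Statements.S9404
import Mathlib

set_option autoImplicit false
universe u
open CAlg

namespace Groth.Agent.S9404

section
open TensorProduct IsLocalRing

section fields
variable (k K L : Type u) [Field k] [Field K] [Field L] [Algebra k K] [Algebra k L]

theorem unique_prime (h : IsPurelyInseparable k L ∨ IsPurelyInseparable k K)
    (p q : PrimeSpectrum (K ⊗[k] L)) : p = q := by
  rcases h with h | h
  · have H := PrimeSpectrum.isHomeomorph_comap_of_isPurelyInseparable k L K
    exact H.injective (Subsingleton.elim _ _)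
  · have H := PrimeSpectrum.isHomeomorph_comap_of_isPurelyInseparable k K L
    let e : (L ⊗[k] K) ≃ₐ[k] (K ⊗[k] L) := Algebra.TensorProduct.comm k L K
    have h2 : Function.Injective (PrimeSpectrum.comap (e : (L ⊗[k] K) →+* (K ⊗[k] L))) := by
      intro p q hpq
      have := congrArg (PrimeSpectrum.comap (e.symm : (K ⊗[k] L) →+* (L ⊗[k] K))) hpq
      ext x
      have hx := congrArg (fun P : PrimeSpectrum (K ⊗[k] L) => x ∈ P.asIdeal) this
      simpa using hx
    exact h2 (H.injective (Subsingleton.elim _ _))

end fields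

variable (A : Type u) [CommRing A] [IsLocalRing A] (B : Type u) [CommRing B] [IsLocalRing B]
    [Algebra A B] [IsLocalHom (algebraMap A B)] (C : Type u) [CommRing C] [IsLocalRing C]
    [Algebra A C] [IsLocalHom (algebraMap A C)]

abbrev E := ResidueField B ⊗[ResidueField A] ResidueField C

noncomputable def α : B →ₐ[A] E A B C := 
  (IsScalarTower.toAlgHom A (ResidueField B) (E A B C)).comp
    (IsScalarTower.toAlgHom A B (ResidueField B))

noncomputable def β : C →ₐ[A] E A B C := 
  ((Algebra.TensorProduct.includeRight :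
      ResidueField C →ₐ[ResidueField A] E A B C).restrictScalars A).comp
    (IsScalarTower.toAlgHom A C (ResidueField C))

noncomputable def piMap : B ⊗[A] C →ₐ[A] E A B C :=
  Algebra.TensorProduct.lift (α A B C) (β A B C) (fun _ _ => Commute.all _ _)

theorem piMap_tmul (b : B) (c : C) :
    piMap A B C (b ⊗ₜ c) = (residue B b) ⊗ₜ[ResidueField A] (residue C c) := by
  unfold piMap
  rw [Algebra.TensorProduct.lift_tmul]
  change ((residue B b) ⊗ₜ[ResidueField A] (1 : ResidueField C)) *
    ((1 : ResidueField B) ⊗ₜ[ResidueField A] (residue C c)) = _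
  rw [Algebra.TensorProduct.tmul_mul_tmul, mul_one, one_mul]


section main
variable [Algebra.IsIntegral A C]

theorem comap_left (M : Ideal (B ⊗[A] C)) [M.IsMaximal] :
    M.comap (Algebra.TensorProduct.includeLeft : B →ₐ[A] B ⊗[A] C).toRingHom = maximalIdeal B := by
  have : (M.comap (algebraMap B (B ⊗[A] C))).IsMaximal :=
    Ideal.isMaximal_comap_of_isIntegral_of_isMaximal M
  exact IsLocalRing.eq_maximalIdeal this

theorem comap_right (M : Ideal (B ⊗[A] C)) [M.IsMaximal] :
    M.comap (Algebra.TensorProduct.includeRight : C →ₐ[A] B ⊗[A] C).toRingHom = maximalIdeal C := by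
  have hp : (M.comap (Algebra.TensorProduct.includeRight : C →ₐ[A] B ⊗[A] C).toRingHom).IsPrime :=
    Ideal.comap_isPrime _ _
  have hmax : ((M.comap (Algebra.TensorProduct.includeRight :
      C →ₐ[A] B ⊗[A] C).toRingHom).comap (algebraMap A C)).IsMaximal := by
    have h1 : (M.comap (Algebra.TensorProduct.includeRight :
        C →ₐ[A] B ⊗[A] C).toRingHom).comap (algebraMap A C) = maximalIdeal A := by
      rw [Ideal.comap_comap]
      have h2 : (Algebra.TensorProduct.includeRight : C →ₐ[A] B ⊗[A] C).toRingHom.comp
          (algebraMap A C) = (Algebra.TensorProduct.includeLeft :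
            B →ₐ[A] B ⊗[A] C).toRingHom.comp (algebraMap A B) := by
        ext a
        change (Algebra.TensorProduct.includeRight : C →ₐ[A] B ⊗[A] C) (algebraMap A C a) =
          (Algebra.TensorProduct.includeLeft : B →ₐ[A] B ⊗[A] C) (algebraMap A B a)
        rw [AlgHom.commutes, AlgHom.commutes]
      rw [h2, ← Ideal.comap_comap, comap_left]
      exact ((local_hom_TFAE (algebraMap A B)).out 0 4).mp ‹IsLocalHom (algebraMap A B)›
    rw [h1]; infer_instance
  exact IsLocalRing.eq_maximalIdeal (Ideal.isMaximal_of_isIntegral_of_isMaximal_comap _ hmax)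

theorem exists_prime (M : Ideal (B ⊗[A] C)) [hM : M.IsMaximal] :
    ∃ P : PrimeSpectrum (E A B C), M = P.asIdeal.comap (piMap A B C).toRingHom := by
  letI : Field ((B ⊗[A] C) ⧸ M) := Ideal.Quotient.field M
  let f : B →+* ((B ⊗[A] C) ⧸ M) := (Ideal.Quotient.mk M).comp
    (Algebra.TensorProduct.includeLeft : B →ₐ[A] B ⊗[A] C).toRingHom
  let g : C →+* ((B ⊗[A] C) ⧸ M) := (Ideal.Quotient.mk M).comp
    (Algebra.TensorProduct.includeRight : C →ₐ[A] B ⊗[A] C).toRingHom
  haveI hf : IsLocalHom f := by
    constructor
    intro b hb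
    by_contra hnu
    have h1 : b ∈ maximalIdeal B := hnu
    rw [← comap_left A B C M] at h1
    have h2 : f b = 0 := Ideal.Quotient.eq_zero_iff_mem.mpr h1
    exact hb.ne_zero h2
  haveI hg : IsLocalHom g := by
    constructor
    intro b hb
    by_contra hnu
    have h1 : b ∈ maximalIdeal C := hnu
    rw [← comap_right A B C M] at h1
    have h2 : g b = 0 := Ideal.Quotient.eq_zero_iff_mem.mpr h1
    exact hb.ne_zero h2
  let fB : ResidueField B →+* ((B ⊗[A] C) ⧸ M) := ResidueField.lift f
  let fC : ResidueField C →+* ((B ⊗[A] C) ⧸ M) := ResidueField.lift g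
  letI : Algebra (ResidueField A) ((B ⊗[A] C) ⧸ M) :=
    (fB.comp (algebraMap (ResidueField A) (ResidueField B))).toAlgebra
  let fB' : ResidueField B →ₐ[ResidueField A] ((B ⊗[A] C) ⧸ M) :=
    { fB with commutes' := fun x => rfl }
  have hcomm : ∀ x : ResidueField A, fC (algebraMap (ResidueField A) (ResidueField C) x) =
      algebraMap (ResidueField A) ((B ⊗[A] C) ⧸ M) x := by
    intro x
    obtain ⟨a, rfl⟩ := residue_surjective x
    change fC (algebraMap _ _ (residue A a)) = fB (algebraMap _ _ (residue A a))
    rw [ResidueField.algebraMap_residue, ResidueField.algebraMap_residue]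
    rw [ResidueField.lift_residue_apply, ResidueField.lift_residue_apply]
    change Ideal.Quotient.mk M ((Algebra.TensorProduct.includeRight :
        C →ₐ[A] B ⊗[A] C) (algebraMap A C a)) =
      Ideal.Quotient.mk M ((Algebra.TensorProduct.includeLeft :
        B →ₐ[A] B ⊗[A] C) (algebraMap A B a))
    rw [AlgHom.commutes, AlgHom.commutes]
  let fC' : ResidueField C →ₐ[ResidueField A] ((B ⊗[A] C) ⧸ M) :=
    { fC with commutes' := hcomm }
  let ψ : E A B C →ₐ[ResidueField A] ((B ⊗[A] C) ⧸ M) :=
    Algebra.TensorProduct.lift fB' fC' (fun _ _ => Commute.all _ _)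
  have hcomp : ∀ d, ψ (piMap A B C d) = Ideal.Quotient.mk M d := by
    intro d
    induction d using TensorProduct.induction_on with
    | zero => simp
    | tmul b c =>
      rw [piMap_tmul, Algebra.TensorProduct.lift_tmul]
      change fB (residue B b) * fC (residue C c) = _
      rw [ResidueField.lift_residue_apply, ResidueField.lift_residue_apply]
      change Ideal.Quotient.mk M (b ⊗ₜ 1) * Ideal.Quotient.mk M (1 ⊗ₜ c) = _
      rw [← map_mul, Algebra.TensorProduct.tmul_mul_tmul, mul_one, one_mul]
    | add x y hx hy => rw [map_add, map_add, map_add, hx, hy]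
  refine ⟨⟨RingHom.ker ψ.toRingHom, RingHom.ker_isPrime _⟩, ?_⟩
  ext d
  rw [Ideal.mem_comap, RingHom.mem_ker]
  change _ ↔ ψ (piMap A B C d) = 0
  rw [hcomp, Ideal.Quotient.eq_zero_iff_mem]

theorem main
    (h : IsPurelyInseparable (IsLocalRing.ResidueField A) (IsLocalRing.ResidueField C) ∨
      IsPurelyInseparable (IsLocalRing.ResidueField A) (IsLocalRing.ResidueField B)) :
    IsLocalRing (B ⊗[A] C) ∧
      IsLocalHom (Algebra.TensorProduct.includeLeft : B →ₐ[A] B ⊗[A] C).toRingHom ∧
      IsLocalHom (Algebra.TensorProduct.includeRight : C →ₐ[A] B ⊗[A] C).toRingHom := by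
  haveI : Nontrivial (E A B C) :=
    (Algebra.TensorProduct.includeLeft_injective (S := ResidueField B)
      (algebraMap (ResidueField A) (ResidueField C)).injective).nontrivial
  haveI : Nontrivial (B ⊗[A] C) := RingHom.domain_nontrivial (piMap A B C).toRingHom
  have hloc : IsLocalRing (B ⊗[A] C) := by
    obtain ⟨M, hM⟩ := Ideal.exists_maximal (B ⊗[A] C)
    refine IsLocalRing.of_unique_max_ideal ⟨M, hM, fun M' hM' => ?_⟩
    obtain ⟨P, hP⟩ := exists_prime A B C M
    obtain ⟨P', hP'⟩ := exists_prime A B C M'
    rw [hP, hP', unique_prime _ _ _ h P P']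
  refine ⟨hloc, ?_, ?_⟩
  · constructor
    intro b hb
    by_contra hnu
    have h1 : b ∈ maximalIdeal B := hnu
    rw [← comap_left A B C (maximalIdeal (B ⊗[A] C))] at h1
    exact h1 hb
  · constructor
    intro b hb
    by_contra hnu
    have h1 : b ∈ maximalIdeal C := hnu
    rw [← comap_right A B C (maximalIdeal (B ⊗[A] C))] at h1
    exact h1 hb

end main


end


open TensorProduct in
/-- For local homomorphisms of local rings A → B and A → C with A → C integral, if the residue field of
C or that of B is purely inseparable over the residue field of A, then B ⊗_A C is local and both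
structure maps into it are local. -/
theorem result (A : Type u) [CommRing A]
    [IsLocalRing A] (B : Type u) [CommRing B] [IsLocalRing B] [Algebra A B]
    [IsLocalHom (algebraMap A B)] (C : Type u) [CommRing C] [IsLocalRing C] [Algebra A C]
    [IsLocalHom (algebraMap A C)] [Algebra.IsIntegral A C]
    (h : IsPurelyInseparable (IsLocalRing.ResidueField A) (IsLocalRing.ResidueField C) ∨
      IsPurelyInseparable (IsLocalRing.ResidueField A) (IsLocalRing.ResidueField B)) :
    IsLocalRing (B ⊗[A] C) ∧
      IsLocalHom (Algebra.TensorProduct.includeLeft : B →ₐ[A] B ⊗[A] C).toRingHom ∧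
      IsLocalHom (Algebra.TensorProduct.includeRight : C →ₐ[A] B ⊗[A] C).toRingHom := by
  classical
  exact main A B C h

end Groth.Agent.S9404
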