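import Groth.Statements.S9405
-- import your own Groth.Agent.* helpers here
import Mathlib
import Groth.Agent.Lib.Helper7.Hensel.FiniteDecompMain
import Groth.Agent.Lib.Helper7.Hensel.Local
import Groth.Agent.Lib.Helper7.Adic.Cofinal
import Groth.Agent.S3866

set_option autoImplicit false
universe u
open CAlg

namespace Groth.Agent.S9405

/-- A module-finite algebra S over a complete Noetherian local ring R is a finite product of complete
Noetherian local rings; precisely, S has finitely many maximal ideals, S maps bijectively onto the
product of its localizations at them, and each of these localizations is Noetherian and complete for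
its maximal ideal. -/
theorem result (R : Type u) [CommRing R]
    [IsLocalRing R] [IsNoetherianRing R] [IsAdicComplete (IsLocalRing.maximalIdeal R) R]
    (S : Type u) [CommRing S] [Algebra R S] [Module.Finite R S] :
    Finite (MaximalSpectrum S) ∧
      Function.Bijective
        (algebraMap S ((m : MaximalSpectrum S) → Localization.AtPrime m.asIdeal)) ∧
      ∀ m : MaximalSpectrum S, IsNoetherianRing (Localization.AtPrime m.asIdeal) ∧
        IsAdicComplete (IsLocalRing.maximalIdeal (Localization.AtPrime m.asIdeal))
          (Localization.AtPrime m.asIdeal) := by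
  classical
  have hens : HenselianLocalRing R :=
    Groth.Agent.Helper7.Hensel.henselianLocalRing_of_henselianRing inferInstance
  have hfin : Finite (MaximalSpectrum S) := Groth.Agent.Helper7.Hensel.finite_maximalSpectrum R S
  have hft : Fintype (MaximalSpectrum S) := Fintype.ofFinite _
  obtain ⟨e, he, h1, h2, -⟩ := Groth.Agent.Helper7.Hensel.exists_idempotents_local R S
  -- images of the idempotents in the localizations
  have heM : ∀ M : MaximalSpectrum S,
      algebraMap S (Localization.AtPrime M.asIdeal) (e M) = 1 := by
    intro M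
    have hnot : e M ∉ M.asIdeal := by
      intro h
      have : (1 : S) ∈ M.asIdeal := by
        have := M.asIdeal.add_mem h (h1 M)
        rwa [add_sub_cancel] at this
      exact M.isMaximal.ne_top ((Ideal.eq_top_iff_one _).mpr this)
    have hunit : IsUnit (algebraMap S (Localization.AtPrime M.asIdeal) (e M)) :=
      IsLocalization.map_units (Localization.AtPrime M.asIdeal)
        (⟨e M, hnot⟩ : M.asIdeal.primeCompl)
    have hmul : algebraMap S (Localization.AtPrime M.asIdeal) (e M) *
        algebraMap S (Localization.AtPrime M.asIdeal) (1 - e M) = 0 := by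
      rw [← map_mul, mul_sub, mul_one, (he.idem M).eq, sub_self, map_zero]
    have h0 : algebraMap S (Localization.AtPrime M.asIdeal) (1 - e M) = 0 :=
      (hunit.mul_right_eq_zero).mp hmul
    rw [map_sub, map_one, sub_eq_zero] at h0
    exact h0.symm
  have heM' : ∀ M M' : MaximalSpectrum S, M' ≠ M →
      algebraMap S (Localization.AtPrime M.asIdeal) (e M') = 0 := by
    intro M M' hne
    have : e M' * e M = 0 := he.ortho hne
    have h3 := congrArg (algebraMap S (Localization.AtPrime M.asIdeal)) this
    rw [map_mul, heM M, mul_one, map_zero] at h3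
    exact h3
  -- surjectivity of the localization maps
  have hsurj : ∀ M : MaximalSpectrum S,
      Function.Surjective (algebraMap S (Localization.AtPrime M.asIdeal)) := by
    intro M y
    obtain ⟨a, s, rfl⟩ := IsLocalization.exists_mk'_eq M.asIdeal.primeCompl y
    set u : S := (s : S) * e M + (1 - e M) with hu
    have huunit : IsUnit u := by
      by_contra hnu
      obtain ⟨M', hM', huM'⟩ := exists_max_ideal_of_mem_nonunits hnu
      by_cases hMM : M' = M.asIdeal
      · have h4 : u - (s : S) ∈ M.asIdeal := by
          have : u - (s : S) = (1 - e M) * (1 - (s : S)) := by rw [hu]; ring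
          rw [this]
          exact M.asIdeal.mul_mem_right _ (h1 M)
        have h5 : (s : S) ∈ M.asIdeal := by
          have := M.asIdeal.sub_mem (hMM ▸ huM') h4
          rwa [sub_sub_cancel] at this
        exact s.2 h5
      · have h4 : u - 1 ∈ M' := by
          have : u - 1 = e M * ((s : S) - 1) := by rw [hu]; ring
          rw [this]
          exact M'.mul_mem_right _ (h2 M ⟨M', hM'⟩ (fun h => hMM (congrArg MaximalSpectrum.asIdeal h)))
        have h5 : (1 : S) ∈ M' := by
          have := M'.sub_mem huM' h4
          rwa [sub_sub_cancel] at this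
        exact hM'.ne_top ((Ideal.eq_top_iff_one _).mpr h5)
    obtain ⟨v, hv⟩ := huunit
    refine ⟨a * ↑v⁻¹, ?_⟩
    rw [IsLocalization.eq_mk'_iff_mul_eq]
    have h6 : algebraMap S (Localization.AtPrime M.asIdeal) (s : S) =
        algebraMap S (Localization.AtPrime M.asIdeal) u := by
      rw [hu, map_add, map_mul, heM M, mul_one, map_sub, map_one, heM M, sub_self, add_zero]
    rw [h6, ← map_mul, ← hv, mul_assoc, Units.inv_mul, mul_one]
  refine ⟨hfin, ⟨?_, ?_⟩, ?_⟩
  · -- injectivity
    exact MaximalSpectrum.toPiLocalization_injective S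
  · -- surjectivity
    intro y
    choose x hx using fun M => hsurj M (y M)
    refine ⟨∑ M, e M * x M, ?_⟩
    funext M₀
    show algebraMap S (Localization.AtPrime M₀.asIdeal) (∑ M, e M * x M) = y M₀
    rw [map_sum, Finset.sum_eq_single M₀]
    · rw [map_mul, heM M₀, one_mul, hx M₀]
    · intro M _ hne
      rw [map_mul, heM' M₀ M hne, zero_mul]
    · intro h
      exact absurd (Finset.mem_univ M₀) h
  · intro M
    have hSnoeth : IsNoetherianRing S := IsNoetherianRing.of_finite R S
    have hnoeth : IsNoetherianRing (Localization.AtPrime M.asIdeal) :=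
      IsLocalization.isNoetherianRing M.asIdeal.primeCompl _ hSnoeth
    refine ⟨hnoeth, ?_⟩
    have hLfin : Module.Finite R (Localization.AtPrime M.asIdeal) :=
      Module.Finite.of_surjective
        (IsScalarTower.toAlgHom R S (Localization.AtPrime M.asIdeal)).toLinearMap (hsurj M)
    have hc1 : IsAdicComplete (IsLocalRing.maximalIdeal R) (Localization.AtPrime M.asIdeal) :=
      Groth.Agent.S3866.result R (IsLocalRing.maximalIdeal R) (Localization.AtPrime M.asIdeal)
    have hc2 : IsAdicComplete ((IsLocalRing.maximalIdeal R).map
        (algebraMap R (Localization.AtPrime M.asIdeal))) (Localization.AtPrime M.asIdeal) :=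
      (IsAdicComplete.map_algebraMap_iff _ _).mpr hc1
    have hIJ : (IsLocalRing.maximalIdeal R).map
        (algebraMap R (Localization.AtPrime M.asIdeal)) ≤
        IsLocalRing.maximalIdeal (Localization.AtPrime M.asIdeal) := by
      rw [Ideal.map_le_iff_le_comap]
      intro r hr
      have hMmax := M.isMaximal
      have hcomap : M.asIdeal.comap (algebraMap R S) = IsLocalRing.maximalIdeal R :=
        IsLocalRing.eq_maximalIdeal (Ideal.isMaximal_comap_of_isIntegral_of_isMaximal M.asIdeal)
      have hrM : algebraMap R S r ∈ M.asIdeal := by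
        rw [← hcomap] at hr
        exact hr
      rw [Ideal.mem_comap, IsScalarTower.algebraMap_apply R S (Localization.AtPrime M.asIdeal),
        IsLocalization.AtPrime.to_map_mem_maximal_iff _ M.asIdeal]
      exact hrM
    have hpow : ∃ N : ℕ, IsLocalRing.maximalIdeal (Localization.AtPrime M.asIdeal) ^ N ≤
        (IsLocalRing.maximalIdeal R).map (algebraMap R (Localization.AtPrime M.asIdeal)) := by
      set L := Localization.AtPrime M.asIdeal with hL
      set I : Ideal L := (IsLocalRing.maximalIdeal R).map (algebraMap R L) with hI
      let _ : Field (R ⧸ IsLocalRing.maximalIdeal R) := Ideal.Quotient.field _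
      have hfinB : Module.Finite R (L ⧸ I) := inferInstance
      have hfinκ : Module.Finite (R ⧸ IsLocalRing.maximalIdeal R) (L ⧸ I) :=
        Module.Finite.of_restrictScalars_finite R (R ⧸ IsLocalRing.maximalIdeal R) (L ⧸ I)
      have hart : IsArtinianRing (L ⧸ I) :=
        IsArtinianRing.of_finite (R ⧸ IsLocalRing.maximalIdeal R) (L ⧸ I)
      obtain ⟨N, hN⟩ := IsArtinianRing.isNilpotent_jacobson_bot (R := L ⧸ I)
      have hjac : (IsLocalRing.maximalIdeal L).map (Ideal.Quotient.mk I) ≤
          Ideal.jacobson (⊥ : Ideal (L ⧸ I)) := by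
        rw [Ideal.map_le_iff_le_comap]
        intro a ha
        rw [Ideal.mem_comap, Ideal.mem_jacobson_bot]
        intro y
        obtain ⟨b, rfl⟩ := Ideal.Quotient.mk_surjective y
        rw [← map_mul, ← map_one (Ideal.Quotient.mk I), ← map_add]
        apply IsUnit.map
        rw [← IsLocalRing.notMem_maximalIdeal]
        intro hmem
        have h7 : a * b ∈ IsLocalRing.maximalIdeal L := Ideal.mul_mem_right _ _ ha
        have h8 : (1 : L) ∈ IsLocalRing.maximalIdeal L := by
          have := Ideal.sub_mem _ hmem h7
          rwa [add_sub_cancel_left] at this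
        exact (IsLocalRing.maximalIdeal.isMaximal L).ne_top ((Ideal.eq_top_iff_one _).mpr h8)
      refine ⟨N, ?_⟩
      have h9 : ((IsLocalRing.maximalIdeal L) ^ N).map (Ideal.Quotient.mk I) = ⊥ := by
        rw [Ideal.map_pow, eq_bot_iff]
        calc (Ideal.map (Ideal.Quotient.mk I) (IsLocalRing.maximalIdeal L)) ^ N
            ≤ (Ideal.jacobson (⊥ : Ideal (L ⧸ I))) ^ N := Ideal.pow_right_mono hjac N
          _ = ⊥ := by rw [hN, Ideal.zero_eq_bot]
      rw [Ideal.map_eq_bot_iff_le_ker, Ideal.mk_ker] at h9
      exact h9
    obtain ⟨N, hN⟩ := hpow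
    exact Groth.Agent.Helper7.Adic.isAdicComplete_of_le_of_pow_le _ _ hIJ N hN

end Groth.Agent.S9405
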