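import Groth.Statements.S9408
import Mathlib
import Groth.Agent.Lib.Helper8.AdicFS17
import Groth.Agent.Lib.Helper8.CompFib2
import Groth.Agent.Lib.Helper8.CplMap3

set_option autoImplicit false
universe u
open CAlg

namespace Groth.Agent.S9408

/-- Over a field k, geometric regularity ascends along smooth maps of k-algebras: for A Noetherian and
geometrically regular over k and B smooth over A, B is geometrically regular over k. -/
theorem result (k : Type u) [Field k] (A : Type u) [CommRing A]
    [Algebra k A] [IsNoetherianRing A] (B : Type u) [CommRing B] [Algebra k B] [Algebra A B]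
    [IsScalarTower k A B] [Algebra.Smooth A B] (hA : CAlg.IsGeometricallyRegular k A) :
    CAlg.IsGeometricallyRegular k B := by
  intro k' _ _ hfin
  haveI := hfin
  haveI : IsNoetherianRing (TensorProduct k k' A) :=
    Groth.Agent.Helper8.CompFib.isNoetherianRing_tensor_of_finite k A k'
  let ec : TensorProduct k k' A ≃+* TensorProduct k A k' :=
    (Algebra.TensorProduct.comm k k' A).toRingEquiv
  haveI : IsNoetherianRing (TensorProduct k A k') := isNoetherianRing_of_ringEquiv _ ec
  have hA'' : IsRegularRing (TensorProduct k k' A) := hA k' hfin
  have hA' : IsRegularRing (TensorProduct k A k') :=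
    IsRegularRing.of_ringEquiv (R := TensorProduct k k' A) ec
  haveI : IsNoetherianRing (TensorProduct A (TensorProduct k A k') B) :=
    Algebra.FiniteType.isNoetherianRing (TensorProduct k A k') _
  have hreg := Groth.Agent.Helper8.AdicFS.isRegularHom_of_formallySmooth
    (TensorProduct k A k') (TensorProduct A (TensorProduct k A k') B)
  haveI : Module.Flat (TensorProduct k A k') (TensorProduct A (TensorProduct k A k') B) := hreg.1
  have h1 : IsRegularRing (TensorProduct A (TensorProduct k A k') B) :=
    Groth.Agent.Helper8.CompFib.isRegularRing_of_flat_of_fibres _ _ hA' (fun p _ =>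
      Groth.Agent.Helper8.CplMap.isRegularRing_of_isGeometricallyRegular _ _ (hreg.2 p).2)
  let e₁ : TensorProduct A (TensorProduct k A k') B ≃+* TensorProduct A B (TensorProduct k A k') :=
    (Algebra.TensorProduct.comm A (TensorProduct k A k') B).toRingEquiv
  let e₂ : TensorProduct A B (TensorProduct k A k') ≃+* TensorProduct k B k' :=
    (Algebra.TensorProduct.cancelBaseChange k A A B k').toRingEquiv
  let e₃ : TensorProduct k B k' ≃+* TensorProduct k k' B :=
    (Algebra.TensorProduct.comm k B k').toRingEquiv
  exact IsRegularRing.of_ringEquiv (R := TensorProduct A (TensorProduct k A k') B)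
    ((e₁.trans e₂).trans e₃)

end Groth.Agent.S9408
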