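import Groth.Statements.S9412
import Mathlib

set_option autoImplicit false
universe u
open EGA4

namespace Groth.Agent.S9412

section
open TensorProduct

theorem normal_of_loc {R S : Type u} [CommRing R] [CommRing S] [Algebra R S] (T : Submonoid R)
    [IsLocalization T S] (h : EGA4.IsNormalRing R) : EGA4.IsNormalRing S := by
  intro P hP
  haveI : IsLocalization.AtPrime (Localization.AtPrime P) (P.comap (algebraMap R S)) :=
    IsLocalization.isLocalization_isLocalization_atPrime_isLocalization T _ P
  let e : Localization.AtPrime (P.comap (algebraMap R S)) ≃ₐ[R] Localization.AtPrime P :=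
    IsLocalization.algEquiv (P.comap (algebraMap R S)).primeCompl _ _
  obtain ⟨h1, h2⟩ := h (P.comap (algebraMap R S))
  exact ⟨e.symm.toRingEquiv.toMulEquiv.isDomain _, IsIntegrallyClosed.of_equiv e.toRingEquiv⟩

theorem main (k : Type u) [Field k] (A : Type u) [CommRing A]
    [Algebra k A] (M : Submonoid A) (B : Type u) [CommRing B] [Algebra A B] [IsLocalization M B]
    [Algebra k B] [IsScalarTower k A B] (h : EGA4.IsGeomNormal k A) :
    EGA4.IsGeomNormal k B := by
  intro k' _ _ hfin
  have hA := h k' hfin
  letI : Algebra (k' ⊗[k] A) (k' ⊗[k] B) :=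
    (Algebra.TensorProduct.map (AlgHom.id k' k') (IsScalarTower.toAlgHom k A B)).toRingHom.toAlgebra
  haveI : IsScalarTower k' (k' ⊗[k] A) (k' ⊗[k] B) :=
    IsScalarTower.of_algebraMap_eq' (by
      ext x
      simp [RingHom.algebraMap_toAlgebra, Algebra.TensorProduct.algebraMap_apply])
  haveI := IsLocalization.tensorProduct_tensorProduct_right k k' M B (by
    ext x
    simp [RingHom.algebraMap_toAlgebra])
  exact normal_of_loc (M.map (Algebra.TensorProduct.includeRight (R := k) (A := k'))) hA


end


/-- A localization of a geometrically normal algebra over a field k is geometrically normal over k. -/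
theorem result (k : Type u) [Field k] (A : Type u) [CommRing A]
    [Algebra k A] (M : Submonoid A) (B : Type u) [CommRing B] [Algebra A B] [IsLocalization M B]
    [Algebra k B] [IsScalarTower k A B] (h : EGA4.IsGeomNormal k A) :
    EGA4.IsGeomNormal k B := by
  classical
  exact main k A M B h

end Groth.Agent.S9412
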