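import Groth.Statements.S9416
import Mathlib
-- import your own Groth.Agent.* helpers here

set_option autoImplicit false
universe u
open CAlg

namespace Groth.Agent.S9416

namespace Aux
open Polynomial

section
variable {K : Type*} [Field K] (p : ℕ) [Fact p.Prime] [CharP K p]
  {L : Type*} [Field L] [Algebra K L]

lemma frob_sum [CharP L p] (x : L) (a : K) (hx : x ^ p = algebraMap K L a) (c : ℕ → K) (n : ℕ) :
    (∑ j ∈ Finset.range n, algebraMap K L (c j) * x ^ j) ^ p =
      algebraMap K L (∑ j ∈ Finset.range n, c j ^ p * a ^ j) := by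
  rw [sum_pow_char, map_sum]
  refine Finset.sum_congr rfl fun j _ => ?_
  rw [mul_pow, ← pow_mul, mul_comm j p, pow_mul, hx, map_mul, map_pow, map_pow]

lemma D_pow_p (D : Derivation ℤ K K) (c : K) : D (c ^ p) = 0 := by
  rw [Derivation.leibniz_pow, nsmul_eq_mul, CharP.cast_eq_zero, zero_mul]

lemma D_sum (D : Derivation ℤ K K) (a : K) (c : ℕ → K) (n : ℕ) :
    D (∑ j ∈ Finset.range (n+1), c j ^ p * a ^ j) =
      D a * ∑ j ∈ Finset.range n, ((j + 1 : ℕ) : K) * c (j+1) ^ p * a ^ j := by
  rw [map_sum, Finset.sum_range_succ', Finset.mul_sum]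
  have h0 : D (c 0 ^ p * a ^ 0) = 0 := by
    rw [pow_zero, mul_one, D_pow_p]
  rw [h0, add_zero]
  refine Finset.sum_congr rfl fun j _ => ?_
  rw [Derivation.leibniz, D_pow_p p, smul_zero, add_zero, Derivation.leibniz_pow, Nat.add_sub_cancel,
    smul_eq_mul, nsmul_eq_mul, smul_eq_mul]
  ring

lemma natCast_pow_p (n : ℕ) : ((n : ℕ) : K) ^ p = n := by
  have := map_natCast (frobenius K p) n
  rwa [frobenius_def] at this

end


section
variable {R : Type*} [CommRing R] [IsDomain R] [IsIntegrallyClosed R] {K : Type*} [Field K] [Algebra R K]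
  [IsFractionRing R K] (p : ℕ) [Fact p.Prime] [CharP K p]
  {L : Type*} [Field L] [Algebra K L] [Algebra R L] [IsScalarTower R K L]

omit [IsDomain R] in
lemma mem_range_of_isIntegral (z : K) (hz : IsIntegral R (algebraMap K L z)) :
    z ∈ (algebraMap R K).range := by
  have : IsIntegral R z := (isIntegral_algebraMap_iff (algebraMap K L).injective).mp hz
  exact IsIntegrallyClosed.isIntegral_iff.mp this

omit [IsDomain R] [IsIntegrallyClosed R] [IsFractionRing R K] in
lemma isIntegral_of_mem_range (z : K) (hz : z ∈ (algebraMap R K).range) :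
    IsIntegral R (algebraMap K L z) := by
  obtain ⟨t, rfl⟩ := hz
  rw [← IsScalarTower.algebraMap_apply]
  exact isIntegral_algebraMap

lemma key (D : Derivation ℤ K K) (hD : ∀ r : R, ∃ s : R, D (algebraMap R K r) = algebraMap R K s)
    (r₀ : R) (x : L) (hx : x ^ p = algebraMap K L (algebraMap R K r₀)) :
    ∀ i, i < p → ∀ c : ℕ → K,
      IsIntegral R (∑ j ∈ Finset.range (i+1), algebraMap K L (c j) * x ^ j) →
      ∀ j ≤ i, (D (algebraMap R K r₀)) ^ i * c j ∈ (algebraMap R K).range := by
  haveI : CharP L p := charP_of_injective_algebraMap (algebraMap K L).injective p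
  have hp : 0 < p := (Fact.out : p.Prime).pos
  have hxi : IsIntegral R x := by
    refine IsIntegral.of_pow hp ?_
    rw [hx]
    exact isIntegral_of_mem_range _ ⟨r₀, rfl⟩
  obtain ⟨s, hs⟩ := hD r₀
  set b := D (algebraMap R K r₀) with hb
  have hbR : ∀ n : ℕ, b ^ n ∈ (algebraMap R K).range := fun n => ⟨s ^ n, by rw [map_pow, hs]⟩
  intro i
  induction i with
  | zero =>
    intro _ c hc j hj
    obtain rfl : j = 0 := by omega
    rw [pow_zero, one_mul]
    apply mem_range_of_isIntegral (L := L)
    simpa using hc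
  | succ i ih =>
    intro hi c hc j hj
    have hz : IsIntegral R (algebraMap K L
        (∑ j ∈ Finset.range (i+1+1), c j ^ p * (algebraMap R K r₀) ^ j)) := by
      rw [← frob_sum p x _ hx]
      exact hc.pow p
    obtain ⟨t, ht⟩ := mem_range_of_isIntegral (L := L) _ hz
    obtain ⟨u, hu⟩ := hD t
    rw [ht, D_sum p D] at hu
    set c' : ℕ → K := fun j => b * ((j+1 : ℕ) : K) * c (j+1) with hc'
    have hy' : IsIntegral R (∑ j ∈ Finset.range (i+1), algebraMap K L (c' j) * x ^ j) := by
      refine IsIntegral.of_pow hp ?_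
      rw [frob_sum p x _ hx]
      have : ∑ j ∈ Finset.range (i+1), c' j ^ p * (algebraMap R K r₀) ^ j
          = algebraMap R K (s ^ (p-1) * u) := by
        rw [map_mul, map_pow, ← hs, ← hu, ← mul_assoc, ← pow_succ, Nat.sub_add_cancel hp,
          Finset.mul_sum]
        refine Finset.sum_congr rfl fun j _ => ?_
        simp only [hc', mul_pow, natCast_pow_p]
        ring
      rw [this]
      exact isIntegral_of_mem_range _ ⟨_, rfl⟩
    have ih' := ih (by omega) c' hy'
    have hpos : ∀ j, j ≤ i → b ^ (i+1) * c (j+1) ∈ (algebraMap R K).range := by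
      intro j hj
      have h1 := ih' j hj
      have hcop : Nat.Coprime (j+1) p := by
        rw [Nat.coprime_comm, (Fact.out : p.Prime).coprime_iff_not_dvd]
        intro hdvd
        have := Nat.le_of_dvd (by omega) hdvd
        omega
      obtain ⟨m, -, hm⟩ := Nat.exists_mul_mod_eq_one_of_coprime hcop (Fact.out : p.Prime).one_lt
      have hm' : ((j+1 : ℕ) : K) * ((m : ℕ) : K) = 1 := by
        rw [← Nat.cast_mul, CharP.natCast_eq_natCast_mod K p, hm, Nat.cast_one]
      have : b ^ (i+1) * c (j+1) = (m : K) * (b ^ i * c' j) := by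
        simp only [hc']
        rw [pow_succ]
        linear_combination (- b^i * b * c (j+1)) * hm'
      rw [this]
      exact Subring.mul_mem _ (natCast_mem _ m) h1
    rcases Nat.eq_zero_or_pos j with rfl | hjpos
    · apply mem_range_of_isIntegral (L := L)
      have hy : ∑ j ∈ Finset.range (i+1+1), algebraMap K L (c j) * x ^ j =
          (∑ j ∈ Finset.range (i+1), algebraMap K L (c (j+1)) * x ^ (j+1)) + algebraMap K L (c 0) := by
        rw [Finset.sum_range_succ', pow_zero, mul_one]
      have : algebraMap K L (b ^ (i+1) * c 0) =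
          algebraMap K L (b ^ (i+1)) * (∑ j ∈ Finset.range (i+1+1), algebraMap K L (c j) * x ^ j)
          - ∑ j ∈ Finset.range (i+1), algebraMap K L (b ^ (i+1) * c (j+1)) * x ^ (j+1) := by
        rw [hy, mul_add, Finset.mul_sum, map_mul]
        have : ∀ j ∈ Finset.range (i+1), algebraMap K L (b ^ (i+1)) * (algebraMap K L (c (j+1)) * x ^ (j+1))
            = algebraMap K L (b ^ (i+1) * c (j+1)) * x ^ (j+1) := by
          intro j _
          rw [map_mul, mul_assoc]
        rw [Finset.sum_congr rfl this]
        ring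
      rw [this]
      refine IsIntegral.sub (IsIntegral.mul (isIntegral_of_mem_range _ (hbR _)) hc) ?_
      refine IsIntegral.sum _ fun j hj => ?_
      exact IsIntegral.mul (isIntegral_of_mem_range _ (hpos j (by simpa [Nat.lt_succ_iff] using hj)))
        (hxi.pow _)
    · obtain ⟨j', rfl⟩ : ∃ j', j = j' + 1 := ⟨j - 1, by omega⟩
      exact hpos j' (by omega)

end

lemma exists_coeffs {K L : Type*} [Field K] [Field L] [Algebra K L] (p : ℕ) (hp : 0 < p) (x : L)
    (a : K) (hx : x ^ p = algebraMap K L a)
    (hgen : IntermediateField.adjoin K {x} = ⊤) (y : L) :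
    ∃ c : ℕ → K, y = ∑ j ∈ Finset.range p, algebraMap K L (c j) * x ^ j := by
  have hxint : IsIntegral K x := IsIntegral.of_pow hp (hx ▸ isIntegral_algebraMap)
  have h1 : Algebra.adjoin K {x} = ⊤ := by
    have := IntermediateField.adjoin_simple_toSubalgebra_of_isAlgebraic hxint.isAlgebraic
    rw [← this, hgen, IntermediateField.top_toSubalgebra]
  have hy : y ∈ Algebra.adjoin K {x} := by rw [h1]; trivial
  rw [Algebra.adjoin_singleton_eq_range_aeval] at hy
  obtain ⟨q, rfl⟩ := hy
  set f : K[X] := X ^ p - C a with hfdef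
  have hf : f.Monic := monic_X_pow_sub_C a hp.ne'
  have hfx : aeval x f = 0 := by simp [f, hx]
  have h2 : aeval x q = aeval x (q %ₘ f) := by
    conv_lhs => rw [← Polynomial.modByMonic_add_div q f]
    simp [hfx]
  refine ⟨fun j => (q %ₘ f).coeff j, ?_⟩
  change aeval x q = _
  rw [h2]
  have hdeg : (q %ₘ f).natDegree < p := by
    have hne : f ≠ 1 := by
      intro h
      have := congrArg natDegree h
      rw [hfdef, natDegree_X_pow_sub_C, natDegree_one] at this
      omega
    have := Polynomial.natDegree_modByMonic_lt q hf hne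
    rwa [hfdef, natDegree_X_pow_sub_C] at this
  conv_lhs => rw [Polynomial.as_sum_range' (q %ₘ f) p hdeg]
  rw [map_sum]
  refine Finset.sum_congr rfl fun j _ => ?_
  rw [← C_mul_X_pow_eq_monomial, map_mul, aeval_C, map_pow, aeval_X]

theorem main (R : Type*) [CommRing R] [IsDomain R] [IsNoetherianRing R] [IsIntegrallyClosed R]
    (K : Type*) [Field K] [Algebra R K]
    [IsFractionRing R K] (p : ℕ) [Fact p.Prime] [CharP K p] (D : Derivation ℤ K K)
    (hD : ∀ r : R, ∃ s : R, D (algebraMap R K r) = algebraMap R K s) (a : K) (ha : D a ≠ 0)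
    (L : Type*) [Field L] [Algebra K L] [Algebra R L] [IsScalarTower R K L] (x : L)
    (hx : x ^ p = algebraMap K L a) (hgen : IntermediateField.adjoin K {x} = ⊤) :
    Module.Finite R (integralClosure R L) := by
  have hp : 0 < p := (Fact.out : p.Prime).pos
  obtain ⟨⟨f, hf⟩, r₁, hr₁⟩ := IsLocalization.exists_integer_multiple (nonZeroDivisors R) a
  have hf0 : f ≠ 0 := nonZeroDivisors.ne_zero hf
  have hfK : algebraMap R K f ≠ 0 := (map_ne_zero_iff _ (IsFractionRing.injective R K)).mpr hf0
  set r₀ : R := f ^ (p-1) * r₁ with hr₀def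
  have hr₀ : algebraMap R K r₀ = algebraMap R K f ^ p * a := by
    rw [hr₀def, map_mul, hr₁]
    change _ * (f • a) = _
    rw [Algebra.smul_def, ← mul_assoc, map_pow, ← pow_succ, Nat.sub_add_cancel hp]
  set x' : L := algebraMap K L (algebraMap R K f) * x with hx'def
  have hx' : x' ^ p = algebraMap K L (algebraMap R K r₀) := by
    rw [hx'def, mul_pow, hx, hr₀, map_mul, map_pow]
  set b := D (algebraMap R K r₀) with hb
  have hb0 : b ≠ 0 := by
    rw [hb, hr₀, Derivation.leibniz, D_pow_p p, smul_zero, add_zero, smul_eq_mul]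
    exact mul_ne_zero (pow_ne_zero _ hfK) ha
  have hspan : ∀ y : L, ∃ c : ℕ → K,
      y = ∑ j ∈ Finset.range p, algebraMap K L (c j) * x' ^ j := by
    intro y
    obtain ⟨c, hc⟩ := exists_coeffs p hp x a hx hgen y
    refine ⟨fun j => c j * (algebraMap R K f ^ j)⁻¹, ?_⟩
    rw [hc]
    refine Finset.sum_congr rfl fun j _ => ?_
    have hg : algebraMap K L (algebraMap R K f) ^ j ≠ 0 :=
      pow_ne_zero _ ((map_ne_zero_iff _ (algebraMap K L).injective).mpr hfK)
    rw [hx'def, mul_pow, map_mul, map_inv₀, map_pow, mul_assoc, inv_mul_cancel_left₀ hg]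
  set N : Submodule R L := Submodule.span R
    (Set.range fun j : Fin p => algebraMap K L ((b ^ (p-1))⁻¹) * x' ^ (j : ℕ)) with hNdef
  have hN : N.FG := Submodule.fg_span (Set.finite_range _)
  have hle : Subalgebra.toSubmodule (integralClosure R L) ≤ N := by
    intro y hy
    have hyi : IsIntegral R y := hy
    obtain ⟨c, rfl⟩ := hspan y
    have hk := key p D hD r₀ x' hx' (p-1) (by omega) c (by rwa [Nat.sub_add_cancel hp])
    refine Submodule.sum_mem _ fun j hj => ?_
    obtain ⟨t, ht⟩ := hk j (by have := Finset.mem_range.mp hj; omega)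
    have : algebraMap K L (c j) * x' ^ j = t • (algebraMap K L ((b ^ (p-1))⁻¹) * x' ^ j) := by
      rw [Algebra.smul_def, IsScalarTower.algebraMap_apply R K L, ht, ← mul_assoc, ← map_mul,
        mul_comm (b ^ (p-1)), mul_assoc, mul_inv_cancel₀ (pow_ne_zero _ hb0), mul_one]
    rw [this]
    exact Submodule.smul_mem _ _ (Submodule.subset_span ⟨⟨j, Finset.mem_range.mp hj⟩, rfl⟩)
  haveI : IsNoetherian R N := isNoetherian_of_fg_of_noetherian N hN
  haveI : IsNoetherian R (Subalgebra.toSubmodule (integralClosure R L)) := isNoetherian_of_le hle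
  exact Module.IsNoetherian.finite R (Subalgebra.toSubmodule (integralClosure R L))

end Aux

/-- Suppose R is a normal Noetherian domain whose field of fractions K has prime characteristic p > 0, D
a derivation of K preserving R, and a ∈ K with D(a) ≠ 0. For a field L generated over K by an
element x with x^p = a, the integral closure of R in L is module-finite over R. -/
theorem result (R : Type u) [CommRing R]
    [IsDomain R] [IsNoetherianRing R] [IsIntegrallyClosed R] (K : Type u) [Field K] [Algebra R K]
    [IsFractionRing R K] (p : ℕ) [Fact p.Prime] [CharP K p] (D : Derivation ℤ K K)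
    (hD : ∀ r : R, ∃ s : R, D (algebraMap R K r) = algebraMap R K s) (a : K) (ha : D a ≠ 0)
    (L : Type u) [Field L] [Algebra K L] [Algebra R L] [IsScalarTower R K L] (x : L)
    (hx : x ^ p = algebraMap K L a) (hgen : IntermediateField.adjoin K {x} = ⊤) :
    Module.Finite R (integralClosure R L) := by
  exact Aux.main R K p D hD a ha L x hx hgen

end Groth.Agent.S9416
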