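import Groth.Statements.S9425
-- import your own Groth.Agent.* helpers here
import Groth.Agent.S9424

set_option autoImplicit false
universe u
open CAlg

namespace Groth.Agent.S9425

/-- A directed colimit of formally étale R-algebras is formally étale over R. The colimit is encoded by
compatible R-algebra maps S_i → S which are jointly surjective and whose kernels die further along
the system. -/
theorem result {ι : Type u} [Preorder ι] [IsDirected ι (· ≤ ·)] [Nonempty ι]
    (R : Type u) [CommRing R] (G : ι → Type u) [∀ i, CommRing (G i)] [∀ i, Algebra R (G i)]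
    (f : ∀ i j, i ≤ j → (G i →ₐ[R] G j)) (S : Type u) [CommRing S] [Algebra R S]
    (g : ∀ i, G i →ₐ[R] S) (hg : ∀ i j (h : i ≤ j), (g j).comp (f i j h) = g i)
    (hsurj : ∀ s : S, ∃ i, ∃ x : G i, g i x = s)
    (hker : ∀ i (x : G i), g i x = 0 → ∃ j, ∃ h : i ≤ j, f i j h x = 0)
    (h : ∀ i, Algebra.FormallyEtale R (G i)) : Algebra.FormallyEtale R S := by
  have hunr : Algebra.FormallyUnramified R S :=
    Groth.Agent.S9424.result R G f S g hg hsurj hker (fun i => inferInstance)
  have hsm : Algebra.FormallySmooth R S := by
    refine Algebra.FormallySmooth.of_comp_surjective ?_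
    intro B _ _ I hI φ
    -- lifts on each stage
    have hlift : ∀ i, ∃ ψ : G i →ₐ[R] B, (Ideal.Quotient.mkₐ R I).comp ψ = φ.comp (g i) := fun i =>
      (Algebra.FormallyEtale.comp_bijective R (G i) I hI).2 (φ.comp (g i))
    choose ψ hψ using hlift
    have huniq : ∀ i (ψ' : G i →ₐ[R] B), (Ideal.Quotient.mkₐ R I).comp ψ' = φ.comp (g i) →
        ψ' = ψ i := fun i ψ' h' =>
      (Algebra.FormallyEtale.comp_bijective R (G i) I hI).1 (h'.trans (hψ i).symm)
    have hcompat : ∀ i j (hij : i ≤ j), (ψ j).comp (f i j hij) = ψ i := by
      intro i j hij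
      apply huniq
      rw [← AlgHom.comp_assoc, hψ j, AlgHom.comp_assoc, hg]
    -- well-definedness
    have hwd : ∀ i (x : G i) j (y : G j), g i x = g j y → ψ i x = ψ j y := by
      intro i x j y hxy
      obtain ⟨k, hik, hjk⟩ := exists_ge_ge i j
      have hz : g k (f i k hik x - f j k hjk y) = 0 := by
        rw [map_sub, ← AlgHom.comp_apply, ← AlgHom.comp_apply, hg, hg, hxy, sub_self]
      obtain ⟨l, hkl, hl⟩ := hker k _ hz
      have h0 : ψ k (f i k hik x - f j k hjk y) = 0 := by
        rw [← hcompat k l hkl, AlgHom.comp_apply, hl, map_zero]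
      rw [map_sub, sub_eq_zero, ← AlgHom.comp_apply, ← AlgHom.comp_apply, hcompat, hcompat] at h0
      exact h0
    choose idx rep hrep using hsurj
    let Ψ : S → B := fun s => ψ (idx s) (rep s)
    have hΨ : ∀ i (x : G i), Ψ (g i x) = ψ i x := fun i x =>
      hwd _ _ _ _ (hrep (g i x))
    obtain ⟨i₀⟩ := ‹Nonempty ι›
    let Ψalg : S →ₐ[R] B :=
      { toFun := Ψ
        map_one' := by
          have := hΨ i₀ 1
          rwa [map_one, map_one] at this
        map_mul' := by
          intro s t
          obtain ⟨k, hik, hjk⟩ := exists_ge_ge (idx s) (idx t)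
          have hs : s = g k (f _ k hik (rep s)) := by
            rw [← AlgHom.comp_apply, hg, hrep]
          have ht : t = g k (f _ k hjk (rep t)) := by
            rw [← AlgHom.comp_apply, hg, hrep]
          have hst : s * t = g k (f _ k hik (rep s) * f _ k hjk (rep t)) := by
            rw [map_mul, ← hs, ← ht]
          rw [hst, hΨ, map_mul, ← AlgHom.comp_apply, ← AlgHom.comp_apply, hcompat, hcompat]
        map_zero' := by
          have := hΨ i₀ 0
          rwa [map_zero, map_zero] at this
        map_add' := by
          intro s t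
          obtain ⟨k, hik, hjk⟩ := exists_ge_ge (idx s) (idx t)
          have hs : s = g k (f _ k hik (rep s)) := by
            rw [← AlgHom.comp_apply, hg, hrep]
          have ht : t = g k (f _ k hjk (rep t)) := by
            rw [← AlgHom.comp_apply, hg, hrep]
          have hst : s + t = g k (f _ k hik (rep s) + f _ k hjk (rep t)) := by
            rw [map_add, ← hs, ← ht]
          rw [hst, hΨ, map_add, ← AlgHom.comp_apply, ← AlgHom.comp_apply, hcompat, hcompat]
        commutes' := by
          intro r
          have := hΨ i₀ (algebraMap R (G i₀) r)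
          rwa [AlgHom.commutes, AlgHom.commutes] at this }
    refine ⟨Ψalg, ?_⟩
    ext s
    have hs : s = g (idx s) (rep s) := (hrep s).symm
    have h1 : (Ideal.Quotient.mkₐ R I) (ψ (idx s) (rep s)) = φ (g (idx s) (rep s)) :=
      DFunLike.congr_fun (hψ (idx s)) (rep s)
    rw [hrep] at h1
    exact h1
  exact Algebra.FormallyEtale.of_formallyUnramified_and_formallySmooth

end Groth.Agent.S9425
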