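import Groth.Statements.S9428
-- import your own Groth.Agent.* helpers here
import Mathlib.RingTheory.Smooth.Basic

set_option autoImplicit false
universe u
open CAlg

namespace Groth.Agent.S9428

/-- If R → S is formally étale and J ⊆ S is an ideal with R → S/J surjective, I ⊆ R its kernel (the
preimage of J), then R/I^n → S/J^n is bijective for all n. (The published statement adds that the
associated graded rings are then isomorphic, which follows from these bijections.) -/
theorem result (R : Type u) [CommRing R] (S : Type u)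
    [CommRing S] [Algebra R S] [Algebra.FormallyEtale R S] (J : Ideal S)
    (hJ : Function.Surjective (algebraMap R (S ⧸ J))) (n : ℕ) :
    Function.Bijective (Ideal.quotientMap (J ^ n) (algebraMap R S)
      (le_of_le_of_eq (Ideal.le_comap_pow (algebraMap R S) n) rfl :
        (J.comap (algebraMap R S)) ^ n ≤ (J ^ n).comap (algebraMap R S))) := by
  set I : Ideal R := J.comap (algebraMap R S) with hIdef
  have hIn : I ^ n ≤ (J ^ n).comap (algebraMap R S) :=
    le_of_le_of_eq (Ideal.le_comap_pow (algebraMap R S) n) rfl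
  rcases Nat.eq_zero_or_pos n with hn | hn
  · subst hn
    have h1 : Subsingleton (R ⧸ I ^ 0) := by
      rw [pow_zero, Ideal.one_eq_top]; exact Ideal.Quotient.subsingleton_iff.mpr rfl
    have h2 : Subsingleton (S ⧸ J ^ 0) := by
      rw [pow_zero, Ideal.one_eq_top]; exact Ideal.Quotient.subsingleton_iff.mpr rfl
    exact ⟨fun a b _ => Subsingleton.elim a b, fun b => ⟨0, Subsingleton.elim _ b⟩⟩
  have hn0 : n ≠ 0 := Nat.pos_iff_ne_zero.mp hn
  -- the natural map g : R/I^n → S/J
  have hInJ : I ^ n ≤ J.comap (Algebra.ofId R S) := fun r hr => Ideal.pow_le_self hn0 hr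
  let g : (R ⧸ I ^ n) →ₐ[R] (S ⧸ J) := Ideal.quotientMapₐ J (Algebra.ofId R S) hInJ
  have hg_mk : ∀ r : R, g (Ideal.Quotient.mk (I ^ n) r) = Ideal.Quotient.mk J (algebraMap R S r) :=
    fun r => rfl
  have hg_surj : Function.Surjective g := by
    intro y
    obtain ⟨r, hr⟩ := hJ y
    exact ⟨Ideal.Quotient.mk (I ^ n) r, by rw [hg_mk]; exact hr⟩
  have hker_le : RingHom.ker (g : (R ⧸ I ^ n) →+* (S ⧸ J)) ≤ I.map (Ideal.Quotient.mk (I ^ n)) := by
    intro x hx
    obtain ⟨r, rfl⟩ := Ideal.Quotient.mk_surjective x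
    rw [RingHom.mem_ker] at hx
    have hx' : Ideal.Quotient.mk J (algebraMap R S r) = 0 := hx
    rw [Ideal.Quotient.eq_zero_iff_mem] at hx'
    exact Ideal.mem_map_of_mem _ hx'
  have hg_nil : IsNilpotent (RingHom.ker (g : (R ⧸ I ^ n) →+* (S ⧸ J))) := by
    refine ⟨n, ?_⟩
    rw [Ideal.zero_eq_bot, eq_bot_iff]
    refine (Ideal.pow_right_mono hker_le n).trans ?_
    rw [← Ideal.map_pow, Ideal.map_quotient_self]
  -- the lift
  let σ : S →ₐ[R] (R ⧸ I ^ n) :=
    Algebra.FormallySmooth.liftOfSurjective (Ideal.Quotient.mkₐ R J) g hg_surj hg_nil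
  have hσ : ∀ s, g (σ s) = Ideal.Quotient.mk J s := fun s =>
    Algebra.FormallySmooth.liftOfSurjective_apply (Ideal.Quotient.mkₐ R J) g hg_surj hg_nil s
  have hσJ : ∀ j ∈ J, σ j ∈ I.map (Ideal.Quotient.mk (I ^ n)) := by
    intro j hj
    apply hker_le
    rw [RingHom.mem_ker]
    show g (σ j) = 0
    rw [hσ, Ideal.Quotient.eq_zero_iff_mem]
    exact hj
  have hσJn : ∀ a ∈ J ^ n, σ a = 0 := by
    intro a ha
    have h1 : J ≤ (I.map (Ideal.Quotient.mk (I ^ n))).comap (σ : S →+* (R ⧸ I ^ n)) := hσJ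
    have h2 : J ^ n ≤ ((I.map (Ideal.Quotient.mk (I ^ n))) ^ n).comap (σ : S →+* (R ⧸ I ^ n)) :=
      (Ideal.pow_right_mono h1 n).trans (Ideal.le_comap_pow _ n)
    have h3 := h2 ha
    rw [← Ideal.map_pow, Ideal.map_quotient_self] at h3
    exact h3
  let σbar : (S ⧸ J ^ n) →ₐ[R] (R ⧸ I ^ n) := Ideal.Quotient.liftₐ (J ^ n) σ hσJn
  set q := Ideal.quotientMap (J ^ n) (algebraMap R S) hIn with hq
  have hq_mk : ∀ r : R, q (Ideal.Quotient.mk (I ^ n) r) =
      Ideal.Quotient.mk (J ^ n) (algebraMap R S r) := fun r => rfl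
  constructor
  · -- injective: σbar is a left inverse
    have hleft : Function.LeftInverse σbar q := by
      intro b
      obtain ⟨r, rfl⟩ := Ideal.Quotient.mk_surjective b
      rw [hq_mk]
      show σ (algebraMap R S r) = _
      rw [AlgHom.commutes]
      rfl
    exact hleft.injective
  · -- surjective: uniqueness of lifts
    let qa : (R ⧸ I ^ n) →ₐ[R] (S ⧸ J ^ n) := Ideal.quotientMapₐ (J ^ n) (Algebra.ofId R S) hIn
    have hqa : ∀ b, qa b = q b := fun b => rfl
    let π : (S ⧸ J ^ n) →+* (S ⧸ J) := Ideal.Quotient.factor (Ideal.pow_le_self hn0)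
    have hπ_nil : IsNilpotent (RingHom.ker π) := by
      refine ⟨n, ?_⟩
      rw [Ideal.zero_eq_bot, eq_bot_iff]
      have hle : RingHom.ker π ≤ J.map (Ideal.Quotient.mk (J ^ n)) := by
        intro x hx
        obtain ⟨s, rfl⟩ := Ideal.Quotient.mk_surjective x
        rw [RingHom.mem_ker] at hx
        have hx' : Ideal.Quotient.mk J s = 0 := hx
        rw [Ideal.Quotient.eq_zero_iff_mem] at hx'
        exact Ideal.mem_map_of_mem _ hx'
      refine (Ideal.pow_right_mono hle n).trans ?_
      rw [← Ideal.map_pow, Ideal.map_quotient_self]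
    have hπq : ∀ b, π (q b) = g b := by
      intro b
      obtain ⟨r, rfl⟩ := Ideal.Quotient.mk_surjective b
      rfl
    have heq : qa.comp σ = Ideal.Quotient.mkₐ R (J ^ n) := by
      refine Algebra.FormallyUnramified.ext' π hπ_nil _ _ ?_
      intro s
      show π (q (σ s)) = π (Ideal.Quotient.mk (J ^ n) s)
      rw [hπq, hσ]
      rfl
    intro y
    obtain ⟨s, rfl⟩ := Ideal.Quotient.mk_surjective y
    refine ⟨σ s, ?_⟩
    have := DFunLike.congr_fun heq s
    exact this

end Groth.Agent.S9428
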