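import Groth.Statements.S9431
-- import your own Groth.Agent.* helpers here
import Groth.Agent.Lib.Helper7.Field.SmoothSub

set_option autoImplicit false
universe u
open CAlg

namespace Groth.Agent.S9431

/-- For a separable (geometrically reduced) field extension K/k, every finite subset of K lies in a
k-subalgebra of K which is smooth over k; in particular K is a filtered colimit of smooth
k-algebras. -/
theorem result (k : Type u) [Field k]
    (K : Type u) [Field K] [Algebra k K] [Algebra.IsGeometricallyReduced k K] (E : Finset K) :
    ∃ A : Subalgebra k K, (↑E : Set K) ⊆ (A : Set K) ∧ Algebra.Smooth k A := by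
  exact Groth.Agent.Helper7.SepSmooth.exists_smooth_subalgebra k K E

end Groth.Agent.S9431
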