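import Groth.Statements.S9435
-- import your own Groth.Agent.* helpers here
import Groth.Agent.Lib.Helper7.CAlg.EtaleResidue

set_option autoImplicit false
universe u
open CAlg

namespace Groth.Agent.S9435

/-- Given a prime p of a ring R and a finite separable extension L of κ(p), there is an étale R-algebra
R' with a prime p' over p whose residue field is κ(p)-isomorphic to L. Stated through an R-algebra
map ψ : R' → L whose image generates the field L: its kernel is such a prime p' and the induced
κ(p') → L is then an isomorphism over κ(p). -/
theorem result (R : Type u) [CommRing R]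
    (p : Ideal R) [p.IsPrime] (L : Type u) [Field L] [Algebra p.ResidueField L] [Algebra R L]
    [IsScalarTower R p.ResidueField L] [Module.Finite p.ResidueField L]
    [Algebra.IsSeparable p.ResidueField L] :
    ∃ (R' : Type u) (_ : CommRing R') (_ : Algebra R R') (_ : Algebra.Etale R R') (ψ : R' →ₐ[R] L),
      Subfield.closure (Set.range ψ) = ⊤ := by
  obtain ⟨P, ψ, hψ⟩ := Groth.Agent.Helper7.EtaleRes.exists_etale_generating p L
  exact ⟨P.Ring, inferInstance, inferInstance, inferInstance, ψ, hψ⟩

end Groth.Agent.S9435
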