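import Groth.Statements.S9442
import Groth.Agent.Lib.Helper8.SmoothAtReg

set_option autoImplicit false
universe u
open CAlg

namespace Groth.Agent.S9442

/-- For a finite type algebra S over a field k and a prime q of S with κ(q) separable over k, S is
smooth over k at q if and only if S_q is a regular local ring. -/
theorem result (k : Type u) [Field k]
    (S : Type u) [CommRing S] [Algebra k S] [Algebra.FiniteType k S] (q : Ideal S) [q.IsPrime]
    [Algebra.IsGeometricallyReduced k q.ResidueField] :
    Algebra.IsSmoothAt k q ↔ IsRegularLocalRing (Localization.AtPrime q) := by
  haveI : Algebra.IsGeometricallyReduced k (IsLocalRing.ResidueField (Localization.AtPrime q)) :=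
    ‹Algebra.IsGeometricallyReduced k q.ResidueField›
  exact Groth.Agent.Helper8.SmoothAtReg.isSmoothAt_iff_isRegularLocalRing k S q

end Groth.Agent.S9442
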