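import Groth.Statements.S9443
-- import your own Groth.Agent.* helpers here
import Groth.Agent.Lib.Helper7.CAlg.PowerSeriesEval
import Groth.Agent.S11741

set_option autoImplicit false
universe u
open CAlg

namespace Groth.Agent.S9443

/-- A complete regular local ring R with a coefficient field k (a subfield mapping isomorphically onto
the residue field) is k-isomorphic to a power series ring over k in finitely many variables
(existence of an isomorphism only; the number of variables is then the dimension of R). -/
theorem result (R : Type u)
    [CommRing R] [IsRegularLocalRing R] [IsAdicComplete (IsLocalRing.maximalIdeal R) R]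
    (k : Type u) [Field k] [Algebra k R]
    (hk : Function.Bijective (algebraMap k (IsLocalRing.ResidueField R))) :
    ∃ d : ℕ, Nonempty (R ≃ₐ[k] MvPowerSeries (Fin d) k) := by
  classical
  have hR : Function.Surjective ((IsLocalRing.residue R).comp (algebraMap k R)) := hk.2
  let d := Module.finrank (IsLocalRing.ResidueField R) (IsLocalRing.CotangentSpace R)
  let v : Module.Basis (Fin d) (IsLocalRing.ResidueField R) (IsLocalRing.CotangentSpace R) :=
    Module.finBasis _ _
  have hlift : ∀ i : Fin d, ∃ x : IsLocalRing.maximalIdeal R,
      (IsLocalRing.maximalIdeal R).toCotangent x = v i :=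
    fun i => Ideal.toCotangent_surjective _ (v i)
  choose x hx using hlift
  obtain ⟨ψ, hψX⟩ := Groth.Agent.Helper7.PowerSeriesEval.exists_algHom k R d
    (fun i => (x i : R)) (fun i => (x i).2)
  have hψ : ∀ i : Fin d, ψ (MvPowerSeries.X i) ∈ IsLocalRing.maximalIdeal R := by
    intro i
    rw [hψX]
    exact (x i).2
  have hv : (fun i : Fin d => (IsLocalRing.maximalIdeal R).toCotangent
      ⟨ψ (MvPowerSeries.X i), hψ i⟩) = v := by
    funext i
    rw [← hx i]
    congr 1
    exact Subtype.ext (hψX i)
  have hb : LinearIndependent (IsLocalRing.ResidueField R)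
      (fun i : Fin d => (IsLocalRing.maximalIdeal R).toCotangent ⟨ψ (MvPowerSeries.X i), hψ i⟩) := by
    rw [hv]
    exact v.linearIndependent
  have hsp : Submodule.span (IsLocalRing.ResidueField R)
      (Set.range (fun i : Fin d => (IsLocalRing.maximalIdeal R).toCotangent
        ⟨ψ (MvPowerSeries.X i), hψ i⟩)) = ⊤ := by
    rw [hv]
    exact v.span_eq
  have hbij : Function.Bijective ψ :=
    (Groth.Agent.S11741.result k R hR d ψ hψ hb hsp).mp inferInstance
  exact ⟨d, ⟨(AlgEquiv.ofBijective ψ hbij).symm⟩⟩

end Groth.Agent.S9443
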