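import Groth.Statements.S9448
import Mathlib
import Groth.Agent.Lib.Helper4.DimFT1
import Groth.Agent.Lib.Helper8.FlatReg11
import Groth.Agent.Lib.Helper8.RegularLocal
import Groth.Agent.Lib.Helper9.EtReg.Basic
-- import your own Groth.Agent.* helpers here

set_option autoImplicit false
universe u
open Unram

namespace Groth.Agent.S9448

namespace Aux


open TensorProduct

section
variable (k : Type u) [Field k] (n : ℕ) (A : Type u) [CommRing A] [Algebra k A]
  [Algebra (MvPolynomial (Fin n) k) A] [IsScalarTower k (MvPolynomial (Fin n) k) A]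

theorem span_D_X_eq_top :
    Submodule.span (MvPolynomial (Fin n) k) (Set.range fun i : Fin n =>
      KaehlerDifferential.D k (MvPolynomial (Fin n) k) (MvPolynomial.X i)) = ⊤ := by
  have h := (KaehlerDifferential.mvPolynomialBasis k (Fin n)).span_eq
  have : (Set.range fun i : Fin n =>
      KaehlerDifferential.D k (MvPolynomial (Fin n) k) (MvPolynomial.X i)) =
      Set.range (KaehlerDifferential.mvPolynomialBasis k (Fin n)) := by
    congr 1
    funext i
    exact (KaehlerDifferential.mvPolynomialBasis_apply k (Fin n) i).symm
  rw [this, h]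

theorem span_D_of_formallyUnramified [Algebra.FormallyUnramified (MvPolynomial (Fin n) k) A] :
    Submodule.span A (Set.range fun i : Fin n =>
      KaehlerDifferential.D k A (algebraMap (MvPolynomial (Fin n) k) A (MvPolynomial.X i))) = ⊤ := by
  set S := Submodule.span A (Set.range fun i : Fin n =>
      KaehlerDifferential.D k A (algebraMap (MvPolynomial (Fin n) k) A (MvPolynomial.X i))) with hS
  rw [eq_top_iff]
  intro ω _
  have hex := KaehlerDifferential.exact_mapBaseChange_map k (MvPolynomial (Fin n) k) A
  have h0 : KaehlerDifferential.map k (MvPolynomial (Fin n) k) A A ω = 0 :=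
    Subsingleton.elim _ _
  obtain ⟨t, rfl⟩ := (hex ω).mp h0
  clear h0
  rename_i htop
  clear htop
  have key : ∀ (η : Ω[MvPolynomial (Fin n) k⁄k]) (a : A),
      KaehlerDifferential.mapBaseChange k (MvPolynomial (Fin n) k) A (a ⊗ₜ η) ∈ S := by
    intro η
    have hη : η ∈ Submodule.span (MvPolynomial (Fin n) k) (Set.range fun i : Fin n =>
      KaehlerDifferential.D k (MvPolynomial (Fin n) k) (MvPolynomial.X i)) := by
      rw [span_D_X_eq_top]; trivial
    induction hη using Submodule.span_induction with
    | mem x hx =>
      obtain ⟨i, rfl⟩ := hx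
      intro a
      rw [KaehlerDifferential.mapBaseChange_tmul, KaehlerDifferential.map_D]
      exact Submodule.smul_mem _ _ (Submodule.subset_span ⟨i, rfl⟩)
    | zero => intro a; rw [tmul_zero, map_zero]; exact Submodule.zero_mem _
    | add x y _ _ hx hy =>
      intro a
      rw [tmul_add, map_add]
      exact Submodule.add_mem _ (hx a) (hy a)
    | smul p x _ hx =>
      intro a
      rw [← TensorProduct.smul_tmul]
      exact hx _
  induction t using TensorProduct.induction_on with
  | zero => rw [map_zero]; exact Submodule.zero_mem _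
  | tmul a η => exact key η a
  | add x y hx hy => rw [map_add]; exact Submodule.add_mem _ hx hy

theorem formallyUnramified_of_span
    (hspan : Submodule.span A (Set.range fun i : Fin n =>
      KaehlerDifferential.D k A (algebraMap (MvPolynomial (Fin n) k) A (MvPolynomial.X i))) = ⊤) :
    Algebra.FormallyUnramified (MvPolynomial (Fin n) k) A := by
  constructor
  refine subsingleton_of_forall_eq 0 (fun ω' => ?_)
  obtain ⟨ω, rfl⟩ := KaehlerDifferential.map_surjective k (MvPolynomial (Fin n) k) A ω'
  have hω : ω ∈ Submodule.span A (Set.range fun i : Fin n =>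
      KaehlerDifferential.D k A (algebraMap (MvPolynomial (Fin n) k) A (MvPolynomial.X i))) := by
    rw [hspan]; trivial
  induction hω using Submodule.span_induction with
  | mem x hx =>
    obtain ⟨i, rfl⟩ := hx
    rw [KaehlerDifferential.map_D]
    exact Derivation.map_algebraMap _ _
  | zero => exact map_zero _
  | add x y _ _ hx hy => rw [map_add, hx, hy, add_zero]
  | smul a x _ hx => rw [map_smul, hx, smul_zero]

end



open IsLocalRing

theorem under_isMaximal_of_finiteType (k P A : Type*) [Field k] [CommRing P] [Algebra k P]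
    [CommRing A] [Algebra k A] [Algebra P A] [IsScalarTower k P A] [Algebra.FiniteType k A]
    (m : Ideal A) [hm : m.IsMaximal] : (m.under P).IsMaximal := by
  letI := Ideal.Quotient.field m
  have hfin : Module.Finite k (A ⧸ m) := finite_of_finite_type_of_isJacobsonRing k (A ⧸ m)
  have : m.LiesOver (m.under P) := ⟨rfl⟩
  have hint : Algebra.IsIntegral k (A ⧸ m) := inferInstance
  have hint' : Algebra.IsIntegral (P ⧸ m.under P) (A ⧸ m) := Algebra.IsIntegral.tower_top k
  have hinj : Function.Injective (algebraMap (P ⧸ m.under P) (A ⧸ m)) :=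
    FaithfulSMul.algebraMap_injective _ _
  have hf : IsField (P ⧸ m.under P) :=
    isField_of_isIntegral_of_isField hinj (Field.toIsField (A ⧸ m))
  exact Ideal.Quotient.maximal_of_isField _ hf

theorem dim_of_etale (k : Type u) [Field k] (n : ℕ) (A : Type u) [CommRing A] [Algebra k A]
    [Algebra (MvPolynomial (Fin n) k) A] [IsScalarTower k (MvPolynomial (Fin n) k) A]
    [Algebra.Etale (MvPolynomial (Fin n) k) A] (m : Ideal A) [hm : m.IsMaximal] :
    ringKrullDim (Localization.AtPrime m) = n := by
  have hft : Algebra.FiniteType k A :=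
    Algebra.FiniteType.trans (S := MvPolynomial (Fin n) k) inferInstance inferInstance
  have hN : IsNoetherianRing A := Algebra.FiniteType.isNoetherianRing (MvPolynomial (Fin n) k) A
  set p : Ideal (MvPolynomial (Fin n) k) := m.under (MvPolynomial (Fin n) k) with hp
  have hpmax : p.IsMaximal := under_isMaximal_of_finiteType k (MvPolynomial (Fin n) k) A m
  have hpprime : p.IsPrime := hpmax.isPrime
  have hlo : m.LiesOver p := ⟨rfl⟩
  let _ := Localization.AtPrime.algebraOfLiesOver p m
  have hloc : IsLocalHom (algebraMap (Localization.AtPrime p) (Localization.AtPrime m)) := by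
    rw [RingHom.algebraMap_toAlgebra]
    exact Localization.isLocalHom_localRingHom p m (algebraMap _ A) Ideal.LiesOver.over
  have h1 := Groth.Agent.Helper8.FlatReg.ringKrullDim_eq_add_of_flat
    (Localization.AtPrime p) (Localization.AtPrime m)
  have h2 : ringKrullDim (Localization.AtPrime p) = n := by
    rw [IsLocalization.AtPrime.ringKrullDim_eq_height p (Localization.AtPrime p),
      Groth.Agent.Lib.Helper4.DimFT1.mvPolynomial_height_of_isMaximal k n p]
    rfl
  have : Algebra.EssFiniteType (MvPolynomial (Fin n) k) (Localization.AtPrime m) :=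
    Algebra.EssFiniteType.comp _ A _
  have : Algebra.EssFiniteType (Localization.AtPrime p) (Localization.AtPrime m) :=
    Algebra.EssFiniteType.of_comp (MvPolynomial (Fin n) k) _ _
  have : Algebra.FormallyUnramified (MvPolynomial (Fin n) k) (Localization.AtPrime m) :=
    Algebra.FormallyUnramified.comp _ A _
  have : Algebra.FormallyUnramified (Localization.AtPrime p) (Localization.AtPrime m) :=
    Algebra.FormallyUnramified.of_restrictScalars (MvPolynomial (Fin n) k) _ _
  have hmap := Algebra.FormallyUnramified.map_maximalIdeal (R := Localization.AtPrime p)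
    (S := Localization.AtPrime m)
  rw [hmap] at h1
  have h3 : ringKrullDim (Localization.AtPrime m ⧸ maximalIdeal (Localization.AtPrime m)) = 0 :=
    ringKrullDim_eq_zero_of_isField
      ((Ideal.Quotient.maximal_ideal_iff_isField_quotient _).mp (maximalIdeal.isMaximal _))
  rw [h1, h2, h3, add_zero]



open IsLocalRing

/-- dimension bound for a local ring unramified and flat over a localization -/
theorem dim_le_of_flat_unramified (R E : Type u) [CommRing R] [CommRing E] [Algebra R E]
    [IsNoetherianRing R] [IsNoetherianRing E] [Module.Flat R E] [Algebra.EssFiniteType R E]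
    (M : Ideal E) [M.IsPrime] (hunr : Algebra.FormallyUnramified R (Localization.AtPrime M)) :
    ringKrullDim (Localization.AtPrime M) ≤ ringKrullDim R := by
  set p : Ideal R := M.under R with hp
  have hlo : M.LiesOver p := ⟨rfl⟩
  let _ := Localization.AtPrime.algebraOfLiesOver p M
  have hloc : IsLocalHom (algebraMap (Localization.AtPrime p) (Localization.AtPrime M)) := by
    rw [RingHom.algebraMap_toAlgebra]
    exact Localization.isLocalHom_localRingHom p M (algebraMap R E) Ideal.LiesOver.over
  have h1 := Groth.Agent.Helper8.FlatReg.ringKrullDim_eq_add_of_flat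
    (Localization.AtPrime p) (Localization.AtPrime M)
  have : Algebra.EssFiniteType R (Localization.AtPrime M) :=
    Algebra.EssFiniteType.comp R E _
  have : Algebra.EssFiniteType (Localization.AtPrime p) (Localization.AtPrime M) :=
    Algebra.EssFiniteType.of_comp R _ _
  have : Algebra.FormallyUnramified (Localization.AtPrime p) (Localization.AtPrime M) :=
    Algebra.FormallyUnramified.of_restrictScalars R _ _
  have hmap := Algebra.FormallyUnramified.map_maximalIdeal (R := Localization.AtPrime p)
    (S := Localization.AtPrime M)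
  rw [hmap] at h1
  have h3 : ringKrullDim (Localization.AtPrime M ⧸ maximalIdeal (Localization.AtPrime M)) = 0 :=
    ringKrullDim_eq_zero_of_isField
      ((Ideal.Quotient.maximal_ideal_iff_isField_quotient _).mp (maximalIdeal.isMaximal _))
  rw [h1, h3, add_zero, IsLocalization.AtPrime.ringKrullDim_eq_height p (Localization.AtPrime p)]
  exact Ideal.height_le_ringKrullDim_of_ne_top (Ideal.IsPrime.ne_top inferInstance)

/-- unramified at `m` over a regular ring, with `dim R ≤ dim A_m`, implies étale at `m`. -/
theorem isEtaleAt_of_isUnramifiedAt_of_dim_le (R A : Type u) [CommRing R] [CommRing A]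
    [Algebra R A] [IsRegularRing R] [Algebra.FiniteType R A]
    (m : Ideal A) [m.IsPrime] [hunr : Algebra.IsUnramifiedAt R m]
    (hdim : ringKrullDim R ≤ ringKrullDim (Localization.AtPrime m)) :
    Algebra.IsEtaleAt R m := by
  have hNA : IsNoetherianRing A := Algebra.FiniteType.isNoetherianRing R A
  obtain ⟨f, hfm, Pe, φ, hφ⟩ := Algebra.IsUnramifiedAt.exists_hasStandardEtaleSurjectionOn (R := R) m
  set T := Localization.AtPrime m with hT
  have hfunit : ∀ y : Submonoid.powers f, IsUnit ((IsScalarTower.toAlgHom R A T) (y : A)) := by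
    rintro ⟨_, k, rfl⟩
    rw [map_pow]
    apply IsUnit.pow
    exact IsLocalization.map_units T (⟨f, hfm⟩ : m.primeCompl)
  let ψ₀ : Localization.Away f →ₐ[R] T := IsLocalization.liftAlgHom (M := Submonoid.powers f) hfunit
  have hψ₀ : ∀ a : A, ψ₀ (algebraMap A (Localization.Away f) a) = algebraMap A T a := by
    intro a
    simp [ψ₀, IsLocalization.liftAlgHom_apply]
  let θ : Pe.Ring →ₐ[R] T := ψ₀.comp φ
  set M' : Ideal Pe.Ring := (maximalIdeal T).comap θ.toRingHom with hM'
  have hM'prime : M'.IsPrime := Ideal.comap_isPrime _ _
  have hθunit : ∀ y : M'.primeCompl, IsUnit (θ (y : Pe.Ring)) := by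
    rintro ⟨y, hy⟩
    by_contra hnu
    exact hy ((IsLocalRing.mem_maximalIdeal _).mpr hnu)
  let χ : Localization.AtPrime M' →ₐ[R] T := IsLocalization.liftAlgHom (M := M'.primeCompl) hθunit
  have hχ : ∀ e : Pe.Ring, χ (algebraMap Pe.Ring (Localization.AtPrime M') e) = θ e := by
    intro e
    simp [χ, IsLocalization.liftAlgHom_apply]
  -- surjectivity
  have hχsurj : Function.Surjective χ := by
    intro t
    obtain ⟨a, s, rfl⟩ := IsLocalization.exists_mk'_eq m.primeCompl t
    obtain ⟨ea, hea⟩ := hφ (algebraMap A (Localization.Away f) a)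
    obtain ⟨es, hes⟩ := hφ (algebraMap A (Localization.Away f) (s : A))
    have hθa : θ ea = algebraMap A T a := by
      show ψ₀ (φ ea) = _
      rw [hea, hψ₀]
    have hθs : θ es = algebraMap A T (s : A) := by
      show ψ₀ (φ es) = _
      rw [hes, hψ₀]
    have hesM : es ∉ M' := by
      intro hmem
      have h1 : θ es ∈ maximalIdeal T := hmem
      rw [hθs] at h1
      exact (IsLocalRing.mem_maximalIdeal _).mp h1 (IsLocalization.map_units T s)
    refine ⟨IsLocalization.mk' (Localization.AtPrime M') ea (⟨es, hesM⟩ : M'.primeCompl), ?_⟩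
    rw [IsLocalization.eq_mk'_iff_mul_eq, ← hθs, ← hχ es, ← map_mul, IsLocalization.mk'_spec, hχ,
      hθa]
  -- the source is a regular local ring
  have hNE : IsNoetherianRing Pe.Ring := Algebra.FiniteType.isNoetherianRing R Pe.Ring
  have hEunr : Algebra.FormallyUnramified R (Localization.AtPrime M') :=
    Algebra.FormallyUnramified.comp R Pe.Ring _
  have hreg : IsRegularLocalRing (Localization.AtPrime M') :=
    Groth.Agent.Helper9.EtReg.regular_atPrime_of_unramified R Pe.Ring M' hEunr
  have hdom : IsDomain (Localization.AtPrime M') := Groth.Agent.Helper8.RLR.isDomain _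
  have hdimE : ringKrullDim (Localization.AtPrime M') ≤ ringKrullDim R :=
    dim_le_of_flat_unramified R Pe.Ring M' hEunr
  -- injectivity
  have hχinj : Function.Injective χ := by
    rw [injective_iff_map_eq_zero]
    intro x hx
    by_contra hx0
    have hxnzd : x ∈ nonZeroDivisors (Localization.AtPrime M') := mem_nonZeroDivisors_of_ne_zero hx0
    have h1 := ringKrullDim_quotient_succ_le_of_nonZeroDivisor hxnzd
    let χ' : (Localization.AtPrime M' ⧸ Ideal.span {x}) →+* T :=
      Ideal.Quotient.lift _ χ.toRingHom (by
        intro y hy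
        obtain ⟨c, rfl⟩ := Ideal.mem_span_singleton'.mp hy
        show χ (c * x) = 0
        rw [map_mul, hx, mul_zero])
    have hχ'surj : Function.Surjective χ' := by
      intro t
      obtain ⟨y, rfl⟩ := hχsurj t
      exact ⟨Ideal.Quotient.mk _ y, rfl⟩
    have h2 := ringKrullDim_le_of_surjective χ' hχ'surj
    have h3 : ringKrullDim T + 1 ≤ ringKrullDim T :=
      le_trans (add_le_add_left h2 1) (le_trans h1 (le_trans hdimE hdim))
    have hfin : ringKrullDim T < ⊤ := ringKrullDim_lt_top
    have hbot : ringKrullDim T ≠ ⊥ := ringKrullDim_ne_bot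
    obtain ⟨d, hd⟩ : ∃ d : ℕ, ringKrullDim T = d := by
      cases h : ringKrullDim T with
      | bot => exact absurd h hbot
      | coe d' =>
        cases d' with
        | top => rw [h] at hfin; exact absurd hfin (lt_irrefl _)
        | coe d'' => exact ⟨d'', rfl⟩
    rw [hd] at h3
    have : ((d + 1 : ℕ) : WithBot ℕ∞) ≤ (d : WithBot ℕ∞) := by exact_mod_cast h3
    have h4 : d + 1 ≤ d := by exact_mod_cast this
    omega
  have hEet : Algebra.FormallyEtale R (Localization.AtPrime M') := by
    have : Algebra.FormallyEtale Pe.Ring (Localization.AtPrime M') :=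
      Algebra.FormallyEtale.of_isLocalization M'.primeCompl
    exact Algebra.FormallyEtale.comp R Pe.Ring _
  exact Algebra.FormallyEtale.of_equiv (AlgEquiv.ofBijective χ ⟨hχinj, hχsurj⟩)


theorem main (k : Type u) [Field k] (n : ℕ)
    (A : Type u) [CommRing A] [Algebra k A] [Algebra (MvPolynomial (Fin n) k) A]
    [IsScalarTower k (MvPolynomial (Fin n) k) A] [Algebra.FiniteType (MvPolynomial (Fin n) k) A] :
    Algebra.Etale (MvPolynomial (Fin n) k) A ↔
      (∀ (m : Ideal A) [m.IsMaximal], ringKrullDim (Localization.AtPrime m) = n) ∧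
        Submodule.span A (Set.range fun i : Fin n =>
          KaehlerDifferential.D k A (algebraMap (MvPolynomial (Fin n) k) A (MvPolynomial.X i))) = ⊤ := by
  constructor
  · intro h
    exact ⟨fun m _ => dim_of_etale k n A m, span_D_of_formallyUnramified k n A⟩
  · rintro ⟨hdim, hspan⟩
    have hunr := formallyUnramified_of_span k n A hspan
    have hfp : Algebra.FinitePresentation (MvPolynomial (Fin n) k) A :=
      Algebra.FinitePresentation.of_finiteType.mp inferInstance
    rw [← Algebra.etaleLocus_eq_univ_iff_etale, Set.eq_univ_iff_forall]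
    intro q
    obtain ⟨m, hm, hqm⟩ := Ideal.exists_le_maximal q.asIdeal q.2.ne_top
    have hmprime : m.IsPrime := hm.isPrime
    have hmem : (⟨m, hmprime⟩ : PrimeSpectrum A) ∈ Algebra.etaleLocus (MvPolynomial (Fin n) k) A := by
      have : Algebra.IsUnramifiedAt (MvPolynomial (Fin n) k) m :=
        Algebra.FormallyUnramified.comp (MvPolynomial (Fin n) k) A (Localization.AtPrime m)
      show Algebra.IsEtaleAt (MvPolynomial (Fin n) k) m
      apply isEtaleAt_of_isUnramifiedAt_of_dim_le
      rw [hdim m, MvPolynomial.ringKrullDim_of_isNoetherianRing, ringKrullDim_eq_zero_of_field,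
        Nat.card_fin, zero_add]
    have hspec : q ⤳ (⟨m, hmprime⟩ : PrimeSpectrum A) :=
      (PrimeSpectrum.le_iff_specializes q ⟨m, hmprime⟩).mp hqm
    exact Algebra.isOpen_etaleLocus.stableUnderGeneralization hspec hmem

end Aux

/-- For a field k and a finite type algebra A over the polynomial ring k[x_1, …, x_n] (the variables
mapping to a_1, …, a_n), the structure map is étale if and only if (a) the local rings of A at all
maximal ideals have dimension n and (b) da_1, …, da_n generate the module of differentials of A over
k. -/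
theorem result (k : Type u) [Field k] (n : ℕ)
    (A : Type u) [CommRing A] [Algebra k A] [Algebra (MvPolynomial (Fin n) k) A]
    [IsScalarTower k (MvPolynomial (Fin n) k) A] [Algebra.FiniteType (MvPolynomial (Fin n) k) A] :
    Algebra.Etale (MvPolynomial (Fin n) k) A ↔
      (∀ (m : Ideal A) [m.IsMaximal], ringKrullDim (Localization.AtPrime m) = n) ∧
        Submodule.span A (Set.range fun i : Fin n =>
          KaehlerDifferential.D k A (algebraMap (MvPolynomial (Fin n) k) A (MvPolynomial.X i))) = ⊤ := by
  exact Aux.main k n A

end Groth.Agent.S9448
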