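import Groth.Statements.S9450
import Mathlib

set_option autoImplicit false
universe u
open CAlg

namespace Groth.Agent.S9450

namespace H9450
open TensorProduct KaehlerDifferential

variable (A : Type u) [CommRing A] (B : Type u) [CommRing B] [Algebra A B]
  (C : Type u) [CommRing C] [Algebra B C] [Algebra A C] [IsScalarTower A B C]

local notation "II" => (RingHom.ker (algebraMap A C) : Ideal A)
local notation "JJ" => (RingHom.ker (algebraMap B C) : Ideal B)

/-- `A ⧸ I² → C`. -/
noncomputable def g : A ⧸ (II) ^ 2 →ₐ[A] C :=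
  Ideal.Quotient.liftₐ ((II) ^ 2) (Algebra.ofId A C) (fun a ha => by
    have : a ∈ II := Ideal.pow_le_self two_ne_zero ha
    simpa [Algebra.ofId_apply] using this)

lemma g_mk (a : A) : g A C (Ideal.Quotient.mk _ a) = algebraMap A C a := rfl

lemma ker_g : RingHom.ker (g A C : A ⧸ (II) ^ 2 →+* C) = (II).cotangentIdeal := by
  apply le_antisymm
  · intro x hx
    obtain ⟨x, rfl⟩ := Ideal.Quotient.mk_surjective x
    exact ⟨x, hx, rfl⟩
  · rintro _ ⟨x, hx, rfl⟩
    exact hx

variable {A C} in
lemma g_surj (hC : Function.Surjective (algebraMap A C)) : Function.Surjective (g A C) := by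
  intro c
  obtain ⟨a, rfl⟩ := hC c
  exact ⟨Ideal.Quotient.mk _ a, rfl⟩

lemma ker_g_nilp : IsNilpotent (RingHom.ker (g A C : A ⧸ (II) ^ 2 →+* C)) :=
  ⟨2, by rw [ker_g]; exact Ideal.cotangentIdeal_square _⟩

variable [Algebra.FormallySmooth A B]

variable {A C} in
/-- The lift `σ : B → A ⧸ I²`. -/
noncomputable def σ (hC : Function.Surjective (algebraMap A C)) : B →ₐ[A] A ⧸ (II) ^ 2 :=
  Algebra.FormallySmooth.liftOfSurjective (IsScalarTower.toAlgHom A B C) (g A C) (g_surj hC)
    (ker_g_nilp A C)

variable {A B C} in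
lemma g_σ (hC : Function.Surjective (algebraMap A C)) (b : B) :
    g A C (σ B hC b) = algebraMap B C b :=
  Algebra.FormallySmooth.liftOfSurjective_apply _ _ _ _ b

variable {A B C} in
lemma σ_mem (hC : Function.Surjective (algebraMap A C)) (b : B) (hb : b ∈ JJ) :
    σ B hC b ∈ (II).cotangentIdeal := by
  rw [← ker_g, RingHom.mem_ker]
  exact (g_σ hC b).trans hb



variable {A B C} in
/-- `J → I/I²` induced by `σ`. -/
noncomputable def f0 (hC : Function.Surjective (algebraMap A C)) :
    (JJ) →ₗ[A] (II).Cotangent where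
  toFun j := (II).cotangentEquivIdeal.symm ⟨σ B hC (j : B), σ_mem hC (j : B) j.2⟩
  map_add' x y := by
    rw [← map_add]
    congr 1
    ext
    simp
  map_smul' a x := by
    rw [RingHom.id_apply, ← map_smul]
    congr 1
    ext
    simp

variable {A B C} in
lemma f0_mul (hC : Function.Surjective (algebraMap A C)) (x y : JJ) : f0 hC (x * y) = 0 := by
  have : (⟨σ B hC (x * y : JJ), σ_mem hC _ (x * y).2⟩ : (II).cotangentIdeal) = 0 := by
    ext
    have h : σ B hC (x : B) * σ B hC (y : B) ∈ (II).cotangentIdeal * (II).cotangentIdeal :=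
      Ideal.mul_mem_mul (σ_mem hC _ x.2) (σ_mem hC _ y.2)
    have h2 : (II).cotangentIdeal * (II).cotangentIdeal = ⊥ :=
      (pow_two (II).cotangentIdeal).symm.trans (Ideal.cotangentIdeal_square _)
    rw [h2] at h
    simpa using h
  change (II).cotangentEquivIdeal.symm _ = 0
  rw [this, map_zero]

variable {A B C} in
/-- The retraction. -/
noncomputable def r (hC : Function.Surjective (algebraMap A C)) :
    (JJ).Cotangent →ₗ[A] (II).Cotangent :=
  Ideal.Cotangent.lift (f0 hC) (f0_mul hC)

/-- the map φ -/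
noncomputable abbrev φ : (II).Cotangent →ₗ[A] (JJ).Cotangent :=
  Ideal.mapCotangent (II) (JJ) (Algebra.ofId A B)
    (le_of_eq (congrArg RingHom.ker (IsScalarTower.algebraMap_eq A B C)))

variable {A B C} in
lemma r_comp_φ (hC : Function.Surjective (algebraMap A C)) :
    r hC ∘ₗ φ A B C = LinearMap.id := by
  ext x
  obtain ⟨x, rfl⟩ := Ideal.toCotangent_surjective _ x
  rw [LinearMap.comp_apply, Ideal.mapCotangent_toCotangent, LinearMap.id_apply]
  change f0 hC _ = _
  change (II).cotangentEquivIdeal.symm _ = _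
  rw [← Ideal.cotangentEquivIdeal_symm_apply (II) x.1 x.2]
  congr 1
  ext
  simp [Algebra.ofId_apply]



omit [Algebra.FormallySmooth A B] in
variable {A B C} in
lemma surjBC (hC : Function.Surjective (algebraMap A C)) :
    Function.Surjective (algebraMap B C) := by
  intro c
  obtain ⟨a, rfl⟩ := hC c
  exact ⟨algebraMap A B a, (IsScalarTower.algebraMap_apply A B C a).symm⟩

omit [Algebra.FormallySmooth A B] in
variable {A B C} in
lemma surj (hC : Function.Surjective (algebraMap A C)) :
    Function.Surjective (kerCotangentToTensor A B C) := by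
  have hex := KaehlerDifferential.exact_kerCotangentToTensor_mapBaseChange A B C (surjBC hC)
  have : Subsingleton Ω[C⁄A] := KaehlerDifferential.subsingleton_of_surjective A C hC
  intro y
  exact (hex y).1 (Subsingleton.elim _ _)

omit [Algebra.FormallySmooth A B] [Algebra A B] [Algebra A C] [IsScalarTower A B C] in
variable {B C} in
lemma mem_smul_top_of_tmul_eq_zero (hBC : Function.Surjective (algebraMap B C))
    (N : Type*) [AddCommGroup N] [Module B N] (n : N) (h : (1 : C) ⊗ₜ[B] n = 0) :
    n ∈ (JJ) • (⊤ : Submodule B N) := by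
  have hex := rTensor_exact N (LinearMap.exact_subtype_ker_map (Algebra.linearMap B C)) hBC
  have h1 : LinearMap.rTensor N (Algebra.linearMap B C) ((1 : B) ⊗ₜ[B] n) = 0 := by
    rw [LinearMap.rTensor_tmul, Algebra.linearMap_apply, map_one, h]
  obtain ⟨z, hz⟩ := (hex _).1 h1
  have key : ∀ z : (LinearMap.ker (Algebra.linearMap B C)) ⊗[B] N,
      TensorProduct.lid B N (LinearMap.rTensor N (LinearMap.ker (Algebra.linearMap B C)).subtype z)
        ∈ (JJ) • (⊤ : Submodule B N) := by
    intro z
    induction z using TensorProduct.induction_on with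
    | zero => simp
    | tmul j m =>
      rw [LinearMap.rTensor_tmul, TensorProduct.lid_tmul]
      exact Submodule.smul_mem_smul (by simp) trivial
    | add x y hx hy => rw [map_add, map_add]; exact add_mem hx hy
  have := key z
  rwa [hz, TensorProduct.lid_tmul, one_smul] at this



variable {A B C} in
lemma σ_sq (hC : Function.Surjective (algebraMap A C)) :
    ∀ a ∈ (JJ) ^ 2, σ B hC a = 0 := by
  have h2 : (II).cotangentIdeal * (II).cotangentIdeal = ⊥ :=
    (pow_two (II).cotangentIdeal).symm.trans (Ideal.cotangentIdeal_square _)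
  have : (JJ) * (JJ) ≤ RingHom.ker (σ B hC : B →+* A ⧸ (II) ^ 2) := by
    rw [Ideal.mul_le]
    intro r hr s hs
    rw [RingHom.mem_ker]
    have h : σ B hC r * σ B hC s ∈ (II).cotangentIdeal * (II).cotangentIdeal :=
      Ideal.mul_mem_mul (σ_mem hC _ hr) (σ_mem hC _ hs)
    rw [h2] at h
    simpa using h
  intro a ha
  exact this ((pow_two (JJ)) ▸ ha)

variable {A C} in
/-- `σ̄ : B ⧸ J² → A ⧸ I²`. -/
noncomputable def σbar (hC : Function.Surjective (algebraMap A C)) :
    B ⧸ (JJ) ^ 2 →ₐ[A] A ⧸ (II) ^ 2 :=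
  Ideal.Quotient.liftₐ ((JJ) ^ 2) (σ B hC) (σ_sq hC)

variable {A C} in
lemma σbar_mk (hC : Function.Surjective (algebraMap A C)) (b : B) :
    σbar B hC (Ideal.Quotient.mk _ b) = σ B hC b := rfl

omit [Algebra.FormallySmooth A B] in
lemma ψ_aux : ∀ a ∈ (II) ^ 2, (Algebra.ofId A (B ⧸ (JJ) ^ 2)) a = 0 := by
  intro a ha
  have h1 : (II) ≤ (JJ).comap (algebraMap A B) := by
    intro x hx
    rw [Ideal.mem_comap, RingHom.mem_ker, ← IsScalarTower.algebraMap_apply]
    exact hx
  have h2 : (II) ^ 2 ≤ ((JJ) ^ 2).comap (algebraMap A B) :=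
    (Ideal.pow_right_mono h1 2).trans (Ideal.le_comap_pow _ 2)
  have := h2 ha
  rw [Algebra.ofId_apply, IsScalarTower.algebraMap_apply A B (B ⧸ (JJ) ^ 2),
    Ideal.Quotient.algebraMap_eq, Ideal.Quotient.eq_zero_iff_mem]
  exact this

/-- `ψ : A ⧸ I² → B ⧸ J²`. -/
noncomputable def ψ : A ⧸ (II) ^ 2 →ₐ[A] B ⧸ (JJ) ^ 2 :=
  Ideal.Quotient.liftₐ ((II) ^ 2) (Algebra.ofId A (B ⧸ (JJ) ^ 2)) (ψ_aux A B C)

omit [Algebra.FormallySmooth A B] in
lemma ψ_mk (a : A) : ψ A B C (Ideal.Quotient.mk _ a) = Ideal.Quotient.mk _ (algebraMap A B a) := rfl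

variable {A C} in
lemma σbar_ψ (hC : Function.Surjective (algebraMap A C)) :
    (σbar B hC).comp (ψ A B C) = AlgHom.id A _ := by
  apply AlgHom.ext
  intro x
  obtain ⟨x, rfl⟩ := Ideal.Quotient.mk_surjective x
  rw [AlgHom.comp_apply, ψ_mk, σbar_mk, AlgHom.commutes]
  rfl

variable {A C} in
lemma ker_σbar_le (hC : Function.Surjective (algebraMap A C)) :
    RingHom.ker (σbar B hC) ≤ (JJ).cotangentIdeal := by
  intro x hx
  obtain ⟨b, rfl⟩ := Ideal.Quotient.mk_surjective x
  rw [RingHom.mem_ker, σbar_mk] at hx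
  rw [Ideal.mk_mem_cotangentIdeal, RingHom.mem_ker, ← g_σ hC b, hx, map_zero]

variable {A C} in
lemma ker_σbar_sq (hC : Function.Surjective (algebraMap A C)) :
    RingHom.ker (σbar B hC) ^ 2 = ⊥ := by
  rw [← le_bot_iff, ← Ideal.cotangentIdeal_square (JJ)]
  exact Ideal.pow_right_mono (ker_σbar_le B hC) 2

variable {A C} in
/-- derivation `B ⧸ J² → ker σ̄`. -/
noncomputable def δP (hC : Function.Surjective (algebraMap A C)) :
    Derivation A (B ⧸ (JJ) ^ 2) (RingHom.ker (σbar B hC)) :=
  derivationOfSectionOfKerSqZero (σbar B hC) (ker_σbar_sq B hC) (ψ A B C) (σbar_ψ B hC)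

variable {A C} in
/-- derivation `B → ker σ̄`. -/
noncomputable def δ (hC : Function.Surjective (algebraMap A C)) :
    Derivation A B (RingHom.ker (σbar B hC)) :=
  (δP B hC).compAlgebraMap B

variable {A C} in
lemma δ_apply (hC : Function.Surjective (algebraMap A C)) (b : B) :
    ((δ B hC b : RingHom.ker (σbar B hC)) : B ⧸ (JJ) ^ 2) =
      Ideal.Quotient.mk _ b - ψ A B C (σ B hC b) := rfl



variable {A C} in
lemma smul_ker_σbar (hC : Function.Surjective (algebraMap A C)) (j : B) (hj : j ∈ JJ)
    (n : RingHom.ker (σbar B hC)) : j • n = 0 := by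
  have h2 : (JJ).cotangentIdeal * (JJ).cotangentIdeal = ⊥ :=
    (pow_two (JJ).cotangentIdeal).symm.trans (Ideal.cotangentIdeal_square _)
  ext
  have h : (Ideal.Quotient.mk ((JJ) ^ 2) j) * (n : B ⧸ (JJ) ^ 2) ∈
      (JJ).cotangentIdeal * (JJ).cotangentIdeal :=
    Ideal.mul_mem_mul (Ideal.mk_mem_cotangentIdeal.2 hj) (ker_σbar_le B hC n.2)
  rw [h2, Ideal.mem_bot] at h
  rw [Submodule.coe_smul_of_tower, Algebra.smul_def, Ideal.Quotient.algebraMap_eq, h]
  rfl

variable {A C} in
lemma ker_le_range (hC : Function.Surjective (algebraMap A C)) :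
    LinearMap.ker ((kerCotangentToTensor A B C).restrictScalars A) ≤
      LinearMap.range (φ A B C) := by
  intro x hx
  obtain ⟨b, rfl⟩ := Ideal.toCotangent_surjective _ x
  rw [LinearMap.mem_ker, LinearMap.restrictScalars_apply, kerCotangentToTensor_toCotangent] at hx
  have h1 := mem_smul_top_of_tmul_eq_zero (surjBC hC) _ _ hx
  have hle : (JJ) • (⊤ : Submodule B Ω[B⁄A]) ≤ LinearMap.ker (δ B hC).liftKaehlerDifferential := by
    rw [Submodule.smul_le]
    intro j hj n _
    rw [LinearMap.mem_ker, map_smul, smul_ker_σbar B hC j hj]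
  have h2 := hle h1
  rw [LinearMap.mem_ker, Derivation.liftKaehlerDifferential_comp_D] at h2
  have h3 : Ideal.Quotient.mk ((JJ) ^ 2) (b : B) = ψ A B C (σ B hC b) := by
    have := congrArg Subtype.val h2
    rw [δ_apply] at this
    exact sub_eq_zero.1 this
  obtain ⟨a, ha⟩ := Ideal.Quotient.mk_surjective (σ B hC b)
  have haI : a ∈ II := by
    rw [RingHom.mem_ker, ← g_mk, ha, g_σ hC]
    exact b.2
  refine ⟨(II).toCotangent ⟨a, haI⟩, ?_⟩
  rw [Ideal.mapCotangent_toCotangent, Ideal.toCotangent_eq]
  rw [← ha, ψ_mk] at h3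
  have := (Ideal.Quotient.eq.1 h3.symm)
  simpa [Algebra.ofId_apply] using this

omit [Algebra.FormallySmooth A B] in
lemma range_le_ker :
    LinearMap.range (φ A B C) ≤
      LinearMap.ker ((kerCotangentToTensor A B C).restrictScalars A) := by
  rintro _ ⟨x, rfl⟩
  obtain ⟨x, rfl⟩ := Ideal.toCotangent_surjective _ x
  rw [LinearMap.mem_ker, LinearMap.restrictScalars_apply, Ideal.mapCotangent_toCotangent,
    kerCotangentToTensor_toCotangent]
  simp [Algebra.ofId_apply]

theorem main (hC : Function.Surjective (algebraMap A C)) :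
    Function.Injective (Ideal.mapCotangent (RingHom.ker (algebraMap A C))
        (RingHom.ker (algebraMap B C)) (Algebra.ofId A B)
        (le_of_eq (congrArg RingHom.ker (IsScalarTower.algebraMap_eq A B C)))) ∧
      (∃ r : (RingHom.ker (algebraMap B C)).Cotangent →ₗ[A] (RingHom.ker (algebraMap A C)).Cotangent,
        r ∘ₗ (Ideal.mapCotangent (RingHom.ker (algebraMap A C)) (RingHom.ker (algebraMap B C))
          (Algebra.ofId A B)
          (le_of_eq (congrArg RingHom.ker (IsScalarTower.algebraMap_eq A B C)))) = LinearMap.id) ∧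
      LinearMap.range (Ideal.mapCotangent (RingHom.ker (algebraMap A C))
          (RingHom.ker (algebraMap B C)) (Algebra.ofId A B)
          (le_of_eq (congrArg RingHom.ker (IsScalarTower.algebraMap_eq A B C)))) =
        LinearMap.ker ((KaehlerDifferential.kerCotangentToTensor A B C).restrictScalars A) ∧
      Function.Surjective (KaehlerDifferential.kerCotangentToTensor A B C) := by
  refine ⟨?_, ⟨r hC, r_comp_φ hC⟩, le_antisymm (range_le_ker A B C) (ker_le_range B hC), surj hC⟩
  intro x y hxy
  have h := r_comp_φ (B := B) hC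
  have hx := LinearMap.congr_fun h x
  have hy := LinearMap.congr_fun h y
  rw [LinearMap.comp_apply, LinearMap.id_apply] at hx hy
  rw [← hx, ← hy]
  exact congrArg _ hxy

end H9450

/-- For ring maps A → B → C with A → C surjective and A → B formally smooth, writing I = ker(A → C) and
J = ker(B → C), the sequence 0 → I/I² → J/J² → C ⊗_B Ω_{B/A} → 0 is split exact: the first map is
injective and admits an A-linear retraction, its range is the kernel of the second map (class of x ↦
1 ⊗ dx), and the second map is surjective. -/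
theorem result (A : Type u) [CommRing A]
    (B : Type u) [CommRing B] [Algebra A B] [Algebra.FormallySmooth A B] (C : Type u) [CommRing C]
    [Algebra B C] [Algebra A C] [IsScalarTower A B C] (hC : Function.Surjective (algebraMap A C)) :
    Function.Injective (Ideal.mapCotangent (RingHom.ker (algebraMap A C))
        (RingHom.ker (algebraMap B C)) (Algebra.ofId A B)
        (le_of_eq (congrArg RingHom.ker (IsScalarTower.algebraMap_eq A B C)))) ∧
      (∃ r : (RingHom.ker (algebraMap B C)).Cotangent →ₗ[A] (RingHom.ker (algebraMap A C)).Cotangent,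
        r ∘ₗ (Ideal.mapCotangent (RingHom.ker (algebraMap A C)) (RingHom.ker (algebraMap B C))
          (Algebra.ofId A B)
          (le_of_eq (congrArg RingHom.ker (IsScalarTower.algebraMap_eq A B C)))) = LinearMap.id) ∧
      LinearMap.range (Ideal.mapCotangent (RingHom.ker (algebraMap A C))
          (RingHom.ker (algebraMap B C)) (Algebra.ofId A B)
          (le_of_eq (congrArg RingHom.ker (IsScalarTower.algebraMap_eq A B C)))) =
        LinearMap.ker ((KaehlerDifferential.kerCotangentToTensor A B C).restrictScalars A) ∧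
      Function.Surjective (KaehlerDifferential.kerCotangentToTensor A B C) := by
  exact H9450.main A B C hC

end Groth.Agent.S9450
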