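import Groth.Statements.S9462
-- import your own Groth.Agent.* helpers here
import Mathlib
import Groth.Agent.Lib.Helper7.SqZero.Basic
import Groth.Agent.Lib.Helper7.Deriv.UnivThick

set_option autoImplicit false
universe u
open CAlg

namespace Groth.Agent.S9462

open TensorProduct in
/-- Consider surjections A' → A and B' → B with square-zero kernels I and J and a commutative square A'
→ B', A → B. If A → B is étale and J = I ⊗_A B — that is, J = IB' and the multiplication map B'
⊗_{A'} I → B' is injective — then A' → B' is étale. -/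
theorem result (A' : Type u) [CommRing A'] (A : Type u) [CommRing A]
    [Algebra A' A] (hA : Function.Surjective (algebraMap A' A))
    (hI : RingHom.ker (algebraMap A' A) ^ 2 = ⊥)
    (B' : Type u) [CommRing B'] [Algebra A' B'] (B : Type u) [CommRing B] [Algebra B' B]
    [Algebra A B] [Algebra A' B] [IsScalarTower A' A B] [IsScalarTower A' B' B]
    (hB : Function.Surjective (algebraMap B' B)) (hJ : RingHom.ker (algebraMap B' B) ^ 2 = ⊥)
    [Algebra.Etale A B]
    (hJI : RingHom.ker (algebraMap B' B) = (RingHom.ker (algebraMap A' A)).map (algebraMap A' B'))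
    (hinj : Function.Injective ((RingHom.ker (algebraMap A' A)).subtype.baseChange B')) :
    Algebra.Etale A' B' := by
  classical
  -- Step 1: `A ⊗[A'] B'` is `A`-flat, being isomorphic to `B`.
  have hkey : ∀ x : B', x ∈ RingHom.ker (algebraMap B' B) → (1 : A) ⊗ₜ[A'] x = 0 := by
    intro x hx
    rw [hJI] at hx
    have hx' : x ∈ RingHom.ker (algebraMap A' A) • (⊤ : Submodule A' B') := by
      rw [Ideal.smul_top_eq_map, Submodule.restrictScalars_mem]
      exact hx
    refine Submodule.smul_induction_on hx' ?_ ?_
    · intro i hi b _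
      have hi' : algebraMap A' A i = 0 := hi
      rw [← TensorProduct.smul_tmul, ← Algebra.algebraMap_eq_smul_one, hi',
        TensorProduct.zero_tmul]
    · intro a b ha hb
      rw [TensorProduct.tmul_add, ha, hb, add_zero]
  let l : A ⊗[A'] B' →ₗ[A] B :=
    LinearMap.liftBaseChange A (IsScalarTower.toAlgHom A' B' B).toLinearMap
  have hl : ∀ b : B', l ((1 : A) ⊗ₜ[A'] b) = algebraMap B' B b := by
    intro b
    simp only [l, LinearMap.liftBaseChange_tmul, one_smul, AlgHom.toLinearMap_apply,
      IsScalarTower.coe_toAlgHom']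
  have hlbij : Function.Bijective l := by
    constructor
    · rw [injective_iff_map_eq_zero]
      intro t ht
      obtain ⟨b, rfl⟩ := TensorProduct.mk_surjective A' B' A hA t
      change l ((1 : A) ⊗ₜ[A'] b) = 0 at ht
      rw [hl] at ht
      exact hkey b ht
    · intro b
      obtain ⟨b', rfl⟩ := hB b
      exact ⟨(1 : A) ⊗ₜ[A'] b', hl b'⟩
  have hflatB : Module.Flat A B := inferInstance
  have hflatAB : Module.Flat A (A ⊗[A'] B') :=
    Module.Flat.of_linearEquiv (LinearEquiv.ofBijective l hlbij)
  -- Step 2: flatness of `B'` over `A'`.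
  have h1 : Function.Injective ((RingHom.ker (algebraMap A' A)).subtype.rTensor B') := by
    rw [← LinearMap.lTensor_inj_iff_rTensor_inj]
    exact hinj
  have hflat : Module.Flat A' B' := Groth.Agent.Helper7.SqZero.flat_of_sqZero A' A B' hA hI h1
  -- Step 3: finite presentation.
  have hfp : Algebra.FinitePresentation A' B' :=
    Groth.Agent.Helper7.SqZero.finitePresentation_of_sqZero A' A B' B hA hI hB hJI
  -- Step 4: unramified.
  have hunr : Algebra.FormallyUnramified A' B' := by
    have hA'A : Algebra.FormallyUnramified A' A :=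
      Algebra.FormallyUnramified.of_surjective (Algebra.ofId A' A) hA
    have hAB : Algebra.FormallyUnramified A B := inferInstance
    have hA'B : Algebra.FormallyUnramified A' B := Algebra.FormallyUnramified.comp A' A B
    have hsub : Subsingleton Ω[B⁄A'] := inferInstance
    have hex := KaehlerDifferential.exact_kerCotangentToTensor_mapBaseChange A' B' B hB
    have hzero : ∀ t : B ⊗[B'] Ω[B'⁄A'], t = 0 := by
      intro t
      have h0 : KaehlerDifferential.mapBaseChange A' B' B t = 0 := Subsingleton.elim _ _
      obtain ⟨c, rfl⟩ := (hex t).1 h0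
      obtain ⟨x, rfl⟩ := Ideal.toCotangent_surjective _ c
      rw [KaehlerDifferential.kerCotangentToTensor_toCotangent]
      obtain ⟨x, hx⟩ := x
      rw [hJI] at hx
      have hx' : x ∈ RingHom.ker (algebraMap A' A) • (⊤ : Submodule A' B') := by
        rw [Ideal.smul_top_eq_map, Submodule.restrictScalars_mem]
        exact hx
      show (1 : B) ⊗ₜ[B'] KaehlerDifferential.D A' B' x = 0
      refine Submodule.smul_induction_on hx' ?_ ?_
      · intro i hi b _
        have hi' : algebraMap A' A i = 0 := hi
        have hi'' : i • (1 : B) = 0 := by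
          rw [← Algebra.algebraMap_eq_smul_one, IsScalarTower.algebraMap_apply A' A B, hi',
            map_zero]
        rw [Derivation.map_smul, TensorProduct.tmul_smul, TensorProduct.smul_tmul', hi'',
          TensorProduct.zero_tmul]
      · intro a b ha hb
        rw [map_add, TensorProduct.tmul_add, ha, hb, add_zero]
    have htop : (⊤ : Submodule B' Ω[B'⁄A']) ≤
        ⊥ ⊔ RingHom.ker (algebraMap B' B) • (⊤ : Submodule B' Ω[B'⁄A']) := by
      intro ω _
      rw [bot_sup_eq]
      exact Groth.Agent.Helper7.Deriv.mem_smul_top_of_one_tmul_eq_zero hB ω (hzero _)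
    have hbot := Groth.Agent.Helper7.SqZero.le_of_le_sup_smul _ hJ _ _ htop
    refine ⟨⟨fun a b => ?_⟩⟩
    have ha : a ∈ (⊥ : Submodule B' Ω[B'⁄A']) := hbot Submodule.mem_top
    have hb : b ∈ (⊥ : Submodule B' Ω[B'⁄A']) := hbot Submodule.mem_top
    rw [Submodule.mem_bot] at ha hb
    rw [ha, hb]
  exact Algebra.Etale.of_formallyUnramified_of_flat

end Groth.Agent.S9462
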