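import Groth.Statements.S9463
-- import your own Groth.Agent.* helpers here
import Mathlib

set_option autoImplicit false
universe u
open OmegaSh

namespace Groth.Agent.S9463

/-- Let A → B be formally unramified, π : B' → B a universal first order thickening of B relative to A,
and S ⊆ A a multiplicative subset. Localizing everything at S (A_S, B_S and B'_S with compatible
algebra structures, π_S : B'_S → B_S the A_S-algebra map induced by π), the map π_S is a universal
first order thickening of B_S relative to A_S. (The published statement adds the consequence that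
the conormal module localizes accordingly.) -/
theorem result (A B B' : Type u) [CommRing A] [CommRing B]
    [CommRing B'] [Algebra A B] [Algebra.FormallyUnramified A B] [Algebra A B'] (π : B' →ₐ[A] B)
    (hπ : OmegaSh.IsUnivThickeningRing A B B' π) (S : Submonoid A)
    (AS BS B'S : Type u) [CommRing AS] [CommRing BS] [CommRing B'S]
    [Algebra A AS] [IsLocalization S AS]
    [Algebra B BS] [IsLocalization (Algebra.algebraMapSubmonoid B S) BS]
    [Algebra B' B'S] [IsLocalization (Algebra.algebraMapSubmonoid B' S) B'S]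
    [Algebra AS BS] [Algebra A BS] [IsScalarTower A AS BS] [IsScalarTower A B BS]
    [Algebra AS B'S] [Algebra A B'S] [IsScalarTower A AS B'S] [IsScalarTower A B' B'S]
    (πS : B'S →ₐ[AS] BS) (hπS : ∀ x : B', πS (algebraMap B' B'S x) = algebraMap B BS (π x)) :
    OmegaSh.IsUnivThickeningRing AS BS B'S πS := by
  have _ : Algebra.FormallyUnramified A B := inferInstance
  obtain ⟨hsurj, hker, huniv⟩ := hπ
  have hπalg : ∀ r : A, π (algebraMap A B' r) = algebraMap A B r := fun r => π.commutes r
  have memT : ∀ s : S, algebraMap A B s.1 ∈ Algebra.algebraMapSubmonoid B S :=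
    fun s => Algebra.mem_algebraMapSubmonoid_of_mem s
  have memT' : ∀ s : S, algebraMap A B' s.1 ∈ Algebra.algebraMapSubmonoid B' S :=
    fun s => Algebra.mem_algebraMapSubmonoid_of_mem s
  have hπSmk : ∀ (x : B') (s : S), πS (IsLocalization.mk' B'S x
      (⟨algebraMap A B' s.1, memT' s⟩ : Algebra.algebraMapSubmonoid B' S)) =
      IsLocalization.mk' BS (π x) (⟨algebraMap A B s.1, memT s⟩ : Algebra.algebraMapSubmonoid B S) := by
    intro x s
    rw [IsLocalization.eq_mk'_iff_mul_eq]
    change πS (IsLocalization.mk' B'S x _) * algebraMap B BS (algebraMap A B s.1) =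
      algebraMap B BS (π x)
    rw [← hπalg, ← hπS, ← hπS, ← map_mul]
    congr 1
    exact IsLocalization.mk'_spec B'S x (⟨algebraMap A B' s.1, memT' s⟩ :
      Algebra.algebraMapSubmonoid B' S)
  have exT' : ∀ t : Algebra.algebraMapSubmonoid B' S, ∃ s : S, t = ⟨algebraMap A B' s.1, memT' s⟩ := by
    rintro ⟨t, ht⟩
    obtain ⟨s, hs, rfl⟩ := ht
    exact ⟨⟨s, hs⟩, rfl⟩
  have exT : ∀ t : Algebra.algebraMapSubmonoid B S, ∃ s : S, t = ⟨algebraMap A B s.1, memT s⟩ := by
    rintro ⟨t, ht⟩
    obtain ⟨s, hs, rfl⟩ := ht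
    exact ⟨⟨s, hs⟩, rfl⟩
  refine ⟨?_, ?_, ?_⟩
  · intro y
    obtain ⟨⟨b, t⟩, rfl⟩ := IsLocalization.mk'_surjective (Algebra.algebraMapSubmonoid B S) y
    obtain ⟨b₀, rfl⟩ := hsurj b
    obtain ⟨s, rfl⟩ := exT t
    exact ⟨IsLocalization.mk' B'S b₀ (⟨algebraMap A B' s.1, memT' s⟩ :
      Algebra.algebraMapSubmonoid B' S), hπSmk b₀ s⟩
  · rw [eq_bot_iff, pow_two, Ideal.mul_le]
    intro x hx y hy
    obtain ⟨⟨x₀, s⟩, rfl⟩ := IsLocalization.mk'_surjective (Algebra.algebraMapSubmonoid B' S) x
    obtain ⟨⟨y₀, t⟩, rfl⟩ := IsLocalization.mk'_surjective (Algebra.algebraMapSubmonoid B' S) y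
    obtain ⟨s, rfl⟩ := exT' s
    obtain ⟨t, rfl⟩ := exT' t
    have hx' : πS (IsLocalization.mk' B'S x₀ (⟨algebraMap A B' s.1, memT' s⟩ :
      Algebra.algebraMapSubmonoid B' S)) = 0 := hx
    have hy' : πS (IsLocalization.mk' B'S y₀ (⟨algebraMap A B' t.1, memT' t⟩ :
      Algebra.algebraMapSubmonoid B' S)) = 0 := hy
    rw [hπSmk, IsLocalization.mk'_eq_zero_iff] at hx' hy'
    obtain ⟨u, hu⟩ := hx'
    obtain ⟨v, hv⟩ := hy'
    obtain ⟨u, rfl⟩ := exT u
    obtain ⟨v, rfl⟩ := exT v
    have h1 : algebraMap A B' u.1 * x₀ ∈ RingHom.ker π.toRingHom := by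
      rw [RingHom.mem_ker]; change π (algebraMap A B' u.1 * x₀) = 0; rw [map_mul, hπalg]; exact hu
    have h2 : algebraMap A B' v.1 * y₀ ∈ RingHom.ker π.toRingHom := by
      rw [RingHom.mem_ker]; change π (algebraMap A B' v.1 * y₀) = 0; rw [map_mul, hπalg]; exact hv
    have h3 : (algebraMap A B' u.1 * x₀) * (algebraMap A B' v.1 * y₀) = 0 := by
      have : (algebraMap A B' u.1 * x₀) * (algebraMap A B' v.1 * y₀) ∈
          RingHom.ker π.toRingHom ^ 2 := by
        rw [pow_two]; exact Ideal.mul_mem_mul h1 h2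
      rwa [hker] at this
    rw [Ideal.mem_bot, ← IsLocalization.mk'_mul, IsLocalization.mk'_eq_zero_iff]
    refine ⟨(⟨algebraMap A B' u.1, memT' u⟩ : Algebra.algebraMapSubmonoid B' S) *
      ⟨algebraMap A B' v.1, memT' v⟩, ?_⟩
    rw [← h3]
    simp only [Submonoid.coe_mul]
    ring
  · intro C _ _ I hI a
    let algAC : Algebra A C := ((algebraMap AS C).comp (algebraMap A AS)).toAlgebra
    have towerC : IsScalarTower A AS C := IsScalarTower.of_algebraMap_eq (fun _ => rfl)
    let a₁ : B →ₐ[A] C ⧸ I := (a.restrictScalars A).comp (IsScalarTower.toAlgHom A B BS)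
    obtain ⟨a₀', h₀, hu₀⟩ := huniv C I hI a₁
    have h₀' : ∀ x : B', Ideal.Quotient.mk I (a₀' x) = a (algebraMap B BS (π x)) :=
      fun x => DFunLike.congr_fun h₀ x
    have hunits : ∀ t : Algebra.algebraMapSubmonoid B' S, IsUnit (a₀'.toRingHom t) := by
      intro t
      obtain ⟨s, rfl⟩ := exT' t
      change IsUnit (a₀' (algebraMap A B' s.1))
      rw [a₀'.commutes]
      change IsUnit (algebraMap AS C (algebraMap A AS s.1))
      exact (IsLocalization.map_units AS s).map (algebraMap AS C)
    let ψ₀ : B'S →+* C := IsLocalization.lift (M := Algebra.algebraMapSubmonoid B' S) hunits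
    have hψ₀ : ∀ x : B', ψ₀ (algebraMap B' B'S x) = a₀' x := fun x => IsLocalization.lift_eq hunits x
    have hcomm : ψ₀.comp (algebraMap AS B'S) = algebraMap AS C := by
      apply IsLocalization.ringHom_ext S
      ext r
      change ψ₀ (algebraMap AS B'S (algebraMap A AS r)) = algebraMap AS C (algebraMap A AS r)
      rw [← IsScalarTower.algebraMap_apply A AS B'S, IsScalarTower.algebraMap_apply A B' B'S, hψ₀,
        a₀'.commutes]
      rfl
    let ψ : B'S →ₐ[AS] C :=
      { ψ₀ with commutes' := fun z => DFunLike.congr_fun hcomm z }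
    have hψ : ∀ x : B', ψ (algebraMap B' B'S x) = a₀' x := hψ₀
    refine ⟨ψ, ?_, ?_⟩
    · apply AlgHom.coe_ringHom_injective
      apply IsLocalization.ringHom_ext (Algebra.algebraMapSubmonoid B' S)
      ext x
      change Ideal.Quotient.mk I (ψ (algebraMap B' B'S x)) = a (πS (algebraMap B' B'S x))
      rw [hψ, h₀', hπS]
    · intro ψ₁ hψ₁
      have h1 : (ψ₁.restrictScalars A).comp (IsScalarTower.toAlgHom A B' B'S) = a₀' := by
        apply hu₀
        refine AlgHom.ext fun x => ?_
        change Ideal.Quotient.mk I (ψ₁ (algebraMap B' B'S x)) = a (algebraMap B BS (π x))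
        have h2 := DFunLike.congr_fun hψ₁ (algebraMap B' B'S x)
        change Ideal.Quotient.mk I (ψ₁ (algebraMap B' B'S x)) = a (πS (algebraMap B' B'S x)) at h2
        rw [h2, hπS]
      apply AlgHom.coe_ringHom_injective
      apply IsLocalization.ringHom_ext (Algebra.algebraMapSubmonoid B' S)
      ext x
      change ψ₁ (algebraMap B' B'S x) = ψ (algebraMap B' B'S x)
      rw [hψ]
      exact DFunLike.congr_fun h1 x

end Groth.Agent.S9463
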