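import Groth.Statements.S9464
-- import your own Groth.Agent.* helpers here
import Mathlib

set_option autoImplicit false
universe u
open OmegaSh

namespace Groth.Agent.S9464

/-- Let A → B be formally unramified, π : B' → B a universal first order thickening of B relative to A,
S ⊆ B a multiplicative subset and S' = π⁻¹(S) ⊆ B'. With B_S the localization of B at S, B'_{S'} the
localization of B' at S' (both as A-algebras) and π' : B'_{S'} → B_S the A-algebra map induced by π,
the map π' is a universal first order thickening of B_S relative to A. (The published statement adds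
the consequence that the conormal module localizes accordingly.) -/
theorem result (A B B' : Type u) [CommRing A] [CommRing B]
    [CommRing B'] [Algebra A B] [Algebra.FormallyUnramified A B] [Algebra A B'] (π : B' →ₐ[A] B)
    (hπ : OmegaSh.IsUnivThickeningRing A B B' π) (S : Submonoid B)
    (BS B'S : Type u) [CommRing BS] [CommRing B'S]
    [Algebra B BS] [IsLocalization S BS]
    [Algebra B' B'S] [IsLocalization (S.comap π.toRingHom.toMonoidHom) B'S]
    [Algebra A BS] [IsScalarTower A B BS] [Algebra A B'S] [IsScalarTower A B' B'S]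
    (πS : B'S →ₐ[A] BS) (hπS : ∀ x : B', πS (algebraMap B' B'S x) = algebraMap B BS (π x)) :
    OmegaSh.IsUnivThickeningRing A BS B'S πS := by
  have _ : Algebra.FormallyUnramified A B := inferInstance
  obtain ⟨hsurj, hker, huniv⟩ := hπ
  set S' : Submonoid B' := S.comap π.toRingHom.toMonoidHom with hS'
  have memS' : ∀ x : B', x ∈ S' ↔ π x ∈ S := fun _ => Iff.rfl
  have hπSmk : ∀ (x : B') (s : S'), πS (IsLocalization.mk' B'S x s) =
      IsLocalization.mk' BS (π x) (⟨π s.1, (memS' _).1 s.2⟩ : S) := by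
    intro x s
    rw [IsLocalization.eq_mk'_iff_mul_eq]
    change πS (IsLocalization.mk' B'S x s) * algebraMap B BS (π s.1) = algebraMap B BS (π x)
    rw [← hπS, ← hπS, ← map_mul, IsLocalization.mk'_spec]
  refine ⟨?_, ?_, ?_⟩
  · intro y
    obtain ⟨⟨b, s⟩, rfl⟩ := IsLocalization.mk'_surjective S y
    obtain ⟨b₀, rfl⟩ := hsurj b
    obtain ⟨s₀, hs₀⟩ := hsurj s.1
    have hs₀' : s₀ ∈ S' := by rw [memS', hs₀]; exact s.2
    refine ⟨IsLocalization.mk' B'S b₀ (⟨s₀, hs₀'⟩ : S'), ?_⟩
    rw [hπSmk]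
    congr 1
    exact Subtype.ext hs₀
  · rw [eq_bot_iff, pow_two, Ideal.mul_le]
    intro x hx y hy
    obtain ⟨⟨x₀, s⟩, rfl⟩ := IsLocalization.mk'_surjective S' x
    obtain ⟨⟨y₀, t⟩, rfl⟩ := IsLocalization.mk'_surjective S' y
    have hx' : πS (IsLocalization.mk' B'S x₀ s) = 0 := hx
    have hy' : πS (IsLocalization.mk' B'S y₀ t) = 0 := hy
    rw [hπSmk, IsLocalization.mk'_eq_zero_iff] at hx' hy'
    obtain ⟨u, hu⟩ := hx'
    obtain ⟨v, hv⟩ := hy'
    obtain ⟨u₀, hu₀⟩ := hsurj u.1
    obtain ⟨v₀, hv₀⟩ := hsurj v.1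
    have hu₀' : u₀ ∈ S' := by rw [memS', hu₀]; exact u.2
    have hv₀' : v₀ ∈ S' := by rw [memS', hv₀]; exact v.2
    have h1 : u₀ * x₀ ∈ RingHom.ker π.toRingHom := by
      rw [RingHom.mem_ker]; change π (u₀ * x₀) = 0; rw [map_mul, hu₀, hu]
    have h2 : v₀ * y₀ ∈ RingHom.ker π.toRingHom := by
      rw [RingHom.mem_ker]; change π (v₀ * y₀) = 0; rw [map_mul, hv₀, hv]
    have h3 : (u₀ * x₀) * (v₀ * y₀) = 0 := by
      have : (u₀ * x₀) * (v₀ * y₀) ∈ RingHom.ker π.toRingHom ^ 2 := by
        rw [pow_two]; exact Ideal.mul_mem_mul h1 h2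
      rwa [hker] at this
    rw [Ideal.mem_bot, ← IsLocalization.mk'_mul, IsLocalization.mk'_eq_zero_iff]
    refine ⟨(⟨u₀, hu₀'⟩ : S') * ⟨v₀, hv₀'⟩, ?_⟩
    rw [← h3]
    simp only [Submonoid.coe_mul]
    ring
  · intro C _ _ I hI a
    let a₁ : B →ₐ[A] C ⧸ I := a.comp (IsScalarTower.toAlgHom A B BS)
    obtain ⟨a₀', h₀, hu₀⟩ := huniv C I hI a₁
    have h₀' : ∀ x : B', Ideal.Quotient.mk I (a₀' x) = a (algebraMap B BS (π x)) :=
      fun x => DFunLike.congr_fun h₀ x
    have hunits : ∀ s : S', IsUnit (a₀'.toRingHom s) := by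
      intro s
      change IsUnit (a₀' s.1)
      rw [← IsNilpotent.isUnit_quotient_mk_iff (I := I) ⟨2, hI⟩, h₀']
      exact (IsLocalization.map_units BS (⟨π s.1, (memS' _).1 s.2⟩ : S)).map a
    let ψ₀ : B'S →+* C := IsLocalization.lift (M := S') hunits
    have hψ₀ : ∀ x : B', ψ₀ (algebraMap B' B'S x) = a₀' x := fun x => IsLocalization.lift_eq hunits x
    let ψ : B'S →ₐ[A] C :=
      { ψ₀ with
        commutes' := fun r => by
          change ψ₀ (algebraMap A B'S r) = algebraMap A C r
          rw [IsScalarTower.algebraMap_apply A B' B'S, hψ₀, a₀'.commutes] }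
    have hψ : ∀ x : B', ψ (algebraMap B' B'S x) = a₀' x := hψ₀
    refine ⟨ψ, ?_, ?_⟩
    · apply AlgHom.coe_ringHom_injective
      apply IsLocalization.ringHom_ext S'
      ext x
      change Ideal.Quotient.mk I (ψ (algebraMap B' B'S x)) = a (πS (algebraMap B' B'S x))
      rw [hψ, h₀', hπS]
    · intro ψ₁ hψ₁
      have h1 : ψ₁.comp (IsScalarTower.toAlgHom A B' B'S) = a₀' := by
        apply hu₀
        refine AlgHom.ext fun x => ?_
        change Ideal.Quotient.mk I (ψ₁ (algebraMap B' B'S x)) = a (algebraMap B BS (π x))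
        have h2 := DFunLike.congr_fun hψ₁ (algebraMap B' B'S x)
        change Ideal.Quotient.mk I (ψ₁ (algebraMap B' B'S x)) = a (πS (algebraMap B' B'S x)) at h2
        rw [h2, hπS]
      apply AlgHom.coe_ringHom_injective
      apply IsLocalization.ringHom_ext S'
      ext x
      change ψ₁ (algebraMap B' B'S x) = ψ (algebraMap B' B'S x)
      rw [hψ]
      exact DFunLike.congr_fun h1 x

end Groth.Agent.S9464
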