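import Groth.Statements.S9495
import Mathlib

set_option autoImplicit false
universe u
open SchMor

namespace Groth.Agent.S9495

section
open AlgebraicGeometry CategoryTheory

theorem affine_case {X Y : Scheme.{u}} [IsAffine Y] (f : X ⟶ Y) [QuasiCompact f]
    (H : StableUnderSpecialization (Set.range f)) : IsClosed (Set.range f) := by
  have hX : CompactSpace X := QuasiCompact.compactSpace_of_compactSpace f
  obtain ⟨R, g, hg⟩ := compactSpace_iff_exists.mp hX
  let e : Y ≃ₜ Spec Γ(Y, ⊤) := Scheme.homeoOfIso Y.isoSpec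
  obtain ⟨φ, hφ⟩ := Spec.homEquiv.symm.surjective (g ≫ f ≫ Y.isoSpec.hom)
  have hrange : Set.range (g ≫ f ≫ Y.isoSpec.hom) = e '' Set.range f := by
    ext y
    constructor
    · rintro ⟨x, rfl⟩
      exact ⟨f (g x), ⟨g x, rfl⟩, rfl⟩
    · rintro ⟨_, ⟨x, rfl⟩, rfl⟩
      obtain ⟨z, rfl⟩ := hg x
      exact ⟨z, rfl⟩
  have hst : StableUnderSpecialization (e '' Set.range f) :=
    H.image e.isClosedMap.specializingMap
  rw [← e.isClosed_image, ← hrange]
  rw [← hrange] at hst
  rw [← hφ] at hst ⊢
  exact PrimeSpectrum.isClosed_range_of_stableUnderSpecialization φ.hom hst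

theorem range_restrict {X S : Scheme.{u}} (f : X ⟶ S) (U : S.Opens) (y : U) :
    y ∈ Set.range (f ∣_ U) ↔ (y : S) ∈ Set.range f := by
  constructor
  · rintro ⟨x, rfl⟩
    exact ⟨x.1, (morphismRestrict_base_coe f U x).symm⟩
  · rintro ⟨x, hx⟩
    have hxU : x ∈ f ⁻¹ᵁ U := by
      show f x ∈ U
      rw [hx]; exact y.2
    refine ⟨⟨x, hxU⟩, ?_⟩
    apply Subtype.ext
    exact (morphismRestrict_base_coe f U ⟨x, hxU⟩).trans hx

theorem main {X S : Scheme.{u}} (f : X ⟶ S) [QuasiCompact f] :
    IsClosed (Set.range f) ↔ StableUnderSpecialization (Set.range f) := by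
  refine ⟨fun h => h.stableUnderSpecialization, fun H => ?_⟩
  rw [TopologicalSpace.IsOpenCover.isClosed_iff_coe_preimage (iSup_affineOpens_eq_top S)]
  intro U
  have : IsAffine ((U : S.Opens) : Scheme) := U.2
  have hr : (Subtype.val ⁻¹' Set.range f : Set (U : S.Opens)) = Set.range (f ∣_ (U : S.Opens)) :=
    Set.ext fun y => (range_restrict f U y).symm
  have h1 : IsClosed (Set.range (f ∣_ (U : S.Opens))) := by
    apply affine_case
    have h2 : StableUnderSpecialization (Subtype.val ⁻¹' Set.range f : Set (U : S.Opens)) :=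
      H.preimage continuous_subtype_val
    exact (congrArg StableUnderSpecialization hr).mp h2
  exact (congrArg IsClosed hr).mpr h1


end


open AlgebraicGeometry in
open CategoryTheory in
/-- For a quasi-compact morphism of schemes f : X → S, the image f(X) is closed in S if and only if it
is stable under specialization. -/
theorem result
    {X S : Scheme.{u}} (f : X ⟶ S) [QuasiCompact f] :
    IsClosed (Set.range f) ↔ StableUnderSpecialization (Set.range f) := by
  classical
  exact main f

end Groth.Agent.S9495
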