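import Groth.Statements.S9497
import Mathlib

set_option autoImplicit false
universe u
open AffSch

namespace Groth.Agent.S9497

open AlgebraicGeometry in
open CategoryTheory Limits in
/-- Let X = Spec A be an affine scheme and F : J → Mod(O_X) a small diagram of quasi-coherent
O_X-modules. Then the colimit of F, computed in the category of all O_X-modules, is quasi-coherent
(this contains the case of arbitrary direct sums). -/
theorem result
    (A : Type u) [CommRing A] {J : Type u} [SmallCategory J]
    (F : J ⥤ (Spec (CommRingCat.of A)).Modules) (hF : ∀ j, Coh.IsQCoh (F.obj j)) :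
    Coh.IsQCoh (colimit F) := by
  let R : CommRingCat.{u} := CommRingCat.of A
  let F' : J ⥤ (Spec R).Modules := F
  let G : J ⥤ ModuleCat.{u} R := F' ⋙ moduleSpecΓFunctor (R := R)
  have h0 : ∀ j, IsIso (Scheme.Modules.fromTildeΓ (R := R) (F'.obj j)) := fun j =>
    (isQuasicoherent_iff_isIso_fromTildeΓ (R := R) (F'.obj j)).1 (hF j)
  let α : G ⋙ tilde.functor R ⟶ F' :=
    Functor.whiskerLeft F' (Scheme.Modules.fromTildeΓNatTrans (R := R)) ≫ (Functor.rightUnitor F').hom
  have h1 : ∀ j, IsIso (α.app j) := fun j => by
    have : α.app j = Scheme.Modules.fromTildeΓ (R := R) (F'.obj j) := by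
      simp [α, Scheme.Modules.fromTildeΓNatTrans]
    rw [this]
    exact h0 j
  have h2 : IsIso α := NatIso.isIso_of_isIso_app α
  let e1 : colimit (G ⋙ tilde.functor R) ≅ colimit F' := HasColimit.isoOfNatIso (asIso α)
  have h3 : PreservesColimitsOfSize.{u, u} (tilde.functor R) :=
    (tilde.adjunction (R := R)).leftAdjoint_preservesColimits
  let e2 : (tilde.functor R).obj (colimit G) ≅ colimit (G ⋙ tilde.functor R) :=
    preservesColimitIso (tilde.functor R) G
  have h : (tilde (colimit G)).IsQuasicoherent := inferInstance
  exact (SheafOfModules.isQuasicoherent (Spec R).ringCatSheaf).prop_of_iso (e2 ≪≫ e1) h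

end Groth.Agent.S9497
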