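import Groth.Statements.S9498
import Mathlib

set_option autoImplicit false
universe u
open AffSch

namespace Groth.Agent.S9498

section

open AlgebraicGeometry CategoryTheory Limits TopologicalSpace Opposite

variable {R : CommRingCat.{u}}

lemma comapFun_inj {M N : ModuleCat.{u} R} (f : M ⟶ N) (hf : Function.Injective f.hom)
    (y : PrimeSpectrum.Top R) :
    Function.Injective (StructureSheaf.Localizations.comapFun (σ := RingHom.id R) f.hom y) := by
  rw [injective_iff_map_eq_zero]
  intro x hx
  induction x using LocalizedModule.induction_on with | h a s =>
  rw [StructureSheaf.Localizations.comapFun_mk] at hx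
  rw [← LocalizedModule.zero_mk (1 : _), LocalizedModule.mk_eq] at hx ⊢
  obtain ⟨u, hu⟩ := hx
  refine ⟨⟨u.1, u.2⟩, ?_⟩
  apply hf
  simp only [smul_zero, one_smul, Submonoid.smul_def, map_zero] at hu ⊢
  rw [LinearMap.map_smul]
  exact hu

lemma mono_tilde_map {M N : ModuleCat.{u} R} (f : M ⟶ N) [Mono f] : Mono (tilde.map f) := by
  have hf : Function.Injective f.hom := (ModuleCat.mono_iff_injective f).1 inferInstance
  apply Functor.mono_of_mono_map (modulesSpecToSheaf (R := R))
  apply Functor.mono_of_mono_map (TopCat.Sheaf.forget _ _)
  haveI : ∀ U, Mono (((TopCat.Sheaf.forget _ _).map (modulesSpecToSheaf.map (tilde.map f))).app U) := by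
    intro U
    rw [ModuleCat.mono_iff_injective]
    intro s t hst
    apply Subtype.ext
    funext y
    have := congrArg (fun z => z.1 y) hst
    exact comapFun_inj f hf y.1 this
  apply NatTrans.mono_of_mono_app

theorem main' (R : CommRingCat.{u}) :
    PreservesFiniteLimits (tilde.functor R) ∧
      PreservesFiniteColimits (tilde.functor R) := by
  have h2 : PreservesFiniteColimits (tilde.functor R) := inferInstance
  refine ⟨?_, h2⟩
  have h0 := (Functor.preservesFiniteLimits_tfae (tilde.functor R)).out 0 3
  have h1 := (Functor.preservesFiniteColimits_tfae (tilde.functor R)).out 0 3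
  rw [← h0]
  intro S hS
  refine ⟨((h1.2 h2) S hS).1, ?_⟩
  haveI := hS.mono_f
  exact mono_tilde_map S.f

theorem main (A : Type u) [CommRing A] :
    PreservesFiniteLimits (tilde.functor (CommRingCat.of A)) ∧
      PreservesFiniteColimits (tilde.functor (CommRingCat.of A)) :=
  main' (CommRingCat.of A)


end


open AlgebraicGeometry in
open CategoryTheory Limits in
/-- For a commutative ring A, the functor M ↦ M~ from the category of A-modules to the category of
O-modules on Spec A is exact, i.e. it preserves finite limits and finite colimits. -/
theorem result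
    (A : Type u) [CommRing A] :
    PreservesFiniteLimits (tilde.functor (CommRingCat.of A)) ∧
      PreservesFiniteColimits (tilde.functor (CommRingCat.of A)) := by
  classical
  exact main A

end Groth.Agent.S9498
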