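import Groth.Statements.S9512
import Mathlib

set_option autoImplicit false
universe u
open LRSImm

namespace Groth.Agent.S9512

section
open AlgebraicGeometry CategoryTheory Opposite

theorem isUnit_toStalk_iff (R : CommRingCat.{u}) (y : PrimeSpectrum R) (r : R) :
    IsUnit (StructureSheaf.toStalk R y r) ↔ r ∉ y.asIdeal := by
  have h4 := IsLocalization.AtPrime.isUnit_to_map_iff
    ((AlgebraicGeometry.Spec.structureSheaf R).presheaf.stalk y) y.asIdeal r
  rw [StructureSheaf.stalkAlgebra_map] at h4
  exact h4.trans (by simp [Ideal.primeCompl])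

theorem main
    (X : LocallyRingedSpace.{u}) (R : CommRingCat.{u})
    (f : X ⟶ (Spec R).toLocallyRingedSpace) (x : X.toTopCat) :
    f.base x = PrimeSpectrum.comap
      ((Scheme.ΓSpecIso R).inv ≫ f.c.app (op ⊤) ≫ X.presheaf.germ ⊤ x trivial).hom
      (IsLocalRing.closedPoint (X.presheaf.stalk x)) := by
  have hcomm : (Scheme.ΓSpecIso R).inv ≫ f.c.app (op ⊤) ≫ X.presheaf.germ ⊤ x trivial
      = StructureSheaf.toStalk R (f.base x) ≫ f.stalkMap x := by
    have h := LocallyRingedSpace.stalkMap_germ f ⊤ x trivial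
    calc (Scheme.ΓSpecIso R).inv ≫ f.c.app (op ⊤) ≫ X.presheaf.germ ⊤ x trivial
        = (Scheme.ΓSpecIso R).inv ≫
          ((Spec R).presheaf.germ ⊤ (f.base x) trivial ≫ f.stalkMap x) := by
          rw [h]; rfl
      _ = StructureSheaf.toStalk R (f.base x) ≫ f.stalkMap x := by
          rw [← Category.assoc]; rfl
  rw [hcomm]
  apply PrimeSpectrum.ext
  ext r
  have hloc : IsLocalHom (f.stalkMap x).hom := inferInstance
  have h3 : IsUnit ((StructureSheaf.toStalk R (f.base x) ≫ f.stalkMap x).hom r) ↔
      IsUnit (StructureSheaf.toStalk R (f.base x) r) := by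
    constructor
    · intro hu
      exact hloc.map_nonunit _ hu
    · intro hu
      exact hu.map (f.stalkMap x).hom
  have h5 : r ∈ (PrimeSpectrum.comap (StructureSheaf.toStalk R (f.base x) ≫ f.stalkMap x).hom
      (IsLocalRing.closedPoint (X.presheaf.stalk x))).asIdeal ↔
      ¬ IsUnit ((StructureSheaf.toStalk R (f.base x) ≫ f.stalkMap x).hom r) := by
    rw [PrimeSpectrum.comap_asIdeal, Ideal.mem_comap]
    show _ ∈ IsLocalRing.maximalIdeal _ ↔ _
    rw [IsLocalRing.mem_maximalIdeal, mem_nonunits_iff]
  rw [h5, h3]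
  rw [isUnit_toStalk_iff R (f.base x) r, not_not]


end


open AlgebraicGeometry in
open CategoryTheory Opposite in
/-- Let X be a locally ringed space, Y = Spec R an affine scheme and f : X → Y a morphism of locally
ringed spaces. Given a point x of X, the image f(x) is the prime of R obtained as the inverse image
of the maximal ideal of O_{X,x} under the composite R = Γ(Y, O_Y) → Γ(X, O_X) → O_{X,x}. -/
theorem result
    (X : LocallyRingedSpace.{u}) (R : CommRingCat.{u})
    (f : X ⟶ (Spec R).toLocallyRingedSpace) (x : X.toTopCat) :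
    f.base x = PrimeSpectrum.comap
      ((Scheme.ΓSpecIso R).inv ≫ f.c.app (op ⊤) ≫ X.presheaf.germ ⊤ x trivial).hom
      (IsLocalRing.closedPoint (X.presheaf.stalk x)) := by
  classical
  exact main X R f x

end Groth.Agent.S9512
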