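import Groth.Statements.S9526
import Groth.Agent.Lib.Helper2.HomExt.Restr


set_option autoImplicit false
universe u
open Coherent

namespace Groth.Agent.S9526

open CategoryTheory CategoryTheory.Limits AlgebraicGeometry in
/-- Let X be a locally Noetherian scheme, F and G coherent O_X-modules, x ∈ X and ψ : G_x → F_x an
O_{X,x}-linear map. Then there are an open neighbourhood U of x and a morphism φ : G|_U → F|_U with
φ_x = ψ (the stalk map of φ at x, composed with the canonical identifications of the stalks of G|_U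
and F|_U at x with G_x and F_x, is ψ). -/
theorem result (X : Scheme.{u}) [IsLocallyNoetherian X]
    (F G : X.Modules) (hF : Coh.IsCoh F) (hG : Coh.IsCoh G) (x : X)
    (ψ : ↑(G.presheaf.stalk x) →ₗ[X.presheaf.stalk x] ↑(F.presheaf.stalk x)) :
    ∃ (U : X.Opens) (hx : x ∈ U)
      (φ : (Scheme.Modules.restrictFunctor U.ι).obj G ⟶ (Scheme.Modules.restrictFunctor U.ι).obj F),
      (Scheme.Modules.restrictStalkNatIso U.ι (⟨x, hx⟩ : U)).inv.app G ≫
          (TopCat.Presheaf.stalkFunctor _ (⟨x, hx⟩ : U)).map φ.mapPresheaf ≫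
            (Scheme.Modules.restrictStalkNatIso U.ι (⟨x, hx⟩ : U)).hom.app F =
        AddCommGrpCat.ofHom ψ.toAddMonoidHom := by
  classical
  have hGfp : CohB1.IsFP G := Groth.Agent.Helper1.FpLocal.isFP_of_isCoh G hG
  haveI : F.IsQuasicoherent := hF.1
  obtain ⟨θ, hθ⟩ := Groth.Agent.Lead.RH.evalStalk_surjective (F := G) (G := F) hGfp x ψ
  obtain ⟨U₀, hxU₀, g₀, hg₀⟩ := TopCat.Presheaf.exists_germ_eq (RefHull.homSh G F).presheaf θ
  obtain ⟨U, hU⟩ : ∃ U : X.Opens, U = U₀ := ⟨_, rfl⟩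
  subst hU
  obtain ⟨g, hg⟩ : ∃ g : Γ(RefHull.homSh G F, U), g = g₀ := ⟨_, rfl⟩
  subst hg
  subst hg₀
  rw [RefHull.evalStalk_germ] at hθ
  refine ⟨U, hxU₀, Groth.Agent.Helper2.HomExt.restrHom g, ?_⟩
  have key := Groth.Agent.Helper2.HomExt.restrHom_stalk g (⟨x, hxU₀⟩ : U.toScheme)
  rw [hθ] at key
  exact (congrArg ((Scheme.Modules.restrictStalkNatIso U.ι (⟨x, hxU₀⟩ : U.toScheme)).inv.app G ≫ ·)
    key).trans (Iso.inv_hom_id_app_assoc _ _ _)

end Groth.Agent.S9526
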