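import Groth.Statements.S9527
import Groth.Agent.Lib.Helper2.HomExt.StalkHom


set_option autoImplicit false
universe u
open CategoryTheory CategoryTheory.Limits AlgebraicGeometry
attribute [local instance] HasDerivedCategory.standard
open Coherent

namespace Groth.Agent.S9527

/-- Let X be a locally Noetherian scheme, F and G coherent O_X-modules, x ∈ X, and H = Hom_{O_X}(F, G)
the sheaf Hom. (1) If depth G_x ≥ 1 then depth H_x ≥ 1. (2) If depth G_x ≥ 2 then depth H_x ≥ 2.
(Depths over the local ring O_{X,x}; the sheaf Hom is the right adjoint of F ⊗ − under its existence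
binder; the zero module has depth ∞ in this convention.) -/
theorem result (X : Scheme.{u}) [IsLocallyNoetherian X] (F G : X.Modules)
    (hF : Coh.IsCoh F) (hG : Coh.IsCoh G) [DCoh.HasSheafHom F] (x : X) :
    ((1 : ℕ∞) ≤ LocCoh.depth (X.presheaf.stalk x) ↑(G.presheaf.stalk x) →
      (1 : ℕ∞) ≤ LocCoh.depth (X.presheaf.stalk x) ↑(((DCoh.sheafHom F).obj G).presheaf.stalk x)) ∧
    ((2 : ℕ∞) ≤ LocCoh.depth (X.presheaf.stalk x) ↑(G.presheaf.stalk x) →
      (2 : ℕ∞) ≤ LocCoh.depth (X.presheaf.stalk x) ↑(((DCoh.sheafHom F).obj G).presheaf.stalk x)) := by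
  haveI : G.IsQuasicoherent := hG.1
  haveI : Module.Finite (X.presheaf.stalk x) (G.presheaf.stalk x) :=
    Groth.Agent.Helper7.FinType.stalk_finite_of_isCoh G hG x
  have hrad : IsLocalRing.maximalIdeal (X.presheaf.stalk x) ≤ Ideal.jacobson ⊥ :=
    IsLocalRing.maximalIdeal_le_jacobson _
  have key : ∀ k : ℕ, k ≤ 2 →
      (k : ℕ∞) ≤ LocCoh.depth (X.presheaf.stalk x) ↑(G.presheaf.stalk x) →
      (k : ℕ∞) ≤ LocCoh.depth (X.presheaf.stalk x)
        ↑(((DCoh.sheafHom F).obj G).presheaf.stalk x) := by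
    intro k hk h
    unfold LocCoh.depth at h ⊢
    rw [Groth.Agent.Helper2.HomExt.idealDepth_congr
      (Groth.Agent.Helper2.HomExt.stalkSheafHomEquiv F G hF x)]
    exact Groth.Agent.Helper2.HomExt.le_idealDepth_hom _ hrad k hk h
  exact ⟨fun h => by exact_mod_cast key 1 (by norm_num) (by exact_mod_cast h),
    fun h => by exact_mod_cast key 2 (by norm_num) (by exact_mod_cast h)⟩

end Groth.Agent.S9527
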