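import Groth.Statements.S9529
import Groth.Agent.Lib.Helper2.HomExt.StalkHom


set_option autoImplicit false
universe u
open CategoryTheory CategoryTheory.Limits AlgebraicGeometry
attribute [local instance] HasDerivedCategory.standard
open Coherent

namespace Groth.Agent.S9529

/-- Let X be a locally Noetherian scheme, F and G coherent O_X-modules and H = Hom_{O_X}(F, G). If G has
property (S_1), so has H; if G has property (S_2), so has H. Here a coherent module M has (S_k) when
depth M_x ≥ min(k, dim Supp M_x) for every x ∈ X, with M_x regarded as a module over O_{X,x} (the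
zero module has depth ∞ and support dimension −∞); the sheaf Hom is the right adjoint of F ⊗ − under
its existence binder. -/
theorem result (X : Scheme.{u}) [IsLocallyNoetherian X] (F G : X.Modules)
    (hF : Coh.IsCoh F) (hG : Coh.IsCoh G) [DCoh.HasSheafHom F] (k : ℕ) (hk : k = 1 ∨ k = 2)
    (hS : ∀ x : X, min (k : WithBot ℕ∞) (Module.supportDim (X.presheaf.stalk x) ↑(G.presheaf.stalk x)) ≤
      ((LocCoh.depth (X.presheaf.stalk x) ↑(G.presheaf.stalk x) : ℕ∞) : WithBot ℕ∞)) (x : X) :
    min (k : WithBot ℕ∞)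
        (Module.supportDim (X.presheaf.stalk x) ↑(((DCoh.sheafHom F).obj G).presheaf.stalk x)) ≤
      ((LocCoh.depth (X.presheaf.stalk x) ↑(((DCoh.sheafHom F).obj G).presheaf.stalk x) : ℕ∞) :
        WithBot ℕ∞) := by
  haveI : G.IsQuasicoherent := hG.1
  haveI : Module.Finite (X.presheaf.stalk x) (G.presheaf.stalk x) :=
    Groth.Agent.Helper7.FinType.stalk_finite_of_isCoh G hG x
  have hrad : IsLocalRing.maximalIdeal (X.presheaf.stalk x) ≤ Ideal.jacobson ⊥ :=
    IsLocalRing.maximalIdeal_le_jacobson _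
  have key : ∀ n : ℕ, n ≤ 2 →
      (n : ℕ∞) ≤ LocCoh.depth (X.presheaf.stalk x) ↑(G.presheaf.stalk x) →
      (n : ℕ∞) ≤ LocCoh.depth (X.presheaf.stalk x)
        ↑(((DCoh.sheafHom F).obj G).presheaf.stalk x) := by
    intro n hn h
    unfold LocCoh.depth at h ⊢
    rw [Groth.Agent.Helper2.HomExt.idealDepth_congr
      (Groth.Agent.Helper2.HomExt.stalkSheafHomEquiv F G hF x)]
    exact Groth.Agent.Helper2.HomExt.le_idealDepth_hom _ hrad n hn h
  have hdim : Module.supportDim (X.presheaf.stalk x)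
      ↑(((DCoh.sheafHom F).obj G).presheaf.stalk x) ≤
      Module.supportDim (X.presheaf.stalk x) ↑(G.presheaf.stalk x) := by
    rw [Module.supportDim_eq_of_equiv (Groth.Agent.Helper2.HomExt.stalkSheafHomEquiv F G hF x)]
    exact Groth.Agent.Helper2.HomExt.supportDim_hom_le
  have hle : min (k : WithBot ℕ∞) (Module.supportDim (X.presheaf.stalk x)
      ↑(((DCoh.sheafHom F).obj G).presheaf.stalk x)) ≤
      ((LocCoh.depth (X.presheaf.stalk x) ↑(G.presheaf.stalk x) : ℕ∞) : WithBot ℕ∞) :=
    (min_le_min le_rfl hdim).trans (hS x)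
  have hk2 : k ≤ 2 := by rcases hk with rfl | rfl <;> norm_num
  generalize hj : min (k : WithBot ℕ∞) (Module.supportDim (X.presheaf.stalk x)
      ↑(((DCoh.sheafHom F).obj G).presheaf.stalk x)) = j at hle ⊢
  have hjk : j ≤ (k : WithBot ℕ∞) := hj ▸ min_le_left _ _
  induction j using WithBot.recBotCoe with
  | bot => exact bot_le
  | coe j =>
    have hjk' : j ≤ (k : ℕ∞) := by exact_mod_cast hjk
    obtain ⟨n, rfl⟩ : ∃ n : ℕ, j = n := by
      have hne : j ≠ ⊤ := ne_top_of_le_ne_top (ENat.natCast_ne_top k) hjk'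
      exact ⟨j.toNat, (ENat.natCast_toNat hne).symm⟩
    have hn2 : n ≤ 2 := by
      have : n ≤ k := by exact_mod_cast hjk'
      omega
    have h1 : (n : ℕ∞) ≤ LocCoh.depth (X.presheaf.stalk x) ↑(G.presheaf.stalk x) :=
      WithBot.coe_le_coe.1 hle
    exact WithBot.coe_le_coe.2 (key n hn2 h1)

end Groth.Agent.S9529
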