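import Groth.Statements.S9560
import Groth.Agent.Lib.Helper6.EtLoc.EtaleAtLocal

set_option autoImplicit false
universe u
open EtLocal

namespace Groth.Agent.S9560

/-- Suppose A is a Noetherian ring and B is a finite-type A-algebra, and consider a prime q of B lying
over the prime p of A, where B_q carries its A_p-algebra structure. Then B is étale at q over A (the
local ring B_q is formally étale over A) if and only if the local homomorphism A_p → B_q is étale,
which means three things: B_q is A_p-flat, the ideal p B_q equals the maximal ideal of B_q, and the
residue field of q is a finite separable extension of the residue field of p (that B_q is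
essentially of finite type over A_p holds automatically). -/
theorem result (A B : Type u) [CommRing A] [CommRing B]
    [Algebra A B] [IsNoetherianRing A] [Algebra.FiniteType A B]
    (p : Ideal A) [p.IsPrime] (q : Ideal B) [q.IsPrime] [q.LiesOver p]
    [Algebra (Localization.AtPrime p) (Localization.AtPrime q)]
    [Localization.AtPrime.IsLiesOverAlgebra p q] :
    Algebra.IsEtaleAt A q ↔
      Module.Flat (Localization.AtPrime p) (Localization.AtPrime q) ∧
        p.map (algebraMap A (Localization.AtPrime q)) = IsLocalRing.maximalIdeal (Localization.AtPrime q) ∧
        Module.Finite p.ResidueField q.ResidueField ∧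
        Algebra.IsSeparable p.ResidueField q.ResidueField := by
  have hfp : Algebra.FinitePresentation A B :=
    Algebra.FinitePresentation.of_finiteType.mp inferInstance
  constructor
  · intro h
    have hun : Algebra.IsUnramifiedAt A q :=
      (Algebra.FormallyEtale.iff_formallyUnramified_and_formallySmooth.mp h).1
    have hsm : Algebra.FormallySmooth A (Localization.AtPrime q) :=
      (Algebra.FormallyEtale.iff_formallyUnramified_and_formallySmooth.mp h).2
    refine ⟨?_, ((Algebra.isUnramifiedAt_iff_map_eq A p q).mp hun).2, inferInstance,
      inferInstance⟩
    -- flatness
    have h' : Algebra.IsEtaleAt A q := h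
    obtain ⟨g, hg, het⟩ := Algebra.exists_etale_of_isEtaleAt (R := A) q
    have hsm' : Algebra.Smooth A (Localization.Away g) :=
      ⟨inferInstance, inferInstance⟩
    have hfl1 : Module.Flat A (Localization.Away g) := Algebra.Smooth.flat A _
    have hle : Submonoid.powers g ≤ q.primeCompl := by
      rintro _ ⟨n, rfl⟩
      exact fun hn => hg (Ideal.IsPrime.mem_of_pow_mem inferInstance n hn)
    let alg : Algebra (Localization.Away g) (Localization.AtPrime q) :=
      IsLocalization.localizationAlgebraOfSubmonoidLe _ _ (Submonoid.powers g) q.primeCompl hle
    have hst : IsScalarTower B (Localization.Away g) (Localization.AtPrime q) :=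
      IsLocalization.localization_isScalarTower_of_submonoid_le ..
    have hloc : IsLocalization (Algebra.algebraMapSubmonoid (Localization.Away g) q.primeCompl)
        (Localization.AtPrime q) :=
      IsLocalization.isLocalization_of_submonoid_le (Localization.Away g)
        (Localization.AtPrime q) _ _ hle
    have hst2 : IsScalarTower A (Localization.Away g) (Localization.AtPrime q) :=
      .to₁₃₄ A B _ _
    have hfl2 : Module.Flat (Localization.Away g) (Localization.AtPrime q) :=
      IsLocalization.flat _ (Algebra.algebraMapSubmonoid (Localization.Away g) q.primeCompl)
    have hfl3 : Module.Flat A (Localization.AtPrime q) :=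
      Module.Flat.trans A (Localization.Away g) _
    exact (Module.flat_iff_of_isLocalization (S := Localization.AtPrime p) (p := p.primeCompl)
      (Localization.AtPrime q)).mpr hfl3
  · rintro ⟨hflat, hmap, hfin, hsep⟩
    have hun : Algebra.IsUnramifiedAt A q :=
      (Algebra.isUnramifiedAt_iff_map_eq A p q).mpr ⟨hsep, hmap⟩
    have hun' : Algebra.FormallyUnramified (Localization.AtPrime p) (Localization.AtPrime q) :=
      .of_restrictScalars A _ _
    have heft : Algebra.EssFiniteType (Localization.AtPrime p) (Localization.AtPrime q) :=
      .of_comp A _ _
    have hfe : Algebra.FormallyEtale (IsLocalRing.ResidueField (Localization.AtPrime p))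
        (TensorProduct (Localization.AtPrime p)
          (IsLocalRing.ResidueField (Localization.AtPrime p)) (Localization.AtPrime q)) :=
      Algebra.FormallyEtale.of_formallyUnramified_of_field _ _
    have hsm := Groth.Agent.Lib.Helper6.EtLoc.formallySmooth_localization_of_flat p q
    have hsm2 : Algebra.FormallySmooth A (Localization.AtPrime q) :=
      .comp A (Localization.AtPrime p) _
    exact Algebra.FormallyEtale.iff_formallyUnramified_and_formallySmooth.mpr ⟨hun, hsm2⟩

end Groth.Agent.S9560
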