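import Groth.Statements.S9570
import Mathlib
import Mathlib
import Groth.Agent.Lib.Helper1.ProjClosed2

set_option autoImplicit false
universe u
open CategoryTheory CategoryTheory.Limits AlgebraicGeometry TopologicalSpace Opposite
open Constr

namespace Groth.Agent.S9570

/-- Let R be a ring and i : Z → P^n_R a closed immersion. For d ≥ 0 let I_d be the kernel of the map
from the degree-d forms of R[T_0, …, T_n] to the global sections of i^*O(d), sending a form F to the
inverse image of the global section F of O(d). Then I = ⊕ I_d is a graded ideal and Z is the closed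
subscheme Proj(R[T_0, …, T_n]/I) of P^n_R: for every surjective homomorphism of graded rings φ from
R[T_0, …, T_n] onto a graded ring B whose kernel in each degree d is exactly I_d, there is an
isomorphism Z ≅ Proj B whose composite with the morphism Proj B → P^n_R induced by φ is i. -/
theorem result {R : Type u} [CommRing R] (n : ℕ)
    {Z : Scheme.{u}} (i : Z ⟶ CohB1.ProjSpace n R) [IsClosedImmersion i]
    {B : Type u} [CommRing B] [Algebra R B] (ℬ : ℕ → Submodule R B) [GradedAlgebra ℬ]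
    (φ : CohB1.polyGrading n R →+*ᵍ ℬ) (hφs : Function.Surjective φ)
    (hker : ∀ (d : ℕ) (F : MvPolynomial (Fin (n + 1)) R) (hF : F ∈ CohB1.polyGrading n R d),
      φ F = 0 ↔ ProjUP.pullSec i (Twist.twistProjSpace n R d) (Twist.globalOf (CohB1.polyGrading n R) ⟨F, hF⟩) = 0)
    (hφ : HomogeneousIdeal.irrelevant ℬ ≤ (HomogeneousIdeal.irrelevant (CohB1.polyGrading n R)).map φ) :
    ∃ e : Z ≅ Proj ℬ, e.hom ≫ Proj.map φ hφ = i := by
  classical
  let 𝒜 := CohB1.polyGrading n R
  let t := Groth.Agent.Helper1.ProjUP8.tX n R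
  have ht := Groth.Agent.Helper1.ProjUP8.htX n R
  let s : Finset (MvPolynomial (Fin (n + 1)) R) := Finset.univ.image t
  have hs1 : ∀ f ∈ s, f ∈ 𝒜 1 := by
    intro f hf
    obtain ⟨k, -, rfl⟩ := Finset.mem_image.1 hf
    exact ht k
  have hcov : ∀ x : Proj 𝒜, ∃ k, x ∈ Proj.basicOpen 𝒜 (t k) :=
    Groth.Agent.Helper1.ProjUP8.hcov n R
  -- the kernel of `φ` in each degree is the ideal of `Z`
  have hkerI : ∀ (e : ℕ) (b : MvPolynomial (Fin (n + 1)) R), b ∈ 𝒜 e →
      (φ b = 0 ↔ b ∈ Groth.Agent.Helper1.ProjClosed.I 𝒜 i s hs1) := by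
    intro e b hb
    have hb' : b ∈ 𝒜 (e • 1) := by simpa using hb
    rw [hker e b hb, Groth.Agent.Helper1.ProjClosed2.mem_I_of_homogeneous 𝒜 i s hs1 hb hb']
    have h1 := Groth.Agent.Helper1.ProjClosed2.pullSec_eq_zero_iff 𝒜 i t ht hcov e hb hb'
    refine Iff.trans h1 ?_
    constructor
    · intro h g hg
      obtain ⟨k, -, rfl⟩ := Finset.mem_image.1 hg
      exact h k
    · intro h k
      exact h (t k) (Finset.mem_image.2 ⟨k, Finset.mem_univ k, rfl⟩)
  have hci : IsClosedImmersion (show Z ⟶ Proj 𝒜 from i) := ‹IsClosedImmersion i›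
  have hqc : QuasiCompact (show Z ⟶ Proj 𝒜 from i) := inferInstance
  apply Groth.Agent.Helper1.ProjClosed.exists_iso 𝒜 (show Z ⟶ Proj 𝒜 from i) ℬ φ hφ hφs
    (s : Set _)
  · intro f hf
    exact ⟨1, one_pos, hs1 f hf⟩
  · rw [eq_top_iff]
    intro x _
    obtain ⟨k, hk⟩ := hcov x
    exact TopologicalSpace.Opens.mem_iSup.2
      ⟨⟨t k, Finset.mem_coe.2 (Finset.mem_image.2 ⟨k, Finset.mem_univ k, rfl⟩)⟩, hk⟩
  · intro f hf x
    exact Groth.Agent.Helper1.ProjClosed2.hker_of_ker_eq 𝒜 i s hs1 ℬ φ hkerI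
      (Finset.mem_coe.1 hf) x

end Groth.Agent.S9570
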