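import Groth.Statements.S9575
import Mathlib
import Groth.Agent.Lib.Helper1.TwistTriv

set_option autoImplicit false
universe u
open CategoryTheory CategoryTheory.Limits AlgebraicGeometry TopologicalSpace Opposite
open Constr

namespace Groth.Agent.S9575

/-- Let S be a graded ring, X = Proj S, d ≥ 1, and a, b homogeneous elements with deg a = deg b + d.
Then for every integer n the restriction of the twisting sheaf O_X(nd) to the standard open D_+(ab)
is isomorphic to the structure sheaf of D_+(ab): it is free of rank one, generated by the section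
(a/b)^n. (This is the invertibility half of the fact that D_+(ab) lies in the open W_d where the
O_X(nd) are invertible with compatible multiplications; existence of an isomorphism only. The
compatibility of the multiplication maps O_X(nd) ⊗ O_X(md) → O_X(nd+md) on this open, and the
converse statement that the largest such open is the union of the D_+(ab), are not stated here.) -/
theorem result {R A : Type u} [CommRing R] [CommRing A] [Algebra R A] (𝒜 : ℕ → Submodule R A) [GradedAlgebra 𝒜]
    {d : ℕ} (hd : 0 < d) {i j : ℕ} {a b : A} (ha : a ∈ 𝒜 i) (hb : b ∈ 𝒜 j) (hij : i = j + d) (n : ℤ) :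
    Nonempty ((Twist.twist 𝒜 (n * d)).restrict (Proj.basicOpen 𝒜 (a * b)).ι ≅
      Coh.structureModule ↑(Proj.basicOpen 𝒜 (a * b))) := by
  have hp : a ^ n.toNat * b ^ (-n).toNat ∈ 𝒜 (n.toNat • i + (-n).toNat • j) :=
    SetLike.mul_mem_graded (SetLike.pow_mem_graded _ ha) (SetLike.pow_mem_graded _ hb)
  have hq : a ^ (-n).toNat * b ^ n.toNat ∈ 𝒜 ((-n).toNat • i + n.toNat • j) :=
    SetLike.mul_mem_graded (SetLike.pow_mem_graded _ ha) (SetLike.pow_mem_graded _ hb)
  have hm : ((n.toNat • i + (-n).toNat • j : ℕ) : ℤ) =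
      ((-n).toNat • i + n.toNat • j : ℕ) + n * d := by
    have := Int.toNat_sub_toNat_neg n
    subst hij
    push_cast [smul_eq_mul]
    nlinarith
  have hmem : ∀ x : ProjectiveSpectrum 𝒜, x ∈ (AlgebraicGeometry.Proj.basicOpen 𝒜 (a * b)).ι.opensRange →
      ∀ k l : ℕ, a ^ k * b ^ l ∉ x.asHomogeneousIdeal := by
    intro x hx k l hk
    rw [AlgebraicGeometry.Scheme.Opens.opensRange_ι] at hx
    have hab := (AlgebraicGeometry.Proj.mem_basicOpen 𝒜 (a * b) x).1 hx
    rcases x.isPrime.mem_or_mem hk with h | h
    · exact hab (Ideal.mul_mem_right _ _ (x.isPrime.mem_of_pow_mem k h))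
    · exact hab (Ideal.mul_mem_left _ _ (x.isPrime.mem_of_pow_mem l h))
  exact Groth.Agent.Helper1.TwistTriv.nonempty_twist_restrict_iso 𝒜 hp hq hm
    (AlgebraicGeometry.Proj.basicOpen 𝒜 (a * b)).ι (fun x hx => hmem x hx _ _) (fun x hx => hmem x hx _ _)

end Groth.Agent.S9575
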