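import Groth.Statements.S9580
import Mathlib
import Groth.Agent.Lib.Helper1.TwistTriv

set_option autoImplicit false
universe u
open CategoryTheory CategoryTheory.Limits AlgebraicGeometry TopologicalSpace Opposite
open Constr

namespace Groth.Agent.S9580

/-- Let S be a graded ring, X = Proj S and Y ⊆ X a quasi-compact open subscheme. Then there is an
integer d ≥ 1 such that Y is contained in the open W_d, the union of the standard opens D_+(ab) over
homogeneous a, b with deg a = deg b + d, and such that the restriction O_Y(nd) of O_X(nd) to Y is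
invertible for every integer n. (The remaining assertions — the multiplication maps among the
O_Y(nd) and M~(nd) are isomorphisms, D_+(f) ∩ Y = Y_s, and the loci Y_s form a basis — are not
stated here.) -/
theorem result {R A : Type u} [CommRing R] [CommRing A] [Algebra R A] (𝒜 : ℕ → Submodule R A) [GradedAlgebra 𝒜]
    (Y : (Proj 𝒜).Opens) (hY : IsCompact (Y : Set (Proj 𝒜))) :
    ∃ d : ℕ, 0 < d ∧
      (∀ y : Proj 𝒜, y ∈ Y → ∃ (i j : ℕ) (a b : A), a ∈ 𝒜 i ∧ b ∈ 𝒜 j ∧ i = j + d ∧ y ∈ Proj.basicOpen 𝒜 (a * b)) ∧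
      ∀ n : ℤ, PicF.IsInvertible ((Twist.twist 𝒜 (n * d)).restrict Y.ι) := by
  classical
  have hpt : ∀ x : AlgebraicGeometry.Proj 𝒜, ∃ (e : ℕ) (a : A), 0 < e ∧ a ∈ 𝒜 e ∧
      x ∈ AlgebraicGeometry.Proj.basicOpen 𝒜 a := by
    intro x
    have hx := x.not_irrelevant_le
    rw [HomogeneousIdeal.irrelevant_le] at hx
    push Not at hx
    obtain ⟨e, he, hx⟩ := hx
    obtain ⟨a, ha, hax⟩ := SetLike.not_le_iff_exists.mp hx
    exact ⟨e, a, he, ha, (AlgebraicGeometry.Proj.mem_basicOpen 𝒜 a x).2 hax⟩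
  let I := {p : ℕ × A // 0 < p.1 ∧ p.2 ∈ 𝒜 p.1}
  have hcov : (Y : Set (AlgebraicGeometry.Proj 𝒜)) ⊆
      ⋃ p : I, (AlgebraicGeometry.Proj.basicOpen 𝒜 p.1.2 : Set (AlgebraicGeometry.Proj 𝒜)) := by
    intro x _
    obtain ⟨e, a, he, ha, hx⟩ := hpt x
    exact Set.mem_iUnion.2 ⟨⟨(e, a), he, ha⟩, hx⟩
  obtain ⟨t, ht⟩ := hY.elim_finite_subcover
    (fun p : I => (AlgebraicGeometry.Proj.basicOpen 𝒜 p.1.2 : Set (AlgebraicGeometry.Proj 𝒜)))
    (fun p => (AlgebraicGeometry.Proj.basicOpen 𝒜 p.1.2).2) hcov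
  have hd : 0 < ∏ p ∈ t, p.1.1 := Finset.prod_pos (fun p _ => p.2.1)
  have key : ∀ y : AlgebraicGeometry.Proj 𝒜, y ∈ Y → ∃ g : A, g ∈ 𝒜 (∏ p ∈ t, p.1.1) ∧
      y ∈ AlgebraicGeometry.Proj.basicOpen 𝒜 g := by
    intro y hy
    obtain ⟨p, hp, hyp⟩ : ∃ p ∈ t, y ∈ AlgebraicGeometry.Proj.basicOpen 𝒜 p.1.2 := by
      simpa using ht hy
    obtain ⟨c, hc⟩ : p.1.1 ∣ ∏ p ∈ t, p.1.1 := Finset.dvd_prod_of_mem _ hp
    have hc0 : 0 < c := by
      rcases Nat.eq_zero_or_pos c with h | h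
      · rw [h, mul_zero] at hc; omega
      · exact h
    refine ⟨p.1.2 ^ c, ?_, ?_⟩
    · have := SetLike.pow_mem_graded c p.2.2
      rwa [smul_eq_mul, mul_comm, ← hc] at this
    · rw [AlgebraicGeometry.Proj.basicOpen_pow _ _ _ hc0]
      exact hyp
  refine ⟨∏ p ∈ t, p.1.1, hd, ?_, ?_⟩
  · intro y hy
    obtain ⟨g, hg, hyg⟩ := key y hy
    exact ⟨_, 0, g, 1, hg, SetLike.GradedOne.one_mem, by simp, by simpa using hyg⟩
  · intro n
    apply Groth.Agent.Helper1.TwistTriv.isInvertible_restrict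
    intro y hy
    obtain ⟨g, hg, hyg⟩ := key y hy
    exact ⟨AlgebraicGeometry.Proj.basicOpen 𝒜 g, hyg, fun j _ hj =>
      Groth.Agent.Helper1.TwistTriv.nonempty_twist_restrict_iso_of_le 𝒜 hg n j hj⟩

end Groth.Agent.S9580
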