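import Groth.Statements.S9582
-- import your own Groth.Agent.* helpers here
import Groth.Agent.Lib.Helper7.WeakAss
import Mathlib.Tactic.LinearCombination

set_option autoImplicit false
universe u
open CAlg

namespace Groth.Agent.S9582

/-- For a reduced ring R, the primes weakly associated to the R-module R (primes minimal over the
annihilator of some element) are exactly the minimal primes of R. -/
theorem result {R : Type u} [CommRing R] [IsReduced R] :
    FlatCA.weakAss R R = minimalPrimes R := by
  ext p
  constructor
  · rintro ⟨x, hp⟩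
    have hprime := hp.1.1
    have hxp : x ∉ p := by
      intro hx
      obtain ⟨y, hy, hxy⟩ := Ideal.exists_mul_mem_of_mem_minimalPrimes hp hx
      rw [Groth.Agent.Helper7.mem_annEl] at hy hxy
      apply hy
      simp only [smul_eq_mul] at hxy ⊢
      have h2 : (y * x) ^ 2 = 0 := by
        rw [pow_two]; linear_combination y * hxy
      exact (IsReduced.pow_eq_zero_iff (by norm_num)).mp h2
    refine ⟨⟨hprime, bot_le⟩, ?_⟩
    intro q hq hqp
    apply hp.2 ⟨hq.1, ?_⟩ hqp
    intro a ha
    rw [Groth.Agent.Helper7.mem_annEl, smul_eq_mul] at ha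
    have hmem : a * x ∈ q := ha ▸ q.zero_mem
    exact (hq.1.mem_or_mem hmem).resolve_right (fun hxq => hxp (hqp hxq))
  · intro hp
    refine ⟨1, ?_⟩
    have hbot : Groth.Agent.Helper7.annEl R (1 : R) = ⊥ := by
      ext r
      rw [Groth.Agent.Helper7.mem_annEl, smul_eq_mul, mul_one, Ideal.mem_bot]
    rw [show (Submodule.span R {(1 : R)}).annihilator = _ from hbot]
    exact hp

end Groth.Agent.S9582
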