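import Groth.Statements.S9583
-- import your own Groth.Agent.* helpers here
import Groth.Agent.Lib.Helper7.WeakAss

set_option autoImplicit false
universe u
open CAlg

namespace Groth.Agent.S9583

/-- For a ring R and a short exact sequence 0 → M' → M → M'' → 0 of R-modules, every prime weakly
associated to M' is weakly associated to M, and every prime weakly associated to M is weakly
associated to M' or to M''. -/
theorem result {R : Type u} [CommRing R] {M' M M'' : Type u} [AddCommGroup M'] [Module R M'] [AddCommGroup M] [Module R M] [AddCommGroup M''] [Module R M''] (f : M' →ₗ[R] M) (g : M →ₗ[R] M'') (hf : Function.Injective f) (hg : Function.Surjective g) (hfg : Function.Exact f g) :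
    FlatCA.weakAss R M' ⊆ FlatCA.weakAss R M ∧ FlatCA.weakAss R M ⊆ FlatCA.weakAss R M' ∪ FlatCA.weakAss R M'' := by
  constructor
  · rintro p ⟨m', hp⟩
    refine ⟨f m', ?_⟩
    have hann : Groth.Agent.Helper7.annEl R (f m') = Groth.Agent.Helper7.annEl R m' := by
      ext r
      rw [Groth.Agent.Helper7.mem_annEl, Groth.Agent.Helper7.mem_annEl, ← map_smul,
        map_eq_zero_iff f hf]
    rw [show (Submodule.span R {f m'}).annihilator = _ from hann]
    exact hp
  · rintro p ⟨m, hp⟩
    by_cases hle : Groth.Agent.Helper7.annEl R (g m) ≤ p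
    · right
      refine ⟨g m, ⟨hp.1.1, hle⟩, ?_⟩
      intro q hq hqp
      have hmono : Groth.Agent.Helper7.annEl R m ≤ Groth.Agent.Helper7.annEl R (g m) := by
        intro r hr
        rw [Groth.Agent.Helper7.mem_annEl] at hr ⊢
        rw [← map_smul, hr, map_zero]
      exact hp.2 ⟨hq.1, hmono.trans hq.2⟩ hqp
    · left
      obtain ⟨r, hr, hrp⟩ := Set.not_subset.mp hle
      have hg0 : g (r • m) = 0 := by
        rw [map_smul]; exact Groth.Agent.Helper7.mem_annEl.mp hr
      obtain ⟨m', hm'⟩ := (hfg (r • m)).mp hg0
      refine ⟨m', ?_⟩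
      have hann : Groth.Agent.Helper7.annEl R m' = Groth.Agent.Helper7.annEl R (r • m) := by
        ext s
        rw [Groth.Agent.Helper7.mem_annEl, Groth.Agent.Helper7.mem_annEl, ← hm', ← map_smul,
          map_eq_zero_iff f hf]
      rw [show (Submodule.span R {m'}).annihilator = _ from hann]
      have hprime := hp.1.1
      refine ⟨⟨hprime, ?_⟩, ?_⟩
      · intro s hs
        rw [Groth.Agent.Helper7.mem_annEl, smul_smul] at hs
        have : s * r ∈ p := hp.1.2 (Groth.Agent.Helper7.mem_annEl.mpr hs)
        exact (hprime.mem_or_mem this).resolve_right hrp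
      · intro q hq hqp
        have hmono : Groth.Agent.Helper7.annEl R m ≤ Groth.Agent.Helper7.annEl R (r • m) := by
          intro s hs
          rw [Groth.Agent.Helper7.mem_annEl] at hs ⊢
          rw [smul_comm, hs, smul_zero]
        exact hp.2 ⟨hq.1, hmono.trans hq.2⟩ hqp

end Groth.Agent.S9583
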