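import Groth.Statements.S9584
-- import your own Groth.Agent.* helpers here
import Groth.Agent.Lib.Helper7.WeakAss

set_option autoImplicit false
universe u
open CAlg

namespace Groth.Agent.S9584

/-- For a ring R and an R-module M, M has no weakly associated prime (no prime minimal over the
annihilator of an element) if and only if M = 0. -/
theorem result {R : Type u} [CommRing R] (M : Type u) [AddCommGroup M] [Module R M] :
    FlatCA.weakAss R M = ∅ ↔ Subsingleton M := by
  constructor
  · intro h
    refine ⟨fun a b => ?_⟩
    by_contra hab
    have hne : a - b ≠ 0 := sub_ne_zero.mpr hab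
    have htop : Groth.Agent.Helper7.annEl R (a - b) ≠ ⊤ :=
      fun h => hne (Groth.Agent.Helper7.annEl_eq_top_iff.mp h)
    obtain ⟨p, hp⟩ := Ideal.nonempty_minimalPrimes htop
    have : p ∈ FlatCA.weakAss R M := ⟨a - b, hp⟩
    rw [h] at this
    exact this
  · intro h
    ext p
    simp only [Set.mem_empty_iff_false, iff_false]
    rintro ⟨m, hm⟩
    have : Groth.Agent.Helper7.annEl R m = ⊤ :=
      Groth.Agent.Helper7.annEl_eq_top_iff.mpr (Subsingleton.elim _ _)
    rw [show (Submodule.span R {m}).annihilator = ⊤ from this, Ideal.minimalPrimes_top] at hm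
    exact hm

end Groth.Agent.S9584
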