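import Groth.Statements.S9585
-- import your own Groth.Agent.* helpers here
import Groth.Agent.Lib.Helper7.WeakAss

set_option autoImplicit false
universe u
open CAlg

namespace Groth.Agent.S9585

/-- For a ring R and an R-module M, an element of R lies in some weakly associated prime of M exactly
when multiplication by it on M is not injective; in other words the union of the weakly associated
primes of M equals the set of zerodivisors on M. -/
theorem result {R : Type u} [CommRing R] (M : Type u) [AddCommGroup M] [Module R M] :
    ⋃ q ∈ FlatCA.weakAss R M, (q : Set R) = {f : R | ¬ IsSMulRegular M f} := by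
  ext f
  simp only [Set.mem_iUnion, SetLike.mem_coe, exists_prop, Set.mem_setOf_eq]
  constructor
  · rintro ⟨p, ⟨m, hp⟩, hfp⟩
    obtain ⟨y, hy, hxy⟩ := Ideal.exists_mul_mem_of_mem_minimalPrimes hp hfp
    rw [Groth.Agent.Helper7.mem_annEl] at hy hxy
    intro hreg
    apply hy
    rw [mul_smul] at hxy
    exact hreg.right_eq_zero_of_smul hxy
  · intro hf
    have : ∃ m : M, m ≠ 0 ∧ f • m = 0 := by
      by_contra hcon
      push Not at hcon
      apply hf
      intro a b hab
      have h0 : f • (a - b) = 0 := by
        rw [smul_sub]; exact sub_eq_zero.mpr hab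
      by_contra hne
      exact hcon (a - b) (sub_ne_zero.mpr hne) h0
    obtain ⟨m, hm, hfm⟩ := this
    have htop : Groth.Agent.Helper7.annEl R m ≠ ⊤ :=
      fun h => hm (Groth.Agent.Helper7.annEl_eq_top_iff.mp h)
    obtain ⟨p, hp⟩ := Ideal.nonempty_minimalPrimes htop
    exact ⟨p, ⟨m, hp⟩, hp.le (Groth.Agent.Helper7.mem_annEl.mpr hfm)⟩

end Groth.Agent.S9585
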