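import Groth.Statements.S9586
import Mathlib

set_option autoImplicit false
universe u
open CAlg

namespace Groth.Agent.S9586

namespace H9586
variable {R : Type u} [CommRing R] {M : Type u} [AddCommGroup M] [Module R M]

theorem exists_mul_mem (p : Ideal R) [p.IsPrime] (J : Ideal R) (x : R)
    (hx : algebraMap R (Localization.AtPrime p) x ∈ J.map (algebraMap R (Localization.AtPrime p))) :
    ∃ s ∉ p, s * x ∈ J := by
  rw [IsLocalization.mem_map_algebraMap_iff p.primeCompl] at hx
  obtain ⟨⟨a, b⟩, h⟩ := hx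
  simp only at h
  rw [← map_mul, IsLocalization.eq_iff_exists p.primeCompl] at h
  obtain ⟨t, ht⟩ := h
  refine ⟨t * b, (t * b).2, ?_⟩
  have : (t : R) * b * x = t * a := by rw [← ht]; ring
  rw [this]
  exact J.mul_mem_left _ a.2

/-- a uniform multiplier for a finitely generated ideal -/
theorem exists_uniform_finset (p : Ideal R) [p.IsPrime] (J : Ideal R) (S : Finset R)
    (h : ∀ a ∈ S, ∃ s ∉ p, s * a ∈ J) : ∃ t ∉ p, ∀ x ∈ Ideal.span (S : Set R), x * t ∈ J := by
  classical
  have h' : ∀ a : R, ∃ s, s ∉ p ∧ (a ∈ S → s * a ∈ J) := by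
    intro a
    by_cases ha : a ∈ S
    · obtain ⟨s, hs, hsa⟩ := h a ha
      exact ⟨s, hs, fun _ => hsa⟩
    · exact ⟨1, fun h1 => (inferInstance : p.IsPrime).ne_top ((Ideal.eq_top_iff_one p).mpr h1),
        fun h => absurd h ha⟩
  choose u hu1 hu2 using h'
  refine ⟨∏ a ∈ S, u a, ?_, ?_⟩
  · rw [Ideal.IsPrime.prod_mem_iff]
    rintro ⟨a, -, ha⟩
    exact hu1 a ha
  · intro x hx
    induction hx using Submodule.span_induction with
    | mem g hg =>
      have hg' : g ∈ S := hg
      rw [← Finset.mul_prod_erase S u hg', ← mul_assoc, mul_comm g]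
      exact J.mul_mem_right _ (hu2 g hg')
    | zero => rw [zero_mul]; exact J.zero_mem
    | add x y _ _ hx hy => rw [add_mul]; exact J.add_mem hx hy
    | smul c x _ hx => rw [smul_eq_mul, mul_assoc]; exact J.mul_mem_left _ hx

theorem exists_uniform (p : Ideal R) [p.IsPrime] (J K : Ideal R) (hK : K.FG)
    (h : ∀ x ∈ K, ∃ s ∉ p, s * x ∈ J) : ∃ t ∉ p, ∀ x ∈ K, x * t ∈ J := by
  obtain ⟨S, hS⟩ := hK
  obtain ⟨t, ht, htx⟩ := exists_uniform_finset p J S
    (fun a ha => h a (hS ▸ Ideal.subset_span ha))
  exact ⟨t, ht, fun x hx => htx x (by rw [hS]; exact hx)⟩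

theorem main (p : Ideal R) [p.IsPrime] (hp : p.FG) :
    p ∈ FlatCA.ass R M ↔ p ∈ FlatCA.weakAss R M := by
  constructor
  · rintro ⟨-, m, hm⟩
    refine ⟨m, ?_⟩
    rw [← hm, Ideal.minimalPrimes_eq_subsingleton_self]
    rfl
  · rintro ⟨m, hmin⟩
    set J := (Submodule.span R {m}).annihilator with hJ
    have hJmem : ∀ r : R, r ∈ J ↔ r • m = 0 := fun r => Submodule.mem_annihilator_span_singleton m r
    -- step 1
    have hrad := IsLocalization.AtPrime.radical_map_of_mem_minimalPrimes
      (A := Localization.AtPrime p) p J hmin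
    have hfg : (p.map (algebraMap R (Localization.AtPrime p))).FG := hp.map _
    obtain ⟨N, hN⟩ := Ideal.exists_pow_le_of_le_radical_of_fg hrad.ge hfg
    have h1 : ∀ x ∈ p ^ N, ∃ s ∉ p, s * x ∈ J := by
      intro x hx
      apply exists_mul_mem
      apply hN
      rw [← Ideal.map_pow]
      exact Ideal.mem_map_of_mem _ hx
    -- step 2
    have hP : ∃ n, ∃ t ∉ p, ∀ x ∈ p ^ n, x * t ∈ J :=
      ⟨N, exists_uniform p J (p ^ N) (hp.pow) h1⟩
    classical
    have hn0 : Nat.find hP ≠ 0 := by
      intro h0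
      obtain ⟨t, ht, htx⟩ := Nat.find_spec hP
      rw [h0, pow_zero] at htx
      have := htx 1 (by simp)
      rw [one_mul] at this
      exact ht (hmin.1.2 this)
    obtain ⟨t, ht, htx⟩ := Nat.find_spec hP
    set n := Nat.find hP with hn
    have hnot : ¬ ∃ t ∉ p, ∀ x ∈ p ^ (n - 1), x * t ∈ J :=
      Nat.find_min hP (Nat.sub_one_lt hn0)
    -- step 3
    obtain ⟨S', hS'⟩ := (hp.pow (n := n - 1))
    have hex : ∃ a ∈ S', ∀ u ∉ p, u * (a * t) ∉ J := by
      by_contra hcon
      push Not at hcon
      apply hnot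
      let J' : Ideal R := Submodule.comap (LinearMap.mulRight R t) J
      have hJ' : ∀ x, x ∈ J' ↔ x * t ∈ J := fun x => Iff.rfl
      obtain ⟨t₀, ht₀, htx₀⟩ := exists_uniform_finset p J' S' (fun a ha => by
        obtain ⟨u, hu, hua⟩ := hcon a ha
        refine ⟨u, hu, ?_⟩
        rw [hJ', mul_assoc]
        exact hua)
      refine ⟨t₀ * t, fun h => ?_, fun x hx => ?_⟩
      · rcases (inferInstance : p.IsPrime).mem_or_mem h with h | h
        · exact ht₀ h
        · exact ht h
      · rw [← hS'] at hx
        have := htx₀ x hx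
        rw [hJ'] at this
        rw [← mul_assoc]
        exact this
    obtain ⟨a, haS, hau⟩ := hex
    have hapow : a ∈ p ^ (n - 1) := hS' ▸ Ideal.subset_span haS
    refine ⟨inferInstance, (a * t) • m, ?_⟩
    ext r
    rw [Submodule.mem_annihilator_span_singleton]
    constructor
    · intro hr
      have hra : r * a ∈ p ^ n := by
        have : n = 1 + (n - 1) := by omega
        rw [this, pow_add, pow_one]
        exact Ideal.mul_mem_mul hr hapow
      have := htx _ hra
      rw [hJmem] at this
      rw [smul_smul, ← mul_assoc]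
      exact this
    · intro hr
      by_contra hrp
      apply hau r hrp
      rw [hJmem, ← smul_smul]
      exact hr
end H9586

/-- For a ring R, an R-module M and a finitely generated prime ideal p of R, p is associated to M (equal
to the annihilator of an element) if and only if p is weakly associated to M (minimal over the
annihilator of an element). -/
theorem result {R : Type u} [CommRing R] (M : Type u) [AddCommGroup M] [Module R M] (p : Ideal R) [p.IsPrime] (hp : p.FG) :
    p ∈ FlatCA.ass R M ↔ p ∈ FlatCA.weakAss R M := by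
  exact H9586.main p hp

end Groth.Agent.S9586
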