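import Groth.Statements.S9594
-- import your own Groth.Agent.* helpers here
import Groth.Agent.Lib.Helper7.WeakAss

set_option autoImplicit false
universe u
open CAlg

namespace Groth.Agent.S9594

/-- For a ring R, an R-module M and a multiplicative subset S of R, (1) the primes of R associated to
the R-module S⁻¹M are the inverse images of the primes of S⁻¹R associated to S⁻¹M, and (2) a prime
of R associated to M which does not meet S is associated to the R-module S⁻¹M. Here a prime is
associated to a module when it equals the annihilator of some element. -/
theorem result {R : Type u} [CommRing R] (S : Submonoid R) (M : Type u) [AddCommGroup M] [Module R M] :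
    FlatCA.ass R (LocalizedModule S M) = Ideal.comap (algebraMap R (Localization S)) '' FlatCA.ass (Localization S) (LocalizedModule S M) ∧
      ∀ p ∈ FlatCA.ass R M, Disjoint (S : Set R) (p : Set R) → p ∈ FlatCA.ass R (LocalizedModule S M) := by
  constructor
  · ext p
    constructor
    · rintro ⟨hprime, x, hp⟩
      have hp' : p = (Groth.Agent.Helper7.annEl (Localization S) x).comap
          (algebraMap R (Localization S)) := by
        rw [hp]; exact Groth.Agent.Helper7.annEl_localizedModule_eq_comap S x
      have hdisj : Disjoint (S : Set R) (p : Set R) := by
        rw [Set.disjoint_left]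
        intro s hs hsp
        have h0 : s • x = 0 := by
          rw [hp] at hsp
          exact Groth.Agent.Helper7.mem_annEl.mp hsp
        have hx0 : x = 0 := LocalizedModule.eq_zero_of_smul_eq_zero s hs x h0
        have htop : p = ⊤ := by
          rw [hp]; exact Groth.Agent.Helper7.annEl_eq_top_iff.mpr hx0
        exact hprime.ne_top htop
      have hq : Groth.Agent.Helper7.annEl (Localization S) x =
          p.map (algebraMap R (Localization S)) := by
        rw [hp']
        exact (IsLocalization.map_under S (Localization S) _).symm
      refine ⟨Groth.Agent.Helper7.annEl (Localization S) x, ⟨?_, x, rfl⟩, hp'.symm⟩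
      rw [hq]
      exact IsLocalization.isPrime_of_isPrime_disjoint S (Localization S) p hprime hdisj
    · rintro ⟨q, ⟨hq, x, rfl⟩, rfl⟩
      refine ⟨Ideal.IsPrime.comap _, x, ?_⟩
      exact (Groth.Agent.Helper7.annEl_localizedModule_eq_comap S x).symm
  · rintro p ⟨hprime, m, hp⟩ hdisj
    refine ⟨hprime, LocalizedModule.mk m 1, ?_⟩
    ext r
    rw [Submodule.mem_annihilator_span_singleton,
      Groth.Agent.Helper7.smul_localizedModule_mk_eq_zero_iff]
    constructor
    · intro hr
      refine ⟨1, ?_⟩
      rw [hp, Submodule.mem_annihilator_span_singleton] at hr
      simpa using hr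
    · rintro ⟨u, hu⟩
      have : (u : R) * r ∈ p := by
        rw [hp, Submodule.mem_annihilator_span_singleton]; exact hu
      refine (hprime.mem_or_mem this).resolve_left fun hup => ?_
      exact Set.disjoint_left.mp hdisj u.2 hup

end Groth.Agent.S9594
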