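import Groth.Statements.S9596
-- import your own Groth.Agent.* helpers here
import Mathlib.RingTheory.Ideal.AssociatedPrime.Localization

set_option autoImplicit false
universe u
open CAlg

namespace Groth.Agent.S9596

/-- For a Noetherian ring R and any R-module M, a prime which is minimal among the primes in the support
of M is an associated prime of M. -/
theorem result {R : Type u} [CommRing R] [IsNoetherianRing R] (M : Type u) [AddCommGroup M] [Module R M] (p : PrimeSpectrum R) (hp : Minimal (fun q : PrimeSpectrum R => q ∈ Module.support R M) p) :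
    p.asIdeal ∈ associatedPrimes R M := by
  have hpsupp : p ∈ Module.support R M := hp.prop
  have hnt : Nontrivial (LocalizedModule p.asIdeal.primeCompl M) := Module.mem_support_iff.mp hpsupp
  let Rₚ := Localization.AtPrime p.asIdeal
  obtain ⟨q, hq⟩ := associatedPrimes.nonempty Rₚ (LocalizedModule p.asIdeal.primeCompl M)
  have q_prime : q.IsPrime := IsAssociatedPrime.isPrime hq
  simp only [← Module.associatedPrimes.preimage_comap_associatedPrimes_eq_associatedPrimes_of_isLocalizedModule
    p.asIdeal.primeCompl Rₚ (LocalizedModule.mkLinearMap p.asIdeal.primeCompl M),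
    Set.mem_preimage] at hq
  have hq_prime' : (Ideal.comap (algebraMap R Rₚ) q).IsPrime := IsAssociatedPrime.isPrime hq
  have le : Ideal.comap (algebraMap R Rₚ) q ≤ p.asIdeal := by
    have := (IsLocalization.disjoint_under_iff p.asIdeal.primeCompl Rₚ q).mpr q_prime.ne_top
    simpa only [Ideal.primeCompl, Submonoid.coe_set_mk, Subsemigroup.coe_set_mk,
      Set.disjoint_compl_left_iff_subset] using! this
  -- the associated prime lies in the support
  have hsupp : (⟨Ideal.comap (algebraMap R Rₚ) q, hq_prime'⟩ : PrimeSpectrum R) ∈
      Module.support R M := by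
    obtain ⟨_, x, hx⟩ := isAssociatedPrime_iff.mp hq
    rw [Module.mem_support_iff_exists_annihilator]
    refine ⟨x, ?_⟩
    intro r hr
    show r ∈ Ideal.comap (algebraMap R Rₚ) q
    rw [hx, Submodule.mem_colon_singleton, Submodule.mem_bot]
    exact Submodule.mem_annihilator_span_singleton _ _ |>.mp hr
  have heq : (⟨Ideal.comap (algebraMap R Rₚ) q, hq_prime'⟩ : PrimeSpectrum R) = p :=
    hp.eq_of_le hsupp le
  have : Ideal.comap (algebraMap R Rₚ) q = p.asIdeal := congrArg PrimeSpectrum.asIdeal heq
  rw [← this]
  exact hq

end Groth.Agent.S9596
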