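import Groth.Statements.S9597
-- import your own Groth.Agent.* helpers here
import Mathlib.RingTheory.Ideal.Maps
import Mathlib.RingTheory.Finiteness.Cardinality
import Mathlib.RingTheory.Ideal.Quotient.Noetherian

set_option autoImplicit false
universe u
open CAlg

namespace Groth.Agent.S9597

/-- Let R be a Noetherian ring, M a finite R-module whose associated primes are pairwise incomparable
under inclusion (M has no embedded associated primes), and I the annihilator of M. Then the
associated primes of R/I, viewed as a module over itself, are again pairwise incomparable: R/I has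
no embedded primes either. -/
theorem result {R : Type u} [CommRing R] [IsNoetherianRing R] (M : Type u) [AddCommGroup M] [Module R M] [Module.Finite R M] (hM : ∀ p ∈ associatedPrimes R M, ∀ q ∈ associatedPrimes R M, p ≤ q → p = q) :
    ∀ p ∈ associatedPrimes (R ⧸ Module.annihilator R M) (R ⧸ Module.annihilator R M), ∀ q ∈ associatedPrimes (R ⧸ Module.annihilator R M) (R ⧸ Module.annihilator R M), p ≤ q → p = q := by
  classical
  set I := Module.annihilator R M with hI
  obtain ⟨k, s, hs⟩ := Module.Finite.exists_fin (R := R) (M := M)
  -- key: comap of an associated prime of R/I is an associated prime of M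
  have key : ∀ p ∈ associatedPrimes (R ⧸ I) (R ⧸ I),
      Ideal.comap (Ideal.Quotient.mk I) p ∈ associatedPrimes R M := by
    intro p hp
    obtain ⟨hpp, y, hy⟩ := isAssociatedPrime_iff.mp hp
    obtain ⟨x, rfl⟩ := Ideal.Quotient.mk_surjective y
    have hcomap : Ideal.comap (Ideal.Quotient.mk I) p =
        ⨅ i : Fin k, Submodule.colon (⊥ : Submodule R M) {x • s i} := by
      ext r
      rw [Ideal.mem_comap, hy, Submodule.mem_colon_singleton, Submodule.mem_bot]
      simp only [Submodule.mem_iInf, Submodule.mem_colon_singleton, Submodule.mem_bot]
      rw [smul_eq_mul, ← map_mul, Ideal.Quotient.eq_zero_iff_mem, hI, Module.mem_annihilator]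
      constructor
      · intro h i
        rw [smul_smul]; exact h _
      · intro h m
        have hm : m ∈ Submodule.span R (Set.range s) := hs ▸ Submodule.mem_top
        induction hm using Submodule.span_induction with
        | mem m hm =>
          obtain ⟨i, rfl⟩ := hm
          rw [← smul_smul]; exact h i
        | zero => simp
        | add a b _ _ ha hb => rw [smul_add, ha, hb, add_zero]
        | smul c a _ ha => rw [smul_comm, ha, smul_zero]
    have hprime : (Ideal.comap (Ideal.Quotient.mk I) p).IsPrime := Ideal.comap_isPrime _ p
    have hle : ∃ i ∈ (Finset.univ : Finset (Fin k)),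
        Submodule.colon (⊥ : Submodule R M) {x • s i} ≤ Ideal.comap (Ideal.Quotient.mk I) p := by
      apply (Ideal.IsPrime.inf_le' hprime).mp
      rw [hcomap]
      exact le_of_eq (by rw [Finset.inf_eq_iInf]; simp)
    obtain ⟨i, _, hi⟩ := hle
    have heq : Ideal.comap (Ideal.Quotient.mk I) p =
        Submodule.colon (⊥ : Submodule R M) {x • s i} :=
      le_antisymm (hcomap ▸ iInf_le _ i) hi
    exact isAssociatedPrime_iff.mpr ⟨hprime, x • s i, heq⟩
  intro p hp q hq hpq
  have h1 := hM _ (key p hp) _ (key q hq) (Ideal.comap_mono hpq)
  exact Ideal.comap_injective_of_surjective _ Ideal.Quotient.mk_surjective h1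

end Groth.Agent.S9597
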