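import Groth.Statements.S9598
-- import your own Groth.Agent.* helpers here
import Mathlib.RingTheory.Jacobson.Ring
import Mathlib.RingTheory.Ideal.AssociatedPrime.Finiteness
import Mathlib.RingTheory.Ideal.AssociatedPrime.Basic

set_option autoImplicit false
universe u
open CAlg

namespace Groth.Agent.S9598

/-- For a field k and a finite type k-algebra S with dim S > 0, some element of S is a nonzerodivisor
and a nonunit. -/
theorem result {k S : Type u} [Field k] [CommRing S] [Algebra k S] [Algebra.FiniteType k S] (hdim : 0 < ringKrullDim S) :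
    ∃ f : S, f ∈ nonZeroDivisors S ∧ ¬ IsUnit f := by
  classical
  have hJ : IsJacobsonRing S := isJacobsonRing_of_finiteType (A := k) (B := S)
  have hN : IsNoetherianRing S := Algebra.FiniteType.isNoetherianRing k S
  have hfin : (associatedPrimes S S).Finite := associatedPrimes.finite S S
  -- there is a maximal ideal which is not an associated prime
  have hex : ∃ m : Ideal S, m.IsMaximal ∧ m ∉ associatedPrimes S S := by
    by_contra hcon
    push Not at hcon
    have hdim0 : Ring.KrullDimLE 0 S := by
      refine Ring.KrullDimLE.mk₀ fun P hP => ?_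
      have hjac : P.jacobson = P := IsJacobsonRing.out' P hP.isRadical
      have hsetfin : {J : Ideal S | P ≤ J ∧ J.IsMaximal}.Finite :=
        hfin.subset fun J hJ => hcon J hJ.2
      have hle : hsetfin.toFinset.inf id ≤ P := by
        rw [Finset.inf_id_eq_sInf, hsetfin.coe_toFinset]
        exact le_of_eq hjac
      obtain ⟨J, hJmem, hJP⟩ := (Ideal.IsPrime.inf_le' hP).mp hle
      rw [Set.Finite.mem_toFinset] at hJmem
      have : J = P := le_antisymm hJP hJmem.1
      exact this ▸ hJmem.2
    have hle : ringKrullDim S ≤ 0 := by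
      have := Order.KrullDimLE.krullDim_le (n := 0) (α := PrimeSpectrum S)
      rw [Nat.cast_zero] at this
      exact this
    exact absurd hdim (not_lt.mpr hle)
  obtain ⟨m, hm, hmAss⟩ := hex
  have hnot : ¬ ((m : Set S) ⊆ ⋃ p ∈ associatedPrimes S S, (p : Set S)) := by
    intro hsub
    have hsub' : (m : Set S) ⊆ ⋃ p ∈ (hfin.toFinset : Set (Ideal S)), ((id p : Ideal S) : Set S) := by
      rw [hfin.coe_toFinset]; exact hsub
    obtain ⟨p, hp, hmp⟩ := (Ideal.subset_union_prime (f := id) ⊥ ⊥ (fun i hi _ _ => by
      rw [Set.Finite.mem_toFinset] at hi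
      exact IsAssociatedPrime.isPrime hi)).mp hsub'
    rw [Set.Finite.mem_toFinset] at hp
    have hpprime : p.IsPrime := IsAssociatedPrime.isPrime hp
    have : m = p := hm.eq_of_le hpprime.ne_top hmp
    exact hmAss (this ▸ hp)
  obtain ⟨f, hfm, hf⟩ := Set.not_subset.mp hnot
  refine ⟨f, ?_, fun hu => hm.ne_top (Ideal.eq_top_of_isUnit_mem _ hfm hu)⟩
  have h := biUnion_associatedPrimes_eq_compl_nonZeroDivisors S
  rw [h] at hf
  simpa using hf

end Groth.Agent.S9598
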