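import Groth.Statements.S9599
-- import your own Groth.Agent.* helpers here
import Mathlib.RingTheory.AdicCompletion.Exactness
import Mathlib.RingTheory.Flat.Equalizer
import Mathlib.LinearAlgebra.TensorProduct.Quotient

set_option autoImplicit false
universe u
open CAlg

namespace Groth.Agent.S9599

/-- For a ring R, an ideal I of R and a short exact sequence 0 → K → M → N → 0 of R-modules with N flat
over R, the induced sequence of I-adic completions 0 → K^ → M^ → N^ → 0 is again short exact. -/
theorem result {R : Type u} [CommRing R] (I : Ideal R) {K M N : Type u} [AddCommGroup K] [Module R K] [AddCommGroup M] [Module R M] [AddCommGroup N] [Module R N] [Module.Flat R N] (i : K →ₗ[R] M) (g : M →ₗ[R] N) (hi : Function.Injective i) (hg : Function.Surjective g) (hig : Function.Exact i g) :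
    Function.Injective (AdicCompletion.map I i) ∧ Function.Exact (AdicCompletion.map I i) (AdicCompletion.map I g) ∧ Function.Surjective (AdicCompletion.map I g) := by
  have key : ∀ (J : Ideal R) (k : K), i k ∈ J • (⊤ : Submodule R M) →
      k ∈ J • (⊤ : Submodule R K) := by
    intro J k hk
    have hinj := LinearMap.lTensor_injective_of_exact_of_flat g hg i hi hig (R ⧸ J)
    have h1 : ∀ {P : Type u} [AddCommGroup P] [Module R P] (p : P),
        p ∈ J • (⊤ : Submodule R P) ↔ (1 : R ⧸ J) ⊗ₜ[R] p = 0 := by
      intro P _ _ p
      rw [← (TensorProduct.quotTensorEquivQuotSMul P J).map_eq_zero_iff,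
        TensorProduct.quotTensorEquivQuotSMul_mk_one_tmul, Submodule.Quotient.mk_eq_zero]
    rw [h1] at hk ⊢
    apply hinj
    simpa using hk
  refine ⟨?_, ?_, AdicCompletion.map_surjective I hg⟩
  · rw [← LinearMap.ker_eq_bot, LinearMap.ker_eq_bot']
    intro x
    apply AdicCompletion.induction_on I K x (fun a ↦ ?_)
    intro hx
    refine AdicCompletion.ext fun n ↦ ?_
    have h2 : i (a n) ∈ (I ^ n • ⊤ : Submodule R M) := by
      simpa using congrArg (fun x ↦ x.val n) hx
    have h3 := key _ _ h2
    simpa using h3
  · refine LinearMap.exact_of_comp_eq_zero_of_ker_le_range ?_ (fun y ↦ ?_)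
    · rw [AdicCompletion.map_comp, hig.linearMap_comp_eq_zero, AdicCompletion.map_zero]
    · apply AdicCompletion.induction_on I M y (fun b ↦ ?_)
      intro hz
      have hb (n : ℕ) : g (b n) ∈ (I ^ n • ⊤ : Submodule R N) := by
        simpa using congrArg (fun x ↦ x.val n) hz
      have h1 (n : ℕ) : ∃ a : K, i a - b n ∈ (I ^ n • ⊤ : Submodule R M) := by
        have h : g (b n) ∈ Submodule.map g (I ^ n • ⊤ : Submodule R M) := by
          rw [Submodule.map_smul'', Submodule.map_top, LinearMap.range_eq_top.mpr hg]
          exact hb n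
        obtain ⟨d, hdmem, hd⟩ := h
        obtain ⟨a, ha⟩ := (hig (b n - d)).mp (by simp [hd])
        refine ⟨a, ?_⟩
        rw [ha]
        simpa using (Submodule.neg_mem _ hdmem)
      choose a ha using h1
      have hcauchy : ∀ n, a n ≡ a (n + 1) [SMOD (I ^ n • ⊤ : Submodule R K)] := by
        intro n
        rw [SModEq.sub_mem]
        apply key
        have e1 : b n - b (n + 1) ∈ (I ^ n • ⊤ : Submodule R M) := by
          rw [← SModEq.sub_mem]
          exact (AdicCompletion.AdicCauchySequence.mk_eq_mk (Nat.le_succ n) b).symm
        have e2 : i (a (n + 1)) - b (n + 1) ∈ (I ^ n • ⊤ : Submodule R M) :=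
          (Submodule.smul_mono_left (Ideal.pow_le_pow_right (Nat.le_succ n))) (ha (n + 1))
        have : i (a n - a (n + 1)) = (i (a n) - b n) + (b n - b (n + 1))
            - (i (a (n + 1)) - b (n + 1)) := by
          rw [map_sub]; abel
        rw [this]
        exact Submodule.sub_mem _ (Submodule.add_mem _ (ha n) e1) e2
      refine ⟨AdicCompletion.mk I K (AdicCompletion.AdicCauchySequence.mk I K a hcauchy), ?_⟩
      refine AdicCompletion.ext fun n ↦ ?_
      have := ha n
      rw [← Submodule.Quotient.eq] at this
      simpa using this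

end Groth.Agent.S9599
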