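import Groth.Statements.S9600
import Mathlib.RingTheory.AdicCompletion.Exactness
import Mathlib.RingTheory.AdicCompletion.Functoriality
import Mathlib.LinearAlgebra.Quotient.Basic

set_option autoImplicit false
universe u
open CAlg

namespace Groth.Agent.S9600

/-- Let R be a ring, I an ideal of R and 0 → M → N → Q → 0 a short exact sequence of R-modules in which
Q is killed by some power I^c of I. Then on I-adic completions the map M^ → N^ is injective, N^ → Q^
is surjective with kernel equal to the image of M^, and the canonical map Q → Q^ is bijective; so 0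
→ M^ → N^ → Q → 0 is again short exact. -/
theorem result {R : Type u} [CommRing R] (I : Ideal R) {M N Q : Type u} [AddCommGroup M] [Module R M] [AddCommGroup N] [Module R N] [AddCommGroup Q] [Module R Q] (i : M →ₗ[R] N) (g : N →ₗ[R] Q) (hi : Function.Injective i) (hg : Function.Surjective g) (hig : Function.Exact i g) (c : ℕ) (hc : ∀ x ∈ I ^ c, ∀ q : Q, x • q = 0) :
    Function.Injective (AdicCompletion.map I i) ∧ Function.Exact (AdicCompletion.map I i) (AdicCompletion.map I g) ∧ Function.Surjective (AdicCompletion.map I g) ∧ Function.Bijective (AdicCompletion.of I Q) := by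
  -- the key comparison of the two filtrations
  have hrange : (I ^ c • ⊤ : Submodule R N) ≤ LinearMap.range i := by
    rw [Submodule.smul_le]
    intro a ha y _
    rw [← LinearMap.exact_iff.mp hig, LinearMap.mem_ker, map_smul]
    exact hc a ha (g y)
  have KF : ∀ (n : ℕ) (y : N), y ∈ (I ^ (n + c) • ⊤ : Submodule R N) →
      ∃ m ∈ (I ^ n • ⊤ : Submodule R M), i m = y := by
    intro n y hy
    have h1 : (I ^ (n + c) • ⊤ : Submodule R N) ≤ (I ^ n • ⊤ : Submodule R M).map i := by
      rw [pow_add, Submodule.mul_smul, Submodule.map_smul'', Submodule.map_top]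
      exact Submodule.smul_mono le_rfl hrange
    obtain ⟨m, hm, rfl⟩ := h1 hy
    exact ⟨m, hm, rfl⟩
  have hQ0 : ∀ n, c ≤ n → (I ^ n • ⊤ : Submodule R Q) = ⊥ := by
    intro n hn
    rw [eq_bot_iff, Submodule.smul_le]
    intro a ha q _
    rw [Submodule.mem_bot]
    exact hc a (Ideal.pow_le_pow_right hn ha) q
  refine ⟨?_, ?_, AdicCompletion.map_surjective I hg, ?_, ?_⟩
  · -- injectivity
    rw [injective_iff_map_eq_zero]
    intro x hx
    obtain ⟨a, rfl⟩ := AdicCompletion.mk_surjective I M x
    rw [AdicCompletion.map_mk] at hx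
    apply AdicCompletion.ext
    intro n
    have h1 : (AdicCompletion.mk I N (AdicCompletion.AdicCauchySequence.map I i a)).val (n + c) = 0 := by
      rw [hx]; rfl
    have h2 : i (a (n + c)) ∈ (I ^ (n + c) • ⊤ : Submodule R N) := by
      have : Submodule.Quotient.mk (p := (I ^ (n + c) • ⊤ : Submodule R N)) (i (a (n + c))) = 0 := h1
      exact (Submodule.Quotient.mk_eq_zero _).mp this
    obtain ⟨m, hm, hmi⟩ := KF n _ h2
    have h3 : a (n + c) ∈ (I ^ n • ⊤ : Submodule R M) := by
      rw [← hi hmi]; exact hm
    show Submodule.Quotient.mk (p := (I ^ n • ⊤ : Submodule R M)) (a n) = 0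
    rw [← AdicCompletion.AdicCauchySequence.mk_eq_mk (Nat.le_add_right n c) a]
    exact (Submodule.Quotient.mk_eq_zero _).mpr h3
  · -- exactness
    intro y
    constructor
    · intro hy
      obtain ⟨b, rfl⟩ := AdicCompletion.mk_surjective I N y
      rw [AdicCompletion.map_mk] at hy
      have hb : ∀ n, b (n + c) ∈ LinearMap.range i := by
        intro n
        rw [← LinearMap.exact_iff.mp hig, LinearMap.mem_ker]
        have h1 : (AdicCompletion.mk I Q (AdicCompletion.AdicCauchySequence.map I g b)).val (n + c)
            = 0 := by rw [hy]; rfl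
        have h2 : g (b (n + c)) ∈ (I ^ (n + c) • ⊤ : Submodule R Q) := by
          have : Submodule.Quotient.mk (p := (I ^ (n + c) • ⊤ : Submodule R Q)) (g (b (n + c))) = 0 :=
            h1
          exact (Submodule.Quotient.mk_eq_zero _).mp this
        rw [hQ0 _ (Nat.le_add_left c n)] at h2
        exact (Submodule.mem_bot R).mp h2
      choose a' ha' using hb
      have hcauchy : ∀ n, a' n ≡ a' (n + 1) [SMOD (I ^ n • ⊤ : Submodule R M)] := by
        intro n
        rw [SModEq.sub_mem]
        have h1 : b (n + c) - b (n + 1 + c) ∈ (I ^ (n + c) • ⊤ : Submodule R N) := by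
          rw [← SModEq.sub_mem]
          exact b.property (by omega)
        obtain ⟨m, hm, hmi⟩ := KF n _ h1
        have : m = a' n - a' (n + 1) := by
          apply hi
          rw [hmi, map_sub, ha', ha']
        rw [← this]; exact hm
      refine ⟨AdicCompletion.mk I M (AdicCompletion.AdicCauchySequence.mk I M a' hcauchy), ?_⟩
      rw [AdicCompletion.map_mk]
      apply AdicCompletion.ext
      intro n
      show Submodule.Quotient.mk (p := (I ^ n • ⊤ : Submodule R N)) (i (a' n))
        = Submodule.Quotient.mk (p := (I ^ n • ⊤ : Submodule R N)) (b n)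
      rw [ha']
      exact AdicCompletion.AdicCauchySequence.mk_eq_mk (Nat.le_add_right n c) b
    · rintro ⟨x, rfl⟩
      rw [AdicCompletion.map_comp_apply]
      have : g ∘ₗ i = 0 := by
        apply LinearMap.ext
        intro m
        exact hig.apply_apply_eq_zero m
      rw [this, AdicCompletion.map_zero, LinearMap.zero_apply]
  · -- injectivity of Q → Q^
    rw [injective_iff_map_eq_zero]
    intro q hq
    have h1 : (AdicCompletion.of I Q q).val c = 0 := by rw [hq]; rfl
    rw [AdicCompletion.of_apply, Submodule.mkQ_apply, Submodule.Quotient.mk_eq_zero, hQ0 c le_rfl] at h1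
    exact (Submodule.mem_bot R).mp h1
  · -- surjectivity of Q → Q^
    intro y
    obtain ⟨b, rfl⟩ := AdicCompletion.mk_surjective I Q y
    refine ⟨b c, ?_⟩
    apply AdicCompletion.ext
    intro n
    show Submodule.Quotient.mk (p := (I ^ n • ⊤ : Submodule R Q)) (b c)
      = Submodule.Quotient.mk (p := (I ^ n • ⊤ : Submodule R Q)) (b n)
    rcases le_total n c with hnc | hcn
    · exact AdicCompletion.AdicCauchySequence.mk_eq_mk hnc b
    · have h1 := b.property hcn
      rw [SModEq.sub_mem, hQ0 c le_rfl, Submodule.mem_bot, sub_eq_zero] at h1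
      rw [h1]

end Groth.Agent.S9600
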