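import Groth.Statements.S9601
import Mathlib.RingTheory.AdicCompletion.Functoriality
import Mathlib.LinearAlgebra.Quotient.Basic

set_option autoImplicit false
universe u
open CAlg

namespace Groth.Agent.S9601


section Aux

variable {R : Type u} [CommRing R] (I : Ideal R) (M : Type u) [AddCommGroup M] [Module R M]

/-- `K_m ⊆ K_{m+1} + I^m M^`. -/
lemma ker_eval_le (m : ℕ) (y : AdicCompletion I M) (hy : y ∈ LinearMap.ker (AdicCompletion.eval I M m)) :
    ∃ y' ∈ LinearMap.ker (AdicCompletion.eval I M (m + 1)),
      y - y' ∈ (I ^ m • ⊤ : Submodule R (AdicCompletion I M)) := by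
  obtain ⟨z, hz⟩ := Submodule.Quotient.mk_surjective _ (y.val (m + 1))
  have hzm : z ∈ (I ^ m • ⊤ : Submodule R M) := by
    have h1 : AdicCompletion.transitionMap I M (Nat.le_succ m) (y.val (m + 1)) = y.val m :=
      y.property (Nat.le_succ m)
    have h2 : y.val m = 0 := hy
    rw [← hz, h2] at h1
    exact (Submodule.Quotient.mk_eq_zero _).mp h1
  refine ⟨y - AdicCompletion.of I M z, ?_, ?_⟩
  · rw [LinearMap.mem_ker, map_sub, AdicCompletion.eval_apply, AdicCompletion.eval_of,
      Submodule.mkQ_apply, hz, sub_self]
  · rw [sub_sub_cancel]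
    have : (I ^ m • ⊤ : Submodule R M).map (AdicCompletion.of I M)
        ≤ (I ^ m • ⊤ : Submodule R (AdicCompletion I M)) := by
      rw [Submodule.map_smul'']
      exact Submodule.smul_mono le_rfl le_top
    exact this ⟨z, hzm, rfl⟩

end Aux

/-- For a ring R, an ideal I of R and an R-module M, let M^ be the I-adic completion and K_n the kernel
of the projection M^ → M/IⁿM. The completion M^ is I-adically complete exactly when K_n = Iⁿ M^
holds for every n ≥ 1. -/
theorem result {R : Type u} [CommRing R] (I : Ideal R) (M : Type u) [AddCommGroup M] [Module R M] :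
    IsAdicComplete I (AdicCompletion I M) ↔ ∀ n : ℕ, 1 ≤ n → LinearMap.ker (AdicCompletion.eval I M n) = I ^ n • (⊤ : Submodule R (AdicCompletion I M)) := by
  constructor
  · -- complete ⇒ K_n = I^n M^
    intro hcomp n _
    apply le_antisymm _ (AdicCompletion.pow_smul_top_le_ker_eval (I := I) (M := M) n)
    intro x hx
    -- the recursive sequence
    have hstep : ∀ (m : ℕ) (y : {y : AdicCompletion I M // y ∈ LinearMap.ker (AdicCompletion.eval I M m)}),
        ∃ y' : {y : AdicCompletion I M // y ∈ LinearMap.ker (AdicCompletion.eval I M (m + 1))},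
          (y : AdicCompletion I M) - y' ∈ (I ^ m • ⊤ : Submodule R (AdicCompletion I M)) := by
      intro m y
      obtain ⟨y', hy', hyy'⟩ := ker_eval_le I M m y.1 y.2
      exact ⟨⟨y', hy'⟩, hyy'⟩
    choose step hstep' using hstep
    let seq : ∀ j : ℕ, {y : AdicCompletion I M // y ∈ LinearMap.ker (AdicCompletion.eval I M (n + j))} :=
      fun j => Nat.rec (motive := fun j => {y : AdicCompletion I M //
          y ∈ LinearMap.ker (AdicCompletion.eval I M (n + j))}) ⟨x, hx⟩
        (fun j y => step (n + j) y) j
    have hseq0 : (seq 0 : AdicCompletion I M) = x := rfl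
    have hseqS : ∀ j, ((seq j : AdicCompletion I M)) - (seq (j + 1) : AdicCompletion I M)
        ∈ (I ^ (n + j) • ⊤ : Submodule R (AdicCompletion I M)) := fun j => hstep' (n + j) (seq j)
    let f : ℕ → AdicCompletion I M := fun j => x - (seq j : AdicCompletion I M)
    have hfS : ∀ j, f j ≡ f (j + 1) [SMOD (I ^ j • ⊤ : Submodule R (AdicCompletion I M))] := by
      intro j
      rw [SModEq.sub_mem]
      have : f j - f (j + 1) = -((seq j : AdicCompletion I M) - (seq (j + 1) : AdicCompletion I M)) := by
        simp only [f]; abel
      rw [this]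
      apply Submodule.neg_mem
      exact Submodule.smul_mono_left (Ideal.pow_le_pow_right (Nat.le_add_left j n)) (hseqS j)
    have hfc : AdicCompletion.IsAdicCauchy I (AdicCompletion I M) f :=
      (AdicCompletion.isAdicCauchy_iff I (AdicCompletion I M) f).mpr hfS
    obtain ⟨L, hL⟩ := hcomp.toIsPrecomplete.prec hfc
    -- all f j lie in I^n M^
    have hfn : ∀ j, f j ∈ (I ^ n • ⊤ : Submodule R (AdicCompletion I M)) := by
      intro j
      induction j with
      | zero => simp only [f, hseq0, sub_self]; exact Submodule.zero_mem _
      | succ j ih =>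
        have : f (j + 1) = f j + ((seq j : AdicCompletion I M) - (seq (j + 1) : AdicCompletion I M)) := by
          simp only [f]; abel
        rw [this]
        exact Submodule.add_mem _ ih
          (Submodule.smul_mono_left (Ideal.pow_le_pow_right (Nat.le_add_right n j)) (hseqS j))
    -- x = L
    have hxL : x = L := by
      apply AdicCompletion.ext
      intro j
      have h1 : f j - L ∈ (I ^ j • ⊤ : Submodule R (AdicCompletion I M)) := by
        rw [← SModEq.sub_mem]; exact hL j
      have h2 : (f j - L).val j = 0 := AdicCompletion.pow_smul_top_le_ker_eval (I := I) (M := M) j h1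
      have h3 : (seq j : AdicCompletion I M).val j = 0 := by
        have h4 : (seq j : AdicCompletion I M).val (n + j) = 0 := (seq j).2
        rw [← (seq j : AdicCompletion I M).property (Nat.le_add_left j n), h4, map_zero]
      have h5 : (f j - L).val j = x.val j - (seq j : AdicCompletion I M).val j - L.val j := rfl
      rw [h5, h3, sub_zero, sub_eq_zero] at h2
      exact h2
    rw [hxL]
    have h1 : f n - L ∈ (I ^ n • ⊤ : Submodule R (AdicCompletion I M)) := by
      rw [← SModEq.sub_mem]; exact hL n
    have : L = f n - (f n - L) := by abel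
    rw [this]
    exact Submodule.sub_mem _ (hfn n) h1
  · -- K_n = I^n M^ ⇒ complete
    intro h
    refine { toIsHausdorff := inferInstance, toIsPrecomplete := ?_ }
    rw [isPrecomplete_iff]
    intro f hf
    have hval : ∀ {m n : ℕ}, m ≤ n → (f n).val m = (f m).val m := by
      intro m n hmn
      have h1 : f m - f n ∈ (I ^ m • ⊤ : Submodule R (AdicCompletion I M)) := by
        rw [← SModEq.sub_mem]; exact hf hmn
      have h2 : (f m - f n).val m = 0 := AdicCompletion.pow_smul_top_le_ker_eval (I := I) (M := M) m h1
      have h3 : (f m - f n).val m = (f m).val m - (f n).val m := rfl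
      rw [h3, sub_eq_zero] at h2
      exact h2.symm
    let L : AdicCompletion I M := ⟨fun n => (f n).val n, by
      intro m n hmn
      show AdicCompletion.transitionMap I M hmn ((f n).val n) = (f m).val m
      rw [(f n).property hmn, hval hmn]⟩
    refine ⟨L, fun n => ?_⟩
    rw [SModEq.sub_mem]
    rcases Nat.eq_zero_or_pos n with h0 | hpos
    · subst h0
      rw [pow_zero, Ideal.one_eq_top, Submodule.top_smul]
      exact Submodule.mem_top
    · rw [← h n hpos, LinearMap.mem_ker]
      show (f n).val n - (f n).val n = 0
      exact sub_self _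

end Groth.Agent.S9601
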