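import Groth.Statements.S9602
import Mathlib.RingTheory.AdicCompletion.Algebra
import Mathlib.RingTheory.Jacobson.Ideal
import Mathlib.Algebra.Ring.GeomSum
import Mathlib.Tactic.LinearCombination
import Mathlib.Tactic.Ring

set_option autoImplicit false
universe u
open CAlg

namespace Groth.Agent.S9602

/-- If the image of `x` in `R ⧸ I` is a unit, then all components of `x` are units. -/
theorem isUnit_val_of_isUnit_evalOne {R : Type u} [CommRing R] (I : Ideal R)
    (x : AdicCompletion I R) (hx : IsUnit (AdicCompletion.evalOneₐ I x)) (n : ℕ) :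
    IsUnit (x.val n) := by
  rcases Nat.eq_zero_or_pos n with h0 | hpos
  · subst h0
    have : Subsingleton (R ⧸ (I ^ 0 • ⊤ : Ideal R)) := by
      apply Ideal.Quotient.subsingleton_iff.mpr
      simp
    exact isUnit_of_subsingleton _
  · obtain ⟨r, hr⟩ := Ideal.Quotient.mk_surjective (x.val n)
    have h1 : x.val 1 = Ideal.Quotient.mk (I ^ 1 • ⊤ : Ideal R) r := by
      rw [← x.property (Nat.succ_le_of_lt hpos), ← hr]
      rfl
    have h2 : AdicCompletion.evalOneₐ I x = Ideal.Quotient.mk I r := by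
      have h3 : AdicCompletion.evalₐ I 1 x = Ideal.Quotient.mk (I ^ 1) r := by
        rw [← AdicCompletion.factor_eval_eq_evalₐ I x (by simp), AdicCompletion.eval_apply, h1]
        rfl
      rw [← AdicCompletion.factorₐ_evalₐ_one, h3]
      rfl
    rw [h2] at hx
    obtain ⟨s', hs'⟩ := hx.exists_right_inv
    obtain ⟨s, rfl⟩ := Ideal.Quotient.mk_surjective s'
    rw [← map_mul, ← map_one (Ideal.Quotient.mk I), Ideal.Quotient.eq] at hs'
    -- e = 1 - r s ∈ I
    obtain ⟨e, he⟩ : ∃ e : R, e = 1 - r * s := ⟨_, rfl⟩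
    have heI : e ∈ I := by
      rw [he, ← neg_sub]; exact I.neg_mem hs'
    have hgeom : r * (s * ∑ i ∈ Finset.range n, e ^ i) = 1 - e ^ n := by
      have : r * s = 1 - e := by rw [he]; ring
      rw [← mul_assoc, this]
      have h := mul_neg_geom_sum e n
      linear_combination h
    rw [← hr]
    refine IsUnit.of_mul_eq_one (Ideal.Quotient.mk _ (s * ∑ i ∈ Finset.range n, e ^ i)) ?_
    rw [← map_mul, hgeom, ← map_one (Ideal.Quotient.mk (I ^ n • ⊤ : Ideal R)), Ideal.Quotient.eq]
    have : 1 - e ^ n - 1 = -(e ^ n) := by ring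
    rw [this]
    apply neg_mem
    rw [smul_eq_mul, Ideal.mul_top]
    exact Ideal.pow_mem_pow heI n

/-- An element of the completion whose image in `R ⧸ I` is a unit is a unit. -/
theorem isUnit_of_isUnit_evalOne {R : Type u} [CommRing R] (I : Ideal R)
    (x : AdicCompletion I R) (hx : IsUnit (AdicCompletion.evalOneₐ I x)) : IsUnit x := by
  have hu := isUnit_val_of_isUnit_evalOne I x hx
  let u : ∀ n, (R ⧸ (I ^ n • ⊤ : Ideal R))ˣ := fun n => (hu n).unit
  have hcompat : ∀ {m n : ℕ} (hmn : m ≤ n),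
      AdicCompletion.transitionMap I R hmn (((u n)⁻¹ : (R ⧸ (I ^ n • ⊤ : Ideal R))ˣ) : R ⧸ (I ^ n • ⊤ : Ideal R))
        = (((u m)⁻¹ : (R ⧸ (I ^ m • ⊤ : Ideal R))ˣ) : R ⧸ (I ^ m • ⊤ : Ideal R)) := by
    intro m n hmn
    have h1 : AdicCompletion.transitionMap I R hmn ((u n : R ⧸ (I ^ n • ⊤ : Ideal R))) = (u m : R ⧸ (I ^ m • ⊤ : Ideal R)) := by
      show AdicCompletion.transitionMap I R hmn (x.val n) = x.val m
      exact x.property hmn
    have h2 : (u m : R ⧸ (I ^ m • ⊤ : Ideal R)) *
        AdicCompletion.transitionMap I R hmn (((u n)⁻¹ : (R ⧸ (I ^ n • ⊤ : Ideal R))ˣ) : R ⧸ (I ^ n • ⊤ : Ideal R)) = 1 := by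
      rw [← h1, ← AdicCompletion.transitionMap_map_mul, Units.mul_inv,
        AdicCompletion.transitionMap_map_one]
    exact (Units.inv_eq_of_mul_eq_one_right h2).symm
  let z : AdicCompletion I R := ⟨fun n => (((u n)⁻¹ : (R ⧸ (I ^ n • ⊤ : Ideal R))ˣ) : R ⧸ (I ^ n • ⊤ : Ideal R)), fun hmn => hcompat hmn⟩
  refine IsUnit.of_mul_eq_one z ?_
  apply AdicCompletion.ext
  intro n
  rw [AdicCompletion.val_mul, AdicCompletion.val_one]
  show (u n : R ⧸ (I ^ n • ⊤ : Ideal R)) * (((u n)⁻¹ : (R ⧸ (I ^ n • ⊤ : Ideal R))ˣ) : R ⧸ (I ^ n • ⊤ : Ideal R)) = 1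
  exact Units.mul_inv _

/-- Let R be a ring, I an ideal of R and R^ = lim R/Iⁿ the I-adic completion. An element of R^ whose
image in R/I is invertible is itself invertible in R^; and the kernel of R^ → R/I as well as the
extended ideal I R^ both lie inside the Jacobson radical of R^. -/
theorem result {R : Type u} [CommRing R] (I : Ideal R) :
    (∀ x : AdicCompletion I R, IsUnit (AdicCompletion.evalOneₐ I x) → IsUnit x) ∧
      RingHom.ker (AdicCompletion.evalOneₐ I).toRingHom ≤ (⊥ : Ideal (AdicCompletion I R)).jacobson ∧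
      I.map (algebraMap R (AdicCompletion I R)) ≤ (⊥ : Ideal (AdicCompletion I R)).jacobson := by
  have hker : RingHom.ker (AdicCompletion.evalOneₐ I).toRingHom ≤
      (⊥ : Ideal (AdicCompletion I R)).jacobson := by
    intro z hz
    rw [Ideal.mem_jacobson_bot]
    intro w
    apply isUnit_of_isUnit_evalOne
    have hz0 : AdicCompletion.evalOneₐ I z = 0 := hz
    rw [map_add, map_mul, hz0, zero_mul, zero_add, map_one]
    exact isUnit_one
  refine ⟨fun x hx => isUnit_of_isUnit_evalOne I x hx, hker, ?_⟩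
  refine le_trans ?_ hker
  rw [Ideal.map_le_iff_le_comap]
  intro r hr
  rw [Ideal.mem_comap, RingHom.mem_ker]
  show AdicCompletion.evalOneₐ I (algebraMap R (AdicCompletion I R) r) = 0
  have := congrArg (fun f => f r) (AdicCompletion.evalOneₐ_comp_algebraMap_eq_mk I)
  simp only [RingHom.comp_apply] at this
  show (AdicCompletion.evalOneₐ I).toRingHom (algebraMap R (AdicCompletion I R) r) = 0
  rw [this]
  exact Ideal.Quotient.eq_zero_iff_mem.mpr hr

end Groth.Agent.S9602
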