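import Groth.Statements.S9603
import Mathlib.RingTheory.AdicCompletion.Basic
import Mathlib.RingTheory.Ideal.Operations
import Mathlib.Algebra.BigOperators.Group.Finset.Basic
import Mathlib.Tactic.Abel

set_option autoImplicit false
universe u
open CAlg

namespace Groth.Agent.S9603


section Aux

variable {A : Type u} [CommRing A] {M : Type u} [AddCommGroup M] [Module A M]

/-- Precompleteness for two ideals gives precompleteness for their sum. -/
theorem isPrecomplete_sup (J₁ J₂ : Ideal A) (h₁ : IsPrecomplete J₁ M) (h₂ : IsPrecomplete J₂ M) :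
    IsPrecomplete (J₁ ⊔ J₂) M := by
  rw [isPrecomplete_iff]
  intro x hx
  -- successive differences along the even subsequence
  have hd : ∀ n, x (2 * (n + 1)) - x (2 * n) ∈
      (J₁ ^ n • ⊤ : Submodule A M) ⊔ (J₂ ^ n • ⊤ : Submodule A M) := by
    intro n
    have h1 : x (2 * n) - x (2 * (n + 1)) ∈ ((J₁ ⊔ J₂) ^ (2 * n) • ⊤ : Submodule A M) := by
      rw [← SModEq.sub_mem]
      exact hx (by omega)
    have h2 : ((J₁ ⊔ J₂) ^ (2 * n) • ⊤ : Submodule A M)
        ≤ (J₁ ^ n • ⊤ : Submodule A M) ⊔ (J₂ ^ n • ⊤ : Submodule A M) := by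
      rw [← Submodule.sup_smul, two_mul]
      exact Submodule.smul_mono_left Ideal.sup_pow_add_le_pow_sup_pow
    have h3 := h2 h1
    have : x (2 * (n + 1)) - x (2 * n) = -(x (2 * n) - x (2 * (n + 1))) := by abel
    rw [this]
    exact Submodule.neg_mem _ h3
  have hd' : ∀ n, ∃ a ∈ (J₁ ^ n • ⊤ : Submodule A M), ∃ b ∈ (J₂ ^ n • ⊤ : Submodule A M),
      a + b = x (2 * (n + 1)) - x (2 * n) := fun n => Submodule.mem_sup.mp (hd n)
  choose a ha b hb hab using hd'
  -- partial sums
  have hA : ∀ {m n : ℕ}, m ≤ n → (∑ j ∈ Finset.range m, a j) ≡ (∑ j ∈ Finset.range n, a j)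
      [SMOD (J₁ ^ m • ⊤ : Submodule A M)] := by
    intro m n hmn
    rw [SModEq.sub_mem, ← Finset.sum_range_add_sum_Ico _ hmn, sub_add_cancel_left]
    apply Submodule.neg_mem
    apply Submodule.sum_mem
    intro j hj
    exact Submodule.smul_mono_left (Ideal.pow_le_pow_right (Finset.mem_Ico.mp hj).1) (ha j)
  have hB : ∀ {m n : ℕ}, m ≤ n → (∑ j ∈ Finset.range m, b j) ≡ (∑ j ∈ Finset.range n, b j)
      [SMOD (J₂ ^ m • ⊤ : Submodule A M)] := by
    intro m n hmn
    rw [SModEq.sub_mem, ← Finset.sum_range_add_sum_Ico _ hmn, sub_add_cancel_left]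
    apply Submodule.neg_mem
    apply Submodule.sum_mem
    intro j hj
    exact Submodule.smul_mono_left (Ideal.pow_le_pow_right (Finset.mem_Ico.mp hj).1) (hb j)
  obtain ⟨LA, hLA⟩ := h₁.prec hA
  obtain ⟨LB, hLB⟩ := h₂.prec hB
  have htel : ∀ N, x (2 * N) = x 0 + ∑ j ∈ Finset.range N, a j + ∑ j ∈ Finset.range N, b j := by
    intro N
    induction N with
    | zero => simp
    | succ N ih =>
      rw [Finset.sum_range_succ, Finset.sum_range_succ]
      have := hab N
      have e : x (2 * (N + 1)) = x (2 * N) + (a N + b N) := by rw [this]; abel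
      rw [e, ih]; abel
  refine ⟨x 0 + LA + LB, fun N => ?_⟩
  rw [SModEq.sub_mem]
  have h1 : x N - x (2 * N) ∈ ((J₁ ⊔ J₂) ^ N • ⊤ : Submodule A M) := by
    rw [← SModEq.sub_mem]
    exact hx (by omega)
  have h2 : (∑ j ∈ Finset.range N, a j) - LA ∈ ((J₁ ⊔ J₂) ^ N • ⊤ : Submodule A M) := by
    have : (∑ j ∈ Finset.range N, a j) - LA ∈ (J₁ ^ N • ⊤ : Submodule A M) := by
      rw [← SModEq.sub_mem]; exact hLA N
    exact Submodule.smul_mono_left (Ideal.pow_right_mono le_sup_left N) this
  have h3 : (∑ j ∈ Finset.range N, b j) - LB ∈ ((J₁ ⊔ J₂) ^ N • ⊤ : Submodule A M) := by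
    have : (∑ j ∈ Finset.range N, b j) - LB ∈ (J₂ ^ N • ⊤ : Submodule A M) := by
      rw [← SModEq.sub_mem]; exact hLB N
    exact Submodule.smul_mono_left (Ideal.pow_right_mono le_sup_right N) this
  have e : x N - (x 0 + LA + LB) = (x N - x (2 * N)) + ((∑ j ∈ Finset.range N, a j) - LA)
      + ((∑ j ∈ Finset.range N, b j) - LB) := by
    rw [htel N]; abel
  rw [e]
  exact Submodule.add_mem _ (Submodule.add_mem _ h1 h2) h3

end Aux

/-- For a ring A, elements f_1, …, f_r generating an ideal I and an A-module M, if the canonical map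
from M to its (f_i)-adic completion is surjective for every i, then the canonical map from M to its
I-adic completion is surjective. -/
theorem result {A : Type u} [CommRing A] {r : ℕ} (f : Fin r → A) (M : Type u) [AddCommGroup M] [Module A M] (h : ∀ i, Function.Surjective (AdicCompletion.of (Ideal.span {f i}) M)) :
    Function.Surjective (AdicCompletion.of (Ideal.span (Set.range f)) M) := by
  classical
  rw [AdicCompletion.of_surjective_iff]
  have hprec : ∀ i, IsPrecomplete (Ideal.span {f i}) M := fun i =>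
    (AdicCompletion.of_surjective_iff).mp (h i)
  have key : ∀ s : Finset (Fin r), IsPrecomplete (s.sup (fun i => Ideal.span {f i})) M := by
    intro s
    induction s using Finset.induction_on with
    | empty => rw [Finset.sup_empty]; infer_instance
    | insert a s _ ih =>
      rw [Finset.sup_insert]
      exact isPrecomplete_sup _ _ (hprec a) ih
  have := key Finset.univ
  rw [Finset.sup_univ_eq_iSup, ← Ideal.span_range_eq_iSup] at this
  exact this

end Groth.Agent.S9603
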