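import Groth.Statements.S9604
import Groth.Agent.Lib.Helper8.Adic

set_option autoImplicit false
universe u
open CAlg

namespace Groth.Agent.S9604

theorem result {R : Type u} [CommRing R] (I J : Ideal R) (c d : ℕ) (hc : 0 < c) (hd : 0 < d) (hI : I ^ c ≤ J) (hJ : J ^ d ≤ I) (M : Type u) [AddCommGroup M] [Module R M] :
    IsAdicComplete I M ↔ IsAdicComplete J M :=
  ⟨fun _ => Groth.Agent.Helper8.isAdicComplete_of_pow_le hd hc hJ hI,
   fun _ => Groth.Agent.Helper8.isAdicComplete_of_pow_le hc hd hI hJ⟩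

end Groth.Agent.S9604
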