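import Groth.Statements.S9605
import Mathlib.RingTheory.AdicCompletion.Exactness
import Mathlib.RingTheory.AdicCompletion.Functoriality
import Mathlib.LinearAlgebra.Quotient.Basic

set_option autoImplicit false
universe u
open CAlg

namespace Groth.Agent.S9605

/-- For a ring R, an ideal I of R, an I-adically complete R-module M and a submodule K of M, the
quotient M/K is I-adically complete if and only if K = ⋂ₙ (K + IⁿM). -/
theorem result {R : Type u} [CommRing R] (I : Ideal R) (M : Type u) [AddCommGroup M] [Module R M] [IsAdicComplete I M] (K : Submodule R M) :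
    IsAdicComplete I (M ⧸ K) ↔ K = ⨅ n : ℕ, K ⊔ I ^ n • (⊤ : Submodule R M) := by
  -- the quotient is always precomplete
  have hprec : IsPrecomplete I (M ⧸ K) := by
    rw [← AdicCompletion.of_surjective_iff]
    intro y
    obtain ⟨z, rfl⟩ := AdicCompletion.map_surjective I (Submodule.mkQ_surjective K) y
    obtain ⟨m, rfl⟩ := AdicCompletion.of_surjective I M z
    exact ⟨K.mkQ m, (AdicCompletion.map_of I K.mkQ m).symm⟩
  -- membership in the powers downstairs
  have hmem : ∀ (n : ℕ) (m : M), K.mkQ m ∈ (I ^ n • ⊤ : Submodule R (M ⧸ K)) ↔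
      m ∈ K ⊔ I ^ n • (⊤ : Submodule R M) := by
    intro n m
    have h1 : (I ^ n • ⊤ : Submodule R (M ⧸ K)) = (I ^ n • (⊤ : Submodule R M)).map K.mkQ := by
      rw [Submodule.map_smul'', Submodule.map_top, Submodule.range_mkQ]
    rw [h1, ← Submodule.comap_map_mkQ, Submodule.mem_comap]
  have hhaus : IsHausdorff I (M ⧸ K) ↔ K = ⨅ n : ℕ, K ⊔ I ^ n • (⊤ : Submodule R M) := by
    rw [isHausdorff_iff]
    constructor
    · intro h
      apply le_antisymm
      · exact le_iInf fun n => le_sup_left
      · intro m hm
        rw [Submodule.mem_iInf] at hm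
        have : K.mkQ m = 0 := by
          apply h
          intro n
          rw [SModEq.zero, hmem]
          exact hm n
        rwa [Submodule.mkQ_apply, Submodule.Quotient.mk_eq_zero] at this
    · intro h x hx
      obtain ⟨m, rfl⟩ := Submodule.mkQ_surjective K x
      rw [Submodule.mkQ_apply, Submodule.Quotient.mk_eq_zero, h, Submodule.mem_iInf]
      intro n
      rw [← hmem, ← SModEq.zero]
      exact hx n
  rw [← hhaus]
  constructor
  · intro h
    exact h.toIsHausdorff
  · intro h
    exact { toIsHausdorff := h, toIsPrecomplete := hprec }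

end Groth.Agent.S9605
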