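import Groth.Statements.S9606
import Groth.Agent.Lib.Helper8.PurelyInsepSpec

set_option autoImplicit false
universe u
open CAlg

namespace Groth.Agent.S9606

/-- Let R → S be a ring map with locally nilpotent kernel such that S is generated over R by elements x
with x² and x³ in the image of R. Then the induced map on spectra is a homeomorphism and every
residue field map κ(p) → κ(q), for q a prime of S with inverse image p, is bijective. -/
theorem result {R S : Type u} [CommRing R] [CommRing S] [Algebra R S]
    (hgen : Algebra.adjoin R {x : S | x ^ 2 ∈ Set.range (algebraMap R S) ∧ x ^ 3 ∈ Set.range (algebraMap R S)} = ⊤)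
    (hker : ∀ r : R, algebraMap R S r = 0 → IsNilpotent r) :
    IsHomeomorph (PrimeSpectrum.comap (algebraMap R S)) ∧
      ∀ (q : Ideal S) [q.IsPrime], Function.Bijective (Ideal.ResidueField.map (q.comap (algebraMap R S)) q (algebraMap R S) rfl) := by
  classical
  set G : Set S := {x : S | x ^ 2 ∈ Set.range (algebraMap R S) ∧
    x ^ 3 ∈ Set.range (algebraMap R S)} with hGdef
  -- integrality
  haveI hint : Algebra.IsIntegral R S := by
    refine ⟨fun s => ?_⟩
    have hs : s ∈ Algebra.adjoin R G := by rw [hgen]; trivial
    induction hs using Algebra.adjoin_induction with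
    | mem x hx =>
      obtain ⟨⟨a, ha⟩, _⟩ := hx
      refine ⟨Polynomial.X ^ 2 - Polynomial.C a, Polynomial.monic_X_pow_sub_C a (by norm_num), ?_⟩
      simp [ha]
    | algebraMap r => exact isIntegral_algebraMap
    | add x y _ _ hx hy => exact hx.add hy
    | mul x y _ _ hx hy => exact hx.mul hy
  -- key claim: images in residue fields come uniformly from `κ(p)`
  have key : ∀ (p : Ideal R) [p.IsPrime] (s : S), ∃ t : p.ResidueField,
      ∀ (q : Ideal S) [q.IsPrime] (hq : p = q.comap (algebraMap R S)),
        algebraMap S q.ResidueField s = Ideal.ResidueField.map p q (algebraMap R S) hq t := by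
    intro p _ s
    have hs : s ∈ Algebra.adjoin R G := by rw [hgen]; trivial
    induction hs using Algebra.adjoin_induction with
    | mem x hx =>
      obtain ⟨⟨a, ha⟩, ⟨b, hb⟩⟩ := hx
      by_cases hap : a ∈ p
      · refine ⟨0, fun q _ hq => ?_⟩
        rw [map_zero, Ideal.algebraMap_residueField_eq_zero]
        have h1 : algebraMap R S a ∈ q := by
          have : a ∈ q.comap (algebraMap R S) := hq ▸ hap
          exact this
        rw [ha] at h1
        exact Ideal.IsPrime.mem_of_pow_mem inferInstance _ h1
      · refine ⟨algebraMap R p.ResidueField b / algebraMap R p.ResidueField a, fun q _ hq => ?_⟩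
        have ha0 : algebraMap R p.ResidueField a ≠ 0 := by
          rw [Ne, Ideal.algebraMap_residueField_eq_zero]
          exact hap
        have h2 : (algebraMap S q.ResidueField x) ^ 2 =
            Ideal.ResidueField.map p q (algebraMap R S) hq (algebraMap R p.ResidueField a) := by
          rw [Ideal.ResidueField.map_algebraMap, ha, map_pow]
        have h3 : (algebraMap S q.ResidueField x) ^ 3 =
            Ideal.ResidueField.map p q (algebraMap R S) hq (algebraMap R p.ResidueField b) := by
          rw [Ideal.ResidueField.map_algebraMap, hb, map_pow]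
        have hne : Ideal.ResidueField.map p q (algebraMap R S) hq
            (algebraMap R p.ResidueField a) ≠ 0 := by
          rw [Ne, map_eq_zero]
          exact ha0
        rw [map_div₀, ← h2, ← h3]
        have hx0 : algebraMap S q.ResidueField x ≠ 0 := by
          intro h0
          rw [← h2, h0] at hne
          exact hne (by norm_num)
        field_simp
    | algebraMap r =>
      refine ⟨algebraMap R p.ResidueField r, fun q _ hq => ?_⟩
      rw [Ideal.ResidueField.map_algebraMap]
    | add x y _ _ hx hy =>
      obtain ⟨t1, h1⟩ := hx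
      obtain ⟨t2, h2⟩ := hy
      exact ⟨t1 + t2, fun q _ hq => by rw [map_add, map_add, h1 q hq, h2 q hq]⟩
    | mul x y _ _ hx hy =>
      obtain ⟨t1, h1⟩ := hx
      obtain ⟨t2, h2⟩ := hy
      exact ⟨t1 * t2, fun q _ hq => by rw [map_mul, map_mul, h1 q hq, h2 q hq]⟩
  refine ⟨?_, ?_⟩
  · rw [isHomeomorph_iff_continuous_isClosedMap_bijective]
    refine ⟨PrimeSpectrum.continuous_comap (algebraMap R S),
      PrimeSpectrum.isClosedMap_comap_of_isIntegral _ (algebraMap_isIntegral_iff.mpr hint),
      ?_, ?_⟩
    · -- injective
      have hle : ∀ q1 q2 : PrimeSpectrum S,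
          PrimeSpectrum.comap (algebraMap R S) q1 = PrimeSpectrum.comap (algebraMap R S) q2 →
          q1.asIdeal ≤ q2.asIdeal := by
        intro q1 q2 h12 s hs
        have h12' : q1.asIdeal.comap (algebraMap R S) = q2.asIdeal.comap (algebraMap R S) :=
          congrArg PrimeSpectrum.asIdeal h12
        obtain ⟨t, ht⟩ := key (q1.asIdeal.comap (algebraMap R S)) s
        have e1 := ht q1.asIdeal rfl
        have e2 := ht q2.asIdeal h12'
        rw [← Ideal.algebraMap_residueField_eq_zero] at hs ⊢
        rw [hs] at e1
        have ht0 : t = 0 := by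
          have := e1.symm
          rwa [map_eq_zero] at this
        rw [e2, ht0, map_zero]
      intro q1 q2 h12
      exact PrimeSpectrum.ext (le_antisymm (hle q1 q2 h12) (hle q2 q1 h12.symm))
    · -- surjective
      intro P
      have hker : (⊥ : Ideal S).comap (algebraMap R S) ≤ P.asIdeal := by
        intro r hr
        have h0 : algebraMap R S r = 0 := hr
        obtain ⟨n, hn⟩ := hker r h0
        exact Ideal.IsPrime.mem_of_pow_mem P.isPrime n (hn ▸ Ideal.zero_mem _)
      obtain ⟨Q, _, hQ, hQP⟩ := Ideal.exists_ideal_over_prime_of_isIntegral P.asIdeal ⊥ hker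
      exact ⟨⟨Q, hQ⟩, PrimeSpectrum.ext hQP⟩
  · intro q _
    refine ⟨RingHom.injective _, fun z => ?_⟩
    obtain ⟨s, s', hs', hz⟩ := Groth.Agent.Helper8.residueField_exists_mul_eq q z
    obtain ⟨t, ht⟩ := key (q.comap (algebraMap R S)) s
    obtain ⟨t', ht'⟩ := key (q.comap (algebraMap R S)) s'
    have h1 := ht q rfl
    have h2 := ht' q rfl
    have hs0 : algebraMap S q.ResidueField s' ≠ 0 := by
      rw [Ne, Ideal.algebraMap_residueField_eq_zero]
      exact hs'
    refine ⟨t / t', ?_⟩
    rw [map_div₀, ← h1, ← h2, ← hz]
    field_simp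

end Groth.Agent.S9606
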