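import Groth.Statements.S9607
import Mathlib

set_option autoImplicit false
universe u
open CAlg

namespace Groth.Agent.S9607

/-- For a prime number p and integers n, m > 0 there exists an integer a such that (x + y)^(p^a) and p^a
(x + y) both belong to the subring ℤ[x^(p^n), p^n x, y^(p^m), p^m y] of the polynomial ring ℤ[x, y]. -/
theorem result (p : ℕ) (hp : p.Prime) (n m : ℕ) (hn : 0 < n) (hm : 0 < m) :
    ∃ a : ℕ, ((MvPolynomial.X 0 + MvPolynomial.X 1 : MvPolynomial (Fin 2) ℤ) ^ (p ^ a) ∈ Algebra.adjoin ℤ ({MvPolynomial.X 0 ^ (p ^ n), (p : MvPolynomial (Fin 2) ℤ) ^ n * MvPolynomial.X 0, MvPolynomial.X 1 ^ (p ^ m), (p : MvPolynomial (Fin 2) ℤ) ^ m * MvPolynomial.X 1} : Set (MvPolynomial (Fin 2) ℤ)) ∧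
      (p : MvPolynomial (Fin 2) ℤ) ^ a * (MvPolynomial.X 0 + MvPolynomial.X 1) ∈ Algebra.adjoin ℤ ({MvPolynomial.X 0 ^ (p ^ n), (p : MvPolynomial (Fin 2) ℤ) ^ n * MvPolynomial.X 0, MvPolynomial.X 1 ^ (p ^ m), (p : MvPolynomial (Fin 2) ℤ) ^ m * MvPolynomial.X 1} : Set (MvPolynomial (Fin 2) ℤ))) := by
  classical
  set x : MvPolynomial (Fin 2) ℤ := MvPolynomial.X 0 with hx
  set y : MvPolynomial (Fin 2) ℤ := MvPolynomial.X 1 with hy
  set P : MvPolynomial (Fin 2) ℤ := (p : MvPolynomial (Fin 2) ℤ) with hP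
  set B := Algebra.adjoin ℤ ({x ^ (p ^ n), P ^ n * x, y ^ (p ^ m), P ^ m * y} :
    Set (MvPolynomial (Fin 2) ℤ)) with hB
  have hB1 : x ^ (p ^ n) ∈ B := Algebra.subset_adjoin (by simp)
  have hB2 : P ^ n * x ∈ B := Algebra.subset_adjoin (by simp)
  have hB3 : y ^ (p ^ m) ∈ B := Algebra.subset_adjoin (by simp)
  have hB4 : P ^ m * y ∈ B := Algebra.subset_adjoin (by simp)
  have hPB : P ∈ B := by
    have : P = algebraMap ℤ (MvPolynomial (Fin 2) ℤ) (p : ℤ) := by simp [hP]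
    rw [this]
    exact Subalgebra.algebraMap_mem _ _
  set N := n * p ^ n + m * p ^ m with hN
  have hppos : 0 < p := hp.pos
  -- monomials times `p^N` are in `B`
  have hmono : ∀ k l : ℕ, P ^ N * (x ^ k * y ^ l) ∈ B := by
    intro k l
    have hk := Nat.div_add_mod k (p ^ n)
    have hl := Nat.div_add_mod l (p ^ m)
    have hr : k % p ^ n < p ^ n := Nat.mod_lt _ (pow_pos hppos n)
    have hr' : l % p ^ m < p ^ m := Nat.mod_lt _ (pow_pos hppos m)
    have hle : n * (k % p ^ n) + m * (l % p ^ m) ≤ N := by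
      rw [hN]
      exact Nat.add_le_add (Nat.mul_le_mul_left _ hr.le) (Nat.mul_le_mul_left _ hr'.le)
    have hEq : P ^ N * (x ^ k * y ^ l) =
        P ^ (N - (n * (k % p ^ n) + m * (l % p ^ m))) *
          ((x ^ (p ^ n)) ^ (k / p ^ n) * (P ^ n * x) ^ (k % p ^ n) *
            ((y ^ (p ^ m)) ^ (l / p ^ m) * (P ^ m * y) ^ (l % p ^ m))) := by
      have e1 : x ^ k = (x ^ (p ^ n)) ^ (k / p ^ n) * x ^ (k % p ^ n) := by
        rw [← pow_mul, ← pow_add, hk]
      have e2 : y ^ l = (y ^ (p ^ m)) ^ (l / p ^ m) * y ^ (l % p ^ m) := by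
        rw [← pow_mul, ← pow_add, hl]
      have e3 : P ^ N = P ^ (N - (n * (k % p ^ n) + m * (l % p ^ m))) *
          (P ^ (n * (k % p ^ n)) * P ^ (m * (l % p ^ m))) := by
        rw [← pow_add, ← pow_add, Nat.sub_add_cancel hle]
      rw [e3]
      conv_lhs => rw [e1, e2]
      rw [mul_pow, mul_pow, ← pow_mul, ← pow_mul]
      ring
    rw [hEq]
    exact B.mul_mem (B.pow_mem hPB _) (B.mul_mem (B.mul_mem (B.pow_mem hB1 _) (B.pow_mem hB2 _))
      (B.mul_mem (B.pow_mem hB3 _) (B.pow_mem hB4 _)))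
  have hall : ∀ f : MvPolynomial (Fin 2) ℤ, P ^ N * f ∈ B := by
    intro f
    rw [f.as_sum, Finset.mul_sum]
    refine B.sum_mem fun d _ => ?_
    have : MvPolynomial.monomial d (MvPolynomial.coeff d f) =
        MvPolynomial.C (MvPolynomial.coeff d f) * (x ^ (d 0) * y ^ (d 1)) := by
      rw [MvPolynomial.monomial_eq, Finsupp.prod_fintype _ _ (fun i => pow_zero _),
        Fin.prod_univ_two]
    rw [this, mul_left_comm]
    exact B.mul_mem (Subalgebra.algebraMap_mem B _) (hmono _ _)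
  set c := max n m with hc
  refine ⟨c + N, ?_, ?_⟩
  · obtain ⟨r, hr⟩ := exists_add_pow_prime_pow_eq hp x y c
    have hdvd : (p : MvPolynomial (Fin 2) ℤ) ∣ (x + y) ^ p ^ c - (x ^ p ^ c + y ^ p ^ c) := by
      refine ⟨x * y * r, ?_⟩
      rw [hr]; ring
    obtain ⟨g, hg⟩ := dvd_sub_pow_of_dvd_sub hdvd N
    have hv : x ^ p ^ c + y ^ p ^ c ∈ B := by
      refine B.add_mem ?_ ?_
      · have : x ^ p ^ c = (x ^ p ^ n) ^ p ^ (c - n) := by
          rw [← pow_mul, ← pow_add, Nat.add_sub_cancel' (le_max_left n m)]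
        rw [this]; exact B.pow_mem hB1 _
      · have : y ^ p ^ c = (y ^ p ^ m) ^ p ^ (c - m) := by
          rw [← pow_mul, ← pow_add, Nat.add_sub_cancel' (le_max_right n m)]
        rw [this]; exact B.pow_mem hB3 _
    have hfinal : (x + y) ^ p ^ (c + N) = (x ^ p ^ c + y ^ p ^ c) ^ p ^ N + P ^ N * (P * g) := by
      have h3 : ((x + y) ^ p ^ c) ^ p ^ N =
          (x ^ p ^ c + y ^ p ^ c) ^ p ^ N + (p : MvPolynomial (Fin 2) ℤ) ^ (N + 1) * g := by
        rw [← hg]; ring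
      rw [pow_add, pow_mul, h3, pow_succ]
      ring
    rw [hfinal]
    exact B.add_mem (B.pow_mem hv _) (hall _)
  · have e1 : P ^ (c + N) * (x + y) =
        P ^ (c + N - n) * (P ^ n * x) + P ^ (c + N - m) * (P ^ m * y) := by
      have h1 : c + N = (c + N - n) + n :=
        (Nat.sub_add_cancel (le_trans (le_max_left n m) (Nat.le_add_right _ _))).symm
      have h2 : c + N = (c + N - m) + m :=
        (Nat.sub_add_cancel (le_trans (le_max_right n m) (Nat.le_add_right _ _))).symm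
      rw [mul_add, ← mul_assoc, ← mul_assoc, ← pow_add, ← pow_add, ← h1, ← h2]
    rw [e1]
    exact B.add_mem (B.mul_mem (B.pow_mem hPB _) hB2) (B.mul_mem (B.pow_mem hPB _) hB4)

end Groth.Agent.S9607
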