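import Groth.Statements.S9608
import Mathlib

set_option autoImplicit false
universe u
open CAlg

namespace Groth.Agent.S9608

/-- Let k'/k be a field extension and p a prime number. Then k' is generated over k by elements x for
which some n > 0 has x^(p^n) ∈ k and p^n x ∈ k, if and only if either k' = k, or k has
characteristic p and k'/k is purely inseparable. -/
theorem result {k k' : Type u} [Field k] [Field k'] [Algebra k k'] (p : ℕ) (hp : p.Prime) :
    IntermediateField.adjoin k {x : k' | ∃ n : ℕ, 0 < n ∧ x ^ (p ^ n) ∈ Set.range (algebraMap k k') ∧ (p : k') ^ n * x ∈ Set.range (algebraMap k k')} = ⊤ ↔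
      (Function.Surjective (algebraMap k k') ∨ (CharP k p ∧ IsPurelyInseparable k k')) := by
  classical
  constructor
  · intro h
    by_cases hpk : (p : k) = 0
    · right
      haveI : CharP k p := (CharP.charP_iff_prime_eq_zero hp).mpr hpk
      haveI : ExpChar k p := ExpChar.prime hp
      refine ⟨inferInstance, ?_⟩
      have h1 : IsPurelyInseparable k (IntermediateField.adjoin k {x : k' | ∃ n : ℕ, 0 < n ∧
          x ^ (p ^ n) ∈ Set.range (algebraMap k k') ∧
          (p : k') ^ n * x ∈ Set.range (algebraMap k k')}) := by
        rw [IntermediateField.isPurelyInseparable_adjoin_iff_pow_mem k k' p]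
        rintro x ⟨n, _, hx, _⟩
        exact ⟨n, hx⟩
      rw [h] at h1
      rw [isPurelyInseparable_iff_pow_mem k p] at h1 ⊢
      intro x
      obtain ⟨n, y, hy⟩ := h1 ⟨x, trivial⟩
      refine ⟨n, y, ?_⟩
      have := congrArg (Subtype.val) hy
      simpa using this
    · left
      have hsub : {x : k' | ∃ n : ℕ, 0 < n ∧ x ^ (p ^ n) ∈ Set.range (algebraMap k k') ∧
          (p : k') ^ n * x ∈ Set.range (algebraMap k k')} ⊆
          ((⊥ : IntermediateField k k') : Set k') := by
        rintro x ⟨n, _, _, y, hy⟩
        rw [SetLike.mem_coe, IntermediateField.mem_bot]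
        refine ⟨y / (p : k) ^ n, ?_⟩
        have hpk' : ((p : k') ^ n) ≠ 0 := by
          have : (p : k') = algebraMap k k' (p : k) := by simp
          rw [this, ← map_pow]
          exact fun h0 => pow_ne_zero n hpk ((algebraMap k k').injective (by rw [h0, map_zero]))
        rw [map_div₀, hy, map_pow, map_natCast]
        field_simp
      have hbot : (⊥ : IntermediateField k k') = ⊤ := by
        rw [eq_top_iff, ← h]
        exact IntermediateField.adjoin_le_iff.mpr hsub
      intro x
      have hx : x ∈ (⊥ : IntermediateField k k') := by rw [hbot]; trivial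
      exact IntermediateField.mem_bot.mp hx
  · rintro (hsurj | ⟨hchar, hpi⟩)
    · rw [eq_top_iff]
      intro x _
      obtain ⟨y, rfl⟩ := hsurj x
      exact IntermediateField.algebraMap_mem _ y
    · haveI := hchar
      haveI := hpi
      haveI : ExpChar k p := ExpChar.prime hp
      have hall : ∀ x : k', x ∈ {x : k' | ∃ n : ℕ, 0 < n ∧
          x ^ (p ^ n) ∈ Set.range (algebraMap k k') ∧
          (p : k') ^ n * x ∈ Set.range (algebraMap k k')} := by
        intro x
        obtain ⟨n, y, hy⟩ := IsPurelyInseparable.pow_mem k p x
        refine ⟨n + 1, Nat.succ_pos n, ⟨y ^ p, ?_⟩, ⟨0, ?_⟩⟩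
        · rw [map_pow, hy, pow_succ, pow_mul]
        · have hp0 : (p : k') = 0 := by
            haveI : CharP k' p := charP_of_injective_algebraMap (algebraMap k k').injective p
            exact CharP.cast_eq_zero k' p
          rw [map_zero, hp0, zero_pow (Nat.succ_ne_zero n), zero_mul]
      rw [eq_top_iff]
      intro x _
      exact IntermediateField.subset_adjoin k _ (hall x)

end Groth.Agent.S9608
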