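import Groth.Statements.S9609
import Groth.Agent.Lib.Helper8.PurelyInsepSpec

set_option autoImplicit false
universe u
open CAlg

namespace Groth.Agent.S9609

open TensorProduct in
/-- Let R → S be a ring map which is injective on spectra and whose residue field extensions κ(p) → κ(q)
(q a prime of S with inverse image p) are purely inseparable: every element of κ(q) has a power with
exponent a power of the characteristic exponent lying in the image of κ(p). Then, given an arbitrary
R-algebra R', the induced map R' → R' ⊗_R S is likewise injective on spectra and has purely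
inseparable residue field extensions. -/
theorem result {R S R' : Type u} [CommRing R] [CommRing S] [CommRing R'] [Algebra R S] [Algebra R R']
    (hinj : Function.Injective (PrimeSpectrum.comap (algebraMap R S)))
    (hpi : ∀ (q : Ideal S) [q.IsPrime] (x : q.ResidueField), ∃ n : ℕ, x ^ (ringExpChar (q.comap (algebraMap R S)).ResidueField) ^ n ∈ Set.range (Ideal.ResidueField.map (q.comap (algebraMap R S)) q (algebraMap R S) rfl)) :
    Function.Injective (PrimeSpectrum.comap (algebraMap R' (R' ⊗[R] S))) ∧
      ∀ (q' : Ideal (R' ⊗[R] S)) [q'.IsPrime] (x : q'.ResidueField), ∃ n : ℕ, x ^ (ringExpChar (q'.comap (algebraMap R' (R' ⊗[R] S))).ResidueField) ^ n ∈ Set.range (Ideal.ResidueField.map (q'.comap (algebraMap R' (R' ⊗[R] S))) q' (algebraMap R' (R' ⊗[R] S)) rfl) := by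
  classical
  -- elementary form of the hypothesis
  have helem : ∀ (q : Ideal S) [q.IsPrime] (s : S), ∃ (n : ℕ) (a b : R),
      b ∉ q.comap (algebraMap R S) ∧
      algebraMap R S b * s ^ (ringExpChar (q.comap (algebraMap R S)).ResidueField) ^ n -
        algebraMap R S a ∈ q := by
    intro q _ s
    exact Groth.Agent.Helper8.piElem_of_piResidue (algebraMap R S) _ q rfl (hpi q) s
  -- descent of elements
  have hdesc : ∀ (q' : Ideal (R' ⊗[R] S)) [q'.IsPrime] (z : R' ⊗[R] S),
      ∃ (n : ℕ) (w : R') (b : R), b ∉ q'.comap (algebraMap R (R' ⊗[R] S)) ∧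
        ∀ q'' : Ideal (R' ⊗[R] S), q''.IsPrime →
          q''.comap (Algebra.TensorProduct.includeRight : S →ₐ[R] R' ⊗[R] S).toRingHom =
            q'.comap (Algebra.TensorProduct.includeRight : S →ₐ[R] R' ⊗[R] S).toRingHom →
          algebraMap R (R' ⊗[R] S) b *
            z ^ (ringExpChar (q'.comap (algebraMap R (R' ⊗[R] S))).ResidueField) ^ n -
            w ⊗ₜ[R] (1 : S) ∈ q'' := by
    intro q' _ z
    have hp : q'.comap (algebraMap R (R' ⊗[R] S)) =
        (q'.comap (Algebra.TensorProduct.includeRight : S →ₐ[R] R' ⊗[R] S).toRingHom).comap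
          (algebraMap R S) := (Groth.Agent.Helper8.comap_includeRight_comap q').symm
    have := Groth.Agent.Helper8.exists_pow_sub_tmul_mem (R' := R')
      (q'.comap (algebraMap R (R' ⊗[R] S)))
      (q'.comap (Algebra.TensorProduct.includeRight : S →ₐ[R] R' ⊗[R] S).toRingHom) hp ?_ z
    · exact this
    · intro s
      obtain ⟨n, a, b, hb, hab⟩ :=
        helem (q'.comap (Algebra.TensorProduct.includeRight : S →ₐ[R] R' ⊗[R] S).toRingHom) s
      refine ⟨n, a, b, ?_, ?_⟩
      · rw [hp]; exact hb
      · have hE : ringExpChar (q'.comap (algebraMap R (R' ⊗[R] S))).ResidueField =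
            ringExpChar ((q'.comap (Algebra.TensorProduct.includeRight :
              S →ₐ[R] R' ⊗[R] S).toRingHom).comap (algebraMap R S)).ResidueField := by
          haveI := Groth.Agent.Helper8.expChar_residueField_of_comap (RingHom.id R)
            (q'.comap (algebraMap R (R' ⊗[R] S)))
            ((q'.comap (Algebra.TensorProduct.includeRight :
              S →ₐ[R] R' ⊗[R] S).toRingHom).comap (algebraMap R S))
            (by rw [Ideal.comap_id]; exact hp)
          exact (ringExpChar.eq _ _).symm
        rw [hE]
        exact hab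
  refine ⟨?_, ?_⟩
  · -- injectivity on spectra
    have hle : ∀ q1 q2 : PrimeSpectrum (R' ⊗[R] S),
        PrimeSpectrum.comap (algebraMap R' (R' ⊗[R] S)) q1 =
          PrimeSpectrum.comap (algebraMap R' (R' ⊗[R] S)) q2 → q1.asIdeal ≤ q2.asIdeal := by
      intro q1 q2 h12
      have h12' : q1.asIdeal.comap (algebraMap R' (R' ⊗[R] S)) =
          q2.asIdeal.comap (algebraMap R' (R' ⊗[R] S)) := congrArg PrimeSpectrum.asIdeal h12
      have hR12 : q1.asIdeal.comap (algebraMap R (R' ⊗[R] S)) =
          q2.asIdeal.comap (algebraMap R (R' ⊗[R] S)) := by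
        rw [← Groth.Agent.Helper8.comap_algebraMap_comap, ← Groth.Agent.Helper8.comap_algebraMap_comap,
          h12']
      have hS12 : q2.asIdeal.comap
          (Algebra.TensorProduct.includeRight : S →ₐ[R] R' ⊗[R] S).toRingHom =
          q1.asIdeal.comap (Algebra.TensorProduct.includeRight : S →ₐ[R] R' ⊗[R] S).toRingHom := by
        have := @hinj
          (PrimeSpectrum.comap (Algebra.TensorProduct.includeRight : S →ₐ[R] R' ⊗[R] S).toRingHom q2)
          (PrimeSpectrum.comap (Algebra.TensorProduct.includeRight : S →ₐ[R] R' ⊗[R] S).toRingHom q1)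
          (by
            apply PrimeSpectrum.ext
            change (q2.asIdeal.comap _).comap _ = (q1.asIdeal.comap _).comap _
            rw [Groth.Agent.Helper8.comap_includeRight_comap,
              Groth.Agent.Helper8.comap_includeRight_comap, hR12])
        exact congrArg PrimeSpectrum.asIdeal this
      intro z hz
      obtain ⟨n, w, b, hb, hq⟩ := hdesc q1.asIdeal z
      have m1 := hq q1.asIdeal q1.isPrime rfl
      have m2 := hq q2.asIdeal q2.isPrime hS12
      have hw1 : w ⊗ₜ[R] (1 : S) ∈ q1.asIdeal := by
        have h3 := Ideal.sub_mem _ (Ideal.mul_mem_left q1.asIdeal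
          (algebraMap R (R' ⊗[R] S) b) (Ideal.pow_mem_of_mem _ hz _ (pow_pos (expChar_pos
            (q1.asIdeal.comap (algebraMap R (R' ⊗[R] S))).ResidueField
            (ringExpChar (q1.asIdeal.comap (algebraMap R (R' ⊗[R] S))).ResidueField)) n))) m1
        simpa using h3
      have hw2 : w ⊗ₜ[R] (1 : S) ∈ q2.asIdeal := by
        have : w ∈ q1.asIdeal.comap (algebraMap R' (R' ⊗[R] S)) := hw1
        rw [h12'] at this
        exact this
      have h4 : algebraMap R (R' ⊗[R] S) b *
          z ^ (ringExpChar (q1.asIdeal.comap (algebraMap R (R' ⊗[R] S))).ResidueField) ^ n ∈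
          q2.asIdeal := by
        have := Ideal.add_mem _ m2 hw2
        simpa using this
      rcases Ideal.IsPrime.mem_or_mem q2.isPrime h4 with h5 | h5
      · exfalso
        apply hb
        rw [hR12]
        exact h5
      · exact Ideal.IsPrime.mem_of_pow_mem q2.isPrime _ h5
    intro q1 q2 h12
    apply PrimeSpectrum.ext
    exact le_antisymm (hle q1 q2 h12) (hle q2 q1 h12.symm)
  · intro q' _ x
    refine Groth.Agent.Helper8.piResidue_of_piElem (algebraMap R' (R' ⊗[R] S)) _ q' rfl ?_ x
    intro z
    obtain ⟨n, w, b, hb, hq⟩ := hdesc q' z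
    refine ⟨n, w, algebraMap R R' b, ?_, ?_⟩
    · intro hmem
      apply hb
      rw [← Groth.Agent.Helper8.comap_algebraMap_comap]
      exact hmem
    · have hE : ringExpChar (q'.comap (algebraMap R' (R' ⊗[R] S))).ResidueField =
          ringExpChar (q'.comap (algebraMap R (R' ⊗[R] S))).ResidueField := by
        haveI := Groth.Agent.Helper8.expChar_residueField_of_comap (algebraMap R R')
          (q'.comap (algebraMap R (R' ⊗[R] S))) (q'.comap (algebraMap R' (R' ⊗[R] S)))
          (Groth.Agent.Helper8.comap_algebraMap_comap q').symm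
        exact ringExpChar.eq _ _
      rw [hE]
      have := hq q' inferInstance rfl
      rw [Algebra.TensorProduct.algebraMap_apply] at this
      exact this

end Groth.Agent.S9609
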