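import Groth.Statements.S9610
import Mathlib

set_option autoImplicit false
universe u
open CAlg

namespace Groth.Agent.S9610

/-- Let k be a field and V a nonzero k-vector space with dim_k V < #k as cardinals. Then every k-linear
endomorphism T of V admits a monic polynomial P over k for which P(T) is not invertible. -/
theorem result {k V : Type u} [Field k] [AddCommGroup V] [Module k V] [Nontrivial V] (hV : Module.rank k V < Cardinal.mk k) (T : Module.End k V) :
    ∃ P : Polynomial k, P.Monic ∧ ¬ IsUnit (Polynomial.aeval T P) := by
  classical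
  by_contra hcon
  push Not at hcon
  -- every monic polynomial in `T` is invertible
  have hlin : ∀ a : k, IsUnit (Polynomial.aeval T (Polynomial.X - Polynomial.C a)) :=
    fun a => hcon _ (Polynomial.monic_X_sub_C a)
  obtain ⟨v, hv⟩ := exists_ne (0 : V)
  -- `w a` is the vector with `(T - a) (w a) = v`
  have hw : ∀ a : k, ∃ w : V, Polynomial.aeval T (Polynomial.X - Polynomial.C a) w = v := by
    intro a
    exact ((Module.End.isUnit_iff _).mp (hlin a)).surjective v
  choose w hw using hw
  have hinjQ : ∀ Q : Polynomial k, Q ≠ 0 → Polynomial.aeval T Q v ≠ 0 := by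
    intro Q hQ h0
    have hmonic := Polynomial.monic_mul_leadingCoeff_inv hQ
    have hu := hcon _ hmonic
    have h1 : Polynomial.aeval T (Q * Polynomial.C Q.leadingCoeff⁻¹) v = 0 := by
      rw [mul_comm, map_mul, Module.End.mul_apply, h0, map_zero]
    exact hv (((Module.End.isUnit_iff _).mp hu).injective (by rw [h1, map_zero]))
  have hli : LinearIndependent k w := by
    rw [linearIndependent_iff']
    intro s c hsum a ha
    set Q : Polynomial k := ∑ a' ∈ s, Polynomial.C (c a') *
      ∏ b ∈ s.erase a', (Polynomial.X - Polynomial.C b) with hQ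
    have hQv : Polynomial.aeval T Q v = 0 := by
      have h1 : Polynomial.aeval T (∏ b ∈ s, (Polynomial.X - Polynomial.C b))
          (∑ a' ∈ s, c a' • w a') = 0 := by rw [hsum, map_zero]
      rw [map_sum] at h1
      rw [hQ, map_sum, LinearMap.sum_apply, ← h1]
      refine Finset.sum_congr rfl fun a' ha' => ?_
      have e1 : Polynomial.aeval T (∏ b ∈ s, (Polynomial.X - Polynomial.C b)) (c a' • w a') =
          c a' • Polynomial.aeval T (∏ b ∈ s.erase a', (Polynomial.X - Polynomial.C b)) v := by
        rw [map_smul, ← Finset.prod_erase_mul s _ ha', map_mul, Module.End.mul_apply, hw a']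
      have e2 : Polynomial.aeval T (Polynomial.C (c a') *
          ∏ b ∈ s.erase a', (Polynomial.X - Polynomial.C b)) v =
          c a' • Polynomial.aeval T (∏ b ∈ s.erase a', (Polynomial.X - Polynomial.C b)) v := by
        rw [map_mul, Module.End.mul_apply, Polynomial.aeval_C, Module.algebraMap_end_apply]
      rw [e1, e2]
    have hQ0 : Q = 0 := by
      by_contra hne
      exact hinjQ Q hne hQv
    have heval : Polynomial.eval a Q = c a * ∏ b ∈ s.erase a, (a - b) := by
      rw [hQ, Polynomial.eval_finset_sum, Finset.sum_eq_single a]
      · simp [Polynomial.eval_prod]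
      · intro a' _ hne
        rw [Polynomial.eval_mul, Polynomial.eval_prod,
          Finset.prod_eq_zero (Finset.mem_erase.mpr ⟨hne.symm, ha⟩) (by simp), mul_zero]
      · intro h; exact absurd ha h
    rw [hQ0, Polynomial.eval_zero] at heval
    have hprod : ∏ b ∈ s.erase a, (a - b) ≠ 0 := by
      rw [Finset.prod_ne_zero_iff]
      intro b hb
      exact sub_ne_zero.mpr (Finset.ne_of_mem_erase hb).symm
    rcases mul_eq_zero.mp heval.symm with h | h
    · exact h
    · exact absurd h hprod
  exact absurd (hli.cardinal_le_rank) (not_le.mpr hV)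

end Groth.Agent.S9610
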