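import Groth.Statements.S9611

set_option autoImplicit false
universe u
open CAlg

namespace Groth.Agent.S9611

/-- Let R be a Jacobson ring, p a prime ideal of R which is not maximal, and f an element of R not in p.
Then the set of primes of R containing p and not containing f is infinite. -/
theorem result {R : Type u} [CommRing R] [IsJacobsonRing R] (p : Ideal R) [p.IsPrime] (hp : ¬ p.IsMaximal) (f : R) (hf : f ∉ p) :
    {q : PrimeSpectrum R | p ≤ q.asIdeal ∧ f ∉ q.asIdeal}.Infinite := by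
  classical
  intro hfin
  have hfin' : {q : PrimeSpectrum R | p ≤ q.asIdeal ∧ f ∉ q.asIdeal}.Finite := hfin
  set T := hfin'.toFinset with hT
  -- for each q in T other than p pick an element of q not in p
  have hex : ∀ q : PrimeSpectrum R, ∃ g : R, g ∉ p ∧ (p < q.asIdeal → g ∈ q.asIdeal) := by
    intro q
    by_cases hq : p < q.asIdeal
    · obtain ⟨g, hgq, hgp⟩ := SetLike.exists_of_lt hq
      exact ⟨g, hgp, fun _ => hgq⟩
    · exact ⟨1, fun h1 => (‹p.IsPrime›.ne_top) ((Ideal.eq_top_iff_one p).mpr h1), fun h => absurd h hq⟩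
  choose g hgp hgq using hex
  set G := f * ∏ q ∈ T, g q with hG
  have hGp : G ∉ p := by
    intro hmem
    rcases ‹p.IsPrime›.mem_or_mem hmem with h1 | h1
    · exact hf h1
    · obtain ⟨q, -, hq⟩ := (‹p.IsPrime›.prod_mem_iff).mp h1
      exact hgp q hq
  have hjac : p.jacobson = p := IsJacobsonRing.out (inferInstance : IsJacobsonRing R) ‹p.IsPrime›.isRadical
  have hGj : G ∉ p.jacobson := by rw [hjac]; exact hGp
  rw [Ideal.jacobson, Ideal.mem_sInf] at hGj
  push Not at hGj
  obtain ⟨m, ⟨hpm, hm⟩, hGm⟩ := hGj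
  have hfm : f ∉ m := fun h => hGm (Ideal.mul_mem_right _ _ h)
  have hmT : (⟨m, hm.isPrime⟩ : PrimeSpectrum R) ∈ T := by
    rw [hT, Set.Finite.mem_toFinset]
    exact ⟨hpm, hfm⟩
  have hlt : p < m := by
    refine lt_of_le_of_ne hpm ?_
    rintro rfl
    exact hp hm
  have hgm : g ⟨m, hm.isPrime⟩ ∈ m := hgq ⟨m, hm.isPrime⟩ hlt
  apply hGm
  apply Ideal.mul_mem_left
  exact Ideal.mem_of_dvd _ (Finset.dvd_prod_of_mem g hmT) hgm

end Groth.Agent.S9611
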