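import Groth.Statements.S9613
import Mathlib

set_option autoImplicit false
universe u
open CAlg

namespace Groth.Agent.S9613

/-- Let R → K be an injective ring map into a field K which makes K an R-algebra of finite type. Then
for some nonzero f ∈ R the localization R_f is a field over which K is finite; here R_f is realised
as the R-subalgebra of K that is a localization of R away from f. -/
theorem result {R K : Type u} [CommRing R] [Field K] [Algebra R K] (hinj : Function.Injective (algebraMap R K)) [Algebra.FiniteType R K] :
    ∃ f : R, f ≠ 0 ∧ ∃ Rf : Subalgebra R K, IsLocalization.Away f Rf ∧ IsField Rf ∧ Module.Finite Rf K := by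
  classical
  haveI : IsDomain R := Function.Injective.isDomain (algebraMap R K) hinj
  haveI : FaithfulSMul R K := (faithfulSMul_iff_algebraMap_injective R K).mpr hinj
  letI : Algebra (FractionRing R) K := FractionRing.liftAlgebra R K
  haveI : IsScalarTower R (FractionRing R) K := FractionRing.isScalarTower_liftAlgebra R K
  haveI : Algebra.FiniteType (FractionRing R) K :=
    Algebra.FiniteType.of_restrictScalars_finiteType R (FractionRing R) K
  haveI : Module.Finite (FractionRing R) K :=
    finite_of_finite_type_of_isJacobsonRing (FractionRing R) K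
  haveI : Algebra.IsAlgebraic R K :=
    (IsFractionRing.comap_isAlgebraic_iff (A := R) (K := FractionRing R) (C := K)).mpr inferInstance
  obtain ⟨G, hG⟩ := (Algebra.FiniteType.out : (⊤ : Subalgebra R K).FG)
  have hint : ∀ x : K, ∃ a : R, a ≠ 0 ∧ IsIntegral R (a • x) := fun x =>
    (Algebra.IsAlgebraic.isAlgebraic x).exists_integral_multiple
  choose a ha0 haint using hint
  set f : R := ∏ x ∈ G, a x with hf
  have hf0 : f ≠ 0 := Finset.prod_ne_zero_iff.mpr fun x _ => ha0 x
  have hunit : ∀ y : Submonoid.powers f, IsUnit ((algebraMap R K) (y : R)) := by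
    rintro ⟨_, n, rfl⟩
    refine IsUnit.mk0 _ ?_
    rw [map_pow]
    exact pow_ne_zero _ (fun h => hf0 (hinj (by rw [h, map_zero])))
  set φ : Localization.Away f →ₐ[R] K :=
    IsLocalization.liftAlgHom (M := Submonoid.powers f) (f := Algebra.ofId R K)
      (fun y => hunit y) with hφ
  have hφinj : Function.Injective φ := by
    have : (φ : Localization.Away f → K) =
        IsLocalization.lift (M := Submonoid.powers f) (g := (algebraMap R K)) hunit := rfl
    rw [this, IsLocalization.lift_injective_iff]
    intro x y
    constructor
    · intro h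
      have := congrArg (IsLocalization.lift (M := Submonoid.powers f) (g := (algebraMap R K)) hunit) h
      simpa using this
    · intro h
      rw [hinj h]
  set Rf : Subalgebra R K := φ.range with hRf
  have hloc : IsLocalization.Away f Rf :=
    IsLocalization.isLocalization_of_algEquiv (Submonoid.powers f) (AlgEquiv.ofInjective φ hφinj)
  have hfinv : (algebraMap R K f)⁻¹ ∈ Rf := by
    refine ⟨IsLocalization.mk' (Localization.Away f) (1 : R) (⟨f, Submonoid.mem_powers f⟩ : Submonoid.powers f), ?_⟩
    have hφmk : ∀ z, φ z = IsLocalization.lift (M := Submonoid.powers f)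
        (g := (algebraMap R K)) hunit z := fun _ => rfl
    change φ _ = _
    rw [hφmk, IsLocalization.lift_mk'_spec]
    have hfK : algebraMap R K f ≠ 0 := fun h => hf0 (hinj (by rw [h, map_zero]))
    change algebraMap R K 1 = algebraMap R K f * (algebraMap R K f)⁻¹
    rw [mul_inv_cancel₀ hfK, map_one]
  have hGint : ∀ x ∈ G, IsIntegral Rf x := by
    intro x hx
    have h1 : IsIntegral Rf (a x • x) := (haint x).tower_top
    have h2 : (algebraMap R K (a x))⁻¹ ∈ Rf := by
      have : (algebraMap R K (a x))⁻¹ =
          algebraMap R K (∏ y ∈ G.erase x, a y) * (algebraMap R K f)⁻¹ := by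
        have hax : algebraMap R K (a x) ≠ 0 := fun h => ha0 x (hinj (by rw [h, map_zero]))
        have hfK : algebraMap R K f ≠ 0 := fun h => hf0 (hinj (by rw [h, map_zero]))
        have hpr : algebraMap R K (∏ y ∈ G.erase x, a y) ≠ 0 := fun h =>
          (Finset.prod_ne_zero_iff.mpr fun y _ => ha0 y) (hinj (by rw [h, map_zero]))
        rw [hf, ← Finset.mul_prod_erase G a hx, map_mul]
        field_simp
      rw [this]
      exact Rf.mul_mem (Rf.algebraMap_mem _) hfinv
    have h3 : x = (⟨_, h2⟩ : Rf) • (a x • x) := by
      change x = (algebraMap R K (a x))⁻¹ * (a x • x)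
      rw [Algebra.smul_def]
      have hax : algebraMap R K (a x) ≠ 0 := fun h => ha0 x (hinj (by rw [h, map_zero]))
      field_simp
    rw [h3]
    exact IsIntegral.smul _ h1
  haveI : Algebra.IsIntegral Rf K := by
    refine ⟨fun x => ?_⟩
    have hx : x ∈ Algebra.adjoin R (G : Set K) := by rw [hG]; trivial
    induction hx using Algebra.adjoin_induction with
    | mem x hx => exact hGint x hx
    | algebraMap r =>
      have : algebraMap R K r = algebraMap Rf K (algebraMap R Rf r) := rfl
      rw [this]
      exact isIntegral_algebraMap
    | add x y _ _ hx hy => exact hx.add hy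
    | mul x y _ _ hx hy => exact hx.mul hy
  have hfield : IsField Rf :=
    isField_of_isIntegral_of_isField (R := Rf) (S := K) Subtype.val_injective (Field.toIsField K)
  haveI : Algebra.FiniteType Rf K := Algebra.FiniteType.of_restrictScalars_finiteType R Rf K
  exact ⟨f, hf0, Rf, hloc, hfield, Algebra.IsIntegral.finite⟩

end Groth.Agent.S9613
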