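import Groth.Statements.S9615
import Mathlib.RingTheory.Polynomial.IsIntegral
import Mathlib.RingTheory.GradedAlgebra.Basic

set_option autoImplicit false
universe u
open CAlg

namespace Groth.Agent.S9615

attribute [local instance] Polynomial.algebra

open Polynomial in
/-- The ring homomorphism `s ↦ ∑ sᵢ Xⁱ` attached to an `ℕ`-grading. -/
noncomputable def gradedPolyHom {S : Type u} [CommRing S] (𝒮 : ℕ → AddSubgroup S) [GradedRing 𝒮] :
    S →+* S[X] :=
  (DirectSum.toSemiring (fun i => (Polynomial.monomial i).toAddMonoidHom.comp (𝒮 i).subtype)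
    (by simp [SetLike.coe_gOne])
    (by
      intro i j a b
      show Polynomial.monomial (i + j) ((a : S) * (b : S))
        = Polynomial.monomial i (a : S) * Polynomial.monomial j (b : S)
      rw [Polynomial.monomial_mul_monomial])).comp
    (DirectSum.decomposeRingEquiv 𝒮).toRingHom

open Polynomial in
theorem gradedPolyHom_of_mem {S : Type u} [CommRing S] (𝒮 : ℕ → AddSubgroup S) [GradedRing 𝒮]
    {i : ℕ} {x : S} (hx : x ∈ 𝒮 i) : gradedPolyHom 𝒮 x = Polynomial.monomial i x := by
  unfold gradedPolyHom
  simp only [RingHom.coe_comp, Function.comp_apply, RingEquiv.toRingHom_eq_coe, RingHom.coe_coe]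
  have : DirectSum.decomposeRingEquiv 𝒮 x = DirectSum.decompose 𝒮 x := rfl
  rw [this, DirectSum.decompose_of_mem 𝒮 hx, DirectSum.toSemiring_of]
  rfl

open Polynomial in
theorem gradedPolyHom_coeff {S : Type u} [CommRing S] (𝒮 : ℕ → AddSubgroup S) [GradedRing 𝒮]
    (x : S) (i : ℕ) : (gradedPolyHom 𝒮 x).coeff i = ((DirectSum.decompose 𝒮 x i : 𝒮 i) : S) := by
  classical
  conv_lhs => rw [← DirectSum.sum_support_decompose 𝒮 x]
  rw [map_sum, Polynomial.finset_sum_coeff]
  simp_rw [gradedPolyHom_of_mem 𝒮 (SetLike.coe_mem _), Polynomial.coeff_monomial]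
  rw [Finset.sum_ite_eq']
  split_ifs with h
  · rfl
  · rw [DFinsupp.notMem_support_iff] at h
    rw [h]; rfl

/-- Let R → S be a homomorphism of ℕ-graded rings, i.e. the structure map carries each graded piece R_i
into S_i. If an element s of S is integral over R, then each homogeneous component of s is integral
over R; so the integral closure of R in S is a graded subring of S. -/
theorem result {R S : Type u} [CommRing R] [CommRing S] [Algebra R S] (ℛ : ℕ → AddSubgroup R) [GradedRing ℛ] (𝒮 : ℕ → AddSubgroup S) [GradedRing 𝒮]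
    (hmap : ∀ i : ℕ, ∀ r ∈ ℛ i, algebraMap R S r ∈ 𝒮 i) (s : S) (hs : IsIntegral R s) (i : ℕ) :
    IsIntegral R ((DirectSum.decompose 𝒮 s i : 𝒮 i) : S) := by
  classical
  obtain ⟨p, hpm, hp⟩ := hs
  -- compatibility of the two graded polynomial maps
  have hcomp : (gradedPolyHom 𝒮).comp (algebraMap R S)
      = (Polynomial.mapRingHom (algebraMap R S)).comp (gradedPolyHom ℛ) := by
    refine RingHom.ext fun r => ?_
    simp only [RingHom.coe_comp, Function.comp_apply, Polynomial.coe_mapRingHom]
    conv_lhs => rw [← DirectSum.sum_support_decompose ℛ r]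
    conv_rhs => rw [← DirectSum.sum_support_decompose ℛ r]
    simp only [map_sum, Polynomial.map_sum]
    refine Finset.sum_congr rfl fun j _ => ?_
    rw [gradedPolyHom_of_mem 𝒮 (hmap j _ (SetLike.coe_mem _)),
      gradedPolyHom_of_mem ℛ (SetLike.coe_mem _), Polynomial.map_monomial]
  have hint : IsIntegral (Polynomial R) (gradedPolyHom 𝒮 s) := by
    refine ⟨p.map (gradedPolyHom ℛ), hpm.map _, ?_⟩
    rw [Polynomial.eval₂_map, Polynomial.algebraMap_def, ← hcomp,
      ← Polynomial.hom_eval₂, hp, map_zero]
  have := IsIntegral.coeff hint i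
  rwa [gradedPolyHom_coeff] at this

end Groth.Agent.S9615
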