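import Groth.Statements.S9618
import Groth.Agent.Lib.Helper8.SpecComp

set_option autoImplicit false
universe u
open CAlg

namespace Groth.Agent.S9618

/-- For a ring R and a subset T of Spec R the following are equivalent: (1) T is closed and contains the
connected component of each of its points; (2) T can be written as an intersection of subsets of
Spec R that are both open and closed; (3) T is the common zero locus of some set of idempotent
elements of R (equivalently, of the ideal they generate). -/
theorem result {R : Type u} [CommRing R] (T : Set (PrimeSpectrum R)) :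
    [IsClosed T ∧ ∀ x ∈ T, connectedComponent x ⊆ T,
      ∃ U : Set (Set (PrimeSpectrum R)), (∀ u ∈ U, IsClopen u) ∧ T = ⋂₀ U,
      ∃ E : Set R, (∀ e ∈ E, IsIdempotentElem e) ∧ T = PrimeSpectrum.zeroLocus E].TFAE := by
  classical
  tfae_have 3 → 2 := by
    rintro ⟨E, hE, rfl⟩
    refine ⟨(fun e => PrimeSpectrum.zeroLocus ({e} : Set R)) '' E, ?_, ?_⟩
    · rintro _ ⟨e, he, rfl⟩
      exact Groth.Agent.Helper8.isClopen_zeroLocus_singleton_of_isIdempotentElem (hE e he)
    · ext x
      simp only [PrimeSpectrum.mem_zeroLocus, Set.sInter_image, Set.mem_iInter,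
        Set.singleton_subset_iff]
      exact ⟨fun h e he => h he, fun h e he => h e he⟩
  tfae_have 2 → 1 := by
    rintro ⟨U, hU, rfl⟩
    refine ⟨isClosed_sInter fun u hu => (hU u hu).1, fun x hx => ?_⟩
    exact Set.subset_sInter fun u hu => (hU u hu).connectedComponent_subset (hx u hu)
  tfae_have 1 → 3 := by
    rintro ⟨hcl, hcomp⟩
    refine ⟨{e : R | IsIdempotentElem e ∧ T ⊆ PrimeSpectrum.zeroLocus ({e} : Set R)},
      fun e he => he.1, ?_⟩
    apply Set.Subset.antisymm
    · intro t ht
      rw [PrimeSpectrum.mem_zeroLocus]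
      intro e he
      have := he.2 ht
      rw [PrimeSpectrum.mem_zeroLocus, Set.singleton_subset_iff] at this
      exact this
    · intro x hx
      by_contra hxT
      -- for each `t ∈ T` a clopen containing `t` but not `x`
      have hW : ∀ t : T, ∃ e : R, IsIdempotentElem e ∧ e ∈ (t : PrimeSpectrum R).asIdeal ∧
          e ∉ x.asIdeal := by
        intro t
        have hxt : x ∉ connectedComponent (t : PrimeSpectrum R) := fun h => hxT (hcomp t t.2 h)
        rw [Groth.Agent.Helper8.connectedComponent_eq_zeroLocus, PrimeSpectrum.mem_zeroLocus,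
          Set.not_subset] at hxt
        obtain ⟨e, he, hex⟩ := hxt
        exact ⟨e, he.1, he.2, hex⟩
      choose e he het hex using hW
      have hTc : IsCompact T := hcl.isCompact
      have hcover : T ⊆ ⋃ t : T, PrimeSpectrum.zeroLocus ({e t} : Set R) := by
        intro t ht
        refine Set.mem_iUnion.mpr ⟨⟨t, ht⟩, ?_⟩
        rw [PrimeSpectrum.mem_zeroLocus, Set.singleton_subset_iff]
        exact het ⟨t, ht⟩
      obtain ⟨F, hF⟩ := hTc.elim_finite_subcover _
        (fun t => (Groth.Agent.Helper8.isClopen_zeroLocus_singleton_of_isIdempotentElem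
          (he t)).2) hcover
      -- the product of the `e t` for `t ∈ F`
      set ε := ∏ t ∈ F, e t with hε
      have hεidem : IsIdempotentElem ε := by
        change ε * ε = ε
        rw [hε, ← Finset.prod_mul_distrib]
        exact Finset.prod_congr rfl fun t _ => (he t).eq
      have hεT : T ⊆ PrimeSpectrum.zeroLocus ({ε} : Set R) := by
        intro t ht
        obtain ⟨s, hs⟩ := Set.mem_iUnion.mp (hF ht)
        obtain ⟨hsF, hts⟩ := Set.mem_iUnion.mp hs
        rw [PrimeSpectrum.mem_zeroLocus, Set.singleton_subset_iff] at hts ⊢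
        exact Ideal.prod_mem _ hsF hts
      have hεx : ε ∈ x.asIdeal := by
        rw [PrimeSpectrum.mem_zeroLocus] at hx
        exact hx ⟨hεidem, hεT⟩
      obtain ⟨t, _, htx⟩ := (Ideal.IsPrime.prod_mem_iff (hp := x.isPrime)).mp hεx
      exact hex t htx
  tfae_finish

end Groth.Agent.S9618
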