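import Groth.Statements.S9619
import Groth.Agent.Lib.Helper8.Spec

set_option autoImplicit false
universe u
open CAlg

namespace Groth.Agent.S9619

/-- For a ring R and two sets E, E' of idempotent elements of R with the same zero locus in Spec R, the
ideals generated by E and by E' are equal. -/
theorem result {R : Type u} [CommRing R] (E E' : Set R) (hE : ∀ e ∈ E, IsIdempotentElem e) (hE' : ∀ e ∈ E', IsIdempotentElem e) (h : PrimeSpectrum.zeroLocus E = PrimeSpectrum.zeroLocus E') :
    Ideal.span E = Ideal.span E' := by
  have key : ∀ (E E' : Set R), (∀ e ∈ E, IsIdempotentElem e) →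
      PrimeSpectrum.zeroLocus E = PrimeSpectrum.zeroLocus E' → Ideal.span E ≤ Ideal.span E' := by
    intro E E' hE h
    rw [Ideal.span_le]
    intro e he
    apply Groth.Agent.Helper8.mem_of_isIdempotentElem_of_mem_radical (hE e he)
    rw [← PrimeSpectrum.vanishingIdeal_zeroLocus_eq_radical, PrimeSpectrum.zeroLocus_span, ← h,
      ← PrimeSpectrum.zeroLocus_span, PrimeSpectrum.vanishingIdeal_zeroLocus_eq_radical]
    exact Ideal.le_radical (Ideal.subset_span he)
  exact le_antisymm (key E E' hE h) (key E' E hE' h.symm)

end Groth.Agent.S9619
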