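import Groth.Statements.S9621
import Groth.Agent.Lib.Helper8.Spec

set_option autoImplicit false
universe u
open CAlg

namespace Groth.Agent.S9621

/-- Let R be a ring, p a minimal prime of R and W a quasi-compact open subset of Spec R not containing
p. Then there is an f ∈ R, f ∉ p, whose basic open D(f) is disjoint from W. -/
theorem result {R : Type u} [CommRing R] (p : PrimeSpectrum R) (hp : p.asIdeal ∈ minimalPrimes R) (W : Set (PrimeSpectrum R)) (hWo : IsOpen W) (hWc : IsCompact W) (hpW : p ∉ W) :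
    ∃ f : R, f ∉ p.asIdeal ∧ Disjoint (PrimeSpectrum.basicOpen f : Set (PrimeSpectrum R)) W := by
  classical
  obtain ⟨t, ht⟩ := PrimeSpectrum.isCompact_isOpen_iff.mp ⟨hWc, hWo⟩
  have htp : ∀ g ∈ t, g ∈ p.asIdeal := by
    intro g hg
    by_contra hgp
    apply hpW
    rw [← ht]
    intro hmem
    exact hgp (hmem hg)
  choose! s hs n hn using fun g (hg : g ∈ t) =>
    Groth.Agent.Helper8.exists_notMem_mul_pow_eq_zero_of_mem_minimalPrimes hp (htp g hg)
  refine ⟨∏ g ∈ t, s g, ?_, ?_⟩
  · intro hmem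
    obtain ⟨g, hg, hgp⟩ := (p.isPrime.prod_mem_iff).mp hmem
    exact hs g hg hgp
  · rw [Set.disjoint_left]
    intro q hq hqW
    rw [← ht] at hqW
    have hq' : (∏ g ∈ t, s g) ∉ q.asIdeal := hq
    have : ∃ g ∈ t, g ∉ q.asIdeal := by
      by_contra hcon
      push Not at hcon
      exact hqW (fun g hg => hcon g hg)
    obtain ⟨g, hg, hgq⟩ := this
    have h0 : s g * g ^ n g ∈ q.asIdeal := by rw [hn g hg]; exact zero_mem _
    rcases q.isPrime.mem_or_mem h0 with h1 | h1
    · exact hq' (Ideal.mem_of_dvd _ (Finset.dvd_prod_of_mem s hg) h1)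
    · exact hgq (q.isPrime.mem_of_pow_mem _ h1)

end Groth.Agent.S9621
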