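import Groth.Statements.S9622
import Groth.Agent.Lib.Helper8.NilNak

set_option autoImplicit false
universe u
open CAlg

namespace Groth.Agent.S9622

/-- Let R → S be a ring map whose target S is a local Artinian ring, and write m for the maximal ideal
of S. Then S is a finite R-module exactly when S/m is, and S is an R-algebra of finite type exactly
when S/m is. -/
theorem result {R S : Type u} [CommRing R] [CommRing S] [Algebra R S] [IsArtinianRing S] [IsLocalRing S] :
    (Module.Finite R S ↔ Module.Finite R (S ⧸ IsLocalRing.maximalIdeal S)) ∧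
      (Algebra.FiniteType R S ↔ Algebra.FiniteType R (S ⧸ IsLocalRing.maximalIdeal S)) := by
  classical
  set m := IsLocalRing.maximalIdeal S with hm
  obtain ⟨n, hn⟩ : ∃ n : ℕ, m ^ n = ⊥ := by
    have := IsArtinianRing.isNilpotent_jacobson_bot (R := S)
    rw [IsLocalRing.jacobson_eq_maximalIdeal ⊥ bot_ne_top] at this
    obtain ⟨n, hn⟩ := this
    exact ⟨n, hn⟩
  -- finite type descends
  have hFT : Algebra.FiniteType R (S ⧸ m) → Algebra.FiniteType R S := by
    intro hft
    obtain ⟨F, hF⟩ := hft.out
    obtain ⟨G, hG⟩ := (IsNoetherian.noetherian m : m.FG)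
    set c : S ⧸ m → S := Function.surjInv Ideal.Quotient.mk_surjective with hc
    have hcmk : ∀ y, Ideal.Quotient.mk m (c y) = y := Function.surjInv_eq _
    set A : Subalgebra R S := Algebra.adjoin R ((F.image c ∪ G : Finset S) : Set S) with hA
    have hGA : ∀ g ∈ G, g ∈ A := fun g hg =>
      Algebra.subset_adjoin (by simp [hg])
    have hFA : ∀ y ∈ F, c y ∈ A := fun y hy =>
      Algebra.subset_adjoin (by
        simp only [Finset.coe_union, Finset.coe_image, Set.mem_union, Set.mem_image,
          Finset.mem_coe]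
        exact Or.inl ⟨y, hy, rfl⟩)
    -- every element is congruent to an element of A modulo m
    have hlift : ∀ x : S, ∃ a ∈ A, x - a ∈ m := by
      intro x
      have hx : Ideal.Quotient.mk m x ∈ Algebra.adjoin R (F : Set (S ⧸ m)) := by
        rw [hF]; trivial
      have key : ∀ y ∈ Algebra.adjoin R (F : Set (S ⧸ m)), ∃ a ∈ A, Ideal.Quotient.mk m a = y := by
        intro y hy
        induction hy using Algebra.adjoin_induction with
        | mem y hy => exact ⟨c y, hFA y hy, hcmk y⟩
        | algebraMap r => exact ⟨algebraMap R S r, Subalgebra.algebraMap_mem _ _, rfl⟩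
        | add y z _ _ hy hz =>
          obtain ⟨a, ha, rfl⟩ := hy
          obtain ⟨b, hb, rfl⟩ := hz
          exact ⟨a + b, Subalgebra.add_mem _ ha hb, map_add _ _ _⟩
        | mul y z _ _ hy hz =>
          obtain ⟨a, ha, rfl⟩ := hy
          obtain ⟨b, hb, rfl⟩ := hz
          exact ⟨a * b, Subalgebra.mul_mem _ ha hb, map_mul _ _ _⟩
      obtain ⟨a, ha, hax⟩ := key _ hx
      exact ⟨a, ha, (Ideal.Quotient.eq).mp hax.symm⟩
    set I : Ideal A := m.comap (algebraMap A S) with hI
    have hIn : I ^ n = ⊥ := by
      rw [eq_bot_iff]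
      refine (Ideal.le_comap_pow (algebraMap A S) n).trans ?_
      rw [hn]
      intro a ha
      have h0 : algebraMap A S a = 0 := ha
      have : a = 0 := Subtype.ext h0
      rw [this]
      exact Ideal.zero_mem _
    set N : Submodule A S := LinearMap.range (Algebra.linearMap A S) with hN
    have hsup : N ⊔ I • (⊤ : Submodule A S) = ⊤ := by
      rw [eq_top_iff]
      intro x _
      obtain ⟨a, ha, hxa⟩ := hlift x
      have : x = a + (x - a) := by ring
      rw [this]
      refine Submodule.add_mem _ (Submodule.mem_sup_left ⟨⟨a, ha⟩, rfl⟩) (Submodule.mem_sup_right ?_)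
      rw [← hG] at hxa
      obtain ⟨f, _, hf⟩ := Submodule.mem_span_finset.mp hxa
      rw [← hf]
      refine Submodule.sum_mem _ fun g hg => ?_
      have hgm : g ∈ m := by rw [← hG]; exact Ideal.subset_span hg
      have e1 : f g • g = (⟨g, hGA g hg⟩ : A) • f g := by
        rw [smul_eq_mul, mul_comm]
        rfl
      rw [e1]
      exact Submodule.smul_mem_smul (show (⟨g, hGA g hg⟩ : A) ∈ I from hgm) trivial
    have hNtop := Groth.Agent.Helper8.eq_top_of_sup_smul_eq_top_of_pow_eq_bot I n hIn N hsup
    have hAtop : A = ⊤ := by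
      rw [eq_top_iff]
      intro x _
      have : x ∈ N := by rw [hNtop]; trivial
      obtain ⟨a, rfl⟩ := this
      exact a.2
    exact ⟨⟨F.image c ∪ G, hAtop⟩⟩
  refine ⟨⟨?_, ?_⟩, ⟨?_, hFT⟩⟩
  · intro h
    exact Module.Finite.of_surjective (Ideal.Quotient.mkₐ R m).toLinearMap
      (Ideal.Quotient.mkₐ_surjective R m)
  · intro h
    haveI : Algebra.FiniteType R S := hFT inferInstance
    haveI : Algebra.IsIntegral R S := by
      refine ⟨fun x => ?_⟩
      obtain ⟨p, hpm, hp⟩ := Algebra.IsIntegral.isIntegral (R := R) (Ideal.Quotient.mk m x)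
      refine ⟨p ^ n, hpm.pow n, ?_⟩
      have h1 : Polynomial.eval₂ (algebraMap R S) x p ∈ m := by
        rw [← Ideal.Quotient.eq_zero_iff_mem]
        have : Ideal.Quotient.mk m (Polynomial.eval₂ (algebraMap R S) x p) =
            Polynomial.eval₂ (algebraMap R (S ⧸ m)) (Ideal.Quotient.mk m x) p := by
          rw [Polynomial.hom_eval₂]
          rfl
        rw [this]
        exact hp
      rw [Polynomial.eval₂_pow]
      have h2 : Polynomial.eval₂ (algebraMap R S) x p ^ n ∈ m ^ n := Ideal.pow_mem_pow h1 n
      rw [hn] at h2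
      exact h2
    exact Algebra.IsIntegral.finite
  · intro h
    exact Algebra.FiniteType.of_surjective (Ideal.Quotient.mkₐ R m)
      (Ideal.Quotient.mkₐ_surjective R m)

end Groth.Agent.S9622
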