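import Groth.Statements.S9629
import Groth.Agent.Lib.Helper8.GeomAssembly

set_option autoImplicit false
universe u
open CAlg

namespace Groth.Agent.S9629

open TensorProduct in
/-- For a field k and a k-algebra S the following are equivalent: (1) S is geometrically integral, i.e.
k' ⊗_k S is an integral domain for every field extension k'/k; (2) k' ⊗_k S is an integral domain
for every finite field extension k'/k; (3) k̄ ⊗_k S is an integral domain for the algebraic closure
k̄ of k. Here the test fields range over field extensions in the universe of k; this is equivalent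
to the unrestricted notion, since an algebraic closure of k suffices as a test. -/
theorem result {k S : Type u} [Field k] [CommRing S] [Algebra k S] :
    [∀ (k' : Type u) [Field k'] [Algebra k k'], IsDomain (k' ⊗[k] S),
      ∀ (k' : Type u) [Field k'] [Algebra k k'] [Module.Finite k k'], IsDomain (k' ⊗[k] S),
      IsDomain (AlgebraicClosure k ⊗[k] S)].TFAE := by
  tfae_have 1 → 2 := fun h k' _ _ _ => h k'
  tfae_have 1 → 3 := fun h => h (AlgebraicClosure k)
  tfae_have 3 → 1 := by
    intro h k' _ _
    exact Groth.Agent.Helper8.isDomain_of_algebraicClosure k k' S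
  tfae_have 2 → 3 := by
    intro h
    haveI : Nontrivial S := by
      haveI := h k
      exact (Algebra.TensorProduct.lid k S).symm.toRingEquiv.toRingHom.domain_nontrivial
    haveI : Nontrivial (AlgebraicClosure k ⊗[k] S) := inferInstance
    haveI : NoZeroDivisors (AlgebraicClosure k ⊗[k] S) := by
      refine ⟨fun {x y} hxy => ?_⟩
      obtain ⟨E, _, _, _, ι, hinj, ⟨x', hx'⟩, ⟨y', hy'⟩⟩ :=
        Groth.Agent.Helper8.exists_finite_field_mem_range k (AlgebraicClosure k) S x y
      haveI := h E
      have h0 : x' * y' = 0 := hinj (by rw [map_mul, hx', hy', hxy, map_zero])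
      rcases mul_eq_zero.mp h0 with h1 | h1
      · left; rw [← hx', h1, map_zero]
      · right; rw [← hy', h1, map_zero]
    exact NoZeroDivisors.to_isDomain _
  tfae_finish

end Groth.Agent.S9629
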