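import Groth.Statements.S9632
import Mathlib

set_option autoImplicit false
universe u
open CAlg

namespace Groth.Agent.S9632

open TensorProduct in
/-- Let R → A be a ring map making A a finite free R-module of rank n, let f ∈ A and let P(T) = Tⁿ +
r_{n-1}Tⁿ⁻¹ + ⋯ + r_0 be the characteristic polynomial of multiplication by f on A. Then for a prime
p of R, f acts nilpotently on κ(p) ⊗_R A if and only if p contains r_0, …, r_{n-1}. -/
theorem result {R A : Type u} [CommRing R] [CommRing A] [Algebra R A] [Module.Free R A] [Module.Finite R A] (f : A) (p : Ideal R) [p.IsPrime] :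
    IsNilpotent ((1 : p.ResidueField) ⊗ₜ[R] f : p.ResidueField ⊗[R] A) ↔
      ∀ i : ℕ, i < Module.finrank R A → (LinearMap.mulLeft R f).charpoly.coeff i ∈ p := by
  classical
  set K := p.ResidueField with hK
  set n := Module.finrank R A with hn
  set z : K ⊗[R] A := (1 : K) ⊗ₜ[R] f with hz
  haveI : Nontrivial R := by
    refine ⟨⟨0, 1, fun h => ?_⟩⟩
    exact (Ideal.ne_top_iff_one p).mp (Ideal.IsPrime.ne_top') (h ▸ Ideal.zero_mem p)
  have epow : ∀ m : ℕ, (LinearMap.mulLeft K z) ^ m = LinearMap.mulLeft K (z ^ m) :=
    fun m => (map_pow (Algebra.lmul K (K ⊗[R] A)) z m).symm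
  have hnil : IsNilpotent z ↔ IsNilpotent (LinearMap.mulLeft K z) := by
    constructor
    · rintro ⟨m, hm⟩
      refine ⟨m, ?_⟩
      rw [epow, hm, LinearMap.mulLeft_zero_eq_zero]
    · rintro ⟨m, hm⟩
      refine ⟨m, ?_⟩
      rw [epow] at hm
      have := LinearMap.congr_fun hm 1
      simpa using this
  have hbc : LinearMap.mulLeft K z = (LinearMap.mulLeft R f).baseChange K := by
    apply TensorProduct.AlgebraTensorModule.curry_injective
    ext a
    simp [hz]
  have hrank : Module.finrank K (K ⊗[R] A) = n := by
    rw [Module.finrank_baseChange]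
  rw [hnil, LinearMap.isNilpotent_iff_charpoly, hbc, LinearMap.charpoly_baseChange, hrank]
  set P := (LinearMap.mulLeft R f).charpoly with hP
  have hmonic : P.Monic := LinearMap.charpoly_monic _
  have hdeg : P.natDegree = n := LinearMap.charpoly_natDegree _
  constructor
  · intro h i hi
    have := congrArg (fun Q => Polynomial.coeff Q i) h
    simp only [Polynomial.coeff_map, Polynomial.coeff_X_pow] at this
    rw [if_neg (by omega)] at this
    exact Ideal.algebraMap_residueField_eq_zero.mp this
  · intro h
    ext i
    rw [Polynomial.coeff_map, Polynomial.coeff_X_pow]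
    rcases lt_trichotomy i n with hi | hi | hi
    · rw [if_neg (by omega)]
      exact Ideal.algebraMap_residueField_eq_zero.mpr (h i hi)
    · rw [if_pos hi, hi, ← hdeg]
      have : P.coeff P.natDegree = 1 := hmonic.coeff_natDegree
      rw [this, map_one]
    · rw [if_neg (by omega), Polynomial.coeff_eq_zero_of_natDegree_lt (by omega), map_zero]

end Groth.Agent.S9632
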