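import Groth.Statements.S9633
import Groth.Agent.Lib.Helper8.Spec
import Mathlib.Topology.Connected.Separation

set_option autoImplicit false
universe u
open CAlg

namespace Groth.Agent.S9633

/-- For a ring R with spectrum X the following are equivalent: (1) X is profinite, i.e. compact,
Hausdorff and totally disconnected; (2) X is Hausdorff; (3) X is totally disconnected; (4) every
quasi-compact open subset of X is closed; (5) there are no nontrivial inclusions among prime ideals
of R; (6) every prime ideal of R is maximal; (7) every prime ideal of R is a minimal prime; (8)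
every standard open D(f) is closed. -/
theorem result {R : Type u} [CommRing R] :
    [CompactSpace (PrimeSpectrum R) ∧ T2Space (PrimeSpectrum R) ∧ TotallyDisconnectedSpace (PrimeSpectrum R),
      T2Space (PrimeSpectrum R),
      TotallyDisconnectedSpace (PrimeSpectrum R),
      ∀ W : Set (PrimeSpectrum R), IsOpen W → IsCompact W → IsClosed W,
      ∀ p q : PrimeSpectrum R, p ≤ q → p = q,
      ∀ p : Ideal R, p.IsPrime → p.IsMaximal,
      ∀ p : Ideal R, p.IsPrime → p ∈ minimalPrimes R,
      ∀ f : R, IsClosed (PrimeSpectrum.basicOpen f : Set (PrimeSpectrum R))].TFAE := by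
  tfae_have 1 → 2 := fun h => h.2.1
  tfae_have 1 → 3 := fun h => h.2.2
  tfae_have 2 → 5 := by
    intro h p q hpq
    exact ((PrimeSpectrum.le_iff_specializes p q).mp hpq).eq
  tfae_have 3 → 5 := by
    intro h p q hpq
    have hq : q ∈ closure ({p} : Set (PrimeSpectrum R)) :=
      specializes_iff_mem_closure.mp ((PrimeSpectrum.le_iff_specializes p q).mp hpq)
    have hp : p ∈ closure ({p} : Set (PrimeSpectrum R)) := subset_closure rfl
    have hc : IsPreconnected (closure ({p} : Set (PrimeSpectrum R))) :=
      isPreconnected_singleton.closure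
    exact hc.subsingleton hp hq
  tfae_have 5 → 6 := by
    intro h p hp
    obtain ⟨m, hm, hpm⟩ := Ideal.exists_le_maximal p hp.ne_top
    have := h ⟨p, hp⟩ ⟨m, hm.isPrime⟩ hpm
    have hpm' : p = m := congrArg PrimeSpectrum.asIdeal this
    rw [hpm']
    exact hm
  tfae_have 6 → 7 := by
    intro h p hp
    refine ⟨⟨hp, bot_le⟩, ?_⟩
    rintro q ⟨hq, -⟩ hqp
    have hqm := h q hq
    exact (hqm.eq_of_le hp.ne_top hqp).ge
  tfae_have 7 → 8 := by
    intro h f
    rw [← isOpen_compl_iff, isOpen_iff_forall_mem_open]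
    intro p hp
    have hfp : f ∈ p.asIdeal := by
      by_contra hcon
      exact hp hcon
    obtain ⟨s, hs, n, hn⟩ :=
      Groth.Agent.Helper8.exists_notMem_mul_pow_eq_zero_of_mem_minimalPrimes
        (h p.asIdeal p.isPrime) hfp
    refine ⟨(PrimeSpectrum.basicOpen s : Set (PrimeSpectrum R)), ?_, (PrimeSpectrum.basicOpen s).2, hs⟩
    intro q hq hqf
    have hq' : s ∉ q.asIdeal := hq
    have hqf' : f ∉ q.asIdeal := hqf
    have h0 : s * f ^ n ∈ q.asIdeal := by rw [hn]; exact zero_mem _
    rcases q.isPrime.mem_or_mem h0 with h1 | h1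
    · exact hq' h1
    · exact hqf' (q.isPrime.mem_of_pow_mem _ h1)
  tfae_have 8 → 4 := by
    intro h W hWo hWc
    obtain ⟨t, ht⟩ := PrimeSpectrum.isCompact_isOpen_iff.mp ⟨hWc, hWo⟩
    have : W = ⋃ g ∈ t, (PrimeSpectrum.basicOpen g : Set (PrimeSpectrum R)) := by
      rw [← ht]
      ext q
      simp only [Set.mem_compl_iff, PrimeSpectrum.mem_zeroLocus, Set.mem_iUnion,
        SetLike.mem_coe, PrimeSpectrum.mem_basicOpen, exists_prop, Set.not_subset]
    rw [this]
    exact t.finite_toSet.isClosed_biUnion (fun g _ => h g)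
  tfae_have 4 → 8 := by
    intro h f
    exact h _ (PrimeSpectrum.basicOpen f).2 (PrimeSpectrum.isCompact_basicOpen f)
  tfae_have 8 → 1 := by
    intro h
    have hts : TotallySeparatedSpace (PrimeSpectrum R) := by
      rw [totallySeparatedSpace_iff_exists_isClopen]
      intro p q hpq
      have hne : p.asIdeal ≠ q.asIdeal := fun hc => hpq (PrimeSpectrum.ext hc)
      by_cases hle : p.asIdeal ≤ q.asIdeal
      · have : ¬ q.asIdeal ≤ p.asIdeal := fun hc => hne (le_antisymm hle hc)
        obtain ⟨f, hfq, hfp⟩ := SetLike.not_le_iff_exists.mp this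
        refine ⟨PrimeSpectrum.basicOpen f, ⟨h f, (PrimeSpectrum.basicOpen f).2⟩, hfp, ?_⟩
        intro hc
        exact hc hfq
      · obtain ⟨f, hfp, hfq⟩ := SetLike.not_le_iff_exists.mp hle
        refine ⟨(PrimeSpectrum.basicOpen f : Set (PrimeSpectrum R))ᶜ,
          (IsClopen.compl ⟨h f, (PrimeSpectrum.basicOpen f).2⟩), ?_, ?_⟩
        · intro hc
          exact hc hfp
        · rw [compl_compl]
          exact hfq
    have ht2 : T2Space (PrimeSpectrum R) := TotallySeparatedSpace.t2Space
    exact ⟨inferInstance, ht2, inferInstance⟩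
  tfae_finish

end Groth.Agent.S9633
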