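import Groth.Statements.S9635
import Mathlib

set_option autoImplicit false
universe u
open CAlg

namespace Groth.Agent.S9635

section
open TensorProduct

theorem star {K C : Type*} [Field K] [CommRing C] [IsReduced C] (ι : K →+* C)
    (hint : ∀ c : C, ι.IsIntegralElem c) (P : Ideal C) [hP : P.IsPrime] (a : C) (ha : a ∈ P) :
    ∃ s, s ∉ P ∧ s * a = 0 := by
  obtain ⟨p, hpm, hpa⟩ := hint a
  have hp0 : p ≠ 0 := hpm.ne_zero
  obtain ⟨q, hq, hnd⟩ := Polynomial.exists_eq_pow_rootMultiplicity_mul_and_not_dvd p hp0 (0 : K)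
  obtain ⟨m, hm⟩ : ∃ m, m = Polynomial.rootMultiplicity (0 : K) p := ⟨_, rfl⟩
  rw [← hm] at hq
  simp only [map_zero, sub_zero] at hq hnd
  obtain ⟨s, hs⟩ : ∃ s, s = Polynomial.eval₂ ι a q := ⟨_, rfl⟩
  have h1 : a ^ m * s = 0 := by
    rw [hq, Polynomial.eval₂_mul, Polynomial.eval₂_pow, Polynomial.eval₂_X] at hpa
    rw [hs]; exact hpa
  have h2 : (s * a) ^ (m + 1) = 0 := by
    rw [mul_pow, pow_succ a m, pow_succ s m]
    calc s ^ m * s * (a ^ m * a) = (a ^ m * s) * (s ^ m * a) := by ring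
      _ = 0 := by rw [h1, zero_mul]
  have h3 : s * a = 0 := IsNilpotent.eq_zero ⟨_, h2⟩
  refine ⟨s, ?_, h3⟩
  intro hsP
  have hc0 : q.coeff 0 ≠ 0 := by
    intro h
    exact hnd (Polynomial.X_dvd_iff.mpr h)
  have hdec : s = Polynomial.eval₂ ι a q.divX * a + ι (q.coeff 0) := by
    rw [hs]
    conv_lhs => rw [← Polynomial.divX_mul_X_add q]
    rw [Polynomial.eval₂_add, Polynomial.eval₂_mul, Polynomial.eval₂_X, Polynomial.eval₂_C]
  have hmem : ι (q.coeff 0) ∈ P := by
    have : ι (q.coeff 0) = s - Polynomial.eval₂ ι a q.divX * a := by rw [hdec]; ring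
    rw [this]
    exact P.sub_mem hsP (P.mul_mem_left _ ha)
  have hu : IsUnit (ι (q.coeff 0)) := (isUnit_iff_ne_zero.mpr hc0).map ι
  exact hP.ne_top (Ideal.eq_top_of_isUnit_mem P hmem hu)

section core
variable {k' : Type*} [Field k'] {A C : Type*} [CommRing A] [CommRing C] [Algebra k' A] [Algebra k' C]

theorem ann (Hstar : ∀ (P : Ideal C) [P.IsPrime] (a : C), a ∈ P → ∃ s, s ∉ P ∧ s * a = 0)
    (P : Ideal C) [hP : P.IsPrime] (y : A ⊗[k'] C)
    (hy : y ∈ Ideal.map (Algebra.TensorProduct.includeRight : C →ₐ[k'] A ⊗[k'] C) P) :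
    ∃ s, s ∉ P ∧ ((1 : A) ⊗ₜ[k'] s) * y = 0 := by
  rw [Ideal.map] at hy
  induction hy using Submodule.span_induction with
  | mem y hy =>
    obtain ⟨a, ha, rfl⟩ := hy
    obtain ⟨s, hs, hsa⟩ := Hstar P a ha
    refine ⟨s, hs, ?_⟩
    show (1 : A) ⊗ₜ[k'] s * ((1 : A) ⊗ₜ[k'] a) = 0
    rw [Algebra.TensorProduct.tmul_mul_tmul, hsa, tmul_zero]
  | zero => exact ⟨1, fun h => hP.ne_top ((Ideal.eq_top_iff_one P).mpr h), mul_zero _⟩
  | add y z _ _ hy hz =>
    obtain ⟨s, hs, hsy⟩ := hy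
    obtain ⟨t, ht, htz⟩ := hz
    refine ⟨s * t, fun h => (hP.mem_or_mem h).elim hs ht, ?_⟩
    have e : (1 : A) ⊗ₜ[k'] (s * t) = ((1 : A) ⊗ₜ[k'] s) * ((1 : A) ⊗ₜ[k'] t) := by
      rw [Algebra.TensorProduct.tmul_mul_tmul, one_mul]
    rw [e, mul_add]
    have e1 : (1 : A) ⊗ₜ[k'] s * (1 : A) ⊗ₜ[k'] t * y = (1 : A) ⊗ₜ[k'] t * ((1 : A) ⊗ₜ[k'] s * y) := by ring
    have e2 : (1 : A) ⊗ₜ[k'] s * (1 : A) ⊗ₜ[k'] t * z = (1 : A) ⊗ₜ[k'] s * ((1 : A) ⊗ₜ[k'] t * z) := by ring
    rw [e1, e2, hsy, htz, mul_zero, mul_zero, add_zero]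
  | smul c y _ hy =>
    obtain ⟨s, hs, hsy⟩ := hy
    refine ⟨s, hs, ?_⟩
    rw [smul_eq_mul, mul_left_comm, hsy, mul_zero]

theorem core1 (Hstar : ∀ (P : Ideal C) [P.IsPrime] (a : C), a ∈ P → ∃ s, s ∉ P ∧ s * a = 0)
    (H : ∀ (M : Ideal C) [M.IsMaximal], IsReduced (A ⊗[k'] (C ⧸ M))) : IsReduced (A ⊗[k'] C) := by
  constructor
  intro x hx
  -- the annihilator ideal
  let Ann : Ideal C :=
    { carrier := {c | ((1 : A) ⊗ₜ[k'] c) * x = 0}
      add_mem' := by
        intro a b ha hb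
        simp only [Set.mem_setOf_eq] at ha hb ⊢
        rw [tmul_add, add_mul, ha, hb, add_zero]
      zero_mem' := by simp
      smul_mem' := by
        intro c a ha
        simp only [Set.mem_setOf_eq] at ha ⊢
        have e : (1 : A) ⊗ₜ[k'] (c • a) = ((1 : A) ⊗ₜ[k'] c) * ((1 : A) ⊗ₜ[k'] a) := by
          rw [Algebra.TensorProduct.tmul_mul_tmul, one_mul, smul_eq_mul]
        rw [e, mul_assoc, ha, mul_zero] }
  by_cases htop : Ann = ⊤
  · have h1 : (1 : C) ∈ Ann := by rw [htop]; trivial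
    have h2 : ((1 : A) ⊗ₜ[k'] (1 : C)) * x = 0 := h1
    rwa [← Algebra.TensorProduct.one_def, one_mul] at h2
  · exfalso
    obtain ⟨M, hM, hle⟩ := Ideal.exists_le_maximal Ann htop
    have hred := H M
    have hsurj : Function.Surjective (Ideal.Quotient.mkₐ k' M) := Ideal.Quotient.mkₐ_surjective k' M
    have hker := Algebra.TensorProduct.lTensor_ker (A := A) (Ideal.Quotient.mkₐ k' M) hsurj
    have hx0 : Algebra.TensorProduct.map (AlgHom.id k' A) (Ideal.Quotient.mkₐ k' M) x = 0 :=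
      IsNilpotent.eq_zero (hx.map _)
    have hxk : x ∈ RingHom.ker (Algebra.TensorProduct.map (AlgHom.id k' A) (Ideal.Quotient.mkₐ k' M)) := hx0
    rw [hker] at hxk
    have hkM : RingHom.ker (Ideal.Quotient.mkₐ k' M) = M := Ideal.Quotient.mkₐ_ker k' M
    rw [hkM] at hxk
    obtain ⟨s, hs, hsx⟩ := ann Hstar M x hxk
    exact hs (hle hsx)

theorem core2 (Hstar : ∀ (P : Ideal C) [P.IsPrime] (a : C), a ∈ P → ∃ s, s ∉ P ∧ s * a = 0)
    [IsReduced (A ⊗[k'] C)] {L : Type*} [Field L] [Algebra k' L] (g : C →ₐ[k'] L)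
    (hg : Function.Surjective g) : IsReduced (A ⊗[k'] L) := by
  constructor
  intro y hy
  obtain ⟨n, hn⟩ := hy
  have hprime : (RingHom.ker g).IsPrime := RingHom.ker_isPrime g
  have hsurj : Function.Surjective (Algebra.TensorProduct.map (AlgHom.id k' A) g) :=
    Algebra.TensorProduct.map_surjective _ _ Function.surjective_id hg
  obtain ⟨x, rfl⟩ := hsurj y
  have hker := Algebra.TensorProduct.lTensor_ker (A := A) g hg
  have hxn : x ^ n ∈ RingHom.ker (Algebra.TensorProduct.map (AlgHom.id k' A) g) := by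
    rw [RingHom.mem_ker, map_pow]; exact hn
  rw [hker] at hxn
  obtain ⟨s, hs, hsx⟩ := ann Hstar (RingHom.ker g) (x ^ n) hxn
  have hnil : (((1 : A) ⊗ₜ[k'] s) * x) ^ (n + 1) = 0 := by
    rw [mul_pow, pow_succ _ n, pow_succ x n]
    calc (1 : A) ⊗ₜ[k'] s ^ n * (1 : A) ⊗ₜ[k'] s * (x ^ n * x)
        = ((1 : A) ⊗ₜ[k'] s * x ^ n) * ((1 : A) ⊗ₜ[k'] s ^ n * x) := by ring
      _ = 0 := by rw [hsx, zero_mul]
  have hz : ((1 : A) ⊗ₜ[k'] s) * x = 0 := IsNilpotent.eq_zero ⟨_, hnil⟩
  have hz' := congrArg (Algebra.TensorProduct.map (AlgHom.id k' A) g) hz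
  rw [map_mul, map_zero, Algebra.TensorProduct.map_tmul] at hz'
  simp only [AlgHom.coe_id, id_eq] at hz'
  have hgs : g s ≠ 0 := fun h => hs ((RingHom.mem_ker).mpr h)
  have e : ((1 : A) ⊗ₜ[k'] (g s)⁻¹) * ((1 : A) ⊗ₜ[k'] (g s)) = (1 : A ⊗[k'] L) := by
    rw [Algebra.TensorProduct.tmul_mul_tmul, one_mul, inv_mul_cancel₀ hgs, Algebra.TensorProduct.one_def]
  calc (Algebra.TensorProduct.map (AlgHom.id k' A) g) x
      = (((1 : A) ⊗ₜ[k'] (g s)⁻¹) * ((1 : A) ⊗ₜ[k'] (g s))) * (Algebra.TensorProduct.map (AlgHom.id k' A) g) x := by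
        rw [e, one_mul]
    _ = 0 := by rw [mul_assoc, hz', mul_zero]

end core

theorem reduced_sep {k k' K : Type u} [Field k] [Field k'] [Field K] [Algebra k k'] [Algebra k K]
    [Algebra.IsSeparable k k'] : IsReduced (K ⊗[k] k') := by
  apply IsReduced.tensorProduct_of_flat_of_forall_fg
  intro B hB
  have hft : Algebra.FiniteType k B := (Subalgebra.fg_iff_finiteType B).mp hB
  obtain ⟨s, hs⟩ := hB
  obtain ⟨L, hLdef⟩ : ∃ L : IntermediateField k k', L = IntermediateField.adjoin k (s : Set k') := ⟨_, rfl⟩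
  have hL : L.toSubalgebra = B := by
    rw [hLdef, IntermediateField.adjoin_toSubalgebra_of_isAlgebraic
      (fun x _ => (Algebra.IsSeparable.isIntegral k x).isAlgebraic), hs]
  have e : L ≃ₐ[k] B := Subalgebra.equivOfEq L.toSubalgebra B hL
  have hfuL : Algebra.FormallyUnramified k L := Algebra.FormallyUnramified.of_isSeparable k L
  have hfu : Algebra.FormallyUnramified k B := Algebra.FormallyUnramified.of_equiv e
  exact Algebra.FormallyUnramified.isReduced_of_field K (K ⊗[k] B)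

section
variable {k k' K : Type u} [Field k] [Field k'] [Field K] [Algebra k k'] [Algebra k K]
    [Algebra.IsSeparable k k']

theorem reduced_C : IsReduced (k' ⊗[k] K) :=
  haveI := reduced_sep (k := k) (k' := k') (K := K)
  isReduced_of_injective (Algebra.TensorProduct.comm k k' K).toRingEquiv.toRingHom
    (Algebra.TensorProduct.comm k k' K).injective

theorem integral_C (c : k' ⊗[k] K) :
    ((Algebra.TensorProduct.includeRight : K →ₐ[k] k' ⊗[k] K) : K →+* k' ⊗[k] K).IsIntegralElem c := by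
  have hint : IsIntegral K (Algebra.TensorProduct.comm k k' K c) := Algebra.IsIntegral.isIntegral _
  obtain ⟨p, hpm, hp⟩ := hint
  refine ⟨p, hpm, ?_⟩
  have := congrArg (Algebra.TensorProduct.comm k k' K).symm hp
  rw [map_zero] at this
  have h2 := Polynomial.hom_eval₂ p (algebraMap K (K ⊗[k] k'))
    ((Algebra.TensorProduct.comm k k' K).symm : K ⊗[k] k' →+* k' ⊗[k] K)
    (Algebra.TensorProduct.comm k k' K c)
  have h3 : (((Algebra.TensorProduct.comm k k' K).symm : K ⊗[k] k' →+* k' ⊗[k] K)).comp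
      (algebraMap K (K ⊗[k] k')) =
      ((Algebra.TensorProduct.includeRight : K →ₐ[k] k' ⊗[k] K) : K →+* k' ⊗[k] K) := by
    ext a
    simp [Algebra.TensorProduct.algebraMap_apply]
  rw [h3] at h2
  have h4 : ((Algebra.TensorProduct.comm k k' K).symm : K ⊗[k] k' →+* k' ⊗[k] K)
      (Algebra.TensorProduct.comm k k' K c) = c := by simp
  rw [h4] at h2
  rw [← h2]
  exact this

theorem Hstar_C (P : Ideal (k' ⊗[k] K)) [P.IsPrime] (a : k' ⊗[k] K) (ha : a ∈ P) :
    ∃ s, s ∉ P ∧ s * a = 0 :=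
  haveI := reduced_C (k := k) (k' := k') (K := K)
  star _ integral_C P a ha

end

theorem main {k k' A : Type u} [Field k] [Field k'] [Algebra k k'] [Algebra.IsSeparable k k']
    [CommRing A] [Algebra k' A] [Algebra k A] [IsScalarTower k k' A] :
    (∀ (K : Type u) [Field K] [Algebra k K], IsReduced (K ⊗[k] A)) ↔
      ∀ (K : Type u) [Field K] [Algebra k' K], IsReduced (K ⊗[k'] A) := by
  constructor
  · intro H1 L _ _
    letI : Algebra k L := ((algebraMap k' L).comp (algebraMap k k')).toAlgebra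
    haveI : IsScalarTower k k' L := IsScalarTower.of_algebraMap_eq (fun _ => rfl)
    have hred0 : IsReduced (L ⊗[k] A) := H1 L
    let e1 : A ⊗[k'] (k' ⊗[k] L) ≃ₐ[k'] A ⊗[k] L := Algebra.TensorProduct.cancelBaseChange k k' k' A L
    let e2 : A ⊗[k] L ≃ₐ[k] L ⊗[k] A := Algebra.TensorProduct.comm k A L
    haveI : IsReduced (A ⊗[k'] (k' ⊗[k] L)) :=
      isReduced_of_injective ((e2.toRingEquiv.toRingHom).comp e1.toRingEquiv.toRingHom)
        (e2.injective.comp e1.injective)
    let g : k' ⊗[k] L →ₐ[k'] L :=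
      Algebra.TensorProduct.lift (Algebra.ofId k' L) (AlgHom.id k L) (fun _ _ => Commute.all _ _)
    have hg : Function.Surjective g := fun b => ⟨1 ⊗ₜ b, by simp [g]⟩
    have hr := core2 (A := A) (fun P _ a ha => Hstar_C P a ha) g hg
    exact isReduced_of_injective (Algebra.TensorProduct.comm k' L A).toRingEquiv.toRingHom
      (Algebra.TensorProduct.comm k' L A).injective
  · intro H2 K _ _
    have hr : IsReduced (A ⊗[k'] (k' ⊗[k] K)) := by
      apply core1 (fun P _ a ha => Hstar_C P a ha)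
      intro M hM
      letI := Ideal.Quotient.field M
      haveI := H2 ((k' ⊗[k] K) ⧸ M)
      exact isReduced_of_injective
        (Algebra.TensorProduct.comm k' A ((k' ⊗[k] K) ⧸ M)).toRingEquiv.toRingHom
        (Algebra.TensorProduct.comm k' A ((k' ⊗[k] K) ⧸ M)).injective
    let e1 : A ⊗[k'] (k' ⊗[k] K) ≃ₐ[k'] A ⊗[k] K := Algebra.TensorProduct.cancelBaseChange k k' k' A K
    let e2 : A ⊗[k] K ≃ₐ[k] K ⊗[k] A := Algebra.TensorProduct.comm k A K
    exact isReduced_of_injective ((e1.symm.toRingEquiv.toRingHom).comp e2.symm.toRingEquiv.toRingHom)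
        (e1.symm.injective.comp e2.symm.injective)


end


open TensorProduct in
/-- Let k ⊆ k' be fields with k' separable algebraic over k, and A a k'-algebra. Then A is geometrically
reduced over k (K ⊗_k A reduced for all field extensions K/k) if and only if A is geometrically
reduced over k' (K ⊗_{k'} A reduced for all field extensions K/k'). Here the test fields K range
over field extensions (of k, respectively of k') in the common universe of k and k'; this is
equivalent to the unrestricted notions, since an algebraic closure of the base field suffices as a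
test. -/
theorem result {k k' A : Type u} [Field k] [Field k'] [Algebra k k'] [Algebra.IsSeparable k k'] [CommRing A] [Algebra k' A] [Algebra k A] [IsScalarTower k k' A] :
    (∀ (K : Type u) [Field K] [Algebra k K], IsReduced (K ⊗[k] A)) ↔
      ∀ (K : Type u) [Field K] [Algebra k' K], IsReduced (K ⊗[k'] A) := by
  classical
  exact main

end Groth.Agent.S9635
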