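import Groth.Statements.S9636
import Mathlib

set_option autoImplicit false
universe u
open CAlg

namespace Groth.Agent.S9636


section Helpers
open TensorProduct

variable {k k' : Type u} [Field k] [Field k'] [Algebra k k'] [Algebra.IsSeparable k k']

/-- For finitely many elements `y` there is `t` with `lmul' t = 1` killing all `1 ⊗ y - y ⊗ 1`. -/
theorem exists_annihilator (F : Finset k') :
    ∃ t : k' ⊗[k] k', Algebra.TensorProduct.lmul' (S := k') k t = 1 ∧
      ∀ y ∈ F, ((1 : k') ⊗ₜ[k] y - y ⊗ₜ[k] (1 : k')) * t = 0 := by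
  classical
  let E : IntermediateField k k' := IntermediateField.adjoin k (F : Set k')
  haveI : FiniteDimensional k E :=
    IntermediateField.finiteDimensional_adjoin fun z _ => Algebra.IsIntegral.isIntegral z
  haveI : Algebra.IsSeparable k E := Algebra.isSeparable_tower_bot_of_isSeparable k E k'
  haveI : Algebra.FormallyUnramified k E := Algebra.FormallyUnramified.of_isSeparable k E
  haveI : Algebra.EssFiniteType k E := inferInstance
  let ψ : E ⊗[k] E →ₐ[k] k' ⊗[k] k' := Algebra.TensorProduct.map E.val E.val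
  refine ⟨ψ (Algebra.FormallyUnramified.elem k E), ?_, fun y hy => ?_⟩
  · have hcomp : ∀ z : E ⊗[k] E, Algebra.TensorProduct.lmul' (S := k') k (ψ z) =
        E.val (Algebra.TensorProduct.lmul' (S := E) k z) := by
      intro z
      induction z using TensorProduct.induction_on with
      | zero => simp
      | tmul a b => simp [ψ]
      | add a b ha hb => simp only [map_add, ha, hb]
    rw [hcomp, Algebra.FormallyUnramified.lmul_elem, map_one]
  · have hyE : y ∈ E := IntermediateField.subset_adjoin k _ (Finset.mem_coe.mpr hy)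
    have h1 : ((1 : k') ⊗ₜ[k] y - y ⊗ₜ[k] (1 : k')) =
        ψ ((1 : E) ⊗ₜ[k] (⟨y, hyE⟩ : E) - (⟨y, hyE⟩ : E) ⊗ₜ[k] (1 : E)) := by
      simp [ψ]
    rw [h1, ← map_mul, Algebra.FormallyUnramified.one_tmul_sub_tmul_one_mul_elem, map_zero]

/-- Elements of the kernel of multiplication are killed by an element not in the kernel. -/
theorem exists_mul_eq_zero (a : k' ⊗[k] k')
    (ha : Algebra.TensorProduct.lmul' (S := k') k a = 0) :
    ∃ t : k' ⊗[k] k', Algebra.TensorProduct.lmul' (S := k') k t = 1 ∧ t * a = 0 := by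
  classical
  obtain ⟨T, hT⟩ := TensorProduct.exists_finset a
  obtain ⟨t, ht1, ht⟩ := exists_annihilator (k := k) (T.image Prod.snd)
  refine ⟨t, ht1, ?_⟩
  have hsum : ∑ i ∈ T, i.1 * i.2 = 0 := by
    rw [hT, map_sum] at ha
    simpa using ha
  have hdecomp : a = ∑ i ∈ T, (i.1 ⊗ₜ[k] (1 : k')) * ((1 : k') ⊗ₜ[k] i.2 - i.2 ⊗ₜ[k] (1 : k')) := by
    have h2 : ∑ i ∈ T, (i.1 ⊗ₜ[k] (1 : k')) * ((1 : k') ⊗ₜ[k] i.2 - i.2 ⊗ₜ[k] (1 : k')) =
        ∑ i ∈ T, i.1 ⊗ₜ[k] i.2 - (∑ i ∈ T, i.1 * i.2) ⊗ₜ[k] (1 : k') := by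
      rw [TensorProduct.sum_tmul, ← Finset.sum_sub_distrib]
      refine Finset.sum_congr rfl fun i _ => ?_
      rw [mul_sub, Algebra.TensorProduct.tmul_mul_tmul, Algebra.TensorProduct.tmul_mul_tmul,
        mul_one, one_mul, mul_one]
    rw [h2, hsum, TensorProduct.zero_tmul, sub_zero, ← hT]
  rw [hdecomp, Finset.mul_sum]
  refine Finset.sum_eq_zero fun i hi => ?_
  rw [mul_left_comm, mul_comm t, ht i.2 (Finset.mem_image_of_mem _ hi), mul_zero]

end Helpers

open TensorProduct in
/-- Let k'/k be a separable algebraic field extension. Then for some multiplicative subset S of k' ⊗_k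
k' the multiplication map k' ⊗_k k' → k' is a localization at S: there is a ring isomorphism S⁻¹(k'
⊗_k k') ≅ k' carrying the localization map to the multiplication map. -/
theorem result {k k' : Type u} [Field k] [Field k'] [Algebra k k'] [Algebra.IsSeparable k k'] :
    ∃ (S : Submonoid (k' ⊗[k] k')) (e : Localization S ≃+* k'), ∀ x : k' ⊗[k] k', e (algebraMap (k' ⊗[k] k') (Localization S) x) = Algebra.TensorProduct.lmul' (S := k') k x := by
  classical
  let φ : k' ⊗[k] k' →ₐ[k] k' := Algebra.TensorProduct.lmul' (S := k') k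
  have hφsurj : Function.Surjective φ := fun c => ⟨c ⊗ₜ[k] 1, by simp [φ]⟩
  haveI hP : (RingHom.ker φ.toRingHom).IsPrime := RingHom.ker_isPrime _
  let S : Submonoid (k' ⊗[k] k') := (RingHom.ker φ.toRingHom).primeCompl
  letI : Algebra (k' ⊗[k] k') k' := φ.toRingHom.toAlgebra
  have halg : ∀ x, algebraMap (k' ⊗[k] k') k' x = φ x := fun _ => rfl
  haveI : IsLocalization S k' := by
    refine ⟨?_, ?_, ?_⟩
    · rintro ⟨s, hs⟩
      rw [halg]
      exact isUnit_iff_ne_zero.mpr hs
    · intro c
      obtain ⟨x, hx⟩ := hφsurj c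
      exact ⟨(x, 1), by simp [halg, hx]⟩
    · intro x y hxy
      rw [halg, halg] at hxy
      have h0 : φ (x - y) = 0 := by rw [map_sub, hxy, sub_self]
      obtain ⟨t, ht1, ht0⟩ := exists_mul_eq_zero (k := k) (x - y) h0
      refine ⟨⟨t, ?_⟩, ?_⟩
      · change t ∉ RingHom.ker φ.toRingHom
        rw [RingHom.mem_ker]
        change φ t ≠ 0
        rw [show φ t = 1 from ht1]
        exact one_ne_zero
      · change t * x = t * y
        rw [← sub_eq_zero, ← mul_sub, ht0]
  let e := IsLocalization.algEquiv S (Localization S) k'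
  refine ⟨S, e.toRingEquiv, fun x => ?_⟩
  exact e.commutes x

end Groth.Agent.S9636
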