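import Groth.Statements.S9638
import Mathlib

set_option autoImplicit false
universe u
open CAlg

namespace Groth.Agent.S9638

section
open TensorProduct

theorem main {R S : Type u} [CommRing R] [IsDomain R] [CommRing S] [Algebra R S] (N : Type u) [AddCommGroup N] [Module S N] [Module R N] [IsScalarTower R S N] [Module.Flat R N] :
    FlatCA.ass S N = FlatCA.ass S (LocalizedModule (Algebra.algebraMapSubmonoid S (nonZeroDivisors R)) N) ∧
      FlatCA.ass S N = Ideal.comap (algebraMap S (Localization (Algebra.algebraMapSubmonoid S (nonZeroDivisors R)))) '' FlatCA.ass (Localization (Algebra.algebraMapSubmonoid S (nonZeroDivisors R))) (LocalizedModule (Algebra.algebraMapSubmonoid S (nonZeroDivisors R)) N) := by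
  set T := Algebra.algebraMapSubmonoid S (nonZeroDivisors R) with hT
  have hreg : ∀ t ∈ T, ∀ n : N, t • n = 0 → n = 0 := by
    rintro t ⟨r, hr, rfl⟩ n hn
    rw [algebraMap_smul] at hn
    have := Module.Flat.isSMulRegular_of_nonZeroDivisors (M := N) hr
    exact this (by simp only [hn, smul_zero])
  have hmk0 : ∀ (m : N) (t : T), LocalizedModule.mk m t = 0 ↔ m = 0 := by
    intro m t
    rw [← LocalizedModule.zero_mk (1 : T), LocalizedModule.mk_eq]
    constructor
    · rintro ⟨u, hu⟩
      rw [smul_zero, smul_zero, one_smul] at hu
      exact hreg u u.2 m hu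
    · rintro rfl
      exact ⟨1, by simp⟩
  have hann : ∀ (n : N) (t : T) (s : S), s • LocalizedModule.mk n t = 0 ↔ s • n = 0 := by
    intro n t s
    rw [LocalizedModule.smul'_mk, hmk0]
  have part1 : FlatCA.ass S N = FlatCA.ass S (LocalizedModule T N) := by
    ext q
    constructor
    · rintro ⟨hq, n, hn⟩
      refine ⟨hq, LocalizedModule.mk n 1, ?_⟩
      ext s
      rw [hn, Submodule.mem_annihilator_span_singleton, Submodule.mem_annihilator_span_singleton,
        hann]
    · rintro ⟨hq, x, hx⟩
      induction x using LocalizedModule.induction_on with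
      | h n t =>
        refine ⟨hq, n, ?_⟩
        ext s
        rw [hx, Submodule.mem_annihilator_span_singleton, Submodule.mem_annihilator_span_singleton,
          hann]
  refine ⟨part1, ?_⟩
  ext q
  constructor
  · rintro ⟨hq, n, hn⟩
    have hmem : ∀ s : S, s ∈ q ↔ s • n = 0 := by
      intro s; rw [hn, Submodule.mem_annihilator_span_singleton]
    have hn0 : n ≠ 0 := by
      rintro rfl
      apply hq.ne_top
      rw [Ideal.eq_top_iff_one, hmem, smul_zero]
    have hQmem : ∀ (a : S) (t : T), Localization.mk a t ∈
        (Submodule.span (Localization T) {(LocalizedModule.mk n 1 : LocalizedModule T N)}).annihilator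
        ↔ a ∈ q := by
      intro a t
      rw [Submodule.mem_annihilator_span_singleton, LocalizedModule.mk_smul_mk, hmk0, hmem]
    refine ⟨(Submodule.span (Localization T) {(LocalizedModule.mk n 1 : LocalizedModule T N)}).annihilator,
      ⟨⟨?_, ?_⟩, LocalizedModule.mk n 1, rfl⟩, ?_⟩
    · intro htop
      have : (Localization.mk 1 1 : Localization T) ∈
          (Submodule.span (Localization T) {(LocalizedModule.mk n 1 : LocalizedModule T N)}).annihilator := by
        rw [htop]; trivial
      rw [hQmem] at this
      exact hq.ne_top ((Ideal.eq_top_iff_one q).mpr this)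
    · intro x y hxy
      induction x using Localization.induction_on with
      | H x =>
        induction y using Localization.induction_on with
        | H y =>
          rw [Localization.mk_mul, hQmem] at hxy
          rw [hQmem, hQmem]
          exact hq.mem_or_mem hxy
    · ext s
      rw [Ideal.mem_comap, ← Localization.mk_one_eq_algebraMap, hQmem]
  · rintro ⟨Q, ⟨hQ, x, hx⟩, rfl⟩
    rw [part1]
    refine ⟨Ideal.comap_isPrime _ Q, x, ?_⟩
    ext s
    rw [Ideal.mem_comap, hx, Submodule.mem_annihilator_span_singleton,
      Submodule.mem_annihilator_span_singleton, algebraMap_smul]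


end


/-- Let R → S be a ring map with R a domain with fraction field K, and N an S-module flat over R.
Writing T for the image in S of the nonzero elements of R, so that T⁻¹S = S ⊗_R K and T⁻¹N = N ⊗_R
K, the associated primes of N over S (primes equal to the annihilator of an element) coincide with
those of T⁻¹N over S, and these are exactly the inverse images in S of the associated primes of T⁻¹N
over T⁻¹S. -/
theorem result {R S : Type u} [CommRing R] [IsDomain R] [CommRing S] [Algebra R S] (N : Type u) [AddCommGroup N] [Module S N] [Module R N] [IsScalarTower R S N] [Module.Flat R N] :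
    FlatCA.ass S N = FlatCA.ass S (LocalizedModule (Algebra.algebraMapSubmonoid S (nonZeroDivisors R)) N) ∧
      FlatCA.ass S N = Ideal.comap (algebraMap S (Localization (Algebra.algebraMapSubmonoid S (nonZeroDivisors R)))) '' FlatCA.ass (Localization (Algebra.algebraMapSubmonoid S (nonZeroDivisors R))) (LocalizedModule (Algebra.algebraMapSubmonoid S (nonZeroDivisors R)) N) := by
  classical
  exact main N

end Groth.Agent.S9638
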