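import Groth.Statements.S9640
import Mathlib

set_option autoImplicit false
universe u
open CAlg

namespace Groth.Agent.S9640

section
open TensorProduct

theorem main {R S : Type u} [CommRing R] [IsDomain R] [CommRing S] [Algebra R S] (N : Type u) [AddCommGroup N] [Module S N] [Module R N] [IsScalarTower R S N] [Module.Flat R N] :
    FlatCA.weakAss S N = Ideal.comap (algebraMap S (Localization (Algebra.algebraMapSubmonoid S (nonZeroDivisors R)))) '' FlatCA.weakAss (Localization (Algebra.algebraMapSubmonoid S (nonZeroDivisors R))) (LocalizedModule (Algebra.algebraMapSubmonoid S (nonZeroDivisors R)) N) := by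
  set T := Algebra.algebraMapSubmonoid S (nonZeroDivisors R) with hT
  have hreg : ∀ t ∈ T, ∀ n : N, t • n = 0 → n = 0 := by
    rintro t ⟨r, hr, rfl⟩ n hn
    rw [algebraMap_smul] at hn
    have := Module.Flat.isSMulRegular_of_nonZeroDivisors (M := N) hr
    exact this (by simp only [hn, smul_zero])
  have hmk0 : ∀ (m : N) (t : T), LocalizedModule.mk m t = 0 ↔ m = 0 := by
    intro m t
    rw [← LocalizedModule.zero_mk (1 : T), LocalizedModule.mk_eq]
    constructor
    · rintro ⟨u, hu⟩
      rw [smul_zero, smul_zero, one_smul] at hu
      exact hreg u u.2 m hu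
    · rintro rfl
      exact ⟨1, by simp⟩
  have hann : ∀ (n : N) (t : T) (s : S), s • LocalizedModule.mk n t = 0 ↔ s • n = 0 := by
    intro n t s
    rw [LocalizedModule.smul'_mk, hmk0]
  have hcomap : ∀ (n : N) (t : T),
      (Submodule.span (Localization T) {(LocalizedModule.mk n t : LocalizedModule T N)}).annihilator.comap
        (algebraMap S (Localization T)) = (Submodule.span S {n}).annihilator := by
    intro n t
    ext s
    rw [Ideal.mem_comap, Submodule.mem_annihilator_span_singleton,
      Submodule.mem_annihilator_span_singleton, algebraMap_smul, hann]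
  ext q
  constructor
  · rintro ⟨n, hn⟩
    rw [← hcomap n 1, IsLocalization.minimalPrimes_comap T] at hn
    obtain ⟨Q, hQ, rfl⟩ := hn
    exact ⟨Q, ⟨LocalizedModule.mk n 1, hQ⟩, rfl⟩
  · rintro ⟨Q, ⟨x, hx⟩, rfl⟩
    induction x using LocalizedModule.induction_on with
    | h n t =>
      refine ⟨n, ?_⟩
      rw [← hcomap n t, IsLocalization.minimalPrimes_comap T]
      exact ⟨Q, hx, rfl⟩


end


/-- Let R → S be a ring map with R a domain with fraction field K and N an S-module flat over R. Writing
T for the image in S of the nonzero elements of R, so that T⁻¹S = S ⊗_R K and T⁻¹N = N ⊗_R K, the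
primes of S weakly associated to N are exactly the inverse images in S of the primes of T⁻¹S weakly
associated to T⁻¹N. -/
theorem result {R S : Type u} [CommRing R] [IsDomain R] [CommRing S] [Algebra R S] (N : Type u) [AddCommGroup N] [Module S N] [Module R N] [IsScalarTower R S N] [Module.Flat R N] :
    FlatCA.weakAss S N = Ideal.comap (algebraMap S (Localization (Algebra.algebraMapSubmonoid S (nonZeroDivisors R)))) '' FlatCA.weakAss (Localization (Algebra.algebraMapSubmonoid S (nonZeroDivisors R))) (LocalizedModule (Algebra.algebraMapSubmonoid S (nonZeroDivisors R)) N) := by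
  classical
  exact main N

end Groth.Agent.S9640
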