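import Groth.Statements.S9641
import Groth.Agent.Lib.Helper8.TensorInj

set_option autoImplicit false
universe u
open CAlg

namespace Groth.Agent.S9641

open TensorProduct in
/-- Let k be a field and R, S two k-algebras. If R ⊗_k S is not reduced then there are finitely
generated k-subalgebras R' ⊆ R and S' ⊆ S such that R' ⊗_k S' is not reduced. -/
theorem result {k R S : Type u} [Field k] [CommRing R] [CommRing S] [Algebra k R] [Algebra k S] (h : ¬ IsReduced (R ⊗[k] S)) :
    ∃ (R' : Subalgebra k R) (S' : Subalgebra k S), R'.FG ∧ S'.FG ∧ ¬ IsReduced (R' ⊗[k] S') := by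
  classical
  have hex : ∃ z : R ⊗[k] S, IsNilpotent z ∧ z ≠ 0 := by
    by_contra hne
    push_neg at hne
    exact h ⟨fun z hz => hne z hz⟩
  obtain ⟨z, hznil, hz0⟩ := hex
  obtain ⟨T, hT⟩ := TensorProduct.exists_finset z
  let R' : Subalgebra k R := Algebra.adjoin k ((T.image Prod.fst : Finset R) : Set R)
  let S' : Subalgebra k S := Algebra.adjoin k ((T.image Prod.snd : Finset S) : Set S)
  have hR' : ∀ i ∈ T, i.1 ∈ R' := fun i hi =>
    Algebra.subset_adjoin (Finset.mem_coe.mpr (Finset.mem_image_of_mem _ hi))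
  have hS' : ∀ i ∈ T, i.2 ∈ S' := fun i hi =>
    Algebra.subset_adjoin (Finset.mem_coe.mpr (Finset.mem_image_of_mem _ hi))
  refine ⟨R', S', ⟨_, rfl⟩, ⟨_, rfl⟩, ?_⟩
  let φ := Algebra.TensorProduct.map R'.val S'.val
  have hφ : Function.Injective φ :=
    Groth.Agent.Helper8.tensorMap_injective R'.val Subtype.val_injective S'.val
      Subtype.val_injective
  let z' : R' ⊗[k] S' := ∑ i ∈ T.attach, (⟨i.1.1, hR' i.1 i.2⟩ : R') ⊗ₜ[k] (⟨i.1.2, hS' i.1 i.2⟩ : S')
  have hz' : φ z' = z := by
    rw [hT, ← Finset.sum_attach T]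
    simp only [z', map_sum]
    refine Finset.sum_congr rfl fun i _ => ?_
    simp [φ]
  intro hred
  have hnil' : IsNilpotent z' := by
    obtain ⟨n, hn⟩ := hznil
    refine ⟨n, hφ ?_⟩
    rw [map_pow, hz', hn, map_zero]
  have : z' = 0 := hnil'.eq_zero
  apply hz0
  rw [← hz', this, map_zero]

end Groth.Agent.S9641
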