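import Groth.Statements.S9642
import Mathlib

set_option autoImplicit false
universe u
open CAlg

namespace Groth.Agent.S9642

/-- In the general form stated there: let R → S be a ring map inducing an open map Spec(S) → Spec(R),
with Spec(R) irreducible, such that for a dense set of primes p of R the fibre ring κ(p) ⊗_R S has
irreducible spectrum. Then Spec(S) is irreducible. The flat and finitely presented case is the
special case in which the map on spectra is open by fppf-openness. -/
theorem result {R S : Type u} [CommRing R] [CommRing S] [Algebra R S]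
    (hopen : IsOpenMap (PrimeSpectrum.comap (algebraMap R S))) [IrreducibleSpace (PrimeSpectrum R)]
    (D : Set (PrimeSpectrum R)) (hD : Dense D) (hfib : ∀ p ∈ D, IrreducibleSpace (PrimeSpectrum (p.asIdeal.Fiber S))) :
    IrreducibleSpace (PrimeSpectrum S) := by
  classical
  have hfib' : ∀ p ∈ D, IsIrreducible (PrimeSpectrum.comap (algebraMap R S) ⁻¹' {p}) := by
    intro p hp
    rw [isIrreducible_iff_irreducibleSpace]
    haveI := hfib p hp
    haveI : Nonempty (PrimeSpectrum.comap (algebraMap R S) ⁻¹' {p}) :=
      ⟨(PrimeSpectrum.preimageHomeomorphFiber R S p).symm (Classical.arbitrary _)⟩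
    exact (PrimeSpectrum.preimageHomeomorphFiber R S p).isOpenEmbedding.irreducibleSpace
  have h1 : IsPreirreducible (PrimeSpectrum.comap (algebraMap R S) ⁻¹' Set.univ) := by
    refine (IrreducibleSpace.isIrreducible_univ (PrimeSpectrum R)).isPreirreducible.preimage_of_dense_isPreirreducible_fiber
      _ hopen ?_
    rw [Set.univ_inter]
    intro x _
    exact closure_mono (fun p hp => (hfib' p hp).isPreirreducible) (hD x)
  rw [Set.preimage_univ] at h1
  obtain ⟨p, hp⟩ := hD.nonempty
  obtain ⟨q, _⟩ := (hfib' p hp).nonempty
  haveI : Nonempty (PrimeSpectrum S) := ⟨q⟩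
  exact (irreducibleSpace_def _).mpr ⟨Set.univ_nonempty, h1⟩

end Groth.Agent.S9642
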