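import Groth.Statements.S9643
import Mathlib

set_option autoImplicit false
universe u
open CAlg

namespace Groth.Agent.S9643

/-- Let R be a Noetherian ring, M a finite R-module and 0 = M_0 ⊆ M_1 ⊆ ⋯ ⊆ M_n = M a chain of
submodules whose successive quotients M_i/M_{i-1} are isomorphic to R/p_i for prime ideals p_i. Then
the primes minimal among p_1, …, p_n are exactly the primes minimal in the support of M. -/
theorem result {R : Type u} [CommRing R] [IsNoetherianRing R] (M : Type u) [AddCommGroup M] [Module R M] [Module.Finite R M]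
    {n : ℕ} (N : Fin (n + 1) → Submodule R M) (hN : Monotone N) (h0 : N 0 = ⊥) (hlast : N (Fin.last n) = ⊤)
    (p : Fin n → PrimeSpectrum R)
    (hquot : ∀ i : Fin n, Nonempty ((↥(N i.succ) ⧸ Submodule.comap (N i.succ).subtype (N i.castSucc)) ≃ₗ[R] (R ⧸ (p i).asIdeal))) :
    {q : PrimeSpectrum R | Minimal (fun x => x ∈ Set.range p) q} = {q : PrimeSpectrum R | Minimal (fun x => x ∈ Module.support R M) q} := by
  classical
  -- support of the pieces of the filtration
  have hsupp : ∀ k : Fin (n + 1), Module.support R (N k) =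
      ⋃ i : {i : Fin n // i.castSucc < k}, PrimeSpectrum.zeroLocus ((p i.1).asIdeal : Set R) := by
    intro k
    induction k using Fin.induction with
    | zero =>
      rw [h0]
      haveI : Subsingleton (⊥ : Submodule R M) := inferInstance
      rw [Module.support_eq_empty]
      symm
      rw [Set.iUnion_eq_empty]
      rintro ⟨i, hi⟩
      exact absurd hi (by simp)
    | succ i ih =>
      have hle : N i.castSucc ≤ N i.succ := hN (Fin.castSucc_le_succ i) |>.trans le_rfl
      obtain ⟨e⟩ := hquot i
      have hex := Module.support_of_exact (R := R)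
        (f := (Submodule.comap (N i.succ).subtype (N i.castSucc)).subtype)
        (g := (Submodule.comap (N i.succ).subtype (N i.castSucc)).mkQ)
        (LinearMap.exact_subtype_mkQ _) (Submodule.subtype_injective _)
        (Submodule.mkQ_surjective _)
      rw [hex, (Submodule.comapSubtypeEquivOfLe hle).support_eq, ih, e.support_eq,
        Module.support_eq_zeroLocus, Ideal.annihilator_quotient]
      ext x
      simp only [Set.mem_union, Set.mem_iUnion, Subtype.exists, exists_prop]
      constructor
      · rintro (⟨j, hj, hx⟩ | hx)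
        · exact ⟨j, lt_trans hj (Fin.castSucc_lt_succ), hx⟩
        · exact ⟨i, Fin.castSucc_lt_succ, hx⟩
      · rintro ⟨j, hj, hx⟩
        rcases eq_or_lt_of_le (Fin.le_castSucc_iff.mpr hj) with h | h
        · have : j = i := Fin.castSucc_injective _ h
          subst this
          exact Or.inr hx
        · exact Or.inl ⟨j, h, hx⟩
  have hM : Module.support R M = {x : PrimeSpectrum R | ∃ i : Fin n, p i ≤ x} := by
    rw [← (Submodule.topEquiv (R := R) (M := M)).support_eq, ← hlast, hsupp]
    ext x
    simp only [Set.mem_iUnion, Subtype.exists, exists_prop, Set.mem_setOf_eq,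
      PrimeSpectrum.mem_zeroLocus, SetLike.coe_subset_coe]
    constructor
    · rintro ⟨i, _, hx⟩
      exact ⟨i, hx⟩
    · rintro ⟨i, hx⟩
      exact ⟨i, Fin.castSucc_lt_last i, hx⟩
  rw [hM]
  ext x
  simp only [Set.mem_setOf_eq]
  constructor
  · rintro ⟨⟨i, rfl⟩, hmin⟩
    refine ⟨⟨i, le_rfl⟩, ?_⟩
    rintro y ⟨j, hj⟩ hy
    exact (hmin ⟨j, rfl⟩ (hj.trans hy)).trans hj
  · rintro ⟨⟨i, hi⟩, hmin⟩
    have hxi : x = p i := le_antisymm (hmin ⟨i, le_rfl⟩ hi) hi
    refine ⟨⟨i, hxi.symm⟩, ?_⟩
    rintro y ⟨j, rfl⟩ hy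
    exact hmin ⟨j, le_rfl⟩ hy

end Groth.Agent.S9643
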