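import Groth.Statements.S9645
import Mathlib.RingTheory.Localization.Integral

set_option autoImplicit false
universe u
open CAlg

namespace Groth.Agent.S9645

/-- Integral closure commutes with localization. Let A → B be a ring map, S a multiplicative subset of
A, and A_S, B_S the localizations of A at S and of B at the image of S. Then an element x of B_S is
integral over A_S if and only if x·s = b for some s ∈ S and some b ∈ B integral over A (images taken
in B_S); that is, the integral closure of A_S in B_S is S⁻¹B' for B' the integral closure of A in B. -/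
theorem result {A B As Bs : Type u} [CommRing A] [CommRing B] [CommRing As] [CommRing Bs] [Algebra A B] [Algebra A As] [Algebra B Bs] [Algebra As Bs] [Algebra A Bs] [IsScalarTower A B Bs] [IsScalarTower A As Bs]
    (S : Submonoid A) [IsLocalization S As] [IsLocalization (Algebra.algebraMapSubmonoid B S) Bs] (x : Bs) :
    IsIntegral As x ↔ ∃ b : B, IsIntegral A b ∧ ∃ s ∈ S, x * algebraMap A Bs s = algebraMap B Bs b := by
  constructor
  · intro hx
    obtain ⟨m, hm⟩ := IsIntegral.exists_multiple_integral_of_isLocalization S x hx
    obtain ⟨⟨b', ⟨t', ht'⟩⟩, hxb⟩ := IsLocalization.surj (Algebra.algebraMapSubmonoid B S) x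
    obtain ⟨t, htS, rfl⟩ := ht'
    simp only at hxb
    have hint : IsIntegral A (algebraMap B Bs ((m : A) • b')) := by
      have h1 : algebraMap B Bs ((m : A) • b') = (m • x) * algebraMap A Bs t := by
        rw [Algebra.smul_def, map_mul, ← hxb, ← IsScalarTower.algebraMap_apply,
          ← IsScalarTower.algebraMap_apply, Submonoid.smul_def, Algebra.smul_def]
        ring
      rw [h1]
      exact hm.mul isIntegral_algebraMap
    obtain ⟨u, huS, hu⟩ := IsLocalization.exists_isIntegral_smul_of_isIntegral_map S hint
    refine ⟨u • ((m : A) • b'), hu, u * m * t, S.mul_mem (S.mul_mem huS m.2) htS, ?_⟩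
    rw [Algebra.smul_def, Algebra.smul_def, map_mul (algebraMap A Bs), map_mul (algebraMap A Bs),
      map_mul (algebraMap B Bs), map_mul (algebraMap B Bs), ← hxb,
      ← IsScalarTower.algebraMap_apply, ← IsScalarTower.algebraMap_apply,
      ← IsScalarTower.algebraMap_apply]
    ring
  · rintro ⟨b, hb, s, hs, hxs⟩
    have h1 : IsIntegral As (algebraMap B Bs b) :=
      (hb.map (IsScalarTower.toAlgHom A B Bs)).tower_top
    have hunit : IsUnit (algebraMap A As s) := IsLocalization.map_units As ⟨s, hs⟩
    obtain ⟨v, hv⟩ := hunit.exists_right_inv
    have hx : x = algebraMap B Bs b * algebraMap As Bs v := by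
      rw [← hxs, mul_assoc, IsScalarTower.algebraMap_apply A As Bs, ← map_mul, hv, map_one, mul_one]
    rw [hx]
    exact h1.mul isIntegral_algebraMap

end Groth.Agent.S9645
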