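import Groth.Statements.S9646
import Mathlib.RingTheory.Localization.Integral

set_option autoImplicit false
universe u
open CAlg

namespace Groth.Agent.S9646

/-- (2) ⇒ (1): let R → S be a ring map and x ∈ S. If for every prime ideal p of R the image of x in S_p
(the localization of S at the image of R ∖ p) is integral over R_p, then x is integral over R. Here
R_p and S_p are any rings satisfying the localization universal properties. -/
theorem result {R S : Type u} [CommRing R] [CommRing S] [Algebra R S] (x : S)
    (h : ∀ (p : Ideal R) [p.IsPrime] (Rp Sp : Type u) [CommRing Rp] [CommRing Sp] [Algebra R Rp] [Algebra S Sp] [Algebra Rp Sp] [Algebra R Sp] [IsScalarTower R S Sp] [IsScalarTower R Rp Sp] [IsLocalization.AtPrime Rp p] [IsLocalization (Algebra.algebraMapSubmonoid S p.primeCompl) Sp], IsIntegral Rp (algebraMap S Sp x)) :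
    IsIntegral R x := by
  classical
  -- the ideal of multipliers taking x into the integral closure
  let J : Ideal R :=
    { carrier := {r | IsIntegral R (r • x)}
      add_mem' := by
        intro a b ha hb
        simp only [Set.mem_setOf_eq] at *
        rw [add_smul]
        exact ha.add hb
      zero_mem' := by
        simp only [Set.mem_setOf_eq, zero_smul]
        exact isIntegral_zero
      smul_mem' := by
        intro c a ha
        simp only [Set.mem_setOf_eq] at *
        rw [smul_eq_mul, mul_smul]
        exact ha.smul c }
  have hJ : J = ⊤ := by
    by_contra hne
    obtain ⟨m, hm, hJm⟩ := Ideal.exists_le_maximal J hne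
    have hmp : m.IsPrime := hm.isPrime
    have hint := h m (Localization.AtPrime m)
      (Localization (Algebra.algebraMapSubmonoid S m.primeCompl))
    obtain ⟨a, ha⟩ := IsIntegral.exists_multiple_integral_of_isLocalization m.primeCompl _ hint
    have ha' : IsIntegral R (algebraMap S (Localization (Algebra.algebraMapSubmonoid S m.primeCompl))
        ((a : R) • x)) := by
      have : algebraMap S (Localization (Algebra.algebraMapSubmonoid S m.primeCompl)) ((a : R) • x)
          = a • algebraMap S (Localization (Algebra.algebraMapSubmonoid S m.primeCompl)) x := by
        rw [Submonoid.smul_def, Algebra.smul_def, Algebra.smul_def, map_mul,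
          ← IsScalarTower.algebraMap_apply]
      rw [this]
      exact ha
    obtain ⟨u, hu, hux⟩ := IsLocalization.exists_isIntegral_smul_of_isIntegral_map m.primeCompl ha'
    have hmem : u * (a : R) ∈ J := by
      change IsIntegral R ((u * (a : R)) • x)
      rw [mul_smul]
      exact hux
    have : u * (a : R) ∈ m := hJm hmem
    rcases hmp.mem_or_mem this with h1 | h1
    · exact hu h1
    · exact a.2 h1
  have h1 : (1 : R) ∈ J := by rw [hJ]; trivial
  have : IsIntegral R ((1 : R) • x) := h1
  rwa [one_smul] at this

end Groth.Agent.S9646
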