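import Groth.Statements.S9647
import Mathlib

set_option autoImplicit false
universe u
open CAlg

namespace Groth.Agent.S9647


section Generic

theorem exists_smul_eq_of_open_stabilizers {K B G : Type*} [Field K] [CommRing B] [Algebra K B]
    [Group G] [MulSemiringAction G B] [SMulCommClass G K B] [TopologicalSpace G] [CompactSpace G]
    [TotallyDisconnectedSpace G] [IsTopologicalGroup G]
    (hopen : ∀ b : B, ∃ H : Subgroup G, IsOpen (H : Set G) ∧ ∀ h ∈ H, h • b = b)
    [Algebra.IsInvariant K B G] (P Q : Ideal B) [P.IsPrime] [Q.IsPrime] :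
    ∃ g : G, Q = P.comap (MulSemiringAction.toRingAut G B g).symm := by
  letI : TopologicalSpace B := ⊥
  haveI : DiscreteTopology B := ⟨rfl⟩
  haveI : ContinuousSMul G B := ⟨by
    rw [continuous_discrete_rng]
    intro b'
    rw [isOpen_iff_mem_nhds]
    rintro ⟨g₀, b₀⟩ h0
    obtain ⟨H, hHo, hH⟩ := hopen b₀
    have hopen : IsOpen {g : G | g₀⁻¹ * g ∈ H} :=
      (continuous_const_mul g₀⁻¹).isOpen_preimage _ hHo
    have hmem : {g : G | g₀⁻¹ * g ∈ H} ×ˢ ({b₀} : Set B) ∈ nhds (g₀, b₀) :=
      prod_mem_nhds (hopen.mem_nhds (by simp [H.one_mem]))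
        ((isOpen_discrete _).mem_nhds rfl)
    refine Filter.mem_of_superset hmem ?_
    rintro ⟨g, b⟩ ⟨hg, hb⟩
    simp only [Set.mem_singleton_iff] at hb
    subst hb
    change g₀⁻¹ * g ∈ H at hg
    change g • b = b'
    have h1 : g • b = g₀ • ((g₀⁻¹ * g) • b) := by rw [← mul_smul, mul_inv_cancel_left]
    rw [h1, hH _ hg]
    exact h0⟩
  have hPQ : P.under K = Q.under K := by
    rw [Ideal.eq_bot_of_prime (P.under K), Ideal.eq_bot_of_prime (Q.under K)]
  obtain ⟨g, hg⟩ := Algebra.IsInvariant.exists_smul_of_under_eq_of_profinite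
    (A := K) (G := G) P Q hPQ
  refine ⟨g, ?_⟩
  rw [hg, Ideal.pointwise_smul_eq_comap]

end Generic

section Helpers
open TensorProduct

variable {k K : Type u} [Field k] [Field K] [Algebra k K]

local notation "L" => SeparableClosure k

/-- The action of the Galois group on the tensor product through the first factor. -/
noncomputable def galHom : (L ≃ₐ[k] L) →* ((L ⊗[k] K) ≃ₐ[k] (L ⊗[k] K)) where
  toFun σ := Algebra.TensorProduct.congr σ AlgEquiv.refl
  map_one' := by
    apply AlgEquiv.ext
    intro x
    induction x using TensorProduct.induction_on with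
    | zero => simp
    | tmul a b => simp
    | add x y hx hy => simp only [map_add, hx, hy]
  map_mul' σ τ := by
    apply AlgEquiv.ext
    intro x
    induction x using TensorProduct.induction_on with
    | zero => simp
    | tmul a b => simp
    | add x y hx hy => simp only [map_add, hx, hy]

theorem galHom_tmul (σ : L ≃ₐ[k] L) (a : L) (b : K) :
    galHom (K := K) σ (a ⊗ₜ[k] b) = σ a ⊗ₜ[k] b := by
  simp [galHom]

theorem galHom_apply (σ : L ≃ₐ[k] L) (x : L ⊗[k] K) :
    galHom (K := K) σ x =
      Algebra.TensorProduct.map (σ : L →ₐ[k] L) (AlgHom.id k K) x := by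
  induction x using TensorProduct.induction_on with
  | zero => simp
  | tmul a b => simp [galHom]
  | add x y hx hy => simp only [map_add, hx, hy]

/-- Each element of the tensor product is fixed by an open subgroup. -/
theorem exists_open_fixing (x : L ⊗[k] K) :
    ∃ H : Subgroup (L ≃ₐ[k] L), IsOpen (H : Set (L ≃ₐ[k] L)) ∧
      ∀ h ∈ H, galHom (K := K) h x = x := by
  induction x using TensorProduct.induction_on with
  | zero => exact ⟨⊤, isOpen_univ, fun h _ => map_zero _⟩
  | tmul a b =>
    let E : IntermediateField k L := IntermediateField.adjoin k {a}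
    haveI : FiniteDimensional k E := IntermediateField.adjoin.finiteDimensional
      (Algebra.IsIntegral.isIntegral a)
    refine ⟨E.fixingSubgroup, E.fixingSubgroup_isOpen, fun h hh => ?_⟩
    rw [galHom_tmul]
    have : h a = a := (IntermediateField.mem_fixingSubgroup_iff E h).mp hh a
      (IntermediateField.mem_adjoin_simple_self k a)
    rw [this]
  | add x y hx hy =>
    obtain ⟨H₁, h₁o, h₁⟩ := hx
    obtain ⟨H₂, h₂o, h₂⟩ := hy
    refine ⟨H₁ ⊓ H₂, ?_, fun h hh => ?_⟩
    · exact h₁o.inter h₂o
    · rw [map_add, h₁ h hh.1, h₂ h hh.2]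

/-- Fixed elements come from `K`. -/
theorem fixed_mem_range (x : L ⊗[k] K) (hx : ∀ σ : L ≃ₐ[k] L, galHom (K := K) σ x = x) :
    ∃ a : K, (1 : L) ⊗ₜ[k] a = x := by
  classical
  let e := Module.Free.chooseBasis k K
  let B := Algebra.TensorProduct.basis L e
  have hrepr : ∀ (σ : L ≃ₐ[k] L) (y : L ⊗[k] K) i, B.repr (galHom (K := K) σ y) i = σ (B.repr y i) := by
    intro σ y i
    induction y using TensorProduct.induction_on with
    | zero => simp
    | tmul a b =>
      rw [galHom_tmul]
      simp only [B, Algebra.TensorProduct.basis_repr_tmul, Finsupp.smul_apply,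
        Finsupp.mapRange_apply, smul_eq_mul, map_mul, AlgEquiv.commutes]
    | add y z hy hz => simp only [map_add, Finsupp.add_apply, hy, hz]
  have hfix : ∀ i, ∃ c : k, algebraMap k L c = B.repr x i := by
    intro i
    have h1 : B.repr x i ∈ (⊥ : IntermediateField k L) := by
      rw [InfiniteGalois.mem_bot_iff_fixed]
      intro σ
      rw [← hrepr, hx]
    exact IntermediateField.mem_bot.mp h1
  choose c hc using hfix
  refine ⟨∑ i ∈ (B.repr x).support, c i • e i, ?_⟩
  conv_rhs => rw [← B.linearCombination_repr x]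
  rw [Finsupp.linearCombination_apply, Finsupp.sum, TensorProduct.tmul_sum]
  refine Finset.sum_congr rfl fun i _ => ?_
  rw [Algebra.TensorProduct.basis_apply, ← hc i, TensorProduct.tmul_smul, TensorProduct.smul_tmul',
    TensorProduct.smul_tmul', Algebra.smul_def, mul_one, smul_eq_mul, mul_one]

end Helpers

open TensorProduct in
/-- Let K/k be a field extension and k^sep a separable algebraic closure of k. Then the automorphism
group of k^sep over k acts transitively on the primes of k^sep ⊗_k K: for any two primes P, Q there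
is a k-automorphism σ of k^sep with Q the inverse image of P under σ ⊗ id_K. -/
theorem result {k K : Type u} [Field k] [Field K] [Algebra k K]
    (P Q : Ideal (SeparableClosure k ⊗[k] K)) [P.IsPrime] [Q.IsPrime] :
    ∃ σ : SeparableClosure k ≃ₐ[k] SeparableClosure k, Q = P.comap (Algebra.TensorProduct.map (σ : SeparableClosure k →ₐ[k] SeparableClosure k) (AlgHom.id k K)) := by
  classical
  letI act : MulSemiringAction (SeparableClosure k ≃ₐ[k] SeparableClosure k)
      (SeparableClosure k ⊗[k] K) :=
    MulSemiringAction.compHom (SeparableClosure k ⊗[k] K) (galHom (K := K))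
  have smul_def : ∀ (g : SeparableClosure k ≃ₐ[k] SeparableClosure k)
      (b : SeparableClosure k ⊗[k] K), g • b = galHom (K := K) g b := fun _ _ => rfl
  letI alg : Algebra K (SeparableClosure k ⊗[k] K) := Algebra.TensorProduct.rightAlgebra
  haveI scc : SMulCommClass (SeparableClosure k ≃ₐ[k] SeparableClosure k) K
      (SeparableClosure k ⊗[k] K) := ⟨fun g c b => by
    rw [smul_def, smul_def, Algebra.smul_def, Algebra.smul_def, map_mul]
    congr 1
    change galHom (K := K) g ((1 : SeparableClosure k) ⊗ₜ[k] c) = (1 ⊗ₜ[k] c)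
    rw [galHom_tmul, map_one]⟩
  haveI inv : Algebra.IsInvariant K (SeparableClosure k ⊗[k] K)
      (SeparableClosure k ≃ₐ[k] SeparableClosure k) := ⟨fun b hb => by
    obtain ⟨a, ha⟩ := fixed_mem_range (K := K) b (fun σ => hb σ)
    exact ⟨a, ha⟩⟩
  obtain ⟨g, hg⟩ := @exists_smul_eq_of_open_stabilizers K (SeparableClosure k ⊗[k] K)
    (SeparableClosure k ≃ₐ[k] SeparableClosure k) _ _ alg _ act scc _ _ _ _
    (fun b => exists_open_fixing (K := K) b) inv P Q _ _
  refine ⟨g⁻¹, ?_⟩
  rw [hg]
  ext x
  simp only [Ideal.mem_comap]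
  have : (MulSemiringAction.toRingAut (SeparableClosure k ≃ₐ[k] SeparableClosure k)
      (SeparableClosure k ⊗[k] K) g).symm x =
      Algebra.TensorProduct.map
        ((g⁻¹ : SeparableClosure k ≃ₐ[k] SeparableClosure k) :
          SeparableClosure k →ₐ[k] SeparableClosure k)
        (AlgHom.id k K) x := by
    rw [← galHom_apply]
    rfl
  rw [← this]

end Groth.Agent.S9647
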