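import Groth.Statements.S9650
import Mathlib

set_option autoImplicit false
universe u
open CAlg

namespace Groth.Agent.S9650

/-- Let K/k be a finitely generated field extension that is separably generated, i.e. admits a
transcendence basis over whose generated subfield K is separable algebraic. Then K is generated over
k by finitely many elements x_1, …, x_r, y such that the x_i form a transcendence basis of K/k and y
is separable over the subfield k(x_1, …, x_r). -/
theorem result {k K : Type u} [Field k] [Field K] [Algebra k K]
    (hfg : ∃ s : Finset K, IntermediateField.adjoin k (s : Set K) = ⊤)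
    (hsep : ∃ (ι : Type u) (x : ι → K), IsTranscendenceBasis k x ∧ Algebra.IsSeparable (IntermediateField.adjoin k (Set.range x)) K) :
    ∃ (r : ℕ) (x : Fin r → K) (y : K), IsTranscendenceBasis k x ∧ IntermediateField.adjoin k (insert y (Set.range x)) = ⊤ ∧ IsSeparable (IntermediateField.adjoin k (Set.range x)) y := by
  classical
  obtain ⟨s, hs⟩ := hfg
  obtain ⟨ι, x, hx, hsepx⟩ := hsep
  haveI hess : Algebra.EssFiniteType k K := IntermediateField.fg_top_iff.mp ⟨s, hs⟩
  -- finiteness of the transcendence basis
  haveI halg : Algebra.IsAlgebraic (Algebra.adjoin k (s : Set K)) K := by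
    rw [← IntermediateField.isAlgebraic_adjoin_iff_top, hs, Algebra.isAlgebraic_iff_isIntegral]
    exact Algebra.isIntegral_of_surjective IntermediateField.topEquiv.surjective
  obtain ⟨t, hts, ht⟩ := exists_isTranscendenceBasis_subset (R := k) (s : Set K)
  haveI hfin : Finite ι := by
    have htfin : t.Finite := s.finite_toSet.subset hts
    haveI := htfin.to_subtype
    rw [← Cardinal.mk_lt_aleph0_iff, hx.cardinalMk_eq ht, Cardinal.mk_lt_aleph0_iff]
    infer_instance
  set r := Nat.card ι with hr
  have e : ι ≃ Fin r := Finite.equivFin ι
  set x' : Fin r → K := x ∘ e.symm with hx'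
  have hx'b : IsTranscendenceBasis k x' := hx.comp_equiv e.symm
  have hrange : Set.range x' = Set.range x := by
    rw [hx', Set.range_comp, Equiv.range_eq_univ, Set.image_univ]
  set L := IntermediateField.adjoin k (Set.range x) with hL
  haveI : Algebra.IsSeparable L K := hsepx
  haveI : Algebra.EssFiniteType L K := .of_comp k _ _
  haveI : Module.Finite L K := Algebra.finite_of_essFiniteType_of_isAlgebraic
  obtain ⟨y, hy⟩ := Field.exists_primitive_element L K
  refine ⟨r, x', y, hx'b, ?_, ?_⟩
  · rw [hrange]
    have h1 := IntermediateField.adjoin_adjoin_left k (Set.range x) ({y} : Set K)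
    rw [hy] at h1
    rw [Set.insert_eq, Set.union_comm, ← h1]
    rfl
  · rw [hrange]
    exact Algebra.IsSeparable.isSeparable L y

end Groth.Agent.S9650
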