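import Groth.Statements.S9654
import Mathlib
-- import your own Groth.Agent.* helpers here

set_option autoImplicit false
universe u
open CAlg

namespace Groth.Agent.S9654

namespace Aux
open Polynomial

section gen
variable {R L : Type*} [CommRing R] [CommRing L] [Algebra R L]

theorem isIntegral_of_mul_mem (N : Submodule R L) (h1 : (1:L) ∈ N) (hN : N.FG) (z : L)
    (hz : ∀ n ∈ N, z * n ∈ N) : IsIntegral R z := by
  let A' : Subalgebra R L :=
    { carrier := { x | ∀ n ∈ N, x * n ∈ N }
      mul_mem' := fun {a b} ha hb n hn => by rw [mul_assoc]; exact ha _ (hb _ hn)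
      one_mem' := fun n hn => by rw [one_mul]; exact hn
      add_mem' := fun {a b} ha hb n hn => by rw [add_mul]; exact N.add_mem (ha _ hn) (hb _ hn)
      zero_mem' := fun n _ => by rw [zero_mul]; exact N.zero_mem
      algebraMap_mem' := fun r n hn => by rw [← Algebra.smul_def]; exact N.smul_mem r hn }
  let f : A' →ₐ[R] Module.End R N :=
    AlgHom.ofLinearMap
      { toFun := fun x => (LinearMap.mulLeft R (x : L)).restrict x.prop
        map_add' := by intro x y; ext; exact add_mul _ _ _
        map_smul' := by intro r s; ext; exact smul_mul_assoc _ _ _ }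
      (by ext; exact one_mul _)
      (by intro x y; ext; exact mul_assoc _ _ _)
  have : Function.Injective f := by
    rw [injective_iff_map_eq_zero]
    intro s hs
    have : s.1 * 1 = 0 := congr_arg Subtype.val (LinearMap.congr_fun hs ⟨1, h1⟩)
    exact Subtype.ext (by simpa using this)
  have hfin : Module.Finite R N := by rwa [Module.Finite.iff_fg]
  have h2 : IsIntegral R (f ⟨z, hz⟩) := Algebra.IsIntegral.isIntegral _
  have h3 : IsIntegral R (⟨z, hz⟩ : A') := by
    obtain ⟨p, hp, hp0⟩ := h2
    refine ⟨p, hp, this ?_⟩
    rw [map_zero]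
    rw [← hp0]
    exact (Polynomial.hom_eval₂ p (algebraMap R A') f.toRingHom ⟨z, hz⟩).trans (by
      congr 1
      exact f.comp_algebraMap)
  exact h3.map A'.val

theorem pow_mul_pow_cases (a b : L) (hab : a * b = 1) (k j : ℕ) :
    a ^ k * b ^ j = if j ≤ k then a ^ (k - j) else b ^ (j - k) := by
  split_ifs with h
  · obtain ⟨d, rfl⟩ := Nat.exists_eq_add_of_le h
    rw [Nat.add_sub_cancel_left, pow_add, mul_comm (a ^ j), mul_assoc, ← mul_pow, hab, one_pow,
      mul_one]
  · push Not at h
    obtain ⟨d, rfl⟩ := Nat.exists_eq_add_of_le h.le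
    rw [Nat.add_sub_cancel_left, pow_add, ← mul_assoc, ← mul_pow, hab, one_pow, one_mul]

theorem integral_of_mem_both (a b : L) (hab : a * b = 1) (z : L)
    (hza : z ∈ Algebra.adjoin R {a}) (hzb : z ∈ Algebra.adjoin R {b}) : IsIntegral R z := by
  rw [Algebra.adjoin_singleton_eq_range_aeval] at hza hzb
  obtain ⟨P, hP⟩ := hza
  obtain ⟨Q, hQ⟩ := hzb
  change aeval a P = z at hP
  change aeval b Q = z at hQ
  let n := P.natDegree
  let m := Q.natDegree
  let N : Submodule R L :=
    Submodule.span R ((fun k => a ^ k) '' {k | k ≤ n} ∪ (fun k => b ^ k) '' {k | k ≤ m})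
  have hfg : N.FG :=
    Submodule.fg_span (((Set.finite_le_nat n).image _).union ((Set.finite_le_nat m).image _))
  have ha_mem : ∀ k ≤ n, a ^ k ∈ N := fun k hk =>
    Submodule.subset_span (Or.inl ⟨k, hk, rfl⟩)
  have hb_mem : ∀ k ≤ m, b ^ k ∈ N := fun k hk =>
    Submodule.subset_span (Or.inr ⟨k, hk, rfl⟩)
  have key : ∀ k ≤ n, ∀ j ≤ m, a ^ k * b ^ j ∈ N := by
    intro k hk j hj
    rw [pow_mul_pow_cases a b hab]
    split_ifs with h
    · exact ha_mem _ (le_trans (Nat.sub_le _ _) hk)
    · exact hb_mem _ (le_trans (Nat.sub_le _ _) hj)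
  have h1 : (1 : L) ∈ N := by
    have := ha_mem 0 (Nat.zero_le _)
    rwa [pow_zero] at this
  refine isIntegral_of_mul_mem N h1 hfg z ?_
  intro w hw
  induction hw using Submodule.span_induction with
  | mem w hw =>
    rcases hw with ⟨k, hk, rfl⟩ | ⟨j, hj, rfl⟩
    · -- use Q
      show z * a ^ k ∈ N
      rw [← hQ, aeval_eq_sum_range, Finset.sum_mul]
      refine N.sum_mem fun j hj => ?_
      rw [smul_mul_assoc, mul_comm]
      exact N.smul_mem _ (key k hk j (Nat.lt_succ_iff.mp (Finset.mem_range.mp hj)))
    · show z * b ^ j ∈ N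
      rw [← hP, aeval_eq_sum_range, Finset.sum_mul]
      refine N.sum_mem fun k hk => ?_
      rw [smul_mul_assoc]
      exact N.smul_mem _ (key k (Nat.lt_succ_iff.mp (Finset.mem_range.mp hk)) j hj)
  | zero => rw [mul_zero]; exact N.zero_mem
  | add u v _ _ hu hv => rw [mul_add]; exact N.add_mem hu hv
  | smul r u _ hu => rw [mul_smul_comm]; exact N.smul_mem r hu

theorem sup_eq (a b : L) (hab : a * b = 1) :
    (Algebra.adjoin R {a}).toSubmodule ⊔ (Algebra.adjoin R {b}).toSubmodule =
      (Algebra.adjoin R {a, b}).toSubmodule := by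
  apply le_antisymm
  · refine sup_le ?_ ?_
    · exact Subalgebra.toSubmodule.monotone (Algebra.adjoin_mono (by simp))
    · exact Subalgebra.toSubmodule.monotone (Algebra.adjoin_mono (by simp))
  · have : ({a, b} : Set L) = {a} ∪ {b} := Set.insert_eq a {b}
    rw [this, Algebra.adjoin_union_coe_submodule, Submodule.mul_le]
    intro u hu v hv
    rw [Subalgebra.mem_toSubmodule, Algebra.adjoin_singleton_eq_range_aeval] at hu hv
    obtain ⟨P, hP⟩ := hu
    obtain ⟨Q, hQ⟩ := hv
    change aeval a P = u at hP
    change aeval b Q = v at hQ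
    rw [← hP, ← hQ]
    rw [aeval_eq_sum_range, aeval_eq_sum_range, Finset.sum_mul]
    refine Submodule.sum_mem _ fun k _ => ?_
    rw [Finset.mul_sum]
    refine Submodule.sum_mem _ fun j _ => ?_
    rw [smul_mul_smul_comm, pow_mul_pow_cases a b hab]
    refine Submodule.smul_mem _ _ ?_
    split_ifs with h
    · exact Submodule.mem_sup_left (Subalgebra.pow_mem _ (Algebra.self_mem_adjoin_singleton R a) _)
    · exact Submodule.mem_sup_right (Subalgebra.pow_mem _ (Algebra.self_mem_adjoin_singleton R b) _)

end gen

theorem mem_range_of_integral {R : Type u} [CommRing R] {L : Type u} [CommRing L] [Algebra R L]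
    (hinj : Function.Injective (algebraMap R L)) (t s : R) (hu : IsUnit (algebraMap R L t))
    [IsIntegrallyClosedIn R (Localization.Away t)]
    (c : L) (hc : algebraMap R L t * c = algebraMap R L s) (z : L)
    (hz : z ∈ Algebra.adjoin R {c}) (hzi : IsIntegral R z) : z ∈ (⊥ : Subalgebra R L) := by
  have hu' : IsUnit ((Algebra.ofId R L) t) := hu
  let f : Localization.Away t →ₐ[R] L := IsLocalization.Away.liftAlgHom t (f := Algebra.ofId R L) hu'
  have hf : Function.Injective f := by
    show Function.Injective (IsLocalization.Away.lift t hu')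
    unfold IsLocalization.Away.lift
    rw [IsLocalization.lift_injective_iff]
    intro r r'
    constructor
    · intro h
      have := congrArg f h
      rwa [f.commutes, f.commutes] at this
    · intro h
      rw [hinj h]
  let c' : Localization.Away t := algebraMap R _ s * IsLocalization.Away.invSelf t
  have hc' : f c' = c := by
    have h1 : algebraMap R L t * f c' = algebraMap R L s := by
      rw [← f.commutes t, ← map_mul]
      show f (algebraMap R _ t * (algebraMap R _ s * IsLocalization.Away.invSelf t)) = _
      rw [mul_left_comm, IsLocalization.Away.mul_invSelf, mul_one, f.commutes]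
    exact hu.mul_left_cancel (h1.trans hc.symm)
  have hz' : z ∈ (Algebra.adjoin R {c'}).map f := by
    rw [AlgHom.map_adjoin, Set.image_singleton, hc']
    exact hz
  obtain ⟨z', _, rfl⟩ := hz'
  have hzi' : IsIntegral R z' := (isIntegral_algHom_iff f hf).mp hzi
  obtain ⟨r, rfl⟩ := IsIntegrallyClosedIn.isIntegral_iff.mp hzi'
  rw [Algebra.mem_bot]
  exact ⟨r, (f.commutes r).symm⟩

theorem main {R : Type u} [CommRing R] (x y : R) (hx : x ∈ nonZeroDivisors R) (hy : y ∈ nonZeroDivisors R)
    (hint : IsIntegrallyClosedIn R (Localization.Away x) ∨ IsIntegrallyClosedIn R (Localization.Away y)) :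
    (Algebra.adjoin R {algebraMap R (Localization.Away (x * y)) (x * x) * IsLocalization.Away.invSelf (x * y)}).toSubmodule ⊓
        (Algebra.adjoin R {algebraMap R (Localization.Away (x * y)) (y * y) * IsLocalization.Away.invSelf (x * y)}).toSubmodule =
        (⊥ : Subalgebra R (Localization.Away (x * y))).toSubmodule ∧
      (Algebra.adjoin R {algebraMap R (Localization.Away (x * y)) (x * x) * IsLocalization.Away.invSelf (x * y)}).toSubmodule ⊔
        (Algebra.adjoin R {algebraMap R (Localization.Away (x * y)) (y * y) * IsLocalization.Away.invSelf (x * y)}).toSubmodule =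
        (Algebra.adjoin R {algebraMap R (Localization.Away (x * y)) (x * x) * IsLocalization.Away.invSelf (x * y), algebraMap R (Localization.Away (x * y)) (y * y) * IsLocalization.Away.invSelf (x * y)}).toSubmodule := by
  set L := Localization.Away (x * y)
  set u : L := IsLocalization.Away.invSelf (x * y)
  have hu : algebraMap R L (x * y) * u = 1 := IsLocalization.Away.mul_invSelf _
  have hu2 : algebraMap R L x * algebraMap R L y * u = 1 := by rw [← map_mul]; exact hu
  have hab : (algebraMap R L (x * x) * u) * (algebraMap R L (y * y) * u) = 1 := by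
    have : (algebraMap R L (x * x) * u) * (algebraMap R L (y * y) * u) =
        (algebraMap R L (x * y) * u) * (algebraMap R L (x * y) * u) := by
      simp only [map_mul]; ring
    rw [this, hu, one_mul]
  have hinj : Function.Injective (algebraMap R L) :=
    IsLocalization.injective L (M := Submonoid.powers (x * y))
      (Submonoid.powers_le.mpr (mul_mem hx hy))
  have hux : IsUnit (algebraMap R L x) :=
    IsUnit.of_mul_eq_one (algebraMap R L y * u) (by rw [← mul_assoc, ← map_mul]; exact hu)
  have huy : IsUnit (algebraMap R L y) :=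
    IsUnit.of_mul_eq_one (algebraMap R L x * u) (by
      rw [← mul_assoc, ← map_mul, mul_comm y x]; exact hu)
  refine ⟨?_, sup_eq _ _ hab⟩
  apply le_antisymm
  · intro z hz
    obtain ⟨hza, hzb⟩ := hz
    have hzi : IsIntegral R z := integral_of_mem_both _ _ hab z hza hzb
    rcases hint with h | h
    · exact mem_range_of_integral hinj x y hux (algebraMap R L (y * y) * u) (by
        calc algebraMap R L x * (algebraMap R L (y * y) * u)
            = algebraMap R L y * (algebraMap R L x * algebraMap R L y * u) := by
              rw [map_mul]; ring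
          _ = _ := by rw [hu2, mul_one]) z hzb hzi
    · exact mem_range_of_integral hinj y x huy (algebraMap R L (x * x) * u) (by
        calc algebraMap R L y * (algebraMap R L (x * x) * u)
            = algebraMap R L x * (algebraMap R L x * algebraMap R L y * u) := by
              rw [map_mul]; ring
          _ = _ := by rw [hu2, mul_one]) z hza hzi
  · refine le_inf ?_ ?_ <;> exact Subalgebra.toSubmodule.monotone bot_le

end Aux

/-- Let R be a ring and x, y ∈ R nonzerodivisors. In the localization R_{xy} let a = x/y and b = y/x,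
and let R[a], R[b], R[a, b] be the R-subalgebras they generate. If R is integrally closed in R_x or
in R_y, then the sequence 0 → R → R[a] ⊕ R[b] → R[a, b] → 0 (difference map, then sum map) is short
exact; equivalently R[a] ∩ R[b] is the image of R and R[a] + R[b] = R[a, b] inside R_{xy}. -/
theorem result {R : Type u} [CommRing R] (x y : R) (hx : x ∈ nonZeroDivisors R) (hy : y ∈ nonZeroDivisors R)
    (hint : IsIntegrallyClosedIn R (Localization.Away x) ∨ IsIntegrallyClosedIn R (Localization.Away y)) :
    (Algebra.adjoin R {algebraMap R (Localization.Away (x * y)) (x * x) * IsLocalization.Away.invSelf (x * y)}).toSubmodule ⊓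
        (Algebra.adjoin R {algebraMap R (Localization.Away (x * y)) (y * y) * IsLocalization.Away.invSelf (x * y)}).toSubmodule =
        (⊥ : Subalgebra R (Localization.Away (x * y))).toSubmodule ∧
      (Algebra.adjoin R {algebraMap R (Localization.Away (x * y)) (x * x) * IsLocalization.Away.invSelf (x * y)}).toSubmodule ⊔
        (Algebra.adjoin R {algebraMap R (Localization.Away (x * y)) (y * y) * IsLocalization.Away.invSelf (x * y)}).toSubmodule =
        (Algebra.adjoin R {algebraMap R (Localization.Away (x * y)) (x * x) * IsLocalization.Away.invSelf (x * y), algebraMap R (Localization.Away (x * y)) (y * y) * IsLocalization.Away.invSelf (x * y)}).toSubmodule := by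
  exact Aux.main x y hx hy hint

end Groth.Agent.S9654
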