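import Groth.Statements.S9656

set_option autoImplicit false
universe u
open CAlg

namespace Groth.Agent.S9656

/-- Let R_i → S_i be ring maps indexed by a finite type ι, with product map R = Π R_i → S = Π S_i. Then
an element (s_i) of S is integral over R exactly when s_i is integral over R_i for every i; so
integral closure in a finite product is computed factor by factor. -/
theorem result {ι : Type u} [Fintype ι] {R S : ι → Type u} [∀ i, CommRing (R i)] [∀ i, CommRing (S i)] (f : ∀ i, R i →+* S i) (s : ∀ i, S i) :
    (RingHom.pi fun i => (f i).comp (Pi.evalRingHom R i)).IsIntegralElem s ↔ ∀ i, (f i).IsIntegralElem (s i) := by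
  classical
  set F := RingHom.pi fun i => (f i).comp (Pi.evalRingHom R i) with hF
  have hcomp : ∀ i, (Pi.evalRingHom S i).comp F = (f i).comp (Pi.evalRingHom R i) := by
    intro i
    ext r
    rfl
  have key : ∀ (p : Polynomial (∀ i, R i)) (i : ι),
      (Polynomial.eval₂ F s p) i = Polynomial.eval₂ (f i) (s i) (p.map (Pi.evalRingHom R i)) := by
    intro p i
    have := Polynomial.hom_eval₂ p F (Pi.evalRingHom S i) s
    rw [hcomp] at this
    rw [Polynomial.eval₂_map]
    exact this
  constructor
  · rintro ⟨p, hp, hps⟩ i
    refine ⟨p.map (Pi.evalRingHom R i), hp.map _, ?_⟩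
    rw [← key, hps]
    rfl
  · intro h
    choose p hp hps using h
    set n := Finset.univ.sup (fun i => (p i).natDegree) with hn
    have hle : ∀ i, (p i).natDegree ≤ n := fun i => Finset.le_sup (f := fun i => (p i).natDegree) (Finset.mem_univ i)
    set q : ∀ i, Polynomial (R i) := fun i => p i * Polynomial.X ^ (n - (p i).natDegree) with hq
    have hqdeg : ∀ i, (q i).natDegree ≤ n := by
      intro i
      refine (Polynomial.natDegree_mul_le).trans ?_
      have := Polynomial.natDegree_X_pow_le (R := R i) (n - (p i).natDegree)
      have := hle i
      omega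
    have hqcoeff : ∀ i, (q i).coeff n = 1 := by
      intro i
      have h1 : n = (p i).natDegree + (n - (p i).natDegree) := by have := hle i; omega
      rw [hq]
      simp only
      generalize hm : n - (p i).natDegree = m at h1 ⊢
      rw [h1, Polynomial.coeff_mul_X_pow]
      exact (hp i).coeff_natDegree
    have hqs : ∀ i, Polynomial.eval₂ (f i) (s i) (q i) = 0 := by
      intro i
      rw [hq]
      simp only
      rw [Polynomial.eval₂_mul, hps i, zero_mul]
    set P : Polynomial (∀ i, R i) :=
      ∑ k ∈ Finset.range (n + 1), Polynomial.monomial k (fun i => (q i).coeff k) with hP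
    have hPcoeff : ∀ k, P.coeff k = fun i => (q i).coeff k := by
      intro k
      rw [hP, Polynomial.finset_sum_coeff]
      simp only [Polynomial.coeff_monomial]
      rw [Finset.sum_ite_eq' (Finset.range (n + 1)) k]
      split_ifs with hk
      · rfl
      · funext i
        have : n < k := by
          rw [Finset.mem_range] at hk
          omega
        exact (Polynomial.coeff_eq_zero_of_natDegree_lt (lt_of_le_of_lt (hqdeg i) this)).symm
    have hPmap : ∀ i, P.map (Pi.evalRingHom R i) = q i := by
      intro i
      ext k
      rw [Polynomial.coeff_map, hPcoeff]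
      rfl
    have hPdeg : P.natDegree ≤ n := by
      rw [Polynomial.natDegree_le_iff_coeff_eq_zero]
      intro k hk
      rw [hPcoeff]
      funext i
      exact Polynomial.coeff_eq_zero_of_natDegree_lt (lt_of_le_of_lt (hqdeg i) hk)
    have hPmonic : P.Monic := by
      apply Polynomial.monic_of_natDegree_le_of_coeff_eq_one n hPdeg
      rw [hPcoeff]
      funext i
      exact hqcoeff i
    refine ⟨P, hPmonic, ?_⟩
    funext i
    rw [key, hPmap, hqs]
    rfl

end Groth.Agent.S9656
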