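import Groth.Statements.S9657
import Groth.Agent.Lib.Helper6.RatFuncIrr

set_option autoImplicit false
universe u
open CAlg

namespace Groth.Agent.S9657

open TensorProduct in
/-- Let K/k be a field extension and let k(t) ⊆ K(t) be the purely transcendental extensions in one
variable, realised as fraction fields of k[t] and K[t] compatibly with k[t] → K[t]. Then K is
geometrically irreducible over k (Spec(k' ⊗_k K) irreducible for every field extension k'/k) if and
only if K(t) is geometrically irreducible over k(t). Here the test fields range over field
extensions of k, respectively of k(t), in the universe of k; this is equivalent to the unrestricted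
notions, since an algebraic closure of the base field suffices as a test. -/
theorem result {k K : Type u} [Field k] [Field K] [Algebra k K]
    (kt Kt : Type u) [Field kt] [Field Kt] [Algebra (Polynomial k) kt] [IsFractionRing (Polynomial k) kt] [Algebra (Polynomial K) Kt] [IsFractionRing (Polynomial K) Kt]
    [Algebra kt Kt] (hcompat : ∀ p : Polynomial k, algebraMap kt Kt (algebraMap (Polynomial k) kt p) = algebraMap (Polynomial K) Kt (Polynomial.map (algebraMap k K) p)) :
    (∀ (k' : Type u) [Field k'] [Algebra k k'], IrreducibleSpace (PrimeSpectrum (k' ⊗[k] K))) ↔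
      ∀ (L : Type u) [Field L] [Algebra kt L], IrreducibleSpace (PrimeSpectrum (L ⊗[kt] Kt)) := by
  classical
  let _ : Algebra k kt := ((algebraMap (Polynomial k) kt).comp Polynomial.C).toAlgebra
  have hst1 : IsScalarTower k (Polynomial k) kt := IsScalarTower.of_algebraMap_eq fun _ => rfl
  let _ : Algebra K Kt := ((algebraMap (Polynomial K) Kt).comp Polynomial.C).toAlgebra
  have hst2 : IsScalarTower K (Polynomial K) Kt := IsScalarTower.of_algebraMap_eq fun _ => rfl
  let _ : Algebra k Kt := ((algebraMap kt Kt).comp (algebraMap k kt)).toAlgebra
  have hst3 : IsScalarTower k kt Kt := IsScalarTower.of_algebraMap_eq fun _ => rfl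
  have hst4 : IsScalarTower k K Kt := IsScalarTower.of_algebraMap_eq fun a => by
    have h1 := hcompat (Polynomial.C a)
    rw [Polynomial.map_C] at h1
    exact h1
  constructor
  · intro h1 L _ _
    let _ : Algebra k L := ((algebraMap kt L).comp (algebraMap k kt)).toAlgebra
    have hst5 : IsScalarTower k kt L := IsScalarTower.of_algebraMap_eq fun _ => rfl
    exact Lib.Helper6.RatFuncIrr.irreducibleSpace_of_locData
      (Lib.Helper6.RatFuncIrr.psi_injective kt Kt hcompat)
      (Lib.Helper6.RatFuncIrr.psi_frac kt Kt hcompat) L (h1 L)
  · intro h2
    have hsc : ∀ α : K, IsSeparable k α → α ∈ Set.range (algebraMap k K) := by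
      intro α hα
      have h3 : IsSeparable kt (algebraMap K Kt α) :=
        (hα.map (IsScalarTower.toAlgHom k K Kt) (IsScalarTower.toAlgHom k K Kt).toRingHom.injective).tower_top kt
      obtain ⟨f, hf⟩ := Lib.Helper6.GeomIrr.mem_range_of_geomIrr h2 _ h3
      exact Lib.Helper6.RatFuncIrr.mem_range_of_mem_kt kt Kt hcompat α f hf
    intro k' _ _
    exact Lib.Helper6.GeomIrr.irreducibleSpace_of_sepClosedIn hsc k'

end Groth.Agent.S9657
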