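import Groth.Statements.S9658
import Mathlib

set_option autoImplicit false
universe u
open CAlg

namespace Groth.Agent.S9658

/-- Let R be a ring, f_1, …, f_n ∈ R generating the unit ideal and M an R-module. With M_i = M_{f_i},
M_ij = M_{f_i f_j} (any localizations, with the canonical compatible maps M → M_i → M_ij), the
sequence 0 → M → ⊕ M_i → ⊕ M_ij is exact: an element of M whose image vanishes in every M_i is zero,
and every family (m_i ∈ M_i) such that m_i and m_j have the same image in M_ij for all i, j is the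
image of an element of M. -/
theorem result {R : Type u} [CommRing R] {ι : Type u} [Fintype ι] (f : ι → R) (hf : Ideal.span (Set.range f) = ⊤)
    (M : Type u) [AddCommGroup M] [Module R M]
    (Mi : ι → Type u) [∀ i, AddCommGroup (Mi i)] [∀ i, Module R (Mi i)] (g : ∀ i, M →ₗ[R] Mi i) [∀ i, IsLocalizedModule (Submonoid.powers (f i)) (g i)]
    (Mij : ι → ι → Type u) [∀ i j, AddCommGroup (Mij i j)] [∀ i j, Module R (Mij i j)] (gij : ∀ i j, M →ₗ[R] Mij i j) [∀ i j, IsLocalizedModule (Submonoid.powers (f i * f j)) (gij i j)]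
    (ρ₁ : ∀ i j, Mi i →ₗ[R] Mij i j) (hρ₁ : ∀ i j, ρ₁ i j ∘ₗ g i = gij i j) (ρ₂ : ∀ i j, Mi j →ₗ[R] Mij i j) (hρ₂ : ∀ i j, ρ₂ i j ∘ₗ g j = gij i j) :
    (∀ m : M, (∀ i, g i m = 0) → m = 0) ∧
      ∀ s : ∀ i, Mi i, (∀ i j, ρ₁ i j (s i) = ρ₂ i j (s j)) → ∃ m : M, ∀ i, g i m = s i := by
  classical
  have hone : ∀ N : ℕ, ∃ c : ι → R, ∑ i, c i * f i ^ N = 1 := by
    intro N
    have h1 := Ideal.span_pow_eq_top (Set.range f) hf N
    rw [← Set.range_comp] at h1
    have : (1 : R) ∈ Ideal.span (Set.range ((fun x => x ^ N) ∘ f)) := by rw [h1]; trivial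
    obtain ⟨c, hc⟩ := Ideal.mem_span_range_iff_exists_fun.mp this
    exact ⟨c, hc⟩
  have hpow0 : ∀ i (x : M), g i x = 0 → ∃ n : ℕ, f i ^ n • x = 0 := by
    intro i x hx
    obtain ⟨⟨_, n, rfl⟩, hs⟩ :=
      (IsLocalizedModule.eq_zero_iff (Submonoid.powers (f i)) (g i)).mp hx
    exact ⟨n, hs⟩
  have hpow0' : ∀ i j (x : M), gij i j x = 0 → ∃ n : ℕ, (f i * f j) ^ n • x = 0 := by
    intro i j x hx
    obtain ⟨⟨_, n, rfl⟩, hs⟩ :=
      (IsLocalizedModule.eq_zero_iff (Submonoid.powers (f i * f j)) (gij i j)).mp hx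
    exact ⟨n, hs⟩
  have hinj : ∀ i (N : ℕ) (x y : Mi i), f i ^ N • x = f i ^ N • y → x = y := by
    intro i N x y hxy
    exact IsLocalizedModule.smul_injective (g i)
      (⟨f i ^ N, N, rfl⟩ : Submonoid.powers (f i)) hxy
  constructor
  · intro m hm
    choose n hn using fun i => hpow0 i m (hm i)
    set N := ∑ i, n i with hNdef
    have hN : ∀ i, f i ^ N • m = 0 := by
      intro i
      have : N = (N - n i) + n i :=
        (Nat.sub_add_cancel (Finset.single_le_sum (fun _ _ => Nat.zero_le _)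
          (Finset.mem_univ i))).symm
      rw [this, pow_add, mul_smul, hn, smul_zero]
    obtain ⟨c, hc⟩ := hone N
    calc m = (1 : R) • m := (one_smul _ _).symm
      _ = (∑ i, c i * f i ^ N) • m := by rw [hc]
      _ = ∑ i, (c i * f i ^ N) • m := Finset.sum_smul
      _ = 0 := Finset.sum_eq_zero (fun i _ => by rw [mul_smul, hN, smul_zero])
  · intro s hs
    have hsurj : ∀ i, ∃ (n : ℕ) (m : M), f i ^ n • s i = g i m := by
      intro i
      obtain ⟨⟨m, ⟨_, n, rfl⟩⟩, h⟩ := IsLocalizedModule.surj (Submonoid.powers (f i)) (g i) (s i)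
      exact ⟨n, m, h⟩
    choose n0 m0 h0 using hsurj
    set N0 := ∑ i, n0 i with hN0
    obtain ⟨m1, hm1⟩ : ∃ m1 : ι → M, ∀ i, m1 i = f i ^ (N0 - n0 i) • m0 i := ⟨_, fun _ => rfl⟩
    have h1 : ∀ i, f i ^ N0 • s i = g i (m1 i) := by
      intro i
      have : N0 = (N0 - n0 i) + n0 i :=
        (Nat.sub_add_cancel (Finset.single_le_sum (fun _ _ => Nat.zero_le _)
          (Finset.mem_univ i))).symm
      rw [hm1, map_smul, ← h0 i, ← mul_smul, ← pow_add, ← this]
    have hcomp : ∀ i j, gij i j (f j ^ N0 • m1 i - f i ^ N0 • m1 j) = 0 := by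
      intro i j
      rw [map_sub, sub_eq_zero, map_smul (gij i j) (f j ^ N0) (m1 i),
        map_smul (gij i j) (f i ^ N0) (m1 j)]
      have e1 : gij i j (m1 i) = ρ₁ i j (g i (m1 i)) := by
        rw [← hρ₁ i j]; rfl
      have e2 : gij i j (m1 j) = ρ₂ i j (g j (m1 j)) := by
        rw [← hρ₂ i j]; rfl
      rw [e1, e2, ← h1 i, ← h1 j, map_smul, map_smul, hs i j, smul_smul, smul_smul, mul_comm]
    choose K hK using fun i j => hpow0' i j _ (hcomp i j)
    set K0 := ∑ i, ∑ j, K i j with hK0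
    have hK' : ∀ i j, (f i * f j) ^ K0 • (f j ^ N0 • m1 i - f i ^ N0 • m1 j) = 0 := by
      intro i j
      have hle : K i j ≤ K0 := by
        calc K i j ≤ ∑ j', K i j' :=
              Finset.single_le_sum (f := fun j' => K i j') (fun _ _ => Nat.zero_le _)
                (Finset.mem_univ j)
          _ ≤ K0 := Finset.single_le_sum (f := fun i' => ∑ j', K i' j')
                (fun _ _ => Nat.zero_le _) (Finset.mem_univ i)
      have : K0 = (K0 - K i j) + K i j := (Nat.sub_add_cancel hle).symm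
      rw [this, pow_add, mul_smul, hK, smul_zero]
    obtain ⟨m2, hm2⟩ : ∃ m2 : ι → M, ∀ i, m2 i = f i ^ K0 • m1 i := ⟨_, fun _ => rfl⟩
    set N := N0 + K0 with hN
    have h2 : ∀ i, f i ^ N • s i = g i (m2 i) := by
      intro i
      rw [hm2, map_smul, ← h1 i, ← mul_smul, ← pow_add, add_comm]
    have key : ∀ i j, f j ^ N • m2 i = f i ^ N • m2 j := by
      intro i j
      have := hK' i j
      rw [smul_sub, sub_eq_zero] at this
      rw [hm2, hm2]
      rw [hN, pow_add, pow_add, ← mul_smul, ← mul_smul]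
      rw [mul_pow, ← mul_smul, ← mul_smul] at this
      have a1 : f j ^ N0 * f j ^ K0 * f i ^ K0 = f i ^ K0 * f j ^ K0 * f j ^ N0 := by ring
      have a2 : f i ^ N0 * f i ^ K0 * f j ^ K0 = f i ^ K0 * f j ^ K0 * f i ^ N0 := by ring
      rw [a1, a2]
      exact this
    obtain ⟨c, hc⟩ := hone N
    refine ⟨∑ j, c j • m2 j, fun i => ?_⟩
    apply hinj i N
    rw [h2 i, ← map_smul, Finset.smul_sum]
    congr 1
    calc ∑ j, f i ^ N • c j • m2 j = ∑ j, (c j * f j ^ N) • m2 i := by
          refine Finset.sum_congr rfl fun j _ => ?_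
          rw [smul_comm, ← key i j, mul_smul]
      _ = (∑ j, c j * f j ^ N) • m2 i := Finset.sum_smul.symm
      _ = m2 i := by rw [hc, one_smul]

end Groth.Agent.S9658
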