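import Groth.Statements.S9659
import Mathlib

set_option autoImplicit false
universe u
open CAlg

namespace Groth.Agent.S9659

section


open DirectSum

section
variable {R S : Type u} [CommRing R] [CommRing S] [Algebra R S] (𝒜 : ℤ → Submodule R S)
  [GradedAlgebra 𝒜]

theorem inv_mem (u : Sˣ) (d : ℤ) (hf : (u : S) ∈ 𝒜 d) : ((u⁻¹ : Sˣ) : S) ∈ 𝒜 (-d) := by
  have h1 : (decompose 𝒜 ((u : S) * ((u⁻¹ : Sˣ) : S)) (d + -d) : S) =
      (u : S) * decompose 𝒜 ((u⁻¹ : Sˣ) : S) (-d) :=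
    coe_decompose_mul_add_of_left_mem 𝒜 hf
  have h2 : ∀ k : ℤ, k = 0 → (decompose 𝒜 (1 : S) k : S) = 1 := by
    intro k hk
    subst hk
    exact decompose_of_mem_same 𝒜 SetLike.GradedOne.one_mem
  rw [Units.mul_inv, h2 _ (add_neg_cancel d)] at h1
  have h3 : ((u⁻¹ : Sˣ) : S) = decompose 𝒜 ((u⁻¹ : Sˣ) : S) (-d) := by
    calc ((u⁻¹ : Sˣ) : S) = ((u⁻¹ : Sˣ) : S) * 1 := (mul_one _).symm
      _ = ((u⁻¹ : Sˣ) : S) * ((u : S) * decompose 𝒜 ((u⁻¹ : Sˣ) : S) (-d)) := by rw [← h1]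
      _ = _ := by rw [← mul_assoc, Units.inv_mul, one_mul]
  rw [h3]
  exact SetLike.coe_mem _

theorem zpow_mem (u : Sˣ) (d : ℤ) (hf : (u : S) ∈ 𝒜 d) (z : ℤ) :
    ((u ^ z : Sˣ) : S) ∈ 𝒜 (z * d) := by
  induction z using Int.induction_on with
  | zero => simpa using (SetLike.GradedOne.one_mem : (1 : S) ∈ 𝒜 0)
  | succ i ih =>
    have : ((u ^ ((i : ℤ) + 1) : Sˣ) : S) = ((u ^ (i : ℤ) : Sˣ) : S) * (u : S) := by
      rw [zpow_add_one, Units.val_mul]
    rw [this]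
    have := SetLike.mul_mem_graded ih hf
    convert this using 2
    ring
  | pred i ih =>
    have : ((u ^ (-(i : ℤ) - 1) : Sˣ) : S) = ((u ^ (-(i : ℤ)) : Sˣ) : S) * ((u⁻¹ : Sˣ) : S) := by
      rw [zpow_sub_one, Units.val_mul]
    rw [this]
    have := SetLike.mul_mem_graded ih (inv_mem 𝒜 u d hf)
    convert this using 2
    ring


theorem theta_mem (u : Sˣ) (d : ℤ) (hf : (u : S) ∈ 𝒜 d) (D : ℕ) (hD : (D : ℤ) = d)
    (n : ℤ) (a : S) (ha : a ∈ 𝒜 n) : a ^ D * ((u ^ (-n) : Sˣ) : S) ∈ 𝒜 0 := by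
  have h1 : a ^ D ∈ 𝒜 (D • n) := SetLike.pow_mem_graded D ha
  have h2 := zpow_mem 𝒜 u d hf (-n)
  have h3 := SetLike.mul_mem_graded h1 h2
  convert h3 using 2
  rw [← hD]
  simp
  ring

theorem theta_mem_iff (u : Sˣ) (D : ℕ) (hD : 0 < D) (n : ℤ) (a : S) (p : Ideal S) [p.IsPrime] :
    a ^ D * ((u ^ (-n) : Sˣ) : S) ∈ p ↔ a ∈ p := by
  rw [Ideal.mul_unit_mem_iff_mem p (u ^ (-n)).isUnit]
  exact ⟨fun h => Ideal.IsPrime.mem_of_pow_mem inferInstance D h,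
    fun h => Ideal.pow_mem_of_mem p h D hD⟩

theorem hom_ext {I J : Ideal S} (hI : I.IsHomogeneous 𝒜) (hJ : J.IsHomogeneous 𝒜)
    (h : ∀ n : ℤ, ∀ a ∈ 𝒜 n, (a ∈ I ↔ a ∈ J)) : I = J := by
  ext x
  rw [hI.mem_iff, hJ.mem_iff]
  exact forall_congr' fun i => h i _ (SetLike.coe_mem _)

theorem contract (q : Ideal (SetLike.GradeZero.subring 𝒜)) (x : S) (hx0 : x ∈ 𝒜 0)
    (hx : x ∈ Ideal.map (SetLike.GradeZero.subring 𝒜).subtype q) :
    (⟨x, hx0⟩ : SetLike.GradeZero.subring 𝒜) ∈ q := by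
  have key : ∀ y ∈ Ideal.map (SetLike.GradeZero.subring 𝒜).subtype q, ∀ s : S,
      (⟨(decompose 𝒜 (s * y) 0 : S), SetLike.coe_mem _⟩ : SetLike.GradeZero.subring 𝒜) ∈ q := by
    intro y hy
    refine Submodule.span_induction ?_ ?_ ?_ ?_ hy
    · rintro _ ⟨t, ht, rfl⟩ s
      have e : (decompose 𝒜 (s * (t : S)) 0 : S) = (decompose 𝒜 s 0 : S) * t :=
        coe_decompose_mul_of_right_mem_zero 𝒜 t.2
      have e2 : (⟨(decompose 𝒜 (s * (t : S)) 0 : S), SetLike.coe_mem _⟩ :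
          SetLike.GradeZero.subring 𝒜) =
          (⟨(decompose 𝒜 s 0 : S), SetLike.coe_mem _⟩ : SetLike.GradeZero.subring 𝒜) * t :=
        Subtype.ext e
      show (⟨(decompose 𝒜 (s * (t : S)) 0 : S), SetLike.coe_mem _⟩ :
          SetLike.GradeZero.subring 𝒜) ∈ q
      rw [e2]
      exact Ideal.mul_mem_left _ _ ht
    · intro s
      have : (⟨(decompose 𝒜 (s * 0) 0 : S), SetLike.coe_mem _⟩ :
          SetLike.GradeZero.subring 𝒜) = 0 := by
        apply Subtype.ext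
        simp
      rw [this]
      exact zero_mem _
    · intro y z _ _ hy hz s
      have : (⟨(decompose 𝒜 (s * (y + z)) 0 : S), SetLike.coe_mem _⟩ :
          SetLike.GradeZero.subring 𝒜) =
          ⟨(decompose 𝒜 (s * y) 0 : S), SetLike.coe_mem _⟩ +
          ⟨(decompose 𝒜 (s * z) 0 : S), SetLike.coe_mem _⟩ := by
        apply Subtype.ext
        show (decompose 𝒜 (s * (y + z)) 0 : S) =
          (decompose 𝒜 (s * y) 0 : S) + (decompose 𝒜 (s * z) 0 : S)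
        rw [mul_add, decompose_add, DirectSum.add_apply, Submodule.coe_add]
      rw [this]
      exact add_mem (hy s) (hz s)
    · intro t y _ hy s
      have : (⟨(decompose 𝒜 (s * (t • y)) 0 : S), SetLike.coe_mem _⟩ :
          SetLike.GradeZero.subring 𝒜) =
          ⟨(decompose 𝒜 ((s * t) * y) 0 : S), SetLike.coe_mem _⟩ := by
        apply Subtype.ext
        simp [mul_assoc]
      rw [this]
      exact hy (s * t)
  have h1 := key x hx 1
  have : (⟨(decompose 𝒜 (1 * x) 0 : S), SetLike.coe_mem _⟩ : SetLike.GradeZero.subring 𝒜) =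
      ⟨x, hx0⟩ := by
    apply Subtype.ext
    simp [decompose_of_mem_same 𝒜 hx0]
  rw [this] at h1
  exact h1


theorem exists_prime (u : Sˣ) (d : ℤ) (hf : (u : S) ∈ 𝒜 d) (D : ℕ) (hD : (D : ℤ) = d)
    (hDpos : 0 < D) (q : Ideal (SetLike.GradeZero.subring 𝒜)) [hq : q.IsPrime] :
    ∃ P : Ideal S, P.IsPrime ∧ P.IsHomogeneous 𝒜 ∧
      Ideal.comap (SetLike.GradeZero.subring 𝒜).subtype P = q := by
  obtain ⟨J, hJ⟩ : ∃ J : Ideal S, J = Ideal.map (SetLike.GradeZero.subring 𝒜).subtype q :=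
    ⟨_, rfl⟩
  have hJhom : J.IsHomogeneous 𝒜 := by
    rw [hJ, Ideal.map]
    apply Ideal.homogeneous_span
    rintro _ ⟨t, -, rfl⟩
    exact ⟨0, t.2⟩
  have hrad : J.radical.IsHomogeneous 𝒜 := hJhom.radical
  have key : ∀ (n : ℤ) (a : S) (ha : a ∈ 𝒜 n), a ∈ J.radical ↔
      (⟨a ^ D * ((u ^ (-n) : Sˣ) : S), theta_mem 𝒜 u d hf D hD n a ha⟩ :
        SetLike.GradeZero.subring 𝒜) ∈ q := by
    intro n a ha
    constructor
    · rintro ⟨N, hN⟩
      have h1 : (a ^ D * ((u ^ (-n) : Sˣ) : S)) ^ N ∈ J := by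
        rw [mul_pow, ← pow_mul, mul_comm D N, pow_mul]
        exact J.mul_mem_right _ (J.pow_mem_of_mem hN D hDpos)
      have h0 : (a ^ D * ((u ^ (-n) : Sˣ) : S)) ^ N ∈ 𝒜 0 :=
        ((⟨a ^ D * ((u ^ (-n) : Sˣ) : S), theta_mem 𝒜 u d hf D hD n a ha⟩ :
          SetLike.GradeZero.subring 𝒜) ^ N).2
      have h2 := contract 𝒜 q _ h0 (hJ ▸ h1)
      refine hq.mem_of_pow_mem N ?_
      convert h2 using 1
      exact Subtype.ext rfl
    · intro h
      have h1 : a ^ D * ((u ^ (-n) : Sˣ) : S) ∈ J := by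
        rw [hJ]
        exact Ideal.mem_map_of_mem (SetLike.GradeZero.subring 𝒜).subtype h
      rw [Ideal.mul_unit_mem_iff_mem J (u ^ (-n)).isUnit] at h1
      exact ⟨D, h1⟩
  have hne : J.radical ≠ ⊤ := by
    intro htop
    have h1 : (1 : S) ∈ J.radical := by rw [htop]; trivial
    have h2 := (key 0 1 SetLike.GradedOne.one_mem).mp h1
    have h3 : (⟨1 ^ D * ((u ^ (-(0 : ℤ)) : Sˣ) : S),
        theta_mem 𝒜 u d hf D hD 0 1 SetLike.GradedOne.one_mem⟩ : SetLike.GradeZero.subring 𝒜) = 1 := by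
      apply Subtype.ext
      simp
    rw [h3] at h2
    exact hq.ne_top ((Ideal.eq_top_iff_one q).mpr h2)
  have hprime : J.radical.IsPrime := by
    refine hrad.isPrime_of_homogeneous_mem_or_mem hne ?_
    rintro x y ⟨n, hx⟩ ⟨m, hy⟩ hxy
    have hxy' := (key (n + m) (x * y) (SetLike.mul_mem_graded hx hy)).mp hxy
    have e : (⟨(x * y) ^ D * ((u ^ (-(n + m)) : Sˣ) : S),
        theta_mem 𝒜 u d hf D hD (n + m) (x * y) (SetLike.mul_mem_graded hx hy)⟩ :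
          SetLike.GradeZero.subring 𝒜) =
        (⟨x ^ D * ((u ^ (-n) : Sˣ) : S), theta_mem 𝒜 u d hf D hD n x hx⟩ :
          SetLike.GradeZero.subring 𝒜) *
        ⟨y ^ D * ((u ^ (-m) : Sˣ) : S), theta_mem 𝒜 u d hf D hD m y hy⟩ := by
      apply Subtype.ext
      show (x * y) ^ D * ((u ^ (-(n + m)) : Sˣ) : S) =
        (x ^ D * ((u ^ (-n) : Sˣ) : S)) * (y ^ D * ((u ^ (-m) : Sˣ) : S))
      rw [neg_add, zpow_add, Units.val_mul, mul_pow]
      ring
    rw [e] at hxy'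
    rcases hq.mem_or_mem hxy' with h | h
    · exact Or.inl ((key n x hx).mpr h)
    · exact Or.inr ((key m y hy).mpr h)
  refine ⟨J.radical, hprime, hrad, ?_⟩
  ext t
  rw [Ideal.mem_comap]
  have h1 := key 0 (t : S) t.2
  have h3 : (⟨(t : S) ^ D * ((u ^ (-(0 : ℤ)) : Sˣ) : S),
      theta_mem 𝒜 u d hf D hD 0 (t : S) t.2⟩ : SetLike.GradeZero.subring 𝒜) = t ^ D := by
    apply Subtype.ext
    simp
  rw [h3] at h1
  show (t : S) ∈ J.radical ↔ t ∈ q
  rw [h1]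
  exact ⟨fun h => hq.mem_of_pow_mem D h, fun h => Ideal.pow_mem_of_mem q h D hDpos⟩

end

theorem main {R S : Type u} [CommRing R] [CommRing S] [Algebra R S] (𝒜 : ℤ → Submodule R S)
    [GradedAlgebra 𝒜] (f : S) (d : ℤ) (hd : 0 < d) (hf : f ∈ 𝒜 d) (hu : IsUnit f) :
    IsHomeomorph (fun p : {p : PrimeSpectrum S // p.asIdeal.IsHomogeneous 𝒜} =>
      PrimeSpectrum.comap (SetLike.GradeZero.subring 𝒜).subtype p.1) := by
  obtain ⟨u, rfl⟩ := hu
  obtain ⟨D, hD⟩ : ∃ D : ℕ, (D : ℤ) = d := ⟨d.toNat, Int.toNat_of_nonneg hd.le⟩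
  have hDpos : 0 < D := by
    have : (0 : ℤ) < (D : ℤ) := hD ▸ hd
    exact_mod_cast this
  have hinj : Function.Injective (fun p : {p : PrimeSpectrum S // p.asIdeal.IsHomogeneous 𝒜} =>
      PrimeSpectrum.comap (SetLike.GradeZero.subring 𝒜).subtype p.1) := by
    rintro ⟨p₁, h₁⟩ ⟨p₂, h₂⟩ h
    apply Subtype.ext
    apply PrimeSpectrum.ext
    apply hom_ext 𝒜 h₁ h₂
    intro n a ha
    have e := congrArg PrimeSpectrum.asIdeal h
    simp only [PrimeSpectrum.comap_asIdeal] at e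
    rw [← theta_mem_iff u D hDpos n a p₁.asIdeal, ← theta_mem_iff u D hDpos n a p₂.asIdeal]
    have := SetLike.ext_iff.mp e ⟨_, theta_mem 𝒜 u d hf D hD n a ha⟩
    simpa [Ideal.mem_comap] using this
  have hsurj : Function.Surjective
      (fun p : {p : PrimeSpectrum S // p.asIdeal.IsHomogeneous 𝒜} =>
      PrimeSpectrum.comap (SetLike.GradeZero.subring 𝒜).subtype p.1) := by
    intro q
    haveI := q.isPrime
    obtain ⟨P, hP, hPh, hPc⟩ := exists_prime 𝒜 u d hf D hD hDpos q.asIdeal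
    exact ⟨⟨⟨P, hP⟩, hPh⟩, PrimeSpectrum.ext hPc⟩
  refine ⟨(PrimeSpectrum.continuous_comap _).comp continuous_subtype_val, ?_, ⟨hinj, hsurj⟩⟩
  intro U hU
  rw [isOpen_induced_iff] at hU
  obtain ⟨V, hV, rfl⟩ := hU
  rw [isOpen_iff_forall_mem_open]
  rintro _ ⟨p, hpV, rfl⟩
  obtain ⟨_, ⟨g, rfl⟩, hpg, hgV⟩ :=
    PrimeSpectrum.isTopologicalBasis_basic_opens.exists_subset_of_mem_open hpV hV
  have hpg' : g ∉ p.1.asIdeal := hpg
  have hex : ∃ n, (decompose 𝒜 g n : S) ∉ p.1.asIdeal := by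
    by_contra hcon
    apply hpg'
    rw [p.2.mem_iff]
    intro n
    exact not_not.mp (not_exists.mp hcon n)
  obtain ⟨n, hn⟩ := hex
  obtain ⟨h, hh⟩ : ∃ h : SetLike.GradeZero.subring 𝒜,
      (h : S) = (decompose 𝒜 g n : S) ^ D * ((u ^ (-n) : Sˣ) : S) :=
    ⟨⟨_, theta_mem 𝒜 u d hf D hD n _ (SetLike.coe_mem _)⟩, rfl⟩
  refine ⟨PrimeSpectrum.basicOpen h, ?_, (PrimeSpectrum.basicOpen h).isOpen, ?_⟩
  · intro q' hq'
    obtain ⟨p', rfl⟩ := hsurj q'
    refine ⟨p', ?_, rfl⟩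
    apply hgV
    show g ∉ p'.1.asIdeal
    intro hg
    apply hq'
    show (h : S) ∈ p'.1.asIdeal
    rw [hh, theta_mem_iff u D hDpos n _ p'.1.asIdeal]
    exact p'.2 n hg
  · show h ∉ (PrimeSpectrum.comap (SetLike.GradeZero.subring 𝒜).subtype p.1).asIdeal
    intro hmem
    apply hn
    have hmem' : (h : S) ∈ p.1.asIdeal := hmem
    rw [hh, theta_mem_iff u D hDpos n _ p.1.asIdeal] at hmem'
    exact hmem'


end


/-- Let S be a ℤ-graded ring which contains an invertible homogeneous element of positive degree. Then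
the set of homogeneous prime ideals of S, with the topology induced from Spec(S), maps
homeomorphically onto Spec(S₀) by p ↦ p ∩ S₀. -/
theorem result {R S : Type u} [CommRing R] [CommRing S] [Algebra R S] (𝒜 : ℤ → Submodule R S) [GradedAlgebra 𝒜]
    (f : S) (d : ℤ) (hd : 0 < d) (hf : f ∈ 𝒜 d) (hu : IsUnit f) :
    IsHomeomorph (fun p : {p : PrimeSpectrum S // p.asIdeal.IsHomogeneous 𝒜} => PrimeSpectrum.comap (SetLike.GradeZero.subring 𝒜).subtype p.1) := by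
  classical
  exact main 𝒜 f d hd hf hu

end Groth.Agent.S9659
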