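import Groth.Statements.S9660
import Mathlib.RingTheory.GradedAlgebra.Radical

set_option autoImplicit false
universe u
open CAlg

namespace Groth.Agent.S9660

/-- Let S be an ℕ-graded ring and I a homogeneous ideal of S. Then V₊(I) ⊆ Proj(S) is empty if and only
if S₊ ⊆ √I. -/
theorem result {R S : Type u} [CommRing R] [CommRing S] [Algebra R S] (𝒜 : ℕ → Submodule R S) [GradedAlgebra 𝒜] (I : HomogeneousIdeal 𝒜) :
    ProjectiveSpectrum.zeroLocus 𝒜 (I : Set S) = ∅ ↔ (HomogeneousIdeal.irrelevant 𝒜).toIdeal ≤ I.toIdeal.radical := by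
  constructor
  · intro hempty
    by_contra hnot
    obtain ⟨f, hf, hfI⟩ := SetLike.not_le_iff_exists.mp hnot
    rw [Ideal.radical_eq_sInf, Ideal.mem_sInf] at hfI
    push Not at hfI
    obtain ⟨p, ⟨hIp, hp⟩, hfp⟩ := hfI
    -- the homogeneous core of p is a relevant homogeneous prime containing I
    have hcore : (p.homogeneousCore 𝒜).toIdeal.IsPrime := hp.homogeneousCore
    have hle : I ≤ p.homogeneousCore 𝒜 := (Ideal.homogeneousCore.gc 𝒜 I p).mp hIp
    have hrel : ¬ HomogeneousIdeal.irrelevant 𝒜 ≤ p.homogeneousCore 𝒜 := by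
      intro h
      exact hfp (Ideal.toIdeal_homogeneousCore_le 𝒜 p (h hf))
    have hmem : (⟨p.homogeneousCore 𝒜, hcore, hrel⟩ : ProjectiveSpectrum 𝒜) ∈
        ProjectiveSpectrum.zeroLocus 𝒜 (I : Set S) := by
      rw [ProjectiveSpectrum.mem_zeroLocus]
      exact hle
    rw [hempty] at hmem
    exact hmem
  · intro hle
    rw [Set.eq_empty_iff_forall_notMem]
    intro x hx
    rw [ProjectiveSpectrum.mem_zeroLocus] at hx
    apply x.not_irrelevant_le
    intro f hf
    have h1 : f ∈ I.toIdeal.radical := hle hf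
    have h2 : I.toIdeal.radical ≤ x.asHomogeneousIdeal.toIdeal :=
      (x.isPrime.radical_le_iff).mpr hx
    exact h2 h1

end Groth.Agent.S9660
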