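import Groth.Statements.S9661
import Groth.Agent.Lib.Helper6.ProjDeg.PDj

set_option autoImplicit false
universe u
attribute [local instance] MvPolynomial.gradedAlgebra
open CAlg

namespace Groth.Agent.S9661

/-- Let k be a field, d ≥ 1, and I a nonzero homogeneous ideal of the standard-graded polynomial ring
k[X_1, …, X_d]; put M = k[X_1, …, X_d]/I. Then the function n ↦ dim_k M_n (equal to dim_k of the
degree-n part of the polynomial ring minus dim_k of the degree-n part of I) coincides for all large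
n with a polynomial of degree < d - 1, the zero polynomial if d = 1. -/
theorem result {k : Type u} [Field k] (d : ℕ) (hd : 0 < d)
    (I : HomogeneousIdeal (MvPolynomial.homogeneousSubmodule (Fin d) k)) (hI : I ≠ ⊥) :
    ∃ P : Polynomial ℚ, P.degree < ((d - 1 : ℕ) : WithBot ℕ) ∧ ∃ N : ℕ, ∀ n : ℕ, N ≤ n →
      ((Module.finrank k ↥(MvPolynomial.homogeneousSubmodule (Fin d) k n) : ℚ) -
        (Module.finrank k ↥(I.toIdeal.restrictScalars k ⊓ MvPolynomial.homogeneousSubmodule (Fin d) k n) : ℚ)) = P.eval (n : ℚ) := by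
  obtain ⟨n, rfl⟩ : ∃ n, d = n + 1 := ⟨d - 1, by omega⟩
  have hne : I.toIdeal ≠ ⊥ := by
    intro h
    apply hI
    apply HomogeneousIdeal.toIdeal_injective
    rw [h]
    rfl
  obtain ⟨P, hP, hdeg⟩ := Groth.Agent.Lib.Helper6.ProjDeg.exists_isHilb_degree_lt
    (K := k) (n := n) I.toIdeal I.isHomogeneous hne
  refine ⟨P, ?_, ?_⟩
  · rw [Nat.add_sub_cancel]
    exact hdeg
  · obtain ⟨N, hN⟩ := hP
    exact ⟨N, fun m hm => (hN m hm).symm⟩

end Groth.Agent.S9661
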