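import Groth.Statements.S9664
import Mathlib

set_option autoImplicit false
universe u
open CAlg

namespace Groth.Agent.S9664

section
open TensorProduct

attribute [local instance] Algebra.TensorProduct.rightAlgebra

section
variable {R S : Type u} [CommRing R] [CommRing S] [Algebra R S] (N : Type u) [AddCommGroup N]
  [Module S N] [Module R N] [IsScalarTower R S N] (p : Ideal R) [p.IsPrime]

lemma smul_eq' (s : S) (z : (p.Fiber S) ⊗[S] N) :
    s • z = (Algebra.TensorProduct.includeRight (R := R) (A := p.ResidueField) (B := S) s) • z := by
  induction z using TensorProduct.induction_on with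
  | zero => simp
  | tmul x y =>
    rw [TensorProduct.smul_tmul', TensorProduct.smul_tmul', Algebra.smul_def]
    rfl
  | add x y hx hy => rw [smul_add, smul_add, hx, hy]

lemma smul_eq (s : S) (z : FlatCA.fiberMod p S N) :
    s • z = (Algebra.TensorProduct.includeRight (R := R) (A := p.ResidueField) (B := S) s) • z :=
  smul_eq' N p s z

end

theorem main {R S : Type u} [CommRing R] [CommRing S] [Algebra R S] (N : Type u) [AddCommGroup N] [Module S N] [Module R N] [IsScalarTower R S N]
    (p : Ideal R) [p.IsPrime] (q : Ideal S) [q.IsPrime] (hq : q.comap (algebraMap R S) = p) :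
    q ∈ FlatCA.ass S (FlatCA.fiberMod p S N) ↔
      ∃ Q ∈ FlatCA.ass (p.Fiber S) (FlatCA.fiberMod p S N),
        Q.comap (Algebra.TensorProduct.includeRight (R := R) (A := p.ResidueField) (B := S)).toRingHom = q := by
  constructor
  · rintro ⟨hqp, m, hm⟩
    have hcomap : ((Submodule.span (p.Fiber S) {m}).annihilator).comap
        (Algebra.TensorProduct.includeRight (R := R) (A := p.ResidueField) (B := S)).toRingHom = q := by
      ext s
      rw [Ideal.mem_comap, Submodule.mem_annihilator_span_singleton, hm,
        Submodule.mem_annihilator_span_singleton, smul_eq]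
      rfl
    have hmem : ∀ s : S, s ∈ q ↔ (Algebra.TensorProduct.includeRight (R := R) (A := p.ResidueField) (B := S) s) • m = 0 := by
      intro s
      rw [← hcomap, Ideal.mem_comap, Submodule.mem_annihilator_span_singleton]
      rfl
    have hunit : ∀ r : R, r ∉ p → IsUnit (algebraMap R (p.Fiber S) r) := by
      intro r hr
      rw [IsScalarTower.algebraMap_apply R p.ResidueField (p.Fiber S)]
      apply IsUnit.map
      rw [isUnit_iff_ne_zero, ne_eq, Ideal.algebraMap_residueField_eq_zero]
      exact hr
    refine ⟨(Submodule.span (p.Fiber S) {m}).annihilator, ⟨?_, m, rfl⟩, hcomap⟩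
    refine ⟨?_, ?_⟩
    · intro htop
      apply hqp.ne_top
      rw [← hcomap, htop, Ideal.comap_top]
    · intro x y hxy
      rw [Submodule.mem_annihilator_span_singleton] at hxy
      obtain ⟨r, hr, s, hs⟩ := Ideal.Fiber.exists_smul_eq_one_tmul p x
      obtain ⟨r', hr', s', hs'⟩ := Ideal.Fiber.exists_smul_eq_one_tmul p y
      have h1 : (Algebra.TensorProduct.includeRight (R := R) (A := p.ResidueField) (B := S) (s * s')) • m = 0 := by
        rw [map_mul]
        change ((1 : p.ResidueField) ⊗ₜ[R] s * (1 : p.ResidueField) ⊗ₜ[R] s') • m = 0
        rw [← hs, ← hs', Algebra.smul_def, Algebra.smul_def]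
        rw [show algebraMap R (p.Fiber S) r * x * (algebraMap R (p.Fiber S) r' * y) =
          (algebraMap R (p.Fiber S) r * algebraMap R (p.Fiber S) r') * (x * y) by ring]
        rw [mul_smul, hxy, smul_zero]
      have h2 : s * s' ∈ q := (hmem _).mpr h1
      rcases hqp.mem_or_mem h2 with h3 | h3
      · left
        rw [Submodule.mem_annihilator_span_singleton]
        have h4 := (hmem _).mp h3
        change ((1 : p.ResidueField) ⊗ₜ[R] s) • m = 0 at h4
        rw [← hs, Algebra.smul_def, mul_smul] at h4
        exact (hunit r hr).smul_eq_zero.mp h4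
      · right
        rw [Submodule.mem_annihilator_span_singleton]
        have h4 := (hmem _).mp h3
        change ((1 : p.ResidueField) ⊗ₜ[R] s') • m = 0 at h4
        rw [← hs', Algebra.smul_def, mul_smul] at h4
        exact (hunit r' hr').smul_eq_zero.mp h4
  · rintro ⟨Q, ⟨hQp, m, hm⟩, rfl⟩
    refine ⟨inferInstance, m, ?_⟩
    ext s
    rw [Ideal.mem_comap, hm, Submodule.mem_annihilator_span_singleton,
      Submodule.mem_annihilator_span_singleton, smul_eq]
    rfl


end


/-- Let R → S be a ring map, N an S-module, q a prime of S and p the prime of R below q; an associated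
prime of a module is a prime ideal equal to the annihilator of some element. Then q is an associated
prime of the S-module N ⊗_R κ(p) (the fibre module of N over p, an S-module by restriction of
scalars along S → S ⊗_R κ(p)) if and only if q is the inverse image in S of an associated prime of N
⊗_R κ(p) regarded as a module over the fibre ring S ⊗_R κ(p). -/
theorem result {R S : Type u} [CommRing R] [CommRing S] [Algebra R S] (N : Type u) [AddCommGroup N] [Module S N] [Module R N] [IsScalarTower R S N]
    (p : Ideal R) [p.IsPrime] (q : Ideal S) [q.IsPrime] (hq : q.comap (algebraMap R S) = p) :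
    q ∈ FlatCA.ass S (FlatCA.fiberMod p S N) ↔
      ∃ Q ∈ FlatCA.ass (p.Fiber S) (FlatCA.fiberMod p S N),
        Q.comap (Algebra.TensorProduct.includeRight (R := R) (A := p.ResidueField) (B := S)).toRingHom = q := by
  classical
  exact main N p q hq

end Groth.Agent.S9664
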