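import Groth.Statements.S9666
import Mathlib

set_option autoImplicit false
universe u
open CAlg

namespace Groth.Agent.S9666

section
open TensorProduct

attribute [local instance] Algebra.TensorProduct.rightAlgebra

section FiberLib
variable {R S : Type u} [CommRing R] [CommRing S] [Algebra R S] (N : Type u) [AddCommGroup N]
  [Module S N] [Module R N] [IsScalarTower R S N] (p : Ideal R) [p.IsPrime]

noncomputable def eFib' : (p.Fiber S) ⊗[S] N ≃ₗ[S] N ⊗[R] p.ResidueField :=
  (TensorProduct.congr (Algebra.TensorProduct.commRight R S p.ResidueField).symm.toLinearEquiv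
      (LinearEquiv.refl S N)) ≪≫ₗ
    (TensorProduct.comm S _ _) ≪≫ₗ
    (TensorProduct.AlgebraTensorModule.cancelBaseChange R S S N p.ResidueField)

noncomputable def eFib : FlatCA.fiberMod p S N ≃ₗ[S] N ⊗[R] p.ResidueField := eFib' N p

lemma eFib_one_tmul (n : N) :
    eFib N p (((1 : p.Fiber S) ⊗ₜ[S] n : (p.Fiber S) ⊗[S] N)) = n ⊗ₜ[R] (1 : p.ResidueField) := by
  change eFib' N p ((1 : p.Fiber S) ⊗ₜ[S] n) = _
  simp only [eFib', LinearEquiv.trans_apply, TensorProduct.congr_tmul, LinearEquiv.refl_apply]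
  rw [Algebra.TensorProduct.one_def]
  simp

lemma smul_top_iff (n : N) : n ∈ (p.map (algebraMap R S)) • (⊤ : Submodule S N) ↔
    n ∈ p • (⊤ : Submodule R N) := by
  constructor
  · intro h
    have key : ∀ x ∈ p.map (algebraMap R S), ∀ m : N, x • m ∈ p • (⊤ : Submodule R N) := by
      intro x hx
      induction hx using Submodule.span_induction with
      | mem y hy =>
        obtain ⟨a, ha, rfl⟩ := hy
        intro m
        rw [algebraMap_smul]
        exact Submodule.smul_mem_smul ha Submodule.mem_top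
      | zero => intro m; simp
      | add y z _ _ hy hz => intro m; rw [add_smul]; exact add_mem (hy m) (hz m)
      | smul a y _ hy =>
        intro m
        rw [smul_eq_mul, mul_comm, mul_smul]
        exact hy (a • m)
    refine Submodule.smul_induction_on h ?_ ?_
    · intro x hx m _
      exact key x hx m
    · intro x y hx hy
      exact add_mem hx hy
  · intro h
    refine Submodule.smul_induction_on h ?_ ?_
    · intro a ha m _
      rw [← algebraMap_smul S a m]
      exact Submodule.smul_mem_smul (Ideal.mem_map_of_mem _ ha) Submodule.mem_top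
    · intro x y hx hy
      exact add_mem hx hy


/-- the comparison map to the localization model -/
noncomputable def hMap : N ⊗[R] p.ResidueField →ₗ[R]
    p.ResidueField ⊗[R ⧸ p] (N ⧸ (p • ⊤ : Submodule R N)) :=
  TensorProduct.lift (LinearMap.mk₂ R
    (fun (n : N) (c : p.ResidueField) =>
      c ⊗ₜ[R ⧸ p] (Submodule.Quotient.mk n : N ⧸ (p • ⊤ : Submodule R N)))
    (by intro m₁ m₂ c; simp [Submodule.Quotient.mk_add, TensorProduct.tmul_add])
    (by
      intro r m c
      rw [Submodule.Quotient.mk_smul, TensorProduct.tmul_smul])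
    (by intro m c₁ c₂; simp [TensorProduct.add_tmul])
    (by intro r m c; rw [TensorProduct.smul_tmul']))

lemma hMap_tmul (n : N) (c : p.ResidueField) :
    hMap N p (n ⊗ₜ[R] c) = c ⊗ₜ[R ⧸ p] (Submodule.Quotient.mk n : N ⧸ (p • ⊤ : Submodule R N)) := by
  simp [hMap]

lemma tmul_one_eq_zero (n : N) (h : n ⊗ₜ[R] (1 : p.ResidueField) = 0) :
    ∃ r ∉ p, r • n ∈ p • (⊤ : Submodule R N) := by
  have h1 : (TensorProduct.mk (R ⧸ p) p.ResidueField (N ⧸ (p • ⊤ : Submodule R N)) 1)
      (Submodule.Quotient.mk n) = 0 := by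
    have := congrArg (hMap N p) h
    rw [hMap_tmul, map_zero] at this
    exact this
  haveI : IsLocalizedModule (nonZeroDivisors (R ⧸ p))
      (TensorProduct.mk (R ⧸ p) p.ResidueField (N ⧸ (p • ⊤ : Submodule R N)) 1) :=
    (isLocalizedModule_iff_isBaseChange (nonZeroDivisors (R ⧸ p)) p.ResidueField _).mpr
      (TensorProduct.isBaseChange (R ⧸ p) (N ⧸ (p • ⊤ : Submodule R N)) p.ResidueField)
  obtain ⟨⟨d, hd⟩, hdn⟩ := (IsLocalizedModule.eq_zero_iff (nonZeroDivisors (R ⧸ p))
    (TensorProduct.mk (R ⧸ p) p.ResidueField (N ⧸ (p • ⊤ : Submodule R N)) 1)).mp h1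
  obtain ⟨r, rfl⟩ := Ideal.Quotient.mk_surjective d
  refine ⟨r, ?_, ?_⟩
  · intro hr
    have : (Ideal.Quotient.mk p r) = 0 := Ideal.Quotient.eq_zero_iff_mem.mpr hr
    exact nonZeroDivisors.ne_zero hd this
  · change Ideal.Quotient.mk p r • (Submodule.Quotient.mk n : N ⧸ (p • ⊤ : Submodule R N)) = 0 at hdn
    rw [Module.Quotient.mk_smul_mk, Submodule.Quotient.mk_eq_zero] at hdn
    exact hdn

lemma tmul_one_eq_zero_of_mem (n : N) (h : n ∈ p • (⊤ : Submodule R N)) :
    n ⊗ₜ[R] (1 : p.ResidueField) = 0 := by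
  refine Submodule.smul_induction_on h ?_ ?_
  · intro a ha m _
    rw [TensorProduct.smul_tmul, Algebra.smul_def, mul_one,
      Ideal.algebraMap_residueField_eq_zero.mpr ha, TensorProduct.tmul_zero]
  · intro x y hx hy
    rw [TensorProduct.add_tmul, hx, hy, add_zero]

lemma smul_inj (r : R) (hr : r ∉ p) (w : N ⊗[R] p.ResidueField) (h : r • w = 0) : w = 0 := by
  have hu : IsUnit (algebraMap R p.ResidueField r) := by
    rw [isUnit_iff_ne_zero, ne_eq, Ideal.algebraMap_residueField_eq_zero]
    exact hr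
  obtain ⟨u, hu⟩ := hu
  have h2 : ∀ w : N ⊗[R] p.ResidueField,
      (LinearMap.lTensor N (LinearMap.mulLeft R (↑u⁻¹ : p.ResidueField))) (r • w) = w := by
    intro w
    induction w using TensorProduct.induction_on with
    | zero => simp
    | tmul x c =>
      rw [TensorProduct.smul_tmul', TensorProduct.smul_tmul, LinearMap.lTensor_tmul,
        LinearMap.mulLeft_apply, Algebra.smul_def, ← hu, ← mul_assoc, Units.inv_mul, one_mul]
    | add x y hx hy => rw [smul_add, map_add, hx, hy]
  rw [← h2 w, h, map_zero]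

lemma exists_smul_eq (w : N ⊗[R] p.ResidueField) :
    ∃ r ∉ p, ∃ n : N, r • w = n ⊗ₜ[R] (1 : p.ResidueField) := by
  induction w using TensorProduct.induction_on with
  | zero => exact ⟨1, fun h => ‹p.IsPrime›.ne_top ((Ideal.eq_top_iff_one p).mpr h), 0, by simp⟩
  | tmul x c =>
    obtain ⟨⟨a, ⟨d, hd⟩⟩, hc⟩ := IsLocalization.surj (nonZeroDivisors (R ⧸ p)) c
    obtain ⟨r, rfl⟩ := Ideal.Quotient.mk_surjective d
    obtain ⟨a, rfl⟩ := Ideal.Quotient.mk_surjective a
    refine ⟨r, ?_, a • x, ?_⟩
    · intro hr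
      have : (Ideal.Quotient.mk p r) = 0 := Ideal.Quotient.eq_zero_iff_mem.mpr hr
      exact nonZeroDivisors.ne_zero hd this
    · simp only at hc
      rw [TensorProduct.smul_tmul', TensorProduct.smul_tmul, TensorProduct.smul_tmul,
        Algebra.smul_def, Algebra.smul_def, mul_one, mul_comm]
      congr 1
  | add x y hx hy =>
    obtain ⟨r₁, hr₁, n₁, h₁⟩ := hx
    obtain ⟨r₂, hr₂, n₂, h₂⟩ := hy
    refine ⟨r₁ * r₂, fun h => (‹p.IsPrime›.mem_or_mem h).elim hr₁ hr₂, r₂ • n₁ + r₁ • n₂, ?_⟩
    rw [smul_add, TensorProduct.add_tmul, ← TensorProduct.smul_tmul', ← TensorProduct.smul_tmul',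
      ← h₁, ← h₂, mul_smul, mul_smul, smul_comm r₁ r₂ y]
    rw [smul_comm r₁ r₂ x]


lemma mem_ann_tau (n : N) (s : S) :
    s • (eFib (S := S) N p).symm (n ⊗ₜ[R] (1 : p.ResidueField)) = 0 ↔
      ∃ r ∉ p, r • (s • n) ∈ p • (⊤ : Submodule R N) := by
  rw [← LinearEquiv.map_smul (eFib (S := S) N p).symm s, LinearEquiv.map_eq_zero_iff, TensorProduct.smul_tmul']
  constructor
  · exact tmul_one_eq_zero N p (s • n)
  · rintro ⟨r, hr, h⟩
    apply smul_inj N p r hr
    rw [TensorProduct.smul_tmul']
    exact tmul_one_eq_zero_of_mem N p _ h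

end FiberLib

section
variable {R S : Type u} [CommRing R] [CommRing S] [Algebra R S] (N : Type u) [AddCommGroup N]
  [Module S N] [Module R N] [IsScalarTower R S N] (p : Ideal R) [p.IsPrime]

lemma mem_ann_tmul_one (n : N) (s : S) :
    s • (n ⊗ₜ[R] (1 : p.ResidueField)) = 0 ↔
      ∃ r ∉ p, r • (s • n) ∈ p • (⊤ : Submodule R N) := by
  rw [TensorProduct.smul_tmul']
  constructor
  · exact tmul_one_eq_zero N p (s • n)
  · rintro ⟨r, hr, h⟩
    apply smul_inj N p r hr
    rw [TensorProduct.smul_tmul']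
    exact tmul_one_eq_zero_of_mem N p _ h

end

theorem main {R S : Type u} [CommRing R] [CommRing S] [Algebra R S] (N : Type u) [AddCommGroup N] [Module S N] [Module R N] [IsScalarTower R S N] [IsNoetherianRing S]
    (p : Ideal R) [p.IsPrime] (q : Ideal S) [q.IsPrime] (hq : q.comap (algebraMap R S) = p)
    (h : q ∈ FlatCA.ass S (FlatCA.fiberMod p S N)) :
    q ∈ FlatCA.ass S (N ⧸ (p.map (algebraMap R S)) • (⊤ : Submodule S N)) := by
  classical
  obtain ⟨hqp, z, hz⟩ := h
  obtain ⟨r, hr, n, hrn⟩ := exists_smul_eq N p (eFib (S := S) N p z)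
  have hone : (1 : R) ∉ p := fun h1 => ‹p.IsPrime›.ne_top ((Ideal.eq_top_iff_one p).mpr h1)
  -- membership in q
  have hmem : ∀ s : S, s ∈ q ↔ ∃ r' ∉ p, r' • (s • n) ∈ p • (⊤ : Submodule R N) := by
    intro s
    rw [hz, Submodule.mem_annihilator_span_singleton, ← mem_ann_tmul_one, ← hrn,
      ← LinearEquiv.map_eq_zero_iff (eFib (S := S) N p), LinearEquiv.map_smul]
    constructor
    · intro h0
      rw [smul_comm, h0, smul_zero]
    · intro h0
      rw [smul_comm] at h0
      exact smul_inj N p r hr _ h0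
  obtain ⟨G, hG⟩ : q.FG := IsNoetherian.noetherian q
  have key : ∀ g ∈ G, ∃ r' ∉ p, r' • (g • n) ∈ p • (⊤ : Submodule R N) := by
    intro g hg
    exact (hmem g).mp (hG ▸ Submodule.subset_span hg)
  choose! rf hrf hrfn using key
  have hρ : (∏ g ∈ G, rf g) ∉ p := by
    intro hmemp
    obtain ⟨g, hg, hgp⟩ := (Ideal.IsPrime.prod_mem_iff).mp hmemp
    exact hrf g hg hgp
  refine ⟨hqp, Submodule.Quotient.mk ((∏ g ∈ G, rf g) • n), ?_⟩
  have hmem2 : ∀ s : S, s ∈ (Submodule.span S {(Submodule.Quotient.mk ((∏ g ∈ G, rf g) • n) :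
      N ⧸ (p.map (algebraMap R S)) • (⊤ : Submodule S N))}).annihilator ↔
      (∏ g ∈ G, rf g) • (s • n) ∈ p • (⊤ : Submodule R N) := by
    intro s
    rw [Submodule.mem_annihilator_span_singleton, ← Submodule.Quotient.mk_smul,
      Submodule.Quotient.mk_eq_zero, smul_top_iff, smul_comm]
  apply le_antisymm
  · rw [← hG, Ideal.span_le]
    intro g hg
    rw [SetLike.mem_coe, hmem2, ← Finset.mul_prod_erase G rf hg, mul_comm, mul_smul]
    exact Submodule.smul_mem _ _ (hrfn g hg)
  · intro s hs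
    rw [hmem2] at hs
    exact (hmem s).mpr ⟨_, hρ, hs⟩


end


/-- Part (3): (A ⊆ A_fin): let R → S be a ring map with S Noetherian, N an S-module, q a prime of S and
p the prime of R below q; an associated prime of a module is a prime ideal equal to the annihilator
of some element. If q is an associated prime of the S-module N ⊗_R κ(p) (the fibre module over p, an
S-module by restriction of scalars), then q is an associated prime of the S-module N/pN. -/
theorem result {R S : Type u} [CommRing R] [CommRing S] [Algebra R S] (N : Type u) [AddCommGroup N] [Module S N] [Module R N] [IsScalarTower R S N] [IsNoetherianRing S]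
    (p : Ideal R) [p.IsPrime] (q : Ideal S) [q.IsPrime] (hq : q.comap (algebraMap R S) = p)
    (h : q ∈ FlatCA.ass S (FlatCA.fiberMod p S N)) :
    q ∈ FlatCA.ass S (N ⧸ (p.map (algebraMap R S)) • (⊤ : Submodule S N)) := by
  classical
  exact main N p q hq h

end Groth.Agent.S9666
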