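import Groth.Statements.S9667
import Mathlib

set_option autoImplicit false
universe u
open CAlg

namespace Groth.Agent.S9667

section
open TensorProduct

section
variable {R S : Type u} [CommRing R] [CommRing S] [Algebra R S] (N : Type u) [AddCommGroup N]
  [Module S N] [Module R N] [IsScalarTower R S N]

lemma hlin {A B : Type u} [AddCommGroup A] [Module R A] [AddCommGroup B] [Module R B]
    (f : A →ₗ[R] B) (s : S) (w : N ⊗[R] A) : f.lTensor N (s • w) = s • f.lTensor N w := by
  induction w using TensorProduct.induction_on with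
  | zero => simp
  | tmul x y => simp [TensorProduct.smul_tmul']
  | add x y hx hy => simp [smul_add, hx, hy]

lemma lT_zero {M : Type u} [AddCommGroup M] [Module R M] {P : Submodule R M} (hP : P.FG)
    (t : N ⊗[R] P) (h : P.subtype.lTensor N t = 0) :
    ∃ (Q : Submodule R M) (hPQ : P ≤ Q), Q.FG ∧ (Submodule.inclusion hPQ).lTensor N t = 0 := by
  have hc : ∀ {A B : Type u} [AddCommGroup A] [Module R A] [AddCommGroup B] [Module R B]
      (f : A →ₗ[R] B) (w : N ⊗[R] A),
      f.rTensor N (TensorProduct.comm R N A w) = TensorProduct.comm R N B (f.lTensor N w) := by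
    intro A B _ _ _ _ f w
    induction w using TensorProduct.induction_on with
    | zero => simp
    | tmul x y => simp
    | add x y hx hy => simp [hx, hy]
  have h1 : P.subtype.rTensor N (TensorProduct.comm R N P t) = 0 := by
    rw [hc, h, map_zero]
  obtain ⟨Q, hPQ, hQ, h2⟩ := TensorProduct.eq_zero_of_fg_of_subtype_eq_zero hP h1
  refine ⟨Q, hPQ, hQ, ?_⟩
  rw [hc] at h2
  exact (TensorProduct.comm R N Q).injective (by rw [h2, map_zero])

end

theorem main {R S : Type u} [CommRing R] [CommRing S] [Algebra R S] (N : Type u) [AddCommGroup N] [Module S N] [Module R N] [IsScalarTower R S N] [IsNoetherianRing S]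
    (M : Type u) [AddCommGroup M] [Module R M] (q : Ideal S) [q.IsPrime] (h : q ∈ FlatCA.ass S (N ⊗[R] M)) :
    ∃ M' : Submodule R M, M'.FG ∧ q ∈ FlatCA.ass S (N ⊗[R] ↥M') := by
  classical
  obtain ⟨hq, z, hz⟩ := h
  obtain ⟨M₀, hM₀, hz'⟩ := TensorProduct.exists_finite_submodule_right_of_setFinite {z} (Set.finite_singleton z)
  have hM₀fg : M₀.FG := Module.Finite.iff_fg.mp hM₀
  obtain ⟨z₀, rfl⟩ : z ∈ LinearMap.range (M₀.subtype.lTensor N) := hz' (Set.mem_singleton z)
  obtain ⟨G, hG⟩ : q.FG := IsNoetherian.noetherian q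
  have hann : ∀ s : S, s ∈ q ↔ s • (M₀.subtype.lTensor N z₀) = 0 := by
    intro s
    rw [hz, Submodule.mem_annihilator_span_singleton]
  have key : ∀ g ∈ G, ∃ (Q : Submodule R M) (hPQ : M₀ ≤ Q), Q.FG ∧
      (Submodule.inclusion hPQ).lTensor N (g • z₀) = 0 := by
    intro g hg
    apply lT_zero N hM₀fg
    rw [hlin]
    exact (hann g).mp (hG ▸ Submodule.subset_span hg)
  choose! Qf hQle hQfg hQz using key
  let M' : Submodule R M := M₀ ⊔ G.sup Qf
  have hM'fg : M'.FG := by
    refine hM₀fg.sup ?_
    rw [Finset.sup_eq_iSup]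
    exact Submodule.fg_biSup _ _ (fun g hg => hQfg g hg)
  have hle0 : M₀ ≤ M' := le_sup_left
  have hleQ : ∀ g ∈ G, Qf g ≤ M' := fun g hg => le_trans (Finset.le_sup hg) le_sup_right
  refine ⟨M', hM'fg, hq, (Submodule.inclusion hle0).lTensor N z₀, ?_⟩
  ext s
  rw [Submodule.mem_annihilator_span_singleton]
  constructor
  · intro hs
    -- s ∈ q = span G
    have : q ≤ (Submodule.span S {(Submodule.inclusion hle0).lTensor N z₀}).annihilator := by
      rw [← hG, Ideal.span_le]
      intro g hg
      rw [SetLike.mem_coe, Submodule.mem_annihilator_span_singleton, ← hlin]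
      have hfac : Submodule.inclusion hle0 =
          (Submodule.inclusion (hleQ g hg)) ∘ₗ (Submodule.inclusion (hQle g hg)) := by
        ext x; rfl
      rw [hfac, LinearMap.lTensor_comp, LinearMap.comp_apply, hQz g hg, map_zero]
    exact (Submodule.mem_annihilator_span_singleton _ _).mp (this hs)
  · intro hs
    rw [hann, ← hlin]
    have hfac : M₀.subtype = M'.subtype ∘ₗ (Submodule.inclusion hle0) := by
      ext x; rfl
    rw [hfac, LinearMap.lTensor_comp, LinearMap.comp_apply, hlin, hs, map_zero]


end


open TensorProduct in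
/-- Part (3): (B = B_fin): let R → S be a ring map with S Noetherian, N an S-module, M an R-module and q
a prime of S; an associated prime of a module is a prime ideal equal to the annihilator of some
element. If q is an associated prime of the S-module N ⊗_R M, then there is a finitely generated
R-submodule M' ⊆ M such that q is an associated prime of the S-module N ⊗_R M'. -/
theorem result {R S : Type u} [CommRing R] [CommRing S] [Algebra R S] (N : Type u) [AddCommGroup N] [Module S N] [Module R N] [IsScalarTower R S N] [IsNoetherianRing S]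
    (M : Type u) [AddCommGroup M] [Module R M] (q : Ideal S) [q.IsPrime] (h : q ∈ FlatCA.ass S (N ⊗[R] M)) :
    ∃ M' : Submodule R M, M'.FG ∧ q ∈ FlatCA.ass S (N ⊗[R] ↥M') := by
  classical
  exact main N M q h

end Groth.Agent.S9667
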