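import Groth.Statements.S9668
import Mathlib

set_option autoImplicit false
universe u
open CAlg

namespace Groth.Agent.S9668

section
open TensorProduct

theorem main {R S : Type u} [CommRing R] [CommRing S] [Algebra R S] (N : Type u) [AddCommGroup N] [Module S N] [Module R N] [IsScalarTower R S N] [Module.Flat R N]
    (M : Type u) [AddCommGroup M] [Module R M] (q : Ideal S) [q.IsPrime] (h : q ∈ FlatCA.ass S (N ⊗[R] M)) :
    ∃ M' : Submodule R M, M'.FG ∧ q ∈ FlatCA.ass S (N ⊗[R] ↥M') := by
  obtain ⟨hq, z, hz⟩ := h
  obtain ⟨M', hM', hz'⟩ := TensorProduct.exists_finite_submodule_right_of_setFinite {z} (Set.finite_singleton z)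
  refine ⟨M', Module.Finite.iff_fg.mp hM', hq, ?_⟩
  have hzm : z ∈ LinearMap.range (M'.subtype.lTensor N) := hz' (Set.mem_singleton z)
  obtain ⟨z', rfl⟩ := hzm
  refine ⟨z', ?_⟩
  rw [hz]
  have hinj : Function.Injective (M'.subtype.lTensor N) :=
    Module.Flat.lTensor_preserves_injective_linearMap _ M'.injective_subtype
  have hlin : ∀ (s : S) (w : N ⊗[R] ↥M'), M'.subtype.lTensor N (s • w) = s • M'.subtype.lTensor N w := by
    intro s w
    induction w using TensorProduct.induction_on with
    | zero => simp
    | tmul x y => simp [TensorProduct.smul_tmul']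
    | add x y hx hy => simp [smul_add, hx, hy]
  ext s
  simp only [Submodule.mem_annihilator_span_singleton]
  rw [← hlin]
  constructor
  · intro h0
    apply hinj
    rw [h0, map_zero]
  · intro h0
    rw [h0, map_zero]


end


open TensorProduct in
/-- Part (4): (B = B_fin): let R → S be a ring map, N an S-module flat over R, M an R-module and q a
prime of S; an associated prime of a module is a prime ideal equal to the annihilator of some
element. If q is an associated prime of the S-module N ⊗_R M, then there is a finitely generated
R-submodule M' ⊆ M such that q is an associated prime of the S-module N ⊗_R M'. -/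
theorem result {R S : Type u} [CommRing R] [CommRing S] [Algebra R S] (N : Type u) [AddCommGroup N] [Module S N] [Module R N] [IsScalarTower R S N] [Module.Flat R N]
    (M : Type u) [AddCommGroup M] [Module R M] (q : Ideal S) [q.IsPrime] (h : q ∈ FlatCA.ass S (N ⊗[R] M)) :
    ∃ M' : Submodule R M, M'.FG ∧ q ∈ FlatCA.ass S (N ⊗[R] ↥M') := by
  classical
  exact main N M q h

end Groth.Agent.S9668
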