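import Groth.Statements.S9670
import Mathlib

set_option autoImplicit false
universe u
open CAlg

namespace Groth.Agent.S9670

section
open TensorProduct


section
variable {R S : Type u} [CommRing R] [CommRing S] [Algebra R S] (N : Type u) [AddCommGroup N]
  [Module S N] [Module R N] [IsScalarTower R S N] (p : Ideal R)

lemma smul_top_iff (n : N) : n ∈ (p.map (algebraMap R S)) • (⊤ : Submodule S N) ↔
    n ∈ p • (⊤ : Submodule R N) := by
  constructor
  · intro h
    have key : ∀ x ∈ p.map (algebraMap R S), ∀ m : N, x • m ∈ p • (⊤ : Submodule R N) := by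
      intro x hx
      induction hx using Submodule.span_induction with
      | mem y hy =>
        obtain ⟨a, ha, rfl⟩ := hy
        intro m
        rw [algebraMap_smul]
        exact Submodule.smul_mem_smul ha Submodule.mem_top
      | zero => intro m; simp
      | add y z _ _ hy hz => intro m; rw [add_smul]; exact add_mem (hy m) (hz m)
      | smul a y _ hy =>
        intro m
        rw [smul_eq_mul, mul_comm, mul_smul]
        exact hy (a • m)
    refine Submodule.smul_induction_on h ?_ ?_
    · intro x hx m _
      exact key x hx m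
    · intro x y hx hy
      exact add_mem hx hy
  · intro h
    refine Submodule.smul_induction_on h ?_ ?_
    · intro a ha m _
      rw [← algebraMap_smul S a m]
      exact Submodule.smul_mem_smul (Ideal.mem_map_of_mem _ ha) Submodule.mem_top
    · intro x y hx hy
      exact add_mem hx hy



lemma hlin {A B : Type u} [AddCommGroup A] [Module R A] [AddCommGroup B] [Module R B]
    (f : A →ₗ[R] B) (s : S) (w : N ⊗[R] A) : f.lTensor N (s • w) = s • f.lTensor N w := by
  induction w using TensorProduct.induction_on with
  | zero => simp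
  | tmul x y => simp [TensorProduct.smul_tmul']
  | add x y hx hy => simp [smul_add, hx, hy]

lemma hone' (x : N) : TensorProduct.tensorQuotEquivQuotSMul N p (x ⊗ₜ[R] (1 : R ⧸ p)) =
    Submodule.Quotient.mk x := by
  rw [← map_one (Ideal.Quotient.mk p), TensorProduct.tensorQuotEquivQuotSMul_tmul_mk, one_smul]

lemma ann_tmul_one_quot (n : N) (s : S) :
    s • (n ⊗ₜ[R] (1 : R ⧸ p)) = 0 ↔ s • n ∈ p • (⊤ : Submodule R N) := by
  rw [TensorProduct.smul_tmul', ← LinearEquiv.map_eq_zero_iff (TensorProduct.tensorQuotEquivQuotSMul N p),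
    hone', Submodule.Quotient.mk_eq_zero]

lemma torsion_free [p.IsPrime] [Module.Flat R N] (r : R) (hr : r ∉ p) (n : N)
    (h : r • n ∈ p • (⊤ : Submodule R N)) : n ∈ p • (⊤ : Submodule R N) := by
  have hinj : Function.Injective (LinearMap.lsmul R (R ⧸ p) r) := by
    intro x y hxy
    simp only [LinearMap.lsmul_apply] at hxy
    obtain ⟨x, rfl⟩ := Ideal.Quotient.mk_surjective x
    obtain ⟨y, rfl⟩ := Ideal.Quotient.mk_surjective y
    rw [← sub_eq_zero] at hxy ⊢
    rw [← smul_sub, ← map_sub, Algebra.smul_def, Ideal.Quotient.algebraMap_eq, ← map_mul,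
      Ideal.Quotient.eq_zero_iff_mem] at hxy
    rw [← map_sub, Ideal.Quotient.eq_zero_iff_mem]
    exact (‹p.IsPrime›.mem_or_mem hxy).resolve_left hr
  have hinj2 := Module.Flat.lTensor_preserves_injective_linearMap (M := N) _ hinj
  have h0 : (LinearMap.lsmul R (R ⧸ p) r).lTensor N (n ⊗ₜ[R] (1 : R ⧸ p)) = 0 := by
    rw [LinearMap.lTensor_tmul, LinearMap.lsmul_apply, ← TensorProduct.smul_tmul]
    apply (TensorProduct.tensorQuotEquivQuotSMul N p).injective
    rw [hone', map_zero, Submodule.Quotient.mk_eq_zero]
    exact h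
  have h1 : n ⊗ₜ[R] (1 : R ⧸ p) = 0 := hinj2 (by rw [h0, map_zero])
  have h2 := congrArg (TensorProduct.tensorQuotEquivQuotSMul N p) h1
  rw [hone', map_zero, Submodule.Quotient.mk_eq_zero] at h2
  exact h2

lemma lies_over [p.IsPrime] [Module.Flat R N] (q : Ideal S)
    (hq : q ∈ FlatCA.ass S (N ⧸ (p.map (algebraMap R S)) • (⊤ : Submodule S N))) :
    q.comap (algebraMap R S) = p := by
  obtain ⟨hqp, x, hx⟩ := hq
  obtain ⟨n, rfl⟩ := Submodule.Quotient.mk_surjective _ x
  have hmem : ∀ s : S, s ∈ q ↔ s • n ∈ p • (⊤ : Submodule R N) := by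
    intro s
    rw [hx, Submodule.mem_annihilator_span_singleton, ← Submodule.Quotient.mk_smul,
      Submodule.Quotient.mk_eq_zero, smul_top_iff]
  ext a
  rw [Ideal.mem_comap, hmem, algebraMap_smul]
  constructor
  · intro ha
    by_contra hap
    have hn := torsion_free N p a hap n ha
    apply hqp.ne_top
    rw [Ideal.eq_top_iff_one, hmem, one_smul]
    exact hn
  · intro ha
    exact Submodule.smul_mem_smul ha Submodule.mem_top

end

section
variable {R S : Type u} [CommRing R] [CommRing S] [Algebra R S]

lemma ass_of_exact {A B C : Type u} [AddCommGroup A] [Module S A] [AddCommGroup B] [Module S B]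
    [AddCommGroup C] [Module S C] (f : A →+ B) (g : B →+ C)
    (hf : ∀ (s : S) a, f (s • a) = s • f a) (hg : ∀ (s : S) b, g (s • b) = s • g b)
    (hinj : Function.Injective f) (hex : ∀ b, g b = 0 → ∃ a, f a = b)
    (q : Ideal S) (hq : q ∈ FlatCA.ass S B) : q ∈ FlatCA.ass S A ∨ q ∈ FlatCA.ass S C := by
  obtain ⟨hqp, z, hz⟩ := hq
  have hmem : ∀ s : S, s ∈ q ↔ s • z = 0 := by
    intro s; rw [hz, Submodule.mem_annihilator_span_singleton]
  by_cases hcase : ∃ s : S, s ∉ q ∧ g (s • z) = 0
  · obtain ⟨s, hs, hgs⟩ := hcase
    obtain ⟨a, ha⟩ := hex _ hgs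
    left
    refine ⟨hqp, a, ?_⟩
    ext t
    rw [Submodule.mem_annihilator_span_singleton]
    constructor
    · intro ht
      apply hinj
      rw [hf, ha, map_zero, smul_comm, (hmem t).mp ht, smul_zero]
    · intro ht
      have : (t * s) • z = 0 := by
        rw [mul_smul, ← ha, ← hf, ht, map_zero]
      exact (hqp.mem_or_mem ((hmem _).mpr this)).resolve_right hs
  · simp only [not_exists, not_and] at hcase
    right
    refine ⟨hqp, g z, ?_⟩
    ext t
    rw [Submodule.mem_annihilator_span_singleton, ← hg]
    constructor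
    · intro ht
      rw [(hmem t).mp ht, map_zero]
    · intro ht
      by_contra htq
      exact hcase t htq ht

end

theorem main {R S : Type u} [CommRing R] [CommRing S] [Algebra R S] (N : Type u) [AddCommGroup N] [Module S N] [Module R N] [IsScalarTower R S N] [IsNoetherianRing R] [Module.Flat R N]
    (M : Type u) [AddCommGroup M] [Module R M] [Module.Finite R M] (p : Ideal R) [p.IsPrime] (q : Ideal S) [q.IsPrime] (hq : q.comap (algebraMap R S) = p)
    (h : q ∈ FlatCA.ass S (N ⊗[R] M)) :
    q ∈ FlatCA.ass S (N ⧸ (p.map (algebraMap R S)) • (⊤ : Submodule S N)) := by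
  have key : ∀ (q : Ideal S), q ∈ FlatCA.ass S (N ⊗[R] M) →
      q ∈ FlatCA.ass S (N ⧸ ((q.comap (algebraMap R S)).map (algebraMap R S)) • (⊤ : Submodule S N)) := by
    refine IsNoetherianRing.induction_on_isQuotientEquivQuotientPrime R (M := M) inferInstance
      (motive := fun M' _ _ _ => ∀ (q : Ideal S), q ∈ FlatCA.ass S (N ⊗[R] M') →
      q ∈ FlatCA.ass S (N ⧸ ((q.comap (algebraMap R S)).map (algebraMap R S)) • (⊤ : Submodule S N)))
      ?_ ?_ ?_
    · intro M' _ _ _ _ q hq
      exfalso
      obtain ⟨hqp, z, hz⟩ := hq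
      apply hqp.ne_top
      rw [hz, Ideal.eq_top_iff_one, Submodule.mem_annihilator_span_singleton]
      exact Subsingleton.elim _ _
    · intro M' _ _ _ p' e q hq
      obtain ⟨hqp, z, hz⟩ := hq
      haveI := p'.2
      -- transport z to N ⊗ R/p'
      obtain ⟨n, hn⟩ : ∃ n : N, e.toLinearMap.lTensor N z = n ⊗ₜ[R] (1 : R ⧸ p'.1) := by
        obtain ⟨n, hn⟩ := Submodule.Quotient.mk_surjective _
          (TensorProduct.tensorQuotEquivQuotSMul N p'.1 (e.toLinearMap.lTensor N z))
        refine ⟨n, ?_⟩
        apply (TensorProduct.tensorQuotEquivQuotSMul N p'.1).injective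
        rw [hone', hn]
      have hinj : Function.Injective (e.toLinearMap.lTensor N) :=
        Module.Flat.lTensor_preserves_injective_linearMap _ e.injective
      have hmem : ∀ s : S, s ∈ q ↔ s • n ∈ p'.1 • (⊤ : Submodule R N) := by
        intro s
        rw [hz, Submodule.mem_annihilator_span_singleton, ← ann_tmul_one_quot, ← hn, ← hlin]
        constructor
        · intro h0; rw [h0, map_zero]
        · intro h0; exact hinj (by rw [h0, map_zero])
      have hass : q ∈ FlatCA.ass S (N ⧸ (p'.1.map (algebraMap R S)) • (⊤ : Submodule S N)) := by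
        refine ⟨hqp, Submodule.Quotient.mk n, ?_⟩
        ext s
        rw [Submodule.mem_annihilator_span_singleton, ← Submodule.Quotient.mk_smul,
          Submodule.Quotient.mk_eq_zero, smul_top_iff, hmem]
      have hlo := lies_over N p'.1 q hass
      rw [hlo]
      exact hass
    · intro M₁ _ _ _ M₂ _ _ _ M₃ _ _ _ f g hf hg hfg h1 h3 q hq
      have hex := lTensor_exact N hfg hg
      rcases ass_of_exact (S := S) (f.lTensor N).toAddMonoidHom (g.lTensor N).toAddMonoidHom
        (fun s a => hlin N f s a) (fun s b => hlin N g s b)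
        (Module.Flat.lTensor_preserves_injective_linearMap _ hf)
        (fun b hb => (hex b).mp hb) q hq with h' | h'
      · exact h1 q h'
      · exact h3 q h'
  have := key q h
  rw [hq] at this
  exact this


end


open TensorProduct in
/-- Part (5): (B_fin ⊆ A_fin): let R → S be a ring map with R Noetherian, N an S-module flat over R, M a
finite R-module, q a prime of S and p the prime of R below q; an associated prime of a module is a
prime ideal equal to the annihilator of some element. If q is an associated prime of the S-module N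
⊗_R M, then q is an associated prime of the S-module N/pN. -/
theorem result {R S : Type u} [CommRing R] [CommRing S] [Algebra R S] (N : Type u) [AddCommGroup N] [Module S N] [Module R N] [IsScalarTower R S N] [IsNoetherianRing R] [Module.Flat R N]
    (M : Type u) [AddCommGroup M] [Module R M] [Module.Finite R M] (p : Ideal R) [p.IsPrime] (q : Ideal S) [q.IsPrime] (hq : q.comap (algebraMap R S) = p)
    (h : q ∈ FlatCA.ass S (N ⊗[R] M)) :
    q ∈ FlatCA.ass S (N ⧸ (p.map (algebraMap R S)) • (⊤ : Submodule S N)) := by
  classical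
  exact main N M p q hq h

end Groth.Agent.S9670
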