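import Groth.Statements.S9680
import Groth.Agent.Lib.Helper6.LocIso.Birat

set_option autoImplicit false
universe u
open CategoryTheory CategoryTheory.Limits AlgebraicGeometry
open Mor

namespace Groth.Agent.S9680

/-- Suppose X and Y are irreducible S-schemes, each locally of finite presentation over S, with generic
points x and y. Then X and Y are S-birational (they admit S-isomorphic nonempty opens) if and only
if x and y map to the same point s of S and the local rings of X at x and of Y at y are isomorphic
as algebras over the local ring of S at s. -/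
theorem result {S X Y : Scheme.{u}}
    [IrreducibleSpace ↥X] [IrreducibleSpace ↥Y] (sX : X ⟶ S) (sY : Y ⟶ S)
    [LocallyOfFinitePresentation sX] [LocallyOfFinitePresentation sY] :
    Scheme.BirationalOver sX sY ↔
      ∃ (hs : sX.base (genericPoint ↥X) = sY.base (genericPoint ↥Y))
        (e : X.presheaf.stalk (genericPoint ↥X) ≅ Y.presheaf.stalk (genericPoint ↥Y)),
        sX.stalkMap (genericPoint ↥X) ≫ e.hom =
          eqToHom (congrArg S.presheaf.stalk hs) ≫ sY.stalkMap (genericPoint ↥Y) := by
  constructor
  · intro h
    obtain ⟨U, j, g, _, _, u, hjg, hju, hgu⟩ :=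
      Lib.Helper6.LocIso.exists_common_open_of_birationalOver sX sY h
    exact Lib.Helper6.LocIso.exists_stalk_iso_of_open_immersions sX sY j g hjg u _ _ hju hgu
  · rintro ⟨hs, e, he⟩
    obtain ⟨U, hxU, f, U', V, hUV, hfS, hxU', hyV, hIso⟩ :=
      Lib.Helper6.LocIso.exists_local_iso_of_stalk_iso sX sY (genericPoint X) (genericPoint Y)
        hs e he (Or.inl ⟨inferInstance, inferInstance⟩)
    exact Lib.Helper6.LocIso.birationalOver_of_local_iso sX sY U f U' V hUV hfS
      ⟨_, hxU'⟩ ⟨_, hyV⟩ hIso

end Groth.Agent.S9680
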