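import Groth.Statements.S9681
import Groth.Agent.Lib.Helper6.LocIso.Birat

set_option autoImplicit false
universe u
open CategoryTheory CategoryTheory.Limits AlgebraicGeometry
open Mor

namespace Groth.Agent.S9681

/-- Suppose X and Y are integral S-schemes, each locally of finite type over S, with generic points x
and y. Then X and Y are S-birational (they admit S-isomorphic nonempty opens) if and only if x and y
map to the same point s of S and the residue fields of x and y are isomorphic as extensions of the
residue field of s. -/
theorem result {S X Y : Scheme.{u}}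
    [IsIntegral X] [IsIntegral Y] (sX : X ⟶ S) (sY : Y ⟶ S)
    [LocallyOfFiniteType sX] [LocallyOfFiniteType sY] :
    Scheme.BirationalOver sX sY ↔
      ∃ (hs : sX.base (genericPoint ↥X) = sY.base (genericPoint ↥Y))
        (e : X.residueField (genericPoint ↥X) ≅ Y.residueField (genericPoint ↥Y)),
        sX.residueFieldMap (genericPoint ↥X) ≫ e.hom =
          eqToHom (congrArg S.residueField hs) ≫ sY.residueFieldMap (genericPoint ↥Y) := by
  constructor
  · intro h
    obtain ⟨U, j, g, _, _, u, hjg, hju, hgu⟩ :=
      Lib.Helper6.LocIso.exists_common_open_of_birationalOver sX sY h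
    exact Lib.Helper6.LocIso.exists_residueField_iso_of_open_immersions sX sY j g hjg u _ _
      hju hgu
  · rintro ⟨hs, e, he⟩
    have hX := Lib.Helper6.LocIso.isIso_residue_genericPoint X
    have hY := Lib.Helper6.LocIso.isIso_residue_genericPoint Y
    let e' : X.presheaf.stalk (genericPoint X) ≅ Y.presheaf.stalk (genericPoint Y) :=
      asIso (X.residue (genericPoint X)) ≪≫ e ≪≫ (asIso (Y.residue (genericPoint Y))).symm
    have he' : sX.stalkMap (genericPoint X) ≫ e'.hom =
        eqToHom (congrArg S.presheaf.stalk hs) ≫ sY.stalkMap (genericPoint Y) := by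
      simp only [e', Iso.trans_hom, asIso_hom, Iso.symm_hom, asIso_inv]
      rw [← Category.assoc, ← Category.assoc, IsIso.comp_inv_eq, Category.assoc,
        Category.assoc, ← Scheme.residue_residueFieldMap sY,
        ← Scheme.residue_residueFieldMap_assoc sX, he,
        Lib.Helper6.LocIso.residue_eqToHom_assoc hs]
    obtain ⟨U, hxU, f, U', V, hUV, hfS, hxU', hyV, hIso⟩ :=
      Lib.Helper6.LocIso.exists_local_iso_of_stalk_iso sX sY (genericPoint X) (genericPoint Y)
        hs e' he' (Or.inr ⟨inferInstance, inferInstance, inferInstance, inferInstance⟩)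
    exact Lib.Helper6.LocIso.birationalOver_of_local_iso sX sY U f U' V hUV hfS
      ⟨_, hxU'⟩ ⟨_, hyV⟩ hIso

end Groth.Agent.S9681
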