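import Groth.Statements.S9692
import Mathlib
import Mathlib
import Groth.Agent.Lib.Helper1.Segre2

set_option autoImplicit false
universe u
open CategoryTheory CategoryTheory.Limits AlgebraicGeometry
open Mor

namespace Groth.Agent.S9692

/-- A composition of H-projective morphisms (closed immersions into a projective space P^n over the
target, followed by the projection) is H-projective. -/
theorem result {X Y Z : Scheme.{u}} (f : X ⟶ Y) (g : Y ⟶ Z)
    (hf : RelProj.IsHProjective f) (hg : RelProj.IsHProjective g) :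
    RelProj.IsHProjective (f ≫ g) := by
  obtain ⟨n, i, hi, hif⟩ := hf
  obtain ⟨m, j, hj, hjg⟩ := hg
  obtain ⟨φ, hφ, hφq⟩ := Groth.Agent.Helper1.Segre.exists_segre_over n m Z
  have hP := Groth.Agent.Helper1.HProj.isPullback_baseMap n g
  -- the comparison `P^n_Y ⟶ P^n_Z ×_Z P^m_Z`
  let κ : CohB1.ProjSpaceOver n Y ⟶
      pullback (CohB1.ProjSpaceOver.toBase n Z) (CohB1.ProjSpaceOver.toBase m Z) :=
    pullback.lift (Groth.Agent.Helper1.HProj.baseMap n g) (CohB1.ProjSpaceOver.toBase n Y ≫ j)
      (by rw [Groth.Agent.Helper1.HProj.baseMap_toBase, Category.assoc, hjg])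
  have hκ1 : κ ≫ pullback.fst (CohB1.ProjSpaceOver.toBase n Z) (CohB1.ProjSpaceOver.toBase m Z) =
      Groth.Agent.Helper1.HProj.baseMap n g := pullback.lift_fst _ _ _
  have hκ2 : κ ≫ pullback.snd (CohB1.ProjSpaceOver.toBase n Z) (CohB1.ProjSpaceOver.toBase m Z) =
      CohB1.ProjSpaceOver.toBase n Y ≫ j := pullback.lift_snd _ _ _
  have hsq : IsPullback κ (CohB1.ProjSpaceOver.toBase n Y)
      (pullback.snd (CohB1.ProjSpaceOver.toBase n Z) (CohB1.ProjSpaceOver.toBase m Z)) j := by
    refine IsPullback.of_right ?_ hκ2 (IsPullback.of_hasPullback _ _)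
    rw [hκ1, hjg]
    exact hP
  have hκ : IsClosedImmersion κ := MorphismProperty.of_isPullback hsq.flip hj
  refine ⟨n * m + n + m, i ≫ κ ≫ φ, inferInstance, ?_⟩
  rw [Category.assoc, Category.assoc, hφq, ← Category.assoc κ, hκ1,
    Groth.Agent.Helper1.HProj.baseMap_toBase, ← Category.assoc, hif]

end Groth.Agent.S9692
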