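import Groth.Statements.S9693
import Mathlib
import Mathlib
import Groth.Agent.Lib.Helper1.HProj

set_option autoImplicit false
universe u
open CategoryTheory CategoryTheory.Limits AlgebraicGeometry
open Mor

namespace Groth.Agent.S9693

/-- A base change of an H-projective morphism (a closed immersion into some P^n over the base followed
by the projection) is H-projective. -/
theorem result {X S S' : Scheme.{u}} (f : X ⟶ S) (hf : RelProj.IsHProjective f)
    (g : S' ⟶ S) : RelProj.IsHProjective (pullback.snd f g) := by
  obtain ⟨n, i, hi, hif⟩ := hf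
  have hP := Groth.Agent.Helper1.HProj.isPullback_baseMap n g
  let i' : pullback f g ⟶ CohB1.ProjSpaceOver n S' :=
    hP.lift (pullback.fst f g ≫ i) (pullback.snd f g)
      (by rw [Category.assoc, hif, pullback.condition])
  have h1 : i' ≫ Groth.Agent.Helper1.HProj.baseMap n g = pullback.fst f g ≫ i := hP.lift_fst _ _ _
  have h2 : i' ≫ CohB1.ProjSpaceOver.toBase n S' = pullback.snd f g := hP.lift_snd _ _ _
  refine ⟨n, i', ?_, h2⟩
  have hsq : IsPullback i' (pullback.fst f g) (Groth.Agent.Helper1.HProj.baseMap n g) i := by
    refine IsPullback.of_right ?_ h1 hP.flip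
    rw [h2, hif]
    exact (IsPullback.of_hasPullback f g).flip
  exact MorphismProperty.of_isPullback hsq.flip hi

end Groth.Agent.S9693
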