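import Groth.Statements.S9696
import Groth.Agent.Lib.Helper6.EtLoc.BCLocusSch

set_option autoImplicit false
universe u
open CategoryTheory CategoryTheory.Limits AlgebraicGeometry
open Mor

namespace Groth.Agent.S9696

/-- Let f : X ⟶ S be flat and locally of finite presentation and g : S' ⟶ S any morphism, with base
change f' : X ×_S S' ⟶ S' and projection g' : X ×_S S' ⟶ X. Then the open set of points where f' is
etale is the inverse image under g' of the open set of points where f is etale. -/
theorem result {X S S' : Scheme.{u}} (f : X ⟶ S) [Flat f]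
    [LocallyOfFinitePresentation f] (g : S' ⟶ S) (x' : ↑(pullback f g)) :
    (∃ U' : (pullback f g).Opens, x' ∈ U' ∧ Etale (U'.ι ≫ pullback.snd f g)) ↔
      (∃ U : X.Opens, (pullback.fst f g).base x' ∈ U ∧ Etale (U.ι ≫ f)) := by
  constructor
  · rintro ⟨U', hx', hU'⟩
    have hun : FormallyUnramified (U'.ι ≫ pullback.snd f g) := by
      have := hU'
      infer_instance
    obtain ⟨Z, j, hj, hjx, hjet⟩ :=
      Groth.Agent.Lib.Helper6.EtLoc.etale_of_local f g U' hun x' hx'
    have := hj
    refine ⟨j.opensRange, hjx, ?_⟩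
    have h1 : j.opensRange.ι = j.isoOpensRange.inv ≫ j := by
      rw [Iso.eq_inv_comp]; exact Scheme.Hom.isoOpensRange_hom_ι j
    rw [h1, Category.assoc]
    have := hjet
    infer_instance
  · rintro ⟨U, hx, hU⟩
    refine ⟨(pullback.fst f g) ⁻¹ᵁ U, hx, ?_⟩
    exact MorphismProperty.of_isPullback (P := @Etale)
      (Groth.Agent.Lib.Helper6.EtLoc.isPullback_fst_preimage f g U) hU

end Groth.Agent.S9696
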