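import Groth.Statements.S9700
import Mathlib
import Groth.Agent.Lib.Helper9.ValCritCore
import Groth.Agent.Lib.Helper9.ValCritSq
-- import your own Groth.Agent.* helpers here

set_option autoImplicit false
universe u
open CategoryTheory CategoryTheory.Limits AlgebraicGeometry
open Mor

namespace Groth.Agent.S9700

open CategoryTheory CategoryTheory.Limits AlgebraicGeometry Groth.Agent.Lib.Helper9.ValCritCore Groth.Agent.Lib.Helper9.ValCritSq
namespace Aux

theorem main {U X S : Scheme.{u}} (f : X ⟶ S) (h : U ⟶ X)
    [QuasiCompact f] [QuasiCompact h] (hd : DenseRange h.base)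
    (H : ∀ sq : ValuativeCommSq f, (∃ i : Spec (.of sq.K) ⟶ U, i ≫ h = sq.i₁) →
      Nonempty (Unique sq.commSq.LiftStruct)) :
    UniversallyClosed f ∧ (QuasiSeparated f → IsSeparated f) := by
  have key : ∀ (z : ↥U) (R : ValuationSubring ↑(U.residueField z))
      (φ : Spec (CommRingCat.of ↥R) ⟶ S)
      (hφ : Spec.map (CommRingCat.ofHom R.subtype) ≫ φ = U.fromSpecResidueField z ≫ h ≫ f),
      Nonempty (Unique (sqOf h f z R φ hφ).commSq.LiftStruct) := by
    intro z R φ hφ
    exact H (sqOf h f z R φ hφ) ⟨U.fromSpecResidueField z, rfl⟩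
  have HU : RefU h f := by
    apply refU_of_uniqueness
    intro z R φ hφ
    obtain ⟨u⟩ := key z R φ hφ
    exact ⟨fun a b => (u.uniq a).trans (u.uniq b).symm⟩
  have HE : RefE h f := by
    apply refE_of_existence
    intro z R φ hφ
    obtain ⟨u⟩ := key z R φ hφ
    exact ⟨u.default⟩
  refine ⟨UniversallyClosed.of_valuativeCriterion f (existence_of_refE h hd f HU HE), ?_⟩
  intro hqs
  exact IsSeparated.of_valuativeCriterion f (uniqueness_of_refU h hd f HU)

end Aux

/-- Let f : X ⟶ S and h : U ⟶ X be quasi-compact with h(U) dense in X. Suppose each valuative square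
over f, whose map Spec K ⟶ X factors through h, has a unique diagonal lift. Then f is universally
closed, and f is also separated provided it is quasi-separated. -/
theorem result {U X S : Scheme.{u}} (f : X ⟶ S) (h : U ⟶ X)
    [QuasiCompact f] [QuasiCompact h] (hd : DenseRange h.base)
    (H : ∀ sq : ValuativeCommSq f, (∃ i : Spec (.of sq.K) ⟶ U, i ≫ h = sq.i₁) →
      Nonempty (Unique sq.commSq.LiftStruct)) :
    UniversallyClosed f ∧ (QuasiSeparated f → IsSeparated f) := by
  exact Aux.main f h hd H

end Groth.Agent.S9700
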