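import Groth.Statements.S9709

set_option autoImplicit false
universe u
open CategoryTheory CategoryTheory.Limits AlgebraicGeometry
open Mor

namespace Groth.Agent.S9709

/-- Let f : X ⟶ S be an integral morphism. Then every point x of X is closed in its fibre: a point of
f⁻¹(f x) specialising from x equals x. -/
theorem result {X S : Scheme.{u}} (f : X ⟶ S) [IsIntegralHom f] (x : X) :
    closure {x} ∩ f.base ⁻¹' {f.base x} = {x} := by
  ext x'
  simp only [Set.mem_inter_iff, Set.mem_preimage, Set.mem_singleton_iff]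
  constructor
  · rintro ⟨hcl, hfx⟩
    have hspec : x ⤳ x' := specializes_iff_mem_closure.mpr hcl
    -- an affine open neighbourhood of f x
    obtain ⟨U, hU, hxU⟩ : ∃ U : S.Opens, IsAffineOpen U ∧ f.base x ∈ U := by
      obtain ⟨_, ⟨U, hU, rfl⟩, hxU, -⟩ :=
        S.isBasis_affineOpens.exists_subset_of_mem_open (Set.mem_univ (f.base x)) isOpen_univ
      exact ⟨U, hU, hxU⟩
    have hV : IsAffineOpen (f ⁻¹ᵁ U) := hU.preimage f
    have hx : x ∈ f ⁻¹ᵁ U := hxU
    have hx' : x' ∈ f ⁻¹ᵁ U := by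
      change f.base x' ∈ U
      rw [hfx]
      exact hxU
    have hint : (f.appLE U (f ⁻¹ᵁ U) le_rfl).hom.IsIntegral := by
      rw [← Scheme.Hom.app_eq_appLE]
      exact IsIntegralHom.isIntegral_app f U hU
    have h1 := IsAffineOpen.comap_primeIdealOf_appLE (f := f) (x := x) U hU _ hV le_rfl hx
    have h2 := IsAffineOpen.comap_primeIdealOf_appLE (f := f) (x := x') U hU _ hV le_rfl hx'
    have hle : hV.primeIdealOf ⟨x, hx⟩ ≤ hV.primeIdealOf ⟨x', hx'⟩ := by
      rw [PrimeSpectrum.le_iff_specializes]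
      have hs : (⟨x, hx⟩ : (f ⁻¹ᵁ U : X.Opens)) ⤳ ⟨x', hx'⟩ :=
        (subtype_specializes_iff _ _).mpr hspec
      exact hs.map hV.isoSpec.hom.continuous
    have heq : hV.primeIdealOf ⟨x, hx⟩ = hV.primeIdealOf ⟨x', hx'⟩ := by
      by_contra hne
      have hlt : (hV.primeIdealOf ⟨x, hx⟩).asIdeal < (hV.primeIdealOf ⟨x', hx'⟩).asIdeal :=
        lt_of_le_of_ne hle (fun h => hne (PrimeSpectrum.ext h))
      let _ := (f.appLE U (f ⁻¹ᵁ U) le_rfl).hom.toAlgebra
      have : Algebra.IsIntegral Γ(S, U) Γ(X, f ⁻¹ᵁ U) := ⟨hint⟩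
      have hlt' := Ideal.IsIntegral.comap_lt_comap (R := Γ(S, U)) hlt
      have e1 := congrArg PrimeSpectrum.asIdeal h1
      have e2 := congrArg PrimeSpectrum.asIdeal h2
      have hfx' : (⟨f.base x, hx⟩ : U) = ⟨f.base x', hx'⟩ := Subtype.ext hfx.symm
      rw [hfx'] at e1
      have : (hV.primeIdealOf ⟨x, hx⟩).asIdeal.comap (algebraMap Γ(S, U) Γ(X, f ⁻¹ᵁ U)) =
          (hV.primeIdealOf ⟨x', hx'⟩).asIdeal.comap (algebraMap Γ(S, U) Γ(X, f ⁻¹ᵁ U)) :=
        e1.trans e2.symm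
      exact absurd this (ne_of_lt hlt')
    have h3 := hV.fromSpec_primeIdealOf ⟨x, hx⟩
    have h4 := hV.fromSpec_primeIdealOf ⟨x', hx'⟩
    rw [heq] at h3
    exact (h3.symm.trans h4).symm
  · rintro rfl
    exact ⟨subset_closure rfl, rfl⟩

end Groth.Agent.S9709
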