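import Groth.Statements.S9714
import Groth.Agent.Lib.Helper6.EtLoc.UnramField

set_option autoImplicit false
universe u
open CategoryTheory CategoryTheory.Limits AlgebraicGeometry
open Mor

namespace Groth.Agent.S9714

/-- Let k be a field and X a scheme over k. The structure morphism X ⟶ Spec k is unramified (formally
unramified and locally of finite type) if and only if X is isomorphic over k to a disjoint union of
spectra of finite separable field extensions of k. -/
theorem result (k : Type u) [Field k] {X : Scheme.{u}}
    (f : X ⟶ Spec (CommRingCat.of k)) :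
    (FormallyUnramified f ∧ LocallyOfFiniteType f) ↔
      ∃ (ι : Type u) (K : ι → Type u) (_ : ∀ i, Field (K i)) (_ : ∀ i, Algebra k (K i)),
        (∀ i, FiniteDimensional k (K i) ∧ Algebra.IsSeparable k (K i)) ∧
        ∃ e : X ≅ ∐ (fun i => Spec (CommRingCat.of (K i))),
          e.hom ≫ Sigma.desc (fun i => Spec.map (CommRingCat.ofHom (algebraMap k (K i)))) = f := by
  constructor
  · rintro ⟨hun, hft⟩
    choose A j φ hj hrange hφ hfield hft' hun' using
      Groth.Agent.Lib.Helper6.EtLoc.exists_field_piece k f
    refine ⟨X, fun x => A x, fun x => (hfield x).toField, fun x => (φ x).hom.toAlgebra, ?_, ?_⟩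
    · intro x
      let _ : Field ↑(A x) := (hfield x).toField
      let _ : Algebra k ↑(A x) := (φ x).hom.toAlgebra
      have h1 : Algebra.FormallyUnramified k ↑(A x) := hun' x
      have h2 : Algebra.FiniteType k ↑(A x) := hft' x
      have h3 : Module.Finite k ↑(A x) := Algebra.FormallyUnramified.finite_of_free k ↑(A x)
      exact ⟨h3, Algebra.FormallyUnramified.isSeparable k ↑(A x)⟩
    · have hoi : IsOpenImmersion (Sigma.desc j) := by
        refine isOpenImmersion_sigmaDesc _ _ (fun x y hxy => ?_)
        show Disjoint (Set.range (j x)) (Set.range (j y))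
        rw [hrange x, hrange y]
        exact Set.disjoint_singleton.mpr hxy
      have hiso : IsIso (Sigma.desc j) := by
        apply isIso_of_isOpenImmersion_of_opensRange_eq_top
        rw [eq_top_iff]
        intro x _
        have hx : x ∈ Set.range (j x) := by rw [hrange x]; rfl
        obtain ⟨p, hp⟩ := hx
        refine ⟨Sigma.ι (fun x => Spec (A x)) x p, ?_⟩
        rw [← Scheme.Hom.comp_apply, Sigma.ι_desc]
        exact hp
      refine ⟨(asIso (Sigma.desc j)).symm, ?_⟩
      rw [Iso.symm_hom, asIso_inv, IsIso.inv_comp_eq]
      apply Sigma.hom_ext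
      intro x
      rw [Sigma.ι_desc, Sigma.ι_desc_assoc, ← hφ x]
      rfl
  · rintro ⟨ι, K, _, _, hK, e, he⟩
    rw [← he]
    have : IsZariskiLocalAtSource @FormallyUnramified.{u} :=
      HasRingHomProperty.instIsZariskiLocalAtSource
    have : IsZariskiLocalAtSource @LocallyOfFiniteType.{u} :=
      HasRingHomProperty.instIsZariskiLocalAtSource
    constructor
    · have h1 : FormallyUnramified (Sigma.desc fun i =>
          Spec.map (CommRingCat.ofHom (algebraMap k (K i)))) := by
        apply IsZariskiLocalAtSource.sigmaDesc
        intro i
        have := (hK i).2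
        have h2 : Algebra.FormallyUnramified k (K i) :=
          Algebra.FormallyUnramified.of_isSeparable _ _
        exact HasRingHomProperty.Spec_iff.mpr (RingHom.formallyUnramified_algebraMap.mpr h2)
      have h3 : FormallyUnramified e.hom := inferInstance
      exact MorphismProperty.comp_mem _ _ _ h3 h1
    · have h1 : LocallyOfFiniteType (Sigma.desc fun i =>
          Spec.map (CommRingCat.ofHom (algebraMap k (K i)))) := by
        apply IsZariskiLocalAtSource.sigmaDesc
        intro i
        have := (hK i).1
        have h2 : Algebra.FiniteType k (K i) := inferInstance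
        exact HasRingHomProperty.Spec_iff.mpr (RingHom.finiteType_algebraMap.mpr h2)
      infer_instance

end Groth.Agent.S9714
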