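import Groth.Statements.S9720
import Groth.Agent.Lib.Helper6.EtLoc.BCLocusSch

set_option autoImplicit false
universe u
open CategoryTheory CategoryTheory.Limits AlgebraicGeometry
open Mor

namespace Groth.Agent.S9720

/-- Let f : X ⟶ S be locally of finite type such that for every point s of S the fibre X_s is isomorphic
over κ(s) to a coproduct of schemes Spec K_i, each K_i a finite separable extension field of κ(s).
In that case f is formally unramified (so unramified, being locally of finite type). -/
theorem result {X S : Scheme.{u}} (f : X ⟶ S) [LocallyOfFiniteType f]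
    (H : ∀ s : S, ∃ (ι : Type u) (K : ι → Type u) (_ : ∀ i, Field (K i))
      (_ : ∀ i, Algebra (S.residueField s) (K i)),
      (∀ i, FiniteDimensional (S.residueField s) (K i) ∧ Algebra.IsSeparable (S.residueField s) (K i)) ∧
        ∃ e : f.fiber s ≅ ∐ (fun i => Spec (CommRingCat.of (K i))),
          e.hom ≫ Sigma.desc (fun i => Spec.map (CommRingCat.ofHom (algebraMap (S.residueField s) (K i)))) =
            f.fiberToSpecResidueField s) :
    FormallyUnramified f := by
  have : IsZariskiLocalAtSource @FormallyUnramified.{u} :=
    HasRingHomProperty.instIsZariskiLocalAtSource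
  apply Groth.Agent.Lib.Helper6.EtLoc.of_forall_exists_openImmersion @FormallyUnramified f
  intro x
  obtain ⟨ι, K, _, _, hK, e, he⟩ := H (f x)
  have hfib : FormallyUnramified (f.fiberToSpecResidueField (f x)) := by
    rw [← he]
    have h1 : FormallyUnramified (Sigma.desc fun i =>
        Spec.map (CommRingCat.ofHom (algebraMap (S.residueField (f x)) (K i)))) := by
      apply IsZariskiLocalAtSource.sigmaDesc
      intro i
      have := (hK i).2
      have h2 : Algebra.FormallyUnramified (S.residueField (f x)) (K i) :=
        Algebra.FormallyUnramified.of_isSeparable _ _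
      exact HasRingHomProperty.Spec_iff.mpr (RingHom.formallyUnramified_algebraMap.mpr h2)
    have h3 : FormallyUnramified e.hom := inferInstance
    exact MorphismProperty.comp_mem _ _ _ h3 h1
  have hU : FormallyUnramified
      ((⊤ : (pullback f (S.fromSpecResidueField (f x))).Opens).ι ≫
        pullback.snd f (S.fromSpecResidueField (f x))) := by
    have h3 : FormallyUnramified (⊤ : (pullback f (S.fromSpecResidueField (f x))).Opens).ι :=
      inferInstance
    exact MorphismProperty.comp_mem _ _ _ h3 hfib
  obtain ⟨Z, j, hj, hjx, hjun⟩ :=
    Groth.Agent.Lib.Helper6.EtLoc.formallyUnramified_of_local f (S.fromSpecResidueField (f x)) ⊤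
      hU (f.asFiber x) trivial
  refine ⟨Z, j, hj, ?_, hjun⟩
  have h4 : pullback.fst f (S.fromSpecResidueField (f x)) (f.asFiber x) = x :=
    f.fiberι_asFiber x
  rw [← h4]
  exact hjx

end Groth.Agent.S9720
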