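import Groth.Statements.S9762
import Groth.Agent.Lib.Helper6.EtLoc.QFClopen
import Groth.Agent.Lib.Helper6.EtLoc.FiberIso

set_option autoImplicit false
universe u
open FlatMor

namespace Groth.Agent.S9762

open AlgebraicGeometry CategoryTheory Limits in
/-- For f : X ⟶ S separated and locally of finite type, and a point s of S such that only finitely many
points of the fibre over s are isolated, some elementary étale neighbourhood (U, u) of (S, s) admits
an open and closed V ⊆ U ×_S X, finite over U, such that no point of the fibre over u lying outside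
V is isolated in that fibre. The published statement also asserts that the complement of V has empty
fibre over u when the fibre over s is finite; this row omits that clause. -/
theorem result {X S : Scheme.{u}} (f : X ⟶ S) [LocallyOfFiniteType f] [IsSeparated f] (s : S)
    (hfin : {x : ↑(f.fiber s) | IsOpen ({x} : Set ↑(f.fiber s))}.Finite) :
    ∃ (U : Scheme.{u}) (g : U ⟶ S) (u : U), Hens2.IsEtaleNbhd g u s ∧
      ∃ V : (pullback f g).Opens, IsClopen (V : Set ↑(pullback f g)) ∧ IsFinite (V.ι ≫ pullback.snd f g) ∧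
        ∀ w : ↑((pullback.snd f g).fiber u), (pullback.snd f g).fiberι u w ∉ V →
          ¬ IsOpen ({w} : Set ↑((pullback.snd f g).fiber u)) := by
  classical
  -- the finite set of quasi-finite points over `s`
  have hT : {x : X | f x = s ∧ f.QuasiFiniteAt x}.Finite := by
    refine (hfin.image (f.fiberι s)).subset ?_
    rintro x ⟨hx, hqf⟩
    refine ⟨(f.fiberHomeo s).symm ⟨x, hx⟩, ?_, f.fiberι_fiberHomeo_symm s ⟨x, hx⟩⟩
    show IsOpen _
    rw [Groth.Agent.Lib.Helper6.EtLoc.isOpen_singleton_fiber_iff, f.fiberι_fiberHomeo_symm s ⟨x, hx⟩]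
    exact hqf
  obtain ⟨m, x, hxr⟩ := hT.fin_embedding
  have hxT : ∀ i, f (x i) = s ∧ f.QuasiFiniteAt (x i) := by
    intro i
    have : x i ∈ {x : X | f x = s ∧ f.QuasiFiniteAt x} := by rw [← hxr]; exact ⟨i, rfl⟩
    exact this
  obtain ⟨U, g, u, hg, hgu, hres, V, hVcl, hVfin, hV⟩ :=
    Groth.Agent.Lib.Helper6.EtLoc.qf_points_clopen f s x x.injective (fun i => (hxT i).1)
      (fun i => (hxT i).2)
  refine ⟨U, g, u, ⟨hg, hgu, ⟨(g.residueFieldMap u).hom.injective, hres⟩⟩, V, hVcl, hVfin, ?_⟩
  intro w hwV hopen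
  apply hwV
  have hiso : IsIso (g.residueFieldMap u) :=
    Groth.Agent.Lib.Helper6.EtLoc.isIso_of_surjective_field (Field.toIsField _) _ hres
  obtain ⟨τ, hτ, hτι⟩ := Groth.Agent.Lib.Helper6.EtLoc.exists_fiber_homeo f g u
  -- `τ w` is isolated in the fibre of `f`
  have h1 : IsOpen ({τ w} : Set ↑(f.fiber (g u))) := by
    have := (asIso τ).schemeIsoToHomeo.isOpenMap _ hopen
    rw [Set.image_singleton] at this
    exact this
  rw [Groth.Agent.Lib.Helper6.EtLoc.isOpen_singleton_fiber_iff] at h1
  have h2 : f.fiberι (g u) (τ w) =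
      pullback.fst f g ((pullback.snd f g).fiberι u w) := by
    rw [← Scheme.Hom.comp_apply, hτι, Scheme.Hom.comp_apply]
  rw [h2] at h1
  have hsnd : pullback.snd f g ((pullback.snd f g).fiberι u w) = u := by
    have : (pullback.snd f g).fiberι u w ∈ Set.range ((pullback.snd f g).fiberι u) := ⟨w, rfl⟩
    rw [Scheme.Hom.range_fiberι] at this
    exact this
  have hfs : f (pullback.fst f g ((pullback.snd f g).fiberι u w)) = s := by
    rw [← Scheme.Hom.comp_apply, pullback.condition, Scheme.Hom.comp_apply, hsnd, hgu]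
  have hmem : pullback.fst f g ((pullback.snd f g).fiberι u w) ∈ Set.range x := by
    rw [hxr]; exact ⟨hfs, h1⟩
  obtain ⟨i, hi⟩ := hmem
  exact hV _ i hsnd hi.symm

end Groth.Agent.S9762
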