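import Groth.Statements.S9771
import Mathlib
import Groth.Agent.S1487
import Groth.Agent.Lib.Helper6.FlatUnram.Ring

set_option autoImplicit false
universe u
open FlatMor

namespace Groth.Agent.S9771

open AlgebraicGeometry CategoryTheory Limits in
/-- An unramified (formally unramified and locally of finite type) flat morphism of schemes is formally
étale. (When the morphism is moreover locally of finite presentation this is the statement that flat
unramified morphisms are étale; the content here is the case without finite presentation.) -/
theorem result {X S : Scheme.{u}} (f : X ⟶ S)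
    [Flat f] [FormallyUnramified f] [LocallyOfFiniteType f] : MoreMor.IsFormallyEtaleHom f := by
  rw [Groth.Agent.S1487.result]
  intro U V hU hV hUV
  let _ := (f.appLE V U hUV).hom.toAlgebra
  have h1 : (f.appLE V U hUV).hom.Flat :=
    HasRingHomProperty.appLE (P := @Flat) f inferInstance ⟨V, hV⟩ ⟨U, hU⟩ hUV
  have h2 : (f.appLE V U hUV).hom.FiniteType :=
    HasRingHomProperty.appLE (P := @LocallyOfFiniteType) f inferInstance ⟨V, hV⟩ ⟨U, hU⟩ hUV
  have h3 : (f.appLE V U hUV).hom.FormallyUnramified :=
    HasRingHomProperty.appLE (P := @FormallyUnramified) f inferInstance ⟨V, hV⟩ ⟨U, hU⟩ hUV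
  have : Module.Flat Γ(S, V) Γ(X, U) := h1
  have : Algebra.FiniteType Γ(S, V) Γ(X, U) := h2
  have : Algebra.FormallyUnramified Γ(S, V) Γ(X, U) := h3
  exact Groth.Agent.Lib.Helper6.FlatUnram.formallyEtale_of_flat_of_formallyUnramified _ _

end Groth.Agent.S9771
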