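import Groth.Statements.S9794
import Mathlib

set_option autoImplicit false
universe u
open CategoryTheory AlgebraicGeometry TopologicalSpace
open Props

namespace Groth.Agent.S9794

section
open CategoryTheory AlgebraicGeometry TopologicalSpace

section top
variable {X : Type*} [TopologicalSpace X]

theorem comp (S : Finset (Set X)) (hSc : ∀ t ∈ S, IsClosed t)
    (hSi : ∀ t ∈ S, IsIrreducible t) (T : Set X) (hT : closure T = ⋃₀ (S : Set (Set X))) :
    ∀ k ∈ S, ∃ k' ∈ S, k ⊆ k' ∧ closure (T ∩ k') = k' := by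
  classical
  intro k hk
  obtain ⟨k', hk'mem, hk'max⟩ := (S.filter (fun t => k ⊆ t)).exists_maximal ⟨k, by simp [hk]⟩
  rw [Finset.mem_filter] at hk'mem
  refine ⟨k', hk'mem.1, hk'mem.2, ?_⟩
  apply le_antisymm
  · exact closure_minimal Set.inter_subset_right (hSc k' hk'mem.1)
  · have hcov : k' ⊆ ⋃₀ ((S.image (fun t => closure (T ∩ t)) : Finset (Set X)) : Set (Set X)) := by
      have hC : IsClosed (⋃₀ ((S.image (fun t => closure (T ∩ t)) : Finset (Set X)) :
          Set (Set X))) := by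
        rw [Set.sUnion_eq_biUnion]
        apply Set.Finite.isClosed_biUnion (Finset.finite_toSet _)
        intro z hz
        rw [Finset.mem_coe, Finset.mem_image] at hz
        obtain ⟨t, _, rfl⟩ := hz
        exact isClosed_closure
      have hTsub : T ⊆ ⋃₀ ((S.image (fun t => closure (T ∩ t)) : Finset (Set X)) :
          Set (Set X)) := by
        intro x hx
        have hx' : x ∈ ⋃₀ (S : Set (Set X)) := hT ▸ subset_closure hx
        obtain ⟨t, ht, hxt⟩ := hx'
        refine ⟨closure (T ∩ t), ?_, subset_closure ⟨hx, hxt⟩⟩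
        rw [Finset.mem_coe, Finset.mem_image]
        exact ⟨t, ht, rfl⟩
      have h1 : k' ⊆ closure T := by
        rw [hT]
        exact Set.subset_sUnion_of_mem hk'mem.1
      exact h1.trans (closure_minimal hTsub hC)
    obtain ⟨z, hz, hk'z⟩ := (isIrreducible_iff_sUnion_isClosed.mp (hSi k' hk'mem.1)) _ (by
      intro z hz
      rw [Finset.mem_image] at hz
      obtain ⟨t, _, rfl⟩ := hz
      exact isClosed_closure) hcov
    rw [Finset.mem_image] at hz
    obtain ⟨t, ht, rfl⟩ := hz
    have htk' : k' ⊆ t := hk'z.trans (closure_minimal Set.inter_subset_right (hSc t ht))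
    have hteq : t = k' := by
      have hmem : t ∈ S.filter (fun t => k ⊆ t) := by
        rw [Finset.mem_filter]; exact ⟨ht, hk'mem.2.trans htk'⟩
      have := hk'max hmem htk'
      exact le_antisymm this htk'
    rw [hteq] at hk'z
    exact hk'z


theorem closure_sing_subset {x y : X} (h : y ∈ closure ({x} : Set X)) :
    closure ({y} : Set X) ⊆ closure {x} :=
  closure_minimal (Set.singleton_subset_iff.mpr h) isClosed_closure

theorem eq_of_mem_closure [T0Space X] {x y : X} (h1 : y ∈ closure ({x} : Set X))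
    (h2 : x ∈ closure ({y} : Set X)) : x = y :=
  ((specializes_iff_mem_closure.mpr h1).antisymm (specializes_iff_mem_closure.mpr h2)).eq

theorem lemA [NoetherianSpace X] [QuasiSober X] [T0Space X] (ht : X → ℕ)
    (hht : ∀ x y : X, y ∈ closure ({x} : Set X) → x ≠ y → ht x < ht y) :
    ∀ (Z : Closeds X) (p : X), closure {p} = (Z : Set X) → ∀ D : Set X, D ⊆ Z → closure D = Z →
    ∃ E ⊆ D, E.Countable ∧ closure E = (Z : Set X) := by
  intro Z
  induction Z using WellFoundedLT.induction with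
  | ind Z IH =>
  intro p hp D hDZ hDcl
  by_cases hpD : p ∈ D
  · exact ⟨{p}, by simpa using hpD, Set.countable_singleton p, hp⟩
  obtain ⟨W, hW⟩ : ∃ W : Set X, W = {q | q ∈ (Z : Set X) ∧ q ≠ p ∧
      closure (D ∩ closure {q}) = closure {q}} := ⟨_, rfl⟩
  have hDW : D ⊆ W := by
    intro t htD
    rw [hW]
    refine ⟨hDZ htD, fun h => hpD (h ▸ htD), ?_⟩
    apply le_antisymm
    · exact closure_minimal Set.inter_subset_right isClosed_closure
    · exact closure_mono (Set.singleton_subset_iff.mpr ⟨htD, subset_closure rfl⟩)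
  obtain ⟨Wmin, hWmin⟩ : ∃ Wm : Set X, Wm = {q | q ∈ W ∧ ∀ q' ∈ W, q ∈ closure {q'} → q' = q} :=
    ⟨_, rfl⟩
  have hmin : ∀ w ∈ W, ∃ q ∈ Wmin, w ∈ closure {q} := by
    intro w hw
    obtain ⟨q, ⟨hqW, hwq⟩, hqmin⟩ := WellFounded.has_min (measure ht).wf
      {q | q ∈ W ∧ w ∈ closure {q}} ⟨w, hw, subset_closure rfl⟩
    refine ⟨q, ?_, hwq⟩
    rw [hWmin]
    refine ⟨hqW, fun q' hq'W hqq' => ?_⟩
    by_contra hne
    have hlt : ht q' < ht q := hht q' q hqq' hne
    exact hqmin q' ⟨hq'W, closure_sing_subset hqq' hwq⟩ hlt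
  have hZcl : IsClosed (Z : Set X) := Z.2
  have hpZ : p ∈ (Z : Set X) := hp ▸ subset_closure rfl
  have hinf : Wmin.Infinite := by
    by_contra hfin
    rw [Set.not_infinite] at hfin
    have hC : IsClosed (⋃ q ∈ Wmin, closure ({q} : Set X)) :=
      hfin.isClosed_biUnion (fun q _ => isClosed_closure)
    have hDC : D ⊆ ⋃ q ∈ Wmin, closure ({q} : Set X) := by
      intro t htD
      obtain ⟨q, hq, htq⟩ := hmin t (hDW htD)
      exact Set.mem_biUnion hq htq
    have hpC : p ∈ ⋃ q ∈ Wmin, closure ({q} : Set X) := by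
      have : (Z : Set X) ⊆ _ := hDcl ▸ closure_minimal hDC hC
      exact this hpZ
    simp only [Set.mem_iUnion, exists_prop] at hpC
    obtain ⟨q, hq, hpq⟩ := hpC
    rw [hWmin] at hq
    have hqW := hq.1
    rw [hW] at hqW
    have hqZ : q ∈ closure ({p} : Set X) := hp ▸ hqW.1
    exact hqW.2.1 (eq_of_mem_closure hpq hqZ)
  have hWmin_prop : ∀ x ∈ Wmin, (x ∈ (Z : Set X) ∧ x ≠ p ∧
      closure (D ∩ closure {x}) = closure {x}) ∧
      ∀ q' ∈ W, x ∈ closure {q'} → q' = x := by
    intro x hx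
    rw [hWmin] at hx
    have h2 := hx.1
    rw [hW] at h2
    exact ⟨h2, hx.2⟩
  let emb := hinf.natEmbedding Wmin
  have hq : ∀ i, ((emb i : X) ∈ (Z : Set X) ∧ (emb i : X) ≠ p ∧
      closure (D ∩ closure {(emb i : X)}) = closure {(emb i : X)}) ∧
      ∀ q' ∈ W, (emb i : X) ∈ closure {q'} → q' = (emb i : X) :=
    fun i => hWmin_prop _ (emb i).2
  have hlt : ∀ i, (⟨closure {(emb i : X)}, isClosed_closure⟩ : Closeds X) < Z := by
    intro i
    apply lt_of_le_of_ne
    · exact closure_minimal (Set.singleton_subset_iff.mpr (hq i).1.1) hZcl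
    · intro heq
      have h1 : closure {(emb i : X)} = (Z : Set X) := congrArg (fun C : Closeds X => (C : Set X)) heq
      have hpq : p ∈ closure {(emb i : X)} := h1 ▸ hpZ
      have hqp : (emb i : X) ∈ closure ({p} : Set X) := hp ▸ (hq i).1.1
      exact (hq i).1.2.1 (eq_of_mem_closure hpq hqp)
  have hIH : ∀ i, ∃ E ⊆ D ∩ closure {(emb i : X)}, E.Countable ∧
      closure E = closure {(emb i : X)} := fun i =>
    IH _ (hlt i) (emb i : X) rfl (D ∩ closure {(emb i : X)}) Set.inter_subset_right (hq i).1.2.2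
  choose Ei hEi1 hEi2 hEi3 using hIH
  refine ⟨⋃ i, Ei i, ?_, Set.countable_iUnion hEi2, ?_⟩
  · exact Set.iUnion_subset fun i => (hEi1 i).trans Set.inter_subset_left
  have hED : (⋃ i, Ei i) ⊆ D := Set.iUnion_subset fun i => (hEi1 i).trans Set.inter_subset_left
  have hYZ : closure (⋃ i, Ei i) ⊆ (Z : Set X) := closure_minimal (hED.trans hDZ) hZcl
  by_contra hne
  obtain ⟨S, hSf, hSc, hSi, hSU⟩ := NoetherianSpace.exists_finite_set_isClosed_irreducible
    (isClosed_closure : IsClosed (closure (⋃ i, Ei i)))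
  lift S to Finset (Set X) using hSf
  have hall : ∀ i, closure {(emb i : X)} ∈ S := by
    intro i
    have hsub : closure {(emb i : X)} ⊆ ⋃₀ (S : Set (Set X)) := by
      rw [← hSU, ← hEi3 i]
      exact closure_mono (Set.subset_iUnion Ei i)
    obtain ⟨k, hk, hqk⟩ := (isIrreducible_iff_sUnion_isClosed.mp
      (isIrreducible_singleton.closure)) S hSc hsub
    obtain ⟨k', hk', hkk', hcl⟩ := comp S hSc hSi (⋃ i, Ei i) hSU k hk
    obtain ⟨r, hr⟩ := QuasiSober.sober (hSi k' hk') (hSc k' hk')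
    have hr' : closure {r} = k' := hr
    have hk'Y : k' ⊆ closure (⋃ i, Ei i) := by
      rw [hSU]; exact Set.subset_sUnion_of_mem hk'
    have hrW : r ∈ W := by
      rw [hW]
      refine ⟨hYZ (hk'Y (hr' ▸ subset_closure rfl)), ?_, ?_⟩
      · intro hrp
        apply hne
        apply le_antisymm hYZ
        rw [← hp, ← hrp, hr']
        exact hk'Y
      · rw [hr']
        apply le_antisymm
        · exact closure_minimal Set.inter_subset_right (hSc k' hk')
        · calc k' = closure ((⋃ i, Ei i) ∩ k') := hcl.symm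
            _ ⊆ closure (D ∩ k') := closure_mono (Set.inter_subset_inter_left _ hED)
    have hqr : (emb i : X) ∈ closure {r} := by
      rw [hr']
      exact hkk' (hqk (subset_closure rfl))
    have := (hq i).2 r hrW hqr
    rw [← this, hr']
    exact hk'
  have hinj : Function.Injective (fun i : ℕ => (⟨closure {(emb i : X)}, hall i⟩ : S)) := by
    intro i j hij
    have h1 : closure {(emb i : X)} = closure {(emb j : X)} := congrArg Subtype.val hij
    have h2 : (emb i : X) = (emb j : X) :=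
      eq_of_mem_closure (h1 ▸ subset_closure rfl) (h1.symm ▸ subset_closure rfl)
    exact emb.injective (Subtype.ext h2)
  exact not_injective_infinite_finite _ hinj


theorem lemB [NoetherianSpace X] [QuasiSober X] [T0Space X] (ht : X → ℕ)
    (hht : ∀ x y : X, y ∈ closure ({x} : Set X) → x ≠ y → ht x < ht y)
    (D : Set X) (hD : Dense D) : ∃ E ⊆ D, E.Countable ∧ Dense E := by
  classical
  obtain ⟨S, hSf, hSc, hSi, hSU⟩ := NoetherianSpace.exists_finite_set_isClosed_irreducible
    (isClosed_univ : IsClosed (Set.univ : Set X))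
  lift S to Finset (Set X) using hSf
  have hcl : closure D = ⋃₀ (S : Set (Set X)) := by rw [hD.closure_eq, hSU]
  have h1 := comp S hSc hSi D hcl
  have h2 : ∀ k' ∈ S, closure (D ∩ k') = k' → ∃ E ⊆ D, E.Countable ∧ closure E = k' := by
    intro k' hk' hcl'
    obtain ⟨r, hr⟩ := QuasiSober.sober (hSi k' hk') (hSc k' hk')
    obtain ⟨E, hE1, hE2, hE3⟩ := lemA ht hht ⟨k', hSc k' hk'⟩ r hr (D ∩ k')
      Set.inter_subset_right hcl'
    exact ⟨E, hE1.trans Set.inter_subset_left, hE2, hE3⟩
  obtain ⟨F, hF⟩ : ∃ F : Set X → Set X, ∀ k' ∈ S, closure (D ∩ k') = k' →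
      F k' ⊆ D ∧ (F k').Countable ∧ closure (F k') = k' := by
    refine ⟨fun k' => if h : k' ∈ S ∧ closure (D ∩ k') = k' then (h2 k' h.1 h.2).choose else ∅, ?_⟩
    intro k' hk' hcl'
    have h : k' ∈ S ∧ closure (D ∩ k') = k' := ⟨hk', hcl'⟩
    simp only [h, and_self, dif_pos]
    exact (h2 k' hk' hcl').choose_spec
  obtain ⟨G, hG⟩ : ∃ G : Set (Set X), G = {k' | k' ∈ S ∧ closure (D ∩ k') = k'} := ⟨_, rfl⟩
  have hGmem : ∀ k', k' ∈ G ↔ (k' ∈ S ∧ closure (D ∩ k') = k') := by
    intro k'; rw [hG]; rfl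
  refine ⟨⋃ k' ∈ G, F k', ?_, ?_, ?_⟩
  · apply Set.iUnion₂_subset
    intro k' hk'
    rw [hGmem] at hk'
    exact (hF k' hk'.1 hk'.2).1
  · apply Set.Countable.biUnion
    · exact (S.finite_toSet.subset (fun k' hk' => ((hGmem k').mp hk').1)).countable
    · intro k' hk'
      rw [hGmem] at hk'
      exact (hF k' hk'.1 hk'.2).2.1
  · rw [dense_iff_closure_eq, ← Set.univ_subset_iff, hSU]
    apply Set.sUnion_subset
    intro k hk
    obtain ⟨k', hk', hkk', hcl'⟩ := h1 k hk
    refine hkk'.trans ?_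
    rw [← (hF k' hk' hcl').2.2]
    apply closure_mono
    exact Set.subset_biUnion_of_mem (u := fun k' => F k') ((hGmem k').mpr ⟨hk', hcl'⟩)

end top


theorem spec_case (A : Type u) [CommRing A] [IsNoetherianRing A] (D : Set (PrimeSpectrum A))
    (hD : Dense D) : ∃ E ⊆ D, E.Countable ∧ Dense E := by
  apply lemB (fun x : PrimeSpectrum A => x.asIdeal.height.toNat) _ D hD
  intro x y hxy hne
  have hle : x ≤ y := (PrimeSpectrum.le_iff_mem_closure x y).mpr hxy
  have hlt : x.asIdeal < y.asIdeal := lt_of_le_of_ne hle (fun h => hne (PrimeSpectrum.ext h))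
  have h1 : x.asIdeal.height < y.asIdeal.height := Ideal.height_strict_mono_of_isPrime hlt
  have h2 : y.asIdeal.height ≠ ⊤ := Ideal.height_ne_top y.2.ne_top
  have h3 : x.asIdeal.height ≠ ⊤ := ne_top_of_lt h1
  change x.asIdeal.height.toNat < y.asIdeal.height.toNat
  lift x.asIdeal.height to ℕ using h3 with a ha
  lift y.asIdeal.height to ℕ using h2 with b hb
  simpa using h1

theorem transport {S P : Type*} [TopologicalSpace S] [TopologicalSpace P]
    (hP : ∀ D : Set P, Dense D → ∃ E ⊆ D, E.Countable ∧ Dense E)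
    (U : Opens S) (h : ↥U ≃ₜ P) (T : Set S) (hT : Dense T) :
    ∃ E ⊆ T, E.Countable ∧ (U : Set S) ⊆ closure E := by
  have hd1 : Dense ((Subtype.val : ↥U → S) ⁻¹' T) := hT.preimage U.2.isOpenMap_subtype_val
  have hd2 : Dense (h '' ((Subtype.val : ↥U → S) ⁻¹' T)) :=
    h.surjective.denseRange.dense_image h.continuous hd1
  obtain ⟨E', hE'1, hE'2, hE'3⟩ := hP _ hd2
  refine ⟨Subtype.val '' (h.symm '' E'), ?_, (hE'2.image _).image _, ?_⟩
  · rintro _ ⟨_, ⟨e', he', rfl⟩, rfl⟩
    obtain ⟨z, hz, rfl⟩ := hE'1 he'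
    rw [h.symm_apply_apply]
    exact hz
  · intro x hx
    have hd3 : Dense (h.symm '' E') :=
      h.symm.surjective.denseRange.dense_image h.symm.continuous hE'3
    have := hd3 ⟨x, hx⟩
    rw [closure_subtype] at this
    exact this

theorem main (S : Scheme.{u}) [IsNoetherian S]
    (T : Set S) (hT : T.Infinite) (hd : Dense T) :
    ∃ E : Set S, E ⊆ T ∧ E.Countable ∧ Dense E := by
  have hloc : ∀ x : S, ∃ U : S.Opens, x ∈ U ∧ ∃ E ⊆ T, E.Countable ∧ (U : Set S) ⊆ closure E := by
    intro x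
    obtain ⟨W, hW, hxW, -⟩ := exists_isAffineOpen_mem_and_subset (X := S) (x := x) (U := ⊤) trivial
    refine ⟨W, hxW, ?_⟩
    haveI : IsNoetherianRing Γ(S, W) := IsLocallyNoetherian.component_noetherian ⟨W, hW⟩
    exact transport (spec_case Γ(S, W)) W (Scheme.homeoOfIso hW.isoSpec) T hd
  choose U hxU E hE1 hE2 hE3 using hloc
  obtain ⟨t, ht⟩ := (isCompact_univ (X := S)).elim_finite_subcover (fun x => (U x : Set S))
    (fun x => (U x).2) (fun x _ => Set.mem_iUnion.mpr ⟨x, hxU x⟩)
  refine ⟨⋃ x ∈ t, E x, Set.iUnion₂_subset (fun x _ => hE1 x),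
    Set.Countable.biUnion t.countable_toSet (fun x _ => hE2 x), ?_⟩
  rw [dense_iff_closure_eq, ← Set.univ_subset_iff]
  refine ht.trans ?_
  apply Set.iUnion₂_subset
  intro x hx
  exact (hE3 x).trans (closure_mono (Set.subset_biUnion_of_mem (u := fun x => E x) hx))


end


/-- In a Noetherian scheme, an infinite dense set of points contains a countable subset which is dense. -/
theorem result (S : Scheme.{u}) [IsNoetherian S]
    (T : Set S) (hT : T.Infinite) (hd : Dense T) :
    ∃ E : Set S, E ⊆ T ∧ E.Countable ∧ Dense E := by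
  classical
  exact main S T hT hd

end Groth.Agent.S9794
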