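import Groth.Statements.S9798
import Groth.Agent.Lib.Helper8.TopDim3

set_option autoImplicit false
universe u
open CategoryTheory AlgebraicGeometry TopologicalSpace
open Props

namespace Groth.Agent.S9798

/-- A point of a locally Noetherian scheme has local dimension zero exactly when it is isolated. -/
theorem result (X : Scheme.{u}) [IsLocallyNoetherian X] (x : X) :
    FlatMor.localDim X x = 0 ↔ IsOpen ({x} : Set X) := by
  open Groth.Agent.Helper8.TopDim2 in
  constructor
  · intro h
    have h1 : FlatMor.localDim X x < 1 := by rw [h]; exact zero_lt_one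
    unfold FlatMor.localDim at h1
    rw [iInf_lt_iff] at h1
    obtain ⟨⟨U, hxU⟩, hU⟩ := h1
    obtain ⟨_, ⟨V, hV, rfl⟩, hxV, hVU⟩ :=
      X.isBasis_affineOpens.exists_subset_of_mem_open hxU U.2
    have hne : Nonempty ↥(V : Set X) := ⟨⟨x, hxV⟩⟩
    have hVdim : topologicalKrullDim ↥(V : Set X) ≤ topologicalKrullDim ↥(U : Set X) :=
      (Topology.IsEmbedding.inclusion hVU).isInducing.topologicalKrullDim_le
    have hV0 : topologicalKrullDim ↥(V : Set X) = 0 :=
      le_antisymm (le_zero_of_lt_one (lt_of_le_of_lt hVdim hU)) (dim_nonneg_of_nonempty _)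
    have hnoeth : IsNoetherianRing Γ(X, V) := IsLocallyNoetherian.component_noetherian ⟨V, hV⟩
    have hns : NoetherianSpace ↥(V : Set X) := noetherianSpace_of_isAffineOpen V hV
    obtain ⟨-, hdisc⟩ := (dim_eq_zero_iff_finite_discrete ↥(V : Set X)).mp hV0
    have hopen : IsOpen ({⟨x, hxV⟩} : Set ↥(V : Set X)) := isOpen_discrete _
    have := V.isOpen.isOpenEmbedding_subtypeVal.isOpenMap _ hopen
    simpa using this
  · intro hx
    apply le_antisymm
    · refine le_trans (localDim_le_of_mem hx (Set.mem_singleton x)) ?_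
      exact topologicalKrullDim_zero_of_discreteTopology _
    · unfold FlatMor.localDim
      apply le_iInf
      rintro ⟨U, hxU⟩
      have : Nonempty ↥(U : Set X) := ⟨⟨x, hxU⟩⟩
      exact dim_nonneg_of_nonempty _

end Groth.Agent.S9798
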