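import Groth.Statements.S9800
import Mathlib
import Groth.Prelude.Def_Pi1
-- import your own Groth.Agent.* helpers here

set_option autoImplicit false
universe u
open CategoryTheory AlgebraicGeometry TopologicalSpace
open Props

namespace Groth.Agent.S9800

open CategoryTheory AlgebraicGeometry TopologicalSpace
namespace Aux

theorem dim_stalk_le (X : Scheme.{u}) (x : X) :
    ringKrullDim (X.presheaf.stalk x) ≤ topologicalKrullDim X := by
  rw [← PrimeSpectrum.topologicalKrullDim_eq_ringKrullDim]
  have h : Topology.IsEmbedding (X.fromSpecStalk x) :=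
    (inferInstance : IsPreimmersion (X.fromSpecStalk x)).isEmbedding
  exact h.isInducing.topologicalKrullDim_le

theorem main (X : Scheme.{u})
    [IsLocallyNoetherian X] (hN : Pi1.IsNormalScheme X) (hd : topologicalKrullDim X ≤ 1) (x : X) :
    IsRegularLocalRing (X.presheaf.stalk x) := by
  obtain ⟨hdom, hic⟩ := hN x
  have hdim : ringKrullDim (X.presheaf.stalk x) ≤ 1 := (dim_stalk_le X x).trans hd
  haveI : Ring.KrullDimLE 1 (X.presheaf.stalk x) := by
    rw [Ring.krullDimLE_iff]; exact_mod_cast hdim
  haveI : IsPrincipalIdealRing (X.presheaf.stalk x) := by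
    apply ((tfae_of_isNoetherianRing_of_isLocalRing_of_isDomain
      (X.presheaf.stalk x)).out 3 0).1
    refine ⟨hic, fun P hP hPp => ?_⟩
    haveI := hPp
    exact IsLocalRing.eq_maximalIdeal (Ring.krullDimLE_one_iff_of_noZeroDivisors.mp ‹_› P hP hPp)
  infer_instance

end Aux

/-- A locally Noetherian normal scheme of dimension at most one is regular, that is, all of its local
rings are regular local rings. -/
theorem result (X : Scheme.{u})
    [IsLocallyNoetherian X] (hN : Pi1.IsNormalScheme X) (hd : topologicalKrullDim X ≤ 1) (x : X) :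
    IsRegularLocalRing (X.presheaf.stalk x) := by
  exact Aux.main X hN hd x

end Groth.Agent.S9800
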