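import Groth.Statements.S9801
import Mathlib
import Groth.Prelude.Def_Pi1
import Groth.Prelude.Def_CAlg
import Groth.Agent.S9800
-- import your own Groth.Agent.* helpers here

set_option autoImplicit false
universe u
open CategoryTheory AlgebraicGeometry TopologicalSpace
open Props

namespace Groth.Agent.S9801

open CategoryTheory AlgebraicGeometry TopologicalSpace IsLocalRing RingTheory.Sequence Pointwise
namespace Aux

variable {R : Type u} [CommRing R]

theorem maximalIdeal_smul_top_ne [IsLocalRing R] :
    maximalIdeal R • (⊤ : Submodule R R) ≠ ⊤ := by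
  rw [smul_eq_mul, Ideal.mul_top]
  exact Ideal.IsPrime.ne_top'

theorem length_le_dim [IsLocalRing R] [IsNoetherianRing R] (rs : List R)
    (h : IsWeaklyRegular R rs) (hm : ∀ r ∈ rs, r ∈ maximalIdeal R) :
    ((rs.length : ℕ∞) : WithBot ℕ∞) ≤ ringKrullDim R := by
  have hreg : IsRegular R rs := IsRegular.of_isWeaklyRegular_of_mem_maximalIdeal R hm h
  have e := ringKrullDim_add_length_eq_ringKrullDim_of_isRegular rs hreg
  have hnt : Nontrivial (R ⧸ Ideal.ofList rs) := by
    apply Ideal.Quotient.nontrivial_iff.2
    intro htop
    apply hreg.2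
    rw [htop, smul_eq_mul, Ideal.mul_top]
  have h0 : (0 : WithBot ℕ∞) ≤ ringKrullDim (R ⧸ Ideal.ofList rs) := ringKrullDim_nonneg_of_nontrivial
  rw [← e]
  calc ((rs.length : ℕ∞) : WithBot ℕ∞) = 0 + ((rs.length : ℕ∞) : WithBot ℕ∞) := by rw [zero_add]
    _ ≤ _ := by
      have : ((rs.length : ℕ∞) : WithBot ℕ∞) = ((rs.length : ℕ) : WithBot ℕ∞) := rfl
      rw [this]
      exact add_le_add_left h0 _

theorem depth_le_dim [IsLocalRing R] [IsNoetherianRing R] :
    ((LocCoh.depth R R : ℕ∞) : WithBot ℕ∞) ≤ ringKrullDim R := by
  unfold LocCoh.depth LocCoh.idealDepth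
  rw [if_neg maximalIdeal_smul_top_ne]
  rcases h : ringKrullDim R with _ | d
  · exact absurd h ringKrullDim_ne_bot
  · change ((_ : ℕ∞) : WithBot ℕ∞) ≤ ((d : ℕ∞) : WithBot ℕ∞)
    rw [WithBot.coe_le_coe]
    refine iSup₂_le fun rs hrs => ?_
    have := length_le_dim rs hrs.1 hrs.2
    rw [h] at this
    exact WithBot.coe_le_coe.1 this

theorem le_depth [IsLocalRing R] (rs : List R)
    (h : IsWeaklyRegular R rs) (hm : ∀ r ∈ rs, r ∈ maximalIdeal R) :
    (rs.length : ℕ∞) ≤ LocCoh.depth R R := by
  unfold LocCoh.depth LocCoh.idealDepth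
  rw [if_neg maximalIdeal_smul_top_ne]
  exact le_iSup₂_of_le rs ⟨h, hm⟩ le_rfl

/-- In a normal Noetherian local domain, if the maximal ideal is the annihilator of a nonzero
element of `R/xR` (`x ≠ 0`) then it is principal. -/
theorem maximalIdeal_principal [IsLocalRing R] [IsNoetherianRing R] [IsDomain R]
    [IsIntegrallyClosed R] (x y : R) (hx : x ≠ 0) (hxm : x ∈ maximalIdeal R)
    (hy : y ∉ Ideal.span {x})
    (h : ∀ z ∈ maximalIdeal R, z * y ∈ Ideal.span {x}) : (maximalIdeal R).IsPrincipal := by
  classical
  by_cases hcase : ∀ z ∈ maximalIdeal R, ∀ w, z * y = x * w → w ∈ maximalIdeal R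
  · exfalso
    let K := FractionRing R
    let t : K := algebraMap R K y / algebraMap R K x
    have hxK : algebraMap R K x ≠ 0 := by
      simpa using (IsFractionRing.injective R K).ne hx
    let N : Submodule R K := Submodule.map (Algebra.linearMap R K) (maximalIdeal R)
    have hN : N ≠ ⊥ := by
      intro hbot
      have : algebraMap R K x ∈ N := ⟨x, hxm, rfl⟩
      rw [hbot, Submodule.mem_bot] at this
      exact hxK this
    have hNfg : N.FG := Submodule.FG.map _ (IsNoetherian.noetherian _)
    have hint : IsIntegral R t := by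
      refine isIntegral_of_smul_mem_submodule N hN hNfg t ?_
      rintro _ ⟨z, hz, rfl⟩
      obtain ⟨w, hw⟩ := Ideal.mem_span_singleton'.1 (h z hz)
      have hw' : z * y = x * w := by rw [← hw, mul_comm]
      refine ⟨w, hcase z hz w hw', ?_⟩
      simp only [Algebra.linearMap_apply, smul_eq_mul, t]
      rw [div_mul_eq_mul_div, eq_div_iff hxK, ← map_mul, ← map_mul]
      congr 1
      rw [mul_comm w x, ← hw', mul_comm]
    obtain ⟨r, hr⟩ := IsIntegrallyClosed.isIntegral_iff.1 hint
    apply hy
    rw [Ideal.mem_span_singleton']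
    refine ⟨r, ?_⟩
    apply IsFractionRing.injective R K
    rw [map_mul, hr]
    simp only [t]
    rw [div_mul_cancel₀ _ hxK]
  · push_neg at hcase
    obtain ⟨z₀, hz₀, w₀, hw₀, hw₀m⟩ := hcase
    have hu : IsUnit w₀ := by
      by_contra hnu
      exact hw₀m ((IsLocalRing.mem_maximalIdeal _).2 hnu)
    obtain ⟨u, rfl⟩ := hu
    refine ⟨⟨z₀, le_antisymm ?_ ?_⟩⟩
    · intro z hz
      obtain ⟨w, hw⟩ := Ideal.mem_span_singleton'.1 (h z hz)
      have hw' : z * y = x * w := by rw [← hw, mul_comm]
      rw [Ideal.submodule_span_eq, Ideal.mem_span_singleton']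
      refine ⟨w * (↑u⁻¹ : R), ?_⟩
      have h1 : z * (u : R) = z₀ * w := by
        apply mul_left_cancel₀ hx
        calc x * (z * (u : R)) = z * (x * (u : R)) := by ring
          _ = z * (z₀ * y) := by rw [hw₀]
          _ = z₀ * (z * y) := by ring
          _ = z₀ * (x * w) := by rw [hw']
          _ = x * (z₀ * w) := by ring
      calc w * (↑u⁻¹ : R) * z₀ = (z₀ * w) * (↑u⁻¹ : R) := by ring
        _ = z * (u : R) * (↑u⁻¹ : R) := by rw [h1]
        _ = z := by rw [mul_assoc, Units.mul_inv, mul_one]
    · rw [Ideal.submodule_span_eq, Ideal.span_le]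
      simpa using hz₀

theorem dim_le_depth [IsLocalRing R] [IsNoetherianRing R] [IsDomain R]
    [IsIntegrallyClosed R] (hd : ringKrullDim R ≤ 2) :
    ringKrullDim R ≤ ((LocCoh.depth R R : ℕ∞) : WithBot ℕ∞) := by
  by_cases hf : maximalIdeal R = ⊥
  · have : IsField R := IsLocalRing.isField_iff_maximalIdeal_eq.2 hf
    rw [ringKrullDim_eq_zero_of_isField this]
    exact WithBot.coe_le_coe.2 (zero_le (a := LocCoh.depth R R))
  · obtain ⟨x, hxm, hx0⟩ := Submodule.exists_mem_ne_zero_of_ne_bot hf
    have hxreg : IsSMulRegular R x := (isRegular_of_ne_zero hx0).isSMulRegular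
    have h1 : (1 : ℕ∞) ≤ LocCoh.depth R R := by
      have := le_depth [x] ((isWeaklyRegular_singleton_iff R x).2 hxreg) (by simpa using hxm)
      simpa using this
    by_cases hd1 : ringKrullDim R ≤ 1
    · refine hd1.trans ?_
      exact WithBot.coe_le_coe.2 h1
    · -- dimension 2 case
      refine hd.trans ?_
      have h2 : (2 : ℕ∞) ≤ LocCoh.depth R R := by
        -- find y ∈ m regular on R/xR
        have hex : ∃ y ∈ maximalIdeal R, IsSMulRegular (QuotSMulTop x R) y := by
          by_contra hno
          push_neg at hno
          apply hd1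
          -- m ⊆ ⋃ Ass
          have hfin := associatedPrimes.finite R (QuotSMulTop x R)
          have hsub : (maximalIdeal R : Set R) ⊆
              ⋃ p ∈ hfin.toFinset, (p : Set R) := by
            intro y hy
            have hnr := hno y hy
            have : y ∈ ⋃ p ∈ associatedPrimes R (QuotSMulTop x R), (p : Set R) := by
              rw [biUnion_associatedPrimes_eq_zero_divisors]
              simp only [Set.mem_setOf_eq]
              by_contra hcon
              push_neg at hcon
              apply hnr
              intro a b hab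
              have : y • (a - b) = 0 := by rw [smul_sub]; exact sub_eq_zero.2 hab
              by_contra hne
              exact hcon (a - b) (sub_ne_zero.2 hne) this
            simpa using this
          obtain ⟨p, hp, hle⟩ := (Ideal.subset_union_prime (R := R) (s := hfin.toFinset)
            (f := fun p => p) ⊤ ⊤ (fun p hp _ _ => by
              have := (Set.Finite.mem_toFinset hfin).1 hp
              exact this.isPrime)).1 hsub
          have hpass : IsAssociatedPrime p (QuotSMulTop x R) := (Set.Finite.mem_toFinset hfin).1 hp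
          have hpm : p = maximalIdeal R := by
            have := hpass.isPrime
            exact (IsLocalRing.eq_maximalIdeal
              ((maximalIdeal.isMaximal R).eq_of_le this.ne_top hle ▸ maximalIdeal.isMaximal R))
          rw [isAssociatedPrime_iff] at hpass
          obtain ⟨-, ybar, hy⟩ := hpass
          obtain ⟨y, rfl⟩ := Submodule.Quotient.mk_surjective _ ybar
          have hmem : ∀ z : R, z ∈ p ↔ z * y ∈ Ideal.span {x} := by
            intro z
            rw [hy, Submodule.mem_colon_singleton, Submodule.mem_bot, ← Submodule.Quotient.mk_smul,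
              Submodule.Quotient.mk_eq_zero, smul_eq_mul]
            rw [show (x • (⊤ : Submodule R R)) = Ideal.span {x} by
              ext a; simp [Submodule.mem_smul_pointwise_iff_exists, Ideal.mem_span_singleton', mul_comm]]
          have hynot : y ∉ Ideal.span {x} := by
            intro hyx
            have : (1 : R) ∈ p := by
              rw [hmem, one_mul]; exact hyx
            exact (hpm ▸ (maximalIdeal.isMaximal R).ne_top) ((Ideal.eq_top_iff_one _).2 this)
          have hprin := maximalIdeal_principal x y hx0 hxm hynot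
            (fun z hz => (hmem z).1 (hpm ▸ hz))
          haveI : IsPrincipalIdealRing R :=
            ((tfae_of_isNoetherianRing_of_isLocalRing_of_isDomain R).out 4 0).1 hprin
          have : Ring.KrullDimLE 1 R := inferInstance
          rw [Ring.krullDimLE_iff] at this
          exact_mod_cast this
        obtain ⟨y, hym, hyreg⟩ := hex
        have hwr : IsWeaklyRegular R [x, y] := by
          rw [isWeaklyRegular_cons_iff]
          exact ⟨hxreg, (isWeaklyRegular_singleton_iff _ y).2 hyreg⟩
        have := le_depth [x, y] hwr (by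
          intro r hr
          simp only [List.mem_cons, List.not_mem_nil, or_false] at hr
          rcases hr with rfl | rfl
          · exact hxm
          · exact hym)
        simpa using this
      exact WithBot.coe_le_coe.2 h2

theorem main (X : Scheme.{u})
    [IsLocallyNoetherian X] (hN : Pi1.IsNormalScheme X) (hd : topologicalKrullDim X ≤ 2) (x : X) :
    LocCoh.IsCohenMacaulayLocalRing (X.presheaf.stalk x) := by
  obtain ⟨hdom, hic⟩ := hN x
  have hdim : ringKrullDim (X.presheaf.stalk x) ≤ 2 :=
    (Groth.Agent.S9800.Aux.dim_stalk_le X x).trans hd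
  refine { supportDim_eq_depth := ?_ }
  rw [Module.supportDim_self_eq_ringKrullDim]
  exact le_antisymm (dim_le_depth hdim) depth_le_dim

end Aux

/-- A locally Noetherian normal scheme of dimension at most two is Cohen-Macaulay, that is, all of its
local rings are Cohen-Macaulay local rings. -/
theorem result (X : Scheme.{u})
    [IsLocallyNoetherian X] (hN : Pi1.IsNormalScheme X) (hd : topologicalKrullDim X ≤ 2) (x : X) :
    LocCoh.IsCohenMacaulayLocalRing (X.presheaf.stalk x) := by
  exact Aux.main X hN hd x

end Groth.Agent.S9801
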