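import Groth.Statements.S9802
import Groth.Agent.Lib.Helper6.Japanese

set_option autoImplicit false
set_option linter.style.haveILetI false
universe u
open CategoryTheory AlgebraicGeometry TopologicalSpace
open Props

namespace Groth.Agent.S9802

open Groth.Agent.Lib.Helper6.Japanese

/-- N-2 transfers along ring isomorphisms. -/
theorem isN2_of_ringEquiv {A B : Type u} [CommRing A] [IsDomain A] [CommRing B] [IsDomain B]
    (e : A ≃+* B) (h : CAlg.IsN2 A) : CAlg.IsN2 B := by
  intro L _ _ _ _ hfin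
  letI : Algebra A B := e.toRingHom.toAlgebra
  letI : Algebra A L := ((algebraMap B L).comp e.toRingHom).toAlgebra
  haveI : IsScalarTower A B L := IsScalarTower.of_algebraMap_eq fun _ => rfl
  haveI : IsScalarTower A (FractionRing B) L := IsScalarTower.of_algebraMap_eq fun a => by
    rw [IsScalarTower.algebraMap_apply A B (FractionRing B),
      ← IsScalarTower.algebraMap_apply B (FractionRing B) L,
      ← IsScalarTower.algebraMap_apply A B L]
  haveI : FaithfulSMul A (FractionRing B) := by
    rw [faithfulSMul_iff_algebraMap_injective, IsScalarTower.algebraMap_eq A B (FractionRing B),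
      RingHom.coe_comp]
    exact (IsFractionRing.injective B (FractionRing B)).comp e.injective
  haveI : IsFractionRing A (FractionRing B) := by
    refine IsFractionRing.of_field (R := A) (K := FractionRing B) fun z => ?_
    obtain ⟨b, s, hs, rfl⟩ := IsFractionRing.div_surjective (A := B) z
    refine ⟨e.symm b, e.symm s, ?_⟩
    rw [IsScalarTower.algebraMap_apply A B (FractionRing B),
      IsScalarTower.algebraMap_apply A B (FractionRing B)]
    change _ = algebraMap B _ (e (e.symm b)) / algebraMap B _ (e (e.symm s))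
    rw [e.apply_symm_apply, e.apply_symm_apply]
  haveI : FiniteDimensional (FractionRing B) L := hfin
  have h1 : Module.Finite A (integralClosure A L) := n2_apply h (FractionRing B) L
  haveI : Algebra.IsIntegral A B :=
    ⟨fun b => ⟨Polynomial.X - Polynomial.C (e.symm b), Polynomial.monic_X_sub_C _, by
      rw [Polynomial.eval₂_sub, Polynomial.eval₂_X, Polynomial.eval₂_C]
      change b - e (e.symm b) = 0
      rw [e.apply_symm_apply, sub_self]⟩⟩
  let f : integralClosure A L →ₗ[A] integralClosure B L :=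
    { toFun := fun z => ⟨z.1, z.2.tower_top⟩
      map_add' := fun _ _ => rfl
      map_smul' := fun _ _ => rfl }
  have hf : Function.Surjective f := fun w => ⟨⟨w.1, isIntegral_trans _ w.2⟩, rfl⟩
  haveI : Module.Finite A (integralClosure B L) := Module.Finite.of_surjective f hf
  exact Module.Finite.of_restrictScalars_finite A B _

/-- A domain which is a quotient of a Nagata ring is N-2. -/
theorem isN2_of_surjective {A B : Type u} [CommRing A] [CommRing B] [IsDomain B]
    (φ : A →+* B) (hφ : Function.Surjective φ) (hA : CAlg.IsNagata A) : CAlg.IsN2 B := by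
  haveI : (RingHom.ker φ).IsPrime := RingHom.ker_isPrime φ
  exact isN2_of_ringEquiv (RingHom.quotientKerEquivOfSurjective hφ) (hA.2 (RingHom.ker φ))

/-- The property of affine opens of an integral scheme fed to the affine communication lemma. -/
def P (Z : Scheme.{u}) [IsIntegral Z] (W : Z.affineOpens) : Prop :=
  ∀ [Nonempty (W.1 : Z.Opens)], CAlg.IsN2 Γ(Z, W.1)

theorem P_basicOpen (Z : Scheme.{u}) [IsIntegral Z] (U : Z.affineOpens) (f : Γ(Z, U))
    (h : P Z U) : P Z (Z.affineBasicOpen f) := by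
  intro hne
  haveI hne' : Nonempty (Z.basicOpen f : Z.Opens) := hne
  haveI hU : Nonempty (U.1 : Z.Opens) := by
    obtain ⟨⟨x, hx⟩⟩ := hne'
    exact ⟨⟨x, Z.basicOpen_le f hx⟩⟩
  haveI := U.2.isLocalization_basicOpen f
  have h' : CAlg.IsN2 Γ(Z, U.1) := @h hU
  exact n2_loc Γ(Z, U.1) (Submonoid.powers f) Γ(Z, Z.basicOpen f) h'

theorem P_cover (Z : Scheme.{u}) [IsIntegral Z] (U : Z.affineOpens) (s : Finset Γ(Z, U))
    (hs : Ideal.span (s : Set Γ(Z, U)) = ⊤) (h : ∀ f : s, P Z (Z.affineBasicOpen f.1)) :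
    P Z U := by
  classical
  intro hne
  let s' : Finset Γ(Z, U) := s.filter (fun f => f ≠ 0)
  have hspan : Ideal.span (Set.range (fun i : {x // x ∈ s'} => i.1)) = ⊤ := by
    rw [eq_top_iff, ← hs, Ideal.span_le]
    intro f hf
    by_cases h0 : f = 0
    · rw [h0]; exact Ideal.zero_mem _
    · exact Ideal.subset_span ⟨⟨f, Finset.mem_filter.mpr ⟨hf, h0⟩⟩, rfl⟩
  have hne' : ∀ i : {x // x ∈ s'}, Nonempty (Z.basicOpen i.1 : Z.Opens) := fun i => by
    by_contra hcon
    rw [not_nonempty_iff] at hcon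
    have hbot : Z.basicOpen i.1 = ⊥ := by
      refine eq_bot_iff.mpr fun x hx => ?_
      exact (hcon.false ⟨x, hx⟩).elim
    exact (Finset.mem_filter.mp i.2).2 ((basicOpen_eq_bot_iff i.1).mp hbot)
  have hd : ∀ i : {x // x ∈ s'}, IsDomain Γ(Z, Z.basicOpen i.1) := fun i =>
    haveI := hne' i; inferInstance
  exact @n2_cover Γ(Z, U.1) _ _ {x // x ∈ s'} _ (fun i => i.1) hspan
    (fun i => Γ(Z, Z.basicOpen i.1)) (fun i => inferInstance) hd (fun i => inferInstance)
    (fun i => U.2.isLocalization_basicOpen i.1)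
    (fun i => @h ⟨i.1, (Finset.mem_filter.mp i.2).1⟩ (hne' i))

theorem forward (X : Scheme.{u})
    (hN : ∀ U : X.Opens, IsAffineOpen U → CAlg.IsNagata Γ(X, U))
    (Z : Scheme.{u}) (i : Z ⟶ X) [IsClosedImmersion i] [IsIntegral Z]
    (V : Z.Opens) [hV0 : Nonempty V] (hV : IsAffineOpen V) : CAlg.IsN2 Γ(Z, V) := by
  have hcov : (⨆ W : X.affineOpens,
      ((⟨i ⁻¹ᵁ W.1, W.2.preimage i⟩ : Z.affineOpens) : Z.Opens)) = ⊤ := by
    rw [eq_top_iff]
    intro z _
    have hz : i z ∈ (⨆ W : X.affineOpens, (W : X.Opens)) := by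
      rw [iSup_affineOpens_eq_top]; trivial
    obtain ⟨W, hW⟩ := Opens.mem_iSup.mp hz
    exact Opens.mem_iSup.mpr ⟨W, hW⟩
  have key : P Z ⟨V, hV⟩ := by
    refine of_affine_open_cover (P := P Z)
      (fun W : X.affineOpens => (⟨i ⁻¹ᵁ W.1, W.2.preimage i⟩ : Z.affineOpens)) hcov ⟨V, hV⟩
      (P_basicOpen Z) (P_cover Z) ?_
    intro W hne
    haveI : Nonempty (i ⁻¹ᵁ W.1 : Z.Opens) := hne
    exact isN2_of_surjective (i.app W.1).hom (i.app_surjective W.1 W.2) (hN W.1 W.2)
  exact @key hV0

theorem backward (X : Scheme.{u}) [IsLocallyNoetherian X]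
    (hJ : ∀ (Z : Scheme.{u}) (i : Z ⟶ X) [IsClosedImmersion i] [IsIntegral Z]
        (V : Z.Opens) [Nonempty V], IsAffineOpen V → CAlg.IsN2 Γ(Z, V))
    (U : X.Opens) (hU : IsAffineOpen U) : CAlg.IsNagata Γ(X, U) := by
  haveI : IsNoetherianRing Γ(X, U) := IsLocallyNoetherian.component_noetherian ⟨U, hU⟩
  refine ⟨inferInstance, ?_⟩
  intro p hp
  let q : Γ(X, U) →+* Γ(X, U) ⧸ p := Ideal.Quotient.mk p
  let S : Scheme.{u} := Spec (CommRingCat.of (Γ(X, U) ⧸ p))
  let g : S ⟶ X := Spec.map (CommRingCat.ofHom q) ≫ hU.fromSpec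
  haveI : IsIntegral S := inferInstanceAs (IsIntegral (Spec (CommRingCat.of (Γ(X, U) ⧸ p))))
  haveI : QuasiCompact g := inferInstance
  -- the generic point of `S`
  let s₀ : S := (⟨⊥, Ideal.isPrime_bot⟩ : PrimeSpectrum (Γ(X, U) ⧸ p))
  -- the kernel of `g` over `U`
  have hker : RingHom.ker (g.app U).hom = p := by
    ext a
    rw [RingHom.mem_ker]
    constructor
    · intro ha
      have h0 : (g.app U) a = 0 := ha
      have hb : g ⁻¹ᵁ (X.basicOpen a) = ⊥ := by
        rw [Scheme.preimage_basicOpen, h0]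
        exact (basicOpen_eq_bot_iff _).mpr rfl
      have h1 : s₀ ∉ g ⁻¹ᵁ (X.basicOpen a) := by
        intro hmem
        rw [hb] at hmem
        simp at hmem
      have h2 : (Spec.map (CommRingCat.ofHom q)) s₀ = (⟨p, hp⟩ : PrimeSpectrum Γ(X, U)) := by
        apply PrimeSpectrum.ext
        change Ideal.comap q ⊥ = p
        rw [← RingHom.ker_eq_comap_bot, Ideal.mk_ker]
      have h3 : (⟨p, hp⟩ : PrimeSpectrum Γ(X, U)) ∉ (PrimeSpectrum.basicOpen a) := by
        rw [← hU.fromSpec_preimage_basicOpen]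
        intro hmem
        apply h1
        show hU.fromSpec ((Spec.map (CommRingCat.ofHom q)) s₀) ∈ X.basicOpen a
        rw [h2]
        exact hmem
      by_contra hnot
      exact h3 ((PrimeSpectrum.mem_basicOpen _ _).mpr hnot)
    · intro ha
      have hb : S.basicOpen ((g.app U) a) = ⊥ := by
        rw [← Scheme.preimage_basicOpen]
        refine eq_bot_iff.mpr fun s hs => ?_
        have h4 : (Spec.map (CommRingCat.ofHom q)) s ∈ hU.fromSpec ⁻¹ᵁ (X.basicOpen a) := hs
        rw [hU.fromSpec_preimage_basicOpen] at h4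
        have h5 := (PrimeSpectrum.mem_basicOpen _ _).mp h4
        have hqa : q a = 0 := Ideal.Quotient.eq_zero_iff_mem.mpr ha
        have hmem : q a ∈ s.asIdeal := by rw [hqa]; exact Ideal.zero_mem _
        exact (h5 hmem).elim
      exact (basicOpen_eq_bot_iff _).mp hb
  have hI : g.ker.ideal ⟨U, hU⟩ = p := by
    rw [Scheme.Hom.ker_apply]; exact hker
  -- the scheme-theoretic image is integral
  haveI hred : IsReduced g.image := by
    have hr : ∀ W : X.affineOpens, _root_.IsReduced (Γ(X, W.1) ⧸ g.ker.ideal W) := by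
      intro W
      rw [Scheme.Hom.ker_apply]
      exact isReduced_of_injective (RingHom.kerLift (g.app W.1).hom)
        (RingHom.kerLift_injective _)
    haveI : ∀ W : g.ker.subschemeCover.openCover.I₀,
        IsReduced (g.ker.subschemeCover.openCover.X W) := by
      intro W
      haveI := hr W
      show IsReduced (Spec (CommRingCat.of (Γ(X, W.1) ⧸ g.ker.ideal W)))
      infer_instance
    exact IsReduced.of_openCover _ g.ker.subschemeCover.openCover
  haveI hirr : IrreducibleSpace g.image := by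
    have h1 : IsIrreducible (Set.range g.toImage) := by
      rw [← Set.image_univ]
      exact (IrreducibleSpace.isIrreducible_univ S).image _ g.toImage.continuous.continuousOn
    have h2 := h1.closure
    rw [g.toImage.denseRange.closure_range] at h2
    exact (irreducibleSpace_def _).mpr h2
  haveI : IsIntegral g.image := isIntegral_of_irreducibleSpace_of_isReduced g.image
  -- the affine open `V = i⁻¹ U` of the image
  have hVne : Nonempty (g.imageι ⁻¹ᵁ U : g.image.Opens) := by
    refine ⟨⟨g.toImage s₀, ?_⟩⟩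
    show g.imageι (g.toImage s₀) ∈ U
    have e1 : g.imageι (g.toImage s₀) = g s₀ :=
      congrArg (fun (h : S ⟶ X) => h s₀) g.toImage_imageι
    rw [e1]
    have e2 : g s₀ ∈ Set.range hU.fromSpec := ⟨(Spec.map (CommRingCat.ofHom q)) s₀, rfl⟩
    rw [hU.range_fromSpec] at e2
    exact e2
  have hZ : CAlg.IsN2 Γ(g.image, g.imageι ⁻¹ᵁ U) :=
    @hJ g.image g.imageι inferInstance inferInstance (g.imageι ⁻¹ᵁ U) hVne (hU.preimage g.imageι)
  let e1 : Γ(g.image, g.imageι ⁻¹ᵁ U) ≃+* (Γ(X, U) ⧸ g.ker.ideal ⟨U, hU⟩) :=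
    (g.ker.subschemeObjIso ⟨U, hU⟩).commRingCatIsoToRingEquiv
  haveI : (g.ker.ideal ⟨U, hU⟩).IsPrime := hI ▸ hp
  have hZ' : CAlg.IsN2 (Γ(X, U) ⧸ g.ker.ideal ⟨U, hU⟩) := isN2_of_ringEquiv e1 hZ
  exact isN2_of_ringEquiv (Ideal.quotEquivOfEq hI) hZ'

/-- A locally Noetherian scheme is Nagata (every affine open has a Nagata coordinate ring) if and only
if every integral closed subscheme is Japanese (every nonempty affine open of it has an N-2
coordinate ring). -/
theorem result (X : Scheme.{u})
    [IsLocallyNoetherian X] :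
    (∀ U : X.Opens, IsAffineOpen U → CAlg.IsNagata Γ(X, U)) ↔
      ∀ (Z : Scheme.{u}) (i : Z ⟶ X) [IsClosedImmersion i] [IsIntegral Z]
        (V : Z.Opens) [Nonempty V], IsAffineOpen V → CAlg.IsN2 Γ(Z, V) := by
  constructor
  · intro hN Z i _ _ V _ hV
    exact forward X hN Z i V hV
  · intro hJ U hU
    exact backward X hJ U hU

end Groth.Agent.S9802
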