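import Groth.Statements.S9804
import Mathlib
import Groth.Agent.S1890
-- import your own Groth.Agent.* helpers here

set_option autoImplicit false
universe u
open CategoryTheory AlgebraicGeometry TopologicalSpace
open Props

namespace Groth.Agent.S9804

open CategoryTheory AlgebraicGeometry TopologicalSpace
namespace Aux

open Groth.Agent.S1890.Aux

theorem main {U V : Scheme.{u}} (j : U ⟶ V)
    [IsOpenImmersion j] [U.IsQuasiAffine] [V.IsQuasiAffine] :
    IsPullback (𝟙 U) U.toSpecΓ (j ≫ V.toSpecΓ) (Spec.map j.appTop) := by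
  have hcomm : 𝟙 U ≫ (j ≫ V.toSpecΓ) = U.toSpecΓ ≫ Spec.map j.appTop := by
    rw [Category.id_comp, Scheme.toSpecΓ_naturality]
  let f := j ≫ V.toSpecΓ
  let g := Spec.map j.appTop
  -- the canonical map to the pullback
  let ℓ : U ⟶ Limits.pullback f g := Limits.pullback.lift (𝟙 U) U.toSpecΓ hcomm
  have hℓ1 : ℓ ≫ Limits.pullback.fst f g = 𝟙 U := Limits.pullback.lift_fst _ _ _
  have hℓ2 : ℓ ≫ Limits.pullback.snd f g = U.toSpecΓ := Limits.pullback.lift_snd _ _ _
  have hsnd : IsOpenImmersion (Limits.pullback.snd f g) := inferInstance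
  have hℓoi : IsOpenImmersion ℓ := by
    have : IsOpenImmersion (ℓ ≫ Limits.pullback.snd f g) := by rw [hℓ2]; infer_instance
    exact IsOpenImmersion.of_comp ℓ (Limits.pullback.snd f g)
  -- surjectivity
  have hsurj : Function.Surjective ℓ := by
    intro p
    -- the point of Spec Γ(U)
    set q := Limits.pullback.snd f g p with hq
    set u := Limits.pullback.fst f g p with hu
    have hfu : f u = g q := by
      rw [hu, hq, ← Scheme.Hom.comp_apply, ← Scheme.Hom.comp_apply, Limits.pullback.condition]
    -- choose s with j u ∈ V_s ⊆ range j, V_s affine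
    obtain ⟨_, ⟨_, ⟨s, hsaff, rfl⟩, rfl⟩, hus, hsj⟩ :=
      (Scheme.IsQuasiAffine.isBasis_basicOpen V).exists_subset_of_mem_open
        (show j u ∈ (j.opensRange : Set V) from ⟨u, rfl⟩) j.opensRange.isOpen
    let s' : Γ(U, ⊤) := j.appTop s
    have hs' : U.basicOpen s' = j ⁻¹ᵁ V.basicOpen s := (Scheme.preimage_basicOpen_top j s).symm
    have haff : IsAffineOpen (U.basicOpen s') := by
      rw [hs', ← Scheme.Hom.isAffineOpen_iff_of_isOpenImmersion j]
      have : j ''ᵁ (j ⁻¹ᵁ V.basicOpen s) = V.basicOpen s := by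
        apply Opens.ext
        simp only [Scheme.Hom.coe_image, Scheme.Hom.coe_preimage]
        rw [Set.image_preimage_eq_of_subset hsj]
      rw [this]; exact hsaff
    have hqD : q ∈ (PrimeSpectrum.basicOpen s' : Set (PrimeSpectrum Γ(U, ⊤))) := by
      have h1 : V.toSpecΓ (j u) ∈ (PrimeSpectrum.basicOpen s : Set (PrimeSpectrum Γ(V, ⊤))) := by
        have : j u ∈ V.toSpecΓ ⁻¹ᵁ (PrimeSpectrum.basicOpen s) := by
          rw [Scheme.toSpecΓ_preimage_basicOpen]; exact hus
        exact this
      have h2 : g q ∈ (PrimeSpectrum.basicOpen s : Set (PrimeSpectrum Γ(V, ⊤))) := by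
        rw [← hfu]; exact h1
      exact h2
    have hqs : QuasiSeparatedSpace U := inferInstance
    obtain ⟨u', hu'⟩ := basicOpen_subset_range U s' haff hqD
    refine ⟨u', ?_⟩
    apply (Limits.pullback.snd f g).isOpenEmbedding.injective
    rw [← Scheme.Hom.comp_apply, hℓ2, hu']
  have hiso : IsIso ℓ :=
    isIso_of_isOpenImmersion_of_opensRange_eq_top ℓ
      (TopologicalSpace.Opens.ext (by simpa using Set.range_eq_univ.2 hsurj))
  exact IsPullback.of_iso_pullback ⟨hcomm⟩ (asIso ℓ) hℓ1 hℓ2

end Aux

/-- For quasi-affine schemes U and V and an open immersion j : U → V, the scheme U is the fibre product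
of the composite U → V → Spec Γ(V, O_V) and the morphism Spec Γ(U, O_U) → Spec Γ(V, O_V) induced by
restriction of sections along j: the square whose sides are the identity of U, the canonical
morphism U → Spec Γ(U, O_U), that composite and that induced morphism is cartesian. -/
theorem result {U V : Scheme.{u}} (j : U ⟶ V)
    [IsOpenImmersion j] [U.IsQuasiAffine] [V.IsQuasiAffine] :
    IsPullback (𝟙 U) U.toSpecΓ (j ≫ V.toSpecΓ) (Spec.map j.appTop) := by
  exact Aux.main j

end Groth.Agent.S9804
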