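import Groth.Statements.S9818
import Mathlib
import Groth.Agent.Lib.Helper1.QcPull
import Groth.Agent.S5849

set_option autoImplicit false
universe u
open CategoryTheory CategoryTheory.Limits AlgebraicGeometry TopologicalSpace Opposite
open Props

namespace Groth.Agent.S9818

section
open CategoryTheory CategoryTheory.Limits AlgebraicGeometry TopologicalSpace Opposite
open Groth.Agent Groth.Agent.Helper1

theorem main {X : Scheme.{u}} (U : X.Opens) [QuasiCompact U.ι]
    (F : X.Modules) [Coh.IsQCoh F] (G : (U : Scheme.{u}).Modules) [Coh.IsQCoh G] (φ : G ⟶ F.restrict U.ι) :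
    ∃ (H : X.Modules) (ψ : H ⟶ F) (e : H.restrict U.ι ≅ G), Coh.IsQCoh H ∧
      e.hom ≫ φ = (Scheme.Modules.restrictFunctor U.ι).map ψ := by
  let R := Scheme.Modules.restrictFunctor U.ι
  let P := Scheme.Modules.pushforward U.ι
  let adj := Scheme.Modules.restrictAdjunction U.ι
  haveI : F.IsQuasicoherent := ‹Coh.IsQCoh F›
  haveI : G.IsQuasicoherent := ‹Coh.IsQCoh G›
  haveI h1 : (P.obj G).IsQuasicoherent := PushQc.isQuasicoherent_pushforward U.ι G
  haveI h2 : (P.obj (R.obj F)).IsQuasicoherent := PushQc.isQuasicoherent_pushforward U.ι _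
  let a : P.obj G ⟶ P.obj (R.obj F) := P.map φ
  let b : F ⟶ P.obj (R.obj F) := adj.unit.app F
  have hsq : IsPullback (pullback.fst a b) (pullback.snd a b) a b := IsPullback.of_hasPullback a b
  have hsq' := hsq.map R
  haveI : IsIso (R.map b) := S5849.isIso_restrict_unit U F
  haveI : IsIso (R.map (pullback.fst a b)) := hsq'.isIso_fst_of_isIso
  refine ⟨pullback a b, pullback.snd a b,
    asIso (R.map (pullback.fst a b)) ≪≫ asIso (adj.counit.app G), ?_, ?_⟩
  · exact QcAbel.isQuasicoherent_pullback a b
  · change (R.map (pullback.fst a b) ≫ adj.counit.app G) ≫ φ = R.map (pullback.snd a b)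
    have nat : adj.counit.app G ≫ φ = R.map (P.map φ) ≫ adj.counit.app (R.obj F) :=
      (adj.counit.naturality φ).symm
    have tri : R.map (adj.unit.app F) ≫ adj.counit.app (R.obj F) = 𝟙 _ :=
      adj.left_triangle_components F
    rw [Category.assoc, nat, ← Category.assoc, ← R.map_comp]
    have hc : pullback.fst a b ≫ P.map φ = pullback.snd a b ≫ adj.unit.app F := pullback.condition
    rw [hc, R.map_comp, Category.assoc, tri]
    exact Category.comp_id _


end


/-- For an open subscheme U of a scheme X with quasi-compact inclusion, a quasi-coherent module G on U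
with a map to the restriction of a quasi-coherent module F on X extends to a quasi-coherent module H
on X with a map to F restricting to the given one. Taking F = 0, every quasi-coherent module on U
extends to a quasi-coherent module on X. -/
theorem result {X : Scheme.{u}} (U : X.Opens) [QuasiCompact U.ι]
    (F : X.Modules) [Coh.IsQCoh F] (G : (U : Scheme.{u}).Modules) [Coh.IsQCoh G] (φ : G ⟶ F.restrict U.ι) :
    ∃ (H : X.Modules) (ψ : H ⟶ F) (e : H.restrict U.ι ≅ G), Coh.IsQCoh H ∧
      e.hom ≫ φ = (Scheme.Modules.restrictFunctor U.ι).map ψ := by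
  classical
  exact main U F G φ

end Groth.Agent.S9818
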