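import Groth.Statements.S9819
import Mathlib
import Groth.Agent.Lib.Helper1.SubExt7

set_option autoImplicit false
universe u
open CategoryTheory CategoryTheory.Limits AlgebraicGeometry TopologicalSpace Opposite
open Props

namespace Groth.Agent.S9819

/-- On a quasi-compact quasi-separated scheme, every local section of a quasi-coherent module over an
affine open lies in some quasi-coherent submodule of finite type; hence the module is the directed
union of its quasi-coherent submodules of finite type. -/
theorem result {X : Scheme.{u}} [CompactSpace X]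
    [QuasiSeparatedSpace X] (F : X.Modules) [Coh.IsQCoh F] (U : X.affineOpens)
    (s : F.val.obj (op (U : X.Opens))) :
    ∃ (G : X.Modules) (i : G ⟶ F), Mono i ∧ Coh.IsQCoh G ∧ CohB1.IsFT G ∧
      ∃ g : G.val.obj (op (U : X.Opens)), (i.val.app (op (U : X.Opens))).hom g = s := by
  open Groth.Agent.Helper1.SubSh Groth.Agent.Helper1.SubSh.LocalSub in
  classical
  have hF : F.IsQuasicoherent := ‹Coh.IsQCoh F›
  obtain ⟨G', hG', hGU⟩ := exists_extension_of_qcqs (F := F) U.1 U.2.isCompact
    (genOn U.1 {(show Γ(F, U.1) from s)}) (genOn_singleton_isQcFtOn U.2 _)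
  have hs : (show Γ(F, U.1) from s) ∈ G'.carrier U.1 := by
    rw [hGU U.1 le_rfl]
    exact mem_genOn_singleton _
  exact ⟨G'.obj, G'.ι, inferInstance, G'.isQuasicoherent_obj hG'.isQcOn, G'.isFiniteType_obj hG',
    G'.mkSec _ hs, rfl⟩

end Groth.Agent.S9819
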