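import Groth.Statements.S9821
import Mathlib
import Groth.Prelude.Def_Pi1
-- import your own Groth.Agent.* helpers here

set_option autoImplicit false
universe u
open CategoryTheory CategoryTheory.Limits AlgebraicGeometry TopologicalSpace Opposite
open Props

namespace Groth.Agent.S9821

open CategoryTheory CategoryTheory.Limits AlgebraicGeometry TopologicalSpace Opposite
namespace Aux

theorem main (X : Scheme.{u}) [IsIntegral X] :
    Pi1.IsNormalScheme X ↔ ∀ (U : X.Opens) [Nonempty U], IsAffineOpen U → IsIntegrallyClosed Γ(X, U) := by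
  constructor
  · intro h U hne hU
    have hdom : IsDomain Γ(X, U) := inferInstance
    apply IsIntegrallyClosed.of_localization_maximal
    intro p hp0 hpmax
    let y : PrimeSpectrum Γ(X, U) := ⟨p, hpmax.isPrime⟩
    have hy : hU.fromSpec y ∈ U := by
      have : hU.fromSpec y ∈ Set.range hU.fromSpec := ⟨y, rfl⟩
      rwa [hU.range_fromSpec] at this
    have hloc := hU.isLocalization_stalk' y hy
    have hic : IsIntegrallyClosed (X.presheaf.stalk (hU.fromSpec y)) := (h (hU.fromSpec y)).2
    letI := TopCat.Presheaf.algebra_section_stalk X.presheaf ⟨hU.fromSpec y, hy⟩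
    have hloc' : IsLocalization.AtPrime (X.presheaf.stalk (hU.fromSpec y)) p := hloc
    let e : X.presheaf.stalk (hU.fromSpec y) ≃ₐ[Γ(X, U)] Localization.AtPrime p :=
      IsLocalization.algEquiv p.primeCompl _ _
    exact IsIntegrallyClosed.of_equiv e.toRingEquiv
  · intro h x
    refine ⟨inferInstance, ?_⟩
    obtain ⟨_, ⟨U, hU₀, rfl⟩, hxU, -⟩ :=
      X.isBasis_affineOpens.exists_subset_of_mem_open (Set.mem_univ x) isOpen_univ
    have hU : IsAffineOpen U := hU₀
    have hne : Nonempty U := ⟨⟨x, hxU⟩⟩
    have hic := h U hU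
    have hdom : IsDomain Γ(X, U) := inferInstance
    have hloc := hU.isLocalization_stalk ⟨x, hxU⟩
    letI := TopCat.Presheaf.algebra_section_stalk X.presheaf ⟨x, hxU⟩
    exact isIntegrallyClosed_of_isLocalization _ (hU.primeIdealOf ⟨x, hxU⟩).asIdeal.primeCompl
      (Ideal.primeCompl_le_nonZeroDivisors _)

end Aux

/-- An integral scheme is normal if and only if the coordinate ring of every nonempty affine open is an
integrally closed domain. -/
theorem result (X : Scheme.{u}) [IsIntegral X] :
    Pi1.IsNormalScheme X ↔ ∀ (U : X.Opens) [Nonempty U], IsAffineOpen U → IsIntegrallyClosed Γ(X, U) := by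
  exact Aux.main X

end Groth.Agent.S9821
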