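import Groth.Statements.S9822
import Mathlib

set_option autoImplicit false
universe u
open CategoryTheory CategoryTheory.Limits AlgebraicGeometry TopologicalSpace Opposite
open Props

namespace Groth.Agent.S9822

/-- A scheme is irreducible if and only if it is nonempty and every nonempty affine open subset is
irreducible. -/
theorem result (X : Scheme.{u}) :
    IrreducibleSpace X ↔ Nonempty X ∧ ∀ U : X.Opens, IsAffineOpen U → (U : Set X).Nonempty → IsIrreducible (U : Set X) := by
  constructor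
  · intro h
    refine ⟨inferInstance, fun U _ hne => ⟨hne, ?_⟩⟩
    exact (PreirreducibleSpace.isPreirreducible_univ (X := X)).open_subset U.isOpen (Set.subset_univ _)
  · rintro ⟨hne, h⟩
    rw [irreducibleSpace_def]
    refine ⟨Set.univ_nonempty, ?_⟩
    intro U V hU hV hUne hVne
    obtain ⟨x, -, hx⟩ := hUne
    obtain ⟨y, -, hy⟩ := hVne
    obtain ⟨U', hU'aff, hxU', hU'U⟩ := (X.isBasis_affineOpens).exists_subset_of_mem_open hx hU
    obtain ⟨V', hV'aff, hyV', hV'V⟩ := (X.isBasis_affineOpens).exists_subset_of_mem_open hy hV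
    obtain ⟨U', rfl⟩ : ∃ U'' : X.Opens, (U'' : Set X) = U' := by
      obtain ⟨W, hW, rfl⟩ := hU'aff
      exact ⟨W, rfl⟩
    obtain ⟨V', rfl⟩ : ∃ V'' : X.Opens, (V'' : Set X) = V' := by
      obtain ⟨W, hW, rfl⟩ := hV'aff
      exact ⟨W, rfl⟩
    have hU'a : IsAffineOpen U' := by
      obtain ⟨W, hW, hWe⟩ := hU'aff
      have : W = U' := Opens.ext hWe
      exact this ▸ hW
    have hV'a : IsAffineOpen V' := by
      obtain ⟨W, hW, hWe⟩ := hV'aff
      have : W = V' := Opens.ext hWe
      exact this ▸ hW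
    by_cases hd : Disjoint U' V'
    · have haff := IsAffineOpen.sup_of_disjoint hU'a hV'a hd
      have hirr := h (U' ⊔ V') haff ⟨x, Or.inl hxU'⟩
      obtain ⟨z, hz, hz1, hz2⟩ := hirr.2 U' V' U'.isOpen V'.isOpen ⟨x, Or.inl hxU', hxU'⟩
        ⟨y, Or.inr hyV', hyV'⟩
      exact ⟨z, Set.mem_univ _, hU'U hz1, hV'V hz2⟩
    · rw [← Opens.coe_disjoint, Set.not_disjoint_iff] at hd
      obtain ⟨z, hz1, hz2⟩ := hd
      exact ⟨z, Set.mem_univ _, hU'U hz1, hV'V hz2⟩

end Groth.Agent.S9822
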