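import Groth.Statements.S9825
import Mathlib
import Groth.Agent.Lib.Lead.FLF7

set_option autoImplicit false
universe u
open CategoryTheory CategoryTheory.Limits AlgebraicGeometry TopologicalSpace Opposite
open Props

namespace Groth.Agent.S9825

section
open CategoryTheory CategoryTheory.Limits AlgebraicGeometry TopologicalSpace Opposite

open Groth.Agent.Lead.FLF Groth.Agent.Lead.SD Groth.Agent.Lead.LFA

theorem main (X : Scheme.{u}) (M : X.Modules) [hq : Coh.IsQCoh M] :
    FlatMod.IsFinLocFree M ↔ CohB1.IsFT M ∧
      (∀ x : X, Module.Free (X.presheaf.stalk x) (M.presheaf.stalk x)) ∧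
      IsLocallyConstant (fun x : X =>
        Module.finrank (IsLocalRing.ResidueField (X.presheaf.stalk x))
          (TensorProduct (X.presheaf.stalk x) (IsLocalRing.ResidueField (X.presheaf.stalk x))
            (M.presheaf.stalk x))) := by
  haveI : M.IsQuasicoherent := hq
  change _ ↔ _ ∧ _ ∧ IsLocallyConstant (fun x : X => fibreRank M x)
  constructor
  · intro h
    have h' := (isFinLocFree_iff_affineOpens M).1 h
    have hfreeStalk : ∀ x : X, Module.Free (X.presheaf.stalk x) (M.presheaf.stalk x) := by
      intro x
      obtain ⟨_, ⟨U, hU, rfl⟩, hxU, -⟩ := X.isBasis_affineOpens.exists_subset_of_mem_open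
        (Set.mem_univ x) isOpen_univ
      exact free_stalk_of_projective_sections M hU ⟨x, hxU⟩ (h' U hU).1 (h' U hU).2
    refine ⟨isFT_of_ft_sections M (fun U hU => (h' U hU).1), hfreeStalk, ?_⟩
    rw [IsLocallyConstant.iff_exists_open]
    intro x
    obtain ⟨V, n, hxV, ⟨e⟩⟩ := h x
    have key : ∀ z ∈ V, fibreRank M z = n := by
      intro z hz
      obtain ⟨_, ⟨U, hU, rfl⟩, hzU, -⟩ := X.isBasis_affineOpens.exists_subset_of_mem_open
        (Set.mem_univ z) isOpen_univ
      rw [fibreRank_eq_rankAtStalk M hU ⟨z, hzU⟩ (hfreeStalk z)]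
      exact rankAtStalk_of_free_nhds M h hU ⟨z, hzU⟩ V hz n e
    exact ⟨V, V.2, hxV, fun y hy => (key y hy).trans (key x hxV).symm⟩
  · rintro ⟨hft, hfree, hlc⟩
    rw [isFinLocFree_iff_affineOpens]
    intro U hU
    haveI := ft_sections M hft hU
    apply finite_projective_of_locally_free
    intro p
    have hfree' : ∀ q : PrimeSpectrum Γ(X, U), Module.Free (Localization.AtPrime q.asIdeal)
        (LocalizedModule q.asIdeal.primeCompl Γ(M, U)) := by
      intro q
      have := (free_localized_iff M hU ⟨hU.fromSpec q, fromSpec_mem hU q⟩).2 (hfree _)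
      rwa [primeIdealOf_fromSpec] at this
    have hlc' : IsLocallyConstant (fibreDim (R := Γ(X, U)) Γ(M, U)) := by
      have : fibreDim (R := Γ(X, U)) Γ(M, U) =
          (fun x : X => fibreRank M x) ∘ (hU.fromSpec : Spec Γ(X, U) → X) := by
        funext q
        haveI := hfree' q
        rw [fibreDim_eq_finrank_of_free q]
        have := fibreRank_eq_rankAtStalk M hU ⟨hU.fromSpec q, fromSpec_mem hU q⟩ (hfree _)
        rw [primeIdealOf_fromSpec] at this
        exact this.symm
      rw [this]
      exact hlc.comp_continuous hU.fromSpec.continuous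
    obtain ⟨h, hp, hfr⟩ := exists_free_away_of_free_stalks hfree' hlc' p
    exact ⟨h, hp, hfr, inferInstance⟩


end


/-- A quasi-coherent module on a scheme is finite locally free if and only if it is of finite type with
free stalks and locally constant fibre rank. -/
theorem result (X : Scheme.{u}) (M : X.Modules) [Coh.IsQCoh M] :
    FlatMod.IsFinLocFree M ↔ CohB1.IsFT M ∧ (∀ x : X, Module.Free (X.presheaf.stalk x) (M.presheaf.stalk x)) ∧
      IsLocallyConstant (fun x : X => Module.finrank (IsLocalRing.ResidueField (X.presheaf.stalk x))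
          (TensorProduct (X.presheaf.stalk x) (IsLocalRing.ResidueField (X.presheaf.stalk x)) (M.presheaf.stalk x))) := by
  classical
  exact main X M

end Groth.Agent.S9825
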