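import Groth.Statements.S9824
import Mathlib
import Groth.Agent.Lib.Lead.FLF7
import Groth.Agent.Lib.Lead.LFA2
import Groth.Agent.S9825

set_option autoImplicit false
universe u
open CategoryTheory CategoryTheory.Limits AlgebraicGeometry TopologicalSpace Opposite
open Props

namespace Groth.Agent.S9824

section
open CategoryTheory CategoryTheory.Limits AlgebraicGeometry TopologicalSpace Opposite

open Groth.Agent.Lead.FLF Groth.Agent.Lead.SD Groth.Agent.Lead.LFA

attribute [local instance] stalkModule in
theorem fibreRank_eq_fibreDim {X : Scheme.{u}} (M : X.Modules) [M.IsQuasicoherent] {U : X.Opens}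
    (hU : IsAffineOpen U) (x : U) :
    fibreRank M x.1 = fibreDim (R := Γ(X, U)) Γ(M, U) (hU.primeIdealOf x) := by
  haveI := isLocalizedModule_germ M hU x
  haveI := hU.isLocalization_stalk x
  exact (fibreDim_eq (hU.primeIdealOf x) (X.presheaf.stalk x.1)
    (M.presheaf.stalk x.1) (germₗ M x)).symm

theorem main (X : Scheme.{u}) [IsReduced X] (M : X.Modules) [hq : Coh.IsQCoh M] :
    FlatMod.IsFinLocFree M ↔ CohB1.IsFT M ∧
      IsLocallyConstant (fun x : X =>
        Module.finrank (IsLocalRing.ResidueField (X.presheaf.stalk x))
          (TensorProduct (X.presheaf.stalk x) (IsLocalRing.ResidueField (X.presheaf.stalk x))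
            (M.presheaf.stalk x))) := by
  haveI : M.IsQuasicoherent := hq
  constructor
  · intro h
    obtain ⟨h1, -, h3⟩ := (Groth.Agent.S9825.result X M).1 h
    exact ⟨h1, h3⟩
  · rintro ⟨hft, hlc⟩
    change IsLocallyConstant (fun x : X => fibreRank M x) at hlc
    rw [isFinLocFree_iff_affineOpens]
    intro U hU
    haveI := ft_sections M hft hU
    apply finite_projective_of_locally_free
    intro p
    have hlc' : IsLocallyConstant (fibreDim (R := Γ(X, U)) Γ(M, U)) := by
      have : fibreDim (R := Γ(X, U)) Γ(M, U) =
          (fun x : X => fibreRank M x) ∘ (hU.fromSpec : Spec Γ(X, U) → X) := by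
        funext q
        have := fibreRank_eq_fibreDim M hU ⟨hU.fromSpec q, fromSpec_mem hU q⟩
        rw [primeIdealOf_fromSpec] at this
        exact this.symm
      rw [this]
      exact hlc.comp_continuous hU.fromSpec.continuous
    obtain ⟨h, hp, hfr⟩ := exists_free_away_of_isReduced hlc' p
    exact ⟨h, hp, hfr, inferInstance⟩


end


/-- Over a reduced scheme, a quasi-coherent module is finite locally free if and only if it is of finite
type and its fibre rank (the dimension of the stalk tensored with the residue field) is a locally
constant function. -/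
theorem result (X : Scheme.{u}) [IsReduced X]
    (M : X.Modules) [Coh.IsQCoh M] :
    FlatMod.IsFinLocFree M ↔ CohB1.IsFT M ∧
      IsLocallyConstant (fun x : X => Module.finrank (IsLocalRing.ResidueField (X.presheaf.stalk x))
          (TensorProduct (X.presheaf.stalk x) (IsLocalRing.ResidueField (X.presheaf.stalk x)) (M.presheaf.stalk x))) := by
  classical
  exact main X M

end Groth.Agent.S9824
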