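import Groth.Statements.S9827
import Mathlib
import Groth.Agent.Lib.Lead.FP2

set_option autoImplicit false
universe u
open CategoryTheory CategoryTheory.Limits AlgebraicGeometry TopologicalSpace Opposite
open Props

namespace Groth.Agent.S9827

section
open CategoryTheory AlgebraicGeometry TopologicalSpace

open Groth.Agent.Lead.FLF Groth.Agent.Lead.FP Scheme.Modules

lemma isLocalizedModule_of_bijective {R : Type*} [CommRing R] {M N : Type*} [AddCommGroup M]
    [AddCommGroup N] [Module R M] [Module R N] (f : M →ₗ[R] N) (hf : Function.Bijective f) :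
    IsLocalizedModule (Submonoid.powers (1 : R)) f where
  map_units s := by
    obtain ⟨s, n, rfl⟩ := s
    simp
  surj y := by
    obtain ⟨x, rfl⟩ := hf.2 y
    exact ⟨(x, 1), one_smul _ _⟩
  exists_of_eq h := ⟨1, congrArg _ (hf.1 h)⟩

theorem fp_of_isFP (R : CommRingCat.{u}) (M : ModuleCat.{u} R) (h : CohB1.IsFP (tilde M)) :
    Module.FinitePresentation R M := by
  have h1 : Module.FinitePresentation Γ(Spec R, ⊤) Γ(tilde M, ⊤) :=
    fp_sections_of_isFP (tilde M) h (isAffineOpen_top (Spec R))
  letI : Algebra R Γ(Spec R, ⊤) := (Scheme.ΓSpecIso R).inv.hom.toAlgebra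
  have hbij : Function.Bijective (algebraMap R Γ(Spec R, ⊤)) :=
    ConcreteCategory.bijective_of_isIso (Scheme.ΓSpecIso R).inv
  have hloc : IsLocalization.Away (1 : R) Γ(Spec R, ⊤) :=
    IsLocalization.away_of_isUnit_of_bijective _ isUnit_one hbij
  haveI : IsScalarTower R Γ(Spec R, ⊤) Γ(tilde M, ⊤) := by
    apply IsScalarTower.of_algebraMap_smul
    intro r x
    rw [smul_Spec_def]
    congr 1
  let s : Set R := {1}
  have hs : Ideal.span s = ⊤ := by simp [s]
  let ϕ : M →ₗ[R] Γ(tilde M, ⊤) := (tilde.toOpen M ⊤).hom
  have hϕ : Function.Bijective ϕ := ConcreteCategory.bijective_of_isIso (tilde.toOpen M ⊤)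
  haveI : ∀ g : s, IsLocalization.Away g.1 Γ(Spec R, ⊤) := by
    rintro ⟨g, hg⟩
    have : g = 1 := hg
    subst this
    exact hloc
  haveI : ∀ g : s, IsLocalizedModule (Submonoid.powers g.1) ϕ := by
    rintro ⟨g, hg⟩
    have : g = 1 := hg
    subst this
    exact isLocalizedModule_of_bijective ϕ hϕ
  refine Module.FinitePresentation.of_localizationSpan' s hs
    (Rₚ := fun _ => Γ(Spec R, ⊤)) (Mₚ := fun _ => Γ(tilde M, ⊤))
    (fun _ => ϕ) (fun _ => h1)


theorem isFP_of_fp (R : CommRingCat.{u}) (M : ModuleCat.{u} R)
    (h : Module.FinitePresentation R M) : CohB1.IsFP (tilde M) := by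
  classical
  have hM' : Module.Finite R M := inferInstance
  obtain ⟨s, hs⟩ := hM'.fg_top
  let s' : Set M := (s : Set M)
  have hfin : Finite s' := s.finite_toSet.to_subtype
  have hker : (LinearMap.ker (Finsupp.linearCombination R (Subtype.val : s' → M))).FG := by
    apply Module.FinitePresentation.fg_ker
    rw [← LinearMap.range_eq_top, Finsupp.range_linearCombination]
    simpa [s'] using hs
  obtain ⟨t, ht⟩ := hker
  let P0 := presentationTilde M s' hs (t : Set (s' →₀ R)) ht
  have h1 : Finite P0.generators.I := hfin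
  have h2 : Finite P0.relations.I := t.finite_toSet.to_subtype
  haveI : P0.IsFinite := by
    constructor
    · constructor
      exact h1
    · constructor
      exact h2
  exact isFP_of_presentation (tilde M) P0

theorem main (R : CommRingCat.{u}) (M : ModuleCat.{u} R) :
    CohB1.IsFP (tilde M) ↔ Module.FinitePresentation R M :=
  ⟨fp_of_isFP R M, isFP_of_fp R M⟩


end


/-- The sheaf associated to a module over a ring is of finite presentation on the spectrum if and only
if the module is finitely presented. -/
theorem result (R : CommRingCat.{u}) (M : ModuleCat.{u} R) :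
    CohB1.IsFP (tilde M) ↔ Module.FinitePresentation R M := by
  classical
  exact main R M

end Groth.Agent.S9827
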