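import Groth.Statements.S9830
import Mathlib

set_option autoImplicit false
universe u
open CategoryTheory AlgebraicGeometry TopologicalSpace
open Props

namespace Groth.Agent.S9830

open Limits

lemma mono_appTop_of_injective {R K : CommRingCat.{u}} (φ : R ⟶ K) (h : Function.Injective φ.hom) :
    Mono (Spec.map φ).appTop := by
  have h1 : (Spec.map φ).appTop = (Scheme.ΓSpecIso R).hom ≫ φ ≫ (Scheme.ΓSpecIso K).inv := by
    rw [← Category.assoc, ← Scheme.ΓSpecIso_naturality, Category.assoc, Iso.hom_inv_id, Category.comp_id]
  rw [h1]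
  have : Mono φ := ConcreteCategory.mono_of_injective φ h
  infer_instance

lemma spec_const {R K : Type u} [CommRing R] [IsDomain R] [Field K] [Algebra R K] [IsFractionRing R K]
    (X : Scheme.{u}) [T1Space X] (l : Spec (.of R) ⟶ X) (w : Spec (.of K)) (z : Spec (.of R)) :
    l.base z = l.base ((Spec.map (CommRingCat.ofHom (algebraMap R K))).base w) := by
  have hs : (Spec.map (CommRingCat.ofHom (algebraMap R K))).base w ⤳ z := by
    refine (PrimeSpectrum.le_iff_specializes
      (PrimeSpectrum.comap (algebraMap R K) w) z).1 ?_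
    change Ideal.comap (algebraMap R K) w.asIdeal ≤ z.asIdeal
    have hw : w.asIdeal = ⊥ := by
      rcases Ideal.eq_bot_or_top w.asIdeal with h | h
      · exact h
      · exact absurd h w.isPrime.ne_top
    rw [hw, ← RingHom.ker_eq_comap_bot, (RingHom.injective_iff_ker_eq_bot _).1 (IsFractionRing.injective R K)]
    exact bot_le
  exact ((hs.map l.base.hom.continuous).eq).symm


/-- A scheme whose underlying space is Hausdorff is separated. (The published statement assumes X of
dimension zero; a Hausdorff scheme always has dimension at most zero, so this row omits that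
hypothesis.) -/
theorem result (X : Scheme.{u}) [T2Space X] : X.IsSeparated := by
  constructor
  have : QuasiSeparated (terminal.from X) := (quasiSeparatedSpace_iff_quasiSeparated X).1 inferInstance
  apply IsSeparated.of_valuativeCriterion
  intro S
  constructor
  intro l₁ l₂
  ext1
  -- the point
  let ι := Spec.map (CommRingCat.ofHom (algebraMap S.R S.K))
  let w : Spec (.of S.K) := IsLocalRing.closedPoint S.K
  let x : X := S.i₁.base w
  have h1 : ∀ (l : S.commSq.LiftStruct) z, l.l.base z = x := fun l z => by
    rw [spec_const X l.l w z, ← Scheme.Hom.comp_apply, l.fac_left]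
  obtain ⟨U, hUaff, hxU, -⟩ := (X.isBasis_affineOpens).exists_subset_of_mem_open (Set.mem_univ x) isOpen_univ
  obtain ⟨U, hU, rfl⟩ := hUaff
  have hU : IsAffineOpen (U : X.Opens) := hU
  have hr : ∀ (l : S.commSq.LiftStruct), Set.range l.l.base ⊆ Set.range (Scheme.Opens.ι U).base := by
    rintro l _ ⟨z, rfl⟩
    rw [h1 l z]
    simpa using hxU
  have key : IsOpenImmersion.lift (Scheme.Opens.ι U) l₁.l (hr l₁) = IsOpenImmersion.lift (Scheme.Opens.ι U) l₂.l (hr l₂) := by
    have : IsAffine (Scheme.Opens.toScheme U) := hU
    apply ext_of_isAffine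
    have := mono_appTop_of_injective (CommRingCat.ofHom (algebraMap S.R S.K)) (IsFractionRing.injective S.R S.K)
    rw [← cancel_mono (Spec.map (CommRingCat.ofHom (algebraMap S.R S.K))).appTop]
    rw [← Scheme.Hom.comp_appTop, ← Scheme.Hom.comp_appTop]
    congr 1
    rw [← cancel_mono (Scheme.Opens.ι U), Category.assoc, Category.assoc, IsOpenImmersion.lift_fac, IsOpenImmersion.lift_fac,
      l₁.fac_left, l₂.fac_left]
  rw [← IsOpenImmersion.lift_fac (Scheme.Opens.ι U) l₁.l (hr l₁), key, IsOpenImmersion.lift_fac]

end Groth.Agent.S9830
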