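import Groth.Statements.S9831
import Mathlib
import Groth.Agent.Lib.Helper1.SubExt10

set_option autoImplicit false
universe u
open CategoryTheory CategoryTheory.Limits AlgebraicGeometry TopologicalSpace Opposite
open Props

namespace Groth.Agent.S9831

/-- On a quasi-compact quasi-separated scheme, a quasi-coherent module of finite type on a quasi-compact
open U is the restriction of a quasi-coherent module of finite type on the whole scheme. -/
theorem result {X : Scheme.{u}} [CompactSpace X]
    [QuasiSeparatedSpace X] (U : X.Opens) (hU : IsCompact (U : Set X)) (G : (U : Scheme.{u}).Modules)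
    [Coh.IsQCoh G] (hG : CohB1.IsFT G) :
    ∃ G' : X.Modules, Coh.IsQCoh G' ∧ CohB1.IsFT G' ∧ Nonempty (G'.restrict U.ι ≅ G) := by
  open Groth.Agent.Helper1.SubSh in
  have hGq : G.IsQuasicoherent := ‹Coh.IsQCoh G›
  have hqc : QuasiCompact U.ι := quasiCompact_ι_of U fun A hA hAc =>
    IsCompact.inter_of_isOpen hU hAc U.isOpen hA
  exact exists_extension_module_of U
    (fun F _ G i _ _ hG => exists_extension_cat_qcqs U hU G i hG) G hG

end Groth.Agent.S9831
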