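import Groth.Statements.S9833
import Groth.Agent.Lib.Helper8.AffLoc
import Groth.Agent.Lib.Helper8.Nag11
import Groth.Agent.S4710
import Groth.Agent.S9400

set_option autoImplicit false
universe u
open CategoryTheory AlgebraicGeometry TopologicalSpace
open Props

namespace Groth.Agent.S9833

/-- If a scheme has an affine open covering by spectra of Nagata rings, then the coordinate ring of
every affine open is Nagata. -/
theorem result (X : Scheme.{u}) {ι : Type u} (U : ι → X.Opens)
    (hU : iSup U = ⊤) (haff : ∀ i, IsAffineOpen (U i)) (hN : ∀ i, CAlg.IsNagata Γ(X, U i))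
    (V : X.Opens) (hV : IsAffineOpen V) : CAlg.IsNagata Γ(X, V) := by
  refine Groth.Agent.Helper8.AffLoc.affine_of_local (fun A _ => CAlg.IsNagata A) ?_ ?_ ?_
    X U hU haff hN V hV
  · intro B W _ _ χ hW
    letI : Algebra W B := χ.symm.toRingHom.toAlgebra
    haveI : Module.Finite W B :=
      Module.Finite.of_surjective (Algebra.linearMap W B) χ.symm.surjective
    exact Groth.Agent.Helper8.Nag.isNagata_of_finite W B hW
  · intro A _ f hA
    exact Groth.Agent.S4710.result A hA (Submonoid.powers f)
  · intro A _ s hs h
    refine Groth.Agent.S9400.result A (ι := s) (fun i => i.1) ?_ (fun i => h i.1 i.2)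
    rw [Subtype.range_coe_subtype]
    exact hs

end Groth.Agent.S9833
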