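import Groth.Statements.S9834
import Groth.Agent.Lib.Helper8.AffLoc
import Groth.Agent.Lib.Helper8.AffLoc2
import Groth.Agent.S9398

set_option autoImplicit false
universe u
open CategoryTheory AlgebraicGeometry TopologicalSpace
open Props

namespace Groth.Agent.S9834

/-- If a scheme has an affine open covering by spectra of universally Japanese rings, then the
coordinate ring of every affine open is universally Japanese. -/
theorem result (X : Scheme.{u}) {ι : Type u} (U : ι → X.Opens)
    (hU : iSup U = ⊤) (haff : ∀ i, IsAffineOpen (U i)) (hJ : ∀ i, CAlg.IsUniversallyJapanese Γ(X, U i))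
    (V : X.Opens) (hV : IsAffineOpen V) : CAlg.IsUniversallyJapanese Γ(X, V) := by
  refine Groth.Agent.Helper8.AffLoc.affine_of_local (fun A _ => CAlg.IsUniversallyJapanese A)
    ?_ ?_ ?_ X U hU haff hJ V hV
  · intro B W _ _ χ hW
    letI : Algebra W B := χ.symm.toRingHom.toAlgebra
    haveI : Algebra.FiniteType W B :=
      Algebra.FiniteType.of_surjective (Algebra.ofId W B) χ.symm.surjective
    exact Groth.Agent.S9398.result W hW B
  · intro A _ f hA
    exact Groth.Agent.S9398.result A hA (Localization.Away f)
  · intro A _ s hs h
    exact Groth.Agent.Helper8.AffLoc.uj_glue A s hs h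

end Groth.Agent.S9834
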