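import Groth.Statements.S9835
import Groth.Agent.Lib.Helper8.AffLoc
import Groth.Agent.Lib.Helper8.AffLoc2
import Groth.Agent.Lib.Helper6.Japanese

set_option autoImplicit false
universe u
open CategoryTheory AlgebraicGeometry TopologicalSpace
open Props

namespace Groth.Agent.S9835

/-- If an integral scheme has an affine open covering by spectra of Japanese (N-2) domains, then the
coordinate ring of every nonempty affine open is a Japanese domain. -/
theorem result (X : Scheme.{u}) [IsIntegral X] {ι : Type u}
    (U : ι → X.Opens) [∀ i, Nonempty (U i)] (hU : iSup U = ⊤) (haff : ∀ i, IsAffineOpen (U i))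
    (hJ : ∀ i, CAlg.IsN2 Γ(X, U i)) (V : X.Opens) [Nonempty V] (hV : IsAffineOpen V) :
    CAlg.IsN2 Γ(X, V) := by
  have key := Groth.Agent.Helper8.AffLoc.affine_of_cover X
    (fun W => ∀ [Nonempty (W : X.Opens)], CAlg.IsN2 Γ(X, (W : X.Opens))) ?_ ?_ U hU haff
    (fun i => hJ i) ⟨V, hV⟩
  · exact key
  · intro W f hP hne
    haveI : Nonempty (W : X.Opens) := by
      obtain ⟨x, hx⟩ := hne
      exact ⟨⟨x, X.basicOpen_le f hx⟩⟩
    haveI : Nonempty (X.basicOpen f) := hne
    haveI := W.prop.isLocalization_basicOpen f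
    exact Groth.Agent.Lib.Helper6.Japanese.n2_loc Γ(X, (W : X.Opens)) (Submonoid.powers f)
      Γ(X, X.basicOpen f) hP
  · intro W s hs hP hne
    let A := Γ(X, (W : X.Opens))
    let κ := {i : A // i ∈ s ∧ algebraMap A A i ≠ 0}
    haveI : Finite κ :=
      Finite.of_injective (fun i : κ => (⟨i.1, i.2.1⟩ : s)) (fun a b hab => by
        apply Subtype.ext
        exact congrArg (fun x : s => (x : A)) hab)
    let g : κ → A := fun i => algebraMap A A i.1
    have hg : Ideal.span (Set.range g) = ⊤ :=
      Groth.Agent.Helper8.AffLoc.span_range_filter_ne_zero (S := A) s hs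
    have hne' : ∀ i : κ, Nonempty (X.basicOpen (g i)) := fun i => by
      by_contra hcon
      rw [not_nonempty_iff] at hcon
      have hbot : X.basicOpen (g i) = ⊥ := by
        ext x
        simp only [TopologicalSpace.Opens.coe_bot, Set.mem_empty_iff_false, iff_false]
        exact fun hx => hcon.false ⟨x, hx⟩
      rw [basicOpen_eq_bot_iff] at hbot
      exact i.2.2 hbot
    haveI : ∀ i : κ, IsLocalization.Away (g i) Γ(X, X.basicOpen (g i)) := fun i =>
      W.prop.isLocalization_basicOpen (g i)
    refine Groth.Agent.Lib.Helper6.Japanese.n2_cover A g hg (fun i => Γ(X, X.basicOpen (g i)))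
      (fun i => ?_)
    exact @hP ⟨i.1, i.2.1⟩ (hne' i)

end Groth.Agent.S9835
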