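import Groth.Statements.S9838
import Mathlib
import Groth.Agent.Lib.Lead.FLF7
import Groth.Agent.Lib.Helper1.PushQc
import Groth.Agent.Lib.Helper1.CohRestr

set_option autoImplicit false
open CategoryTheory CategoryTheory.Limits AlgebraicGeometry Opposite
universe u
open Desc

namespace Groth.Agent.S9838

section
open CategoryTheory CategoryTheory.Limits AlgebraicGeometry Opposite

open Groth.Agent.Lead Groth.Agent.Helper1

theorem finite_iff_alg (A B N : Type u) [CommRing A] [CommRing B] [AddCommGroup N] [Algebra A B]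
    [Module B N] [Module A N] [IsScalarTower A B N] [Module.Finite A B] :
    Module.Finite A N ↔ Module.Finite B N :=
  ⟨fun _ => Module.Finite.of_restrictScalars_finite A B N, fun _ => Module.Finite.trans B N⟩

section
variable {X Y : Scheme.{u}} (f : X ⟶ Y) (F : X.Modules) (V : Y.Opens)

/-- sections of `F` over `f⁻¹ V` as a module over `Γ(Y, V)` -/
noncomputable def pushModule : Module Γ(Y, V) Γ(F, f ⁻¹ᵁ V) :=
  inferInstanceAs (Module Γ(Y, V) Γ((Scheme.Modules.pushforward f).obj F, V))

theorem tower :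
    letI alg : Algebra Γ(Y, V) Γ(X, f ⁻¹ᵁ V) := (f.app V).hom.toAlgebra
    letI := pushModule f F V
    IsScalarTower Γ(Y, V) Γ(X, f ⁻¹ᵁ V) Γ(F, f ⁻¹ᵁ V) := by
  letI alg : Algebra Γ(Y, V) Γ(X, f ⁻¹ᵁ V) := (f.app V).hom.toAlgebra
  letI := pushModule f F V
  exact IsScalarTower.of_algebraMap_smul fun r x => rfl

theorem finite_iff (hfin : (f.app V).hom.Finite) :
    Module.Finite Γ(Y, V) Γ((Scheme.Modules.pushforward f).obj F, V) ↔
      Module.Finite Γ(X, f ⁻¹ᵁ V) Γ(F, f ⁻¹ᵁ V) := by
  letI alg : Algebra Γ(Y, V) Γ(X, f ⁻¹ᵁ V) := (f.app V).hom.toAlgebra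
  haveI : Module.Finite Γ(Y, V) Γ(X, f ⁻¹ᵁ V) := hfin
  exact @finite_iff_alg Γ(Y, V) Γ(X, f ⁻¹ᵁ V) Γ(F, f ⁻¹ᵁ V) _ _ _ alg _
    (pushModule f F V) (tower f F V) _

end

theorem main {X Y : Scheme.{u}} (f : X ⟶ Y) [IsFinite f]
    (F : X.Modules) [F.IsQuasicoherent] :
    SheafOfModules.IsFiniteType (R := X.ringCatSheaf) F ↔
      SheafOfModules.IsFiniteType (R := Y.ringCatSheaf) ((Scheme.Modules.pushforward f).obj F) := by
  haveI : ((Scheme.Modules.pushforward f).obj F).IsQuasicoherent :=
    PushQc.isQuasicoherent_pushforward f F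
  constructor
  · intro h
    apply FLF.isFT_of_ft_sections
    intro V hV
    rw [finite_iff f F V (f.finite_app V hV)]
    exact FLF.ft_sections F h (hV.preimage f)
  · intro h
    refine FtLocal.isFiniteType_of_affine_charts F (I := Y.affineOpens)
      (fun V => Γ(X, f ⁻¹ᵁ V.1)) (fun V => (V.2.preimage f).fromSpec) ?_ ?_
    · apply le_antisymm le_top
      intro x _
      obtain ⟨_, ⟨W, hW, rfl⟩, hyW, -⟩ := Y.isBasis_affineOpens.exists_subset_of_mem_open
        (Set.mem_univ (f x)) isOpen_univ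
      refine TopologicalSpace.Opens.mem_iSup.2 ⟨⟨W, hW⟩, ?_⟩
      rw [IsAffineOpen.opensRange_fromSpec]
      exact hyW
    · intro V
      apply FinPush.finite_restrict_fromSpec
      rw [← finite_iff f F V.1 (f.finite_app V.1 V.2)]
      exact FLF.ft_sections _ h V.2


end


/-- Let f : X ⟶ Y be a finite morphism of schemes and F a quasi-coherent O_X-module. The pushforward
f_*F is of finite type as an O_Y-module exactly when F itself is of finite type as an O_X-module. -/
theorem result {X Y : Scheme.{u}} (f : X ⟶ Y) [IsFinite f]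
    (F : X.Modules) [F.IsQuasicoherent] :
    SheafOfModules.IsFiniteType (R := X.ringCatSheaf) F ↔
      SheafOfModules.IsFiniteType (R := Y.ringCatSheaf) ((Scheme.Modules.pushforward f).obj F) := by
  classical
  exact main f F

end Groth.Agent.S9838
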