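import Groth.Statements.S9841
import Mathlib
import Groth.Agent.Lib.Helper2.Sch.Reduced

open Groth.Agent.Helper2.SchLib

set_option autoImplicit false
open CategoryTheory CategoryTheory.Limits AlgebraicGeometry Opposite
universe u
open Desc

namespace Groth.Agent.S9841

/-- Being reduced is local in the smooth topology: for a jointly surjective family of smooth morphisms f
i : X i ⟶ S, the scheme S is reduced if and only if every X i is reduced. -/
theorem result {ι : Type u} {S : Scheme.{u}} {X : ι → Scheme.{u}} (f : ∀ i, X i ⟶ S)
    (hf : Presieve.ofArrows X f ∈ Scheme.precoverage @Smooth S) :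
    IsReduced S ↔ ∀ i, IsReduced (X i) := by
  rw [Scheme.ofArrows_mem_precoverage_iff] at hf
  obtain ⟨hsurj, hsm⟩ := hf
  constructor
  · intro hS i
    haveI : Smooth (f i) := hsm i
    exact isReduced_of_smooth (f i)
  · intro h
    have (s : S) : _root_.IsReduced (S.presheaf.stalk s) := by
      obtain ⟨i, x, rfl⟩ := hsurj s
      haveI : Smooth (f i) := hsm i
      haveI := h i
      exact isReduced_of_injective ((f i).stalkMap x).hom (stalkMap_injective_of_flat (f i) x)
    exact isReduced_of_isReduced_stalk S

end Groth.Agent.S9841
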