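import Groth.Statements.S9842
import Mathlib
-- import your own Groth.Agent.* helpers here

set_option autoImplicit false
open CategoryTheory CategoryTheory.Limits AlgebraicGeometry Opposite
universe u
open Desc

namespace Groth.Agent.S9842

open CategoryTheory CategoryTheory.Limits AlgebraicGeometry Opposite
namespace Aux

theorem main {k E : Type u} [Field k] [Field E] [Algebra k E]
    {X Y : Scheme.{u}} (f : X ⟶ Y) (q : Y ⟶ Spec (.of k)) :
    IsDominant f ↔
      IsDominant (pullback.snd f (pullback.fst q (Spec.map (CommRingCat.ofHom (algebraMap k E))))) := by
  set s : Spec (.of E) ⟶ Spec (.of k) := Spec.map (CommRingCat.ofHom (algebraMap k E)) with hs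
  set p : pullback q s ⟶ Y := pullback.fst q s with hp
  have hsurj_s : Surjective s := by
    constructor
    intro x
    have : Nonempty (Spec (.of E)) := inferInstance
    obtain ⟨y⟩ := this
    exact ⟨y, Subsingleton.elim _ _⟩
  have hsurj : Surjective p := inferInstance
  have hopen : UniversallyOpen p := inferInstance
  have hrange : Set.range (pullback.snd f p) = p ⁻¹' Set.range f :=
    Scheme.Pullback.range_snd f p
  constructor
  · intro hf
    constructor
    change Dense (Set.range (pullback.snd f p))
    rw [hrange]
    exact hf.denseRange.preimage p.isOpenMap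
  · intro hf'
    constructor
    have h1 : DenseRange (p ∘ (pullback.snd f p)) :=
      DenseRange.comp (p.surjective.denseRange) hf'.denseRange p.continuous
    refine Dense.mono ?_ h1
    rintro _ ⟨z, rfl⟩
    refine ⟨pullback.fst f p z, ?_⟩
    have := congrArg (fun g : pullback f p ⟶ Y => g z) (pullback.condition (f := f) (g := p))
    simpa using this

end Aux

/-- Let E/k be a field extension, Y a scheme over k and f : X ⟶ Y a morphism. Writing Y_E = Y ×_k Spec
E, the morphism f is dominant if and only if its base change X ×_Y Y_E ⟶ Y_E is dominant. -/
theorem result {k E : Type u} [Field k] [Field E] [Algebra k E]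
    {X Y : Scheme.{u}} (f : X ⟶ Y) (q : Y ⟶ Spec (.of k)) :
    IsDominant f ↔
      IsDominant (pullback.snd f (pullback.fst q (Spec.map (CommRingCat.ofHom (algebraMap k E))))) := by
  exact Aux.main f q

end Groth.Agent.S9842
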