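import Groth.Statements.S9843
import Mathlib
import Groth.Agent.Lib.Helper9.FppfCov

set_option autoImplicit false
open CategoryTheory CategoryTheory.Limits AlgebraicGeometry Opposite
universe u
open Desc

namespace Groth.Agent.S9843

/-- Being dominant is fppf local on the base: for every fppf covering family Y i ⟶ Y (flat, locally of
finite presentation, jointly surjective), a morphism X ⟶ Y is dominant if and only if all its base
changes X ×_Y Y i ⟶ Y i are. -/
theorem result :
    MorphismProperty.IsLocalAtTarget (@IsDominant : MorphismProperty Scheme.{u}) Scheme.fppfPrecoverage := by
  open Groth.Agent.Helper9.FppfCov in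
  refine MorphismProperty.IsLocalAtTarget.mk_of_iff (fun X Y f R hR => ?_)
  constructor
  · intro hf U g _ hg
    have hopen := fppf_isOpenMap hR hg
    constructor
    have h1 : Set.range (pullback.snd f g).base = g.base ⁻¹' Set.range f.base :=
      Scheme.Pullback.range_snd f g
    rw [DenseRange, h1]
    exact hf.denseRange.preimage hopen
  · intro h
    constructor
    intro y
    obtain ⟨U, g, hg, u, rfl⟩ := exists_mem_range hR y
    have := fppf_flat hR hg
    have hd : IsDominant (pullback.snd f g) := h g hg
    have h1 : Set.range (pullback.snd f g).base = g.base ⁻¹' Set.range f.base :=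
      Scheme.Pullback.range_snd f g
    have h2 : u ∈ closure (g.base ⁻¹' Set.range f.base) := by
      rw [← h1]; exact hd.denseRange u
    exact g.base.hom.continuous.closure_preimage_subset _ h2

end Groth.Agent.S9843
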