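import Groth.Statements.S9845
import Mathlib
import Groth.Agent.Lib.Helper9.FppfCov

set_option autoImplicit false
open CategoryTheory CategoryTheory.Limits AlgebraicGeometry Opposite
universe u
open Desc

namespace Groth.Agent.S9845

/-- Being an open morphism (open underlying map) is fppf local on the source: for every fppf covering
family g i : X i ⟶ X, a morphism f : X ⟶ Y has open underlying map if and only if every composite g
i ≫ f does. -/
theorem result :
    MorphismProperty.IsLocalAtSource (topologically (fun f => IsOpenMap f) : MorphismProperty Scheme.{u})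
      Scheme.fppfPrecoverage := by
  open Groth.Agent.Helper9.FppfCov in
  have : (topologically (fun f => IsOpenMap f) : MorphismProperty Scheme.{u}).RespectsIso := by
    apply topologically_respectsIso
    · intro α β _ _ e; exact e.isOpenMap
    · intro α β γ _ _ _ f g hf hg; exact hg.comp hf
  refine MorphismProperty.IsLocalAtSource.mk_of_iff (fun {X Y f R} hR => ?_)
  constructor
  · intro hf U g hg
    have hopen := fppf_isOpenMap hR hg
    change IsOpenMap (g ≫ f).base
    rw [Scheme.Hom.comp_base]
    exact (show IsOpenMap f.base from hf).comp hopen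
  · intro h
    change IsOpenMap f.base
    intro V hV
    have : f.base '' V = ⋃ (p : Σ (U : Scheme.{u}), {g : U ⟶ X // R g}),
        (p.2.1 ≫ f).base '' (p.2.1.base ⁻¹' V) := by
      ext y
      simp only [Set.mem_image, Set.mem_iUnion, Set.mem_preimage]
      constructor
      · rintro ⟨x, hx, rfl⟩
        obtain ⟨U, g, hg, u, rfl⟩ := exists_mem_range hR x
        exact ⟨⟨U, g, hg⟩, u, hx, rfl⟩
      · rintro ⟨⟨U, g, hg⟩, u, hu, rfl⟩
        exact ⟨g.base u, hu, rfl⟩
    rw [this]
    refine isOpen_iUnion fun p => ?_
    exact (show IsOpenMap (p.2.1 ≫ f).base from h p.2.2) _ (hV.preimage p.2.1.base.hom.continuous)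

end Groth.Agent.S9845
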