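import Groth.Statements.S9846
import Mathlib
import Groth.Agent.Lib.Helper9.FppfCov

set_option autoImplicit false
open CategoryTheory CategoryTheory.Limits AlgebraicGeometry Opposite
universe u
open Desc

namespace Groth.Agent.S9846

/-- Being universally open is fppf local on the source: for every fppf covering family g i : X i ⟶ X, a
morphism f : X ⟶ Y is universally open if and only if every composite g i ≫ f is. -/
theorem result :
    MorphismProperty.IsLocalAtSource (@UniversallyOpen : MorphismProperty Scheme.{u}) Scheme.fppfPrecoverage := by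
  open Groth.Agent.Helper9.FppfCov in
  refine MorphismProperty.IsLocalAtSource.mk_of_iff (fun {X Y f R} hR => ?_)
  constructor
  · intro hf U g hg
    have := fppf_universallyOpen hR hg
    have : UniversallyOpen f := hf
    infer_instance
  · intro h
    rw [UniversallyOpen.eq]
    intro X' Y' i₁ i₂ f' hpb
    change IsOpenMap f'.base
    intro V hV
    have hpaste : ∀ (p : Σ (U : Scheme.{u}), {g : U ⟶ X // R g}),
        IsOpenMap (pullback.snd p.2.1 i₁ ≫ f').base := by
      intro p
      have h1 : UniversallyOpen (p.2.1 ≫ f) := h p.2.2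
      have hsq : IsPullback (pullback.snd p.2.1 i₁ ≫ f') (pullback.fst p.2.1 i₁) i₂ (p.2.1 ≫ f) :=
        (IsPullback.of_hasPullback p.2.1 i₁).flip.paste_horiz hpb
      have h2 := UniversallyOpen.universally_isOpenMap _ _ _ hsq
      exact h2
    have : f'.base '' V = ⋃ (p : Σ (U : Scheme.{u}), {g : U ⟶ X // R g}),
        (pullback.snd p.2.1 i₁ ≫ f').base '' ((pullback.snd p.2.1 i₁).base ⁻¹' V) := by
      ext y
      simp only [Set.mem_image, Set.mem_iUnion, Set.mem_preimage]
      constructor
      · rintro ⟨x', hx', rfl⟩
        obtain ⟨U, g, hg, u, hu⟩ := exists_mem_range hR (i₁.base x')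
        obtain ⟨z, hz1, hz2⟩ := Scheme.Pullback.exists_preimage_pullback (f := g) (g := i₁) u x' hu
        refine ⟨⟨U, g, hg⟩, z, ?_, ?_⟩
        · change (pullback.snd g i₁).base z ∈ V
          rw [hz2]; exact hx'
        · change (pullback.snd g i₁ ≫ f').base z = _
          rw [Scheme.Hom.comp_base]
          change f'.base ((pullback.snd g i₁).base z) = _
          rw [hz2]
      · rintro ⟨⟨U, g, hg⟩, z, hz, rfl⟩
        exact ⟨(pullback.snd g i₁).base z, hz, rfl⟩
    rw [this]
    refine isOpen_iUnion fun p => ?_
    exact hpaste p _ (hV.preimage (pullback.snd p.2.1 i₁).base.hom.continuous)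

end Groth.Agent.S9846
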