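import Groth.Statements.S9847
import Mathlib
import Groth.Agent.Lib.Helper9.FppfCov
import Groth.Agent.Lib.Helper2.EtaleLocal

set_option autoImplicit false
open CategoryTheory CategoryTheory.Limits AlgebraicGeometry Opposite
universe u
open Desc

namespace Groth.Agent.S9847

/-- Being etale is etale local on the source: for every etale covering family g i : X i ⟶ X (etale,
jointly surjective), a morphism f : X ⟶ Y is etale if and only if every composite g i ≫ f is. -/
theorem result :
    MorphismProperty.IsLocalAtSource (@Etale : MorphismProperty Scheme.{u}) Scheme.etalePrecoverage := by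
  open Groth.Agent.Helper9.FppfCov in
  refine MorphismProperty.IsLocalAtSource.mk_of_iff (fun {X Y f R} hR => ?_)
  constructor
  · intro hf U g hg
    have : Etale g := prop_of_mem hR hg
    have : Etale f := hf
    exact (inferInstance : Etale (g ≫ f))
  · intro h
    -- the open images of the members of the cover
    let O : (Σ (U : Scheme.{u}), {g : U ⟶ X // R g}) → X.Opens := fun p =>
      ⟨Set.range p.2.1, by
        have : Etale p.2.1 := prop_of_mem hR p.2.2
        exact p.2.1.isOpenMap.isOpen_range⟩
    have hO : iSup O = ⊤ := by
      rw [eq_top_iff]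
      intro x _
      obtain ⟨U, g, hg, hx⟩ := exists_mem_range hR x
      exact TopologicalSpace.Opens.mem_iSup.mpr ⟨⟨U, g, hg⟩, hx⟩
    rw [IsZariskiLocalAtSource.iff_of_iSup_eq_top (P := @Etale) O hO]
    intro p
    have hg : Etale p.2.1 := prop_of_mem hR p.2.2
    have hsub : Set.range p.2.1 ⊆ Set.range (O p).ι := by
      rw [Scheme.Opens.range_ι]
      exact subset_rfl
    let q : p.1 ⟶ (O p).toScheme := IsOpenImmersion.lift (O p).ι p.2.1 hsub
    have hq : q ≫ (O p).ι = p.2.1 := IsOpenImmersion.lift_fac _ _ _
    have hqe : Etale q := by
      have h1 : Etale (q ≫ (O p).ι) := by rw [hq]; exact hg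
      exact MorphismProperty.of_postcomp (W := @Etale) (W' := @Etale) q (O p).ι inferInstance h1
    have hqs : Surjective q := by
      constructor
      rintro ⟨x, u, rfl⟩
      refine ⟨u, ?_⟩
      apply (O p).ι.injective
      rw [← Scheme.Hom.comp_apply, hq]
      rfl
    have h2 : Etale (q ≫ (O p).ι ≫ f) := by
      rw [← Category.assoc, hq]
      exact h p.2.2
    exact Groth.Agent.Helper2.EtaleLocal.etale_of_comp_etale_surjective q _ h2

end Groth.Agent.S9847
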