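import Groth.Statements.S9857
-- import your own Groth.Agent.* helpers here
import Groth.Agent.Lib.Helper4.FibDimBC2
import Groth.Agent.Lib.Helper4.Equi10
import Groth.Agent.Lib.Helper4.FibDimComp1
import Groth.Agent.Lib.Helper4.Aff2

set_option autoImplicit false
open CategoryTheory CategoryTheory.Limits AlgebraicGeometry Opposite
universe u
open Desc

namespace Groth.Agent.S9857

/-- The property of a morphism being locally of finite type with relative dimension d may be checked
fpqc locally on the target; the descent direction for the dimension condition, stated for a single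
flat surjective quasi-compact base change g : Y' ⟶ Y of a morphism f : X ⟶ Y locally of finite type
and a cartesian square with base change f' : X' ⟶ Y': if every irreducible component of every fibre
of f' has dimension d, then every irreducible component of every fibre of f has dimension d. (Local
finite type itself descends along g by a separate result; stability under base change is the other
direction.) -/
theorem result {X Y X' Y' : Scheme.{u}} (f : X ⟶ Y) [LocallyOfFiniteType f] (g : Y' ⟶ Y)
    [Flat g] [Surjective g] [QuasiCompact g] (g' : X' ⟶ X) (f' : X' ⟶ Y') (hsq : IsPullback g' f' f g)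
    (d : ℕ) (h : Cyc.HasRelDim f' d) : Cyc.HasRelDim f d := by
  haveI : LocallyOfFiniteType f' :=
    MorphismProperty.of_isPullback (P := @LocallyOfFiniteType) hsq inferInstance
  rw [Groth.Agent.Lib.Helper4.FibDimComp1.hasRelDim_iff_tr]
  intro z hmax
  obtain ⟨y', hy'⟩ := (inferInstance : Surjective g).surj (f z)
  obtain ⟨x', hx'1, hx'2⟩ :=
    Groth.Agent.Lib.Helper4.Aff2.exists_preimage_of_isPullback hsq z y' hy'.symm
  have h1 := (Groth.Agent.Lib.Helper4.FibDimBC2.S9358_main f g g' f' hsq d).1 x'
  obtain ⟨w, hw1, hw2, hwmax, hwtr⟩ :=
    Groth.Agent.Lib.Helper4.Equi10.exists_max_tr_eq_fibreDimAt f' x'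
  have h2 := (Groth.Agent.Lib.Helper4.FibDimComp1.hasRelDim_iff_tr f' d).mp h w hwmax
  have h3 := Groth.Agent.Lib.Helper4.Equi10.fibreDimAt_eq_tr_of_max_nn f z hmax
  have h4 : FlatMor.fibreDimAt f (g'.base x') = FlatMor.fibreDimAt f z := by
    have h5 : g'.base x' = z := hx'1
    rw [h5]
  rw [h4, h3, ← hwtr, h2] at h1
  exact_mod_cast h1.symm

end Groth.Agent.S9857
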