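import Groth.Statements.S9859
import Mathlib
-- import your own Groth.Agent.* helpers here

set_option autoImplicit false
open CategoryTheory CategoryTheory.Limits AlgebraicGeometry Opposite
universe u
open Desc

namespace Groth.Agent.S9859

open CategoryTheory CategoryTheory.Limits AlgebraicGeometry Opposite
namespace Aux
open MorphismProperty

variable (P : MorphismProperty Scheme.{u})
  [MorphismProperty.IsLocalAtTarget P Scheme.fppfPrecoverage]

theorem zar : IsZariskiLocalAtTarget P :=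
  IsLocalAtTarget.of_le Scheme.zariskiPrecoverage_le_fppfPrecoverage

/-- base change along flat lfp maps -/
theorem bc {X Y Y' X' : Scheme.{u}} {f : X ⟶ Y} {g : Y' ⟶ Y} [Flat g]
    [LocallyOfFinitePresentation g] {fst : X' ⟶ X} {snd : X' ⟶ Y'}
    (h : IsPullback fst snd f g) (hf : P f) : P snd := by
  let Z : Bool → Scheme.{u} := fun b => bif b then Y' else Y
  let φ : ∀ b, Z b ⟶ Y := fun b => match b with
    | true => g
    | false => 𝟙 Y
  have hR : Presieve.ofArrows Z φ ∈ Scheme.fppfPrecoverage Y := by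
    show Presieve.ofArrows Z φ ∈
      Scheme.precoverage (@Flat ⊓ @LocallyOfFinitePresentation) Y
    rw [Scheme.ofArrows_mem_precoverage_iff]
    refine ⟨fun x => ⟨false, x, rfl⟩, ?_⟩
    rintro (_ | _)
    · exact ⟨inferInstanceAs (Flat (𝟙 Y)), inferInstanceAs (LocallyOfFinitePresentation (𝟙 Y))⟩
    · exact ⟨‹Flat g›, ‹LocallyOfFinitePresentation g›⟩
  have h1 : P (pullback.snd f g) :=
    IsLocalAtTarget.pullbackSnd (P := P) hR (Presieve.ofArrows.mk true) hf
  rw [← P.cancel_left_of_respectsIso h.isoPullback.hom, h.isoPullback_hom_snd] at h1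
  exact h1

/-- descent along flat lfp surjections -/
theorem desc {X Y Y' X' : Scheme.{u}} {f : X ⟶ Y} {g : Y' ⟶ Y} [Flat g]
    [LocallyOfFinitePresentation g] [Surjective g] {fst : X' ⟶ X} {snd : X' ⟶ Y'}
    (h : IsPullback fst snd f g) (hs : P snd) : P f := by
  have hR : Presieve.singleton g ∈ Scheme.fppfPrecoverage Y := by
    show Presieve.singleton g ∈
      Scheme.precoverage (@Flat ⊓ @LocallyOfFinitePresentation) Y
    rw [Scheme.singleton_mem_precoverage_iff]
    exact ⟨g.surjective, ‹Flat g›, ‹LocallyOfFinitePresentation g›⟩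
  refine IsLocalAtTarget.of_forall_pullbackSnd (P := P) hR ?_
  rintro U g' _ ⟨⟩
  rw [← P.cancel_left_of_respectsIso h.isoPullback.hom, h.isoPullback_hom_snd]
  exact hs

omit [MorphismProperty.IsLocalAtTarget P Scheme.fppfPrecoverage] in
/-- lifting a pullback square through an open containing the range -/
theorem lift_sq {X Y Y' X' : Scheme.{u}} (f : X ⟶ Y) (g : Y' ⟶ Y) (U : Y.Opens)
    (hU : Set.range g ⊆ (U : Set Y)) {fst : X' ⟶ X} {snd : X' ⟶ Y'}
    (h : IsPullback fst snd f g) :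
    ∃ (fst' : X' ⟶ (f ⁻¹ᵁ U).toScheme) (g₁ : Y' ⟶ U.toScheme),
      g₁ ≫ U.ι = g ∧ IsPullback fst' snd (f ∣_ U) g₁ := by
  have hg : Set.range g ⊆ Set.range U.ι := by rw [Scheme.Opens.range_ι]; exact hU
  let g₁ : Y' ⟶ U := IsOpenImmersion.lift U.ι g hg
  have hg₁ : g₁ ≫ U.ι = g := IsOpenImmersion.lift_fac _ _ _
  have hfst : Set.range fst ⊆ Set.range (f ⁻¹ᵁ U).ι := by
    rw [Scheme.Opens.range_ι]
    rintro _ ⟨x, rfl⟩
    show f (fst x) ∈ U
    have : f (fst x) = g (snd x) := by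
      rw [← Scheme.Hom.comp_apply, ← Scheme.Hom.comp_apply, h.w]
    rw [this]
    exact hU ⟨_, rfl⟩
  let fst' : X' ⟶ (f ⁻¹ᵁ U) := IsOpenImmersion.lift (f ⁻¹ᵁ U).ι fst hfst
  have hfst' : fst' ≫ (f ⁻¹ᵁ U).ι = fst := IsOpenImmersion.lift_fac _ _ _
  refine ⟨fst', g₁, hg₁, ?_⟩
  have t : IsPullback (f ⁻¹ᵁ U).ι (f ∣_ U) f U.ι := (isPullback_morphismRestrict f U).flip
  have s : IsPullback (fst' ≫ (f ⁻¹ᵁ U).ι) snd f (g₁ ≫ U.ι) := by rw [hfst', hg₁]; exact h
  refine IsPullback.of_right s ?_ t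
  rw [← cancel_mono U.ι, Category.assoc, Category.assoc, hg₁, morphismRestrict_ι,
    ← Category.assoc, hfst', h.w]

omit [MorphismProperty.IsLocalAtTarget P Scheme.fppfPrecoverage] in
theorem flat_of_comp {X Y Z : Scheme.{u}} (f : X ⟶ Y) (g : Y ⟶ Z) [IsOpenImmersion g]
    (h : Flat (f ≫ g)) : Flat f :=
  (AlgebraicGeometry.instHasOfPostcompPropertySchemeIsOpenImmersionOfIsStableUnderBaseChange
    (@Flat : MorphismProperty Scheme.{u})).of_postcomp f g inferInstance h

omit [MorphismProperty.IsLocalAtTarget P Scheme.fppfPrecoverage] in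
theorem lfp_of_comp {X Y Z : Scheme.{u}} (f : X ⟶ Y) (g : Y ⟶ Z) [IsOpenImmersion g]
    (h : LocallyOfFinitePresentation (f ≫ g)) : LocallyOfFinitePresentation f :=
  (AlgebraicGeometry.instHasOfPostcompPropertySchemeIsOpenImmersionOfIsStableUnderBaseChange
    (@LocallyOfFinitePresentation : MorphismProperty Scheme.{u})).of_postcomp f g inferInstance h

theorem main {X Y : Scheme.{u}} (f : X ⟶ Y) :
    ∃ W : Y.Opens, P (f ∣_ W) ∧ (∀ W₀ : Y.Opens, P (f ∣_ W₀) → W₀ ≤ W) ∧
      (∀ (Y' : Scheme.{u}) (g : Y' ⟶ Y), Flat g → LocallyOfFinitePresentation g →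
        P (pullback.snd f g) → Set.range g.base ⊆ (W : Set Y)) ∧
      (∀ (Y' : Scheme.{u}) (g : Y' ⟶ Y), Flat g → LocallyOfFinitePresentation g →
        ∀ W' : Y'.Opens, P (pullback.snd f g ∣_ W') →
          (∀ W₀ : Y'.Opens, P (pullback.snd f g ∣_ W₀) → W₀ ≤ W') →
          W' = g ⁻¹ᵁ W) := by
  have hz := zar P
  let W : Y.Opens := sSup {W₀ | P (f ∣_ W₀)}
  have hW : P (f ∣_ W) := by
    apply IsZariskiLocalAtTarget.of_forall_exists_morphismRestrict
    intro x
    obtain ⟨W₀, hW₀, hx⟩ := TopologicalSpace.Opens.mem_sSup.mp x.2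
    refine ⟨W.ι ⁻¹ᵁ W₀, hx, ?_⟩
    rw [P.arrow_mk_iso_iff (morphismRestrictRestrict f W _)]
    have : W.ι ''ᵁ (W.ι ⁻¹ᵁ W₀) = W₀ := by
      rw [Scheme.Hom.image_preimage_eq_opensRange_inf, Scheme.Opens.opensRange_ι]
      exact inf_eq_right.mpr (le_sSup hW₀)
    rw [this]; exact hW₀
  have h3 : ∀ (Y' : Scheme.{u}) (g : Y' ⟶ Y) [Flat g] [LocallyOfFinitePresentation g]
      (X' : Scheme.{u}) (fst : X' ⟶ X) (snd : X' ⟶ Y'), IsPullback fst snd f g → P snd →
      Set.range g ⊆ (W : Set Y) := by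
    intro Y' g _ _ X' fst snd h hs
    let W₀ : Y.Opens := ⟨Set.range g, g.isOpenMap.isOpen_range⟩
    obtain ⟨fst', g₁, hg₁, hpb⟩ := lift_sq f g W₀ (le_refl _) h
    have : Flat g₁ := flat_of_comp g₁ W₀.ι (by rw [hg₁]; infer_instance)
    have : LocallyOfFinitePresentation g₁ := lfp_of_comp g₁ W₀.ι (by rw [hg₁]; infer_instance)
    have : Surjective g₁ := ⟨fun y => by
      obtain ⟨y', hy'⟩ := y.2
      refine ⟨y', Subtype.ext ?_⟩
      rw [← hy', ← hg₁]; rfl⟩
    have hP : P (f ∣_ W₀) := desc P hpb hs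
    exact (le_sSup hP : W₀ ≤ W)
  refine ⟨W, hW, fun W₀ h => le_sSup h, ?_, ?_⟩
  · intro Y' g _ _ hg
    exact h3 Y' g _ _ _ (IsPullback.of_hasPullback f g) hg
  · intro Y' g _ _ W' hW' hmax
    apply le_antisymm
    · -- W' ≤ g⁻¹ W
      have s := (isPullback_morphismRestrict (pullback.snd f g) W').flip
      have t := IsPullback.of_hasPullback f g
      have st := s.paste_horiz t
      have hr := h3 W' (W'.ι ≫ g) _ _ _ st hW'
      intro y hy
      exact hr ⟨⟨y, hy⟩, rfl⟩
    · -- g⁻¹ W ≤ W'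
      apply hmax
      have s := (isPullback_morphismRestrict (pullback.snd f g) (g ⁻¹ᵁ W)).flip
      have t := IsPullback.of_hasPullback f g
      have st := s.paste_horiz t
      obtain ⟨fst', g₁, hg₁, hpb⟩ := lift_sq f ((g ⁻¹ᵁ W).ι ≫ g) W (by
        rintro _ ⟨y, rfl⟩
        exact y.2) st
      have : Flat g₁ := flat_of_comp g₁ W.ι (by rw [hg₁]; infer_instance)
      have : LocallyOfFinitePresentation g₁ := lfp_of_comp g₁ W.ι (by rw [hg₁]; infer_instance)
      exact bc P hpb hW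

end Aux

/-- Case τ = fppf: let P be a property of morphisms of schemes which is fppf local on the base and f : X
⟶ Y a morphism. There is a largest open W of Y such that the restriction of f over W has P;
moreover, first, if g : Y' ⟶ Y is flat and locally of finite presentation and the base change of f
to Y' has P, then the image of g lies in W; and second, for such g the largest open of Y' over which
the base change of f has P is exactly g⁻¹(W). -/
theorem result (P : MorphismProperty Scheme.{u})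
    [MorphismProperty.IsLocalAtTarget P Scheme.fppfPrecoverage] {X Y : Scheme.{u}} (f : X ⟶ Y) :
    ∃ W : Y.Opens, P (f ∣_ W) ∧ (∀ W₀ : Y.Opens, P (f ∣_ W₀) → W₀ ≤ W) ∧
      (∀ (Y' : Scheme.{u}) (g : Y' ⟶ Y), Flat g → LocallyOfFinitePresentation g →
        P (pullback.snd f g) → Set.range g.base ⊆ (W : Set Y)) ∧
      (∀ (Y' : Scheme.{u}) (g : Y' ⟶ Y), Flat g → LocallyOfFinitePresentation g →
        ∀ W' : Y'.Opens, P (pullback.snd f g ∣_ W') → (∀ W₀ : Y'.Opens, P (pullback.snd f g ∣_ W₀) → W₀ ≤ W') →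
          W' = g ⁻¹ᵁ W) := by
  exact Aux.main P f

end Groth.Agent.S9859
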