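import Groth.Statements.S9860
import Mathlib
-- import your own Groth.Agent.* helpers here

set_option autoImplicit false
open CategoryTheory CategoryTheory.Limits AlgebraicGeometry Opposite
universe u
open Desc

namespace Groth.Agent.S9860

open CategoryTheory CategoryTheory.Limits AlgebraicGeometry Opposite
namespace Aux
universe w

section abs
variable {C : Type*} [Category C] (J : GrothendieckTopology C) {P : Cᵒᵖ ⥤ Type w}
  (B : C → Prop)

/-- the presieve of all maps from `B`-objects -/
def R₀ (Y : C) : Presieve Y := fun Z _ => B Z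

theorem x_congr {Y : C} {S : Presieve Y} (x : Presieve.FamilyOfElements P S) {V : C}
    {f g : V ⟶ Y} (h : f = g) (hf : S f) (hg : S g) : x f hf = x g hg := by
  subst h; rfl

theorem isSheafFor_of_basis (hP : Presieve.IsSheaf J P)
    (hB : ∀ Y : C, Sieve.generate (R₀ B Y) ∈ J Y) {Y : C} (S : Sieve Y)
    (h : ∀ (Z : C) (v : Z ⟶ Y), B Z → Presieve.IsSheafFor P (S.pullback v).arrows) :
    Presieve.IsSheafFor P S.arrows := by
  have hsh : ∀ V : C, Presieve.IsSheafFor P (R₀ B V) := fun V =>
    (Presieve.isSheafFor_iff_generate _).mpr (hP _ (hB V))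
  have hsep : ∀ V : C, Presieve.IsSeparatedFor P (R₀ B V) := fun V => (hsh V).isSeparatedFor
  intro x hx
  have hxs := hx.to_sieveCompatible
  -- local amalgamations
  let y : Presieve.FamilyOfElements P (R₀ B Y) := fun Z v hv =>
    (h Z v hv).amalgamate (x.pullback v) (hx.pullback v)
  have hy_spec : ∀ {Z : C} (v : Z ⟶ Y) (hv : B Z) {V : C} (t : V ⟶ Z) (ht : S (t ≫ v)),
      P.map t.op (y v hv) = x (t ≫ v) ht := fun v hv V t ht =>
    (h _ v hv).valid_glue (hx.pullback v) t ht
  have y_congr : ∀ {Z : C} {v v' : Z ⟶ Y} (hvv : v = v') (hv : B Z), y v hv = y v' hv := by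
    intro Z v v' hvv hv; subst hvv; rfl
  -- restriction property
  have hy_res : ∀ {Z Z' : C} (v : Z ⟶ Y) (hv : B Z) (u : Z' ⟶ Z) (hZ' : B Z'),
      P.map u.op (y v hv) = y (u ≫ v) hZ' := by
    intro Z Z' v hv u hZ'
    apply (h Z' (u ≫ v) hZ').isSeparatedFor.ext
    intro V t ht
    rw [hy_spec (u ≫ v) hZ' t ht, ← Functor.map_comp_apply, ← op_comp,
      hy_spec v hv (t ≫ u) (by simpa using ht)]
    exact x_congr x (by simp) _ _
  have hy : y.Compatible := by
    intro Z Z' Y' a a' v v' hv hv' comm
    apply (hsep Y').ext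
    intro Z'' w hw
    rw [← Functor.map_comp_apply, ← op_comp, ← Functor.map_comp_apply, ← op_comp,
      hy_res v hv (w ≫ a) hw, hy_res v' hv' (w ≫ a') hw]
    exact y_congr (by simp [comm]) hw
  refine ⟨(hsh Y).amalgamate y hy, ?_, ?_⟩
  · intro V t ht
    apply (hsep V).ext
    intro Z w hw
    rw [← Functor.map_comp_apply, ← op_comp, (hsh Y).valid_glue hy (w ≫ t) hw]
    have h1 := hy_spec (w ≫ t) hw (𝟙 Z) (by simpa using S.downward_closed ht w)
    rw [op_id, Functor.map_id_apply] at h1
    rw [h1, ← hxs t w ht]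
    exact x_congr x (by simp) _ _
  · intro z' hz'
    apply (hsep Y).ext
    intro Z v hv
    rw [(hsh Y).valid_glue hy v hv]
    apply (h Z v hv).isSeparatedFor.ext
    intro V t ht
    rw [hy_spec v hv t ht, ← Functor.map_comp_apply, ← op_comp]
    exact hz' (t ≫ v) ht
end abs

theorem main {ι : Type u} {X : Scheme.{u}} {Xi : ι → Scheme.{u}} (f : ∀ i, Xi i ⟶ X)
    (h : ∀ (Y : Scheme.{u}) (g : Y ⟶ X), IsAffine Y →
      ((Sieve.ofArrows Xi f).pullback g).EffectiveEpimorphic)
    {Y : Scheme.{u}} (g : Y ⟶ X) : ((Sieve.ofArrows Xi f).pullback g).EffectiveEpimorphic := by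
  rw [Sieve.EffectiveEpimorphic.iff_forall_isSheafFor_yoneda]
  intro W
  apply isSheafFor_of_basis Scheme.zariskiTopology (fun Z : Scheme.{u} => IsAffine Z)
    (GrothendieckTopology.Subcanonical.isSheaf_of_isRepresentable _)
  · intro V
    apply Scheme.zariskiTopology.superset_covering _ V.affineCover.mem_grothendieckTopology
    rw [Sieve.ofArrows, Sieve.generate_le_iff]
    rintro _ _ ⟨j⟩
    exact ⟨_, 𝟙 _, V.affineCover.f j, (inferInstance : IsAffine (V.affineCover.X j)), by simp⟩
  · intro Z v hZ
    rw [← Sieve.pullback_comp]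
    exact (Sieve.EffectiveEpimorphic.iff_forall_isSheafFor_yoneda _).mp (h Z (v ≫ g) hZ) W

end Aux

/-- Consider morphisms of schemes f i : X i ⟶ X indexed by i. Suppose that, whenever Y is an affine
scheme and g : Y ⟶ X is a morphism, the sieve on Y obtained by pulling back along g (generated by
the base changes X i ×_X Y ⟶ Y) is effective epimorphic. Then the pulled-back sieve along every
morphism Y ⟶ X of schemes is effective epimorphic; in other words, within schemes the family forms a
universal effective epimorphism. -/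
theorem result {ι : Type u} {X : Scheme.{u}} {Xi : ι → Scheme.{u}} (f : ∀ i, Xi i ⟶ X)
    (h : ∀ (Y : Scheme.{u}) (g : Y ⟶ X), IsAffine Y → ((Sieve.ofArrows Xi f).pullback g).EffectiveEpimorphic)
    {Y : Scheme.{u}} (g : Y ⟶ X) : ((Sieve.ofArrows Xi f).pullback g).EffectiveEpimorphic := by
  exact Aux.main f h g

end Groth.Agent.S9860
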