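import Groth.Statements.S9879
import Mathlib
import Groth.Agent.Lib.Helper2.AlgSp.Coprod

open CategoryTheory CategoryTheory.Limits AlgebraicGeometry Opposite AlgSp
open Groth.Agent.Helper2.AlgSpBasic Groth.Agent.Helper2.Coprod

set_option autoImplicit false
universe u
open CategoryTheory CategoryTheory.Limits AlgebraicGeometry
open AlgSp

namespace Groth.Agent.S9879

/-- Let `U` be a scheme over `S` and `F_i` a family of fppf sheaves of sets over `S` whose coproduct in
sheaves is isomorphic to `h_U`. Then each `F_i` is representable by a scheme `V_i` over `S` such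
that `V_i ⟶ U` (the morphism inducing `h_{V_i} ≅ F_i ⟶ ∐ F_i ≅ h_U`) is an open and closed
immersion, and `U` is the coproduct of the `V_i` in schemes. -/
theorem result (S : Scheme.{u}) (U : Over S) {ι : Type u}
    (F : ι → AlgSp.Sp S) (c : Cofan F) (hc : IsColimit c) (e : c.pt ≅ (AlgSp.yon S).obj U) :
    ∃ (V : ι → Over S) (g : ∀ i, V i ⟶ U) (ei : ∀ i, (AlgSp.yon S).obj (V i) ≅ F i),
      (∀ i, IsOpenImmersion (g i).left ∧ IsClosedImmersion (g i).left) ∧
      (∀ i, (ei i).hom ≫ c.inj i ≫ e.hom = (AlgSp.yon S).map (g i)) ∧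
      Nonempty (IsColimit (Cofan.mk U.left (fun i => (g i).left))) := by
  classical
  choose O a sq hcl using fun i => exists_rep_inj c hc i e.inv
  haveI : ∀ i, IsIso (a i) := fun i => (sq i).isIso_fst_of_isIso
  refine ⟨fun i => opensOver (O i), fun i => opensOverι (O i), fun i => asIso (a i),
    fun i => ⟨?_, ?_⟩, fun i => ?_, ?_⟩
  · exact inferInstanceAs (IsOpenImmersion (O i).ι)
  · show IsClosedImmersion (O i).ι
    exact IsClosedImmersion.of_isPreimmersion _ (by rw [Scheme.Opens.range_ι]; exact hcl i)
  · show a i ≫ c.inj i ≫ e.hom = _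
    rw [← Category.assoc, (sq i).w, Category.assoc, e.inv_hom_id, Category.comp_id]
  · haveI : ∀ i, IsOpenImmersion ((fun i => (O i).ι) i) := fun i => inferInstance
    refine nonempty_isColimit_cofanMk_of (fun i => (O i).ι) ?_ ?_
    · rw [eq_top_iff]
      intro t _
      obtain ⟨i, hi⟩ := exists_mem_of_isPullback_inj c hc e.inv O a sq t
      simp only [Scheme.Opens.opensRange_ι]
      exact TopologicalSpace.Opens.mem_iSup.mpr ⟨i, hi⟩
    · intro i j hij
      simp only [Function.onFun, Scheme.Opens.opensRange_ι]
      rw [disjoint_iff]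
      ext t
      simp only [TopologicalSpace.Opens.coe_inf, Set.mem_inter_iff, SetLike.mem_coe,
        TopologicalSpace.Opens.coe_bot, Set.mem_empty_iff_false, iff_false, not_and]
      intro ht ht'
      exact disjoint_of_isPullback_inj c hc hij (sq i) (sq j) t ht ht'

end Groth.Agent.S9879
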