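import Groth.Statements.S9902
import Mathlib
import Groth.Agent.Lib.Helper2.AlgSp.Mor

set_option autoImplicit false
universe u
open CategoryTheory CategoryTheory.Limits AlgebraicGeometry
open AlgSp

namespace Groth.Agent.S9902

/-- Let s be a section of a morphism f : X -> T of algebraic spaces. Then s is representable by schemes
and, in the representable sense, a separated monomorphism that is locally of finite type and locally
quasi-finite; when f is separated s is a closed immersion, and when f is quasi-separated s is
quasi-compact. (The published lemma also shows that s is an immersion when f is locally separated;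
this row omits that clause.) -/
theorem result {S : Scheme.{u}} {X T : AlgSp.Space S} (f : X ⟶ T) (s : T ⟶ X)
    (hs : s ≫ f = 𝟙 T) :
    AlgSp.Representable s.hom ∧
    AlgSp.RepWith @LocallyOfFiniteType s.hom ∧
    AlgSp.RepWith (@LocallyQuasiFinite ⊓ @LocallyOfFiniteType) s.hom ∧
    AlgSp.RepWith @IsSeparated s.hom ∧
    AlgSp.RepWith (MorphismProperty.monomorphisms Scheme.{u}) s.hom ∧
    (AlgSp.IsSeparatedMor f.hom → AlgSp.RepWith @IsClosedImmersion s.hom) ∧
    (AlgSp.IsQuasiSeparatedMor f.hom → AlgSp.RepWith @QuasiCompact s.hom) := by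
  have hs' : s.hom ≫ f.hom = 𝟙 T.obj := by
    have := congrArg (fun k => k.hom) hs
    exact this
  obtain ⟨h0, h1, h2, h3, h4⟩ := Groth.Agent.Helper2.AlgSpBasic.repWith_diagonal_properties X.property f.hom
  exact ⟨Groth.Agent.Helper2.AlgSpBasic.representable_section _ _ hs' h0, Groth.Agent.Helper2.AlgSpBasic.repWith_section_of_repWith_diagonal _ _ _ hs' h1,
    Groth.Agent.Helper2.AlgSpBasic.repWith_section_of_repWith_diagonal _ _ _ hs' h4,
    Groth.Agent.Helper2.AlgSpBasic.repWith_section_of_repWith_diagonal _ _ _ hs' h3,
    Groth.Agent.Helper2.AlgSpBasic.repWith_section_of_repWith_diagonal _ _ _ hs' h2,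
    fun hs => Groth.Agent.Helper2.AlgSpBasic.repWith_section_of_repWith_diagonal _ _ _ hs' hs,
    fun hq => Groth.Agent.Helper2.AlgSpBasic.repWith_section_of_repWith_diagonal _ _ _ hs' hq⟩

end Groth.Agent.S9902
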