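import Groth.Statements.S9911
import Mathlib
import Groth.Agent.Lib.Helper2.AlgSp.Mor2

set_option autoImplicit false
universe u
open CategoryTheory CategoryTheory.Limits AlgebraicGeometry
open AlgSp

namespace Groth.Agent.S9911

/-- A morphism from an algebraic space to the spectrum of a field is universally open. -/
theorem result {S : Scheme.{u}} (X : AlgSp.Space S) {k : Type u} [Field k]
    (str : Spec (CommRingCat.of k) ⟶ S) (p : X ⟶ (AlgSp.ofScheme S).obj (Over.mk str)) :
    AlgSp.IsUnivOpenMor p.hom := by
  exact Groth.Agent.Helper2.AlgSpBasic.isUnivOpenMor_to_field X.property str p.hom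

end Groth.Agent.S9911
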