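import Groth.Statements.S9916
import Mathlib
import Groth.Agent.Lib.Helper2.AlgSp.QC

set_option autoImplicit false
universe u
open CategoryTheory CategoryTheory.Limits AlgebraicGeometry
open AlgSp

namespace Groth.Agent.S9916

/-- Quasi-compactness of a morphism of algebraic spaces descends along a universally open surjective
base change. -/
theorem result {S : Scheme.{u}} {X Y Y' X' : AlgSp.Space S}
    (f : X ⟶ Y) (g : Y' ⟶ Y) (fst : X' ⟶ X) (f' : X' ⟶ Y') (sq : IsPullback fst.hom f'.hom f.hom g.hom)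
    (hg : AlgSp.IsUnivOpenMor g.hom) (hgs : AlgSp.IsSurjectiveMor g.hom) (hf' : AlgSp.IsQuasiCompactMor f'.hom) :
    AlgSp.IsQuasiCompactMor f.hom := by
  refine Groth.Agent.Helper2.AlgSpBasic.isQuasiCompactMor_of_open_surjective_base_change X.property Y.property Y'.property
    f.hom g.hom fst.hom f'.hom sq ?_ hf'
  intro Z W hZ h π₁ π₂ sqW
  exact ⟨hg hZ h π₂ π₁ sqW.flip,
    Groth.Agent.Helper2.AlgSpBasic.isSurjectiveMor_of_isPullback g.hom h π₂ π₁ sqW.flip hgs⟩

end Groth.Agent.S9916
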