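import Groth.Statements.S9917
import Mathlib
import Groth.Agent.Lib.Helper2.AlgSp.QC

set_option autoImplicit false
universe u
open CategoryTheory CategoryTheory.Limits AlgebraicGeometry
open AlgSp

namespace Groth.Agent.S9917

/-- (1) ⇔ (3): a morphism of algebraic spaces is quasi-compact if and only if its base change to every
affine scheme over the target is a quasi-compact algebraic space. -/
theorem result {S : Scheme.{u}} {X Y : AlgSp.Space S} (f : X ⟶ Y) :
    AlgSp.IsQuasiCompactMor f.hom ↔
      ∀ (Z : Over S), IsAffine Z.left → ∀ (g : (AlgSp.yon S).obj Z ⟶ Y.obj) (P : AlgSp.Sp S)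
        (fst : P ⟶ X.obj) (snd : P ⟶ (AlgSp.yon S).obj Z), IsPullback fst snd f.hom g →
        AlgSp.IsQuasiCompactSp P := by
  constructor
  · intro h Z hZ g P fst snd sq
    refine h (AlgSp.IsAlgSpace.yon_obj Z) ?_ g fst snd sq
    exact ⟨Z, 𝟙 _, AlgSp.repWith_id _ Z, AlgSp.repWith_id _ Z, inferInstance⟩
  · intro h
    exact Groth.Agent.Helper2.AlgSpBasic.isQuasiCompactMor_of_affine X.property Y.property.diag f.hom h

end Groth.Agent.S9917
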