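import Groth.Statements.S9918
import Mathlib
import Groth.Agent.Lib.Helper2.AlgSp.QC

set_option autoImplicit false
universe u
open CategoryTheory CategoryTheory.Limits AlgebraicGeometry
open AlgSp

namespace Groth.Agent.S9918

/-- (5) ⇒ (1): quasi-compactness of a morphism of algebraic spaces descends along a surjective etale
base change of algebraic spaces. -/
theorem result {S : Scheme.{u}} {X Y Y' X' : AlgSp.Space S}
    (f : X ⟶ Y) (g : Y' ⟶ Y) (fst : X' ⟶ X) (f' : X' ⟶ Y') (sq : IsPullback fst.hom f'.hom f.hom g.hom)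
    (hg : AlgSp.IsEtaleMor g.hom) (hgs : AlgSp.IsSurjectiveMor g.hom) (hf' : AlgSp.IsQuasiCompactMor f'.hom) :
    AlgSp.IsQuasiCompactMor f.hom := by
  refine Groth.Agent.Helper2.AlgSpBasic.isQuasiCompactMor_of_open_surjective_base_change X.property Y.property Y'.property
    f.hom g.hom fst.hom f'.hom sq ?_ hf'
  intro Z W hZ h π₁ π₂ sqW
  have hW : AlgSp.IsAlgSpace W :=
    Groth.Agent.Helper2.AlgSpBasic.isAlgSpace_of_isPullback Y.property.diag hZ Y'.property h g.hom π₁ π₂ sqW
  refine ⟨?_, Groth.Agent.Helper2.AlgSpBasic.isSurjectiveMor_of_isPullback g.hom h π₂ π₁ sqW.flip hgs⟩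
  have h1 : AlgSp.LocP @Etale g.hom := Groth.Agent.Helper2.AlgSpBasic.locP_etale_of_isEtaleMor Y.property.diag g.hom hg
  have h2 : AlgSp.LocP @Etale π₁ :=
    Groth.Agent.Helper2.AlgSpBasic.locP_of_isPullback @Etale Y'.property Y.property hZ hW g.hom h π₂ π₁ sqW.flip h1
  exact Groth.Agent.Helper2.AlgSpBasic.isOpenMap_points_of_isEtaleMor hW π₁ (Groth.Agent.Helper2.AlgSpBasic.isEtaleMor_of_locP_etale hW hZ π₁ h2)

end Groth.Agent.S9918
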