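import Groth.Statements.S9925
import Mathlib
import Groth.Agent.Lib.Helper2.AlgSp.UnivClosedQC

open CategoryTheory CategoryTheory.Limits AlgebraicGeometry Opposite AlgSp
open Groth.Agent.Helper2.AlgSpBasic

set_option autoImplicit false
universe u
open CategoryTheory CategoryTheory.Limits AlgebraicGeometry
open AlgSp

namespace Groth.Agent.S9925

/-- A universally closed morphism of algebraic spaces is quasi-compact. -/
theorem result {S : Scheme.{u}} {X Y : AlgSp.Space S} (f : X ⟶ Y)
    (hf : AlgSp.IsUnivClosedMor f.hom) : AlgSp.IsQuasiCompactMor f.hom := by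
  exact isQuasiCompactMor_of_isUnivClosedMor X.property Y.property f.hom hf

end Groth.Agent.S9925
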