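import Groth.Statements.S9929
import Mathlib
import Groth.Agent.Lib.Helper2.AlgSp.MonoField

open Groth.Agent.Helper2.AlgSpBasic

set_option autoImplicit false
universe u
open CategoryTheory CategoryTheory.Limits AlgebraicGeometry
open AlgSp

namespace Groth.Agent.S9929

/-- A monomorphism from an algebraic space to the spectrum of a field is either the empty space or an
isomorphism. -/
theorem result {S : Scheme.{u}} {k : Type u} [Field k] (str : Spec (CommRingCat.of k) ⟶ S)
    (Z : AlgSp.Space S) (f : Z ⟶ (AlgSp.ofScheme S).obj (Over.mk str)) [Mono f.hom] :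
    IsEmpty (AlgSp.Points Z.obj) ∨ IsIso f := by
  let f' : Z.obj ⟶ (AlgSp.yon S).obj (Over.mk str) := f.hom
  haveI : Mono f' := ‹Mono f.hom›
  rcases isEmpty_or_isIso_of_mono_to_field Z.property str f' with h | h
  · exact Or.inl h
  · right
    haveI : IsIso ((ObjectProperty.ι (AlgSp.IsAlgSpace (S := S))).map f) := h
    exact isIso_of_reflects_iso f (ObjectProperty.ι _)

end Groth.Agent.S9929
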