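import Groth.Statements.S9938
import Mathlib
import Groth.Agent.Lib.Helper2.AlgSp.Basic
import Groth.Agent.Lib.Helper2.AlgSp.Points
import Groth.Agent.Lib.Helper2.AlgSp.PointsMor
import Groth.Agent.Lib.Helper2.AlgSp.Mor
import Groth.Agent.Lib.Helper2.AlgSp.MonoField

open Groth.Agent.Helper2.AlgSpBasic

set_option autoImplicit false
universe u
open CategoryTheory CategoryTheory.Limits AlgebraicGeometry
open AlgSp

namespace Groth.Agent.S9938

/-- For a morphism of algebraic spaces, injectivity on field-valued points, universal injectivity, and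
surjectivity of the diagonal are equivalent. -/
theorem result {S : Scheme.{u}} {X Y : AlgSp.Space S} (f : X ⟶ Y) :
    ((∀ (K : Type u) [Field K] (str : Spec (CommRingCat.of K) ⟶ S),
        Function.Injective (fun a : (AlgSp.yon S).obj (Over.mk str) ⟶ X.obj => a ≫ f.hom)) ↔ AlgSp.IsUnivInjectiveMor f.hom) ∧
    (AlgSp.IsUnivInjectiveMor f.hom ↔ AlgSp.IsSurjectiveMor (pullback.diagonal f.hom)) := by
  have hX := X.property
  have hY := Y.property
  have hPP : IsAlgSpace (pullback f.hom f.hom) :=
    isAlgSpace_of_isPullback hY.diag hX hX _ _ _ _ (IsPullback.of_hasPullback _ _)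
  -- base change stability of surjectivity on points
  haveI hsbc : (IsSurjectiveMor (S := S)).IsStableUnderBaseChange :=
    ⟨fun {A B B' C} {p} {q} {p'} {q'} sq hq => isSurjectiveMor_of_isPullback q p p' q' sq hq⟩
  -- L1
  have L1 : IsUnivInjectiveMor f.hom → IsSurjectiveMor (pullback.diagonal f.hom) := by
    intro hinj p
    refine ⟨Points.map (pullback.snd _ _) p, ?_⟩
    apply hinj hX f.hom (pullback.fst _ _) (pullback.snd _ _) (IsPullback.of_hasPullback _ _)
    rw [← Points.map_comp, pullback.diagonal_snd, Points.map_id]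
  -- L2
  have L2 : ∀ {Z' Z : Sp S} (h : Z' ⟶ Z), IsSurjectiveMor (pullback.diagonal h) →
      Function.Injective (Points.map h) := by
    intro Z' Z h hs z₁ z₂ e
    obtain ⟨r, hr1, hr2⟩ := points_exists_of_isPullback h h (pullback.fst h h) (pullback.snd h h)
      (IsPullback.of_hasPullback h h) z₁ z₂ e
    obtain ⟨z, rfl⟩ := hs r
    rw [← Points.map_comp, pullback.diagonal_fst, Points.map_id] at hr1
    rw [← Points.map_comp, pullback.diagonal_snd, Points.map_id] at hr2
    rw [← hr1, ← hr2]
  -- L3
  have L3 : IsSurjectiveMor (pullback.diagonal f.hom) → IsUnivInjectiveMor f.hom := by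
    intro hs Z Z' hZ g fst snd sq
    apply L2
    have : (IsSurjectiveMor (S := S)).diagonal snd :=
      MorphismProperty.of_isPullback (P := (IsSurjectiveMor (S := S)).diagonal) sq hs
    exact this
  -- L4
  have L4 : (∀ (K : Type u) [Field K] (str : Spec (CommRingCat.of K) ⟶ S),
      Function.Injective (fun a : (AlgSp.yon S).obj (Over.mk str) ⟶ X.obj => a ≫ f.hom)) →
      IsUnivInjectiveMor f.hom := by
    intro hA Z Z' hZ g fst snd sq z₁ z₂ e
    induction z₁ using Points.ind with | h p₁ => ?_
    induction z₂ using Points.ind with | h p₂ => ?_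
    rw [Points.map_mk, Points.map_mk, Points.mk_eq_mk_iff] at e
    obtain ⟨Ω, _, w, a, b, hab⟩ := e
    rw [Points.mk_eq_mk_iff]
    refine ⟨Ω, inferInstance, w, a, b, ?_⟩
    let s₁ : (yon S).obj (Over.mk w) ⟶ Z' := (J S).uliftYonedaEquiv.symm (Z'.obj.map a.op p₁.val)
    let s₂ : (yon S).obj (Over.mk w) ⟶ Z' := (J S).uliftYonedaEquiv.symm (Z'.obj.map b.op p₂.val)
    have hsnd : s₁ ≫ snd = s₂ ≫ snd := by
      apply (J S).uliftYonedaEquiv.injective
      rw [GrothendieckTopology.uliftYonedaEquiv_comp, GrothendieckTopology.uliftYonedaEquiv_comp]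
      simp only [s₁, s₂, Equiv.apply_symm_apply]
      have h1 : snd.hom.app _ (Z'.obj.map a.op p₁.val) = Z.obj.map a.op (snd.hom.app _ p₁.val) :=
        NatTrans.naturality_apply snd.hom a.op p₁.val
      have h2 : snd.hom.app _ (Z'.obj.map b.op p₂.val) = Z.obj.map b.op (snd.hom.app _ p₂.val) :=
        NatTrans.naturality_apply snd.hom b.op p₂.val
      rw [h1, h2]
      exact hab
    have hfst : s₁ ≫ fst = s₂ ≫ fst := by
      apply hA Ω w
      change (s₁ ≫ fst) ≫ f.hom = (s₂ ≫ fst) ≫ f.hom
      rw [Category.assoc, Category.assoc, sq.w, ← Category.assoc, ← Category.assoc, hsnd]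
    have hs : s₁ = s₂ := sq.hom_ext hfst hsnd
    have h3 : (J S).uliftYonedaEquiv s₁ = (J S).uliftYonedaEquiv s₂ := by rw [hs]
    rw [Equiv.apply_symm_apply, Equiv.apply_symm_apply] at h3
    exact h3
  -- L5
  have L5 : IsSurjectiveMor (pullback.diagonal f.hom) →
      (∀ (K : Type u) [Field K] (str : Spec (CommRingCat.of K) ⟶ S),
      Function.Injective (fun a : (AlgSp.yon S).obj (Over.mk str) ⟶ X.obj => a ≫ f.hom)) := by
    intro hs K _ str a₁ a₂ e
    change a₁ ≫ f.hom = a₂ ≫ f.hom at e
    let t : (yon S).obj (Over.mk str) ⟶ pullback f.hom f.hom := pullback.lift a₁ a₂ e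
    have sqE := IsPullback.of_hasPullback (pullback.diagonal f.hom) t
    have hE : IsAlgSpace (pullback (pullback.diagonal f.hom) t) :=
      isAlgSpace_of_isPullback hPP.diag hX (IsAlgSpace.yon_obj _) _ _ _ _ sqE
    haveI : Mono (pullback.snd (pullback.diagonal f.hom) t) := inferInstance
    have hsurj : IsSurjectiveMor (pullback.snd (pullback.diagonal f.hom) t) :=
      isSurjectiveMor_of_isPullback _ _ _ _ sqE hs
    rcases isEmpty_or_isIso_of_mono_to_field hE str
      (pullback.snd (pullback.diagonal f.hom) t) with hemp | hiso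
    · exfalso
      obtain ⟨q, -⟩ := hsurj (Points.ofScheme (Over.mk str) (IsLocalRing.closedPoint K))
      exact hemp.false q
    · have ht : t = inv (pullback.snd (pullback.diagonal f.hom) t) ≫
          pullback.fst (pullback.diagonal f.hom) t ≫ pullback.diagonal f.hom := by
        rw [pullback.condition, IsIso.inv_hom_id_assoc]
      have h1 : a₁ = t ≫ pullback.fst _ _ := (pullback.lift_fst _ _ _).symm
      have h2 : a₂ = t ≫ pullback.snd _ _ := (pullback.lift_snd _ _ _).symm
      rw [h1, h2, ht]
      simp only [Category.assoc, pullback.diagonal_fst, pullback.diagonal_snd]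
  exact ⟨⟨L4, fun h => L5 (L1 h)⟩, ⟨L1, L3⟩⟩

end Groth.Agent.S9938
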