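import Groth.Statements.S9941
import Mathlib
import Groth.Agent.Lib.Helper2.AlgSp.ZarGlue

open CategoryTheory CategoryTheory.Limits AlgebraicGeometry Opposite AlgSp
open Groth.Agent.Helper2.AlgSpBasic

set_option autoImplicit false
universe u
open CategoryTheory CategoryTheory.Limits AlgebraicGeometry
open AlgSp

namespace Groth.Agent.S9941

/-- (2) ⇒ (1): an affine morphism of algebraic spaces is representable (and representable-affine). -/
theorem result {S : Scheme.{u}} {X Y : AlgSp.Space S} (f : X ⟶ Y)
    (hf : AlgSp.IsAffineMor f.hom) : AlgSp.RepWith @IsAffineHom f.hom := by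
  apply Groth.Agent.Helper2.ZarGlue.repWith_of_affine @IsAffineHom f.hom
  intro Z hZ g
  obtain ⟨W, i, fst, sq, hW⟩ := hf hZ g
  haveI := hZ
  haveI := hW
  exact ⟨W, i, fst, sq, inferInstance⟩

end Groth.Agent.S9941
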