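import Groth.Statements.S9942
import Mathlib
import Groth.Agent.S0082
import Groth.Agent.Lib.Helper2.AlgSp.AffLocal

open CategoryTheory CategoryTheory.Limits AlgebraicGeometry Opposite AlgSp
open Groth.Agent.Helper2.AlgSpBasic Groth.Agent.Helper2.AffLocal

set_option autoImplicit false
universe u
open CategoryTheory CategoryTheory.Limits AlgebraicGeometry
open AlgSp

namespace Groth.Agent.S9942

/-- (3) ⇒ (2): if X x_Y V is an affine scheme for every affine scheme V etale over Y, then f : X -> Y is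
affine. -/
theorem result {S : Scheme.{u}} {X Y : AlgSp.Space S} (f : X ⟶ Y)
    (h : ∀ (V : Over S), IsAffine V.left → ∀ (b : (AlgSp.yon S).obj V ⟶ Y.obj), AlgSp.RepWith @Etale b →
      ∀ (P : AlgSp.Sp S) (fst : P ⟶ X.obj) (snd : P ⟶ (AlgSp.yon S).obj V), IsPullback fst snd f.hom b →
      ∃ (W : Over S), IsAffine W.left ∧ Nonempty ((AlgSp.yon S).obj W ≅ P)) :
    AlgSp.IsAffineMor f.hom := by
  haveI : MorphismProperty.DescendsAlong (@IsAffineHom : MorphismProperty Scheme.{u})
      (@Surjective ⊓ @Flat ⊓ @QuasiCompact : MorphismProperty Scheme.{u}) :=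
    Groth.Agent.S0082.result
  have key : IsAffQMor @IsAffineHom f.hom := by
    apply isAffQMor_of_etale_affine_charts @IsAffineHom le_rfl Y.property f.hom
    intro V hV b hb
    obtain ⟨W, hW, ⟨e⟩⟩ := h V hV b hb _ _ _ (IsPullback.of_hasPullback f.hom b)
    obtain ⟨w, hw⟩ := (yon S).map_surjective (e.hom ≫ pullback.snd f.hom b)
    refine ⟨W, w, e.hom ≫ pullback.fst f.hom b, ?_, ?_⟩
    · rw [hw]
      refine (IsPullback.of_hasPullback f.hom b).of_iso e.symm (Iso.refl _) (Iso.refl _)
        (Iso.refl _) ?_ ?_ ?_ ?_ <;> simp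
    · haveI := hV
      haveI := hW
      infer_instance
  intro Z hZ g
  obtain ⟨W, i, fst, sq, hW, -⟩ := key hZ g
  exact ⟨W, i, fst, sq, hW⟩

end Groth.Agent.S9942
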