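import Groth.Statements.S9944
import Mathlib
import Groth.Agent.Lib.Helper2.AlgSp.UnivInj

open CategoryTheory CategoryTheory.Limits AlgebraicGeometry Opposite AlgSp
open Groth.Agent.Helper2.AlgSpBasic

set_option autoImplicit false
universe u
open CategoryTheory CategoryTheory.Limits AlgebraicGeometry
open AlgSp

namespace Groth.Agent.S9944

/-- Let g : X -> Y be a morphism over a base algebraic space B with X affine over B. Then g is affine as
soon as the diagonal of Y over B is affine, and in particular as soon as Y is B-separated. (The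
published lemma also has two versions with the absolute diagonal of Y; this row states the versions
over B.) -/
theorem result {S : Scheme.{u}} {X Y B : AlgSp.Space S} (g : X ⟶ Y) (p : X ⟶ B)
    (q : Y ⟶ B) (comm : g ≫ q = p) (hp : AlgSp.IsAffineMor p.hom) :
    (AlgSp.IsAffineMor (pullback.diagonal q.hom) → AlgSp.IsAffineMor g.hom) ∧
    (AlgSp.IsSeparatedMor q.hom → AlgSp.IsAffineMor g.hom) := by
  have key : IsAffQMor (⊤ : MorphismProperty Scheme.{u}) (pullback.diagonal q.hom) →
      IsAffQMor (⊤ : MorphismProperty Scheme.{u}) g.hom := by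
    intro hΔ
    have hcomm : g.hom ≫ q.hom = p.hom := by rw [← comm]; rfl
    have sq := IsPullback.of_hasPullback (g.hom ≫ q.hom) q.hom
    have h1 : IsAffQMor (⊤ : MorphismProperty Scheme.{u}) (pullback.snd (g.hom ≫ q.hom) q.hom) :=
      isAffQMor_of_isPullback _ sq (by rw [hcomm]; exact (isAffineMor_iff_isAffQMor _).1 hp)
    have sqΓ := pullback_lift_diagonal_isPullback g.hom q.hom
    have h2 : IsAffQMor (⊤ : MorphismProperty Scheme.{u})
        (pullback.lift (𝟙 X.obj) g.hom (by simp) : X.obj ⟶ pullback (g.hom ≫ q.hom) q.hom) :=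
      isAffQMor_of_isPullback _ sqΓ hΔ
    have h3 := isAffQMor_comp (⊤ : MorphismProperty Scheme.{u}) h2 h1
    rwa [pullback.lift_snd] at h3
  refine ⟨fun h => (isAffineMor_iff_isAffQMor _).2 (key ((isAffineMor_iff_isAffQMor _).1 h)),
    fun h => (isAffineMor_iff_isAffQMor _).2 (key ?_)⟩
  exact isAffQMor_of_repWith_isClosedImmersion _ (fun _ _ => trivial) h

end Groth.Agent.S9944
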