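import Groth.Statements.S9954
import Mathlib
import Groth.Agent.Lib.Helper2.AlgSp.GeomPoint
import Groth.Agent.Lib.Helper2.AlgSp.LocP
import Groth.Agent.Lib.Helper2.AlgSp.PointsMor

open CategoryTheory CategoryTheory.Limits AlgebraicGeometry Opposite AlgSp Topology Groth.Agent.Helper2.AlgSpBasic

set_option autoImplicit false
universe u
open CategoryTheory CategoryTheory.Limits AlgebraicGeometry
open AlgSp

namespace Groth.Agent.S9954

/-- A morphism locally of finite type is surjective if and only if it is surjective on k-valued points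
for every algebraically closed field k over the base. -/
theorem result {S : Scheme.{u}} {X Y : AlgSp.Space S} (f : X ⟶ Y)
    (hf : AlgSp.LocP @LocallyOfFiniteType f.hom) :
    AlgSp.IsSurjectiveMor f.hom ↔
      ∀ (k : Type u) [Field k] [IsAlgClosed k] (str : Spec (CommRingCat.of k) ⟶ S)
        (y : (AlgSp.yon S).obj (Over.mk str) ⟶ Y.obj),
        ∃ x : (AlgSp.yon S).obj (Over.mk str) ⟶ X.obj, x ≫ f.hom = y := by
  constructor
  · intro hs k _ _ str y
    have sq := IsPullback.of_hasPullback f.hom y
    have hP : IsAlgSpace (pullback f.hom y) :=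
      isAlgSpace_of_isPullback Y.property.diag X.property (IsAlgSpace.yon_obj _) f.hom y _ _ sq
    have hsnd : LocP @LocallyOfFiniteType (pullback.snd f.hom y) :=
      locP_of_isPullback _ X.property Y.property (IsAlgSpace.yon_obj _) hP f.hom y _ _ sq hf
    have hsurj : IsSurjectiveMor (pullback.snd f.hom y) :=
      isSurjectiveMor_of_isPullback f.hom y _ _ sq hs
    obtain ⟨W, c, hcE, hcS⟩ := hP.atlas
    obtain ⟨p, hp⟩ := hsurj (Points.ofScheme _ (IsLocalRing.closedPoint k))
    obtain ⟨w, hw⟩ := surjective_ofPt c hcS p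
    obtain ⟨h, hh⟩ := (yon S).map_surjective (c ≫ pullback.snd f.hom y)
    have hlft : LocallyOfFiniteType h.left :=
      hsnd c (𝟙 _) h hcE (repWith_id _ _) (by rw [hh, Category.comp_id])
    haveI : Nonempty W.left := ⟨w⟩
    obtain ⟨s, hs⟩ := exists_section_of_lft_algClosed h.left
    have hsw : s ≫ W.hom = (Over.mk str).hom := by
      rw [← Over.w h, ← Category.assoc, hs, Category.id_comp]
    let sO : Over.mk str ⟶ W := Over.homMk s hsw
    have hsO : sO ≫ h = 𝟙 _ := by
      apply Over.OverMorphism.ext
      exact hs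
    refine ⟨(yon S).map sO ≫ c ≫ pullback.fst f.hom y, ?_⟩
    rw [Category.assoc, Category.assoc, pullback.condition, ← Category.assoc c, ← hh,
      ← Category.assoc, ← Functor.map_comp, hsO, CategoryTheory.Functor.map_id, Category.id_comp]
  · intro H y₀
    induction y₀ using Points.ind with | h q => ?_
    let i : Spec (CommRingCat.of (AlgebraicClosure q.K)) ⟶ Spec (CommRingCat.of q.K) :=
      Spec.map (CommRingCat.ofHom (algebraMap q.K (AlgebraicClosure q.K)))
    let iO : Over.mk (i ≫ q.str) ⟶ q.pt := Over.homMk i rfl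
    obtain ⟨x, hx⟩ := H (AlgebraicClosure q.K) (i ≫ q.str) ((yon S).map iO ≫ q.toHom)
    refine ⟨Points.ofPt x (IsLocalRing.closedPoint _), ?_⟩
    rw [Points.map_ofPt, hx, ofPt_yon_map_comp, Points.ofPt_toHom]

end Groth.Agent.S9954
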