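import Groth.Statements.S9958
import Mathlib
import Groth.Agent.Lib.Helper2.AlgSp.LocP

set_option autoImplicit false
universe u
open CategoryTheory CategoryTheory.Limits AlgebraicGeometry
open AlgSp

namespace Groth.Agent.S9958

/-- Over a locally Noetherian algebraic space, locally of finite type implies locally of finite
presentation. -/
theorem result {S : Scheme.{u}} {X Y : AlgSp.Space S} (f : X ⟶ Y)
    (hY : AlgSp.IsLocNoethSp Y.obj) (hf : AlgSp.LocP @LocallyOfFiniteType f.hom) :
    AlgSp.LocP @LocallyOfFinitePresentation f.hom := by
  obtain ⟨V, b, hbe, hbs, hV⟩ := hY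
  obtain ⟨U, a, h, hae, has, hah⟩ := Groth.Agent.Helper2.AlgSpBasic.exists_chart_lift X.property f.hom b hbe hbs
  have h1 : LocallyOfFiniteType h.left := hf a b h hae hbe hah
  have : IsLocallyNoetherian V.left := hV
  refine Groth.Agent.Helper2.AlgSpBasic.locP_of_one_chart @LocallyOfFinitePresentation X.property.diag Y.property.diag
    f.hom a b h hae has hbe hah ?_
  exact (inferInstance : LocallyOfFinitePresentation h.left)

end Groth.Agent.S9958
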