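import Groth.Statements.S9960
import Mathlib
import Groth.Agent.Lib.Helper2.AlgSp.Mor2

set_option autoImplicit false
universe u
open CategoryTheory CategoryTheory.Limits AlgebraicGeometry
open AlgSp

namespace Groth.Agent.S9960

/-- The diagonal of a morphism locally of finite type is locally of finite presentation, and of finite
presentation when the morphism is also quasi-separated. -/
theorem result {S : Scheme.{u}} {X Y : AlgSp.Space S} (f : X ⟶ Y)
    (hf : AlgSp.LocP @LocallyOfFiniteType f.hom) :
    AlgSp.LocP @LocallyOfFinitePresentation (pullback.diagonal f.hom) ∧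
    (AlgSp.IsQuasiSeparatedMor f.hom → AlgSp.IsFinitePresentationMor (pullback.diagonal f.hom)) := by
  exact ⟨Groth.Agent.Helper2.AlgSpBasic.locP_lfp_diagonal_of_locP_lft X.property Y.property f.hom hf,
    fun hq => Groth.Agent.Helper2.AlgSpBasic.isFinitePresentationMor_diagonal X.property Y.property f.hom hf hq⟩

end Groth.Agent.S9960
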