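import Groth.Statements.S9963
import Mathlib
import Groth.Agent.Lib.Helper2.AlgSp.Mor2

set_option autoImplicit false
universe u
open CategoryTheory CategoryTheory.Limits AlgebraicGeometry
open AlgSp

namespace Groth.Agent.S9963

/-- A morphism of algebraic spaces that is flat, quasi-compact and surjective is submersive, and
universally submersive. -/
theorem result {S : Scheme.{u}} {X Y : AlgSp.Space S} (f : X ⟶ Y)
    (hfl : AlgSp.LocP @Flat f.hom) (hqc : AlgSp.IsQuasiCompactMor f.hom) (hs : AlgSp.IsSurjectiveMor f.hom) :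
    AlgSp.IsSubmersiveMor f.hom ∧ AlgSp.IsUnivSubmersiveMor f.hom := by
  have h := Groth.Agent.Helper2.AlgSpBasic.isUnivSubmersiveMor_of_flat_qc_surjective X.property Y.property f.hom hfl hqc hs
  exact ⟨Groth.Agent.Helper2.AlgSpBasic.isSubmersiveMor_of_isUnivSubmersiveMor Y.property f.hom h, h⟩

end Groth.Agent.S9963
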