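import Groth.Statements.S9972
import Mathlib
import Groth.Agent.Lib.Helper2.AlgSp.UnivInj

open CategoryTheory CategoryTheory.Limits AlgebraicGeometry Opposite AlgSp
open Groth.Agent.Helper2.AlgSpBasic

set_option autoImplicit false
universe u
open CategoryTheory CategoryTheory.Limits AlgebraicGeometry
open AlgSp

namespace Groth.Agent.S9972

/-- Two morphisms to an algebraic space separated over B that agree on an open subspace whose scheme
theoretic closure is everything are equal. -/
theorem result {S : Scheme.{u}} {U X Y B : AlgSp.Space S} (q : Y ⟶ B)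
    (hq : AlgSp.IsSeparatedMor q.hom) (f g : X ⟶ Y) (hfg : f ≫ q = g ≫ q) (j : U ⟶ X)
    (hj : AlgSp.RepWith @IsOpenImmersion j.hom) (hcl : AlgSp.IsSchImage j.hom (𝟙 X.obj)) (heq : j ≫ f = j ≫ g) :
    f = g := by
  have hfg' : f.hom ≫ q.hom = g.hom ≫ q.hom := congrArg (fun m => m.hom) hfg
  have heq' : j.hom ≫ f.hom = j.hom ≫ g.hom := congrArg (fun m => m.hom) heq
  let fg : X.obj ⟶ pullback q.hom q.hom := pullback.lift f.hom g.hom hfg'
  have sqE := IsPullback.of_hasPullback (pullback.diagonal q.hom) fg
  have hYY : IsAlgSpace (pullback q.hom q.hom) :=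
    isAlgSpace_of_isPullback B.property.diag Y.property Y.property q.hom q.hom _ _
      (IsPullback.of_hasPullback q.hom q.hom)
  have hE : IsAlgSpace (pullback (pullback.diagonal q.hom) fg) :=
    isAlgSpace_of_isPullback hYY.diag Y.property X.property _ _ _ _ sqE
  have hi : RepWith @IsClosedImmersion (pullback.snd (pullback.diagonal q.hom) fg) :=
    repWith_of_isPullback @IsClosedImmersion sqE hq
  have e1 : pullback.snd (pullback.diagonal q.hom) fg ≫ f.hom =
      pullback.fst (pullback.diagonal q.hom) fg := by
    have := congrArg (· ≫ pullback.fst q.hom q.hom) sqE.w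
    simp only [Category.assoc, pullback.diagonal_fst, Category.comp_id] at this
    rw [this]
    congr 1
    exact (pullback.lift_fst _ _ _).symm
  have e2 : pullback.snd (pullback.diagonal q.hom) fg ≫ g.hom =
      pullback.fst (pullback.diagonal q.hom) fg := by
    have := congrArg (· ≫ pullback.snd q.hom q.hom) sqE.w
    simp only [Category.assoc, pullback.diagonal_snd, Category.comp_id] at this
    rw [this]
    congr 1
    exact (pullback.lift_snd _ _ _).symm
  have hjfac : ∃ f'' : U.obj ⟶ pullback (pullback.diagonal q.hom) fg,
      f'' ≫ pullback.snd (pullback.diagonal q.hom) fg = j.hom := by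
    refine ⟨pullback.lift (j.hom ≫ f.hom) j.hom ?_, pullback.lift_snd _ _ _⟩
    apply pullback.hom_ext
    · rw [Category.assoc, pullback.diagonal_fst, Category.comp_id, Category.assoc,
        pullback.lift_fst]
    · rw [Category.assoc, pullback.diagonal_snd, Category.comp_id, Category.assoc,
        pullback.lift_snd, heq']
  obtain ⟨k, hk⟩ := hcl.2.2 (pullback.snd (pullback.diagonal q.hom) fg) hE hi hjfac
  have hfin : f.hom = g.hom := by
    calc f.hom = (k ≫ pullback.snd (pullback.diagonal q.hom) fg) ≫ f.hom := by
          rw [hk, Category.id_comp]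
      _ = (k ≫ pullback.snd (pullback.diagonal q.hom) fg) ≫ g.hom := by
          rw [Category.assoc, e1, Category.assoc, e2]
      _ = g.hom := by rw [hk, Category.id_comp]
  exact ObjectProperty.hom_ext _ hfin

end Groth.Agent.S9972
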