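import Groth.Statements.S9978
import Groth.Agent.Lib.Helper2.AlgSp.Basic
import Groth.Agent.S0566
import Groth.Agent.S9833


set_option autoImplicit false
universe u
open CategoryTheory CategoryTheory.Limits AlgebraicGeometry
open AlgSp

namespace Groth.Agent.S9978

/-- An algebraic space locally of finite type over a Nagata algebraic space is Nagata. -/
theorem result {S : Scheme.{u}} {X Y : AlgSp.Space S} (f : X ⟶ Y)
    (hf : AlgSp.LocP @LocallyOfFiniteType f.hom)
    (hY : AlgSp.EtaleLocally (fun U => ∀ V : U.Opens, IsAffineOpen V → CAlg.IsNagata ↑Γ(U, V)) Y.obj) :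
    AlgSp.EtaleLocally (fun U => ∀ V : U.Opens, IsAffineOpen V → CAlg.IsNagata ↑Γ(U, V)) X.obj := by
  obtain ⟨V, b, hbe, hbs, hV⟩ := hY
  obtain ⟨U, a, h, hae, has, hah⟩ :=
    Groth.Agent.Helper2.AlgSpBasic.exists_chart_lift X.property f.hom b hbe hbs
  haveI h1 : LocallyOfFiniteType h.left := hf a b h hae hbe hah
  refine ⟨U, a, hae, has, ?_⟩
  -- the index type of the covering
  let ι : Type u := {p : U.left.affineOpens × V.left.affineOpens // p.1.1 ≤ h.left ⁻¹ᵁ p.2.1}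
  have hcov : iSup (fun i : ι => i.1.1.1) = ⊤ := by
    rw [eq_top_iff]
    intro u _
    obtain ⟨V', hV', huV', -⟩ := exists_isAffineOpen_mem_and_subset
      (show h.left u ∈ (⊤ : V.left.Opens) from trivial)
    obtain ⟨W, hW, huW, hWle⟩ := exists_isAffineOpen_mem_and_subset
      (show u ∈ h.left ⁻¹ᵁ V' from huV')
    exact TopologicalSpace.Opens.mem_iSup.mpr ⟨⟨(⟨W, hW⟩, ⟨V', hV'⟩), hWle⟩, huW⟩
  refine Groth.Agent.S9833.result U.left (fun i : ι => i.1.1.1) hcov (fun i => i.1.1.2) ?_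
  intro i
  have hft : (h.left.appLE i.1.2.1 i.1.1.1 i.2).hom.FiniteType :=
    HasRingHomProperty.appLE (P := @LocallyOfFiniteType) h.left inferInstance i.1.2 i.1.1 i.2
  letI : Algebra Γ(V.left, i.1.2.1) Γ(U.left, i.1.1.1) :=
    (h.left.appLE i.1.2.1 i.1.1.1 i.2).hom.toAlgebra
  haveI : Algebra.FiniteType Γ(V.left, i.1.2.1) Γ(U.left, i.1.1.1) := hft
  exact Groth.Agent.S0566.result Γ(V.left, i.1.2.1) (hV i.1.2.1 i.1.2.2) Γ(U.left, i.1.1.1)

end Groth.Agent.S9978
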