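import Groth.Statements.S9989
import Groth.Agent.Lib.Helper2.AlgSp.CutOut


set_option autoImplicit false
universe u
open CategoryTheory CategoryTheory.Limits AlgebraicGeometry Opposite
open AlgSp

namespace Groth.Agent.S9989

/-- For closed subspaces i : Z ⟶ X and i' : Z' ⟶ X of an algebraic space cut out by sheaves of ideals I
and I', one has I ≤ I' exactly when i' factors through i. -/
theorem result {S : Scheme.{u}} {X Z Z' : AlgSp.Space S} (i : Z ⟶ X) (i' : Z' ⟶ X)
    (I I' : AlgSp.IdealEt X.obj) (h : AlgSp.IsCutOutBy I i.hom) (h' : AlgSp.IsCutOutBy I' i'.hom) :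
    I ≤ I' ↔ ∃ k : Z' ⟶ Z, k ≫ i = i' := by
  rw [Groth.Agent.Helper2.CutOut.main89 X.property i.hom i'.hom I I' h h']
  constructor
  · rintro ⟨k, hk⟩
    exact ⟨ObjectProperty.homMk k, ObjectProperty.hom_ext _ hk⟩
  · rintro ⟨k, hk⟩
    exact ⟨k.hom, congrArg (fun f => f.hom) hk⟩
end Groth.Agent.S9989
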