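import Groth.Statements.S9993
import Mathlib
import Groth.Agent.Lib.Helper2.AlgSp.OpenSub
import Groth.Agent.Lib.Helper2.AlgSp.Nbhd
import Groth.Agent.Lib.Helper2.AlgSp.Listed

set_option autoImplicit false
universe u
open CategoryTheory CategoryTheory.Limits AlgebraicGeometry
open AlgSp

namespace Groth.Agent.S9993

/-- A morphism f : X ⟶ Y of algebraic spaces has P at the point x in the neighbourhood sense (some chart
diagram through x whose top arrow has P on an open neighbourhood of the chosen point) if and only if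
some open subspace X' of X through x has its restriction X' ⟶ Y in the class P etale locally on the
source and target. -/
theorem result {S : Scheme.{u}} (P : MorphismProperty Scheme.{u})
    (hP : P = @LocallyOfFiniteType ∨ P = @LocallyOfFinitePresentation ∨ P = @Flat ∨ P = @Smooth ∨ P = @Etale ∨
      (∀ ⦃A B : Scheme.{u}⦄ (g : A ⟶ B), P g ↔ (LocallyQuasiFinite g ∧ LocallyOfFiniteType g)) ∨
      (∀ ⦃A B : Scheme.{u}⦄ (g : A ⟶ B), P g ↔ (LocallyOfFiniteType g ∧ FormallyUnramified g)))
    {X Y : AlgSp.Space S} (f : X ⟶ Y) (x : AlgSp.Points X.obj) :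
    AlgSp.HasAtMor (fun U _ h u => ∃ W : U.Opens, u ∈ W ∧ P (W.ι ≫ h)) f.hom x ↔
      ∃ (X' : AlgSp.Space S) (j : X' ⟶ X), AlgSp.RepWith @IsOpenImmersion j.hom ∧
        x ∈ Set.range (AlgSp.Points.map j.hom) ∧ AlgSp.LocP P (j ≫ f).hom := by
  classical
  haveI : Groth.Agent.Helper2.EtaleLocal.IsEtaleLocalST P :=
    Groth.Agent.Helper2.AlgSpBasic.isEtaleLocalST_of_listed P hP
  haveI : IsZariskiLocalAtSource P :=
    Groth.Agent.Helper2.AlgSpBasic.isZariskiLocalAtSource_of_listed P hP
  constructor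
  · rintro ⟨U, V, a, b, h, u, hae, hbe, hah, hu, W, huW, hW⟩
    have hopen : IsOpen (Points.ofPt a '' (W : Set U.left)) :=
      Groth.Agent.Helper2.AlgSpBasic.isOpenMap_ofPt a hae _ W.2
    let Vs : Set (Points X.obj) := Points.ofPt a '' (W : Set U.left)
    let X'₀ : Sp S := Groth.Agent.Helper2.AlgSpBasic.openSub X.obj Vs
    have hX' : IsAlgSpace X'₀ :=
      Groth.Agent.Helper2.AlgSpBasic.isAlgSpace_openSub X.property hopen
    let j₀ : X'₀ ⟶ X.obj := Groth.Agent.Helper2.AlgSpBasic.openSubι X.obj Vs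
    refine ⟨⟨X'₀, hX'⟩, ObjectProperty.homMk j₀,
      Groth.Agent.Helper2.AlgSpBasic.repWith_isOpenImmersion_openSubι X.obj hopen, ?_, ?_⟩
    · change x ∈ Set.range (Points.map j₀)
      rw [Groth.Agent.Helper2.AlgSpBasic.range_points_map_openSubι]
      exact ⟨u, huW, hu⟩
    · change LocP P (j₀ ≫ f.hom)
      rw [Groth.Agent.Helper2.AlgSpBasic.locP_iff_forall_hasAtMor_nbhd P hX' Y.property]
      intro x'
      -- the chart of the open subspace
      let WO : Over S := Groth.Agent.Helper2.AlgSpBasic.opensOver W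
      let ι : WO ⟶ U := Groth.Agent.Helper2.AlgSpBasic.opensOverι W
      have hmem : ∀ p : Points ((yon S).obj WO), Points.map ((yon S).map ι ≫ a) p ∈ Vs := by
        intro p
        obtain ⟨w, rfl⟩ := (Points.schemeHomeo WO).surjective p
        change Points.map _ (Points.ofScheme _ w) ∈ Vs
        rw [← Points.ofPt_eq_map_ofScheme,
          Groth.Agent.Helper2.AlgSpBasic.ofPt_yon_map_comp]
        exact ⟨ι.left w, w.2, rfl⟩
      let a'' : (yon S).obj WO ⟶ X'₀ :=
        Groth.Agent.Helper2.AlgSpBasic.openSubLift Vs ((yon S).map ι ≫ a) hmem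
      have ha''j : a'' ≫ j₀ = (yon S).map ι ≫ a :=
        Groth.Agent.Helper2.AlgSpBasic.openSubLift_ι Vs _ hmem
      have hιe : RepWith @Etale ((yon S).map ι) := by
        rw [repWith_yon_map_iff]
        exact (inferInstance : Etale W.ι)
      have ha''e : RepWith @Etale a'' :=
        Groth.Agent.Helper2.AlgSpBasic.repWith_lift_of_mono @Etale j₀ _ a'' ha''j
          (Groth.Agent.Helper2.AlgSpBasic.repWith_comp @Etale hιe hae)
      -- the point
      have hx'V : Points.map j₀ x' ∈ Vs :=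
        Groth.Agent.Helper2.AlgSpBasic.points_map_openSubι_mem X.obj Vs x'
      obtain ⟨w, hwW, hw⟩ := hx'V
      have hpt : Points.ofPt a'' (⟨w, hwW⟩ : W) = x' := by
        apply Groth.Agent.Helper2.AlgSpBasic.injective_points_map_of_mono j₀
        rw [Points.map_ofPt, ha''j, Groth.Agent.Helper2.AlgSpBasic.ofPt_yon_map_comp]
        exact hw
      refine ⟨WO, V, a'', b, ι ≫ h, ⟨w, hwW⟩, ha''e, hbe, ?_, hpt, ⊤, trivial, ?_⟩
      · rw [← Category.assoc, ha''j, Category.assoc, hah, Functor.map_comp, Category.assoc]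
      · have : (ι ≫ h).left = W.ι ≫ h.left := rfl
        rw [this]
        exact IsZariskiLocalAtSource.comp hW _
  · rintro ⟨X', j, hj, ⟨x', hx'⟩, hjf⟩
    have hjf' : LocP P (j.hom ≫ f.hom) := hjf
    rw [Groth.Agent.Helper2.AlgSpBasic.locP_iff_forall_hasAtMor_nbhd P X'.property Y.property]
      at hjf'
    obtain ⟨U, V, a', b, h, u, hae, hbe, hah, hu, W, huW, hW⟩ := hjf' x'
    refine ⟨U, V, a' ≫ j.hom, b, h, u, ?_, hbe, ?_, ?_, W, huW, hW⟩
    · exact Groth.Agent.Helper2.AlgSpBasic.repWith_comp @Etale hae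
        (Groth.Agent.Helper2.AlgSpBasic.repWith_isOpenImmersion_le_etale hj)
    · rw [Category.assoc, hah]
    · rw [← Points.map_ofPt, hu, hx']

end Groth.Agent.S9993
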